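import Mathlib
import Groth.Prelude.Def_CohB1
import Groth.Prelude.Def_FlatMod2

/-!
# Helper4: modules of finite type — local generators (concrete form)

* `exists_generatingSections_restrict`: for `M` of finite type, every point has an open nbhd `W`
  such that for every open `V ≤ W` the restriction `M|_V` has a finite family of generating sections.
* `isZero_restrict_of_sections_eq_zero`, `exists_sections_eq_zero`,
  `subsingleton_stalk_of_isZero(_restrict)`: vanishing of stalks spreads out.
-/

set_option autoImplicit false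
open CategoryTheory Limits AlgebraicGeometry TopologicalSpace Opposite
universe u

namespace Groth.Agent.Helper4.FTLocal


set_option backward.isDefEq.respectTransparency false in
open Scheme.Modules in
theorem exists_generatingSections_restrict {X : Scheme.{u}} (M : X.Modules)
    (hM : SheafOfModules.IsFiniteType (R := X.ringCatSheaf) M) (x : X) :
    ∃ W : X.Opens, x ∈ W ∧ ∀ (V : X.Opens) (_ : V ≤ W),
      ∃ σ : SheafOfModules.GeneratingSections (R := (V : Scheme.{u}).ringCatSheaf) (M.restrict V.ι),
        σ.IsFiniteType := by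
  obtain ⟨q, hq⟩ := SheafOfModules.IsFiniteType.exists_localGeneratorsData (R := X.ringCatSheaf) M
  have cov := q.coversTop
  rw [Opens.coversTop_iff] at cov
  obtain ⟨i, hi⟩ : ∃ i, x ∈ q.X i := by
    have : x ∈ (⨆ i, q.X i : X.Opens) := by rw [cov.iSup_eq_top]; trivial
    exact Opens.mem_iSup.mp this
  refine ⟨q.X i, hi, fun V hVW => ?_⟩
  let u := X.homOfLE hVW
  have : PreservesColimitsOfSize.{u, u} (restrictFunctor u) := inferInstance
  let F := (overEquiv (q.X i)).functor ⋙ restrictFunctor u
  let iso : SheafOfModules.overFunctor X.ringCatSheaf _ ⋙ F ≅ restrictFunctor V.ι :=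
    (Functor.associator _ _ _).symm ≪≫
      Functor.isoWhiskerRight (Scheme.Modules.overFunctorEquiv _) _ ≪≫
      (restrictFunctorComp _ _).symm ≪≫ (restrictFunctorCongr (by simp [u]))
  have := hq.isFiniteType i
  refine ⟨((q.generators i).map F (Scheme.Modules.restrictUnitIso _).symm).ofEpi (iso.app M).hom, ?_⟩
  infer_instance



set_option backward.isDefEq.respectTransparency false in
open Scheme.Modules in
/-- if all the generating sections vanish over `V`, the restriction to `V` is zero. -/
theorem isZero_restrict_of_sections_eq_zero {Y : Scheme.{u}} (N : Y.Modules)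
    (σ : SheafOfModules.GeneratingSections (R := Y.ringCatSheaf) N) (V : Y.Opens)
    (h : ∀ i, (σ.s i).val (op V) = 0) : IsZero (N.restrict V.ι) := by
  have hπ : Epi σ.π := σ.epi
  have hepi : Epi ((restrictFunctor V.ι).map σ.π) := (restrictFunctor V.ι).map_epi σ.π
  have key : σ.π ≫ (restrictAdjunction V.ι).unit.app N = 0 := by
    change N.freeHomEquiv.symm σ.s ≫ _ = 0
    rw [SheafOfModules.freeHomEquiv_symm_comp]
    apply (SheafOfModules.freeHomEquiv _).injective
    rw [Equiv.apply_symm_apply]
    funext i
    apply PresheafOfModules.sections_ext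
    intro X
    have hR : ((SheafOfModules.freeHomEquiv ((restrictFunctor V.ι ⋙ pushforward V.ι).obj N))
        (0 : SheafOfModules.free σ.I ⟶ _) i).val X = 0 := by
      change (SheafOfModules.unitHomEquiv _ (SheafOfModules.ιFree i ≫ (0 : SheafOfModules.free σ.I ⟶ _))).val X = 0
      rw [comp_zero, SheafOfModules.unitHomEquiv_apply_coe]
      rfl
    rw [hR]
    change N.presheaf.map (homOfLE (V.ι.image_preimage_le X.unop)).op ((σ.s i).val X) = 0
    have hW : V.ι ''ᵁ (V.ι ⁻¹ᵁ X.unop) ≤ V := Scheme.Opens.ι_image_le _ _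
    have h1 := PresheafOfModules.sections_property (σ.s i) (homOfLE (V.ι.image_preimage_le X.unop)).op
    have h2 := PresheafOfModules.sections_property (σ.s i) (homOfLE hW).op
    rw [h i, map_zero] at h2
    rw [← h2] at h1
    exact h1
  have hzero : (restrictFunctor V.ι).map σ.π = 0 := by
    apply ((restrictAdjunction V.ι).homEquiv _ _).injective
    rw [Adjunction.homEquiv_apply, Adjunction.homEquiv_apply]
    have := (restrictAdjunction V.ι).unit.naturality σ.π
    simp only [Functor.id_obj, Functor.id_map, Functor.comp_obj, Functor.comp_map] at this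
    rw [← this, key]
    simp
  exact IsZero.of_epi_eq_zero _ hzero



set_option backward.isDefEq.respectTransparency false in
open Scheme.Modules in
theorem exists_sections_eq_zero {Y : Scheme.{u}} (N : Y.Modules)
    (σ : SheafOfModules.GeneratingSections (R := Y.ringCatSheaf) N) [σ.IsFiniteType] (y : Y)
    (hy : Subsingleton (N.presheaf.stalk y)) :
    ∃ V : Y.Opens, y ∈ V ∧ ∀ i, (σ.s i).val (op V) = 0 := by
  have key : ∀ i, ∃ W : Y.Opens, y ∈ W ∧ (σ.s i).val (op W) = 0 := by
    intro i
    have hg : N.presheaf.germ ⊤ y (by trivial) ((σ.s i).val (op ⊤)) =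
        N.presheaf.germ ⊤ y (by trivial) 0 := Subsingleton.elim _ _
    obtain ⟨W, hyW, iU, iV, e⟩ := TopCat.Presheaf.germ_eq N.presheaf y _ _ _ _ hg
    refine ⟨W, hyW, ?_⟩
    have h1 := PresheafOfModules.sections_property (σ.s i) iU.op
    rw [map_zero] at e
    rw [← h1]
    exact e
  choose W hyW hW using key
  refine ⟨⨅ i, W i, ?_, fun i => ?_⟩
  · rw [← SetLike.mem_coe, Opens.coe_iInf]
    exact Set.mem_iInter.mpr hyW
  · have h1 := PresheafOfModules.sections_property (σ.s i) (homOfLE (iInf_le W i)).op
    rw [← h1, hW i, map_zero]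



set_option backward.isDefEq.respectTransparency false in
open Scheme.Modules in
theorem subsingleton_stalk_of_isZero {Y : Scheme.{u}} (N : Y.Modules) (hN : IsZero N) (y : Y) :
    Subsingleton (N.presheaf.stalk y) := by
  have hs : ∀ (U : Y.Opens) (s : Γ(N, U)), s = 0 := by
    intro U s
    have : (𝟙 N : N ⟶ N) = 0 := hN.eq_of_src _ _
    have h2 := congrArg (fun φ => (Scheme.Modules.Hom.app φ U) s) this
    simpa using h2
  refine ⟨fun a b => ?_⟩
  obtain ⟨U, hU, s, rfl⟩ := TopCat.Presheaf.germ_exist N.presheaf (x := y) a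
  obtain ⟨U', hU', s', rfl⟩ := TopCat.Presheaf.germ_exist N.presheaf (x := y) b
  rw [hs U s, hs U' s', map_zero, map_zero]

set_option backward.isDefEq.respectTransparency false in
open Scheme.Modules in
theorem subsingleton_stalk_of_isZero_restrict {Y : Scheme.{u}} (N : Y.Modules) (V : Y.Opens)
    (hN : IsZero (N.restrict V.ι)) (y : Y) (hy : y ∈ V) :
    Subsingleton (N.presheaf.stalk y) := by
  have h1 := subsingleton_stalk_of_isZero _ hN ⟨y, hy⟩
  let e := (restrictStalkNatIso V.ι ⟨y, hy⟩).app N
  have h2 : Subsingleton ((forget Ab).obj ((restrictFunctor V.ι ⋙ toPresheaf _ ⋙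
      TopCat.Presheaf.stalkFunctor Ab (X := (V : Scheme.{u}).toTopCat) (⟨y, hy⟩ : V)).obj N)) := h1
  exact ((forget Ab).mapIso e).toEquiv.symm.subsingleton


set_option backward.isDefEq.respectTransparency false in
open Scheme.Modules in
theorem subsingleton_stalk_restrict_iff {Y : Scheme.{u}} (N : Y.Modules) (V : Y.Opens) (z : V) :
    Subsingleton ((N.restrict V.ι).presheaf.stalk z) ↔ Subsingleton (N.presheaf.stalk (V.ι z)) := by
  let e := (restrictStalkNatIso V.ι z).app N
  constructor
  · intro h1
    have h2 : Subsingleton ((forget Ab).obj ((restrictFunctor V.ι ⋙ toPresheaf _ ⋙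
        TopCat.Presheaf.stalkFunctor Ab (X := (V : Scheme.{u}).toTopCat) z).obj N)) := h1
    exact ((forget Ab).mapIso e).toEquiv.symm.subsingleton
  · intro h1
    have h2 : Subsingleton ((forget Ab).obj ((toPresheaf _ ⋙
        TopCat.Presheaf.stalkFunctor Ab (X := Y.toTopCat) (V.ι z)).obj N)) := h1
    exact ((forget Ab).mapIso e).toEquiv.subsingleton

end Groth.Agent.Helper4.FTLocal
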