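import Mathlib
import Groth.Prelude.Def_CohB1
import Groth.Prelude.Def_FlatMod2
import Groth.Agent.Helper8.TildeBC
import Groth.Agent.Helper8.NisUnif
import Groth.Agent.Helper4.FTLocal

set_option autoImplicit false
open CategoryTheory Limits AlgebraicGeometry TopologicalSpace Opposite
universe u

namespace Groth.Agent.Helper4.FTTilde

set_option backward.isDefEq.respectTransparency false in
theorem isFT_of_generatingSections {Y : Scheme.{u}} (N : Y.Modules)
    (σ : SheafOfModules.GeneratingSections (R := Y.ringCatSheaf) N) [σ.IsFiniteType] :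
    SheafOfModules.IsFiniteType (R := Y.ringCatSheaf) N := by
  have : σ.localGeneratorsData.IsFiniteType := by
    constructor
    intro i
    change (σ.map (SheafOfModules.pushforward (𝟙 (Y.ringCatSheaf.over i))) (Iso.refl _)).IsFiniteType
    infer_instance
  exact { exists_localGeneratorsData := ⟨σ.localGeneratorsData, this⟩ }

theorem isFT_tilde_of_finite (R : CommRingCat.{u}) (M : ModuleCat.{u} R) [Module.Finite R M] :
    SheafOfModules.IsFiniteType (R := (Spec R).ringCatSheaf) (tilde M) := by
  obtain ⟨s, hs⟩ := (Module.finite_def.mp ‹Module.Finite R M›)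
  let P := presentationTilde.{u} M (s : Set M) hs _ (Submodule.span_eq _)
  haveI : P.generators.IsFiniteType := ⟨by
    change Finite (s : Set M)
    infer_instance⟩
  exact isFT_of_generatingSections _ P.generators


set_option backward.isDefEq.respectTransparency false in
theorem gen_of_generatingSections {Y : Scheme.{u}} (N : Y.Modules)
    (σ : SheafOfModules.GeneratingSections (R := Y.ringCatSheaf) N) [σ.IsFiniteType] :
    ∃ n, Groth.Agent.Helper8.TildeBC.Gen N n := by
  haveI : Finite σ.I := SheafOfModules.GeneratingSections.IsFiniteType.finite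
  obtain ⟨n, ⟨e⟩⟩ := Finite.exists_equiv_fin σ.I
  haveI : Epi σ.π := σ.epi
  exact ⟨n, (Sigma.whiskerEquiv (f := fun _ : Fin n => Coh.structureModule Y)
    (g := fun _ : σ.I => SheafOfModules.unit Y.ringCatSheaf) e.symm (fun _ => Iso.refl _)).hom ≫ σ.π,
    epi_comp _ _⟩

open Groth.Agent.Helper8.TildeBC in
theorem exists_gens_of_gen_basicOpen (R : CommRingCat.{u}) (M : ModuleCat.{u} R) (f : R) (n : ℕ)
    (U : (Spec R).Opens) (hU : ∀ p ∈ PrimeSpectrum.basicOpen f, p ∈ U)
    (g0 : Gen ((tilde M).restrict U.ι) n) :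
    ∃ v : Fin n → M, ∀ y : M, ∃ K : ℕ, f ^ K • y ∈ Submodule.span R (Set.range v) := by
  let A : CommRingCat.{u} := CommRingCat.of (Localization.Away f)
  let α : R ⟶ A := CommRingCat.ofHom (algebraMap R (Localization.Away f))
  have hj : Set.range (Spec.map α) ⊆ Set.range U.ι := by
    rw [Scheme.Opens.range_ι]
    have h := Scheme.Hom.opensRange_localizationAway f
    have h' : Set.range (Spec.map α) =
        ((PrimeSpectrum.basicOpen f : TopologicalSpace.Opens (PrimeSpectrum R)) :
          Set (PrimeSpectrum R)) := by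
      rw [← h]; rfl
    rw [h']
    exact hU
  let j' := IsOpenImmersion.lift U.ι (Spec.map α) hj
  have hfac : j' ≫ U.ι = Spec.map α := IsOpenImmersion.lift_fac _ _ _
  have g1 := (g0.of_restrict U.ι).pullback j'
  have g2 := (g1.pullback_comp j' U.ι).pullback_congr hfac
  obtain ⟨s, hs⟩ := g2.pullback_tilde_span α
  refine exists_gens_of_extendScalars α.hom f ?_ M n s hs
  have hinst : (algebraMap R (Localization.Away f)).toAlgebra =
      (inferInstance : Algebra R (Localization.Away f)) :=
    Algebra.algebra_ext _ _ (fun r => rfl)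
  change @IsLocalization.Away R _ f (Localization.Away f) _
    (algebraMap R (Localization.Away f)).toAlgebra
  rw [hinst]
  infer_instance


theorem finite_of_isFT_tilde (R : CommRingCat.{u}) (M : ModuleCat.{u} R)
    (h : SheafOfModules.IsFiniteType (R := (Spec R).ringCatSheaf) (tilde M)) :
    Module.Finite R M := by
  have key : ∀ x : PrimeSpectrum R, ∃ (f : R) (n : ℕ) (v : Fin n → M),
      x ∈ PrimeSpectrum.basicOpen f ∧
        ∀ y : M, ∃ K : ℕ, f ^ K • y ∈ Submodule.span R (Set.range v) := by
    intro x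
    obtain ⟨W, hxW, hW⟩ :=
      Groth.Agent.Helper4.FTLocal.exists_generatingSections_restrict (tilde M) h x
    obtain ⟨_, ⟨_, ⟨f, rfl⟩, rfl⟩, hxf, hfW⟩ :=
      PrimeSpectrum.isBasis_basic_opens.exists_subset_of_mem_open hxW W.isOpen
    let U : (Spec R).Opens := PrimeSpectrum.basicOpen f
    obtain ⟨σ, hσ⟩ := hW U hfW
    obtain ⟨n, g0⟩ := gen_of_generatingSections _ σ
    obtain ⟨v, hv⟩ := exists_gens_of_gen_basicOpen R M f n U (fun p hp => hp) g0
    exact ⟨f, n, v, hxf, hv⟩
  choose f n v hxf hv using key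
  have hspan : Ideal.span (Set.range f) = ⊤ := by
    rw [← PrimeSpectrum.iSup_basicOpen_eq_top_iff, eq_top_iff]
    intro p _
    exact TopologicalSpace.Opens.mem_iSup.mpr ⟨p, hxf p⟩
  obtain ⟨t, ht, htspan⟩ := (Ideal.span_eq_top_iff_finite _).mp hspan
  choose g hg using fun r : t => ht r.2
  let N : Submodule R M := Submodule.span R (⋃ r : t, Set.range (v (g r)))
  have hN : N.FG := Submodule.fg_span (Set.finite_iUnion fun r => Set.finite_range _)
  have htop : N = ⊤ := by
    rw [eq_top_iff]
    intro y _
    refine Submodule.mem_of_span_eq_top_of_smul_pow_mem N (t : Set R) htspan y ?_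
    rintro ⟨r, hr⟩
    obtain ⟨K, hK⟩ := hv (g ⟨r, hr⟩) y
    refine ⟨K, ?_⟩
    have : f (g ⟨r, hr⟩) = r := hg ⟨r, hr⟩
    rw [this] at hK
    exact Submodule.span_mono (Set.subset_iUnion (fun r : t => Set.range (v (g r))) ⟨r, hr⟩) hK
  exact Module.finite_def.mpr (htop ▸ hN)

end Groth.Agent.Helper4.FTTilde
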