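import Mathlib
import Groth.Prelude.Def_CohB1

/-!
# Helper4: finite type / finite presentation are stable under restriction to opens

* `SoM.localGeneratorsDataPushforward`, `SoM.isFiniteType_pushforward_of_isLeftAdjoint`,
  `SoM.isFinitePresentation_pushforward_of_isLeftAdjoint`, `SoM.isFiniteType_of_iso`
* `isFT_restrict`, `isFP_restrict` (restriction along open immersions of schemes)
* `exists_presentation_over_of_restrict`: a finite presentation of `M|_U` (as a module on the scheme
  `U`) gives a finite presentation of `M.over U` (on the over-site).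
-/

set_option autoImplicit false
open CategoryTheory Limits AlgebraicGeometry TopologicalSpace Opposite
universe w u v₁ v₂ u₁ u₂

namespace Groth.Agent.Helper4.FTRestrict


namespace SoM
open SheafOfModules

variable {C : Type u₁} [Category.{v₁} C] {J : GrothendieckTopology C}
  {R : Sheaf J RingCat.{u}}
variable [∀ X, HasWeakSheafify (J.over X) AddCommGrpCat.{u}]
  [∀ X, (J.over X).WEqualsLocallyBijective AddCommGrpCat.{u}]
variable {D : Type u₂} [Category.{v₂, u₂} D] {K : GrothendieckTopology D}
  {S : Sheaf K RingCat.{u}} [∀ (X : D), (K.over X).WEqualsLocallyBijective AddCommGrpCat]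
variable [∀ (X : C), HasSheafify (J.over X) AddCommGrpCat.{u}]
  [∀ (X : D), HasSheafify (K.over X) AddCommGrpCat.{u}]
variable (G : D ⥤ C) [G.IsContinuous K J] [G.IsCocontinuous K J]
  (φ : S ⟶ (G.sheafPushforwardContinuous RingCat.{u} K J).obj R)

/-- analogue of `QuasicoherentData.pushforward` for local generators -/
noncomputable def localGeneratorsDataPushforward (η : (pushforward φ).obj (unit R) ≅ unit S)
    [∀ (X : D), (Over.post G).IsContinuous (K.over X) (J.over _)]
    (h : ∀ (X : D) (Y : C) (f : G.obj X ⟶ Y),
      PreservesColimitsOfSize.{u, u} <|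
      pushforward.{u} (R := (R.over Y)) (F := Over.post (X := X) G ⋙ Over.map f)
        (((Over.forget X).sheafPushforwardContinuous RingCat.{u} (K.over X) K).map φ))
    {M : SheafOfModules.{u} R} (P : M.LocalGeneratorsData) :
    LocalGeneratorsData ((pushforward φ).obj M) where
  I := Σ (X : D) (i : P.I), G.obj X ⟶ P.X i
  X i := i.1
  coversTop Y := by
    refine K.superset_covering ?_ <| G.cover_lift K _ (P.coversTop (G.obj Y))
    intro Z g ⟨i, ⟨v⟩⟩
    exact ⟨⟨Z, i, v⟩, ⟨𝟙 _⟩⟩
  generators i := by
    letI overS : SheafOfModules.{u} S ⥤ SheafOfModules.{u} (S.over i.1) :=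
      SheafOfModules.pushforward (𝟙 _)
    letI G' := Over.post (X := i.1) G ⋙ Over.map i.2.2
    letI ψ : S.over i.1 ⟶
        (G'.sheafPushforwardContinuous RingCat.{u} (K.over i.1) (J.over (P.X i.2.1))).obj
          (R.over (P.X i.2.1)) :=
      ((Over.forget i.1).sheafPushforwardContinuous RingCat.{u} (K.over i.1) K).map φ
    letI e : (SheafOfModules.pushforward ψ).obj (unit (R.over (P.X i.snd.fst))) ≅
      unit (S.over i.fst) := overS.mapIso η
    haveI : PreservesColimitsOfSize.{u, u, _} (SheafOfModules.pushforward ψ) := h _ _ _
    exact (P.generators i.2.1).map (SheafOfModules.pushforward ψ) e.symm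


instance localGeneratorsDataPushforward_isFiniteType
    (η : (pushforward φ).obj (unit R) ≅ unit S)
    [∀ (X : D), (Over.post G).IsContinuous (K.over X) (J.over _)]
    (h : ∀ (X : D) (Y : C) (f : G.obj X ⟶ Y),
      PreservesColimitsOfSize.{u, u} <|
      pushforward.{u} (R := (R.over Y)) (F := Over.post (X := X) G ⋙ Over.map f)
        (((Over.forget X).sheafPushforwardContinuous RingCat.{u} (K.over X) K).map φ))
    {M : SheafOfModules.{u} R} (P : M.LocalGeneratorsData) [P.IsFiniteType] :
    (localGeneratorsDataPushforward G φ η h P).IsFiniteType where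
  isFiniteType i := by
    have h1 := LocalGeneratorsData.IsFiniteType.isFiniteType (p := P) i.2.1
    have h2 : Finite (P.generators i.2.1).I := GeneratingSections.IsFiniteType.finite
    exact ⟨h2⟩

instance shrink_isFiniteType {M : SheafOfModules.{u} R} (q : M.LocalGeneratorsData)
    [q.IsFiniteType] : q.shrink.IsFiniteType where
  isFiniteType i := by
    have h1 := LocalGeneratorsData.IsFiniteType.isFiniteType (p := q) i.2.choose
    have h2 : Finite (q.generators i.2.choose).I := GeneratingSections.IsFiniteType.finite
    exact ⟨h2⟩

set_option backward.isDefEq.respectTransparency false in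
lemma isFiniteType_pushforward_of_isLeftAdjoint (η : (pushforward φ).obj (unit R) ≅ unit S)
    [G.IsLeftAdjoint] [IsIso φ]
    [∀ X, Functor.IsContinuous (Over.post (X := X) G) (K.over _) (J.over _)]
    [HasPullbacks C] [HasPullbacks D]
    {M : SheafOfModules.{u} R} [IsFiniteType M] :
    IsFiniteType ((pushforward φ).obj M) := by
  obtain ⟨P, hP⟩ := IsFiniteType.exists_localGeneratorsData M
  have h : ∀ (X : D) (Y : C) (f : G.obj X ⟶ Y),
      PreservesColimitsOfSize.{u, u} <|
      pushforward.{u} (R := (R.over Y)) (F := Over.post (X := X) G ⋙ Over.map f)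
        (((Over.forget X).sheafPushforwardContinuous RingCat.{u} (K.over X) K).map φ) := by
    intro X Y f
    let G' := Over.post (X := X) G ⋙ Over.map f
    have : G'.IsContinuous (K.over X) (J.over Y) := Functor.isContinuous_comp _ _ _ (J.over _) _
    have : G'.IsCocontinuous (K.over X) (J.over Y) := isCocontinuous_comp _ _ _ (J.over _)
    let a : S.over X ⟶
        (G'.sheafPushforwardContinuous RingCat.{u} (K.over X) (J.over Y)).obj (R.over Y) :=
      ((Over.forget X).sheafPushforwardContinuous RingCat.{u} (K.over X) K).map φ
    have : (pushforward.{u} a).IsLeftAdjoint := isLeftAdjoint_pushforward_of_isIso a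
    infer_instance
  exact ⟨(localGeneratorsDataPushforward G φ η h P).shrink, inferInstance⟩


instance quasicoherentDataPushforward_isFinitePresentation
    (η : (pushforward φ).obj (unit R) ≅ unit S)
    [∀ (X : D), (Over.post G).IsContinuous (K.over X) (J.over _)]
    (h : ∀ (X : D) (Y : C) (f : G.obj X ⟶ Y),
      PreservesColimitsOfSize.{u, u} <|
      pushforward.{u} (R := (R.over Y)) (F := Over.post (X := X) G ⋙ Over.map f)
        (((Over.forget X).sheafPushforwardContinuous RingCat.{u} (K.over X) K).map φ))
    {M : SheafOfModules.{u} R} (P : M.QuasicoherentData) [P.IsFinitePresentation] :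
    (P.pushforward G φ η h).IsFinitePresentation where
  isFinite_presentation i := by
    have h1 := QuasicoherentData.IsFinitePresentation.isFinite_presentation (q := P) i.2.1
    have h2 : Finite (P.presentation i.2.1).generators.I := GeneratingSections.IsFiniteType.finite
    have h3 : Finite (P.presentation i.2.1).relations.I := GeneratingSections.IsFiniteType.finite
    exact { isFiniteType_generators := ⟨h2⟩
            isFiniteType_relations := ⟨h3⟩ }

instance shrink_isFinitePresentation {M : SheafOfModules.{u} R} (q : M.QuasicoherentData)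
    [q.IsFinitePresentation] : q.shrink.IsFinitePresentation where
  isFinite_presentation i := by
    have h1 := QuasicoherentData.IsFinitePresentation.isFinite_presentation (q := q) i.2.choose
    have h2 : Finite (q.presentation i.2.choose).generators.I :=
      GeneratingSections.IsFiniteType.finite
    have h3 : Finite (q.presentation i.2.choose).relations.I :=
      GeneratingSections.IsFiniteType.finite
    exact { isFiniteType_generators := ⟨h2⟩
            isFiniteType_relations := ⟨h3⟩ }

set_option backward.isDefEq.respectTransparency false in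
lemma isFinitePresentation_pushforward_of_isLeftAdjoint
    (η : (pushforward φ).obj (unit R) ≅ unit S)
    [G.IsLeftAdjoint] [IsIso φ]
    [∀ X, Functor.IsContinuous (Over.post (X := X) G) (K.over _) (J.over _)]
    [HasPullbacks C] [HasPullbacks D]
    {M : SheafOfModules.{u} R} [IsFinitePresentation M] :
    IsFinitePresentation ((pushforward φ).obj M) := by
  obtain ⟨P, hP⟩ := IsFinitePresentation.exists_quasicoherentData M
  have h : ∀ (X : D) (Y : C) (f : G.obj X ⟶ Y),
      PreservesColimitsOfSize.{u, u} <|
      pushforward.{u} (R := (R.over Y)) (F := Over.post (X := X) G ⋙ Over.map f)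
        (((Over.forget X).sheafPushforwardContinuous RingCat.{u} (K.over X) K).map φ) := by
    intro X Y f
    let G' := Over.post (X := X) G ⋙ Over.map f
    have : G'.IsContinuous (K.over X) (J.over Y) := Functor.isContinuous_comp _ _ _ (J.over _) _
    have : G'.IsCocontinuous (K.over X) (J.over Y) := isCocontinuous_comp _ _ _ (J.over _)
    let a : S.over X ⟶
        (G'.sheafPushforwardContinuous RingCat.{u} (K.over X) (J.over Y)).obj (R.over Y) :=
      ((Over.forget X).sheafPushforwardContinuous RingCat.{u} (K.over X) K).map φ
    have : (pushforward.{u} a).IsLeftAdjoint := isLeftAdjoint_pushforward_of_isIso a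
    infer_instance
  exact ⟨(P.pushforward G φ η h).shrink, inferInstance⟩


omit [∀ (X : C), HasSheafify (J.over X) AddCommGrpCat] in
lemma isFiniteType_of_iso {M N : SheafOfModules.{u} R} (e : M ≅ N) [IsFiniteType M] :
    IsFiniteType N := by
  obtain ⟨σ, hσ⟩ := IsFiniteType.exists_localGeneratorsData M
  let τ : LocalGeneratorsData N :=
    { I := σ.I
      X := σ.X
      coversTop := σ.coversTop
      generators := fun i => (σ.generators i).ofEpi ((overFunctor R (σ.X i)).map e.hom) }
  have : τ.IsFiniteType := ⟨fun i => by
    have h1 := LocalGeneratorsData.IsFiniteType.isFiniteType (p := σ) i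
    have h2 : Finite (σ.generators i).I := GeneratingSections.IsFiniteType.finite
    exact ⟨h2⟩⟩
  exact ⟨τ, this⟩

end SoM


set_option backward.isDefEq.respectTransparency false in
open Scheme.Modules in
theorem isFT_restrict {X Y : Scheme.{u}} (f : X ⟶ Y) [IsOpenImmersion f] (M : Y.Modules)
    (hM : SheafOfModules.IsFiniteType (R := Y.ringCatSheaf) M) :
    SheafOfModules.IsFiniteType (R := X.ringCatSheaf) (M.restrict f) := by
  let α : X.presheaf ⟶ f.opensFunctor.op ⋙ Y.presheaf := { app U := (f.appIso U.unop).inv }
  have hα : IsIso α := NatIso.isIso_of_isIso_app _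
  let φ : X.ringCatSheaf ⟶ (f.opensFunctor.sheafPushforwardContinuous _ _ _).obj Y.ringCatSheaf :=
    ⟨Functor.whiskerRight α (forget₂ CommRingCat RingCat)⟩
  have : IsIso φ := by
    rw [← isIso_iff_of_reflects_iso _ (ObjectProperty.ι _)]
    dsimp [φ]
    infer_instance
  exact SoM.isFiniteType_pushforward_of_isLeftAdjoint.{u}
    f.opensFunctor φ (Scheme.Modules.restrictUnitIso _)


set_option backward.isDefEq.respectTransparency false in
open Scheme.Modules in
theorem isFP_restrict {X Y : Scheme.{u}} (f : X ⟶ Y) [IsOpenImmersion f] (M : Y.Modules)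
    (hM : SheafOfModules.IsFinitePresentation (R := Y.ringCatSheaf) M) :
    SheafOfModules.IsFinitePresentation (R := X.ringCatSheaf) (M.restrict f) := by
  let α : X.presheaf ⟶ f.opensFunctor.op ⋙ Y.presheaf := { app U := (f.appIso U.unop).inv }
  have hα : IsIso α := NatIso.isIso_of_isIso_app _
  let φ : X.ringCatSheaf ⟶ (f.opensFunctor.sheafPushforwardContinuous _ _ _).obj Y.ringCatSheaf :=
    ⟨Functor.whiskerRight α (forget₂ CommRingCat RingCat)⟩
  have : IsIso φ := by
    rw [← isIso_iff_of_reflects_iso _ (ObjectProperty.ι _)]
    dsimp [φ]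
    infer_instance
  exact SoM.isFinitePresentation_pushforward_of_isLeftAdjoint.{u}
    f.opensFunctor φ (Scheme.Modules.restrictUnitIso _)



set_option backward.isDefEq.respectTransparency false in
open Scheme.Modules in
theorem exists_presentation_over_of_restrict {X : Scheme.{u}} (M : X.Modules) (U : X.Opens)
    (P : SheafOfModules.Presentation (R := (U : Scheme.{u}).ringCatSheaf) (M.restrict U.ι))
    [P.IsFinite] :
    ∃ Q : SheafOfModules.Presentation (R := X.ringCatSheaf.over U)
      (SheafOfModules.over (R := X.ringCatSheaf) M U), Q.IsFinite := by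
  let E := overEquiv U
  let iso1 : E.functor.obj (SheafOfModules.over (R := X.ringCatSheaf) M U) ≅ M.restrict U.ι :=
    (overFunctorEquiv U).app M
  have h1 : Finite P.generators.I := SheafOfModules.GeneratingSections.IsFiniteType.finite
  have h2 : Finite P.relations.I := SheafOfModules.GeneratingSections.IsFiniteType.finite
  let P1 := SheafOfModules.Presentation.ofIsIso.{u, u, u} iso1.inv P
  have : PreservesColimitsOfSize.{u, u} E.inverse := inferInstance
  let η' : SheafOfModules.unit (X.ringCatSheaf.over U) ≅
      E.inverse.obj (SheafOfModules.unit (U : Scheme.{u}).ringCatSheaf) :=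
    E.unitIso.app (SheafOfModules.unit (X.ringCatSheaf.over U))
  let P2 := P1.map E.inverse η'
  let P3 := SheafOfModules.Presentation.ofIsIso.{u, u, u}
    (E.unitIso.app (SheafOfModules.over (R := X.ringCatSheaf) M U)).inv P2
  exact ⟨P3, { isFiniteType_generators := ⟨h1⟩
               isFiniteType_relations := ⟨h2⟩ }⟩


end Groth.Agent.Helper4.FTRestrict
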