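import Mathlib

set_option autoImplicit false
open Submodule

namespace Groth.Agent.Helper4.AssAlg

section alg

variable {A : Type*} [CommRing A] (p : Ideal A) [p.IsPrime]
  (R' : Type*) [CommRing R'] [Algebra A R'] [IsLocalization.AtPrime R' p]
  {M M' : Type*} [AddCommGroup M] [Module A M] [AddCommGroup M'] [Module A M'] [Module R' M']
  [IsScalarTower A R' M'] (g : M →ₗ[A] M') [IsLocalizedModule p.primeCompl g]

include p g in
/-- the annihilator of the image of an element in a localization is the extension of the
annihilator. -/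
theorem colon_map_eq (m : M) :
    (colon (⊥ : Submodule R' M') {g m} : Ideal R') =
      Ideal.map (algebraMap A R') (colon (⊥ : Submodule A M) {m} : Ideal A) := by
  ext t
  obtain ⟨a, s, rfl⟩ := IsLocalization.exists_mk'_eq p.primeCompl t
  rw [IsLocalization.mk'_mem_map_algebraMap_iff p.primeCompl, mem_colon_singleton, mem_bot]
  have hunit : IsUnit (algebraMap A R' s) := IsLocalization.map_units R' s
  have h1 : IsLocalization.mk' R' a s • g m = 0 ↔ (algebraMap A R' a) • g m = 0 := by
    constructor
    · intro h
      have := congrArg (fun z => algebraMap A R' s • z) h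
      simp only [smul_zero, smul_smul] at this
      rwa [IsLocalization.mk'_spec'] at this
    · intro h
      obtain ⟨u, hu⟩ := hunit
      have e : IsLocalization.mk' R' a s = (↑u⁻¹ : R') * algebraMap A R' a := by
        rw [IsLocalization.mk'_eq_iff_eq_mul, ← hu, mul_comm (↑u⁻¹ : R'), mul_assoc]
        simp
      rw [e, mul_smul, h, smul_zero]
  rw [h1, algebraMap_smul, ← map_smul, IsLocalizedModule.eq_zero_iff p.primeCompl g]
  constructor
  · rintro ⟨c, hc⟩
    refine ⟨c.1, c.2, ?_⟩
    rw [mem_colon_singleton, mem_bot, mul_smul]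
    exact hc
  · rintro ⟨c, hc, h⟩
    refine ⟨⟨c, hc⟩, ?_⟩
    rw [mem_colon_singleton, mem_bot, mul_smul] at h
    exact h

end alg





section alg2

variable {A : Type*} [CommRing A] (p : Ideal A) [p.IsPrime]
  (R' : Type*) [CommRing R'] [Algebra A R'] [IsLocalization.AtPrime R' p] [IsLocalRing R']
  {M M' : Type*} [AddCommGroup M] [Module A M] [AddCommGroup M'] [Module A M'] [Module R' M']
  [IsScalarTower A R' M'] (g : M →ₗ[A] M') [IsLocalizedModule p.primeCompl g]

include p g in
theorem isAssociatedPrime_of_mem_minimalPrimes (m : M)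
    (h : p ∈ (colon (⊥ : Submodule A M) {m} : Ideal A).minimalPrimes) :
    IsAssociatedPrime (IsLocalRing.maximalIdeal R') M' := by
  refine ⟨inferInstance, g m, ?_⟩
  rw [colon_map_eq p R' g m, IsLocalization.AtPrime.radical_map_of_mem_minimalPrimes R' p _ h,
    IsLocalization.AtPrime.map_eq_maximalIdeal p R']

include p g in
theorem exists_mem_minimalPrimes_of_isAssociatedPrime
    (h : IsAssociatedPrime (IsLocalRing.maximalIdeal R') M') :
    ∃ m : M, p ∈ (colon (⊥ : Submodule A M) {m} : Ideal A).minimalPrimes := by
  obtain ⟨hprime, y, hy⟩ := h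
  obtain ⟨⟨m, s⟩, rfl⟩ := IsLocalizedModule.mk'_surjective p.primeCompl g y
  refine ⟨m, ?_⟩
  have hcol : (colon (⊥ : Submodule R' M') {IsLocalizedModule.mk' g m s} : Ideal R') =
      colon (⊥ : Submodule R' M') {g m} := by
    ext t
    simp only [mem_colon_singleton, mem_bot]
    have hunit : IsUnit (algebraMap A R' s) := IsLocalization.map_units R' s
    obtain ⟨u, hu⟩ := hunit
    have e1 : g m = (u : R') • IsLocalizedModule.mk' g m s := by
      rw [hu, algebraMap_smul]
      exact (IsLocalizedModule.mk'_cancel' g m s).symm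
    constructor
    · intro h
      rw [e1, smul_comm, h, smul_zero]
    · intro h
      rw [e1, smul_comm] at h
      have := congrArg (fun z => (↑u⁻¹ : R') • z) h
      simpa [smul_smul] using this
  simp only [Function.uncurry_apply_pair] at hy
  rw [hcol, colon_map_eq p R' g m] at hy
  have h1 : IsLocalRing.maximalIdeal R' ∈
      (Ideal.map (algebraMap A R') (colon (⊥ : Submodule A M) {m} : Ideal A)).minimalPrimes := by
    rw [← Ideal.radical_minimalPrimes, ← hy, Ideal.minimalPrimes_eq_subsingleton_self]
    exact Set.mem_singleton _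
  rw [IsLocalization.minimalPrimes_map p.primeCompl R'] at h1
  have h2 : Ideal.under A (IsLocalRing.maximalIdeal R') = p :=
    IsLocalization.AtPrime.under_maximalIdeal R' p
  rw [Set.mem_preimage, h2] at h1
  exact h1

include p g in
theorem isAssociatedPrime_maximalIdeal_iff :
    IsAssociatedPrime (IsLocalRing.maximalIdeal R') M' ↔
      ∃ m : M, p ∈ (colon (⊥ : Submodule A M) {m} : Ideal A).minimalPrimes :=
  ⟨exists_mem_minimalPrimes_of_isAssociatedPrime p R' g,
    fun ⟨m, hm⟩ => isAssociatedPrime_of_mem_minimalPrimes p R' g m hm⟩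

end alg2



end Groth.Agent.Helper4.AssAlg
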