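import Mathlib
import Groth.Prelude.Def_CurvBase
import Groth.Prelude.Def_FlatMod2

set_option autoImplicit false
universe u
open CategoryTheory CategoryTheory.Limits AlgebraicGeometry TopologicalSpace Opposite

namespace Groth.Agent.Helper4.StalkDict


variable {X : Scheme.{u}} {U : X.Opens} (hU : IsAffineOpen U)

theorem image_le (V : (Spec Γ(X, U)).Opens) : hU.fromSpec ''ᵁ V ≤ U := by
  intro x hx
  obtain ⟨y, -, rfl⟩ := hx
  have : hU.fromSpec y ∈ Set.range hU.fromSpec := ⟨y, rfl⟩
  rw [hU.range_fromSpec] at this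
  exact this

theorem le_preimage (V : (Spec Γ(X, U)).Opens) : V ≤ hU.fromSpec ⁻¹ᵁ U := by
  rw [hU.fromSpec_preimage_self]; exact le_top

/-- key lemma: the `Γ(X,U)`-action on sections of the restriction to `Spec Γ(X,U)`. -/
theorem appIso_inv_res_hom (V : (Spec Γ(X, U)).Opens) :
    (Scheme.ΓSpecIso Γ(X, U)).inv ≫ (Spec Γ(X, U)).presheaf.map V.leTop.op ≫
      (hU.fromSpec.appIso V).inv = X.presheaf.map (homOfLE (image_le hU V)).op := by
  have h1 : (Scheme.ΓSpecIso Γ(X, U)).inv ≫ (Spec Γ(X, U)).presheaf.map V.leTop.op =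
      hU.fromSpec.app U ≫ (Spec Γ(X, U)).presheaf.map (homOfLE (le_preimage hU V)).op := by
    rw [hU.fromSpec_app_self, Category.assoc, ← Functor.map_comp]
    rfl
  rw [← Category.assoc, h1, Category.assoc, Scheme.Hom.appIso_inv_naturality,
    Scheme.Hom.app_appIso_inv_assoc]
  exact (X.presheaf.map_comp _ _).symm

theorem appIso_inv_res (V : (Spec Γ(X, U)).Opens) (a : Γ(X, U)) :
    (hU.fromSpec.appIso V).inv ((Spec Γ(X, U)).presheaf.map V.leTop.op
      ((Scheme.ΓSpecIso Γ(X, U)).inv a)) =
    X.presheaf.map (homOfLE (image_le hU V)).op a := by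
  rw [← appIso_inv_res_hom hU V]
  rfl




variable (F : X.Modules)

set_option backward.isDefEq.respectTransparency false in
theorem smul_restrict_fromSpec (V : (Spec Γ(X, U)).Opens) (a : Γ(X, U))
    (t : Γ(F.restrict hU.fromSpec, V)) :
    (a • t : Γ(F.restrict hU.fromSpec, V)) =
      ((X.presheaf.map (homOfLE (image_le hU V)).op a) • (show Γ(F, hU.fromSpec ''ᵁ V) from t) :
        Γ(F, hU.fromSpec ''ᵁ V)) := by
  rw [← appIso_inv_res hU V a]
  rfl





theorem isLocalizing_restrict_fromSpec [F.IsQuasicoherent] :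
    IsLocalizing (modulesSpecToSheaf.obj (F.restrict hU.fromSpec)) :=
  (isIso_fromTildeΓ_iff_isLocalizing _).mp inferInstance

theorem image_top : hU.fromSpec ''ᵁ ⊤ = U := by
  rw [Scheme.Hom.image_top_eq_opensRange, hU.opensRange_fromSpec]

theorem map_map_eq_self {V W : X.Opens} (h1 : V ≤ W) (h2 : W ≤ V) (m : Γ(F, W)) :
    F.presheaf.map (homOfLE h2).op (F.presheaf.map (homOfLE h1).op m) = m := by
  rw [← ConcreteCategory.comp_apply, ← Functor.map_comp]
  have : (homOfLE h1).op ≫ (homOfLE h2).op = 𝟙 (op W) := Subsingleton.elim _ _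
  rw [this, CategoryTheory.Functor.map_id]
  rfl

include hU in
set_option backward.isDefEq.respectTransparency false in
/-- (b): a section over an affine open vanishing on a basic open is killed by a power of `f`. -/
theorem exists_pow_smul_eq_zero [F.IsQuasicoherent] (f : Γ(X, U)) (m : Γ(F, U))
    (hm : F.presheaf.map (homOfLE (X.basicOpen_le f)).op m = 0) :
    ∃ n : ℕ, f ^ n • m = 0 := by
  let N := F.restrict hU.fromSpec
  have hloc := isLocalizing_restrict_fromSpec hU F f
  let m' : Γ(N, ⊤) := F.presheaf.map (homOfLE (image_le hU ⊤)).op m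
  have h0 : ((modulesSpecToSheaf.obj N).obj.map (PrimeSpectrum.basicOpen f).leTop.op).hom m' = 0 := by
    change F.presheaf.map _ (F.presheaf.map _ m) = 0
    rw [← ConcreteCategory.comp_apply, ← Functor.map_comp]
    have hle : hU.fromSpec ''ᵁ PrimeSpectrum.basicOpen f ≤ X.basicOpen f :=
      (hU.fromSpec_image_basicOpen f).le
    have : F.presheaf.map ((homOfLE (image_le hU ⊤)).op ≫
        ((Scheme.Hom.opensFunctor hU.fromSpec).map (PrimeSpectrum.basicOpen f).leTop).op) m =
        F.presheaf.map (homOfLE hle).op (F.presheaf.map (homOfLE (X.basicOpen_le f)).op m) := by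
      rw [← ConcreteCategory.comp_apply, ← Functor.map_comp]
      rfl
    erw [this, hm, map_zero]
  rw [IsLocalizedModule.eq_zero_iff (.powers f)] at h0
  obtain ⟨⟨_, n, rfl⟩, hn⟩ := h0
  refine ⟨n, ?_⟩
  change (f ^ n) • m' = 0 at hn
  rw [smul_restrict_fromSpec] at hn
  have h2 : F.presheaf.map (homOfLE (image_le hU ⊤)).op (f ^ n • m) = 0 := by
    rw [Scheme.Modules.map_smul]
    exact hn
  have := map_map_eq_self F (image_le hU ⊤) (image_top hU).ge (f ^ n • m)
  rw [← this, h2, map_zero]





theorem map_injective_of_le {V W : X.Opens} (h1 : V ≤ W) (h2 : W ≤ V) :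
    Function.Injective (F.presheaf.map (homOfLE h1).op) := by
  intro a b hab
  rw [← map_map_eq_self F h1 h2 a, hab, map_map_eq_self F h1 h2 b]

include hU in
set_option backward.isDefEq.respectTransparency false in
/-- (a): a section over a basic open of an affine open extends after multiplying by a power. -/
theorem exists_pow_smul_eq_res [F.IsQuasicoherent] (f : Γ(X, U)) (t : Γ(F, X.basicOpen f)) :
    ∃ (n : ℕ) (m : Γ(F, U)),
      (X.presheaf.map (homOfLE (X.basicOpen_le f)).op (f ^ n)) • t =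
        F.presheaf.map (homOfLE (X.basicOpen_le f)).op m := by
  let N := F.restrict hU.fromSpec
  have hloc := isLocalizing_restrict_fromSpec hU F f
  have hle : hU.fromSpec ''ᵁ PrimeSpectrum.basicOpen f ≤ X.basicOpen f :=
    (hU.fromSpec_image_basicOpen f).le
  have hge : X.basicOpen f ≤ hU.fromSpec ''ᵁ PrimeSpectrum.basicOpen f :=
    (hU.fromSpec_image_basicOpen f).ge
  let t' : Γ(N, PrimeSpectrum.basicOpen f) := F.presheaf.map (homOfLE hle).op t
  have hsurj := IsLocalizedModule.surj (.powers f)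
    ((modulesSpecToSheaf.obj N).obj.map (PrimeSpectrum.basicOpen f).leTop.op).hom
  obtain ⟨⟨m', ⟨_, n, rfl⟩⟩, hn⟩ := hsurj t'
  refine ⟨n, F.presheaf.map (homOfLE (image_top hU).ge).op m', ?_⟩
  apply map_injective_of_le F hle hge
  rw [Scheme.Modules.map_smul]
  change (f ^ n) • t' = F.presheaf.map _ m' at hn
  rw [smul_restrict_fromSpec] at hn
  refine Eq.trans ?_ (hn.trans ?_)
  · congr 1
    rw [← ConcreteCategory.comp_apply, ← Functor.map_comp]
    rfl
  · rw [← ConcreteCategory.comp_apply, ← ConcreteCategory.comp_apply, ← Functor.map_comp,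
      ← Functor.map_comp]
    rfl





set_option backward.isDefEq.respectTransparency false in
theorem germ_smul (F : X.Modules) (U : X.Opens) (x : X) (hx : x ∈ U) (r : Γ(X, U)) (m : Γ(F, U)) :
    F.presheaf.germ U x hx (r • m) = X.presheaf.germ U x hx r • F.presheaf.germ U x hx m := by
  exact PresheafOfModules.germ_smul (R := X.presheaf) F.val x U hx r m

/-- The stalk at `x ∈ U` as a module over `Γ(X, U)`. -/
@[reducible] noncomputable def sectionModStalk (x : X) (hx : x ∈ U) :
    Module Γ(X, U) (F.presheaf.stalk x) :=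
  Module.compHom _ (X.presheaf.germ U x hx).hom

theorem sectionModStalk_smul (x : X) (hx : x ∈ U) (r : Γ(X, U)) (m : F.presheaf.stalk x) :
    letI := sectionModStalk F x hx
    r • m = X.presheaf.germ U x hx r • m := rfl

/-- the germ map as a `Γ(X,U)`-linear map. -/
noncomputable def germLin (x : X) (hx : x ∈ U) :
    letI := sectionModStalk F x hx
    Γ(F, U) →ₗ[Γ(X, U)] F.presheaf.stalk x :=
  letI := sectionModStalk F x hx
  { toFun := F.presheaf.germ U x hx
    map_add' := map_add _
    map_smul' := fun r m => germ_smul F U x hx r m }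

theorem germLin_apply (x : X) (hx : x ∈ U) (m : Γ(F, U)) :
    germLin F x hx m = F.presheaf.germ U x hx m := rfl

include hU in
theorem mem_basicOpen_iff_notMem_primeIdealOf (x : X) (hx : x ∈ U) (f : Γ(X, U)) :
    x ∈ X.basicOpen f ↔ f ∉ (hU.primeIdealOf ⟨x, hx⟩).asIdeal := by
  rw [X.mem_basicOpen f x hx]
  letI := X.presheaf.algebra_section_stalk ⟨x, hx⟩
  haveI := hU.isLocalization_stalk ⟨x, hx⟩
  exact IsLocalization.AtPrime.isUnit_to_map_iff (X.presheaf.stalk x)
    (hU.primeIdealOf ⟨x, hx⟩).asIdeal f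





include hU in
set_option backward.isDefEq.respectTransparency false in
/-- **Stalk dictionary**: for a quasi-coherent module on a scheme, the stalk at a point of an
affine open `U` is the localization of the module of sections over `U` at the corresponding prime. -/
theorem isLocalizedModule_germ [F.IsQuasicoherent] (x : X) (hx : x ∈ U) :
    letI := sectionModStalk F x hx
    IsLocalizedModule (hU.primeIdealOf ⟨x, hx⟩).asIdeal.primeCompl (germLin F x hx) := by
  letI := sectionModStalk F x hx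
  refine ⟨?_, ?_, ?_⟩
  · -- units
    rintro ⟨s, hs⟩
    have hs' : x ∈ X.basicOpen s := (mem_basicOpen_iff_notMem_primeIdealOf hU x hx s).mpr hs
    have hu : IsUnit (X.presheaf.germ U x hx s) := (X.mem_basicOpen s x hx).mp hs'
    rw [Module.End.isUnit_iff]
    obtain ⟨u, hu⟩ := hu
    constructor
    · intro a b hab
      have hab' : X.presheaf.germ U x hx s • a = X.presheaf.germ U x hx s • b := hab
      rw [← hu] at hab'
      have := congrArg (fun z => (↑u⁻¹ : X.presheaf.stalk x) • z) hab'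
      simpa [smul_smul] using this
    · intro b
      refine ⟨(↑u⁻¹ : X.presheaf.stalk x) • b, ?_⟩
      change X.presheaf.germ U x hx s • ((↑u⁻¹ : X.presheaf.stalk x) • b) = b
      rw [← hu, smul_smul]
      simp
  · -- surjectivity
    intro y
    obtain ⟨V, hVU, hxV, t, rfl⟩ := TopCat.Presheaf.exists_le_germ_eq F.presheaf y hx
    obtain ⟨f, hfV, hxf⟩ := hU.exists_basicOpen_le ⟨x, hxV⟩ hx
    obtain ⟨n, m, hnm⟩ := exists_pow_smul_eq_res hU F f (F.presheaf.map (homOfLE hfV).op t)
    have hfp : f ^ n ∈ (hU.primeIdealOf ⟨x, hx⟩).asIdeal.primeCompl :=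
      Submonoid.pow_mem _ ((mem_basicOpen_iff_notMem_primeIdealOf hU x hx f).mp hxf) n
    refine ⟨⟨m, ⟨f ^ n, hfp⟩⟩, ?_⟩
    change X.presheaf.germ U x hx (f ^ n) • F.presheaf.germ V x hxV t = F.presheaf.germ U x hx m
    have h1 := congrArg (F.presheaf.germ (X.basicOpen f) x hxf) hnm
    rw [germ_smul] at h1
    erw [TopCat.Presheaf.germ_res_apply, TopCat.Presheaf.germ_res_apply,
      TopCat.Presheaf.germ_res_apply] at h1
    exact h1
  · -- kernel
    intro m₁ m₂ h
    have h' : F.presheaf.germ U x hx m₁ = F.presheaf.germ U x hx m₂ := h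
    obtain ⟨W, hxW, i₁, i₂, hW⟩ := TopCat.Presheaf.germ_eq F.presheaf x hx hx m₁ m₂ h'
    obtain ⟨f, hfW, hxf⟩ := hU.exists_basicOpen_le ⟨x, hxW⟩ hx
    have hz : F.presheaf.map (homOfLE (X.basicOpen_le f)).op (m₁ - m₂) = 0 := by
      rw [map_sub, sub_eq_zero]
      have e1 : F.presheaf.map (homOfLE (X.basicOpen_le f)).op m₁ =
          F.presheaf.map (homOfLE hfW).op (F.presheaf.map i₁.op m₁) := by
        rw [← ConcreteCategory.comp_apply, ← Functor.map_comp]; rfl
      have e2 : F.presheaf.map (homOfLE (X.basicOpen_le f)).op m₂ =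
          F.presheaf.map (homOfLE hfW).op (F.presheaf.map i₂.op m₂) := by
        rw [← ConcreteCategory.comp_apply, ← Functor.map_comp]; rfl
      rw [e1, e2, hW]
    obtain ⟨n, hn⟩ := exists_pow_smul_eq_zero hU F f (m₁ - m₂) hz
    have hfp : f ^ n ∈ (hU.primeIdealOf ⟨x, hx⟩).asIdeal.primeCompl :=
      Submonoid.pow_mem _ ((mem_basicOpen_iff_notMem_primeIdealOf hU x hx f).mp hxf) n
    refine ⟨⟨f ^ n, hfp⟩, ?_⟩
    change f ^ n • m₁ = f ^ n • m₂
    rw [smul_sub, sub_eq_zero] at hn
    exact hn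



/-- any scalar and any element of a stalk come from a common open -/
theorem exists_common (F : X.Modules) (x : X) (r : X.presheaf.stalk x) (m : F.presheaf.stalk x) :
    ∃ (W : X.Opens) (hx : x ∈ W) (r₀ : Γ(X, W)) (m₀ : Γ(F, W)),
      X.presheaf.germ W x hx r₀ = r ∧ F.presheaf.germ W x hx m₀ = m := by
  obtain ⟨U, hxU, r₀, rfl⟩ := TopCat.Presheaf.exists_germ_eq X.presheaf r
  obtain ⟨V, hxV, m₀, rfl⟩ := TopCat.Presheaf.exists_germ_eq F.presheaf m
  refine ⟨U ⊓ V, ⟨hxU, hxV⟩, X.presheaf.map (homOfLE inf_le_left).op r₀,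
    F.presheaf.map (homOfLE inf_le_right).op m₀, ?_, ?_⟩
  · exact TopCat.Presheaf.germ_res_apply X.presheaf (homOfLE inf_le_left) x ⟨hxU, hxV⟩ r₀
  · exact TopCat.Presheaf.germ_res_apply F.presheaf (homOfLE inf_le_right) x ⟨hxU, hxV⟩ m₀

/-- the stalk map of a morphism of modules, as a linear map over the local ring -/
noncomputable def stalkLin {F G : X.Modules} (φ : F ⟶ G) (x : X) :
    F.presheaf.stalk x →ₗ[X.presheaf.stalk x] G.presheaf.stalk x where
  toFun := ((TopCat.Presheaf.stalkFunctor Ab x).map φ.mapPresheaf).hom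
  map_add' := map_add _
  map_smul' r m := by
    obtain ⟨W, hx, r₀, m₀, rfl, rfl⟩ := exists_common F x r m
    rw [← germ_smul]
    simp only [RingHom.id_apply]
    erw [TopCat.Presheaf.stalkFunctor_map_germ_apply, TopCat.Presheaf.stalkFunctor_map_germ_apply]
    rw [← germ_smul]
    congr 1
    exact Scheme.Modules.Hom.app_smul φ r₀ m₀

theorem stalkLin_apply {F G : X.Modules} (φ : F ⟶ G) (x : X) (m : F.presheaf.stalk x) :
    stalkLin φ x m = ((TopCat.Presheaf.stalkFunctor Ab x).map φ.mapPresheaf).hom m := rfl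


end Groth.Agent.Helper4.StalkDict
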