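import Mathlib
import Groth.Agent.Helper4.StalkDict
import Groth.Agent.Helper4.AssAlg
import Groth.Agent.Helper4.FTLocal
import Groth.Prelude.Def_CurvBase

set_option autoImplicit false
universe u
open CategoryTheory CategoryTheory.Limits AlgebraicGeometry TopologicalSpace Opposite Submodule

namespace Groth.Agent.Helper4.AssDict
open Groth.Agent.Helper4.StalkDict Groth.Agent.Helper4

section


variable {X : Scheme.{u}}

theorem isAssPoint_iff_isWeakAssPoint (F : X.Modules) (x : X) :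
    Curv2.IsAssPoint F x ↔ Curv2.IsWeakAssPoint F x := by
  have hcol : ∀ m : F.presheaf.stalk x,
      (colon (⊥ : Submodule (X.presheaf.stalk x) (F.presheaf.stalk x)) {m} : Ideal _) =
        LinearMap.ker (LinearMap.toSpanSingleton (X.presheaf.stalk x) (F.presheaf.stalk x) m) := by
    intro m
    ext r
    rw [mem_colon_singleton, mem_bot, LinearMap.mem_ker, LinearMap.toSpanSingleton_apply]
  constructor
  · rintro ⟨_, m, hm⟩
    exact ⟨m, by rw [← hcol, ← hm]⟩
  · rintro ⟨m, hm⟩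
    exact ⟨inferInstance, m, by rw [hcol, hm]⟩

variable {U : X.Opens} (hU : IsAffineOpen U) (F : X.Modules)

include hU in
set_option backward.isDefEq.respectTransparency false in
theorem isAssPoint_iff_exists_minimalPrimes [F.IsQuasicoherent] (x : X) (hx : x ∈ U) :
    Curv2.IsAssPoint F x ↔ ∃ m : Γ(F, U), (hU.primeIdealOf ⟨x, hx⟩).asIdeal ∈
      (colon (⊥ : Submodule Γ(X, U) Γ(F, U)) {m} : Ideal Γ(X, U)).minimalPrimes := by
  letI := sectionModStalk F x hx
  letI := X.presheaf.algebra_section_stalk ⟨x, hx⟩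
  haveI := hU.isLocalization_stalk ⟨x, hx⟩
  haveI := isLocalizedModule_germ hU F x hx
  haveI : IsScalarTower Γ(X, U) (X.presheaf.stalk x) (F.presheaf.stalk x) :=
    IsScalarTower.of_algebraMap_smul (fun r m => rfl)
  exact AssAlg.isAssociatedPrime_maximalIdeal_iff (hU.primeIdealOf ⟨x, hx⟩).asIdeal
    (X.presheaf.stalk x) (germLin F x hx)




end

section


variable {X : Scheme.{u}}

theorem section_eq_zero_of_germ (F : X.Modules) (V : X.Opens) (s : Γ(F, V))
    (h : ∀ x (hx : x ∈ V), F.presheaf.germ V x hx s = 0) : s = 0 := by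
  have hsh : TopCat.Presheaf.IsSheaf F.presheaf := F.isSheaf
  apply TopCat.Presheaf.section_ext ⟨F.presheaf, hsh⟩ V s 0
  intro x hx
  rw [map_zero]
  exact h x hx

theorem isZero_of_subsingleton_stalks (F : X.Modules)
    (h : ∀ x, Subsingleton (F.presheaf.stalk x)) : IsZero F := by
  rw [IsZero.iff_id_eq_zero]
  apply Scheme.Modules.hom_ext
  intro V
  ext s
  change s = 0
  apply section_eq_zero_of_germ
  intro x hx
  exact Subsingleton.elim _ _




end

section


variable {X : Scheme.{u}} {U : X.Opens} (hU : IsAffineOpen U) (F : X.Modules)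

include hU in
theorem fromSpec_mem (p : PrimeSpectrum Γ(X, U)) : hU.fromSpec p ∈ U := by
  have : hU.fromSpec p ∈ Set.range hU.fromSpec := ⟨p, rfl⟩
  rw [hU.range_fromSpec] at this
  exact this

theorem primeIdealOf_fromSpec (p : PrimeSpectrum Γ(X, U)) :
    hU.primeIdealOf ⟨hU.fromSpec p, fromSpec_mem hU p⟩ = p := by
  apply hU.fromSpec.isOpenEmbedding.injective
  exact hU.fromSpec_primeIdealOf ⟨hU.fromSpec p, fromSpec_mem hU p⟩

include hU in
set_option backward.isDefEq.respectTransparency false in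
theorem germ_eq_zero_iff [F.IsQuasicoherent] (x : X) (hx : x ∈ U) (m : Γ(F, U)) :
    F.presheaf.germ U x hx m = 0 ↔
      ¬ (colon (⊥ : Submodule Γ(X, U) Γ(F, U)) {m} : Ideal Γ(X, U)) ≤
        (hU.primeIdealOf ⟨x, hx⟩).asIdeal := by
  letI := sectionModStalk F x hx
  haveI := isLocalizedModule_germ hU F x hx
  have := IsLocalizedModule.eq_zero_iff (hU.primeIdealOf ⟨x, hx⟩).asIdeal.primeCompl
    (germLin F x hx) (m := m)
  rw [germLin_apply] at this
  rw [this, SetLike.not_le_iff_exists]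
  constructor
  · rintro ⟨c, hc⟩
    exact ⟨c.1, by rw [mem_colon_singleton, mem_bot]; exact hc, c.2⟩
  · rintro ⟨c, hc, hcp⟩
    exact ⟨⟨c, hcp⟩, by rw [mem_colon_singleton, mem_bot] at hc; exact hc⟩

include hU in
theorem exists_isAssPoint_le [F.IsQuasicoherent] (m : Γ(F, U)) (q : PrimeSpectrum Γ(X, U))
    (hq : (colon (⊥ : Submodule Γ(X, U) Γ(F, U)) {m} : Ideal Γ(X, U)) ≤ q.asIdeal) :
    ∃ (x : X) (hx : x ∈ U), Curv2.IsAssPoint F x ∧
      (hU.primeIdealOf ⟨x, hx⟩).asIdeal ∈
        (colon (⊥ : Submodule Γ(X, U) Γ(F, U)) {m} : Ideal Γ(X, U)).minimalPrimes ∧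
      hU.primeIdealOf ⟨x, hx⟩ ≤ q := by
  obtain ⟨p, hp, hpq⟩ := Ideal.exists_minimalPrimes_le hq
  have hpp : p.IsPrime := hp.1.1
  refine ⟨hU.fromSpec ⟨p, hpp⟩, fromSpec_mem hU _, ?_, ?_, ?_⟩
  · rw [isAssPoint_iff_exists_minimalPrimes hU F _ (fromSpec_mem hU _)]
    refine ⟨m, ?_⟩
    rw [primeIdealOf_fromSpec]
    exact hp
  · rw [primeIdealOf_fromSpec]; exact hp
  · rw [primeIdealOf_fromSpec]; exact hpq

include hU in
theorem exists_isAssPoint_of_ne_zero [F.IsQuasicoherent] (m : Γ(F, U)) (hm : m ≠ 0) :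
    ∃ (x : X) (hx : x ∈ U), Curv2.IsAssPoint F x ∧
      (hU.primeIdealOf ⟨x, hx⟩).asIdeal ∈
        (colon (⊥ : Submodule Γ(X, U) Γ(F, U)) {m} : Ideal Γ(X, U)).minimalPrimes := by
  have hne : (colon (⊥ : Submodule Γ(X, U) Γ(F, U)) {m} : Ideal Γ(X, U)) ≠ ⊤ := by
    intro h
    apply hm
    have : (1 : Γ(X, U)) ∈ (colon (⊥ : Submodule Γ(X, U) Γ(F, U)) {m} : Ideal Γ(X, U)) := by
      rw [h]; trivial
    rw [mem_colon_singleton, mem_bot, one_smul] at this
    exact this
  obtain ⟨M, hM, hIM⟩ := Ideal.exists_le_maximal _ hne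
  obtain ⟨x, hx, h1, h2, -⟩ := exists_isAssPoint_le hU F m ⟨M, hM.isPrime⟩ hIM
  exact ⟨x, hx, h1, h2⟩




end

section


variable {X : Scheme.{u}}

theorem not_isAssPoint_of_subsingleton (F : X.Modules) (x : X)
    (h : Subsingleton (F.presheaf.stalk x)) : ¬ Curv2.IsAssPoint F x :=
  not_isAssociatedPrime_of_subsingleton

set_option backward.isDefEq.respectTransparency false in
theorem subsingleton_stalk_of_sections_eq_zero (F : X.Modules) [F.IsQuasicoherent] {U : X.Opens}
    (hU : IsAffineOpen U) (h : ∀ m : Γ(F, U), m = 0) (x : X) (hx : x ∈ U) :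
    Subsingleton (F.presheaf.stalk x) := by
  letI := sectionModStalk F x hx
  haveI := isLocalizedModule_germ hU F x hx
  refine ⟨fun a b => ?_⟩
  obtain ⟨⟨m, s⟩, rfl⟩ := IsLocalizedModule.mk'_surjective
    (hU.primeIdealOf ⟨x, hx⟩).asIdeal.primeCompl (germLin F x hx) a
  obtain ⟨⟨m', s'⟩, rfl⟩ := IsLocalizedModule.mk'_surjective
    (hU.primeIdealOf ⟨x, hx⟩).asIdeal.primeCompl (germLin F x hx) b
  simp only [Function.uncurry_apply_pair]
  rw [h m, h m', IsLocalizedModule.mk'_zero, IsLocalizedModule.mk'_zero]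

theorem isZero_iff_no_assPoint (F : X.Modules) [F.IsQuasicoherent] :
    IsZero F ↔ ∀ x : X, ¬ Curv2.IsAssPoint F x := by
  constructor
  · intro h x
    exact not_isAssPoint_of_subsingleton F x
      (Groth.Agent.Helper4.FTLocal.subsingleton_stalk_of_isZero F h x)
  · intro h
    apply isZero_of_subsingleton_stalks
    intro x
    obtain ⟨_, ⟨V, hV : IsAffineOpen V, rfl⟩, hxV, -⟩ :=
      X.isBasis_affineOpens.exists_subset_of_mem_open (Set.mem_univ x) isOpen_univ
    apply subsingleton_stalk_of_sections_eq_zero F hV _ x hxV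
    intro m
    by_contra hm
    obtain ⟨y, hy, hass, -⟩ := exists_isAssPoint_of_ne_zero hV F m hm
    exact h y hass



end

end Groth.Agent.Helper4.AssDict
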