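import Mathlib
import Groth.Agent.Helper4.StalkDict
import Groth.Agent.Helper4.AssDict

set_option autoImplicit false
universe u
open CategoryTheory CategoryTheory.Limits AlgebraicGeometry TopologicalSpace Opposite Submodule

namespace Groth.Agent.Helper4.QcqsMod
open Groth.Agent.Helper4.StalkDict Groth.Agent.Helper4

variable {X : Scheme.{u}}

/-- `F` is localizing on the open `U`: sections over basic opens `X.basicOpen f`, `f ∈ Γ(X, U)`,
are the localization of `Γ(F, U)` away from `f`. -/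
structure IsLocalizingOn (F : X.Modules) (U : X.Opens) : Prop where
  zero : ∀ (f : Γ(X, U)) (m : Γ(F, U)),
    F.presheaf.map (homOfLE (X.basicOpen_le f)).op m = 0 → ∃ n : ℕ, f ^ n • m = 0
  surj : ∀ (f : Γ(X, U)) (t : Γ(F, X.basicOpen f)), ∃ (n : ℕ) (m : Γ(F, U)),
    (X.presheaf.map (homOfLE (X.basicOpen_le f)).op (f ^ n)) • t =
      F.presheaf.map (homOfLE (X.basicOpen_le f)).op m

theorem isLocalizingOn_of_isAffineOpen (F : X.Modules) [F.IsQuasicoherent] {U : X.Opens}
    (hU : IsAffineOpen U) : IsLocalizingOn F U :=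
  ⟨fun f m hm => exists_pow_smul_eq_zero hU F f m hm, fun f t => exists_pow_smul_eq_res hU F f t⟩

/-- two sections of a module are equal if they have the same germs -/
theorem section_ext (F : X.Modules) (V : X.Opens) (s t : Γ(F, V))
    (h : ∀ x (hx : x ∈ V), F.presheaf.germ V x hx s = F.presheaf.germ V x hx t) : s = t := by
  rw [← sub_eq_zero]
  apply AssDict.section_eq_zero_of_germ
  intro x hx
  rw [map_sub, h x hx, sub_self]

theorem germ_res (F : X.Modules) {V W : X.Opens} (hWV : W ≤ V) (x : X) (hx : x ∈ W) (s : Γ(F, V)) :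
    F.presheaf.germ W x hx (F.presheaf.map (homOfLE hWV).op s) = F.presheaf.germ V x (hWV hx) s :=
  TopCat.Presheaf.germ_res_apply F.presheaf (homOfLE hWV) x hx s

theorem germ_resO {V W : X.Opens} (hWV : W ≤ V) (x : X) (hx : x ∈ W) (s : Γ(X, V)) :
    X.presheaf.germ W x hx (X.presheaf.map (homOfLE hWV).op s) = X.presheaf.germ V x (hWV hx) s :=
  TopCat.Presheaf.germ_res_apply X.presheaf (homOfLE hWV) x hx s

/-- (b') for quasi-compact opens -/
theorem exists_pow_smul_eq_zero_of_isCompact (F : X.Modules) [F.IsQuasicoherent] {U : X.Opens}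
    (hU : IsCompact (U : Set X)) (f : Γ(X, U)) (m : Γ(F, U))
    (hm : F.presheaf.map (homOfLE (X.basicOpen_le f)).op m = 0) : ∃ n : ℕ, f ^ n • m = 0 := by
  obtain ⟨s, hs, e⟩ := isCompact_iff_finite_and_eq_biUnion_affineOpens.mp hU
  have hsU : ∀ i ∈ s, (i : X.Opens) ≤ U := by
    intro i hi
    rw [e]
    exact le_iSup₂ (f := fun (i : X.affineOpens) (_ : i ∈ s) => (i : X.Opens)) i hi
  have key : ∀ i : s, ∃ n : ℕ, ∀ x (hx : x ∈ (i.1 : X.Opens)),
      X.presheaf.germ U x (hsU i.1 i.2 hx) f ^ n • F.presheaf.germ U x (hsU i.1 i.2 hx) m = 0 := by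
    rintro ⟨i, hi⟩
    set fi : Γ(X, (i : X.Opens)) := X.presheaf.map (homOfLE (hsU i hi)).op f with hfi
    set mi : Γ(F, (i : X.Opens)) := F.presheaf.map (homOfLE (hsU i hi)).op m with hmi
    have hle : X.basicOpen fi ≤ X.basicOpen f := by
      rw [hfi, Scheme.basicOpen_res]; exact inf_le_right
    have h0 : F.presheaf.map (homOfLE (X.basicOpen_le fi)).op mi = 0 := by
      have : F.presheaf.map (homOfLE (X.basicOpen_le fi)).op mi =
          F.presheaf.map (homOfLE hle).op (F.presheaf.map (homOfLE (X.basicOpen_le f)).op m) := by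
        rw [hmi, ← ConcreteCategory.comp_apply, ← ConcreteCategory.comp_apply, ← Functor.map_comp,
          ← Functor.map_comp]
        rfl
      rw [this, hm, map_zero]
    obtain ⟨n, hn⟩ := exists_pow_smul_eq_zero i.2 F fi mi h0
    refine ⟨n, fun x hx => ?_⟩
    have := congrArg (F.presheaf.germ (i : X.Opens) x hx) hn
    rw [germ_smul, map_pow, map_zero, hfi, hmi, germ_resO, germ_res] at this
    exact this
  choose n hn using key
  haveI := hs.to_subtype
  cases nonempty_fintype s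
  refine ⟨Finset.univ.sup n, ?_⟩
  apply AssDict.section_eq_zero_of_germ
  intro x hx
  rw [e] at hx
  simp only [Opens.mem_iSup] at hx
  obtain ⟨i, hi, hxi⟩ := hx
  rw [germ_smul, map_pow]
  have hle : n ⟨i, hi⟩ ≤ Finset.univ.sup n := Finset.le_sup (Finset.mem_univ _)
  rw [← Nat.sub_add_cancel hle, pow_add, mul_smul]
  have := hn ⟨i, hi⟩ x hxi
  rw [this, smul_zero]


theorem germ_pow_smul_res (F : X.Modules) {U V : X.Opens} (hVU : V ≤ U) (x : X) (hx : x ∈ V)
    (f : Γ(X, U)) (n : ℕ) (m : Γ(F, V)) :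
    F.presheaf.germ V x hx ((X.presheaf.map (homOfLE hVU).op f) ^ n • m) =
      X.presheaf.germ U x (hVU hx) f ^ n • F.presheaf.germ V x hx m := by
  rw [germ_smul, map_pow, germ_resO]

/-- (a') for quasi-compact quasi-separated opens (the qcqs lemma for modules) -/
theorem exists_pow_smul_eq_res_of_qcqs (F : X.Modules) [F.IsQuasicoherent] {U : X.Opens}
    (hU : IsCompact (U : Set X)) (hU' : IsQuasiSeparated (U : Set X)) (f : Γ(X, U))
    (t : Γ(F, X.basicOpen f)) :
    ∃ (n : ℕ) (m : Γ(F, U)),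
      (X.presheaf.map (homOfLE (X.basicOpen_le f)).op (f ^ n)) • t =
        F.presheaf.map (homOfLE (X.basicOpen_le f)).op m := by
  obtain ⟨s, hs, e⟩ := isCompact_iff_finite_and_eq_biUnion_affineOpens.mp hU
  have hsU : ∀ i : s, (i.1 : X.Opens) ≤ U := by
    rintro ⟨i, hi⟩
    rw [e]
    exact le_iSup₂ (f := fun (i : X.affineOpens) (_ : i ∈ s) => (i : X.Opens)) i hi
  have hD : X.basicOpen f ≤ U := X.basicOpen_le f
  -- Step 1
  have step1 : ∀ i : s, ∃ (n : ℕ) (mi : Γ(F, (i.1 : X.Opens))),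
      ∀ x (hxi : x ∈ (i.1 : X.Opens)) (hxf : x ∈ X.basicOpen f),
        X.presheaf.germ U x (hD hxf) f ^ n • F.presheaf.germ (X.basicOpen f) x hxf t =
          F.presheaf.germ (i.1 : X.Opens) x hxi mi := by
    intro i
    have hbo : X.basicOpen (X.presheaf.map (homOfLE (hsU i)).op f) =
        (i.1 : X.Opens) ⊓ X.basicOpen f := by
      rw [Scheme.basicOpen_res]
    have hle : X.basicOpen (X.presheaf.map (homOfLE (hsU i)).op f) ≤ X.basicOpen f := by
      rw [hbo]; exact inf_le_right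
    obtain ⟨n, mi, hn⟩ := exists_pow_smul_eq_res i.1.2 F (X.presheaf.map (homOfLE (hsU i)).op f)
      (F.presheaf.map (homOfLE hle).op t)
    refine ⟨n, mi, fun x hxi hxf => ?_⟩
    have hx : x ∈ X.basicOpen (X.presheaf.map (homOfLE (hsU i)).op f) := by
      rw [hbo]; exact ⟨hxi, hxf⟩
    have h1 := congrArg (F.presheaf.germ _ x hx) hn
    rw [germ_smul, germ_res, germ_res, germ_resO, map_pow, germ_resO] at h1
    exact h1
  choose n mi hmi using step1
  haveI := hs.to_subtype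
  cases nonempty_fintype s
  -- Step 2
  obtain ⟨N, hN⟩ : ∃ N, N = Finset.univ.sup n := ⟨_, rfl⟩
  obtain ⟨mi', hmi'def⟩ : ∃ mi' : ∀ i : s, Γ(F, (i.1 : X.Opens)), mi' = fun i =>
    (X.presheaf.map (homOfLE (hsU i)).op f) ^ (N - n i) • mi i := ⟨_, rfl⟩
  have hmi' : ∀ (i : s) x (hxi : x ∈ (i.1 : X.Opens)) (hxf : x ∈ X.basicOpen f),
      X.presheaf.germ U x (hD hxf) f ^ N • F.presheaf.germ (X.basicOpen f) x hxf t =
        F.presheaf.germ (i.1 : X.Opens) x hxi (mi' i) := by
    intro i x hxi hxf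
    have hle : n i ≤ N := hN ▸ Finset.le_sup (Finset.mem_univ _)
    rw [hmi'def, germ_pow_smul_res, ← hmi i x hxi hxf, ← mul_smul, ← pow_add,
      Nat.sub_add_cancel hle]
  -- Step 3
  have step3 : ∀ p : s × s, ∃ k : ℕ, ∀ x (hxi : x ∈ (p.1.1 : X.Opens)) (hxj : x ∈ (p.2.1 : X.Opens)),
      X.presheaf.germ U x (hsU p.1 hxi) f ^ k •
        (F.presheaf.germ (p.1.1 : X.Opens) x hxi (mi' p.1) -
          F.presheaf.germ (p.2.1 : X.Opens) x hxj (mi' p.2)) = 0 := by
    rintro ⟨i, j⟩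
    have hWc : IsCompact (((i.1 : X.Opens) ⊓ (j.1 : X.Opens) : X.Opens) : Set X) :=
      hU' _ _ (hsU i) (i.1 : X.Opens).isOpen i.1.2.isCompact (hsU j) (j.1 : X.Opens).isOpen
        j.1.2.isCompact
    have hWU : (i.1 : X.Opens) ⊓ (j.1 : X.Opens) ≤ U := inf_le_left.trans (hsU i)
    have hbo : X.basicOpen (X.presheaf.map (homOfLE hWU).op f) =
        ((i.1 : X.Opens) ⊓ (j.1 : X.Opens)) ⊓ X.basicOpen f := by
      rw [Scheme.basicOpen_res]
    have hd0 : F.presheaf.map (homOfLE (X.basicOpen_le (X.presheaf.map (homOfLE hWU).op f))).op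
        (F.presheaf.map (homOfLE (inf_le_left : (i.1 : X.Opens) ⊓ (j.1 : X.Opens) ≤ i.1)).op (mi' i) -
          F.presheaf.map (homOfLE (inf_le_right : (i.1 : X.Opens) ⊓ (j.1 : X.Opens) ≤ j.1)).op
            (mi' j)) = 0 := by
      apply AssDict.section_eq_zero_of_germ
      intro x hx
      have hx' : x ∈ ((i.1 : X.Opens) ⊓ (j.1 : X.Opens)) ⊓ X.basicOpen f := hbo ▸ hx
      rw [germ_res, map_sub, germ_res, germ_res, ← hmi' i x hx'.1.1 hx'.2,
        ← hmi' j x hx'.1.2 hx'.2, sub_self]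
    obtain ⟨k, hk⟩ := exists_pow_smul_eq_zero_of_isCompact F hWc _ _ hd0
    refine ⟨k, fun x hxi hxj => ?_⟩
    have hxij : x ∈ (i.1 : X.Opens) ⊓ (j.1 : X.Opens) := Opens.mem_inf.mpr ⟨hxi, hxj⟩
    have h1 := congrArg (F.presheaf.germ ((i.1 : X.Opens) ⊓ (j.1 : X.Opens)) x hxij) hk
    rw [germ_pow_smul_res, map_zero, map_sub, germ_res, germ_res] at h1
    exact h1
  choose k hk using step3
  obtain ⟨K, hK⟩ : ∃ K, K = Finset.univ.sup k := ⟨_, rfl⟩
  obtain ⟨mi'', hmi''def⟩ : ∃ mi'' : ∀ i : s, Γ(F, (i.1 : X.Opens)), mi'' = fun i =>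
    (X.presheaf.map (homOfLE (hsU i)).op f) ^ K • mi' i := ⟨_, rfl⟩
  have hmi'' : ∀ (i : s) x (hxi : x ∈ (i.1 : X.Opens)),
      F.presheaf.germ (i.1 : X.Opens) x hxi (mi'' i) =
        X.presheaf.germ U x (hsU i hxi) f ^ K • F.presheaf.germ (i.1 : X.Opens) x hxi (mi' i) := by
    intro i x hxi
    rw [hmi''def, germ_pow_smul_res]
  have hcompat : TopCat.Presheaf.IsCompatible F.presheaf (fun i : s => (i.1 : X.Opens)) mi'' := by
    intro i j
    apply section_ext
    intro x hx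
    have hxi : x ∈ (i.1 : X.Opens) := hx.1
    have hxj : x ∈ (j.1 : X.Opens) := hx.2
    have e1 := germ_res F (inf_le_left : (i.1 : X.Opens) ⊓ (j.1 : X.Opens) ≤ i.1) x hx (mi'' i)
    have e2 := germ_res F (inf_le_right : (i.1 : X.Opens) ⊓ (j.1 : X.Opens) ≤ j.1) x hx (mi'' j)
    refine e1.trans (Eq.trans ?_ e2.symm)
    rw [hmi'' i x hxi, hmi'' j x hxj, ← sub_eq_zero, ← smul_sub]
    have hle : k (i, j) ≤ K := hK ▸ Finset.le_sup (Finset.mem_univ _)
    rw [← Nat.sub_add_cancel hle, pow_add, mul_smul, hk (i, j) x hxi hxj, smul_zero]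
  have hsh : TopCat.Presheaf.IsSheaf F.presheaf := F.isSheaf
  have hcover : U ≤ iSup (fun i : s => (i.1 : X.Opens)) := by
    rw [e]
    apply iSup₂_le
    intro i hi
    exact le_iSup (fun i : s => (i.1 : X.Opens)) ⟨i, hi⟩
  obtain ⟨m, hm, -⟩ := TopCat.Sheaf.existsUnique_gluing' (⟨F.presheaf, hsh⟩ : TopCat.Sheaf Ab X)
    (fun i : s => (i.1 : X.Opens)) U (fun i => homOfLE (hsU i)) hcover mi'' hcompat
  refine ⟨N + K, m, ?_⟩
  apply section_ext
  intro x hxf
  have hxU : x ∈ U := hD hxf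
  have hxU' := hxU
  rw [e] at hxU'
  simp only [Opens.mem_iSup] at hxU'
  obtain ⟨i, hi, hxi⟩ := hxU'
  rw [germ_smul, germ_resO, germ_res, map_pow]
  have h1 : F.presheaf.germ U x hxU m = F.presheaf.germ (i : X.Opens) x hxi (mi'' ⟨i, hi⟩) := by
    rw [← hm ⟨i, hi⟩]
    exact (germ_res F (hsU ⟨i, hi⟩) x hxi m).symm
  rw [h1, hmi'' ⟨i, hi⟩ x hxi, ← hmi' ⟨i, hi⟩ x hxi hxf, ← mul_smul, ← pow_add, add_comm]

theorem isLocalizingOn_of_qcqs (F : X.Modules) [F.IsQuasicoherent] {U : X.Opens}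
    (hU : IsCompact (U : Set X)) (hU' : IsQuasiSeparated (U : Set X)) : IsLocalizingOn F U :=
  ⟨fun f m hm => exists_pow_smul_eq_zero_of_isCompact F hU f m hm,
    fun f t => exists_pow_smul_eq_res_of_qcqs F hU hU' f t⟩

set_option backward.isDefEq.respectTransparency false in
/-- **Stalk dictionary**, general form: if `F` is localizing on the affine open `U`, the stalk at
`x ∈ U` is the localization of `Γ(F, U)` at the prime of `x`. -/
theorem isLocalizedModule_germ_of_isLocalizingOn (F : X.Modules) {U : X.Opens}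
    (hU : IsAffineOpen U) (hloc : IsLocalizingOn F U) (x : X) (hx : x ∈ U) :
    letI := sectionModStalk F x hx
    IsLocalizedModule (hU.primeIdealOf ⟨x, hx⟩).asIdeal.primeCompl (germLin F x hx) := by
  letI := sectionModStalk F x hx
  refine ⟨?_, ?_, ?_⟩
  · rintro ⟨s, hs⟩
    have hs' : x ∈ X.basicOpen s := (mem_basicOpen_iff_notMem_primeIdealOf hU x hx s).mpr hs
    have hu : IsUnit (X.presheaf.germ U x hx s) := (X.mem_basicOpen s x hx).mp hs'
    rw [Module.End.isUnit_iff]
    obtain ⟨u, hu⟩ := hu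
    constructor
    · intro a b hab
      have hab' : X.presheaf.germ U x hx s • a = X.presheaf.germ U x hx s • b := hab
      rw [← hu] at hab'
      have := congrArg (fun z => (↑u⁻¹ : X.presheaf.stalk x) • z) hab'
      simpa [smul_smul] using this
    · intro b
      refine ⟨(↑u⁻¹ : X.presheaf.stalk x) • b, ?_⟩
      change X.presheaf.germ U x hx s • ((↑u⁻¹ : X.presheaf.stalk x) • b) = b
      rw [← hu, smul_smul]
      simp
  · intro y
    obtain ⟨V, hVU, hxV, t, rfl⟩ := TopCat.Presheaf.exists_le_germ_eq F.presheaf y hx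
    obtain ⟨f, hfV, hxf⟩ := hU.exists_basicOpen_le ⟨x, hxV⟩ hx
    obtain ⟨n, m, hnm⟩ := hloc.surj f (F.presheaf.map (homOfLE hfV).op t)
    have hfp : f ^ n ∈ (hU.primeIdealOf ⟨x, hx⟩).asIdeal.primeCompl :=
      Submonoid.pow_mem _ ((mem_basicOpen_iff_notMem_primeIdealOf hU x hx f).mp hxf) n
    refine ⟨⟨m, ⟨f ^ n, hfp⟩⟩, ?_⟩
    change X.presheaf.germ U x hx (f ^ n) • F.presheaf.germ V x hxV t = F.presheaf.germ U x hx m
    have h1 := congrArg (F.presheaf.germ (X.basicOpen f) x hxf) hnm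
    rw [germ_smul] at h1
    erw [TopCat.Presheaf.germ_res_apply, TopCat.Presheaf.germ_res_apply,
      TopCat.Presheaf.germ_res_apply] at h1
    exact h1
  · intro m₁ m₂ h
    have h' : F.presheaf.germ U x hx m₁ = F.presheaf.germ U x hx m₂ := h
    obtain ⟨W, hxW, i₁, i₂, hW⟩ := TopCat.Presheaf.germ_eq F.presheaf x hx hx m₁ m₂ h'
    obtain ⟨f, hfW, hxf⟩ := hU.exists_basicOpen_le ⟨x, hxW⟩ hx
    have hz : F.presheaf.map (homOfLE (X.basicOpen_le f)).op (m₁ - m₂) = 0 := by
      rw [map_sub, sub_eq_zero]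
      have e1 : F.presheaf.map (homOfLE (X.basicOpen_le f)).op m₁ =
          F.presheaf.map (homOfLE hfW).op (F.presheaf.map i₁.op m₁) := by
        rw [← ConcreteCategory.comp_apply, ← Functor.map_comp]; rfl
      have e2 : F.presheaf.map (homOfLE (X.basicOpen_le f)).op m₂ =
          F.presheaf.map (homOfLE hfW).op (F.presheaf.map i₂.op m₂) := by
        rw [← ConcreteCategory.comp_apply, ← Functor.map_comp]; rfl
      rw [e1, e2, hW]
    obtain ⟨n, hn⟩ := hloc.zero f (m₁ - m₂) hz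
    have hfp : f ^ n ∈ (hU.primeIdealOf ⟨x, hx⟩).asIdeal.primeCompl :=
      Submonoid.pow_mem _ ((mem_basicOpen_iff_notMem_primeIdealOf hU x hx f).mp hxf) n
    refine ⟨⟨f ^ n, hfp⟩, ?_⟩
    change f ^ n • m₁ = f ^ n • m₂
    rw [smul_sub, sub_eq_zero] at hn
    exact hn

set_option backward.isDefEq.respectTransparency false in
theorem isAssPoint_iff_exists_minimalPrimes' (F : X.Modules) {U : X.Opens} (hU : IsAffineOpen U)
    (hloc : IsLocalizingOn F U) (x : X) (hx : x ∈ U) :
    Curv2.IsAssPoint F x ↔ ∃ m : Γ(F, U), (hU.primeIdealOf ⟨x, hx⟩).asIdeal ∈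
      (colon (⊥ : Submodule Γ(X, U) Γ(F, U)) {m} : Ideal Γ(X, U)).minimalPrimes := by
  letI := sectionModStalk F x hx
  letI := X.presheaf.algebra_section_stalk ⟨x, hx⟩
  haveI := hU.isLocalization_stalk ⟨x, hx⟩
  haveI := isLocalizedModule_germ_of_isLocalizingOn F hU hloc x hx
  haveI : IsScalarTower Γ(X, U) (X.presheaf.stalk x) (F.presheaf.stalk x) :=
    IsScalarTower.of_algebraMap_smul (fun r m => rfl)
  exact AssAlg.isAssociatedPrime_maximalIdeal_iff (hU.primeIdealOf ⟨x, hx⟩).asIdeal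
    (X.presheaf.stalk x) (germLin F x hx)

set_option backward.isDefEq.respectTransparency false in
theorem germ_eq_zero_iff' (F : X.Modules) {U : X.Opens} (hU : IsAffineOpen U)
    (hloc : IsLocalizingOn F U) (x : X) (hx : x ∈ U) (m : Γ(F, U)) :
    F.presheaf.germ U x hx m = 0 ↔
      ¬ (colon (⊥ : Submodule Γ(X, U) Γ(F, U)) {m} : Ideal Γ(X, U)) ≤
        (hU.primeIdealOf ⟨x, hx⟩).asIdeal := by
  letI := sectionModStalk F x hx
  haveI := isLocalizedModule_germ_of_isLocalizingOn F hU hloc x hx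
  have := IsLocalizedModule.eq_zero_iff (hU.primeIdealOf ⟨x, hx⟩).asIdeal.primeCompl
    (germLin F x hx) (m := m)
  rw [germLin_apply] at this
  rw [this, SetLike.not_le_iff_exists]
  constructor
  · rintro ⟨c, hc⟩
    exact ⟨c.1, by rw [mem_colon_singleton, mem_bot]; exact hc, c.2⟩
  · rintro ⟨c, hc, hcp⟩
    exact ⟨⟨c, hcp⟩, by rw [mem_colon_singleton, mem_bot] at hc; exact hc⟩

section Pushforward

variable {S : Scheme.{u}}

theorem pushforward_smul (f : X ⟶ S) (F : X.Modules) (V : S.Opens) (a : Γ(S, V))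
    (m : Γ((Scheme.Modules.pushforward f).obj F, V)) :
    (a • m : Γ((Scheme.Modules.pushforward f).obj F, V)) =
      ((f.app V a) • (show Γ(F, f ⁻¹ᵁ V) from m) : Γ(F, f ⁻¹ᵁ V)) := rfl

theorem preimage_basicOpen_eq (f : X ⟶ S) (V : S.Opens) (a : Γ(S, V)) :
    f ⁻¹ᵁ (S.basicOpen a) = X.basicOpen (f.app V a) := Scheme.preimage_basicOpen f a

/-- the pushforward of a module which is localizing on `f⁻¹ V` is localizing on `V`. -/
theorem isLocalizingOn_pushforward (f : X ⟶ S) (F : X.Modules) (V : S.Opens)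
    (h : IsLocalizingOn F (f ⁻¹ᵁ V)) :
    IsLocalizingOn ((Scheme.Modules.pushforward f).obj F) V := by
  constructor
  · intro a m hm
    have hm' : F.presheaf.map (homOfLE (X.basicOpen_le (f.app V a))).op
        (show Γ(F, f ⁻¹ᵁ V) from m) = 0 := by
      apply section_ext
      intro x hx
      rw [germ_res, map_zero]
      have hx' : x ∈ f ⁻¹ᵁ (S.basicOpen a) := by rw [preimage_basicOpen_eq]; exact hx
      have h1 := congrArg (F.presheaf.germ (f ⁻¹ᵁ (S.basicOpen a)) x hx') hm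
      exact ((germ_res F (f.preimage_mono (S.basicOpen_le a)) x hx' m).symm.trans h1).trans
        (map_zero _)
    obtain ⟨n, hn⟩ := h.zero (f.app V a) m hm'
    refine ⟨n, ?_⟩
    rw [pushforward_smul, map_pow]
    exact hn
  · intro a t
    have hle : X.basicOpen (f.app V a) ≤ f ⁻¹ᵁ (S.basicOpen a) :=
      (preimage_basicOpen_eq f V a).ge
    obtain ⟨n, m, hnm⟩ := h.surj (f.app V a)
      (F.presheaf.map (homOfLE hle).op (show Γ(F, f ⁻¹ᵁ (S.basicOpen a)) from t))
    refine ⟨n, m, ?_⟩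
    have hnat : f.app (S.basicOpen a) (S.presheaf.map (homOfLE (S.basicOpen_le a)).op (a ^ n)) =
        X.presheaf.map (homOfLE (f.preimage_mono (S.basicOpen_le a))).op (f.app V (a ^ n)) := by
      have := f.naturality (homOfLE (S.basicOpen_le a)).op
      exact congrArg (fun g => g.hom (a ^ n)) this
    rw [pushforward_smul, hnat]
    apply section_ext F
    intro x hx
    have hx' : x ∈ X.basicOpen (f.app V a) := by rw [← preimage_basicOpen_eq]; exact hx
    have h1 := congrArg (F.presheaf.germ (X.basicOpen (f.app V a)) x hx') hnm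
    rw [germ_smul, germ_resO, germ_res, germ_res] at h1
    rw [germ_smul, germ_resO, map_pow]
    refine h1.trans ?_
    exact (germ_res F (f.preimage_mono (S.basicOpen_le a)) x hx m).symm

/-- for `f` qcqs and `F` quasi-coherent, `f_* F` is localizing on every affine open. -/
theorem isLocalizingOn_pushforward_of_qcqs (f : X ⟶ S) [QuasiCompact f] [QuasiSeparated f]
    (F : X.Modules) [F.IsQuasicoherent] {V : S.Opens} (hV : IsAffineOpen V) :
    IsLocalizingOn ((Scheme.Modules.pushforward f).obj F) V := by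
  apply isLocalizingOn_pushforward
  apply isLocalizingOn_of_qcqs
  · exact QuasiCompact.isCompact_preimage (f := f) _ V.isOpen hV.isCompact
  · exact f.isQuasiSeparated_preimage hV.isQuasiSeparated

end Pushforward

end Groth.Agent.Helper4.QcqsMod
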