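import Mathlib
import Groth.Agent.Helper4.QcqsMod

set_option autoImplicit false
universe u
open CategoryTheory CategoryTheory.Limits AlgebraicGeometry TopologicalSpace Opposite Submodule

namespace Groth.Agent.Helper4.QcqsTilde
open Groth.Agent.Helper4.StalkDict Groth.Agent.Helper4 Groth.Agent.Helper4.QcqsMod

variable {R : CommRingCat.{u}}

theorem smul_Spec_eq (G : (Spec R).Modules) (U : (Spec R).Opens) (r : R) (t : Γ(G, U)) :
    r • t = ((Spec R).presheaf.map U.leTop.op ((Scheme.ΓSpecIso R).inv r)) • t := rfl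

theorem germ_smul_Spec (G : (Spec R).Modules) (U : (Spec R).Opens) (x : Spec R) (hx : x ∈ U)
    (r : R) (t : Γ(G, U)) :
    G.presheaf.germ U x hx (r • t) =
      (Spec R).presheaf.germ ⊤ x trivial ((Scheme.ΓSpecIso R).inv r) • G.presheaf.germ U x hx t := by
  rw [smul_Spec_eq, germ_smul]
  congr 1
  exact TopCat.Presheaf.germ_res_apply (Spec R).presheaf U.leTop x hx _

set_option backward.isDefEq.respectTransparency false in
theorem isLocalizing_of_isLocalizingOn_top (G : (Spec R).Modules)
    (h : IsLocalizingOn G ⊤) : IsLocalizing (modulesSpecToSheaf.obj G) := by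
  intro a
  set f : Γ(Spec R, ⊤) := (Scheme.ΓSpecIso R).inv a with hf
  have hbo : (Spec R).basicOpen f = PrimeSpectrum.basicOpen a := basicOpen_eq_of_affine a
  have hg : ∀ m : Γ(G, ⊤), ((modulesSpecToSheaf.obj G).obj.map
      (PrimeSpectrum.basicOpen a).leTop.op).hom m =
        G.presheaf.map (PrimeSpectrum.basicOpen a).leTop.op m := fun m => rfl
  refine ⟨?_, ?_, ?_⟩
  · rintro ⟨_, n, rfl⟩
    have := G.isUnit_algebraMap_end_of_le_basicOpen (U := PrimeSpectrum.basicOpen a) a le_rfl
    simp only [map_pow]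
    exact this.pow n
  · intro t
    have hle : (Spec R).basicOpen f ≤ PrimeSpectrum.basicOpen a := hbo.le
    obtain ⟨n, m, hnm⟩ := h.surj f (G.presheaf.map (homOfLE hle).op t)
    refine ⟨⟨m, ⟨a ^ n, n, rfl⟩⟩, ?_⟩
    let t' : Γ(G, PrimeSpectrum.basicOpen a) := t
    change (a ^ n) • t' = G.presheaf.map (PrimeSpectrum.basicOpen a).leTop.op m
    refine section_ext G (PrimeSpectrum.basicOpen a) ((a ^ n) • t') _ ?_
    intro x hx
    have hx' : x ∈ (Spec R).basicOpen f := hbo.ge hx
    have h1 := congrArg (G.presheaf.germ ((Spec R).basicOpen f) x hx') hnm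
    rw [germ_smul, germ_resO, germ_res, germ_res] at h1
    rw [germ_smul_Spec, map_pow, ← hf]
    refine (Eq.trans ?_ h1).trans ?_
    · rw [map_pow]
    · exact (TopCat.Presheaf.germ_res_apply G.presheaf (PrimeSpectrum.basicOpen a).leTop x hx m).symm
  · intro m₁ m₂ hm
    rw [hg, hg] at hm
    have hz : G.presheaf.map (homOfLE ((Spec R).basicOpen_le f)).op (m₁ - m₂) = 0 := by
      apply AssDict.section_eq_zero_of_germ
      intro x hx
      have hx' : x ∈ PrimeSpectrum.basicOpen a := hbo.le hx
      rw [germ_res, map_sub, sub_eq_zero]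
      have h1 := congrArg (G.presheaf.germ (PrimeSpectrum.basicOpen a) x hx') hm
      have e1 := TopCat.Presheaf.germ_res_apply G.presheaf (PrimeSpectrum.basicOpen a).leTop x hx' m₁
      have e2 := TopCat.Presheaf.germ_res_apply G.presheaf (PrimeSpectrum.basicOpen a).leTop x hx' m₂
      exact e1.symm.trans (h1.trans e2)
    obtain ⟨n, hn⟩ := h.zero f (m₁ - m₂) hz
    refine ⟨⟨a ^ n, n, rfl⟩, ?_⟩
    change (a ^ n) • m₁ = (a ^ n) • m₂
    rw [← sub_eq_zero, ← smul_sub]
    apply section_ext G
    intro x hx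
    rw [germ_smul_Spec, map_zero, map_pow, ← hf]
    have h1 := congrArg (G.presheaf.germ ⊤ x hx) hn
    rw [germ_smul, map_pow, map_zero] at h1
    rw [map_pow]
    exact h1

/-- a module on `Spec R` which is localizing on `⊤` is `Γ(M)^~`. -/
theorem isIso_fromTildeΓ_of_isLocalizingOn_top (G : (Spec R).Modules)
    (h : IsLocalizingOn G ⊤) : IsIso G.fromTildeΓ :=
  (isIso_fromTildeΓ_iff_isLocalizing G).mpr (isLocalizing_of_isLocalizingOn_top G h)

theorem isLocalizingOn_top_pushforward_ι (V : (Spec R).Opens)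
    (hV : IsCompact (V : Set (Spec R))) (F : (V : Scheme.{u}).Modules) [F.IsQuasicoherent] :
    IsLocalizingOn ((Scheme.Modules.pushforward V.ι).obj F) ⊤ := by
  apply isLocalizingOn_pushforward
  apply isLocalizingOn_of_qcqs
  · have : CompactSpace V := isCompact_iff_compactSpace.mp hV
    exact (isCompact_univ : IsCompact (Set.univ : Set (V : Scheme.{u})))
  · exact V.ι.isQuasiSeparated_preimage (isAffineOpen_top (Spec R)).isQuasiSeparated

/-- **quasi-coherent modules on a quasi-compact open of an affine scheme** are restrictions of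
`M^~`. -/
theorem exists_iso_tilde_restrict (V : (Spec R).Opens)
    (hV : IsCompact (V : Set (Spec R))) (F : (V : Scheme.{u}).Modules) [F.IsQuasicoherent] :
    ∃ M : ModuleCat.{u} R, Nonempty (F ≅ (tilde M).restrict V.ι) := by
  let G := (Scheme.Modules.pushforward V.ι).obj F
  haveI : IsIso G.fromTildeΓ :=
    isIso_fromTildeΓ_of_isLocalizingOn_top G (isLocalizingOn_top_pushforward_ι V hV F)
  refine ⟨(modulesSpecToSheaf.obj G).presheaf.obj (.op ⊤), ⟨?_⟩⟩
  exact ((Scheme.Modules.restrictFunctorAdjCounitIso V.ι).app F).symm ≪≫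
    (Scheme.Modules.restrictFunctor V.ι).mapIso (asIso G.fromTildeΓ).symm

end Groth.Agent.Helper4.QcqsTilde
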