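import Mathlib
import Groth.Agent.Helper4.QcqsTilde
import Groth.Agent.Helper4.FTRestrict

set_option autoImplicit false
universe u
open CategoryTheory CategoryTheory.Limits AlgebraicGeometry TopologicalSpace Opposite Submodule

namespace Groth.Agent.Helper4.QcohGlue
open Groth.Agent.Helper4.StalkDict Groth.Agent.Helper4 Groth.Agent.Helper4.QcqsMod

section A
variable {X : Scheme.{u}} {U : X.Opens} (hU : IsAffineOpen U)

theorem map_map_thin (G : X.Modules) {V W Z : X.Opens} (i : op V ⟶ op W) (j : op W ⟶ op Z)
    (k : op V ⟶ op Z) (m : Γ(G, V)) :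
    G.presheaf.map j (G.presheaf.map i m) = G.presheaf.map k m := by
  rw [Subsingleton.elim k (i ≫ j), Functor.map_comp]
  rfl

set_option backward.isDefEq.respectTransparency false in
theorem isLocalizing_restrict_fromSpec_of_isLocalizingOn (G : X.Modules)
    (hloc : IsLocalizingOn G U) :
    IsLocalizing (modulesSpecToSheaf.obj (G.restrict hU.fromSpec)) := by
  intro f
  have hle : hU.fromSpec ''ᵁ PrimeSpectrum.basicOpen f ≤ X.basicOpen f :=
    (hU.fromSpec_image_basicOpen f).le
  have hge : X.basicOpen f ≤ hU.fromSpec ''ᵁ PrimeSpectrum.basicOpen f :=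
    (hU.fromSpec_image_basicOpen f).ge
  refine ⟨?_, ?_, ?_⟩
  · rintro ⟨_, n, rfl⟩
    have := (G.restrict hU.fromSpec).isUnit_algebraMap_end_of_le_basicOpen
      (U := PrimeSpectrum.basicOpen f) f le_rfl
    simp only [map_pow]
    exact this.pow n
  · intro t
    let t' : Γ(G.restrict hU.fromSpec, PrimeSpectrum.basicOpen f) := t
    let t₀ : Γ(G, X.basicOpen f) := G.presheaf.map (homOfLE hge).op t'
    obtain ⟨n, m, hnm⟩ := hloc.surj f t₀
    refine ⟨⟨G.presheaf.map (homOfLE (image_le hU ⊤)).op m, ⟨f ^ n, n, rfl⟩⟩, ?_⟩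
    change (f ^ n) • t' = G.presheaf.map _ (G.presheaf.map (homOfLE (image_le hU ⊤)).op m)
    rw [smul_restrict_fromSpec]
    apply map_injective_of_le G hge hle
    rw [Scheme.Modules.map_smul]
    refine Eq.trans ?_ (hnm.trans ?_)
    · congr 1
      rw [← ConcreteCategory.comp_apply, ← Functor.map_comp]
      rfl
    · refine (Eq.trans (congrArg (G.presheaf.map (homOfLE hge).op)
        (map_map_thin G _ _ (homOfLE (image_le hU (PrimeSpectrum.basicOpen f))).op m))
        (map_map_thin G _ _ _ m)).symm
  · intro m₁ m₂ hm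
    let m₁' : Γ(G.restrict hU.fromSpec, ⊤) := m₁
    let m₂' : Γ(G.restrict hU.fromSpec, ⊤) := m₂
    let d : Γ(G, U) := G.presheaf.map (homOfLE (image_top hU).ge).op (m₁' - m₂')
    have hm' : G.presheaf.map ((Scheme.Hom.opensFunctor hU.fromSpec).map
        (PrimeSpectrum.basicOpen f).leTop).op m₁' =
        G.presheaf.map ((Scheme.Hom.opensFunctor hU.fromSpec).map
        (PrimeSpectrum.basicOpen f).leTop).op m₂' := hm
    have hd : G.presheaf.map (homOfLE (X.basicOpen_le f)).op d = 0 := by
      apply map_injective_of_le G hle hge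
      rw [map_zero]
      change G.presheaf.map _ (G.presheaf.map _ (G.presheaf.map _ (m₁' - m₂'))) = 0
      rw [← ConcreteCategory.comp_apply, ← ConcreteCategory.comp_apply, ← Functor.map_comp,
        ← Functor.map_comp]
      have : G.presheaf.map ((Scheme.Hom.opensFunctor hU.fromSpec).map
        (PrimeSpectrum.basicOpen f).leTop).op (m₁' - m₂') = 0 := by
        rw [map_sub, hm', sub_self]
      exact this
    obtain ⟨n, hn⟩ := hloc.zero f d hd
    refine ⟨⟨f ^ n, n, rfl⟩, ?_⟩
    change (f ^ n) • m₁' = (f ^ n) • m₂'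
    rw [← sub_eq_zero, ← smul_sub, smul_restrict_fromSpec]
    apply map_injective_of_le G (image_top hU).ge (image_le hU ⊤)
    rw [map_zero, Scheme.Modules.map_smul]
    refine Eq.trans ?_ hn
    congr 1
    rw [← ConcreteCategory.comp_apply, ← Functor.map_comp]
    have h1 : ∀ (e : op U ⟶ op U) (a : Γ(X, U)), X.presheaf.map e a = a := by
      intro e a
      rw [Subsingleton.elim e (𝟙 _), X.presheaf.map_id]
      rfl
    exact h1 _ _

end A

section B
variable {X : Scheme.{u}}

set_option backward.isDefEq.respectTransparency false in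
open Scheme.Modules in
theorem nonempty_presentation_over_of_restrict (M : X.Modules) (U : X.Opens)
    (P : SheafOfModules.Presentation (R := (U : Scheme.{u}).ringCatSheaf) (M.restrict U.ι)) :
    Nonempty (SheafOfModules.Presentation (R := X.ringCatSheaf.over U)
      (SheafOfModules.over (R := X.ringCatSheaf) M U)) := by
  let E := overEquiv U
  let iso1 : E.functor.obj (SheafOfModules.over (R := X.ringCatSheaf) M U) ≅ M.restrict U.ι :=
    (overFunctorEquiv U).app M
  let P1 := SheafOfModules.Presentation.ofIsIso.{u, u, u} iso1.inv P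
  have : PreservesColimitsOfSize.{u, u} E.inverse := inferInstance
  let η' : SheafOfModules.unit (X.ringCatSheaf.over U) ≅
      E.inverse.obj (SheafOfModules.unit (U : Scheme.{u}).ringCatSheaf) :=
    E.unitIso.app (SheafOfModules.unit (X.ringCatSheaf.over U))
  let P2 := P1.map E.inverse η'
  let P3 := SheafOfModules.Presentation.ofIsIso.{u, u, u}
    (E.unitIso.app (SheafOfModules.over (R := X.ringCatSheaf) M U)).inv P2
  exact ⟨P3⟩

/-- a presentation of `M^~` -/
noncomputable def presentationTildeUniv {R : CommRingCat.{u}} (M : ModuleCat.{u} R) :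
    SheafOfModules.Presentation (R := (Spec R).ringCatSheaf) (tilde M) :=
  presentationTilde.{u} M (Set.univ : Set M) (by simp) _ (Submodule.span_eq _)

set_option backward.isDefEq.respectTransparency false in
open Scheme.Modules in
theorem nonempty_presentation_restrict_of_isQuasicoherent (G : X.Modules) {U : X.Opens}
    (hU : IsAffineOpen U) (h : (G.restrict hU.fromSpec).IsQuasicoherent) :
    Nonempty (SheafOfModules.Presentation (R := (U : Scheme.{u}).ringCatSheaf)
      (G.restrict U.ι)) := by
  let A : CommRingCat.{u} := Γ(X, U)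
  let φ : (U : Scheme.{u}) ≅ Spec A := hU.isoSpec
  let N : (Spec A).Modules := G.restrict hU.fromSpec
  haveI : N.IsQuasicoherent := h
  haveI : IsIso N.fromTildeΓ := inferInstance
  let ΓN : ModuleCat.{u} A := moduleSpecΓFunctor.obj N
  let e : tilde ΓN ≅ N := asIso N.fromTildeΓ
  let P0 := presentationTildeUniv ΓN
  let P1 := SheafOfModules.Presentation.ofIsIso.{u, u, u} e.hom P0
  let P2 := presentationRestrict φ.hom P1
  have hcomp : φ.hom ≫ hU.fromSpec = U.ι := by
    change φ.hom ≫ φ.inv ≫ U.ι = U.ι
    rw [Iso.hom_inv_id_assoc]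
  let iso : N.restrict φ.hom ≅ G.restrict U.ι :=
    ((restrictFunctorComp φ.hom hU.fromSpec).symm.app G) ≪≫
      (restrictFunctorCongr hcomp).app _
  exact ⟨SheafOfModules.Presentation.ofIsIso.{u, u, u} iso.hom P2⟩

set_option backward.isDefEq.respectTransparency false in
/-- **quasi-coherence is local**: a module whose restrictions to the members of an affine open
cover are quasi-coherent is quasi-coherent. -/
theorem isQuasicoherent_of_affine_cover (G : X.Modules)
    (h : ∀ x : X, ∃ (U : X.Opens) (hU : IsAffineOpen U), x ∈ U ∧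
      (G.restrict hU.fromSpec).IsQuasicoherent) : G.IsQuasicoherent := by
  choose U hU hxU hq using h
  have key : ∀ x : X, Nonempty (SheafOfModules.Presentation (R := X.ringCatSheaf.over (U x))
      (SheafOfModules.over (R := X.ringCatSheaf) G (U x))) := by
    intro x
    obtain ⟨P⟩ := nonempty_presentation_restrict_of_isQuasicoherent G (hU x) (hq x)
    exact nonempty_presentation_over_of_restrict G (U x) P
  let q : SheafOfModules.QuasicoherentData.{u} (R := X.ringCatSheaf) G :=
    { I := X
      X := U
      coversTop := by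
        rw [Opens.coversTop_iff]
        change iSup U = ⊤
        rw [eq_top_iff]
        intro x _
        exact Opens.mem_iSup.mpr ⟨x, hxU x⟩
      presentation := fun x => (key x).some }
  exact q.isQuasicoherent

end B

section Main
variable {X S : Scheme.{u}}

/-- a module which is localizing on the members of an affine open cover is quasi-coherent -/
theorem isQuasicoherent_of_isLocalizingOn (G : X.Modules)
    (h : ∀ x : X, ∃ (U : X.Opens), IsAffineOpen U ∧ x ∈ U ∧ IsLocalizingOn G U) :
    G.IsQuasicoherent := by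
  apply isQuasicoherent_of_affine_cover
  intro x
  obtain ⟨U, hU, hx, hloc⟩ := h x
  refine ⟨U, hU, hx, ?_⟩
  rw [isQuasicoherent_iff_isIso_fromTildeΓ, isIso_fromTildeΓ_iff_isLocalizing]
  exact isLocalizing_restrict_fromSpec_of_isLocalizingOn hU G hloc

/-- **direct images of quasi-coherent modules along qcqs morphisms are quasi-coherent** -/
theorem isQuasicoherent_pushforward (f : X ⟶ S) [QuasiCompact f] [QuasiSeparated f]
    (F : X.Modules) [F.IsQuasicoherent] :
    ((Scheme.Modules.pushforward f).obj F).IsQuasicoherent := by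
  apply isQuasicoherent_of_isLocalizingOn
  intro y
  obtain ⟨_, ⟨V, hV : IsAffineOpen V, rfl⟩, hyV, -⟩ :=
    S.isBasis_affineOpens.exists_subset_of_mem_open (Set.mem_univ y) isOpen_univ
  exact ⟨V, hV, hyV, isLocalizingOn_pushforward_of_qcqs f F hV⟩

end Main

end Groth.Agent.Helper4.QcohGlue
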