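import Mathlib
import Groth.Agent.Helper4.StalkDict
import Groth.Agent.Helper4.FTRestrict
import Groth.Agent.Helper4.FTTilde

set_option autoImplicit false
universe u
open CategoryTheory CategoryTheory.Limits AlgebraicGeometry TopologicalSpace Opposite Submodule

namespace Groth.Agent.Helper4.SecDict
open Groth.Agent.Helper4.StalkDict Groth.Agent.Helper4

variable {X : Scheme.{u}} {U : X.Opens} (hU : IsAffineOpen U) (F : X.Modules)

set_option backward.isDefEq.respectTransparency false in
/-- sections over an affine open `U`, as a `Γ(X,U)`-module, agree with the global sections of the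
restriction to `Spec Γ(X,U)`. -/
noncomputable def sectionsEquiv :
    Γ(F, U) ≃ₗ[Γ(X, U)] (moduleSpecΓFunctor.obj (F.restrict hU.fromSpec) : ModuleCat Γ(X, U)) where
  toFun m := F.presheaf.map (homOfLE (image_le hU ⊤)).op m
  invFun m := F.presheaf.map (homOfLE (image_top hU).ge).op m
  map_add' a b := map_add _ a b
  map_smul' r m := by
    simp only [RingHom.id_apply]
    rw [Scheme.Modules.map_smul]
    exact (smul_restrict_fromSpec hU F ⊤ r (F.presheaf.map (homOfLE (image_le hU ⊤)).op m)).symm
  left_inv m := map_map_eq_self F (image_le hU ⊤) (image_top hU).ge m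
  right_inv m := map_map_eq_self F (image_top hU).ge (image_le hU ⊤) m

include hU in
set_option backward.isDefEq.respectTransparency false in
theorem finite_sections (hq : SheafOfModules.IsQuasicoherent (R := X.ringCatSheaf) F)
    (hF : SheafOfModules.IsFiniteType (R := X.ringCatSheaf) F) :
    Module.Finite Γ(X, U) Γ(F, U) := by
  let A : CommRingCat.{u} := Γ(X, U)
  let N : (Spec A).Modules := F.restrict hU.fromSpec
  haveI : SheafOfModules.IsQuasicoherent (R := X.ringCatSheaf) F := hq
  haveI : N.IsQuasicoherent := inferInstance
  have hN : SheafOfModules.IsFiniteType (R := (Spec A).ringCatSheaf) N :=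
    FTRestrict.isFT_restrict _ _ hF
  haveI : IsIso N.fromTildeΓ := inferInstance
  let ΓN : ModuleCat.{u} A := moduleSpecΓFunctor.obj N
  let e : tilde ΓN ≅ N := asIso N.fromTildeΓ
  have hT : SheafOfModules.IsFiniteType (R := (Spec A).ringCatSheaf) (tilde ΓN) :=
    haveI := hN
    FTRestrict.SoM.isFiniteType_of_iso (R := (Spec A).ringCatSheaf) (M := N) (N := tilde ΓN) e.symm
  haveI : Module.Finite A ΓN := FTTilde.finite_of_isFT_tilde A ΓN hT
  exact Module.Finite.equiv (sectionsEquiv hU F).symm

end Groth.Agent.Helper4.SecDict
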