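import Mathlib
import Groth.Agent.Helper4.QcohGlue
import Groth.Agent.Helper4.SecDict
import Groth.Agent.Helper4.FTTilde

set_option autoImplicit false
universe u
open CategoryTheory CategoryTheory.Limits AlgebraicGeometry TopologicalSpace Opposite Submodule

namespace Groth.Agent.Helper4.FTGlue
open Groth.Agent.Helper4.StalkDict Groth.Agent.Helper4 Groth.Agent.Helper4.QcqsMod

variable {X : Scheme.{u}}

set_option backward.isDefEq.respectTransparency false in
open Scheme.Modules in
theorem exists_generatingSections_over_of_restrict (M : X.Modules) (U : X.Opens)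
    (P : SheafOfModules.GeneratingSections (R := (U : Scheme.{u}).ringCatSheaf) (M.restrict U.ι))
    [P.IsFiniteType] :
    ∃ Q : SheafOfModules.GeneratingSections (R := X.ringCatSheaf.over U)
      (SheafOfModules.over (R := X.ringCatSheaf) M U), Q.IsFiniteType := by
  let E := overEquiv U
  let iso1 : E.functor.obj (SheafOfModules.over (R := X.ringCatSheaf) M U) ≅ M.restrict U.ι :=
    (overFunctorEquiv U).app M
  let P1 := P.ofEpi iso1.inv
  have : PreservesColimitsOfSize.{u, u} E.inverse := inferInstance
  let η' : SheafOfModules.unit (X.ringCatSheaf.over U) ≅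
      E.inverse.obj (SheafOfModules.unit (U : Scheme.{u}).ringCatSheaf) :=
    E.unitIso.app (SheafOfModules.unit (X.ringCatSheaf.over U))
  let P2 := P1.map E.inverse η'
  let P3 := P2.ofEpi (E.unitIso.app (SheafOfModules.over (R := X.ringCatSheaf) M U)).inv
  exact ⟨P3, inferInstance⟩

/-- finite generating sections of `M^~` for a finite module `M` -/
theorem exists_generatingSections_tilde {R : CommRingCat.{u}} (M : ModuleCat.{u} R)
    [Module.Finite R M] :
    ∃ σ : SheafOfModules.GeneratingSections (R := (Spec R).ringCatSheaf) (tilde M),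
      σ.IsFiniteType := by
  obtain ⟨s, hs⟩ := (Module.finite_def.mp ‹Module.Finite R M›)
  let P := presentationTilde.{u} M (s : Set M) hs _ (Submodule.span_eq _)
  exact ⟨P.generators, ⟨by change Finite (s : Set M); infer_instance⟩⟩

set_option backward.isDefEq.respectTransparency false in
open Scheme.Modules in
theorem exists_generatingSections_restrict_of_finite (G : X.Modules) [G.IsQuasicoherent]
    {U : X.Opens} (hU : IsAffineOpen U) (h : Module.Finite Γ(X, U) Γ(G, U)) :
    ∃ σ : SheafOfModules.GeneratingSections (R := (U : Scheme.{u}).ringCatSheaf)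
      (G.restrict U.ι), σ.IsFiniteType := by
  let A : CommRingCat.{u} := Γ(X, U)
  let φ : (U : Scheme.{u}) ≅ Spec A := hU.isoSpec
  let N : (Spec A).Modules := G.restrict hU.fromSpec
  haveI : N.IsQuasicoherent := inferInstance
  haveI : IsIso N.fromTildeΓ := inferInstance
  let ΓN : ModuleCat.{u} A := moduleSpecΓFunctor.obj N
  let e : tilde ΓN ≅ N := asIso N.fromTildeΓ
  haveI : Module.Finite A ΓN := Module.Finite.equiv (SecDict.sectionsEquiv hU G)
  obtain ⟨σ₀, hσ₀⟩ := exists_generatingSections_tilde ΓN
  let σ₁ := σ₀.ofEpi e.hom
  haveI : PreservesColimitsOfSize.{u, u} (Scheme.Modules.restrictFunctor φ.hom) := inferInstance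
  let σ₂ := σ₁.map (Scheme.Modules.restrictFunctor.{u} φ.hom)
    (Scheme.Modules.restrictUnitIso φ.hom).symm
  have hcomp : φ.hom ≫ hU.fromSpec = U.ι := by
    change φ.hom ≫ φ.inv ≫ U.ι = U.ι
    rw [Iso.hom_inv_id_assoc]
  let iso : N.restrict φ.hom ≅ G.restrict U.ι :=
    ((restrictFunctorComp φ.hom hU.fromSpec).symm.app G) ≪≫
      (restrictFunctorCongr hcomp).app _
  exact ⟨σ₂.ofEpi iso.hom, inferInstance⟩

set_option backward.isDefEq.respectTransparency false in
/-- a quasi-coherent module whose sections over the members of an affine open cover are finite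
modules is of finite type. -/
theorem isFiniteType_of_finite_sections (G : X.Modules) [G.IsQuasicoherent]
    (h : ∀ x : X, ∃ (U : X.Opens), IsAffineOpen U ∧ x ∈ U ∧ Module.Finite Γ(X, U) Γ(G, U)) :
    SheafOfModules.IsFiniteType (R := X.ringCatSheaf) G := by
  choose U hU hxU hfin using h
  have key : ∀ x : X, ∃ Q : SheafOfModules.GeneratingSections (R := X.ringCatSheaf.over (U x))
      (SheafOfModules.over (R := X.ringCatSheaf) G (U x)), Q.IsFiniteType := by
    intro x
    obtain ⟨P, hP⟩ := exists_generatingSections_restrict_of_finite G (hU x) (hfin x)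
    exact exists_generatingSections_over_of_restrict G (U x) P
  choose Q hQ using key
  let q : SheafOfModules.LocalGeneratorsData.{u} (R := X.ringCatSheaf) G :=
    { I := X
      X := U
      coversTop := by
        rw [Opens.coversTop_iff]
        change iSup U = ⊤
        rw [eq_top_iff]
        intro x _
        exact Opens.mem_iSup.mpr ⟨x, hxU x⟩
      generators := Q }
  have : q.IsFiniteType := by
    constructor
    intro i
    exact hQ i
  exact { exists_localGeneratorsData := ⟨q, this⟩ }

end Groth.Agent.Helper4.FTGlue
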