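import Mathlib
import Groth.Prelude.Def_CohB1
import Groth.Prelude.Def_FlatMod2
import Groth.Agent.Helper8.TildeBC
import Groth.Agent.Helper8.NisUnif
import Groth.Agent.Helper4.FTLocal
import Groth.Agent.Helper4.FTTilde

/-!
# Helper4: finite presentation of `tilde M` vs. of `M`
-/

set_option autoImplicit false
open CategoryTheory Limits AlgebraicGeometry TopologicalSpace Opposite
universe u

namespace Groth.Agent.Helper4.FPTilde


set_option backward.isDefEq.respectTransparency false in
theorem finitePresentation_of_presentation_tilde (R : CommRingCat.{u}) (M : ModuleCat.{u} R)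
    (P : SheafOfModules.Presentation (R := (Spec R).ringCatSheaf) (tilde M)) [P.IsFinite] :
    Module.FinitePresentation R M := by
  let I := P.generators.I
  let J := P.relations.I
  haveI : Finite I := SheafOfModules.GeneratingSections.IsFiniteType.finite
  haveI : Finite J := SheafOfModules.GeneratingSections.IsFiniteType.finite
  let FI : ModuleCat.{u} R := ModuleCat.of R (I →₀ R)
  let FJ : ModuleCat.{u} R := ModuleCat.of R (J →₀ R)
  let eI : tilde FI ≅ SheafOfModules.free I := tildeFinsupp I
  let eJ : tilde FJ ≅ SheafOfModules.free J := tildeFinsupp J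
  let r : SheafOfModules.free J ⟶ SheafOfModules.free I :=
    (SheafOfModules.freeHomEquiv _).symm P.relations.s ≫ kernel.ι _
  let π : SheafOfModules.free I ⟶ tilde M := P.generators.π
  have hrπ : r ≫ π = 0 := by simp [r, π]
  have hcol : IsColimit (CokernelCofork.ofπ (f := r) π hrπ) := P.isColimit
  let g : FI ⟶ M := (tilde.functor R).preimage (eI.hom ≫ π)
  let h : FJ ⟶ FI := (tilde.functor R).preimage (eJ.hom ≫ r ≫ eI.inv)
  have hg : (tilde.functor R).map g = eI.hom ≫ π := (tilde.functor R).map_preimage _
  have hh : (tilde.functor R).map h = eJ.hom ≫ r ≫ eI.inv := (tilde.functor R).map_preimage _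
  have w : h ≫ g = 0 := by
    apply (tilde.functor R).map_injective
    rw [Functor.map_comp, hg, hh]
    simp [hrπ]
  have hcol2 : IsColimit (CokernelCofork.ofπ (f := (tilde.functor R).map h)
      ((tilde.functor R).map g) (by rw [← Functor.map_comp, w, Functor.map_zero])) := by
    refine IsCokernel.ofIso _ hcol _ eJ.symm eI.symm (Iso.refl _) ?_ ?_
    · have hh' : tilde.map h = eJ.hom ≫ r ≫ eI.inv := hh
      simp [hh']
    · have hg' : tilde.map g = eI.hom ≫ π := hg
      simp [hg']
  have hcol3 : IsColimit (CokernelCofork.ofπ g w) :=
    isColimitOfReflects (tilde.functor R)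
      ((isColimitMapCoconeCoforkEquiv' (tilde.functor R) w).symm hcol2)
  let S : ShortComplex (ModuleCat.{u} R) := ShortComplex.mk h g w
  have hS : S.Exact := S.exact_of_g_is_cokernel hcol3
  have hepi : Epi g := epi_of_isColimit_cofork hcol3
  have hsurj : Function.Surjective g.hom := (ModuleCat.epi_iff_surjective g).mp hepi
  have hker : LinearMap.ker g.hom = LinearMap.range h.hom := hS.moduleCat_range_eq_ker.symm
  have hfg : (LinearMap.ker g.hom).FG := by
    rw [hker, LinearMap.range_eq_map]
    exact Submodule.FG.map _ (Module.Finite.fg_top)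
  exact Module.finitePresentation_of_free_of_surjective (M := (I →₀ R)) g.hom hsurj hfg



set_option backward.isDefEq.respectTransparency false in
open Scheme.Modules in
theorem exists_presentation_restrict {X : Scheme.{u}} (M : X.Modules)
    (hM : SheafOfModules.IsFinitePresentation (R := X.ringCatSheaf) M) (x : X) :
    ∃ W : X.Opens, x ∈ W ∧ ∀ (V : X.Opens) (_ : V ≤ W),
      ∃ P : SheafOfModules.Presentation (R := (V : Scheme.{u}).ringCatSheaf) (M.restrict V.ι),
        P.IsFinite := by
  obtain ⟨q, hq⟩ := SheafOfModules.IsFinitePresentation.exists_quasicoherentData (R := X.ringCatSheaf) M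
  have cov := q.coversTop
  rw [Opens.coversTop_iff] at cov
  obtain ⟨i, hi⟩ : ∃ i, x ∈ q.X i := by
    have : x ∈ (⨆ i, q.X i : X.Opens) := by rw [cov.iSup_eq_top]; trivial
    exact Opens.mem_iSup.mp this
  refine ⟨q.X i, hi, fun V hVW => ?_⟩
  let u := X.homOfLE hVW
  have : PreservesColimitsOfSize.{u, u} (restrictFunctor u) := inferInstance
  let F := (overEquiv (q.X i)).functor ⋙ restrictFunctor u
  let iso : SheafOfModules.overFunctor X.ringCatSheaf _ ⋙ F ≅ restrictFunctor V.ι :=
    (Functor.associator _ _ _).symm ≪≫
      Functor.isoWhiskerRight (Scheme.Modules.overFunctorEquiv _) _ ≪≫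
      (restrictFunctorComp _ _).symm ≪≫ (restrictFunctorCongr (by simp [u]))
  have h0 := hq.isFinite_presentation i
  have h1 : Finite (q.presentation i).generators.I :=
    SheafOfModules.GeneratingSections.IsFiniteType.finite
  have h2 : Finite (q.presentation i).relations.I :=
    SheafOfModules.GeneratingSections.IsFiniteType.finite
  let P1 := (q.presentation i).map F (Scheme.Modules.restrictUnitIso _).symm
  have hP1 : P1.IsFinite :=
    { isFiniteType_generators := ⟨h1⟩
      isFiniteType_relations := ⟨h2⟩ }
  exact ⟨SheafOfModules.Presentation.ofIsIso.{u, u, u} (iso.app M).hom P1, inferInstance⟩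





set_option backward.isDefEq.respectTransparency false in
open Groth.Agent.Helper8.TildeBC Scheme.Modules in
theorem fp_extendScalars_of_presentation_restrict (R : CommRingCat.{u}) (M : ModuleCat.{u} R) (f : R)
    (U : (Spec R).Opens) (hU : ∀ p ∈ PrimeSpectrum.basicOpen f, p ∈ U)
    (P : SheafOfModules.Presentation (R := (U : Scheme.{u}).ringCatSheaf) ((tilde M).restrict U.ι))
    [P.IsFinite] :
    Module.FinitePresentation (Localization.Away f)
      ((ModuleCat.extendScalars.{u, u, u} (algebraMap R (Localization.Away f))).obj M) := by
  let A : CommRingCat.{u} := CommRingCat.of (Localization.Away f)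
  let α : R ⟶ A := CommRingCat.ofHom (algebraMap R (Localization.Away f))
  have hj : Set.range (Spec.map α) ⊆ Set.range U.ι := by
    rw [Scheme.Opens.range_ι]
    have h := Scheme.Hom.opensRange_localizationAway f
    have h' : Set.range (Spec.map α) =
        ((PrimeSpectrum.basicOpen f : TopologicalSpace.Opens (PrimeSpectrum R)) :
          Set (PrimeSpectrum R)) := by
      rw [← h]; rfl
    rw [h']
    exact hU
  let j' := IsOpenImmersion.lift U.ι (Spec.map α) hj
  have hfac : j' ≫ U.ι = Spec.map α := IsOpenImmersion.lift_fac _ _ _
  haveI : IsOpenImmersion (Spec.map α) := inferInstance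
  haveI : IsOpenImmersion (j' ≫ U.ι) := by rw [hfac]; infer_instance
  haveI : IsOpenImmersion j' := IsOpenImmersion.of_comp j' U.ι
  let P1 := Scheme.Modules.presentationRestrict j' P
  have h1 : Finite P.generators.I := SheafOfModules.GeneratingSections.IsFiniteType.finite
  have h2 : Finite P.relations.I := SheafOfModules.GeneratingSections.IsFiniteType.finite
  have hP1 : P1.IsFinite :=
    { isFiniteType_generators := ⟨h1⟩
      isFiniteType_relations := ⟨h2⟩ }
  let iso : ((tilde M).restrict U.ι).restrict j' ≅ tilde ((ModuleCat.extendScalars α.hom).obj M) :=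
    ((restrictFunctorComp j' U.ι).app (tilde M)).symm ≪≫ (restrictFunctorCongr hfac).app _ ≪≫
      (restrictFunctorIsoPullback (Spec.map α)).app _ ≪≫ (tildePullbackIso α).app M
  let P2 := SheafOfModules.Presentation.ofIsIso.{u, u, u} iso.hom P1
  exact finitePresentation_of_presentation_tilde A _ P2






theorem transport_alg {R A : Type u} [CommRing R] [CommRing A] (alg1 alg2 : Algebra R A)
    (h : alg1 = alg2) (M : Type u) [AddCommGroup M] [Module R M]
    (hfp : letI := alg1; Module.FinitePresentation A (TensorProduct R A M)) :
    letI := alg2; Module.FinitePresentation A (TensorProduct R A M) := by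
  subst h; exact hfp

theorem finitePresentation_of_isFP_tilde (R : CommRingCat.{u}) (M : ModuleCat.{u} R)
    (h : SheafOfModules.IsFinitePresentation (R := (Spec R).ringCatSheaf) (tilde M)) :
    Module.FinitePresentation R M := by
  have key : ∀ x : PrimeSpectrum R, ∃ (f : R), x ∈ PrimeSpectrum.basicOpen f ∧
      Module.FinitePresentation (Localization.Away f)
        (TensorProduct R (Localization.Away f) M) := by
    intro x
    obtain ⟨W, hxW, hW⟩ := exists_presentation_restrict (tilde M) h x
    obtain ⟨_, ⟨_, ⟨f, rfl⟩, rfl⟩, hxf, hfW⟩ :=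
      PrimeSpectrum.isBasis_basic_opens.exists_subset_of_mem_open hxW W.isOpen
    let U : (Spec R).Opens := PrimeSpectrum.basicOpen f
    obtain ⟨P, hP⟩ := hW U hfW
    have h1 := fp_extendScalars_of_presentation_restrict R M f U (fun p hp => hp) P
    refine ⟨f, hxf, ?_⟩
    have hinst : (algebraMap R (Localization.Away f)).toAlgebra =
        (inferInstance : Algebra R (Localization.Away f)) :=
      Algebra.algebra_ext _ _ (fun r => rfl)
    exact transport_alg _ _ hinst M h1
  choose f hxf hfp using key
  have hspan : Ideal.span (Set.range f) = ⊤ := by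
    rw [← PrimeSpectrum.iSup_basicOpen_eq_top_iff, eq_top_iff]
    intro p _
    exact TopologicalSpace.Opens.mem_iSup.mpr ⟨p, hxf p⟩
  haveI : ∀ g : Set.range f, IsLocalizedModule (Submonoid.powers g.val)
      (TensorProduct.mk R (Localization.Away g.val) M 1) := fun g =>
    (isLocalizedModule_iff_isBaseChange (Submonoid.powers g.val) (Localization.Away g.val) _).mpr
      (TensorProduct.isBaseChange R M _)
  refine Module.FinitePresentation.of_localizationSpan' (Set.range f) hspan
    (Rₚ := fun g => Localization.Away g.val)
    (Mₚ := fun g => TensorProduct R (Localization.Away g.val) M)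
    (fun g => TensorProduct.mk R (Localization.Away g.val) M 1) ?_
  rintro ⟨_, x, rfl⟩
  exact hfp x



set_option backward.isDefEq.respectTransparency false in
theorem isFP_of_presentation {Y : Scheme.{u}} (N : Y.Modules)
    (P : SheafOfModules.Presentation (R := Y.ringCatSheaf) N) [P.IsFinite] :
    SheafOfModules.IsFinitePresentation (R := Y.ringCatSheaf) N := by
  have h1 : Finite P.generators.I := SheafOfModules.GeneratingSections.IsFiniteType.finite
  have h2 : Finite P.relations.I := SheafOfModules.GeneratingSections.IsFiniteType.finite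
  have : P.quasicoherentData.IsFinitePresentation := by
    constructor
    intro i
    change (P.map (SheafOfModules.pushforward (𝟙 (Y.ringCatSheaf.over i))) _).IsFinite
    exact { isFiniteType_generators := ⟨h1⟩
            isFiniteType_relations := ⟨h2⟩ }
  exact { exists_quasicoherentData := ⟨P.quasicoherentData, this⟩ }

theorem isFP_tilde_of_finitePresentation (R : CommRingCat.{u}) (M : ModuleCat.{u} R)
    [Module.FinitePresentation R M] :
    SheafOfModules.IsFinitePresentation (R := (Spec R).ringCatSheaf) (tilde M) := by
  obtain ⟨s, hs⟩ := Module.finite_def.mp (inferInstance : Module.Finite R M)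
  have hsurj : Function.Surjective (Finsupp.linearCombination R (Subtype.val : ((s : Set M) : Type u) → M)) := by
    rw [← LinearMap.range_eq_top, Finsupp.range_linearCombination, Subtype.range_coe, hs]
  have hker : (LinearMap.ker (Finsupp.linearCombination R (Subtype.val : ((s : Set M) : Type u) → M))).FG :=
    Module.FinitePresentation.fg_ker _ hsurj
  obtain ⟨t, ht⟩ := hker
  let P := presentationTilde.{u} M (s : Set M) hs (t : Set _) ht
  haveI : P.IsFinite :=
    { isFiniteType_generators := ⟨by change Finite (s : Set M); infer_instance⟩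
      isFiniteType_relations := ⟨by
        change Finite ((t : Set (((s : Set M) : Type u) →₀ R)) : Type u); infer_instance⟩ }
  exact isFP_of_presentation _ P


end Groth.Agent.Helper4.FPTilde
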