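import Mathlib
import Groth.Prelude.Def_CohB1
import Groth.Agent.Helper4.FTLocal
import Groth.Agent.Helper4.FTTilde
import Groth.Agent.Helper4.FPTilde
import Groth.Agent.Helper4.FTRestrict

set_option autoImplicit false
open CategoryTheory Limits AlgebraicGeometry TopologicalSpace Opposite
universe u

namespace Groth.Agent.Helper4.AffineDict

open Groth.Agent.Helper4

set_option backward.isDefEq.respectTransparency false in
theorem app_injective_of_mono {X : Scheme.{u}} {N M : X.Modules} (i : N ⟶ M) [Mono i]
    (V : X.Opens) : Function.Injective (Scheme.Modules.Hom.app i V) := by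
  have h1 : Mono ((Scheme.Modules.toPresheaf X).map i) := inferInstance
  have h2 : Mono (((Scheme.Modules.toPresheaf X).map i).app (op V)) := inferInstance
  exact (AddCommGrpCat.mono_iff_injective _).mp h2

/-- the module of sections over an affine open, as a module over `Γ(X, U)`, via `Spec`. -/
noncomputable def affMod {X : Scheme.{u}} (F : X.Modules) (U : X.Opens) (hU : IsAffineOpen U) :
    ModuleCat.{u} Γ(X, U) :=
  moduleSpecΓFunctor.obj ((F.restrict U.ι).restrict hU.isoSpec.inv)

noncomputable def affModMap {X : Scheme.{u}} {N M : X.Modules} (i : N ⟶ M) (U : X.Opens)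
    (hU : IsAffineOpen U) : affMod N U hU ⟶ affMod M U hU :=
  moduleSpecΓFunctor.map ((Scheme.Modules.restrictFunctor hU.isoSpec.inv).map
    ((Scheme.Modules.restrictFunctor U.ι).map i))

set_option backward.isDefEq.respectTransparency false in
theorem affModMap_injective {X : Scheme.{u}} {N M : X.Modules} (i : N ⟶ M) [Mono i] (U : X.Opens)
    (hU : IsAffineOpen U) : Function.Injective (affModMap i U hU).hom := by
  exact app_injective_of_mono i _


theorem exists_generatingSections_tilde (R : CommRingCat.{u}) (M : ModuleCat.{u} R)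
    [Module.Finite R M] :
    ∃ σ : SheafOfModules.GeneratingSections (R := (Spec R).ringCatSheaf) (tilde M),
      σ.IsFiniteType := by
  obtain ⟨s, hs⟩ := (Module.finite_def.mp ‹Module.Finite R M›)
  let P := presentationTilde.{u} M (s : Set M) hs _ (Submodule.span_eq _)
  exact ⟨P.generators, ⟨by change Finite (s : Set M); infer_instance⟩⟩

set_option backward.isDefEq.respectTransparency false in
open Scheme.Modules in
theorem finite_affMod {X : Scheme.{u}} (F : X.Modules)
    (hq : SheafOfModules.IsQuasicoherent (R := X.ringCatSheaf) F)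
    (hF : SheafOfModules.IsFiniteType (R := X.ringCatSheaf) F) (U : X.Opens)
    (hU : IsAffineOpen U) : Module.Finite Γ(X, U) (affMod F U hU) := by
  let A : CommRingCat.{u} := Γ(X, U)
  let φ : (U : Scheme.{u}) ≅ Spec A := hU.isoSpec
  let N : (Spec A).Modules := (F.restrict U.ι).restrict φ.inv
  haveI : SheafOfModules.IsQuasicoherent (R := X.ringCatSheaf) F := hq
  haveI : N.IsQuasicoherent := inferInstance
  have hN : SheafOfModules.IsFiniteType (R := (Spec A).ringCatSheaf) N :=
    FTRestrict.isFT_restrict _ _ (FTRestrict.isFT_restrict _ _ hF)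
  haveI : IsIso N.fromTildeΓ := inferInstance
  let ΓN : ModuleCat.{u} A := moduleSpecΓFunctor.obj N
  let e : tilde ΓN ≅ N := asIso N.fromTildeΓ
  have hT : SheafOfModules.IsFiniteType (R := (Spec A).ringCatSheaf) (tilde ΓN) :=
    haveI := hN
    FTRestrict.SoM.isFiniteType_of_iso (R := (Spec A).ringCatSheaf) (M := N) (N := tilde ΓN) e.symm
  exact FTTilde.finite_of_isFT_tilde A ΓN hT

set_option backward.isDefEq.respectTransparency false in
open Scheme.Modules in
theorem exists_generatingSections_restrict_of_finite_affMod {X : Scheme.{u}} (F : X.Modules)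
    (hq : SheafOfModules.IsQuasicoherent (R := X.ringCatSheaf) F) (U : X.Opens)
    (hU : IsAffineOpen U) (hfin : Module.Finite Γ(X, U) (affMod F U hU)) :
    ∃ σ : SheafOfModules.GeneratingSections (R := (U : Scheme.{u}).ringCatSheaf)
      (F.restrict U.ι), σ.IsFiniteType := by
  let A : CommRingCat.{u} := Γ(X, U)
  let φ : (U : Scheme.{u}) ≅ Spec A := hU.isoSpec
  let N : (Spec A).Modules := (F.restrict U.ι).restrict φ.inv
  haveI : SheafOfModules.IsQuasicoherent (R := X.ringCatSheaf) F := hq
  haveI : N.IsQuasicoherent := inferInstance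
  haveI : IsIso N.fromTildeΓ := inferInstance
  let ΓN : ModuleCat.{u} A := moduleSpecΓFunctor.obj N
  let e : tilde ΓN ≅ N := asIso N.fromTildeΓ
  haveI : Module.Finite A ΓN := hfin
  obtain ⟨σ0, hσ0⟩ := exists_generatingSections_tilde A ΓN
  have h1 : Finite σ0.I := SheafOfModules.GeneratingSections.IsFiniteType.finite
  let σ1 := σ0.ofEpi e.hom
  have : PreservesColimitsOfSize.{u, u} (restrictFunctor φ.hom) := inferInstance
  let σ2 := σ1.map (restrictFunctor.{u} φ.hom) (restrictUnitIso _).symm
  let iso : N.restrict φ.hom ≅ F.restrict U.ι :=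
    ((restrictFunctorComp φ.hom φ.inv).symm.app (F.restrict U.ι)) ≪≫
      (restrictFunctorCongr φ.hom_inv_id).app _ ≪≫ (restrictFunctorId).app _
  exact ⟨σ2.ofEpi iso.hom, ⟨h1⟩⟩

set_option backward.isDefEq.respectTransparency false in
open Scheme.Modules in
theorem exists_generatingSections_over_of_restrict {X : Scheme.{u}} (M : X.Modules) (U : X.Opens)
    (P : SheafOfModules.GeneratingSections (R := (U : Scheme.{u}).ringCatSheaf) (M.restrict U.ι))
    [P.IsFiniteType] :
    ∃ Q : SheafOfModules.GeneratingSections (R := X.ringCatSheaf.over U)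
      (SheafOfModules.over (R := X.ringCatSheaf) M U), Q.IsFiniteType := by
  let E := overEquiv U
  let iso1 : E.functor.obj (SheafOfModules.over (R := X.ringCatSheaf) M U) ≅ M.restrict U.ι :=
    (overFunctorEquiv U).app M
  have h1 : Finite P.I := SheafOfModules.GeneratingSections.IsFiniteType.finite
  let P1 := P.ofEpi iso1.inv
  have : PreservesColimitsOfSize.{u, u} E.inverse := inferInstance
  let η' : SheafOfModules.unit (X.ringCatSheaf.over U) ≅
      E.inverse.obj (SheafOfModules.unit (U : Scheme.{u}).ringCatSheaf) :=
    E.unitIso.app (SheafOfModules.unit (X.ringCatSheaf.over U))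
  let P2 := P1.map E.inverse η'
  let P3 := P2.ofEpi (E.unitIso.app (SheafOfModules.over (R := X.ringCatSheaf) M U)).inv
  exact ⟨P3, ⟨h1⟩⟩

set_option backward.isDefEq.respectTransparency false in
theorem isFT_of_affine_local {X : Scheme.{u}} (M : X.Modules)
    (h : ∀ U : X.affineOpens, ∃ σ : SheafOfModules.GeneratingSections
      (R := (U.1 : Scheme.{u}).ringCatSheaf) (M.restrict U.1.ι), σ.IsFiniteType) :
    SheafOfModules.IsFiniteType (R := X.ringCatSheaf) M := by
  have key : ∀ U : X.affineOpens, ∃ Q : SheafOfModules.GeneratingSections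
      (R := X.ringCatSheaf.over U.1) (SheafOfModules.over (R := X.ringCatSheaf) M U.1),
      Q.IsFiniteType := by
    intro U
    obtain ⟨P, hP⟩ := h U
    exact exists_generatingSections_over_of_restrict M U.1 P
  choose Q hQ using key
  let q : SheafOfModules.LocalGeneratorsData.{u} (R := X.ringCatSheaf) M :=
    { I := X.affineOpens
      X := fun U => U.1
      coversTop := by
        rw [Opens.coversTop_iff]
        exact iSup_affineOpens_eq_top X
      generators := Q }
  have : q.IsFiniteType := by
    constructor
    intro i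
    exact hQ i
  exact { exists_localGeneratorsData := ⟨q, this⟩ }

end Groth.Agent.Helper4.AffineDict
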