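import Mathlib
import Groth.Agent.Helper4.StalkDict
import Groth.Agent.Helper4.AffineDict

set_option autoImplicit false
universe u
open CategoryTheory CategoryTheory.Limits AlgebraicGeometry TopologicalSpace Opposite

namespace Groth.Agent.Helper4.StalkExact
open Groth.Agent.Helper4.StalkDict

variable {X : Scheme.{u}}

instance : (Scheme.Modules.toPresheaf X).Additive := ⟨fun {_ _ _ _} => rfl⟩

/-- sections over `V`, as a functor to abelian groups -/
noncomputable def secFunctor (X : Scheme.{u}) (V : X.Opens) : X.Modules ⥤ Ab.{u} :=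
  Scheme.Modules.toPresheaf X ⋙ (evaluation (Opens ↥X)ᵒᵖ Ab.{u}).obj (op V)

noncomputable instance (V : X.Opens) : PreservesFiniteLimits (secFunctor X V) :=
  haveI : PreservesFiniteLimits (Scheme.Modules.toPresheaf X) := inferInstance
  haveI : PreservesFiniteLimits ((evaluation (Opens ↥X)ᵒᵖ Ab.{u}).obj (op V)) := inferInstance
  comp_preservesFiniteLimits (Scheme.Modules.toPresheaf X) ((evaluation (Opens ↥X)ᵒᵖ Ab.{u}).obj (op V))

instance (V : X.Opens) : (secFunctor X V).Additive :=
  haveI : ((evaluation (Opens ↥X)ᵒᵖ Ab.{u}).obj (op V)).Additive := inferInstance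
  inferInstanceAs (Scheme.Modules.toPresheaf X ⋙ (evaluation (Opens ↥X)ᵒᵖ Ab.{u}).obj (op V)).Additive

theorem app_exact (S : ShortComplex X.Modules) (hS : S.Exact) [Mono S.f] (V : X.Opens) :
    Function.Exact (S.f.app V) (S.g.app V) := by
  have h := hS.map_of_mono_of_preservesKernel (secFunctor X V) inferInstance inferInstance
  rw [ShortComplex.ab_exact_iff_function_exact] at h
  exact h





theorem stalkLin_germ {F G : X.Modules} (φ : F ⟶ G) (x : X) (V : X.Opens) (hx : x ∈ V)
    (m : Γ(F, V)) :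
    stalkLin φ x (F.presheaf.germ V x hx m) = G.presheaf.germ V x hx (φ.app V m) := by
  rw [stalkLin_apply]
  erw [TopCat.Presheaf.stalkFunctor_map_germ_apply]
  rfl

theorem stalkLin_injective {F G : X.Modules} (φ : F ⟶ G) [Mono φ] (x : X) :
    Function.Injective (stalkLin φ x) := by
  have h := TopCat.Presheaf.stalkFunctor_map_injective_of_app_injective
    (f := φ.mapPresheaf)
    (fun V => Groth.Agent.Helper4.AffineDict.app_injective_of_mono φ V) x
  exact h

theorem app_res {F G : X.Modules} (φ : F ⟶ G) {V W : X.Opens} (i : W ⟶ V) (m : Γ(F, V)) :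
    φ.app W (F.presheaf.map i.op m) = G.presheaf.map i.op (φ.app V m) := by
  have := φ.mapPresheaf.naturality i.op
  exact congrArg (fun f => f.hom m) this

theorem stalkLin_exact (S : ShortComplex X.Modules) (hS : S.Exact) [Mono S.f] (x : X) :
    Function.Exact (stalkLin S.f x) (stalkLin S.g x) := by
  intro t
  constructor
  · intro ht
    obtain ⟨V, hxV, m, rfl⟩ := TopCat.Presheaf.exists_germ_eq S.X₂.presheaf t
    rw [stalkLin_germ] at ht
    have h0 : S.X₃.presheaf.germ V x hxV (S.g.app V m) = S.X₃.presheaf.germ V x hxV 0 := by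
      rw [ht, map_zero]
    obtain ⟨W, hxW, i₁, i₂, hW⟩ := TopCat.Presheaf.germ_eq S.X₃.presheaf x hxV hxV _ _ h0
    rw [map_zero, ← app_res] at hW
    obtain ⟨n, hn⟩ := (app_exact S hS W _).mp hW
    refine ⟨S.X₁.presheaf.germ W x hxW n, ?_⟩
    rw [stalkLin_germ, hn]
    exact TopCat.Presheaf.germ_res_apply S.X₂.presheaf i₁ x hxW m
  · rintro ⟨n, rfl⟩
    obtain ⟨V, hxV, n, rfl⟩ := TopCat.Presheaf.exists_germ_eq S.X₁.presheaf n
    rw [stalkLin_germ, stalkLin_germ]
    have : S.g.app V (S.f.app V n) = 0 := (app_exact S hS V).apply_apply_eq_zero n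
    rw [this, map_zero]



end Groth.Agent.Helper4.StalkExact
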