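import Mathlib
import Groth.Agent.Helper4.AssDict
import Groth.Agent.Helper4.StalkExact

set_option autoImplicit false
universe u
open CategoryTheory CategoryTheory.Limits AlgebraicGeometry TopologicalSpace Opposite Submodule

namespace Groth.Agent.Helper4.AssMono
open Groth.Agent.Helper4.StalkDict Groth.Agent.Helper4

variable {X : Scheme.{u}}

theorem mono_of_app_injective {F G : X.Modules} (φ : F ⟶ G)
    (h : ∀ V : X.Opens, Function.Injective (φ.app V)) : Mono φ := by
  haveI : ∀ V, Mono (((Scheme.Modules.toPresheaf X).map φ).app V) := by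
    intro V
    rw [AddCommGrpCat.mono_iff_injective]
    exact h V.unop
  haveI : Mono ((Scheme.Modules.toPresheaf X).map φ) := NatTrans.mono_of_mono_app _
  exact (Scheme.Modules.toPresheaf X).mono_of_mono_map this

theorem mono_of_stalkLin_injective {F G : X.Modules} (φ : F ⟶ G)
    (h : ∀ x : X, Function.Injective (stalkLin φ x)) : Mono φ := by
  apply mono_of_app_injective
  intro V
  have hsh : TopCat.Presheaf.IsSheaf F.presheaf := F.isSheaf
  exact TopCat.Presheaf.app_injective_of_stalkFunctor_map_injective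
    (F := ⟨F.presheaf, hsh⟩) (G := G.presheaf) φ.mapPresheaf V (fun x _ => h x)

set_option backward.isDefEq.respectTransparency false in
theorem stalkLin_injective_of_off_ass {F G : X.Modules} (φ : F ⟶ G) [F.IsQuasicoherent]
    [G.IsQuasicoherent]
    (h : ∀ x : X, Curv2.IsAssPoint F x → Function.Injective (stalkLin φ x)) (x : X) :
    Function.Injective (stalkLin φ x) := by
  rw [injective_iff_map_eq_zero]
  intro t ht
  obtain ⟨_, ⟨V, hV : IsAffineOpen V, rfl⟩, hxV, -⟩ :=
    X.isBasis_affineOpens.exists_subset_of_mem_open (Set.mem_univ x) isOpen_univ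
  letI := sectionModStalk F x hxV
  haveI := isLocalizedModule_germ hV F x hxV
  obtain ⟨⟨m, s⟩, hs⟩ := IsLocalizedModule.surj
    (hV.primeIdealOf ⟨x, hxV⟩).asIdeal.primeCompl (germLin F x hxV) t
  have hu := IsLocalizedModule.map_units (germLin F x hxV) s
  rw [Module.End.isUnit_iff] at hu
  apply hu.injective
  rw [map_zero]
  change s • t = 0
  rw [hs, germLin_apply]
  -- now show germ m = 0, knowing φ_x (germ m) = 0
  have h1 : stalkLin φ x (F.presheaf.germ V x hxV m) = 0 := by
    rw [← germLin_apply, ← hs]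
    change stalkLin φ x (X.presheaf.germ V x hxV s.1 • t) = 0
    rw [map_smul, ht, smul_zero]
  rw [StalkExact.stalkLin_germ] at h1
  -- kill φ_V m by some c ∉ p_x
  letI := sectionModStalk G x hxV
  haveI := isLocalizedModule_germ hV G x hxV
  have h2 := (IsLocalizedModule.eq_zero_iff (hV.primeIdealOf ⟨x, hxV⟩).asIdeal.primeCompl
    (germLin G x hxV) (m := φ.app V m)).mp h1
  obtain ⟨c, hc⟩ := h2
  set m' : Γ(F, V) := c.1 • m with hm'
  have hφm' : φ.app V m' = 0 := by
    rw [hm', Scheme.Modules.Hom.app_smul]; exact hc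
  have hgm' : F.presheaf.germ V x hxV m' = 0 := by
    by_contra hne
    have hle := not_not.mp ((not_congr (AssDict.germ_eq_zero_iff hV F x hxV m')).mp hne)
    obtain ⟨y, hyV, hass, hmin, -⟩ := AssDict.exists_isAssPoint_le hV F m' _ hle
    have hinj := h y hass
    have h3 : stalkLin φ y (F.presheaf.germ V y hyV m') = 0 := by
      rw [StalkExact.stalkLin_germ, hφm', map_zero]
    have h4 := (injective_iff_map_eq_zero (stalkLin φ y)).mp hinj _ h3
    rw [AssDict.germ_eq_zero_iff hV F y hyV m'] at h4
    exact h4 hmin.1.2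
  rw [hm', germ_smul] at hgm'
  have hcu : IsUnit (X.presheaf.germ V x hxV c.1) := by
    rw [← X.mem_basicOpen c.1 x hxV, mem_basicOpen_iff_notMem_primeIdealOf hV x hxV]
    exact c.2
  obtain ⟨u, hu'⟩ := hcu
  rw [← hu'] at hgm'
  have := congrArg (fun z => (↑u⁻¹ : X.presheaf.stalk x) • z) hgm'
  simpa [smul_smul] using this

theorem mono_of_off_ass {F G : X.Modules} (φ : F ⟶ G) [F.IsQuasicoherent] [G.IsQuasicoherent]
    (h : ∀ x : X, Curv2.IsAssPoint F x → Function.Injective (stalkLin φ x)) : Mono φ :=
  mono_of_stalkLin_injective φ (stalkLin_injective_of_off_ass φ h)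

end Groth.Agent.Helper4.AssMono
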