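import Mathlib
import Groth.Agent.Helper4.AssMono
import Groth.Agent.Helper4.QcqsMod

set_option autoImplicit false
universe u
open CategoryTheory CategoryTheory.Limits AlgebraicGeometry TopologicalSpace Opposite Submodule

namespace Groth.Agent.Helper4.QcohLocal
open Groth.Agent.Helper4.StalkDict Groth.Agent.Helper4 Groth.Agent.Helper4.QcqsMod

variable {X : Scheme.{u}}

/-- a morphism of `O_X`-modules which is bijective on all stalks is an isomorphism -/
theorem isIso_of_stalkLin_bijective {F G : X.Modules} (φ : F ⟶ G)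
    (h : ∀ x : X, Function.Bijective (stalkLin φ x)) : IsIso φ := by
  suffices IsIso ((Scheme.Modules.toPresheaf X).map φ) from
    isIso_of_reflects_iso φ (Scheme.Modules.toPresheaf X)
  haveI : ∀ V, IsIso (((Scheme.Modules.toPresheaf X).map φ).app V) := by
    intro V
    have hb : Function.Bijective (φ.app V.unop) :=
      TopCat.Presheaf.app_bijective_of_stalkFunctor_map_bijective
        (F := ⟨F.presheaf, F.isSheaf⟩) (G := ⟨G.presheaf, G.isSheaf⟩) ⟨φ.mapPresheaf⟩ V.unop
        (fun x _ => h x)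
    exact (ConcreteCategory.isIso_iff_bijective _).mpr hb
  exact NatIso.isIso_of_isIso_app _



/-- a morphism of `O_X`-modules which is surjective on all stalks is an epimorphism -/
theorem epi_of_stalkLin_surjective {F G : X.Modules} (φ : F ⟶ G)
    (h : ∀ x : X, Function.Surjective (stalkLin φ x)) : Epi φ := by
  suffices Epi ((SheafOfModules.toSheaf X.ringCatSheaf).map φ) from
    (SheafOfModules.toSheaf X.ringCatSheaf).epi_of_epi_map this
  have h1 : TopCat.Presheaf.IsLocallySurjective
      ((SheafOfModules.toSheaf X.ringCatSheaf).map φ).hom := by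
    rw [TopCat.Presheaf.locally_surjective_iff_surjective_on_stalks]
    exact h
  exact (TopCat.Sheaf.isLocallySurjective_iff_epi
    ((SheafOfModules.toSheaf X.ringCatSheaf).map φ)).mp h1



theorem isUnit_germ_of_mem_primeCompl {U : X.Opens} (hU : IsAffineOpen U) (x : X) (hx : x ∈ U)
    (c : (hU.primeIdealOf ⟨x, hx⟩).asIdeal.primeCompl) :
    IsUnit (X.presheaf.germ U x hx c.1) := by
  rw [← X.mem_basicOpen c.1 x hx, mem_basicOpen_iff_notMem_primeIdealOf hU x hx]
  exact c.2

set_option backward.isDefEq.respectTransparency false in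
theorem stalkLin_surjective_of_app_surjective {F G : X.Modules} (φ : F ⟶ G) {U : X.Opens}
    (hU : IsAffineOpen U) (hG : IsLocalizingOn G U)
    (h : Function.Surjective (φ.app U)) (x : X) (hx : x ∈ U) :
    Function.Surjective (stalkLin φ x) := by
  intro t
  letI := sectionModStalk G x hx
  haveI := isLocalizedModule_germ_of_isLocalizingOn G hU hG x hx
  obtain ⟨⟨n, s⟩, hs⟩ := IsLocalizedModule.surj
    (hU.primeIdealOf ⟨x, hx⟩).asIdeal.primeCompl (germLin G x hx) t
  obtain ⟨m, rfl⟩ := h n
  obtain ⟨u, hu⟩ := isUnit_germ_of_mem_primeCompl hU x hx s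
  refine ⟨(↑u⁻¹ : X.presheaf.stalk x) • F.presheaf.germ U x hx m, ?_⟩
  rw [map_smul, StalkExact.stalkLin_germ, ← germLin_apply, ← hs]
  change (↑u⁻¹ : X.presheaf.stalk x) • (X.presheaf.germ U x hx s.1 • t) = t
  rw [← hu, smul_smul]
  simp

set_option backward.isDefEq.respectTransparency false in
theorem stalkLin_injective_of_app_injective {F G : X.Modules} (φ : F ⟶ G) {U : X.Opens}
    (hU : IsAffineOpen U) (hF : IsLocalizingOn F U) (hG : IsLocalizingOn G U)
    (h : Function.Injective (φ.app U)) (x : X) (hx : x ∈ U) :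
    Function.Injective (stalkLin φ x) := by
  rw [injective_iff_map_eq_zero]
  intro t ht
  letI := sectionModStalk F x hx
  haveI := isLocalizedModule_germ_of_isLocalizingOn F hU hF x hx
  obtain ⟨⟨m, s⟩, hs⟩ := IsLocalizedModule.surj
    (hU.primeIdealOf ⟨x, hx⟩).asIdeal.primeCompl (germLin F x hx) t
  have hu := IsLocalizedModule.map_units (germLin F x hx) s
  rw [Module.End.isUnit_iff] at hu
  apply hu.injective
  rw [map_zero]
  change s • t = 0
  rw [hs, germLin_apply]
  have h1 : stalkLin φ x (F.presheaf.germ U x hx m) = 0 := by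
    rw [← germLin_apply, ← hs]
    change stalkLin φ x (X.presheaf.germ U x hx s.1 • t) = 0
    rw [map_smul, ht, smul_zero]
  rw [StalkExact.stalkLin_germ] at h1
  letI := sectionModStalk G x hx
  haveI := isLocalizedModule_germ_of_isLocalizingOn G hU hG x hx
  have h2 := (IsLocalizedModule.eq_zero_iff (hU.primeIdealOf ⟨x, hx⟩).asIdeal.primeCompl
    (germLin G x hx) (m := φ.app U m)).mp h1
  obtain ⟨c, hc⟩ := h2
  have hφm' : φ.app U (c.1 • m) = 0 := by
    rw [Scheme.Modules.Hom.app_smul]; exact hc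
  have hm' : c.1 • m = 0 := h (hφm'.trans (map_zero _).symm)
  have hgm' := congrArg (F.presheaf.germ U x hx) hm'
  rw [germ_smul, map_zero] at hgm'
  obtain ⟨u, hu'⟩ := isUnit_germ_of_mem_primeCompl hU x hx c
  rw [← hu'] at hgm'
  have := congrArg (fun z => (↑u⁻¹ : X.presheaf.stalk x) • z) hgm'
  simpa [smul_smul] using this


theorem stalkLin_eq_zero_of_app_eq_zero {F G : X.Modules} (φ : F ⟶ G) {U : X.Opens}
    (hU : IsAffineOpen U) (hF : IsLocalizingOn F U)
    (h : ∀ m : Γ(F, U), φ.app U m = 0) (x : X) (hx : x ∈ U) (t : F.presheaf.stalk x) :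
    stalkLin φ x t = 0 := by
  letI := sectionModStalk F x hx
  haveI := isLocalizedModule_germ_of_isLocalizingOn F hU hF x hx
  obtain ⟨⟨m, s⟩, hs⟩ := IsLocalizedModule.surj
    (hU.primeIdealOf ⟨x, hx⟩).asIdeal.primeCompl (germLin F x hx) t
  obtain ⟨u, hu⟩ := isUnit_germ_of_mem_primeCompl hU x hx s
  have h1 : stalkLin φ x (X.presheaf.germ U x hx s.1 • t) = 0 := by
    have : X.presheaf.germ U x hx s.1 • t = F.presheaf.germ U x hx m := hs
    rw [this, StalkExact.stalkLin_germ, h m, map_zero]
  rw [map_smul, ← hu] at h1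
  have := congrArg (fun z => (↑u⁻¹ : X.presheaf.stalk x) • z) h1
  simpa [smul_smul] using this

theorem eq_zero_of_stalkLin_eq_zero {F G : X.Modules} (φ : F ⟶ G)
    (h : ∀ (x : X) (t : F.presheaf.stalk x), stalkLin φ x t = 0) : φ = 0 := by
  apply Scheme.Modules.hom_ext
  intro V
  ext s
  apply section_ext G
  intro x hx
  rw [← StalkExact.stalkLin_germ, h]
  exact (map_zero _).symm

/-- a morphism between quasi-coherent modules which is bijective on the sections over the members
of an affine open cover is an isomorphism. -/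
theorem isIso_of_app_bijective_of_affine_cover {F G : X.Modules} [F.IsQuasicoherent]
    [G.IsQuasicoherent] (φ : F ⟶ G)
    (h : ∀ x : X, ∃ U : X.Opens, IsAffineOpen U ∧ x ∈ U ∧ Function.Bijective (φ.app U)) :
    IsIso φ := by
  apply isIso_of_stalkLin_bijective
  intro x
  obtain ⟨U, hU, hx, hb⟩ := h x
  exact ⟨stalkLin_injective_of_app_injective φ hU (isLocalizingOn_of_isAffineOpen F hU)
    (isLocalizingOn_of_isAffineOpen G hU) hb.1 x hx,
    stalkLin_surjective_of_app_surjective φ hU (isLocalizingOn_of_isAffineOpen G hU) hb.2 x hx⟩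

theorem epi_of_app_surjective_of_affine_cover {F G : X.Modules}
    [G.IsQuasicoherent] (φ : F ⟶ G)
    (h : ∀ x : X, ∃ U : X.Opens, IsAffineOpen U ∧ x ∈ U ∧ Function.Surjective (φ.app U)) :
    Epi φ := by
  apply epi_of_stalkLin_surjective
  intro x
  obtain ⟨U, hU, hx, hb⟩ := h x
  exact stalkLin_surjective_of_app_surjective φ hU (isLocalizingOn_of_isAffineOpen G hU) hb x hx

theorem mono_of_app_injective_of_affine_cover {F G : X.Modules} [F.IsQuasicoherent]
    [G.IsQuasicoherent] (φ : F ⟶ G)
    (h : ∀ x : X, ∃ U : X.Opens, IsAffineOpen U ∧ x ∈ U ∧ Function.Injective (φ.app U)) :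
    Mono φ := by
  apply AssMono.mono_of_stalkLin_injective
  intro x
  obtain ⟨U, hU, hx, hb⟩ := h x
  exact stalkLin_injective_of_app_injective φ hU (isLocalizingOn_of_isAffineOpen F hU)
    (isLocalizingOn_of_isAffineOpen G hU) hb x hx

theorem eq_zero_of_app_eq_zero_of_affine_cover {F G : X.Modules} [F.IsQuasicoherent]
    (φ : F ⟶ G)
    (h : ∀ x : X, ∃ U : X.Opens, IsAffineOpen U ∧ x ∈ U ∧ ∀ m : Γ(F, U), φ.app U m = 0) :
    φ = 0 := by
  apply eq_zero_of_stalkLin_eq_zero
  intro x t
  obtain ⟨U, hU, hx, hb⟩ := h x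
  exact stalkLin_eq_zero_of_app_eq_zero φ hU (isLocalizingOn_of_isAffineOpen F hU) hb x hx t

end Groth.Agent.Helper4.QcohLocal
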