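import Mathlib
import Groth.Agent.Helper4.QcohLocal

set_option autoImplicit false
universe u w w'
open CategoryTheory CategoryTheory.Limits AlgebraicGeometry TopologicalSpace Opposite Submodule

namespace Groth.Agent.Helper4.TildeExact

variable (R : CommRingCat.{u})

instance preservesFiniteColimits_tilde : PreservesFiniteColimits (tilde.functor R) := by
  haveI : PreservesColimitsOfSize.{0, 0} (tilde.functor R) :=
    (tilde.adjunction (R := R)).leftAdjoint_preservesColimits
  exact PreservesColimitsOfSize.preservesFiniteColimits _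

theorem app_top_injective {M N : ModuleCat.{u} R} (i : M ⟶ N) (hi : Function.Injective i.hom) :
    Function.Injective ((tilde.map i).app ⊤) := by
  have hcomm := tilde.toOpen_map_app i ⊤
  have hM : Function.Bijective (tilde.toOpen M ⊤).hom :=
    ConcreteCategory.bijective_of_isIso (tilde.toOpen M ⊤)
  have hN : Function.Bijective (tilde.toOpen N ⊤).hom :=
    ConcreteCategory.bijective_of_isIso (tilde.toOpen N ⊤)
  intro a b hab
  obtain ⟨a', rfl⟩ := hM.2 a
  obtain ⟨b', rfl⟩ := hM.2 b
  have h1 : ∀ m, ((modulesSpecToSheaf.map (tilde.map i)).1.app (op ⊤)).hom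
      ((tilde.toOpen M ⊤).hom m) = (tilde.toOpen N ⊤).hom (i.hom m) :=
    fun m => congrArg (fun φ => φ.hom m) hcomm
  have h2 : (tilde.toOpen N ⊤).hom (i.hom a') = (tilde.toOpen N ⊤).hom (i.hom b') := by
    rw [← h1, ← h1]; exact hab
  rw [hi (hN.1 h2)]

theorem mono_tilde_map {M N : ModuleCat.{u} R} (i : M ⟶ N) [Mono i] : Mono (tilde.map i) := by
  apply QcohLocal.mono_of_app_injective_of_affine_cover
  intro x
  exact ⟨⊤, isAffineOpen_top _, trivial,
    app_top_injective R i ((ModuleCat.mono_iff_injective i).mp ‹Mono i›)⟩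

instance preservesFiniteLimits_tilde : PreservesFiniteLimits (tilde.functor R) := by
  rw [Functor.preservesFiniteLimits_iff_forall_exact_map_and_mono]
  intro S hS
  refine ⟨?_, ?_⟩
  · have h0 : PreservesFiniteColimits (tilde.functor R) := inferInstance
    have h1 : ∀ (S : ShortComplex (ModuleCat.{u} R)), S.ShortExact →
        (S.map (tilde.functor R)).Exact ∧ Epi ((tilde.functor R).map S.g) :=
      ((Functor.preservesFiniteColimits_tfae (tilde.functor R)).out 3 0).mp h0
    exact (h1 S hS).1
  · haveI := hS.mono_f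
    exact mono_tilde_map R S.f

section Lim
variable {R : CommRingCat.{u}}

/-- for a diagram of quasi-coherent modules on `Spec R`, `F ≅ (F ⋙ Γ) ⋙ tilde` -/
noncomputable def tildeΓIso {J : Type w} [Category.{w'} J] (F : J ⥤ (Spec R).Modules)
    (hF : ∀ j, (F.obj j).IsQuasicoherent) :
    (F ⋙ moduleSpecΓFunctor (R := R)) ⋙ tilde.functor R ≅ F := by
  haveI : ∀ j, IsIso ((Functor.whiskerLeft F (Scheme.Modules.fromTildeΓNatTrans (R := R))).app j) := by
    intro j
    haveI := hF j
    exact inferInstanceAs (IsIso (F.obj j).fromTildeΓ)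
  haveI : IsIso (Functor.whiskerLeft F (Scheme.Modules.fromTildeΓNatTrans (R := R))) :=
    NatIso.isIso_of_isIso_app _
  exact (Functor.associator _ _ _) ≪≫
    asIso (Functor.whiskerLeft F (Scheme.Modules.fromTildeΓNatTrans (R := R))) ≪≫
    F.rightUnitor

theorem isQuasicoherent_colimit {J : Type w} [Category.{w'} J] (F : J ⥤ (Spec R).Modules)
    [HasColimit F] [HasColimit (F ⋙ moduleSpecΓFunctor (R := R))]
    [PreservesColimit (F ⋙ moduleSpecΓFunctor (R := R)) (tilde.functor R)]
    (hF : ∀ j, (F.obj j).IsQuasicoherent) : (colimit F).IsQuasicoherent := by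
  haveI : HasColimit ((F ⋙ moduleSpecΓFunctor (R := R)) ⋙ tilde.functor R) :=
    hasColimit_of_iso (tildeΓIso F hF)
  let e : (tilde.functor R).obj (colimit (F ⋙ moduleSpecΓFunctor (R := R))) ≅ colimit F :=
    preservesColimitIso (tilde.functor R) (F ⋙ moduleSpecΓFunctor (R := R)) ≪≫
      HasColimit.isoOfNatIso (tildeΓIso F hF)
  have h0 : ((tilde.functor R).obj (colimit (F ⋙ moduleSpecΓFunctor (R := R)))).IsQuasicoherent :=
    inferInstance
  exact (SheafOfModules.isQuasicoherent (Spec R).ringCatSheaf).prop_of_iso e h0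

theorem isQuasicoherent_limit {J : Type w} [Category.{w'} J] (F : J ⥤ (Spec R).Modules)
    [HasLimit F] [HasLimit (F ⋙ moduleSpecΓFunctor (R := R))]
    [PreservesLimit (F ⋙ moduleSpecΓFunctor (R := R)) (tilde.functor R)]
    (hF : ∀ j, (F.obj j).IsQuasicoherent) : (limit F).IsQuasicoherent := by
  haveI : HasLimit ((F ⋙ moduleSpecΓFunctor (R := R)) ⋙ tilde.functor R) :=
    hasLimit_of_iso (tildeΓIso F hF).symm
  let e : (tilde.functor R).obj (limit (F ⋙ moduleSpecΓFunctor (R := R))) ≅ limit F :=
    preservesLimitIso (tilde.functor R) (F ⋙ moduleSpecΓFunctor (R := R)) ≪≫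
      HasLimit.isoOfNatIso (tildeΓIso F hF)
  have h0 : ((tilde.functor R).obj (limit (F ⋙ moduleSpecΓFunctor (R := R)))).IsQuasicoherent :=
    inferInstance
  exact (SheafOfModules.isQuasicoherent (Spec R).ringCatSheaf).prop_of_iso e h0

end Lim

end Groth.Agent.Helper4.TildeExact
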