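import Mathlib
import Groth.Agent.Helper4.QcohGlue
import Groth.Agent.Helper4.TildeExact

set_option autoImplicit false
universe u w w'
open CategoryTheory CategoryTheory.Limits AlgebraicGeometry TopologicalSpace Opposite Submodule

namespace Groth.Agent.Helper4.QcohLimits
open Groth.Agent.Helper4

set_option backward.isDefEq.respectTransparency false in
noncomputable instance isRightAdjoint_restrictFunctor {X Y : Scheme.{u}} (f : X ⟶ Y)
    [IsOpenImmersion f] : (Scheme.Modules.restrictFunctor f).IsRightAdjoint := by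
  unfold Scheme.Modules.restrictFunctor
  exact SheafOfModules.instIsRightAdjointPushforward.{u} _

variable {X : Scheme.{u}}

theorem exists_affine_nhd (x : X) : ∃ (U : X.Opens), IsAffineOpen U ∧ x ∈ U := by
  obtain ⟨_, ⟨V, hV : IsAffineOpen V, rfl⟩, hxV, -⟩ :=
    X.isBasis_affineOpens.exists_subset_of_mem_open (Set.mem_univ x) isOpen_univ
  exact ⟨V, hV, hxV⟩

/-- finite limits of quasi-coherent modules are quasi-coherent -/
theorem isQuasicoherent_limit {J : Type} [SmallCategory J] [FinCategory J] (D : J ⥤ X.Modules)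
    (hD : ∀ j, (D.obj j).IsQuasicoherent) : (limit D).IsQuasicoherent := by
  apply QcohGlue.isQuasicoherent_of_affine_cover
  intro x
  obtain ⟨U, hU, hx⟩ := exists_affine_nhd x
  refine ⟨U, hU, hx, ?_⟩
  let R := Scheme.Modules.restrictFunctor hU.fromSpec
  haveI : PreservesLimit D R := inferInstance
  let e : R.obj (limit D) ≅ limit (D ⋙ R) := preservesLimitIso R D
  haveI h1 := TildeExact.preservesFiniteLimits_tilde Γ(X, U)
  haveI : PreservesLimitsOfShape J (tilde.functor Γ(X, U)) := h1.preservesFiniteLimits J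
  have h2 : (limit (D ⋙ R)).IsQuasicoherent :=
    TildeExact.isQuasicoherent_limit (D ⋙ R) (fun j => by
      haveI := hD j
      exact Scheme.Modules.isQuasicoherent_restrictFunctor hU.fromSpec (D.obj j))
  exact (SheafOfModules.isQuasicoherent (Spec Γ(X, U)).ringCatSheaf).prop_of_iso e.symm h2

/-- small colimits of quasi-coherent modules are quasi-coherent -/
theorem isQuasicoherent_colimit {J : Type w} [Category.{w'} J] (D : J ⥤ X.Modules)
    [HasColimit D] [∀ (R : CommRingCat.{u}), HasColimitsOfShape J (ModuleCat.{u} R)]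
    (hD : ∀ j, (D.obj j).IsQuasicoherent) : (colimit D).IsQuasicoherent := by
  apply QcohGlue.isQuasicoherent_of_affine_cover
  intro x
  obtain ⟨U, hU, hx⟩ := exists_affine_nhd x
  refine ⟨U, hU, hx, ?_⟩
  let R := Scheme.Modules.restrictFunctor hU.fromSpec
  haveI : PreservesColimit D R := inferInstance
  let e : R.obj (colimit D) ≅ colimit (D ⋙ R) := preservesColimitIso R D
  haveI : PreservesColimitsOfSize.{w', w} (tilde.functor Γ(X, U)) :=
    (tilde.adjunction (R := Γ(X, U))).leftAdjoint_preservesColimits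
  have h2 : (colimit (D ⋙ R)).IsQuasicoherent :=
    TildeExact.isQuasicoherent_colimit (D ⋙ R) (fun j => by
      haveI := hD j
      exact Scheme.Modules.isQuasicoherent_restrictFunctor hU.fromSpec (D.obj j))
  exact (SheafOfModules.isQuasicoherent (Spec Γ(X, U)).ringCatSheaf).prop_of_iso e.symm h2

theorem isQuasicoherent_kernel {F G : X.Modules} (φ : F ⟶ G) [hF : F.IsQuasicoherent]
    [hG : G.IsQuasicoherent] : (kernel φ).IsQuasicoherent :=
  isQuasicoherent_limit (parallelPair φ 0) (by rintro (_ | _); exacts [hF, hG])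

theorem isQuasicoherent_cokernel {F G : X.Modules} (φ : F ⟶ G) [hF : F.IsQuasicoherent]
    [hG : G.IsQuasicoherent] : (cokernel φ).IsQuasicoherent :=
  isQuasicoherent_colimit (parallelPair φ 0) (by rintro (_ | _); exacts [hF, hG])

theorem isQuasicoherent_pullback {F G H : X.Modules} (f : F ⟶ H) (g : G ⟶ H)
    [hF : F.IsQuasicoherent] [hG : G.IsQuasicoherent] [hH : H.IsQuasicoherent] :
    (pullback f g).IsQuasicoherent :=
  isQuasicoherent_limit (cospan f g) (by rintro (_ | _ | _); exacts [hH, hF, hG])

theorem isQuasicoherent_pushout {F G H : X.Modules} (f : H ⟶ F) (g : H ⟶ G)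
    [hF : F.IsQuasicoherent] [hG : G.IsQuasicoherent] [hH : H.IsQuasicoherent] :
    (pushout f g).IsQuasicoherent :=
  isQuasicoherent_colimit (span f g) (by rintro (_ | _ | _); exacts [hH, hF, hG])

theorem isQuasicoherent_of_iso {F G : X.Modules} (e : F ≅ G) [hF : F.IsQuasicoherent] :
    G.IsQuasicoherent :=
  (SheafOfModules.isQuasicoherent X.ringCatSheaf).prop_of_iso e hF

theorem isQuasicoherent_image {F G : X.Modules} (φ : F ⟶ G) [hF : F.IsQuasicoherent]
    [hG : G.IsQuasicoherent] : (Abelian.image φ).IsQuasicoherent := by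
  haveI := isQuasicoherent_cokernel φ
  exact isQuasicoherent_kernel (cokernel.π φ)

theorem isQuasicoherent_sigma {ι : Type u} (F : ι → X.Modules) (hF : ∀ i, (F i).IsQuasicoherent) :
    (∐ F).IsQuasicoherent :=
  isQuasicoherent_colimit (Discrete.functor F) (fun j => hF j.as)

theorem isQuasicoherent_biprod (F G : X.Modules) [hF : F.IsQuasicoherent]
    [hG : G.IsQuasicoherent] : (F ⊞ G).IsQuasicoherent := by
  have h : (F ⨯ G).IsQuasicoherent :=
    isQuasicoherent_limit (pair F G) (by rintro ⟨_ | _⟩; exacts [hF, hG])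
  exact isQuasicoherent_of_iso (biprod.isoProd F G).symm (hF := h)

end Groth.Agent.Helper4.QcohLimits
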