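import Mathlib
import Groth.Agent.Helper4.StalkDict
import Groth.Prelude.Def_CohB1

set_option autoImplicit false
universe u
open CategoryTheory CategoryTheory.Limits AlgebraicGeometry TopologicalSpace Opposite

namespace Groth.Agent.Helper4.SuppDict
open Groth.Agent.Helper4.StalkDict

variable {X : Scheme.{u}} {U : X.Opens} (hU : IsAffineOpen U) (F : X.Modules)

include hU in
set_option backward.isDefEq.respectTransparency false in
theorem mem_support_iff [F.IsQuasicoherent] (x : X) (hx : x ∈ U) :
    hU.primeIdealOf ⟨x, hx⟩ ∈ Module.support Γ(X, U) Γ(F, U) ↔ x ∈ CohB1.support F := by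
  letI := sectionModStalk F x hx
  haveI := isLocalizedModule_germ hU F x hx
  rw [Module.mem_support_iff]
  let e := IsLocalizedModule.iso (hU.primeIdealOf ⟨x, hx⟩).asIdeal.primeCompl (germLin F x hx)
  change _ ↔ ¬ Subsingleton (F.presheaf.stalk x)
  rw [not_subsingleton_iff_nontrivial]
  exact e.toEquiv.nontrivial_congr






include hU in
theorem primeIdealOf_le_of_specializes {x y : X} (hx : x ∈ U) (hy : y ∈ U) (h : x ⤳ y) :
    hU.primeIdealOf ⟨x, hx⟩ ≤ hU.primeIdealOf ⟨y, hy⟩ := by
  rw [PrimeSpectrum.le_iff_specializes]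
  have := (hU.fromSpec.isOpenEmbedding.isInducing.specializes_iff
    (x := hU.primeIdealOf ⟨x, hx⟩) (y := hU.primeIdealOf ⟨y, hy⟩)).mp
  apply this
  rw [hU.fromSpec_primeIdealOf, hU.fromSpec_primeIdealOf]
  exact h

theorem stableUnderSpecialization_support (F : X.Modules) [F.IsQuasicoherent] :
    StableUnderSpecialization (CohB1.support F) := by
  intro x y h hx
  obtain ⟨_, ⟨V, hV : IsAffineOpen V, rfl⟩, hyV, -⟩ :=
    X.isBasis_affineOpens.exists_subset_of_mem_open (Set.mem_univ y) isOpen_univ
  have hxV : x ∈ V := h.mem_open V.isOpen hyV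
  rw [← mem_support_iff hV F y hyV]
  rw [← mem_support_iff hV F x hxV] at hx
  exact Module.mem_support_mono (primeIdealOf_le_of_specializes hV hxV hyV h) hx



end Groth.Agent.Helper4.SuppDict
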