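import Groth.Agent.Helper4.TensorLift
import Mathlib

set_option autoImplicit false
universe u
open CategoryTheory CategoryTheory.Limits AlgebraicGeometry Opposite TopologicalSpace TensorProduct
  MonoidalCategory

namespace Groth.Agent.Helper4.TensorRes

open Groth.Agent.Helper4.TensorLift

variable {X Y : Scheme.{u}} (j : Y ⟶ X) [IsOpenImmersion j] (M N : X.Modules)

theorem restrict_smul (M : X.Modules) (V : Y.Opens) (r : Γ(Y, V)) (m : Γ(M, j ''ᵁ V)) :
    (r • (show Γ(M.restrict j, V) from m)) = ((j.appIso V).inv r) • m := rfl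

/-- the bilinear family defining `M|_Y ⊗ N|_Y ⟶ (M ⊗ N)|_Y` -/
noncomputable def resBil : Bil (M.restrict j) (N.restrict j) ((CohB1.tensorMod M N).restrict j) where
  f V m n := SecTwist.tmul M N (j ''ᵁ V) m n
  add_left V m m' n := tmul_add_left M N (j ''ᵁ V) m m' n
  add_right V m n n' := tmul_add_right M N (j ''ᵁ V) m n n'
  smul_left V r m n := tmul_smul_left M N (j ''ᵁ V) ((j.appIso V).inv r) m n
  smul_right V r m n := tmul_smul_right M N (j ''ᵁ V) ((j.appIso V).inv r) m n
  map {V V'} i m n := SecTwist.map_tmul M N (j.opensFunctor.map i) m n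

/-- comparison of presheaf tensor products, additive -/
noncomputable def kappa (V : Y.Opens) :
    TT (M.restrict j) (N.restrict j) V →+ TT M N (j ''ᵁ V) :=
  TensorProduct.liftAddHom (R := RR Y V) (M := SS (M.restrict j) V) (N := SS (N.restrict j) V)
    { toFun := fun m =>
        { toFun := fun n => TensorLift.pure M N (j ''ᵁ V) m n
          map_zero' := by
            have := pure_add_right M N (j ''ᵁ V) m 0 0
            rw [add_zero] at this
            exact left_eq_add.mp this
          map_add' := fun n n' => pure_add_right M N (j ''ᵁ V) m n n' }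
      map_zero' := by
        ext n
        have := pure_add_left M N (j ''ᵁ V) 0 0 n
        rw [add_zero] at this
        exact left_eq_add.mp this
      map_add' := fun m m' => by
        ext n
        exact pure_add_left M N (j ''ᵁ V) m m' n }
    (fun r m n => by
      change TensorLift.pure M N (j ''ᵁ V) (((j.appIso V).inv r) • (show Γ(M, j ''ᵁ V) from m)) n =
        TensorLift.pure M N (j ''ᵁ V) m (((j.appIso V).inv r) • (show Γ(N, j ''ᵁ V) from n))
      rw [pure_smul_left, pure_smul_right])

theorem kappa_pure (V : Y.Opens) (m : Γ(M.restrict j, V)) (n : Γ(N.restrict j, V)) :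
    kappa j M N V (TensorLift.pure (M.restrict j) (N.restrict j) V m n) = TensorLift.pure M N (j ''ᵁ V) m n :=
  TensorProduct.liftAddHom_tmul _ _ _ _

theorem smul_eq_restrict_smul (M : X.Modules) (V : Y.Opens) (r : Γ(X, j ''ᵁ V))
    (m : Γ(M, j ''ᵁ V)) :
    r • m = (((j.appIso V).hom r) • (show Γ(M.restrict j, V) from m)) := by
  rw [restrict_smul]
  congr 1
  exact (Iso.hom_inv_id_apply (j.appIso V) r).symm

/-- comparison of presheaf tensor products, additive, reverse direction -/
noncomputable def kappa' (V : Y.Opens) :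
    TT M N (j ''ᵁ V) →+ TT (M.restrict j) (N.restrict j) V :=
  TensorProduct.liftAddHom (R := RR X (j ''ᵁ V)) (M := SS M (j ''ᵁ V)) (N := SS N (j ''ᵁ V))
    { toFun := fun m =>
        { toFun := fun n => TensorLift.pure (M.restrict j) (N.restrict j) V m n
          map_zero' := by
            have := pure_add_right (M.restrict j) (N.restrict j) V m 0 0
            rw [add_zero] at this
            exact left_eq_add.mp this
          map_add' := fun n n' => pure_add_right (M.restrict j) (N.restrict j) V m n n' }
      map_zero' := by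
        ext n
        have := pure_add_left (M.restrict j) (N.restrict j) V 0 0 n
        rw [add_zero] at this
        exact left_eq_add.mp this
      map_add' := fun m m' => by
        ext n
        exact pure_add_left (M.restrict j) (N.restrict j) V m m' n }
    (fun r m n => by
      change TensorLift.pure (M.restrict j) (N.restrict j) V
          ((show Γ(X, j ''ᵁ V) from r) • (show Γ(M, j ''ᵁ V) from m)) n =
        TensorLift.pure (M.restrict j) (N.restrict j) V m
          ((show Γ(X, j ''ᵁ V) from r) • (show Γ(N, j ''ᵁ V) from n))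
      rw [smul_eq_restrict_smul, smul_eq_restrict_smul, pure_smul_left, pure_smul_right])

theorem kappa'_pure (V : Y.Opens) (m : Γ(M, j ''ᵁ V)) (n : Γ(N, j ''ᵁ V)) :
    kappa' j M N V (TensorLift.pure M N (j ''ᵁ V) m n) = TensorLift.pure (M.restrict j) (N.restrict j) V m n :=
  TensorProduct.liftAddHom_tmul _ _ _ _

theorem kappa'_kappa (V : Y.Opens) (x : TT (M.restrict j) (N.restrict j) V) :
    kappa' j M N V (kappa j M N V x) = x := by
  have h : (kappa' j M N V).comp (kappa j M N V) = AddMonoidHom.id _ := by
    apply addHom_ext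
    intro m n
    change kappa' j M N V (kappa j M N V (TensorLift.pure _ _ V m n)) = TensorLift.pure _ _ V m n
    rw [kappa_pure, kappa'_pure]
  exact DFunLike.congr_fun h x

theorem kappa_kappa' (V : Y.Opens) (x : TT M N (j ''ᵁ V)) :
    kappa j M N V (kappa' j M N V x) = x := by
  have h : (kappa j M N V).comp (kappa' j M N V) = AddMonoidHom.id _ := by
    apply addHom_ext
    intro m n
    change kappa j M N V (kappa' j M N V (TensorLift.pure _ _ _ m n)) = TensorLift.pure _ _ _ m n
    rw [kappa'_pure, kappa_pure]
  exact DFunLike.congr_fun h x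

theorem lin_eq (V : Y.Opens) (x : TT (M.restrict j) (N.restrict j) V) :
    (resBil j M N).lin V x = tt M N (j ''ᵁ V) (kappa j M N V x) := by
  have h : ((resBil j M N).lin V).toAddMonoidHom =
      (ttAdd M N (j ''ᵁ V)).comp (kappa j M N V) := by
    apply addHom_ext
    intro m n
    change (resBil j M N).lin V (TensorLift.pure _ _ V m n) = tt M N _ (kappa j M N V (TensorLift.pure _ _ V m n))
    rw [Bil.lin_pure, kappa_pure]
    rfl
  exact DFunLike.congr_fun h x

theorem kappa_preMap {V V' : Y.Opens} (i : V' ⟶ V) (x : TT (M.restrict j) (N.restrict j) V) :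
    kappa j M N V' (preMap _ _ i x) = preMap M N (j.opensFunctor.map i) (kappa j M N V x) := by
  have h : (kappa j M N V').comp (preMap (M.restrict j) (N.restrict j) i) =
      (preMap M N (j.opensFunctor.map i)).comp (kappa j M N V) := by
    apply addHom_ext
    intro m n
    change kappa j M N V' (preMap _ _ i (TensorLift.pure _ _ V m n)) =
      preMap M N _ (kappa j M N V (TensorLift.pure _ _ V m n))
    rw [preMap_pure, kappa_pure, kappa_pure, preMap_pure]
    rfl
  exact DFunLike.congr_fun h x

theorem preMap_comp (A B : X.Modules) {V V' V'' : X.Opens} (i : V' ⟶ V) (k : V'' ⟶ V')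
    (x : TT A B V) : preMap A B (k ≫ i) x = preMap A B k (preMap A B i x) :=
  PresheafOfModules.map_comp_apply (CohB1.tensorPre A B) i.op k.op x

theorem isIso_resLift : IsIso (resBil j M N).lift := by
  apply Bil.isIso_lift
  · intro V x y h p hp
    rw [lin_eq, lin_eq] at h
    have hjp : j p ∈ j ''ᵁ V := ⟨p, hp, rfl⟩
    obtain ⟨W', i', hpW', hW'⟩ := toTensor_locInj M N (j ''ᵁ V) _ _ h (j p) hjp
    have hWV : j ⁻¹ᵁ W' ≤ V := by
      have := (Opens.map j.base).monotone (leOfHom i')
      rwa [Scheme.Hom.preimage_image_eq] at this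
    have hjW : j ''ᵁ (j ⁻¹ᵁ W') ≤ W' := by
      rw [Scheme.Hom.image_preimage_eq_opensRange_inf]
      exact inf_le_right
    refine ⟨j ⁻¹ᵁ W', homOfLE hWV, hpW', ?_⟩
    have h1 : ∀ z, kappa j M N (j ⁻¹ᵁ W') (preMap _ _ (homOfLE hWV) z) =
        preMap M N (homOfLE hjW) (preMap M N i' (kappa j M N V z)) := by
      intro z
      rw [kappa_preMap, ← preMap_comp]
      rfl
    have h2 := h1 x
    rw [hW', ← h1 y] at h2
    have h3 := congrArg (kappa' j M N (j ⁻¹ᵁ W')) h2
    rwa [kappa'_kappa, kappa'_kappa] at h3
  · intro V s p hp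
    have hjp : j p ∈ j ''ᵁ V := ⟨p, hp, rfl⟩
    obtain ⟨W', i', hpW', x', hx'⟩ := toTensor_locSurj M N (j ''ᵁ V) s (j p) hjp
    have hWV : j ⁻¹ᵁ W' ≤ V := by
      have := (Opens.map j.base).monotone (leOfHom i')
      rwa [Scheme.Hom.preimage_image_eq] at this
    have hjW : j ''ᵁ (j ⁻¹ᵁ W') ≤ W' := by
      rw [Scheme.Hom.image_preimage_eq_opensRange_inf]
      exact inf_le_right
    refine ⟨j ⁻¹ᵁ W', homOfLE hWV, hpW', kappa' j M N _ (preMap M N (homOfLE hjW) x'), ?_⟩
    rw [lin_eq, kappa_kappa']
    have h1 := tt_map M N (homOfLE hjW) x'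
    change _ = tt M N _ (preMap M N (homOfLE hjW) x') at h1
    rw [← h1, hx']
    change ((CohB1.tensorMod M N).presheaf.map i'.op ≫
      (CohB1.tensorMod M N).presheaf.map (homOfLE hjW).op) s = _
    rw [← Functor.map_comp]
    rfl

/-- restriction commutes with the tensor product -/
noncomputable def resIso :
    CohB1.tensorMod (M.restrict j) (N.restrict j) ≅ (CohB1.tensorMod M N).restrict j :=
  @asIso _ _ _ _ (resBil j M N).lift (isIso_resLift j M N)

theorem resIso_hom_tmul (V : Y.Opens) (m : Γ(M.restrict j, V)) (n : Γ(N.restrict j, V)) :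
    (resIso j M N).hom.app V (SecTwist.tmul (M.restrict j) (N.restrict j) V m n) =
      SecTwist.tmul M N (j ''ᵁ V) m n :=
  (resBil j M N).lift_tmul V m n

end Groth.Agent.Helper4.TensorRes
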