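import Mathlib
import Groth.Prelude.Def_CohB1
import Groth.Agent.Helper4.FTLocal
import Groth.Agent.Helper4.FTTilde
import Groth.Agent.Helper4.FPTilde
import Groth.Agent.Helper4.FTRestrict

set_option autoImplicit false
open CategoryTheory Limits AlgebraicGeometry TopologicalSpace Opposite
universe u

namespace Groth.Agent.Helper4.CohFP

open Groth.Agent.Helper4

theorem exists_presentation_tilde (R : CommRingCat.{u}) (M : ModuleCat.{u} R)
    [Module.FinitePresentation R M] :
    ∃ P : SheafOfModules.Presentation (R := (Spec R).ringCatSheaf) (tilde M), P.IsFinite := by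
  obtain ⟨s, hs⟩ := Module.finite_def.mp (inferInstance : Module.Finite R M)
  have hsurj : Function.Surjective
      (Finsupp.linearCombination R (Subtype.val : ((s : Set M) : Type u) → M)) := by
    rw [← LinearMap.range_eq_top, Finsupp.range_linearCombination, Subtype.range_coe, hs]
  have hker : (LinearMap.ker
      (Finsupp.linearCombination R (Subtype.val : ((s : Set M) : Type u) → M))).FG :=
    Module.FinitePresentation.fg_ker _ hsurj
  obtain ⟨t, ht⟩ := hker
  let P := presentationTilde.{u} M (s : Set M) hs (t : Set _) ht
  exact ⟨P,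
    { isFiniteType_generators := ⟨by change Finite (s : Set M); infer_instance⟩
      isFiniteType_relations := ⟨by
        change Finite ((t : Set (((s : Set M) : Type u) →₀ R)) : Type u); infer_instance⟩ }⟩

set_option backward.isDefEq.respectTransparency false in
open Scheme.Modules in
theorem exists_presentation_restrict_affine {X : Scheme.{u}} [IsLocallyNoetherian X]
    (M : X.Modules) (hq : SheafOfModules.IsQuasicoherent (R := X.ringCatSheaf) M)
    (hM : SheafOfModules.IsFiniteType (R := X.ringCatSheaf) M) (U : X.Opens)
    (hU : IsAffineOpen U) :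
    ∃ P : SheafOfModules.Presentation (R := (U : Scheme.{u}).ringCatSheaf) (M.restrict U.ι),
      P.IsFinite := by
  let A : CommRingCat.{u} := Γ(X, U)
  haveI : IsNoetherianRing A := IsLocallyNoetherian.component_noetherian ⟨U, hU⟩
  let φ : (U : Scheme.{u}) ≅ Spec A := hU.isoSpec
  let N : (Spec A).Modules := (M.restrict U.ι).restrict φ.inv
  haveI : SheafOfModules.IsQuasicoherent (R := X.ringCatSheaf) M := hq
  haveI : N.IsQuasicoherent := inferInstance
  have hN : SheafOfModules.IsFiniteType (R := (Spec A).ringCatSheaf) N :=
    FTRestrict.isFT_restrict _ _ (FTRestrict.isFT_restrict _ _ hM)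
  haveI : IsIso N.fromTildeΓ := inferInstance
  let ΓN : ModuleCat.{u} A := moduleSpecΓFunctor.obj N
  let e : tilde ΓN ≅ N := asIso N.fromTildeΓ
  have hT : SheafOfModules.IsFiniteType (R := (Spec A).ringCatSheaf) (tilde ΓN) :=
    haveI := hN
    FTRestrict.SoM.isFiniteType_of_iso (R := (Spec A).ringCatSheaf) (M := N) (N := tilde ΓN) e.symm
  haveI : Module.Finite A ΓN := FTTilde.finite_of_isFT_tilde A ΓN hT
  haveI : Module.FinitePresentation A ΓN := Module.finitePresentation_of_finite A ΓN
  obtain ⟨P0, hP0⟩ := exists_presentation_tilde A ΓN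
  have h1 : Finite P0.generators.I := SheafOfModules.GeneratingSections.IsFiniteType.finite
  have h2 : Finite P0.relations.I := SheafOfModules.GeneratingSections.IsFiniteType.finite
  let P1 := SheafOfModules.Presentation.ofIsIso.{u, u, u} e.hom P0
  let P2 := presentationRestrict φ.hom P1
  let iso : N.restrict φ.hom ≅ M.restrict U.ι :=
    ((restrictFunctorComp φ.hom φ.inv).symm.app (M.restrict U.ι)) ≪≫
      (restrictFunctorCongr φ.hom_inv_id).app _ ≪≫ (restrictFunctorId).app _
  exact ⟨SheafOfModules.Presentation.ofIsIso.{u, u, u} iso.hom P2,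
    { isFiniteType_generators := ⟨h1⟩
      isFiniteType_relations := ⟨h2⟩ }⟩


set_option backward.isDefEq.respectTransparency false in
theorem isFP_of_isCoh {X : Scheme.{u}} [IsLocallyNoetherian X]
    (M : X.Modules) (hq : SheafOfModules.IsQuasicoherent (R := X.ringCatSheaf) M)
    (hM : SheafOfModules.IsFiniteType (R := X.ringCatSheaf) M) :
    SheafOfModules.IsFinitePresentation (R := X.ringCatSheaf) M := by
  have key : ∀ U : X.affineOpens, ∃ Q : SheafOfModules.Presentation (R := X.ringCatSheaf.over U.1)
      (SheafOfModules.over (R := X.ringCatSheaf) M U.1), Q.IsFinite := by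
    intro U
    obtain ⟨P, hP⟩ := exists_presentation_restrict_affine M hq hM U.1 U.2
    exact FTRestrict.exists_presentation_over_of_restrict M U.1 P
  choose Q hQ using key
  let q : SheafOfModules.QuasicoherentData.{u} (R := X.ringCatSheaf) M :=
    { I := X.affineOpens
      X := fun U => U.1
      coversTop := by
        rw [Opens.coversTop_iff]
        exact iSup_affineOpens_eq_top X
      presentation := Q }
  have : q.IsFinitePresentation := by
    constructor
    intro i
    exact hQ i
  exact { exists_quasicoherentData := ⟨q, this⟩ }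

end Groth.Agent.Helper4.CohFP
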