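import Mathlib
import Groth.Agent.Helper4.QcohLimits
import Groth.Agent.Helper4.QcohLocal
import Groth.Agent.Helper4.SecDict
import Groth.Agent.Helper4.FTGlue

set_option autoImplicit false
universe u
open CategoryTheory CategoryTheory.Limits AlgebraicGeometry TopologicalSpace Opposite Submodule

namespace Groth.Agent.Helper4.QcohEpi
open Groth.Agent.Helper4.StalkDict Groth.Agent.Helper4 Groth.Agent.Helper4.QcqsMod

variable {X : Scheme.{u}}

/-- an epimorphism of quasi-coherent modules on `Spec R` is surjective on global sections -/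
theorem app_top_surjective_of_epi_Spec {R : CommRingCat.{u}} {F G : (Spec R).Modules} (π : F ⟶ G)
    [Epi π] [F.IsQuasicoherent] [G.IsQuasicoherent] : Function.Surjective (π.app ⊤) := by
  let ε := Scheme.Modules.fromTildeΓNatTrans (R := R)
  let g : moduleSpecΓFunctor.obj F ⟶ moduleSpecΓFunctor.obj G := moduleSpecΓFunctor.map π
  have hnat : (tilde.functor R).map g ≫ ε.app G = ε.app F ≫ π := ε.naturality π
  haveI hF : IsIso (ε.app F) := Scheme.Modules.isIso_fromTildeΓ_of_isQuasicoherent F
  haveI hG : IsIso (ε.app G) := Scheme.Modules.isIso_fromTildeΓ_of_isQuasicoherent G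
  haveI : Epi ((tilde.functor R).map g) := by
    have h1 : (tilde.functor R).map g = (ε.app F ≫ π) ≫ inv (ε.app G) :=
      (IsIso.eq_comp_inv _).mpr hnat
    rw [h1]
    haveI : Epi (ε.app F ≫ π) := epi_comp _ _
    exact epi_comp _ _
  have hg : Epi g := (tilde.functor R).epi_of_epi_map ‹_›
  exact (ModuleCat.epi_iff_surjective g).mp hg

/-- an epimorphism of quasi-coherent modules is surjective on sections over affine opens -/
theorem app_surjective_of_epi {F G : X.Modules} (π : F ⟶ G) [Epi π] [F.IsQuasicoherent]
    [G.IsQuasicoherent] {U : X.Opens} (hU : IsAffineOpen U) : Function.Surjective (π.app U) := by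
  haveI : Epi ((Scheme.Modules.restrictFunctor hU.fromSpec).map π) := inferInstance
  have h := app_top_surjective_of_epi_Spec ((Scheme.Modules.restrictFunctor hU.fromSpec).map π)
  have h2 : Function.Surjective (π.app (hU.fromSpec ''ᵁ ⊤)) := h
  rw [image_top hU] at h2
  exact h2

/-- for quasi-coherent modules, epimorphisms are surjective on stalks -/
theorem stalkLin_surjective_of_epi {F G : X.Modules} (π : F ⟶ G) [Epi π] [F.IsQuasicoherent]
    [G.IsQuasicoherent] (x : X) : Function.Surjective (stalkLin π x) := by
  obtain ⟨U, hU, hx⟩ := QcohLimits.exists_affine_nhd x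
  exact QcohLocal.stalkLin_surjective_of_app_surjective π hU
    (isLocalizingOn_of_isAffineOpen G hU) (app_surjective_of_epi π hU) x hx

/-- the map on sections, as a linear map -/
noncomputable def appLin {F G : X.Modules} (φ : F ⟶ G) (U : X.Opens) :
    Γ(F, U) →ₗ[Γ(X, U)] Γ(G, U) where
  toFun := φ.app U
  map_add' := map_add _
  map_smul' r m := Scheme.Modules.Hom.app_smul φ r m

@[simp] theorem appLin_apply {F G : X.Modules} (φ : F ⟶ G) (U : X.Opens) (m : Γ(F, U)) :
    appLin φ U m = φ.app U m := rfl

/-- a quasi-coherent quotient of a quasi-coherent module of finite type is of finite type -/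
theorem isFiniteType_of_epi {F G : X.Modules} (π : F ⟶ G) [Epi π] [F.IsQuasicoherent]
    [G.IsQuasicoherent] (hF : SheafOfModules.IsFiniteType (R := X.ringCatSheaf) F) :
    SheafOfModules.IsFiniteType (R := X.ringCatSheaf) G := by
  apply FTGlue.isFiniteType_of_finite_sections
  intro x
  obtain ⟨U, hU, hx⟩ := QcohLimits.exists_affine_nhd x
  refine ⟨U, hU, hx, ?_⟩
  haveI : Module.Finite Γ(X, U) Γ(F, U) := SecDict.finite_sections hU F inferInstance hF
  exact Module.Finite.of_surjective (appLin π U) (app_surjective_of_epi π hU)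

/-- on a locally Noetherian scheme, a quasi-coherent submodule of a coherent module is of finite
type -/
theorem isFiniteType_of_mono {F G : X.Modules} [IsLocallyNoetherian X] (i : F ⟶ G) [Mono i]
    [F.IsQuasicoherent] [G.IsQuasicoherent]
    (hG : SheafOfModules.IsFiniteType (R := X.ringCatSheaf) G) :
    SheafOfModules.IsFiniteType (R := X.ringCatSheaf) F := by
  apply FTGlue.isFiniteType_of_finite_sections
  intro x
  obtain ⟨U, hU, hx⟩ := QcohLimits.exists_affine_nhd x
  refine ⟨U, hU, hx, ?_⟩
  haveI : IsNoetherianRing Γ(X, U) := IsLocallyNoetherian.component_noetherian ⟨U, hU⟩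
  haveI : Module.Finite Γ(X, U) Γ(G, U) := SecDict.finite_sections hU G inferInstance hG
  haveI : IsNoetherian Γ(X, U) Γ(G, U) := isNoetherian_of_isNoetherianRing_of_finite _ _
  exact Module.Finite.of_injective (appLin i U) (AffineDict.app_injective_of_mono i U)

end Groth.Agent.Helper4.QcohEpi
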