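import Mathlib
import Groth.Agent.Helper4.QcohEpi

set_option autoImplicit false
universe u
open CategoryTheory CategoryTheory.Limits AlgebraicGeometry TopologicalSpace Opposite Submodule

namespace Groth.Agent.Helper4.FinitePush
open Groth.Agent.Helper4.StalkDict Groth.Agent.Helper4 Groth.Agent.Helper4.QcqsMod

variable {X Y : Scheme.{u}}

/-- the `Γ(Y, V)`-module structure on `Γ(F, f⁻¹V)` coming from the pushforward -/
@[reducible] noncomputable def pushModule (f : X ⟶ Y) (F : X.Modules) (V : Y.Opens) :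
    Module Γ(Y, V) Γ(F, f ⁻¹ᵁ V) :=
  inferInstanceAs (Module Γ(Y, V) Γ((Scheme.Modules.pushforward f).obj F, V))

theorem finite_sections_pushforward_of_finite (f : X ⟶ Y) (F : X.Modules) (V : Y.Opens)
    (hfin : (f.app V).hom.Finite)
    (h : Module.Finite Γ(X, f ⁻¹ᵁ V) Γ(F, f ⁻¹ᵁ V)) :
    Module.Finite Γ(Y, V) Γ((Scheme.Modules.pushforward f).obj F, V) := by
  letI alg : Algebra Γ(Y, V) Γ(X, f ⁻¹ᵁ V) := (f.app V).hom.toAlgebra
  letI mod : Module Γ(Y, V) Γ(F, f ⁻¹ᵁ V) := pushModule f F V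
  have hst : IsScalarTower Γ(Y, V) Γ(X, f ⁻¹ᵁ V) Γ(F, f ⁻¹ᵁ V) := by
    constructor
    intro a b m
    change ((f.app V).hom a * b) • m = (f.app V).hom a • (b • m)
    rw [mul_smul]
  have hfin' : Module.Finite Γ(Y, V) Γ(X, f ⁻¹ᵁ V) := hfin
  have h3 : Module.Finite Γ(Y, V) Γ(F, f ⁻¹ᵁ V) :=
    @Module.Finite.trans Γ(Y, V) Γ(X, f ⁻¹ᵁ V) Γ(F, f ⁻¹ᵁ V) _ _ _ _ _ _ hst hfin' h
  exact h3

theorem finite_sections_of_finite_sections_pushforward (f : X ⟶ Y) (F : X.Modules) (V : Y.Opens)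
    (h : Module.Finite Γ(Y, V) Γ((Scheme.Modules.pushforward f).obj F, V)) :
    Module.Finite Γ(X, f ⁻¹ᵁ V) Γ(F, f ⁻¹ᵁ V) := by
  letI alg : Algebra Γ(Y, V) Γ(X, f ⁻¹ᵁ V) := (f.app V).hom.toAlgebra
  letI mod : Module Γ(Y, V) Γ(F, f ⁻¹ᵁ V) := pushModule f F V
  have hst : IsScalarTower Γ(Y, V) Γ(X, f ⁻¹ᵁ V) Γ(F, f ⁻¹ᵁ V) := by
    constructor
    intro a b m
    change ((f.app V).hom a * b) • m = (f.app V).hom a • (b • m)
    rw [mul_smul]
  have h' : Module.Finite Γ(Y, V) Γ(F, f ⁻¹ᵁ V) := h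
  exact @Module.Finite.of_restrictScalars_finite Γ(Y, V) Γ(X, f ⁻¹ᵁ V) Γ(F, f ⁻¹ᵁ V) _ _ _ _ _ _
    hst h'

/-- finite pushforward preserves finite type (for quasi-coherent modules) -/
theorem isFiniteType_pushforward_of_isFinite (f : X ⟶ Y) [IsFinite f] (F : X.Modules)
    [F.IsQuasicoherent] (hF : SheafOfModules.IsFiniteType (R := X.ringCatSheaf) F) :
    SheafOfModules.IsFiniteType (R := Y.ringCatSheaf) ((Scheme.Modules.pushforward f).obj F) := by
  haveI := QcohGlue.isQuasicoherent_pushforward f F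
  apply FTGlue.isFiniteType_of_finite_sections
  intro y
  obtain ⟨V, hV, hy⟩ := QcohLimits.exists_affine_nhd y
  refine ⟨V, hV, hy, ?_⟩
  exact finite_sections_pushforward_of_finite f F V (IsFinite.finite_app f V hV)
    (SecDict.finite_sections (hV.preimage f) F inferInstance hF)

/-- conversely, for an affine morphism -/
theorem isFiniteType_of_isFiniteType_pushforward (f : X ⟶ Y) [IsAffineHom f] (F : X.Modules)
    [F.IsQuasicoherent]
    (hF : SheafOfModules.IsFiniteType (R := Y.ringCatSheaf)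
      ((Scheme.Modules.pushforward f).obj F)) :
    SheafOfModules.IsFiniteType (R := X.ringCatSheaf) F := by
  haveI := QcohGlue.isQuasicoherent_pushforward f F
  apply FTGlue.isFiniteType_of_finite_sections
  intro x
  obtain ⟨V, hV, hy⟩ := QcohLimits.exists_affine_nhd (f x)
  refine ⟨f ⁻¹ᵁ V, hV.preimage f, hy, ?_⟩
  exact finite_sections_of_finite_sections_pushforward f F V
    (SecDict.finite_sections hV _ inferInstance hF)

end Groth.Agent.Helper4.FinitePush
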