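import Mathlib
import Groth.Agent.Helper4.FinitePush
import Groth.Agent.Helper4.FPTilde
import Groth.Agent.Helper4.CohFP

set_option autoImplicit false
universe u
open CategoryTheory CategoryTheory.Limits AlgebraicGeometry TopologicalSpace Opposite Submodule

namespace Groth.Agent.Helper4.FPGlue
open Groth.Agent.Helper4.StalkDict Groth.Agent.Helper4 Groth.Agent.Helper4.QcqsMod

/-- a module over a module-finite algebra which is finitely presented over the base is finitely
presented over the algebra -/
theorem finitePresentation_of_restrictScalars (A B M : Type*) [CommRing A] [CommRing B]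
    [Algebra A B] [Module.Finite A B] [AddCommGroup M] [Module A M] [Module B M]
    [IsScalarTower A B M] [Module.FinitePresentation A M] : Module.FinitePresentation B M := by
  haveI : Module.Finite B M := Module.Finite.of_restrictScalars_finite A B M
  obtain ⟨n, f, hf⟩ := Module.Finite.exists_fin' B M
  refine Module.finitePresentation_of_surjective f hf ?_
  apply Submodule.FG.of_restrictScalars A
  have h1 : (LinearMap.ker (f.restrictScalars A)).FG :=
    Module.FinitePresentation.fg_ker (f.restrictScalars A) hf
  rwa [LinearMap.ker_restrictScalars] at h1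

variable {X : Scheme.{u}}

set_option backward.isDefEq.respectTransparency false in
/-- sections of a finitely presented module over an affine open form a finitely presented module -/
theorem fp_sections (F : X.Modules)
    (hF : SheafOfModules.IsFinitePresentation (R := X.ringCatSheaf) F) {U : X.Opens}
    (hU : IsAffineOpen U) : Module.FinitePresentation Γ(X, U) Γ(F, U) := by
  let A : CommRingCat.{u} := Γ(X, U)
  let N : (Spec A).Modules := F.restrict hU.fromSpec
  haveI : SheafOfModules.IsFinitePresentation (R := X.ringCatSheaf) F := hF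
  haveI : F.IsQuasicoherent := inferInstance
  haveI : N.IsQuasicoherent := inferInstance
  have hN : SheafOfModules.IsFinitePresentation (R := (Spec A).ringCatSheaf) N :=
    FTRestrict.isFP_restrict _ _ hF
  haveI : IsIso N.fromTildeΓ := inferInstance
  let ΓN : ModuleCat.{u} A := moduleSpecΓFunctor.obj N
  let e : tilde ΓN ≅ N := asIso N.fromTildeΓ
  have hT : SheafOfModules.IsFinitePresentation (R := (Spec A).ringCatSheaf) (tilde ΓN) :=
    (SheafOfModules.isFinitePresentation (Spec A).ringCatSheaf).prop_of_iso e.symm hN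
  haveI : Module.FinitePresentation A ΓN := FPTilde.finitePresentation_of_isFP_tilde A ΓN hT
  exact Module.FinitePresentation.of_equiv (SecDict.sectionsEquiv hU F).symm

set_option backward.isDefEq.respectTransparency false in
open Scheme.Modules in
theorem exists_presentation_restrict_of_fp (G : X.Modules) [G.IsQuasicoherent]
    {U : X.Opens} (hU : IsAffineOpen U) (h : Module.FinitePresentation Γ(X, U) Γ(G, U)) :
    ∃ P : SheafOfModules.Presentation (R := (U : Scheme.{u}).ringCatSheaf) (G.restrict U.ι),
      P.IsFinite := by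
  let A : CommRingCat.{u} := Γ(X, U)
  let φ : (U : Scheme.{u}) ≅ Spec A := hU.isoSpec
  let N : (Spec A).Modules := G.restrict hU.fromSpec
  haveI : N.IsQuasicoherent := inferInstance
  haveI : IsIso N.fromTildeΓ := inferInstance
  let ΓN : ModuleCat.{u} A := moduleSpecΓFunctor.obj N
  let e : tilde ΓN ≅ N := asIso N.fromTildeΓ
  haveI : Module.FinitePresentation A ΓN :=
    Module.FinitePresentation.of_equiv (SecDict.sectionsEquiv hU G)
  obtain ⟨P0, hP0⟩ := CohFP.exists_presentation_tilde A ΓN
  have h1 : Finite P0.generators.I := SheafOfModules.GeneratingSections.IsFiniteType.finite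
  have h2 : Finite P0.relations.I := SheafOfModules.GeneratingSections.IsFiniteType.finite
  let P1 := SheafOfModules.Presentation.ofIsIso.{u, u, u} e.hom P0
  let P2 := presentationRestrict φ.hom P1
  have hcomp : φ.hom ≫ hU.fromSpec = U.ι := by
    change φ.hom ≫ φ.inv ≫ U.ι = U.ι
    rw [Iso.hom_inv_id_assoc]
  let iso : N.restrict φ.hom ≅ G.restrict U.ι :=
    ((restrictFunctorComp φ.hom hU.fromSpec).symm.app G) ≪≫
      (restrictFunctorCongr hcomp).app _
  exact ⟨SheafOfModules.Presentation.ofIsIso.{u, u, u} iso.hom P2,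
    { isFiniteType_generators := ⟨h1⟩
      isFiniteType_relations := ⟨h2⟩ }⟩

set_option backward.isDefEq.respectTransparency false in
/-- a quasi-coherent module whose sections over the members of an affine open cover are finitely
presented modules is finitely presented. -/
theorem isFinitePresentation_of_fp_sections (G : X.Modules) [G.IsQuasicoherent]
    (h : ∀ x : X, ∃ (U : X.Opens), IsAffineOpen U ∧ x ∈ U ∧
      Module.FinitePresentation Γ(X, U) Γ(G, U)) :
    SheafOfModules.IsFinitePresentation (R := X.ringCatSheaf) G := by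
  choose U hU hxU hfin using h
  have key : ∀ x : X, ∃ Q : SheafOfModules.Presentation (R := X.ringCatSheaf.over (U x))
      (SheafOfModules.over (R := X.ringCatSheaf) G (U x)), Q.IsFinite := by
    intro x
    obtain ⟨P, hP⟩ := exists_presentation_restrict_of_fp G (hU x) (hfin x)
    exact FTRestrict.exists_presentation_over_of_restrict G (U x) P
  choose Q hQ using key
  let q : SheafOfModules.QuasicoherentData.{u} (R := X.ringCatSheaf) G :=
    { I := X
      X := U
      coversTop := by
        rw [Opens.coversTop_iff]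
        change iSup U = ⊤
        rw [eq_top_iff]
        intro x _
        exact Opens.mem_iSup.mpr ⟨x, hxU x⟩
      presentation := Q }
  have : q.IsFinitePresentation := by
    constructor
    intro i
    exact hQ i
  exact { exists_quasicoherentData := ⟨q, this⟩ }

section Push
variable {Y : Scheme.{u}}

theorem fp_sections_pushforward_of_finite (f : X ⟶ Y) (F : X.Modules) (V : Y.Opens)
    (hfin : (f.app V).hom.Finite) (hfp : (f.app V).hom.FinitePresentation)
    (h : Module.FinitePresentation Γ(X, f ⁻¹ᵁ V) Γ(F, f ⁻¹ᵁ V)) :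
    Module.FinitePresentation Γ(Y, V) Γ((Scheme.Modules.pushforward f).obj F, V) := by
  letI alg : Algebra Γ(Y, V) Γ(X, f ⁻¹ᵁ V) := (f.app V).hom.toAlgebra
  letI mod : Module Γ(Y, V) Γ(F, f ⁻¹ᵁ V) := FinitePush.pushModule f F V
  have hst : IsScalarTower Γ(Y, V) Γ(X, f ⁻¹ᵁ V) Γ(F, f ⁻¹ᵁ V) := by
    constructor
    intro a b m
    change ((f.app V).hom a * b) • m = (f.app V).hom a • (b • m)
    rw [mul_smul]
  haveI hfin' : Module.Finite Γ(Y, V) Γ(X, f ⁻¹ᵁ V) := hfin
  haveI hfp' : Algebra.FinitePresentation Γ(Y, V) Γ(X, f ⁻¹ᵁ V) := hfp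
  have hB : Module.FinitePresentation Γ(Y, V) Γ(X, f ⁻¹ᵁ V) :=
    Module.FinitePresentation.of_finite_of_finitePresentation _ _
  have h3 : Module.FinitePresentation Γ(Y, V) Γ(F, f ⁻¹ᵁ V) :=
    @Module.FinitePresentation.trans Γ(Y, V) Γ(F, f ⁻¹ᵁ V) _ _ _ Γ(X, f ⁻¹ᵁ V) _ _ _ hst hB h
  exact h3

theorem fp_sections_of_fp_sections_pushforward (f : X ⟶ Y) (F : X.Modules) (V : Y.Opens)
    (hfin : (f.app V).hom.Finite)
    (h : Module.FinitePresentation Γ(Y, V) Γ((Scheme.Modules.pushforward f).obj F, V)) :
    Module.FinitePresentation Γ(X, f ⁻¹ᵁ V) Γ(F, f ⁻¹ᵁ V) := by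
  letI alg : Algebra Γ(Y, V) Γ(X, f ⁻¹ᵁ V) := (f.app V).hom.toAlgebra
  letI mod : Module Γ(Y, V) Γ(F, f ⁻¹ᵁ V) := FinitePush.pushModule f F V
  have hst : IsScalarTower Γ(Y, V) Γ(X, f ⁻¹ᵁ V) Γ(F, f ⁻¹ᵁ V) := by
    constructor
    intro a b m
    change ((f.app V).hom a * b) • m = (f.app V).hom a • (b • m)
    rw [mul_smul]
  have hfin' : Module.Finite Γ(Y, V) Γ(X, f ⁻¹ᵁ V) := hfin
  have h' : Module.FinitePresentation Γ(Y, V) Γ(F, f ⁻¹ᵁ V) := h
  exact @finitePresentation_of_restrictScalars Γ(Y, V) Γ(X, f ⁻¹ᵁ V) Γ(F, f ⁻¹ᵁ V) _ _ _ hfin' _ _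
    _ hst h'

set_option backward.isDefEq.respectTransparency false in
theorem isFinitePresentation_pushforward_of_isFinite (f : X ⟶ Y) [IsFinite f]
    [LocallyOfFinitePresentation f] (F : X.Modules)
    (hF : SheafOfModules.IsFinitePresentation (R := X.ringCatSheaf) F) :
    SheafOfModules.IsFinitePresentation (R := Y.ringCatSheaf)
      ((Scheme.Modules.pushforward f).obj F) := by
  haveI : SheafOfModules.IsFinitePresentation (R := X.ringCatSheaf) F := hF
  haveI : F.IsQuasicoherent := inferInstance
  haveI := QcohGlue.isQuasicoherent_pushforward f F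
  apply isFinitePresentation_of_fp_sections
  intro y
  obtain ⟨V, hV, hy⟩ := QcohLimits.exists_affine_nhd y
  refine ⟨V, hV, hy, ?_⟩
  have hfp : (f.app V).hom.FinitePresentation := by
    rw [Scheme.Hom.app_eq_appLE]
    exact HasRingHomProperty.appLE (P := @LocallyOfFinitePresentation) f inferInstance
      ⟨V, hV⟩ ⟨f ⁻¹ᵁ V, hV.preimage f⟩ _
  exact fp_sections_pushforward_of_finite f F V (IsFinite.finite_app f V hV) hfp
    (fp_sections F hF (hV.preimage f))

theorem isFinitePresentation_of_isFinitePresentation_pushforward (f : X ⟶ Y) [IsFinite f]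
    (F : X.Modules) [F.IsQuasicoherent]
    (hF : SheafOfModules.IsFinitePresentation (R := Y.ringCatSheaf)
      ((Scheme.Modules.pushforward f).obj F)) :
    SheafOfModules.IsFinitePresentation (R := X.ringCatSheaf) F := by
  apply isFinitePresentation_of_fp_sections
  intro x
  obtain ⟨V, hV, hy⟩ := QcohLimits.exists_affine_nhd (f x)
  refine ⟨f ⁻¹ᵁ V, hV.preimage f, hy, ?_⟩
  exact fp_sections_of_fp_sections_pushforward f F V (IsFinite.finite_app f V hV)
    (fp_sections _ hF hV)

end Push

end Groth.Agent.Helper4.FPGlue
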