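import Mathlib
import Groth.Prelude.Def_CohB1
import Groth.Prelude.Def_FlatMod2
import Groth.Agent.Helper8.TildeBC
import Groth.Agent.Helper4.SecDict
import Groth.Agent.Helper4.StalkDict
import Groth.Agent.Helper4.TildeExact

set_option autoImplicit false
open CategoryTheory Limits AlgebraicGeometry TopologicalSpace Opposite
universe u

namespace Groth.Agent.Helper4.FinLocFree

section Tilde
variable (R : CommRingCat.{u}) (n : ℕ)

/-- The coproduct cofan `Fin n →₀ R` of `n` copies of `R`. -/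
noncomputable def finCofan : Cofan fun _ : Fin n ↦ ModuleCat.of R R :=
  Cofan.mk (ModuleCat.of R (Fin n →₀ R)) fun i ↦
    ModuleCat.ofHom (Finsupp.lsingle i (R := R) (M := R))

set_option backward.defeqAttrib.useBackward true in
set_option backward.isDefEq.respectTransparency false in
noncomputable def finCofanIsColimit : IsColimit (finCofan R n) where
  desc s := ModuleCat.ofHom <| Finsupp.lsum R (N := s.pt) (fun i ↦ (s.ι.app ⟨i⟩).hom)
  fac := by aesop (add simp finCofan)
  uniq s f h := by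
    ext : 1
    exact Finsupp.lhom_ext' fun i ↦ LinearMap.ext fun x ↦ by simpa using! congr($(h ⟨i⟩) (x : R))

/-- `tilde` of `R^n` is the free module of rank `n`. -/
noncomputable def tildeFreeIso :
    tilde (ModuleCat.of R (Fin n →₀ R)) ≅ FlatMod.freeMod (Spec R) n :=
  letI F : Fin n → ModuleCat.{u} R := fun _ => ModuleCat.of R R
  (tilde.functor R).mapIso
      ((finCofanIsColimit R n).coconePointUniqueUpToIso (coproductIsCoproduct F)) ≪≫
    PreservesCoproduct.iso (tilde.functor R) F ≪≫ Sigma.mapIso (fun _ => tildeSelf)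

end Tilde

section Transfer
open Scheme.Modules
variable {X Y Z : Scheme.{u}}

/-- the restriction of a free module along an open immersion is free. -/
noncomputable def restrictFreeIso (j : Y ⟶ X) [IsOpenImmersion j] (n : ℕ) :
    (FlatMod.freeMod X n).restrict j ≅ FlatMod.freeMod Y n :=
  (restrictFunctorIsoPullback j).app _ ≪≫ Groth.Agent.Helper8.TildeBC.pullbackFreeIso j n

/-- `F|_j` free of rank `n`. -/
def IsFreeAlong (F : X.Modules) (j : Y ⟶ X) [IsOpenImmersion j] (n : ℕ) : Prop :=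
  Nonempty (F.restrict j ≅ FlatMod.freeMod Y n)

theorem IsFreeAlong.of_iso {F G : X.Modules} (e : F ≅ G) (j : Y ⟶ X) [IsOpenImmersion j] {n : ℕ}
    (h : IsFreeAlong F j n) : IsFreeAlong G j n := by
  obtain ⟨i⟩ := h
  exact ⟨(restrictFunctor j).mapIso e.symm ≪≫ i⟩

theorem IsFreeAlong.comp {F : X.Modules} (j : Y ⟶ X) [IsOpenImmersion j] {n : ℕ}
    (h : IsFreeAlong F j n) (k : Z ⟶ Y) [IsOpenImmersion k] : IsFreeAlong F (k ≫ j) n := by
  obtain ⟨i⟩ := h
  exact ⟨(restrictFunctorComp k j).app F ≪≫ (restrictFunctor k).mapIso i ≪≫ restrictFreeIso k n⟩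

theorem IsFreeAlong.congr {F : X.Modules} {j j' : Y ⟶ X} [IsOpenImmersion j] [IsOpenImmersion j']
    (hj : j = j') {n : ℕ} (h : IsFreeAlong F j n) : IsFreeAlong F j' n := by
  subst hj; exact h

theorem IsFreeAlong.of_comp_iso {F : X.Modules} (j : Y ⟶ X) [IsOpenImmersion j] {n : ℕ}
    (k : Z ⟶ Y) [IsIso k] (h : IsFreeAlong F (k ≫ j) n) : IsFreeAlong F j n := by
  have h2 := h.comp (k ≫ j) (inv k)
  exact h2.congr (by simp)

theorem isFinLocFree_iff_isFreeAlong (F : X.Modules) :
    FlatMod.IsFinLocFree F ↔ ∀ x : X, ∃ (U : X.Opens) (n : ℕ), x ∈ U ∧ IsFreeAlong F U.ι n :=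
  Iff.rfl

/-- being free along an open immersion only depends on the range. -/
theorem IsFreeAlong.opensRange {F : X.Modules} (j : Y ⟶ X) [IsOpenImmersion j] {n : ℕ}
    (h : IsFreeAlong F j n) : IsFreeAlong F j.opensRange.ι n := by
  have e : j.isoOpensRange.hom ≫ j.opensRange.ι = j := by simp
  exact IsFreeAlong.of_comp_iso (j.opensRange.ι) j.isoOpensRange.hom (h.congr e.symm)

theorem isFinLocFree_of_isFreeAlong (F : X.Modules)
    (h : ∀ x : X, ∃ (Y : Scheme.{u}) (j : Y ⟶ X) (_ : IsOpenImmersion j) (n : ℕ),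
      x ∈ Set.range j ∧ IsFreeAlong F j n) : FlatMod.IsFinLocFree F := by
  intro x
  obtain ⟨Y, j, hj, n, hx, hfree⟩ := h x
  exact ⟨j.opensRange, n, hx, hfree.opensRange j⟩

theorem IsFreeAlong.of_le {F : X.Modules} {U V : X.Opens} (hVU : V ≤ U) {n : ℕ}
    (h : IsFreeAlong F U.ι n) : IsFreeAlong F V.ι n :=
  (h.comp U.ι (X.homOfLE hVU)).congr (by simp)

theorem IsFreeAlong.fromSpec {F : X.Modules} {U : X.Opens} (hU : IsAffineOpen U) {n : ℕ}
    (h : IsFreeAlong F U.ι n) : IsFreeAlong F hU.fromSpec n :=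
  (h.comp U.ι hU.isoSpec.inv).congr rfl

theorem IsFreeAlong.of_fromSpec {F : X.Modules} {U : X.Opens} (hU : IsAffineOpen U) {n : ℕ}
    (h : IsFreeAlong F hU.fromSpec n) : IsFreeAlong F U.ι n := by
  have : IsFreeAlong F (hU.isoSpec.inv ≫ U.ι) n := h
  exact IsFreeAlong.of_comp_iso U.ι hU.isoSpec.inv this

end Transfer

section Basis
open Scheme.Modules
variable {X : Scheme.{u}} {U : X.Opens} (hU : IsAffineOpen U) (F : X.Modules)

set_option backward.isDefEq.respectTransparency false in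
/-- on `Spec R`: a quasi-coherent module whose global sections have a basis is free. -/
theorem nonempty_iso_freeMod_of_equiv {R : CommRingCat.{u}} (N : (Spec R).Modules)
    [N.IsQuasicoherent] {n : ℕ}
    (e : (moduleSpecΓFunctor.obj N : ModuleCat.{u} R) ≃ₗ[R] (Fin n →₀ R)) :
    Nonempty (N ≅ FlatMod.freeMod (Spec R) n) := by
  haveI : IsIso N.fromTildeΓ := inferInstance
  let e1 : tilde (moduleSpecΓFunctor.obj N) ≅ N := asIso N.fromTildeΓ
  let e2 : (moduleSpecΓFunctor.obj N : ModuleCat.{u} R) ≅ ModuleCat.of R (Fin n →₀ R) :=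
    e.toModuleIso
  exact ⟨e1.symm ≪≫ (tilde.functor R).mapIso e2 ≪≫ tildeFreeIso R n⟩

/-- on `Spec R`: global sections of a free module have a basis. -/
theorem nonempty_equiv_of_iso_freeMod {R : CommRingCat.{u}} (N : (Spec R).Modules) {n : ℕ}
    (i : N ≅ FlatMod.freeMod (Spec R) n) :
    Nonempty ((moduleSpecΓFunctor.obj N : ModuleCat.{u} R) ≃ₗ[R] (Fin n →₀ R)) := by
  let e1 : moduleSpecΓFunctor.obj N ≅ moduleSpecΓFunctor.obj (tilde (ModuleCat.of R (Fin n →₀ R))) :=
    (moduleSpecΓFunctor (R := R)).mapIso (i ≪≫ (tildeFreeIso R n).symm)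
  let e2 : ModuleCat.of R (Fin n →₀ R) ≅
      moduleSpecΓFunctor.obj (tilde (ModuleCat.of R (Fin n →₀ R))) :=
    (tilde.toTildeΓNatIso (R := R)).app _
  exact ⟨(e1 ≪≫ e2.symm).toLinearEquiv⟩

theorem isFreeAlong_fromSpec_of_basis [F.IsQuasicoherent] {n : ℕ}
    (b : Module.Basis (Fin n) Γ(X, U) Γ(F, U)) : IsFreeAlong F hU.fromSpec n := by
  let N : (Spec Γ(X, U)).Modules := F.restrict hU.fromSpec
  haveI : N.IsQuasicoherent := inferInstance
  exact nonempty_iso_freeMod_of_equiv N ((SecDict.sectionsEquiv hU F).symm.trans b.repr)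

theorem nonempty_basis_of_isFreeAlong_fromSpec {n : ℕ} (h : IsFreeAlong F hU.fromSpec n) :
    Nonempty (Module.Basis (Fin n) Γ(X, U) Γ(F, U)) := by
  obtain ⟨i⟩ := h
  obtain ⟨e⟩ := nonempty_equiv_of_iso_freeMod (F.restrict hU.fromSpec) i
  exact ⟨Module.Basis.ofRepr ((SecDict.sectionsEquiv hU F).trans e)⟩

include hU in
theorem isFreeAlong_ι_iff_basis [F.IsQuasicoherent] {n : ℕ} :
    IsFreeAlong F U.ι n ↔ Nonempty (Module.Basis (Fin n) Γ(X, U) Γ(F, U)) :=
  ⟨fun h => nonempty_basis_of_isFreeAlong_fromSpec hU F (h.fromSpec hU),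
    fun ⟨b⟩ => (isFreeAlong_fromSpec_of_basis hU F b).of_fromSpec hU⟩

end Basis

section Away
open Scheme.Modules Groth.Agent.Helper8.TildeBC

theorem IsFreeAlong.restrict_iff {X Y Z : Scheme.{u}} {F : X.Modules} (j : Y ⟶ X)
    [IsOpenImmersion j] (k : Z ⟶ Y) [IsOpenImmersion k] {n : ℕ} :
    IsFreeAlong (F.restrict j) k n ↔ IsFreeAlong F (k ≫ j) n := by
  constructor
  · rintro ⟨i⟩
    exact ⟨(restrictFunctorComp k j).app F ≪≫ i⟩
  · rintro ⟨i⟩
    exact ⟨((restrictFunctorComp k j).app F).symm ≪≫ i⟩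

theorem transport_alg_equiv {R A : Type u} [CommRing R] [CommRing A] (alg1 alg2 : Algebra R A)
    (h : alg1 = alg2) (M : Type u) [AddCommGroup M] [Module R M] (n : ℕ)
    (hfp : letI := alg1; Nonempty (TensorProduct R A M ≃ₗ[A] (Fin n →₀ A))) :
    letI := alg2; Nonempty (TensorProduct R A M ≃ₗ[A] (Fin n →₀ A)) := by
  subst h; exact hfp

set_option backward.isDefEq.respectTransparency false in
theorem isFreeAlong_tilde_of_free_away (R : CommRingCat.{u}) (M : ModuleCat.{u} R) (f : R) (n : ℕ)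
    (e : LocalizedModule.Away f M ≃ₗ[Localization.Away f] (Fin n →₀ Localization.Away f)) :
    IsFreeAlong (tilde M)
      (Spec.map (CommRingCat.ofHom (algebraMap R (Localization.Away f)))) n := by
  let A : CommRingCat.{u} := CommRingCat.of (Localization.Away f)
  let α : R ⟶ A := CommRingCat.ofHom (algebraMap R (Localization.Away f))
  let iso : (tilde M).restrict (Spec.map α) ≅ tilde ((ModuleCat.extendScalars α.hom).obj M) :=
      (restrictFunctorIsoPullback (Spec.map α)).app _ ≪≫ (tildePullbackIso α).app M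
  have h1 : Nonempty (TensorProduct R (Localization.Away f) M ≃ₗ[Localization.Away f]
      (Fin n →₀ Localization.Away f)) :=
    ⟨(LocalizedModule.isBaseChange (Submonoid.powers f) M).equiv.trans e⟩
  have hinst : (inferInstance : Algebra R (Localization.Away f)) =
      (algebraMap R (Localization.Away f)).toAlgebra :=
    Algebra.algebra_ext _ _ (fun r => rfl)
  obtain ⟨e2⟩ := transport_alg_equiv _ _ hinst M n h1
  let e3 : (ModuleCat.extendScalars α.hom).obj M ≅ ModuleCat.of A (Fin n →₀ A) :=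
    LinearEquiv.toModuleIso e2
  exact ⟨iso ≪≫ (tilde.functor A).mapIso e3 ≪≫ tildeFreeIso A n⟩

end Away

section Global
open Scheme.Modules Groth.Agent.Helper8.TildeBC
variable {X : Scheme.{u}} (F : X.Modules) {U : X.Opens} (hU : IsAffineOpen U)

theorem mem_range_of_mem_basicOpen (f : Γ(X, U)) (x : X) (hx : x ∈ X.basicOpen f) :
    x ∈ Set.range (Spec.map (CommRingCat.ofHom (algebraMap Γ(X, U) (Localization.Away f))) ≫
      hU.fromSpec) := by
  rw [← hU.fromSpec_image_basicOpen] at hx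
  obtain ⟨y, hy, rfl⟩ := hx
  have h := Scheme.Hom.opensRange_localizationAway f
  have hy' : y ∈ (Spec.map (CommRingCat.ofHom
      (algebraMap Γ(X, U) (Localization.Away f)))).opensRange := by
    rw [h]; exact hy
  obtain ⟨z, rfl⟩ := hy'
  exact ⟨z, rfl⟩

theorem away_equiv_of_equiv {A : Type u} [CommRing A] {M M' : Type u} [AddCommGroup M] [Module A M]
    [AddCommGroup M'] [Module A M'] (s : M ≃ₗ[A] M') (f : A) (n : ℕ)
    (e : LocalizedModule.Away f M ≃ₗ[Localization.Away f] (Fin n →₀ Localization.Away f)) :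
    Nonempty (LocalizedModule.Away f M' ≃ₗ[Localization.Away f] (Fin n →₀ Localization.Away f)) :=
  ⟨(IsLocalizedModule.mapEquiv (Submonoid.powers f)
      (LocalizedModule.mkLinearMap (Submonoid.powers f) M')
      (LocalizedModule.mkLinearMap (Submonoid.powers f) M) (Localization.Away f) s.symm).trans e⟩

include hU in
set_option backward.isDefEq.respectTransparency false in
theorem exists_isFreeAlong_of_free_away [F.IsQuasicoherent] (f : Γ(X, U)) (n : ℕ)
    (e : LocalizedModule.Away f Γ(F, U) ≃ₗ[Localization.Away f] (Fin n →₀ Localization.Away f))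
    (x : X) (hx : x ∈ X.basicOpen f) : ∃ V : X.Opens, x ∈ V ∧ IsFreeAlong F V.ι n := by
  let A : CommRingCat.{u} := Γ(X, U)
  let N : (Spec A).Modules := F.restrict hU.fromSpec
  haveI : N.IsQuasicoherent := inferInstance
  haveI : IsIso N.fromTildeΓ := inferInstance
  let ΓN : ModuleCat.{u} A := moduleSpecΓFunctor.obj N
  let e1 : tilde ΓN ≅ N := asIso N.fromTildeΓ
  let s : Γ(F, U) ≃ₗ[A] ΓN := SecDict.sectionsEquiv hU F
  obtain ⟨e2⟩ := away_equiv_of_equiv s f n e
  have h1 := isFreeAlong_tilde_of_free_away A ΓN f n e2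
  have h2 : IsFreeAlong N (Spec.map (CommRingCat.ofHom (algebraMap A (Localization.Away f)))) n :=
    h1.of_iso e1 _
  have h3 := (IsFreeAlong.restrict_iff hU.fromSpec _).mp h2
  exact ⟨_, mem_range_of_mem_basicOpen hU f x hx, h3.opensRange _⟩

end Global

section Stalk
open Scheme.Modules Groth.Agent.Helper4.StalkDict
variable {X : Scheme.{u}} (F : X.Modules) {U : X.Opens} (hU : IsAffineOpen U)

theorem exists_fin_equiv (R M : Type*) [CommRing R] [AddCommGroup M] [Module R M] [Module.Free R M]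
    [Module.Finite R M] : ∃ n : ℕ, Nonempty (M ≃ₗ[R] (Fin n →₀ R)) := by
  rcases subsingleton_or_nontrivial R with h | h
  · haveI : Subsingleton M := Module.subsingleton R M
    exact ⟨0, ⟨LinearEquiv.ofSubsingleton _ _⟩⟩
  · exact ⟨_, ⟨(Module.finBasis R M).repr⟩⟩

include hU in
set_option backward.isDefEq.respectTransparency false in
theorem exists_isFreeAlong_of_fp_of_free_stalk [F.IsQuasicoherent] (x : X) (hx : x ∈ U)
    (hfp : Module.FinitePresentation Γ(X, U) Γ(F, U))
    (hfree : Module.Free (X.presheaf.stalk x) (F.presheaf.stalk x)) :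
    ∃ (V : X.Opens) (n : ℕ), x ∈ V ∧ IsFreeAlong F V.ι n := by
  letI := sectionModStalk F x hx
  letI := X.presheaf.algebra_section_stalk ⟨x, hx⟩
  haveI := hU.isLocalization_stalk ⟨x, hx⟩
  haveI := isLocalizedModule_germ hU F x hx
  haveI : IsScalarTower Γ(X, U) (X.presheaf.stalk x) (F.presheaf.stalk x) :=
    IsScalarTower.of_algebraMap_smul (fun r m => rfl)
  obtain ⟨r, hr, hfree', -⟩ := Module.FinitePresentation.exists_free_localizedModule_powers
    (hU.primeIdealOf ⟨x, hx⟩).asIdeal.primeCompl (germLin F x hx) (X.presheaf.stalk x)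
  haveI : Module.Finite (Localization.Away r) (LocalizedModule.Away r Γ(F, U)) := inferInstance
  obtain ⟨n, ⟨e⟩⟩ := exists_fin_equiv (Localization.Away r) (LocalizedModule.Away r Γ(F, U))
  have hxr : x ∈ X.basicOpen r := (mem_basicOpen_iff_notMem_primeIdealOf hU x hx r).mpr hr
  obtain ⟨V, hxV, hV⟩ := exists_isFreeAlong_of_free_away F hU r n e x hxr
  exact ⟨V, _, hxV, hV⟩

end Stalk

end Groth.Agent.Helper4.FinLocFree
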