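import Mathlib
import Groth.Agent.Helper4.FinLocFree
import Groth.Agent.Helper4.FPGlue
import Groth.Agent.Helper4.QcohLimits

set_option autoImplicit false
open CategoryTheory Limits AlgebraicGeometry TopologicalSpace Opposite
universe u

namespace Groth.Agent.Helper4.FinLocFree2
open Scheme.Modules Groth.Agent.Helper4.StalkDict Groth.Agent.Helper4.FinLocFree

variable {X : Scheme.{u}} (F : X.Modules)

theorem exists_affine_nhd_le (x : X) (V : X.Opens) (hx : x ∈ V) :
    ∃ (U : X.Opens), IsAffineOpen U ∧ x ∈ U ∧ U ≤ V := by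
  obtain ⟨_, ⟨U, hU : IsAffineOpen U, rfl⟩, hxU, hUV⟩ :=
    X.isBasis_affineOpens.exists_subset_of_mem_open hx V.isOpen
  exact ⟨U, hU, hxU, hUV⟩

theorem isFiniteType_of_isFinitePresentation
    (hfp : SheafOfModules.IsFinitePresentation (R := X.ringCatSheaf) F) :
    SheafOfModules.IsFiniteType (R := X.ringCatSheaf) F :=
  @SheafOfModules.instIsFiniteTypeOfIsFinitePresentation _ _ _ X.ringCatSheaf _ _ F hfp

theorem isQuasicoherent_of_isFinitePresentation
    (hfp : SheafOfModules.IsFinitePresentation (R := X.ringCatSheaf) F) :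
    F.IsQuasicoherent :=
  @SheafOfModules.instIsQuasicoherentOfIsFinitePresentation _ _ _ X.ringCatSheaf _ _ F hfp

/-- a module free of rank `n` over `V` has a basis over small affine opens. -/
theorem exists_affine_basis_of_isFreeAlong [F.IsQuasicoherent] {V : X.Opens} {n : ℕ}
    (hV : IsFreeAlong F V.ι n) (x : X) (hxV : x ∈ V) :
    ∃ (U : X.Opens) (_ : IsAffineOpen U), x ∈ U ∧ U ≤ V ∧
      Nonempty (Module.Basis (Fin n) Γ(X, U) Γ(F, U)) := by
  obtain ⟨U, hU, hxU, hUV⟩ := exists_affine_nhd_le x V hxV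
  exact ⟨U, hU, hxU, hUV, (isFreeAlong_ι_iff_basis hU F).mp (IsFreeAlong.of_le hUV hV)⟩

/-- a finite locally free quasi-coherent module has a basis over small affine opens. -/
theorem exists_affine_basis [F.IsQuasicoherent] (h : FlatMod.IsFinLocFree F) (x : X) :
    ∃ (U : X.Opens) (_ : IsAffineOpen U) (n : ℕ), x ∈ U ∧
      Nonempty (Module.Basis (Fin n) Γ(X, U) Γ(F, U)) := by
  obtain ⟨V, n, hxV, hV⟩ := h x
  obtain ⟨U, hU, hxU, -, hb⟩ := exists_affine_basis_of_isFreeAlong F hV x hxV
  exact ⟨U, hU, n, hxU, hb⟩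

set_option backward.isDefEq.respectTransparency false in
/-- a basis of the sections over an affine open gives a basis of the stalk -/
theorem nonempty_basis_stalk [F.IsQuasicoherent] {U : X.Opens} (hU : IsAffineOpen U) {n : ℕ}
    (b : Module.Basis (Fin n) Γ(X, U) Γ(F, U)) (x : X) (hx : x ∈ U) :
    Nonempty (Module.Basis (Fin n) (X.presheaf.stalk x) (F.presheaf.stalk x)) := by
  letI := sectionModStalk F x hx
  letI := X.presheaf.algebra_section_stalk ⟨x, hx⟩
  haveI := hU.isLocalization_stalk ⟨x, hx⟩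
  haveI := isLocalizedModule_germ hU F x hx
  haveI : IsScalarTower Γ(X, U) (X.presheaf.stalk x) (F.presheaf.stalk x) :=
    IsScalarTower.of_algebraMap_smul (fun r m => rfl)
  exact ⟨b.ofIsLocalizedModule (X.presheaf.stalk x) (hU.primeIdealOf ⟨x, hx⟩).asIdeal.primeCompl
    (germLin F x hx)⟩

theorem nonempty_basis_stalk_of_isFreeAlong [F.IsQuasicoherent] {V : X.Opens} {n : ℕ}
    (hV : IsFreeAlong F V.ι n) (x : X) (hxV : x ∈ V) :
    Nonempty (Module.Basis (Fin n) (X.presheaf.stalk x) (F.presheaf.stalk x)) := by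
  obtain ⟨U, hU, hxU, -, ⟨b⟩⟩ := exists_affine_basis_of_isFreeAlong F hV x hxV
  exact nonempty_basis_stalk F hU b x hxU

/-- the stalks of a finite locally free module are free -/
theorem free_stalk_of_isFinLocFree [F.IsQuasicoherent] (h : FlatMod.IsFinLocFree F) (x : X) :
    Module.Free (X.presheaf.stalk x) (F.presheaf.stalk x) := by
  obtain ⟨V, n, hxV, hV⟩ := h x
  obtain ⟨b⟩ := nonempty_basis_stalk_of_isFreeAlong F hV x hxV
  exact Module.Free.of_basis b

/-- a finite locally free module is of finite presentation -/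
theorem isFinitePresentation_of_isFinLocFree [F.IsQuasicoherent] (h : FlatMod.IsFinLocFree F) :
    SheafOfModules.IsFinitePresentation (R := X.ringCatSheaf) F := by
  apply FPGlue.isFinitePresentation_of_fp_sections
  intro x
  obtain ⟨U, hU, n, hx, ⟨b⟩⟩ := exists_affine_basis F h x
  haveI : Module.Free Γ(X, U) Γ(F, U) := Module.Free.of_basis b
  haveI : Module.Finite Γ(X, U) Γ(F, U) := Module.Finite.of_basis b
  exact ⟨U, hU, hx, Module.finitePresentation_of_projective _ _⟩

/-- a quasi-coherent finitely presented module with free stalks is finite locally free. -/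
theorem isFinLocFree_of_fp_of_free_stalks [F.IsQuasicoherent]
    (hfp : SheafOfModules.IsFinitePresentation (R := X.ringCatSheaf) F)
    (hfree : ∀ x : X, Module.Free (X.presheaf.stalk x) (F.presheaf.stalk x)) :
    FlatMod.IsFinLocFree F := by
  intro x
  obtain ⟨U, hU, hx⟩ := QcohLimits.exists_affine_nhd x
  exact exists_isFreeAlong_of_fp_of_free_stalk F hU x hx (FPGlue.fp_sections F hfp hU) (hfree x)

set_option backward.isDefEq.respectTransparency false in
/-- stalks of a quasi-coherent module of finite type are finite modules -/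
theorem finite_stalk [F.IsQuasicoherent]
    (hft : SheafOfModules.IsFiniteType (R := X.ringCatSheaf) F) (x : X) :
    Module.Finite (X.presheaf.stalk x) (F.presheaf.stalk x) := by
  obtain ⟨U, hU, hx⟩ := QcohLimits.exists_affine_nhd x
  letI := sectionModStalk F x hx
  letI := X.presheaf.algebra_section_stalk ⟨x, hx⟩
  haveI := hU.isLocalization_stalk ⟨x, hx⟩
  haveI := isLocalizedModule_germ hU F x hx
  haveI : IsScalarTower Γ(X, U) (X.presheaf.stalk x) (F.presheaf.stalk x) :=
    IsScalarTower.of_algebraMap_smul (fun r m => rfl)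
  haveI : Module.Finite Γ(X, U) Γ(F, U) := SecDict.finite_sections hU F inferInstance hft
  exact Module.Finite.of_isLocalizedModule (hU.primeIdealOf ⟨x, hx⟩).asIdeal.primeCompl
    (germLin F x hx)

/-- flat + finitely presented at a point gives a free neighbourhood -/
theorem exists_isFreeAlong_of_fp_of_flat_stalk
    (hfp : SheafOfModules.IsFinitePresentation (R := X.ringCatSheaf) F) (x : X)
    (hflat : Module.Flat (X.presheaf.stalk x) (F.presheaf.stalk x)) :
    ∃ (V : X.Opens) (n : ℕ), x ∈ V ∧ IsFreeAlong F V.ι n := by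
  haveI := isQuasicoherent_of_isFinitePresentation F hfp
  haveI := finite_stalk F (isFiniteType_of_isFinitePresentation F hfp) x
  obtain ⟨U, hU, hx⟩ := QcohLimits.exists_affine_nhd x
  exact exists_isFreeAlong_of_fp_of_free_stalk F hU x hx (FPGlue.fp_sections F hfp hU)
    Module.free_of_flat_of_isLocalRing

/-- free modules are finite locally free -/
theorem isFinLocFree_freeMod (n : ℕ) : FlatMod.IsFinLocFree (FlatMod.freeMod X n) :=
  fun x => ⟨⊤, n, trivial, ⟨restrictFreeIso _ n⟩⟩

theorem isFinLocFree_of_iso {F G : X.Modules} (e : F ≅ G) (h : FlatMod.IsFinLocFree F) :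
    FlatMod.IsFinLocFree G := by
  intro x
  obtain ⟨V, n, hxV, hV⟩ := h x
  exact ⟨V, n, hxV, IsFreeAlong.of_iso e V.ι hV⟩

end Groth.Agent.Helper4.FinLocFree2
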