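import Mathlib
import Groth.Agent.Helper4.FinLocFree2

set_option autoImplicit false
open CategoryTheory Limits AlgebraicGeometry TopologicalSpace Opposite
universe u

namespace Groth.Agent.Helper4.FinLocFree3
open Scheme.Modules Groth.Agent.Helper4.StalkDict Groth.Agent.Helper4.FinLocFree
  Groth.Agent.Helper4.FinLocFree2

set_option backward.isDefEq.respectTransparency false in
theorem mem_freeLocus_iff_free_stalk (R : CommRingCat.{u}) (M : ModuleCat.{u} R) (x : Spec R) :
    (x : PrimeSpectrum R) ∈ Module.freeLocus R M ↔
      Module.Free ((Spec R).presheaf.stalk x) ((tilde M).presheaf.stalk x) := by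
  letI : Algebra R ((Spec R).presheaf.stalk x) := StructureSheaf.stalkAlgebra (R := R) x
  haveI : IsLocalization.AtPrime ((Spec R).presheaf.stalk x) x.asIdeal :=
    StructureSheaf.IsLocalization.to_stalk (R := R) x
  haveI : IsScalarTower R ((Spec R).presheaf.stalk x) ((tilde M).presheaf.stalk x) :=
    .of_algebraMap_smul fun _ _ ↦ rfl
  exact Module.mem_freeLocus_of_isLocalization x ((Spec R).presheaf.stalk x)
    ((tilde M).presheaf.stalk x) (tilde.toStalk M x).hom

theorem isFinLocFree_tilde_of_fp_of_freeLocus (R : CommRingCat.{u}) (M : ModuleCat.{u} R)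
    [Module.FinitePresentation R M] (h : Module.freeLocus R M = Set.univ) :
    FlatMod.IsFinLocFree (tilde M) := by
  apply isFinLocFree_of_isFreeAlong
  intro x
  let p : PrimeSpectrum R := x
  have hx : p ∈ Module.freeLocus R M := by rw [h]; trivial
  haveI : Module.Free (Localization.AtPrime p.asIdeal)
      (LocalizedModule p.asIdeal.primeCompl M) := hx
  obtain ⟨r, hr, hfree, -⟩ := Module.FinitePresentation.exists_free_localizedModule_powers
    p.asIdeal.primeCompl (LocalizedModule.mkLinearMap p.asIdeal.primeCompl M)
    (Localization.AtPrime p.asIdeal)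
  obtain ⟨n, ⟨e⟩⟩ := exists_fin_equiv (Localization.Away r) (LocalizedModule.Away r M)
  refine ⟨_, _, inferInstance, n, ?_, isFreeAlong_tilde_of_free_away R M r n e⟩
  have h := Scheme.Hom.opensRange_localizationAway r
  have hy' : x ∈ (Spec.map (CommRingCat.ofHom
      (algebraMap R (Localization.Away r)))).opensRange := by
    rw [h]; exact hr
  exact hy'

end Groth.Agent.Helper4.FinLocFree3
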