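import Mathlib
import Groth.Agent.Helper4.FinLocFree3
import Groth.Agent.Helper4.QcohEpi

set_option autoImplicit false
open CategoryTheory Limits AlgebraicGeometry TopologicalSpace Opposite
universe u

namespace Groth.Agent.Helper4.FinLocFree4
open Scheme.Modules Groth.Agent.Helper4.StalkDict Groth.Agent.Helper4.FinLocFree
  Groth.Agent.Helper4.FinLocFree2

variable {X : Scheme.{u}}

set_option backward.isDefEq.respectTransparency false in
/-- a finite locally free module is quasi-coherent -/
theorem isQuasicoherent_of_isFinLocFree (F : X.Modules) (h : FlatMod.IsFinLocFree F) :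
    F.IsQuasicoherent := by
  apply QcohGlue.isQuasicoherent_of_affine_cover
  intro x
  obtain ⟨V, n, hxV, hV⟩ := h x
  obtain ⟨U, hU, hxU, hUV⟩ := exists_affine_nhd_le x V hxV
  refine ⟨U, hU, hxU, ?_⟩
  obtain ⟨i⟩ := (IsFreeAlong.of_le hUV hV).fromSpec hU
  have h0 : (tilde (ModuleCat.of Γ(X, U) (Fin n →₀ Γ(X, U)))).IsQuasicoherent := inferInstance
  exact (SheafOfModules.isQuasicoherent (Spec Γ(X, U)).ringCatSheaf).prop_of_iso
    (tildeFreeIso Γ(X, U) n ≪≫ i.symm) h0

theorem isQuasicoherent_freeMod (n : ℕ) : (FlatMod.freeMod X n).IsQuasicoherent :=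
  isQuasicoherent_of_isFinLocFree _ (isFinLocFree_freeMod n)

/-- a retract of a quasi-coherent module is quasi-coherent -/
theorem isQuasicoherent_of_retract {M P : X.Modules} [P.IsQuasicoherent] (i : M ⟶ P) (p : P ⟶ M)
    (hip : i ≫ p = 𝟙 M) : M.IsQuasicoherent := by
  let e : P ⟶ P := 𝟙 P - p ≫ i
  haveI := QcohLimits.isQuasicoherent_kernel e
  have h1 : i ≫ e = 0 := by
    simp only [e, Preadditive.comp_sub, Category.comp_id]
    rw [← Category.assoc, hip, Category.id_comp, sub_self]
  let iso : M ≅ kernel e :=
    { hom := kernel.lift e i h1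
      inv := kernel.ι e ≫ p
      hom_inv_id := by rw [← Category.assoc, kernel.lift_ι, hip]
      inv_hom_id := by
        apply (cancel_mono (kernel.ι e)).mp
        rw [Category.assoc, kernel.lift_ι, Category.id_comp]
        have h2 : kernel.ι e ≫ e = 0 := kernel.condition e
        simp only [e, Preadditive.comp_sub, Category.comp_id] at h2
        rw [sub_eq_zero] at h2
        rw [Category.assoc]
        exact h2.symm }
  exact QcohLimits.isQuasicoherent_of_iso iso.symm

set_option backward.isDefEq.respectTransparency false in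
/-- a direct summand of a finite free module is finite locally free -/
theorem isFinLocFree_of_retract_free {M : X.Modules} (n : ℕ) (i : M ⟶ FlatMod.freeMod X n)
    (p : FlatMod.freeMod X n ⟶ M) (hip : i ≫ p = 𝟙 M) : FlatMod.IsFinLocFree M := by
  haveI := isQuasicoherent_freeMod (X := X) n
  haveI := isQuasicoherent_of_retract i p hip
  intro x
  obtain ⟨U, hU, hx⟩ := QcohLimits.exists_affine_nhd x
  have hP : IsFreeAlong (FlatMod.freeMod X n) U.ι n := ⟨restrictFreeIso U.ι n⟩
  obtain ⟨b⟩ := (isFreeAlong_ι_iff_basis hU (FlatMod.freeMod X n)).mp hP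
  have hcomp : (QcohEpi.appLin p U).comp (QcohEpi.appLin i U) = LinearMap.id := by
    ext m
    have := congrArg (fun φ => Scheme.Modules.Hom.app φ U m) hip
    simpa using this
  haveI : Module.Free Γ(X, U) Γ(FlatMod.freeMod X n, U) := Module.Free.of_basis b
  haveI : Module.Finite Γ(X, U) Γ(FlatMod.freeMod X n, U) := Module.Finite.of_basis b
  have hsurj : Function.Surjective (QcohEpi.appLin p U) := fun m =>
    ⟨QcohEpi.appLin i U m, LinearMap.congr_fun hcomp m⟩
  haveI : Module.Finite Γ(X, U) Γ(M, U) := Module.Finite.of_surjective _ hsurj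
  haveI : Module.Projective Γ(X, U) Γ(M, U) :=
    Module.Projective.of_split (QcohEpi.appLin i U) (QcohEpi.appLin p U) hcomp
  have hfp : Module.FinitePresentation Γ(X, U) Γ(M, U) :=
    Module.finitePresentation_of_projective _ _
  refine exists_isFreeAlong_of_fp_of_free_stalk M hU x hx hfp ?_
  letI := sectionModStalk M x hx
  letI := X.presheaf.algebra_section_stalk ⟨x, hx⟩
  haveI := hU.isLocalization_stalk ⟨x, hx⟩
  haveI := isLocalizedModule_germ hU M x hx
  haveI : IsScalarTower Γ(X, U) (X.presheaf.stalk x) (M.presheaf.stalk x) :=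
    IsScalarTower.of_algebraMap_smul (fun r m => rfl)
  haveI : Module.Projective (X.presheaf.stalk x) (M.presheaf.stalk x) :=
    Module.projective_of_isLocalizedModule (hU.primeIdealOf ⟨x, hx⟩).asIdeal.primeCompl
      (germLin M x hx)
  haveI : Module.Finite (X.presheaf.stalk x) (M.presheaf.stalk x) :=
    Module.Finite.of_isLocalizedModule (hU.primeIdealOf ⟨x, hx⟩).asIdeal.primeCompl
      (germLin M x hx)
  exact Module.free_of_flat_of_isLocalRing


end Groth.Agent.Helper4.FinLocFree4
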