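import Mathlib
import Groth.Agent.Helper4.FinLocFree4

set_option autoImplicit false
open CategoryTheory Limits AlgebraicGeometry TopologicalSpace Opposite
universe u

namespace Groth.Agent.Helper4.FinLocFree5
open Scheme.Modules Groth.Agent.Helper4.StalkDict Groth.Agent.Helper4.FinLocFree
  Groth.Agent.Helper4.FinLocFree2

section Alg
variable {R : Type*} [CommRing R] {M : Type*} [AddCommGroup M] [Module R M]

/-- the rank at a stalk may be computed in any localization. -/
theorem finrank_eq_rankAtStalk_of_isLocalization (p : PrimeSpectrum R)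
    (Rₚ Mₚ : Type*) [CommRing Rₚ] [Algebra R Rₚ] [IsLocalization.AtPrime Rₚ p.asIdeal]
    [AddCommGroup Mₚ] [Module R Mₚ] (f : M →ₗ[R] Mₚ) [IsLocalizedModule p.asIdeal.primeCompl f]
    [Module Rₚ Mₚ] [IsScalarTower R Rₚ Mₚ] :
    Module.finrank Rₚ Mₚ = Module.rankAtStalk M p := by
  let e := (IsLocalization.algEquiv p.asIdeal.primeCompl
      (Localization.AtPrime p.asIdeal) Rₚ).toRingEquiv
  let j := IsLocalizedModule.iso p.asIdeal.primeCompl f
  have hc : ∀ (r : Localization.AtPrime p.asIdeal)
      (m : LocalizedModule p.asIdeal.primeCompl M), j (r • m) = e r • j m := by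
    intro r x
    obtain ⟨r, s, rfl⟩ := IsLocalization.exists_mk'_eq p.asIdeal.primeCompl r
    apply ((Module.End.isUnit_iff _).mp (IsLocalizedModule.map_units f s)).1
    change (s : R) • j (IsLocalization.mk' (Localization.AtPrime p.asIdeal) r s • x) =
      (s : R) • (e (IsLocalization.mk' (Localization.AtPrime p.asIdeal) r s) • j x)
    have h1 : (s : R) • (IsLocalization.mk' (Localization.AtPrime p.asIdeal) r s • x) = r • x := by
      rw [← smul_assoc, Algebra.smul_def, IsLocalization.mk'_spec', algebraMap_smul]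
    have h2 : (s : R) • (e (IsLocalization.mk' (Localization.AtPrime p.asIdeal) r s) • j x) =
        r • j x := by
      rw [← smul_assoc, Algebra.smul_def]
      have : e (IsLocalization.mk' (Localization.AtPrime p.asIdeal) r s) =
          IsLocalization.mk' Rₚ r s := by simp [e]
      rw [this, IsLocalization.mk'_spec', algebraMap_smul]
    rw [← j.map_smul (s : R), h1, h2, j.map_smul]
  have h := lift_rank_eq_of_equiv_equiv e j.toAddEquiv e.bijective hc
  unfold Module.rankAtStalk Module.finrank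
  have h2 := congrArg Cardinal.toNat h
  simpa using h2.symm

end Alg

section Sch
variable {X : Scheme.{u}} (F : X.Modules) {U : X.Opens} (hU : IsAffineOpen U)

include hU in
theorem exists_point_of_prime (P : PrimeSpectrum Γ(X, U)) :
    ∃ (y : X) (hy : y ∈ U), hU.primeIdealOf ⟨y, hy⟩ = P := by
  have hy : hU.fromSpec P ∈ U := by
    have : hU.fromSpec P ∈ Set.range hU.fromSpec := ⟨P, rfl⟩
    rw [hU.range_fromSpec] at this
    exact this
  refine ⟨hU.fromSpec P, hy, ?_⟩
  apply hU.fromSpec.isOpenEmbedding.injective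
  exact hU.fromSpec_primeIdealOf ⟨_, hy⟩

set_option backward.isDefEq.respectTransparency false in
theorem finrank_stalk_eq_rankAtStalk [F.IsQuasicoherent] (y : X) (hy : y ∈ U) :
    Module.finrank (X.presheaf.stalk y) (F.presheaf.stalk y) =
      Module.rankAtStalk (R := Γ(X, U)) Γ(F, U) (hU.primeIdealOf ⟨y, hy⟩) := by
  letI := sectionModStalk F y hy
  letI := X.presheaf.algebra_section_stalk ⟨y, hy⟩
  haveI := hU.isLocalization_stalk ⟨y, hy⟩
  haveI := isLocalizedModule_germ hU F y hy
  haveI : IsScalarTower Γ(X, U) (X.presheaf.stalk y) (F.presheaf.stalk y) :=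
    IsScalarTower.of_algebraMap_smul (fun r m => rfl)
  exact finrank_eq_rankAtStalk_of_isLocalization (hU.primeIdealOf ⟨y, hy⟩)
    (X.presheaf.stalk y) (F.presheaf.stalk y) (germLin F y hy)

include hU in
set_option backward.isDefEq.respectTransparency false in
theorem flat_sections_of_flat_stalks [F.IsQuasicoherent]
    (h : ∀ y ∈ U, Module.Flat (X.presheaf.stalk y) (F.presheaf.stalk y)) :
    Module.Flat Γ(X, U) Γ(F, U) := by
  apply Module.flat_of_localized_maximal
  intro P hP
  obtain ⟨y, hy, hyP⟩ := exists_point_of_prime hU ⟨P, hP.isPrime⟩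
  letI := sectionModStalk F y hy
  letI := X.presheaf.algebra_section_stalk ⟨y, hy⟩
  haveI := hU.isLocalization_stalk ⟨y, hy⟩
  haveI := isLocalizedModule_germ hU F y hy
  haveI : IsScalarTower Γ(X, U) (X.presheaf.stalk y) (F.presheaf.stalk y) :=
    IsScalarTower.of_algebraMap_smul (fun r m => rfl)
  haveI := h y hy
  haveI : Module.Flat Γ(X, U) (X.presheaf.stalk y) :=
    IsLocalization.flat (X.presheaf.stalk y) (hU.primeIdealOf ⟨y, hy⟩).asIdeal.primeCompl
  haveI : Module.Flat Γ(X, U) (F.presheaf.stalk y) :=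
    Module.Flat.trans Γ(X, U) (X.presheaf.stalk y) (F.presheaf.stalk y)
  have hP' : (hU.primeIdealOf ⟨y, hy⟩).asIdeal = P := by rw [hyP]
  subst hP'
  exact Module.Flat.of_linearEquiv
    (IsLocalizedModule.iso (hU.primeIdealOf ⟨y, hy⟩).asIdeal.primeCompl (germLin F y hy))

end Sch

section Main
variable {X : Scheme.{u}} (F : X.Modules)

set_option backward.isDefEq.respectTransparency false in
theorem exists_isFreeAlong_of_rank_const [F.IsQuasicoherent]
    (hft : SheafOfModules.IsFiniteType (R := X.ringCatSheaf) F)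
    (hflat : ∀ y : X, Module.Flat (X.presheaf.stalk y) (F.presheaf.stalk y))
    (x : X) (W : X.Opens) (hxW : x ∈ W)
    (hW : ∀ y ∈ W, Module.finrank (X.presheaf.stalk y) (F.presheaf.stalk y) =
      Module.finrank (X.presheaf.stalk x) (F.presheaf.stalk x)) :
    ∃ (V : X.Opens) (n : ℕ), x ∈ V ∧ IsFreeAlong F V.ι n := by
  obtain ⟨U, hU, hxU, hUW⟩ := exists_affine_nhd_le x W hxW
  haveI : Module.Finite Γ(X, U) Γ(F, U) := SecDict.finite_sections hU F inferInstance hft
  haveI : Module.Flat Γ(X, U) Γ(F, U) :=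
    flat_sections_of_flat_stalks F hU (fun y _ => hflat y)
  have hconst : ∀ (m : Ideal Γ(X, U)) [m.IsMaximal],
      Module.rankAtStalk (R := Γ(X, U)) Γ(F, U) ⟨m, inferInstance⟩ =
        Module.rankAtStalk (R := Γ(X, U)) Γ(F, U)
          ⟨(hU.primeIdealOf ⟨x, hxU⟩).asIdeal, inferInstance⟩ := by
    intro m hm
    obtain ⟨y, hy, hym⟩ := exists_point_of_prime hU ⟨m, hm.isPrime⟩
    rw [← hym]
    have h1 := finrank_stalk_eq_rankAtStalk F hU y hy
    have h2 := finrank_stalk_eq_rankAtStalk F hU x hxU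
    exact h1.symm.trans ((hW y (hUW hy)).trans h2)
  obtain ⟨a, ha, hfree⟩ := Module.Free.away_of_finite_of_flat_of_rankAtStalk_constant
    Γ(F, U) (hU.primeIdealOf ⟨x, hxU⟩).asIdeal hconst
  haveI : Module.Finite (Localization.Away a) (LocalizedModule.Away a Γ(F, U)) := inferInstance
  obtain ⟨n, ⟨e⟩⟩ := exists_fin_equiv (Localization.Away a) (LocalizedModule.Away a Γ(F, U))
  have hxa : x ∈ X.basicOpen a := (mem_basicOpen_iff_notMem_primeIdealOf hU x hxU a).mpr ha
  obtain ⟨V, hxV, hV⟩ := exists_isFreeAlong_of_free_away F hU a n e x hxa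
  exact ⟨V, n, hxV, hV⟩

end Main

end Groth.Agent.Helper4.FinLocFree5
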