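import Groth.Agent.Helper4.TwistLocal
import Mathlib

set_option autoImplicit false
universe u
open CategoryTheory CategoryTheory.Limits AlgebraicGeometry Opposite TopologicalSpace

namespace Groth.Agent.Helper4.TwistExt

open Groth.Agent.Helper4.GenLoc Groth.Agent.Helper4.TensorInv Groth.Agent.Helper4.TensorGen
  Groth.Agent.Helper4.QAffSec Groth.Agent.Helper4.TensorLift Groth.Agent.Helper4.TwistLocal

variable {X : Scheme.{u}}

/-- `e` is a free generator of `L` over every open contained in `T` -/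
def IsFrame (L : X.Modules) (T : X.Opens) (e : Γ(L, T)) : Prop :=
  ∀ (V : X.Opens) (h : V ≤ T),
    (∀ m : Γ(L, V), ∃ r : Γ(X, V), m = r • L.presheaf.map (homOfLE h).op e) ∧
    (∀ r : Γ(X, V), r • L.presheaf.map (homOfLE h).op e = 0 → r = 0)

theorem isFrame_of_triv (L : X.Modules) (W : X.Opens)
    (ε : L.restrict W.ι ≅ Coh.structureModule (W : Scheme.{u})) :
    IsFrame L (W.ι ''ᵁ ⊤) (ε.inv.app ⊤ (one (W : Scheme.{u}) ⊤)) := by
  intro V h
  obtain ⟨V', rfl⟩ : ∃ V' : (W : Scheme.{u}).Opens, V = W.ι ''ᵁ V' := by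
    refine ⟨W.ι ⁻¹ᵁ V, ?_⟩
    rw [image_preimage_of_le' W (h.trans (Scheme.Opens.ι_image_top W).le)]
  -- restriction of the generator
  have hres : L.presheaf.map (homOfLE h).op (ε.inv.app ⊤ (one (W : Scheme.{u}) ⊤)) =
      ε.inv.app V' (one (W : Scheme.{u}) V') := by
    have h1 := StalkExact.app_res ε.inv (homOfLE (le_top : V' ≤ ⊤)) (one (W : Scheme.{u}) ⊤)
    have h2 : (Coh.structureModule (W : Scheme.{u})).presheaf.map (homOfLE (le_top : V' ≤ ⊤)).op
        (one (W : Scheme.{u}) ⊤) = one (W : Scheme.{u}) V' :=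
      map_one ((W : Scheme.{u}).presheaf.map (homOfLE (le_top : V' ≤ ⊤)).op).hom
    rw [h2] at h1
    rw [h1]
    rfl
  rw [hres]
  constructor
  · intro m
    refine ⟨(W.ι.appIso V').inv (toFn (ε.hom.app V' m)), ?_⟩
    have h1 : m = ε.inv.app V' (ε.hom.app V' m) := (iso_inv_hom_app ε V' m).symm
    have h2 : ε.hom.app V' m = toFn (ε.hom.app V' m) • one (W : Scheme.{u}) V' :=
      (GenLoc.smul_one V' (toFn (ε.hom.app V' m))).symm
    rw [h2, Scheme.Modules.Hom.app_smul] at h1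
    exact h1
  · intro r hr
    have h1 : r • (show Γ(L, W.ι ''ᵁ V') from ε.inv.app V' (one (W : Scheme.{u}) V')) =
        ((W.ι.appIso V').hom r) • (ε.inv.app V' (one (W : Scheme.{u}) V')) := by
      rw [TensorRes.restrict_smul]
      have : (W.ι.appIso V').inv ((W.ι.appIso V').hom r) = r := by
        rw [← CommRingCat.comp_apply, Iso.hom_inv_id]; rfl
      rw [this]
    rw [h1] at hr
    have hr' : ((W.ι.appIso V').hom r) • (ε.inv.app V' (one (W : Scheme.{u}) V')) =
        (0 : Γ(L.restrict W.ι, V')) := hr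
    have h2 := congrArg (ε.hom.app V') hr'
    rw [Scheme.Modules.Hom.app_smul, iso_hom_inv_app, map_zero] at h2
    have h3 : (W.ι.appIso V').hom r = 0 := by
      have := GenLoc.smul_one V' ((W.ι.appIso V').hom r)
      rw [h2] at this
      exact this.symm
    have h4 := congrArg (W.ι.appIso V').inv h3
    rw [← CommRingCat.comp_apply, Iso.hom_inv_id, map_zero] at h4
    exact h4

/-- a local chart for `(L, s)` around a point -/
theorem exists_chart (L : X.Modules) (hL : PicF.IsInvertible L) (s : Coh.structureModule X ⟶ L)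
    (x : X) :
    ∃ (T : X.Opens) (e : Γ(L, T)) (b : Γ(X, T)), x ∈ T ∧ IsAffineOpen T ∧ IsFrame L T e ∧
      SecTwist.val s T = b • e ∧ X.basicOpen b = CohB1.genLocus L s ⊓ T := by
  obtain ⟨W, hxW, hW, ⟨ε⟩⟩ := exists_affine_triv L hL x
  have hT : W.ι ''ᵁ ⊤ = W := Scheme.Opens.ι_image_top W
  obtain ⟨b, hb, hbo⟩ := exists_local_frame L s W ε
  refine ⟨W.ι ''ᵁ ⊤, ε.inv.app ⊤ (one (W : Scheme.{u}) ⊤), b, ?_, ?_, isFrame_of_triv L W ε, hb, ?_⟩
  · rw [hT]; exact hxW
  · rw [hT]; exact hW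
  · rw [← hbo]
    exact congrArg (fun Z => CohB1.genLocus L s ⊓ Z) hT.symm

/-- sections agreeing locally are equal -/
theorem eq_of_cover (M : X.Modules) (V : X.Opens) (a b : Γ(M, V))
    (h : ∀ y ∈ V, ∃ (D : X.Opens) (hD : D ≤ V), y ∈ D ∧
      M.presheaf.map (homOfLE hD).op a = M.presheaf.map (homOfLE hD).op b) : a = b := by
  apply QcqsMod.section_ext
  intro y hy
  obtain ⟨D, hD, hyD, hab⟩ := h y hy
  rw [← QcqsMod.germ_res M hD y hyD a, ← QcqsMod.germ_res M hD y hyD b, hab]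

theorem val_res {L : X.Modules} (s : Coh.structureModule X ⟶ L) {T V : X.Opens} (h : V ≤ T) :
    L.presheaf.map (homOfLE h).op (SecTwist.val s T) = SecTwist.val s V :=
  SecTwist.map_val s (homOfLE h)

theorem twist_res {L : X.Modules} (s : Coh.structureModule X ⟶ L) (n : ℕ) (F : X.Modules)
    {T V : X.Opens} (h : V ≤ T) (t : Γ(F, T)) :
    (CohB1.tensorMod F (CohB1.tensorPow L n)).presheaf.map (homOfLE h).op
        (SecTwist.twist s n F T t) = SecTwist.twist s n F V (F.presheaf.map (homOfLE h).op t) :=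
  SecTwist.map_twist s n F (homOfLE h) t

theorem tmul_res (A B : X.Modules) {T V : X.Opens} (h : V ≤ T) (m : Γ(A, T)) (n : Γ(B, T)) :
    (CohB1.tensorMod A B).presheaf.map (homOfLE h).op (SecTwist.tmul A B T m n) =
      SecTwist.tmul A B V (A.presheaf.map (homOfLE h).op m) (B.presheaf.map (homOfLE h).op n) :=
  SecTwist.map_tmul A B (homOfLE h) m n

theorem ePow_res (L : X.Modules) {T V : X.Opens} (h : V ≤ T) (e : Γ(L, T)) (n : ℕ) :
    (CohB1.tensorPow L n).presheaf.map (homOfLE h).op (ePow L T e n) =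
      ePow L V (L.presheaf.map (homOfLE h).op e) n :=
  ePow_map L (homOfLE h) e n

theorem resO_pow {T V : X.Opens} (h : V ≤ T) (b : Γ(X, T)) (n : ℕ) :
    X.presheaf.map (homOfLE h).op (b ^ n) = X.presheaf.map (homOfLE h).op b ^ n :=
  map_pow _ _ _

theorem resO_mul {T V : X.Opens} (h : V ≤ T) (a b : Γ(X, T)) :
    X.presheaf.map (homOfLE h).op (a * b) =
      X.presheaf.map (homOfLE h).op a * X.presheaf.map (homOfLE h).op b :=
  map_mul _ _ _

/-- on the generating locus, the local candidate is the twist -/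
theorem chart_twist {L : X.Modules} (s : Coh.structureModule X ⟶ L) (F : X.Modules)
    (T : X.Opens) (e : Γ(L, T)) (b : Γ(X, T)) (hval : SecTwist.val s T = b • e)
    (K R : ℕ) (m : Γ(F, T)) (V : X.Opens) (h : V ≤ T) (tV : Γ(F, V))
    (hm : X.presheaf.map (homOfLE h).op b ^ K • tV = F.presheaf.map (homOfLE h).op m) :
    (CohB1.tensorMod F (CohB1.tensorPow L (K + R))).presheaf.map (homOfLE h).op
        (SecTwist.tmul F (CohB1.tensorPow L (K + R)) T (b ^ R • m) (ePow L T e (K + R))) =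
      SecTwist.twist s (K + R) F V tV := by
  have hvalV : SecTwist.val s V =
      X.presheaf.map (homOfLE h).op b • L.presheaf.map (homOfLE h).op e := by
    rw [← val_res s h, hval, Scheme.Modules.map_smul]
  rw [tmul_res, ePow_res, Scheme.Modules.map_smul, resO_pow, ← hm, smul_smul, ← pow_add,
    add_comm R K, twist_eq_of_val_eq s F V _ _ hvalV]

/-- two local candidates agree on the overlap after multiplying by a large power -/
theorem chart_compat {L : X.Modules} (s : Coh.structureModule X ⟶ L) (F : X.Modules)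
    [F.IsQuasicoherent]
    (t : Γ(F, CohB1.genLocus L s))
    (Ti Tj : X.Opens) (ei : Γ(L, Ti)) (ej : Γ(L, Tj)) (bi : Γ(X, Ti)) (bj : Γ(X, Tj))
    (hfr : IsFrame L Ti ei) (hvali : SecTwist.val s Ti = bi • ei)
    (hvalj : SecTwist.val s Tj = bj • ej)
    (hbo : X.basicOpen bi = CohB1.genLocus L s ⊓ Ti)
    (K : ℕ) (mi : Γ(F, Ti)) (mj : Γ(F, Tj))
    (hAi : ∀ (V : X.Opens) (h1 : V ≤ Ti) (h2 : V ≤ CohB1.genLocus L s),
      X.presheaf.map (homOfLE h1).op bi ^ K • F.presheaf.map (homOfLE h2).op t =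
        F.presheaf.map (homOfLE h1).op mi)
    (hAj : ∀ (V : X.Opens) (h1 : V ≤ Tj) (h2 : V ≤ CohB1.genLocus L s),
      X.presheaf.map (homOfLE h1).op bj ^ K • F.presheaf.map (homOfLE h2).op t =
        F.presheaf.map (homOfLE h1).op mj)
    (hc : IsCompact ((Ti ⊓ Tj : X.Opens) : Set X)) :
    ∃ r : ℕ, ∀ R, r ≤ R →
      (CohB1.tensorMod F (CohB1.tensorPow L (K + R))).presheaf.map
          (homOfLE (inf_le_left : Ti ⊓ Tj ≤ Ti)).op
          (SecTwist.tmul F (CohB1.tensorPow L (K + R)) Ti (bi ^ R • mi) (ePow L Ti ei (K + R))) =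
        (CohB1.tensorMod F (CohB1.tensorPow L (K + R))).presheaf.map
          (homOfLE (inf_le_right : Ti ⊓ Tj ≤ Tj)).op
          (SecTwist.tmul F (CohB1.tensorPow L (K + R)) Tj (bj ^ R • mj) (ePow L Tj ej (K + R))) := by
  have hi : Ti ⊓ Tj ≤ Ti := inf_le_left
  have hj : Ti ⊓ Tj ≤ Tj := inf_le_right
  obtain ⟨u, hu⟩ := (hfr _ hi).1 (L.presheaf.map (homOfLE hj).op ej)
  -- relation between the coordinates
  have hb : X.presheaf.map (homOfLE hi).op bi = X.presheaf.map (homOfLE hj).op bj * u := by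
    have h1 : SecTwist.val s (Ti ⊓ Tj) =
        X.presheaf.map (homOfLE hi).op bi • L.presheaf.map (homOfLE hi).op ei := by
      rw [← val_res s hi, hvali, Scheme.Modules.map_smul]
    have h2 : SecTwist.val s (Ti ⊓ Tj) =
        X.presheaf.map (homOfLE hj).op bj • L.presheaf.map (homOfLE hj).op ej := by
      rw [← val_res s hj, hvalj, Scheme.Modules.map_smul]
    rw [hu, smul_smul] at h2
    have h3 : (X.presheaf.map (homOfLE hi).op bi - X.presheaf.map (homOfLE hj).op bj * u) •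
        L.presheaf.map (homOfLE hi).op ei = 0 := by
      rw [sub_smul, ← h1, ← h2, sub_self]
    exact sub_eq_zero.mp ((hfr _ hi).2 _ h3)
  -- the difference vanishes on the generating locus
  have key : ∀ (V : X.Opens) (hV : V ≤ Ti ⊓ Tj) (hVG : V ≤ CohB1.genLocus L s),
      F.presheaf.map (homOfLE hV).op
        (F.presheaf.map (homOfLE hi).op mi - u ^ K • F.presheaf.map (homOfLE hj).op mj) = 0 := by
    intro V hV hVG
    rw [map_sub, Scheme.Modules.map_smul, res_res, res_res, ← hAi _ (hV.trans hi) hVG,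
      ← hAj _ (hV.trans hj) hVG, smul_smul, resO_pow, ← mul_pow, ← sub_smul]
    have : X.presheaf.map (homOfLE (hV.trans hi)).op bi =
        X.presheaf.map (homOfLE hV).op u * X.presheaf.map (homOfLE (hV.trans hj)).op bj := by
      rw [← res_resO hi hV, hb, resO_mul, res_resO, mul_comm]
    rw [this, sub_self, zero_smul]
  have hd : F.presheaf.map (homOfLE (X.basicOpen_le (X.presheaf.map (homOfLE hi).op bi))).op
      (F.presheaf.map (homOfLE hi).op mi - u ^ K • F.presheaf.map (homOfLE hj).op mj) = 0 := by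
    apply key
    rw [Scheme.basicOpen_res, hbo]
    exact inf_le_right.trans inf_le_left
  obtain ⟨r, hr⟩ := QcqsMod.exists_pow_smul_eq_zero_of_isCompact F hc _ _ hd
  refine ⟨r, fun R hR => ?_⟩
  rw [tmul_res, tmul_res, ePow_res, ePow_res, hu, ePow_smul, tmul_smul_right, ← tmul_smul_left,
    Scheme.Modules.map_smul, Scheme.Modules.map_smul, resO_pow, resO_pow]
  congr 1
  have e2 : u ^ (K + R) • X.presheaf.map (homOfLE hj).op bj ^ R • F.presheaf.map (homOfLE hj).op mj =
      X.presheaf.map (homOfLE hi).op bi ^ R • (u ^ K • F.presheaf.map (homOfLE hj).op mj) := by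
    rw [smul_smul, smul_smul, hb, mul_pow, pow_add]
    congr 1
    ring
  have e3 : X.presheaf.map (homOfLE hi).op bi ^ R • F.presheaf.map (homOfLE hi).op mi -
      X.presheaf.map (homOfLE hi).op bi ^ R • (u ^ K • F.presheaf.map (homOfLE hj).op mj) = 0 := by
    rw [← smul_sub, ← Nat.sub_add_cancel hR, pow_add, mul_smul, hr, smul_zero]
  rw [e2]
  exact sub_eq_zero.mp e3

/-- S15744 -/
theorem exists_twist_extends [CompactSpace X] [QuasiSeparatedSpace X] (L : X.Modules)
    (hL : PicF.IsInvertible L) (s : Coh.structureModule X ⟶ L) (F : X.Modules)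
    [F.IsQuasicoherent] (t : Γ(F, CohB1.genLocus L s)) :
    ∃ n : ℕ, 0 < n ∧ ∃ t' : Γ(CohB1.tensorMod F (CohB1.tensorPow L n), ⊤),
      (CohB1.tensorMod F (CohB1.tensorPow L n)).presheaf.map
          (homOfLE (le_top : CohB1.genLocus L s ≤ ⊤)).op t' =
        SecTwist.twist s n F (CohB1.genLocus L s) t := by
  classical
  choose T e b hxT hTaff hfr hval hbo using exists_chart L hL s
  obtain ⟨S, hS⟩ := CompactSpace.elim_nhds_subcover (fun x => (T x : Set X))
    (fun x => (T x).isOpen.mem_nhds (hxT x))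
  have hDG : ∀ i, X.basicOpen (b i) ≤ CohB1.genLocus L s := fun i => by
    rw [hbo i]; exact inf_le_left
  -- Step 1
  have step1 : ∀ i, ∃ (k : ℕ) (m : Γ(F, T i)),
      (X.presheaf.map (homOfLE (X.basicOpen_le (b i))).op (b i ^ k)) •
          F.presheaf.map (homOfLE (hDG i)).op t =
        F.presheaf.map (homOfLE (X.basicOpen_le (b i))).op m := fun i =>
    StalkDict.exists_pow_smul_eq_res (hTaff i) F (b i) _
  choose k m hm using step1
  obtain ⟨K, hK⟩ : ∃ K, K = S.sup k := ⟨_, rfl⟩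
  obtain ⟨m', hm'def⟩ : ∃ m' : ∀ i, Γ(F, T i), m' = fun i => b i ^ (K - k i) • m i := ⟨_, rfl⟩
  have hA : ∀ i ∈ S, ∀ (V : X.Opens) (h1 : V ≤ T i) (h2 : V ≤ CohB1.genLocus L s),
      X.presheaf.map (homOfLE h1).op (b i) ^ K • F.presheaf.map (homOfLE h2).op t =
        F.presheaf.map (homOfLE h1).op (m' i) := by
    intro i hi V h1 h2
    have hVD : V ≤ X.basicOpen (b i) := by rw [hbo i]; exact le_inf h2 h1
    have hle : k i ≤ K := hK ▸ Finset.le_sup hi
    have h3 := congrArg (F.presheaf.map (homOfLE hVD).op) (hm i)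
    rw [Scheme.Modules.map_smul, res_res, res_res, res_resO, resO_pow] at h3
    rw [hm'def, Scheme.Modules.map_smul, resO_pow, ← h3, smul_smul, ← pow_add,
      Nat.sub_add_cancel hle]
  -- Step 2
  have step2 : ∀ p : X × X, p.1 ∈ S → p.2 ∈ S → ∃ r : ℕ, ∀ R, r ≤ R →
      (CohB1.tensorMod F (CohB1.tensorPow L (K + R))).presheaf.map
          (homOfLE (inf_le_left : T p.1 ⊓ T p.2 ≤ T p.1)).op
          (SecTwist.tmul F (CohB1.tensorPow L (K + R)) (T p.1) (b p.1 ^ R • m' p.1)
            (ePow L (T p.1) (e p.1) (K + R))) =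
        (CohB1.tensorMod F (CohB1.tensorPow L (K + R))).presheaf.map
          (homOfLE (inf_le_right : T p.1 ⊓ T p.2 ≤ T p.2)).op
          (SecTwist.tmul F (CohB1.tensorPow L (K + R)) (T p.2) (b p.2 ^ R • m' p.2)
            (ePow L (T p.2) (e p.2) (K + R))) := by
    rintro ⟨i, j⟩ hi hj
    exact chart_compat s F t (T i) (T j) (e i) (e j) (b i) (b j) (hfr i) (hval i) (hval j) (hbo i)
      K (m' i) (m' j) (hA i hi) (hA j hj)
      (QuasiSeparatedSpace.inter_isCompact _ _ (T i).isOpen (hTaff i).isCompact (T j).isOpen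
        (hTaff j).isCompact)
  have step2' : ∀ p : X × X, ∃ r : ℕ, p.1 ∈ S → p.2 ∈ S → ∀ R, r ≤ R →
      (CohB1.tensorMod F (CohB1.tensorPow L (K + R))).presheaf.map
          (homOfLE (inf_le_left : T p.1 ⊓ T p.2 ≤ T p.1)).op
          (SecTwist.tmul F (CohB1.tensorPow L (K + R)) (T p.1) (b p.1 ^ R • m' p.1)
            (ePow L (T p.1) (e p.1) (K + R))) =
        (CohB1.tensorMod F (CohB1.tensorPow L (K + R))).presheaf.map
          (homOfLE (inf_le_right : T p.1 ⊓ T p.2 ≤ T p.2)).op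
          (SecTwist.tmul F (CohB1.tensorPow L (K + R)) (T p.2) (b p.2 ^ R • m' p.2)
            (ePow L (T p.2) (e p.2) (K + R))) := by
    intro p
    by_cases h : p.1 ∈ S ∧ p.2 ∈ S
    · obtain ⟨r, hr⟩ := step2 p h.1 h.2
      exact ⟨r, fun _ _ => hr⟩
    · exact ⟨0, fun h1 h2 => absurd ⟨h1, h2⟩ h⟩
  choose r hr using step2'
  obtain ⟨R, hR⟩ : ∃ R, R = (S ×ˢ S).sup r + 1 := ⟨_, rfl⟩
  obtain ⟨N, hN⟩ : ∃ N, N = K + R := ⟨_, rfl⟩
  -- Step 3 : glue
  let M := CohB1.tensorMod F (CohB1.tensorPow L N)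
  let τ : ∀ i : S, Γ(M, T i.1) := fun i =>
    SecTwist.tmul F (CohB1.tensorPow L N) (T i.1) (b i.1 ^ R • m' i.1) (ePow L (T i.1) (e i.1) N)
  have hcompat : TopCat.Presheaf.IsCompatible M.presheaf (fun i : S => T i.1) τ := by
    intro i j
    have hle : r (i.1, j.1) ≤ R := by
      rw [hR]
      exact (Finset.le_sup (f := r) (Finset.mem_product.mpr ⟨i.2, j.2⟩)).trans (Nat.le_succ _)
    have := hr (i.1, j.1) i.2 j.2 R hle
    rw [← hN] at this
    exact this
  have hcover : (⊤ : X.Opens) ≤ iSup (fun i : S => T i.1) := by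
    intro y _
    have hy' : y ∈ ⋃ x ∈ S, (T x : Set X) := by rw [hS]; trivial
    simp only [Set.mem_iUnion] at hy'
    obtain ⟨x, hxS, hyx⟩ := hy'
    exact Opens.mem_iSup.mpr ⟨⟨x, hxS⟩, hyx⟩
  obtain ⟨t', ht', -⟩ := TopCat.Sheaf.existsUnique_gluing' (⟨M.presheaf, M.isSheaf⟩ : TopCat.Sheaf Ab X)
    (fun i : S => T i.1) ⊤ (fun i => homOfLE le_top) hcover τ hcompat
  refine ⟨N, by rw [hN, hR]; omega, t', ?_⟩
  apply eq_of_cover
  intro y hy
  have hy' : y ∈ ⋃ x ∈ S, (T x : Set X) := by rw [hS]; trivial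
  simp only [Set.mem_iUnion] at hy'
  obtain ⟨i, hiS, hyi⟩ := hy'
  refine ⟨CohB1.genLocus L s ⊓ T i, inf_le_left, ⟨hy, hyi⟩, ?_⟩
  have h1 : M.presheaf.map (homOfLE (le_top : T i ≤ ⊤)).op t' = τ ⟨i, hiS⟩ := ht' ⟨i, hiS⟩
  rw [res_res, twist_res]
  have h2 : M.presheaf.map (homOfLE ((inf_le_left : CohB1.genLocus L s ⊓ T i ≤ _).trans le_top)).op t' =
      M.presheaf.map (homOfLE (inf_le_right : CohB1.genLocus L s ⊓ T i ≤ T i)).op (τ ⟨i, hiS⟩) := by
    rw [← h1, res_res]
  rw [h2]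
  have h3 := chart_twist s F (T i) (e i) (b i) (hval i) K R (m' i) (CohB1.genLocus L s ⊓ T i)
    inf_le_right (F.presheaf.map (homOfLE (inf_le_left : CohB1.genLocus L s ⊓ T i ≤ _)).op t)
    (hA i hiS _ inf_le_right inf_le_left)
  rw [← hN] at h3
  exact h3

end Groth.Agent.Helper4.TwistExt
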