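import Mathlib
import Groth.Agent.Helper4.FinLocFree5
import Groth.Agent.Helper4.FinitePush

set_option autoImplicit false
open CategoryTheory Limits AlgebraicGeometry TopologicalSpace Opposite
universe u

namespace Groth.Agent.Helper4.FinLocFree6
open Scheme.Modules Groth.Agent.Helper4.StalkDict Groth.Agent.Helper4.FinLocFree
  Groth.Agent.Helper4.FinLocFree2 Groth.Agent.Helper4.FinLocFree4 Groth.Agent.Helper4.FinLocFree5

variable {X S : Scheme.{u}}

/-- sections of `f_* O_X` over `V` are `Γ(X, f⁻¹ V)` as a `Γ(S, V)`-module. -/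
noncomputable def pushUnitEquiv (f : X ⟶ S) (V : S.Opens) :
    letI := (f.app V).hom.toAlgebra
    Γ((Scheme.Modules.pushforward f).obj (Coh.structureModule X), V) ≃ₗ[Γ(S, V)] Γ(X, f ⁻¹ᵁ V) :=
  letI := (f.app V).hom.toAlgebra
  { toFun := fun m => m
    invFun := fun m => m
    map_add' := fun _ _ => rfl
    map_smul' := fun _ _ => rfl
    left_inv := fun _ => rfl
    right_inv := fun _ => rfl }

theorem affineHom_iff_app (P : MorphismProperty Scheme.{u})
    (Q : ∀ {R S : Type u} [CommRing R] [CommRing S], (R →+* S) → Prop)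
    [HasRingHomProperty P Q] (f : X ⟶ S) [IsAffineHom f] :
    P f ↔ ∀ U : S.Opens, IsAffineOpen U → Q (f.app U).hom := by
  have hQ := HasRingHomProperty.isLocal_ringHomProperty P (Q := Q)
  have h1 := targetAffineLocally_affineAnd_iff_affineLocally hQ f
  have h2 := targetAffineLocally_affineAnd_iff' hQ.respectsIso f
  rw [HasRingHomProperty.eq_affineLocally P (Q := Q)]
  constructor
  · intro h
    exact (h2.mp (h1.mpr ⟨inferInstance, h⟩)).2
  · intro h
    exact (h1.mp (h2.mpr ⟨inferInstance, h⟩)).2

/-- the structure sheaf is free of rank one. -/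
theorem isFinLocFree_unit : FlatMod.IsFinLocFree (Coh.structureModule X) := by
  intro x
  refine ⟨⊤, 1, trivial, ⟨?_⟩⟩
  exact restrictUnitIso (⊤ : X.Opens).ι ≪≫
    (coproductUniqueIso (fun _ : Fin 1 => Coh.structureModule ((⊤ : X.Opens) : Scheme.{u}))).symm

theorem isFinitePresentation_unit :
    SheafOfModules.IsFinitePresentation (R := X.ringCatSheaf) (Coh.structureModule X) := by
  haveI := isQuasicoherent_of_isFinLocFree _ (isFinLocFree_unit (X := X))
  exact isFinitePresentation_of_isFinLocFree _ isFinLocFree_unit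

set_option backward.isDefEq.respectTransparency false in
theorem finite_flat_lfp_of_isFinLocFree_push (f : X ⟶ S) [IsAffineHom f]
    (h : FlatMod.IsFinLocFree ((Scheme.Modules.pushforward f).obj (Coh.structureModule X))) :
    IsFinite f ∧ Flat f ∧ LocallyOfFinitePresentation f := by
  let G := (Scheme.Modules.pushforward f).obj (Coh.structureModule X)
  haveI hq : G.IsQuasicoherent := isQuasicoherent_of_isFinLocFree G h
  have hfp := isFinitePresentation_of_isFinLocFree G h
  have hfree := fun s => free_stalk_of_isFinLocFree G h s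
  have key : ∀ V : S.Opens, IsAffineOpen V →
      letI := (f.app V).hom.toAlgebra
      Module.FinitePresentation Γ(S, V) Γ(X, f ⁻¹ᵁ V) ∧ Module.Flat Γ(S, V) Γ(X, f ⁻¹ᵁ V) := by
    intro V hV
    letI := (f.app V).hom.toAlgebra
    have h1 : Module.FinitePresentation Γ(S, V) Γ(G, V) := FPGlue.fp_sections G hfp hV
    have h2 : Module.Flat Γ(S, V) Γ(G, V) :=
      flat_sections_of_flat_stalks G hV (fun y _ => haveI := hfree y; inferInstance)
    exact ⟨Module.FinitePresentation.of_equiv (pushUnitEquiv f V),
      Module.Flat.of_linearEquiv (pushUnitEquiv f V).symm⟩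
  refine ⟨?_, ?_, ?_⟩
  · rw [isFinite_iff]
    refine ⟨inferInstance, fun V hV => ?_⟩
    letI := (f.app V).hom.toAlgebra
    haveI := (key V hV).1
    exact (inferInstance : Module.Finite Γ(S, V) Γ(X, f ⁻¹ᵁ V))
  · rw [affineHom_iff_app @Flat RingHom.Flat f]
    intro V hV
    exact (key V hV).2
  · rw [affineHom_iff_app @LocallyOfFinitePresentation RingHom.FinitePresentation f]
    intro V hV
    letI := (f.app V).hom.toAlgebra
    haveI := (key V hV).1
    exact (inferInstance : Algebra.FinitePresentation Γ(S, V) Γ(X, f ⁻¹ᵁ V))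


set_option backward.isDefEq.respectTransparency false in
theorem isFinLocFree_push_of_finite_flat_lfp (f : X ⟶ S) [IsFinite f] [Flat f]
    [LocallyOfFinitePresentation f] :
    FlatMod.IsFinLocFree ((Scheme.Modules.pushforward f).obj (Coh.structureModule X)) := by
  let G := (Scheme.Modules.pushforward f).obj (Coh.structureModule X)
  haveI : (Coh.structureModule X).IsQuasicoherent :=
    isQuasicoherent_of_isFinLocFree _ (isFinLocFree_unit (X := X))
  haveI hq : G.IsQuasicoherent := QcohGlue.isQuasicoherent_pushforward f (Coh.structureModule X)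
  have hfp : SheafOfModules.IsFinitePresentation (R := S.ringCatSheaf) G :=
    FPGlue.isFinitePresentation_pushforward_of_isFinite f _ isFinitePresentation_unit
  apply isFinLocFree_of_fp_of_free_stalks G hfp
  intro s
  obtain ⟨V, hV, hs⟩ := QcohLimits.exists_affine_nhd s
  have hflatV : Module.Flat Γ(S, V) Γ(G, V) := by
    have h1 := (affineHom_iff_app @Flat RingHom.Flat f).mp inferInstance V hV
    letI := (f.app V).hom.toAlgebra
    have h2 : Module.Flat Γ(S, V) Γ(X, f ⁻¹ᵁ V) := h1
    exact Module.Flat.of_linearEquiv (pushUnitEquiv f V)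
  letI := sectionModStalk G s hs
  letI := S.presheaf.algebra_section_stalk ⟨s, hs⟩
  haveI := hV.isLocalization_stalk ⟨s, hs⟩
  haveI := isLocalizedModule_germ hV G s hs
  haveI : IsScalarTower Γ(S, V) (S.presheaf.stalk s) (G.presheaf.stalk s) :=
    IsScalarTower.of_algebraMap_smul (fun r m => rfl)
  haveI : Module.Flat (S.presheaf.stalk s) (G.presheaf.stalk s) :=
    Module.Flat.of_isLocalizedModule (S.presheaf.stalk s)
      (hV.primeIdealOf ⟨s, hs⟩).asIdeal.primeCompl (germLin G s hs)
  haveI := finite_stalk G (isFiniteType_of_isFinitePresentation G hfp) s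
  exact Module.free_of_flat_of_isLocalRing


end Groth.Agent.Helper4.FinLocFree6
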