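import Mathlib
import Groth.Agent.Helper4.FTTilde
import Groth.Agent.Helper4.FTRestrict
import Groth.Agent.Helper4.QcqsTilde
import Groth.Agent.Helper4.QcohLocal

set_option autoImplicit false
universe u
open CategoryTheory CategoryTheory.Limits AlgebraicGeometry TopologicalSpace Opposite Submodule

namespace Groth.Agent.Helper4.CohExt
open Groth.Agent.Helper4.StalkDict Groth.Agent.Helper4 Groth.Agent.Helper4.QcqsMod
open Groth.Agent.Helper8.TildeBC

/-- generalization of `FTTilde.exists_gens_of_gen_basicOpen` to arbitrary open immersions -/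
theorem exists_gens_of_gen_pullback (R : CommRingCat.{u}) (M : ModuleCat.{u} R) (f : R) (n : ℕ)
    {Y : Scheme.{u}} (ι' : Y ⟶ Spec R) [IsOpenImmersion ι']
    (hU : ∀ p ∈ PrimeSpectrum.basicOpen f, p ∈ Set.range ι')
    (g0 : Gen ((Scheme.Modules.pullback ι').obj (tilde M)) n) :
    ∃ v : Fin n → M, ∀ y : M, ∃ K : ℕ, f ^ K • y ∈ Submodule.span R (Set.range v) := by
  let A : CommRingCat.{u} := CommRingCat.of (Localization.Away f)
  let α : R ⟶ A := CommRingCat.ofHom (algebraMap R (Localization.Away f))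
  have hj : Set.range (Spec.map α) ⊆ Set.range ι' := by
    have h := Scheme.Hom.opensRange_localizationAway f
    have h' : Set.range (Spec.map α) =
        ((PrimeSpectrum.basicOpen f : TopologicalSpace.Opens (PrimeSpectrum R)) :
          Set (PrimeSpectrum R)) := by
      rw [← h]; rfl
    rw [h']
    exact hU
  let j' := IsOpenImmersion.lift ι' (Spec.map α) hj
  have hfac : j' ≫ ι' = Spec.map α := IsOpenImmersion.lift_fac _ _ _
  have g1 := g0.pullback j'
  have g2 := (g1.pullback_comp j' ι').pullback_congr hfac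
  obtain ⟨s, hs⟩ := g2.pullback_tilde_span α
  refine exists_gens_of_extendScalars α.hom f ?_ M n s hs
  have hinst : (algebraMap R (Localization.Away f)).toAlgebra =
      (inferInstance : Algebra R (Localization.Away f)) :=
    Algebra.algebra_ext _ _ (fun r => rfl)
  change @IsLocalization.Away R _ f (Localization.Away f) _
    (algebraMap R (Localization.Away f)).toAlgebra
  rw [hinst]
  infer_instance

theorem exists_local_gens (R : CommRingCat.{u}) (N : ModuleCat.{u} R) (V : (Spec R).Opens)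
    (hFT : SheafOfModules.IsFiniteType (R := (V : Scheme.{u}).ringCatSheaf)
      ((tilde N).restrict V.ι)) (x : Spec R) (hx : x ∈ V) :
    ∃ (f : R) (n : ℕ) (v : Fin n → N), x ∈ PrimeSpectrum.basicOpen f ∧
      (PrimeSpectrum.basicOpen f : (Spec R).Opens) ≤ V ∧
      ∀ y : N, ∃ K : ℕ, f ^ K • y ∈ Submodule.span R (Set.range v) := by
  obtain ⟨W, hxW, hW⟩ := FTLocal.exists_generatingSections_restrict
    ((tilde N).restrict V.ι) hFT ⟨x, hx⟩
  have hxU : x ∈ V.ι ''ᵁ W := ⟨⟨x, hx⟩, hxW, rfl⟩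
  obtain ⟨_, ⟨_, ⟨f, rfl⟩, rfl⟩, hxf, hfW⟩ :=
    PrimeSpectrum.isBasis_basic_opens.exists_subset_of_mem_open hxU (V.ι ''ᵁ W).isOpen
  obtain ⟨σ, hσ⟩ := hW W le_rfl
  obtain ⟨n, g0⟩ := FTTilde.gen_of_generatingSections _ σ
  have g1 : Gen ((Scheme.Modules.pullback W.ι).obj
      ((Scheme.Modules.pullback V.ι).obj (tilde N))) n :=
    (g0.of_restrict W.ι).of_iso ((Scheme.Modules.pullback W.ι).mapIso
      ((Scheme.Modules.restrictFunctorIsoPullback V.ι).app (tilde N)))
  have g2 := g1.pullback_comp W.ι V.ι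
  have hr : ∀ p ∈ PrimeSpectrum.basicOpen f, p ∈ Set.range (W.ι ≫ V.ι) := by
    intro p hp
    obtain ⟨q, hq, rfl⟩ := hfW hp
    exact ⟨⟨q, hq⟩, rfl⟩
  obtain ⟨v, hv⟩ := exists_gens_of_gen_pullback R N f n (W.ι ≫ V.ι) hr g2
  refine ⟨f, n, v, hxf, ?_, hv⟩
  intro p hp
  obtain ⟨q, -, rfl⟩ := hfW hp
  exact q.2

theorem bijective_of_localized {R : Type*} [CommRing R] (S : Submonoid R)
    {M N M' N' : Type*} [AddCommGroup M] [AddCommGroup N] [AddCommGroup M'] [AddCommGroup N']
    [Module R M] [Module R N] [Module R M'] [Module R N']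
    (a : M →ₗ[R] M') [IsLocalizedModule S a] (b : N →ₗ[R] N') [IsLocalizedModule S b]
    (i : M →ₗ[R] N) (hi : Function.Injective i)
    (hsurj : ∀ n : N, ∃ (s : S) (m : M), s • n = i m)
    (g : M' →ₗ[R] N') (hg : ∀ m, g (a m) = b (i m)) : Function.Bijective g := by
  have hgmap : g = IsLocalizedModule.map S a b i := by
    apply IsLocalizedModule.linearMap_ext S a b
    rw [IsLocalizedModule.map_comp]
    ext m
    exact hg m
  constructor
  · rw [hgmap]
    exact IsLocalizedModule.map_injective S a b i hi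
  · intro t
    obtain ⟨⟨n, s⟩, hs⟩ := IsLocalizedModule.surj S b t
    obtain ⟨s', m, hm⟩ := hsurj n
    refine ⟨IsLocalizedModule.mk' a m (s' * s), ?_⟩
    apply IsLocalizedModule.smul_injective b (s' * s)
    change (s' * s) • g _ = (s' * s) • t
    rw [Submonoid.smul_def, ← map_smul, ← Submonoid.smul_def, IsLocalizedModule.mk'_cancel', hg,
      ← hm, mul_smul, Submonoid.smul_def s', map_smul]
    congr 1
    exact hs.symm

theorem tilde_map_app_bijective (R : CommRingCat.{u}) {M N : ModuleCat.{u} R} (i : M ⟶ N)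
    (hi : Function.Injective i.hom)
    (f : R) (hf : ∀ y : N, ∃ (K : ℕ) (m : M), f ^ K • y = i.hom m) :
    Function.Bijective ((tilde.map i).app (PrimeSpectrum.basicOpen f)) := by
  have hcomm := tilde.toOpen_map_app i (PrimeSpectrum.basicOpen f)
  exact bijective_of_localized (Submonoid.powers f)
    (tilde.toOpen M (PrimeSpectrum.basicOpen f)).hom
    (tilde.toOpen N (PrimeSpectrum.basicOpen f)).hom i.hom hi
    (by
      intro n
      obtain ⟨K, m, hK⟩ := hf n
      exact ⟨⟨f ^ K, K, rfl⟩, m, hK⟩)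
    ((modulesSpecToSheaf.map (tilde.map i)).1.app (op (PrimeSpectrum.basicOpen f))).hom
    (by
      intro m
      exact congrArg (fun φ => φ.hom m) hcomm)


theorem exists_finite_tilde_restrict (R : CommRingCat.{u}) (V : (Spec R).Opens)
    (hV : IsCompact (V : Set (Spec R))) (N : ModuleCat.{u} R)
    (hFT : SheafOfModules.IsFiniteType (R := (V : Scheme.{u}).ringCatSheaf)
      ((tilde N).restrict V.ι)) :
    ∃ M : ModuleCat.{u} R, Module.Finite R M ∧
      Nonempty ((tilde M).restrict V.ι ≅ (tilde N).restrict V.ι) := by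
  have key : ∀ x : V, ∃ (f : R) (n : ℕ) (v : Fin n → N), x.1 ∈ PrimeSpectrum.basicOpen f ∧
      (PrimeSpectrum.basicOpen f : (Spec R).Opens) ≤ V ∧
      ∀ y : N, ∃ K : ℕ, f ^ K • y ∈ Submodule.span R (Set.range v) :=
    fun x => exists_local_gens R N V hFT x.1 x.2
  choose f n v hxf hfV hv using key
  let D : R → (Spec R).Opens := fun g => PrimeSpectrum.basicOpen g
  obtain ⟨t, ht⟩ := hV.elim_nhds_subcover'
    (fun x hx => (SetLike.coe (D (f ⟨x, hx⟩)) : Set (Spec R)))
    (fun x hx => (D (f ⟨x, hx⟩)).isOpen.mem_nhds (hxf ⟨x, hx⟩))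
  let M₀ : Submodule R N := Submodule.span R (⋃ x ∈ t, Set.range (v x))
  have hM₀ : M₀.FG :=
    Submodule.fg_span (Set.Finite.biUnion t.finite_toSet fun _ _ => Set.finite_range _)
  let i : ModuleCat.of R M₀ ⟶ N := ModuleCat.ofHom M₀.subtype
  have hbij : ∀ x ∈ t, ∀ W : (Spec R).Opens, W = PrimeSpectrum.basicOpen (f x) →
      Function.Bijective ((tilde.map i).app W) := by
    rintro x hx _ rfl
    apply tilde_map_app_bijective R i Subtype.val_injective
    intro y
    obtain ⟨K, hK⟩ := hv x y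
    refine ⟨K, ⟨f x ^ K • y, ?_⟩, rfl⟩
    refine Submodule.span_mono ?_ hK
    exact Set.subset_biUnion_of_mem (u := fun x => Set.range (v x)) hx
  refine ⟨ModuleCat.of R M₀, Module.Finite.of_fg hM₀, ⟨?_⟩⟩
  let ψ := (Scheme.Modules.restrictFunctor V.ι).map (tilde.map i)
  haveI : IsIso ψ := by
    apply QcohLocal.isIso_of_app_bijective_of_affine_cover
    intro x
    obtain ⟨_, ⟨x₀, rfl⟩, _, ⟨hx₀, rfl⟩, hxx₀⟩ := ht x.2
    have himg : V.ι ''ᵁ (V.ι ⁻¹ᵁ (D (f x₀))) = D (f x₀) := by
      rw [Scheme.Hom.image_preimage_eq_opensRange_inf, Scheme.Opens.opensRange_ι]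
      exact inf_eq_right.mpr (hfV x₀)
    refine ⟨V.ι ⁻¹ᵁ (D (f x₀)), ?_, hxx₀, ?_⟩
    · rw [← Scheme.Hom.isAffineOpen_iff_of_isOpenImmersion V.ι, himg]
      have hD : D (f x₀) = (Spec R).basicOpen ((Scheme.ΓSpecIso R).inv (f x₀)) :=
        (basicOpen_eq_of_affine (f x₀)).symm
      rw [hD]
      exact (isAffineOpen_top (Spec R)).basicOpen _
    · exact hbij x₀ hx₀ _ himg
  exact asIso ψ

end Groth.Agent.Helper4.CohExt
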