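import Mathlib
import Groth.Agent.Helper4.StalkExact
import Groth.Agent.Helper4.QcohEpi

set_option autoImplicit false
universe u
open CategoryTheory CategoryTheory.Limits AlgebraicGeometry TopologicalSpace Opposite

namespace Groth.Agent.Helper4.SubSec
open Groth.Agent.Helper4.StalkDict Groth.Agent.Helper4 Groth.Agent.Helper4.StalkExact

variable {X : Scheme.{u}}

/-- sections of a kernel -/
theorem exists_kernel_section_iff {A B : X.Modules} (φ : A ⟶ B) (T : X.Opens) (s : Γ(A, T)) :
    (∃ k : Γ(kernel φ, T), (kernel.ι φ).app T k = s) ↔ φ.app T s = 0 := by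
  let S : ShortComplex X.Modules := ShortComplex.mk (kernel.ι φ) φ (kernel.condition φ)
  have hS : S.Exact := ShortComplex.exact_of_f_is_kernel _ (kernelIsKernel φ)
  haveI : Mono S.f := inferInstanceAs (Mono (kernel.ι φ))
  have h := app_exact S hS T s
  constructor
  · intro hk
    exact h.mpr hk
  · intro hs
    exact h.mp hs

/-- sections killed by the cokernel projection of a mono -/
theorem cokernel_π_app_eq_zero_iff {A B : X.Modules} (i : A ⟶ B) [Mono i] (T : X.Opens)
    (x : Γ(B, T)) :
    (cokernel.π i).app T x = 0 ↔ ∃ t : Γ(A, T), i.app T t = x := by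
  let S : ShortComplex X.Modules := ShortComplex.mk i (cokernel.π i) (cokernel.condition i)
  have hS : S.Exact := ShortComplex.exact_of_g_is_cokernel _ (cokernelIsCokernel i)
  haveI : Mono S.f := inferInstanceAs (Mono i)
  exact app_exact S hS T x

/-- a mono factors through another mono as soon as it does so on sections -/
theorem exists_factor_of_sections {A B C : X.Modules} (a : A ⟶ C) (b : B ⟶ C) [Mono b]
    (h : ∀ (T : X.Opens) (s : Γ(A, T)), ∃ t : Γ(B, T), b.app T t = a.app T s) :
    ∃ φ : A ⟶ B, φ ≫ b = a := by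
  have h0 : a ≫ cokernel.π b = 0 := by
    apply Scheme.Modules.hom_ext
    intro T
    ext s
    obtain ⟨t, ht⟩ := h T s
    change (cokernel.π b).app T (a.app T s) = 0
    rw [← ht]
    exact (cokernel_π_app_eq_zero_iff b T _).mpr ⟨t, rfl⟩
  have hS : (ShortComplex.mk b (cokernel.π b) (cokernel.condition b)).Exact :=
    ShortComplex.exact_of_g_is_cokernel _ (cokernelIsCokernel b)
  haveI : Mono (ShortComplex.mk b (cokernel.π b) (cokernel.condition b)).f :=
    inferInstanceAs (Mono b)
  exact ⟨hS.lift a h0, hS.lift_f a h0⟩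

/-- two subobjects with the same sections are isomorphic -/
theorem exists_iso_of_sections {A B C : X.Modules} (a : A ⟶ C) (b : B ⟶ C) [Mono a] [Mono b]
    (h1 : ∀ (T : X.Opens) (s : Γ(A, T)), ∃ t : Γ(B, T), b.app T t = a.app T s)
    (h2 : ∀ (T : X.Opens) (t : Γ(B, T)), ∃ s : Γ(A, T), a.app T s = b.app T t) :
    ∃ e : A ≅ B, e.hom ≫ b = a := by
  obtain ⟨φ, hφ⟩ := exists_factor_of_sections a b h1
  obtain ⟨ψ, hψ⟩ := exists_factor_of_sections b a h2
  refine ⟨⟨φ, ψ, ?_, ?_⟩, hφ⟩
  · rw [← cancel_mono a, Category.assoc, hψ, hφ, Category.id_comp]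
  · rw [← cancel_mono b, Category.assoc, hφ, hψ, Category.id_comp]

/-- mono is detected on sections -/
theorem mono_of_app_injective {A B : X.Modules} (φ : A ⟶ B)
    (h : ∀ T : X.Opens, Function.Injective (φ.app T)) : Mono φ := by
  constructor
  intro Z α β hαβ
  apply Scheme.Modules.hom_ext
  intro T
  ext s
  apply h T
  have := congrArg (fun γ => (Scheme.Modules.Hom.app γ T) s) hαβ
  exact this

theorem restrict_map_app {Y : Scheme.{u}} (j : Y ⟶ X) [IsOpenImmersion j] {A B : X.Modules}
    (φ : A ⟶ B) (T' : Y.Opens) :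
    ((Scheme.Modules.restrictFunctor j).map φ).app T' = φ.app (j ''ᵁ T') := rfl

theorem pushforward_map_app' {Y : Scheme.{u}} (j : Y ⟶ X) {A B : Y.Modules} (φ : A ⟶ B)
    (T : X.Opens) :
    ((Scheme.Modules.pushforward j).map φ).app T = φ.app (j ⁻¹ᵁ T) := rfl

/-- restriction along an open immersion preserves monomorphisms -/
instance mono_restrict_map {Y : Scheme.{u}} (j : Y ⟶ X) [IsOpenImmersion j] {A B : X.Modules}
    (φ : A ⟶ B) [Mono φ] : Mono ((Scheme.Modules.restrictFunctor j).map φ) :=
  mono_of_app_injective _ fun T' => AffineDict.app_injective_of_mono φ (j ''ᵁ T')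

end Groth.Agent.Helper4.SubSec
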