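import Mathlib
import Groth.Agent.Helper4.SubSec
import Groth.Agent.Helper4.QcohGlue
import Groth.Agent.Helper4.QcohLimits
import Groth.Agent.Helper4.FTGlue
import Groth.Agent.Helper4.FinLocFree2

set_option autoImplicit false
universe u
open CategoryTheory CategoryTheory.Limits AlgebraicGeometry TopologicalSpace Opposite

namespace Groth.Agent.Helper4.SubExt
open Groth.Agent.Helper4.StalkDict Groth.Agent.Helper4 Groth.Agent.Helper4.StalkExact
open Groth.Agent.Helper4.SubSec

variable {X Y : Scheme.{u}} (j : Y ⟶ X) [IsOpenImmersion j] (G : X.Modules) {F' : Y.Modules}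
  (i' : F' ⟶ G.restrict j)

/-- `G ⟶ j_*(j^*G / F')` -/
noncomputable def kmap : G ⟶ (Scheme.Modules.pushforward j).obj (cokernel i') :=
  (Scheme.Modules.restrictAdjunction j).unit.app G ≫
    (Scheme.Modules.pushforward j).map (cokernel.π i')

/-- the largest submodule of `G` whose restriction along `j` lies in `F'` -/
noncomputable def K : X.Modules := kernel (kmap j G i')

noncomputable def Kι : K j G i' ⟶ G := kernel.ι _

instance : Mono (Kι j G i') := inferInstanceAs (Mono (kernel.ι _))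

theorem kmap_app (T : X.Opens) (s : Γ(G, T)) :
    (kmap j G i').app T s = (cokernel.π i').app (j ⁻¹ᵁ T)
      (G.presheaf.map (homOfLE (j.image_preimage_le T)).op s) := rfl

theorem mem_K_iff [Mono i'] (T : X.Opens) (s : Γ(G, T)) :
    (∃ k : Γ(K j G i', T), (Kι j G i').app T k = s) ↔
      ∃ t : Γ(F', j ⁻¹ᵁ T), i'.app (j ⁻¹ᵁ T) t =
        G.presheaf.map (homOfLE (j.image_preimage_le T)).op s := by
  unfold K Kι
  rw [exists_kernel_section_iff, kmap_app]
  exact cokernel_π_app_eq_zero_iff i' (j ⁻¹ᵁ T) _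

omit [IsOpenImmersion j] in
theorem exists_app_eq_transport {A B : Y.Modules} (φ : A ⟶ B) {T₁ T₂ : Y.Opens} (h : T₁ = T₂)
    (x : Γ(B, T₂)) :
    (∃ t : Γ(A, T₁), φ.app T₁ t = B.presheaf.map (eqToHom h).op x) ↔
      ∃ t : Γ(A, T₂), φ.app T₂ t = x := by
  subst h
  have : B.presheaf.map (eqToHom (rfl : T₁ = T₁)).op x = x := by
    rw [eqToHom_refl, op_id, B.presheaf.map_id]
    rfl
  rw [this]

/-- the restriction of `K` along `j` has the sections of `F'` -/
theorem mem_K_image_iff [Mono i'] (T' : Y.Opens) (s' : Γ(G, j ''ᵁ T')) :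
    (∃ k : Γ(K j G i', j ''ᵁ T'), (Kι j G i').app (j ''ᵁ T') k = s') ↔
      ∃ t : Γ(F', T'), i'.app T' t = s' := by
  rw [mem_K_iff]
  exact exists_app_eq_transport i' (j.preimage_image_eq T') (s' : Γ(G.restrict j, T'))

/-- `K` restricts to `F'` along `j` -/
theorem exists_restrict_K_iso [Mono i'] :
    ∃ e : (K j G i').restrict j ≅ F',
      e.hom ≫ i' = (Scheme.Modules.restrictFunctor j).map (Kι j G i') := by
  refine exists_iso_of_sections ((Scheme.Modules.restrictFunctor j).map (Kι j G i')) i' ?_ ?_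
  · intro T' s
    exact (mem_K_image_iff j G i' T' _).mp ⟨s, rfl⟩
  · intro T' t
    exact (mem_K_image_iff j G i' T' _).mpr ⟨t, rfl⟩

theorem isQuasicoherent_K [QuasiCompact j] [G.IsQuasicoherent] [F'.IsQuasicoherent] :
    (K j G i').IsQuasicoherent := by
  haveI : (G.restrict j).IsQuasicoherent := inferInstance
  haveI : (cokernel i').IsQuasicoherent := QcohLimits.isQuasicoherent_cokernel i'
  haveI : ((Scheme.Modules.pushforward j).obj (cokernel i')).IsQuasicoherent :=
    QcohGlue.isQuasicoherent_pushforward j (cokernel i')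
  exact QcohLimits.isQuasicoherent_kernel (kmap j G i')

section FinOn

theorem smul_restrict_eq (M : X.Modules) (T' : Y.Opens)
    (r : Γ(Y, T')) (x : Γ(M.restrict j, T')) :
    r • x = (show Γ(M.restrict j, T') from
      (((j.appIso T').inv.hom r : Γ(X, j ''ᵁ T')) • (show Γ(M, j ''ᵁ T') from x))) := rfl

set_option backward.isDefEq.respectTransparency false in
theorem finite_restrict_iff (M : X.Modules) (T' : Y.Opens) :
    Module.Finite Γ(Y, T') Γ(M.restrict j, T') ↔
      Module.Finite Γ(X, j ''ᵁ T') Γ(M, j ''ᵁ T') := by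
  let σ : Γ(Y, T') →+* Γ(X, j ''ᵁ T') := (j.appIso T').inv.hom
  let τ : Γ(X, j ''ᵁ T') →+* Γ(Y, T') := (j.appIso T').hom.hom
  have hστ : ∀ r, σ (τ r) = r := fun r => by
    change ((j.appIso T').hom ≫ (j.appIso T').inv).hom r = r
    rw [Iso.hom_inv_id]; rfl
  have hτσ : ∀ r, τ (σ r) = r := fun r => by
    change ((j.appIso T').inv ≫ (j.appIso T').hom).hom r = r
    rw [Iso.inv_hom_id]; rfl
  haveI : RingHomSurjective σ := ⟨fun r => ⟨τ r, hστ r⟩⟩
  haveI : RingHomSurjective τ := ⟨fun r => ⟨σ r, hτσ r⟩⟩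
  constructor
  · intro h
    let f : Γ(M.restrict j, T') →ₛₗ[σ] Γ(M, j ''ᵁ T') :=
      { toFun := fun x => x
        map_add' := fun _ _ => rfl
        map_smul' := fun r x => rfl }
    exact Module.Finite.of_surjective f (fun x => ⟨x, rfl⟩)
  · intro h
    let f : Γ(M, j ''ᵁ T') →ₛₗ[τ] Γ(M.restrict j, T') :=
      { toFun := fun x => x
        map_add' := fun _ _ => rfl
        map_smul' := fun r x => by
          change (show Γ(M.restrict j, T') from r • x) = τ r • (show Γ(M.restrict j, T') from x)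
          rw [smul_restrict_eq, hστ] }
    exact Module.Finite.of_surjective f (fun x => ⟨x, rfl⟩)

/-- finite sections over all affine opens inside `V` -/
def FinOn (H : X.Modules) (V : X.Opens) : Prop :=
  ∀ T : X.Opens, IsAffineOpen T → T ≤ V → Module.Finite Γ(X, T) Γ(H, T)

theorem FinOn.mono {H : X.Modules} {V V' : X.Opens} (h : FinOn H V) (hle : V' ≤ V) : FinOn H V' :=
  fun T hT hTV => h T hT (hTV.trans hle)

theorem image_preimage_of_le {T : X.Opens} (hT : T ≤ j.opensRange) : j ''ᵁ (j ⁻¹ᵁ T) = T := by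
  rw [Scheme.Hom.image_preimage_eq_opensRange_inf]
  exact inf_eq_right.mpr hT

theorem isAffineOpen_preimage_of_le {T : X.Opens} (hT : IsAffineOpen T) (hle : T ≤ j.opensRange) :
    IsAffineOpen (j ⁻¹ᵁ T) := by
  rw [← Scheme.Hom.isAffineOpen_iff_of_isOpenImmersion j, image_preimage_of_le j hle]
  exact hT

/-- local criterion for the restriction of a quasi-coherent module to be of finite type -/
theorem isFT_restrict_of_local (H : X.Modules) [H.IsQuasicoherent]
    (h : ∀ y : Y, ∃ D : X.Opens, IsAffineOpen D ∧ j y ∈ D ∧ D ≤ j.opensRange ∧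
      Module.Finite Γ(X, D) Γ(H, D)) :
    SheafOfModules.IsFiniteType (R := Y.ringCatSheaf) (H.restrict j) := by
  haveI : (H.restrict j).IsQuasicoherent := inferInstance
  apply FTGlue.isFiniteType_of_finite_sections
  intro y
  obtain ⟨D, hD, hyD, hDle, hfin⟩ := h y
  refine ⟨j ⁻¹ᵁ D, isAffineOpen_preimage_of_le j hD hDle, hyD, ?_⟩
  rw [finite_restrict_iff, image_preimage_of_le j hDle]
  exact hfin

theorem finOn_of_isFT_restrict (H : X.Modules) [H.IsQuasicoherent]
    (h : SheafOfModules.IsFiniteType (R := Y.ringCatSheaf) (H.restrict j)) :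
    FinOn H j.opensRange := by
  intro T hT hle
  haveI : (H.restrict j).IsQuasicoherent := inferInstance
  have h1 := SecDict.finite_sections (isAffineOpen_preimage_of_le j hT hle) (H.restrict j)
    inferInstance h
  rw [finite_restrict_iff, image_preimage_of_le j hle] at h1
  exact h1

theorem isFT_restrict_of_finOn (H : X.Modules) [H.IsQuasicoherent] {V : X.Opens}
    (h : FinOn H V) (hj : j.opensRange ≤ V) :
    SheafOfModules.IsFiniteType (R := Y.ringCatSheaf) (H.restrict j) := by
  apply isFT_restrict_of_local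
  intro y
  obtain ⟨D, hD, hyD, hDle⟩ := FinLocFree2.exists_affine_nhd_le (j y) j.opensRange ⟨y, rfl⟩
  exact ⟨D, hD, hyD, hDle, h D hD (hDle.trans hj)⟩

theorem FinOn.sup {H : X.Modules} [H.IsQuasicoherent] {V₁ V₂ : X.Opens} (h1 : FinOn H V₁)
    (h2 : FinOn H V₂) : FinOn H (V₁ ⊔ V₂) := by
  intro T hT hle
  have hr : T.ι.opensRange = T := Scheme.Opens.opensRange_ι T
  have hFT : SheafOfModules.IsFiniteType (R := (T : Scheme.{u}).ringCatSheaf)
      (H.restrict T.ι) := by
    apply isFT_restrict_of_local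
    intro y
    have hy : (T.ι y) ∈ V₁ ⊔ V₂ := hle y.2
    rcases hy with hy | hy
    · obtain ⟨D, hD, hyD, hDle⟩ := FinLocFree2.exists_affine_nhd_le (T.ι y) (V₁ ⊓ T) ⟨hy, y.2⟩
      exact ⟨D, hD, hyD, hr.ge.trans' (hDle.trans inf_le_right), h1 D hD (hDle.trans inf_le_left)⟩
    · obtain ⟨D, hD, hyD, hDle⟩ := FinLocFree2.exists_affine_nhd_le (T.ι y) (V₂ ⊓ T) ⟨hy, y.2⟩
      exact ⟨D, hD, hyD, hr.ge.trans' (hDle.trans inf_le_right), h2 D hD (hDle.trans inf_le_left)⟩
  exact finOn_of_isFT_restrict T.ι H hFT T hT hr.ge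

theorem FinOn.of_bijective {H H' : X.Modules} (m : H' ⟶ H) {V : X.Opens}
    (hbij : ∀ T : X.Opens, T ≤ V → Function.Bijective (m.app T)) (h : FinOn H V) :
    FinOn H' V := by
  intro T hT hle
  haveI := h T hT hle
  exact Module.Finite.equiv (LinearEquiv.ofBijective (QcohEpi.appLin m T) (hbij T hle)).symm

theorem isFiniteType_of_finOn_top (H : X.Modules) [H.IsQuasicoherent] (h : FinOn H ⊤) :
    SheafOfModules.IsFiniteType (R := X.ringCatSheaf) H := by
  apply FTGlue.isFiniteType_of_finite_sections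
  intro x
  obtain ⟨D, hD, hxD⟩ := QcohLimits.exists_affine_nhd x
  exact ⟨D, hD, hxD, h D hD le_top⟩

end FinOn

end Groth.Agent.Helper4.SubExt
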