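import Mathlib
import Groth.Agent.Helper4.SubExt
import Groth.Agent.Helper4.CohExt
import Groth.Agent.Helper4.TildeExact

set_option autoImplicit false
universe u
open CategoryTheory CategoryTheory.Limits AlgebraicGeometry TopologicalSpace Opposite

namespace Groth.Agent.Helper4.SubExt
open Groth.Agent.Helper4.StalkDict Groth.Agent.Helper4 Groth.Agent.Helper4.StalkExact
open Groth.Agent.Helper4.SubSec Groth.Agent.Helper4.QcqsMod

/-- refinement of `CohExt.exists_finite_tilde_restrict`, exposing the submodule -/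
theorem exists_fg_submodule_isIso_restrict (R : CommRingCat.{u}) (V : (Spec R).Opens)
    (hV : IsCompact (V : Set (Spec R))) (N : ModuleCat.{u} R)
    (hFT : SheafOfModules.IsFiniteType (R := (V : Scheme.{u}).ringCatSheaf)
      ((tilde N).restrict V.ι)) :
    ∃ M₀ : Submodule R N, M₀.FG ∧
      IsIso ((Scheme.Modules.restrictFunctor V.ι).map
        (tilde.map (ModuleCat.ofHom (X := ModuleCat.of R M₀) (Y := N) M₀.subtype))) := by
  have key : ∀ x : V, ∃ (f : R) (n : ℕ) (v : Fin n → N), x.1 ∈ PrimeSpectrum.basicOpen f ∧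
      (PrimeSpectrum.basicOpen f : (Spec R).Opens) ≤ V ∧
      ∀ y : N, ∃ K : ℕ, f ^ K • y ∈ Submodule.span R (Set.range v) :=
    fun x => CohExt.exists_local_gens R N V hFT x.1 x.2
  choose f n v hxf hfV hv using key
  let D : R → (Spec R).Opens := fun g => PrimeSpectrum.basicOpen g
  obtain ⟨t, ht⟩ := hV.elim_nhds_subcover'
    (fun x hx => (SetLike.coe (D (f ⟨x, hx⟩)) : Set (Spec R)))
    (fun x hx => (D (f ⟨x, hx⟩)).isOpen.mem_nhds (hxf ⟨x, hx⟩))
  let M₀ : Submodule R N := Submodule.span R (⋃ x ∈ t, Set.range (v x))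
  have hM₀ : M₀.FG :=
    Submodule.fg_span (Set.Finite.biUnion t.finite_toSet fun _ _ => Set.finite_range _)
  let i : ModuleCat.of R M₀ ⟶ N := ModuleCat.ofHom M₀.subtype
  have hbij : ∀ x ∈ t, ∀ W : (Spec R).Opens, W = PrimeSpectrum.basicOpen (f x) →
      Function.Bijective ((tilde.map i).app W) := by
    rintro x hx _ rfl
    apply CohExt.tilde_map_app_bijective R i Subtype.val_injective
    intro y
    obtain ⟨K, hK⟩ := hv x y
    refine ⟨K, ⟨f x ^ K • y, ?_⟩, rfl⟩
    refine Submodule.span_mono ?_ hK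
    exact Set.subset_biUnion_of_mem (u := fun x => Set.range (v x)) hx
  refine ⟨M₀, hM₀, ?_⟩
  apply QcohLocal.isIso_of_app_bijective_of_affine_cover
  intro x
  obtain ⟨_, ⟨x₀, rfl⟩, _, ⟨hx₀, rfl⟩, hxx₀⟩ := ht x.2
  have himg : V.ι ''ᵁ (V.ι ⁻¹ᵁ (D (f x₀))) = D (f x₀) := by
    rw [Scheme.Hom.image_preimage_eq_opensRange_inf, Scheme.Opens.opensRange_ι]
    exact inf_eq_right.mpr (hfV x₀)
  refine ⟨V.ι ⁻¹ᵁ (D (f x₀)), ?_, hxx₀, ?_⟩
  · rw [← Scheme.Hom.isAffineOpen_iff_of_isOpenImmersion V.ι, himg]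
    have hD : D (f x₀) = (Spec R).basicOpen ((Scheme.ΓSpecIso R).inv (f x₀)) :=
      (basicOpen_eq_of_affine (f x₀)).symm
    rw [hD]
    exact (isAffineOpen_top (Spec R)).basicOpen _
  · exact hbij x₀ hx₀ _ himg

variable {X Y : Scheme.{u}}

/-- if the restriction of `φ` to `V'` is an isomorphism then `φ` is bijective on sections over
opens contained in `V'` -/
theorem app_bijective_of_isIso_restrict {A B : Y.Modules} (φ : A ⟶ B) (V' : Y.Opens)
    [IsIso ((Scheme.Modules.restrictFunctor V'.ι).map φ)] (T₁ : Y.Opens) (hT : T₁ ≤ V') :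
    Function.Bijective (φ.app T₁) := by
  have h1 : Function.Bijective
      (((Scheme.Modules.restrictFunctor V'.ι).map φ).app (V'.ι ⁻¹ᵁ T₁)) :=
    ConcreteCategory.bijective_of_isIso _
  have h2 : Function.Bijective (φ.app (V'.ι ''ᵁ (V'.ι ⁻¹ᵁ T₁))) := h1
  have himg : V'.ι ''ᵁ (V'.ι ⁻¹ᵁ T₁) = T₁ :=
    image_preimage_of_le V'.ι (by rw [Scheme.Opens.opensRange_ι]; exact hT)
  rw [himg] at h2
  exact h2

theorem opensRange_ι_comp_le (j : Y ⟶ X) [IsOpenImmersion j] (V : X.Opens) :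
    ((j ⁻¹ᵁ V).ι ≫ j).opensRange ≤ V := by
  rintro _ ⟨z, rfl⟩
  exact z.2

set_option backward.isDefEq.respectTransparency false in
/-- one step of the extension: shrink `H` so that it becomes of finite type over one more affine
open, without changing it over `V`. -/
theorem step [QuasiSeparatedSpace X] (H : X.Modules) [H.IsQuasicoherent] (V : X.Opens)
    (hV : IsCompact (V : Set X)) (hfin : FinOn H V) (W : X.Opens) (hW : IsAffineOpen W) :
    ∃ (H' : X.Modules) (m : H' ⟶ H), Mono m ∧ H'.IsQuasicoherent ∧ FinOn H' (V ⊔ W) ∧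
      ∀ T : X.Opens, T ≤ V → Function.Surjective (m.app T) := by
  let R : CommRingCat.{u} := Γ(X, W)
  let j : Spec R ⟶ X := hW.fromSpec
  have hrange : j.opensRange = W := hW.opensRange_fromSpec
  let N₁ : (Spec R).Modules := H.restrict j
  haveI : N₁.IsQuasicoherent := inferInstance
  haveI : IsIso N₁.fromTildeΓ := inferInstance
  obtain ⟨ΓN, ⟨e⟩⟩ : ∃ ΓN : ModuleCat.{u} R, Nonempty (tilde ΓN ≅ N₁) :=
    ⟨moduleSpecΓFunctor.obj N₁, ⟨asIso N₁.fromTildeΓ⟩⟩
  let V' : (Spec R).Opens := j ⁻¹ᵁ V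
  have hV' : IsCompact (V' : Set (Spec R)) := by
    have h1 : IsCompact ((V : Set X) ∩ (W : Set X)) :=
      QuasiSeparatedSpace.inter_isCompact _ _ V.isOpen hV W.isOpen hW.isCompact
    have h2 : (V' : Set (Spec R)) = j ⁻¹' ((V : Set X) ∩ (W : Set X)) := by
      ext z
      constructor
      · intro hz
        refine ⟨hz, ?_⟩
        have : j z ∈ j.opensRange := ⟨z, rfl⟩
        rw [hrange] at this
        exact this
      · intro hz
        exact hz.1
    rw [h2]
    refine (j.isOpenEmbedding.isInducing.isCompact_preimage_iff ?_).mpr h1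
    intro y hy
    have : y ∈ j.opensRange := by rw [hrange]; exact hy.2
    exact this
  have hFT : SheafOfModules.IsFiniteType (R := (V' : Scheme.{u}).ringCatSheaf)
      ((tilde ΓN).restrict V'.ι) := by
    have h1 : SheafOfModules.IsFiniteType (R := (V' : Scheme.{u}).ringCatSheaf)
        (H.restrict (V'.ι ≫ j)) :=
      isFT_restrict_of_finOn (V'.ι ≫ j) H hfin (opensRange_ι_comp_le j V)
    let iso : H.restrict (V'.ι ≫ j) ≅ (tilde ΓN).restrict V'.ι :=
      (Scheme.Modules.restrictFunctorComp V'.ι j).app H ≪≫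
        (Scheme.Modules.restrictFunctor V'.ι).mapIso e.symm
    haveI := h1
    exact FTRestrict.SoM.isFiniteType_of_iso (R := (V' : Scheme.{u}).ringCatSheaf) iso
  obtain ⟨M₀, hfg, hiso⟩ := exists_fg_submodule_isIso_restrict R V' hV' ΓN hFT
  let ι₀ : ModuleCat.of R M₀ ⟶ ΓN := ModuleCat.ofHom M₀.subtype
  haveI : Mono ι₀ := (ModuleCat.mono_iff_injective ι₀).mpr Subtype.val_injective
  haveI : Mono (tilde.map ι₀) := TildeExact.mono_tilde_map R ι₀
  let F' : (Spec R).Modules := tilde (ModuleCat.of R M₀)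
  let i' : F' ⟶ H.restrict j := tilde.map ι₀ ≫ e.hom
  haveI : Mono i' := mono_comp _ _
  haveI : F'.IsQuasicoherent := inferInstance
  haveI : (K j H i').IsQuasicoherent := isQuasicoherent_K j H i'
  have hsurj : ∀ T : X.Opens, T ≤ V → Function.Surjective ((Kι j H i').app T) := by
    intro T hTV s
    apply (mem_K_iff j H i' T s).mpr
    have hle : j ⁻¹ᵁ T ≤ V' := fun z hz => hTV hz
    have hb := app_bijective_of_isIso_restrict (tilde.map ι₀) V' (j ⁻¹ᵁ T) hle
    have he : Function.Bijective (e.hom.app (j ⁻¹ᵁ T)) :=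
      ConcreteCategory.bijective_of_isIso _
    obtain ⟨u, hu⟩ := he.2 (H.presheaf.map (homOfLE (j.image_preimage_le T)).op s)
    obtain ⟨t, ht⟩ := hb.2 u
    refine ⟨t, ?_⟩
    change e.hom.app (j ⁻¹ᵁ T) ((tilde.map ι₀).app (j ⁻¹ᵁ T) t) = _
    rw [ht, hu]
  refine ⟨K j H i', Kι j H i', inferInstance, inferInstance, ?_, hsurj⟩
  apply FinOn.sup
  · exact FinOn.of_bijective (Kι j H i')
      (fun T hT => ⟨AffineDict.app_injective_of_mono _ T, hsurj T hT⟩) hfin
  · obtain ⟨e', -⟩ := exists_restrict_K_iso j H i'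
    haveI : Module.Finite R (ModuleCat.of R M₀) := Module.Finite.of_fg hfg
    haveI : SheafOfModules.IsFiniteType (R := (Spec R).ringCatSheaf) F' :=
      FTTilde.isFT_tilde_of_finite R (ModuleCat.of R M₀)
    have h2 : SheafOfModules.IsFiniteType (R := (Spec R).ringCatSheaf) ((K j H i').restrict j) :=
      FTRestrict.SoM.isFiniteType_of_iso (R := (Spec R).ringCatSheaf) e'.symm
    have h3 := finOn_of_isFT_restrict j (K j H i') h2
    rw [hrange] at h3
    exact h3

theorem steps [QuasiSeparatedSpace X] (s : Finset X.affineOpens) :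
    ∀ (H : X.Modules) (_ : H.IsQuasicoherent) (V : X.Opens), IsCompact (V : Set X) → FinOn H V →
      ∃ (H' : X.Modules) (m : H' ⟶ H), Mono m ∧ H'.IsQuasicoherent ∧
        FinOn H' (V ⊔ ⨆ W ∈ s, (W : X.Opens)) ∧
        ∀ T : X.Opens, T ≤ V → Function.Surjective (m.app T) := by
  classical
  induction s using Finset.induction_on with
  | empty =>
    intro H hH V hV hfin
    refine ⟨H, 𝟙 H, inferInstance, hH, hfin.mono (by simp), fun T _ => ?_⟩
    intro x
    exact ⟨x, rfl⟩
  | insert W s hWs ih =>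
    intro H hH V hV hfin
    haveI := hH
    obtain ⟨H₁, m₁, hm₁, hq₁, hfin₁, hsurj₁⟩ := step H V hV hfin W.1 W.2
    have hVW : IsCompact ((V ⊔ W.1 : X.Opens) : Set X) := by
      have : ((V ⊔ W.1 : X.Opens) : Set X) = (V : Set X) ∪ (W.1 : Set X) := rfl
      rw [this]
      exact hV.union W.2.isCompact
    obtain ⟨H₂, m₂, hm₂, hq₂, hfin₂, hsurj₂⟩ := ih H₁ hq₁ (V ⊔ W.1) hVW hfin₁
    refine ⟨H₂, m₂ ≫ m₁, mono_comp _ _, hq₂, hfin₂.mono ?_, fun T hT x => ?_⟩
    · rw [Finset.iSup_insert, sup_assoc]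
    · obtain ⟨y, hy⟩ := hsurj₁ T hT x
      obtain ⟨z, hz⟩ := hsurj₂ T (hT.trans le_sup_left) y
      refine ⟨z, ?_⟩
      change m₁.app T (m₂.app T z) = x
      rw [hz, hy]

/-- **extension of finite type submodules on qcqs schemes**, for an arbitrary open immersion
with quasi-compact source. -/
theorem exists_extension [CompactSpace X] [QuasiSeparatedSpace X] (j : Y ⟶ X) [IsOpenImmersion j]
    [CompactSpace Y] (G : X.Modules) [G.IsQuasicoherent] (F' : Y.Modules) [F'.IsQuasicoherent]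
    (hF' : SheafOfModules.IsFiniteType (R := Y.ringCatSheaf) F') (i' : F' ⟶ G.restrict j)
    [Mono i'] :
    ∃ (F : X.Modules) (i : F ⟶ G) (e : F.restrict j ≅ F'), Mono i ∧ F.IsQuasicoherent ∧
      SheafOfModules.IsFiniteType (R := X.ringCatSheaf) F ∧
      e.hom ≫ i' = (Scheme.Modules.restrictFunctor j).map i := by
  haveI : QuasiCompact j := inferInstance
  haveI hK : (K j G i').IsQuasicoherent := isQuasicoherent_K j G i'
  obtain ⟨e₀, he₀⟩ := exists_restrict_K_iso j G i'
  have hfin₀ : FinOn (K j G i') j.opensRange := by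
    apply finOn_of_isFT_restrict
    haveI := hF'
    exact FTRestrict.SoM.isFiniteType_of_iso (R := Y.ringCatSheaf) e₀.symm
  have hcomp : IsCompact ((j.opensRange : X.Opens) : Set X) := by
    have : ((j.opensRange : X.Opens) : Set X) = Set.range j := rfl
    rw [this]
    exact isCompact_range j.continuous
  obtain ⟨s, hs, htop⟩ := isCompact_iff_finite_and_eq_biUnion_affineOpens.mp
    (show IsCompact ((⊤ : X.Opens) : Set X) from isCompact_univ)
  obtain ⟨F, m, hm, hq, hfin, hsurj⟩ := steps hs.toFinset (K j G i') hK j.opensRange hcomp hfin₀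
  have hfin' : FinOn F ⊤ := by
    refine hfin.mono ?_
    rw [htop]
    refine le_sup_of_le_right ?_
    simp only [Set.Finite.mem_toFinset]
    exact le_rfl
  haveI := hq
  haveI := hm
  haveI : Mono (m ≫ Kι j G i') := mono_comp _ _
  have hiso := exists_iso_of_sections ((Scheme.Modules.restrictFunctor j).map (m ≫ Kι j G i')) i'
    ?_ ?_
  · obtain ⟨e, he⟩ := hiso
    exact ⟨F, m ≫ Kι j G i', e, inferInstance, hq, isFiniteType_of_finOn_top F hfin', he⟩
  · intro T' x
    exact (mem_K_image_iff j G i' T' _).mp ⟨m.app (j ''ᵁ T') x, rfl⟩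
  · intro T' t
    obtain ⟨k, hk⟩ := (mem_K_image_iff j G i' T' _).mpr ⟨t, rfl⟩
    obtain ⟨x, hx⟩ := hsurj (j ''ᵁ T') (fun y hy => by
      obtain ⟨z, -, rfl⟩ := hy
      exact ⟨z, rfl⟩) k
    refine ⟨x, ?_⟩
    change (Kι j G i').app (j ''ᵁ T') (m.app (j ''ᵁ T') x) = _
    rw [hx, hk]

end Groth.Agent.Helper4.SubExt
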