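import Mathlib
import Groth.Agent.Helper4.SubExt2
import Groth.Agent.Helper4.FinLocFree6

set_option autoImplicit false
universe u
open CategoryTheory CategoryTheory.Limits AlgebraicGeometry TopologicalSpace Opposite

namespace Groth.Agent.Helper4.SubExt
open Groth.Agent.Helper4.StalkDict Groth.Agent.Helper4 Groth.Agent.Helper4.StalkExact
open Groth.Agent.Helper4.SubSec Groth.Agent.Helper4.QcqsMod

variable {X Y : Scheme.{u}}

/-- a global section gives a map from the structure sheaf -/
theorem exists_unit_hom_of_section (M : Y.Modules) (t0 : M.val.obj (op ⊤)) :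
    ∃ σ : (SheafOfModules.unit Y.ringCatSheaf : Y.Modules) ⟶ M,
      (σ.val.app (op ⊤)).hom (1 : Y.ringCatSheaf.obj.obj (op ⊤)) = t0 := by
  let sec : SheafOfModules.sections (R := Y.ringCatSheaf) M :=
    PresheafOfModules.sectionsMk
      (fun U => M.val.map (homOfLE (le_top : U.unop ≤ ⊤)).op t0) (by
        intro U V f
        rw [← PresheafOfModules.map_comp_apply]
        rfl)
  refine ⟨(SheafOfModules.unitHomEquiv (R := Y.ringCatSheaf) M).symm sec, ?_⟩
  have h1 := SheafOfModules.unitHomEquiv_apply_coe (R := Y.ringCatSheaf) M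
    ((SheafOfModules.unitHomEquiv (R := Y.ringCatSheaf) M).symm sec) (op ⊤)
  rw [Equiv.apply_symm_apply] at h1
  rw [← h1]
  change M.val.map (𝟙 (op ⊤)) t0 = t0
  rw [M.val.map_id]
  rfl

set_option backward.isDefEq.respectTransparency false in
/-- every section over a quasi-compact open of a quasi-coherent module on a qcqs scheme lies in a
quasi-coherent submodule of finite type. -/
theorem exists_submodule_through_section [CompactSpace X] [QuasiSeparatedSpace X]
    (F : X.Modules) [F.IsQuasicoherent] (U : X.Opens) (hU : IsCompact (U : Set X))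
    (s : F.val.obj (op U)) :
    ∃ (G : X.Modules) (i : G ⟶ F), Mono i ∧ G.IsQuasicoherent ∧
      SheafOfModules.IsFiniteType (R := X.ringCatSheaf) G ∧
      ∃ g : G.val.obj (op U), (i.val.app (op U)).hom g = s := by
  haveI : CompactSpace (U : Scheme.{u}) := isCompact_iff_compactSpace.mp hU
  have htop : U.ι ''ᵁ ⊤ = U := Scheme.Opens.ι_image_top U
  let s' : (F.restrict U.ι).val.obj (op ⊤) := F.val.map (homOfLE htop.le).op s
  obtain ⟨σ, hσ⟩ := exists_unit_hom_of_section (F.restrict U.ι) s'
  let O : (U : Scheme.{u}).Modules := SheafOfModules.unit (U : Scheme.{u}).ringCatSheaf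
  have hOfp : SheafOfModules.IsFinitePresentation (R := (U : Scheme.{u}).ringCatSheaf) O :=
    FinLocFree6.isFinitePresentation_unit
  haveI hOq : O.IsQuasicoherent := FinLocFree2.isQuasicoherent_of_isFinitePresentation O hOfp
  have hOft : SheafOfModules.IsFiniteType (R := (U : Scheme.{u}).ringCatSheaf) O :=
    FinLocFree2.isFiniteType_of_isFinitePresentation O hOfp
  haveI : (F.restrict U.ι).IsQuasicoherent := inferInstance
  let σ' : O ⟶ F.restrict U.ι := σ
  let F' : (U : Scheme.{u}).Modules := Abelian.image σ'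
  let p : O ⟶ F' := Abelian.factorThruImage σ'
  let i' : F' ⟶ F.restrict U.ι := Abelian.image.ι σ'
  have hfac : p ≫ i' = σ' := Abelian.image.fac σ'
  haveI : Epi p := inferInstanceAs (Epi (Abelian.factorThruImage σ'))
  haveI : Mono i' := inferInstanceAs (Mono (Abelian.image.ι σ'))
  haveI hF'q : F'.IsQuasicoherent := QcohLimits.isQuasicoherent_image σ'
  have hF'ft : SheafOfModules.IsFiniteType (R := (U : Scheme.{u}).ringCatSheaf) F' :=
    QcohEpi.isFiniteType_of_epi p hOft
  obtain ⟨G, i, e, hi, hq, hft, he⟩ := exists_extension U.ι F F' hF'ft i'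
  refine ⟨G, i, hi, hq, hft, ?_⟩
  let t : F'.val.obj (op ⊤) := (p.val.app (op ⊤)).hom (1 : (U : Scheme.{u}).ringCatSheaf.obj.obj (op ⊤))
  let g' : G.val.obj (op (U.ι ''ᵁ ⊤)) := (e.inv.val.app (op ⊤)).hom t
  have hg' : (i.val.app (op (U.ι ''ᵁ ⊤))).hom g' = s' := by
    have h1 : e.inv ≫ (Scheme.Modules.restrictFunctor U.ι).map i = i' := by
      rw [← he, Iso.inv_hom_id_assoc]
    have h2 : (i.val.app (op (U.ι ''ᵁ ⊤))).hom g' =
        ((e.inv ≫ (Scheme.Modules.restrictFunctor U.ι).map i).val.app (op ⊤)).hom t := rfl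
    rw [h2, h1]
    change ((p ≫ i').val.app (op ⊤)).hom _ = s'
    rw [hfac]
    exact hσ
  refine ⟨G.val.map (homOfLE htop.ge).op g', ?_⟩
  rw [PresheafOfModules.naturality_apply, hg']
  change F.val.map (homOfLE htop.ge).op (F.val.map (homOfLE htop.le).op s) = s
  rw [← PresheafOfModules.map_comp_apply]
  have : ((homOfLE htop.le).op ≫ (homOfLE htop.ge).op : op U ⟶ op U) = 𝟙 _ :=
    Subsingleton.elim _ _
  rw [this, F.val.map_id]
  rfl

/-- a quasi-coherent module of finite type on a quasi-compact open of a qcqs scheme extends. -/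
theorem exists_extension_of_module [CompactSpace X] [QuasiSeparatedSpace X] (j : Y ⟶ X)
    [IsOpenImmersion j] [CompactSpace Y] (G : Y.Modules) [G.IsQuasicoherent]
    (hG : SheafOfModules.IsFiniteType (R := Y.ringCatSheaf) G) :
    ∃ G' : X.Modules, G'.IsQuasicoherent ∧
      SheafOfModules.IsFiniteType (R := X.ringCatSheaf) G' ∧ Nonempty (G'.restrict j ≅ G) := by
  haveI : QuasiCompact j := inferInstance
  let P : X.Modules := (Scheme.Modules.pushforward j).obj G
  haveI : P.IsQuasicoherent := QcohGlue.isQuasicoherent_pushforward j G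
  let c : P.restrict j ≅ G := (Scheme.Modules.restrictFunctorAdjCounitIso j).app G
  obtain ⟨F, i, e, -, hq, hft, -⟩ := exists_extension j P G hG c.inv
  exact ⟨F, hq, hft, ⟨e⟩⟩

end Groth.Agent.Helper4.SubExt
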