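import Mathlib
import Groth.Agent.Helper4.SubExt3

set_option autoImplicit false
universe u
open CategoryTheory CategoryTheory.Limits AlgebraicGeometry TopologicalSpace Opposite

namespace Groth.Agent.Helper4.SubInf
open Groth.Agent.Helper4.StalkDict Groth.Agent.Helper4 Groth.Agent.Helper4.StalkExact
open Groth.Agent.Helper4.SubSec Groth.Agent.Helper4.SubExt

variable {X : Scheme.{u}}

/-- membership of a section in a "subobject" -/
def In {A H : X.Modules} (a : A ⟶ H) (T : X.Opens) (s : Γ(H, T)) : Prop :=
  ∃ k : Γ(A, T), a.app T k = s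

theorem In.res {A H : X.Modules} {a : A ⟶ H} {T T' : X.Opens} {s : Γ(H, T)} (h : In a T s)
    (hle : T' ≤ T) : In a T' (H.presheaf.map (homOfLE hle).op s) := by
  obtain ⟨k, rfl⟩ := h
  exact ⟨A.presheaf.map (homOfLE hle).op k, app_res a (homOfLE hle) k⟩

noncomputable instance (T : X.Opens) : PreservesLimitsOfSize.{u, u} (secFunctor X T) :=
  haveI : PreservesLimitsOfSize.{u, u} (Scheme.Modules.toPresheaf X) := inferInstance
  haveI : PreservesLimitsOfSize.{u, u} ((evaluation (Opens ↥X)ᵒᵖ Ab.{u}).obj (op T)) :=
    inferInstance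
  comp_preservesLimits (Scheme.Modules.toPresheaf X) ((evaluation (Opens ↥X)ᵒᵖ Ab.{u}).obj (op T))

/-- sections of a product are determined by their components -/
theorem pi_app_eq_zero {I : Type u} (Q : I → X.Modules) (T : X.Opens) (x : Γ(∏ᶜ Q, T))
    (h : ∀ i, (Pi.π Q i).app T x = 0) : x = 0 := by
  have hlim := isLimitOfPreserves (secFunctor X T) (limit.isLimit (Discrete.functor Q))
  apply Concrete.isLimit_ext _ hlim
  rintro ⟨i⟩
  exact (h i).trans (map_zero _).symm

/-- an object over `H` (thought of as a subobject when the map is mono) -/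
abbrev Sub (H : X.Modules) := Σ A : X.Modules, (A ⟶ H)

variable {H : X.Modules}

noncomputable def interMap {I : Type u} (a : I → Sub H) :
    H ⟶ ∏ᶜ (fun i => cokernel (a i).2) :=
  Pi.lift (fun i => cokernel.π (a i).2)

/-- the intersection of a family of subobjects -/
noncomputable def inter {I : Type u} (a : I → Sub H) : X.Modules := kernel (interMap a)

noncomputable def interι {I : Type u} (a : I → Sub H) : inter a ⟶ H := kernel.ι _

instance {I : Type u} (a : I → Sub H) : Mono (interι a) := inferInstanceAs (Mono (kernel.ι _))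

theorem in_inter_iff {I : Type u} (a : I → Sub H) (ha : ∀ i, Mono (a i).2) (T : X.Opens)
    (s : Γ(H, T)) : In (interι a) T s ↔ ∀ i, In (a i).2 T s := by
  unfold In interι inter
  rw [exists_kernel_section_iff]
  have hcomp : ∀ i, (Pi.π (fun i => cokernel (a i).2) i).app T ((interMap a).app T s) =
      (cokernel.π (a i).2).app T s := by
    intro i
    change ((interMap a ≫ Pi.π (fun i => cokernel (a i).2) i).app T) s = _
    unfold interMap
    rw [Pi.lift_π]
  constructor
  · intro h i
    haveI := ha i
    rw [← cokernel_π_app_eq_zero_iff, ← hcomp, h, map_zero]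
  · intro h
    apply pi_app_eq_zero
    intro i
    haveI := ha i
    rw [hcomp, cokernel_π_app_eq_zero_iff]
    exact h i

end Groth.Agent.Helper4.SubInf
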