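import Mathlib
import Groth.Agent.Helper4.SubInf

set_option autoImplicit false
universe u
open CategoryTheory CategoryTheory.Limits AlgebraicGeometry TopologicalSpace Opposite

namespace Groth.Agent.Helper4.SubSum
open Groth.Agent.Helper4.StalkDict Groth.Agent.Helper4 Groth.Agent.Helper4.StalkExact
open Groth.Agent.Helper4.SubSec Groth.Agent.Helper4.SubExt Groth.Agent.Helper4.SubInf

variable {X : Scheme.{u}} {F : X.Modules}

theorem biprod_total_app {E₁ E₂ : X.Modules} (T : X.Opens) (z : Γ(E₁ ⊞ E₂, T)) :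
    (biprod.inl : E₁ ⟶ E₁ ⊞ E₂).app T ((biprod.fst : E₁ ⊞ E₂ ⟶ E₁).app T z) +
      (biprod.inr : E₂ ⟶ E₁ ⊞ E₂).app T ((biprod.snd : E₁ ⊞ E₂ ⟶ E₂).app T z) = z := by
  have h := congrArg (fun φ => (Scheme.Modules.Hom.app φ T) z) (biprod.total (X := E₁) (Y := E₂))
  exact h

set_option backward.isDefEq.respectTransparency false in
/-- the sum of two quasi-coherent submodules of finite type -/
theorem exists_sum [F.IsQuasicoherent] {E₁ E₂ : X.Modules} (i₁ : E₁ ⟶ F) (i₂ : E₂ ⟶ F)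
    [E₁.IsQuasicoherent] [E₂.IsQuasicoherent]
    (h₁ : SheafOfModules.IsFiniteType (R := X.ringCatSheaf) E₁)
    (h₂ : SheafOfModules.IsFiniteType (R := X.ringCatSheaf) E₂) :
    ∃ (E : X.Modules) (i : E ⟶ F), Mono i ∧ E.IsQuasicoherent ∧
      SheafOfModules.IsFiniteType (R := X.ringCatSheaf) E ∧
      (∀ (T : X.Opens) (s : Γ(F, T)), In i₁ T s → In i T s) ∧
      (∀ (T : X.Opens) (s : Γ(F, T)), In i₂ T s → In i T s) := by
  haveI : (E₁ ⊞ E₂).IsQuasicoherent := QcohLimits.isQuasicoherent_biprod E₁ E₂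
  let d : E₁ ⊞ E₂ ⟶ F := biprod.desc i₁ i₂
  let E : X.Modules := Abelian.image d
  let p : E₁ ⊞ E₂ ⟶ E := Abelian.factorThruImage d
  let i : E ⟶ F := Abelian.image.ι d
  have hfac : p ≫ i = d := Abelian.image.fac d
  haveI : Epi p := inferInstanceAs (Epi (Abelian.factorThruImage d))
  haveI : Mono i := inferInstanceAs (Mono (Abelian.image.ι d))
  haveI hEq : E.IsQuasicoherent := QcohLimits.isQuasicoherent_image d
  refine ⟨E, i, inferInstance, hEq, ?_, ?_, ?_⟩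
  · apply FTGlue.isFiniteType_of_finite_sections
    intro x
    obtain ⟨U, hU, hxU⟩ := QcohLimits.exists_affine_nhd x
    refine ⟨U, hU, hxU, ?_⟩
    haveI := SecDict.finite_sections hU E₁ inferInstance h₁
    haveI := SecDict.finite_sections hU E₂ inferInstance h₂
    let L : (Γ(E₁, U) × Γ(E₂, U)) →ₗ[Γ(X, U)] Γ(E, U) :=
      (QcohEpi.appLin (biprod.inl ≫ p) U).comp (LinearMap.fst _ _ _) +
        (QcohEpi.appLin (biprod.inr ≫ p) U).comp (LinearMap.snd _ _ _)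
    apply Module.Finite.of_surjective L
    intro e
    obtain ⟨z, rfl⟩ := QcohEpi.app_surjective_of_epi p hU e
    refine ⟨((biprod.fst : E₁ ⊞ E₂ ⟶ E₁).app U z, (biprod.snd : E₁ ⊞ E₂ ⟶ E₂).app U z), ?_⟩
    change p.app U ((biprod.inl : E₁ ⟶ E₁ ⊞ E₂).app U
        ((biprod.fst : E₁ ⊞ E₂ ⟶ E₁).app U z)) +
      p.app U ((biprod.inr : E₂ ⟶ E₁ ⊞ E₂).app U ((biprod.snd : E₁ ⊞ E₂ ⟶ E₂).app U z)) = _
    rw [← map_add, biprod_total_app]
  · rintro T s ⟨a, rfl⟩
    refine ⟨p.app T ((biprod.inl : E₁ ⟶ E₁ ⊞ E₂).app T a), ?_⟩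
    change (biprod.inl ≫ p ≫ i).app T a = _
    rw [hfac, biprod.inl_desc]
  · rintro T s ⟨a, rfl⟩
    refine ⟨p.app T ((biprod.inr : E₂ ⟶ E₁ ⊞ E₂).app T a), ?_⟩
    change (biprod.inr ≫ p ≫ i).app T a = _
    rw [hfac, biprod.inr_desc]

/-- the zero submodule -/
theorem exists_zero_sub (F : X.Modules) [F.IsQuasicoherent] :
    ∃ (E : X.Modules) (i : E ⟶ F), Mono i ∧ E.IsQuasicoherent ∧
      SheafOfModules.IsFiniteType (R := X.ringCatSheaf) E := by
  haveI hq : (kernel (𝟙 F)).IsQuasicoherent := QcohLimits.isQuasicoherent_kernel (𝟙 F)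
  refine ⟨kernel (𝟙 F), kernel.ι (𝟙 F), inferInstance, hq, ?_⟩
  apply FTGlue.isFiniteType_of_finite_sections
  intro x
  obtain ⟨U, hU, hxU⟩ := QcohLimits.exists_affine_nhd x
  refine ⟨U, hU, hxU, ?_⟩
  haveI : Subsingleton Γ(kernel (𝟙 F), U) := by
    constructor
    intro a b
    apply AffineDict.app_injective_of_mono (kernel.ι (𝟙 F)) U
    have h : ∀ c : Γ(kernel (𝟙 F), U), (kernel.ι (𝟙 F)).app U c = 0 := by
      intro c
      have := (exists_kernel_section_iff (𝟙 F) U ((kernel.ι (𝟙 F)).app U c)).mp ⟨c, rfl⟩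
      exact this
    rw [h a, h b]
  infer_instance

/-- finitely many sections over quasi-compact opens lie in a quasi-coherent submodule of finite
type -/
theorem exists_submodule_through_sections [CompactSpace X] [QuasiSeparatedSpace X]
    (F : X.Modules) [F.IsQuasicoherent] {ι : Type*} (U : ι → X.Opens)
    (hU : ∀ a, IsCompact ((U a : X.Opens) : Set X)) (s : ∀ a, F.val.obj (op (U a)))
    (t : Finset ι) :
    ∃ (E : X.Modules) (i : E ⟶ F), Mono i ∧ E.IsQuasicoherent ∧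
      SheafOfModules.IsFiniteType (R := X.ringCatSheaf) E ∧
      ∀ a ∈ t, ∃ g : E.val.obj (op (U a)), (i.val.app (op (U a))).hom g = s a := by
  classical
  induction t using Finset.induction_on with
  | empty =>
    obtain ⟨E, i, h1, h2, h3⟩ := exists_zero_sub F
    exact ⟨E, i, h1, h2, h3, by simp⟩
  | insert a t ha ih =>
    obtain ⟨E₁, i₁, hm₁, hq₁, hft₁, hs₁⟩ := ih
    obtain ⟨E₂, i₂, hm₂, hq₂, hft₂, g₂, hg₂⟩ :=
      exists_submodule_through_section F (U a) (hU a) (s a)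
    haveI := hq₁
    haveI := hq₂
    obtain ⟨E, i, hm, hq, hft, hin₁, hin₂⟩ := exists_sum i₁ i₂ hft₁ hft₂
    refine ⟨E, i, hm, hq, hft, ?_⟩
    intro b hb
    rcases Finset.mem_insert.mp hb with rfl | hb
    · obtain ⟨k, hk⟩ := hin₂ (U b) (s b) ⟨g₂, hg₂⟩
      exact ⟨k, hk⟩
    · obtain ⟨g, hg⟩ := hs₁ b hb
      obtain ⟨k, hk⟩ := hin₁ (U b) (s b) ⟨g, hg⟩
      exact ⟨k, hk⟩

end Groth.Agent.Helper4.SubSum
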