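import Mathlib
import Groth.Agent.Helper4.QcohLocal

set_option autoImplicit false
universe v v' u u'
open CategoryTheory CategoryTheory.Limits

namespace Groth.Agent.Helper4.EpiStalk

theorem epi_map_of_conj {D E : Type*} [Category D] [Category E] (Φ : D ⥤ E) {A B A' B' : D}
    (a : A' ⟶ A) (b : B' ⟶ B) [IsIso a] [IsIso b] (p : A ⟶ B) (p' : A' ⟶ B')
    (h : p' ≫ b = a ≫ p) (hp' : Epi (Φ.map p')) : Epi (Φ.map p) := by
  have h3 : Φ.map p' ≫ Φ.map b = Φ.map a ≫ Φ.map p := by
    rw [← Φ.map_comp, ← Φ.map_comp, h]
  haveI : Epi (Φ.map a ≫ Φ.map p) := by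
    rw [← h3]
    exact epi_comp _ _
  exact epi_of_epi (Φ.map a) (Φ.map p)

variable {C : Type u'} [Category.{v'} C] {J : GrothendieckTopology C}
  (R : Sheaf J RingCat.{u}) [HasSheafify J AddCommGrpCat.{v}]
  [J.WEqualsLocallyBijective AddCommGrpCat.{v}]

theorem epi_sheafification_map_forget {F G : SheafOfModules.{v} R} (p : F ⟶ G) [Epi p] :
    Epi ((PresheafOfModules.sheafification.{v} (𝟙 R.obj)).map ((SheafOfModules.forget R).map p)) := by
  let adj := PresheafOfModules.sheafificationAdjunction.{v} (𝟙 R.obj)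
  have hnat := adj.counit.naturality p
  haveI : IsIso (adj.counit.app F) := inferInstance
  haveI : IsIso (adj.counit.app G) := inferInstance
  have h1 := (IsIso.eq_comp_inv (adj.counit.app G)).mpr hnat
  have h2 : Epi ((adj.counit.app F ≫ (𝟭 _).map p) ≫ inv (adj.counit.app G)) := by
    haveI : Epi ((𝟭 (SheafOfModules.{v} R)).map p) := ‹Epi p›
    haveI : Epi (adj.counit.app F ≫ (𝟭 _).map p) := epi_comp _ _
    exact epi_comp _ _
  rw [← h1] at h2
  exact h2

/-- sheafification of an epimorphism of presheaves of modules gives an epimorphism of abelian sheaves -/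
theorem epi_toSheaf_sheafification_map {P Q : PresheafOfModules.{v} R.obj} (e : P ⟶ Q) [Epi e] :
    Epi ((SheafOfModules.toSheaf.{v} R).map
      ((PresheafOfModules.sheafification.{v} (𝟙 R.obj)).map e)) := by
  have hTe : Epi ((PresheafOfModules.toPresheaf R.obj).map e) := by
    haveI : ∀ W, Epi (((PresheafOfModules.toPresheaf R.obj).map e).app W) := by
      intro W
      rw [AddCommGrpCat.epi_iff_surjective]
      exact PresheafOfModules.surjective_of_epi e W
    exact NatTrans.epi_of_epi_app _
  change Epi ((presheafToSheaf J AddCommGrpCat.{v}).map ((PresheafOfModules.toPresheaf R.obj).map e))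
  infer_instance

/-- the forgetful functor from sheaves of modules to abelian sheaves preserves epimorphisms -/
theorem epi_toSheaf_map {F G : SheafOfModules.{v} R} (p : F ⟶ G) [Epi p] :
    Epi ((SheafOfModules.toSheaf.{v} R).map p) := by
  let L := PresheafOfModules.sheafification.{v} (𝟙 R.obj)
  let adj := PresheafOfModules.sheafificationAdjunction.{v} (𝟙 R.obj)
  let Φ := SheafOfModules.toSheaf.{v} R
  let q : (SheafOfModules.forget R).obj F ⟶ (SheafOfModules.forget R).obj G :=
    (SheafOfModules.forget R).map p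
  let e := Abelian.factorThruImage q
  let m := Abelian.image.ι q
  have hfac : e ≫ m = q := Abelian.image.fac q
  have hLq : Epi (L.map q) := epi_sheafification_map_forget R p
  have hLq' : L.map q = L.map e ≫ L.map m := by rw [← L.map_comp, hfac]
  haveI : Mono (L.map m) := inferInstance
  haveI : Epi (L.map m) := by
    rw [hLq'] at hLq
    exact epi_of_epi (L.map e) (L.map m)
  haveI : IsIso (L.map m) := isIso_of_mono_of_epi _
  haveI hΦLe : Epi (Φ.map (L.map e)) := epi_toSheaf_sheafification_map R e
  have hΦLq : Epi (Φ.map (L.map q)) := by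
    rw [hLq', Φ.map_comp]
    exact epi_comp _ _
  haveI : IsIso (adj.counit.app F) := inferInstance
  haveI : IsIso (adj.counit.app G) := inferInstance
  exact epi_map_of_conj Φ (adj.counit.app F) (adj.counit.app G) p (L.map q)
    (adj.counit.naturality p) hΦLq

section Scheme
open AlgebraicGeometry TopologicalSpace Opposite Groth.Agent.Helper4.StalkDict
universe w

variable {X : Scheme.{w}}

/-- epimorphisms of `O_X`-modules are locally surjective -/
theorem isLocallySurjective_of_epi {F G : X.Modules} (p : F ⟶ G) [Epi p] :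
    TopCat.Presheaf.IsLocallySurjective
      ((SheafOfModules.toSheaf X.ringCatSheaf).map p).hom := by
  have hp : @Epi (SheafOfModules.{w} X.ringCatSheaf) _ F G p := ‹Epi p›
  have h := @epi_toSheaf_map _ _ _ X.ringCatSheaf _ _ F G p hp
  exact (TopCat.Sheaf.isLocallySurjective_iff_epi
    ((SheafOfModules.toSheaf X.ringCatSheaf).map p)).mpr h

/-- epimorphisms of `O_X`-modules are surjective on stalks -/
theorem stalkLin_surjective_of_epi {F G : X.Modules} (p : F ⟶ G) [Epi p] (x : X) :
    Function.Surjective (stalkLin p x) :=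
  (TopCat.Presheaf.locally_surjective_iff_surjective_on_stalks _).mp
    (isLocallySurjective_of_epi p) x

theorem epi_iff_stalkLin_surjective {F G : X.Modules} (p : F ⟶ G) :
    Epi p ↔ ∀ x : X, Function.Surjective (stalkLin p x) :=
  ⟨fun _ x => stalkLin_surjective_of_epi p x, QcohLocal.epi_of_stalkLin_surjective p⟩

/-- local lifting of sections along an epimorphism -/
theorem exists_local_lift_of_epi {F G : X.Modules} (p : F ⟶ G) [Epi p] (U : X.Opens)
    (t : Γ(G, U)) (x : X) (hx : x ∈ U) :
    ∃ (W : X.Opens) (hWU : W ≤ U) (_ : x ∈ W) (s : Γ(F, W)),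
      p.app W s = G.presheaf.map (homOfLE hWU).op t := by
  obtain ⟨W, hWU, ⟨s, hs⟩, hxW⟩ :=
    (TopCat.Presheaf.isLocallySurjective_iff _).mp (isLocallySurjective_of_epi p) U t x hx
  exact ⟨W, hWU, hxW, s, hs⟩

end Scheme

end Groth.Agent.Helper4.EpiStalk
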