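import Mathlib
import Groth.Agent.Helper4.QcqsMod
import Groth.Agent.Helper4.StalkExact
import Groth.Agent.Helper4.EpiStalk
import Groth.Agent.Helper4.QcohGlue

set_option autoImplicit false
universe u
open CategoryTheory CategoryTheory.Limits AlgebraicGeometry TopologicalSpace Opposite

namespace Groth.Agent.Helper4.QcohExt
open Groth.Agent.Helper4.StalkDict Groth.Agent.Helper4.QcqsMod Groth.Agent.Helper4.StalkExact

variable {X : Scheme.{u}}

theorem germ_app {F G : X.Modules} (φ : F ⟶ G) (x : X) (V : X.Opens) (hx : x ∈ V) (m : Γ(F, V)) :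
    G.presheaf.germ V x hx (φ.app V m) = stalkLin φ x (F.presheaf.germ V x hx m) :=
  (stalkLin_germ φ x V hx m).symm

theorem app_pow_smul {F G : X.Modules} (φ : F ⟶ G) {V : X.Opens} (r : Γ(X, V)) (n : ℕ)
    (m : Γ(F, V)) : φ.app V (r ^ n • m) = r ^ n • φ.app V m :=
  Scheme.Modules.Hom.app_smul φ (r ^ n) m

theorem res_pow_smul (F : X.Modules) {V W : X.Opens} (hWV : W ≤ V) (r : Γ(X, V)) (n : ℕ)
    (m : Γ(F, V)) :
    F.presheaf.map (homOfLE hWV).op (r ^ n • m) =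
      (X.presheaf.map (homOfLE hWV).op r) ^ n • F.presheaf.map (homOfLE hWV).op m := by
  apply section_ext
  intro x hx
  rw [germ_res, germ_smul, germ_smul, germ_res, map_pow, map_pow, germ_resO]

theorem res_res (F : X.Modules) {V W W' : X.Opens} (h1 : W ≤ V) (h2 : W' ≤ W) (m : Γ(F, V)) :
    F.presheaf.map (homOfLE h2).op (F.presheaf.map (homOfLE h1).op m) =
      F.presheaf.map (homOfLE (h2.trans h1)).op m := by
  rw [← ConcreteCategory.comp_apply, ← Functor.map_comp]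
  rfl

section
variable (S : ShortComplex X.Modules) (hS : S.ShortExact)

include hS in
theorem app_g_app_f {V : X.Opens} (b : Γ(S.X₁, V)) : S.g.app V (S.f.app V b) = 0 := by
  haveI := hS.mono_f
  exact (app_exact S hS.exact V (S.f.app V b)).mpr ⟨b, rfl⟩

include hS in
theorem exists_of_app_g_eq_zero {V : X.Opens} (d : Γ(S.X₂, V)) (hd : S.g.app V d = 0) :
    ∃ a : Γ(S.X₁, V), S.f.app V a = d := by
  haveI := hS.mono_f
  exact (app_exact S hS.exact V d).mp hd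

include hS in
theorem step2a [S.X₁.IsQuasicoherent] {U : X.Opens} (h : Γ(S.X₃, U)) (f : Γ(X, U))
    (s : Γ(S.X₂, X.basicOpen f))
    (hs : S.g.app (X.basicOpen f) s = S.X₃.presheaf.map (homOfLE (X.basicOpen_le f)).op h)
    {V : X.Opens} (hV : IsAffineOpen V) (hVU : V ≤ U) (sV : Γ(S.X₂, V))
    (hsV : S.g.app V sV = S.X₃.presheaf.map (homOfLE hVU).op h) :
    ∃ (n : ℕ) (t : Γ(S.X₂, V)),
      S.g.app V t = (X.presheaf.map (homOfLE hVU).op f) ^ n •
        S.X₃.presheaf.map (homOfLE hVU).op h ∧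
      ∀ x (hxV : x ∈ V) (hxf : x ∈ X.basicOpen f),
        S.X₂.presheaf.germ V x hxV t =
          (X.presheaf.germ U x (hVU hxV) f) ^ n • S.X₂.presheaf.germ (X.basicOpen f) x hxf s := by
  haveI := hS.mono_f
  set fV : Γ(X, V) := X.presheaf.map (homOfLE hVU).op f with hfV
  have hbo : X.basicOpen fV = V ⊓ X.basicOpen f := by rw [hfV, Scheme.basicOpen_res]
  have hWV : X.basicOpen fV ≤ V := X.basicOpen_le fV
  have hWf : X.basicOpen fV ≤ X.basicOpen f := by rw [hbo]; exact inf_le_right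
  let d : Γ(S.X₂, X.basicOpen fV) :=
    S.X₂.presheaf.map (homOfLE hWV).op sV - S.X₂.presheaf.map (homOfLE hWf).op s
  have hd0 : S.g.app (X.basicOpen fV) d = 0 := by
    change S.g.app (X.basicOpen fV)
      (S.X₂.presheaf.map (homOfLE hWV).op sV - S.X₂.presheaf.map (homOfLE hWf).op s) = 0
    rw [map_sub, app_res, app_res, hsV, hs, res_res, res_res, sub_self]
  obtain ⟨a, ha⟩ := exists_of_app_g_eq_zero S hS d hd0
  obtain ⟨n, b, hnb⟩ := exists_pow_smul_eq_res hV S.X₁ fV a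
  refine ⟨n, fV ^ n • sV - S.f.app V b, ?_, ?_⟩
  · rw [map_sub, app_pow_smul, hsV, app_g_app_f S hS, sub_zero]
  · intro x hxV hxf
    have hxW : x ∈ X.basicOpen fV := by rw [hbo]; exact ⟨hxV, hxf⟩
    have hgf : X.presheaf.germ V x hxV fV = X.presheaf.germ U x (hVU hxV) f :=
      germ_resO hVU x hxV f
    rw [map_sub, germ_smul, map_pow, hgf, germ_app]
    have h1 : S.X₁.presheaf.germ V x hxV b =
        (X.presheaf.germ U x (hVU hxV) f) ^ n • S.X₁.presheaf.germ (X.basicOpen fV) x hxW a := by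
      have := congrArg (S.X₁.presheaf.germ (X.basicOpen fV) x hxW) hnb
      rw [germ_smul, germ_res, germ_resO, map_pow, hgf] at this
      exact this.symm
    have h2 : stalkLin S.f x (S.X₁.presheaf.germ (X.basicOpen fV) x hxW a) =
        S.X₂.presheaf.germ V x hxV sV - S.X₂.presheaf.germ (X.basicOpen f) x hxf s := by
      rw [← germ_app, ha]
      change S.X₂.presheaf.germ (X.basicOpen fV) x hxW
        (S.X₂.presheaf.map (homOfLE hWV).op sV - S.X₂.presheaf.map (homOfLE hWf).op s) = _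
      rw [map_sub, germ_res, germ_res]
    rw [h1, map_smul, h2, smul_sub]
    abel

end


section
variable (S : ShortComplex X.Modules) (hS : S.ShortExact)

include hS in
theorem step2b [S.X₁.IsQuasicoherent] {U : X.Opens} (f : Γ(X, U))
    (s : Γ(S.X₂, X.basicOpen f)) (N : ℕ) {V₁ V₂ : X.Opens} (hV₁U : V₁ ≤ U) (hV₂U : V₂ ≤ U)
    (hc : IsCompact ((V₁ ⊓ V₂ : X.Opens) : Set X)) (t₁ : Γ(S.X₂, V₁)) (t₂ : Γ(S.X₂, V₂))
    (hπ : S.g.app (V₁ ⊓ V₂) (S.X₂.presheaf.map (homOfLE (inf_le_left : V₁ ⊓ V₂ ≤ V₁)).op t₁) =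
      S.g.app (V₁ ⊓ V₂) (S.X₂.presheaf.map (homOfLE (inf_le_right : V₁ ⊓ V₂ ≤ V₂)).op t₂))
    (hg₁ : ∀ x (hxV : x ∈ V₁) (hxf : x ∈ X.basicOpen f),
      S.X₂.presheaf.germ V₁ x hxV t₁ =
        (X.presheaf.germ U x (hV₁U hxV) f) ^ N • S.X₂.presheaf.germ (X.basicOpen f) x hxf s)
    (hg₂ : ∀ x (hxV : x ∈ V₂) (hxf : x ∈ X.basicOpen f),
      S.X₂.presheaf.germ V₂ x hxV t₂ =
        (X.presheaf.germ U x (hV₂U hxV) f) ^ N • S.X₂.presheaf.germ (X.basicOpen f) x hxf s) :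
    ∃ k : ℕ, ∀ x (hx₁ : x ∈ V₁) (hx₂ : x ∈ V₂),
      (X.presheaf.germ U x (hV₁U hx₁) f) ^ k •
        (S.X₂.presheaf.germ V₁ x hx₁ t₁ - S.X₂.presheaf.germ V₂ x hx₂ t₂) = 0 := by
  haveI := hS.mono_f
  have hWU : V₁ ⊓ V₂ ≤ U := inf_le_left.trans hV₁U
  let e : Γ(S.X₂, V₁ ⊓ V₂) :=
    S.X₂.presheaf.map (homOfLE (inf_le_left : V₁ ⊓ V₂ ≤ V₁)).op t₁ -
      S.X₂.presheaf.map (homOfLE (inf_le_right : V₁ ⊓ V₂ ≤ V₂)).op t₂
  have he0 : S.g.app (V₁ ⊓ V₂) e = 0 := by
    change S.g.app (V₁ ⊓ V₂) (_ - _) = 0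
    rw [map_sub, hπ, sub_self]
  obtain ⟨c, hc'⟩ := exists_of_app_g_eq_zero S hS e he0
  let fW : Γ(X, V₁ ⊓ V₂) := X.presheaf.map (homOfLE hWU).op f
  have hbo : X.basicOpen fW = (V₁ ⊓ V₂) ⊓ X.basicOpen f := by
    change X.basicOpen (X.presheaf.map (homOfLE hWU).op f) = _
    rw [Scheme.basicOpen_res]
  have hc0 : S.X₁.presheaf.map (homOfLE (X.basicOpen_le fW)).op c = 0 := by
    apply AffineDict.app_injective_of_mono S.f
    rw [app_res, hc', map_zero]
    apply section_ext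
    intro x hx
    have hx' : x ∈ (V₁ ⊓ V₂) ⊓ X.basicOpen f := hbo ▸ hx
    rw [germ_res, map_zero]
    change S.X₂.presheaf.germ (V₁ ⊓ V₂) x _ (_ - _) = 0
    rw [map_sub, germ_res, germ_res, hg₁ x hx'.1.1 hx'.2, hg₂ x hx'.1.2 hx'.2, sub_self]
  obtain ⟨k, hk⟩ := exists_pow_smul_eq_zero_of_isCompact S.X₁ hc fW c hc0
  refine ⟨k, fun x hx₁ hx₂ => ?_⟩
  have hxW : x ∈ V₁ ⊓ V₂ := Opens.mem_inf.mpr ⟨hx₁, hx₂⟩
  have h1 : fW ^ k • e = 0 := by
    rw [← hc', ← app_pow_smul, hk, map_zero]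
  have h2 := congrArg (S.X₂.presheaf.germ (V₁ ⊓ V₂) x hxW) h1
  rw [germ_smul, map_pow, map_zero] at h2
  have hgf : X.presheaf.germ (V₁ ⊓ V₂) x hxW fW = X.presheaf.germ U x (hV₁U hx₁) f :=
    germ_resO hWU x hxW f
  rw [hgf] at h2
  have h3 : S.X₂.presheaf.germ (V₁ ⊓ V₂) x hxW e =
      S.X₂.presheaf.germ V₁ x hx₁ t₁ - S.X₂.presheaf.germ V₂ x hx₂ t₂ := by
    change S.X₂.presheaf.germ (V₁ ⊓ V₂) x hxW (_ - _) = _
    rw [map_sub, germ_res, germ_res]
  rw [h3] at h2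
  exact h2

end


theorem resO_resO {V W W' : X.Opens} (h1 : W ≤ V) (h2 : W' ≤ W) (m : Γ(X, V)) :
    X.presheaf.map (homOfLE h2).op (X.presheaf.map (homOfLE h1).op m) =
      X.presheaf.map (homOfLE (h2.trans h1)).op m := by
  rw [← ConcreteCategory.comp_apply, ← Functor.map_comp]
  rfl

section
variable (S : ShortComplex X.Modules) (hS : S.ShortExact)

include hS in
theorem lemmaB [S.X₁.IsQuasicoherent] {U : X.Opens} (hUqs : IsQuasiSeparated (U : Set X))
    (h : Γ(S.X₃, U)) (f : Γ(X, U)) (s : Γ(S.X₂, X.basicOpen f))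
    (hs : S.g.app (X.basicOpen f) s = S.X₃.presheaf.map (homOfLE (X.basicOpen_le f)).op h)
    {I : Type u} [Fintype I] (V : I → X.Opens) (hV : ∀ i, IsAffineOpen (V i))
    (hVU : ∀ i, V i ≤ U) (hcov : U ≤ ⨆ i, V i) (sV : ∀ i, Γ(S.X₂, V i))
    (hsV : ∀ i, S.g.app (V i) (sV i) = S.X₃.presheaf.map (homOfLE (hVU i)).op h) :
    ∃ (N : ℕ) (g : Γ(S.X₂, U)), S.g.app U g = f ^ N • h := by
  choose n t ht1 ht2 using fun i => step2a S hS h f s hs (hV i) (hVU i) (sV i) (hsV i)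
  obtain ⟨N, hN⟩ : ∃ N, N = Finset.univ.sup n := ⟨_, rfl⟩
  obtain ⟨t', ht'def⟩ : ∃ t' : ∀ i, Γ(S.X₂, V i), t' = fun i =>
    (X.presheaf.map (homOfLE (hVU i)).op f) ^ (N - n i) • t i := ⟨_, rfl⟩
  have hle : ∀ i, n i ≤ N := fun i => hN ▸ Finset.le_sup (Finset.mem_univ _)
  have ht1' : ∀ i, S.g.app (V i) (t' i) = (X.presheaf.map (homOfLE (hVU i)).op f) ^ N •
      S.X₃.presheaf.map (homOfLE (hVU i)).op h := by
    intro i
    rw [ht'def, app_pow_smul, ht1, ← mul_smul, ← pow_add, Nat.sub_add_cancel (hle i)]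
  have ht2' : ∀ i x (hxV : x ∈ V i) (hxf : x ∈ X.basicOpen f),
      S.X₂.presheaf.germ (V i) x hxV (t' i) =
        (X.presheaf.germ U x (hVU i hxV) f) ^ N •
          S.X₂.presheaf.germ (X.basicOpen f) x hxf s := by
    intro i x hxV hxf
    rw [ht'def, germ_pow_smul_res, ht2 i x hxV hxf, ← mul_smul, ← pow_add,
      Nat.sub_add_cancel (hle i)]
  have hc : ∀ p : I × I, IsCompact ((V p.1 ⊓ V p.2 : X.Opens) : Set X) := fun p =>
    hUqs _ _ (hVU p.1) (V p.1).isOpen (hV p.1).isCompact (hVU p.2) (V p.2).isOpen (hV p.2).isCompact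
  have hπ : ∀ p : I × I, S.g.app (V p.1 ⊓ V p.2)
      (S.X₂.presheaf.map (homOfLE (inf_le_left : V p.1 ⊓ V p.2 ≤ V p.1)).op (t' p.1)) =
      S.g.app (V p.1 ⊓ V p.2)
        (S.X₂.presheaf.map (homOfLE (inf_le_right : V p.1 ⊓ V p.2 ≤ V p.2)).op (t' p.2)) := by
    intro p
    rw [app_res, app_res, ht1', ht1', res_pow_smul, res_pow_smul, res_res, res_res, resO_resO,
      resO_resO]
  choose k hk using fun p : I × I => step2b S hS f s N (hVU p.1) (hVU p.2) (hc p) (t' p.1)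
    (t' p.2) (hπ p) (ht2' p.1) (ht2' p.2)
  obtain ⟨K, hK⟩ : ∃ K, K = Finset.univ.sup k := ⟨_, rfl⟩
  obtain ⟨t'', ht''def⟩ : ∃ t'' : ∀ i, Γ(S.X₂, V i), t'' = fun i =>
    (X.presheaf.map (homOfLE (hVU i)).op f) ^ K • t' i := ⟨_, rfl⟩
  have ht'' : ∀ i x (hxV : x ∈ V i), S.X₂.presheaf.germ (V i) x hxV (t'' i) =
      (X.presheaf.germ U x (hVU i hxV) f) ^ K • S.X₂.presheaf.germ (V i) x hxV (t' i) := by
    intro i x hxV
    rw [ht''def, germ_pow_smul_res]
  have hcompat : TopCat.Presheaf.IsCompatible S.X₂.presheaf V t'' := by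
    intro i j
    apply section_ext
    intro x hx
    have hxi : x ∈ V i := hx.1
    have hxj : x ∈ V j := hx.2
    have e1 := germ_res S.X₂ (inf_le_left : V i ⊓ V j ≤ V i) x hx (t'' i)
    have e2 := germ_res S.X₂ (inf_le_right : V i ⊓ V j ≤ V j) x hx (t'' j)
    refine e1.trans (Eq.trans ?_ e2.symm)
    rw [ht'' i x hxi, ht'' j x hxj, ← sub_eq_zero, ← smul_sub]
    have hle' : k (i, j) ≤ K := hK ▸ Finset.le_sup (Finset.mem_univ _)
    rw [← Nat.sub_add_cancel hle', pow_add, mul_smul, hk (i, j) x hxi hxj, smul_zero]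
  obtain ⟨g, hg, -⟩ := TopCat.Sheaf.existsUnique_gluing'
    (⟨S.X₂.presheaf, S.X₂.isSheaf⟩ : TopCat.Sheaf Ab X) V U (fun i => homOfLE (hVU i)) hcov t''
    hcompat
  refine ⟨N + K, g, ?_⟩
  apply section_ext
  intro x hxU
  have hx' := hcov hxU
  simp only [Opens.mem_iSup] at hx'
  obtain ⟨i, hxi⟩ := hx'
  have h1 : S.X₃.presheaf.germ U x hxU (S.g.app U g) =
      S.X₃.presheaf.germ (V i) x hxi (S.g.app (V i) (t'' i)) := by
    rw [← hg i]
    change _ = S.X₃.presheaf.germ (V i) x hxi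
      (S.g.app (V i) (S.X₂.presheaf.map (homOfLE (hVU i)).op g))
    rw [app_res, germ_res]
  rw [h1, ht''def, app_pow_smul, ht1', germ_smul, germ_smul, germ_smul, germ_res, map_pow,
    map_pow, map_pow, germ_resO, ← mul_smul, ← pow_add, add_comm]

end


theorem exists_point_of_prime' {U : X.Opens} (hU : IsAffineOpen U) (P : PrimeSpectrum Γ(X, U)) :
    ∃ (y : X) (hy : y ∈ U), hU.primeIdealOf ⟨y, hy⟩ = P := by
  have hy : hU.fromSpec P ∈ U := by
    have : hU.fromSpec P ∈ Set.range hU.fromSpec := ⟨P, rfl⟩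
    rw [hU.range_fromSpec] at this
    exact this
  refine ⟨hU.fromSpec P, hy, ?_⟩
  apply hU.fromSpec.isOpenEmbedding.injective
  exact hU.fromSpec_primeIdealOf ⟨_, hy⟩

section
variable (S : ShortComplex X.Modules) (hS : S.ShortExact)

include hS in
/-- **`H¹` vanishing by hand**: for a short exact sequence with quasi-coherent kernel, sections over
an affine open lift. -/
theorem app_surjective_of_shortExact [S.X₁.IsQuasicoherent] {U : X.Opens} (hU : IsAffineOpen U) :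
    Function.Surjective (S.g.app U) := by
  intro h
  haveI : Epi S.g := hS.epi_g
  -- Step 0: finite affine cover with lifts
  have key : ∀ x : U, ∃ (V : X.Opens), IsAffineOpen V ∧ x.1 ∈ V ∧ ∃ (hVU : V ≤ U)
      (sV : Γ(S.X₂, V)), S.g.app V sV = S.X₃.presheaf.map (homOfLE hVU).op h := by
    rintro ⟨x, hx⟩
    obtain ⟨W, hWU, hxW, s, hs⟩ := EpiStalk.exists_local_lift_of_epi S.g U h x hx
    obtain ⟨_, ⟨V, hV : IsAffineOpen V, rfl⟩, hxV, hVW⟩ :=
      X.isBasis_affineOpens.exists_subset_of_mem_open hxW W.isOpen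
    have hVW' : V ≤ W := hVW
    refine ⟨V, hV, hxV, hVW'.trans hWU, S.X₂.presheaf.map (homOfLE hVW').op s, ?_⟩
    rw [app_res, hs, res_res]
  choose V hV hxV hVU sV hsV using key
  obtain ⟨t, ht⟩ := hU.isCompact.elim_finite_subcover (fun x : U => ((V x : X.Opens) : Set X))
    (fun x => (V x).isOpen) (fun x hx => Set.mem_iUnion.mpr ⟨⟨x, hx⟩, hxV ⟨x, hx⟩⟩)
  have hcov : U ≤ ⨆ i : t, V i.1 := by
    intro x hx
    obtain ⟨i, hi⟩ := Set.mem_iUnion.mp (ht hx)
    obtain ⟨hit, hxi⟩ := Set.mem_iUnion.mp hi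
    exact Opens.mem_iSup.mpr ⟨⟨i, hit⟩, hxi⟩
  -- the ideal of multipliers
  let J : Ideal Γ(X, U) :=
    { carrier := {a | ∃ g : Γ(S.X₂, U), S.g.app U g = a • h}
      add_mem' := by
        rintro a b ⟨g₁, hg₁⟩ ⟨g₂, hg₂⟩
        exact ⟨g₁ + g₂, by rw [map_add, hg₁, hg₂, add_smul]⟩
      zero_mem' := ⟨0, by rw [map_zero, zero_smul]⟩
      smul_mem' := by
        rintro c a ⟨g, hg⟩
        refine ⟨c • g, ?_⟩
        rw [Scheme.Modules.Hom.app_smul, hg, smul_eq_mul, mul_smul] }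
  have hJ : J = ⊤ := by
    by_contra hne
    obtain ⟨m, hm, hJm⟩ := Ideal.exists_le_maximal J hne
    obtain ⟨x, hx, hxm⟩ := exists_point_of_prime' hU ⟨m, hm.isPrime⟩
    obtain ⟨i, hxi⟩ := Opens.mem_iSup.mp (hcov hx)
    obtain ⟨f, hfV, hxf⟩ := hU.exists_basicOpen_le (V := V i.1) ⟨x, hxi⟩ hx
    have hlift : S.g.app (X.basicOpen f) (S.X₂.presheaf.map (homOfLE hfV).op (sV i.1)) =
        S.X₃.presheaf.map (homOfLE (X.basicOpen_le f)).op h := by
      rw [app_res, hsV, res_res]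
    obtain ⟨N, g, hg⟩ := lemmaB S hS hU.isQuasiSeparated h f _ hlift (fun i : t => V i.1)
      (fun i => hV i.1) (fun i => hVU i.1) hcov (fun i => sV i.1) (fun i => hsV i.1)
    have hfN : f ^ N ∈ m := hJm ⟨g, hg⟩
    have hfm : f ∈ m := hm.isPrime.mem_of_pow_mem N hfN
    have := (mem_basicOpen_iff_notMem_primeIdealOf hU x hx f).mp hxf
    rw [hxm] at this
    exact this hfm
  have h1 : (1 : Γ(X, U)) ∈ J := by rw [hJ]; trivial
  obtain ⟨g, hg⟩ := h1
  exact ⟨g, by rw [hg, one_smul]⟩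

end


theorem res_smul (F : X.Modules) {V W : X.Opens} (hWV : W ≤ V) (r : Γ(X, V)) (m : Γ(F, V)) :
    F.presheaf.map (homOfLE hWV).op (r • m) =
      (X.presheaf.map (homOfLE hWV).op r) • F.presheaf.map (homOfLE hWV).op m := by
  apply section_ext
  intro x hx
  rw [germ_res, germ_smul, germ_smul, germ_res, germ_resO]

section
variable (S : ShortComplex X.Modules) (hS : S.ShortExact)

include hS in
theorem isLocalizingOn_of_shortExact [S.X₁.IsQuasicoherent] [S.X₃.IsQuasicoherent] {U : X.Opens}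
    (hU : IsAffineOpen U) : IsLocalizingOn S.X₂ U := by
  haveI := hS.mono_f
  have hF := isLocalizingOn_of_isAffineOpen S.X₁ hU
  have hH := isLocalizingOn_of_isAffineOpen S.X₃ hU
  constructor
  · intro f m hm
    have h0 : S.X₃.presheaf.map (homOfLE (X.basicOpen_le f)).op (S.g.app U m) = 0 := by
      rw [← app_res, hm, map_zero]
    obtain ⟨n, hn⟩ := hH.zero f (S.g.app U m) h0
    have h1 : S.g.app U (f ^ n • m) = 0 := by rw [app_pow_smul, hn]
    obtain ⟨a, ha⟩ := exists_of_app_g_eq_zero S hS _ h1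
    have ha0 : S.X₁.presheaf.map (homOfLE (X.basicOpen_le f)).op a = 0 := by
      apply AffineDict.app_injective_of_mono S.f
      rw [app_res, ha, map_zero, res_smul, hm, smul_zero]
    obtain ⟨k, hk⟩ := hF.zero f a ha0
    refine ⟨k + n, ?_⟩
    rw [pow_add, mul_smul, ← ha, ← app_pow_smul, hk, map_zero]
  · intro f t
    obtain ⟨n, h, hnh⟩ := hH.surj f (S.g.app (X.basicOpen f) t)
    obtain ⟨g, hg⟩ := app_surjective_of_shortExact S hS hU h
    let r : ℕ → Γ(X, X.basicOpen f) := fun j =>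
      X.presheaf.map (homOfLE (X.basicOpen_le f)).op (f ^ j)
    let d : Γ(S.X₂, X.basicOpen f) :=
      r n • t - S.X₂.presheaf.map (homOfLE (X.basicOpen_le f)).op g
    have hd0 : S.g.app (X.basicOpen f) d = 0 := by
      change S.g.app (X.basicOpen f) (r n • t - _) = 0
      rw [map_sub, Scheme.Modules.Hom.app_smul, app_res, hg, hnh, sub_self]
    obtain ⟨a, ha⟩ := exists_of_app_g_eq_zero S hS d hd0
    obtain ⟨k, b, hkb⟩ := hF.surj f a
    refine ⟨k + n, S.f.app U b + f ^ k • g, ?_⟩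
    have hr : r (k + n) = r k * r n := by
      change X.presheaf.map _ (f ^ (k + n)) = X.presheaf.map _ (f ^ k) * X.presheaf.map _ (f ^ n)
      rw [pow_add, map_mul]
    have ht : r n • t = d + S.X₂.presheaf.map (homOfLE (X.basicOpen_le f)).op g := by
      change r n • t = (r n • t - _) + _
      abel
    change r (k + n) • t = _
    rw [hr, mul_smul, ht, smul_add, ← ha, ← Scheme.Modules.Hom.app_smul, hkb, app_res, map_add,
      res_smul]

end


theorem isQuasicoherent_of_shortExact (S : ShortComplex X.Modules) (hS : S.ShortExact)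
    [S.X₁.IsQuasicoherent] [S.X₃.IsQuasicoherent] : S.X₂.IsQuasicoherent := by
  apply QcohGlue.isQuasicoherent_of_isLocalizingOn
  intro x
  obtain ⟨_, ⟨U, hU : IsAffineOpen U, rfl⟩, hxU, -⟩ :=
    X.isBasis_affineOpens.exists_subset_of_mem_open (Set.mem_univ x) isOpen_univ
  exact ⟨U, hU, hxU, isLocalizingOn_of_shortExact S hS hU⟩


end Groth.Agent.Helper4.QcohExt
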