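import Groth.Agent.Helper4.AmpleRestrict
import Mathlib

set_option autoImplicit false
universe u
open CategoryTheory CategoryTheory.Limits AlgebraicGeometry Opposite TopologicalSpace TensorProduct
  MonoidalCategory

namespace Groth.Agent.Helper4.AmpleLocal

open Groth.Agent.Helper4.GenLoc Groth.Agent.Helper4.TensorInv Groth.Agent.Helper4.TensorGen
  Groth.Agent.Helper4.QAffSec Groth.Agent.Helper4.TensorLift Groth.Agent.Helper4.TwistLocal
  Groth.Agent.Helper4.TwistExt Groth.Agent.Helper4.TensorRes Groth.Agent.Helper4.TensorAssoc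
  Groth.Agent.Helper4.AmpleIso Groth.Agent.Helper4.AmpleBasis Groth.Agent.Helper4.AmpleTensor
  Groth.Agent.Helper4.AmpleRestrict Groth.Agent.Helper4.Scalar

variable {X Y : Scheme.{u}}

/-- morphisms out of the structure sheaf are determined by their global section -/
theorem unit_hom_ext {M : X.Modules} (φ ψ : Coh.structureModule X ⟶ M)
    (h : φ.app ⊤ (one X ⊤) = ψ.app ⊤ (one X ⊤)) : φ = ψ := by
  apply Scheme.Modules.hom_ext
  intro U
  ext m
  have h1 : ∀ χ : Coh.structureModule X ⟶ M, χ.app U m = toFn m • χ.app U (one X U) := by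
    intro χ
    have : m = toFn m • one X U := (GenLoc.smul_one U (toFn m)).symm
    conv_lhs => rw [this, Scheme.Modules.Hom.app_smul]
  change φ.app U m = ψ.app U m
  rw [h1 φ, h1 ψ, app_one_eq_res M φ U, app_one_eq_res M ψ U, h]

theorem isIso_scalar_of_isUnit (a : Γ(X, ⊤)) (ha : IsUnit a) (M : X.Modules) :
    IsIso (scalar a M) := by
  obtain ⟨b, hab⟩ := isUnit_iff_exists_inv.mp ha
  refine ⟨scalar b M, ?_, ?_⟩
  · apply Scheme.Modules.hom_ext
    intro U
    ext m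
    change (scalar b M).app U ((scalar a M).app U m) = m
    rw [scalar_app, scalar_app, smul_smul, ← map_mul, mul_comm, hab, map_one, one_smul]
  · apply Scheme.Modules.hom_ext
    intro U
    ext m
    change (scalar a M).app U ((scalar b M).app U m) = m
    rw [scalar_app, scalar_app, smul_smul, ← map_mul, hab, map_one, one_smul]

/-- unit multiples have the same generating locus -/
theorem genLocus_eq_of_smul_unit {M : X.Modules} (σ τ : Coh.structureModule X ⟶ M)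
    (a : Γ(X, ⊤)) (ha : IsUnit a) (h : σ.app ⊤ (one X ⊤) = a • τ.app ⊤ (one X ⊤)) :
    CohB1.genLocus M σ = CohB1.genLocus M τ := by
  haveI := isIso_scalar_of_isUnit a ha M
  have h1 : σ = τ ≫ (asIso (scalar a M)).hom := by
    apply unit_hom_ext
    rw [h]
    change _ = (scalar a M).app ⊤ (τ.app ⊤ (one X ⊤))
    rw [scalar_app]
    congr 1
    have : (homOfLE (le_top : (⊤ : X.Opens) ≤ ⊤)).op = 𝟙 (op (⊤ : X.Opens)) := rfl
    change a = X.presheaf.map (homOfLE (le_top : (⊤ : X.Opens) ≤ ⊤)).op a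
    rw [this, X.presheaf.map_id]
    rfl
  rw [h1, genLocus_comp_iso]

/-- ampleness of a restriction only depends on the range, and passes to smaller quasi-compact
opens -/
theorem isAmple_restrict_of_range_le {Y' Y'' : Scheme.{u}} (j : Y' ⟶ X) (c : Y'' ⟶ X)
    [IsOpenImmersion j] [IsOpenImmersion c] [CompactSpace Y']
    (hle : Set.range j ⊆ Set.range c) {L : X.Modules} (h : CohB1.IsAmple (L.restrict c)) :
    CohB1.IsAmple (L.restrict j) := by
  have hk : IsOpenImmersion.lift c j hle ≫ c = j := IsOpenImmersion.lift_fac c j hle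
  haveI : IsOpenImmersion (IsOpenImmersion.lift c j hle ≫ c) := by rw [hk]; infer_instance
  haveI : IsOpenImmersion (IsOpenImmersion.lift c j hle) := IsOpenImmersion.of_comp _ c
  have h1 := isAmple_restrict (IsOpenImmersion.lift c j hle) h
  have e : (L.restrict c).restrict (IsOpenImmersion.lift c j hle) ≅ L.restrict j :=
    ((Scheme.Modules.restrictFunctorComp (IsOpenImmersion.lift c j hle) c).app L).symm ≪≫
      (Scheme.Modules.restrictFunctorCongr hk).app L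
  exact isAmple_of_iso e h1

theorem isAmple_restrict_restrict {Y' Y'' : Scheme.{u}} (a : Y'' ⟶ X) (b : Y' ⟶ Y'')
    [IsOpenImmersion a] [IsOpenImmersion b] {L : X.Modules} :
    CohB1.IsAmple ((L.restrict a).restrict b) ↔ CohB1.IsAmple (L.restrict (b ≫ a)) :=
  isAmple_iff_of_iso ((Scheme.Modules.restrictFunctorComp b a).app L).symm

theorem IsTrivAlong.opensRange' {Y' : Scheme.{u}} {L : X.Modules} (j : Y' ⟶ X) [IsOpenImmersion j]
    (h : IsTrivAlong L j) : IsTrivAlong L j.opensRange.ι := by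
  have e : j.isoOpensRange.hom ≫ j.opensRange.ι = j := by simp
  have h2 : IsTrivAlong L ((inv j.isoOpensRange.hom ≫ j.isoOpensRange.hom) ≫ j.opensRange.ι) := by
    have := (h.congr e.symm).comp _ (inv j.isoOpensRange.hom)
    exact this.congr (by simp)
  exact h2.congr (by simp)

theorem isInvertible_of_cover (L : X.Modules)
    (h : ∀ x : X, ∃ (Y' : Scheme.{u}) (j : Y' ⟶ X) (_ : IsOpenImmersion j),
      x ∈ Set.range j ∧ PicF.IsInvertible (L.restrict j)) : PicF.IsInvertible L := by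
  intro x
  obtain ⟨Y', j, hj, ⟨y, rfl⟩, hinv⟩ := h x
  obtain ⟨V', hyV', hV'⟩ := hinv y
  have h1 : IsTrivAlong (L.restrict j) V'.ι := hV'
  have h2 : IsTrivAlong L (V'.ι ≫ j) := by
    obtain ⟨i⟩ := h1
    exact ⟨(Scheme.Modules.restrictFunctorComp V'.ι j).app L ≪≫ i⟩
  have h3 := IsTrivAlong.opensRange' _ h2
  exact ⟨(V'.ι ≫ j).opensRange, ⟨⟨y, hyV'⟩, rfl⟩, h3⟩

/-- LB: ampleness is local for covers by basic opens of global functions -/
theorem isAmple_of_basicOpen_cover [CompactSpace X] (L : X.Modules) {ι : Type*}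
    (h : ι → Γ(X, ⊤)) (hcov : ∀ x : X, ∃ i, x ∈ X.basicOpen (h i))
    (hL : ∀ i, CohB1.IsAmple (L.restrict (X.basicOpen (h i)).ι)) : CohB1.IsAmple L := by
  have hinv : PicF.IsInvertible L := isInvertible_of_cover L (fun x => by
    obtain ⟨i, hi⟩ := hcov x
    exact ⟨_, (X.basicOpen (h i)).ι, inferInstance, by simpa using hi, (hL i).1⟩)
  haveI hqs : QuasiSeparatedSpace X := by
    refine QuasiSeparatedSpace.of_isOpenCover (U := fun i => X.basicOpen (h i)) ?_
      (fun i => isRetrocompact_basicOpen _) (fun i => ?_)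
    · exact eq_top_iff.mpr fun x _ => Opens.mem_iSup.mpr (hcov x)
    · rw [isQuasiSeparated_iff_quasiSeparatedSpace _ (X.basicOpen (h i)).isOpen]
      exact quasiSeparatedSpace_of_isAmple (hL i)
  refine ⟨hinv, inferInstance, fun x => ?_⟩
  obtain ⟨i, hxi⟩ := hcov x
  obtain ⟨U, hU⟩ : ∃ U : X.Opens, U = X.basicOpen (h i) := ⟨_, rfl⟩
  obtain ⟨m, τ, hxτ, haτ⟩ := (hL i).2.2 ⟨x, hxi⟩
  have hT : (X.basicOpen (h i)).ι ''ᵁ ⊤ = X.basicOpen (h i) := Scheme.Opens.ι_image_top _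
  have hTf : (X.basicOpen (h i)).ι ''ᵁ ⊤ ≤ X.basicOpen (h i) := hT.le
  let M := CohB1.tensorPow L (m + 1)
  let τ' : Coh.structureModule (X.basicOpen (h i) : Scheme.{u}) ⟶ M.restrict (X.basicOpen (h i)).ι :=
    τ ≫ (resPowIso (X.basicOpen (h i)).ι L (m + 1)).hom
  have hτ' : CohB1.genLocus _ τ' = CohB1.genLocus _ τ := genLocus_comp_iso _ τ
  let e : Γ(M, (X.basicOpen (h i)).ι ''ᵁ ⊤) := τ'.app ⊤ (one _ ⊤)
  let t : Γ(M, X.basicOpen (h i)) := M.presheaf.map (homOfLE hT.ge).op e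
  haveI : M.IsQuasicoherent := isQuasicoherent_of_isInvertible M (isInvertible_tensorPow hinv _)
  obtain ⟨N, m', hm'⟩ := QcqsMod.exists_pow_smul_eq_res_of_qcqs M (U := ⊤) isCompact_univ
    isQuasiSeparated_univ (h i) t
  obtain ⟨σ0, hσ0⟩ := SubExt.exists_unit_hom_of_section M (h i • m')
  let σ : Coh.structureModule X ⟶ M := σ0
  have hσ : σ.app ⊤ (one X ⊤) = h i • m' := hσ0
  have h1 : CohB1.genLocus M σ ≤ X.basicOpen (h i) := genLocus_le_basicOpen M σ (h i) m' hσ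
  -- the unit
  let u0 : Γ(X, (X.basicOpen (h i)).ι ''ᵁ ⊤) :=
    X.presheaf.map (homOfLE (le_top : (X.basicOpen (h i)).ι ''ᵁ ⊤ ≤ ⊤)).op (h i * h i ^ N)
  have hu0 : IsUnit u0 := by
    rw [isUnit_res_iff, ← pow_succ', Scheme.basicOpen_pow (X := X) (h i) (Nat.succ_pos N)]
    exact hTf
  have hval : σ.app ((X.basicOpen (h i)).ι ''ᵁ ⊤) (one X _) = u0 • e := by
    rw [app_one_eq_res, hσ, Scheme.Modules.map_smul]
    have h2 : M.presheaf.map (homOfLE (le_top : (X.basicOpen (h i)).ι ''ᵁ ⊤ ≤ ⊤)).op m' =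
        X.presheaf.map (homOfLE (le_top : (X.basicOpen (h i)).ι ''ᵁ ⊤ ≤ ⊤)).op (h i ^ N) • e := by
      rw [← QAffSec.res_res M (le_top : X.basicOpen (h i) ≤ ⊤) hTf m']
      have hm'' : M.presheaf.map (homOfLE (le_top : X.basicOpen (h i) ≤ ⊤)).op m' =
          X.presheaf.map (homOfLE (le_top : X.basicOpen (h i) ≤ ⊤)).op (h i ^ N) • t := hm'.symm
      rw [hm'', Scheme.Modules.map_smul, res_resO, QAffSec.res_res, res_self]
    rw [h2, smul_smul, ← map_mul]
  have h2 : CohB1.genLocus _ (resSec (X.basicOpen (h i)).ι σ) = CohB1.genLocus _ τ' := by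
    apply genLocus_eq_of_smul_unit (resSec (X.basicOpen (h i)).ι σ) τ'
      (((X.basicOpen (h i)).ι.appIso ⊤).hom u0) (hu0.map ((X.basicOpen (h i)).ι.appIso ⊤).hom.hom)
    change σ.app ((X.basicOpen (h i)).ι ''ᵁ ⊤)
      ((Scheme.Modules.restrictUnitIso (X.basicOpen (h i)).ι).inv.app ⊤ (one _ ⊤)) = _
    rw [restrictUnitIso_inv_one, hval, TensorRes.restrict_smul]
    have : ((X.basicOpen (h i)).ι.appIso ⊤).inv (((X.basicOpen (h i)).ι.appIso ⊤).hom u0) = u0 := by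
      rw [← CommRingCat.comp_apply, Iso.hom_inv_id]; rfl
    rw [this]
  have h3 : (X.basicOpen (h i)).ι ⁻¹ᵁ CohB1.genLocus M σ = CohB1.genLocus _ τ := by
    rw [← genLocus_resSec, h2, hτ']
  have h4 : CohB1.genLocus M σ = (X.basicOpen (h i)).ι ''ᵁ (CohB1.genLocus _ τ) := by
    rw [← h3, image_preimage_of_le' _ h1]
  refine ⟨m, σ, ?_, ?_⟩
  · rw [h4]; exact ⟨⟨x, hxi⟩, hxτ, rfl⟩
  · rw [h4]; exact haτ.image_of_isOpenImmersion (X.basicOpen (h i)).ι

/-- RelLB: relative ampleness over an affine open can be checked on a cover by basic opens -/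
theorem isAmple_restrict_preimage_of_basicOpen_cover (f : X ⟶ Y) [QuasiCompact f] (L : X.Modules)
    (V : Y.Opens) (hV : IsAffineOpen V) {κ : Type*} (a : κ → Γ(Y, V))
    (hcov : ∀ y ∈ V, ∃ k, y ∈ Y.basicOpen (a k))
    (hL : ∀ k, CohB1.IsAmple (L.restrict (f ⁻¹ᵁ Y.basicOpen (a k)).ι)) :
    CohB1.IsAmple (L.restrict (f ⁻¹ᵁ V).ι) := by
  haveI : CompactSpace ((f ⁻¹ᵁ V : X.Opens) : Scheme.{u}) :=
    isCompact_iff_compactSpace.mp (QuasiCompact.isCompact_preimage (f := f) _ V.isOpen hV.isCompact)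
  let h : κ → Γ(((f ⁻¹ᵁ V : X.Opens) : Scheme.{u}), ⊤) := fun k =>
    (f ⁻¹ᵁ V).topIso.inv (f.app V (a k))
  have himg : ∀ k, (f ⁻¹ᵁ V).ι ''ᵁ ((f ⁻¹ᵁ V : X.Opens) : Scheme.{u}).basicOpen (h k) =
      f ⁻¹ᵁ Y.basicOpen (a k) := by
    intro k
    rw [Scheme.Opens.ι_image_basicOpen_topIso_inv, Scheme.preimage_basicOpen]
  apply isAmple_of_basicOpen_cover (L.restrict (f ⁻¹ᵁ V).ι) h
  · intro x'
    obtain ⟨k, hk⟩ := hcov (f x'.1) x'.2
    refine ⟨k, ?_⟩
    have : (f ⁻¹ᵁ V).ι x' ∈ (f ⁻¹ᵁ V).ι ''ᵁ ((f ⁻¹ᵁ V : X.Opens) : Scheme.{u}).basicOpen (h k) := by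
      rw [himg k]; exact hk
    obtain ⟨z, hz, hzx⟩ := this
    have : z = x' := (f ⁻¹ᵁ V).ι.isOpenEmbedding.injective hzx
    exact this ▸ hz
  · intro k
    rw [isAmple_restrict_restrict]
    have hr : Set.range ((((f ⁻¹ᵁ V : X.Opens) : Scheme.{u}).basicOpen (h k)).ι ≫ (f ⁻¹ᵁ V).ι) =
        ((f ⁻¹ᵁ Y.basicOpen (a k) : X.Opens) : Set X) := by
      rw [← himg k]
      ext x
      constructor
      · rintro ⟨z, rfl⟩
        exact ⟨z.1, z.2, rfl⟩
      · rintro ⟨z, hz, rfl⟩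
        exact ⟨⟨z, hz⟩, rfl⟩
    haveI : CompactSpace ↥((((f ⁻¹ᵁ V : X.Opens) : Scheme.{u}).basicOpen (h k) :
        ((f ⁻¹ᵁ V : X.Opens) : Scheme.{u}).Opens) : Scheme.{u}) := by
      apply isCompact_iff_compactSpace.mp
      rw [(f ⁻¹ᵁ V).ι.isOpenEmbedding.isEmbedding.isCompact_iff]
      have := congrArg (fun Z : X.Opens => (Z : Set X)) (himg k)
      simp only [Scheme.Hom.coe_image] at this
      rw [this]
      exact QuasiCompact.isCompact_preimage (f := f) _ (Y.basicOpen (a k)).isOpen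
        (hV.basicOpen (a k)).isCompact
    apply isAmple_restrict_of_range_le _ (f ⁻¹ᵁ Y.basicOpen (a k)).ι _ (hL k)
    rw [hr]
    simp

theorem isAmple_restrict_of_le {U U' : X.Opens} (hle : U' ≤ U) (hc : IsCompact (U' : Set X))
    {L : X.Modules} (h : CohB1.IsAmple (L.restrict U.ι)) : CohB1.IsAmple (L.restrict U'.ι) := by
  haveI : CompactSpace (U' : Scheme.{u}) := isCompact_iff_compactSpace.mp hc
  apply isAmple_restrict_of_range_le U'.ι U.ι _ h
  rw [Scheme.Opens.range_ι, Scheme.Opens.range_ι]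
  exact hle

/-- S2333 -/
theorem isRelAmple_of_comp {Z : Scheme.{u}} (f : X ⟶ Y) (g : Y ⟶ Z) [QuasiCompact f]
    (L : X.Modules) (hL : RelAmple.IsRelAmple (f ≫ g) L) : RelAmple.IsRelAmple f L := by
  refine ⟨inferInstance, fun V => ?_⟩
  have key : ∀ y : V.1, ∃ a : Γ(Y, V.1), y.1 ∈ Y.basicOpen a ∧
      CohB1.IsAmple (L.restrict (f ⁻¹ᵁ Y.basicOpen a).ι) := by
    intro y
    obtain ⟨W, hW, hyW, -⟩ := exists_isAffineOpen_mem_and_subset (X := Z) (x := g y.1) (U := ⊤)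
      trivial
    obtain ⟨a, ha, hya⟩ := V.2.exists_basicOpen_le (V := g ⁻¹ᵁ W ⊓ V.1) ⟨y.1, hyW, y.2⟩ y.2
    refine ⟨a, hya, ?_⟩
    apply isAmple_restrict_of_le _ _ (hL.2 ⟨W, hW⟩)
    · intro x hx
      exact (ha hx).1
    · exact QuasiCompact.isCompact_preimage (f := f) _ (Y.basicOpen a).isOpen
        (V.2.basicOpen a).isCompact
  choose a hya ha using key
  exact isAmple_restrict_preimage_of_basicOpen_cover f L V.1 V.2 a
    (fun y hy => ⟨⟨y, hy⟩, hya ⟨y, hy⟩⟩) ha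

/-- S4380 -/
theorem isRelAmple_iff_of_openCover (f : X ⟶ Y) [QuasiCompact f] (L : X.Modules)
    {ι : Type u} (U : ι → Y.Opens) (hU : ⨆ i, U i = ⊤) :
    RelAmple.IsRelAmple f L ↔
      ∀ i, RelAmple.IsRelAmple (f ∣_ (U i)) (L.restrict (f ⁻¹ᵁ (U i)).ι) := by
  constructor
  · intro hL i
    refine ⟨inferInstance, fun V' => ?_⟩
    rw [isAmple_restrict_restrict]
    have hVaff : IsAffineOpen ((U i).ι ''ᵁ V'.1) := V'.2.image_of_isOpenImmersion (U i).ι
    haveI : CompactSpace ↥((((f ∣_ (U i)) ⁻¹ᵁ V'.1 : (f ⁻¹ᵁ (U i) : Scheme.{u}).Opens)) : Scheme.{u}) :=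
      isCompact_iff_compactSpace.mp (QuasiCompact.isCompact_preimage (f := f ∣_ (U i)) _
        V'.1.isOpen V'.2.isCompact)
    apply isAmple_restrict_of_range_le _ (f ⁻¹ᵁ ((U i).ι ''ᵁ V'.1)).ι _ (hL.2 ⟨_, hVaff⟩)
    rw [Scheme.Opens.range_ι, ← image_morphismRestrict_preimage]
    rintro _ ⟨z, rfl⟩
    exact ⟨z.1, z.2, rfl⟩
  · intro h
    refine ⟨inferInstance, fun V => ?_⟩
    have key : ∀ y : V.1, ∃ a : Γ(Y, V.1), y.1 ∈ Y.basicOpen a ∧
        CohB1.IsAmple (L.restrict (f ⁻¹ᵁ Y.basicOpen a).ι) := by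
      intro y
      obtain ⟨i, hyi⟩ : ∃ i, y.1 ∈ U i := by
        have : y.1 ∈ (⨆ i, U i : Y.Opens) := by rw [hU]; trivial
        exact Opens.mem_iSup.mp this
      obtain ⟨a, ha, hya⟩ := V.2.exists_basicOpen_le (V := U i ⊓ V.1) ⟨y.1, hyi, y.2⟩ y.2
      refine ⟨a, hya, ?_⟩
      have hDU : Y.basicOpen a ≤ U i := fun x hx => (ha hx).1
      have hDaff : IsAffineOpen (Y.basicOpen a) := V.2.basicOpen a
      have hV'aff : IsAffineOpen ((U i).ι ⁻¹ᵁ Y.basicOpen a) :=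
        SubExt.isAffineOpen_preimage_of_le (U i).ι hDaff (by
          rw [Scheme.Opens.opensRange_ι]; exact hDU)
      have h1 := (h i).2 ⟨_, hV'aff⟩
      rw [isAmple_restrict_restrict] at h1
      haveI : CompactSpace ((f ⁻¹ᵁ Y.basicOpen a : X.Opens) : Scheme.{u}) :=
        isCompact_iff_compactSpace.mp (QuasiCompact.isCompact_preimage (f := f) _
          (Y.basicOpen a).isOpen hDaff.isCompact)
      apply isAmple_restrict_of_range_le _ _ _ h1
      rw [Scheme.Opens.range_ι]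
      intro x hx
      have h2 : x ∈ f ⁻¹ᵁ ((U i).ι ''ᵁ ((U i).ι ⁻¹ᵁ Y.basicOpen a)) := by
        rw [image_preimage_of_le' _ hDU]; exact hx
      rw [← image_morphismRestrict_preimage] at h2
      obtain ⟨z, hz, rfl⟩ := h2
      exact ⟨⟨z, hz⟩, rfl⟩
    choose a hya ha using key
    exact isAmple_restrict_preimage_of_basicOpen_cover f L V.1 V.2 a
      (fun y hy => ⟨⟨y, hy⟩, hya ⟨y, hy⟩⟩) ha

end Groth.Agent.Helper4.AmpleLocal
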