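import Mathlib
import Groth.Agent.Helper4.AmpleLocal

set_option autoImplicit false
open CategoryTheory Limits AlgebraicGeometry TopologicalSpace Opposite
universe u

namespace Groth.Agent.Helper4.GenLocIso

open Groth.Agent.Helper4.GenLoc Groth.Agent.Helper4.TwistExt Groth.Agent.Helper4.StalkExact

variable {X : Scheme.{u}}

/-- bijectivity on sections glues along a family of opens -/
theorem app_bijective_of_le_sSup {F G : X.Modules} (φ : F ⟶ G) (𝒰 : Set X.Opens)
    (h𝒰 : ∀ U ∈ 𝒰, ∀ V : X.Opens, V ≤ U → Function.Bijective (φ.app V)) (V : X.Opens)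
    (hV : V ≤ sSup 𝒰) : Function.Bijective (φ.app V) := by
  classical
  have hex : ∀ y : V, ∃ U ∈ 𝒰, y.1 ∈ U := fun y => Opens.mem_sSup.mp (hV y.2)
  choose U hU hyU using hex
  constructor
  · intro a a' haa'
    apply eq_of_cover
    intro y hy
    refine ⟨V ⊓ U ⟨y, hy⟩, inf_le_left, ⟨hy, hyU ⟨y, hy⟩⟩, ?_⟩
    apply (h𝒰 _ (hU ⟨y, hy⟩) (V ⊓ U ⟨y, hy⟩) inf_le_right).1
    rw [app_res, app_res, haa']
  · intro m
    have hsurj : ∀ y : V, ∃ a : Γ(F, V ⊓ U y), φ.app (V ⊓ U y) a =
        G.presheaf.map (homOfLE (inf_le_left : V ⊓ U y ≤ V)).op m :=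
      fun y => (h𝒰 _ (hU y) (V ⊓ U y) inf_le_right).2 _
    choose a ha using hsurj
    have hcompat : TopCat.Presheaf.IsCompatible F.presheaf (fun y : V => V ⊓ U y) a := by
      intro y y'
      apply (h𝒰 _ (hU y) ((V ⊓ U y) ⊓ (V ⊓ U y')) (inf_le_left.trans inf_le_right)).1
      rw [app_res, app_res, ha, ha]
      change G.presheaf.map (homOfLE (inf_le_left : (V ⊓ U y) ⊓ (V ⊓ U y') ≤ V ⊓ U y)).op
          (G.presheaf.map (homOfLE (inf_le_left : V ⊓ U y ≤ V)).op m) =
        G.presheaf.map (homOfLE (inf_le_right : (V ⊓ U y) ⊓ (V ⊓ U y') ≤ V ⊓ U y')).op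
          (G.presheaf.map (homOfLE (inf_le_left : V ⊓ U y' ≤ V)).op m)
      rw [QAffSec.res_res, QAffSec.res_res]
    have hcover : V ≤ iSup (fun y : V => V ⊓ U y) := by
      intro y hy
      exact Opens.mem_iSup.mpr ⟨⟨y, hy⟩, hy, hyU ⟨y, hy⟩⟩
    obtain ⟨t, ht, -⟩ := TopCat.Sheaf.existsUnique_gluing'
      (⟨F.presheaf, F.isSheaf⟩ : TopCat.Sheaf Ab X)
      (fun y : V => V ⊓ U y) V (fun y => homOfLE inf_le_left) hcover a hcompat
    refine ⟨t, ?_⟩
    apply eq_of_cover
    intro y hy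
    refine ⟨V ⊓ U ⟨y, hy⟩, inf_le_left, ⟨hy, hyU ⟨y, hy⟩⟩, ?_⟩
    rw [← app_res]
    have := ht ⟨y, hy⟩
    refine Eq.trans (congrArg _ this) ?_
    exact ha ⟨y, hy⟩

/-- a section is an isomorphism over its whole generating locus -/
theorem isIso_restrict_genLocus (M : X.Modules) (σ : Coh.structureModule X ⟶ M) :
    IsIso ((Scheme.Modules.restrictFunctor (CohB1.genLocus M σ).ι).map σ) := by
  rw [isIso_restrict_iff]
  intro V hV
  exact app_bijective_of_le_sSup σ
    {U : X.Opens | IsIso ((Scheme.Modules.restrictFunctor U.ι).map σ)}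
    (fun U hU V hV => (isIso_restrict_iff σ U).mp hU V hV) V hV

theorem isIso_of_genLocus_eq_top (M : X.Modules) (σ : Coh.structureModule X ⟶ M)
    (h : CohB1.genLocus M σ = ⊤) : IsIso σ := by
  apply isIso_of_app_bijective
  intro V
  exact (isIso_restrict_iff σ _).mp (isIso_restrict_genLocus M σ) V (by rw [h]; exact le_top)

/-- the trivialization of `M` over the generating locus of `σ` -/
noncomputable def trivGenLocus (M : X.Modules) (σ : Coh.structureModule X ⟶ M) :
    M.restrict (CohB1.genLocus M σ).ι ≅ Coh.structureModule (CohB1.genLocus M σ : Scheme.{u}) :=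
  (@asIso _ _ _ _ ((Scheme.Modules.restrictFunctor (CohB1.genLocus M σ).ι).map σ)
    (isIso_restrict_genLocus M σ)).symm ≪≫ Scheme.Modules.restrictUnitIso _

open Groth.Agent.Helper4.AmpleLocal Groth.Agent.Helper4.AmpleIso Groth.Agent.Helper4.TensorAssoc
  Groth.Agent.Helper4.TensorInv

/-- on a reduced scheme, a section of an invertible module generating nowhere is zero -/
theorem eq_zero_of_genLocus_eq_bot [IsReduced X] (L : X.Modules) (hL : PicF.IsInvertible L)
    (s : Coh.structureModule X ⟶ L) (h : CohB1.genLocus L s = ⊥) : s = 0 := by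
  apply unit_hom_ext
  apply eq_of_cover
  intro y _
  obtain ⟨T, e, b, hyT, -, -, hval, hbo⟩ := exists_chart L hL s y
  refine ⟨T, le_top, hyT, ?_⟩
  have hb : b = 0 := by
    rw [h, bot_inf_eq] at hbo
    exact (AlgebraicGeometry.basicOpen_eq_bot_iff b).mp hbo
  have h1 : L.presheaf.map (homOfLE (le_top : T ≤ ⊤)).op (s.app ⊤ (one X ⊤)) = SecTwist.val s T :=
    val_res s le_top
  rw [h1, hval, hb, zero_smul]
  exact (map_zero _).symm

/-- S14809 -/
theorem nonempty_iso_unit_of_tensorPow_trivial [IsIntegral X]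
    (hfield : IsField (Γ(X, ⊤) : Type u)) (L : X.Modules) (hL : PicF.IsInvertible L)
    (s : Coh.structureModule X ⟶ L) (hs : s ≠ 0) (d : ℕ) (hd : 0 < d)
    (htriv : Nonempty (CohB1.tensorPow L d ≅ Coh.structureModule X)) :
    Nonempty (L ≅ Coh.structureModule X) := by
  obtain ⟨e⟩ := htriv
  obtain ⟨d', rfl⟩ := Nat.exists_eq_succ_of_ne_zero hd.ne'
  let σ : Coh.structureModule X ⟶ Coh.structureModule X := SecTwist.powHom s (d' + 1) ≫ e.hom
  have hσ : CohB1.genLocus _ σ = CohB1.genLocus L s := by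
    rw [genLocus_comp_iso, genLocus_powHom hL]
  rw [genLocus_unit] at hσ
  by_cases ha : fn σ = 0
  · exfalso
    apply hs
    apply eq_zero_of_genLocus_eq_bot L hL s
    rw [← hσ, ha]
    exact Scheme.basicOpen_zero X ⊤
  · have hu : IsUnit (fn σ) := by
      letI := hfield.toField
      exact isUnit_iff_ne_zero.mpr ha
    have htop : CohB1.genLocus L s = ⊤ := by
      rw [← hσ]
      exact Scheme.basicOpen_of_isUnit X hu
    haveI := isIso_of_genLocus_eq_top L s htop
    exact ⟨(asIso s).symm⟩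

end Groth.Agent.Helper4.GenLocIso
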