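import Groth.Agent.Helper4.GenLocIso
import Mathlib

set_option autoImplicit false
universe u
open CategoryTheory CategoryTheory.Limits AlgebraicGeometry Opposite TopologicalSpace

namespace Groth.Agent.Helper4.SecRatio

open Groth.Agent.Helper4.GenLoc Groth.Agent.Helper4.GenLocIso Groth.Agent.Helper4.StalkExact

variable {X : Scheme.{u}}

/-- a section is bijective on sections over opens inside its generating locus -/
theorem app_bijective_of_le_genLocus (M : X.Modules) (σ : Coh.structureModule X ⟶ M)
    {T : X.Opens} (hT : T ≤ CohB1.genLocus M σ) : Function.Bijective (σ.app T) :=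
  (isIso_restrict_iff σ _).mp (isIso_restrict_genLocus M σ) T hT

/-- unit restrictions and basic opens, for sections over an arbitrary open -/
theorem isUnit_res_iff' {U T : X.Opens} (b : Γ(X, U)) (hTU : T ≤ U) :
    IsUnit (X.presheaf.map (homOfLE hTU).op b) ↔ T ≤ X.basicOpen b := by
  constructor
  · intro h x hx
    rw [Scheme.mem_basicOpen _ _ _ (hTU hx)]
    have := h.map (X.presheaf.germ T x hx).hom
    rwa [TopCat.Presheaf.germ_res_apply] at this
  · intro h
    have h1 := RingedSpace.isUnit_res_basicOpen X.toRingedSpace b
    have h2 := h1.map (X.presheaf.map (homOfLE h).op).hom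
    have h3 : (X.presheaf.map (homOfLE h).op).hom
        ((X.presheaf.map (homOfLE (X.basicOpen_le b)).op).hom b) =
        (X.presheaf.map (homOfLE hTU).op).hom b := by
      rw [← CommRingCat.comp_apply, ← Functor.map_comp]
      rfl
    rw [← h3]
    exact h2

variable (M : X.Modules) (σ t : Coh.structureModule X ⟶ M)

/-- the ratio `t / σ`, a function on the generating locus of `σ` -/
noncomputable def ratio : Γ(X, CohB1.genLocus M σ) :=
  toFn ((app_bijective_of_le_genLocus M σ le_rfl).2
    (t.app (CohB1.genLocus M σ) (one X _))).choose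

theorem ratio_spec :
    σ.app (CohB1.genLocus M σ) (show Γ(Coh.structureModule X, _) from ratio M σ t) =
      t.app (CohB1.genLocus M σ) (one X _) :=
  ((app_bijective_of_le_genLocus M σ le_rfl).2
    (t.app (CohB1.genLocus M σ) (one X _))).choose_spec

theorem one_res {A B : X.Opens} (h : B ≤ A) :
    (Coh.structureModule X).presheaf.map (homOfLE h).op (one X A) = one X B :=
  map_one (X.presheaf.map (homOfLE h).op).hom

theorem ratio_spec_res {T : X.Opens} (hT : T ≤ CohB1.genLocus M σ) :
    σ.app T (show Γ(Coh.structureModule X, T) from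
      X.presheaf.map (homOfLE hT).op (ratio M σ t)) = t.app T (one X T) := by
  have h1 := app_res σ (homOfLE hT) (show Γ(Coh.structureModule X, _) from ratio M σ t)
  have h2 := app_res t (homOfLE hT) (one X _)
  rw [one_res] at h2
  rw [h2, ← ratio_spec M σ t]
  exact h1

/-- `(σ/t) * (t/σ) = 1` on the common generating locus -/
theorem ratio_mul_ratio {T : X.Opens} (hTσ : T ≤ CohB1.genLocus M σ)
    (hTt : T ≤ CohB1.genLocus M t) :
    X.presheaf.map (homOfLE hTt).op (ratio M t σ) *
      X.presheaf.map (homOfLE hTσ).op (ratio M σ t) = 1 := by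
  set a : Γ(X, T) := X.presheaf.map (homOfLE hTt).op (ratio M t σ) with ha
  set b : Γ(X, T) := X.presheaf.map (homOfLE hTσ).op (ratio M σ t) with hb
  have h1 : t.app T (show Γ(Coh.structureModule X, T) from a) = σ.app T (one X T) :=
    ratio_spec_res M t σ hTt
  have h2 : σ.app T (show Γ(Coh.structureModule X, T) from b) = t.app T (one X T) :=
    ratio_spec_res M σ t hTσ
  apply (app_bijective_of_le_genLocus M t hTt).1
  rw [mul_comm]
  have h3 : t.app T (show Γ(Coh.structureModule X, T) from
      b • (show Γ(Coh.structureModule X, T) from a)) = t.app T (one X T) := by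
    rw [Scheme.Modules.Hom.app_smul, h1, ← Scheme.Modules.Hom.app_smul]
    have h4 : (b • one X T : Γ(Coh.structureModule X, T)) = b := mul_one b
    rw [h4]
    exact h2
  exact h3

/-- the non-vanishing locus of `t/σ` is the common generating locus -/
theorem basicOpen_ratio :
    X.basicOpen (ratio M σ t) = CohB1.genLocus M σ ⊓ CohB1.genLocus M t := by
  apply le_antisymm
  · apply le_inf (X.basicOpen_le _)
    apply le_sSup
    change IsIso _
    rw [isIso_restrict_iff]
    intro V hV
    have hVσ : V ≤ CohB1.genLocus M σ := hV.trans (X.basicOpen_le _)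
    obtain ⟨c, hc⟩ := isUnit_iff_exists_inv.mp ((isUnit_res_iff' (ratio M σ t) hVσ).mpr hV)
    set b : Γ(X, V) := X.presheaf.map (homOfLE hVσ).op (ratio M σ t) with hb
    have hσ := app_bijective_of_le_genLocus M σ hVσ
    have h2 : σ.app V (show Γ(Coh.structureModule X, V) from b) = t.app V (one X V) :=
      ratio_spec_res M σ t hVσ
    have key : ∀ r : Γ(Coh.structureModule X, V), t.app V r =
        σ.app V (show Γ(Coh.structureModule X, V) from toFn r * b) := by
      intro r
      have h3 : r = toFn r • one X V := (mul_one (toFn r)).symm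
      conv_lhs => rw [h3, Scheme.Modules.Hom.app_smul, ← h2, ← Scheme.Modules.Hom.app_smul]
      rfl
    constructor
    · intro r r' hrr'
      rw [key r, key r'] at hrr'
      have h4 : toFn r * b = toFn r' * b := hσ.1 hrr'
      have h5 := congrArg (· * c) h4
      simp only [mul_assoc, hc, mul_one] at h5
      exact h5
    · intro m
      obtain ⟨r, hr⟩ := hσ.2 m
      refine ⟨(show Γ(Coh.structureModule X, V) from toFn r * c), ?_⟩
      rw [key]
      have h6 : toFn (show Γ(Coh.structureModule X, V) from toFn r * c) * b = toFn r := by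
        change toFn r * c * b = toFn r
        rw [mul_assoc, mul_comm c b, hc, mul_one]
      rw [h6]
      exact hr
  · rw [← isUnit_res_iff' (ratio M σ t) inf_le_left]
    exact isUnit_iff_exists_inv'.mpr ⟨_, ratio_mul_ratio M σ t inf_le_left inf_le_right⟩

end Groth.Agent.Helper4.SecRatio
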