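import Groth.Agent.Helper4.SerreCrit
import Groth.Agent.Helper4.GenLocIso
import Groth.Agent.Helper4.QcohLimits
import Groth.Agent.Helper4.SecRatio
import Mathlib

set_option autoImplicit false
universe u
open CategoryTheory CategoryTheory.Limits AlgebraicGeometry Opposite TopologicalSpace

namespace Groth.Agent.Helper4.RelSerre

open Groth.Agent.Helper4.GenLoc Groth.Agent.Helper4.StalkExact Groth.Agent.Helper4.QAffSec
  Groth.Agent.Helper4.Scalar Groth.Agent.Helper4.TwistExt

variable {X : Scheme.{u}}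

/-- local preimages under a monomorphism glue -/
theorem exists_section_of_local_sections {F G : X.Modules} (φ : F ⟶ G) [Mono φ] (V : X.Opens)
    (g : Γ(G, V))
    (hloc : ∀ y ∈ V, ∃ (W : X.Opens) (hW : W ≤ V), y ∈ W ∧ ∃ s : Γ(F, W),
      φ.app W s = G.presheaf.map (homOfLE hW).op g) :
    ∃ s : Γ(F, V), φ.app V s = g := by
  classical
  have hinj : ∀ W : X.Opens, Function.Injective (φ.app W) :=
    fun W => Groth.Agent.Helper4.AffineDict.app_injective_of_mono φ W
  have hex : ∀ y : V, ∃ (W : X.Opens) (hW : W ≤ V), y.1 ∈ W ∧ ∃ s : Γ(F, W),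
      φ.app W s = G.presheaf.map (homOfLE hW).op g := fun y => hloc y.1 y.2
  choose W hW hyW a ha using hex
  have hcompat : TopCat.Presheaf.IsCompatible F.presheaf W a := by
    intro y y'
    apply hinj
    rw [app_res, app_res, ha, ha]
    change G.presheaf.map (homOfLE (inf_le_left : W y ⊓ W y' ≤ W y)).op
        (G.presheaf.map (homOfLE (hW y)).op g) =
      G.presheaf.map (homOfLE (inf_le_right : W y ⊓ W y' ≤ W y')).op
        (G.presheaf.map (homOfLE (hW y')).op g)
    rw [QAffSec.res_res, QAffSec.res_res]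
  have hcover : V ≤ iSup W := by
    intro y hy
    exact Opens.mem_iSup.mpr ⟨⟨y, hy⟩, hyW ⟨y, hy⟩⟩
  obtain ⟨t, ht, -⟩ := TopCat.Sheaf.existsUnique_gluing'
    (⟨F.presheaf, F.isSheaf⟩ : TopCat.Sheaf Ab X)
    W V (fun y => homOfLE (hW y)) hcover a hcompat
  refine ⟨t, ?_⟩
  apply eq_of_cover
  intro y hy
  refine ⟨W ⟨y, hy⟩, hW ⟨y, hy⟩, hyW ⟨y, hy⟩, ?_⟩
  rw [← app_res]
  have := ht ⟨y, hy⟩
  refine Eq.trans (congrArg _ this) ?_
  exact ha ⟨y, hy⟩

/-- the relative Serre hypothesis on the open `X'`: epimorphisms of quasi-coherent modules on `X`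
are surjective on sections over `X'` -/
def RelHyp (X' : X.Opens) : Prop :=
  ∀ (F F'' : X.Modules) (p : F ⟶ F''), F.IsQuasicoherent → F''.IsQuasicoherent → Epi p →
    Function.Surjective (p.app X')

/-- under the relative Serre hypothesis, sections which lift locally lift -/
theorem lift_section {X' : X.Opens} (h : RelHyp X') {F G : X.Modules} [F.IsQuasicoherent]
    [G.IsQuasicoherent] (φ : F ⟶ G) (g : Γ(G, X'))
    (hloc : ∀ y ∈ X', ∃ (W : X.Opens) (hW : W ≤ X'), y ∈ W ∧ ∃ s : Γ(F, W),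
      φ.app W s = G.presheaf.map (homOfLE hW).op g) :
    ∃ s : Γ(F, X'), φ.app X' s = g := by
  let e := Abelian.factorThruImage φ
  let m := Abelian.image.ι φ
  have hfac : e ≫ m = φ := Abelian.image.fac φ
  have hfacapp : ∀ (W : X.Opens) (s : Γ(F, W)), m.app W (e.app W s) = φ.app W s :=
    fun W s => congrArg (fun ψ : F ⟶ G => ψ.app W s) hfac
  haveI : (Abelian.image φ).IsQuasicoherent :=
    Groth.Agent.Helper4.QcohLimits.isQuasicoherent_image φ
  obtain ⟨k, hk⟩ := exists_section_of_local_sections m X' g (by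
    intro y hy
    obtain ⟨W, hW, hyW, s, hs⟩ := hloc y hy
    refine ⟨W, hW, hyW, e.app W s, ?_⟩
    rw [← hs]; exact hfacapp W s)
  obtain ⟨s, hs⟩ := h _ _ e inferInstance inferInstance inferInstance k
  refine ⟨s, ?_⟩
  rw [← hfacapp, hs, hk]

/-- the relative Serre criterion, given a finite affine cover -/
theorem isAffineOpen_of_relHyp_of_cover {X' : X.Opens} (h : RelHyp X') (r : ℕ)
    (U : Fin r → X.Opens) (hU : ∀ i, IsAffineOpen (U i)) (hUX' : ∀ i, U i ≤ X')
    (hcov : ∀ y ∈ X', ∃ i, y ∈ U i) : IsAffineOpen X' := by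
  classical
  have hex := fun i => Groth.Agent.Helper4.FTIdeal2.exists_ideal_module_mono' (U i)
  choose J ιJ hmono hJq hbij hvan using hex
  haveI : ∀ i, (J i).IsQuasicoherent := hJq
  haveI : HasFiniteBiproducts X.Modules := HasFiniteBiproducts.of_hasFiniteProducts
  haveI : (⨁ J).IsQuasicoherent := by
    haveI : (∏ᶜ J).IsQuasicoherent :=
      Groth.Agent.Helper4.QcohLimits.isQuasicoherent_limit (Discrete.functor J)
        (fun j => hJq j.as)
    exact Groth.Agent.Helper4.QcohLimits.isQuasicoherent_of_iso (biproduct.isoProduct J).symm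
  haveI hOq : (Coh.structureModule X).IsQuasicoherent :=
    isQuasicoherent_of_isInvertible _ Groth.Agent.Helper4.TensorInv.isInvertible_structureModule
  let φ : ⨁ J ⟶ Coh.structureModule X := biproduct.desc ιJ
  obtain ⟨s, hs⟩ := lift_section h φ (one X X') (by
    intro y hy
    obtain ⟨i, hi⟩ := hcov y hy
    refine ⟨U i, hUX' i, hi, ?_⟩
    obtain ⟨si, hsi⟩ := (hbij i (U i) le_rfl).2 (one X (U i))
    refine ⟨(biproduct.ι J i).app (U i) si, ?_⟩
    rw [Groth.Agent.Helper4.SecRatio.one_res]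
    change (biproduct.ι J i ≫ φ).app (U i) si = _
    rw [biproduct.ι_desc]
    exact hsi)
  let hfun : Fin r → Γ(X, X') := fun i =>
    toFn ((ιJ i).app X' ((biproduct.π J i).app X' s))
  have hsum : ∑ i, hfun i = 1 := by
    have hφ : φ = ∑ i, biproduct.π J i ≫ ιJ i := biproduct.desc_eq
    rw [hφ, Groth.Agent.Helper4.SerreCrit.sum_app] at hs
    exact hs
  refine isAffineOpen_of_isAffineOpen_basicOpen X' (Set.range hfun) ?_ ?_
  · rw [Ideal.eq_top_iff_one, ← hsum]
    exact Ideal.sum_mem _ (fun i _ => Ideal.subset_span ⟨i, rfl⟩)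
  · rintro _ ⟨i, rfl⟩
    have hle : X.basicOpen (hfun i) ≤ U i := hvan i X' _
    have := (hU i).basicOpen (X.presheaf.map (homOfLE (hUX' i)).op (hfun i))
    rwa [Scheme.basicOpen_res, inf_eq_right.mpr hle] at this

/-- the relative Serre criterion -/
theorem isAffineOpen_of_relHyp {X' : X.Opens} (hc : IsCompact (X' : Set X)) (h : RelHyp X') :
    IsAffineOpen X' := by
  have hex : ∀ y : X', ∃ U : X.Opens, IsAffineOpen U ∧ y.1 ∈ U ∧ U ≤ X' := by
    intro y
    obtain ⟨U, hU, hyU, hUX'⟩ :=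
      exists_isAffineOpen_mem_and_subset (X := X) (x := y.1) (U := X') y.2
    exact ⟨U, hU, hyU, hUX'⟩
  choose U hU hyU hUX' using hex
  obtain ⟨t, ht⟩ := hc.elim_nhds_subcover' (fun y hy => (U ⟨y, hy⟩ : Set X))
    (fun y hy => (U ⟨y, hy⟩).isOpen.mem_nhds (hyU ⟨y, hy⟩))
  refine isAffineOpen_of_relHyp_of_cover h t.card (fun i => U (t.equivFin.symm i).1)
    (fun i => hU _) (fun i => hUX' _) ?_
  intro y hy
  obtain ⟨x, hxt, hyx⟩ := Set.mem_iUnion₂.mp (ht hy)
  refine ⟨t.equivFin ⟨x, hxt⟩, ?_⟩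
  change y ∈ U (t.equivFin.symm (t.equivFin ⟨x, hxt⟩)).1
  rw [Equiv.symm_apply_apply]
  exact hyx

/-- S4376: a separated quasi-compact morphism whose direct image is exact on quasi-coherent
modules is affine -/
theorem isAffineHom_of_pushforward_preserves_epi {Y : Scheme.{u}} (f : X ⟶ Y) [IsSeparated f]
    [QuasiCompact f]
    (h : ∀ (F F'' : X.Modules) (p : F ⟶ F''), Coh.IsQCoh F → Coh.IsQCoh F'' → Epi p →
      Epi ((Coh.push f).map p)) :
    IsAffineHom f := by
  constructor
  intro V hV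
  apply isAffineOpen_of_relHyp
  · exact QuasiCompact.isCompact_preimage (f := f) _ V.isOpen hV.isCompact
  · intro F F'' p hF hF'' hp
    haveI := hF
    haveI := hF''
    haveI : Epi ((Coh.push f).map p) := h F F'' p hF hF'' hp
    haveI := Groth.Agent.Helper4.QcohGlue.isQuasicoherent_pushforward f F
    haveI := Groth.Agent.Helper4.QcohGlue.isQuasicoherent_pushforward f F''
    exact Groth.Agent.Helper4.QcohEpi.app_surjective_of_epi ((Coh.push f).map p) hV

end Groth.Agent.Helper4.RelSerre
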