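import Groth.Agent.Helper4.SubExt3
import Groth.Agent.Helper4.QcohEpi
import Groth.Agent.Helper4.QcohExt
import Groth.Agent.Helper4.RelSerre
import Groth.Agent.Helper4.SubSum
import Mathlib

/-!
# Lifting sections modulo a finite type submodule

On a qcqs scheme, for a short exact sequence `0 → K → P → Q → 0` of modules with `K` quasi-coherent,
every global section of `Q` lifts to a global section of `P/K'` for some quasi-coherent submodule
of finite type `K' ⊆ K`.  This replaces the "cohomology commutes with filtered colimits" argument.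
-/

set_option autoImplicit false
universe u
open CategoryTheory CategoryTheory.Limits AlgebraicGeometry Opposite TopologicalSpace

namespace Groth.Agent.Helper4.FTLift

open Groth.Agent.Helper4.StalkExact Groth.Agent.Helper4.QAffSec Groth.Agent.Helper4.QcohEpi

variable {X : Scheme.{u}}

/-- a binary biproduct of quasi-coherent modules of finite type is of finite type -/
theorem isFiniteType_biprod (K1 K2 : X.Modules) [K1.IsQuasicoherent] [K2.IsQuasicoherent]
    (h1 : SheafOfModules.IsFiniteType (R := X.ringCatSheaf) K1)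
    (h2 : SheafOfModules.IsFiniteType (R := X.ringCatSheaf) K2) :
    SheafOfModules.IsFiniteType (R := X.ringCatSheaf) (K1 ⊞ K2 : X.Modules) := by
  haveI : (K1 ⊞ K2).IsQuasicoherent := Groth.Agent.Helper4.QcohLimits.isQuasicoherent_biprod _ _
  apply Groth.Agent.Helper4.FTGlue.isFiniteType_of_finite_sections
  intro x
  obtain ⟨U, hU, hx⟩ := Groth.Agent.Helper4.QcohLimits.exists_affine_nhd x
  refine ⟨U, hU, hx, ?_⟩
  haveI : Module.Finite Γ(X, U) Γ(K1, U) :=
    Groth.Agent.Helper4.SecDict.finite_sections hU K1 inferInstance h1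
  haveI : Module.Finite Γ(X, U) Γ(K2, U) :=
    Groth.Agent.Helper4.SecDict.finite_sections hU K2 inferInstance h2
  let f : (Γ(K1, U) × Γ(K2, U)) →ₗ[Γ(X, U)] Γ(K1 ⊞ K2, U) :=
    (appLin (biprod.inl : K1 ⟶ K1 ⊞ K2) U).coprod (appLin (biprod.inr : K2 ⟶ K1 ⊞ K2) U)
  refine Module.Finite.of_surjective f ?_
  intro z
  refine ⟨((biprod.fst : K1 ⊞ K2 ⟶ K1).app U z, (biprod.snd : K1 ⊞ K2 ⟶ K2).app U z), ?_⟩
  exact Groth.Agent.Helper4.SubSum.biprod_total_app U z

/-- the sum of two quasi-coherent submodules of finite type -/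
theorem exists_sum_sub (K : X.Modules) [K.IsQuasicoherent] {K1 K2 : X.Modules}
    (i1 : K1 ⟶ K) (i2 : K2 ⟶ K) [K1.IsQuasicoherent] [K2.IsQuasicoherent]
    (h1 : SheafOfModules.IsFiniteType (R := X.ringCatSheaf) K1)
    (h2 : SheafOfModules.IsFiniteType (R := X.ringCatSheaf) K2) :
    ∃ (K' : X.Modules) (i' : K' ⟶ K) (j1 : K1 ⟶ K') (j2 : K2 ⟶ K'), Mono i' ∧
      K'.IsQuasicoherent ∧ SheafOfModules.IsFiniteType (R := X.ringCatSheaf) K' ∧
      j1 ≫ i' = i1 ∧ j2 ≫ i' = i2 := by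
  haveI : (K1 ⊞ K2).IsQuasicoherent := Groth.Agent.Helper4.QcohLimits.isQuasicoherent_biprod _ _
  let φ : K1 ⊞ K2 ⟶ K := biprod.desc i1 i2
  haveI hq : (Abelian.image φ).IsQuasicoherent :=
    Groth.Agent.Helper4.QcohLimits.isQuasicoherent_image φ
  refine ⟨Abelian.image φ, Abelian.image.ι φ, biprod.inl ≫ Abelian.factorThruImage φ,
    biprod.inr ≫ Abelian.factorThruImage φ, inferInstance, hq, ?_, ?_, ?_⟩
  · haveI : Epi (Abelian.factorThruImage φ) := inferInstance
    exact isFiniteType_of_epi (Abelian.factorThruImage φ) (isFiniteType_biprod K1 K2 h1 h2)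
  · rw [Category.assoc, Abelian.image.fac]
    exact biprod.inl_desc _ _
  · rw [Category.assoc, Abelian.image.fac]
    exact biprod.inr_desc _ _


/-- finitely many sections over quasi-compact opens of a quasi-coherent module on a qcqs scheme lie
in a common quasi-coherent submodule of finite type -/
theorem exists_submodule_through_sections [CompactSpace X] [QuasiSeparatedSpace X]
    (K : X.Modules) [K.IsQuasicoherent] :
    ∀ (l : List (Σ U : X.Opens, Γ(K, U))), (∀ p ∈ l, IsCompact (p.1 : Set X)) →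
    ∃ (K' : X.Modules) (i' : K' ⟶ K), Mono i' ∧ K'.IsQuasicoherent ∧
      SheafOfModules.IsFiniteType (R := X.ringCatSheaf) K' ∧
      ∀ p ∈ l, ∃ g : Γ(K', p.1), i'.app p.1 g = p.2
  | [], _ => by
    obtain ⟨G, i, hi, hq, hft, -⟩ := Groth.Agent.Helper4.SubExt.exists_submodule_through_section
      K ⊤ isCompact_univ (0 : Γ(K, ⊤))
    exact ⟨G, i, hi, hq, hft, fun p hp => absurd hp List.not_mem_nil⟩
  | p :: l, hl => by
    obtain ⟨K1, i1, hi1, hq1, hft1, hg1⟩ := exists_submodule_through_sections K l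
      (fun q hq => hl q (List.mem_cons_of_mem _ hq))
    obtain ⟨K2, i2, hi2, hq2, hft2, g2, hg2⟩ :=
      Groth.Agent.Helper4.SubExt.exists_submodule_through_section
        K p.1 (hl p List.mem_cons_self) p.2
    haveI := hq1
    haveI := hq2
    obtain ⟨K', i', j1, j2, hi', hq', hft', hj1, hj2⟩ := exists_sum_sub K i1 i2 hft1 hft2
    refine ⟨K', i', hi', hq', hft', ?_⟩
    intro q hq
    rcases List.mem_cons.mp hq with rfl | hq
    · refine ⟨j2.app q.1 g2, ?_⟩
      have := congrArg (fun ψ : K2 ⟶ K => ψ.app q.1 g2) hj2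
      exact this.trans hg2
    · obtain ⟨g, hg⟩ := hg1 q hq
      refine ⟨j1.app q.1 g, ?_⟩
      have := congrArg (fun ψ : K1 ⟶ K => ψ.app q.1 g) hj1
      exact this.trans hg


/-- **lifting modulo a finite type submodule**: on a qcqs scheme, a global section of the quotient
of a short exact sequence with quasi-coherent kernel `K` lifts to `P/K'` for some quasi-coherent
submodule of finite type `K' ⊆ K`. -/
theorem exists_lift_mod_ft [CompactSpace X] [QuasiSeparatedSpace X] (S : ShortComplex X.Modules)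
    (hS : S.ShortExact) [S.X₁.IsQuasicoherent] (s : Γ(S.X₃, ⊤)) :
    ∃ (K' : X.Modules) (i' : K' ⟶ S.X₁) (r : cokernel (i' ≫ S.f) ⟶ S.X₃), Mono i' ∧
      K'.IsQuasicoherent ∧ SheafOfModules.IsFiniteType (R := X.ringCatSheaf) K' ∧
      cokernel.π (i' ≫ S.f) ≫ r = S.g ∧
      ∃ s' : Γ(cokernel (i' ≫ S.f), ⊤), r.app ⊤ s' = s := by
  classical
  obtain ⟨𝒰, h𝒰, htop⟩ := isCompact_iff_finite_and_eq_biUnion_affineOpens.mp
    (show IsCompact ((⊤ : X.Opens) : Set X) from isCompact_univ)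
  have hlift : ∀ U : X.affineOpens, ∃ t : Γ(S.X₂, U.1),
      S.g.app U.1 t = S.X₃.presheaf.map (homOfLE (le_top : U.1 ≤ ⊤)).op s :=
    fun U => Groth.Agent.Helper4.QcohExt.app_surjective_of_shortExact S hS U.2 _
  choose t ht using hlift
  have hdiff : ∀ U V : X.affineOpens, ∃ k : Γ(S.X₁, U.1 ⊓ V.1), S.f.app (U.1 ⊓ V.1) k =
      S.X₂.presheaf.map (homOfLE (inf_le_left : U.1 ⊓ V.1 ≤ U.1)).op (t U) -
        S.X₂.presheaf.map (homOfLE (inf_le_right : U.1 ⊓ V.1 ≤ V.1)).op (t V) := by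
    intro U V
    apply Groth.Agent.Helper4.QcohExt.exists_of_app_g_eq_zero S hS
    rw [map_sub, app_res, app_res, ht, ht, res_res, res_res, sub_self]
  choose k hk using hdiff
  let l : List (Σ U : X.Opens, Γ(S.X₁, U)) :=
    (h𝒰.toFinset ×ˢ h𝒰.toFinset).toList.map (fun p => ⟨p.1.1 ⊓ p.2.1, k p.1 p.2⟩)
  have hl : ∀ p ∈ l, IsCompact (p.1 : Set X) := by
    intro p hp
    obtain ⟨q, -, rfl⟩ := List.mem_map.mp hp
    exact QuasiSeparatedSpace.inter_isCompact _ _ q.1.1.isOpen q.1.2.isCompact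
      q.2.1.isOpen q.2.2.isCompact
  obtain ⟨K', i', hi', hq', hft', hg'⟩ := exists_submodule_through_sections S.X₁ l hl
  have hzero : (i' ≫ S.f) ≫ S.g = 0 := by rw [Category.assoc, S.zero, comp_zero]
  let P' : X.Modules := cokernel (i' ≫ S.f)
  let q : S.X₂ ⟶ P' := cokernel.π _
  let r : P' ⟶ S.X₃ := cokernel.desc _ S.g hzero
  have hqr : q ≫ r = S.g := cokernel.π_desc _ _ _
  refine ⟨K', i', r, hi', hq', hft', hqr, ?_⟩
  let ι := {U : X.affineOpens // U ∈ 𝒰}
  let W : ι → X.Opens := fun U => U.1.1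
  let a : ∀ U : ι, Γ(P', W U) := fun U => q.app _ (t U.1)
  have hcompat : TopCat.Presheaf.IsCompatible P'.presheaf W a := by
    intro U V
    change P'.presheaf.map (homOfLE (inf_le_left : W U ⊓ W V ≤ W U)).op (q.app _ (t U.1)) =
      P'.presheaf.map (homOfLE (inf_le_right : W U ⊓ W V ≤ W V)).op (q.app _ (t V.1))
    rw [← app_res, ← app_res, ← sub_eq_zero, ← map_sub]
    obtain ⟨g, hg⟩ := hg' ⟨U.1.1 ⊓ V.1.1, k U.1 V.1⟩
      (List.mem_map.mpr ⟨(U.1, V.1), by simp [U.2, V.2], rfl⟩)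
    have hk' := hk U.1 V.1
    have h0 := congrArg (fun ψ : K' ⟶ P' => ψ.app _ g)
      (show (i' ≫ S.f) ≫ q = 0 from cokernel.condition _)
    have h1 : q.app _ (S.f.app _ (i'.app _ g)) = 0 := h0
    rw [hg] at h1
    change q.app _ (S.f.app _ (k U.1 V.1)) = 0 at h1
    rw [hk'] at h1
    exact h1
  have hcover : (⊤ : X.Opens) ≤ iSup W := by
    rw [htop]
    exact iSup₂_le (fun U hU => le_iSup W ⟨U, hU⟩)
  obtain ⟨s', hs', -⟩ := TopCat.Sheaf.existsUnique_gluing'
    (⟨P'.presheaf, P'.isSheaf⟩ : TopCat.Sheaf Ab X) W ⊤ (fun U => homOfLE le_top) hcover a hcompat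
  refine ⟨s', ?_⟩
  apply Groth.Agent.Helper4.TwistExt.eq_of_cover
  intro y hy
  obtain ⟨U, hyU⟩ := Opens.mem_iSup.mp (hcover hy)
  refine ⟨W U, le_top, hyU, ?_⟩
  rw [← app_res]
  have h1 := hs' U
  refine (congrArg (r.app (W U)) h1).trans ?_
  have h2 := congrArg (fun ψ : S.X₂ ⟶ S.X₃ => ψ.app _ (t U.1)) hqr
  exact h2.trans (ht U.1)

end Groth.Agent.Helper4.FTLift
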