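import Groth.Agent.Helper4.Scalar
import Mathlib

set_option autoImplicit false
universe u
open CategoryTheory CategoryTheory.Limits AlgebraicGeometry Opposite TopologicalSpace

namespace Groth.Agent.Helper4.PullUnit

open Groth.Agent.Helper4 Groth.Agent.Helper4.GenLoc Groth.Agent.Helper4.Scalar

instance final_opens_map {X Y : TopCat.{u}} (f : X ⟶ Y) : (Opens.map f).Final := by
  apply Functor.final_of_exists_of_isFiltered
  · intro d
    exact ⟨⊤, ⟨homOfLE (fun x _ => trivial)⟩⟩
  · intro d c s s'
    exact ⟨c, 𝟙 _, Subsingleton.elim _ _⟩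

theorem isIso_pullbackObjUnitToUnit {W V : Scheme.{u}} (g : W ⟶ V) :
    IsIso (SheafOfModules.pullbackObjUnitToUnit g.toRingCatSheafHom) :=
  haveI : (SheafOfModules.pushforward.{u} g.toRingCatSheafHom).IsRightAdjoint :=
    (inferInstance : (Scheme.Modules.pushforward g).IsRightAdjoint)
  inferInstance

/-- the canonical isomorphism `g^* O_V ≅ O_W` -/
noncomputable def pullbackUnitIso {W V : Scheme.{u}} (g : W ⟶ V) :
    (Scheme.Modules.pullback g).obj (Coh.structureModule V) ≅ Coh.structureModule W :=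
  @asIso _ _ _ _ (SheafOfModules.pullbackObjUnitToUnit g.toRingCatSheafHom)
    (isIso_pullbackObjUnitToUnit g)

/-- base change square of an open immersion: restriction of a pullback -/
noncomputable def restrictPullbackIso {X' X Y' Y : Scheme.{u}} (j' : X' ⟶ X) (j : Y' ⟶ Y)
    [IsOpenImmersion j'] [IsOpenImmersion j] (f : X ⟶ Y) (f' : X' ⟶ Y') (h : j' ≫ f = f' ≫ j) :
    Scheme.Modules.pullback f ⋙ Scheme.Modules.restrictFunctor j' ≅
      Scheme.Modules.restrictFunctor j ⋙ Scheme.Modules.pullback f' :=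
  Functor.isoWhiskerLeft _ (Scheme.Modules.restrictFunctorIsoPullback j') ≪≫
    Scheme.Modules.pullbackComp j' f ≪≫ Scheme.Modules.pullbackCongr h ≪≫
    (Scheme.Modules.pullbackComp f' j).symm ≪≫
    Functor.isoWhiskerRight (Scheme.Modules.restrictFunctorIsoPullback j).symm _

theorem isIso_restrict_pullback_iff {X' X Y' Y : Scheme.{u}} (j' : X' ⟶ X) (j : Y' ⟶ Y)
    [IsOpenImmersion j'] [IsOpenImmersion j] (f : X ⟶ Y) (f' : X' ⟶ Y') (h : j' ≫ f = f' ≫ j)
    {M N : Y.Modules} (φ : M ⟶ N) :
    IsIso ((Scheme.Modules.restrictFunctor j').map ((Scheme.Modules.pullback f).map φ)) ↔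
      IsIso ((Scheme.Modules.pullback f').map ((Scheme.Modules.restrictFunctor j).map φ)) :=
  NatIso.isIso_map_iff (restrictPullbackIso j' j f f' h) φ

theorem conj_scalar {X : Scheme.{u}} (b : Γ(X, ⊤)) {M N : X.Modules} (ε : M ≅ N) :
    ε.hom ≫ scalar b N ≫ ε.inv = scalar b M := by
  rw [← Category.assoc, ← scalar_comm, Category.assoc, Iso.hom_inv_id, Category.comp_id]

theorem isUnit_of_isIso_scalar {X : Scheme.{u}} (b : Γ(X, ⊤)) (N : X.Modules)
    (η : N ≅ Coh.structureModule X) (h : IsIso (scalar b N)) : IsUnit b := by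
  have h1 : IsIso (scalar b (Coh.structureModule X)) := by
    rw [← conj_scalar b η.symm]
    infer_instance
  have h2 : Function.Bijective ((scalar b (Coh.structureModule X)).app ⊤) :=
    ConcreteCategory.bijective_of_isIso ((scalar b (Coh.structureModule X)).app ⊤)
  rw [app_bijective_iff, fn_scalar, ← isUnit_res_iff] at h2
  have h3 : X.presheaf.map (homOfLE (le_top : (⊤ : X.Opens) ≤ ⊤)).op b = b := by
    change X.presheaf.map (𝟙 _) b = b
    rw [X.presheaf.map_id]; rfl
  rwa [h3] at h2

/-- if the pullback of an endomorphism `t` of `O_V` along `g` is an isomorphism, then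
`g^♯ (fn t)` is a unit -/
theorem isUnit_of_isIso_pullback {W V : Scheme.{u}} (g : W ⟶ V)
    (t : Coh.structureModule V ⟶ Coh.structureModule V)
    (h : IsIso ((Scheme.Modules.pullback g).map t)) : IsUnit (g.appTop (fn t)) := by
  rw [eq_scalar t, pullback_scalar] at h
  exact isUnit_of_isIso_scalar _ _ (pullbackUnitIso g) h

end Groth.Agent.Helper4.PullUnit
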