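import Groth.Agent.Helper4.GenLoc
import Mathlib

set_option autoImplicit false
universe u
open CategoryTheory CategoryTheory.Limits AlgebraicGeometry Opposite TopologicalSpace

namespace Groth.Agent.Helper4.Scalar

open Groth.Agent.Helper4 Groth.Agent.Helper4.GenLoc

variable {X : Scheme.{u}}

/-- restriction of a global function to an open -/
noncomputable abbrev res (a : Γ(X, ⊤)) (U : X.Opens) : Γ(X, U) :=
  X.presheaf.map (homOfLE (le_top : U ≤ ⊤)).op a

theorem res_res (a : Γ(X, ⊤)) {U V : X.Opens} (i : op U ⟶ op V) :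
    X.presheaf.map i (res a U) = res a V := by
  change (X.presheaf.map _ ≫ X.presheaf.map i) a = _
  rw [← X.presheaf.map_comp]
  rfl

/-- multiplication by a global function, as a morphism of abelian presheaves -/
noncomputable def scalarPre (a : Γ(X, ⊤)) (M : X.Modules) : M.presheaf ⟶ M.presheaf where
  app U := M.smul (res a U.unop)
  naturality U V i := by
    have h := Scheme.Modules.map_comp_smul (M := M) (i.unop) (res a U.unop)
    have h2 : X.presheaf.map i.unop.op (res a U.unop) = res a V.unop := res_res a _
    rw [h2] at h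
    exact h.symm

/-- multiplication by a global function as an endomorphism of an `O_X`-module -/
noncomputable def scalar (a : Γ(X, ⊤)) (M : X.Modules) : M ⟶ M :=
  ⟨PresheafOfModules.homMk (scalarPre a M) (by
    intro U r m
    let r' : Γ(X, U.unop) := r
    let m' : Γ(M, U.unop) := m
    change res a U.unop • (r' • m') = r' • (res a U.unop • m')
    exact smul_comm _ _ _)⟩

theorem scalar_app (a : Γ(X, ⊤)) (M : X.Modules) (U : X.Opens) (m : Γ(M, U)) :
    (scalar a M).app U m = res a U • m := rfl

theorem scalar_comm (a : Γ(X, ⊤)) {M N : X.Modules} (φ : M ⟶ N) :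
    scalar a M ≫ φ = φ ≫ scalar a N := by
  apply Scheme.Modules.hom_ext
  intro U
  ext m
  change φ.app U ((scalar a M).app U m) = (scalar a N).app U (φ.app U m)
  rw [scalar_app, scalar_app, Scheme.Modules.Hom.app_smul]

theorem eq_scalar (t : Coh.structureModule X ⟶ Coh.structureModule X) :
    t = scalar (fn t) (Coh.structureModule X) := by
  apply Scheme.Modules.hom_ext
  intro U
  ext m
  have h := app_apply t U m
  rw [scalar_app]
  change toFn (t.app U m) = res (fn t) U * toFn m
  rw [h, mul_comm]

theorem fn_scalar (a : Γ(X, ⊤)) : fn (scalar a (Coh.structureModule X)) = a := by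
  change res a ⊤ * (1 : Γ(X, ⊤)) = a
  rw [mul_one]
  change X.presheaf.map (𝟙 _) a = a
  rw [X.presheaf.map_id]
  rfl

theorem pushforward_smul {W V : Scheme.{u}} (g : W ⟶ V) (N : W.Modules) (U : V.Opens)
    (r : Γ(V, U)) (m : Γ(N, g ⁻¹ᵁ U)) :
    (r • (show Γ((Scheme.Modules.pushforward g).obj N, U) from m)) = (g.app U r) • m := rfl

theorem pushforward_scalar {W V : Scheme.{u}} (g : W ⟶ V) (a : Γ(V, ⊤)) (N : W.Modules) :
    (Scheme.Modules.pushforward g).map (scalar (g.appTop a) N) =
      scalar a ((Scheme.Modules.pushforward g).obj N) := by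
  apply Scheme.Modules.hom_ext
  intro U
  ext m
  rw [Scheme.Modules.pushforward_map_app]
  change res (g.appTop a) (g ⁻¹ᵁ U) • (show Γ(N, g ⁻¹ᵁ U) from m) = (g.app U (res a U)) • _
  congr 1
  have := g.naturality (homOfLE (le_top : U ≤ ⊤)).op
  exact (congrArg (fun φ => φ.hom a) this).symm

theorem pullback_scalar {W V : Scheme.{u}} (g : W ⟶ V) (a : Γ(V, ⊤)) (M : V.Modules) :
    (Scheme.Modules.pullback g).map (scalar a M) =
      scalar (g.appTop a) ((Scheme.Modules.pullback g).obj M) := by
  let adj := Scheme.Modules.pullbackPushforwardAdjunction g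
  apply (adj.homEquiv M _).injective
  rw [Adjunction.homEquiv_unit, Adjunction.homEquiv_unit, pushforward_scalar]
  exact (adj.unit.naturality (scalar a M)).symm.trans (scalar_comm a (adj.unit.app M))

end Groth.Agent.Helper4.Scalar
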