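import Mathlib

set_option autoImplicit false
universe u

namespace Groth.Agent.Helper4.FlatExact

open TensorProduct

variable {R : Type u} [CommRing R] {M N P : Type u} [AddCommGroup M] [AddCommGroup N]
  [AddCommGroup P] [Module R M] [Module R N] [Module R P]

/-- flatness of the kernel and of the middle term are equivalent when the quotient is flat. -/
theorem flat_iff_of_exact_of_flat (g : M →ₗ[R] N) (f : N →ₗ[R] P) (hg : Function.Injective g)
    (hf : Function.Surjective f) (H : Function.Exact g f) [Module.Flat R P] :
    Module.Flat R N ↔ Module.Flat R M := by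
  have comm : ∀ {A B : Type u} [AddCommGroup A] [AddCommGroup B] [Module R A] [Module R B]
      (i : A →ₗ[R] B) (z : A ⊗[R] M),
      (i.rTensor N) ((g.lTensor A) z) = (g.lTensor B) ((i.rTensor M) z) := by
    intro A B _ _ _ _ i z
    have h1 := LinearMap.rTensor_comp_lTensor _ i g
    have h2 := LinearMap.lTensor_comp_rTensor _ i g
    exact (LinearMap.congr_fun h1 z).trans (LinearMap.congr_fun h2 z).symm
  have comm' : ∀ {A B : Type u} [AddCommGroup A] [AddCommGroup B] [Module R A] [Module R B]
      (i : A →ₗ[R] B) (x : A ⊗[R] N),
      (i.rTensor P) ((f.lTensor A) x) = (f.lTensor B) ((i.rTensor N) x) := by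
    intro A B _ _ _ _ i z
    have h1 := LinearMap.rTensor_comp_lTensor _ i f
    have h2 := LinearMap.lTensor_comp_rTensor _ i f
    exact (LinearMap.congr_fun h1 z).trans (LinearMap.congr_fun h2 z).symm
  constructor
  · intro hN
    rw [Module.Flat.iff_rTensor_preserves_injective_linearMap'.{u, u, u}]
    intro A B _ _ _ _ i hi
    rw [injective_iff_map_eq_zero]
    intro z hz
    have h1 : (i.rTensor N) ((g.lTensor A) z) = 0 := by rw [comm, hz, map_zero]
    have h2 : (g.lTensor A) z = 0 :=
      (injective_iff_map_eq_zero _).mp
        (Module.Flat.rTensor_preserves_injective_linearMap (M := N) i hi) _ h1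
    exact (injective_iff_map_eq_zero _).mp
      (LinearMap.lTensor_injective_of_exact_of_flat f hf g hg H A) _ h2
  · intro hM
    rw [Module.Flat.iff_rTensor_preserves_injective_linearMap'.{u, u, u}]
    intro A B _ _ _ _ i hi
    rw [injective_iff_map_eq_zero]
    intro x hx
    have hy : (f.lTensor A) x = 0 := by
      apply (injective_iff_map_eq_zero _).mp
        (Module.Flat.rTensor_preserves_injective_linearMap (M := P) i hi)
      rw [comm', hx, map_zero]
    obtain ⟨z, rfl⟩ := (lTensor_exact A H hf x).mp hy
    have h1 : (g.lTensor B) ((i.rTensor M) z) = 0 := by rw [← comm, hx]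
    have h2 : (i.rTensor M) z = 0 :=
      (injective_iff_map_eq_zero _).mp
        (LinearMap.lTensor_injective_of_exact_of_flat f hf g hg H B) _ h1
    have h3 : z = 0 := (injective_iff_map_eq_zero _).mp
      (Module.Flat.rTensor_preserves_injective_linearMap (M := M) i hi) _ h2
    rw [h3, map_zero]

end Groth.Agent.Helper4.FlatExact
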