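import Groth.Agent.Helper4.Scalar
import Groth.Prelude.Def_KoszTw
import Mathlib

set_option autoImplicit false
universe u
open CategoryTheory CategoryTheory.Limits AlgebraicGeometry Opposite TopologicalSpace TensorProduct
  MonoidalCategory

namespace Groth.Agent.Helper4.TensorLift

variable {X : Scheme.{u}}

/-- the sheafification adjunction for `O_X`-modules -/
noncomputable abbrev adj (X : Scheme.{u}) :=
  PresheafOfModules.sheafificationAdjunction.{u, u, u, u}
    (J := Opens.grothendieckTopology X) (𝟙 X.ringCatSheaf.obj)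

section Bilin

variable (A B : X.Modules)

/-- the presheaf tensor product, as a presheaf of modules on `X` -/
noncomputable abbrev pre : X.PresheafOfModules := CohB1.tensorPre A B

/-- the ring of sections, in the form used by the presheaf tensor product -/
abbrev RR (X : Scheme.{u}) (U : X.Opens) : Type u :=
  ↑((X.sheaf.obj ⋙ forget₂ CommRingCat RingCat).obj (op U))

/-- sections of `A`, in the form used by the presheaf tensor product -/
abbrev SS (A : X.Modules) (U : X.Opens) : Type u := ↑((CohB1.toPMod A).obj (op U))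

/-- sections of the presheaf tensor product -/
abbrev TT (U : X.Opens) : Type u := ↥((CohB1.tensorPre A B).obj (op U))

example (U : X.Opens) : TT A B U = (SS A U ⊗[RR X U] SS B U) := rfl

/-- pure tensors in the presheaf tensor product -/
noncomputable def pure (U : X.Opens) (m : Γ(A, U)) (n : Γ(B, U)) : TT A B U :=
  ((m : SS A U) ⊗ₜ[RR X U] (n : SS B U))

theorem tmul_eq (U : X.Opens) (m : Γ(A, U)) (n : Γ(B, U)) :
    SecTwist.tmul A B U m n = ((SecTwist.toTensor A B).app (op U)).hom (pure A B U m n) := rfl

theorem pure_add_left (U : X.Opens) (m m' : Γ(A, U)) (n : Γ(B, U)) :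
    pure A B U (m + m') n = pure A B U m n + pure A B U m' n :=
  TensorProduct.add_tmul (R := RR X U) (M := SS A U) (N := SS B U) m m' n

theorem pure_add_right (U : X.Opens) (m : Γ(A, U)) (n n' : Γ(B, U)) :
    pure A B U m (n + n') = pure A B U m n + pure A B U m n' :=
  TensorProduct.tmul_add (R := RR X U) (M := SS A U) (N := SS B U) m n n'

theorem pure_smul_left (U : X.Opens) (r : Γ(X, U)) (m : Γ(A, U)) (n : Γ(B, U)) :
    pure A B U (r • m) n = (r : RR X U) • pure A B U m n := rfl

theorem pure_smul_right (U : X.Opens) (r : Γ(X, U)) (m : Γ(A, U)) (n : Γ(B, U)) :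
    pure A B U m (r • n) = (r : RR X U) • pure A B U m n :=
  TensorProduct.tmul_smul (R := RR X U) (R' := RR X U) (M := SS A U) (N := SS B U) r m n

/-- `toTensor` on sections, as an additive map into the sections of the tensor product -/
noncomputable def tt (U : X.Opens) (x : TT A B U) : Γ(CohB1.tensorMod A B, U) :=
  ((SecTwist.toTensor A B).app (op U)).hom x

theorem tmul_eq' (U : X.Opens) (m : Γ(A, U)) (n : Γ(B, U)) :
    SecTwist.tmul A B U m n = tt A B U (pure A B U m n) := rfl

theorem tt_add (U : X.Opens) (x y : TT A B U) : tt A B U (x + y) = tt A B U x + tt A B U y :=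
  map_add ((SecTwist.toTensor A B).app (op U)).hom x y

theorem tt_zero (U : X.Opens) : tt A B U 0 = 0 :=
  map_zero ((SecTwist.toTensor A B).app (op U)).hom

theorem tt_smul (U : X.Opens) (r : Γ(X, U)) (x : TT A B U) :
    tt A B U ((r : RR X U) • x) = r • tt A B U x :=
  map_smul ((SecTwist.toTensor A B).app (op U)).hom (r : X.ringCatSheaf.obj.obj (op U)) x

theorem tt_map {U V : X.Opens} (i : V ⟶ U) (x : TT A B U) :
    (CohB1.tensorMod A B).presheaf.map i.op (tt A B U x) =
      tt A B V ((CohB1.tensorPre A B).map i.op x) :=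
  (PresheafOfModules.naturality_apply (SecTwist.toTensor A B) i.op x).symm

theorem tmul_add_left (U : X.Opens) (m m' : Γ(A, U)) (n : Γ(B, U)) :
    SecTwist.tmul A B U (m + m') n = SecTwist.tmul A B U m n + SecTwist.tmul A B U m' n := by
  rw [tmul_eq', tmul_eq', tmul_eq', pure_add_left, tt_add]
  rfl

theorem tmul_add_right (U : X.Opens) (m : Γ(A, U)) (n n' : Γ(B, U)) :
    SecTwist.tmul A B U m (n + n') = SecTwist.tmul A B U m n + SecTwist.tmul A B U m n' := by
  rw [tmul_eq', tmul_eq', tmul_eq', pure_add_right, tt_add]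
  rfl

theorem tmul_smul_left (U : X.Opens) (r : Γ(X, U)) (m : Γ(A, U)) (n : Γ(B, U)) :
    SecTwist.tmul A B U (r • m) n = r • (SecTwist.tmul A B U m n : Γ(CohB1.tensorMod A B, U)) := by
  rw [tmul_eq', tmul_eq', pure_smul_left, tt_smul]
  rfl

theorem tmul_smul_right (U : X.Opens) (r : Γ(X, U)) (m : Γ(A, U)) (n : Γ(B, U)) :
    SecTwist.tmul A B U m (r • n) = r • (SecTwist.tmul A B U m n : Γ(CohB1.tensorMod A B, U)) := by
  rw [tmul_eq', tmul_eq', pure_smul_right, tt_smul]
  rfl

theorem pure_map {U V : X.Opens} (i : V ⟶ U) (m : Γ(A, U)) (n : Γ(B, U)) :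
    (CohB1.tensorPre A B).map i.op (pure A B U m n) =
      pure A B V (A.presheaf.map i.op m) (B.presheaf.map i.op n) :=
  PresheafOfModules.Monoidal.tensorObj_map_tmul _ _ _

end Bilin

section Lift

variable {A B T : X.Modules}

/-- a compatible family of bilinear maps on sections -/
structure Bil (A B T : X.Modules) where
  f : ∀ V : X.Opens, Γ(A, V) → Γ(B, V) → Γ(T, V)
  add_left : ∀ V m m' n, f V (m + m') n = f V m n + f V m' n
  add_right : ∀ V m n n', f V m (n + n') = f V m n + f V m n'
  smul_left : ∀ V (r : Γ(X, V)) m n, f V (r • m) n = r • f V m n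
  smul_right : ∀ V (r : Γ(X, V)) m n, f V m (r • n) = r • f V m n
  map : ∀ {V V' : X.Opens} (i : V' ⟶ V) m n,
    T.presheaf.map i.op (f V m n) = f V' (A.presheaf.map i.op m) (B.presheaf.map i.op n)

/-- the target presheaf of modules of the adjunction -/
noncomputable abbrev tgt (T : X.Modules) : X.PresheafOfModules :=
  (PresheafOfModules.restrictScalars (𝟙 X.ringCatSheaf.obj)).obj T.val

/-- sections of the target -/
abbrev GG (T : X.Modules) (V : X.Opens) : Type u := ↑((tgt T).obj (op V))

noncomputable instance instModGG (T : X.Modules) (V : X.Opens) : Module (RR X V) (GG T V) :=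
  ((tgt T).obj (op V)).isModule

/-- the bilinear map on sections induced by a bilinear family -/
noncomputable def Bil.bilin (b : Bil A B T) (V : X.Opens) :
    SS A V →ₗ[RR X V] SS B V →ₗ[RR X V] GG T V :=
  LinearMap.mk₂ (RR X V) (b.f V) (b.add_left V) (b.smul_left V) (b.add_right V) (b.smul_right V)

/-- the linear map on sections induced by a bilinear family -/
noncomputable def Bil.lin (b : Bil A B T) (V : X.Opens) : TT A B V →ₗ[RR X V] GG T V :=
  TensorProduct.lift (b.bilin V)

theorem Bil.lin_pure (b : Bil A B T) (V : X.Opens) (m : Γ(A, V)) (n : Γ(B, V)) :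
    b.lin V (pure A B V m n) = b.f V m n :=
  TensorProduct.lift.tmul _ _

theorem addHom_ext_gen {R M N G : Type*} [CommSemiring R] [AddCommMonoid M] [Module R M]
    [AddCommMonoid N] [Module R N] [AddCommMonoid G]
    (f g : M ⊗[R] N →+ G) (h : ∀ m n, f (m ⊗ₜ n) = g (m ⊗ₜ n)) : f = g :=
  AddMonoidHom.ext fun x => TensorProduct.induction_on x (by rw [map_zero, map_zero]) h
    (fun x y hx hy => by rw [map_add, map_add, hx, hy])

theorem addHom_ext {A B : X.Modules} {V : X.Opens} {G : Type*} [AddCommMonoid G]
    (f g : TT A B V →+ G) (h : ∀ m n, f (pure A B V m n) = g (pure A B V m n)) : f = g :=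
  addHom_ext_gen (R := RR X V) (M := SS A V) (N := SS B V) f g h

/-- restriction in the presheaf tensor product as an additive map -/
noncomputable def preMap (A B : X.Modules) {V V' : X.Opens} (i : V' ⟶ V) : TT A B V →+ TT A B V' :=
  ((CohB1.tensorPre A B).map i.op).hom.toAddMonoidHom

theorem preMap_pure (A B : X.Modules) {V V' : X.Opens} (i : V' ⟶ V) (m : Γ(A, V)) (n : Γ(B, V)) :
    preMap A B i (pure A B V m n) = pure A B V' (A.presheaf.map i.op m) (B.presheaf.map i.op n) :=
  pure_map A B i m n

theorem Bil.lin_map (b : Bil A B T) {V V' : X.Opens} (i : V' ⟶ V) (x : TT A B V) :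
    b.lin V' (preMap A B i x) = T.presheaf.map i.op (b.lin V x) := by
  have h : (b.lin V').toAddMonoidHom.comp (preMap A B i) =
      (T.presheaf.map i.op).hom.comp (b.lin V).toAddMonoidHom := by
    apply addHom_ext
    intro m n
    change b.lin V' (preMap A B i (pure A B V m n)) = T.presheaf.map i.op (b.lin V (pure A B V m n))
    rw [preMap_pure, b.lin_pure, b.lin_pure, b.map]
  exact DFunLike.congr_fun h x

/-- the morphism of presheaves of modules induced by a bilinear family -/
noncomputable def Bil.preHom (b : Bil A B T) : pre A B ⟶ tgt T where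
  app V := ModuleCat.ofHom (R := ↑(X.ringCatSheaf.obj.obj V))
    (X := ↥((pre A B).obj V)) (Y := ↥((tgt T).obj V)) (b.lin V.unop)
  naturality {V V'} i := by
    ext x
    exact (b.lin_map i.unop x)

/-- the morphism out of the tensor product induced by a bilinear family -/
noncomputable def Bil.lift (b : Bil A B T) : CohB1.tensorMod A B ⟶ T :=
  ((adj X).homEquiv (pre A B) T).symm b.preHom

theorem Bil.unit_lift (b : Bil A B T) :
    (adj X).unit.app (pre A B) ≫
      (SheafOfModules.forget _ ⋙ PresheafOfModules.restrictScalars (𝟙 X.ringCatSheaf.obj)).map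
        b.lift = b.preHom := by
  have h := (adj X).homEquiv_unit (X := pre A B) (Y := T) (f := b.lift)
  exact h.symm.trans (((adj X).homEquiv (pre A B) T).apply_symm_apply b.preHom)

theorem Bil.lift_tt (b : Bil A B T) (V : X.Opens) (x : TT A B V) :
    b.lift.app V (tt A B V x) = b.lin V x :=
  congrArg (fun φ => (PresheafOfModules.Hom.app φ (op V)).hom x) b.unit_lift

theorem Bil.lift_tmul (b : Bil A B T) (V : X.Opens) (m : Γ(A, V)) (n : Γ(B, V)) :
    b.lift.app V (SecTwist.tmul A B V m n) = b.f V m n := by
  rw [tmul_eq', b.lift_tt, b.lin_pure]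

/-- `tt` as an additive map -/
noncomputable def ttAdd (A B : X.Modules) (V : X.Opens) : TT A B V →+ Γ(CohB1.tensorMod A B, V) :=
  ((SecTwist.toTensor A B).app (op V)).hom.toAddMonoidHom

theorem ttAdd_apply (A B : X.Modules) (V : X.Opens) (x : TT A B V) :
    ttAdd A B V x = tt A B V x := rfl

theorem hom_ext {φ ψ : CohB1.tensorMod A B ⟶ T}
    (h : ∀ (V : X.Opens) (m : Γ(A, V)) (n : Γ(B, V)),
      φ.app V (SecTwist.tmul A B V m n) = ψ.app V (SecTwist.tmul A B V m n)) : φ = ψ := by
  apply ((adj X).homEquiv (pre A B) T).injective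
  rw [(adj X).homEquiv_unit, (adj X).homEquiv_unit]
  apply PresheafOfModules.hom_ext
  intro V
  ext x
  have h1 : (φ.app V.unop).hom.comp (ttAdd A B V.unop) = (ψ.app V.unop).hom.comp (ttAdd A B V.unop) := by
    apply addHom_ext
    intro m n
    exact h V.unop m n
  exact DFunLike.congr_fun h1 x

end Lift

section LB

open CategoryTheory.Presheaf

/-- a morphism from a presheaf of modules to a sheaf of modules whose underlying map of abelian
presheaves is locally bijective exhibits the target as the sheafification -/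
theorem isIso_of_isLocallyBijective {P : X.PresheafOfModules} {T : X.Modules} (g : P ⟶ tgt T)
    (hinj : Presheaf.IsLocallyInjective (Opens.grothendieckTopology X)
      ((PresheafOfModules.toPresheaf _).map g))
    (hsurj : Presheaf.IsLocallySurjective (Opens.grothendieckTopology X)
      ((PresheafOfModules.toPresheaf _).map g)) :
    IsIso (((adj X).homEquiv P T).symm g) := by
  rw [← isIso_iff_of_reflects_iso _ (SheafOfModules.toSheaf X.ringCatSheaf)]
  have key := PresheafOfModules.toSheaf_map_sheafificationHomEquiv_symm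
    (J := Opens.grothendieckTopology X) (𝟙 X.ringCatSheaf.obj) (F := T) g
  have h0 : ((adj X).homEquiv P T).symm g =
      (PresheafOfModules.sheafificationHomEquiv (𝟙 X.ringCatSheaf.obj)).symm g := by
    apply ((adj X).homEquiv P T).injective
    rw [Equiv.apply_symm_apply]
    exact ((PresheafOfModules.sheafificationHomEquiv (𝟙 X.ringCatSheaf.obj)).apply_symm_apply
      g).symm
  rw [h0, key]
  let φ : P.presheaf ⟶ ((SheafOfModules.toSheaf X.ringCatSheaf).obj T).obj :=
    (PresheafOfModules.toPresheaf _).map g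
  change IsIso (((sheafificationAdjunction (Opens.grothendieckTopology X)
    AddCommGrpCat.{u}).homEquiv
    P.presheaf ((SheafOfModules.toSheaf X.ringCatSheaf).obj T)).symm φ)
  set ψ := ((sheafificationAdjunction (Opens.grothendieckTopology X) AddCommGrpCat.{u}).homEquiv
    P.presheaf ((SheafOfModules.toSheaf X.ringCatSheaf).obj T)).symm φ with hψ
  have fac : CategoryTheory.toSheafify (Opens.grothendieckTopology X) P.presheaf ≫ ψ.hom = φ := by
    have h1 := (sheafificationAdjunction (Opens.grothendieckTopology X)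
      AddCommGrpCat.{u}).homEquiv_unit (X := P.presheaf)
        (Y := (SheafOfModules.toSheaf X.ringCatSheaf).obj T) (f := ψ)
    rw [hψ, Equiv.apply_symm_apply] at h1
    exact h1.symm
  haveI : Presheaf.IsLocallyInjective (Opens.grothendieckTopology X) φ := hinj
  haveI : Presheaf.IsLocallySurjective (Opens.grothendieckTopology X) φ := hsurj
  haveI : Sheaf.IsLocallySurjective ψ :=
    Presheaf.isLocallySurjective_of_isLocallySurjective_fac _ fac
  haveI : Sheaf.IsLocallyInjective ψ :=
    Presheaf.isLocallyInjective_of_isLocallyInjective_of_isLocallySurjective_fac _ φ fac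
  exact (Sheaf.isLocallyBijective_iff_isIso ψ).mp ⟨inferInstance, inferInstance⟩

theorem isLocallyInjective_of {P : X.PresheafOfModules} {T : X.Modules} (g : P ⟶ tgt T)
    (h : ∀ (V : X.Opens) (x y : P.obj (op V)), g.app (op V) x = g.app (op V) y →
      ∀ p ∈ V, ∃ (W : X.Opens) (i : W ⟶ V), p ∈ W ∧ P.map i.op x = P.map i.op y) :
    Presheaf.IsLocallyInjective (Opens.grothendieckTopology X)
      ((PresheafOfModules.toPresheaf _).map g) where
  equalizerSieve_mem {V} x y hxy := by
    intro p hp
    obtain ⟨W, i, hpW, hW⟩ := h V.unop x y hxy p hp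
    exact ⟨W, i, hW, hpW⟩

theorem isLocallySurjective_of {P : X.PresheafOfModules} {T : X.Modules} (g : P ⟶ tgt T)
    (h : ∀ (V : X.Opens) (s : (tgt T).obj (op V)), ∀ p ∈ V, ∃ (W : X.Opens) (i : W ⟶ V), p ∈ W ∧
      ∃ x : P.obj (op W), g.app (op W) x = (tgt T).map i.op s) :
    Presheaf.IsLocallySurjective (Opens.grothendieckTopology X)
      ((PresheafOfModules.toPresheaf _).map g) where
  imageSieve_mem {V} s := by
    intro p hp
    obtain ⟨W, i, hpW, x, hx⟩ := h V s p hp
    exact ⟨W, i, ⟨x, hx⟩, hpW⟩

theorem toTensor_locInj (A B : X.Modules) (V : X.Opens) (x y : TT A B V)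
    (h : tt A B V x = tt A B V y) (p : X) (hp : p ∈ V) :
    ∃ (W : X.Opens) (i : W ⟶ V), p ∈ W ∧ preMap A B i x = preMap A B i y := by
  have h1 : (PresheafOfModules.toPresheaf _).map (SecTwist.toTensor A B) =
      CategoryTheory.toSheafify (Opens.grothendieckTopology X) (pre A B).presheaf :=
    PresheafOfModules.toPresheaf_map_sheafificationAdjunction_unit_app.{u, u, u, u}
      (J := Opens.grothendieckTopology X) (𝟙 X.ringCatSheaf.obj) (pre A B)
  have h2 : Presheaf.IsLocallyInjective (Opens.grothendieckTopology X)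
      ((PresheafOfModules.toPresheaf _).map (SecTwist.toTensor A B)) := by
    rw [h1]; exact GrothendieckTopology.instIsLocallyInjectiveToSheafify _
  have h3 := h2.equalizerSieve_mem (X := op V) x y h
  obtain ⟨W, i, hi, hpW⟩ := h3 p hp
  exact ⟨W, i, hpW, hi⟩

theorem toTensor_locSurj (A B : X.Modules) (V : X.Opens) (s : Γ(CohB1.tensorMod A B, V))
    (p : X) (hp : p ∈ V) :
    ∃ (W : X.Opens) (i : W ⟶ V), p ∈ W ∧ ∃ x : TT A B W,
      tt A B W x = (CohB1.tensorMod A B).presheaf.map i.op s := by
  have h1 : (PresheafOfModules.toPresheaf _).map (SecTwist.toTensor A B) =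
      CategoryTheory.toSheafify (Opens.grothendieckTopology X) (pre A B).presheaf :=
    PresheafOfModules.toPresheaf_map_sheafificationAdjunction_unit_app.{u, u, u, u}
      (J := Opens.grothendieckTopology X) (𝟙 X.ringCatSheaf.obj) (pre A B)
  have h2 : Presheaf.IsLocallySurjective (Opens.grothendieckTopology X)
      ((PresheafOfModules.toPresheaf _).map (SecTwist.toTensor A B)) := by
    rw [h1]; exact GrothendieckTopology.instIsLocallySurjectiveToSheafify _
  have h3 := h2.imageSieve_mem (U := V) s
  obtain ⟨W, i, ⟨x, hx⟩, hpW⟩ := h3 p hp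
  exact ⟨W, i, hpW, x, hx⟩

theorem Bil.isIso_lift {A B T : X.Modules} (b : Bil A B T)
    (hinj : ∀ (V : X.Opens) (x y : TT A B V), b.lin V x = b.lin V y → ∀ p ∈ V,
      ∃ (W : X.Opens) (i : W ⟶ V), p ∈ W ∧ preMap A B i x = preMap A B i y)
    (hsurj : ∀ (V : X.Opens) (s : Γ(T, V)), ∀ p ∈ V, ∃ (W : X.Opens) (i : W ⟶ V), p ∈ W ∧
      ∃ x : TT A B W, b.lin W x = T.presheaf.map i.op s) : IsIso b.lift :=
  isIso_of_isLocallyBijective b.preHom (isLocallyInjective_of _ hinj)
    (isLocallySurjective_of _ hsurj)

end LB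

end Groth.Agent.Helper4.TensorLift
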