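import Mathlib
import Groth.Prelude.Def_Coh
import Groth.Prelude.Def_CohB1
import Groth.Prelude.Def_Pic
import Groth.Agent.Helper4.SubExt2
import Groth.Agent.Helper4.StalkExact

universe u

open CategoryTheory CategoryTheory.Limits AlgebraicGeometry TopologicalSpace Opposite

namespace Groth.Agent.Helper4.GenLoc

variable {X : Scheme.{u}}

/-- a morphism of modules which is bijective on all sections is an isomorphism -/
theorem isIso_of_app_bijective {F G : X.Modules} (φ : F ⟶ G)
    (h : ∀ V : X.Opens, Function.Bijective (φ.app V)) : IsIso φ := by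
  suffices IsIso ((Scheme.Modules.toPresheaf X).map φ) from
    isIso_of_reflects_iso φ (Scheme.Modules.toPresheaf X)
  haveI : ∀ V, IsIso (((Scheme.Modules.toPresheaf X).map φ).app V) := by
    intro V
    exact (ConcreteCategory.isIso_iff_bijective _).mpr (h V.unop)
  exact NatIso.isIso_of_isIso_app _

theorem isIso_restrict_iff {F G : X.Modules} (φ : F ⟶ G) (U : X.Opens) :
    IsIso ((Scheme.Modules.restrictFunctor U.ι).map φ) ↔
      ∀ V : X.Opens, V ≤ U → Function.Bijective (φ.app V) := by
  constructor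
  · intro h V hV
    exact SubExt.app_bijective_of_isIso_restrict φ U V hV
  · intro h
    apply isIso_of_app_bijective
    intro T'
    exact h (U.ι ''ᵁ T') (by
      rintro _ ⟨y, _, rfl⟩
      exact y.2)

/-- the unit section of the structure module -/
def one (Y : Scheme.{u}) (T : Y.Opens) : Γ(Coh.structureModule Y, T) := (1 : Γ(Y, T))

/-- sections of the structure module are functions -/
def toFn {Y : Scheme.{u}} {T : Y.Opens} (m : Γ(Coh.structureModule Y, T)) : Γ(Y, T) := m

theorem smul_one {Y : Scheme.{u}} (T : Y.Opens) (r : Γ(Y, T)) :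
    toFn (r • one Y T) = r := mul_one r

theorem toFn_smul {Y : Scheme.{u}} {T : Y.Opens} (r : Γ(Y, T)) (m : Γ(Coh.structureModule Y, T)) :
    toFn (r • m) = r * toFn m := rfl

theorem toFn_map {Y : Scheme.{u}} {T T' : Y.Opens} (i : op T ⟶ op T')
    (m : Γ(Coh.structureModule Y, T)) :
    toFn ((Coh.structureModule Y).presheaf.map i m) = Y.presheaf.map i (toFn m) := rfl

section End

variable {Y : Scheme.{u}} (t : Coh.structureModule Y ⟶ Coh.structureModule Y)

/-- the function attached to an endomorphism of the structure module -/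
noncomputable def fn : Γ(Y, ⊤) := toFn (t.app ⊤ (one Y ⊤))

theorem app_one (T : Y.Opens) :
    toFn (t.app T (one Y T)) = Y.presheaf.map (homOfLE le_top).op (fn t) := by
  have h := StalkExact.app_res t (homOfLE (le_top : T ≤ ⊤)) (one Y ⊤)
  have h1 : (Coh.structureModule Y).presheaf.map (homOfLE (le_top : T ≤ ⊤)).op (one Y ⊤) =
      one Y T := map_one (Y.presheaf.map (homOfLE (le_top : T ≤ ⊤)).op).hom
  rw [h1] at h
  rw [h]
  rfl

theorem app_apply (T : Y.Opens) (m : Γ(Coh.structureModule Y, T)) :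
    toFn (t.app T m) = toFn m * Y.presheaf.map (homOfLE le_top).op (fn t) := by
  have h1 : m = (toFn m) • one Y T := (mul_one (toFn m)).symm
  conv_lhs => rw [h1, Scheme.Modules.Hom.app_smul, toFn_smul, app_one]

theorem isUnit_res_iff (a : Γ(Y, ⊤)) (T : Y.Opens) :
    IsUnit (Y.presheaf.map (homOfLE (le_top : T ≤ ⊤)).op a) ↔ T ≤ Y.basicOpen a := by
  constructor
  · intro h x hx
    rw [Scheme.mem_basicOpen_top]
    have := h.map (Y.presheaf.germ T x hx).hom
    rwa [TopCat.Presheaf.germ_res_apply] at this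
  · intro h
    have h1 := RingedSpace.isUnit_res_basicOpen Y.toRingedSpace a
    have h2 := h1.map (Y.presheaf.map (homOfLE h).op).hom
    have h3 : (Y.presheaf.map (homOfLE h).op).hom
        ((Y.presheaf.map (homOfLE (Y.basicOpen_le a)).op).hom a) =
        (Y.presheaf.map (homOfLE (le_top : T ≤ ⊤)).op).hom a := by
      rw [← CommRingCat.comp_apply, ← Functor.map_comp]
      rfl
    rw [← h3]
    exact h2

theorem app_bijective_iff (T : Y.Opens) :
    Function.Bijective (t.app T) ↔ T ≤ Y.basicOpen (fn t) := by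
  rw [← isUnit_res_iff]
  set a := Y.presheaf.map (homOfLE (le_top : T ≤ ⊤)).op (fn t) with ha
  constructor
  · intro h
    obtain ⟨m, hm⟩ := h.2 (one Y T)
    have h1 := app_apply t T m
    rw [hm] at h1
    exact isUnit_iff_exists_inv'.mpr ⟨toFn m, h1.symm⟩
  · intro h
    obtain ⟨b, hb⟩ := isUnit_iff_exists_inv.mp h
    constructor
    · intro m m' hmm
      have h1 := app_apply t T m
      have h2 := app_apply t T m'
      rw [hmm] at h1
      have h3 : toFn m * a = toFn m' * a := h1.symm.trans h2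
      have h4 := congrArg (· * b) h3
      simp only [mul_assoc, hb, mul_one] at h4
      exact h4
    · intro m
      refine ⟨(show Γ(Coh.structureModule Y, T) from toFn m * b), ?_⟩
      have h1 := app_apply t T (show Γ(Coh.structureModule Y, T) from toFn m * b)
      have h2 : toFn (show Γ(Coh.structureModule Y, T) from toFn m * b) * a = toFn m := by
        change toFn m * b * a = toFn m
        rw [mul_assoc, mul_comm b a, hb, mul_one]
      exact h1.trans h2

end End

section Local

variable (L : X.Modules) (s : Coh.structureModule X ⟶ L) (U : X.Opens)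
  (e : L.restrict U.ι ≅ Coh.structureModule (U : Scheme.{u}))

/-- the endomorphism of `O_U` attached to a section of `L` and a trivialization of `L` over `U` -/
noncomputable def endo : Coh.structureModule (U : Scheme.{u}) ⟶ Coh.structureModule (U : Scheme.{u}) :=
  (Scheme.Modules.restrictUnitIso U.ι).inv ≫ (Scheme.Modules.restrictFunctor U.ι).map s ≫ e.hom

theorem endo_app_bijective_iff (T' : (U : Scheme.{u}).Opens) :
    Function.Bijective ((endo L s U e).app T') ↔ Function.Bijective (s.app (U.ι ''ᵁ T')) := by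
  have h1 : Function.Bijective ((Scheme.Modules.restrictUnitIso U.ι).inv.app T') :=
    ConcreteCategory.bijective_of_isIso ((Scheme.Modules.restrictUnitIso U.ι).inv.app T')
  have h2 : Function.Bijective (e.hom.app T') :=
    ConcreteCategory.bijective_of_isIso (e.hom.app T')
  have h3 : ⇑((endo L s U e).app T') = ⇑(e.hom.app T') ∘ ⇑(s.app (U.ι ''ᵁ T')) ∘
      ⇑((Scheme.Modules.restrictUnitIso U.ι).inv.app T') := by
    funext m; rfl
  rw [h3]
  constructor
  · intro h
    have h4 := (Function.Bijective.of_comp_iff' h2 _).mp h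
    exact (Function.Bijective.of_comp_iff _ h1).mp h4
  · intro h
    exact h2.comp (h.comp h1)

theorem image_preimage_of_le' {V : X.Opens} (hV : V ≤ U) : U.ι ''ᵁ (U.ι ⁻¹ᵁ V) = V := by
  rw [Scheme.Hom.image_preimage_eq_opensRange_inf, Scheme.Opens.opensRange_ι]
  exact inf_eq_right.mpr hV

theorem genLocus_inf_eq :
    CohB1.genLocus L s ⊓ U = U.ι ''ᵁ ((U : Scheme.{u}).basicOpen (fn (endo L s U e))) := by
  apply le_antisymm
  · rintro x ⟨hxG, hxU⟩
    obtain ⟨V, hV, hxV⟩ : ∃ V : X.Opens,
        V ∈ {U : X.Opens | IsIso ((Scheme.Modules.restrictFunctor U.ι).map s)} ∧ x ∈ V :=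
      Opens.mem_sSup.mp hxG
    have hV' : IsIso ((Scheme.Modules.restrictFunctor (Scheme.Opens.ι V)).map s) := hV
    have hb := (isIso_restrict_iff s V).mp hV' (U.ι ''ᵁ (U.ι ⁻¹ᵁ V)) (by
      rw [Scheme.Hom.image_preimage_eq_opensRange_inf]; exact inf_le_right)
    rw [← endo_app_bijective_iff L s U e, app_bijective_iff] at hb
    exact ⟨⟨x, hxU⟩, hb (show (⟨x, hxU⟩ : U) ∈ U.ι ⁻¹ᵁ V from hxV), rfl⟩
  · apply le_inf
    · apply le_sSup
      change IsIso _
      rw [isIso_restrict_iff]
      intro V hV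
      have hVU : V ≤ U := hV.trans (by
        rintro _ ⟨y, _, rfl⟩
        exact y.2)
      have h1 : U.ι ⁻¹ᵁ V ≤ (U : Scheme.{u}).basicOpen (fn (endo L s U e)) := by
        intro y hy
        obtain ⟨z, hz, hzy⟩ := hV hy
        have : z = y := U.ι.isOpenEmbedding.injective hzy
        exact this ▸ hz
      have h2 := (app_bijective_iff (endo L s U e) _).mpr h1
      rw [endo_app_bijective_iff, image_preimage_of_le' U hVU] at h2
      exact h2
    · rintro _ ⟨y, _, rfl⟩
      exact y.2

include e in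
/-- over an affine open contained in a trivializing open, the generating locus is affine -/
theorem isAffineOpen_genLocus_inf {W : X.Opens} (hW : IsAffineOpen W) (hWU : W ≤ U) :
    IsAffineOpen (CohB1.genLocus L s ⊓ W) := by
  set a := fn (endo L s U e) with ha
  have hW' : IsAffineOpen (U.ι ⁻¹ᵁ W) := SubExt.isAffineOpen_preimage_of_le U.ι hW (by
    rw [Scheme.Opens.opensRange_ι]; exact hWU)
  have hE : IsAffineOpen ((U : Scheme.{u}).basicOpen
      ((U : Scheme.{u}).presheaf.map (homOfLE (le_top : U.ι ⁻¹ᵁ W ≤ ⊤)).op a)) := hW'.basicOpen _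
  rw [Scheme.basicOpen_res] at hE
  have hE2 := hE.image_of_isOpenImmersion U.ι
  have heq : U.ι ''ᵁ (U.ι ⁻¹ᵁ W ⊓ (U : Scheme.{u}).basicOpen a) = CohB1.genLocus L s ⊓ W := by
    have h1 : CohB1.genLocus L s ⊓ W = (CohB1.genLocus L s ⊓ U) ⊓ W := by
      rw [inf_assoc, inf_eq_right.mpr hWU]
    rw [h1, genLocus_inf_eq L s U e]
    ext x
    constructor
    · rintro ⟨y, ⟨hy1, hy2⟩, rfl⟩
      exact ⟨⟨y, hy2, rfl⟩, hy1⟩
    · rintro ⟨⟨y, hy, rfl⟩, hxW⟩
      exact ⟨y, ⟨hxW, hy⟩, rfl⟩
  rw [← heq]
  exact hE2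

end Local

theorem isAffineHom_genLocus_ι (L : X.Modules) (hL : PicF.IsInvertible L)
    (s : Coh.structureModule X ⟶ L) : IsAffineHom (CohB1.genLocus L s).ι := by
  apply isAffineHom_of_forall_exists_isAffineOpen
  intro x
  obtain ⟨U, hxU, ⟨e⟩⟩ := hL x
  obtain ⟨W, hW, hxW, hWU⟩ := exists_isAffineOpen_mem_and_subset (X := X) (x := x) (U := U) hxU
  refine ⟨W, hxW, hW, ?_⟩
  rw [← Scheme.Hom.isAffineOpen_iff_of_isOpenImmersion (CohB1.genLocus L s).ι,
    Scheme.Hom.image_preimage_eq_opensRange_inf, Scheme.Opens.opensRange_ι]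
  exact isAffineOpen_genLocus_inf L s U e hW hWU

end Groth.Agent.Helper4.GenLoc
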