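import Groth.Agent.Helper4.TensorAssoc
import Mathlib

set_option autoImplicit false
universe u
open CategoryTheory CategoryTheory.Limits AlgebraicGeometry Opposite TopologicalSpace TensorProduct
  MonoidalCategory

namespace Groth.Agent.Helper4.AmpleBasis

open Groth.Agent.Helper4.GenLoc Groth.Agent.Helper4.TensorInv Groth.Agent.Helper4.TensorGen
  Groth.Agent.Helper4.QAffSec Groth.Agent.Helper4.TensorLift Groth.Agent.Helper4.TwistLocal
  Groth.Agent.Helper4.TwistExt Groth.Agent.Helper4.TensorRes Groth.Agent.Helper4.TensorAssoc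
  Groth.Agent.Helper4.AmpleIso

variable {X : Scheme.{u}}

/-- the symmetry of the tensor product of modules -/
noncomputable def braidIso (A B : X.Modules) : CohB1.tensorMod A B ≅ CohB1.tensorMod B A :=
  (CohB1.sheafifyMod X).mapIso
    (show (CohB1.tensorPre A B : X.PresheafOfModules) ≅ CohB1.tensorPre B A from
      β_ (CohB1.toPMod A) (CohB1.toPMod B))

/-- the left unitor -/
noncomputable def unitorL (A : X.Modules) : CohB1.tensorMod (Coh.structureModule X) A ≅ A :=
  braidIso _ _ ≪≫ SecTwist.unitorR A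

/-- the section named by `σ`, as an element of `Γ(N, V)` -/
noncomputable def sec {N : X.Modules} (σ : Coh.structureModule X ⟶ N) (V : X.Opens) : Γ(N, V) :=
  SecTwist.val σ V

theorem sec_res {N : X.Modules} (σ : Coh.structureModule X ⟶ N) {T V : X.Opens} (h : V ≤ T) :
    N.presheaf.map (homOfLE h).op (sec σ T) = sec σ V :=
  val_res σ h

/-- sectionwise form: coordinates with respect to a frame -/
theorem genLocus_inf_eq_basicOpen_aux (N : X.Modules)
    (σ σ' : Coh.structureModule X ⟶ N) (V : X.Opens) (f : Γ(X, V))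
    (h : sec σ V = f • sec σ' V) (hV : V ≤ CohB1.genLocus N σ')
    (W T : X.Opens) (hT : T = W) (e : Γ(N, T)) (hfr : IsFrame N T e) (b b' : Γ(X, T))
    (hb : sec σ T = b • e) (hb' : sec σ' T = b' • e)
    (hbo : CohB1.genLocus N σ ⊓ W = X.basicOpen b)
    (hbo' : CohB1.genLocus N σ' ⊓ W = X.basicOpen b') (y : X) (hyV : y ∈ V) (hyW : y ∈ W) :
    y ∈ CohB1.genLocus N σ ⊓ V ↔ y ∈ X.basicOpen f := by
  subst hT
  have h1 : T ⊓ V ≤ T := inf_le_left
  have h2 : T ⊓ V ≤ V := inf_le_right
  have e1 : sec σ (T ⊓ V) = X.presheaf.map (homOfLE h1).op b • N.presheaf.map (homOfLE h1).op e := by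
    rw [← sec_res σ h1, hb, Scheme.Modules.map_smul]
  have e2 : sec σ' (T ⊓ V) =
      X.presheaf.map (homOfLE h1).op b' • N.presheaf.map (homOfLE h1).op e := by
    rw [← sec_res σ' h1, hb', Scheme.Modules.map_smul]
  have e3 : sec σ (T ⊓ V) = X.presheaf.map (homOfLE h2).op f • sec σ' (T ⊓ V) := by
    rw [← sec_res σ h2, h, Scheme.Modules.map_smul, sec_res σ' h2]
  have e4 : X.presheaf.map (homOfLE h1).op b =
      X.presheaf.map (homOfLE h2).op f * X.presheaf.map (homOfLE h1).op b' := by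
    have : (X.presheaf.map (homOfLE h1).op b -
        X.presheaf.map (homOfLE h2).op f * X.presheaf.map (homOfLE h1).op b') •
        N.presheaf.map (homOfLE h1).op e = 0 := by
      rw [sub_smul, mul_smul, ← e2, ← e3, ← e1, sub_self]
    exact sub_eq_zero.mp ((hfr _ h1).2 _ this)
  have e5 := congrArg X.basicOpen e4
  rw [Scheme.basicOpen_mul, Scheme.basicOpen_res, Scheme.basicOpen_res, Scheme.basicOpen_res,
    ← hbo, ← hbo'] at e5
  have hy' : y ∈ CohB1.genLocus N σ' := hV hyV
  have := congrArg (fun Z : X.Opens => y ∈ Z) e5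
  simp only [Opens.mem_inf, eq_iff_iff] at this
  constructor
  · intro hy
    exact (this.mp ⟨⟨hyW, hyV⟩, hy.1, hyW⟩).1.2
  · intro hy
    exact ⟨(this.mpr ⟨⟨⟨hyW, hyV⟩, hy⟩, ⟨hyW, hyV⟩, hy', hyW⟩).2.1, hyV⟩

/-- two sections of an invertible module, the first a multiple of the second over `V`, where the
second generates -/
theorem genLocus_inf_eq_basicOpen_of_smul (N : X.Modules) (hN : PicF.IsInvertible N)
    (σ σ' : Coh.structureModule X ⟶ N) (V : X.Opens) (f : Γ(X, V))
    (h : sec σ V = f • sec σ' V) (hV : V ≤ CohB1.genLocus N σ') :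
    CohB1.genLocus N σ ⊓ V = X.basicOpen f := by
  ext y
  by_cases hyV : y ∈ V
  swap
  · constructor
    · intro hy; exact absurd hy.2 hyV
    · intro hy; exact absurd (X.basicOpen_le f hy) hyV
  obtain ⟨W, hyW, -, ⟨ε⟩⟩ := exists_affine_triv N hN y
  obtain ⟨b, hb, hbo⟩ := exists_local_frame N σ W ε
  obtain ⟨b', hb', hbo'⟩ := exists_local_frame N σ' W ε
  exact genLocus_inf_eq_basicOpen_aux N σ σ' V f h hV W (W.ι ''ᵁ ⊤) (Scheme.Opens.ι_image_top W)
    (ε.inv.app ⊤ (one (W : Scheme.{u}) ⊤)) (isFrame_of_triv N W ε) b b' hb hb' hbo hbo' y hyV hyW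

/-- the intersection of a generating locus (of an invertible module) with an affine open is
affine -/
theorem isAffineOpen_genLocus_inf_affine (N : X.Modules) (hN : PicF.IsInvertible N)
    (σ : Coh.structureModule X ⟶ N) {W : X.Opens} (hW : IsAffineOpen W) :
    IsAffineOpen (CohB1.genLocus N σ ⊓ W) := by
  haveI := isAffineHom_genLocus_ι N hN σ
  have h1 : IsAffineOpen ((CohB1.genLocus N σ).ι ⁻¹ᵁ W) := hW.preimage _
  have h2 := h1.image_of_isOpenImmersion (CohB1.genLocus N σ).ι
  rwa [Scheme.Hom.image_preimage_eq_opensRange_inf, Scheme.Opens.opensRange_ι] at h2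

theorem isRetrocompact_genLocus (N : X.Modules) (hN : PicF.IsInvertible N)
    (σ : Coh.structureModule X ⟶ N) :
    IsRetrocompact (X := X) (CohB1.genLocus N σ) := by
  haveI := isAffineHom_genLocus_ι N hN σ
  exact IsRetrocompact_iff_isSpectralMap_subtypeVal.mpr (CohB1.genLocus N σ).ι.isSpectralMap

theorem quasiSeparatedSpace_of_isAmple {L : X.Modules} (h : CohB1.IsAmple L) :
    QuasiSeparatedSpace X := by
  obtain ⟨hL, -, h⟩ := h
  choose n s hx ha using h
  exact QuasiSeparatedSpace.of_isOpenCover (U := fun x => CohB1.genLocus _ (s x))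
    (eq_top_iff.mpr fun x _ => Opens.mem_iSup.mpr ⟨x, hx x⟩)
    (fun x => isRetrocompact_genLocus _ (isInvertible_tensorPow hL _) (s x))
    (fun x => (ha x).isQuasiSeparated)

/-- for an ample `L`, the affine opens `X_τ` (`τ` a section of a positive power) form a basis -/
theorem exists_genLocus_nhd {L : X.Modules} (h : CohB1.IsAmple L) (x : X) (W : X.Opens)
    (hxW : x ∈ W) :
    ∃ (m : ℕ) (τ : Coh.structureModule X ⟶ CohB1.tensorPow L (m + 1)),
      x ∈ CohB1.genLocus _ τ ∧ CohB1.genLocus _ τ ≤ W ∧ IsAffineOpen (CohB1.genLocus _ τ) := by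
  have hqs := quasiSeparatedSpace_of_isAmple h
  obtain ⟨hL, hX, hcov⟩ := h
  haveI := hX
  haveI := hqs
  obtain ⟨n, s, hxs, hsa⟩ := hcov x
  obtain ⟨M, hM⟩ : ∃ M, M = CohB1.tensorPow L (n + 1) := ⟨_, rfl⟩
  have hMinv : PicF.IsInvertible (CohB1.tensorPow L (n + 1)) := isInvertible_tensorPow hL (n + 1)
  obtain ⟨f, hfW, hxf⟩ := hsa.exists_basicOpen_le (V := W) ⟨x, hxW⟩ hxs
  haveI : (Coh.structureModule X).IsQuasicoherent :=
    isQuasicoherent_of_isInvertible _ isInvertible_structureModule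
  obtain ⟨k, hk, t', ht'⟩ := exists_twist_extends (CohB1.tensorPow L (n + 1)) hMinv s
    (Coh.structureModule X) (show Γ(Coh.structureModule X, CohB1.genLocus _ s) from f)
  obtain ⟨σ0, hσ0⟩ := SubExt.exists_unit_hom_of_section
    (CohB1.tensorMod (Coh.structureModule X) (CohB1.tensorPow (CohB1.tensorPow L (n + 1)) k)) t'
  let σ : Coh.structureModule X ⟶
    CohB1.tensorMod (Coh.structureModule X) (CohB1.tensorPow (CohB1.tensorPow L (n + 1)) k) := σ0
  let σ' : Coh.structureModule X ⟶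
    CohB1.tensorMod (Coh.structureModule X) (CohB1.tensorPow (CohB1.tensorPow L (n + 1)) k) :=
    SecTwist.tmulHom (𝟙 _) (SecTwist.powHom s k)
  have hσ' : CohB1.genLocus _ σ' = CohB1.genLocus _ s := by
    obtain ⟨k', rfl⟩ := Nat.exists_eq_succ_of_ne_zero hk.ne'
    rw [genLocus_tmulHom _ _ isInvertible_structureModule (isInvertible_tensorPow hMinv _),
      genLocus_id, top_inf_eq, genLocus_powHom hMinv]
  have hsec : sec σ (CohB1.genLocus _ s) = f • sec σ' (CohB1.genLocus _ s) := by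
    have h1 : sec σ (CohB1.genLocus _ s) = SecTwist.twist s k (Coh.structureModule X)
        (CohB1.genLocus _ s) (show Γ(Coh.structureModule X, CohB1.genLocus _ s) from f) := by
      rw [← ht', ← sec_res σ (le_top : CohB1.genLocus _ s ≤ ⊤)]
      exact congrArg _ hσ0
    have h2 : sec σ' (CohB1.genLocus _ s) = SecTwist.tmul (Coh.structureModule X) _
        (CohB1.genLocus _ s) (one X _) (SecTwist.pow s k _) := by
      unfold sec
      rw [SecTwist.val_tmulHom, SecTwist.val_powHom]
      rfl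
    have h3 := tmul_smul_left (Coh.structureModule X)
      (CohB1.tensorPow (CohB1.tensorPow L (n + 1)) k) (CohB1.genLocus _ s) f (one X _)
      (SecTwist.pow s k _)
    have h4 : f • one X (CohB1.genLocus (CohB1.tensorPow L (n + 1)) s) =
        (show Γ(Coh.structureModule X, CohB1.genLocus _ s) from f) := mul_one f
    rw [h1, h2]
    refine Eq.trans ?_ h3
    exact congrArg (fun q => SecTwist.tmul (Coh.structureModule X)
      (CohB1.tensorPow (CohB1.tensorPow L (n + 1)) k) (CohB1.genLocus _ s) q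
      (SecTwist.pow s k _)) h4.symm
  have hG := genLocus_inf_eq_basicOpen_of_smul _
    (isInvertible_tensorMod isInvertible_structureModule (isInvertible_tensorPow hMinv k))
    σ σ' (CohB1.genLocus _ s) f hsec hσ'.ge
  have hτ0 : CohB1.genLocus _ (SecTwist.tmulHom σ s) = X.basicOpen f := by
    rw [genLocus_tmulHom _ _
      (isInvertible_tensorMod isInvertible_structureModule (isInvertible_tensorPow hMinv k)) hMinv,
      hG]
  obtain ⟨m, hm⟩ : ∃ m, (n + 1) * (k + 1) = m + 1 :=
    Nat.exists_eq_succ_of_ne_zero (Nat.mul_pos (Nat.succ_pos n) (Nat.succ_pos k)).ne'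
  let e : CohB1.tensorMod
      (CohB1.tensorMod (Coh.structureModule X) (CohB1.tensorPow (CohB1.tensorPow L (n + 1)) k))
      (CohB1.tensorPow L (n + 1)) ≅ CohB1.tensorPow L (m + 1) :=
    PicGrp.tensorModIso (unitorL (CohB1.tensorPow (CohB1.tensorPow L (n + 1)) k))
        (Iso.refl (CohB1.tensorPow L (n + 1))) ≪≫
      powMulIso L hL (n + 1) (k + 1) ≪≫ powCastIso L hm
  refine ⟨m, SecTwist.tmulHom σ s ≫ e.hom, ?_, ?_, ?_⟩
  · rw [genLocus_comp_iso, hτ0]; exact hxf
  · rw [genLocus_comp_iso, hτ0]; exact hfW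
  · rw [genLocus_comp_iso, hτ0]; exact hsa.basicOpen f

/-- S2126 -/
theorem isAmple_iff_isBasis [CompactSpace X] (L : X.Modules) (hL : PicF.IsInvertible L) :
    CohB1.IsAmple L ↔
      TopologicalSpace.Opens.IsBasis
        {U : X.Opens | ∃ (n : ℕ) (s : Coh.structureModule X ⟶ CohB1.tensorPow L (n + 1)),
          U = CohB1.genLocus _ s} := by
  constructor
  · intro h
    refine Opens.isBasis_iff_nbhd.mpr fun {U x} hx => ?_
    obtain ⟨m, τ, h1, h2, -⟩ := exists_genLocus_nhd h x U hx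
    exact ⟨_, ⟨m, τ, rfl⟩, h1, h2⟩
  · intro hB
    refine ⟨hL, inferInstance, fun x => ?_⟩
    obtain ⟨W, hW, hxW, -⟩ := exists_isAffineOpen_mem_and_subset (X := X) (x := x) (U := ⊤) trivial
    obtain ⟨_, ⟨n, s, rfl⟩, hx, hle⟩ := Opens.isBasis_iff_nbhd.mp hB hxW
    refine ⟨n, s, hx, ?_⟩
    have := isAffineOpen_genLocus_inf_affine _ (isInvertible_tensorPow hL (n + 1)) s hW
    rwa [inf_eq_left.mpr hle] at this

/-- S3566 -/
theorem isAmple_iff_isTopologicalBasis [CompactSpace X] (L : X.Modules)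
    (hL : PicF.IsInvertible L) :
    CohB1.IsAmple L ↔
      TopologicalSpace.IsTopologicalBasis
        {U : Set X | ∃ (n : ℕ) (s : Coh.structureModule X ⟶ CohB1.tensorPow L (n + 1)),
          U = (CohB1.genLocus (CohB1.tensorPow L (n + 1)) s : Set X)} := by
  rw [isAmple_iff_isBasis L hL]
  unfold Opens.IsBasis
  have : ((↑) : X.Opens → Set X) '' {U : X.Opens | ∃ (n : ℕ)
      (s : Coh.structureModule X ⟶ CohB1.tensorPow L (n + 1)), U = CohB1.genLocus _ s} =
      {U : Set X | ∃ (n : ℕ) (s : Coh.structureModule X ⟶ CohB1.tensorPow L (n + 1)),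
        U = (CohB1.genLocus (CohB1.tensorPow L (n + 1)) s : Set X)} := by
    ext U
    constructor
    · rintro ⟨_, ⟨n, s, rfl⟩, rfl⟩
      exact ⟨n, s, rfl⟩
    · rintro ⟨n, s, rfl⟩
      exact ⟨_, ⟨n, s, rfl⟩, rfl⟩
  rw [this]

end Groth.Agent.Helper4.AmpleBasis
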