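import Groth.Agent.Helper4.AmpleBasis
import Mathlib

set_option autoImplicit false
universe u
open CategoryTheory CategoryTheory.Limits AlgebraicGeometry Opposite TopologicalSpace TensorProduct
  MonoidalCategory

namespace Groth.Agent.Helper4.AmpleTensor

open Groth.Agent.Helper4.GenLoc Groth.Agent.Helper4.TensorInv Groth.Agent.Helper4.TensorGen
  Groth.Agent.Helper4.QAffSec Groth.Agent.Helper4.TensorLift Groth.Agent.Helper4.TwistLocal
  Groth.Agent.Helper4.TwistExt Groth.Agent.Helper4.TensorRes Groth.Agent.Helper4.TensorAssoc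
  Groth.Agent.Helper4.AmpleIso Groth.Agent.Helper4.AmpleBasis

variable {X : Scheme.{u}}

/-- `(A ⊗ B) ⊗ (C ⊗ D) ≅ (A ⊗ C) ⊗ (B ⊗ D)` for invertible modules -/
noncomputable def interchangeIso (A B C D : X.Modules) (hB : PicF.IsInvertible B)
    (hC : PicF.IsInvertible C) (hD : PicF.IsInvertible D) :
    CohB1.tensorMod (CohB1.tensorMod A B) (CohB1.tensorMod C D) ≅
      CohB1.tensorMod (CohB1.tensorMod A C) (CohB1.tensorMod B D) :=
  assocIso A B (CohB1.tensorMod C D) hB (isInvertible_tensorMod hC hD) ≪≫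
    PicGrp.tensorModIso (Iso.refl A)
      ((assocIso B C D hC hD).symm ≪≫ PicGrp.tensorModIso (braidIso B C) (Iso.refl D) ≪≫
        assocIso C B D hB hD) ≪≫
    (assocIso A C (CohB1.tensorMod B D) hC (isInvertible_tensorMod hB hD)).symm

/-- `L^N ⊗ L'^N ≅ (L ⊗ L')^N` -/
noncomputable def powTensorIso (L L' : X.Modules) (hL : PicF.IsInvertible L)
    (hL' : PicF.IsInvertible L') :
    ∀ N : ℕ, CohB1.tensorMod (CohB1.tensorPow L N) (CohB1.tensorPow L' N) ≅
      CohB1.tensorPow (CohB1.tensorMod L L') N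
  | 0 => SecTwist.unitorR (Coh.structureModule X)
  | N + 1 =>
    interchangeIso (CohB1.tensorPow L N) L (CohB1.tensorPow L' N) L' hL
        (isInvertible_tensorPow hL' N) hL' ≪≫
      PicGrp.tensorModIso (powTensorIso L L' hL hL' N) (Iso.refl (CohB1.tensorMod L L'))

/-- S2328 -/
theorem isAmple_tensorMod_of_cover {L L' : X.Modules} (hL : CohB1.IsAmple L)
    (hL' : PicF.IsInvertible L')
    (h : ∀ x : X, ∃ (n : ℕ) (s' : Coh.structureModule X ⟶ CohB1.tensorPow L' (n + 1)),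
      x ∈ CohB1.genLocus _ s') :
    CohB1.IsAmple (CohB1.tensorMod L L') := by
  have hLinv := hL.1
  refine ⟨isInvertible_tensorMod hLinv hL', hL.2.1, fun x => ?_⟩
  obtain ⟨n', s', hxs'⟩ := h x
  obtain ⟨n, s, hxs, hle, hsa⟩ := exists_genLocus_nhd hL x _ hxs'
  obtain ⟨m, hm⟩ : ∃ m, (n + 1) * (n' + 1) = m + 1 :=
    Nat.exists_eq_succ_of_ne_zero (Nat.mul_pos (Nat.succ_pos n) (Nat.succ_pos n')).ne'
  have hm' : (n' + 1) * (n + 1) = m + 1 := by rw [Nat.mul_comm]; exact hm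
  let σ : Coh.structureModule X ⟶ CohB1.tensorPow L (m + 1) :=
    SecTwist.powHom s (n' + 1) ≫ (powMulIso L hLinv (n + 1) (n' + 1) ≪≫ powCastIso L hm).hom
  let σ' : Coh.structureModule X ⟶ CohB1.tensorPow L' (m + 1) :=
    SecTwist.powHom s' (n + 1) ≫ (powMulIso L' hL' (n' + 1) (n + 1) ≪≫ powCastIso L' hm').hom
  have hσ : CohB1.genLocus _ σ = CohB1.genLocus _ s := by
    rw [genLocus_comp_iso, genLocus_powHom (isInvertible_tensorPow hLinv (n + 1))]
  have hσ' : CohB1.genLocus _ σ' = CohB1.genLocus _ s' := by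
    rw [genLocus_comp_iso, genLocus_powHom (isInvertible_tensorPow hL' (n' + 1))]
  have hτ : CohB1.genLocus _ (SecTwist.tmulHom σ σ' ≫ (powTensorIso L L' hLinv hL' (m + 1)).hom) =
      CohB1.genLocus _ s := by
    rw [genLocus_comp_iso, genLocus_tmulHom _ _ (isInvertible_tensorPow hLinv _)
      (isInvertible_tensorPow hL' _), hσ, hσ']
    exact inf_eq_left.mpr hle
  exact ⟨m, SecTwist.tmulHom σ σ' ≫ (powTensorIso L L' hLinv hL' (m + 1)).hom,
    by rw [hτ]; exact hxs, by rw [hτ]; exact hsa⟩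

theorem isAmple_tensorMod {L L' : X.Modules} (hL : CohB1.IsAmple L) (hL' : CohB1.IsAmple L') :
    CohB1.IsAmple (CohB1.tensorMod L L') :=
  isAmple_tensorMod_of_cover hL hL'.1 fun x => by
    obtain ⟨n, s, hx, -⟩ := hL'.2.2 x
    exact ⟨n, s, hx⟩

/-- S4374 -/
theorem isQuasiAffine_of_inverse_ample {L L' : X.Modules}
    (hinv : ClSub.IsInverseOf L L') (hL : CohB1.IsAmple L) (hL' : CohB1.IsAmple L') :
    X.IsQuasiAffine := by
  obtain ⟨e⟩ := hinv
  exact isQuasiAffine_of_isAmple_unit (isAmple_of_iso e (isAmple_tensorMod hL hL'))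

/-- S4384 -/
theorem isRelAmple_tensorMod {Y : Scheme.{u}} (f : X ⟶ Y) {L L' : X.Modules}
    (hL : RelAmple.IsRelAmple f L) (hL' : RelAmple.IsRelAmple f L') :
    RelAmple.IsRelAmple f (CohB1.tensorMod L L') := by
  refine ⟨hL.1, fun V => ?_⟩
  exact isAmple_of_iso (resIso (f ⁻¹ᵁ V.1).ι L L') (isAmple_tensorMod (hL.2 V) (hL'.2 V))

end Groth.Agent.Helper4.AmpleTensor
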