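import Mathlib
import Groth.Agent.Helper4.AmpleLocal
import Groth.Prelude.Def_Curv2

set_option autoImplicit false
open CategoryTheory Limits AlgebraicGeometry TopologicalSpace Opposite
universe u

namespace Groth.Agent.Helper4.GGSec

open Groth.Agent.Helper4.GenLoc Groth.Agent.Helper4.AmpleLocal

/-- a function vanishing at the only point in the image of a reduced scheme pulls back to zero -/
theorem app_eq_zero_of_notMem_basicOpen {Q W : Scheme.{u}} [IsReduced Q] (k : Q ⟶ W) (y : W)
    (hk : ∀ q : Q, k q = y) (f : Γ(W, ⊤)) (hy : y ∉ W.basicOpen f) : k.app ⊤ f = 0 := by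
  rw [← AlgebraicGeometry.basicOpen_eq_bot_iff, ← Scheme.preimage_basicOpen]
  ext q
  simp only [Opens.coe_bot, Set.mem_empty_iff_false, iff_false]
  intro hq
  have : k q ∈ W.basicOpen f := hq
  rw [hk q] at this
  exact hy this

variable {X : Scheme.{u}}

/-- if a family of global sections generates `L` (a quotient of a free module), and `L` is trivial
near `x`, then one of the sections generates `L` at `x` -/
theorem exists_mem_genLocus_of_epi (L : X.Modules) {ι : Type u}
    (p : (SheafOfModules.free ι : X.Modules) ⟶ L) (hp : Epi p) (W : X.Opens)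
    (ε : L.restrict W.ι ≅ Coh.structureModule (W : Scheme.{u})) (x : X) (hx : x ∈ W) :
    ∃ i : ι, x ∈ CohB1.genLocus L (SheafOfModules.ιFree i ≫ p) := by
  by_contra hcon
  push Not at hcon
  let R := Scheme.Modules.restrictFunctor W.ι
  let t : ι → (Coh.structureModule X ⟶ L) := fun i => SheafOfModules.ιFree i ≫ p
  let y : (W : Scheme.{u}) := ⟨x, hx⟩
  have hy : ∀ i, y ∉ (W : Scheme.{u}).basicOpen (fn (endo L (t i) W ε)) := by
    intro i hyi
    apply hcon i
    have : x ∈ W.ι ''ᵁ ((W : Scheme.{u}).basicOpen (fn (endo L (t i) W ε))) := ⟨y, hyi, rfl⟩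
    rw [← genLocus_inf_eq] at this
    exact this.1
  let Q : Scheme.{u} := Spec ((W : Scheme.{u}).residueField y)
  let k : Q ⟶ (W : Scheme.{u}) := (W : Scheme.{u}).fromSpecResidueField y
  have hk : ∀ q : Q, k q = y := fun q => Scheme.fromSpecResidueField_apply y q
  let u : Coh.structureModule (W : Scheme.{u}) ⟶
      (Scheme.Modules.pushforward k).obj (Coh.structureModule Q) :=
    SheafOfModules.unitToPushforwardObjUnit k.toRingCatSheafHom
  have h1 : ∀ i, endo L (t i) W ε ≫ u = 0 := by
    intro i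
    apply unit_hom_ext
    have e1 : (endo L (t i) W ε ≫ u).app ⊤ (one (W : Scheme.{u}) ⊤) =
        k.app ⊤ (fn (endo L (t i) W ε)) := rfl
    rw [e1, app_eq_zero_of_notMem_basicOpen k y hk _ (hy i)]
    rfl
  have h2 : ∀ i, R.map (t i) ≫ ε.hom ≫ u = 0 := by
    intro i
    have h := h1 i
    unfold endo at h
    rw [Category.assoc, Category.assoc] at h
    have h' : (Scheme.Modules.restrictUnitIso W.ι).inv ≫ (R.map (t i) ≫ ε.hom ≫ u) =
        (Scheme.Modules.restrictUnitIso W.ι).inv ≫ 0 := by rw [comp_zero]; exact h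
    exact (cancel_epi _).mp h'
  have hc := isColimitOfPreserves R (SheafOfModules.isColimitFreeCofan (R := X.ringCatSheaf) ι)
  have h3 : R.map p ≫ ε.hom ≫ u = 0 := by
    apply hc.hom_ext
    rintro ⟨i⟩
    have h := h2 i
    change R.map (SheafOfModules.ιFree i ≫ p) ≫ ε.hom ≫ u = 0 at h
    rw [R.map_comp, Category.assoc] at h
    exact h.trans comp_zero.symm
  haveI : R.PreservesEpimorphisms :=
    Functor.preservesEpimorphisms_of_adjunction (Scheme.Modules.restrictAdjunction W.ι)
  haveI : Epi (R.map p) := @Functor.map_epi _ _ _ _ R _ _ _ p hp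
  have h4 : ε.hom ≫ u = 0 := by
    have : R.map p ≫ (ε.hom ≫ u) = R.map p ≫ 0 := by rw [comp_zero]; exact h3
    exact (cancel_epi _).mp this
  have h5 : u = 0 := by
    have : ε.hom ≫ u = ε.hom ≫ 0 := by rw [comp_zero]; exact h4
    exact (cancel_epi _).mp this
  have h6 : k.app ⊤ (1 : Γ((W : Scheme.{u}), ⊤)) = 0 := by
    have : u.app ⊤ (one (W : Scheme.{u}) ⊤) = k.app ⊤ (1 : Γ((W : Scheme.{u}), ⊤)) := rfl
    rw [← this, h5]
    rfl
  rw [map_one] at h6
  haveI : Nonempty Q := inferInstance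
  haveI : Nonempty ((k ⁻¹ᵁ ⊤ : Q.Opens)) := ⟨⟨Classical.arbitrary Q, trivial⟩⟩
  haveI : Nontrivial Γ(Q, k ⁻¹ᵁ ⊤) := Scheme.component_nontrivial Q _
  exact one_ne_zero h6

open Groth.Agent.Helper4.TensorInv Groth.Agent.Helper4.TensorGen Groth.Agent.Helper4.TensorAssoc
  Groth.Agent.Helper4.AmpleBasis Groth.Agent.Helper4.AmpleIso

/-- a globally generated invertible module has, at every point, a global section generating it there -/
theorem exists_mem_genLocus_of_isGloballyGenerated (L : X.Modules) (hL : PicF.IsInvertible L)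
    (hg : Curv2.IsGloballyGenerated L) (x : X) :
    ∃ t : Coh.structureModule X ⟶ L, x ∈ CohB1.genLocus L t := by
  obtain ⟨ι, p, hp⟩ := hg
  obtain ⟨W, hxW, -, ⟨ε⟩⟩ := TwistLocal.exists_affine_triv L hL x
  obtain ⟨i, hi⟩ := exists_mem_genLocus_of_epi L p hp W ε x hxW
  exact ⟨_, hi⟩

/-- iterated tensor product of a list of modules -/
noncomputable def tensorList {α : Type*} (Lx : α → X.Modules) : List α → X.Modules
  | [] => Coh.structureModule X
  | a :: l => CohB1.tensorMod (Lx a) (tensorList Lx l)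

theorem isInvertible_tensorList {α : Type*} (Lx : α → X.Modules)
    (hinv : ∀ a, PicF.IsInvertible (Lx a)) (l : List α) :
    PicF.IsInvertible (tensorList Lx l) := by
  induction l with
  | nil => exact isInvertible_structureModule
  | cons a l ih => exact isInvertible_tensorMod (hinv a) ih

theorem exists_section_tensorList {α : Type*} (Lx : α → X.Modules)
    (hinv : ∀ a, PicF.IsInvertible (Lx a))
    (hgen : ∀ a (y : X), ∃ t : Coh.structureModule X ⟶ Lx a, y ∈ CohB1.genLocus _ t)
    (l : List α) (y : X) :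
    ∃ σ : Coh.structureModule X ⟶ tensorList Lx l, y ∈ CohB1.genLocus _ σ := by
  induction l with
  | nil =>
    refine ⟨𝟙 _, ?_⟩
    change y ∈ CohB1.genLocus (Coh.structureModule X) (𝟙 _)
    rw [genLocus_id]; trivial
  | cons a l ih =>
    obtain ⟨t, ht⟩ := hgen a y
    obtain ⟨σ', hσ'⟩ := ih
    refine ⟨SecTwist.tmulHom t σ', ?_⟩
    change y ∈ CohB1.genLocus (CohB1.tensorMod (Lx a) (tensorList Lx l)) (SecTwist.tmulHom t σ')
    rw [genLocus_tmulHom _ _ (hinv a) (isInvertible_tensorList Lx hinv l)]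
    exact ⟨ht, hσ'⟩

theorem exists_section_tensorList_le {α : Type*} (Lx : α → X.Modules)
    (sx : ∀ a, Coh.structureModule X ⟶ Lx a)
    (hinv : ∀ a, PicF.IsInvertible (Lx a))
    (hgen : ∀ a (y : X), ∃ t : Coh.structureModule X ⟶ Lx a, y ∈ CohB1.genLocus _ t)
    (l : List α) (y : X) (a : α) (ha : a ∈ l) (hy : y ∈ CohB1.genLocus _ (sx a)) :
    ∃ σ : Coh.structureModule X ⟶ tensorList Lx l, y ∈ CohB1.genLocus _ σ ∧
      CohB1.genLocus _ σ ≤ CohB1.genLocus _ (sx a) := by
  induction l with
  | nil => simp at ha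
  | cons a' l ih =>
    by_cases h : a = a'
    · subst h
      obtain ⟨σ', hσ'⟩ := exists_section_tensorList Lx hinv hgen l y
      have hG := genLocus_tmulHom _ _ (hinv a) (isInvertible_tensorList Lx hinv l) (sx a) σ'
      refine ⟨SecTwist.tmulHom (sx a) σ', ?_, ?_⟩
      · change y ∈ CohB1.genLocus (CohB1.tensorMod (Lx a) (tensorList Lx l)) _
        rw [hG]
        exact ⟨hy, hσ'⟩
      · change CohB1.genLocus (CohB1.tensorMod (Lx a) (tensorList Lx l)) _ ≤ _
        rw [hG]
        exact inf_le_left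
    · have ha' : a ∈ l := by
        rcases List.mem_cons.mp ha with h' | h'
        · exact absurd h' h
        · exact h'
      obtain ⟨σ', hσ', hle⟩ := ih ha'
      obtain ⟨t, ht⟩ := hgen a' y
      have hG := genLocus_tmulHom _ _ (hinv a') (isInvertible_tensorList Lx hinv l) t σ'
      refine ⟨SecTwist.tmulHom t σ', ?_, ?_⟩
      · change y ∈ CohB1.genLocus (CohB1.tensorMod (Lx a') (tensorList Lx l)) _
        rw [hG]
        exact ⟨ht, hσ'⟩
      · change CohB1.genLocus (CohB1.tensorMod (Lx a') (tensorList Lx l)) _ ≤ _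
        rw [hG]
        exact inf_le_right.trans hle

/-- S1664 -/
theorem exists_isAmple_of_globallyGenerated_cover [CompactSpace X]
    (h : ∀ x : X, ∃ (L : X.Modules) (s : Coh.structureModule X ⟶ L), PicF.IsInvertible L ∧
      Curv2.IsGloballyGenerated L ∧ x ∈ CohB1.genLocus L s ∧ IsAffineOpen (CohB1.genLocus L s)) :
    ∃ M : X.Modules, CohB1.IsAmple M := by
  classical
  choose Lx sx hinv hgg hmem haff using h
  obtain ⟨S, hS⟩ := CompactSpace.elim_nhds_subcover (fun x => (CohB1.genLocus (Lx x) (sx x) : Set X))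
    (fun x => (CohB1.genLocus (Lx x) (sx x)).isOpen.mem_nhds (hmem x))
  have hgen : ∀ a (y : X), ∃ t : Coh.structureModule X ⟶ Lx a, y ∈ CohB1.genLocus _ t :=
    fun a y => exists_mem_genLocus_of_isGloballyGenerated (Lx a) (hinv a) (hgg a) y
  have hMinv := isInvertible_tensorList Lx hinv S.toList
  refine ⟨tensorList Lx S.toList, hMinv, inferInstance, fun y => ?_⟩
  have hy' : y ∈ ⋃ x ∈ S, (CohB1.genLocus (Lx x) (sx x) : Set X) := by rw [hS]; trivial
  simp only [Set.mem_iUnion] at hy'
  obtain ⟨a, haS, hya⟩ := hy'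
  obtain ⟨σ, hyσ, hle⟩ := exists_section_tensorList_le Lx sx hinv hgen S.toList y a
    (Finset.mem_toList.mpr haS) hya
  let e : tensorList Lx S.toList ≅ CohB1.tensorPow (tensorList Lx S.toList) (0 + 1) :=
    (unitorL (tensorList Lx S.toList)).symm
  refine ⟨0, σ ≫ e.hom, ?_, ?_⟩
  · rw [genLocus_comp_iso]; exact hyσ
  · rw [genLocus_comp_iso]
    have := isAffineOpen_genLocus_inf_affine _ hMinv σ (haff a)
    rwa [inf_eq_left.mpr hle] at this

end Groth.Agent.Helper4.GGSec
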