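import Groth.Agent.Helper4.AmpleLocal
import Groth.Agent.Helper4.GenLocIso
import Mathlib

set_option autoImplicit false
universe u
open CategoryTheory CategoryTheory.Limits AlgebraicGeometry Opposite TopologicalSpace TensorProduct
  MonoidalCategory

namespace Groth.Agent.Helper4.AmpleFinite

open Groth.Agent.Helper4.GenLoc Groth.Agent.Helper4.TensorInv Groth.Agent.Helper4.TensorGen
  Groth.Agent.Helper4.QAffSec Groth.Agent.Helper4.TensorLift Groth.Agent.Helper4.TwistLocal
  Groth.Agent.Helper4.TwistExt Groth.Agent.Helper4.TensorRes Groth.Agent.Helper4.TensorAssoc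
  Groth.Agent.Helper4.AmpleIso Groth.Agent.Helper4.AmpleBasis

variable {X : Scheme.{u}}

/-- for a section `s` of a positive power of an invertible module on a qcqs scheme and a function `f`
on `X_s`, the open `D(f) ⊆ X_s` is again of the form `X_τ` -/
theorem exists_genLocus_eq_basicOpen [CompactSpace X] [QuasiSeparatedSpace X] {L : X.Modules}
    (hL : PicF.IsInvertible L) (n : ℕ) (s : Coh.structureModule X ⟶ CohB1.tensorPow L (n + 1))
    (f : Γ(X, CohB1.genLocus _ s)) :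
    ∃ (m : ℕ) (τ : Coh.structureModule X ⟶ CohB1.tensorPow L (m + 1)),
      CohB1.genLocus _ τ = X.basicOpen f := by
  have hMinv : PicF.IsInvertible (CohB1.tensorPow L (n + 1)) := isInvertible_tensorPow hL (n + 1)
  haveI : (Coh.structureModule X).IsQuasicoherent :=
    isQuasicoherent_of_isInvertible _ isInvertible_structureModule
  obtain ⟨k, hk, t', ht'⟩ := exists_twist_extends (CohB1.tensorPow L (n + 1)) hMinv s
    (Coh.structureModule X) (show Γ(Coh.structureModule X, CohB1.genLocus _ s) from f)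
  obtain ⟨σ0, hσ0⟩ := SubExt.exists_unit_hom_of_section
    (CohB1.tensorMod (Coh.structureModule X) (CohB1.tensorPow (CohB1.tensorPow L (n + 1)) k)) t'
  let σ : Coh.structureModule X ⟶
    CohB1.tensorMod (Coh.structureModule X) (CohB1.tensorPow (CohB1.tensorPow L (n + 1)) k) := σ0
  let σ' : Coh.structureModule X ⟶
    CohB1.tensorMod (Coh.structureModule X) (CohB1.tensorPow (CohB1.tensorPow L (n + 1)) k) :=
    SecTwist.tmulHom (𝟙 _) (SecTwist.powHom s k)
  have hσ' : CohB1.genLocus _ σ' = CohB1.genLocus _ s := by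
    obtain ⟨k', rfl⟩ := Nat.exists_eq_succ_of_ne_zero hk.ne'
    rw [genLocus_tmulHom _ _ isInvertible_structureModule (isInvertible_tensorPow hMinv _),
      genLocus_id, top_inf_eq, genLocus_powHom hMinv]
  have hsec : sec σ (CohB1.genLocus _ s) = f • sec σ' (CohB1.genLocus _ s) := by
    have h1 : sec σ (CohB1.genLocus _ s) = SecTwist.twist s k (Coh.structureModule X)
        (CohB1.genLocus _ s) (show Γ(Coh.structureModule X, CohB1.genLocus _ s) from f) := by
      rw [← ht', ← sec_res σ (le_top : CohB1.genLocus _ s ≤ ⊤)]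
      exact congrArg _ hσ0
    have h2 : sec σ' (CohB1.genLocus _ s) = SecTwist.tmul (Coh.structureModule X) _
        (CohB1.genLocus _ s) (one X _) (SecTwist.pow s k _) := by
      unfold sec
      rw [SecTwist.val_tmulHom, SecTwist.val_powHom]
      rfl
    have h3 := tmul_smul_left (Coh.structureModule X)
      (CohB1.tensorPow (CohB1.tensorPow L (n + 1)) k) (CohB1.genLocus _ s) f (one X _)
      (SecTwist.pow s k _)
    have h4 : f • one X (CohB1.genLocus (CohB1.tensorPow L (n + 1)) s) =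
        (show Γ(Coh.structureModule X, CohB1.genLocus _ s) from f) := mul_one f
    rw [h1, h2]
    refine Eq.trans ?_ h3
    exact congrArg (fun q => SecTwist.tmul (Coh.structureModule X)
      (CohB1.tensorPow (CohB1.tensorPow L (n + 1)) k) (CohB1.genLocus _ s) q
      (SecTwist.pow s k _)) h4.symm
  have hG := genLocus_inf_eq_basicOpen_of_smul _
    (isInvertible_tensorMod isInvertible_structureModule (isInvertible_tensorPow hMinv k))
    σ σ' (CohB1.genLocus _ s) f hsec hσ'.ge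
  have hτ0 : CohB1.genLocus _ (SecTwist.tmulHom σ s) = X.basicOpen f := by
    rw [genLocus_tmulHom _ _
      (isInvertible_tensorMod isInvertible_structureModule (isInvertible_tensorPow hMinv k)) hMinv,
      hG]
  obtain ⟨m, hm⟩ : ∃ m, (n + 1) * (k + 1) = m + 1 :=
    Nat.exists_eq_succ_of_ne_zero (Nat.mul_pos (Nat.succ_pos n) (Nat.succ_pos k)).ne'
  let e : CohB1.tensorMod
      (CohB1.tensorMod (Coh.structureModule X) (CohB1.tensorPow (CohB1.tensorPow L (n + 1)) k))
      (CohB1.tensorPow L (n + 1)) ≅ CohB1.tensorPow L (m + 1) :=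
    PicGrp.tensorModIso (unitorL (CohB1.tensorPow (CohB1.tensorPow L (n + 1)) k))
        (Iso.refl (CohB1.tensorPow L (n + 1))) ≪≫
      powMulIso L hL (n + 1) (k + 1) ≪≫ powCastIso L hm
  refine ⟨m, SecTwist.tmulHom σ s ≫ e.hom, ?_⟩
  rw [genLocus_comp_iso, hτ0]

/-- a chart around a point that works for all sections at once -/
theorem exists_chart_forall (L : X.Modules) (hL : PicF.IsInvertible L) (x : X) :
    ∃ (T : X.Opens) (e : Γ(L, T)), x ∈ T ∧ IsAffineOpen T ∧ IsFrame L T e ∧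
      ∀ s : Coh.structureModule X ⟶ L, ∃ b : Γ(X, T),
        SecTwist.val s T = b • e ∧ X.basicOpen b = CohB1.genLocus L s ⊓ T := by
  obtain ⟨W, hxW, hW, ⟨ε⟩⟩ := exists_affine_triv L hL x
  have hT : W.ι ''ᵁ ⊤ = W := Scheme.Opens.ι_image_top W
  refine ⟨W.ι ''ᵁ ⊤, ε.inv.app ⊤ (one (W : Scheme.{u}) ⊤), ?_, ?_, isFrame_of_triv L W ε, ?_⟩
  · rw [hT]; exact hxW
  · rw [hT]; exact hW
  · intro s
    obtain ⟨b, hb, hbo⟩ := exists_local_frame L s W ε
    refine ⟨b, hb, ?_⟩
    rw [← hbo]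
    exact congrArg (fun Z => CohB1.genLocus L s ⊓ Z) hT.symm

theorem frame_smul_cancel {L : X.Modules} {T : X.Opens} {e : Γ(L, T)} (hfr : IsFrame L T e)
    (a b : Γ(X, T)) (h : a • e = b • e) : a = b := by
  have h1 := (hfr T le_rfl).2 (a - b)
  have h2 : L.presheaf.map (homOfLE (le_refl T)).op e = e := by
    change L.presheaf.map (𝟙 _) e = e
    rw [L.presheaf.map_id]; rfl
  rw [h2, sub_smul, h, sub_self] at h1
  exact sub_eq_zero.mp (h1 rfl)

theorem val_add {N : X.Modules} (σ τ : Coh.structureModule X ⟶ N) (T : X.Opens) :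
    SecTwist.val (σ + τ) T = SecTwist.val σ T + SecTwist.val τ T := rfl

theorem val_zero' {N : X.Modules} (T : X.Opens) :
    SecTwist.val (0 : Coh.structureModule X ⟶ N) T = 0 := rfl

/-- charts are additive in the section -/
theorem exists_chart_add (N : X.Modules) (hN : PicF.IsInvertible N)
    (σ τ : Coh.structureModule X ⟶ N) (z : X) :
    ∃ (T : X.Opens) (bσ bτ : Γ(X, T)), z ∈ T ∧
      X.basicOpen bσ = CohB1.genLocus N σ ⊓ T ∧ X.basicOpen bτ = CohB1.genLocus N τ ⊓ T ∧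
      X.basicOpen (bσ + bτ) = CohB1.genLocus N (σ + τ) ⊓ T := by
  obtain ⟨T, e, hzT, -, hfr, hall⟩ := exists_chart_forall N hN z
  obtain ⟨bσ, h1, h1'⟩ := hall σ
  obtain ⟨bτ, h2, h2'⟩ := hall τ
  obtain ⟨b, h3, h3'⟩ := hall (σ + τ)
  refine ⟨T, bσ, bτ, hzT, h1', h2', ?_⟩
  have : b = bσ + bτ := by
    apply frame_smul_cancel hfr
    have hsum : b • e = bσ • e + bτ • e :=
      h3.symm.trans ((val_add σ τ T).trans (congrArg₂ (· + ·) h1 h2))
    exact hsum.trans (add_smul bσ bτ e).symm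
  rw [← this]; exact h3'

theorem notMem_genLocus_add {N : X.Modules} (hN : PicF.IsInvertible N)
    (σ τ : Coh.structureModule X ⟶ N) (z : X) (hσ : z ∉ CohB1.genLocus N σ)
    (hτ : z ∉ CohB1.genLocus N τ) : z ∉ CohB1.genLocus N (σ + τ) := by
  obtain ⟨T, bσ, bτ, hzT, h1, h2, h3⟩ := exists_chart_add N hN σ τ z
  intro h
  have h' : z ∈ X.basicOpen (bσ + bτ) := by rw [h3]; exact ⟨h, hzT⟩
  have k1 : z ∉ X.basicOpen bσ := by rw [h1]; exact fun hh => hσ hh.1
  have k2 : z ∉ X.basicOpen bτ := by rw [h2]; exact fun hh => hτ hh.1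
  rw [Scheme.mem_basicOpen X _ z hzT] at h' k1 k2
  rw [map_add] at h'
  rcases IsLocalRing.isUnit_or_isUnit_of_isUnit_add h' with hu | hu
  · exact k1 hu
  · exact k2 hu

theorem mem_genLocus_add {N : X.Modules} (hN : PicF.IsInvertible N)
    (σ τ : Coh.structureModule X ⟶ N) (z : X) (hσ : z ∈ CohB1.genLocus N σ)
    (hτ : z ∉ CohB1.genLocus N τ) : z ∈ CohB1.genLocus N (σ + τ) := by
  obtain ⟨T, bσ, bτ, hzT, h1, h2, h3⟩ := exists_chart_add N hN σ τ z
  have k1 : z ∈ X.basicOpen bσ := by rw [h1]; exact ⟨hσ, hzT⟩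
  have k2 : z ∉ X.basicOpen bτ := by rw [h2]; exact fun hh => hτ hh.1
  suffices h' : z ∈ X.basicOpen (bσ + bτ) by
    rw [h3] at h'; exact h'.1
  rw [Scheme.mem_basicOpen X _ z hzT] at k1 k2 ⊢
  rw [map_add]
  have h4 : IsUnit ((X.presheaf.germ T z hzT bσ + X.presheaf.germ T z hzT bτ) +
      (-(X.presheaf.germ T z hzT bτ))) := by
    rw [add_neg_cancel_right]; exact k1
  rcases IsLocalRing.isUnit_or_isUnit_of_isUnit_add h4 with hu | hu
  · exact hu
  · exact absurd (IsUnit.neg_iff _ |>.mp hu) k2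

theorem notMem_genLocus_zero {N : X.Modules} (hN : PicF.IsInvertible N) (z : X) :
    z ∉ CohB1.genLocus N (0 : Coh.structureModule X ⟶ N) := by
  obtain ⟨T, e, hzT, -, hfr, hall⟩ := exists_chart_forall N hN z
  obtain ⟨b, h1, h2⟩ := hall 0
  have hb : b = 0 := by
    apply frame_smul_cancel hfr
    rw [← h1, zero_smul]; rfl
  intro h
  have : z ∈ X.basicOpen b := by rw [h2]; exact ⟨h, hzT⟩
  rw [hb, Scheme.basicOpen_zero] at this
  exact this

theorem notMem_genLocus_sum {N : X.Modules} (hN : PicF.IsInvertible N) {ι : Type*}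
    (S : Finset ι) (σ : ι → (Coh.structureModule X ⟶ N)) (z : X)
    (h : ∀ i ∈ S, z ∉ CohB1.genLocus N (σ i)) : z ∉ CohB1.genLocus N (∑ i ∈ S, σ i) := by
  classical
  induction S using Finset.induction_on with
  | empty => rw [Finset.sum_empty]; exact notMem_genLocus_zero hN z
  | insert a S ha ih =>
    rw [Finset.sum_insert ha]
    exact notMem_genLocus_add hN _ _ z (h a (Finset.mem_insert_self a S))
      (ih fun i hi => h i (Finset.mem_insert_of_mem hi))

/-- if exactly one summand generates at `z`, so does the sum -/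
theorem mem_genLocus_sum {N : X.Modules} (hN : PicF.IsInvertible N) {ι : Type*}
    (S : Finset ι) (σ : ι → (Coh.structureModule X ⟶ N)) (z : X) (i₀ : ι) (hi₀ : i₀ ∈ S)
    (h1 : z ∈ CohB1.genLocus N (σ i₀))
    (h2 : ∀ i ∈ S, i ≠ i₀ → z ∉ CohB1.genLocus N (σ i)) :
    z ∈ CohB1.genLocus N (∑ i ∈ S, σ i) := by
  classical
  rw [← Finset.add_sum_erase S σ hi₀]
  apply mem_genLocus_add hN _ _ z h1
  apply notMem_genLocus_sum hN
  intro i hi
  exact h2 i (Finset.mem_of_mem_erase hi) (Finset.ne_of_mem_erase hi)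

open Groth.Agent.Helper4.AmpleRestrict Groth.Agent.Helper4.GenLocIso

/-- for ample `L`, every `X_t` (`t` a section of a positive power) is a quasi-affine scheme -/
theorem isQuasiAffine_genLocus {L : X.Modules} (h : CohB1.IsAmple L) (n : ℕ)
    (t : Coh.structureModule X ⟶ CohB1.tensorPow L (n + 1)) :
    (CohB1.genLocus _ t : Scheme.{u}).IsQuasiAffine := by
  have hL := h.1
  haveI := h.2.1
  haveI : CompactSpace (CohB1.genLocus _ t : Scheme.{u}) :=
    isCompact_iff_compactSpace.mp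
      ((isRetrocompact_genLocus _ (isInvertible_tensorPow hL (n + 1)) t) isCompact_univ isOpen_univ
        |> fun hc => by simpa using hc)
  have h1 : CohB1.IsAmple (L.restrict (CohB1.genLocus _ t).ι) := isAmple_restrict _ h
  have h2 := isAmple_tensorPow h1.1 (n + 1) (Nat.succ_pos n) h1
  have h3 := isAmple_of_iso (resPowIso (CohB1.genLocus _ t).ι L (n + 1)) h2
  have h4 := isAmple_of_iso (trivGenLocus _ t) h3
  exact isQuasiAffine_of_isAmple_unit h4

/-- step A1: a finite set inside some `X_t` lies in an affine `X_τ` inside a given open -/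
theorem exists_affine_genLocus_of_subset_genLocus {L : X.Modules} (h : CohB1.IsAmple L) (n : ℕ)
    (t : Coh.structureModule X ⟶ CohB1.tensorPow L (n + 1)) (Z : Set X) (hZ : Z.Finite)
    (hZt : Z ⊆ CohB1.genLocus _ t) (U : X.Opens) (hZU : Z ⊆ U) :
    ∃ (m : ℕ) (τ : Coh.structureModule X ⟶ CohB1.tensorPow L (m + 1)),
      Z ⊆ CohB1.genLocus _ τ ∧ (CohB1.genLocus _ τ : Set X) ⊆ U ∧
        IsAffineOpen (CohB1.genLocus _ τ) := by
  have hL := h.1
  haveI := h.2.1
  haveI := quasiSeparatedSpace_of_isAmple h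
  obtain ⟨G, hG⟩ : ∃ G : X.Opens, G = CohB1.genLocus _ t := ⟨_, rfl⟩
  haveI : (G : Scheme.{u}).IsQuasiAffine := by rw [hG]; exact isQuasiAffine_genLocus h n t
  let E : Set (G : Scheme.{u}) := G.ι ⁻¹' Z
  have hE : E.Finite := hZ.preimage (G.ι.isOpenEmbedding.injective.injOn)
  have hEW : E ⊆ (G.ι ⁻¹ᵁ U : (G : Scheme.{u}).Opens) := fun y hy => hZU hy
  obtain ⟨f, hfa, hEf, hfW⟩ := exists_basicOpen_affine (X := (G : Scheme.{u})) (G.ι ⁻¹ᵁ U) E hE hEW
  let r : Γ(X, G) := G.topIso.hom f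
  have hr : G.ι ''ᵁ ((G : Scheme.{u}).basicOpen f) = X.basicOpen r := by
    have := Scheme.Opens.ι_image_basicOpen_topIso_inv (U := G) r
    have hf : G.topIso.inv r = f := by
      change (G.topIso.hom ≫ G.topIso.inv) f = f
      rw [Iso.hom_inv_id]; rfl
    rw [hf] at this
    exact this
  subst hG
  obtain ⟨m, τ, hτ⟩ := exists_genLocus_eq_basicOpen hL n t r
  refine ⟨m, τ, ?_, ?_, ?_⟩
  · intro z hz
    rw [hτ, ← hr]
    exact ⟨⟨z, hZt hz⟩, hEf (show (⟨z, hZt hz⟩ : (CohB1.genLocus _ t : Scheme.{u})) ∈ E from hz), rfl⟩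
  · rw [hτ, ← hr]
    rintro _ ⟨y, hy, rfl⟩
    exact hfW hy
  · rw [hτ, ← hr]
    exact hfa.image_of_isOpenImmersion _

/-- raise a section of `L^(m+1)` to a section of `L^P` when `(m+1) ∣ P`, keeping `X_s` -/
theorem exists_pow_section {L : X.Modules} (hL : PicF.IsInvertible L) (m : ℕ)
    (τ : Coh.structureModule X ⟶ CohB1.tensorPow L (m + 1)) (P : ℕ) (hP : 0 < P)
    (hd : (m + 1) ∣ P) :
    ∃ ρ : Coh.structureModule X ⟶ CohB1.tensorPow L P,
      CohB1.genLocus _ ρ = CohB1.genLocus _ τ := by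
  obtain ⟨k, hk⟩ := hd
  have hkpos : 0 < k := by
    rcases Nat.eq_zero_or_pos k with h0 | h0
    · rw [h0, Nat.mul_zero] at hk; omega
    · exact h0
  obtain ⟨k', rfl⟩ := Nat.exists_eq_succ_of_ne_zero hkpos.ne'
  refine ⟨SecTwist.powHom τ (k' + 1) ≫ (powMulIso L hL (m + 1) (k' + 1) ≪≫
    powCastIso L hk.symm).hom, ?_⟩
  rw [genLocus_comp_iso, genLocus_powHom (isInvertible_tensorPow hL (m + 1))]

/-- step A2: a finite set of points lies in some `X_t` -/
theorem exists_genLocus_of_finite {L : X.Modules} (h : CohB1.IsAmple L) (Z : Set X)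
    (hZ : Z.Finite) :
    ∃ (n : ℕ) (t : Coh.structureModule X ⟶ CohB1.tensorPow L (n + 1)),
      Z ⊆ CohB1.genLocus _ t := by
  classical
  have hL := h.1
  -- closed sets avoiding each point
  let C : X → Set X := fun z => ⋃ z' ∈ {z' ∈ Z | ¬ (z' ⤳ z)}, closure ({z'} : Set X)
  have hC : ∀ z, IsClosed (C z) := fun z =>
    (hZ.subset (fun z' hz' => hz'.1)).isClosed_biUnion (fun _ _ => isClosed_closure)
  have hzC : ∀ z, z ∉ C z := by
    intro z hz
    simp only [C, Set.mem_iUnion] at hz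
    obtain ⟨z', ⟨-, hz'⟩, hmem⟩ := hz
    exact hz' (specializes_iff_mem_closure.mpr hmem)
  let W : X → X.Opens := fun z => ⟨(C z)ᶜ, (hC z).isOpen_compl⟩
  have key := fun z => exists_genLocus_nhd h z (W z) (hzC z)
  choose m τ hzτ hτW _ using key
  let Zf : Finset X := hZ.toFinset
  obtain ⟨P, hPdef⟩ : ∃ P, P = ∏ z ∈ Zf, (m z + 1) := ⟨_, rfl⟩
  have hPpos : 0 < P := by rw [hPdef]; exact Finset.prod_pos (fun z _ => Nat.succ_pos _)
  obtain ⟨N, hN⟩ : ∃ N, P = N + 1 := Nat.exists_eq_succ_of_ne_zero hPpos.ne'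
  have hρ : ∀ z : X, ∃ ρ : Coh.structureModule X ⟶ CohB1.tensorPow L (N + 1),
      z ∈ Zf → CohB1.genLocus _ ρ = CohB1.genLocus _ (τ z) := by
    intro z
    by_cases hz : z ∈ Zf
    · have hd : (m z + 1) ∣ N + 1 := by
        rw [← hN, hPdef]; exact Finset.dvd_prod_of_mem (fun z => m z + 1) hz
      obtain ⟨ρ, hρ⟩ := exists_pow_section hL (m z) (τ z) (N + 1) (Nat.succ_pos N) hd
      exact ⟨ρ, fun _ => hρ⟩
    · exact ⟨0, fun h' => absurd h' hz⟩
  choose ρ hρ using hρ
  refine ⟨N, ∑ z ∈ Zf, ρ z, ?_⟩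
  have hNinv := isInvertible_tensorPow hL (N + 1)
  -- minimal points
  have hmin : ∀ z₀ ∈ Z, (∀ c ∈ Z, z₀ ⤳ c → c ⤳ z₀) →
      z₀ ∈ CohB1.genLocus _ (∑ z ∈ Zf, ρ z) := by
    intro z₀ hz₀ hz₀min
    have hz₀f : z₀ ∈ Zf := hZ.mem_toFinset.mpr hz₀
    apply mem_genLocus_sum hNinv Zf ρ z₀ z₀ hz₀f
    · rw [hρ z₀ hz₀f]; exact hzτ z₀
    · intro z hzf hne hmem
      rw [hρ z hzf] at hmem
      have hzZ : z ∈ Z := hZ.mem_toFinset.mp hzf
      have h1 : z₀ ∉ C z := hτW z hmem
      have h2 : z₀ ⤳ z := by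
        by_contra hns
        apply h1
        simp only [C, Set.mem_iUnion]
        exact ⟨z₀, ⟨hz₀, hns⟩, subset_closure rfl⟩
      exact hne ((hz₀min z hzZ h2).antisymm h2).eq
  intro z₁ hz₁
  letI : Preorder X := specializationPreorder X
  obtain ⟨z₀, hle, hz₀min⟩ := hZ.exists_le_minimal hz₁
  have hz₀mem := hmin z₀ hz₀min.1 (fun c hc hzc => hz₀min.2 hc hzc)
  exact Specializes.mem_open hle (CohB1.genLocus _ _).isOpen hz₀mem

/-- S2324 -/
theorem exists_affine_genLocus_of_finite {L : X.Modules} (h : CohB1.IsAmple L) (Z : Set X)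
    (hZ : Z.Finite) (U : X.Opens) (hZU : Z ⊆ U) :
    ∃ (n : ℕ) (s : Coh.structureModule X ⟶ CohB1.tensorPow L (n + 1)),
      Z ⊆ CohB1.genLocus _ s ∧ (CohB1.genLocus _ s : Set X) ⊆ U ∧
        IsAffineOpen (CohB1.genLocus _ s) := by
  obtain ⟨n, t, hZt⟩ := exists_genLocus_of_finite h Z hZ
  exact exists_affine_genLocus_of_subset_genLocus h n t Z hZ hZt U hZU

end Groth.Agent.Helper4.AmpleFinite
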