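import Mathlib
import Groth.Agent.Helper4.PullUnit
import Groth.Agent.Helper4.GenLocIso

set_option autoImplicit false
open CategoryTheory Limits AlgebraicGeometry TopologicalSpace Opposite
universe u

namespace Groth.Agent.Helper4.PullSec

open Groth.Agent.Helper4.GenLoc Groth.Agent.Helper4.PullUnit Groth.Agent.Helper4.GenLocIso
  Groth.Agent.Helper4.AmpleIso

variable {X' X : Scheme.{u}} (f : X' ⟶ X)

/-- the pullback of a global section -/
noncomputable def pullSec {N : X.Modules} (s : Coh.structureModule X ⟶ N) :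
    Coh.structureModule X' ⟶ (Scheme.Modules.pullback f).obj N :=
  (pullbackUnitIso f).inv ≫ (Scheme.Modules.pullback f).map s

/-- restriction of a pullback to the preimage of an open -/
noncomputable def resPullIso (U : X.Opens) (N : X.Modules) :
    ((Scheme.Modules.pullback f).obj N).restrict (f ⁻¹ᵁ U).ι ≅
      (Scheme.Modules.pullback (f ∣_ U)).obj (N.restrict U.ι) :=
  (restrictPullbackIso (f ⁻¹ᵁ U).ι U.ι f (f ∣_ U) (morphismRestrict_ι f U).symm).app N

theorem isInvertible_pullback {L : X.Modules} (hL : PicF.IsInvertible L) :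
    PicF.IsInvertible ((Scheme.Modules.pullback f).obj L) := by
  intro x'
  obtain ⟨U, hxU, ⟨ε⟩⟩ := hL (f x')
  exact ⟨f ⁻¹ᵁ U, hxU, ⟨resPullIso f U L ≪≫ (Scheme.Modules.pullback (f ∣_ U)).mapIso ε ≪≫
    pullbackUnitIso (f ∣_ U)⟩⟩

theorem le_genLocus_iff {M : X.Modules} (σ : Coh.structureModule X ⟶ M) (U : X.Opens) :
    U ≤ CohB1.genLocus M σ ↔ IsIso ((Scheme.Modules.restrictFunctor U.ι).map σ) := by
  constructor
  · intro h
    rw [isIso_restrict_iff]
    intro V hV
    exact (isIso_restrict_iff σ _).mp (isIso_restrict_genLocus M σ) V (hV.trans h)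
  · intro h
    exact le_sSup h

theorem preimage_genLocus_le {N : X.Modules} (s : Coh.structureModule X ⟶ N) :
    f ⁻¹ᵁ CohB1.genLocus _ s ≤ CohB1.genLocus _ (pullSec f s) := by
  rw [le_genLocus_iff]
  haveI := isIso_restrict_genLocus N s
  have h1 : IsIso ((Scheme.Modules.restrictFunctor (f ⁻¹ᵁ CohB1.genLocus _ s).ι).map
      ((Scheme.Modules.pullback f).map s)) := by
    rw [isIso_restrict_pullback_iff (f ⁻¹ᵁ CohB1.genLocus _ s).ι (CohB1.genLocus _ s).ι f
      (f ∣_ CohB1.genLocus _ s) (morphismRestrict_ι f _).symm]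
    infer_instance
  unfold pullSec
  rw [Functor.map_comp]
  infer_instance

theorem genLocus_pullSec {N : X.Modules} (hN : PicF.IsInvertible N)
    (s : Coh.structureModule X ⟶ N) :
    CohB1.genLocus _ (pullSec f s) = f ⁻¹ᵁ CohB1.genLocus _ s := by
  apply le_antisymm _ (preimage_genLocus_le f s)
  intro x' hx'
  obtain ⟨T, hxT, ⟨ε⟩⟩ := hN (f x')
  set G' := CohB1.genLocus _ (pullSec f s) with hG'
  let W' : X'.Opens := G' ⊓ f ⁻¹ᵁ T
  have hW'G : W' ≤ G' := inf_le_left
  have hrange : Set.range (W'.ι ≫ f) ⊆ Set.range T.ι := by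
    rintro _ ⟨y, rfl⟩
    rw [Scheme.Opens.range_ι]
    exact y.2.2
  let f'' : (W' : Scheme.{u}) ⟶ (T : Scheme.{u}) := IsOpenImmersion.lift T.ι (W'.ι ≫ f) hrange
  have hf'' : W'.ι ≫ f = f'' ≫ T.ι := (IsOpenImmersion.lift_fac T.ι (W'.ι ≫ f) hrange).symm
  have h1 : IsIso ((Scheme.Modules.restrictFunctor W'.ι).map (pullSec f s)) :=
    (le_genLocus_iff _ _).mp hW'G
  have h2 : IsIso ((Scheme.Modules.restrictFunctor W'.ι).map ((Scheme.Modules.pullback f).map s)) := by
    have : (Scheme.Modules.pullback f).map s = (pullbackUnitIso f).hom ≫ pullSec f s := by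
      unfold pullSec; rw [Iso.hom_inv_id_assoc]
    rw [this, Functor.map_comp]
    infer_instance
  rw [isIso_restrict_pullback_iff W'.ι T.ι f f'' hf''] at h2
  have h3 : IsIso ((Scheme.Modules.pullback f'').map (endo N s T ε)) := by
    unfold endo
    rw [Functor.map_comp, Functor.map_comp]
    infer_instance
  have h4 := isUnit_of_isIso_pullback f'' _ h3
  have h5 : f'' ⟨x', hx', hxT⟩ ∈ (T : Scheme.{u}).basicOpen (fn (endo N s T ε)) := by
    have : f'' ⁻¹ᵁ ((T : Scheme.{u}).basicOpen (fn (endo N s T ε))) = ⊤ := by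
      rw [Scheme.Hom.preimage_basicOpen]
      exact Scheme.basicOpen_of_isUnit _ h4
    have h6 : (⟨x', hx', hxT⟩ : W') ∈ f'' ⁻¹ᵁ ((T : Scheme.{u}).basicOpen (fn (endo N s T ε))) := by
      rw [this]; trivial
    exact h6
  have h7 : T.ι (f'' ⟨x', hx', hxT⟩) ∈ CohB1.genLocus N s ⊓ T := by
    rw [genLocus_inf_eq N s T ε]
    exact ⟨_, h5, rfl⟩
  have h8 : T.ι (f'' ⟨x', hx', hxT⟩) = f x' := by
    rw [← Scheme.Hom.comp_apply, ← hf'', Scheme.Hom.comp_apply]
    rfl
  rw [h8] at h7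
  exact h7.1

end Groth.Agent.Helper4.PullSec
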