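import Groth.Agent.Helper4.TensorInv
import Mathlib

set_option autoImplicit false
universe u
open CategoryTheory CategoryTheory.Limits AlgebraicGeometry Opposite TopologicalSpace TensorProduct
  MonoidalCategory

namespace Groth.Agent.Helper4.TensorGen

open Groth.Agent.Helper4.TensorLift Groth.Agent.Helper4.TensorRes Groth.Agent.Helper4.GenLoc
  Groth.Agent.Helper4.TensorInv

variable {X : Scheme.{u}}

theorem restrictUnitIso_inv_one {Y : Scheme.{u}} (j : Y ⟶ X) [IsOpenImmersion j] (V : Y.Opens) :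
    (Scheme.Modules.restrictUnitIso j).inv.app V (one Y V) = one X (j ''ᵁ V) := by
  change (j.appIso V).inv.hom (1 : Γ(Y, V)) = (1 : Γ(X, j ''ᵁ V))
  exact map_one _

/-- the section of `L|_U` over `⊤` named by a global section `s` of `L` -/
noncomputable def secU (L : X.Modules) (s : Coh.structureModule X ⟶ L) (U : X.Opens) :
    Γ(L.restrict U.ι, ⊤) :=
  SecTwist.val s (U.ι ''ᵁ ⊤)

theorem fn_endo_eq (L : X.Modules) (s : Coh.structureModule X ⟶ L) (U : X.Opens)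
    (e : L.restrict U.ι ≅ Coh.structureModule (U : Scheme.{u})) :
    fn (endo L s U e) = toFn (e.hom.app ⊤ (secU L s U)) := by
  unfold fn endo
  change toFn (e.hom.app ⊤ (s.app (U.ι ''ᵁ ⊤)
    ((Scheme.Modules.restrictUnitIso U.ι).inv.app ⊤ (one (U : Scheme.{u}) ⊤)))) = _
  rw [restrictUnitIso_inv_one]
  rfl

theorem iso_inv_hom_app {Y : Scheme.{u}} {A B : Y.Modules} (e : A ≅ B) (V : Y.Opens) (y : Γ(A, V)) :
    e.inv.app V (e.hom.app V y) = y :=
  congrArg (fun φ : A ⟶ A => φ.app V y) e.hom_inv_id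

theorem iso_hom_inv_app {Y : Scheme.{u}} {A B : Y.Modules} (e : A ≅ B) (V : Y.Opens) (y : Γ(B, V)) :
    e.hom.app V (e.inv.app V y) = y :=
  congrArg (fun φ : B ⟶ B => φ.app V y) e.inv_hom_id

theorem resIso_inv_tmul {Y : Scheme.{u}} (j : Y ⟶ X) [IsOpenImmersion j] (M N : X.Modules)
    (V : Y.Opens) (m : Γ(M.restrict j, V)) (n : Γ(N.restrict j, V)) :
    (resIso j M N).inv.app V (SecTwist.tmul M N (j ''ᵁ V) m n) =
      SecTwist.tmul (M.restrict j) (N.restrict j) V m n := by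
  rw [← resIso_hom_tmul j M N V m n]
  exact iso_inv_hom_app _ _ _

theorem fn_endo_tensor (L L' : X.Modules) (f : Coh.structureModule X ⟶ L)
    (g : Coh.structureModule X ⟶ L') (U : X.Opens)
    (ε : L.restrict U.ι ≅ Coh.structureModule (U : Scheme.{u}))
    (ε' : L'.restrict U.ι ≅ Coh.structureModule (U : Scheme.{u})) :
    fn (endo (CohB1.tensorMod L L') (SecTwist.tmulHom f g) U (tensorTriv L L' U ε ε')) =
      fn (endo L' g U ε') * fn (endo L f U ε) := by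
  rw [fn_endo_eq, fn_endo_eq, fn_endo_eq]
  have h1 : secU (CohB1.tensorMod L L') (SecTwist.tmulHom f g) U =
      SecTwist.tmul L L' (U.ι ''ᵁ ⊤) (secU L f U) (secU L' g U) :=
    SecTwist.val_tmulHom f g (U.ι ''ᵁ ⊤)
  rw [h1]
  unfold tensorTriv
  change toFn ((SecTwist.unitorR (Coh.structureModule (U : Scheme.{u}))).hom.app ⊤
    ((PicGrp.tensorModIso ε ε').hom.app ⊤
      ((resIso U.ι L L').inv.app ⊤ (SecTwist.tmul L L' (U.ι ''ᵁ ⊤) (secU L f U) (secU L' g U))))) = _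
  rw [resIso_inv_tmul, tensorModIso_hom_tmul]
  exact congrArg toFn (SecTwist.unitorR_tmul (Coh.structureModule (U : Scheme.{u})) ⊤
    (ε.hom.app ⊤ (secU L f U)) (ε'.hom.app ⊤ (secU L' g U)))

theorem mem_image_inf {Y : Scheme.{u}} (j : Y ⟶ X) [IsOpenImmersion j] (A B : Y.Opens) (x : X) :
    x ∈ j ''ᵁ (A ⊓ B) ↔ x ∈ j ''ᵁ A ∧ x ∈ j ''ᵁ B := by
  constructor
  · rintro ⟨y, ⟨hA, hB⟩, rfl⟩
    exact ⟨⟨y, hA, rfl⟩, ⟨y, hB, rfl⟩⟩
  · rintro ⟨⟨y, hA, rfl⟩, ⟨y', hB, hyy'⟩⟩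
    have : y' = y := j.isOpenEmbedding.injective hyy'
    subst this
    exact ⟨y', ⟨hA, hB⟩, rfl⟩

theorem genLocus_tmulHom (L L' : X.Modules) (hL : PicF.IsInvertible L)
    (hL' : PicF.IsInvertible L') (f : Coh.structureModule X ⟶ L)
    (g : Coh.structureModule X ⟶ L') :
    CohB1.genLocus (CohB1.tensorMod L L') (SecTwist.tmulHom f g) =
      CohB1.genLocus L f ⊓ CohB1.genLocus L' g := by
  ext x
  obtain ⟨U, hxU, ⟨ε⟩, ⟨ε'⟩⟩ := exists_common hL hL' x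
  have h := genLocus_inf_eq (CohB1.tensorMod L L') (SecTwist.tmulHom f g) U
    (tensorTriv L L' U ε ε')
  have h1 := genLocus_inf_eq L f U ε
  have h2 := genLocus_inf_eq L' g U ε'
  rw [fn_endo_tensor, Scheme.basicOpen_mul] at h
  have e0 : x ∈ CohB1.genLocus (CohB1.tensorMod L L') (SecTwist.tmulHom f g) ↔
      x ∈ CohB1.genLocus (CohB1.tensorMod L L') (SecTwist.tmulHom f g) ⊓ U :=
    ⟨fun hx => ⟨hx, hxU⟩, fun hx => hx.1⟩
  have e1 : x ∈ CohB1.genLocus L f ↔ x ∈ CohB1.genLocus L f ⊓ U :=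
    ⟨fun hx => ⟨hx, hxU⟩, fun hx => hx.1⟩
  have e2 : x ∈ CohB1.genLocus L' g ↔ x ∈ CohB1.genLocus L' g ⊓ U :=
    ⟨fun hx => ⟨hx, hxU⟩, fun hx => hx.1⟩
  change x ∈ CohB1.genLocus (CohB1.tensorMod L L') (SecTwist.tmulHom f g) ↔
    x ∈ CohB1.genLocus L f ∧ x ∈ CohB1.genLocus L' g
  rw [e0, e1, e2, h, h1, h2, mem_image_inf]
  exact and_comm

end Groth.Agent.Helper4.TensorGen
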