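import Mathlib
import Groth.Agent.Helper4.PullSec
import Groth.Agent.Helper4.TensorGen

set_option autoImplicit false
open CategoryTheory Limits AlgebraicGeometry TopologicalSpace Opposite
universe u

namespace Groth.Agent.Helper4.PullMate

open Groth.Agent.Helper4.GenLoc Groth.Agent.Helper4.PullUnit

variable {X' X T' T : Scheme.{u}} (j' : T' ⟶ X') (j : T ⟶ X) [IsOpenImmersion j']
  [IsOpenImmersion j] (f : X' ⟶ X) (f' : T' ⟶ T) (h : j' ≫ f = f' ≫ j)

noncomputable def adjL : Scheme.Modules.pullback f ⋙ Scheme.Modules.restrictFunctor j' ⊣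
    Scheme.Modules.pushforward j' ⋙ Scheme.Modules.pushforward f :=
  (Scheme.Modules.pullbackPushforwardAdjunction f).comp (Scheme.Modules.restrictAdjunction j')

noncomputable def adjR : Scheme.Modules.restrictFunctor j ⋙ Scheme.Modules.pullback f' ⊣
    Scheme.Modules.pushforward f' ⋙ Scheme.Modules.pushforward j :=
  (Scheme.Modules.restrictAdjunction j).comp (Scheme.Modules.pullbackPushforwardAdjunction f')

noncomputable def δ : Scheme.Modules.pushforward j' ⋙ Scheme.Modules.pushforward f ≅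
    Scheme.Modules.pushforward f' ⋙ Scheme.Modules.pushforward j :=
  Scheme.Modules.pushforwardComp j' f ≪≫ Scheme.Modules.pushforwardCongr h ≪≫
    (Scheme.Modules.pushforwardComp f' j).symm

/-- base change isomorphism, defined as a mate -/
noncomputable def β : Scheme.Modules.restrictFunctor j ⋙ Scheme.Modules.pullback f' ≅
    Scheme.Modules.pullback f ⋙ Scheme.Modules.restrictFunctor j' :=
  (conjugateIsoEquiv (adjL j' f) (adjR j f')).symm (δ j' j f f' h)

theorem unit_compat (M : X.Modules) :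
    (adjL j' f).unit.app M ≫ (δ j' j f f' h).hom.app _ =
      (adjR j f').unit.app M ≫
        (Scheme.Modules.pushforward f' ⋙ Scheme.Modules.pushforward j).map
          ((β j' j f f' h).hom.app M) :=
  unit_conjugateEquiv_symm _ _ _ _

omit [IsOpenImmersion j] in
include h in
theorem image_le (U : X.Opens) : j' ''ᵁ (f' ⁻¹ᵁ (j ⁻¹ᵁ U)) ≤ f ⁻¹ᵁ U := by
  rintro _ ⟨y, hy, rfl⟩
  change f (j' y) ∈ U
  have : f (j' y) = j (f' y) := by
    rw [← Scheme.Hom.comp_apply, h, Scheme.Hom.comp_apply]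
  rw [this]
  exact hy

theorem map_map_eq {Y : Scheme.{u}} (P : Y.Modules) {A B C : Y.Opens} (a : B ⟶ A) (b : C ⟶ B)
    (hCA : C ≤ A) (y : Γ(P, A)) :
    P.presheaf.map b.op (P.presheaf.map a.op y) = P.presheaf.map (homOfLE hCA).op y := by
  rw [← ConcreteCategory.comp_apply, ← Functor.map_comp]
  rfl

theorem lhs_eq (M : X.Modules) (U : X.Opens) (m : Γ(M, U)) :
    (Scheme.Modules.Hom.app ((adjL j' f).unit.app M ≫ (δ j' j f f' h).hom.app _) U) m =
    ((Scheme.Modules.pullback f).obj M).presheaf.map (homOfLE (image_le j' j f f' h U)).op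
      (((Scheme.Modules.pullbackPushforwardAdjunction f).unit.app M).app U m) := by
  have e1 : (j' ≫ f) ⁻¹ᵁ U = (f' ≫ j) ⁻¹ᵁ U := by rw [h]
  have h0 : (Scheme.Modules.Hom.app ((adjL j' f).unit.app M ≫ (δ j' j f f' h).hom.app _) U) m =
      ((Scheme.Modules.pullback f).obj M).presheaf.map
        (j'.opensFunctor.map (eqToHom e1.symm)).op
        (((Scheme.Modules.pullback f).obj M).presheaf.map
          (homOfLE (j'.image_preimage_le (f ⁻¹ᵁ U))).op
          (((Scheme.Modules.pullbackPushforwardAdjunction f).unit.app M).app U m)) := rfl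
  rw [h0]
  exact map_map_eq _ _ _ _ _

theorem rhs_eq (M : X.Modules) (U : X.Opens) (m : Γ(M, U)) :
    (Scheme.Modules.Hom.app ((adjR j f').unit.app M ≫
        (Scheme.Modules.pushforward f' ⋙ Scheme.Modules.pushforward j).map
          ((β j' j f f' h).hom.app M)) U) m =
    ((β j' j f f' h).hom.app M).app (f' ⁻¹ᵁ (j ⁻¹ᵁ U))
      (((Scheme.Modules.pullbackPushforwardAdjunction f').unit.app
        ((Scheme.Modules.restrictFunctor j).obj M)).app (j ⁻¹ᵁ U)
          (M.presheaf.map (homOfLE (j.image_preimage_le U)).op m)) := rfl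

theorem compat (M : X.Modules) (U : X.Opens) (m : Γ(M, U)) :
    ((β j' j f f' h).hom.app M).app (f' ⁻¹ᵁ (j ⁻¹ᵁ U))
      (((Scheme.Modules.pullbackPushforwardAdjunction f').unit.app
        ((Scheme.Modules.restrictFunctor j).obj M)).app (j ⁻¹ᵁ U)
          (M.presheaf.map (homOfLE (j.image_preimage_le U)).op m)) =
    ((Scheme.Modules.pullback f).obj M).presheaf.map (homOfLE (image_le j' j f f' h U)).op
      (((Scheme.Modules.pullbackPushforwardAdjunction f).unit.app M).app U m) := by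
  rw [← rhs_eq, ← lhs_eq]
  exact (congrArg (fun φ => (Scheme.Modules.Hom.app φ U) m) (unit_compat j' j f f' h M)).symm

theorem unit_one {W V : Scheme.{u}} (g : W ⟶ V) (U : V.Opens) :
    ((Scheme.Modules.pullbackPushforwardAdjunction g).unit.app (Coh.structureModule V)).app U
        (one V U) =
      (pullbackUnitIso g).inv.app (g ⁻¹ᵁ U) (one W (g ⁻¹ᵁ U)) := by
  haveI : (SheafOfModules.pushforward.{u} g.toRingCatSheafHom).IsRightAdjoint :=
    (inferInstance : (Scheme.Modules.pushforward g).IsRightAdjoint)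
  have h1 : (Scheme.Modules.pullbackPushforwardAdjunction g).unit.app (Coh.structureModule V) ≫
      (Scheme.Modules.pushforward g).map (pullbackUnitIso g).hom =
      SheafOfModules.unitToPushforwardObjUnit g.toRingCatSheafHom :=
    ((Scheme.Modules.pullbackPushforwardAdjunction g).homEquiv_unit _ _ _).symm.trans
      (SheafOfModules.pullbackPushforwardAdjunction_homEquiv_pullbackObjUnitToUnit _)
  have h2 := congrArg (fun φ => (Scheme.Modules.Hom.app φ U) (one V U)) h1
  have h3 : (Scheme.Modules.Hom.app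
      (SheafOfModules.unitToPushforwardObjUnit g.toRingCatSheafHom) U) (one V U) =
      one W (g ⁻¹ᵁ U) := map_one (g.app U).hom
  have h4 : (pullbackUnitIso g).hom.app (g ⁻¹ᵁ U)
      (((Scheme.Modules.pullbackPushforwardAdjunction g).unit.app (Coh.structureModule V)).app U
        (one V U)) = one W (g ⁻¹ᵁ U) := h2.trans h3
  rw [← h4]
  exact (Groth.Agent.Helper4.TensorGen.iso_inv_hom_app (pullbackUnitIso g) _ _).symm

section Frame

variable {X' X : Scheme.{u}} (f : X' ⟶ X) (T : X.Opens)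

/-- the base change isomorphism for the preimage of an open -/
noncomputable abbrev βT :=
  β (f ⁻¹ᵁ T).ι T.ι f (f ∣_ T) (morphismRestrict_ι f T).symm

/-- the frame of `f^*M` over `f⁻¹T` induced by a trivialization of `M` over `T` -/
noncomputable def frameIso (M : X.Modules)
    (ε : M.restrict T.ι ≅ Coh.structureModule (T : Scheme.{u})) :
    Coh.structureModule ((f ⁻¹ᵁ T : X'.Opens) : Scheme.{u}) ≅
      ((Scheme.Modules.pullback f).obj M).restrict (f ⁻¹ᵁ T).ι :=
  (pullbackUnitIso (f ∣_ T)).symm ≪≫ (Scheme.Modules.pullback (f ∣_ T)).mapIso ε.symm ≪≫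
    (βT f T).app M

/-- the local frame of `M` named by a trivialization -/
noncomputable def frameSec (M : X.Modules)
    (ε : M.restrict T.ι ≅ Coh.structureModule (T : Scheme.{u})) : Γ(M, T.ι ''ᵁ ⊤) :=
  ε.inv.app ⊤ (one _ ⊤)

theorem frame_eval (M : X.Modules)
    (ε : M.restrict T.ι ≅ Coh.structureModule (T : Scheme.{u})) :
    (frameIso f T M ε).hom.app ((f ∣_ T) ⁻¹ᵁ (T.ι ⁻¹ᵁ (T.ι ''ᵁ ⊤))) (one _ _) =
      ((Scheme.Modules.pullback f).obj M).presheaf.map
        (homOfLE (image_le (f ⁻¹ᵁ T).ι T.ι f (f ∣_ T) (morphismRestrict_ι f T).symm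
          (T.ι ''ᵁ ⊤))).op
        (((Scheme.Modules.pullbackPushforwardAdjunction f).unit.app M).app (T.ι ''ᵁ ⊤)
          (frameSec T M ε)) := by
  rw [← compat]
  set V₀ : (T : Scheme.{u}).Opens := T.ι ⁻¹ᵁ (T.ι ''ᵁ ⊤) with hV₀
  have h1 : (frameIso f T M ε).hom.app ((f ∣_ T) ⁻¹ᵁ V₀) (one _ _) =
      ((βT f T).hom.app M).app ((f ∣_ T) ⁻¹ᵁ V₀)
        (((Scheme.Modules.pullback (f ∣_ T)).map ε.inv).app ((f ∣_ T) ⁻¹ᵁ V₀)
          ((pullbackUnitIso (f ∣_ T)).inv.app ((f ∣_ T) ⁻¹ᵁ V₀) (one _ _))) := rfl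
  rw [h1, ← unit_one (f ∣_ T) V₀]
  have h2 : ((Scheme.Modules.pullback (f ∣_ T)).map ε.inv).app ((f ∣_ T) ⁻¹ᵁ V₀)
      (((Scheme.Modules.pullbackPushforwardAdjunction (f ∣_ T)).unit.app
        (Coh.structureModule (T : Scheme.{u}))).app V₀ (one _ V₀)) =
      ((Scheme.Modules.pullbackPushforwardAdjunction (f ∣_ T)).unit.app
        ((Scheme.Modules.restrictFunctor T.ι).obj M)).app V₀ (ε.inv.app V₀ (one _ V₀)) :=
    (congrArg (fun φ => (Scheme.Modules.Hom.app φ V₀) (one _ V₀))
      ((Scheme.Modules.pullbackPushforwardAdjunction (f ∣_ T)).unit.naturality ε.inv)).symm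
  rw [h2]
  have h3 : ε.inv.app V₀ (one _ V₀) =
      M.presheaf.map (homOfLE (T.ι.image_preimage_le (T.ι ''ᵁ ⊤))).op (frameSec T M ε) := by
    have h4 := Groth.Agent.Helper4.StalkExact.app_res ε.inv (homOfLE (le_top : V₀ ≤ ⊤))
      (one (T : Scheme.{u}) ⊤)
    have h5 : (Coh.structureModule (T : Scheme.{u})).presheaf.map (homOfLE (le_top : V₀ ≤ ⊤)).op
        (one (T : Scheme.{u}) ⊤) = one _ V₀ :=
      map_one ((T : Scheme.{u}).presheaf.map (homOfLE (le_top : V₀ ≤ ⊤)).op).hom
    rw [h5] at h4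
    rw [h4]
    rfl
  rw [h3]

end Frame

end Groth.Agent.Helper4.PullMate
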