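import Mathlib
import Groth.Agent.Helper4.PullMate
import Groth.Agent.Helper4.TensorGen
import Groth.Agent.Helper4.AmpleLocal
import Groth.Agent.Helper4.GenLocIso

set_option autoImplicit false
open CategoryTheory Limits AlgebraicGeometry TopologicalSpace Opposite
universe u

namespace Groth.Agent.Helper4.PullTensor

open Groth.Agent.Helper4.GenLoc Groth.Agent.Helper4.PullUnit Groth.Agent.Helper4.TensorLift
  Groth.Agent.Helper4.Scalar Groth.Agent.Helper4.PullMate Groth.Agent.Helper4.TensorGen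
  Groth.Agent.Helper4.TensorInv Groth.Agent.Helper4.TensorRes

variable {X' X : Scheme.{u}} (f : X' ⟶ X)

/-- the bilinear family `(a, b) ↦ φ a ⊗ ψ b` with values in a pushforward -/
noncomputable def pushBil {A B : X.Modules} {A' B' : X'.Modules}
    (φ : A ⟶ (Scheme.Modules.pushforward f).obj A') (ψ : B ⟶ (Scheme.Modules.pushforward f).obj B') :
    Bil A B ((Scheme.Modules.pushforward f).obj (CohB1.tensorMod A' B')) where
  f V a b := SecTwist.tmul A' B' (f ⁻¹ᵁ V) (φ.app V a) (ψ.app V b)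
  add_left V m m' n := by
    rw [map_add]
    exact tmul_add_left A' B' (f ⁻¹ᵁ V) _ _ _
  add_right V m n n' := by
    rw [map_add]
    exact tmul_add_right A' B' (f ⁻¹ᵁ V) _ _ _
  smul_left V r m n := by
    rw [Scheme.Modules.Hom.app_smul, pushforward_smul]
    exact (tmul_smul_left A' B' (f ⁻¹ᵁ V) _ _ _).trans
      (pushforward_smul f (CohB1.tensorMod A' B') V r _).symm
  smul_right V r m n := by
    rw [Scheme.Modules.Hom.app_smul, pushforward_smul]
    exact (tmul_smul_right A' B' (f ⁻¹ᵁ V) _ _ _).trans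
      (pushforward_smul f (CohB1.tensorMod A' B') V r _).symm
  map {V V'} i m n := by
    rw [Groth.Agent.Helper4.StalkExact.app_res, Groth.Agent.Helper4.StalkExact.app_res]
    exact SecTwist.map_tmul A' B' ((Opens.map f.base).map i) _ _

/-- the external product of two maps into pushforwards -/
noncomputable def pushTensor {A B : X.Modules} {A' B' : X'.Modules}
    (φ : A ⟶ (Scheme.Modules.pushforward f).obj A') (ψ : B ⟶ (Scheme.Modules.pushforward f).obj B') :
    CohB1.tensorMod A B ⟶ (Scheme.Modules.pushforward f).obj (CohB1.tensorMod A' B') :=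
  (pushBil f φ ψ).lift

theorem pushTensor_tmul {A B : X.Modules} {A' B' : X'.Modules}
    (φ : A ⟶ (Scheme.Modules.pushforward f).obj A') (ψ : B ⟶ (Scheme.Modules.pushforward f).obj B')
    (V : X.Opens) (a : Γ(A, V)) (b : Γ(B, V)) :
    (pushTensor f φ ψ).app V (SecTwist.tmul A B V a b) =
      SecTwist.tmul A' B' (f ⁻¹ᵁ V) (φ.app V a) (ψ.app V b) :=
  (pushBil f φ ψ).lift_tmul V a b

/-- the unit of the pullback-pushforward adjunction -/
noncomputable abbrev η (M : X.Modules) :
    M ⟶ (Scheme.Modules.pushforward f).obj ((Scheme.Modules.pullback f).obj M) :=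
  (Scheme.Modules.pullbackPushforwardAdjunction f).unit.app M

/-- the comparison map `f^*(A ⊗ B) ⟶ f^*A ⊗ f^*B` -/
noncomputable def θ (A B : X.Modules) :
    (Scheme.Modules.pullback f).obj (CohB1.tensorMod A B) ⟶
      CohB1.tensorMod ((Scheme.Modules.pullback f).obj A) ((Scheme.Modules.pullback f).obj B) :=
  ((Scheme.Modules.pullbackPushforwardAdjunction f).homEquiv _ _).symm
    (pushTensor f (η f A) (η f B))

theorem unit_θ (A B : X.Modules) :
    η f (CohB1.tensorMod A B) ≫ (Scheme.Modules.pushforward f).map (θ f A B) =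
      pushTensor f (η f A) (η f B) := by
  have h := (Scheme.Modules.pullbackPushforwardAdjunction f).homEquiv_unit _ _ (θ f A B)
  exact h.symm.trans (((Scheme.Modules.pullbackPushforwardAdjunction f).homEquiv _ _).apply_symm_apply _)

theorem θ_unit (A B : X.Modules) (V : X.Opens) (a : Γ(A, V)) (b : Γ(B, V)) :
    (θ f A B).app (f ⁻¹ᵁ V) ((η f (CohB1.tensorMod A B)).app V (SecTwist.tmul A B V a b)) =
      SecTwist.tmul _ _ (f ⁻¹ᵁ V) ((η f A).app V a) ((η f B).app V b) := by
  have h1 := congrArg (fun φ => (Scheme.Modules.Hom.app φ V)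
    (show Γ(CohB1.tensorMod A B, V) from SecTwist.tmul A B V a b)) (unit_θ f A B)
  exact h1.trans (pushTensor_tmul f _ _ V a b)

section Triv

variable {Y : Scheme.{u}}

theorem tensorTriv_tmul (L L' : Y.Modules) (U : Y.Opens)
    (ε : L.restrict U.ι ≅ Coh.structureModule (U : Scheme.{u}))
    (ε' : L'.restrict U.ι ≅ Coh.structureModule (U : Scheme.{u})) (V : (U : Scheme.{u}).Opens)
    (m : Γ(L.restrict U.ι, V)) (n : Γ(L'.restrict U.ι, V)) :
    (tensorTriv L L' U ε ε').hom.app V (SecTwist.tmul L L' (U.ι ''ᵁ V) m n) =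
      toFn (ε'.hom.app V n) • ε.hom.app V m := by
  unfold tensorTriv
  change (SecTwist.unitorR (Coh.structureModule (U : Scheme.{u}))).hom.app V
    ((PicGrp.tensorModIso ε ε').hom.app V
      ((resIso U.ι L L').inv.app V (SecTwist.tmul L L' (U.ι ''ᵁ V) m n))) = _
  rw [resIso_inv_tmul, tensorModIso_hom_tmul]
  exact SecTwist.unitorR_tmul (Coh.structureModule (U : Scheme.{u})) V
    (ε.hom.app V m) (ε'.hom.app V n)

theorem tensorTriv_tmul_frame (L L' : Y.Modules) (U : Y.Opens)
    (ε : L.restrict U.ι ≅ Coh.structureModule (U : Scheme.{u}))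
    (ε' : L'.restrict U.ι ≅ Coh.structureModule (U : Scheme.{u})) (V : (U : Scheme.{u}).Opens) :
    (tensorTriv L L' U ε ε').hom.app V (SecTwist.tmul L L' (U.ι ''ᵁ V)
      (ε.inv.app V (one _ V)) (ε'.inv.app V (one _ V))) = one _ V := by
  rw [tensorTriv_tmul, iso_hom_inv_app, iso_hom_inv_app]
  exact GenLoc.smul_one V (1 : Γ((U : Scheme.{u}), V))

theorem frameSec_tensorTriv (L L' : Y.Modules) (U : Y.Opens)
    (ε : L.restrict U.ι ≅ Coh.structureModule (U : Scheme.{u}))
    (ε' : L'.restrict U.ι ≅ Coh.structureModule (U : Scheme.{u})) :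
    frameSec U (CohB1.tensorMod L L') (tensorTriv L L' U ε ε') =
      SecTwist.tmul L L' (U.ι ''ᵁ ⊤) (frameSec U L ε) (frameSec U L' ε') := by
  unfold frameSec
  have h := tensorTriv_tmul_frame L L' U ε ε' ⊤
  exact (congrArg (fun y => (tensorTriv L L' U ε ε').inv.app ⊤ y) h).symm.trans
    (iso_inv_hom_app _ _ _)

theorem unit_hom_ext_of_eq_top {M : Y.Modules} (φ ψ : Coh.structureModule Y ⟶ M) (V : Y.Opens)
    (hV : V = ⊤) (h : φ.app V (one Y V) = ψ.app V (one Y V)) : φ = ψ := by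
  subst hV
  exact Groth.Agent.Helper4.AmpleLocal.unit_hom_ext φ ψ h

end Triv

theorem preimage_eq_top (T : X.Opens) :
    (f ∣_ T) ⁻¹ᵁ (T.ι ⁻¹ᵁ (T.ι ''ᵁ ⊤)) = ⊤ := by
  rw [Scheme.Hom.preimage_image_eq]
  rfl

theorem isIso_restrict_θ (A B : X.Modules) (T : X.Opens)
    (εA : A.restrict T.ι ≅ Coh.structureModule (T : Scheme.{u}))
    (εB : B.restrict T.ι ≅ Coh.structureModule (T : Scheme.{u})) :
    IsIso ((Scheme.Modules.restrictFunctor (f ⁻¹ᵁ T).ι).map (θ f A B)) := by
  let uAB := frameIso f T (CohB1.tensorMod A B) (tensorTriv A B T εA εB)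
  let uA := frameIso f T A εA
  let uB := frameIso f T B εB
  let τ := tensorTriv ((Scheme.Modules.pullback f).obj A) ((Scheme.Modules.pullback f).obj B)
    (f ⁻¹ᵁ T) uA.symm uB.symm
  have key : uAB.hom ≫ (Scheme.Modules.restrictFunctor (f ⁻¹ᵁ T).ι).map (θ f A B) ≫ τ.hom =
      𝟙 _ := by
    apply unit_hom_ext_of_eq_top _ _ ((f ∣_ T) ⁻¹ᵁ (T.ι ⁻¹ᵁ (T.ι ''ᵁ ⊤))) (preimage_eq_top f T)
    change τ.hom.app _ ((θ f A B).app ((f ⁻¹ᵁ T).ι ''ᵁ _) (uAB.hom.app _ (one _ _))) = one _ _
    rw [frame_eval, frameSec_tensorTriv, Groth.Agent.Helper4.StalkExact.app_res, θ_unit]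
    refine (congrArg _ (SecTwist.map_tmul _ _ _ _ _)).trans ?_
    have hA := frame_eval f T A εA
    have hB := frame_eval f T B εB
    refine Eq.trans ?_ (tensorTriv_tmul_frame _ _ (f ⁻¹ᵁ T) uA.symm uB.symm
      ((f ∣_ T) ⁻¹ᵁ (T.ι ⁻¹ᵁ (T.ι ''ᵁ ⊤))))
    congr 2
    · exact hA.symm
    · exact hB.symm
  have h2 := (Iso.eq_inv_comp uAB).mpr key
  have h3 := (Iso.eq_comp_inv τ).mpr h2
  rw [h3]
  infer_instance

theorem isIso_θ {A B : X.Modules} (hA : PicF.IsInvertible A) (hB : PicF.IsInvertible B) :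
    IsIso (θ f A B) := by
  apply isIso_of_app_bijective
  intro V
  apply Groth.Agent.Helper4.GenLocIso.app_bijective_of_le_sSup (θ f A B)
    {U' : X'.Opens | IsIso ((Scheme.Modules.restrictFunctor U'.ι).map (θ f A B))}
    (fun U hU V hV => (isIso_restrict_iff _ U).mp hU V hV) V
  intro x' _
  obtain ⟨T, hxT, ⟨εA⟩, ⟨εB⟩⟩ := exists_common hA hB (f x')
  exact Opens.mem_sSup.mpr ⟨f ⁻¹ᵁ T, isIso_restrict_θ f A B T εA εB, hxT⟩

/-- pullback commutes with the tensor product of invertible modules -/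
noncomputable def pullTensorIso {A B : X.Modules} (hA : PicF.IsInvertible A)
    (hB : PicF.IsInvertible B) :
    (Scheme.Modules.pullback f).obj (CohB1.tensorMod A B) ≅
      CohB1.tensorMod ((Scheme.Modules.pullback f).obj A) ((Scheme.Modules.pullback f).obj B) :=
  @asIso _ _ _ _ (θ f A B) (isIso_θ f hA hB)

/-- pullback commutes with tensor powers of invertible modules -/
noncomputable def pullPowIso {L : X.Modules} (hL : PicF.IsInvertible L) :
    (n : ℕ) → ((Scheme.Modules.pullback f).obj (CohB1.tensorPow L n) ≅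
      CohB1.tensorPow ((Scheme.Modules.pullback f).obj L) n)
  | 0 => pullbackUnitIso f
  | n + 1 => pullTensorIso f (isInvertible_tensorPow hL n) hL ≪≫
      PicGrp.tensorModIso (pullPowIso hL n) (Iso.refl _)

end Groth.Agent.Helper4.PullTensor
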