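import Mathlib
import Groth.Agent.Helper4.PullSec
import Groth.Agent.Helper4.AmpleFinite
import Groth.Agent.Helper4.PullTensor

set_option autoImplicit false
open CategoryTheory Limits AlgebraicGeometry TopologicalSpace Opposite
universe u

namespace Groth.Agent.Helper4.PullAmple

open Groth.Agent.Helper4.GenLoc Groth.Agent.Helper4.PullUnit Groth.Agent.Helper4.GenLocIso
  Groth.Agent.Helper4.AmpleIso Groth.Agent.Helper4.PullSec Groth.Agent.Helper4.AmpleFinite
  Groth.Agent.Helper4.AmpleBasis Groth.Agent.Helper4.TensorInv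

variable {X : Scheme.{u}}

/-- on a qcqs scheme, if `X_t` is a quasi-affine scheme then every point of `X_t` has an affine
neighbourhood of the form `X_τ ⊆ X_t` -/
theorem exists_affine_genLocus_of_isQuasiAffine [CompactSpace X] [QuasiSeparatedSpace X]
    {L : X.Modules} (hL : PicF.IsInvertible L) (n : ℕ)
    (t : Coh.structureModule X ⟶ CohB1.tensorPow L (n + 1))
    (hq : (CohB1.genLocus _ t : Scheme.{u}).IsQuasiAffine) (x : X) (hx : x ∈ CohB1.genLocus _ t)
    (U : X.Opens) (hxU : x ∈ U) :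
    ∃ (m : ℕ) (τ : Coh.structureModule X ⟶ CohB1.tensorPow L (m + 1)),
      x ∈ CohB1.genLocus _ τ ∧ CohB1.genLocus _ τ ≤ U ∧ IsAffineOpen (CohB1.genLocus _ τ) := by
  obtain ⟨G, hG⟩ : ∃ G : X.Opens, G = CohB1.genLocus _ t := ⟨_, rfl⟩
  haveI : (G : Scheme.{u}).IsQuasiAffine := by rw [hG]; exact hq
  have hxG : x ∈ G := by rw [hG]; exact hx
  have hxU' : (⟨x, hxG⟩ : G) ∈ G.ι ⁻¹ᵁ U := hxU
  obtain ⟨_, ⟨f, hfa, rfl⟩, hxf, hfU⟩ :=
    (Opens.isBasis_iff_nbhd.mp (Scheme.IsQuasiAffine.isBasis_basicOpen (G : Scheme.{u}))) hxU'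
  let r : Γ(X, G) := G.topIso.hom f
  have hr : G.ι ''ᵁ ((G : Scheme.{u}).basicOpen f) = X.basicOpen r := by
    have := Scheme.Opens.ι_image_basicOpen_topIso_inv (U := G) r
    have hf : G.topIso.inv r = f := by
      change (G.topIso.hom ≫ G.topIso.inv) f = f
      rw [Iso.hom_inv_id]; rfl
    rw [hf] at this
    exact this
  subst hG
  obtain ⟨m, τ, hτ⟩ := exists_genLocus_eq_basicOpen hL n t r
  refine ⟨m, τ, ?_, ?_, ?_⟩
  · rw [hτ, ← hr]
    exact ⟨⟨x, hxG⟩, hxf, rfl⟩
  · rw [hτ, ← hr]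
    rintro _ ⟨y, hy, rfl⟩
    exact hfU hy
  · rw [hτ, ← hr]
    exact hfa.image_of_isOpenImmersion _

section Pull

open Groth.Agent.Helper4.PullTensor

variable {X' : Scheme.{u}} (f : X' ⟶ X)

/-- the pullback of a section of a tensor power, as a section of the tensor power of the pullback -/
noncomputable def pullPowSec {L : X.Modules} (hL : PicF.IsInvertible L) (n : ℕ)
    (s : Coh.structureModule X ⟶ CohB1.tensorPow L n) :
    Coh.structureModule X' ⟶ CohB1.tensorPow ((Scheme.Modules.pullback f).obj L) n :=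
  pullSec f s ≫ (pullPowIso f hL n).hom

theorem genLocus_pullPowSec {L : X.Modules} (hL : PicF.IsInvertible L) (n : ℕ)
    (s : Coh.structureModule X ⟶ CohB1.tensorPow L n) :
    CohB1.genLocus _ (pullPowSec f hL n s) = f ⁻¹ᵁ CohB1.genLocus _ s := by
  unfold pullPowSec
  rw [genLocus_comp_iso, genLocus_pullSec f (isInvertible_tensorPow hL n)]

/-- pullback of an ample module along a quasi-affine morphism is ample -/
theorem isAmple_pullback_of_isQuasiAffine (hf : Mor2.IsQuasiAffine f) {L : X.Modules}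
    (hL : CohB1.IsAmple L) : CohB1.IsAmple ((Scheme.Modules.pullback f).obj L) := by
  obtain ⟨hqc, hqa⟩ := hf
  obtain ⟨hinv, hc, hcov⟩ := hL
  haveI := hc
  haveI : CompactSpace X' := QuasiCompact.compactSpace_of_compactSpace f
  have hinv' := isInvertible_pullback f hinv
  choose n s hx ha using hcov
  have hgen : ∀ y, CohB1.genLocus _ (pullPowSec f hinv (n y + 1) (s y)) =
      f ⁻¹ᵁ CohB1.genLocus _ (s y) := fun y => genLocus_pullPowSec f hinv _ (s y)
  have hqaff : ∀ y, (CohB1.genLocus _ (pullPowSec f hinv (n y + 1) (s y)) :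
      Scheme.{u}).IsQuasiAffine := by
    intro y
    rw [hgen y]
    exact hqa _ (ha y)
  haveI : QuasiSeparatedSpace X' := by
    refine QuasiSeparatedSpace.of_isOpenCover
      (U := fun x : X' => CohB1.genLocus _ (pullPowSec f hinv (n (f x) + 1) (s (f x)))) ?_ ?_ ?_
    · refine eq_top_iff.mpr fun x _ => TopologicalSpace.Opens.mem_iSup.mpr ⟨x, ?_⟩
      rw [hgen]
      exact hx (f x)
    · intro x
      exact isRetrocompact_genLocus _ (isInvertible_tensorPow hinv' _) _
    · intro x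
      haveI := hqaff (f x)
      exact (isQuasiSeparated_iff_quasiSeparatedSpace _
        (CohB1.genLocus _ (pullPowSec f hinv (n (f x) + 1) (s (f x)))).2).mpr
        (inferInstance : QuasiSeparatedSpace
          (CohB1.genLocus _ (pullPowSec f hinv (n (f x) + 1) (s (f x))) : Scheme.{u}))
  refine ⟨hinv', inferInstance, fun x => ?_⟩
  obtain ⟨m, τ, hxτ, -, hτa⟩ := exists_affine_genLocus_of_isQuasiAffine hinv' (n (f x))
    (pullPowSec f hinv (n (f x) + 1) (s (f x))) (hqaff (f x)) x
    (by rw [hgen]; exact hx (f x)) ⊤ trivial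
  exact ⟨m, τ, hxτ, hτa⟩

theorem isQuasiAffine_of_isAffineHom [IsAffineHom f] : Mor2.IsQuasiAffine f := by
  refine ⟨inferInstance, fun V hV => ?_⟩
  haveI : IsAffine (f ⁻¹ᵁ V : Scheme.{u}) := (hV.preimage f : IsAffineOpen (f ⁻¹ᵁ V))
  infer_instance

/-- pullback of an ample module along an affine morphism is ample -/
theorem isAmple_pullback_of_isAffineHom [IsAffineHom f] {L : X.Modules}
    (hL : CohB1.IsAmple L) : CohB1.IsAmple ((Scheme.Modules.pullback f).obj L) :=
  isAmple_pullback_of_isQuasiAffine f (isQuasiAffine_of_isAffineHom f) hL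

/-- pullback of an ample module along a topological embedding from a quasi-compact scheme -/
theorem isAmple_pullback_of_isEmbedding [CompactSpace X'] (hf : Topology.IsEmbedding f)
    {L : X.Modules} (hL : CohB1.IsAmple L) :
    CohB1.IsAmple ((Scheme.Modules.pullback f).obj L) := by
  have hinv := hL.1
  have hinv' := isInvertible_pullback f hinv
  rw [isAmple_iff_isBasis _ hinv']
  refine Opens.isBasis_iff_nbhd.mpr fun {U' x'} hx' => ?_
  obtain ⟨U, hU, hUU'⟩ := hf.isInducing.isOpen_iff.mp U'.2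
  have hxU : f x' ∈ (⟨U, hU⟩ : X.Opens) := by
    change x' ∈ f ⁻¹' U
    rw [hUU']; exact hx'
  obtain ⟨m, τ, h1, h2, -⟩ := exists_genLocus_nhd hL (f x') ⟨U, hU⟩ hxU
  refine ⟨_, ⟨m, pullPowSec f hinv (m + 1) τ, rfl⟩, ?_, ?_⟩
  · rw [genLocus_pullPowSec]; exact h1
  · rw [genLocus_pullPowSec]
    intro y hy
    have : y ∈ f ⁻¹' U := h2 hy
    rw [hUU'] at this
    exact this

end Pull

end Groth.Agent.Helper4.PullAmple
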