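import Mathlib
import Groth.Agent.Helper4.PullAmple

set_option autoImplicit false
open CategoryTheory Limits AlgebraicGeometry TopologicalSpace Opposite
universe u

namespace Groth.Agent.Helper4.PullRel

open Groth.Agent.Helper4.GenLoc Groth.Agent.Helper4.PullUnit Groth.Agent.Helper4.GenLocIso
  Groth.Agent.Helper4.AmpleIso Groth.Agent.Helper4.PullSec Groth.Agent.Helper4.PullAmple

variable {X' X Y : Scheme.{u}}

theorem isQuasiAffine_morphismRestrict (g : X' ⟶ X) (hg : Mor2.IsQuasiAffine g) (U : X.Opens) :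
    Mor2.IsQuasiAffine (g ∣_ U) := by
  obtain ⟨hqc, hqa⟩ := hg
  refine ⟨inferInstance, fun W hW => ?_⟩
  have h1 : (g ⁻¹ᵁ (U.ι ''ᵁ W) : Scheme.{u}).IsQuasiAffine :=
    hqa _ (hW.image_of_isOpenImmersion U.ι)
  rw [← image_morphismRestrict_preimage] at h1
  exact Scheme.IsQuasiAffine.of_isAffineHom ((g ⁻¹ᵁ U).ι.isoImage ((g ∣_ U) ⁻¹ᵁ W)).hom

/-- S2355 -/
theorem isRelAmple_pullback_of_isQuasiAffine (f : X ⟶ Y) [QuasiCompact f] (g : X' ⟶ X)
    (hg : Mor2.IsQuasiAffine g) (L : X.Modules) (hL : RelAmple.IsRelAmple f L) :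
    RelAmple.IsRelAmple (g ≫ f) ((Scheme.Modules.pullback g).obj L) := by
  haveI := hg.1
  refine ⟨inferInstance, fun V => ?_⟩
  have h1 := isAmple_pullback_of_isQuasiAffine (g ∣_ (f ⁻¹ᵁ V.1))
    (isQuasiAffine_morphismRestrict g hg _) (hL.2 V)
  exact isAmple_of_iso (resPullIso g (f ⁻¹ᵁ V.1) L).symm h1

/-- S2359 -/
theorem isRelAmple_pullback_of_isEmbedding (f : X ⟶ Y) [QuasiCompact f] (j : X' ⟶ X)
    [QuasiCompact j] (hj : Topology.IsEmbedding j) (L : X.Modules)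
    (hL : RelAmple.IsRelAmple f L) :
    RelAmple.IsRelAmple (j ≫ f) ((Scheme.Modules.pullback j).obj L) := by
  refine ⟨inferInstance, fun V => ?_⟩
  haveI : CompactSpace ((j ⁻¹ᵁ (f ⁻¹ᵁ V.1) : X'.Opens) : Scheme.{u}) :=
    isCompact_iff_compactSpace.mp
      (QuasiCompact.isCompact_preimage (f := j ≫ f) _ V.1.isOpen V.2.isCompact)
  have hemb : Topology.IsEmbedding (j ∣_ (f ⁻¹ᵁ V.1)) := by
    rw [morphismRestrict_base]
    exact hj.restrictPreimage _
  have h1 := isAmple_pullback_of_isEmbedding (j ∣_ (f ⁻¹ᵁ V.1)) hemb (hL.2 V)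
  exact isAmple_of_iso (resPullIso j (f ⁻¹ᵁ V.1) L).symm h1

end Groth.Agent.Helper4.PullRel
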