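import Mathlib
import Groth.Agent.Helper4.PullRel

set_option autoImplicit false
open CategoryTheory Limits AlgebraicGeometry TopologicalSpace Opposite
universe u

namespace Groth.Agent.Helper4.PullBC

open Groth.Agent.Helper4.GenLoc Groth.Agent.Helper4.PullUnit Groth.Agent.Helper4.GenLocIso
  Groth.Agent.Helper4.AmpleIso Groth.Agent.Helper4.PullSec Groth.Agent.Helper4.PullAmple
  Groth.Agent.Helper4.AmpleLocal

variable {X Y Y' : Scheme.{u}}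

theorem isAffineOpen_inf_preimage (f : X ⟶ Y) (g : Y' ⟶ Y) (A : X.Opens) (D : Y'.Opens)
    (W : Y.Opens) (hA : IsAffineOpen A) (hD : IsAffineOpen D) (hW : IsAffineOpen W)
    (hAW : A ≤ f ⁻¹ᵁ W) (hDW : D ≤ g ⁻¹ᵁ W) :
    IsAffineOpen (pullback.fst f g ⁻¹ᵁ A ⊓ pullback.snd f g ⁻¹ᵁ D) := by
  haveI : IsAffine (A : Scheme.{u}) := hA
  haveI : IsAffine (D : Scheme.{u}) := hD
  haveI : IsAffine (W : Scheme.{u}) := hW
  let m := pullback.map (f.resLE W A hAW) (g.resLE W D hDW) f g A.ι D.ι W.ι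
    (f.resLE_comp_ι hAW) (g.resLE_comp_ι hDW)
  have h1 : IsAffineOpen m.opensRange := isAffineOpen_opensRange m
  have h2 : m.opensRange = pullback.fst f g ⁻¹ᵁ A ⊓ pullback.snd f g ⁻¹ᵁ D := by
    apply SetLike.coe_injective
    change Set.range m = _
    rw [Scheme.Pullback.range_map, Scheme.Opens.range_ι, Scheme.Opens.range_ι]
    rfl
  rwa [h2] at h1

/-- the restriction of the first projection over an affine part of the base is affine -/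
theorem isAffineHom_resLE_fst (f : X ⟶ Y) (g : Y' ⟶ Y) (D : Y'.Opens) (W : Y.Opens)
    (hD : IsAffineOpen D) (hW : IsAffineOpen W) (hDW : D ≤ g ⁻¹ᵁ W)
    (hQU : pullback.snd f g ⁻¹ᵁ D ≤ pullback.fst f g ⁻¹ᵁ (f ⁻¹ᵁ W)) :
    IsAffineHom ((pullback.fst f g).resLE (f ⁻¹ᵁ W) (pullback.snd f g ⁻¹ᵁ D) hQU) := by
  refine ⟨fun A hA => ?_⟩
  set q := (pullback.fst f g).resLE (f ⁻¹ᵁ W) (pullback.snd f g ⁻¹ᵁ D) hQU with hq
  rw [← Scheme.Hom.isAffineOpen_iff_of_isOpenImmersion (pullback.snd f g ⁻¹ᵁ D).ι]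
  have hA' : IsAffineOpen ((f ⁻¹ᵁ W).ι ''ᵁ A) := hA.image_of_isOpenImmersion _
  have hA'W : (f ⁻¹ᵁ W).ι ''ᵁ A ≤ f ⁻¹ᵁ W := by
    rintro _ ⟨y, _, rfl⟩
    exact y.2
  have h1 := isAffineOpen_inf_preimage f g _ D W hA' hD hW hA'W hDW
  have hfac : ∀ z, (f ⁻¹ᵁ W).ι (q z) = pullback.fst f g ((pullback.snd f g ⁻¹ᵁ D).ι z) := by
    intro z
    rw [← Scheme.Hom.comp_apply, ← Scheme.Hom.comp_apply, hq, Scheme.Hom.resLE_comp_ι]
  have h2 : (pullback.snd f g ⁻¹ᵁ D).ι ''ᵁ (q ⁻¹ᵁ A) =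
      pullback.fst f g ⁻¹ᵁ ((f ⁻¹ᵁ W).ι ''ᵁ A) ⊓ pullback.snd f g ⁻¹ᵁ D := by
    ext z
    constructor
    · rintro ⟨y, hy, rfl⟩
      refine ⟨⟨q y, hy, hfac y⟩, y.2⟩
    · rintro ⟨⟨a, ha, haz⟩, hzD⟩
      refine ⟨⟨z, hzD⟩, ?_, rfl⟩
      have : q ⟨z, hzD⟩ = a := by
        apply (f ⁻¹ᵁ W).ι.isOpenEmbedding.injective
        rw [hfac]
        exact haz.symm
      change q ⟨z, hzD⟩ ∈ A
      rw [this]
      exact ha
  rw [h2]
  exact h1

/-- S2332 -/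
theorem isRelAmple_baseChange (f : X ⟶ Y) [QuasiCompact f] (g : Y' ⟶ Y) (L : X.Modules)
    (hL : RelAmple.IsRelAmple f L) :
    RelAmple.IsRelAmple (pullback.snd f g)
      ((Scheme.Modules.pullback (pullback.fst f g)).obj L) := by
  refine ⟨inferInstance, fun V' => ?_⟩
  have key : ∀ y : V'.1, ∃ a : Γ(Y', V'.1), y.1 ∈ Y'.basicOpen a ∧
      CohB1.IsAmple (((Scheme.Modules.pullback (pullback.fst f g)).obj L).restrict
        (pullback.snd f g ⁻¹ᵁ Y'.basicOpen a).ι) := by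
    intro y
    obtain ⟨W, hW, hyW, -⟩ := exists_isAffineOpen_mem_and_subset (X := Y) (x := g y.1) (U := ⊤)
      trivial
    obtain ⟨a, ha, hya⟩ := V'.2.exists_basicOpen_le (V := g ⁻¹ᵁ W ⊓ V'.1) ⟨y.1, hyW, y.2⟩ y.2
    refine ⟨a, hya, ?_⟩
    have hD : IsAffineOpen (Y'.basicOpen a) := V'.2.basicOpen a
    have hDW : Y'.basicOpen a ≤ g ⁻¹ᵁ W := fun x hx => (ha hx).1
    have hQU : pullback.snd f g ⁻¹ᵁ Y'.basicOpen a ≤ pullback.fst f g ⁻¹ᵁ (f ⁻¹ᵁ W) := by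
      intro z hz
      change f (pullback.fst f g z) ∈ W
      have : f (pullback.fst f g z) = g (pullback.snd f g z) := by
        rw [← Scheme.Hom.comp_apply, ← Scheme.Hom.comp_apply, pullback.condition]
      rw [this]
      exact hDW hz
    haveI := isAffineHom_resLE_fst f g _ W hD hW hDW hQU
    have h1 := isAmple_pullback_of_isAffineHom
      ((pullback.fst f g).resLE (f ⁻¹ᵁ W) (pullback.snd f g ⁻¹ᵁ Y'.basicOpen a) hQU)
      (hL.2 ⟨W, hW⟩)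
    exact isAmple_of_iso ((restrictPullbackIso (pullback.snd f g ⁻¹ᵁ Y'.basicOpen a).ι
      (f ⁻¹ᵁ W).ι (pullback.fst f g) _ (Scheme.Hom.resLE_comp_ι _ hQU).symm).app L).symm h1
  choose a hya ha using key
  exact isAmple_restrict_preimage_of_basicOpen_cover (pullback.snd f g) _ V'.1 V'.2 a
    (fun y hy => ⟨⟨y, hy⟩, hya ⟨y, hy⟩⟩) ha

end Groth.Agent.Helper4.PullBC
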