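import Mathlib
import Groth.Prelude.Def_Curv2
import Groth.Agent.Helper4.QcqsTilde

set_option autoImplicit false
universe u
open CategoryTheory CategoryTheory.Limits AlgebraicGeometry TopologicalSpace Opposite Submodule

namespace Groth.Agent.Helper4.QuasiAffineGG
open Groth.Agent.Helper4.StalkDict Groth.Agent.Helper4 Groth.Agent.Helper4.QcqsMod

variable {R : CommRingCat.{u}}

theorem isLocalizingOn_top_pushforward_of_isOpenImmersion {X : Scheme.{u}} (j : X ⟶ Spec R)
    [IsOpenImmersion j] [CompactSpace X] (F : X.Modules) [F.IsQuasicoherent] :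
    IsLocalizingOn ((Scheme.Modules.pushforward j).obj F) ⊤ := by
  apply isLocalizingOn_pushforward
  apply isLocalizingOn_of_qcqs
  · exact (isCompact_univ : IsCompact (Set.univ : Set X))
  · exact j.isQuasiSeparated_preimage (isAffineOpen_top (Spec R)).isQuasiSeparated

theorem isIso_fromTildeΓ_pushforward_of_isOpenImmersion {X : Scheme.{u}} (j : X ⟶ Spec R)
    [IsOpenImmersion j] [CompactSpace X] (F : X.Modules) [F.IsQuasicoherent] :
    IsIso ((Scheme.Modules.pushforward j).obj F).fromTildeΓ :=
  QcqsTilde.isIso_fromTildeΓ_of_isLocalizingOn_top _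
    (isLocalizingOn_top_pushforward_of_isOpenImmersion j F)

/-- generating sections of `M^~` -/
noncomputable def generatingSectionsTilde (M : ModuleCat.{u} R) :
    SheafOfModules.GeneratingSections (R := (Spec R).ringCatSheaf) (tilde M) :=
  (presentationTilde.{u} M (Set.univ : Set M) (by simp) _ (Submodule.span_eq _)).generators

theorem isGloballyGenerated_of_generatingSections {X : Scheme.{u}} (F : X.Modules)
    (σ : SheafOfModules.GeneratingSections (R := X.ringCatSheaf) F) :
    Curv2.IsGloballyGenerated F :=
  ⟨σ.I, σ.π, σ.epi⟩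

set_option backward.isDefEq.respectTransparency false in
theorem isGloballyGenerated_of_isOpenImmersion_Spec {X : Scheme.{u}} (j : X ⟶ Spec R)
    [IsOpenImmersion j] [CompactSpace X] (F : X.Modules) [F.IsQuasicoherent] :
    Curv2.IsGloballyGenerated F := by
  let G := (Scheme.Modules.pushforward j).obj F
  haveI : IsIso G.fromTildeΓ := isIso_fromTildeΓ_pushforward_of_isOpenImmersion j F
  let σ₀ := generatingSectionsTilde ((modulesSpecToSheaf.obj G).presheaf.obj (.op ⊤))
  let σ₁ := σ₀.ofEpi G.fromTildeΓ
  haveI : PreservesColimitsOfSize.{u, u} (Scheme.Modules.restrictFunctor j) := inferInstance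
  let σ₂ := σ₁.map (Scheme.Modules.restrictFunctor.{u} j) (Scheme.Modules.restrictUnitIso j).symm
  let σ₃ := σ₂.ofEpi ((Scheme.Modules.restrictFunctorAdjCounitIso j).app F).hom
  exact isGloballyGenerated_of_generatingSections F σ₃

end Groth.Agent.Helper4.QuasiAffineGG
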