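import Mathlib
import Groth.Agent.Helper4.PullBC
import Groth.Agent.Helper4.AmpleTensor
import Groth.Agent.Helper4.GGSec
import Groth.Agent.Helper4.QuasiAffineGG
import Groth.Agent.Helper4.QcohGlue

set_option autoImplicit false
open CategoryTheory Limits AlgebraicGeometry TopologicalSpace Opposite
universe u

namespace Groth.Agent.Helper4.CounitEpi

open Groth.Agent.Helper4.GenLoc Groth.Agent.Helper4.PullUnit Groth.Agent.Helper4.GenLocIso
  Groth.Agent.Helper4.AmpleIso Groth.Agent.Helper4.PullSec Groth.Agent.Helper4.PullAmple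
  Groth.Agent.Helper4.AmpleLocal Groth.Agent.Helper4.TensorInv Groth.Agent.Helper4.TensorGen
  Groth.Agent.Helper4.TensorAssoc Groth.Agent.Helper4.AmpleTensor Groth.Agent.Helper4.AmpleBasis
  Groth.Agent.Helper4.TensorRes Groth.Agent.Helper4.AmpleRestrict Groth.Agent.Helper4.QAffSec

variable {X Y : Scheme.{u}}

theorem quasiSeparated_of_isRelAmple (f : X ⟶ Y) (L : X.Modules)
    (hL : RelAmple.IsRelAmple f L) : QuasiSeparated f := by
  rw [HasAffineProperty.eq_targetAffineLocally (P := @QuasiSeparated)]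
  intro U
  exact quasiSeparatedSpace_of_isAmple (hL.2 U)

theorem isGloballyGenerated_of_epi {F G : X.Modules} (q : F ⟶ G) (hq : Epi q)
    (h : Curv2.IsGloballyGenerated F) : Curv2.IsGloballyGenerated G := by
  obtain ⟨ι, p, hp⟩ := h
  exact ⟨ι, p ≫ q, @epi_comp _ _ _ _ _ p hp q hq⟩

theorem isGloballyGenerated_pullback {W V : Scheme.{u}} (g : W ⟶ V) {F : V.Modules}
    (h : Curv2.IsGloballyGenerated F) :
    Curv2.IsGloballyGenerated ((Scheme.Modules.pullback g).obj F) := by
  obtain ⟨ι, p, hp⟩ := h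
  haveI : (SheafOfModules.pushforward.{u} g.toRingCatSheafHom).IsRightAdjoint :=
    (inferInstance : (Scheme.Modules.pushforward g).IsRightAdjoint)
  haveI : (Scheme.Modules.pullback g).PreservesEpimorphisms :=
    Functor.preservesEpimorphisms_of_adjunction (Scheme.Modules.pullbackPushforwardAdjunction g)
  have h1 : Epi ((Scheme.Modules.pullback g).map p) :=
    @Functor.map_epi _ _ _ _ (Scheme.Modules.pullback g) _ _ _ p hp
  let e : (Scheme.Modules.pullback g).obj (SheafOfModules.free ι : V.Modules) ≅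
      (SheafOfModules.free ι : W.Modules) :=
    SheafOfModules.pullbackObjFreeIso g.toRingCatSheafHom ι
  exact ⟨ι, e.inv ≫ (Scheme.Modules.pullback g).map p,
    @epi_comp _ _ _ _ _ e.inv inferInstance _ h1⟩

theorem isGloballyGenerated_of_iso {F G : X.Modules} (e : F ≅ G)
    (h : Curv2.IsGloballyGenerated F) : Curv2.IsGloballyGenerated G :=
  isGloballyGenerated_of_epi e.hom inferInstance h

theorem isGloballyGenerated_restrict_of_epi_counit (f : X ⟶ Y) [QuasiCompact f]
    [QuasiSeparated f] (M : X.Modules) [M.IsQuasicoherent]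
    (hepi : Epi ((Scheme.Modules.pullbackPushforwardAdjunction f).counit.app M)) (V : Y.Opens)
    (hV : IsAffineOpen V) :
    Curv2.IsGloballyGenerated (M.restrict (f ⁻¹ᵁ V).ι) := by
  haveI : ((Scheme.Modules.pushforward f).obj M).IsQuasicoherent :=
    Groth.Agent.Helper4.QcohGlue.isQuasicoherent_pushforward f M
  haveI : IsAffine (V : Scheme.{u}) := hV
  haveI : (((Scheme.Modules.pushforward f).obj M).restrict V.ι).IsQuasicoherent := inferInstance
  have h1 : Curv2.IsGloballyGenerated (((Scheme.Modules.pushforward f).obj M).restrict V.ι) :=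
    Groth.Agent.Helper4.QuasiAffineGG.isGloballyGenerated_of_isOpenImmersion_Spec
      (V : Scheme.{u}).isoSpec.hom _
  have h2 := isGloballyGenerated_pullback (f ∣_ V) h1
  have h3 : Curv2.IsGloballyGenerated
      (((Scheme.Modules.pullback f).obj ((Scheme.Modules.pushforward f).obj M)).restrict
        (f ⁻¹ᵁ V).ι) :=
    isGloballyGenerated_of_iso (resPullIso f V _).symm h2
  haveI : (Scheme.Modules.restrictFunctor (f ⁻¹ᵁ V).ι).PreservesEpimorphisms :=
    Functor.preservesEpimorphisms_of_adjunction (Scheme.Modules.restrictAdjunction (f ⁻¹ᵁ V).ι)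
  have h4 : Epi ((Scheme.Modules.restrictFunctor (f ⁻¹ᵁ V).ι).map
      ((Scheme.Modules.pullbackPushforwardAdjunction f).counit.app M)) :=
    @Functor.map_epi _ _ _ _ (Scheme.Modules.restrictFunctor (f ⁻¹ᵁ V).ι) _ _ _ _ hepi
  exact isGloballyGenerated_of_epi _ h4 h3

/-- S4388 -/
theorem isRelAmple_tensorMod_of_epi_counit (f : X ⟶ Y) [QuasiCompact f] (L L' : X.Modules)
    (hL : RelAmple.IsRelAmple f L) (hL' : PicF.IsInvertible L') (n : ℕ) (hn : 0 < n)
    (hepi : Epi ((Scheme.Modules.pullbackPushforwardAdjunction f).counit.app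
      (CohB1.tensorPow L' n))) :
    RelAmple.IsRelAmple f (CohB1.tensorMod L L') := by
  haveI := quasiSeparated_of_isRelAmple f L hL
  haveI : (CohB1.tensorPow L' n).IsQuasicoherent :=
    isQuasicoherent_of_isInvertible _ (isInvertible_tensorPow hL' n)
  refine ⟨inferInstance, fun V => ?_⟩
  have hgg := isGloballyGenerated_restrict_of_epi_counit f (CohB1.tensorPow L' n) hepi V.1 V.2
  have hinvU : PicF.IsInvertible (L'.restrict (f ⁻¹ᵁ V.1).ι) :=
    isInvertible_restrict (f ⁻¹ᵁ V.1).ι hL'
  have hgg' : Curv2.IsGloballyGenerated (CohB1.tensorPow (L'.restrict (f ⁻¹ᵁ V.1).ι) n) :=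
    isGloballyGenerated_of_iso (resPowIso (f ⁻¹ᵁ V.1).ι L' n).symm hgg
  obtain ⟨k, rfl⟩ := Nat.exists_eq_succ_of_ne_zero hn.ne'
  have h := isAmple_tensorMod_of_cover (hL.2 V) hinvU (fun x => by
    obtain ⟨t, ht⟩ := Groth.Agent.Helper4.GGSec.exists_mem_genLocus_of_isGloballyGenerated _
      (isInvertible_tensorPow hinvU _) hgg' x
    exact ⟨k, t, ht⟩)
  exact isAmple_of_iso (resIso (f ⁻¹ᵁ V.1).ι L L') h

end Groth.Agent.Helper4.CounitEpi
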