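import Groth.Agent.Helper4.TwistExt
import Mathlib

set_option autoImplicit false
universe u
open CategoryTheory CategoryTheory.Limits AlgebraicGeometry Opposite TopologicalSpace TensorProduct
  MonoidalCategory

namespace Groth.Agent.Helper4.TensorAssoc

open Groth.Agent.Helper4.GenLoc Groth.Agent.Helper4.TensorInv Groth.Agent.Helper4.TensorGen
  Groth.Agent.Helper4.QAffSec Groth.Agent.Helper4.TensorLift Groth.Agent.Helper4.TwistLocal
  Groth.Agent.Helper4.TwistExt Groth.Agent.Helper4.TensorRes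

variable {X : Scheme.{u}}

section Key

variable (A B : X.Modules) (U : X.Opens)
  (ε : B.restrict U.ι ≅ Coh.structureModule (U : Scheme.{u}))

/-- the composite `(A ⊗ B)(U.ι ''ᵁ W') → A(U.ι ''ᵁ W')` induced by a trivialization of `B` -/
noncomputable def Psi (W' : (U : Scheme.{u}).Opens) :
    Γ(CohB1.tensorMod A B, U.ι ''ᵁ W') → Γ(A, U.ι ''ᵁ W') := fun s =>
  (SecTwist.unitorR (A.restrict U.ι)).hom.app W'
    ((PicGrp.tensorModIso (Iso.refl (A.restrict U.ι)) ε).hom.app W'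
      ((resIso U.ι A B).inv.app W' s))

theorem Psi_bijective (W' : (U : Scheme.{u}).Opens) : Function.Bijective (Psi A B U ε W') := by
  have h1 : Function.Bijective ((resIso U.ι A B).inv.app W') :=
    ConcreteCategory.bijective_of_isIso ((resIso U.ι A B).inv.app W')
  have h2 : Function.Bijective
      ((PicGrp.tensorModIso (Iso.refl (A.restrict U.ι)) ε).hom.app W') :=
    ConcreteCategory.bijective_of_isIso _
  have h3 : Function.Bijective ((SecTwist.unitorR (A.restrict U.ι)).hom.app W') :=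
    ConcreteCategory.bijective_of_isIso _
  exact h3.comp (h2.comp h1)

theorem Psi_tmul (W' : (U : Scheme.{u}).Opens) (a : Γ(A, U.ι ''ᵁ W')) (b : Γ(B, U.ι ''ᵁ W')) :
    Psi A B U ε W' (SecTwist.tmul A B (U.ι ''ᵁ W') a b) =
      (show Γ(A.restrict U.ι, W') from (toFn (ε.hom.app W' b)) • (show Γ(A.restrict U.ι, W') from a)) := by
  unfold Psi
  rw [resIso_inv_tmul, tensorModIso_hom_tmul]
  exact SecTwist.unitorR_tmul (A.restrict U.ι) W' a (ε.hom.app W' b)

/-- the local generator of `B` over `U.ι ''ᵁ W'` -/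
noncomputable def gen (W' : (U : Scheme.{u}).Opens) : Γ(B, U.ι ''ᵁ W') :=
  ε.inv.app W' (one (U : Scheme.{u}) W')

theorem eq_smul_gen (W' : (U : Scheme.{u}).Opens) (b : Γ(B, U.ι ''ᵁ W')) :
    b = (U.ι.appIso W').inv (toFn (ε.hom.app W' b)) • gen B U ε W' := by
  have h1 : b = ε.inv.app W' (ε.hom.app W' b) := (iso_inv_hom_app ε W' b).symm
  have h2 : ε.hom.app W' b = toFn (ε.hom.app W' b) • one (U : Scheme.{u}) W' :=
    (GenLoc.smul_one W' (toFn (ε.hom.app W' b))).symm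
  rw [h2, Scheme.Modules.Hom.app_smul] at h1
  exact h1

theorem Psi_tmul_gen (W' : (U : Scheme.{u}).Opens) (a : Γ(A, U.ι ''ᵁ W')) :
    Psi A B U ε W' (SecTwist.tmul A B (U.ι ''ᵁ W') a (gen B U ε W')) = a := by
  rw [Psi_tmul]
  unfold gen
  rw [iso_hom_inv_app]
  change (1 : Γ((U : Scheme.{u}), W')) • (show Γ(A.restrict U.ι, W') from a) = a
  exact one_smul _ _

theorem exists_pure_gen (W' : (U : Scheme.{u}).Opens) (x : TT A B (U.ι ''ᵁ W')) :
    ∃ a : Γ(A, U.ι ''ᵁ W'), x = pure A B (U.ι ''ᵁ W') a (gen B U ε W') := by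
  induction x using TensorProduct.induction_on with
  | zero =>
    refine ⟨0, ?_⟩
    exact (TensorProduct.zero_tmul (R := RR X (U.ι ''ᵁ W')) (SS A (U.ι ''ᵁ W'))
      (N := SS B (U.ι ''ᵁ W')) (gen B U ε W')).symm
  | tmul a b =>
    refine ⟨(U.ι.appIso W').inv (toFn (ε.hom.app W' b)) • (show Γ(A, U.ι ''ᵁ W') from a), ?_⟩
    rw [pure_smul_left, ← pure_smul_right, ← eq_smul_gen B U ε W' b]
    rfl
  | add x y hx hy =>
    obtain ⟨a, rfl⟩ := hx
    obtain ⟨a', rfl⟩ := hy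
    exact ⟨a + a', (pure_add_left A B _ a a' _).symm⟩

include ε in
/-- KEY: over opens inside a trivializing open for `B`, the presheaf tensor product already
computes the sections of `A ⊗ B` -/
theorem tt_bijective_image (W' : (U : Scheme.{u}).Opens) :
    Function.Bijective (tt A B (U.ι ''ᵁ W')) := by
  constructor
  · intro x y hxy
    obtain ⟨a, rfl⟩ := exists_pure_gen A B U ε W' x
    obtain ⟨a', rfl⟩ := exists_pure_gen A B U ε W' y
    have h1 : SecTwist.tmul A B (U.ι ''ᵁ W') a (gen B U ε W') =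
        SecTwist.tmul A B (U.ι ''ᵁ W') a' (gen B U ε W') := hxy
    have h2 := congrArg (Psi A B U ε W') h1
    rw [Psi_tmul_gen, Psi_tmul_gen] at h2
    rw [h2]
  · intro s
    refine ⟨pure A B (U.ι ''ᵁ W') (Psi A B U ε W' s) (gen B U ε W'), ?_⟩
    apply (Psi_bijective A B U ε W').1
    exact Psi_tmul_gen A B U ε W' _

include ε in
theorem tt_bijective_of_le {W : X.Opens} (hW : W ≤ U) : Function.Bijective (tt A B W) := by
  have h := tt_bijective_image A B U ε (U.ι ⁻¹ᵁ W)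
  rw [image_preimage_of_le' U hW] at h
  exact h

end Key

section Whisker

/-- the unit `A ⊗_p B ⟶ A ⊗ B` as a morphism of presheaves of modules in monoidal form -/
noncomputable def eta (A B : X.Modules) :
    (CohB1.tensorPre A B : CohB1.PMod X) ⟶ CohB1.toPMod (CohB1.tensorMod A B) :=
  SecTwist.toTensor A B

theorem eta_app (A B : X.Modules) (V : X.Opens) (x : TT A B V) :
    (eta A B).app (op V) x = tt A B V x := rfl

theorem isIso_eta_app (A B : X.Modules) (U : X.Opens)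
    (ε : B.restrict U.ι ≅ Coh.structureModule (U : Scheme.{u})) {W : X.Opens} (hW : W ≤ U) :
    IsIso ((eta A B).app (op W)) := by
  rw [ConcreteCategory.isIso_iff_bijective]
  exact tt_bijective_of_le A B U ε hW

/-- left bracketing: `(A ⊗_p B) ⊗_p C ⟶ (A ⊗ B) ⊗ C` -/
noncomputable def gL (A B C : X.Modules) :
    (((CohB1.tensorPre A B : CohB1.PMod X) ⊗ CohB1.toPMod C : CohB1.PMod X) :
      X.PresheafOfModules) ⟶ tgt (CohB1.tensorMod (CohB1.tensorMod A B) C) :=
  (show ((CohB1.tensorPre A B : CohB1.PMod X) ⊗ CohB1.toPMod C : CohB1.PMod X) ⟶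
      (CohB1.tensorPre (CohB1.tensorMod A B) C : CohB1.PMod X) from eta A B ▷ CohB1.toPMod C) ≫
    SecTwist.toTensor (CohB1.tensorMod A B) C

theorem gL_app (A B C : X.Modules) (V : X.Opens)
    (x : ↥(((CohB1.tensorPre A B : CohB1.PMod X) ⊗ CohB1.toPMod C : CohB1.PMod X).obj (op V))) :
    (gL A B C).app (op V) x =
      tt (CohB1.tensorMod A B) C V ((eta A B ▷ CohB1.toPMod C).app (op V) x) := rfl

theorem wr_bijective (A B C : X.Modules) (U : X.Opens)
    (ε : B.restrict U.ι ≅ Coh.structureModule (U : Scheme.{u})) {W : X.Opens} (hW : W ≤ U) :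
    Function.Bijective ((eta A B ▷ CohB1.toPMod C).app (op W)) := by
  have h0 := isIso_eta_app A B U ε hW
  rw [← ConcreteCategory.isIso_iff_bijective]
  rw [PresheafOfModules.whiskerRight_app]
  exact @MonoidalCategory.whiskerRight_isIso (ModuleCat (X.sheaf.obj.obj (op W))) _ _ _ _
    ((eta A B).app (op W)) ((CohB1.toPMod C).obj (op W)) h0

theorem gL_locInj (A B C : X.Modules) (hB : PicF.IsInvertible B) :
    Presheaf.IsLocallyInjective (Opens.grothendieckTopology X)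
      ((PresheafOfModules.toPresheaf _).map (gL A B C)) := by
  apply isLocallyInjective_of
  intro V x y hxy p hp
  have hxy' : tt (CohB1.tensorMod A B) C V ((eta A B ▷ CohB1.toPMod C).app (op V) x) =
      tt (CohB1.tensorMod A B) C V ((eta A B ▷ CohB1.toPMod C).app (op V) y) := hxy
  obtain ⟨W₁, i₁, hpW₁, h1⟩ := toTensor_locInj (CohB1.tensorMod A B) C V _ _ hxy' p hp
  obtain ⟨U, hpU, ⟨ε⟩⟩ := hB p
  let j : W₁ ⊓ U ⟶ W₁ := homOfLE inf_le_left
  refine ⟨W₁ ⊓ U, j ≫ i₁, ⟨hpW₁, hpU⟩, ?_⟩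
  apply (wr_bijective A B C U ε (inf_le_right : W₁ ⊓ U ≤ U)).1
  have n1 := PresheafOfModules.naturality_apply (eta A B ▷ CohB1.toPMod C) (j ≫ i₁).op x
  have n2 := PresheafOfModules.naturality_apply (eta A B ▷ CohB1.toPMod C) (j ≫ i₁).op y
  refine n1.trans (Eq.trans ?_ n2.symm)
  have h2 : ∀ z : TT (CohB1.tensorMod A B) C V,
      (CohB1.tensorPre (CohB1.tensorMod A B) C).map (j ≫ i₁).op z =
        (CohB1.tensorPre (CohB1.tensorMod A B) C).map j.op
          (preMap (CohB1.tensorMod A B) C i₁ z) := by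
    intro z
    rw [op_comp, PresheafOfModules.map_comp_apply]
    rfl
  exact (h2 _).trans ((congrArg _ h1).trans (h2 _).symm)

theorem gL_locSurj (A B C : X.Modules) (hB : PicF.IsInvertible B) :
    Presheaf.IsLocallySurjective (Opens.grothendieckTopology X)
      ((PresheafOfModules.toPresheaf _).map (gL A B C)) := by
  apply isLocallySurjective_of
  intro V s p hp
  obtain ⟨W₁, i₁, hpW₁, z, hz⟩ := toTensor_locSurj (CohB1.tensorMod A B) C V s p hp
  obtain ⟨U, hpU, ⟨ε⟩⟩ := hB p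
  let j : W₁ ⊓ U ⟶ W₁ := homOfLE inf_le_left
  refine ⟨W₁ ⊓ U, j ≫ i₁, ⟨hpW₁, hpU⟩, ?_⟩
  obtain ⟨x, hx⟩ := (wr_bijective A B C U ε (inf_le_right : W₁ ⊓ U ≤ U)).2
    ((CohB1.tensorPre (CohB1.tensorMod A B) C).map j.op z)
  refine ⟨x, ?_⟩
  change tt (CohB1.tensorMod A B) C (W₁ ⊓ U) ((eta A B ▷ CohB1.toPMod C).app (op (W₁ ⊓ U)) x) = _
  rw [hx, ← tt_map, hz]
  change (CohB1.tensorMod (CohB1.tensorMod A B) C).presheaf.map j.op
      ((CohB1.tensorMod (CohB1.tensorMod A B) C).presheaf.map i₁.op s) =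
    (CohB1.tensorMod (CohB1.tensorMod A B) C).presheaf.map (j ≫ i₁).op s
  rw [op_comp, Functor.map_comp]
  rfl

/-- `a((A ⊗_p B) ⊗_p C) ≅ (A ⊗ B) ⊗ C` for `B` invertible -/
noncomputable def isoL (A B C : X.Modules) (hB : PicF.IsInvertible B) :
    (CohB1.sheafifyMod X).obj
      (((CohB1.tensorPre A B : CohB1.PMod X) ⊗ CohB1.toPMod C : CohB1.PMod X) :
        X.PresheafOfModules) ≅ CohB1.tensorMod (CohB1.tensorMod A B) C :=
  @asIso _ _ _ _ (((adj X).homEquiv _ _).symm (gL A B C))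
    (isIso_of_isLocallyBijective (gL A B C) (gL_locInj A B C hB) (gL_locSurj A B C hB))

/-- right bracketing: `A ⊗_p (B ⊗_p C) ⟶ A ⊗ (B ⊗ C)` -/
noncomputable def gR (A B C : X.Modules) :
    ((CohB1.toPMod A ⊗ (CohB1.tensorPre B C : CohB1.PMod X) : CohB1.PMod X) :
      X.PresheafOfModules) ⟶ tgt (CohB1.tensorMod A (CohB1.tensorMod B C)) :=
  (show (CohB1.toPMod A ⊗ (CohB1.tensorPre B C : CohB1.PMod X) : CohB1.PMod X) ⟶
      (CohB1.tensorPre A (CohB1.tensorMod B C) : CohB1.PMod X) from CohB1.toPMod A ◁ eta B C) ≫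
    SecTwist.toTensor A (CohB1.tensorMod B C)

theorem wl_bijective (A B C : X.Modules) (U : X.Opens)
    (ε : C.restrict U.ι ≅ Coh.structureModule (U : Scheme.{u})) {W : X.Opens} (hW : W ≤ U) :
    Function.Bijective ((CohB1.toPMod A ◁ eta B C).app (op W)) := by
  have h0 := isIso_eta_app B C U ε hW
  rw [← ConcreteCategory.isIso_iff_bijective]
  rw [PresheafOfModules.whiskerLeft_app]
  exact @MonoidalCategory.whiskerLeft_isIso (ModuleCat (X.sheaf.obj.obj (op W))) _ _
    ((CohB1.toPMod A).obj (op W)) _ _ ((eta B C).app (op W)) h0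

theorem gR_locInj (A B C : X.Modules) (hC : PicF.IsInvertible C) :
    Presheaf.IsLocallyInjective (Opens.grothendieckTopology X)
      ((PresheafOfModules.toPresheaf _).map (gR A B C)) := by
  apply isLocallyInjective_of
  intro V x y hxy p hp
  have hxy' : tt A (CohB1.tensorMod B C) V ((CohB1.toPMod A ◁ eta B C).app (op V) x) =
      tt A (CohB1.tensorMod B C) V ((CohB1.toPMod A ◁ eta B C).app (op V) y) := hxy
  obtain ⟨W₁, i₁, hpW₁, h1⟩ := toTensor_locInj A (CohB1.tensorMod B C) V _ _ hxy' p hp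
  obtain ⟨U, hpU, ⟨ε⟩⟩ := hC p
  let j : W₁ ⊓ U ⟶ W₁ := homOfLE inf_le_left
  refine ⟨W₁ ⊓ U, j ≫ i₁, ⟨hpW₁, hpU⟩, ?_⟩
  apply (wl_bijective A B C U ε (inf_le_right : W₁ ⊓ U ≤ U)).1
  have n1 := PresheafOfModules.naturality_apply (CohB1.toPMod A ◁ eta B C) (j ≫ i₁).op x
  have n2 := PresheafOfModules.naturality_apply (CohB1.toPMod A ◁ eta B C) (j ≫ i₁).op y
  refine n1.trans (Eq.trans ?_ n2.symm)
  have h2 : ∀ z : TT A (CohB1.tensorMod B C) V,
      (CohB1.tensorPre A (CohB1.tensorMod B C)).map (j ≫ i₁).op z =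
        (CohB1.tensorPre A (CohB1.tensorMod B C)).map j.op
          (preMap A (CohB1.tensorMod B C) i₁ z) := by
    intro z
    rw [op_comp, PresheafOfModules.map_comp_apply]
    rfl
  exact (h2 _).trans ((congrArg _ h1).trans (h2 _).symm)

theorem gR_locSurj (A B C : X.Modules) (hC : PicF.IsInvertible C) :
    Presheaf.IsLocallySurjective (Opens.grothendieckTopology X)
      ((PresheafOfModules.toPresheaf _).map (gR A B C)) := by
  apply isLocallySurjective_of
  intro V s p hp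
  obtain ⟨W₁, i₁, hpW₁, z, hz⟩ := toTensor_locSurj A (CohB1.tensorMod B C) V s p hp
  obtain ⟨U, hpU, ⟨ε⟩⟩ := hC p
  let j : W₁ ⊓ U ⟶ W₁ := homOfLE inf_le_left
  refine ⟨W₁ ⊓ U, j ≫ i₁, ⟨hpW₁, hpU⟩, ?_⟩
  obtain ⟨x, hx⟩ := (wl_bijective A B C U ε (inf_le_right : W₁ ⊓ U ≤ U)).2
    ((CohB1.tensorPre A (CohB1.tensorMod B C)).map j.op z)
  refine ⟨x, ?_⟩
  change tt A (CohB1.tensorMod B C) (W₁ ⊓ U) ((CohB1.toPMod A ◁ eta B C).app (op (W₁ ⊓ U)) x) = _
  rw [hx, ← tt_map, hz]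
  change (CohB1.tensorMod A (CohB1.tensorMod B C)).presheaf.map j.op
      ((CohB1.tensorMod A (CohB1.tensorMod B C)).presheaf.map i₁.op s) =
    (CohB1.tensorMod A (CohB1.tensorMod B C)).presheaf.map (j ≫ i₁).op s
  rw [op_comp, Functor.map_comp]
  rfl

/-- `a(A ⊗_p (B ⊗_p C)) ≅ A ⊗ (B ⊗ C)` for `C` invertible -/
noncomputable def isoR (A B C : X.Modules) (hC : PicF.IsInvertible C) :
    (CohB1.sheafifyMod X).obj
      ((CohB1.toPMod A ⊗ (CohB1.tensorPre B C : CohB1.PMod X) : CohB1.PMod X) :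
        X.PresheafOfModules) ≅ CohB1.tensorMod A (CohB1.tensorMod B C) :=
  @asIso _ _ _ _ (((adj X).homEquiv _ _).symm (gR A B C))
    (isIso_of_isLocallyBijective (gR A B C) (gR_locInj A B C hC) (gR_locSurj A B C hC))

/-- the associator of the tensor product of modules, for `B` and `C` invertible -/
noncomputable def assocIso (A B C : X.Modules) (hB : PicF.IsInvertible B)
    (hC : PicF.IsInvertible C) :
    CohB1.tensorMod (CohB1.tensorMod A B) C ≅ CohB1.tensorMod A (CohB1.tensorMod B C) :=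
  (isoL A B C hB).symm ≪≫
    (CohB1.sheafifyMod X).mapIso
      (show (((CohB1.tensorPre A B : CohB1.PMod X) ⊗ CohB1.toPMod C : CohB1.PMod X) :
          X.PresheafOfModules) ≅
        ((CohB1.toPMod A ⊗ (CohB1.tensorPre B C : CohB1.PMod X) : CohB1.PMod X) :
          X.PresheafOfModules) from α_ (CohB1.toPMod A) (CohB1.toPMod B) (CohB1.toPMod C)) ≪≫
    isoR A B C hC

end Whisker

section Powers

open Groth.Agent.Helper4.AmpleIso

/-- `L^a ⊗ L^b ≅ L^(a+b)` -/
noncomputable def powAddIso (L : X.Modules) (hL : PicF.IsInvertible L) (a : ℕ) :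
    ∀ b : ℕ, CohB1.tensorMod (CohB1.tensorPow L a) (CohB1.tensorPow L b) ≅ CohB1.tensorPow L (a + b)
  | 0 => SecTwist.unitorR (CohB1.tensorPow L a)
  | b + 1 =>
    (assocIso (CohB1.tensorPow L a) (CohB1.tensorPow L b) L (isInvertible_tensorPow hL b) hL).symm ≪≫
      PicGrp.tensorModIso (powAddIso L hL a b) (Iso.refl L)

/-- `(L^a)^b ≅ L^(a*b)` -/
noncomputable def powMulIso (L : X.Modules) (hL : PicF.IsInvertible L) (a : ℕ) :
    ∀ b : ℕ, CohB1.tensorPow (CohB1.tensorPow L a) b ≅ CohB1.tensorPow L (a * b)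
  | 0 => Iso.refl _
  | b + 1 =>
    PicGrp.tensorModIso (powMulIso L hL a b) (Iso.refl (CohB1.tensorPow L a)) ≪≫
      powAddIso L hL (a * b) a

/-- transport of tensor powers along an equality of exponents -/
noncomputable def powCastIso (L : X.Modules) {a b : ℕ} (h : a = b) :
    CohB1.tensorPow L a ≅ CohB1.tensorPow L b :=
  eqToIso (congrArg (CohB1.tensorPow L) h)

theorem genLocus_id : CohB1.genLocus (Coh.structureModule X) (𝟙 _) = ⊤ := by
  apply top_le_iff.mp
  apply le_sSup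
  change IsIso _
  rw [CategoryTheory.Functor.map_id]
  infer_instance

theorem genLocus_powHom {L : X.Modules} (hL : PicF.IsInvertible L)
    (s : Coh.structureModule X ⟶ L) (n : ℕ) :
    CohB1.genLocus (CohB1.tensorPow L (n + 1)) (SecTwist.powHom s (n + 1)) = CohB1.genLocus L s := by
  induction n with
  | zero =>
    change CohB1.genLocus _ (SecTwist.tmulHom (SecTwist.powHom s 0) s) = _
    rw [genLocus_tmulHom _ _ (isInvertible_tensorPow hL 0) hL]
    change CohB1.genLocus (Coh.structureModule X) (𝟙 _) ⊓ _ = _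
    rw [genLocus_id, top_inf_eq]
  | succ n ih =>
    change CohB1.genLocus _ (SecTwist.tmulHom (SecTwist.powHom s (n + 1)) s) = _
    rw [genLocus_tmulHom _ _ (isInvertible_tensorPow hL (n + 1)) hL, ih, inf_idem]

theorem isAmple_tensorPow {L : X.Modules} (hL : PicF.IsInvertible L) (n : ℕ) (hn : 0 < n)
    (h : CohB1.IsAmple L) : CohB1.IsAmple (CohB1.tensorPow L n) := by
  obtain ⟨_, hX, h⟩ := h
  refine ⟨isInvertible_tensorPow hL n, hX, fun x => ?_⟩
  obtain ⟨m, s, hx, ha⟩ := h x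
  obtain ⟨k, rfl⟩ : ∃ k, n = k + 1 := Nat.exists_eq_succ_of_ne_zero hn.ne'
  let e : CohB1.tensorPow (CohB1.tensorPow L (m + 1)) (k + 1) ≅
      CohB1.tensorPow (CohB1.tensorPow L (k + 1)) (m + 1) :=
    powMulIso L hL (m + 1) (k + 1) ≪≫ powCastIso L (Nat.mul_comm _ _) ≪≫
      (powMulIso L hL (k + 1) (m + 1)).symm
  refine ⟨m, SecTwist.powHom s (k + 1) ≫ e.hom, ?_, ?_⟩
  · rw [genLocus_comp_iso, genLocus_powHom (isInvertible_tensorPow hL (m + 1))]; exact hx
  · rw [genLocus_comp_iso, genLocus_powHom (isInvertible_tensorPow hL (m + 1))]; exact ha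

theorem isAmple_of_tensorPow {L : X.Modules} (hL : PicF.IsInvertible L) (n : ℕ) (hn : 0 < n)
    (h : CohB1.IsAmple (CohB1.tensorPow L n)) : CohB1.IsAmple L := by
  obtain ⟨_, hX, h⟩ := h
  refine ⟨hL, hX, fun x => ?_⟩
  obtain ⟨m, s, hx, ha⟩ := h x
  obtain ⟨m', hm'⟩ : ∃ m', n * (m + 1) = m' + 1 :=
    Nat.exists_eq_succ_of_ne_zero (Nat.mul_pos hn (Nat.succ_pos m)).ne'
  let e : CohB1.tensorPow (CohB1.tensorPow L n) (m + 1) ≅ CohB1.tensorPow L (m' + 1) :=
    powMulIso L hL n (m + 1) ≪≫ powCastIso L hm'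
  exact ⟨m', s ≫ e.hom, by rw [genLocus_comp_iso]; exact hx, by rw [genLocus_comp_iso]; exact ha⟩

end Powers

end Groth.Agent.Helper4.TensorAssoc
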