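import Mathlib
import Groth.Prelude.Def_CohB1
import Groth.Agent.Helper4.AffineDict

/-!
# Helper4: isomorphisms of quasi-coherent modules can be detected on affine sections
-/

set_option autoImplicit false
open CategoryTheory Limits AlgebraicGeometry TopologicalSpace Opposite
universe u

namespace Groth.Agent.Helper4.AffineIso


open Groth.Agent.Helper4 Groth.Agent.Helper4.AffineDict

set_option backward.isDefEq.respectTransparency false in
open Scheme.Modules in
/-- a morphism of quasi-coherent modules which is bijective on sections over an affine open `U`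
restricts to an isomorphism over `U`. -/
theorem isIso_restrict_of_affModMap_bijective {X : Scheme.{u}} {A B : X.Modules}
    (hA : SheafOfModules.IsQuasicoherent (R := X.ringCatSheaf) A)
    (hB : SheafOfModules.IsQuasicoherent (R := X.ringCatSheaf) B) (φ : A ⟶ B)
    (U : X.Opens) (hU : IsAffineOpen U)
    (h : Function.Bijective (affModMap φ U hU).hom) :
    IsIso ((restrictFunctor U.ι).map φ) := by
  let R : CommRingCat.{u} := Γ(X, U)
  let e : (U : Scheme.{u}) ≅ Spec R := hU.isoSpec
  let ψ := (restrictFunctor e.inv).map ((restrictFunctor U.ι).map φ)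
  haveI : SheafOfModules.IsQuasicoherent (R := X.ringCatSheaf) A := hA
  haveI : SheafOfModules.IsQuasicoherent (R := X.ringCatSheaf) B := hB
  haveI : ((A.restrict U.ι).restrict e.inv).IsQuasicoherent := inferInstance
  haveI : ((B.restrict U.ι).restrict e.inv).IsQuasicoherent := inferInstance
  haveI h1 : IsIso ((A.restrict U.ι).restrict e.inv).fromTildeΓ := inferInstance
  haveI h2 : IsIso ((B.restrict U.ι).restrict e.inv).fromTildeΓ := inferInstance
  haveI h3 : IsIso (affModMap φ U hU) :=
    (ConcreteCategory.isIso_iff_bijective _).mpr h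
  have nat := (fromTildeΓNatTrans (R := R)).naturality ψ
  have hψ : IsIso ψ := by
    have nat' : (tilde.functor R).map (affModMap φ U hU) ≫
        ((B.restrict U.ι).restrict e.inv).fromTildeΓ =
        ((A.restrict U.ι).restrict e.inv).fromTildeΓ ≫ ψ := nat
    have hh : ψ = inv ((A.restrict U.ι).restrict e.inv).fromTildeΓ ≫
        (tilde.functor R).map (affModMap φ U hU) ≫
        ((B.restrict U.ι).restrict e.inv).fromTildeΓ := by
      rw [nat', IsIso.inv_hom_id_assoc]
    rw [hh]
    infer_instance
  -- go back along `e`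
  let α : restrictFunctor e.inv ⋙ restrictFunctor e.hom ≅ 𝟭 _ :=
    (restrictFunctorComp e.hom e.inv).symm ≪≫ restrictFunctorCongr e.hom_inv_id ≪≫
      restrictFunctorId
  have h6 : IsIso ((restrictFunctor e.inv ⋙ restrictFunctor e.hom).map
      ((restrictFunctor U.ι).map φ)) := by
    change IsIso ((restrictFunctor e.hom).map ψ)
    infer_instance
  exact (NatIso.isIso_map_iff α _).mp h6




set_option backward.isDefEq.respectTransparency false in
open Scheme.Modules in
theorem isIso_of_isIso_restrict {X : Scheme.{u}} {A B : X.Modules} (φ : A ⟶ B)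
    (h : ∀ x : X, ∃ U : X.Opens, x ∈ U ∧ IsIso ((restrictFunctor U.ι).map φ)) : IsIso φ := by
  have hst : ∀ x : X, IsIso ((TopCat.Presheaf.stalkFunctor Ab x).map ((toPresheaf X).map φ)) := by
    intro x
    obtain ⟨U, hxU, hU⟩ := h x
    have nat := (restrictStalkNatIso U.ι ⟨x, hxU⟩).hom.naturality φ
    have h1 : IsIso ((restrictFunctor U.ι ⋙ toPresheaf _ ⋙
        TopCat.Presheaf.stalkFunctor Ab (X := (U : Scheme.{u}).toTopCat) (⟨x, hxU⟩ : U)).map φ) := by
      change IsIso ((toPresheaf _ ⋙ TopCat.Presheaf.stalkFunctor Ab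
        (X := (U : Scheme.{u}).toTopCat) (⟨x, hxU⟩ : U)).map ((restrictFunctor U.ι).map φ))
      infer_instance
    have h2 : (toPresheaf _ ⋙ TopCat.Presheaf.stalkFunctor Ab (X := X.toTopCat)
        (U.ι (⟨x, hxU⟩ : U))).map φ =
        inv ((restrictStalkNatIso U.ι ⟨x, hxU⟩).hom.app A) ≫
          (restrictFunctor U.ι ⋙ toPresheaf _ ⋙
            TopCat.Presheaf.stalkFunctor Ab (X := (U : Scheme.{u}).toTopCat) (⟨x, hxU⟩ : U)).map φ ≫
          (restrictStalkNatIso U.ι ⟨x, hxU⟩).hom.app B := by
      rw [nat, IsIso.inv_hom_id_assoc]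
    have h3 : IsIso ((toPresheaf _ ⋙ TopCat.Presheaf.stalkFunctor Ab (X := X.toTopCat)
        (U.ι (⟨x, hxU⟩ : U))).map φ) := by
      rw [h2]; infer_instance
    exact h3
  let f : (⟨A.presheaf, A.isSheaf⟩ : TopCat.Sheaf Ab X.toTopCat) ⟶ ⟨B.presheaf, B.isSheaf⟩ :=
    ⟨(toPresheaf X).map φ⟩
  haveI : ∀ x : X, IsIso ((TopCat.Presheaf.stalkFunctor Ab x).map f.1) := hst
  have h4 := TopCat.Presheaf.isIso_of_stalkFunctor_map_iso f
  have h5 : IsIso ((toPresheaf X).map φ) := (TopCat.Sheaf.forget Ab X.toTopCat).map_isIso f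
  exact isIso_of_reflects_iso φ (toPresheaf X)


theorem affModMap_comp {X : Scheme.{u}} {A B C : X.Modules} (f : A ⟶ B) (g : B ⟶ C) (U : X.Opens)
    (hU : IsAffineOpen U) : affModMap (f ≫ g) U hU = affModMap f U hU ≫ affModMap g U hU := by
  simp only [affModMap, Functor.map_comp]
  rfl


end Groth.Agent.Helper4.AffineIso
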