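import Groth.Agent.Helper4.FTIdeal
import Mathlib

set_option autoImplicit false
universe u
open CategoryTheory CategoryTheory.Limits AlgebraicGeometry Opposite TopologicalSpace

namespace Groth.Agent.Helper4.FTIdeal2

open Groth.Agent.Helper4.GenLoc Groth.Agent.Helper4.GGSec Groth.Agent.Helper4.AmpleIso
  Groth.Agent.Helper4.StalkExact Groth.Agent.Helper4.QAffSec Groth.Agent.Helper4.TensorInv

variable {X : Scheme.{u}}

/-- the ideal module of the reduced closed complement of an open `U`, with monomorphy recorded -/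
theorem exists_ideal_module_mono' (U : X.Opens) :
    ∃ (J : X.Modules) (ιJ : J ⟶ Coh.structureModule X), Mono ιJ ∧ J.IsQuasicoherent ∧
      (∀ V : X.Opens, V ≤ U → Function.Bijective (ιJ.app V)) ∧
      (∀ (D : X.Opens) (m : Γ(J, D)), X.basicOpen (toFn (ιJ.app D m)) ≤ U) := by
  let Z : Closeds X := ⟨(U : Set X)ᶜ, U.isOpen.isClosed_compl⟩
  let I := Scheme.IdealSheafData.vanishingIdeal Z
  have hsupp : (I.support : Set X) = (U : Set X)ᶜ := Scheme.IdealSheafData.coe_support_vanishingIdeal Z
  let φ := ClSub.toSubscheme I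
  haveI : (Coh.structureModule X).IsQuasicoherent :=
    isQuasicoherent_of_isInvertible _ isInvertible_structureModule
  haveI : (Coh.structureModule I.subscheme).IsQuasicoherent :=
    isQuasicoherent_of_isInvertible _ isInvertible_structureModule
  haveI : ((Scheme.Modules.pushforward I.subschemeι).obj
      (Coh.structureModule I.subscheme)).IsQuasicoherent :=
    QcohGlue.isQuasicoherent_pushforward I.subschemeι _
  have hex : (ShortComplex.mk (kernel.ι φ) φ (kernel.condition φ)).Exact :=
    ShortComplex.exact_of_f_is_kernel _ (kernelIsKernel φ)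
  refine ⟨kernel φ, kernel.ι φ, inferInstance, QcohLimits.isQuasicoherent_kernel φ, ?_, ?_⟩
  · intro V hV
    refine ⟨AffineDict.app_injective_of_mono (kernel.ι φ) V, ?_⟩
    intro r
    have hempty : I.subschemeι ⁻¹ᵁ V = ⊥ := by
      ext z
      simp only [Opens.coe_bot, Set.mem_empty_iff_false, iff_false]
      intro hz
      have h1 : I.subschemeι z ∈ (I.support : Set X) := by
        rw [← Scheme.IdealSheafData.range_subschemeι]; exact ⟨z, rfl⟩
      rw [hsupp] at h1
      exact h1 (hV hz)
    have hzero : φ.app V r = 0 := by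
      have : Subsingleton Γ(I.subscheme, I.subschemeι ⁻¹ᵁ V) := by rw [hempty]; infer_instance
      exact Subsingleton.elim (α := Γ(I.subscheme, I.subschemeι ⁻¹ᵁ V)) _ _
    exact (app_exact _ hex V r).mp hzero
  · intro D m y hy
    by_contra hyU
    have hyZ : y ∈ (I.support : Set X) := by rw [hsupp]; exact hyU
    rw [← Scheme.IdealSheafData.range_subschemeι] at hyZ
    obtain ⟨z, rfl⟩ := hyZ
    have h0 : φ.app D ((kernel.ι φ).app D m) = 0 := by
      change ((kernel.ι φ) ≫ φ).app D m = 0
      rw [kernel.condition]; rfl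
    have h1 : I.subschemeι.app D (toFn ((kernel.ι φ).app D m)) = 0 := h0
    have h2 : z ∈ I.subschemeι ⁻¹ᵁ X.basicOpen (toFn ((kernel.ι φ).app D m)) := hy
    rw [Scheme.preimage_basicOpen, h1, Scheme.basicOpen_zero] at h2
    exact h2

/-- a finite type quasi-coherent ideal which is the unit ideal over a given quasi-compact open `U`
and whose global sections vanish outside `U` -/
theorem exists_ft_ideal_module' [CompactSpace X] [QuasiSeparatedSpace X] (U : X.Opens)
    (hU : IsCompact (U : Set X)) :
    ∃ (G : X.Modules) (ιG : G ⟶ Coh.structureModule X), Mono ιG ∧ G.IsQuasicoherent ∧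
      SheafOfModules.IsFiniteType (R := X.ringCatSheaf) G ∧
      (∀ V : X.Opens, V ≤ U → Function.Bijective (ιG.app V)) ∧
      (∀ (D : X.Opens) (m : Γ(G, D)), X.basicOpen (toFn (ιG.app D m)) ≤ U) := by
  obtain ⟨J, ιJ, hmono, hJq, hbij, hle⟩ := exists_ideal_module_mono' U
  obtain ⟨s, hs⟩ := (hbij U le_rfl).2 (one X U)
  obtain ⟨G, i, hi, hGq, hGft, g, hg⟩ := SubExt.exists_submodule_through_section J U hU s
  haveI := hi
  haveI := hmono
  haveI : Mono (i ≫ ιJ) := mono_comp i ιJ
  have hg' : (i ≫ ιJ).app U g = one X U := by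
    change ιJ.app U (i.app U g) = one X U
    have : i.app U g = s := hg
    rw [this, hs]
  refine ⟨G, i ≫ ιJ, inferInstance, hGq, hGft, ?_, ?_⟩
  · intro V hV
    refine ⟨AffineDict.app_injective_of_mono (i ≫ ιJ) V, ?_⟩
    intro r
    refine ⟨toFn r • G.presheaf.map (homOfLE hV).op g, ?_⟩
    rw [Scheme.Modules.Hom.app_smul, app_res, hg']
    have h1 : (Coh.structureModule X).presheaf.map (homOfLE hV).op (one X U) = one X V :=
      map_one (X.presheaf.map (homOfLE hV).op).hom
    rw [h1]
    exact mul_one (toFn r)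
  · intro D m
    exact hle D (i.app D m)

end Groth.Agent.Helper4.FTIdeal2
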