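import Groth.Agent.Helper4.AmplePoints
import Groth.Agent.Helper4.AmpleTensor
import Groth.Agent.Helper4.GGSec
import Groth.Prelude.Def_Curv2
import Mathlib

set_option autoImplicit false
universe u
open CategoryTheory CategoryTheory.Limits AlgebraicGeometry Opposite TopologicalSpace

namespace Groth.Agent.Helper4.AmpleEventual

open Groth.Agent.Helper4.GenLoc Groth.Agent.Helper4.TensorInv Groth.Agent.Helper4.TensorGen
  Groth.Agent.Helper4.QAffSec Groth.Agent.Helper4.TensorLift Groth.Agent.Helper4.TwistLocal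
  Groth.Agent.Helper4.TwistExt Groth.Agent.Helper4.TensorRes Groth.Agent.Helper4.TensorAssoc
  Groth.Agent.Helper4.AmpleIso Groth.Agent.Helper4.AmpleBasis Groth.Agent.Helper4.AmpleRestrict
  Groth.Agent.Helper4.AmpleFinite Groth.Agent.Helper4.AmpleLocal Groth.Agent.Helper4.AmplePoints
  Groth.Agent.Helper4.GenLocIso Groth.Agent.Helper4.AmpleTensor

variable {X : Scheme.{u}}

/-- the semigroup argument: generation in degrees `d`, `d a₂ + 1` and twisted degree `d a` gives
generation of all large twists -/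
theorem hasGenE_of_semigroup {A L : X.Modules} (hA : PicF.IsInvertible A)
    (hL : PicF.IsInvertible L) {Z : Set X} {d a a₂ : ℕ} (hdpos : 0 < d)
    (hgd : HasGen A Z d) (h1 : HasGenE A L Z (d * a)) (h2 : HasGen A Z (d * a₂ + 1)) :
    ∀ N, d * a + d * (a₂ * d + 1) ≤ N → HasGenE A L Z N := by
  intro N hN
  obtain ⟨m, rfl⟩ := Nat.exists_eq_add_of_le (Nat.le_of_add_right_le hN)
  have hm : d * (a₂ * d + 1) ≤ m := by omega
  obtain ⟨q, r, hmeq, hr⟩ : ∃ q r, m = d * q + r ∧ r < d :=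
    ⟨m / d, m % d, (Nat.div_add_mod m d).symm, Nat.mod_lt _ hdpos⟩
  have hq : a₂ * d + 1 ≤ q := by
    by_contra hcon
    have h3 : q + 1 ≤ a₂ * d + 1 := by omega
    have h4 := Nat.mul_le_mul_left d h3
    rw [Nat.mul_succ] at h4
    omega
  have hle : a₂ * r ≤ q :=
    (Nat.mul_le_mul_left a₂ hr.le).trans ((Nat.le_succ _).trans hq)
  obtain ⟨i, hi⟩ := Nat.exists_eq_add_of_le hle
  have hN' : d * a + m = d * a + ((d * a₂ + 1) * r + d * i) := by
    congr 1
    rw [hmeq, hi]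
    ring
  rw [hN']
  exact HasGenE.add hA hL h1 (HasGen.add hA (HasGen.mul hA h2 r) (HasGen.mul hA hgd i))

theorem genLocus_eq_top_of_isIso {M : X.Modules} (σ : Coh.structureModule X ⟶ M) [IsIso σ] :
    CohB1.genLocus M σ = ⊤ := by
  apply le_antisymm le_top
  apply le_sSup
  change IsIso _
  infer_instance

/-- every point has a neighbourhood on which all large twists `L ⊗ A^N` are generated by a
single global section -/
theorem exists_nhd_hasGenE {A : X.Modules} (h : CohB1.IsAmple A) (L : X.Modules)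
    (hL : PicF.IsInvertible L) (x : X) :
    ∃ W : X.Opens, x ∈ W ∧ ∃ N₀ : ℕ, ∀ N, N₀ ≤ N → HasGenE A L (W : Set X) N := by
  have hA := h.1
  haveI := h.2.1
  haveI := quasiSeparatedSpace_of_isAmple h
  obtain ⟨W₀, hxW₀, trA, trL⟩ := exists_common hA hL x
  obtain ⟨N₁, t, hxt, htW, -⟩ := exists_genLocus_nhd h x W₀ hxW₀
  obtain ⟨εL⟩ := IsTrivAlong.of_le htW trL
  obtain ⟨εA⟩ := IsTrivAlong.of_le htW trA
  have hM := isInvertible_tensorPow hA (N₁ + 1)
  obtain ⟨a, σ, -, hσ⟩ := exists_extension_genLocus (CohB1.tensorPow A (N₁ + 1)) L hM hL t εL.inv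
  obtain ⟨a₂, σ₂, -, hσ₂⟩ := exists_extension_genLocus (CohB1.tensorPow A (N₁ + 1)) A hM hA t
    εA.inv
  replace hσ := hσ.trans (genLocus_eq_top_of_isIso εL.inv)
  replace hσ₂ := hσ₂.trans (genLocus_eq_top_of_isIso εA.inv)
  have hle : ∀ {E : X.Modules} (τ : Coh.structureModule X ⟶ E),
      (CohB1.genLocus _ t).ι ⁻¹ᵁ (CohB1.genLocus _ τ) = ⊤ →
      ((CohB1.genLocus _ t : X.Opens) : Set X) ⊆ CohB1.genLocus _ τ := by
    intro E τ hτ z hz
    have : (⟨z, hz⟩ : (CohB1.genLocus _ t : Scheme.{u})) ∈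
        (CohB1.genLocus _ t).ι ⁻¹ᵁ (CohB1.genLocus _ τ) := by rw [hτ]; trivial
    exact this
  refine ⟨CohB1.genLocus _ t, hxt, ?_⟩
  have hgd : HasGen A ((CohB1.genLocus _ t : X.Opens) : Set X) (N₁ + 1) := ⟨t, fun z hz => hz⟩
  have h1 : HasGenE A L ((CohB1.genLocus _ t : X.Opens) : Set X) ((N₁ + 1) * a) := by
    refine ⟨σ ≫ (PicGrp.tensorModIso (Iso.refl L) (powMulIso A hA (N₁ + 1) a)).hom, ?_⟩
    rw [genLocus_comp_iso]; exact hle σ hσ
  have h2 : HasGen A ((CohB1.genLocus _ t : X.Opens) : Set X) ((N₁ + 1) * a₂ + 1) := by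
    apply HasGen.succ_of_self
    refine ⟨σ₂ ≫ (PicGrp.tensorModIso (Iso.refl A) (powMulIso A hA (N₁ + 1) a₂)).hom, ?_⟩
    rw [genLocus_comp_iso]; exact hle σ₂ hσ₂
  exact ⟨_, hasGenE_of_semigroup hA hL (Nat.succ_pos N₁) hgd h1 h2⟩

/-- uniform version: all large twists are generated at every point -/
theorem exists_forall_hasGenE {A : X.Modules} (h : CohB1.IsAmple A) (L : X.Modules)
    (hL : PicF.IsInvertible L) :
    ∃ N₀ : ℕ, ∀ N, N₀ ≤ N → ∀ x : X, HasGenE A L {x} N := by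
  haveI := h.2.1
  choose W hxW N₀ hN₀ using exists_nhd_hasGenE h L hL
  obtain ⟨S, hS⟩ := CompactSpace.elim_nhds_subcover (fun x => (W x : Set X))
    (fun x => (W x).isOpen.mem_nhds (hxW x))
  refine ⟨S.sup N₀, fun N hN x => ?_⟩
  have hx : x ∈ ⋃ y ∈ S, (W y : Set X) := by rw [hS]; trivial
  obtain ⟨y, hyS, hxy⟩ := Set.mem_iUnion₂.mp hx
  obtain ⟨s, hs⟩ := hN₀ y N ((Finset.le_sup hyS).trans hN)
  exact ⟨s, fun z hz => hs (by rw [Set.mem_singleton_iff.mp hz]; exact hxy)⟩

theorem eq_zero_of_sections_comp_eq_zero (M Q : X.Modules) {ι : Type u}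
    (s : ι → (Coh.structureModule X ⟶ M)) (hcov : ∀ x : X, ∃ i, x ∈ CohB1.genLocus M (s i))
    (g : M ⟶ Q) (hsg : ∀ i, s i ≫ g = 0) : g = 0 := by
  apply Scheme.Modules.hom_ext
  intro U
  ext m
  change g.app U m = 0
  apply eq_of_cover Q U
  intro y hy
  obtain ⟨i, hi⟩ := hcov y
  refine ⟨U ⊓ CohB1.genLocus M (s i), inf_le_left, ⟨hy, hi⟩, ?_⟩
  rw [← Groth.Agent.Helper4.StalkExact.app_res, map_zero]
  have hb := (isIso_restrict_iff (s i) _).mp (isIso_restrict_genLocus M (s i))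
    (U ⊓ CohB1.genLocus M (s i)) inf_le_right
  obtain ⟨a, ha⟩ := hb.2 (M.presheaf.map (homOfLE (inf_le_left : U ⊓ CohB1.genLocus M (s i) ≤ U)).op m)
  rw [← ha]
  have := congrArg (fun φ => (Scheme.Modules.Hom.app φ (U ⊓ CohB1.genLocus M (s i))) a) (hsg i)
  exact this

/-- a module with global sections generating it at every point is globally generated -/
theorem isGloballyGenerated_of_genLocus_cover (M : X.Modules) {ι : Type u}
    (s : ι → (Coh.structureModule X ⟶ M)) (hcov : ∀ x : X, ∃ i, x ∈ CohB1.genLocus M (s i)) :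
    Curv2.IsGloballyGenerated M := by
  let p : (SheafOfModules.free ι : X.Modules) ⟶ M := Sigma.desc (fun i => s i)
  have hp : ∀ i, SheafOfModules.ιFree i ≫ p = s i := fun i => Sigma.ι_desc _ _
  refine ⟨ι, p, ?_⟩
  apply Preadditive.epi_of_cancel_zero
  intro Q g hg
  refine eq_zero_of_sections_comp_eq_zero M Q s hcov g (fun i => ?_)
  have h1 : s i ≫ g = SheafOfModules.ιFree i ≫ (p ≫ g) := by
    rw [← Category.assoc]
    exact congrArg (· ≫ g) (hp i).symm
  exact h1.trans ((congrArg (SheafOfModules.ιFree i ≫ ·) hg).trans comp_zero)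

/-- all large twists of an invertible module by an ample one are globally generated -/
theorem exists_forall_isGloballyGenerated {A : X.Modules} (h : CohB1.IsAmple A) (L : X.Modules)
    (hL : PicF.IsInvertible L) :
    ∃ N₀ : ℕ, ∀ N, N₀ ≤ N →
      Curv2.IsGloballyGenerated (CohB1.tensorMod L (CohB1.tensorPow A N)) := by
  obtain ⟨N₀, hN₀⟩ := exists_forall_hasGenE h L hL
  refine ⟨N₀, fun N hN => ?_⟩
  choose s hs using hN₀ N hN
  exact isGloballyGenerated_of_genLocus_cover _ s (fun x => ⟨x, hs x rfl⟩)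

theorem isGloballyGenerated_of_iso' {F G : X.Modules} (e : F ≅ G)
    (h : Curv2.IsGloballyGenerated F) : Curv2.IsGloballyGenerated G := by
  obtain ⟨ι, p, hp⟩ := h
  exact ⟨ι, p ≫ e.hom, @epi_comp _ _ _ _ _ p hp e.hom inferInstance⟩

/-- S2329 -/
theorem exists_forall_isAmple_and_isGloballyGenerated [CompactSpace X] (L L' : X.Modules)
    (hL : CohB1.IsAmple L) (hL' : PicF.IsInvertible L') :
    ∃ n₀ : ℕ, 0 < n₀ ∧ ∀ n, n₀ ≤ n →
      CohB1.IsAmple (CohB1.tensorMod (CohB1.tensorPow L n) L') ∧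
        Curv2.IsGloballyGenerated (CohB1.tensorMod (CohB1.tensorPow L n) L') := by
  have hLi := hL.1
  obtain ⟨N₀, hN₀⟩ := exists_forall_isGloballyGenerated hL L' hL'
  refine ⟨N₀ + 1, Nat.succ_pos _, fun n hn => ⟨?_, ?_⟩⟩
  · obtain ⟨m, rfl⟩ := Nat.exists_eq_succ_of_ne_zero (by omega : n ≠ 0)
    have hgg := hN₀ m (by omega)
    have hGi : PicF.IsInvertible (CohB1.tensorMod L' (CohB1.tensorPow L m)) :=
      isInvertible_tensorMod hL' (isInvertible_tensorPow hLi m)
    have hamp := isAmple_tensorMod_of_cover hL hGi (fun x => by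
      obtain ⟨t, ht⟩ := Groth.Agent.Helper4.GGSec.exists_mem_genLocus_of_isGloballyGenerated _ hGi
        hgg x
      refine ⟨0, t ≫ (unitorL _).inv, ?_⟩
      have := genLocus_comp_iso (unitorL (CohB1.tensorMod L' (CohB1.tensorPow L m))).symm t
      rw [Iso.symm_hom] at this
      exact this.symm ▸ ht)
    refine isAmple_of_iso ?_ hamp
    exact braidIso _ _ ≪≫ assocIso L' (CohB1.tensorPow L m) L (isInvertible_tensorPow hLi m) hLi ≪≫
      braidIso _ _
  · exact isGloballyGenerated_of_iso' (braidIso _ _) (hN₀ n (by omega))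

end Groth.Agent.Helper4.AmpleEventual
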