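import Mathlib
import Groth.Agent.Helper4.CounitEpi
import Groth.Agent.Helper4.AmpleEventual

set_option autoImplicit false
open CategoryTheory Limits AlgebraicGeometry TopologicalSpace Opposite
universe u

namespace Groth.Agent.Helper4.CounitGG

open Groth.Agent.Helper4.GenLoc Groth.Agent.Helper4.PullUnit Groth.Agent.Helper4.GenLocIso
  Groth.Agent.Helper4.AmpleIso Groth.Agent.Helper4.PullSec Groth.Agent.Helper4.PullAmple
  Groth.Agent.Helper4.AmpleLocal Groth.Agent.Helper4.TensorInv Groth.Agent.Helper4.TensorGen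
  Groth.Agent.Helper4.TensorAssoc Groth.Agent.Helper4.AmpleTensor Groth.Agent.Helper4.AmpleBasis
  Groth.Agent.Helper4.TensorRes Groth.Agent.Helper4.AmpleRestrict Groth.Agent.Helper4.QAffSec
  Groth.Agent.Helper4.CounitEpi Groth.Agent.Helper4.TwistExt

variable {X Y : Scheme.{u}}

/-- sections over preimages of opens lift through the counit (triangle identity) -/
theorem exists_lift_counit (f : X ⟶ Y) (M : X.Modules) (V : Y.Opens) (m : Γ(M, f ⁻¹ᵁ V)) :
    ∃ m' : Γ((Scheme.Modules.pullback f).obj ((Scheme.Modules.pushforward f).obj M), f ⁻¹ᵁ V),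
      ((Scheme.Modules.pullbackPushforwardAdjunction f).counit.app M).app (f ⁻¹ᵁ V) m' = m := by
  have h := (Scheme.Modules.pullbackPushforwardAdjunction f).right_triangle_components M
  refine ⟨((Scheme.Modules.pullbackPushforwardAdjunction f).unit.app
    ((Scheme.Modules.pushforward f).obj M)).app V m, ?_⟩
  exact congrArg (fun φ => (Scheme.Modules.Hom.app φ V) m) h

/-- a morphism killing the counit kills all sections over preimages of opens -/
theorem app_eq_zero_of_counit_comp_eq_zero (f : X ⟶ Y) (M Q : X.Modules) (g : M ⟶ Q)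
    (hg : (Scheme.Modules.pullbackPushforwardAdjunction f).counit.app M ≫ g = 0)
    (V : Y.Opens) (m : Γ(M, f ⁻¹ᵁ V)) : g.app (f ⁻¹ᵁ V) m = 0 := by
  obtain ⟨m', rfl⟩ := exists_lift_counit f M V m
  exact congrArg (fun φ => (Scheme.Modules.Hom.app φ (f ⁻¹ᵁ V)) m') hg

theorem restrict_map_eq_zero_of_isGloballyGenerated (M Q : X.Modules) (g : M ⟶ Q) (W : X.Opens)
    (hgg : Curv2.IsGloballyGenerated (M.restrict W.ι))
    (hg : ∀ m : Γ(M, W), g.app W m = 0) :
    (Scheme.Modules.restrictFunctor W.ι).map g = 0 := by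
  obtain ⟨κ, p, hp⟩ := hgg
  have hT : W.ι ''ᵁ ⊤ = W := Scheme.Opens.ι_image_top W
  have key : p ≫ (Scheme.Modules.restrictFunctor W.ι).map g = 0 := by
    apply Sigma.hom_ext
    intro k
    refine Eq.trans ?_ comp_zero.symm
    let σk : Coh.structureModule (W : Scheme.{u}) ⟶ M.restrict W.ι := SheafOfModules.ιFree k ≫ p
    have hσk : σk ≫ (Scheme.Modules.restrictFunctor W.ι).map g = 0 := by
      apply unit_hom_ext
      let mk : Γ(M, W.ι ''ᵁ ⊤) := σk.app ⊤ (one _ ⊤)
      change g.app (W.ι ''ᵁ ⊤) mk = 0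
      have h1 : mk = M.presheaf.map (homOfLE hT.le).op (M.presheaf.map (homOfLE hT.ge).op mk) := by
        rw [res_res]
        change mk = M.presheaf.map (𝟙 _) mk
        rw [M.presheaf.map_id]; rfl
      rw [h1, Groth.Agent.Helper4.StalkExact.app_res, hg, map_zero]
    exact hσk
  exact (cancel_epi p).mp (key.trans comp_zero.symm)

theorem app_eq_zero_of_restrict_map_eq_zero (M Q : X.Modules) (g : M ⟶ Q) (W : X.Opens)
    (h : (Scheme.Modules.restrictFunctor W.ι).map g = 0) (D : X.Opens) (hD : D ≤ W)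
    (m : Γ(M, D)) : g.app D m = 0 := by
  have hD' : W.ι ''ᵁ (W.ι ⁻¹ᵁ D) = D := image_preimage_of_le' W hD
  have h0 : g.app (W.ι ''ᵁ (W.ι ⁻¹ᵁ D)) (M.presheaf.map (homOfLE hD'.le).op m) = 0 :=
    congrArg (fun φ => (Scheme.Modules.Hom.app φ (W.ι ⁻¹ᵁ D))
      (M.presheaf.map (homOfLE hD'.le).op m)) h
  have h1 : m = M.presheaf.map (homOfLE hD'.ge).op (M.presheaf.map (homOfLE hD'.le).op m) := by
    rw [res_res]
    change m = M.presheaf.map (𝟙 _) m
    rw [M.presheaf.map_id]; rfl
  rw [h1, Groth.Agent.Helper4.StalkExact.app_res, h0, map_zero]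

theorem eq_zero_of_restrict_map_eq_zero (M Q : X.Modules) (g : M ⟶ Q) {ι : Type*}
    (W : ι → X.Opens) (hcov : ∀ x : X, ∃ i, x ∈ W i)
    (h : ∀ i, (Scheme.Modules.restrictFunctor (W i).ι).map g = 0) : g = 0 := by
  apply Scheme.Modules.hom_ext
  intro U
  ext m
  change g.app U m = 0
  apply eq_of_cover Q U
  intro y hy
  obtain ⟨i, hi⟩ := hcov y
  refine ⟨U ⊓ W i, inf_le_left, ⟨hy, hi⟩, ?_⟩
  rw [← Groth.Agent.Helper4.StalkExact.app_res, map_zero]
  exact app_eq_zero_of_restrict_map_eq_zero M Q g (W i) (h i) _ inf_le_right _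

theorem eq_zero_of_counit_comp_eq_zero (f : X ⟶ Y) (M : X.Modules) {ι : Type*} (V : ι → Y.Opens)
    (hcov : ∀ x : X, ∃ i, f x ∈ V i)
    (hgg : ∀ i, Curv2.IsGloballyGenerated (M.restrict (f ⁻¹ᵁ V i).ι)) (Q : X.Modules) (g : M ⟶ Q)
    (hg : (Scheme.Modules.pullbackPushforwardAdjunction f).counit.app M ≫ g = 0) : g = 0 :=
  eq_zero_of_restrict_map_eq_zero M Q g (fun i => f ⁻¹ᵁ V i) hcov (fun i =>
    restrict_map_eq_zero_of_isGloballyGenerated M Q g _ (hgg i)
      (fun m => app_eq_zero_of_counit_comp_eq_zero f M Q g hg (V i) m))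

/-- the counit is an epimorphism as soon as `M` is globally generated over the preimages of a
family of opens whose preimages cover `X` -/
theorem epi_counit_of_cover (f : X ⟶ Y) (M : X.Modules) {ι : Type*} (V : ι → Y.Opens)
    (hcov : ∀ x : X, ∃ i, f x ∈ V i)
    (hgg : ∀ i, Curv2.IsGloballyGenerated (M.restrict (f ⁻¹ᵁ V i).ι)) :
    Epi ((Scheme.Modules.pullbackPushforwardAdjunction f).counit.app M) := by
  apply Preadditive.epi_of_cancel_zero
  intro Q g hg
  exact eq_zero_of_counit_comp_eq_zero f M V hcov hgg Q g hg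

end Groth.Agent.Helper4.CounitGG
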