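import Groth.Agent.Helper4.TwistExt
import Mathlib

set_option autoImplicit false
universe u
open CategoryTheory CategoryTheory.Limits AlgebraicGeometry Opposite TopologicalSpace

namespace Groth.Agent.Helper4.TwistExtU

open Groth.Agent.Helper4.GenLoc Groth.Agent.Helper4.TensorInv Groth.Agent.Helper4.TensorGen
  Groth.Agent.Helper4.QAffSec Groth.Agent.Helper4.TensorLift Groth.Agent.Helper4.TwistLocal
  Groth.Agent.Helper4.TwistExt

variable {X : Scheme.{u}}

theorem exists_forall_twist_extends [CompactSpace X] [QuasiSeparatedSpace X] (L : X.Modules)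
    (hL : PicF.IsInvertible L) (s : Coh.structureModule X ⟶ L) (F : X.Modules)
    [F.IsQuasicoherent] (t : Γ(F, CohB1.genLocus L s)) :
    ∃ N₀ : ℕ, ∀ n, N₀ ≤ n → ∃ t' : Γ(CohB1.tensorMod F (CohB1.tensorPow L n), ⊤),
      (CohB1.tensorMod F (CohB1.tensorPow L n)).presheaf.map
          (homOfLE (le_top : CohB1.genLocus L s ≤ ⊤)).op t' =
        SecTwist.twist s n F (CohB1.genLocus L s) t := by
  classical
  choose T e b hxT hTaff hfr hval hbo using exists_chart L hL s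
  obtain ⟨S, hS⟩ := CompactSpace.elim_nhds_subcover (fun x => (T x : Set X))
    (fun x => (T x).isOpen.mem_nhds (hxT x))
  have hDG : ∀ i, X.basicOpen (b i) ≤ CohB1.genLocus L s := fun i => by
    rw [hbo i]; exact inf_le_left
  -- Step 1
  have step1 : ∀ i, ∃ (k : ℕ) (m : Γ(F, T i)),
      (X.presheaf.map (homOfLE (X.basicOpen_le (b i))).op (b i ^ k)) •
          F.presheaf.map (homOfLE (hDG i)).op t =
        F.presheaf.map (homOfLE (X.basicOpen_le (b i))).op m := fun i =>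
    StalkDict.exists_pow_smul_eq_res (hTaff i) F (b i) _
  choose k m hm using step1
  obtain ⟨K, hK⟩ : ∃ K, K = S.sup k := ⟨_, rfl⟩
  obtain ⟨m', hm'def⟩ : ∃ m' : ∀ i, Γ(F, T i), m' = fun i => b i ^ (K - k i) • m i := ⟨_, rfl⟩
  have hA : ∀ i ∈ S, ∀ (V : X.Opens) (h1 : V ≤ T i) (h2 : V ≤ CohB1.genLocus L s),
      X.presheaf.map (homOfLE h1).op (b i) ^ K • F.presheaf.map (homOfLE h2).op t =
        F.presheaf.map (homOfLE h1).op (m' i) := by
    intro i hi V h1 h2
    have hVD : V ≤ X.basicOpen (b i) := by rw [hbo i]; exact le_inf h2 h1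
    have hle : k i ≤ K := hK ▸ Finset.le_sup hi
    have h3 := congrArg (F.presheaf.map (homOfLE hVD).op) (hm i)
    rw [Scheme.Modules.map_smul, res_res, res_res, res_resO, resO_pow] at h3
    rw [hm'def, Scheme.Modules.map_smul, resO_pow, ← h3, smul_smul, ← pow_add,
      Nat.sub_add_cancel hle]
  -- Step 2
  have step2 : ∀ p : X × X, p.1 ∈ S → p.2 ∈ S → ∃ r : ℕ, ∀ R, r ≤ R →
      (CohB1.tensorMod F (CohB1.tensorPow L (K + R))).presheaf.map
          (homOfLE (inf_le_left : T p.1 ⊓ T p.2 ≤ T p.1)).op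
          (SecTwist.tmul F (CohB1.tensorPow L (K + R)) (T p.1) (b p.1 ^ R • m' p.1)
            (ePow L (T p.1) (e p.1) (K + R))) =
        (CohB1.tensorMod F (CohB1.tensorPow L (K + R))).presheaf.map
          (homOfLE (inf_le_right : T p.1 ⊓ T p.2 ≤ T p.2)).op
          (SecTwist.tmul F (CohB1.tensorPow L (K + R)) (T p.2) (b p.2 ^ R • m' p.2)
            (ePow L (T p.2) (e p.2) (K + R))) := by
    rintro ⟨i, j⟩ hi hj
    exact chart_compat s F t (T i) (T j) (e i) (e j) (b i) (b j) (hfr i) (hval i) (hval j) (hbo i)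
      K (m' i) (m' j) (hA i hi) (hA j hj)
      (QuasiSeparatedSpace.inter_isCompact _ _ (T i).isOpen (hTaff i).isCompact (T j).isOpen
        (hTaff j).isCompact)
  have step2' : ∀ p : X × X, ∃ r : ℕ, p.1 ∈ S → p.2 ∈ S → ∀ R, r ≤ R →
      (CohB1.tensorMod F (CohB1.tensorPow L (K + R))).presheaf.map
          (homOfLE (inf_le_left : T p.1 ⊓ T p.2 ≤ T p.1)).op
          (SecTwist.tmul F (CohB1.tensorPow L (K + R)) (T p.1) (b p.1 ^ R • m' p.1)
            (ePow L (T p.1) (e p.1) (K + R))) =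
        (CohB1.tensorMod F (CohB1.tensorPow L (K + R))).presheaf.map
          (homOfLE (inf_le_right : T p.1 ⊓ T p.2 ≤ T p.2)).op
          (SecTwist.tmul F (CohB1.tensorPow L (K + R)) (T p.2) (b p.2 ^ R • m' p.2)
            (ePow L (T p.2) (e p.2) (K + R))) := by
    intro p
    by_cases h : p.1 ∈ S ∧ p.2 ∈ S
    · obtain ⟨r, hr⟩ := step2 p h.1 h.2
      exact ⟨r, fun _ _ => hr⟩
    · exact ⟨0, fun h1 h2 => absurd ⟨h1, h2⟩ h⟩
  choose r hr using step2'
  refine ⟨K + (S ×ˢ S).sup r, fun N hN' => ?_⟩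
  obtain ⟨R, hN⟩ : ∃ R, N = K + R := ⟨N - K, by omega⟩
  have hR : (S ×ˢ S).sup r ≤ R := by omega
  -- Step 3 : glue
  let M := CohB1.tensorMod F (CohB1.tensorPow L N)
  let τ : ∀ i : S, Γ(M, T i.1) := fun i =>
    SecTwist.tmul F (CohB1.tensorPow L N) (T i.1) (b i.1 ^ R • m' i.1) (ePow L (T i.1) (e i.1) N)
  have hcompat : TopCat.Presheaf.IsCompatible M.presheaf (fun i : S => T i.1) τ := by
    intro i j
    have hle : r (i.1, j.1) ≤ R :=
      (Finset.le_sup (f := r) (Finset.mem_product.mpr ⟨i.2, j.2⟩)).trans hR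
    have := hr (i.1, j.1) i.2 j.2 R hle
    rw [← hN] at this
    exact this
  have hcover : (⊤ : X.Opens) ≤ iSup (fun i : S => T i.1) := by
    intro y _
    have hy' : y ∈ ⋃ x ∈ S, (T x : Set X) := by rw [hS]; trivial
    simp only [Set.mem_iUnion] at hy'
    obtain ⟨x, hxS, hyx⟩ := hy'
    exact Opens.mem_iSup.mpr ⟨⟨x, hxS⟩, hyx⟩
  obtain ⟨t', ht', -⟩ := TopCat.Sheaf.existsUnique_gluing' (⟨M.presheaf, M.isSheaf⟩ : TopCat.Sheaf Ab X)
    (fun i : S => T i.1) ⊤ (fun i => homOfLE le_top) hcover τ hcompat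
  refine ⟨t', ?_⟩
  apply eq_of_cover
  intro y hy
  have hy' : y ∈ ⋃ x ∈ S, (T x : Set X) := by rw [hS]; trivial
  simp only [Set.mem_iUnion] at hy'
  obtain ⟨i, hiS, hyi⟩ := hy'
  refine ⟨CohB1.genLocus L s ⊓ T i, inf_le_left, ⟨hy, hyi⟩, ?_⟩
  have h1 : M.presheaf.map (homOfLE (le_top : T i ≤ ⊤)).op t' = τ ⟨i, hiS⟩ := ht' ⟨i, hiS⟩
  rw [res_res, twist_res]
  have h2 : M.presheaf.map (homOfLE ((inf_le_left : CohB1.genLocus L s ⊓ T i ≤ _).trans le_top)).op t' =
      M.presheaf.map (homOfLE (inf_le_right : CohB1.genLocus L s ⊓ T i ≤ T i)).op (τ ⟨i, hiS⟩) := by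
    rw [← h1, res_res]
  rw [h2]
  have h3 := chart_twist s F (T i) (e i) (b i) (hval i) K R (m' i) (CohB1.genLocus L s ⊓ T i)
    inf_le_right (F.presheaf.map (homOfLE (inf_le_left : CohB1.genLocus L s ⊓ T i ≤ _)).op t)
    (hA i hiS _ inf_le_right inf_le_left)
  rw [← hN] at h3
  exact h3

end Groth.Agent.Helper4.TwistExtU
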