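import Mathlib
import Groth.Agent.Helper4.CounitGG
import Groth.Prelude.Def_KoszTw
import Groth.Prelude.Def_RefPow
import Groth.Agent.Helper4.TwistExtU

set_option autoImplicit false
open CategoryTheory Limits AlgebraicGeometry TopologicalSpace Opposite
universe u

namespace Groth.Agent.Helper4.GenTwist

open Groth.Agent.Helper4.GenLoc Groth.Agent.Helper4.PullUnit Groth.Agent.Helper4.GenLocIso
  Groth.Agent.Helper4.AmpleIso Groth.Agent.Helper4.PullSec Groth.Agent.Helper4.PullAmple
  Groth.Agent.Helper4.AmpleLocal Groth.Agent.Helper4.TensorInv Groth.Agent.Helper4.TensorGen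
  Groth.Agent.Helper4.TensorAssoc Groth.Agent.Helper4.AmpleTensor Groth.Agent.Helper4.AmpleBasis
  Groth.Agent.Helper4.TensorRes Groth.Agent.Helper4.AmpleRestrict Groth.Agent.Helper4.QAffSec
  Groth.Agent.Helper4.CounitEpi Groth.Agent.Helper4.TwistExt Groth.Agent.Helper4.CounitGG

variable {X : Scheme.{u}}

/-- multiplication by a section `σ` of `B`: `A ⟶ A ⊗ B` -/
noncomputable def tw {B : X.Modules} (σ : Coh.structureModule X ⟶ B) (A : X.Modules) :
    A ⟶ CohB1.tensorMod A B :=
  (SecTwist.unitorR A).inv ≫ KoszTw.tensorMap (𝟙 A) σ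

theorem tw_app {B : X.Modules} (σ : Coh.structureModule X ⟶ B) (A : X.Modules) (U : X.Opens)
    (t : Γ(A, U)) : (tw σ A).app U t = SecTwist.tmul A B U t (SecTwist.val σ U) := by
  change (KoszTw.tensorMap (𝟙 A) σ).app U ((SecTwist.unitorR A).inv.app U t) = _
  rw [RefPow.unitorR_inv_app, KoszTw.tensorMap_tmul]
  rfl

/-- the trivialization of `B` over `X_σ` determined by `σ` -/
noncomputable def trivOfSec {B : X.Modules} (σ : Coh.structureModule X ⟶ B) :
    B.restrict (CohB1.genLocus B σ).ι ≅ Coh.structureModule (CohB1.genLocus B σ : Scheme.{u}) :=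
  haveI := isIso_restrict_genLocus B σ
  (asIso ((Scheme.Modules.restrictFunctor (CohB1.genLocus B σ).ι).map σ)).symm ≪≫
    Scheme.Modules.restrictUnitIso (CohB1.genLocus B σ).ι

theorem trivOfSec_hom_val {B : X.Modules} (σ : Coh.structureModule X ⟶ B)
    (W' : (CohB1.genLocus B σ : Scheme.{u}).Opens) :
    (trivOfSec σ).hom.app W' (SecTwist.val σ ((CohB1.genLocus B σ).ι ''ᵁ W')) = one _ W' := by
  haveI := isIso_restrict_genLocus B σ
  have h1 : SecTwist.val σ ((CohB1.genLocus B σ).ι ''ᵁ W') =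
      (trivOfSec σ).inv.app W' (one _ W') := by
    change _ = σ.app ((CohB1.genLocus B σ).ι ''ᵁ W')
      ((Scheme.Modules.restrictUnitIso (CohB1.genLocus B σ).ι).inv.app W' (one _ W'))
    rw [restrictUnitIso_inv_one]
    rfl
  rw [h1, iso_hom_inv_app]

theorem Psi_tw {B : X.Modules} (σ : Coh.structureModule X ⟶ B) (A : X.Modules)
    (W' : (CohB1.genLocus B σ : Scheme.{u}).Opens)
    (a : Γ(A, (CohB1.genLocus B σ).ι ''ᵁ W')) :
    Psi A B (CohB1.genLocus B σ) (trivOfSec σ) W'
      ((tw σ A).app ((CohB1.genLocus B σ).ι ''ᵁ W') a) = a := by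
  rw [tw_app, Psi_tmul, trivOfSec_hom_val]
  change (1 : Γ((CohB1.genLocus B σ : Scheme.{u}), W')) •
    (show Γ(A.restrict (CohB1.genLocus B σ).ι, W') from a) = a
  exact one_smul _ _

theorem tw_app_bijective {B : X.Modules} (σ : Coh.structureModule X ⟶ B) (A : X.Modules)
    (T : X.Opens) (hT : T ≤ CohB1.genLocus B σ) : Function.Bijective ((tw σ A).app T) := by
  obtain ⟨W', rfl⟩ : ∃ W' : (CohB1.genLocus B σ : Scheme.{u}).Opens,
      T = (CohB1.genLocus B σ).ι ''ᵁ W' :=
    ⟨(CohB1.genLocus B σ).ι ⁻¹ᵁ T, (image_preimage_of_le' _ hT).symm⟩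
  have hP := Psi_bijective A B (CohB1.genLocus B σ) (trivOfSec σ) W'
  constructor
  · intro a a' h
    have := congrArg (Psi A B (CohB1.genLocus B σ) (trivOfSec σ) W') h
    rwa [Psi_tw, Psi_tw] at this
  · intro y
    refine ⟨Psi A B (CohB1.genLocus B σ) (trivOfSec σ) W' y, ?_⟩
    apply hP.1
    rw [Psi_tw]

theorem isIso_restrict_tw {B : X.Modules} (σ : Coh.structureModule X ⟶ B) (A : X.Modules)
    (W : X.Opens) (hW : W ≤ CohB1.genLocus B σ) :
    IsIso ((Scheme.Modules.restrictFunctor W.ι).map (tw σ A)) := by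
  rw [isIso_restrict_iff]
  intro T hT
  exact tw_app_bijective σ A T (hT.trans hW)

/-- `A` is generated by its global sections over the open `W` -/
def GenOn (A : X.Modules) (W : X.Opens) : Prop :=
  ∀ (Q : X.Modules) (g : A ⟶ Q), (∀ σ : Coh.structureModule X ⟶ A, σ ≫ g = 0) →
    (Scheme.Modules.restrictFunctor W.ι).map g = 0

theorem restrict_map_eq_zero_of_app {M Q : X.Modules} (g : M ⟶ Q) (W : X.Opens)
    (h : ∀ (D : X.Opens), D ≤ W → ∀ m : Γ(M, D), g.app D m = 0) :
    (Scheme.Modules.restrictFunctor W.ι).map g = 0 := by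
  apply Scheme.Modules.hom_ext
  intro W'
  ext m
  exact h (W.ι ''ᵁ W') (by
    rintro _ ⟨y, -, rfl⟩
    exact y.2) m

theorem GenOn.mono {A : X.Modules} {W W' : X.Opens} (h : GenOn A W) (hle : W' ≤ W) :
    GenOn A W' := by
  intro Q g hg
  apply restrict_map_eq_zero_of_app
  intro D hD m
  exact app_eq_zero_of_restrict_map_eq_zero A Q g W (h Q g hg) D (hD.trans hle) m

theorem eq_zero_of_genOn_cover (A Q : X.Modules) (g : A ⟶ Q)
    (h : ∀ x : X, ∃ W : X.Opens, x ∈ W ∧ GenOn A W)
    (hg : ∀ σ : Coh.structureModule X ⟶ A, σ ≫ g = 0) : g = 0 := by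
  choose W hxW hW using h
  exact eq_zero_of_restrict_map_eq_zero A Q g W (fun x => ⟨x, hxW x⟩) (fun x => hW x Q g hg)

theorem isGloballyGenerated_of_genOn_cover (A : X.Modules)
    (h : ∀ x : X, ∃ W : X.Opens, x ∈ W ∧ GenOn A W) : Curv2.IsGloballyGenerated A := by
  let p : (SheafOfModules.free (Coh.structureModule X ⟶ A) : X.Modules) ⟶ A :=
    Sigma.desc (fun σ => σ)
  have hp : ∀ σ, SheafOfModules.ιFree σ ≫ p = σ := fun σ => Sigma.ι_desc _ _
  refine ⟨_, p, ?_⟩
  apply Preadditive.epi_of_cancel_zero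
  intro Q g hg
  refine eq_zero_of_genOn_cover A Q g h (fun σ => ?_)
  have h1 : σ ≫ g = SheafOfModules.ιFree σ ≫ (p ≫ g) := by
    rw [← Category.assoc]
    exact congrArg (· ≫ g) (hp σ).symm
  exact h1.trans ((congrArg (SheafOfModules.ιFree σ ≫ ·) hg).trans comp_zero)

theorem GenOn.of_isGloballyGenerated {A : X.Modules} (h : Curv2.IsGloballyGenerated A)
    (W : X.Opens) : GenOn A W := by
  obtain ⟨κ, p, hp⟩ := h
  intro Q g hg
  have key : p ≫ g = 0 := by
    apply Sigma.hom_ext
    intro k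
    refine Eq.trans ?_ comp_zero.symm
    have := hg (SheafOfModules.ιFree k ≫ p)
    rw [Category.assoc] at this
    exact this
  have : g = 0 := (cancel_epi p).mp (key.trans comp_zero.symm)
  rw [this, Functor.map_zero]

theorem GenOn.tensor {A B : X.Modules} (σ : Coh.structureModule X ⟶ B) {W : X.Opens}
    (hW : W ≤ CohB1.genLocus B σ) (h : GenOn A W) : GenOn (CohB1.tensorMod A B) W := by
  intro Q g hg
  have h1 := h Q (GenTwist.tw σ A ≫ g) (fun τ => by rw [← Category.assoc]; exact hg _)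
  rw [Functor.map_comp] at h1
  haveI := isIso_restrict_tw σ A W hW
  exact (cancel_epi ((Scheme.Modules.restrictFunctor W.ι).map (GenTwist.tw σ A))).mp
    (h1.trans comp_zero.symm)

theorem GenOn.of_iso {A A' : X.Modules} (e : A ≅ A') {W : X.Opens} (h : GenOn A W) :
    GenOn A' W := by
  intro Q g hg
  have h1 := h Q (e.hom ≫ g) (fun τ => by rw [← Category.assoc]; exact hg _)
  rw [Functor.map_comp] at h1
  exact (cancel_epi ((Scheme.Modules.restrictFunctor W.ι).map e.hom)).mp (h1.trans comp_zero.symm)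

/-- Step B: extensions of twisted generators generate the twist over an affine `W ⊆ X_σ` -/
theorem genOn_tensor_of_extensions {B : X.Modules} (σ : Coh.structureModule X ⟶ B)
    (A : X.Modules) [A.IsQuasicoherent] (W : X.Opens) (hW : W ≤ CohB1.genLocus B σ)
    (hWaff : IsAffineOpen W) (S : Set Γ(A, W)) (hS : Submodule.span Γ(X, W) S = ⊤)
    (hext : ∀ m ∈ S, ∃ τ : Coh.structureModule X ⟶ CohB1.tensorMod A B,
      SecTwist.val τ W = SecTwist.tmul A B W m (SecTwist.val σ W)) :
    GenOn (CohB1.tensorMod A B) W := by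
  intro Q g hg
  have hkill : ∀ m : Γ(A, W), (tw σ A ≫ g).app W m = 0 := by
    intro m
    have hm : m ∈ Submodule.span Γ(X, W) S := hS ▸ Submodule.mem_top
    induction hm using Submodule.span_induction with
    | mem m hm =>
      obtain ⟨τ, hτ⟩ := hext m hm
      change g.app W ((tw σ A).app W m) = 0
      rw [tw_app, ← hτ]
      exact congrArg (fun φ => (Scheme.Modules.Hom.app φ W) (one X W)) (hg τ)
    | zero => exact map_zero _
    | add a b _ _ ha hb => rw [map_add, ha, hb, add_zero]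
    | smul r a _ ha => rw [Scheme.Modules.Hom.app_smul, ha, smul_zero]
  haveI : IsAffine (W : Scheme.{u}) := hWaff
  haveI : (A.restrict W.ι).IsQuasicoherent := inferInstance
  have hgg : Curv2.IsGloballyGenerated (A.restrict W.ι) :=
    Groth.Agent.Helper4.QuasiAffineGG.isGloballyGenerated_of_isOpenImmersion_Spec
      (W : Scheme.{u}).isoSpec.hom _
  have h1 := restrict_map_eq_zero_of_isGloballyGenerated A Q (tw σ A ≫ g) W hgg hkill
  rw [Functor.map_comp] at h1
  haveI := isIso_restrict_tw σ A W hW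
  exact (cancel_epi ((Scheme.Modules.restrictFunctor W.ι).map (GenTwist.tw σ A))).mp
    (h1.trans comp_zero.symm)

end Groth.Agent.Helper4.GenTwist
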