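import Mathlib
import Groth.Agent.Helper4.GenTwist
import Groth.Agent.Helper4.FTIdeal2

set_option autoImplicit false
open CategoryTheory Limits AlgebraicGeometry TopologicalSpace Opposite
universe u

namespace Groth.Agent.Helper4.IdealTwist

open Groth.Agent.Helper4.GenLoc Groth.Agent.Helper4.GenLocIso
  Groth.Agent.Helper4.AmpleIso Groth.Agent.Helper4.PullSec
  Groth.Agent.Helper4.AmpleLocal Groth.Agent.Helper4.TensorInv Groth.Agent.Helper4.TensorGen
  Groth.Agent.Helper4.TensorAssoc Groth.Agent.Helper4.AmpleTensor Groth.Agent.Helper4.AmpleBasis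
  Groth.Agent.Helper4.TensorRes Groth.Agent.Helper4.AmpleRestrict Groth.Agent.Helper4.QAffSec
  Groth.Agent.Helper4.CounitEpi Groth.Agent.Helper4.TwistExt Groth.Agent.Helper4.CounitGG
  Groth.Agent.Helper4.GenTwist Groth.Agent.Helper4.TensorLift

variable {X : Scheme.{u}}

section Psi

variable (A A' B : X.Modules) (U : X.Opens)
  (ε : B.restrict U.ι ≅ Coh.structureModule (U : Scheme.{u}))

theorem eq_tmul_gen (W' : (U : Scheme.{u}).Opens) (y : Γ(CohB1.tensorMod A B, U.ι ''ᵁ W')) :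
    y = SecTwist.tmul A B (U.ι ''ᵁ W') (Psi A B U ε W' y) (gen B U ε W') :=
  (Psi_bijective A B U ε W').1 (Psi_tmul_gen A B U ε W' _).symm

theorem Psi_tensorMap (φ : A ⟶ A') (W' : (U : Scheme.{u}).Opens)
    (y : Γ(CohB1.tensorMod A B, U.ι ''ᵁ W')) :
    Psi A' B U ε W' ((KoszTw.tensorMap φ (𝟙 B)).app (U.ι ''ᵁ W') y) =
      φ.app (U.ι ''ᵁ W') (Psi A B U ε W' y) := by
  conv_lhs => rw [eq_tmul_gen A B U ε W' y]
  rw [KoszTw.tensorMap_tmul]
  exact Psi_tmul_gen A' B U ε W' _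

include ε in
theorem tensorMap_app_bijective (φ : A ⟶ A') {T : X.Opens} (hT : T ≤ U)
    (hφ : Function.Bijective (φ.app T)) :
    Function.Bijective ((KoszTw.tensorMap φ (𝟙 B)).app T) := by
  obtain ⟨W', rfl⟩ : ∃ W' : (U : Scheme.{u}).Opens, T = U.ι ''ᵁ W' :=
    ⟨U.ι ⁻¹ᵁ T, (image_preimage_of_le' _ hT).symm⟩
  have h1 : Psi A' B U ε W' ∘ (KoszTw.tensorMap φ (𝟙 B)).app (U.ι ''ᵁ W') =
      φ.app (U.ι ''ᵁ W') ∘ Psi A B U ε W' := funext (Psi_tensorMap A A' B U ε φ W')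
  have h2 : Function.Bijective (Psi A' B U ε W' ∘ (KoszTw.tensorMap φ (𝟙 B)).app (U.ι ''ᵁ W')) := by
    rw [h1]; exact hφ.comp (Psi_bijective A B U ε W')
  exact (Function.Bijective.of_comp_iff' (Psi_bijective A' B U ε W') _).mp h2

end Psi

/-- a section of `O ⊗ B` factoring through `J ⊗ B` generates only inside `U` when the sections of
the ideal `J` vanish outside `U` -/
theorem genLocus_le_of_factor {J B : X.Modules} (ιJ : J ⟶ Coh.structureModule X) (U : X.Opens)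
    (hvan : ∀ (D : X.Opens) (m : Γ(J, D)), X.basicOpen (toFn (ιJ.app D m)) ≤ U)
    (τ : Coh.structureModule X ⟶ CohB1.tensorMod J B) :
    CohB1.genLocus (CohB1.tensorMod (Coh.structureModule X) B)
      (τ ≫ KoszTw.tensorMap ιJ (𝟙 B)) ≤ U := by
  obtain ⟨s₁, hs₁⟩ : ∃ s₁, s₁ = τ ≫ KoszTw.tensorMap ιJ (𝟙 B) := ⟨_, rfl⟩
  rw [← hs₁]
  obtain ⟨D, hD⟩ : ∃ D : X.Opens, D = CohB1.genLocus _ s₁ := ⟨_, rfl⟩
  have hT : D.ι ''ᵁ ⊤ = D := Scheme.Opens.ι_image_top D
  let εB : B.restrict D.ι ≅ Coh.structureModule (D : Scheme.{u}) := by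
    subst hD
    exact (Scheme.Modules.restrictFunctor _).mapIso (unitorL B).symm ≪≫ trivOfSec s₁
  have hbij : Function.Bijective (s₁.app (D.ι ''ᵁ ⊤)) := by
    have := (isIso_restrict_iff s₁ (CohB1.genLocus _ s₁)).mp (isIso_restrict_genLocus _ s₁)
    exact this _ (by rw [hT, hD])
  let O := Coh.structureModule X
  let T : X.Opens := D.ι ''ᵁ ⊤
  let t₀ : Γ(CohB1.tensorMod J B, T) := τ.app T (one X T)
  let j : Γ(J, T) := Psi J B D εB ⊤ t₀
  let z : Γ(CohB1.tensorMod O B, T) := s₁.app T (one X T)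
  have hz : z = (KoszTw.tensorMap ιJ (𝟙 B)).app T t₀ := by
    change s₁.app T (one X T) = _
    rw [hs₁]; rfl
  have ha : Psi O B D εB ⊤ z = ιJ.app T j := by
    rw [hz]; exact Psi_tensorMap J O B D εB ιJ ⊤ t₀
  obtain ⟨c, hc⟩ := hbij.2 (SecTwist.tmul O B T (one X T) (gen B D εB ⊤))
  have hc' : s₁.app T c = toFn c • z := by
    have : c = toFn c • one X T := (GenLoc.smul_one T (toFn c)).symm
    conv_lhs => rw [this, Scheme.Modules.Hom.app_smul]
  have h3 : SecTwist.tmul O B T (toFn c • ιJ.app T j) (gen B D εB ⊤) =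
      SecTwist.tmul O B T (one X T) (gen B D εB ⊤) := by
    rw [tmul_smul_left, ← ha, ← eq_tmul_gen O B D εB ⊤ z]
    exact hc'.symm.trans hc
  have h4 := congrArg (Psi O B D εB ⊤) h3
  rw [Psi_tmul_gen, Psi_tmul_gen] at h4
  have hunit : IsUnit (toFn (ιJ.app T j)) := by
    refine isUnit_iff_exists_inv'.mpr ⟨toFn c, ?_⟩
    exact h4
  have h5 := hvan T j
  rw [Scheme.basicOpen_of_isUnit _ hunit] at h5
  rw [← hD, ← hT]
  exact h5

/-- Lemma Q -/
theorem exists_section_of_isGloballyGenerated_ideal_twist (B : X.Modules)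
    (hB : PicF.IsInvertible B) (U : X.Opens) (hU : IsAffineOpen U)
    (εB : B.restrict U.ι ≅ Coh.structureModule (U : Scheme.{u})) (x : X) (hx : x ∈ U)
    (J : X.Modules) (ιJ : J ⟶ Coh.structureModule X)
    (hbij : ∀ V : X.Opens, V ≤ U → Function.Bijective (ιJ.app V))
    (hvan : ∀ (D : X.Opens) (m : Γ(J, D)), X.basicOpen (toFn (ιJ.app D m)) ≤ U)
    (hgg : Curv2.IsGloballyGenerated (CohB1.tensorMod J B)) :
    ∃ s : Coh.structureModule X ⟶ B, x ∈ CohB1.genLocus B s ∧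
      IsAffineOpen (CohB1.genLocus B s) := by
  obtain ⟨κ, p, hp⟩ := hgg
  have hiso : IsIso ((Scheme.Modules.restrictFunctor U.ι).map ιJ) :=
    (isIso_restrict_iff ιJ U).mpr hbij
  let εJ : J.restrict U.ι ≅ Coh.structureModule (U : Scheme.{u}) :=
    @asIso _ _ _ _ ((Scheme.Modules.restrictFunctor U.ι).map ιJ) hiso ≪≫
      Scheme.Modules.restrictUnitIso U.ι
  obtain ⟨i, hi⟩ := Groth.Agent.Helper4.GGSec.exists_mem_genLocus_of_epi _ p hp U
    (tensorTriv J B U εJ εB) x hx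
  obtain ⟨τ, hτ⟩ : ∃ τ : Coh.structureModule X ⟶ CohB1.tensorMod J B,
      x ∈ CohB1.genLocus _ τ := ⟨_, hi⟩
  let s₁ := τ ≫ KoszTw.tensorMap ιJ (𝟙 B)
  have hle : CohB1.genLocus _ s₁ ≤ U := genLocus_le_of_factor ιJ U hvan τ
  have hmem : x ∈ CohB1.genLocus _ s₁ := by
    have h1 : CohB1.genLocus _ τ ⊓ U ≤ CohB1.genLocus _ s₁ := by
      rw [le_genLocus_iff, isIso_restrict_iff]
      intro T hT
      have hb1 := (isIso_restrict_iff τ _).mp (isIso_restrict_genLocus _ τ) T (hT.trans inf_le_left)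
      have hb2 := tensorMap_app_bijective J (Coh.structureModule X) B U εB ιJ (hT.trans inf_le_right)
        (hbij T (hT.trans inf_le_right))
      exact hb2.comp hb1
    exact h1 ⟨hτ, hx⟩
  have hO : PicF.IsInvertible (CohB1.tensorMod (Coh.structureModule X) B) :=
    isInvertible_tensorMod isInvertible_structureModule hB
  refine ⟨s₁ ≫ (unitorL B).hom, ?_, ?_⟩
  · rw [genLocus_comp_iso]; exact hmem
  · rw [genLocus_comp_iso]
    have := isAffineOpen_genLocus_inf_affine _ hO s₁ hU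
    rwa [inf_eq_left.mpr hle] at this

end Groth.Agent.Helper4.IdealTwist
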