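import Mathlib
import Groth.Agent.Helper4.GenTwist
import Groth.Agent.Helper4.SecDict

set_option autoImplicit false
open CategoryTheory Limits AlgebraicGeometry TopologicalSpace Opposite
universe u

namespace Groth.Agent.Helper4.GenTwistMain

open Groth.Agent.Helper4.GenLoc Groth.Agent.Helper4.PullUnit Groth.Agent.Helper4.GenLocIso
  Groth.Agent.Helper4.AmpleIso Groth.Agent.Helper4.PullSec Groth.Agent.Helper4.PullAmple
  Groth.Agent.Helper4.AmpleLocal Groth.Agent.Helper4.TensorInv Groth.Agent.Helper4.TensorGen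
  Groth.Agent.Helper4.TensorAssoc Groth.Agent.Helper4.AmpleTensor Groth.Agent.Helper4.AmpleBasis
  Groth.Agent.Helper4.TensorRes Groth.Agent.Helper4.AmpleRestrict Groth.Agent.Helper4.QAffSec
  Groth.Agent.Helper4.CounitEpi Groth.Agent.Helper4.TwistExt Groth.Agent.Helper4.CounitGG
  Groth.Agent.Helper4.GenTwist Groth.Agent.Helper4.AmpleFinite Groth.Agent.Helper4.AmplePoints
  Groth.Agent.Helper4.AmpleEventual

variable {X : Scheme.{u}}

/-- per chart: all large twists are generated over an affine `X_ρ` -/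
theorem exists_forall_genOn [CompactSpace X] [QuasiSeparatedSpace X] {M : X.Modules}
    (hM : PicF.IsInvertible M) (ρ : Coh.structureModule X ⟶ M)
    (haff : IsAffineOpen (CohB1.genLocus M ρ)) (F : X.Modules) [F.IsQuasicoherent]
    (hFT : SheafOfModules.IsFiniteType (R := X.ringCatSheaf) F) :
    ∃ N₀ : ℕ, ∀ N, N₀ ≤ N →
      GenOn (CohB1.tensorMod F (CohB1.tensorPow M N)) (CohB1.genLocus M ρ) := by
  classical
  haveI : Module.Finite Γ(X, CohB1.genLocus M ρ) Γ(F, CohB1.genLocus M ρ) :=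
    Groth.Agent.Helper4.SecDict.finite_sections haff F inferInstance hFT
  obtain ⟨S, hS⟩ := (Module.finite_def.mp
    (inferInstance : Module.Finite Γ(X, CohB1.genLocus M ρ) Γ(F, CohB1.genLocus M ρ)))
  choose N₀ hN₀ using fun m : Γ(F, CohB1.genLocus M ρ) =>
    Groth.Agent.Helper4.TwistExtU.exists_forall_twist_extends M hM ρ F m
  refine ⟨S.sup N₀, fun N hN => genOn_tensor_of_extensions (SecTwist.powHom ρ N) F
    (CohB1.genLocus M ρ) (genLocus_le_genLocus_powHom hM ρ N) haff ↑S hS (fun m hm => ?_)⟩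
  obtain ⟨t', ht'⟩ := hN₀ m N ((Finset.le_sup (Finset.mem_coe.mp hm)).trans hN)
  obtain ⟨τ, hτ⟩ := SubExt.exists_unit_hom_of_section
    (CohB1.tensorMod F (CohB1.tensorPow M N)) t'
  refine ⟨τ, ?_⟩
  have h1 : SecTwist.val τ (CohB1.genLocus M ρ) =
      (CohB1.tensorMod F (CohB1.tensorPow M N)).presheaf.map
        (homOfLE (le_top : CohB1.genLocus M ρ ≤ ⊤)).op t' := by
    rw [← hτ]
    exact app_one_eq_res _ τ _
  rw [h1, ht', SecTwist.val_powHom]
  rfl

theorem isGloballyGenerated_tensorMod {A B : X.Modules} (hA : Curv2.IsGloballyGenerated A)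
    (hB : PicF.IsInvertible B) (hBg : Curv2.IsGloballyGenerated B) :
    Curv2.IsGloballyGenerated (CohB1.tensorMod A B) := by
  apply isGloballyGenerated_of_genOn_cover
  intro x
  obtain ⟨b, hb⟩ := Groth.Agent.Helper4.GGSec.exists_mem_genLocus_of_isGloballyGenerated B hB hBg x
  exact ⟨CohB1.genLocus B b, hb, GenOn.tensor b le_rfl (GenOn.of_isGloballyGenerated hA _)⟩

/-- S2325 (for quasi-compact quasi-separated schemes) -/
theorem exists_forall_isGloballyGenerated_twist {L : X.Modules} (h : CohB1.IsAmple L)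
    (F : X.Modules) [F.IsQuasicoherent]
    (hFT : SheafOfModules.IsFiniteType (R := X.ringCatSheaf) F) :
    ∃ n₀ : ℕ, ∀ n, n₀ ≤ n →
      Curv2.IsGloballyGenerated (CohB1.tensorMod F (CohB1.tensorPow L n)) := by
  classical
  have hL := h.1
  haveI := h.2.1
  haveI := quasiSeparatedSpace_of_isAmple h
  choose n s hx ha using h.2.2
  obtain ⟨t, ht⟩ := CompactSpace.elim_nhds_subcover (fun x => (CohB1.genLocus _ (s x) : Set X))
    (fun x => (CohB1.genLocus _ (s x)).isOpen.mem_nhds (hx x))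
  obtain ⟨P, hPdef⟩ : ∃ P, P = ∏ x ∈ t, (n x + 1) := ⟨_, rfl⟩
  have hP : 0 < P := hPdef ▸ Finset.prod_pos (fun x _ => Nat.succ_pos _)
  have hM := isInvertible_tensorPow hL P
  have key : ∀ x, ∃ N₀ : ℕ, x ∈ t → ∀ N, N₀ ≤ N →
      GenOn (CohB1.tensorMod F (CohB1.tensorPow (CohB1.tensorPow L P) N))
        (CohB1.genLocus _ (s x)) := by
    intro x
    by_cases hxt : x ∈ t
    · obtain ⟨ρ, hρ⟩ := exists_pow_section hL (n x) (s x) P hP
        (hPdef ▸ Finset.dvd_prod_of_mem _ hxt)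
      obtain ⟨N₀, hN₀⟩ := exists_forall_genOn hM ρ (hρ ▸ ha x) F hFT
      exact ⟨N₀, fun _ N hN => hρ ▸ hN₀ N hN⟩
    · exact ⟨0, fun h => absurd h hxt⟩
  choose N₀ hN₀ using key
  have hA : Curv2.IsGloballyGenerated
      (CohB1.tensorMod F (CohB1.tensorPow (CohB1.tensorPow L P) (t.sup N₀))) := by
    apply isGloballyGenerated_of_genOn_cover
    intro y
    have hy : y ∈ ⋃ x ∈ t, (CohB1.genLocus _ (s x) : Set X) := ht ▸ Set.mem_univ y
    obtain ⟨x, hxt, hyx⟩ := Set.mem_iUnion₂.mp hy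
    exact ⟨_, hyx, hN₀ x hxt _ (Finset.le_sup hxt)⟩
  obtain ⟨m₀, hm₀⟩ := exists_forall_isGloballyGenerated h (Coh.structureModule X)
    isInvertible_structureModule
  refine ⟨P * t.sup N₀ + m₀, fun n hn => ?_⟩
  obtain ⟨k, hk⟩ := Nat.exists_eq_add_of_le hn
  have hgk : Curv2.IsGloballyGenerated (CohB1.tensorPow L (m₀ + k)) :=
    isGloballyGenerated_of_iso (unitorL _) (hm₀ (m₀ + k) (Nat.le_add_right _ _))
  have h1 := isGloballyGenerated_tensorMod hA (isInvertible_tensorPow hL _) hgk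
  refine isGloballyGenerated_of_iso ?_ h1
  exact assocIso F _ _ (isInvertible_tensorPow hM _) (isInvertible_tensorPow hL _) ≪≫
    PicGrp.tensorModIso (Iso.refl F)
      (PicGrp.tensorModIso (powMulIso L hL P (t.sup N₀)) (Iso.refl _) ≪≫
        powAddIso L hL (P * t.sup N₀) (m₀ + k) ≪≫ powCastIso L (by omega))

end Groth.Agent.Helper4.GenTwistMain
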