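import Mathlib
import Groth.Agent.Helper4.GenTwistMain
import Groth.Agent.Helper4.FTRestrict

set_option autoImplicit false
open CategoryTheory Limits AlgebraicGeometry TopologicalSpace Opposite
universe u

namespace Groth.Agent.Helper4.RelGenTwist

open Groth.Agent.Helper4.GenLoc Groth.Agent.Helper4.AmpleIso
  Groth.Agent.Helper4.AmpleLocal Groth.Agent.Helper4.TensorInv Groth.Agent.Helper4.TensorGen
  Groth.Agent.Helper4.TensorAssoc Groth.Agent.Helper4.AmpleTensor Groth.Agent.Helper4.AmpleBasis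
  Groth.Agent.Helper4.TensorRes Groth.Agent.Helper4.AmpleRestrict Groth.Agent.Helper4.QAffSec
  Groth.Agent.Helper4.CounitEpi Groth.Agent.Helper4.CounitGG
  Groth.Agent.Helper4.GenTwist Groth.Agent.Helper4.GenTwistMain

variable {X Y : Scheme.{u}}

/-- Lemma R: relative version of the generation of large twists -/
theorem exists_forall_epi_counit_twist [CompactSpace X] (f : X ⟶ Y) (L : X.Modules)
    (hL : RelAmple.IsRelAmple f L) (F : X.Modules) [F.IsQuasicoherent]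
    (hFT : SheafOfModules.IsFiniteType (R := X.ringCatSheaf) F) :
    ∃ N : ℕ, ∀ n, N ≤ n → Epi ((Scheme.Modules.pullbackPushforwardAdjunction f).counit.app
      (CohB1.tensorMod F (CohB1.tensorPow L n))) := by
  have hex : ∀ x : X, ∃ V : Y.Opens, IsAffineOpen V ∧ f x ∈ V := by
    intro x
    obtain ⟨V, hV, hxV, -⟩ := exists_isAffineOpen_mem_and_subset (X := Y) (x := f x) (U := ⊤) trivial
    exact ⟨V, hV, hxV⟩
  choose V hVaff hxV using hex
  obtain ⟨t, ht⟩ := CompactSpace.elim_nhds_subcover (fun x => ((f ⁻¹ᵁ V x : X.Opens) : Set X))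
    (fun x => (f ⁻¹ᵁ V x).isOpen.mem_nhds (hxV x))
  have key : ∀ x : X, ∃ n₀ : ℕ, ∀ n, n₀ ≤ n → Curv2.IsGloballyGenerated
      ((CohB1.tensorMod F (CohB1.tensorPow L n)).restrict (f ⁻¹ᵁ V x).ι) := by
    intro x
    have hamp : CohB1.IsAmple (L.restrict (f ⁻¹ᵁ V x).ι) := hL.2 ⟨V x, hVaff x⟩
    haveI : (F.restrict (f ⁻¹ᵁ V x).ι).IsQuasicoherent := inferInstance
    obtain ⟨n₀, hn₀⟩ := exists_forall_isGloballyGenerated_twist hamp (F.restrict (f ⁻¹ᵁ V x).ι)
      (Groth.Agent.Helper4.FTRestrict.isFT_restrict _ _ hFT)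
    refine ⟨n₀, fun n hn => isGloballyGenerated_of_iso ?_ (hn₀ n hn)⟩
    exact PicGrp.tensorModIso (Iso.refl _) (resPowIso (f ⁻¹ᵁ V x).ι L n) ≪≫ resIso _ _ _
  choose n₀ hn₀ using key
  refine ⟨t.sup n₀, fun n hn => ?_⟩
  refine epi_counit_of_cover f _ (fun x : t => V x.1) (fun y => ?_)
    (fun x => hn₀ x.1 n ((Finset.le_sup x.2).trans hn))
  have hy : y ∈ ⋃ x ∈ t, ((f ⁻¹ᵁ V x : X.Opens) : Set X) := ht ▸ Set.mem_univ y
  obtain ⟨x, hxt, hyx⟩ := Set.mem_iUnion₂.mp hy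
  exact ⟨⟨x, hxt⟩, hyx⟩

end Groth.Agent.Helper4.RelGenTwist
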