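import Mathlib
import Groth.Agent.Helper4.IdealTwist
import Groth.Agent.Helper4.RelGenTwist

set_option autoImplicit false
open CategoryTheory Limits AlgebraicGeometry TopologicalSpace Opposite
universe u

namespace Groth.Agent.Helper4.RelIdealTwist

open Groth.Agent.Helper4.GenLoc Groth.Agent.Helper4.GenLocIso
  Groth.Agent.Helper4.AmpleIso Groth.Agent.Helper4.PullSec
  Groth.Agent.Helper4.AmpleLocal Groth.Agent.Helper4.TensorInv Groth.Agent.Helper4.TensorGen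
  Groth.Agent.Helper4.TensorAssoc Groth.Agent.Helper4.AmpleTensor Groth.Agent.Helper4.AmpleBasis
  Groth.Agent.Helper4.TensorRes Groth.Agent.Helper4.AmpleRestrict Groth.Agent.Helper4.QAffSec
  Groth.Agent.Helper4.CounitEpi Groth.Agent.Helper4.TwistExt Groth.Agent.Helper4.CounitGG
  Groth.Agent.Helper4.GenTwist Groth.Agent.Helper4.TensorLift Groth.Agent.Helper4.IdealTwist
  Groth.Agent.Helper4.TwistLocal

variable {X Y : Scheme.{u}}

theorem isTrivAlong_tensorPow {L : X.Modules} (U : X.Opens) (h : IsTrivAlong L U.ι) :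
    ∀ n : ℕ, IsTrivAlong (CohB1.tensorPow L n) U.ι
  | 0 => ⟨Scheme.Modules.restrictUnitIso U.ι⟩
  | n + 1 => by
    obtain ⟨ε⟩ := h
    obtain ⟨εn⟩ := isTrivAlong_tensorPow U ⟨ε⟩ n
    exact ⟨tensorTriv _ _ U εn ε⟩

/-- tensoring a quasi-coherent module with an invertible one is quasi-coherent -/
theorem isQuasicoherent_tensorMod (A B : X.Modules) [A.IsQuasicoherent]
    (hB : PicF.IsInvertible B) : (CohB1.tensorMod A B).IsQuasicoherent := by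
  apply Groth.Agent.Helper4.QcohGlue.isQuasicoherent_of_affine_cover
  intro x
  obtain ⟨U, hxU, hU, ⟨ε⟩⟩ := exists_affine_triv B hB x
  refine ⟨U, hU, hxU, ?_⟩
  have htriv : IsTrivAlong B hU.fromSpec :=
    (IsTrivAlong.comp U.ι ⟨ε⟩ hU.isoSpec.inv).congr rfl
  obtain ⟨ε'⟩ := htriv
  let e : (CohB1.tensorMod A B).restrict hU.fromSpec ≅ A.restrict hU.fromSpec :=
    (resIso hU.fromSpec A B).symm ≪≫ PicGrp.tensorModIso (Iso.refl _) ε' ≪≫ SecTwist.unitorR _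
  haveI : (A.restrict hU.fromSpec).IsQuasicoherent := inferInstance
  exact Groth.Agent.Helper4.QcohLimits.isQuasicoherent_of_iso e.symm

/-- S4383 (for quasi-compact quasi-separated `X` and quasi-separated `f`) -/
theorem isRelAmple_of_counit_ideal_twist_epi [CompactSpace X] [QuasiSeparatedSpace X]
    (f : X ⟶ Y) [QuasiSeparated f] [QuasiCompact f] (L : X.Modules) (hL : PicF.IsInvertible L)
    (h : ∀ (J : X.Modules) (i : J ⟶ Coh.structureModule X), Mono i → Coh.IsQCoh J → CohB1.IsFT J →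
      ∃ n : ℕ, 0 < n ∧ Epi ((Scheme.Modules.pullbackPushforwardAdjunction f).counit.app
        (CohB1.tensorMod J (CohB1.tensorPow L n)))) :
    RelAmple.IsRelAmple f L := by
  refine ⟨inferInstance, fun V => ?_⟩
  haveI : CompactSpace ((f ⁻¹ᵁ V.1 : X.Opens) : Scheme.{u}) := isCompact_iff_compactSpace.mp
    (QuasiCompact.isCompact_preimage (f := f) _ V.1.isOpen V.2.isCompact)
  have hL' := isInvertible_restrict (f ⁻¹ᵁ V.1).ι hL
  refine ⟨hL', inferInstance, fun x' => ?_⟩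
  obtain ⟨U', hxU', hU', ⟨ε'⟩⟩ := exists_affine_triv (L.restrict (f ⁻¹ᵁ V.1).ι) hL' x'
  have hU : IsAffineOpen ((f ⁻¹ᵁ V.1).ι ''ᵁ U') := hU'.image_of_isOpenImmersion (f ⁻¹ᵁ V.1).ι
  obtain ⟨J, ιJ, hmono, hJq, hJft, hbij, hvan⟩ :=
    Groth.Agent.Helper4.FTIdeal2.exists_ft_ideal_module' ((f ⁻¹ᵁ V.1).ι ''ᵁ U') hU.isCompact
  obtain ⟨n, hn, hepi⟩ := h J ιJ hmono hJq hJft
  obtain ⟨k, rfl⟩ := Nat.exists_eq_succ_of_ne_zero hn.ne'
  haveI : J.IsQuasicoherent := hJq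
  haveI : (CohB1.tensorMod J (CohB1.tensorPow L (k + 1))).IsQuasicoherent :=
    isQuasicoherent_tensorMod J _ (isInvertible_tensorPow hL _)
  have hgg := isGloballyGenerated_restrict_of_epi_counit f _ hepi V.1 V.2
  have hgg' : Curv2.IsGloballyGenerated (CohB1.tensorMod (J.restrict (f ⁻¹ᵁ V.1).ι)
      (CohB1.tensorPow (L.restrict (f ⁻¹ᵁ V.1).ι) (k + 1))) :=
    isGloballyGenerated_of_iso ((resIso (f ⁻¹ᵁ V.1).ι J (CohB1.tensorPow L (k + 1))).symm ≪≫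
      PicGrp.tensorModIso (Iso.refl _) (resPowIso (f ⁻¹ᵁ V.1).ι L (k + 1)).symm) hgg
  obtain ⟨εB⟩ := isTrivAlong_tensorPow U' ⟨ε'⟩ (k + 1)
  let ιJ' : J.restrict (f ⁻¹ᵁ V.1).ι ⟶ Coh.structureModule ((f ⁻¹ᵁ V.1 : X.Opens) : Scheme.{u}) :=
    (Scheme.Modules.restrictFunctor (f ⁻¹ᵁ V.1).ι).map ιJ ≫ (Scheme.Modules.restrictUnitIso (f ⁻¹ᵁ V.1).ι).hom
  have hbij' : ∀ V' : ((f ⁻¹ᵁ V.1 : X.Opens) : Scheme.{u}).Opens, V' ≤ U' → Function.Bijective (ιJ'.app V') := by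
    intro V' hV'
    have h1 : Function.Bijective (ιJ.app ((f ⁻¹ᵁ V.1).ι ''ᵁ V')) :=
      hbij _ ((Scheme.Hom.image_le_image_iff (f ⁻¹ᵁ V.1).ι V' U').mpr hV')
    have h2 : Function.Bijective ((Scheme.Modules.restrictUnitIso (f ⁻¹ᵁ V.1).ι).hom.app V') :=
      ConcreteCategory.bijective_of_isIso _
    exact h2.comp h1
  have hvan' : ∀ (D' : ((f ⁻¹ᵁ V.1 : X.Opens) : Scheme.{u}).Opens) (m : Γ(J.restrict (f ⁻¹ᵁ V.1).ι, D')),
      ((f ⁻¹ᵁ V.1 : X.Opens) : Scheme.{u}).basicOpen (toFn (ιJ'.app D' m)) ≤ U' := by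
    intro D' m
    have h1 := hvan ((f ⁻¹ᵁ V.1).ι ''ᵁ D') m
    rw [← Scheme.Hom.image_le_image_iff (f ⁻¹ᵁ V.1).ι, Scheme.image_basicOpen]
    have h2 : ((f ⁻¹ᵁ V.1).ι.appIso D').inv (toFn (ιJ'.app D' m)) = toFn (ιJ.app ((f ⁻¹ᵁ V.1).ι ''ᵁ D') m) := by
      change ((f ⁻¹ᵁ V.1).ι.appIso D').inv.hom (((f ⁻¹ᵁ V.1).ι.appIso D').hom.hom (toFn (ιJ.app ((f ⁻¹ᵁ V.1).ι ''ᵁ D') m))) = _
      rw [← CommRingCat.comp_apply, Iso.hom_inv_id]
      rfl
    rw [h2]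
    exact h1
  obtain ⟨s, hxs, hsaff⟩ := exists_section_of_isGloballyGenerated_ideal_twist
    (CohB1.tensorPow (L.restrict (f ⁻¹ᵁ V.1).ι) (k + 1)) (isInvertible_tensorPow hL' _) U' hU' εB x' hxU'
    (J.restrict (f ⁻¹ᵁ V.1).ι) ιJ' hbij' hvan' hgg'
  exact ⟨k, s, hxs, hsaff⟩

end Groth.Agent.Helper4.RelIdealTwist
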