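import Mathlib
import Groth.Agent.Helper4.RelIdealTwist
import Groth.Prelude.Def_Mor2

set_option autoImplicit false
open CategoryTheory Limits AlgebraicGeometry TopologicalSpace Opposite
universe u

namespace Groth.Agent.Helper4.QAffCounit

open Groth.Agent.Helper4.GenLoc Groth.Agent.Helper4.GenLocIso
  Groth.Agent.Helper4.AmpleIso Groth.Agent.Helper4.PullSec
  Groth.Agent.Helper4.AmpleLocal Groth.Agent.Helper4.TensorInv Groth.Agent.Helper4.TensorGen
  Groth.Agent.Helper4.QAffSec Groth.Agent.Helper4.GGSec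
  Groth.Agent.Helper4.CounitEpi Groth.Agent.Helper4.CounitGG

variable {X Y : Scheme.{u}}

/-- the core of S4408, for a single ideal -/
theorem exists_basicOpen_of_isGloballyGenerated_ideal (U : X.Opens) (hU : IsAffineOpen U) (x : X)
    (hxU : x ∈ U) (J : X.Modules) (ιJ : J ⟶ Coh.structureModule X)
    (hbij : ∀ V : X.Opens, V ≤ U → Function.Bijective (ιJ.app V))
    (hle : ∀ m : Γ(J, ⊤), X.basicOpen (toFn (ιJ.app ⊤ m)) ≤ U)
    (hgg : Curv2.IsGloballyGenerated J) :
    ∃ r : Γ(X, ⊤), IsAffineOpen (X.basicOpen r) ∧ x ∈ X.basicOpen r := by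
  obtain ⟨κ, p, hp⟩ := hgg
  have hiso : IsIso ((Scheme.Modules.restrictFunctor U.ι).map ιJ) :=
    (isIso_restrict_iff ιJ U).mpr hbij
  let ε : J.restrict U.ι ≅ Coh.structureModule (U : Scheme.{u}) :=
    @asIso _ _ _ _ ((Scheme.Modules.restrictFunctor U.ι).map ιJ) hiso ≪≫
      Scheme.Modules.restrictUnitIso U.ι
  obtain ⟨i, hi⟩ := exists_mem_genLocus_of_epi J p hp U ε x hxU
  obtain ⟨t, hi⟩ : ∃ t : Coh.structureModule X ⟶ J, x ∈ CohB1.genLocus J t := ⟨_, hi⟩
  let f : Γ(X, ⊤) := fn (t ≫ ιJ)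
  have hfle : X.basicOpen f ≤ U := hle (t.app ⊤ (one X ⊤))
  have hxf : x ∈ X.basicOpen f := by
    rw [← genLocus_unit]
    obtain ⟨V, hV, hxV⟩ : ∃ V : X.Opens,
        V ∈ {V : X.Opens | IsIso ((Scheme.Modules.restrictFunctor V.ι).map t)} ∧ x ∈ V :=
      Opens.mem_sSup.mp hi
    have hV' : IsIso ((Scheme.Modules.restrictFunctor V.ι).map t) := hV
    have hbt := (isIso_restrict_iff t V).mp hV'
    have hVU : IsIso ((Scheme.Modules.restrictFunctor (V ⊓ U).ι).map (t ≫ ιJ)) := by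
      rw [isIso_restrict_iff]
      intro V' hV'
      exact (hbij V' (hV'.trans inf_le_right)).comp (hbt V' (hV'.trans inf_le_left))
    exact Opens.mem_sSup.mpr ⟨V ⊓ U, hVU, hxV, hxU⟩
  refine ⟨f, ?_, hxf⟩
  have h1 : X.basicOpen (X.presheaf.map (homOfLE (le_top : U ≤ ⊤)).op f) = X.basicOpen f := by
    rw [Scheme.basicOpen_res]; exact inf_eq_right.mpr hfle
  rw [← h1]
  exact hU.basicOpen _

/-- restriction of an ideal to an open subscheme keeps the two key properties -/
theorem restrict_ideal_props (W : X.Opens) (U' : (W : Scheme.{u}).Opens) (J : X.Modules)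
    (ιJ : J ⟶ Coh.structureModule X)
    (hbij : ∀ V : X.Opens, V ≤ W.ι ''ᵁ U' → Function.Bijective (ιJ.app V))
    (hvan : ∀ (D : X.Opens) (m : Γ(J, D)), X.basicOpen (toFn (ιJ.app D m)) ≤ W.ι ''ᵁ U') :
    (∀ V' : (W : Scheme.{u}).Opens, V' ≤ U' → Function.Bijective
      (((Scheme.Modules.restrictFunctor W.ι).map ιJ ≫
        (Scheme.Modules.restrictUnitIso W.ι).hom).app V')) ∧
    (∀ (D' : (W : Scheme.{u}).Opens) (m : Γ(J.restrict W.ι, D')),
      (W : Scheme.{u}).basicOpen (toFn (((Scheme.Modules.restrictFunctor W.ι).map ιJ ≫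
        (Scheme.Modules.restrictUnitIso W.ι).hom).app D' m)) ≤ U') := by
  constructor
  · intro V' hV'
    have h1 : Function.Bijective (ιJ.app (W.ι ''ᵁ V')) :=
      hbij _ ((Scheme.Hom.image_le_image_iff W.ι V' U').mpr hV')
    have h2 : Function.Bijective ((Scheme.Modules.restrictUnitIso W.ι).hom.app V') :=
      ConcreteCategory.bijective_of_isIso _
    exact h2.comp h1
  · intro D' m
    have h1 := hvan (W.ι ''ᵁ D') m
    rw [← Scheme.Hom.image_le_image_iff W.ι, Scheme.image_basicOpen]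
    have h2 : (W.ι.appIso D').inv (toFn (((Scheme.Modules.restrictFunctor W.ι).map ιJ ≫
        (Scheme.Modules.restrictUnitIso W.ι).hom).app D' m)) =
        toFn (ιJ.app (W.ι ''ᵁ D') m) := by
      change (W.ι.appIso D').inv.hom ((W.ι.appIso D').hom.hom (toFn (ιJ.app (W.ι ''ᵁ D') m))) = _
      rw [← CommRingCat.comp_apply, Iso.hom_inv_id]
      rfl
    rw [h2]
    exact h1

/-- S4409 -/
theorem isQuasiAffine_iff_separated_and_counit_epi (f : X ⟶ Y) [QuasiCompact f] :
    Mor2.IsQuasiAffine f ↔ (IsSeparated f ∧ ∀ F : X.Modules, Coh.IsQCoh F →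
      Epi ((Scheme.Modules.pullbackPushforwardAdjunction f).counit.app F)) := by
  constructor
  · rintro ⟨-, hqa⟩
    constructor
    · refine IsZariskiLocalAtTarget.of_iSup_eq_top (P := @IsSeparated)
        (fun V : Y.affineOpens => V.1) (iSup_affineOpens_eq_top Y) fun V => ?_
      haveI := hqa V.1 V.2
      infer_instance
    · intro F hF
      haveI : F.IsQuasicoherent := hF
      refine epi_counit_of_cover f F (fun V : Y.affineOpens => V.1) (fun x => ?_) (fun V => ?_)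
      · obtain ⟨V, hV, hxV, -⟩ := exists_isAffineOpen_mem_and_subset (X := Y) (x := f x) (U := ⊤)
          trivial
        exact ⟨⟨V, hV⟩, hxV⟩
      · haveI := hqa V.1 V.2
        haveI : (F.restrict (f ⁻¹ᵁ V.1).ι).IsQuasicoherent := inferInstance
        exact Groth.Agent.Helper4.QuasiAffineGG.isGloballyGenerated_of_isOpenImmersion_Spec
          ((f ⁻¹ᵁ V.1 : X.Opens) : Scheme.{u}).toSpecΓ _
  · rintro ⟨hsep, hepi⟩
    refine ⟨inferInstance, fun V hV => ?_⟩
    haveI : CompactSpace ((f ⁻¹ᵁ V : X.Opens) : Scheme.{u}) := isCompact_iff_compactSpace.mp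
      (QuasiCompact.isCompact_preimage (f := f) _ V.isOpen hV.isCompact)
    apply Scheme.IsQuasiAffine.of_forall_exists_mem_basicOpen
    intro x'
    obtain ⟨U', hU', hxU', -⟩ := exists_isAffineOpen_mem_and_subset
      (X := ((f ⁻¹ᵁ V : X.Opens) : Scheme.{u})) (x := x') (U := ⊤) trivial
    have hU : IsAffineOpen ((f ⁻¹ᵁ V).ι ''ᵁ U') := hU'.image_of_isOpenImmersion _
    obtain ⟨J, ιJ, hmono, hJq, hbij, hvan⟩ :=
      Groth.Agent.Helper4.FTIdeal2.exists_ideal_module_mono' ((f ⁻¹ᵁ V).ι ''ᵁ U')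
    haveI : J.IsQuasicoherent := hJq
    have hgg := isGloballyGenerated_restrict_of_epi_counit f J (hepi J hJq) V hV
    obtain ⟨hbij', hvan'⟩ := restrict_ideal_props (f ⁻¹ᵁ V) U' J ιJ hbij hvan
    exact exists_basicOpen_of_isGloballyGenerated_ideal U' hU' x' hxU' (J.restrict (f ⁻¹ᵁ V).ι) _
      hbij' (fun m => hvan' ⊤ m) hgg

end Groth.Agent.Helper4.QAffCounit
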