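import Mathlib
import Groth.Agent.Helper4.SubInf

set_option autoImplicit false
universe u
open CategoryTheory CategoryTheory.Limits AlgebraicGeometry TopologicalSpace Opposite

namespace Groth.Agent.Helper4.SubInf
open Groth.Agent.Helper4.StalkDict Groth.Agent.Helper4 Groth.Agent.Helper4.StalkExact
open Groth.Agent.Helper4.SubSec Groth.Agent.Helper4.SubExt

variable {X Y Z : Scheme.{u}} {H : X.Modules}

theorem in_congr_open {A : X.Modules} (a : A ⟶ H) {T T' : X.Opens} (h : T = T') (s : Γ(H, T)) :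
    In a T s ↔ In a T' (H.presheaf.map (homOfLE h.ge).op s) := by
  subst h
  have : H.presheaf.map (homOfLE (le_refl T)).op s = s := by
    have h1 : (homOfLE (le_refl T)).op = 𝟙 (op T) := rfl
    rw [h1, H.presheaf.map_id]
    rfl
  rw [this]

/-- subobjects with the same sections over the range of an open immersion have isomorphic
restrictions -/
theorem exists_restrict_iso_of_same_sections {A B : X.Modules} (a : A ⟶ H) (b : B ⟶ H) [Mono a]
    [Mono b] (τ : Y ⟶ X) [IsOpenImmersion τ]
    (h : ∀ T : X.Opens, T ≤ τ.opensRange → ∀ s : Γ(H, T), In a T s ↔ In b T s) :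
    ∃ e : A.restrict τ ≅ B.restrict τ, e.hom ≫ (Scheme.Modules.restrictFunctor τ).map b =
      (Scheme.Modules.restrictFunctor τ).map a := by
  have hle : ∀ T' : Y.Opens, τ ''ᵁ T' ≤ τ.opensRange := by
    rintro T' _ ⟨z, -, rfl⟩
    exact ⟨z, rfl⟩
  apply exists_iso_of_sections
  · intro T' s
    exact (h (τ ''ᵁ T') (hle T') _).mp ⟨s, rfl⟩
  · intro T' t
    exact (h (τ ''ᵁ T') (hle T') _).mpr ⟨t, rfl⟩

/-- restriction along an open immersion factoring through another one -/
theorem exists_restrict_iso_of_le (j : Y ⟶ X) [IsOpenImmersion j] (τ : Z ⟶ X) [IsOpenImmersion τ]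
    (h : τ.opensRange ≤ j.opensRange) (A : X.Modules) :
    ∃ (τ' : Z ⟶ Y) (_ : IsOpenImmersion τ'), Nonempty (A.restrict τ ≅ (A.restrict j).restrict τ') := by
  have hr : Set.range τ ⊆ Set.range j := h
  let τ' := IsOpenImmersion.lift j τ hr
  have hfac : τ' ≫ j = τ := IsOpenImmersion.lift_fac _ _ _
  haveI : IsOpenImmersion τ' := by
    have : IsOpenImmersion (τ' ≫ j) := by rw [hfac]; infer_instance
    exact IsOpenImmersion.of_comp τ' j
  exact ⟨τ', inferInstance, ⟨(Scheme.Modules.restrictFunctorCongr hfac.symm).app A ≪≫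
    (Scheme.Modules.restrictFunctorComp τ' j).app A⟩⟩

/-- linear equivalence between the sections of two subobjects with the same sections -/
theorem nonempty_linearEquiv_of_same_sections {A B : X.Modules} (a : A ⟶ H) (b : B ⟶ H) [Mono a]
    [Mono b] (T : X.Opens) (h : ∀ s : Γ(H, T), In a T s ↔ In b T s) :
    Nonempty (Γ(A, T) ≃ₗ[Γ(X, T)] Γ(B, T)) := by
  have ha : Function.Injective (QcohEpi.appLin a T) := AffineDict.app_injective_of_mono a T
  have hb : Function.Injective (QcohEpi.appLin b T) := AffineDict.app_injective_of_mono b T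
  have hr : LinearMap.range (QcohEpi.appLin a T) = LinearMap.range (QcohEpi.appLin b T) := by
    ext s
    exact h s
  exact ⟨(LinearEquiv.ofInjective _ ha).trans
    ((LinearEquiv.ofEq _ _ hr).trans (LinearEquiv.ofInjective _ hb).symm)⟩

theorem isFT_restrict_of_local' (j : Y ⟶ X) [IsOpenImmersion j] (B : X.Modules)
    [(B.restrict j).IsQuasicoherent]
    (h : ∀ y : Y, ∃ D : X.Opens, IsAffineOpen D ∧ j y ∈ D ∧ D ≤ j.opensRange ∧
      Module.Finite Γ(X, D) Γ(B, D)) :
    SheafOfModules.IsFiniteType (R := Y.ringCatSheaf) (B.restrict j) := by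
  apply FTGlue.isFiniteType_of_finite_sections
  intro y
  obtain ⟨D, hD, hyD, hDle, hfin⟩ := h y
  refine ⟨j ⁻¹ᵁ D, isAffineOpen_preimage_of_le j hD hDle, hyD, ?_⟩
  rw [finite_restrict_iff, image_preimage_of_le j hDle]
  exact hfin

theorem finOn_of_isFT_restrict' (j : Y ⟶ X) [IsOpenImmersion j] (B : X.Modules)
    [(B.restrict j).IsQuasicoherent]
    (h : SheafOfModules.IsFiniteType (R := Y.ringCatSheaf) (B.restrict j)) :
    FinOn B j.opensRange := by
  intro T hT hle
  have h1 := SecDict.finite_sections (isAffineOpen_preimage_of_le j hT hle) (B.restrict j)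
    inferInstance h
  rw [finite_restrict_iff, image_preimage_of_le j hle] at h1
  exact h1

section Inv

variable {L : Type u} [LinearOrder L] [WellFoundedLT L] (V : L → X.Opens)
  (hV : ∀ l, IsAffineOpen (V l)) (U : X.Opens)

/-- the open already treated at stage `l` -/
def Dl (l : L) : X.Opens := U ⊔ ⨆ m : {m : L // m < l}, V m.1

theorem le_Dl_of_lt {m l : L} (h : m < l) : V m ≤ Dl V U l :=
  le_sup_of_le_right (le_iSup_of_le (⟨m, h⟩ : {m : L // m < l}) le_rfl)

theorem U_le_Dl (l : L) : U ≤ Dl V U l := le_sup_left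

/-- `a` is determined by its restriction to `W` -/
def Sat (W : X.Opens) {A : X.Modules} (a : A ⟶ H) : Prop :=
  ∀ (T : X.Opens) (s : Γ(H, T)),
    In a T s ↔ In a (W ⊓ T) (H.presheaf.map (homOfLE (inf_le_right : W ⊓ T ≤ T)).op s)

structure Good (l : L) (prev : ∀ m, m < l → Sub H) (x : Sub H) : Prop where
  mono : Mono x.2
  sat : Sat (V l) x.2
  qcoh : (x.1.restrict (hV l).fromSpec).IsQuasicoherent
  ft : SheafOfModules.IsFiniteType (R := (Spec Γ(X, V l)).ringCatSheaf)
    (x.1.restrict (hV l).fromSpec)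
  eq : ∀ T : X.Opens, T ≤ V l ⊓ Dl V U l → ∀ s : Γ(H, T),
    In x.2 T s ↔ ∀ m (hm : m < l), In (prev m hm).2 T s

def Inv (a : L → Sub H) (l : L) : Prop := Good V hV U l (fun m _ => a m) (a l)

variable (a : L → Sub H) (P : L → Prop) (hP : ∀ k k', k' ≤ k → P k → P k')
  (hInv : ∀ k, P k → Inv V hV U a k)

include hP hInv in
theorem in_of_le_U (l : L) (hl : P l) : ∀ (T : X.Opens), T ≤ U → ∀ s : Γ(H, T),
    In (a l).2 T s := by
  induction l using WellFoundedLT.induction with
  | ind l ih =>
    intro T hT s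
    refine ((hInv l hl).sat T s).mpr ?_
    refine ((hInv l hl).eq (V l ⊓ T) (inf_le_inf le_rfl (hT.trans (U_le_Dl V U l))) _).mpr ?_
    intro m hm
    exact ih m hm (hP l m hm.le hl) (V l ⊓ T) (inf_le_right.trans hT) _

include hP hInv in
theorem in_of_lt (l : L) (hl : P l) : ∀ m, m < l → ∀ (T : X.Opens), T ≤ V m ⊓ V l →
    ∀ s : Γ(H, T), In (a m).2 T s → In (a l).2 T s := by
  induction l using WellFoundedLT.induction with
  | ind l ih =>
    intro m hm T hT s hs
    have hPm : P m := hP l m hm.le hl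
    refine ((hInv l hl).eq T (le_inf (hT.trans inf_le_right)
      ((hT.trans inf_le_left).trans (le_Dl_of_lt V U hm))) s).mpr ?_
    intro m' hm'
    have hPm' : P m' := hP l m' hm'.le hl
    rcases lt_trichotomy m' m with h | h | h
    · refine ((hInv m' hPm').sat T s).mpr ?_
      have hs' := hs.res (inf_le_right : V m' ⊓ T ≤ T)
      exact ((hInv m hPm).eq (V m' ⊓ T) (le_inf (inf_le_right.trans (hT.trans inf_le_left))
        (inf_le_left.trans (le_Dl_of_lt V U h))) _).mp hs' m' h
    · subst h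
      exact hs
    · refine ((hInv m' hPm').sat T s).mpr ?_
      have hs' := hs.res (inf_le_right : V m' ⊓ T ≤ T)
      exact ih m' hm' hPm' m h (V m' ⊓ T)
        (le_inf (inf_le_right.trans (hT.trans inf_le_left)) inf_le_left) _ hs'

include hP hInv in
theorem spread (m m' : L) (hm : P m) (hm' : P m') (T : X.Opens) (hT : T ≤ V m) (s : Γ(H, T))
    (hs : In (a m).2 T s) : In (a m').2 T s := by
  rcases lt_trichotomy m' m with h | h | h
  · refine ((hInv m' hm').sat T s).mpr ?_
    have hs' := hs.res (inf_le_right : V m' ⊓ T ≤ T)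
    exact ((hInv m hm).eq (V m' ⊓ T) (le_inf (inf_le_right.trans hT)
      (inf_le_left.trans (le_Dl_of_lt V U h))) _).mp hs' m' h
  · subst h
    exact hs
  · refine ((hInv m' hm').sat T s).mpr ?_
    have hs' := hs.res (inf_le_right : V m' ⊓ T ≤ T)
    exact in_of_lt V hV U a P hP hInv m' hm' m h (V m' ⊓ T)
      (le_inf (inf_le_right.trans hT) inf_le_left) _ hs'

end Inv

end Groth.Agent.Helper4.SubInf
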