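import Mathlib
import Groth.Agent.Helper4.SubInf2

set_option autoImplicit false
universe u
open CategoryTheory CategoryTheory.Limits AlgebraicGeometry TopologicalSpace Opposite

namespace Groth.Agent.Helper4.SubInf
open Groth.Agent.Helper4.StalkDict Groth.Agent.Helper4 Groth.Agent.Helper4.StalkExact
open Groth.Agent.Helper4.SubSec Groth.Agent.Helper4.SubExt

variable {X Y Z : Scheme.{u}} {H : X.Modules}

/-- a subobject of the form `K j H ν` is saturated with respect to the range of `j` -/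
theorem sat_K (j : Y ⟶ X) [IsOpenImmersion j] {N : Y.Modules} (ν : N ⟶ H.restrict j) [Mono ν] :
    Sat j.opensRange (Kι j H ν) := by
  intro T s
  have himg : j ''ᵁ (j ⁻¹ᵁ T) = j.opensRange ⊓ T := Scheme.Hom.image_preimage_eq_opensRange_inf j T
  have h1 : In (Kι j H ν) T s ↔ ∃ t : Γ(N, j ⁻¹ᵁ T), ν.app (j ⁻¹ᵁ T) t =
      H.presheaf.map (homOfLE (j.image_preimage_le T)).op s := mem_K_iff j H ν T s
  have h2 : In (Kι j H ν) (j ''ᵁ (j ⁻¹ᵁ T))
      (H.presheaf.map (homOfLE (j.image_preimage_le T)).op s) ↔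
      ∃ t : Γ(N, j ⁻¹ᵁ T), ν.app (j ⁻¹ᵁ T) t =
        H.presheaf.map (homOfLE (j.image_preimage_le T)).op s :=
    mem_K_image_iff j H ν (j ⁻¹ᵁ T) _
  rw [h1, ← h2, in_congr_open (Kι j H ν) himg]
  have : H.presheaf.map (homOfLE himg.ge).op
      (H.presheaf.map (homOfLE (j.image_preimage_le T)).op s) =
      H.presheaf.map (homOfLE (inf_le_right : j.opensRange ⊓ T ≤ T)).op s := by
    change (H.presheaf.map (homOfLE (j.image_preimage_le T)).op ≫
      H.presheaf.map (homOfLE himg.ge).op) s = _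
    rw [← H.presheaf.map_comp]
    rfl
  rw [this]

section Step

variable {L : Type u} [LinearOrder L] [WellFoundedLT L] (V : L → X.Opens)
  (hV : ∀ l, IsAffineOpen (V l)) (U : X.Opens)

set_option backward.isDefEq.respectTransparency false in
set_option maxHeartbeats 800000 in
theorem exists_good [H.IsQuasicoherent] (hfinU : FinOn H U) (a : L → Sub H) (l₀ : L)
    (hInv : ∀ m, m < l₀ → Inv V hV U a m)
    (hcomp : IsCompact ((V l₀ : Set X) ∩ (Dl V U l₀ : Set X))) :
    ∃ x : Sub H, Good V hV U l₀ (fun m _ => a m) x := by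
  classical
  let P : L → Prop := fun m => m < l₀
  have hP : ∀ k k', k' ≤ k → P k → P k' := fun k k' h hk => lt_of_le_of_lt h hk
  let R : CommRingCat.{u} := Γ(X, V l₀)
  let j : Spec R ⟶ X := (hV l₀).fromSpec
  have hrange : j.opensRange = V l₀ := (hV l₀).opensRange_fromSpec
  let D' : (Spec R).Opens := j ⁻¹ᵁ (Dl V U l₀)
  have hD' : IsCompact (D' : Set (Spec R)) := by
    have h2 : (D' : Set (Spec R)) = j ⁻¹' ((V l₀ : Set X) ∩ (Dl V U l₀ : Set X)) := by
      ext z
      constructor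
      · intro hz
        refine ⟨?_, hz⟩
        have : j z ∈ j.opensRange := ⟨z, rfl⟩
        rw [hrange] at this
        exact this
      · intro hz
        exact hz.2
    rw [h2]
    refine (j.isOpenEmbedding.isInducing.isCompact_preimage_iff ?_).mpr hcomp
    intro y hy
    have : y ∈ j.opensRange := by rw [hrange]; exact hy.1
    exact this
  haveI : CompactSpace (D' : Scheme.{u}) := isCompact_iff_compactSpace.mp hD'
  let k : (D' : Scheme.{u}) ⟶ Spec R := D'.ι
  let τ : (D' : Scheme.{u}) ⟶ X := k ≫ j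
  have hτmem : ∀ y : (D' : Scheme.{u}), τ y ∈ V l₀ ⊓ Dl V U l₀ := by
    intro y
    refine ⟨?_, y.2⟩
    have : j (k y) ∈ j.opensRange := ⟨k y, rfl⟩
    rw [hrange] at this
    exact this
  have hτrange : τ.opensRange = V l₀ ⊓ Dl V U l₀ := by
    apply le_antisymm
    · rintro _ ⟨y, rfl⟩
      exact hτmem y
    · rintro x ⟨hx1, hx2⟩
      have : x ∈ j.opensRange := by rw [hrange]; exact hx1
      obtain ⟨w, rfl⟩ := this
      exact ⟨⟨w, hx2⟩, rfl⟩
  -- the intersection of the previous stages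
  let fam : {m : L // m < l₀} → Sub H := fun m => a m.1
  have hfam : ∀ m, Mono (fam m).2 := fun m => (hInv m.1 m.2).mono
  let B : X.Modules := inter fam
  let b : B ⟶ H := interι fam
  have hb : ∀ (T : X.Opens) (s : Γ(H, T)), In b T s ↔ ∀ m (hm : m < l₀), In (a m).2 T s := by
    intro T s
    rw [in_inter_iff fam hfam]
    exact ⟨fun h m hm => h ⟨m, hm⟩, fun h m => h m.1 m.2⟩
  have hBU : ∀ T : X.Opens, T ≤ U → ∀ s : Γ(H, T), In b T s := fun T hT s =>
    (hb T s).mpr (fun m hm => in_of_le_U V hV U a P hP hInv m hm T hT s)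
  have hBV : ∀ m (hm : m < l₀) (T : X.Opens), T ≤ V m → ∀ s : Γ(H, T),
      In b T s ↔ In (a m).2 T s := fun m hm T hT s =>
    ⟨fun h => (hb T s).mp h m hm, fun h => (hb T s).mpr (fun m' hm' =>
      spread V hV U a P hP hInv m m' hm hm' T hT s h)⟩
  -- uniform local description of `B`
  have hloc : ∀ x : X, x ∈ Dl V U l₀ → ∃ (T₀ : X.Opens) (C : X.Modules) (c : C ⟶ H),
      x ∈ T₀ ∧ Mono c ∧ (∀ T : X.Opens, T ≤ T₀ → ∀ s : Γ(H, T), In b T s ↔ In c T s) ∧
      (∀ (Z : Scheme.{u}) (ρ : Z ⟶ X) [IsOpenImmersion ρ], ρ.opensRange ≤ T₀ →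
        (C.restrict ρ).IsQuasicoherent) ∧ FinOn C T₀ := by
    intro x hx
    rcases hx with hx | hx
    · refine ⟨U, H, 𝟙 H, hx, inferInstance, ?_, ?_, hfinU⟩
      · intro T hT s
        exact ⟨fun _ => ⟨s, rfl⟩, fun _ => hBU T hT s⟩
      · intro Z ρ _ _
        infer_instance
    · obtain ⟨⟨m, hm⟩, hxm⟩ := Opens.mem_iSup.mp hx
      have hI := hInv m hm
      haveI := hI.qcoh
      refine ⟨V m, (a m).1, (a m).2, hxm, hI.mono, hBV m hm, ?_, ?_⟩
      · intro Z ρ _ hρ
        obtain ⟨ρ', hρ', ⟨e⟩⟩ := exists_restrict_iso_of_le (hV m).fromSpec ρ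
          (by rw [(hV m).opensRange_fromSpec]; exact hρ) (a m).1
        haveI : (((a m).1.restrict (hV m).fromSpec).restrict ρ').IsQuasicoherent := inferInstance
        exact QcohLimits.isQuasicoherent_of_iso e.symm
      · have := finOn_of_isFT_restrict' (hV m).fromSpec (a m).1 hI.ft
        rw [(hV m).opensRange_fromSpec] at this
        exact this
  -- quasi-coherence of restrictions of `B`
  have hBq : ∀ (Z : Scheme.{u}) (ρ : Z ⟶ X) [IsOpenImmersion ρ] (T₀ : X.Opens) (C : X.Modules)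
      (c : C ⟶ H), Mono c → (∀ T : X.Opens, T ≤ T₀ → ∀ s : Γ(H, T), In b T s ↔ In c T s) →
      (∀ (Z : Scheme.{u}) (ρ : Z ⟶ X) [IsOpenImmersion ρ], ρ.opensRange ≤ T₀ →
        (C.restrict ρ).IsQuasicoherent) → ρ.opensRange ≤ T₀ → (B.restrict ρ).IsQuasicoherent := by
    intro Z ρ _ T₀ C c hc hsame hq hρ
    haveI := hc
    obtain ⟨e, -⟩ := exists_restrict_iso_of_same_sections b c ρ
      (fun T hT s => hsame T (hT.trans hρ) s)
    haveI := hq Z ρ hρ
    exact QcohLimits.isQuasicoherent_of_iso e.symm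
  haveI hBτq : (B.restrict τ).IsQuasicoherent := by
    apply QcohGlue.isQuasicoherent_of_affine_cover
    intro y
    obtain ⟨T₀, C, c, hxT₀, hc, hsame, hq, -⟩ := hloc (τ y) (hτmem y).2
    obtain ⟨T', hT', hyT', hT'le⟩ := FinLocFree2.exists_affine_nhd_le y (τ ⁻¹ᵁ T₀) hxT₀
    refine ⟨T', hT', hyT', ?_⟩
    have hρ : (hT'.fromSpec ≫ τ).opensRange ≤ T₀ := by
      rintro _ ⟨w, rfl⟩
      have : hT'.fromSpec w ∈ hT'.fromSpec.opensRange := ⟨w, rfl⟩
      rw [hT'.opensRange_fromSpec] at this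
      exact hT'le this
    haveI := hBq _ (hT'.fromSpec ≫ τ) T₀ C c hc hsame hq hρ
    exact QcohLimits.isQuasicoherent_of_iso
      ((Scheme.Modules.restrictFunctorComp hT'.fromSpec τ).app B)
  have hBτft : SheafOfModules.IsFiniteType (R := (D' : Scheme.{u}).ringCatSheaf)
      (B.restrict τ) := by
    apply isFT_restrict_of_local'
    intro y
    obtain ⟨T₀, C, c, hxT₀, hc, hsame, -, hfin⟩ := hloc (τ y) (hτmem y).2
    obtain ⟨D, hD, hyD, hDle⟩ := FinLocFree2.exists_affine_nhd_le (τ y)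
      (T₀ ⊓ (V l₀ ⊓ Dl V U l₀)) ⟨hxT₀, hτmem y⟩
    refine ⟨D, hD, hyD, by rw [hτrange]; exact hDle.trans inf_le_right, ?_⟩
    haveI := hc
    obtain ⟨e⟩ := nonempty_linearEquiv_of_same_sections b c D
      (hsame D (hDle.trans inf_le_left))
    haveI := hfin D hD (hDle.trans inf_le_left)
    exact Module.Finite.equiv e.symm
  -- the module to be extended, on `D'`
  let E' : (D' : Scheme.{u}).Modules := (B.restrict j).restrict k
  let ι' : E' ⟶ (H.restrict j).restrict k :=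
    (Scheme.Modules.restrictFunctor k).map ((Scheme.Modules.restrictFunctor j).map b)
  haveI : Mono ι' := inferInstance
  let eE : B.restrict τ ≅ E' := (Scheme.Modules.restrictFunctorComp k j).app B
  haveI : E'.IsQuasicoherent := QcohLimits.isQuasicoherent_of_iso eE
  have hE'ft : SheafOfModules.IsFiniteType (R := (D' : Scheme.{u}).ringCatSheaf) E' := by
    haveI := hBτft
    exact FTRestrict.SoM.isFiniteType_of_iso (R := (D' : Scheme.{u}).ringCatSheaf) eE
  haveI : (H.restrict j).IsQuasicoherent := inferInstance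
  obtain ⟨N, ν, e, hν, hNq, hNft, he⟩ := exists_extension k (H.restrict j) E' hE'ft ι'
  haveI := hν
  refine ⟨⟨K j H ν, Kι j H ν⟩, ?_⟩
  obtain ⟨eK, -⟩ := exists_restrict_K_iso j H ν
  have hkey : ∀ (T'' : (D' : Scheme.{u}).Opens) (s : Γ(H, j ''ᵁ (k ''ᵁ T''))),
      In (Kι j H ν) (j ''ᵁ (k ''ᵁ T'')) s ↔ In b (j ''ᵁ (k ''ᵁ T'')) s := by
    intro T'' s
    have h1 : In (Kι j H ν) (j ''ᵁ (k ''ᵁ T'')) s ↔
        ∃ t : Γ(N, k ''ᵁ T''), ν.app (k ''ᵁ T'') t = s := mem_K_image_iff j H ν (k ''ᵁ T'') s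
    rw [h1]
    have hcompat : ∀ t : Γ(N.restrict k, T''), ν.app (k ''ᵁ T'') t =
        b.app (j ''ᵁ (k ''ᵁ T'')) (e.hom.app T'' t) := by
      intro t
      have := congrArg (fun φ => (Scheme.Modules.Hom.app φ T'') t) he
      exact this.symm
    constructor
    · rintro ⟨t, rfl⟩
      exact ⟨e.hom.app T'' t, (hcompat t).symm⟩
    · rintro ⟨u, rfl⟩
      refine ⟨e.inv.app T'' u, ?_⟩
      rw [hcompat]
      have : e.hom.app T'' (e.inv.app T'' u) = u := by
        change (e.inv ≫ e.hom).app T'' u = u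
        rw [Iso.inv_hom_id]
        rfl
      rw [this]
  refine ⟨inferInstanceAs (Mono (Kι j H ν)), ?_, ?_, ?_, ?_⟩
  · have := sat_K j ν
    rw [hrange] at this
    exact this
  · exact QcohLimits.isQuasicoherent_of_iso eK.symm (hF := hNq)
  · haveI := hNft
    exact FTRestrict.SoM.isFiniteType_of_iso (R := (Spec R).ringCatSheaf) eK.symm
  · intro T hT s
    have h1 : j ''ᵁ (j ⁻¹ᵁ T) = T :=
      image_preimage_of_le j (by rw [hrange]; exact hT.trans inf_le_left)
    have h2 : k ''ᵁ (k ⁻¹ᵁ (j ⁻¹ᵁ T)) = j ⁻¹ᵁ T :=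
      image_preimage_of_le k (by
        rw [Scheme.Opens.opensRange_ι]
        intro z hz
        exact (hT hz).2)
    have h3 : j ''ᵁ (k ''ᵁ (k ⁻¹ᵁ (j ⁻¹ᵁ T))) = T := by rw [h2, h1]
    have key := hkey (k ⁻¹ᵁ (j ⁻¹ᵁ T))
    rw [h3] at key
    rw [key s]
    exact hb T s

end Step

end Groth.Agent.Helper4.SubInf
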