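import Mathlib
import Groth.Agent.Helper4.SubInf3

set_option autoImplicit false
universe u
open CategoryTheory CategoryTheory.Limits AlgebraicGeometry TopologicalSpace Opposite

namespace Groth.Agent.Helper4.SubInf
open Groth.Agent.Helper4.StalkDict Groth.Agent.Helper4 Groth.Agent.Helper4.StalkExact
open Groth.Agent.Helper4.SubSec Groth.Agent.Helper4.SubExt

variable {X Y Z : Scheme.{u}}

section Main

variable {L : Type u} [LinearOrder L] [WellFoundedLT L] (V : L → X.Opens)
  (hV : ∀ l, IsAffineOpen (V l)) (U : X.Opens) (H : X.Modules)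

open Classical in
/-- the family of subobjects, chosen by transfinite recursion -/
noncomputable def fam : L → Sub H := fun l =>
  WellFounded.fix (wellFounded_lt : WellFounded ((· < ·) : L → L → Prop))
    (fun l prev => if h : ∃ x : Sub H, Good V hV U l prev x then h.choose else ⟨H, 𝟙 H⟩) l

open Classical in
theorem fam_eq (l : L) : fam V hV U H l =
    if h : ∃ x : Sub H, Good V hV U l (fun m _ => fam V hV U H m) x then h.choose
    else ⟨H, 𝟙 H⟩ := by
  unfold fam
  rw [WellFounded.fix_eq]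

theorem fam_good (l : L) (h : ∃ x : Sub H, Good V hV U l (fun m _ => fam V hV U H m) x) :
    Inv V hV U (fam V hV U H) l := by
  unfold Inv
  rw [fam_eq V hV U H l, dif_pos h]
  exact h.choose_spec

theorem all_inv [H.IsQuasicoherent] (hfinU : FinOn H U)
    (hcomp : ∀ l, IsCompact ((V l : Set X) ∩ (Dl V U l : Set X))) (l : L) :
    Inv V hV U (fam V hV U H) l := by
  induction l using WellFoundedLT.induction with
  | ind l ih =>
    exact fam_good V hV U H l (exists_good V hV U hfinU _ l ih (hcomp l))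

end Main

section Final

variable {L : Type u} [LinearOrder L] [WellFoundedLT L] (V : L → X.Opens)

set_option backward.isDefEq.respectTransparency false in
/-- **extension of finite type submodules**, for a scheme with a well-ordered affine cover. -/
theorem exists_extension_wellOrdered (hV : ∀ l, IsAffineOpen (V l)) (hcov : ⨆ l, V l = ⊤)
    (hW : ∀ l, IsCompact ((V l : Set X) ∩ ⋃ m ∈ Set.Iio l, (V m : Set X)))
    (U : X.Opens) [QuasiCompact U.ι] (G : X.Modules) [G.IsQuasicoherent]
    (F' : (U : Scheme.{u}).Modules) [F'.IsQuasicoherent]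
    (hF' : SheafOfModules.IsFiniteType (R := (U : Scheme.{u}).ringCatSheaf) F')
    (i' : F' ⟶ G.restrict U.ι) [Mono i'] :
    ∃ (F : X.Modules) (i : F ⟶ G) (e : F.restrict U.ι ≅ F'), Mono i ∧ F.IsQuasicoherent ∧
      SheafOfModules.IsFiniteType (R := X.ringCatSheaf) F ∧
      e.hom ≫ i' = (Scheme.Modules.restrictFunctor U.ι).map i := by
  let H : X.Modules := K U.ι G i'
  haveI hHq : H.IsQuasicoherent := isQuasicoherent_K U.ι G i'
  obtain ⟨e₀, -⟩ := exists_restrict_K_iso U.ι G i'
  have hfinU : FinOn H U := by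
    have h1 : FinOn H U.ι.opensRange := by
      apply finOn_of_isFT_restrict
      haveI := hF'
      exact FTRestrict.SoM.isFiniteType_of_iso (R := (U : Scheme.{u}).ringCatSheaf) e₀.symm
    rw [Scheme.Opens.opensRange_ι] at h1
    exact h1
  have hcomp : ∀ l, IsCompact ((V l : Set X) ∩ (Dl V U l : Set X)) := by
    intro l
    have h1 : IsCompact ((V l : Set X) ∩ (U : Set X)) := by
      have hc := quasiCompact_iff_forall_isAffineOpen.mp ‹QuasiCompact U.ι› (V l) (hV l)
      have himg := hc.image U.ι.continuous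
      convert himg using 1
      ext x
      constructor
      · rintro ⟨h1, h2⟩
        exact ⟨⟨x, h2⟩, h1, rfl⟩
      · rintro ⟨y, hy, rfl⟩
        exact ⟨hy, y.2⟩
    have h2 : ((V l : Set X) ∩ (Dl V U l : Set X)) =
        ((V l : Set X) ∩ (U : Set X)) ∪ ((V l : Set X) ∩ ⋃ m ∈ Set.Iio l, (V m : Set X)) := by
      ext x
      constructor
      · rintro ⟨h1, h2 | h2⟩
        · exact Or.inl ⟨h1, h2⟩
        · obtain ⟨⟨m, hm⟩, hxm⟩ := Opens.mem_iSup.mp h2
          exact Or.inr ⟨h1, Set.mem_biUnion hm hxm⟩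
      · rintro (⟨h1, h2⟩ | ⟨h1, h2⟩)
        · exact ⟨h1, Or.inl h2⟩
        · obtain ⟨m, hm, hxm⟩ := Set.mem_iUnion₂.mp h2
          exact ⟨h1, Or.inr (Opens.mem_iSup.mpr ⟨⟨m, hm⟩, hxm⟩)⟩
    rw [h2]
    exact h1.union (hW l)
  let a : L → Sub H := fam V hV U H
  have hInv : ∀ l, Inv V hV U a l := all_inv V hV U H hfinU hcomp
  let P : L → Prop := fun _ => True
  have hP : ∀ k k', k' ≤ k → P k → P k' := fun _ _ _ _ => trivial
  have hInv' : ∀ k, P k → Inv V hV U a k := fun k _ => hInv k
  have ha : ∀ l, Mono (a l).2 := fun l => (hInv l).mono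
  let F : X.Modules := inter a
  let f : F ⟶ H := interι a
  have hf : ∀ (T : X.Opens) (s : Γ(H, T)), In f T s ↔ ∀ l, In (a l).2 T s :=
    fun T s => in_inter_iff a ha T s
  have hfU : ∀ T : X.Opens, T ≤ U → ∀ s : Γ(H, T), In f T s := fun T hT s =>
    (hf T s).mpr (fun l => in_of_le_U V hV U a P hP hInv' l trivial T hT s)
  have hfV : ∀ (m : L) (T : X.Opens), T ≤ V m → ∀ s : Γ(H, T), In f T s ↔ In (a m).2 T s :=
    fun m T hT s => ⟨fun h => (hf T s).mp h m, fun h => (hf T s).mpr (fun m' =>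
      spread V hV U a P hP hInv' m m' trivial trivial T hT s h)⟩
  have hres : ∀ m, ∃ e : F.restrict (hV m).fromSpec ≅ (a m).1.restrict (hV m).fromSpec, True := by
    intro m
    haveI := ha m
    obtain ⟨e, -⟩ := exists_restrict_iso_of_same_sections f (a m).2 (hV m).fromSpec
      (fun T hT s => hfV m T (by rw [← (hV m).opensRange_fromSpec]; exact hT) s)
    exact ⟨e, trivial⟩
  have hcover : ∀ x : X, ∃ m, x ∈ V m := by
    intro x
    have : x ∈ (⨆ l, V l : X.Opens) := by rw [hcov]; trivial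
    exact Opens.mem_iSup.mp this
  haveI hFq : F.IsQuasicoherent := by
    apply QcohGlue.isQuasicoherent_of_affine_cover
    intro x
    obtain ⟨m, hm⟩ := hcover x
    refine ⟨V m, hV m, hm, ?_⟩
    obtain ⟨e, -⟩ := hres m
    haveI := (hInv m).qcoh
    exact QcohLimits.isQuasicoherent_of_iso e.symm
  have hFft : SheafOfModules.IsFiniteType (R := X.ringCatSheaf) F := by
    apply FTGlue.isFiniteType_of_finite_sections
    intro x
    obtain ⟨m, hm⟩ := hcover x
    refine ⟨V m, hV m, hm, ?_⟩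
    obtain ⟨e, -⟩ := hres m
    haveI := (hInv m).ft
    have h1 : SheafOfModules.IsFiniteType (R := (Spec Γ(X, V m)).ringCatSheaf)
        (F.restrict (hV m).fromSpec) :=
      FTRestrict.SoM.isFiniteType_of_iso (R := (Spec Γ(X, V m)).ringCatSheaf) e.symm
    have h2 := finOn_of_isFT_restrict (hV m).fromSpec F h1
    rw [(hV m).opensRange_fromSpec] at h2
    exact h2 (V m) (hV m) le_rfl
  haveI : Mono (f ≫ Kι U.ι G i') := mono_comp _ _
  have hiso := exists_iso_of_sections
    ((Scheme.Modules.restrictFunctor U.ι).map (f ≫ Kι U.ι G i')) i' ?_ ?_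
  · obtain ⟨e, he⟩ := hiso
    exact ⟨F, f ≫ Kι U.ι G i', e, inferInstance, hFq, hFft, he⟩
  · intro T' x
    exact (mem_K_image_iff U.ι G i' T' _).mp ⟨f.app (U.ι ''ᵁ T') x, rfl⟩
  · intro T' t
    obtain ⟨k, hk⟩ := (mem_K_image_iff U.ι G i' T' _).mpr ⟨t, rfl⟩
    obtain ⟨x, hx⟩ := hfU (U.ι ''ᵁ T') (fun y hy => by
      obtain ⟨z, -, rfl⟩ := hy
      exact z.2) k
    refine ⟨x, ?_⟩
    change (Kι U.ι G i').app (U.ι ''ᵁ T') (f.app (U.ι ''ᵁ T') x) = _
    rw [hx, hk]

end Final

end Groth.Agent.Helper4.SubInf
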