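import Mathlib
import Groth.Agent.Helper4.SubInf4

set_option autoImplicit false
universe u v
open CategoryTheory CategoryTheory.Limits AlgebraicGeometry TopologicalSpace Opposite

namespace Groth.Agent.Helper4.SubInf

variable {X : Scheme.{u}}

/-- the members of a family of opens, as a small type -/
structure SmallIdx {L : Type v} (V : L → X.Opens) : Type u where
  val : X.Opens
  prop : ∃ l, V l = val

namespace SmallIdx

variable {L : Type v} [LinearOrder L] [WellFoundedLT L] (V : L → X.Opens)

/-- the first index at which a given open occurs -/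
noncomputable def idx (W : SmallIdx V) : L :=
  WellFounded.min wellFounded_lt {l | V l = W.val} W.prop

theorem V_idx (W : SmallIdx V) : V (idx V W) = W.val :=
  WellFounded.min_mem wellFounded_lt {l | V l = W.val} W.prop

theorem idx_le (W : SmallIdx V) (l : L) (hl : V l = W.val) : idx V W ≤ l :=
  not_lt.mp (WellFounded.not_lt_min wellFounded_lt {l | V l = W.val} (x := l) hl)

theorem idx_injective : Function.Injective (idx V) := by
  intro W W' h
  have h1 : W.val = W'.val := by rw [← V_idx V W, ← V_idx V W', h]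
  cases W; cases W'
  simp only at h1
  subst h1
  rfl

noncomputable instance : LinearOrder (SmallIdx V) := LinearOrder.lift' (idx V) (idx_injective V)

theorem lt_iff (W W' : SmallIdx V) : W < W' ↔ idx V W < idx V W' := Iff.rfl

instance : WellFoundedLT (SmallIdx V) := ⟨InvImage.wf (idx V) wellFounded_lt⟩

end SmallIdx

/-- replace a well-ordered affine cover by one indexed by a small type -/
theorem exists_small_wellOrdered_cover {L : Type v} [LinearOrder L] [WellFoundedLT L]
    (V : L → X.Opens) (hV : ∀ l, IsAffineOpen (V l)) (hcov : ⨆ l, V l = ⊤)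
    (hW : ∀ l, IsCompact ((V l : Set X) ∩ ⋃ m ∈ Set.Iio l, (V m : Set X))) :
    ∃ (L' : Type u) (_ : LinearOrder L') (_ : WellFoundedLT L') (V' : L' → X.Opens),
      (∀ l, IsAffineOpen (V' l)) ∧ ⨆ l, V' l = ⊤ ∧
      ∀ l, IsCompact ((V' l : Set X) ∩ ⋃ m ∈ Set.Iio l, (V' m : Set X)) := by
  refine ⟨SmallIdx V, inferInstance, inferInstance, fun W => W.val, ?_, ?_, ?_⟩
  · intro W
    change IsAffineOpen W.val
    rw [← SmallIdx.V_idx V W]
    exact hV _
  · rw [eq_top_iff, ← hcov]
    apply iSup_le
    intro l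
    exact le_iSup_of_le (⟨V l, l, rfl⟩ : SmallIdx V) le_rfl
  · intro W
    have h1 : (⋃ W' ∈ Set.Iio W, ((W' : SmallIdx V).val : Set X)) =
        ⋃ m ∈ Set.Iio (SmallIdx.idx V W), (V m : Set X) := by
      ext x
      simp only [Set.mem_iUnion, Set.mem_Iio]
      constructor
      · rintro ⟨W', hW', hx⟩
        refine ⟨SmallIdx.idx V W', (SmallIdx.lt_iff V W' W).mp hW', ?_⟩
        rw [SmallIdx.V_idx V W']
        exact hx
      · rintro ⟨m, hm, hx⟩
        refine ⟨⟨V m, m, rfl⟩, ?_, hx⟩
        rw [SmallIdx.lt_iff]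
        exact lt_of_le_of_lt (SmallIdx.idx_le V ⟨V m, m, rfl⟩ m rfl) hm
    have h2 := hW (SmallIdx.idx V W)
    rw [SmallIdx.V_idx V W] at h2
    change IsCompact ((W.val : Set X) ∩ ⋃ W' ∈ Set.Iio W, ((W' : SmallIdx V).val : Set X))
    rw [h1]
    exact h2

end Groth.Agent.Helper4.SubInf
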