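import Mathlib
import Groth.Agent.Helper4.SubInf5

set_option autoImplicit false
universe u
open CategoryTheory CategoryTheory.Limits AlgebraicGeometry TopologicalSpace Opposite

namespace Groth.Agent.Helper4.SubInf
open Groth.Agent.Helper4.StalkDict Groth.Agent.Helper4 Groth.Agent.Helper4.StalkExact
open Groth.Agent.Helper4.SubSec Groth.Agent.Helper4.SubExt

variable {X : Scheme.{u}}

/-- in a locally Noetherian space, subsets of compact sets are compact -/
theorem isCompact_of_subset_of_locallyNoetherian {α : Type*} [TopologicalSpace α]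
    (hX : ∀ x : α, ∃ N : Set α, IsOpen N ∧ x ∈ N ∧ NoetherianSpace N)
    {T S : Set α} (hT : IsCompact T) (hST : S ⊆ T) : IsCompact S := by
  choose N hNo hxN hN using hX
  obtain ⟨t, -, htT⟩ := hT.elim_nhds_subcover N (fun x _ => (hNo x).mem_nhds (hxN x))
  have hS : S = ⋃ x ∈ t, (N x ∩ S) := by
    ext y
    simp only [Set.mem_iUnion, Set.mem_inter_iff, exists_prop]
    constructor
    · intro hy
      obtain ⟨x, hx, hyx⟩ := Set.mem_iUnion₂.mp (htT (hST hy))
      exact ⟨x, hx, hyx, hy⟩
    · rintro ⟨x, -, -, hy⟩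
      exact hy
  rw [hS]
  apply t.finite_toSet.isCompact_biUnion
  intro x _
  haveI := hN x
  have h1 : IsCompact ((Subtype.val : N x → α) ⁻¹' S) := NoetherianSpace.isCompact _
  rw [Subtype.isCompact_iff, Subtype.image_preimage_coe] at h1
  exact h1

section LocNoeth

variable (hX : ∀ x : X, ∃ U : X.Opens, x ∈ U ∧ TopologicalSpace.NoetherianSpace (U : Set X))

include hX in
theorem isCompact_of_subset_affine {T : X.Opens} (hT : IsAffineOpen T) {S : Set X}
    (hS : S ⊆ (T : Set X)) : IsCompact S := by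
  refine isCompact_of_subset_of_locallyNoetherian ?_ hT.isCompact hS
  intro x
  obtain ⟨U, hxU, hU⟩ := hX x
  exact ⟨(U : Set X), U.isOpen, hxU, hU⟩

include hX in
theorem quasiCompact_ι_of_locallyNoetherian (U : X.Opens) : QuasiCompact U.ι := by
  rw [quasiCompact_iff_forall_isAffineOpen]
  intro T hT
  have h1 : IsCompact ((U : Set X) ∩ (T : Set X)) :=
    isCompact_of_subset_affine hX hT Set.inter_subset_right
  have h2 : ((U.ι ⁻¹ᵁ T : (U : Scheme.{u}).Opens) : Set (U : Scheme.{u})) =
      U.ι ⁻¹' ((U : Set X) ∩ (T : Set X)) := by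
    ext z
    constructor
    · intro hz
      exact ⟨z.2, hz⟩
    · intro hz
      exact hz.2
  rw [h2]
  refine (U.ι.isOpenEmbedding.isInducing.isCompact_preimage_iff ?_).mpr h1
  intro y hy
  exact ⟨⟨y, hy.1⟩, rfl⟩

include hX in
/-- **extension of finite type submodules**, locally Noetherian underlying space. -/
theorem exists_extension_locallyNoetherian (U : X.Opens) (G : X.Modules) [G.IsQuasicoherent]
    (F' : (U : Scheme.{u}).Modules) [F'.IsQuasicoherent]
    (hF' : SheafOfModules.IsFiniteType (R := (U : Scheme.{u}).ringCatSheaf) F')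
    (i' : F' ⟶ G.restrict U.ι) [Mono i'] :
    ∃ (F : X.Modules) (i : F ⟶ G) (e : F.restrict U.ι ≅ F'), Mono i ∧ F.IsQuasicoherent ∧
      SheafOfModules.IsFiniteType (R := X.ringCatSheaf) F ∧
      e.hom ≫ i' = (Scheme.Modules.restrictFunctor U.ι).map i := by
  obtain ⟨i1, i2⟩ := exists_wellFoundedLT X.affineOpens
  haveI := quasiCompact_ι_of_locallyNoetherian hX U
  exact exists_extension_wellOrdered (fun W : X.affineOpens => (W : X.Opens)) (fun W => W.2)
    (iSup_affineOpens_eq_top X)
    (fun W => isCompact_of_subset_affine hX W.2 Set.inter_subset_left) U G F' hF' i'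

end LocNoeth

/-- the extension property for submodules of finite type of `G` over `U` -/
def ExtProp (G : X.Modules) (U : X.Opens) : Prop :=
  ∀ (F' : (U : Scheme.{u}).Modules) (_ : F'.IsQuasicoherent)
    (_ : SheafOfModules.IsFiniteType (R := (U : Scheme.{u}).ringCatSheaf) F')
    (i' : F' ⟶ G.restrict U.ι) (_ : Mono i'),
    ∃ (F : X.Modules) (i : F ⟶ G) (e : F.restrict U.ι ≅ F'), Mono i ∧ F.IsQuasicoherent ∧
      SheafOfModules.IsFiniteType (R := X.ringCatSheaf) F ∧
      e.hom ≫ i' = (Scheme.Modules.restrictFunctor U.ι).map i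

set_option backward.isDefEq.respectTransparency false in
theorem exists_submodule_through_section_of_extProp
    (F : X.Modules) [F.IsQuasicoherent] (U : X.Opens) (hext : ExtProp F U)
    (s : F.val.obj (op U)) :
    ∃ (G : X.Modules) (i : G ⟶ F), Mono i ∧ G.IsQuasicoherent ∧
      SheafOfModules.IsFiniteType (R := X.ringCatSheaf) G ∧
      ∃ g : G.val.obj (op U), (i.val.app (op U)).hom g = s := by
  have htop : U.ι ''ᵁ ⊤ = U := Scheme.Opens.ι_image_top U
  let s' : (F.restrict U.ι).val.obj (op ⊤) := F.val.map (homOfLE htop.le).op s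
  obtain ⟨σ, hσ⟩ := exists_unit_hom_of_section (F.restrict U.ι) s'
  let O : (U : Scheme.{u}).Modules := SheafOfModules.unit (U : Scheme.{u}).ringCatSheaf
  have hOfp : SheafOfModules.IsFinitePresentation (R := (U : Scheme.{u}).ringCatSheaf) O :=
    FinLocFree6.isFinitePresentation_unit
  haveI hOq : O.IsQuasicoherent := FinLocFree2.isQuasicoherent_of_isFinitePresentation O hOfp
  have hOft : SheafOfModules.IsFiniteType (R := (U : Scheme.{u}).ringCatSheaf) O :=
    FinLocFree2.isFiniteType_of_isFinitePresentation O hOfp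
  haveI : (F.restrict U.ι).IsQuasicoherent := inferInstance
  let σ' : O ⟶ F.restrict U.ι := σ
  let F' : (U : Scheme.{u}).Modules := Abelian.image σ'
  let p : O ⟶ F' := Abelian.factorThruImage σ'
  let i' : F' ⟶ F.restrict U.ι := Abelian.image.ι σ'
  have hfac : p ≫ i' = σ' := Abelian.image.fac σ'
  haveI : Epi p := inferInstanceAs (Epi (Abelian.factorThruImage σ'))
  haveI : Mono i' := inferInstanceAs (Mono (Abelian.image.ι σ'))
  haveI hF'q : F'.IsQuasicoherent := QcohLimits.isQuasicoherent_image σ'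
  have hF'ft : SheafOfModules.IsFiniteType (R := (U : Scheme.{u}).ringCatSheaf) F' :=
    QcohEpi.isFiniteType_of_epi p hOft
  obtain ⟨G, i, e, hi, hq, hft, he⟩ := hext F' hF'q hF'ft i' inferInstance
  refine ⟨G, i, hi, hq, hft, ?_⟩
  let t : F'.val.obj (op ⊤) :=
    (p.val.app (op ⊤)).hom (1 : (U : Scheme.{u}).ringCatSheaf.obj.obj (op ⊤))
  let g' : G.val.obj (op (U.ι ''ᵁ ⊤)) := (e.inv.val.app (op ⊤)).hom t
  have hg' : (i.val.app (op (U.ι ''ᵁ ⊤))).hom g' = s' := by
    have h1 : e.inv ≫ (Scheme.Modules.restrictFunctor U.ι).map i = i' := by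
      rw [← he, Iso.inv_hom_id_assoc]
    have h2 : (i.val.app (op (U.ι ''ᵁ ⊤))).hom g' =
        ((e.inv ≫ (Scheme.Modules.restrictFunctor U.ι).map i).val.app (op ⊤)).hom t := rfl
    rw [h2, h1]
    change ((p ≫ i').val.app (op ⊤)).hom _ = s'
    rw [hfac]
    exact hσ
  refine ⟨G.val.map (homOfLE htop.ge).op g', ?_⟩
  rw [PresheafOfModules.naturality_apply, hg']
  change F.val.map (homOfLE htop.ge).op (F.val.map (homOfLE htop.le).op s) = s
  rw [← PresheafOfModules.map_comp_apply]
  have : ((homOfLE htop.le).op ≫ (homOfLE htop.ge).op : op U ⟶ op U) = 𝟙 _ :=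
    Subsingleton.elim _ _
  rw [this, F.val.map_id]
  rfl

theorem exists_extension_of_module_of_extProp (U : X.Opens) [QuasiCompact U.ι]
    (G : (U : Scheme.{u}).Modules) [G.IsQuasicoherent]
    (hG : SheafOfModules.IsFiniteType (R := (U : Scheme.{u}).ringCatSheaf) G)
    (hext : ExtProp ((Scheme.Modules.pushforward U.ι).obj G) U) :
    ∃ G' : X.Modules, G'.IsQuasicoherent ∧
      SheafOfModules.IsFiniteType (R := X.ringCatSheaf) G' ∧
      Nonempty (G'.restrict U.ι ≅ G) := by
  let P : X.Modules := (Scheme.Modules.pushforward U.ι).obj G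
  let c : P.restrict U.ι ≅ G := (Scheme.Modules.restrictFunctorAdjCounitIso U.ι).app G
  obtain ⟨F, i, e, -, hq, hft, -⟩ := hext G inferInstance hG c.inv inferInstance
  exact ⟨F, hq, hft, ⟨e⟩⟩

end Groth.Agent.Helper4.SubInf
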