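import Mathlib
import Groth.Prelude.Def_Coh
import Groth.Prelude.Def_CohB1
import Groth.Agent.Helper4.SuppDict
import Groth.Agent.Helper4.SecDict
import Groth.Agent.Helper4.QcqsMod

universe u

open CategoryTheory CategoryTheory.Limits AlgebraicGeometry TopologicalSpace Opposite

namespace Groth.Agent.Helper4.IdealKill

variable {X : Scheme.{u}} (F : X.Modules) (J : X.IdealSheafData)

/-- `I` kills all sections of `F` over `U` -/
def Kills (U : X.affineOpens) (n : ℕ) : Prop :=
  ∀ a : Γ(X, U), a ∈ J.ideal U ^ n → ∀ s : Γ(F, U.1), a • s = 0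

theorem Kills.mono {U : X.affineOpens} {n m : ℕ} (h : Kills F J U n) (hnm : n ≤ m) :
    Kills F J U m := fun a ha s => h a (Ideal.pow_le_pow_right hnm ha) s

/-- Step A: the local bound -/
theorem exists_kills [IsNoetherian X] (hq : F.IsQuasicoherent)
    (hft : SheafOfModules.IsFiniteType (R := X.ringCatSheaf) F)
    (h : CohB1.support F ⊆ (J.support : Set X)) (U : X.affineOpens) : ∃ n, Kills F J U n := by
  have hU : IsAffineOpen U.1 := U.2
  haveI : IsNoetherianRing Γ(X, U) := IsLocallyNoetherian.component_noetherian U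
  haveI : Module.Finite Γ(X, U.1) Γ(F, U.1) := SecDict.finite_sections hU F hq hft
  have hsupp : Module.support Γ(X, U.1) Γ(F, U.1) ⊆ PrimeSpectrum.zeroLocus (J.ideal U : Set Γ(X, U)) := by
    intro p hp
    have hxU : hU.fromSpec p ∈ U.1 := AssDict.fromSpec_mem hU p
    have hp' : hU.primeIdealOf ⟨hU.fromSpec p, hxU⟩ ∈ Module.support Γ(X, U.1) Γ(F, U.1) := by
      rw [AssDict.primeIdealOf_fromSpec]; exact hp
    have hx : hU.fromSpec p ∈ CohB1.support F := (SuppDict.mem_support_iff hU F _ hxU).mp hp'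
    have hx2 := h hx
    have hx3 : hU.fromSpec p ∈ X.zeroLocus (U := U.1) (J.ideal U) :=
      (Scheme.IdealSheafData.mem_support_iff_of_mem hxU).mp hx2
    rw [Scheme.mem_zeroLocus_iff] at hx3
    intro f hf
    have h4 := hx3 f hf
    rw [StalkDict.mem_basicOpen_iff_notMem_primeIdealOf hU _ hxU, not_not,
      AssDict.primeIdealOf_fromSpec] at h4
    exact h4
  rw [Module.support_eq_zeroLocus, PrimeSpectrum.zeroLocus_subset_zeroLocus_iff] at hsupp
  obtain ⟨n, hn⟩ := Ideal.exists_pow_le_of_le_radical_of_fg hsupp (IsNoetherian.noetherian _)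
  refine ⟨n, fun a ha s => ?_⟩
  exact Module.mem_annihilator.mp (hn ha) s

/-- Step B: transfer to basic opens -/
theorem Kills.basicOpen [F.IsQuasicoherent] {U : X.affineOpens} {n : ℕ} (h : Kills F J U n)
    (f : Γ(X, U)) (W : X.affineOpens) (hW : W = X.affineBasicOpen f) : Kills F J W n := by
  subst hW
  have hloc := QcqsMod.isLocalizingOn_of_isAffineOpen F U.2
  intro a ha s
  have e1 : (J.ideal U ^ n).map (X.presheaf.map (homOfLE (X.basicOpen_le f)).op).hom =
      J.ideal (X.affineBasicOpen f) ^ n := by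
    exact (Ideal.map_pow _ _ _).trans (congrArg (· ^ n) (J.map_ideal_basicOpen U f))
  have ha' : a ∈ (J.ideal U ^ n).map (X.presheaf.map (homOfLE (X.basicOpen_le f)).op).hom := by
    rw [e1]; exact ha
  have hle : (J.ideal U ^ n).map (X.presheaf.map (homOfLE (X.basicOpen_le f)).op).hom ≤
      Module.annihilator Γ(X, X.basicOpen f) Γ(F, X.basicOpen f) := by
    rw [Ideal.map_le_iff_le_comap]
    intro b hb
    rw [Ideal.mem_comap, Module.mem_annihilator]
    intro t
    obtain ⟨k, m, hm⟩ := hloc.surj f t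
    have h1 : (X.presheaf.map (homOfLE (X.basicOpen_le f)).op).hom b •
        (X.presheaf.map (homOfLE (X.basicOpen_le f)).op (f ^ k)) • t = 0 := by
      rw [hm, ← Scheme.Modules.map_smul, h b hb m, map_zero]
    have hu : IsUnit (X.presheaf.map (homOfLE (X.basicOpen_le f)).op (f ^ k)) := by
      rw [map_pow]
      exact (RingedSpace.isUnit_res_basicOpen X.toRingedSpace f).pow k
    rw [smul_comm] at h1
    exact (hu.smul_eq_zero).mp h1
  exact Module.mem_annihilator.mp (hle ha') s

theorem res_mem_pow {U : X.affineOpens} {n : ℕ} (f : Γ(X, U)) (a : Γ(X, U))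
    (ha : a ∈ J.ideal U ^ n) :
    (X.presheaf.map (homOfLE (X.basicOpen_le f)).op).hom a ∈ J.ideal (X.affineBasicOpen f) ^ n := by
  have e1 : (J.ideal U ^ n).map (X.presheaf.map (homOfLE (X.basicOpen_le f)).op).hom =
      J.ideal (X.affineBasicOpen f) ^ n :=
    (Ideal.map_pow _ _ _).trans (congrArg (· ^ n) (J.map_ideal_basicOpen U f))
  rw [← e1]
  exact Ideal.mem_map_of_mem _ ha

/-- Step C: a uniform bound -/
theorem exists_uniform [IsNoetherian X] (hq : F.IsQuasicoherent)
    (hft : SheafOfModules.IsFiniteType (R := X.ringCatSheaf) F)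
    (h : CohB1.support F ⊆ (J.support : Set X)) : ∃ n, ∀ U : X.affineOpens, Kills F J U n := by
  haveI := hq
  obtain ⟨t, ht⟩ := isCompact_univ.elim_finite_subcover (fun V : X.affineOpens => (V.1 : Set X))
    (fun V => V.1.isOpen) (by
      intro x _
      obtain ⟨_, ⟨V, hV : IsAffineOpen V, rfl⟩, hxV, -⟩ :=
        X.isBasis_affineOpens.exists_subset_of_mem_open (Set.mem_univ x) isOpen_univ
      exact Set.mem_iUnion.mpr ⟨⟨V, hV⟩, hxV⟩)
  choose nV hnV using fun V : X.affineOpens => exists_kills F J hq hft h V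
  refine ⟨t.sup nV, fun U a ha s => ?_⟩
  apply AssDict.section_eq_zero_of_germ
  intro x hxU
  obtain ⟨V, hVt, hxV⟩ : ∃ V ∈ t, x ∈ (V.1 : Set X) := by
    have := ht (Set.mem_univ x)
    simpa only [Set.mem_iUnion, exists_prop] using this
  obtain ⟨f, g, hfg, hxf⟩ := exists_basicOpen_le_affine_inter U.2 V.2 x ⟨hxU, hxV⟩
  have hW : X.affineBasicOpen f = X.affineBasicOpen g := Subtype.ext hfg
  have hk : Kills F J (X.affineBasicOpen f) (t.sup nV) :=
    ((hnV V).mono F J (Finset.le_sup hVt)).basicOpen F J g _ hW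
  have h0 := hk _ (res_mem_pow J f a ha) (F.presheaf.map (homOfLE (X.basicOpen_le f)).op s)
  rw [← QcqsMod.germ_res F (X.basicOpen_le f) x hxf, Scheme.Modules.map_smul]
  exact (congrArg _ h0).trans (map_zero _)

end Groth.Agent.Helper4.IdealKill
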