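import Mathlib
import Groth.Agent.Helper4.KInjRes
import Groth.Agent.Helper1.KInjDer
import Groth.Agent.Helper6.HtpyAdj

/-! Derived adjunction `LF ⊣ RG` on unbounded derived categories, for `F` exact left adjoint to `G`,
the target of `F` being a Grothendieck abelian category. -/

set_option autoImplicit false
set_option linter.unusedSectionVars false
universe w w' v v' u u'

open CategoryTheory Limits

namespace Groth.Agent.Helper4.KDerAdj

open Groth.Agent.Helper1

section hK

variable {B : Type u'} [Category.{v'} B] [Abelian B] [IsGrothendieckAbelian.{v'} B]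

lemma hKinj : ∀ K : CochainComplex B ℤ, ∃ (I : CochainComplex B ℤ) (f : K ⟶ I),
    I.IsKInjective ∧ QuasiIso f := fun K => by
  obtain ⟨I, f, hI, hf, -, -⟩ := KInjRes.exists_resolution K
  exact ⟨I, f, hI, hf⟩

variable [HasDerivedCategory.{w'} B]

instance : (KInjDer.Φ B).IsRightDerivabilityStructure :=
  KInjDer.isRightDerivabilityStructure hKinj

end hK

variable {A : Type u} [Category.{v} A] [Abelian A] [HasDerivedCategory.{w} A]
  {B : Type u'} [Category.{v'} B] [Abelian B] [IsGrothendieckAbelian.{v'} B]
  [HasDerivedCategory.{w'} B]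
  {F : A ⥤ B} {G : B ⥤ A} (adj : F ⊣ G) [F.Additive] [G.Additive]
  [PreservesFiniteLimits F] [PreservesFiniteColimits F]
  (RG : DerivedCategory B ⥤ DerivedCategory A)
  (β : G.mapHomotopyCategory (ComplexShape.up ℤ) ⋙ DerivedCategory.Qh ⟶ DerivedCategory.Qh ⋙ RG)
  [RG.IsRightDerivedFunctor β (HomotopyCategory.quasiIso B (ComplexShape.up ℤ))]

/-- every functor out of `K(B)` is derivable by the K-injective derivability structure -/
lemma derives {H : Type*} [Category H] (𝓕 : HomotopyCategory B (ComplexShape.up ℤ) ⥤ H) :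
    (KInjDer.Φ B).Derives 𝓕 := by
  intro X Y f hf
  have : IsIso f := hf
  infer_instance

lemma isIso_β_app (X : (KInjDer.P B).FullSubcategory) :
    IsIso (β.app ((KInjDer.Φ B).functor.obj X)) :=
  (derives _).isIso_of_isRightDerivedFunctor β X

variable (F) in
lemma isLeftDerived₁ : F.mapDerivedCategory.IsLeftDerivedFunctor F.mapDerivedCategoryFactorsh.hom
    (HomotopyCategory.quasiIso A (ComplexShape.up ℤ)) :=
  Functor.isLeftDerivedFunctor_of_inverts _ _ F.mapDerivedCategoryFactorsh

variable (F) in
lemma isLeftDerived₂ : (F.mapDerivedCategory ⋙ RG).IsLeftDerivedFunctor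
    ((Functor.associator _ _ _).inv ≫ Functor.whiskerRight F.mapDerivedCategoryFactorsh.hom RG)
    (HomotopyCategory.quasiIso A (ComplexShape.up ℤ)) :=
  Functor.isLeftDerivedFunctor_of_inverts _ _
    ((Functor.associator _ _ _).symm ≪≫ Functor.isoWhiskerRight F.mapDerivedCategoryFactorsh _)

variable (F) in
lemma isRightDerived₃ : (RG ⋙ F.mapDerivedCategory).IsRightDerivedFunctor
    (Functor.whiskerRight β _ ≫ (Functor.associator _ _ _).hom)
    (HomotopyCategory.quasiIso B (ComplexShape.up ℤ)) := by
  apply LocalizerMorphism.Derives.isRightDerivedFunctor_of_isIso (Φ := KInjDer.Φ B)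
  · exact derives _
  · intro X
    have := isIso_β_app RG β X
    dsimp
    infer_instance

/-- the derived adjunction -/
noncomputable def derivedAdj : F.mapDerivedCategory ⊣ RG :=
  haveI := isLeftDerived₁ F
  haveI := isLeftDerived₂ F RG
  haveI := isRightDerived₃ F RG β
  (Groth.Agent.Helper6.HtpyAdj.adjK adj).derived
    (HomotopyCategory.quasiIso A (ComplexShape.up ℤ))
    (HomotopyCategory.quasiIso B (ComplexShape.up ℤ)) F.mapDerivedCategoryFactorsh.hom β

lemma derivedAdj_counit_fac (X₂ : HomotopyCategory B (ComplexShape.up ℤ)) :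
    F.mapDerivedCategory.map (β.app X₂) ≫ (derivedAdj adj RG β).counit.app (DerivedCategory.Qh.obj X₂) =
      F.mapDerivedCategoryFactorsh.hom.app ((G.mapHomotopyCategory _).obj X₂) ≫
        DerivedCategory.Qh.map ((Groth.Agent.Helper6.HtpyAdj.adjK adj).counit.app X₂) := by
  haveI := isLeftDerived₁ F
  haveI := isLeftDerived₂ F RG
  haveI := isRightDerived₃ F RG β
  exact Adjunction.derivedε_fac_app (Groth.Agent.Helper6.HtpyAdj.adjK adj)
    (HomotopyCategory.quasiIso B (ComplexShape.up ℤ)) F.mapDerivedCategoryFactorsh.hom β X₂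


lemma isIso_adjK_counit_app (h : IsIso adj.counit) (X₂ : HomotopyCategory B (ComplexShape.up ℤ)) :
    IsIso ((Groth.Agent.Helper6.HtpyAdj.adjK adj).counit.app X₂) := by
  obtain ⟨K, rfl⟩ := HomotopyCategory.quotient_obj_surjective X₂
  rw [Groth.Agent.Helper6.HtpyAdj.adjK_counit_app]
  have : ∀ n, IsIso ((DPlusAdj.counitCx adj K).f n) := fun n => by
    change IsIso (adj.counit.app (K.X n))
    infer_instance
  have : IsIso (DPlusAdj.counitCx adj K) := HomologicalComplex.Hom.isIso_of_components _
  exact Functor.map_isIso _ _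

/-- if the counit of `F ⊣ G` is invertible, so is the counit of the derived adjunction -/
theorem isIso_counit (h : IsIso adj.counit) : IsIso (derivedAdj adj RG β).counit := by
  rw [NatTrans.isIso_iff_isIso_app]
  intro Y
  have := (KInjDer.Φ B).essSurj_of_hasRightResolutions (DerivedCategory.Qh (C := B))
  let X := ((KInjDer.Φ B).functor ⋙ DerivedCategory.Qh).objPreimage Y
  let eY := ((KInjDer.Φ B).functor ⋙ DerivedCategory.Qh).objObjPreimageIso Y
  rw [NatTrans.isIso_app_iff_of_iso _ eY.symm]
  have hfac := derivedAdj_counit_fac adj RG β ((KInjDer.Φ B).functor.obj X)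
  have h1 : IsIso (F.mapDerivedCategory.map (β.app ((KInjDer.Φ B).functor.obj X))) := by
    have := isIso_β_app RG β X
    infer_instance
  have h2 := isIso_adjK_counit_app adj h ((KInjDer.Φ B).functor.obj X)
  have h3 : IsIso (F.mapDerivedCategory.map (β.app ((KInjDer.Φ B).functor.obj X)) ≫
      (derivedAdj adj RG β).counit.app (DerivedCategory.Qh.obj ((KInjDer.Φ B).functor.obj X))) := by
    rw [hfac]
    infer_instance
  exact @IsIso.of_isIso_comp_left _ _ _ _ _
    (F.mapDerivedCategory.map (β.app ((KInjDer.Φ B).functor.obj X)))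
    ((derivedAdj adj RG β).counit.app (DerivedCategory.Qh.obj ((KInjDer.Φ B).functor.obj X))) h1 h3

end Groth.Agent.Helper4.KDerAdj
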