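import Mathlib
import Groth.Agent.Helper9.LDeriv1
import Groth.Agent.Helper9.LDeriv7

/-! Dual of `LocalizerMorphism.Derives.isRightDerivedFunctor_of_isIso` for left derivability
structures. -/

set_option autoImplicit false
set_option linter.unusedSectionVars false

namespace Groth.Agent.Helper4.LDerIso

open CategoryTheory Category Limits Opposite

universe v₁ v₂ v₃ v₄ u₁ u₂ u₃ u₄

variable {C₁ : Type u₁} {C₂ : Type u₂} {H : Type u₃}
  [Category.{v₁} C₁] [Category.{v₂} C₂] [Category.{v₃} H]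
  {D₂ : Type u₄} [Category.{v₄} D₂]
  {W₁ : MorphismProperty C₁} {W₂ : MorphismProperty C₂}

theorem isLeftDerivedFunctor_of_isIso (Φ : LocalizerMorphism W₁ W₂) {F : C₂ ⥤ H}
    (h : Φ.Derives F) [Φ.IsLeftDerivabilityStructure]
    {L₂ : C₂ ⥤ D₂} [L₂.IsLocalization W₂] {LF : D₂ ⥤ H} (α : L₂ ⋙ LF ⟶ F)
    (hα : ∀ X₁ : C₁, IsIso (α.app (Φ.functor.obj X₁))) :
    LF.IsLeftDerivedFunctor α W₂ := by
  have h' : Φ.op.Derives F.op := by
    intro X Y f hf
    have := h f.unop hf
    dsimp at this ⊢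
    infer_instance
  have h1 : LF.op.IsRightDerivedFunctor (L := L₂.op) (F := F.op) (NatTrans.op α) W₂.op :=
    h'.isRightDerivedFunctor_of_isIso (L₂ := L₂.op) (RF := LF.op) (NatTrans.op α)
      (fun X => by
        have := hα X.unop
        dsimp
        infer_instance)
  haveI := Functor.IsRightDerivedFunctor.isLeftKanExtension (L := L₂.op) (F := F.op) LF.op
    (NatTrans.op α) W₂.op
  have h2 := Groth.Agent.Helper9.LDeriv7.isRightKanExtension_unop (L := L₂) (F := F) LF.op
    (NatTrans.op α)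
  exact ⟨h2⟩

end Groth.Agent.Helper4.LDerIso
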