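import Mathlib
import Groth.Agent.Helper4.KDerAdj
import Groth.Agent.Helper4.LDerIso

/-! Derived adjunction `LG ⊣ RF` on unbounded derived categories, for `G ⊣ F`, when `LG` is
computed by a left derivability structure and the target of `G` is Grothendieck abelian. -/

set_option autoImplicit false
set_option linter.unusedSectionVars false
universe w w' v v' u u' v₁ u₁

open CategoryTheory Limits

namespace Groth.Agent.Helper4.KDerAdjL

open Groth.Agent.Helper1

variable {A : Type u} [Category.{v} A] [Abelian A] [HasDerivedCategory.{w} A]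
  {B : Type u'} [Category.{v'} B] [Abelian B] [IsGrothendieckAbelian.{v'} B]
  [HasDerivedCategory.{w'} B]
  {G : A ⥤ B} {F : B ⥤ A} (adj : G ⊣ F) [G.Additive] [F.Additive]
  (LG : DerivedCategory A ⥤ DerivedCategory B)
  (α : DerivedCategory.Qh ⋙ LG ⟶ G.mapHomotopyCategory (ComplexShape.up ℤ) ⋙ DerivedCategory.Qh)
  [LG.IsLeftDerivedFunctor α (HomotopyCategory.quasiIso A (ComplexShape.up ℤ))]
  (RF : DerivedCategory B ⥤ DerivedCategory A)
  (β : F.mapHomotopyCategory (ComplexShape.up ℤ) ⋙ DerivedCategory.Qh ⟶ DerivedCategory.Qh ⋙ RF)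
  [RF.IsRightDerivedFunctor β (HomotopyCategory.quasiIso B (ComplexShape.up ℤ))]
  {C₁ : Type u₁} [Category.{v₁} C₁] {W₁ : MorphismProperty C₁}
  {W₂ : MorphismProperty (HomotopyCategory A (ComplexShape.up ℤ))}
  (hW : HomotopyCategory.quasiIso A (ComplexShape.up ℤ) = W₂)
  (Φ : LocalizerMorphism W₁ W₂) (hΦd : Φ.IsLeftDerivabilityStructure)
  (hΦ : Φ.Derives (G.mapHomotopyCategory (ComplexShape.up ℤ) ⋙ DerivedCategory.Qh))

include hW hΦ hΦd in
lemma isLeftDerived₂ : (LG ⋙ RF).IsLeftDerivedFunctor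
    ((Functor.associator _ _ _).inv ≫ Functor.whiskerRight α RF)
    (HomotopyCategory.quasiIso A (ComplexShape.up ℤ)) := by
  subst hW
  haveI := hΦd
  apply LDerIso.isLeftDerivedFunctor_of_isIso Φ
  · intro X Y f hf
    have : IsIso ((Φ.functor ⋙ G.mapHomotopyCategory (ComplexShape.up ℤ) ⋙
      DerivedCategory.Qh).map f) := hΦ f hf
    change IsIso (RF.map ((Φ.functor ⋙ G.mapHomotopyCategory (ComplexShape.up ℤ) ⋙
      DerivedCategory.Qh).map f))
    infer_instance
  · intro X₁
    have := Groth.Agent.Helper9.LDeriv1.isIso_of_isLeftDerivedFunctor Φ hΦ α X₁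
    dsimp
    infer_instance

lemma isRightDerived₃ : (RF ⋙ LG).IsRightDerivedFunctor
    (Functor.whiskerRight β _ ≫ (Functor.associator _ _ _).hom)
    (HomotopyCategory.quasiIso B (ComplexShape.up ℤ)) := by
  apply LocalizerMorphism.Derives.isRightDerivedFunctor_of_isIso (Φ := KInjDer.Φ B)
  · exact KDerAdj.derives _
  · intro X
    have := KDerAdj.isIso_β_app RF β X
    dsimp
    infer_instance

/-- the derived adjunction -/
noncomputable def derivedAdj : LG ⊣ RF :=
  haveI := isLeftDerived₂ LG α RF hW Φ hΦd hΦ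
  haveI := isRightDerived₃ LG RF β
  (Groth.Agent.Helper6.HtpyAdj.adjK adj).derived
    (HomotopyCategory.quasiIso A (ComplexShape.up ℤ))
    (HomotopyCategory.quasiIso B (ComplexShape.up ℤ)) α β

end Groth.Agent.Helper4.KDerAdjL
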