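import Mathlib
import Groth.Agent.Helper4.KDerAdjL
import Groth.Agent.Helper9.Lpull3
import Groth.Agent.S0484

/-! `Lf^* ⊣ Rf_*` for every morphism of schemes. -/

set_option autoImplicit false
set_option linter.unusedSectionVars false
universe u

open CategoryTheory Limits AlgebraicGeometry

namespace Groth.Agent.Helper4.SchAdj

attribute [local instance] HasDerivedCategory.standard

open Groth.Agent.Helper9.LDeriv3 Groth.Agent.Helper9.LDeriv4

theorem isGrothendieckAbelian_modules (X : Scheme.{u}) : IsGrothendieckAbelian.{u} X.Modules :=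
  Groth.Agent.S0484.result _ X.ringCatSheaf

variable {X Y : Scheme.{u}} (f : X ⟶ Y)

/-- the K-flat localizer morphism -/
noncomputable abbrev ΦL (Y : Scheme.{u}) :=
  (KF Y.sheaf).triangulatedLocalizerMorphism
    (HomotopyCategory.subcategoryAcyclic (ModSite.Mod Y.sheaf))

lemma derives_pull : (ΦL Y).Derives
    ((Scheme.Modules.pullback f).mapHomotopyCategory (ComplexShape.up ℤ) ⋙
      DerivedCategory.Qh) := by
  have hadd : (Scheme.Modules.pullback f).Additive := inferInstance
  intro P Q s hs
  have hs' : (HomotopyCategory.subcategoryAcyclic (ModSite.Mod Y.sheaf)).trW s.hom :=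
    (ΦL Y).map s hs
  obtain ⟨g, hg⟩ : ∃ g : P.obj.as ⟶ Q.obj.as, (HomotopyCategory.quotient _ _).map g = s.hom :=
    (HomotopyCategory.quotient _ _).map_surjective s.hom
  rw [← HomotopyCategory.quasiIso_eq_trW_subcategoryAcyclic] at hs'
  rw [← hg] at hs'
  have hq : QuasiIso g := (HomotopyCategory.quotient_map_mem_quasiIso_iff g).1 hs'
  have := @quasiIso_map_of_isKFlat _ _ _ Y.sheaf X.Modules _ _ (Scheme.Modules.pullback f) hadd
    (fun K hK hac => Groth.Agent.Helper9.Lpull1.acyclic_pullback f K hK hac) _ _ g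
    P.property Q.property hq
  show IsIso (DerivedCategory.Qh.map (((Scheme.Modules.pullback f).mapHomotopyCategory
    (ComplexShape.up ℤ)).map s.hom))
  rw [← hg]
  show IsIso (DerivedCategory.Qh.map ((HomotopyCategory.quotient _ _).map
    (((Scheme.Modules.pullback f).mapHomologicalComplex (ComplexShape.up ℤ)).map g)))
  rw [DerivedCategory.isIso_Qh_map_iff, HomotopyCategory.quotient_map_mem_quasiIso_iff]
  exact this

variable [DCoh.HasLpull f] [DCoh.HasRpush f]

/-- `Lf^* ⊣ Rf_*` -/
noncomputable def adj : DCoh.Lpull f ⊣ DCoh.Rpush f :=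
  haveI := isGrothendieckAbelian_modules X
  have hd := Groth.Agent.Helper9.LDeriv2.isLeftDerivabilityStructure (hasRelRes Y.sheaf)
  KDerAdjL.derivedAdj (Scheme.Modules.pullbackPushforwardAdjunction f)
    (DCoh.Lpull f) (Groth.Agent.Helper9.Lpull3.counit f) (DCoh.Rpush f)
    ((DCoh.pushKh f).totalRightDerivedUnit DerivedCategory.Qh
      (HomotopyCategory.quasiIso X.Modules (ComplexShape.up ℤ)))
    (HomotopyCategory.quasiIso_eq_trW_subcategoryAcyclic _) (ΦL Y) hd (derives_pull f)

end Groth.Agent.Helper4.SchAdj
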