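import Mathlib
import Groth.Agent.Helper4.SchAdj

/-! Existence of right derived functors out of `K(B)` for `B` Grothendieck abelian; in particular
`DCoh.HasRpush f`, `DCoh.HasRΓ X` for all schemes. -/

set_option autoImplicit false
set_option linter.unusedSectionVars false
universe w w' v v' u u'

open CategoryTheory Limits AlgebraicGeometry

namespace Groth.Agent.Helper4.HasRD

open Groth.Agent.Helper1

section gen

variable {B : Type u'} [Category.{v'} B] [Abelian B] [IsGrothendieckAbelian.{v'} B]
  [HasDerivedCategory.{w'} B]

lemma hasRightDerivedFunctor {H : Type*} [Category H]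
    (𝓕 : HomotopyCategory B (ComplexShape.up ℤ) ⥤ H) :
    𝓕.HasRightDerivedFunctor (HomotopyCategory.quasiIso B (ComplexShape.up ℤ)) := by
  haveI : 𝓕.HasPointwiseRightDerivedFunctor (HomotopyCategory.quasiIso B (ComplexShape.up ℤ)) :=
    (KDerAdj.derives 𝓕).hasPointwiseRightDerivedFunctor
  infer_instance

end gen

attribute [local instance] HasDerivedCategory.standard

theorem hasRpush {X Y : Scheme.{u}} (f : X ⟶ Y) : DCoh.HasRpush f := by
  haveI := SchAdj.isGrothendieckAbelian_modules X
  exact hasRightDerivedFunctor _

theorem hasRΓ (X : Scheme.{u}) : DCoh.HasRΓ X := by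
  haveI := SchAdj.isGrothendieckAbelian_modules X
  exact hasRightDerivedFunctor _

end Groth.Agent.Helper4.HasRD
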