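import Mathlib
import Groth.Agent.Helper4.KDerAdj

/-! Post- and pre-composition of total right derived functors on `D(B)`, `B` Grothendieck abelian. -/

set_option autoImplicit false
set_option linter.unusedSectionVars false
universe w w' v v' u u'

open CategoryTheory Limits

namespace Groth.Agent.Helper4.RDerComp

open Groth.Agent.Helper1 Groth.Agent.Helper4.KDerAdj

variable {B : Type u'} [Category.{v'} B] [Abelian B] [IsGrothendieckAbelian.{v'} B]
  [HasDerivedCategory.{w'} B]
  {H : Type*} [Category H]
  (𝓖 : HomotopyCategory B (ComplexShape.up ℤ) ⥤ H) (RG : DerivedCategory B ⥤ H)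
  (β : 𝓖 ⟶ DerivedCategory.Qh ⋙ RG)
  [RG.IsRightDerivedFunctor β (HomotopyCategory.quasiIso B (ComplexShape.up ℤ))]

lemma isIso_β_app' (X : (KInjDer.P B).FullSubcategory) :
    IsIso (β.app ((KInjDer.Φ B).functor.obj X)) :=
  (derives _).isIso_of_isRightDerivedFunctor β X

/-- post-composition with any functor -/
lemma post {H' : Type*} [Category H'] (E : H ⥤ H') :
    (RG ⋙ E).IsRightDerivedFunctor
      (Functor.whiskerRight β E ≫ (Functor.associator _ _ _).hom)
      (HomotopyCategory.quasiIso B (ComplexShape.up ℤ)) := by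
  apply LocalizerMorphism.Derives.isRightDerivedFunctor_of_isIso (Φ := KInjDer.Φ B)
  · exact derives _
  · intro X
    have := isIso_β_app' 𝓖 RG β X
    dsimp
    infer_instance

variable {A : Type u} [Category.{v} A] [Abelian A] [IsGrothendieckAbelian.{v} A]
  [HasDerivedCategory.{w} A]
  (Ψ : A ⥤ B) [Ψ.Additive] [PreservesFiniteLimits Ψ] [PreservesFiniteColimits Ψ]
  (hΨ : ∀ I : CochainComplex A ℤ, I.IsKInjective →
    CochainComplex.IsKInjective ((Ψ.mapHomologicalComplex (ComplexShape.up ℤ)).obj I))

include hΨ in
/-- pre-composition with an exact functor preserving K-injectives -/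
lemma pre :
    (Ψ.mapDerivedCategory ⋙ RG).IsRightDerivedFunctor
      (Functor.whiskerLeft (Ψ.mapHomotopyCategory (ComplexShape.up ℤ)) β ≫
        (Functor.associator _ _ _).inv ≫
        Functor.whiskerRight Ψ.mapDerivedCategoryFactorsh.inv RG ≫
        (Functor.associator _ _ _).hom)
      (HomotopyCategory.quasiIso A (ComplexShape.up ℤ)) := by
  apply LocalizerMorphism.Derives.isRightDerivedFunctor_of_isIso (Φ := KInjDer.Φ A)
  · exact derives _
  · intro X
    have hX : (KInjDer.P B) ((Ψ.mapHomotopyCategory (ComplexShape.up ℤ)).obj X.obj) := by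
      obtain ⟨K, hK⟩ : ∃ K : CochainComplex A ℤ,
          (HomotopyCategory.quotient _ _).obj K = X.obj := ⟨X.obj.as, rfl⟩
      have h1 : K.IsKInjective := by
        rw [CochainComplex.isKInjective_iff_rightOrthogonal, hK]
        exact X.property
      have h2 := hΨ K h1
      rw [CochainComplex.isKInjective_iff_rightOrthogonal] at h2
      rw [← hK]
      exact h2
    have := isIso_β_app' 𝓖 RG β ⟨_, hX⟩
    have h3 : IsIso (β.app ((Ψ.mapHomotopyCategory (ComplexShape.up ℤ)).obj
      ((KInjDer.Φ A).functor.obj X))) := this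
    dsimp
    infer_instance

end Groth.Agent.Helper4.RDerComp
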