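import Mathlib
import Groth.Prelude.Def_DCoh2
import Groth.Agent.Helper1.MapExtend
import Groth.Agent.Helper4.RDerComp

/-! Comparison between the classical right derived functors `Rᵖ Ψ` (via injective resolutions) and the
cohomology objects of a total right derived functor on the unbounded derived category. -/

set_option autoImplicit false
universe w w' v v' u u'

open CategoryTheory CategoryTheory.Limits

namespace Groth.Agent.Helper4.RpushCl

variable {B : Type u'} [Category.{v'} B] [Abelian B] [IsGrothendieckAbelian.{v'} B]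
  [HasDerivedCategory.{w'} B]
  {C : Type u} [Category.{v} C] [Abelian C] [HasDerivedCategory.{w} C]
  (Ψ : B ⥤ C) [Ψ.Additive]
  (RG : DerivedCategory B ⥤ DerivedCategory C)
  (β : Ψ.mapHomotopyCategory (ComplexShape.up ℤ) ⋙ DerivedCategory.Qh ⟶ DerivedCategory.Qh ⋙ RG)
  [RG.IsRightDerivedFunctor β (HomotopyCategory.quasiIso B (ComplexShape.up ℤ))]

include β in
/-- `RG (Q I) ≅ Q (Ψ I)` for `I` K-injective -/
theorem nonempty_iso_of_isKInjective (I : CochainComplex B ℤ) [I.IsKInjective] :
    Nonempty (RG.obj (DerivedCategory.Q.obj I) ≅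
      DerivedCategory.Q.obj ((Ψ.mapHomologicalComplex (ComplexShape.up ℤ)).obj I)) := by
  let XJ : (Groth.Agent.Helper1.KInjDer.P B).FullSubcategory :=
    ⟨(HomotopyCategory.quotient _ _).obj I, CochainComplex.IsKInjective.rightOrthogonal I⟩
  have hβ : IsIso (β.app XJ.obj) :=
    Groth.Agent.Helper4.RDerComp.isIso_β_app' _ RG β XJ
  let e2 : (Ψ.mapHomotopyCategory (ComplexShape.up ℤ) ⋙ DerivedCategory.Qh).obj
      ((HomotopyCategory.quotient _ _).obj I) ≅
      DerivedCategory.Q.obj ((Ψ.mapHomologicalComplex (ComplexShape.up ℤ)).obj I) :=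
    DerivedCategory.Qh.mapIso ((Ψ.mapHomotopyCategoryFactors (ComplexShape.up ℤ)).app I)
  exact ⟨(@asIso _ _ _ _ (β.app XJ.obj) hβ).symm ≪≫ e2⟩

variable [HasInjectiveResolutions B]

include β in
/-- `Hᵖ(RG (M[0])) ≅ (Rᵖ Ψ) M` -/
theorem nonempty_homology_iso (M : B) (p : ℕ) :
    Nonempty ((DerivedCategory.homologyFunctor C (p : ℤ)).obj
        (RG.obj ((DerivedCategory.singleFunctor B 0).obj M)) ≅ (Ψ.rightDerived p).obj M) := by
  let R := injectiveResolution M
  haveI : R.cochainComplex.IsKInjective := CochainComplex.isKInjective_of_injective _ 0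
  obtain ⟨e1⟩ := nonempty_iso_of_isKInjective Ψ RG β R.cochainComplex
  -- `M[0] ≅ Q I`
  let e0 : (DerivedCategory.singleFunctor B 0).obj M ≅ DerivedCategory.Q.obj R.cochainComplex :=
    (DerivedCategory.singleFunctorIsoCompQ B 0).app M ≪≫ asIso (DerivedCategory.Q.map R.ι')
  let e2 := (DerivedCategory.homologyFunctorFactors C (p : ℤ)).app
    ((Ψ.mapHomologicalComplex (ComplexShape.up ℤ)).obj R.cochainComplex)
  let e3 := (HomologicalComplex.homologyFunctor C _ (p : ℤ)).mapIso
      (Groth.Agent.Helper1.MapExtend.mapExtendIso ComplexShape.embeddingUpNat Ψ R.cocomplex)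
  let e4 := ((Ψ.mapHomologicalComplex _).obj R.cocomplex).extendHomologyIso
      ComplexShape.embeddingUpNat (by simp : ComplexShape.embeddingUpNat.f p = (p : ℤ))
  exact ⟨(DerivedCategory.homologyFunctor C (p : ℤ)).mapIso (RG.mapIso e0 ≪≫ e1) ≪≫ e2 ≪≫ e3 ≪≫
    e4 ≪≫ (R.isoRightDerivedObj Ψ p).symm⟩

end Groth.Agent.Helper4.RpushCl
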