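import Mathlib
import Groth.Prelude.Def_DCoh2
import Groth.Agent.Helper4.RpushCl
import Groth.Agent.Helper4.HasRD
import Groth.Agent.Helper4.QcohLimits

/-! Quasi-coherence of the classical higher direct images `Rᵖ f_* M`, given that the derived
direct image `Rf_*` preserves `D_QCoh`. -/

set_option autoImplicit false
universe u

open CategoryTheory CategoryTheory.Limits AlgebraicGeometry

namespace Groth.Agent.Helper4.RpushQc

attribute [local instance] HasDerivedCategory.standard

variable {X S : Scheme.{u}}

theorem isQuasicoherent_of_isZero {N : X.Modules} (hN : IsZero N) : N.IsQuasicoherent := by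
  let F : PEmpty.{u + 1} → X.Modules := fun i => i.elim
  haveI : (∐ F).IsQuasicoherent := QcohLimits.isQuasicoherent_sigma F (fun i => i.elim)
  have hz : IsZero (∐ F) := by
    rw [IsZero.iff_id_eq_zero]
    exact Sigma.hom_ext _ _ (fun i => i.elim)
  exact QcohLimits.isQuasicoherent_of_iso (hz.iso hN)

theorem isQCohD_inD (M : X.Modules) (hM : M.IsQuasicoherent) : DCoh.IsQCohD (DCoh.inD X M) := by
  intro i
  let e1 := (DerivedCategory.homologyFunctor X.Modules i).mapIso
    ((DerivedCategory.singleFunctorIsoCompQ X.Modules 0).app M)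
  let e2 := (DerivedCategory.homologyFunctorFactors X.Modules i).app
    ((CochainComplex.singleFunctor X.Modules 0).obj M)
  by_cases hi : i = 0
  · subst hi
    haveI := hM
    exact QcohLimits.isQuasicoherent_of_iso
      (e1 ≪≫ e2 ≪≫ HomologicalComplex.singleObjHomologySelfIso (ComplexShape.up ℤ) 0 M).symm
  · apply isQuasicoherent_of_isZero
    refine IsZero.of_iso ?_ (e1 ≪≫ e2)
    exact HomologicalComplex.isZero_single_obj_homology (ComplexShape.up ℤ) 0 M i hi

/-- `Rᵖ f_* M` is quasi-coherent if `Rf_*` preserves `D_QCoh` -/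
theorem isQuasicoherent_rightDerived (f : X ⟶ S) [HasInjectiveResolutions X.Modules]
    [DCoh.HasRpush f]
    (h : ∀ K : DCoh.D X, DCoh.IsQCohD K → DCoh.IsQCohD ((DCoh.Rpush f).obj K))
    (M : X.Modules) (hM : M.IsQuasicoherent) (p : ℕ) :
    (((Scheme.Modules.pushforward f).rightDerived p).obj M).IsQuasicoherent := by
  haveI := SchAdj.isGrothendieckAbelian_modules X
  obtain ⟨e⟩ := RpushCl.nonempty_homology_iso (Scheme.Modules.pushforward f) (DCoh.Rpush f)
    ((DCoh.pushKh f).totalRightDerivedUnit DerivedCategory.Qh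
      (HomotopyCategory.quasiIso X.Modules (ComplexShape.up ℤ))) M p
  haveI : (DCoh.HD ((DCoh.Rpush f).obj (DCoh.inD X M)) (p : ℤ)).IsQuasicoherent :=
    h _ (isQCohD_inD M hM) p
  exact QcohLimits.isQuasicoherent_of_iso e

end Groth.Agent.Helper4.RpushQc
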