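import Groth.Agent.Helper4.PureLift
import Mathlib

/-!
# A surjection onto a flat module has universally injective kernel
-/

set_option autoImplicit false

namespace Groth.Agent.Helper4.FlatQuotPure
open TensorProduct Groth.Agent.Helper4.PureLift

universe u
variable {R : Type u} [CommRing R]
variable {L M : Type u} [AddCommGroup L] [Module R L] [AddCommGroup M] [Module R M]

lemma liftsFP_of_flat (g : L →ₗ[R] M) (hg : Function.Surjective g) [Module.Flat R M] :
    LiftsFP g := by
  intro Q _ _ _ φ
  obtain ⟨k, h₂, h₃, rfl⟩ := Module.Flat.exists_factorization_of_finitePresentation φ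
  obtain ⟨l, hl⟩ := Module.projective_lifting_property g h₃ hg
  exact ⟨l ∘ₗ h₂, by rw [← LinearMap.comp_assoc, hl]⟩

/-- the kernel of a surjection onto a flat module is universally injective -/
theorem ker_rTensor_injective (g : L →ₗ[R] M) (hg : Function.Surjective g) [Module.Flat R M]
    (Q : Type u) [AddCommGroup Q] [Module R Q] :
    Function.Injective ((LinearMap.ker g).subtype.rTensor Q) :=
  rTensor_injective g (liftsFP_of_flat g hg) Q

theorem ker_lTensor_injective (g : L →ₗ[R] M) (hg : Function.Surjective g) [Module.Flat R M]
    (Q : Type u) [AddCommGroup Q] [Module R Q] :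
    Function.Injective ((LinearMap.ker g).subtype.lTensor Q) :=
  lTensor_injective g (liftsFP_of_flat g hg) Q

/-- submodule form: if `L ⧸ K` is flat then `K ⊗ Q → L ⊗ Q` is injective. -/
theorem submodule_lTensor_injective (K : Submodule R L) [Module.Flat R (L ⧸ K)]
    (Q : Type u) [AddCommGroup Q] [Module R Q] :
    Function.Injective (K.subtype.lTensor Q) := by
  have h := ker_lTensor_injective K.mkQ (Submodule.mkQ_surjective K) Q
  have hk : LinearMap.ker K.mkQ = K := Submodule.ker_mkQ K
  -- transport along the equality of submodules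
  let e : LinearMap.ker K.mkQ ≃ₗ[R] K := LinearEquiv.ofEq _ _ hk
  have : K.subtype.lTensor Q =
      ((LinearMap.ker K.mkQ).subtype.lTensor Q) ∘ₗ (e.symm.toLinearMap.lTensor Q) := by
    rw [← LinearMap.lTensor_comp]
    congr 1
  rw [this]
  exact h.comp (e.symm.lTensor Q).injective

end Groth.Agent.Helper4.FlatQuotPure
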