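import Groth.Prelude.Def_CAlgX
import Groth.Agent.Helper4.FlatQuotPure
import Mathlib

/-!
# Base change of `H_1`-regular sequences with flat quotient
-/

set_option autoImplicit false

namespace Groth.Agent.Helper4.H1BaseChange
open TensorProduct

universe u
variable (A B A' : Type u) [CommRing A] [CommRing B] [CommRing A'] [Algebra A B] [Algebra A A']
variable {r : ℕ} (f : Fin r → B)

/-- `π : B^r → B`, `v ↦ ∑ v i * f i`, as an `A`-linear map -/
noncomputable def π : (Fin r → B) →ₗ[A] B :=
  (Fintype.linearCombination B f).restrictScalars A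

lemma π_apply (v : Fin r → B) : π A B f v = ∑ i, v i * f i := by
  simp [π, Fintype.linearCombination_apply]

/-- the quotient map as `A`-linear map -/
noncomputable def q : B →ₗ[A] B ⧸ Ideal.span (Set.range f) :=
  (Ideal.Quotient.mkₐ A (Ideal.span (Set.range f))).toLinearMap

lemma q_surjective : Function.Surjective (q A B f) := Ideal.Quotient.mk_surjective

lemma mem_ker_q (b : B) : b ∈ LinearMap.ker (q A B f) ↔ b ∈ Ideal.span (Set.range f) := by
  rw [LinearMap.mem_ker]
  exact Ideal.Quotient.eq_zero_iff_mem

lemma π_mem (v : Fin r → B) : π A B f v ∈ LinearMap.ker (q A B f) := by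
  rw [mem_ker_q, π_apply]
  exact Ideal.sum_mem _ fun i _ => Ideal.mul_mem_left _ _ (Ideal.subset_span ⟨i, rfl⟩)

/-- `π` corestricted to the ideal -/
noncomputable def πK : (Fin r → B) →ₗ[A] LinearMap.ker (q A B f) :=
  (π A B f).codRestrict _ (π_mem A B f)

lemma πK_surjective : Function.Surjective (πK A B f) := by
  rintro ⟨b, hb⟩
  rw [mem_ker_q] at hb
  obtain ⟨c, hc⟩ := (Ideal.mem_span_range_iff_exists_fun).mp hb
  refine ⟨c, Subtype.ext ?_⟩
  simp only [πK, LinearMap.codRestrict_apply, π_apply]
  exact hc

/-- the trivial relations in `B'` -/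
def triv {S : Type u} [CommRing S] (g : Fin r → S) : Set (Fin r → S) :=
  {v | ∃ i j : Fin r, v = Pi.single i (g j) - Pi.single j (g i)}

variable {A B A'} in
/-- the tensored sequence -/
abbrev f' : Fin r → A' ⊗[A] B := fun i => (1 : A') ⊗ₜ[A] f i

/-- componentwise map `A' ⊗ B^r → (A' ⊗ B)^r` -/
noncomputable def Θ : A' ⊗[A] (Fin r → B) →ₗ[A] (Fin r → A' ⊗[A] B) :=
  (TensorProduct.piRight A A A' (fun _ : Fin r => B)).toLinearMap

lemma Θ_tmul (α : A') (v : Fin r → B) : Θ A B A' (α ⊗ₜ v) = fun j => α ⊗ₜ v j := by
  simp [Θ]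

/-- image of pure tensors with second factor in the span of trivial relations -/
lemma Θ_mem_of_mem_span (v : Fin r → B) (hv : v ∈ Submodule.span B (triv f)) (α : A') :
    (fun j => α ⊗ₜ[A] v j) ∈ Submodule.span (A' ⊗[A] B) (triv (f' (A' := A') f)) := by
  classical
  induction hv using Submodule.span_induction generalizing α with
  | mem v hv =>
    obtain ⟨i, j, rfl⟩ := hv
    have : (fun l => α ⊗ₜ[A] (Pi.single i (f j) - Pi.single j (f i) : Fin r → B) l) =
        (α ⊗ₜ[A] (1 : B)) • (Pi.single i (f' (A' := A') f j) - Pi.single j (f' (A' := A') f i)) := by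
      ext l
      simp only [Pi.sub_apply, Pi.single_apply, Pi.smul_apply, smul_eq_mul, mul_sub]
      split_ifs <;> simp [TensorProduct.tmul_sub, TensorProduct.tmul_neg]
    rw [this]
    exact Submodule.smul_mem _ _ (Submodule.subset_span ⟨i, j, rfl⟩)
  | zero =>
    have : (fun j => α ⊗ₜ[A] (0 : Fin r → B) j) = (0 : Fin r → A' ⊗[A] B) := by
      ext j; simp
    rw [this]; exact Submodule.zero_mem _
  | add v w _ _ hv hw =>
    have : (fun j => α ⊗ₜ[A] (v + w) j) =
        (fun j => α ⊗ₜ[A] v j) + (fun j => α ⊗ₜ[A] w j) := by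
      ext j; simp [TensorProduct.tmul_add]
    rw [this]; exact Submodule.add_mem _ (hv α) (hw α)
  | smul b v _ hv =>
    have : (fun j => α ⊗ₜ[A] (b • v) j) =
        ((1 : A') ⊗ₜ[A] b) • (fun j => α ⊗ₜ[A] v j) := by
      ext j; simp
    rw [this]; exact Submodule.smul_mem _ _ (hv α)

theorem main (hflat : Module.Flat A (B ⧸ Ideal.span (Set.range f)))
    (hq : CAlgX.IsH1Regular f) : CAlgX.IsH1Regular (f' (A := A) (A' := A') f) := by
  classical
  intro a' ha'
  -- the element `u`
  let u : A' ⊗[A] (Fin r → B) :=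
    ∑ i, (LinearMap.lTensor A' (LinearMap.single A (fun _ : Fin r => B) i)) (a' i)
  have hΘu : Θ A B A' u = a' := by
    have h1 : ∀ i, (Θ A B A') ∘ₗ (LinearMap.lTensor A' (LinearMap.single A (fun _ : Fin r => B) i)) =
        LinearMap.single A (fun _ : Fin r => A' ⊗[A] B) i := by
      intro i
      apply TensorProduct.ext'
      intro α b
      simp only [LinearMap.comp_apply, LinearMap.lTensor_tmul, Θ_tmul, LinearMap.coe_single]
      ext j
      simp only [Pi.single_apply]
      split_ifs <;> simp
    simp only [u, map_sum]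
    ext j
    simp only [Finset.sum_apply]
    have : ∀ i, (Θ A B A') ((LinearMap.lTensor A' (LinearMap.single A (fun _ : Fin r => B) i))
        (a' i)) = Pi.single i (a' i) := fun i => LinearMap.congr_fun (h1 i) (a' i)
    simp only [this, Pi.single_apply, Finset.sum_ite_eq, Finset.mem_univ, if_true]
  have hπu : (LinearMap.lTensor A' (π A B f)) u = 0 := by
    have h1 : ∀ i, (LinearMap.lTensor A' (π A B f)) ∘ₗ
        (LinearMap.lTensor A' (LinearMap.single A (fun _ : Fin r => B) i)) =
        LinearMap.mulRight A (f' (A' := A') f i) := by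
      intro i
      apply TensorProduct.ext'
      intro α b
      simp only [LinearMap.comp_apply, LinearMap.lTensor_tmul, LinearMap.coe_single,
        LinearMap.mulRight_apply, Algebra.TensorProduct.tmul_mul_tmul, mul_one, π_apply]
      congr 1
      simp [Pi.single_apply]
    simp only [u, map_sum]
    rw [← ha']
    refine Finset.sum_congr rfl fun i _ => ?_
    exact LinearMap.congr_fun (h1 i) (a' i)
  -- factor through the ideal
  have hfac : π A B f = (LinearMap.ker (q A B f)).subtype ∘ₗ πK A B f := by
    ext v; rfl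
  have hinj := Groth.Agent.Helper4.FlatQuotPure.ker_lTensor_injective (q A B f)
    (q_surjective A B f) A'
  have hπKu : (LinearMap.lTensor A' (πK A B f)) u = 0 := by
    apply hinj
    rw [map_zero, ← LinearMap.comp_apply, ← LinearMap.lTensor_comp, ← hfac, hπu]
  have hex := lTensor_exact A' (LinearMap.exact_subtype_ker_map (πK A B f)) (πK_surjective A B f)
  obtain ⟨w, hw⟩ := (hex u).mp hπKu
  rw [← hΘu, ← hw]
  clear hw
  -- induction on w
  induction w using TensorProduct.induction_on with
  | zero => simp
  | tmul α t =>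
    simp only [LinearMap.lTensor_tmul, Submodule.subtype_apply, Θ_tmul]
    apply Θ_mem_of_mem_span
    apply hq
    have := t.2
    rw [LinearMap.mem_ker] at this
    have h2 := congrArg Subtype.val this
    simp only [πK, LinearMap.codRestrict_apply, π_apply] at h2
    exact h2
  | add x y hx hy =>
    rw [map_add, map_add]
    exact Submodule.add_mem _ hx hy

end Groth.Agent.Helper4.H1BaseChange
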