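import Mathlib

/-! Base change of pushforward along an open immersion, for sheaves of modules on schemes:
`(f_* M)|_V ≅ (f|_V)_* (M|_{f⁻¹V})`. -/

set_option autoImplicit false
universe u

open CategoryTheory Limits AlgebraicGeometry

namespace Groth.Agent.Helper4.OpenBC

open Scheme.Modules

variable {X Y : Scheme.{u}} (f : X ⟶ Y) (V : Y.Opens)

lemma isIso_presheaf_map_of_eq (M : X.Modules) {U W : X.Opens} (h : U = W) (i : U ⟶ W) :
    IsIso (M.presheaf.map i.op) := by
  subst h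
  have : i = 𝟙 _ := Subsingleton.elim _ _
  rw [this]
  simp only [op_id, CategoryTheory.Functor.map_id]
  infer_instance

/-- the first map -/
noncomputable def τ : pushforward f ⋙ restrictFunctor V.ι ⟶
    (restrictFunctor (f ⁻¹ᵁ V).ι ⋙ pushforward (f ⁻¹ᵁ V).ι) ⋙ pushforward f ⋙ restrictFunctor V.ι :=
  Functor.whiskerRight (restrictAdjunction (f ⁻¹ᵁ V).ι).unit (pushforward f ⋙ restrictFunctor V.ι)

lemma isIso_τ_app (M : X.Modules) : IsIso ((τ f V).app M) := by
  rw [Hom.isIso_iff_isIso_app]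
  intro W
  have h : ((τ f V).app M).app W =
      M.presheaf.map (homOfLE ((f ⁻¹ᵁ V).ι.image_preimage_le (f ⁻¹ᵁ (V.ι ''ᵁ W)))).op := rfl
  rw [h]
  apply isIso_presheaf_map_of_eq
  rw [Scheme.Hom.image_preimage_eq_opensRange_inf, Scheme.Opens.opensRange_ι]
  apply inf_eq_right.2
  have h1 : V.ι ''ᵁ W ≤ V := by
    have := Scheme.Hom.image_le_opensRange V.ι W
    rwa [Scheme.Opens.opensRange_ι] at this
  exact Scheme.Hom.preimage_mono f h1

/-- the remaining isomorphisms -/
noncomputable def σ :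
    (restrictFunctor (f ⁻¹ᵁ V).ι ⋙ pushforward (f ⁻¹ᵁ V).ι) ⋙ pushforward f ⋙ restrictFunctor V.ι ≅
      restrictFunctor (f ⁻¹ᵁ V).ι ⋙ pushforward (f ∣_ V) :=
  Functor.associator _ _ _ ≪≫
  Functor.isoWhiskerLeft (restrictFunctor (f ⁻¹ᵁ V).ι)
    ((Functor.associator _ _ _).symm ≪≫
      Functor.isoWhiskerRight
        (pushforwardComp (f ⁻¹ᵁ V).ι f ≪≫ pushforwardCongr (morphismRestrict_ι f V).symm ≪≫
          (pushforwardComp (f ∣_ V) V.ι).symm) (restrictFunctor V.ι) ≪≫
      Functor.associator _ _ _ ≪≫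
      Functor.isoWhiskerLeft (pushforward (f ∣_ V)) (restrictFunctorAdjCounitIso V.ι) ≪≫
      Functor.rightUnitor _)

/-- base change along an open immersion -/
noncomputable def iso : pushforward f ⋙ restrictFunctor V.ι ≅
    restrictFunctor (f ⁻¹ᵁ V).ι ⋙ pushforward (f ∣_ V) :=
  haveI : IsIso (τ f V) := by
    haveI : ∀ M, IsIso ((τ f V).app M) := isIso_τ_app f V
    exact NatIso.isIso_of_isIso_app _
  asIso (τ f V) ≪≫ σ f V

end Groth.Agent.Helper4.OpenBC
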