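import Groth.Agent.Helper4.TensorRes
import Groth.Prelude.Def_PicGrp
import Mathlib

set_option autoImplicit false
universe u
open CategoryTheory CategoryTheory.Limits AlgebraicGeometry Opposite TopologicalSpace TensorProduct
  MonoidalCategory

namespace Groth.Agent.Helper4.TensorInv

open Groth.Agent.Helper4.TensorLift Groth.Agent.Helper4.TensorRes Groth.Agent.Helper4.GenLoc

variable {X : Scheme.{u}}

/-- `L` is trivial along the open immersion `j` -/
def IsTrivAlong {Y : Scheme.{u}} (L : X.Modules) (j : Y ⟶ X) [IsOpenImmersion j] : Prop :=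
  Nonempty (L.restrict j ≅ Coh.structureModule Y)

theorem IsTrivAlong.comp {Y Z : Scheme.{u}} {L : X.Modules} (j : Y ⟶ X) [IsOpenImmersion j]
    (h : IsTrivAlong L j) (k : Z ⟶ Y) [IsOpenImmersion k] : IsTrivAlong L (k ≫ j) := by
  obtain ⟨i⟩ := h
  exact ⟨(Scheme.Modules.restrictFunctorComp k j).app L ≪≫
    (Scheme.Modules.restrictFunctor k).mapIso i ≪≫ Scheme.Modules.restrictUnitIso k⟩

theorem IsTrivAlong.congr {Y : Scheme.{u}} {L : X.Modules} {j j' : Y ⟶ X} [IsOpenImmersion j]
    [IsOpenImmersion j'] (hj : j = j') (h : IsTrivAlong L j) : IsTrivAlong L j' := by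
  subst hj; exact h

theorem IsTrivAlong.of_le {L : X.Modules} {U V : X.Opens} (hVU : V ≤ U)
    (h : IsTrivAlong L U.ι) : IsTrivAlong L V.ι :=
  (h.comp U.ι (X.homOfLE hVU)).congr (by simp)

theorem exists_common {L L' : X.Modules} (hL : PicF.IsInvertible L) (hL' : PicF.IsInvertible L')
    (x : X) : ∃ U : X.Opens, x ∈ U ∧ IsTrivAlong L U.ι ∧ IsTrivAlong L' U.ι := by
  obtain ⟨U, hxU, hU⟩ := hL x
  obtain ⟨U', hxU', hU'⟩ := hL' x
  exact ⟨U ⊓ U', ⟨hxU, hxU'⟩, IsTrivAlong.of_le inf_le_left hU, IsTrivAlong.of_le inf_le_right hU'⟩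

theorem tensorModIso_hom_eq {L L' M M' : X.Modules} (e : L ≅ L') (f : M ≅ M') :
    (PicGrp.tensorModIso e f).hom = KoszTw.tensorMap e.hom f.hom := by
  rw [KoszTw.tensorMap_eq_sheafify]
  rfl

theorem tensorModIso_hom_tmul {L L' M M' : X.Modules} (e : L ≅ L') (f : M ≅ M') (V : X.Opens)
    (m : Γ(L, V)) (n : Γ(M, V)) :
    (PicGrp.tensorModIso e f).hom.app V (SecTwist.tmul L M V m n) =
      SecTwist.tmul L' M' V (e.hom.app V m) (f.hom.app V n) := by
  rw [tensorModIso_hom_eq]
  exact KoszTw.tensorMap_tmul e.hom f.hom V m n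

/-- the trivialization of `L ⊗ L'` over `U` induced by trivializations of `L` and `L'` -/
noncomputable def tensorTriv (L L' : X.Modules) (U : X.Opens)
    (ε : L.restrict U.ι ≅ Coh.structureModule (U : Scheme.{u}))
    (ε' : L'.restrict U.ι ≅ Coh.structureModule (U : Scheme.{u})) :
    (CohB1.tensorMod L L').restrict U.ι ≅ Coh.structureModule (U : Scheme.{u}) :=
  (resIso U.ι L L').symm ≪≫ PicGrp.tensorModIso ε ε' ≪≫
    SecTwist.unitorR (Coh.structureModule (U : Scheme.{u}))

theorem isInvertible_tensorMod {L L' : X.Modules} (hL : PicF.IsInvertible L)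
    (hL' : PicF.IsInvertible L') : PicF.IsInvertible (CohB1.tensorMod L L') := by
  intro x
  obtain ⟨U, hxU, ⟨ε⟩, ⟨ε'⟩⟩ := exists_common hL hL' x
  exact ⟨U, hxU, ⟨tensorTriv L L' U ε ε'⟩⟩

theorem isInvertible_structureModule : PicF.IsInvertible (Coh.structureModule X) := by
  intro x
  exact ⟨⊤, trivial, ⟨Scheme.Modules.restrictUnitIso _⟩⟩

theorem isInvertible_tensorPow {L : X.Modules} (hL : PicF.IsInvertible L) (n : ℕ) :
    PicF.IsInvertible (CohB1.tensorPow L n) := by
  induction n with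
  | zero => exact isInvertible_structureModule
  | succ n ih => exact isInvertible_tensorMod ih hL

end Groth.Agent.Helper4.TensorInv
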