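import Mathlib
import Groth.Prelude.Def_WeakSerre
import Groth.Agent.Helper1.WayOut2
import Groth.Agent.Helper1.DerSplit

/-! Weak Serre subcategories and objects of the derived category with cohomology in them. -/

set_option autoImplicit false
set_option linter.unusedSectionVars false
universe w v u

open CategoryTheory Limits Pretriangulated Triangulated DerivedCategory

namespace Groth.Agent.Helper4.WSerreLib

section Five

variable {C : Type u} [Category.{v} C] [Abelian C] (P : ObjectProperty C) [WSerre.IsWeakSerre P]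

lemma five {X₁ X₂ X₃ X₄ X₅ : C} (a : X₁ ⟶ X₂) (b : X₂ ⟶ X₃) (c : X₃ ⟶ X₄) (d : X₄ ⟶ X₅)
    (wab : a ≫ b = 0) (wbc : b ≫ c = 0) (wcd : c ≫ d = 0)
    (hab : (ShortComplex.mk a b wab).Exact) (hbc : (ShortComplex.mk b c wbc).Exact)
    (hcd : (ShortComplex.mk c d wcd).Exact)
    (h₁ : P X₁) (h₂ : P X₂) (h₄ : P X₄) (h₅ : P X₅) : P X₃ := by
  let i : cokernel a ⟶ X₃ := cokernel.desc a b wab
  let p : X₃ ⟶ kernel d := kernel.lift d c wcd
  have hi : Mono i := hab.mono_cokernelDesc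
  have hp : Epi p := hcd.epi_kernelLift
  have wic : i ≫ c = 0 := by
    apply coequalizer.hom_ext
    simp [i, wbc]
  have w : i ≫ p = 0 := by
    apply equalizer.hom_ext
    simp [p, wic]
  have e1 : (ShortComplex.mk i c wic).Exact := by
    let φ : ShortComplex.mk b c wbc ⟶ ShortComplex.mk i c wic :=
      { τ₁ := cokernel.π a
        τ₂ := 𝟙 _
        τ₃ := 𝟙 _
        comm₁₂ := by simp [i]
        comm₂₃ := by simp }
    haveI : Epi φ.τ₁ := inferInstanceAs (Epi (cokernel.π a))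
    haveI : IsIso φ.τ₂ := inferInstanceAs (IsIso (𝟙 X₃))
    haveI : Mono φ.τ₃ := inferInstanceAs (Mono (𝟙 X₄))
    exact (ShortComplex.exact_iff_of_epi_of_isIso_of_mono φ).1 hbc
  have e2 : (ShortComplex.mk i p w).Exact := by
    let φ : ShortComplex.mk i p w ⟶ ShortComplex.mk i c wic :=
      { τ₁ := 𝟙 _
        τ₂ := 𝟙 _
        τ₃ := kernel.ι d
        comm₁₂ := by simp
        comm₂₃ := by simp [p] }
    haveI : Epi φ.τ₁ := inferInstanceAs (Epi (𝟙 (cokernel a)))
    haveI : IsIso φ.τ₂ := inferInstanceAs (IsIso (𝟙 X₃))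
    haveI : Mono φ.τ₃ := inferInstanceAs (Mono (kernel.ι d))
    exact (ShortComplex.exact_iff_of_epi_of_isIso_of_mono φ).2 e1
  have hS : (ShortComplex.mk i p w).ShortExact := { exact := e2, mono_f := hi, epi_g := hp }
  exact P.prop_X₂_of_shortExact hS (P.prop_cokernel a h₁ h₂) (P.prop_kernel d h₄ h₅)

end Five

section CohIn

variable {C : Type u} [Category.{v} C] [Abelian C] [HasDerivedCategory.{w} C]
  (P : ObjectProperty C) [WSerre.IsWeakSerre P]

lemma prop_of_isZero (Z : C) (hZ : IsZero Z) : P Z := by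
  obtain ⟨Z', hZ', hP⟩ := P.exists_prop_of_containsZero
  exact P.prop_of_iso (hZ'.iso hZ) hP

lemma cohIn_of_iso {X Y : DerivedCategory C} (e : X ≅ Y) (h : WSerre.cohIn P X) :
    WSerre.cohIn P Y :=
  fun i => P.prop_of_iso ((homologyFunctor C i).mapIso e) (h i)

lemma cohIn_of_isZero {X : DerivedCategory C} (hX : IsZero X) : WSerre.cohIn P X :=
  fun i => prop_of_isZero P _ ((homologyFunctor C i).map_isZero hX)

lemma cohIn_ext (T : Triangle (DerivedCategory C)) (hT : T ∈ distTriang _)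
    (h₁ : WSerre.cohIn P T.obj₁) (h₃ : WSerre.cohIn P T.obj₃) : WSerre.cohIn P T.obj₂ := by
  intro i
  exact five P (HomologySequence.δ T (i - 1) i (by omega)) ((homologyFunctor C i).map T.mor₁)
    ((homologyFunctor C i).map T.mor₂) (HomologySequence.δ T i (i + 1) rfl) _ _ _
    (HomologySequence.exact₁ T hT (i - 1) i (by omega)) (HomologySequence.exact₂ T hT i)
    (HomologySequence.exact₃ T hT i (i + 1) rfl) (h₃ (i - 1)) (h₁ i) (h₃ i) (h₁ (i + 1))

lemma cohIn_shift (X : DerivedCategory C) (n : ℤ) (h : WSerre.cohIn P X) :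
    WSerre.cohIn P (X⟦n⟧) :=
  fun i => P.prop_of_iso (((homologyFunctor C 0).shiftIso n i (n + i) rfl).app X).symm (h (n + i))

lemma cohIn_single (M : C) (hM : P M) (j : ℤ) :
    WSerre.cohIn P ((singleFunctor C j).obj M) := by
  intro i
  by_cases h : j = i
  · subst h
    exact P.prop_of_iso ((singleFunctorCompHomologyFunctorIso C j).app M).symm hM
  · exact prop_of_isZero P _ (Groth.Agent.Helper1.DerInd.isZero_homology_single M j i h)

end CohIn

section Functor

open Groth.Agent.Helper1.WayOut Groth.Agent.Helper1.DerTrunc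

universe w' v' u'

variable {𝒜 : Type u} [Category.{v} 𝒜] [Abelian 𝒜] [HasDerivedCategory.{w} 𝒜]
  {ℬ : Type u'} [Category.{v'} ℬ] [Abelian ℬ] [HasDerivedCategory.{w'} ℬ]
  (A : ObjectProperty 𝒜) [WSerre.IsWeakSerre A] (A' : ObjectProperty ℬ) [WSerre.IsWeakSerre A']
  (R : DerivedCategory 𝒜 ⥤ DerivedCategory ℬ) [R.CommShift ℤ] [R.IsTriangulated]

/-- bounded case -/
lemma cohIn_map_of_bounded
    (hR : ∀ M : 𝒜, A M → WSerre.cohIn A' (R.obj ((singleFunctor 𝒜 0).obj M)))
    (X : DerivedCategory 𝒜) (a b : ℤ) [X.IsGE a] [X.IsLE b] (hX : WSerre.cohIn A X) :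
    WSerre.cohIn A' (R.obj X) := by
  let Z : ObjectProperty (DerivedCategory 𝒜) := fun W => WSerre.cohIn A' (R.obj W)
  haveI : Z.IsClosedUnderIsomorphisms := ⟨fun e h => cohIn_of_iso A' (R.mapIso e) h⟩
  refine Groth.Agent.Helper1.DerInd.bounded_induction Z
    (fun Y hY => cohIn_of_isZero A' (R.map_isZero hY))
    (fun T hT h₁ h₃ => cohIn_ext A' (R.mapTriangle.obj T) (R.map_distinguished T hT) h₁ h₃)
    X a b (fun j => ?_)
  have e2 : ((singleFunctor 𝒜 0).obj ((homologyFunctor 𝒜 j).obj X))⟦-j⟧ ≅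
      (singleFunctor 𝒜 j).obj ((homologyFunctor 𝒜 j).obj X) :=
    ((singleFunctors 𝒜).shiftIso (-j) j 0 (by omega)).app _
  have e3 : R.obj (((singleFunctor 𝒜 0).obj ((homologyFunctor 𝒜 j).obj X))⟦-j⟧) ≅
      (R.obj ((singleFunctor 𝒜 0).obj ((homologyFunctor 𝒜 j).obj X)))⟦-j⟧ :=
    (R.commShiftIso (-j)).app _
  exact cohIn_of_iso A' (e3.symm ≪≫ R.mapIso e2) (cohIn_shift A' _ (-j) (hR _ (hX j)))

/-- bounded below case, for a left t-exact functor -/
lemma cohIn_map_of_isGE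
    (hR : ∀ M : 𝒜, A M → WSerre.cohIn A' (R.obj ((singleFunctor 𝒜 0).obj M)))
    (hRge : ∀ (Y : DerivedCategory 𝒜) (n : ℤ), Y.IsGE n → (R.obj Y).IsGE n)
    (X : DerivedCategory 𝒜) (a : ℤ) [X.IsGE a] (hX : WSerre.cohIn A X) :
    WSerre.cohIn A' (R.obj X) := by
  intro i
  obtain ⟨m, hm⟩ : ∃ m : ℤ, m = i + 2 := ⟨_, rfl⟩
  have hT := (tD 𝒜).triangleLTGE_distinguished m X
  have hY : (((tD 𝒜).truncGE m).obj X).IsGE m := inferInstance
  have hYR : (R.obj (((tD 𝒜).truncGE m).obj X)).IsGE (i + 1) :=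
    hRge _ _ ((tD 𝒜).isGE_of_ge _ (i + 1) m (by omega))
  have hT' := R.map_distinguished _ hT
  have h1 : Mono ((homologyFunctor ℬ i).map (R.map (((tD 𝒜).truncLTι m).app X))) :=
    (HomologySequence.mono_homologyMap_mor₁_iff _ hT' (i - 1) i (by omega)).2
      (IsZero.eq_of_src (isZero_of_isGE (R.obj (((tD 𝒜).truncGE m).obj X)) (i + 1) (i - 1)
        (by omega)) _ _)
  have h2 : Epi ((homologyFunctor ℬ i).map (R.map (((tD 𝒜).truncLTι m).app X))) :=
    (HomologySequence.epi_homologyMap_mor₁_iff _ hT' i).2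
      (IsZero.eq_of_tgt (isZero_of_isGE (R.obj (((tD 𝒜).truncGE m).obj X)) (i + 1) i
        (by omega)) _ _)
  have h3 : IsIso ((homologyFunctor ℬ i).map (R.map (((tD 𝒜).truncLTι m).app X))) :=
    isIso_of_mono_of_epi _
  have h4 : (((tD 𝒜).truncLT m).obj X).IsGE a := inferInstance
  have h5 : (((tD 𝒜).truncLT m).obj X).IsLE (m - 1) := inferInstance
  have hb := cohIn_map_of_bounded A A' R hR (((tD 𝒜).truncLT m).obj X) a (m - 1)
    (prop_homology_truncLT A (prop_of_isZero A) X m hX)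
  exact A'.prop_of_iso (asIso ((homologyFunctor ℬ i).map (R.map (((tD 𝒜).truncLTι m).app X))))
    (hb i)

end Functor

end Groth.Agent.Helper4.WSerreLib
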