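import Mathlib
import Groth.Prelude.Def_DCoh2
import Groth.Agent.Helper4.WSerreLib
import Groth.Agent.Helper4.QcohLimits
import Groth.Agent.Helper4.QcohExt
import Groth.Agent.Helper4.RpushQc

/-! Quasi-coherent modules form a weak Serre subcategory of `O_X`-modules; consequently `D_QCoh` is a
triangulated subcategory. -/

set_option autoImplicit false
universe u

open CategoryTheory CategoryTheory.Limits AlgebraicGeometry Pretriangulated ZeroObject

namespace Groth.Agent.Helper4.QcohWSerre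

attribute [local instance] HasDerivedCategory.standard

variable (X : Scheme.{u})

/-- the property of being quasi-coherent -/
abbrev qc : ObjectProperty X.Modules := fun M => M.IsQuasicoherent

instance : WSerre.IsWeakSerre (qc X) where
  exists_zero := ⟨0, isZero_zero _, RpushQc.isQuasicoherent_of_isZero (isZero_zero _)⟩
  kernels_le := by
    rintro _ ⟨f, k, hk, ⟨hX, hY⟩⟩
    have h := @QcohLimits.isQuasicoherent_kernel _ _ _ f hX hY
    exact @QcohLimits.isQuasicoherent_of_iso _ _ _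
      (IsLimit.conePointUniqueUpToIso (kernelIsKernel f) hk) h
  cokernels_le := by
    rintro _ ⟨f, k, hk, ⟨hX, hY⟩⟩
    have h := @QcohLimits.isQuasicoherent_cokernel _ _ _ f hX hY
    exact @QcohLimits.isQuasicoherent_of_iso _ _ _
      (IsColimit.coconePointUniqueUpToIso (cokernelIsCokernel f) hk) h
  prop_X₂_of_shortExact {S} hS h₁ h₃ := by
    haveI : S.X₁.IsQuasicoherent := h₁
    haveI : S.X₃.IsQuasicoherent := h₃
    exact QcohExt.isQuasicoherent_of_shortExact S hS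

variable {X}

theorem isQCohD_iff (K : DCoh.D X) : DCoh.IsQCohD K ↔ WSerre.cohIn (qc X) K := Iff.rfl

/-- two out of three: `obj₁`, `obj₃` ⇒ `obj₂` -/
theorem isQCohD_obj₂ (T : Triangle (DCoh.D X)) (hT : T ∈ distTriang _)
    (h₁ : DCoh.IsQCohD T.obj₁) (h₃ : DCoh.IsQCohD T.obj₃) : DCoh.IsQCohD T.obj₂ :=
  WSerreLib.cohIn_ext (qc X) T hT h₁ h₃

theorem isQCohD_shift (K : DCoh.D X) (n : ℤ) (h : DCoh.IsQCohD K) : DCoh.IsQCohD (K⟦n⟧) :=
  WSerreLib.cohIn_shift (qc X) K n h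

theorem isQCohD_of_iso {K L : DCoh.D X} (e : K ≅ L) (h : DCoh.IsQCohD K) : DCoh.IsQCohD L :=
  WSerreLib.cohIn_of_iso (qc X) e h

/-- two out of three: `obj₂`, `obj₃` ⇒ `obj₁` -/
theorem isQCohD_obj₁ (T : Triangle (DCoh.D X)) (hT : T ∈ distTriang _)
    (h₂ : DCoh.IsQCohD T.obj₂) (h₃ : DCoh.IsQCohD T.obj₃) : DCoh.IsQCohD T.obj₁ := by
  -- `T.invRotate : obj₃⟦-1⟧ ⟶ obj₁ ⟶ obj₂`
  have h := isQCohD_obj₂ T.invRotate (inv_rot_of_distTriang _ hT)
    (isQCohD_shift _ (-1) h₃) h₂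
  exact h

/-- two out of three: `obj₁`, `obj₂` ⇒ `obj₃` -/
theorem isQCohD_obj₃ (T : Triangle (DCoh.D X)) (hT : T ∈ distTriang _)
    (h₁ : DCoh.IsQCohD T.obj₁) (h₂ : DCoh.IsQCohD T.obj₂) : DCoh.IsQCohD T.obj₃ := by
  have h := isQCohD_obj₂ T.rotate (rot_of_distTriang _ hT) h₂ (isQCohD_shift _ 1 h₁)
  exact h

end Groth.Agent.Helper4.QcohWSerre
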