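import Mathlib
import Groth.Prelude.Def_DCoh3
import Groth.Prelude.Def_CohB1
import Groth.Agent.Lead.PcLib2

/-! Supports of cohomology sheaves vs. restriction to opens in `D(O_X)`. -/

set_option autoImplicit false
universe u

open CategoryTheory CategoryTheory.Limits AlgebraicGeometry
attribute [local instance] HasDerivedCategory.standard

namespace Groth.Agent.Helper4.SuppLib

variable {X : Scheme.{u}}

/-- a module with trivial stalks is zero -/
theorem isZero_of_stalks (M : X.Modules) (h : ∀ x : X, Subsingleton (M.presheaf.stalk x)) :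
    IsZero M := by
  rw [IsZero.iff_id_eq_zero]
  apply Scheme.Modules.hom_ext
  intro U
  ext s
  show s = 0
  refine TopCat.Presheaf.section_ext (⟨M.presheaf, M.isSheaf⟩ : TopCat.Sheaf Ab X.toTopCat) U s 0
    (fun y hy => ?_)
  haveI := h y
  exact Subsingleton.elim (α := M.presheaf.stalk y) _ _

theorem isZero_of_support (M : X.Modules) (h : CohB1.support M = ∅) : IsZero M := by
  apply isZero_of_stalks
  intro x
  by_contra hx
  have : x ∈ CohB1.support M := hx
  rw [h] at this
  exact this

theorem subsingleton_stalk_of_isZero (M : X.Modules) (h : IsZero M) (x : X) :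
    Subsingleton (M.presheaf.stalk x) := by
  have h2 : IsZero ((Scheme.Modules.toPresheaf X ⋙ TopCat.Presheaf.stalkFunctor Ab.{u} x).obj M) :=
    Functor.map_isZero _ h
  exact AddCommGrpCat.subsingleton_of_isZero h2

theorem support_eq_empty_of_isZero (M : X.Modules) (h : IsZero M) : CohB1.support M = ∅ := by
  ext x
  simp only [Set.mem_empty_iff_false, iff_false]
  intro hx
  exact hx (subsingleton_stalk_of_isZero M h x)

section restrict

variable {U : Scheme.{u}} (j : U ⟶ X) [IsOpenImmersion j]

theorem subsingleton_stalk_restrict_iff (M : X.Modules) (x : U) :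
    Subsingleton (((Scheme.Modules.restrictFunctor j).obj M).presheaf.stalk x) ↔
      Subsingleton (M.presheaf.stalk (j x)) := by
  have e := (Scheme.Modules.restrictStalkNatIso j x).app M
  constructor
  · intro h
    have h1 : IsZero ((Scheme.Modules.restrictFunctor j ⋙ Scheme.Modules.toPresheaf U ⋙
        TopCat.Presheaf.stalkFunctor Ab.{u} x).obj M) :=
      @AddCommGrpCat.isZero_of_subsingleton _ h
    exact AddCommGrpCat.subsingleton_of_isZero (h1.of_iso e.symm)
  · intro h
    have h1 : IsZero ((Scheme.Modules.toPresheaf X ⋙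
        TopCat.Presheaf.stalkFunctor Ab.{u} (j x)).obj M) :=
      @AddCommGrpCat.isZero_of_subsingleton _ h
    exact AddCommGrpCat.subsingleton_of_isZero (h1.of_iso e)

theorem support_restrict (M : X.Modules) :
    CohB1.support ((Scheme.Modules.restrictFunctor j).obj M) = (fun x => j x) ⁻¹' CohB1.support M := by
  ext x
  show ¬ _ ↔ ¬ _
  rw [subsingleton_stalk_restrict_iff]

end restrict


section derived

/-- an object of the derived category with vanishing cohomology is zero -/
theorem isZero_of_homology {C : Type*} [Category C] [Abelian C] [HasDerivedCategory C]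
    (E : DerivedCategory C)
    (h : ∀ i : ℤ, IsZero ((DerivedCategory.homologyFunctor C i).obj E)) : IsZero E := by
  obtain ⟨Z0, hz0⟩ := HasZeroObject.zero (C := DerivedCategory C)
  have : IsIso (0 : E ⟶ Z0) := by
    rw [DerivedCategory.isIso_iff]
    intro n
    exact ⟨0, (h n).eq_of_src _ _, (Functor.map_isZero _ hz0).eq_of_src _ _⟩
  exact hz0.of_iso (asIso (0 : E ⟶ Z0))

theorem isZero_of_HD (E : DCoh.D X) (h : ∀ i : ℤ, IsZero (DCoh.HD E i)) : IsZero E :=
  isZero_of_homology E h

variable {U : Scheme.{u}} (j : U ⟶ X) [IsOpenImmersion j]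
  [PreservesFiniteLimits (Scheme.Modules.restrictFunctor j)]

/-- cohomology sheaves commute with restriction to an open subscheme -/
noncomputable def HDRestrictIso (E : DCoh.D X) (i : ℤ) :
    DCoh.HD ((DCoh.restrictD j).obj E) i ≅ (Scheme.Modules.restrictFunctor j).obj (DCoh.HD E i) :=
  (Groth.Agent.Lead.PcLib.mapDerivedCategoryHomologyIso (Scheme.Modules.restrictFunctor j) i).app E

theorem support_HD_restrictD (E : DCoh.D X) (i : ℤ) :
    CohB1.support (DCoh.HD ((DCoh.restrictD j).obj E) i) =
      (fun x => j x) ⁻¹' CohB1.support (DCoh.HD E i) := by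
  rw [← support_restrict]
  ext x
  show ¬ _ ↔ ¬ _
  have e := (Scheme.Modules.toPresheaf U ⋙ TopCat.Presheaf.stalkFunctor Ab.{u} x).mapIso
    (HDRestrictIso j E i)
  constructor
  · intro h h'
    apply h
    have h1 : IsZero ((Scheme.Modules.toPresheaf U ⋙ TopCat.Presheaf.stalkFunctor Ab.{u} x).obj
        ((Scheme.Modules.restrictFunctor j).obj (DCoh.HD E i))) :=
      @AddCommGrpCat.isZero_of_subsingleton _ h'
    exact AddCommGrpCat.subsingleton_of_isZero (h1.of_iso e)
  · intro h h'
    apply h
    have h1 : IsZero ((Scheme.Modules.toPresheaf U ⋙ TopCat.Presheaf.stalkFunctor Ab.{u} x).obj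
        (DCoh.HD ((DCoh.restrictD j).obj E) i)) :=
      @AddCommGrpCat.isZero_of_subsingleton _ h'
    exact AddCommGrpCat.subsingleton_of_isZero (h1.of_iso e.symm)

theorem isZero_restrictD_iff (E : DCoh.D X) :
    IsZero ((DCoh.restrictD j).obj E) ↔ ∀ (i : ℤ) (x : U), j x ∉ CohB1.support (DCoh.HD E i) := by
  constructor
  · intro h i x hx
    have h1 : IsZero (DCoh.HD ((DCoh.restrictD j).obj E) i) := Functor.map_isZero _ h
    have h2 := support_eq_empty_of_isZero _ h1
    rw [support_HD_restrictD] at h2
    have : x ∈ (fun x => j x) ⁻¹' CohB1.support (DCoh.HD E i) := hx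
    rw [h2] at this
    exact this
  · intro h
    apply isZero_of_HD
    intro i
    apply isZero_of_support
    rw [support_HD_restrictD]
    ext x
    simp only [Set.mem_preimage, Set.mem_empty_iff_false, iff_false]
    exact h i x

end derived

section conservative

open Pretriangulated

/-- restrictions to the members of an open cover are jointly conservative on `D(O_X)` -/
theorem isZero_of_restrict {ι : Type*} (V : ι → X.Opens) (hV : ∀ x : X, ∃ i, x ∈ V i)
    [∀ i, PreservesFiniteLimits (Scheme.Modules.restrictFunctor (V i).ι)] (C : DCoh.D X)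
    (h : ∀ i, IsZero ((DCoh.restrictD (V i).ι).obj C)) : IsZero C := by
  apply isZero_of_HD
  intro n
  apply isZero_of_stalks
  intro x
  obtain ⟨i, hi⟩ := hV x
  have h1 := (isZero_restrictD_iff (V i).ι C).1 (h i) n ⟨x, hi⟩
  by_contra hx
  exact h1 hx

theorem isIso_of_restrict {ι : Type*} (V : ι → X.Opens) (hV : ∀ x : X, ∃ i, x ∈ V i)
    [∀ i, PreservesFiniteLimits (Scheme.Modules.restrictFunctor (V i).ι)] {E F : DCoh.D X}
    (φ : E ⟶ F) (h : ∀ i, IsIso ((DCoh.restrictD (V i).ι).map φ)) : IsIso φ := by
  obtain ⟨C, g, k, hT⟩ := distinguished_cocone_triangle φ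
  refine (Triangle.isZero₃_iff_isIso₁ _ hT).1 ?_
  show IsZero C
  apply isZero_of_restrict V hV
  intro i
  have hT' := (DCoh.restrictD (V i).ι).map_distinguished _ hT
  exact (Triangle.isZero₃_iff_isIso₁ _ hT').2 (h i)

end conservative

end Groth.Agent.Helper4.SuppLib
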