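import Mathlib
import Groth.Agent.Helper4.KDerAdj

/-! Total right derived functors on `D(B)`, `B` Grothendieck abelian, send distinguished triangles
to distinguished triangles (up to the choice of the third map). -/

set_option autoImplicit false
set_option linter.unusedSectionVars false
universe w w' v v' u u'

open CategoryTheory Limits Pretriangulated

namespace Groth.Agent.Helper4.RDerTri

section Generic

variable {C D E : Type*} [Category C] [Category D] [Category E]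
  [HasShift C ℤ] [HasShift D ℤ] [HasShift E ℤ]
  [HasZeroObject C] [HasZeroObject D] [HasZeroObject E]
  [Preadditive C] [Preadditive D] [Preadditive E]
  [∀ (n : ℤ), (shiftFunctor C n).Additive] [∀ (n : ℤ), (shiftFunctor D n).Additive]
  [∀ (n : ℤ), (shiftFunctor E n).Additive]
  [Pretriangulated C] [Pretriangulated D] [Pretriangulated E]

/-- transport of a distinguished triangle along isomorphisms of the vertices compatible with the
first two maps -/
lemma exists_of_isos (T' : Triangle E) (hT' : T' ∈ distTriang E) {X₁ X₂ X₃ : E}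
    (m₁ : X₁ ⟶ X₂) (m₂ : X₂ ⟶ X₃) (u₁ : X₁ ≅ T'.obj₁) (u₂ : X₂ ≅ T'.obj₂) (u₃ : X₃ ≅ T'.obj₃)
    (h₁ : m₁ ≫ u₂.hom = u₁.hom ≫ T'.mor₁) (h₂ : m₂ ≫ u₃.hom = u₂.hom ≫ T'.mor₂) :
    ∃ c : X₃ ⟶ X₁⟦(1 : ℤ)⟧, Triangle.mk m₁ m₂ c ∈ distTriang E := by
  refine ⟨u₃.hom ≫ T'.mor₃ ≫ u₁.inv⟦(1 : ℤ)⟧', ?_⟩
  refine isomorphic_distinguished _ hT' _ (Triangle.isoMk _ _ u₁ u₂ u₃ h₁ h₂ ?_)
  change (u₃.hom ≫ T'.mor₃ ≫ u₁.inv⟦(1 : ℤ)⟧') ≫ u₁.hom⟦(1 : ℤ)⟧' = u₃.hom ≫ T'.mor₃
  simp only [Category.assoc, ← Functor.map_comp, Iso.inv_hom_id]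
  rw [CategoryTheory.Functor.map_id, Category.comp_id]

variable (Gi : C ⥤ D) [Gi.CommShift ℤ] [Gi.IsTriangulated] [Gi.mapArrow.EssSurj]
  (H : C ⥤ E) [H.CommShift ℤ] [H.IsTriangulated] (R : D ⥤ E) (e : Gi ⋙ R ≅ H)

include e in
lemma exists_distinguished (T : Triangle D) (hT : T ∈ distTriang D) :
    ∃ c : R.obj T.obj₃ ⟶ (R.obj T.obj₁)⟦(1 : ℤ)⟧,
      Triangle.mk (R.map T.mor₁) (R.map T.mor₂) c ∈ distTriang E := by
  obtain ⟨T', hT', ⟨i⟩⟩ := Gi.mem_mapTriangle_essImage_of_distinguished T hT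
  have hH := H.map_distinguished T' hT'
  let i₁ : Gi.obj T'.obj₁ ≅ T.obj₁ := Triangle.π₁.mapIso i
  let i₂ : Gi.obj T'.obj₂ ≅ T.obj₂ := Triangle.π₂.mapIso i
  let i₃ : Gi.obj T'.obj₃ ≅ T.obj₃ := Triangle.π₃.mapIso i
  have c₁ : Gi.map T'.mor₁ ≫ i₂.hom = i₁.hom ≫ T.mor₁ := i.hom.comm₁
  have c₂ : Gi.map T'.mor₂ ≫ i₃.hom = i₂.hom ≫ T.mor₂ := i.hom.comm₂
  refine exists_of_isos (H.mapTriangle.obj T') hH (R.map T.mor₁) (R.map T.mor₂)
    (R.mapIso i₁.symm ≪≫ e.app T'.obj₁) (R.mapIso i₂.symm ≪≫ e.app T'.obj₂)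
    (R.mapIso i₃.symm ≪≫ e.app T'.obj₃) ?_ ?_
  · have h := e.hom.naturality T'.mor₁
    dsimp at h ⊢
    change R.map T.mor₁ ≫ R.map i₂.inv ≫ e.hom.app T'.obj₂ =
      (R.map i₁.inv ≫ e.hom.app T'.obj₁) ≫ H.map T'.mor₁
    rw [Category.assoc, ← h, ← R.map_comp_assoc, ← R.map_comp_assoc]
    congr 2
    rw [← cancel_mono i₂.hom, Category.assoc, Category.assoc, Iso.inv_hom_id, Category.comp_id,
      c₁, Iso.inv_hom_id_assoc]
  · have h := e.hom.naturality T'.mor₂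
    dsimp at h ⊢
    change R.map T.mor₂ ≫ R.map i₃.inv ≫ e.hom.app T'.obj₃ =
      (R.map i₂.inv ≫ e.hom.app T'.obj₂) ≫ H.map T'.mor₂
    rw [Category.assoc, ← h, ← R.map_comp_assoc, ← R.map_comp_assoc]
    congr 2
    rw [← cancel_mono i₃.hom, Category.assoc, Category.assoc, Iso.inv_hom_id, Category.comp_id,
      c₂, Iso.inv_hom_id_assoc]

end Generic

section Derived

open Groth.Agent.Helper1 DerivedCategory

variable {A : Type u} [Category.{v} A] [Abelian A] [HasDerivedCategory.{w} A]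
  {B : Type u'} [Category.{v'} B] [Abelian B] [IsGrothendieckAbelian.{v'} B]
  [HasDerivedCategory.{w'} B]
  (F : B ⥤ A) [F.Additive] (RF : DerivedCategory B ⥤ DerivedCategory A)
  (β : F.mapHomotopyCategory (ComplexShape.up ℤ) ⋙ DerivedCategory.Qh ⟶ DerivedCategory.Qh ⋙ RF)
  [RF.IsRightDerivedFunctor β (HomotopyCategory.quasiIso B (ComplexShape.up ℤ))]

/-- the comparison isomorphism on K-injective complexes -/
noncomputable def eK : (KInjDer.G (A := B)) ⋙ RF ≅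
    (KInjDer.P B).ι ⋙ F.mapHomotopyCategory (ComplexShape.up ℤ) ⋙ DerivedCategory.Qh :=
  (NatIso.ofComponents (fun X => @asIso _ _ _ _ (β.app X.obj) (KDerAdj.isIso_β_app RF β X))
    (fun {X Y} f => β.naturality ((KInjDer.P B).ι.map f))).symm

include β in
/-- a total right derived functor on `D(B)` sends distinguished triangles to distinguished
triangles, up to the choice of the third map -/
theorem exists_distinguished_map (T : Triangle (DerivedCategory B))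
    (hT : T ∈ distTriang (DerivedCategory B)) :
    ∃ c : RF.obj T.obj₃ ⟶ (RF.obj T.obj₁)⟦(1 : ℤ)⟧,
      Triangle.mk (RF.map T.mor₁) (RF.map T.mor₂) c ∈ distTriang (DerivedCategory A) := by
  haveI : (KInjDer.G (A := B)).EssSurj := KInjDer.essSurj KDerAdj.hKinj
  exact exists_distinguished (KInjDer.G (A := B))
    ((KInjDer.P B).ι ⋙ F.mapHomotopyCategory (ComplexShape.up ℤ) ⋙ DerivedCategory.Qh) RF
    (eK F RF β) T hT

end Derived

end Groth.Agent.Helper4.RDerTri
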