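import Mathlib
import Groth.Agent.Helper4.RDerTri

/-! Total right derived functors on `D(B)`, `B` Grothendieck abelian, are additive. -/

set_option autoImplicit false
set_option linter.unusedSectionVars false
universe w w' v v' u u'

open CategoryTheory Limits Pretriangulated

namespace Groth.Agent.Helper4.RDerAdd

open Groth.Agent.Helper1 DerivedCategory

variable {A : Type u} [Category.{v} A] [Abelian A] [HasDerivedCategory.{w} A]
  {B : Type u'} [Category.{v'} B] [Abelian B] [IsGrothendieckAbelian.{v'} B]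
  [HasDerivedCategory.{w'} B]
  (F : B ⥤ A) [F.Additive] (RF : DerivedCategory B ⥤ DerivedCategory A)
  (β : F.mapHomotopyCategory (ComplexShape.up ℤ) ⋙ DerivedCategory.Qh ⟶ DerivedCategory.Qh ⋙ RF)
  [RF.IsRightDerivedFunctor β (HomotopyCategory.quasiIso B (ComplexShape.up ℤ))]

include β in
theorem isZero_obj (Z : DerivedCategory B) (hZ : IsZero Z) : IsZero (RF.obj Z) := by
  obtain ⟨Z0, hz0⟩ := HasZeroObject.zero (C := HomotopyCategory B (ComplexShape.up ℤ))
  have hP : KInjDer.P B Z0 := fun K f _ => hz0.eq_of_tgt _ _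
  let X : (KInjDer.P B).FullSubcategory := ⟨Z0, hP⟩
  haveI : IsIso (β.app Z0) := KDerAdj.isIso_β_app RF β X
  have h1 : IsZero ((F.mapHomotopyCategory (ComplexShape.up ℤ) ⋙ DerivedCategory.Qh).obj Z0) :=
    Functor.map_isZero _ hz0
  have h2 : IsZero (RF.obj (DerivedCategory.Qh.obj Z0)) := h1.of_iso (asIso (β.app Z0)).symm
  have h3 : IsZero (DerivedCategory.Qh.obj Z0) := Functor.map_isZero _ hz0
  exact h2.of_iso (RF.mapIso (hZ.iso h3))

include β in
theorem map_zero (P Q : DerivedCategory B) : RF.map (0 : P ⟶ Q) = 0 := by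
  obtain ⟨Z, hZ⟩ := HasZeroObject.zero (C := DerivedCategory B)
  have h : (0 : P ⟶ Q) = (0 : P ⟶ Z) ≫ (0 : Z ⟶ Q) := by simp
  rw [h, RF.map_comp]
  have h0 : RF.map (0 : P ⟶ Z) = 0 := (isZero_obj F RF β Z hZ).eq_of_tgt _ _
  rw [h0, zero_comp]


include β in
theorem map_biprod_total (P Q : DerivedCategory B) :
    RF.map (biprod.fst : P ⊞ Q ⟶ P) ≫ RF.map biprod.inl +
      RF.map (biprod.snd : P ⊞ Q ⟶ Q) ≫ RF.map biprod.inr = 𝟙 (RF.obj (P ⊞ Q)) := by
  have hT : Triangle.mk (biprod.inl : P ⟶ P ⊞ Q) (biprod.snd : P ⊞ Q ⟶ Q)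
      (0 : Q ⟶ P⟦(1 : ℤ)⟧) ∈ distTriang (DerivedCategory B) :=
    binaryBiproductTriangle_distinguished P Q
  obtain ⟨c, hc⟩ := RDerTri.exists_distinguished_map F RF β _ hT
  have h11 : RF.map (biprod.inl : P ⟶ P ⊞ Q) ≫ RF.map biprod.fst = 𝟙 _ := by
    rw [← RF.map_comp, biprod.inl_fst, CategoryTheory.Functor.map_id]
  have h12 : RF.map (biprod.inl : P ⟶ P ⊞ Q) ≫ RF.map biprod.snd = 0 := by
    rw [← RF.map_comp, biprod.inl_snd, map_zero F RF β]
  have h21 : RF.map (biprod.inr : Q ⟶ P ⊞ Q) ≫ RF.map biprod.fst = 0 := by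
    rw [← RF.map_comp, biprod.inr_fst, map_zero F RF β]
  have h22 : RF.map (biprod.inr : Q ⟶ P ⊞ Q) ≫ RF.map biprod.snd = 𝟙 _ := by
    rw [← RF.map_comp, biprod.inr_snd, CategoryTheory.Functor.map_id]
  let e : RF.obj (P ⊞ Q) ⟶ RF.obj (P ⊞ Q) :=
    𝟙 _ - (RF.map biprod.fst ≫ RF.map biprod.inl + RF.map biprod.snd ≫ RF.map biprod.inr)
  have he1 : RF.map (biprod.inl : P ⟶ P ⊞ Q) ≫ e = 0 := by
    simp only [e, Preadditive.comp_sub, Preadditive.comp_add, Category.comp_id]
    rw [← Category.assoc, h11, Category.id_comp, ← Category.assoc, h12, zero_comp, add_zero,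
      sub_self]
  have he2 : RF.map (biprod.inr : Q ⟶ P ⊞ Q) ≫ e = 0 := by
    simp only [e, Preadditive.comp_sub, Preadditive.comp_add, Category.comp_id]
    rw [← Category.assoc, h21, zero_comp, ← Category.assoc, h22, Category.id_comp, zero_add,
      sub_self]
  obtain ⟨(e' : RF.obj Q ⟶ RF.obj (P ⊞ Q)), (he' : e = RF.map biprod.snd ≫ e')⟩ :=
    Triangle.yoneda_exact₂ _ hc e he1
  have he'0 : e' = 0 := by
    have : RF.map (biprod.inr : Q ⟶ P ⊞ Q) ≫ e = e' := by
      rw [he', ← Category.assoc, h22, Category.id_comp]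
    rw [← this, he2]
  have he0 : e = 0 := by rw [he', he'0, comp_zero]
  exact (sub_eq_zero.1 he0).symm

/-- a total right derived functor commutes with binary biproducts -/
noncomputable def mapBiprodIso (P Q : DerivedCategory B) :
    RF.obj (P ⊞ Q) ≅ RF.obj P ⊞ RF.obj Q where
  hom := biprod.lift (RF.map biprod.fst) (RF.map biprod.snd)
  inv := biprod.desc (RF.map biprod.inl) (RF.map biprod.inr)
  hom_inv_id := by
    rw [biprod.lift_desc]
    exact map_biprod_total F RF β P Q
  inv_hom_id := by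
    ext
    · simp only [Category.assoc, biprod.lift_fst, biprod.inl_desc_assoc, Category.id_comp,
        biprod.inl_fst]
      rw [← RF.map_comp, biprod.inl_fst, CategoryTheory.Functor.map_id]
    · simp only [Category.assoc, biprod.lift_snd, biprod.inl_desc_assoc, Category.id_comp,
        biprod.inl_snd]
      rw [← RF.map_comp, biprod.inl_snd, map_zero F RF β]
    · simp only [Category.assoc, biprod.lift_fst, biprod.inr_desc_assoc, Category.id_comp,
        biprod.inr_fst]
      rw [← RF.map_comp, biprod.inr_fst, map_zero F RF β]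
    · simp only [Category.assoc, biprod.lift_snd, biprod.inr_desc_assoc, Category.id_comp,
        biprod.inr_snd]
      rw [← RF.map_comp, biprod.inr_snd, CategoryTheory.Functor.map_id]

end Groth.Agent.Helper4.RDerAdd
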