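import Mathlib

/-!
# Descent of a finite presentation along a ring map, given a lift of the presentation matrix
-/

set_option autoImplicit false

namespace Groth.Agent.Helper4.FPDescent

open TensorProduct

variable {R A : Type*} [CommRing R] [CommRing A] [Algebra R A]

/-- the `R`-linear map with matrix `w` -/
noncomputable def gR {m n : ℕ} (w : Fin m → Fin n → R) : (Fin m → R) →ₗ[R] (Fin n → R) :=
  Fintype.linearCombination R w

theorem gR_single {m n : ℕ} (w : Fin m → Fin n → R) (k : Fin m) :
    gR w (Pi.single k 1) = w k := by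
  simp [gR, Fintype.linearCombination_apply_single]

theorem square {m n : ℕ} (g : (Fin m → A) →ₗ[A] (Fin n → A)) (w : Fin m → Fin n → R)
    (hw : ∀ k j, algebraMap R A (w k j) = g (Pi.single k 1) j) :
    (TensorProduct.piScalarRight R A A (Fin n)).toLinearMap ∘ₗ (gR w).baseChange A
      = g ∘ₗ (TensorProduct.piScalarRight R A A (Fin m)).toLinearMap := by
  apply TensorProduct.AlgebraTensorModule.curry_injective
  apply LinearMap.ext_ring
  apply LinearMap.pi_ext'
  intro k
  apply LinearMap.ext_ring
  funext j
  simp only [TensorProduct.AlgebraTensorModule.curry_apply, LinearMap.restrictScalars_comp,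
    TensorProduct.curry_apply, LinearMap.coe_comp, LinearMap.coe_restrictScalars,
    LinearEquiv.coe_coe, Function.comp_apply, LinearMap.baseChange_tmul, LinearMap.coe_single,
    gR_single, TensorProduct.piScalarRight_apply, TensorProduct.piScalarRightHom_tmul]
  rw [Algebra.smul_def, mul_one, hw]
  have h1 : (fun j => (Pi.single k (1 : R) : Fin m → R) j • (1 : A)) = Pi.single k 1 := by
    funext k'
    by_cases h : k' = k
    · subst h; simp
    · simp [Pi.single_apply, h]
  rw [h1]

theorem range_eq {m n : ℕ} (g : (Fin m → A) →ₗ[A] (Fin n → A)) (w : Fin m → Fin n → R)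
    (hw : ∀ k j, algebraMap R A (w k j) = g (Pi.single k 1) j) :
    (LinearMap.range ((gR w).baseChange A)).map
        (TensorProduct.piScalarRight R A A (Fin n)).toLinearMap = LinearMap.range g := by
  rw [← LinearMap.range_comp, square g w hw, LinearMap.range_comp, LinearEquiv.range,
    Submodule.map_top]

theorem nonempty_equiv {m n : ℕ} (g : (Fin m → A) →ₗ[A] (Fin n → A)) (w : Fin m → Fin n → R)
    (hw : ∀ k j, algebraMap R A (w k j) = g (Pi.single k 1) j) :
    Nonempty (((Fin n → A) ⧸ LinearMap.range g) ≃ₗ[A]
      A ⊗[R] ((Fin n → R) ⧸ LinearMap.range (gR w))) := by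
  have hex : Function.Exact ((gR w).baseChange A) ((LinearMap.range (gR w)).mkQ.baseChange A) :=
    lTensor_exact A (LinearMap.exact_map_mkQ_range (gR w)) (Submodule.mkQ_surjective _)
  have hsurj : Function.Surjective ((LinearMap.range (gR w)).mkQ.baseChange A) :=
    LinearMap.lTensor_surjective A (Submodule.mkQ_surjective _)
  have hker : LinearMap.ker ((LinearMap.range (gR w)).mkQ.baseChange A)
      = LinearMap.range ((gR w).baseChange A) := (LinearMap.exact_iff.mp hex)
  refine ⟨LinearEquiv.symm ?_⟩
  refine (LinearMap.quotKerEquivOfSurjective _ hsurj).symm ≪≫ₗ ?_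
  refine Submodule.Quotient.equiv _ _ (TensorProduct.piScalarRight R A A (Fin n)) ?_
  rw [hker]
  exact range_eq g w hw

theorem finitePresentation_coker {m n : ℕ} (w : Fin m → Fin n → R) :
    Module.FinitePresentation R ((Fin n → R) ⧸ LinearMap.range (gR w)) := by
  refine Module.finitePresentation_of_free_of_surjective (LinearMap.range (gR w)).mkQ
    (Submodule.mkQ_surjective _) ?_
  rw [Submodule.ker_mkQ, LinearMap.range_eq_map]
  exact Submodule.FG.map _ Module.Finite.fg_top

end Groth.Agent.Helper4.FPDescent
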