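import Mathlib

set_option autoImplicit false
universe u
open CategoryTheory CategoryTheory.Limits AlgebraicGeometry Opposite TopologicalSpace

namespace Groth.Agent.Helper4.SchLFP

/-- If `f ≫ g` is locally of finite presentation and `g` is locally of finite type, then `f` is
locally of finite presentation. -/
theorem locallyOfFinitePresentation_of_comp {X Y Z : Scheme.{u}} (f : X ⟶ Y) (g : Y ⟶ Z)
    [hfg : LocallyOfFinitePresentation (f ≫ g)] [hg : LocallyOfFiniteType g] :
    LocallyOfFinitePresentation f := by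
  rw [HasRingHomProperty.iff_exists_appLE (P := @LocallyOfFinitePresentation)
    (RingHom.finitePresentation_stableUnderComposition.stableUnderCompositionWithLocalizationAway
      RingHom.finitePresentation_holdsForLocalizationAway).left]
  intro x
  obtain ⟨W, hW, hxW, -⟩ := Opens.isBasis_iff_nbhd.mp Z.isBasis_affineOpens
    (Opens.mem_top (g (f x)))
  obtain ⟨U, hU, hxU, eU⟩ := Opens.isBasis_iff_nbhd.mp Y.isBasis_affineOpens
    (show f x ∈ g ⁻¹ᵁ W from hxW)
  obtain ⟨V, hV, hxV, eV⟩ := Opens.isBasis_iff_nbhd.mp X.isBasis_affineOpens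
    (show x ∈ f ⁻¹ᵁ U from hxU)
  refine ⟨⟨U, hU⟩, ⟨V, hV⟩, hxV, eV, ?_⟩
  have h1 : (g.appLE W U eU).hom.FiniteType :=
    HasRingHomProperty.appLE (P := @LocallyOfFiniteType) _ hg ⟨W, hW⟩ ⟨U, hU⟩ eU
  have h2 := HasRingHomProperty.appLE (P := @LocallyOfFinitePresentation) _ hfg ⟨W, hW⟩ ⟨V, hV⟩
    (eV.trans ((Opens.map f.base).map (homOfLE eU)).le)
  rw [← Scheme.Hom.appLE_comp_appLE f g W U V eU eV] at h2
  exact RingHom.FinitePresentation.of_comp_finiteType _ h2 h1

end Groth.Agent.Helper4.SchLFP
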