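import Mathlib
import Groth.Prelude.Def_CxOX
import Groth.Agent.Helper9.ShriekSh
import Groth.Agent.Helper9.KInjAdj

/-! Extension by zero along an open subscheme is exact; restriction to an open subscheme preserves
K-injective complexes. -/

set_option autoImplicit false
universe u

open CategoryTheory Limits AlgebraicGeometry

namespace Groth.Agent.Helper4.RestrKInj

variable {X : Scheme.{u}} (V : X.Opens)

theorem preservesFiniteLimits_extZero : PreservesFiniteLimits (CxOX.extZero V.ι) := by
  have h := Groth.Agent.Helper9.ShriekSh.preservesFiniteLimits_extZero X.sheaf V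
  have h2 : PreservesFiniteLimits ((Scheme.Modules.overEquiv V).inverse ⋙
      ModSite.extZero X.sheaf V) := @comp_preservesFiniteLimits _ _ _ _ _ _ _ _ inferInstance h
  exact @preservesFiniteLimits_of_natIso _ _ _ _ _ _ (CxOX.extZeroIsoSite V).symm h2

theorem isKInjective_restrict (I : CochainComplex X.Modules ℤ) [I.IsKInjective] :
    CochainComplex.IsKInjective
      (((Scheme.Modules.restrictFunctor V.ι).mapHomologicalComplex (ComplexShape.up ℤ)).obj I) := by
  haveI := preservesFiniteLimits_extZero V
  exact Groth.Agent.Helper9.KInjAdj.isKInjective_map (CxOX.extZeroAdj V.ι) I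

end Groth.Agent.Helper4.RestrKInj
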