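import Mathlib
import Groth.Prelude.Def_CxOX
import Groth.Agent.S6508
import Groth.Agent.Helper4.SuppLib
import Groth.Agent.Helper4.HasRD
import Groth.Agent.Helper4.SchAdj
import Groth.Agent.Helper4.KDerAdj
import Groth.Agent.Helper9.Lpull1

/-! `E ≅ Rj_*(E|_U)` for `E` supported on a closed subset contained in the open `U`. -/

set_option autoImplicit false
universe u

open CategoryTheory CategoryTheory.Limits AlgebraicGeometry Opposite
attribute [local instance] HasDerivedCategory.standard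

namespace Groth.Agent.Helper4.RjSupp

open Groth.Agent.Helper4.SuppLib

/-- `Rf_*` maps zero objects to zero objects -/
theorem isZero_Rpush {X Y : Scheme.{u}} (f : X ⟶ Y) [DCoh.HasRpush f] (E : DCoh.D X)
    (h : IsZero E) : IsZero ((DCoh.Rpush f).obj E) := by
  haveI := Groth.Agent.Helper9.Lpull1.hasLpull f
  have adj := Groth.Agent.Helper4.SchAdj.adj f
  rw [IsZero.iff_id_eq_zero]
  apply (adj.homEquiv _ _).symm.injective
  exact h.eq_of_tgt _ _

/-- if `E` vanishes over `f⁻¹ V` then `Rf_* E` vanishes over `V` -/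
theorem isZero_restrictD_Rpush {X Y : Scheme.{u}} (f : X ⟶ Y) [DCoh.HasRpush f] (V : Y.Opens)
    (E : DCoh.D X) (h : IsZero ((DCoh.restrictD (f ⁻¹ᵁ V).ι).obj E)) :
    IsZero ((DCoh.restrictD V.ι).obj ((DCoh.Rpush f).obj E)) := by
  haveI : DCoh.HasRpush (f ∣_ V) := Groth.Agent.Helper4.HasRD.hasRpush _
  obtain ⟨e⟩ := Groth.Agent.S6508.result f V
  exact (isZero_Rpush (f ∣_ V) _ h).of_iso (e.app E)

variable {X : Scheme.{u}} (U : X.Opens) [DCoh.HasRpush U.ι]

/-- the derived adjunction `j^* ⊣ Rj_*` -/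
noncomputable def dAdj : DCoh.restrictD U.ι ⊣ DCoh.Rpush U.ι :=
  haveI := Groth.Agent.Helper4.SchAdj.isGrothendieckAbelian_modules (U : Scheme.{u})
  Groth.Agent.Helper4.KDerAdj.derivedAdj (Scheme.Modules.restrictAdjunction U.ι) (DCoh.Rpush U.ι)
    ((DCoh.pushKh U.ι).totalRightDerivedUnit DerivedCategory.Qh
      (HomotopyCategory.quasiIso (U : Scheme.{u}).Modules (ComplexShape.up ℤ)))

instance isIso_counit : IsIso (dAdj U).counit :=
  haveI := Groth.Agent.Helper4.SchAdj.isGrothendieckAbelian_modules (U : Scheme.{u})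
  Groth.Agent.Helper4.KDerAdj.isIso_counit (Scheme.Modules.restrictAdjunction U.ι) (DCoh.Rpush U.ι)
    ((DCoh.pushKh U.ι).totalRightDerivedUnit DerivedCategory.Qh
      (HomotopyCategory.quasiIso (U : Scheme.{u}).Modules (ComplexShape.up ℤ))) inferInstance

theorem isIso_restrict_unit (E : DCoh.D X) :
    IsIso ((DCoh.restrictD U.ι).map ((dAdj U).unit.app E)) := by
  have h := (dAdj U).left_triangle_components E
  haveI : IsIso ((dAdj U).counit.app ((DCoh.restrictD U.ι).obj E)) := inferInstance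
  rw [IsIso.eq_inv_of_inv_hom_id h]
  infer_instance

/-- part (1) -/
theorem isIso_unit_of_support (T : Set X) (hT : IsClosed T) (hTU : T ⊆ (U : Set X))
    (E : DCoh.D X) (hE : ∀ i : ℤ, CohB1.support (DCoh.HD E i) ⊆ T) :
    IsIso ((dAdj U).unit.app E) := by
  let W : X.Opens := ⟨Tᶜ, hT.isOpen_compl⟩
  let V : Bool → X.Opens := fun b => if b then U else W
  have hV : ∀ x : X, ∃ b, x ∈ V b := by
    intro x
    by_cases hx : x ∈ T
    · exact ⟨true, hTU hx⟩
    · exact ⟨false, hx⟩
  apply isIso_of_restrict V hV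
  intro b
  cases b
  · -- over W both sides vanish
    show IsIso ((DCoh.restrictD W.ι).map ((dAdj U).unit.app E))
    have h1 : IsZero ((DCoh.restrictD W.ι).obj E) := by
      rw [isZero_restrictD_iff]
      intro n x hx
      exact x.2 (hE n hx)
    have h2 : IsZero ((DCoh.restrictD W.ι).obj
        ((DCoh.Rpush U.ι).obj ((DCoh.restrictD U.ι).obj E))) := by
      apply isZero_restrictD_Rpush
      rw [isZero_restrictD_iff]
      intro n x hx
      rw [support_HD_restrictD] at hx
      have hxT : U.ι ((U.ι ⁻¹ᵁ W).ι x) ∈ T := hE n hx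
      have hxW : (U.ι ⁻¹ᵁ W).ι x ∈ U.ι ⁻¹ᵁ W := by simpa using x.2
      exact hxW hxT
    exact ⟨⟨0, h1.eq_of_src _ _, h2.eq_of_src _ _⟩⟩
  · exact isIso_restrict_unit U E

end Groth.Agent.Helper4.RjSupp
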