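import Mathlib
import Groth.Prelude.Def_CxOX
import Groth.Agent.Helper4.RjSupp

/-! The unit `M ⟶ Rj_* j^* M` for a general open immersion `j` and `M` supported inside `j(X)`. -/

set_option autoImplicit false
universe u

open CategoryTheory CategoryTheory.Limits AlgebraicGeometry Opposite Pretriangulated
attribute [local instance] HasDerivedCategory.standard

namespace Groth.Agent.Helper4.RjSuppGen

open Groth.Agent.Helper4.SuppLib Groth.Agent.Helper4.RjSupp

variable {X Xbar : Scheme.{u}} (j : X ⟶ Xbar) [IsOpenImmersion j] [DCoh.HasRpush j]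

/-- the derived adjunction `j^* ⊣ Rj_*` -/
noncomputable def dAdj' : DCoh.restrictD j ⊣ DCoh.Rpush j :=
  haveI := Groth.Agent.Helper4.SchAdj.isGrothendieckAbelian_modules X
  Groth.Agent.Helper4.KDerAdj.derivedAdj (Scheme.Modules.restrictAdjunction j) (DCoh.Rpush j)
    ((DCoh.pushKh j).totalRightDerivedUnit DerivedCategory.Qh
      (HomotopyCategory.quasiIso X.Modules (ComplexShape.up ℤ)))

instance isIso_counit' : IsIso (dAdj' j).counit :=
  haveI := Groth.Agent.Helper4.SchAdj.isGrothendieckAbelian_modules X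
  Groth.Agent.Helper4.KDerAdj.isIso_counit (Scheme.Modules.restrictAdjunction j) (DCoh.Rpush j)
    ((DCoh.pushKh j).totalRightDerivedUnit DerivedCategory.Qh
      (HomotopyCategory.quasiIso X.Modules (ComplexShape.up ℤ))) inferInstance

instance : (DCoh.Rpush j).Full := (dAdj' j).fullyFaithfulROfIsIsoCounit.full
instance : (DCoh.Rpush j).Faithful := (dAdj' j).fullyFaithfulROfIsIsoCounit.faithful

theorem isIso_counit_of_adj (adj : DCoh.restrictD j ⊣ DCoh.Rpush j) : IsIso adj.counit :=
  inferInstance

theorem isIso_restrict_unit_of_adj (adj : DCoh.restrictD j ⊣ DCoh.Rpush j) (E : DCoh.D Xbar) :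
    IsIso ((DCoh.restrictD j).map (adj.unit.app E)) := by
  have h := adj.left_triangle_components E
  haveI := isIso_counit_of_adj j adj
  haveI : IsIso (adj.counit.app ((DCoh.restrictD j).obj E)) := inferInstance
  rw [IsIso.eq_inv_of_inv_hom_id h]
  infer_instance

theorem isIso_unit_of_isZero_restrict (adj : DCoh.restrictD j ⊣ DCoh.Rpush j) (W : Xbar.Opens)
    (hW : (W : Set Xbar)ᶜ ⊆ Set.range j.base) (M : DCoh.D Xbar)
    (hM : IsZero ((DCoh.restrictD W.ι).obj M)) : IsIso (adj.unit.app M) := by
  classical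
  let V : Bool → Xbar.Opens := fun b => if b then j.opensRange else W
  have hV : ∀ x : Xbar, ∃ b, x ∈ V b := by
    intro x
    by_cases hx : x ∈ W
    · exact ⟨false, hx⟩
    · exact ⟨true, hW hx⟩
  apply isIso_of_restrict V hV
  intro b
  cases b
  · show IsIso ((DCoh.restrictD W.ι).map (adj.unit.app M))
    have h2 : IsZero ((DCoh.restrictD W.ι).obj
        ((DCoh.Rpush j).obj ((DCoh.restrictD j).obj M))) := by
      apply isZero_restrictD_Rpush
      rw [isZero_restrictD_iff]
      intro n x hx
      rw [support_HD_restrictD] at hx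
      rw [isZero_restrictD_iff] at hM
      have hxW : (j ⁻¹ᵁ W).ι x ∈ j ⁻¹ᵁ W := x.2
      exact hM n ⟨j ((j ⁻¹ᵁ W).ι x), hxW⟩ hx
    exact ⟨⟨0, hM.eq_of_src _ _, h2.eq_of_src _ _⟩⟩
  · show IsIso ((DCoh.restrictD j.opensRange.ι).map (adj.unit.app M))
    obtain ⟨C, g, k, hT⟩ := distinguished_cocone_triangle (adj.unit.app M)
    have hT' := (DCoh.restrictD j).map_distinguished _ hT
    have hz : IsZero ((DCoh.restrictD j).obj C) :=
      (Triangle.isZero₃_iff_isIso₁ _ hT').2 (isIso_restrict_unit_of_adj j adj M)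
    have hz' : IsZero ((DCoh.restrictD j.opensRange.ι).obj C) := by
      rw [isZero_restrictD_iff] at hz ⊢
      intro i u hu
      obtain ⟨x, hx⟩ := u.2
      have : j.opensRange.ι u = j x := hx.symm
      rw [this] at hu
      exact hz i x hu
    have hT'' := (DCoh.restrictD j.opensRange.ι).map_distinguished _ hT
    exact (Triangle.isZero₃_iff_isIso₁ _ hT'').1 hz'

end Groth.Agent.Helper4.RjSuppGen
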