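import Mathlib
import Groth.Prelude.Def_CxOX
import Groth.Agent.Helper4.TildeExact
import Groth.Agent.Helper4.FinLocFree2
import Groth.Agent.Helper4.FinLocFree4
import Groth.Agent.Helper4.RjSuppGen
import Groth.Agent.Helper4.HasRD
import Groth.Agent.Lead.LocLift3
import Groth.Agent.S0997
import Groth.Agent.S12451

/-! On an affine scheme, `Hom_K(E, F) → Hom_D(E, F)` is bijective for `E` a bounded above complex
of finite locally free modules and `F` a complex of quasi-coherent modules. -/

set_option autoImplicit false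
universe u

open CategoryTheory CategoryTheory.Limits AlgebraicGeometry Opposite
attribute [local instance] HasDerivedCategory.standard

namespace Groth.Agent.Helper4.AffKD

section generic

variable {C C' D D' : Type*} [Category C] [Category C'] [Category D] [Category D']

lemma bijective_map_of_iso (F : C ⥤ D) {A A' B B' : C} (a : A' ≅ A) (b : B ≅ B')
    (h : Function.Bijective (F.map : (A ⟶ B) → _)) :
    Function.Bijective (F.map : (A' ⟶ B') → _) := by
  constructor
  · intro ψ₁ ψ₂ h12
    have h1 : F.map (a.inv ≫ ψ₁ ≫ b.inv) = F.map (a.inv ≫ ψ₂ ≫ b.inv) := by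
      simp only [Functor.map_comp]
      have : F.map ψ₁ = F.map ψ₂ := h12
      rw [this]
    have h2 := h.1 h1
    rw [cancel_epi, cancel_mono] at h2
    exact h2
  · intro θ
    obtain ⟨φ, hφ⟩ := h.2 (F.map a.inv ≫ θ ≫ F.map b.inv)
    refine ⟨a.hom ≫ φ ≫ b.hom, ?_⟩
    have hφ' : F.map φ = F.map a.inv ≫ θ ≫ F.map b.inv := hφ
    show F.map (a.hom ≫ φ ≫ b.hom) = θ
    simp only [Functor.map_comp, hφ', Category.assoc, ← F.map_comp_assoc, Iso.hom_inv_id,
      Iso.inv_hom_id, F.map_id, Category.id_comp, Category.comp_id]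
    rw [← F.map_comp, Iso.inv_hom_id, F.map_id, Category.comp_id]

lemma bijective_iff_of_square (Q : C ⥤ D) (Q' : C' ⥤ D') (TK : C ⥤ C') (TD : D ⥤ D')
    (e : Q ⋙ TD ≅ TK ⋙ Q') [TK.Full] [TK.Faithful] [TD.Full] [TD.Faithful] (A B : C) :
    Function.Bijective (Q.map : (A ⟶ B) → _) ↔
      Function.Bijective (Q'.map : (TK.obj A ⟶ TK.obj B) → _) := by
  let t : (A ⟶ B) → (TK.obj A ⟶ TK.obj B) := TK.map
  have ht : Function.Bijective t := (Functor.FullyFaithful.ofFullyFaithful TK).map_bijective A B
  let s : (Q.obj A ⟶ Q.obj B) → (Q'.obj (TK.obj A) ⟶ Q'.obj (TK.obj B)) :=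
    fun θ => e.inv.app A ≫ TD.map θ ≫ e.hom.app B
  have hs : Function.Bijective s := by
    have h1 : Function.Bijective (TD.map : (Q.obj A ⟶ Q.obj B) → _) :=
      (Functor.FullyFaithful.ofFullyFaithful TD).map_bijective _ _
    have h2 : Function.Bijective (Iso.homCongr (e.app A) (e.app B)) :=
      (Iso.homCongr (e.app A) (e.app B)).bijective
    exact h2.comp h1
  have hcomm : (fun ψ => Q'.map ψ) ∘ t = s ∘ (fun φ => Q.map φ) := by
    funext φ
    have hn := e.hom.naturality φ
    show Q'.map (TK.map φ) = e.inv.app A ≫ TD.map (Q.map φ) ≫ e.hom.app B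
    have hn' : TD.map (Q.map φ) ≫ e.hom.app B = e.hom.app A ≫ Q'.map (TK.map φ) := hn
    rw [hn', Iso.inv_hom_id_app_assoc]
  constructor
  · intro h
    have h1 : Function.Bijective (s ∘ (fun φ => Q.map φ)) := hs.comp h
    rw [← hcomm] at h1
    exact (Function.Bijective.of_comp_iff _ ht).1 h1
  · intro h
    have h1 : Function.Bijective ((fun ψ => Q'.map ψ) ∘ t) := Function.Bijective.comp h ht
    rw [hcomm] at h1
    exact (Function.Bijective.of_comp_iff' hs _).1 h1

end generic

section Spec

variable (R : CommRingCat.{u})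

instance : (moduleSpecΓFunctor (R := R)).Additive :=
  (tilde.adjunction (R := R)).right_adjoint_additive

/-- a complex with quasi-coherent terms on `Spec R` is the tilde of its complex of sections -/
noncomputable def tildeΓCxIso (E : CochainComplex (Spec R).Modules ℤ)
    (hE : ∀ i, (E.X i).IsQuasicoherent) :
    ((tilde.functor R).mapHomologicalComplex (ComplexShape.up ℤ)).obj
      (((moduleSpecΓFunctor (R := R)).mapHomologicalComplex (ComplexShape.up ℤ)).obj E) ≅ E :=
  HomologicalComplex.Hom.isoOfComponents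
    (fun i => @asIso _ _ _ _ ((Scheme.Modules.fromTildeΓNatTrans (R := R)).app (E.X i))
      (@Scheme.Modules.isIso_fromTildeΓ_of_isQuasicoherent R (E.X i) (hE i)))
    (fun i j _ => ((Scheme.Modules.fromTildeΓNatTrans (R := R)).naturality (E.d i j)).symm)

theorem bijective_spec (E F : CochainComplex (Spec R).Modules ℤ) (b : ℤ)
    (hEb : ∀ i : ℤ, b < i → IsZero (E.X i))
    (hE : ∀ i : ℤ, FlatMod.IsFinLocFree (E.X i)) (hF : ∀ i : ℤ, (F.X i).IsQuasicoherent) :
    Function.Bijective (fun φ : (HomotopyCategory.quotient (Spec R).Modules (ComplexShape.up ℤ)).obj E ⟶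
        (HomotopyCategory.quotient (Spec R).Modules (ComplexShape.up ℤ)).obj F =>
      (DerivedCategory.Qh (C := (Spec R).Modules)).map φ) := by
  have hEq : ∀ i, (E.X i).IsQuasicoherent := fun i =>
    Groth.Agent.Helper4.FinLocFree4.isQuasicoherent_of_isFinLocFree _ (hE i)
  let P : CochainComplex (ModuleCat.{u} R) ℤ :=
    ((moduleSpecΓFunctor (R := R)).mapHomologicalComplex (ComplexShape.up ℤ)).obj E
  let M : CochainComplex (ModuleCat.{u} R) ℤ :=
    ((moduleSpecΓFunctor (R := R)).mapHomologicalComplex (ComplexShape.up ℤ)).obj F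
  let eE := tildeΓCxIso R E hEq
  let eF := tildeΓCxIso R F hF
  haveI : P.IsStrictlyLE b := by
    rw [CochainComplex.isStrictlyLE_iff]
    intro i hi
    exact (moduleSpecΓFunctor (R := R)).map_isZero (hEb i hi)
  haveI : ∀ n, Projective (P.X n) := by
    intro n
    have h1 : FlatMod.IsFinLocFree (tilde (P.X n)) :=
      Groth.Agent.Helper4.FinLocFree2.isFinLocFree_of_iso
        ((HomologicalComplex.eval _ _ n).mapIso eE).symm (hE n)
    have h2 := (Groth.Agent.S12451.result (P.X n)).1 h1
    rw [← IsProjective.iff_projective]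
    exact h2.2
  haveI : P.IsKProjective := CochainComplex.isKProjective_of_projective P b
  have hbij := CochainComplex.IsKProjective.Qh_map_bijective P
    ((HomotopyCategory.quotient _ _).obj M)
  obtain ⟨hfull, hfaith, -⟩ := Groth.Agent.S0997.result R
  haveI := hfull
  haveI := hfaith
  have h1 := (bijective_iff_of_square (DerivedCategory.Qh (C := ModuleCat.{u} R))
    (DerivedCategory.Qh (C := (Spec R).Modules))
    ((tilde.functor R).mapHomotopyCategory (ComplexShape.up ℤ))
    (DCoh.tildeD R) (tilde.functor R).mapDerivedCategoryFactorsh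
    ((HomotopyCategory.quotient _ _).obj P) ((HomotopyCategory.quotient _ _).obj M)).1 hbij
  let a : (HomotopyCategory.quotient (Spec R).Modules (ComplexShape.up ℤ)).obj E ≅
      ((tilde.functor R).mapHomotopyCategory (ComplexShape.up ℤ)).obj
        ((HomotopyCategory.quotient _ _).obj P) :=
    (HomotopyCategory.quotient _ _).mapIso eE.symm ≪≫
      (((tilde.functor R).mapHomotopyCategoryFactors (ComplexShape.up ℤ)).app P).symm
  let b' : ((tilde.functor R).mapHomotopyCategory (ComplexShape.up ℤ)).obj
        ((HomotopyCategory.quotient _ _).obj M) ≅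
      (HomotopyCategory.quotient (Spec R).Modules (ComplexShape.up ℤ)).obj F :=
    (((tilde.functor R).mapHomotopyCategoryFactors (ComplexShape.up ℤ)).app M) ≪≫
      (HomotopyCategory.quotient _ _).mapIso eF
  exact bijective_map_of_iso (DerivedCategory.Qh (C := (Spec R).Modules)) a b' h1

end Spec

section Affine

variable {X Y : Scheme.{u}} (e : X ≅ Y)

/-- restriction along an isomorphism of schemes is an equivalence of module categories -/
noncomputable def restrictEquiv : Y.Modules ≌ X.Modules :=
  CategoryTheory.Equivalence.mk (Scheme.Modules.restrictFunctor e.hom) (Scheme.Modules.restrictFunctor e.inv)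
    (Scheme.Modules.restrictFunctorId.symm ≪≫
      Scheme.Modules.restrictFunctorCongr e.inv_hom_id.symm ≪≫
      Scheme.Modules.restrictFunctorComp e.inv e.hom)
    ((Scheme.Modules.restrictFunctorComp e.hom e.inv).symm ≪≫
      Scheme.Modules.restrictFunctorCongr e.hom_inv_id ≪≫ Scheme.Modules.restrictFunctorId)

instance : (Scheme.Modules.restrictFunctor e.hom).Full :=
  inferInstanceAs (restrictEquiv e).functor.Full

instance : (Scheme.Modules.restrictFunctor e.hom).Faithful :=
  inferInstanceAs (restrictEquiv e).functor.Faithful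

theorem isIso_unit_of_isIso {Z X : Scheme.{u}} (j : Z ⟶ X) [IsIso j] [DCoh.HasRpush j] :
    IsIso (Groth.Agent.Helper4.RjSuppGen.dAdj' j).unit := by
  rw [NatTrans.isIso_iff_isIso_app]
  intro M
  apply Groth.Agent.Helper4.RjSuppGen.isIso_unit_of_isZero_restrict j _ ⊥
  · intro x _
    exact j.surjective x
  · rw [Groth.Agent.Helper4.SuppLib.isZero_restrictD_iff]
    intro i x
    have hx : x.1 ∈ ((⊥ : X.Opens) : Set X) := x.2
    rw [TopologicalSpace.Opens.coe_bot] at hx
    exact hx.elim

theorem full_faithful_restrictD {Z X : Scheme.{u}} (j : Z ⟶ X) [IsIso j] :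
    (DCoh.restrictD j).Full ∧ (DCoh.restrictD j).Faithful := by
  haveI : DCoh.HasRpush j := Groth.Agent.Helper4.HasRD.hasRpush _
  haveI := isIso_unit_of_isIso j
  have h := (Groth.Agent.Helper4.RjSuppGen.dAdj' j).fullyFaithfulLOfIsIsoUnit
  exact ⟨h.full, h.faithful⟩

theorem bijective_affine {X : Scheme.{u}} [IsAffine X] (E F : CochainComplex X.Modules ℤ) (b : ℤ)
    (hEb : ∀ i : ℤ, b < i → IsZero (E.X i))
    (hE : ∀ i : ℤ, FlatMod.IsFinLocFree (E.X i)) (hF : ∀ i : ℤ, (F.X i).IsQuasicoherent) :
    Function.Bijective (fun φ : (HomotopyCategory.quotient X.Modules (ComplexShape.up ℤ)).obj E ⟶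
        (HomotopyCategory.quotient X.Modules (ComplexShape.up ℤ)).obj F =>
      (DerivedCategory.Qh (C := X.Modules)).map φ) := by
  let e : Spec Γ(X, ⊤) ≅ X := X.isoSpec.symm
  let r := Scheme.Modules.restrictFunctor e.hom
  haveI : r.Full := inferInstanceAs (Scheme.Modules.restrictFunctor e.hom).Full
  haveI : r.Faithful := inferInstanceAs (Scheme.Modules.restrictFunctor e.hom).Faithful
  obtain ⟨hfull, hfaith⟩ := full_faithful_restrictD e.hom
  haveI := hfull
  haveI := hfaith
  have hS := bijective_spec Γ(X, ⊤) ((r.mapHomologicalComplex (ComplexShape.up ℤ)).obj E)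
    ((r.mapHomologicalComplex (ComplexShape.up ℤ)).obj F) b
    (fun i hi => r.map_isZero (hEb i hi))
    (fun i => Groth.Agent.Lead.LocLift.isFinLocFree_restrict (hE i) e.hom)
    (fun i => haveI := hF i
      Scheme.Modules.isQuasicoherent_restrictFunctor e.hom (F.X i))
  have h1 := bijective_map_of_iso (DerivedCategory.Qh (C := (Spec Γ(X, ⊤)).Modules))
    ((r.mapHomotopyCategoryFactors (ComplexShape.up ℤ)).app E)
    ((r.mapHomotopyCategoryFactors (ComplexShape.up ℤ)).app F).symm hS
  exact (bijective_iff_of_square (DerivedCategory.Qh (C := X.Modules))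
    (DerivedCategory.Qh (C := (Spec Γ(X, ⊤)).Modules))
    (r.mapHomotopyCategory (ComplexShape.up ℤ)) (DCoh.restrictD e.hom)
    r.mapDerivedCategoryFactorsh
    ((HomotopyCategory.quotient _ _).obj E) ((HomotopyCategory.quotient _ _).obj F)).2 h1

end Affine

end Groth.Agent.Helper4.AffKD
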