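import Mathlib
import Groth.Prelude.Def_CxOX
import Groth.Agent.Helper9.SkyMod2
import Groth.Agent.Helper4.SuppLib

/-! Stalks of the extension by zero `j_!` along an open immersion. -/

set_option autoImplicit false
universe u

open CategoryTheory CategoryTheory.Limits AlgebraicGeometry Opposite
attribute [local instance] HasDerivedCategory.standard

namespace Groth.Agent.Helper4.ExtZeroStalk

open Groth.Agent.Helper9.SkyMod1 Groth.Agent.Helper9.SkyMod2

variable {U X : Scheme.{u}} (j : U ⟶ X) [IsOpenImmersion j]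

theorem isZero_restrict_sky (x : X) (hx : x ∉ Set.range j)
    (N : ModuleCat.{u} (X.presheaf.stalk x)) :
    IsZero ((Scheme.Modules.restrictFunctor j).obj (sky x N)) := by
  rw [IsZero.iff_id_eq_zero]
  apply Scheme.Modules.hom_ext
  intro V
  ext s
  have hs : ∀ t : (PLift (x ∈ j ''ᵁ V) → N), t = 0 := by
    intro t
    funext h
    exfalso
    obtain ⟨y, -, hy⟩ := h.down
    exact hx ⟨y, hy⟩
  exact (hs s).trans (hs _).symm

/-- the stalk of `j_! M` at a point outside the open subscheme is trivial -/
theorem subsingleton_stalk_extZero (M : U.Modules) (x : X) (hx : x ∉ Set.range j) :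
    Subsingleton (((CxOX.extZero j).obj M).presheaf.stalk x) := by
  let S := (DerSch.stalkFunctor X x).obj ((CxOX.extZero j).obj M)
  have h0 : (𝟙 S : S ⟶ S) = 0 := by
    apply (homEquiv x ((CxOX.extZero j).obj M) S).injective
    apply ((CxOX.extZeroAdj j).homEquiv _ _).injective
    exact (isZero_restrict_sky j x hx S).eq_of_tgt _ _
  have hS : IsZero S := (IsZero.iff_id_eq_zero S).2 h0
  exact ModuleCat.subsingleton_of_isZero hS


instance isIso_extZeroAdj_unit : IsIso (CxOX.extZeroAdj j).unit := by
  let t : Adjunction.Triple (CxOX.extZero j) (Scheme.Modules.restrictFunctor j)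
      (Scheme.Modules.pushforward j) := ⟨CxOX.extZeroAdj j, Scheme.Modules.restrictAdjunction j⟩
  exact t.isIso_unit_iff_isIso_counit.2 inferInstance

/-- `j^* j_! ≅ id` -/
noncomputable def unitIso : 𝟭 U.Modules ≅ CxOX.extZero j ⋙ Scheme.Modules.restrictFunctor j :=
  asIso (CxOX.extZeroAdj j).unit

theorem support_eq_of_iso {M N : X.Modules} (e : M ≅ N) : CohB1.support M = CohB1.support N := by
  ext x
  show ¬ _ ↔ ¬ _
  have e' := (Scheme.Modules.toPresheaf X ⋙ TopCat.Presheaf.stalkFunctor Ab.{u} x).mapIso e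
  constructor
  · intro h h'
    apply h
    have h1 : IsZero ((Scheme.Modules.toPresheaf X ⋙ TopCat.Presheaf.stalkFunctor Ab.{u} x).obj N) :=
      @AddCommGrpCat.isZero_of_subsingleton _ h'
    exact AddCommGrpCat.subsingleton_of_isZero (h1.of_iso e')
  · intro h h'
    apply h
    have h1 : IsZero ((Scheme.Modules.toPresheaf X ⋙ TopCat.Presheaf.stalkFunctor Ab.{u} x).obj M) :=
      @AddCommGrpCat.isZero_of_subsingleton _ h'
    exact AddCommGrpCat.subsingleton_of_isZero (h1.of_iso e'.symm)

theorem support_extZero_subset (M : U.Modules) :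
    CohB1.support ((CxOX.extZero j).obj M) ⊆ (fun x => j x) '' CohB1.support M := by
  intro x hx
  by_cases hxU : x ∈ Set.range j
  · obtain ⟨y, rfl⟩ := hxU
    refine ⟨y, ?_, rfl⟩
    have h := support_eq_of_iso ((unitIso j).app M)
    refine (Set.ext_iff.1 h y).2 ?_
    show y ∈ CohB1.support ((Scheme.Modules.restrictFunctor j).obj ((CxOX.extZero j).obj M))
    rw [Groth.Agent.Helper4.SuppLib.support_restrict]
    exact hx
  · exact absurd (subsingleton_stalk_extZero j M x hxU) hx

section derived

variable [PreservesFiniteLimits (CxOX.extZero j)]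

/-- `j^* j_! F ≅ F` in `D(O_U)` -/
theorem nonempty_restrictD_extZeroD_iso (F : DCoh.D U) :
    Nonempty ((DCoh.restrictD j).obj ((CxOX.extZeroD j).obj F) ≅ F) := by
  let K := DerivedCategory.Q.objPreimage F
  let eF : DerivedCategory.Q.obj K ≅ F := DerivedCategory.Q.objObjPreimageIso F
  let e1 := (CxOX.extZero j).mapDerivedCategoryFactors.app K
  let e2 := (Scheme.Modules.restrictFunctor j).mapDerivedCategoryFactors.app
    (((CxOX.extZero j).mapHomologicalComplex (ComplexShape.up ℤ)).obj K)
  let e3 : ((Scheme.Modules.restrictFunctor j).mapHomologicalComplex (ComplexShape.up ℤ)).obj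
      (((CxOX.extZero j).mapHomologicalComplex (ComplexShape.up ℤ)).obj K) ≅ K :=
    HomologicalComplex.Hom.isoOfComponents (fun n => ((unitIso j).app (K.X n)).symm)
      (fun a b _ => ((unitIso j).inv.naturality (K.d a b)).symm)
  exact ⟨(DCoh.restrictD j).mapIso ((CxOX.extZeroD j).mapIso eF.symm ≪≫ e1) ≪≫ e2 ≪≫
    DerivedCategory.Q.mapIso e3 ≪≫ eF⟩

theorem support_HD_extZeroD_subset (F : DCoh.D U) (i : ℤ) :
    CohB1.support (DCoh.HD ((CxOX.extZeroD j).obj F) i) ⊆
      (fun x => j x) '' CohB1.support (DCoh.HD F i) := by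
  have h := support_eq_of_iso
    ((Groth.Agent.Lead.PcLib.mapDerivedCategoryHomologyIso (CxOX.extZero j) i).app F)
  intro x hx
  exact support_extZero_subset j _ ((Set.ext_iff.1 h x).1 hx)

end derived

end Groth.Agent.Helper4.ExtZeroStalk
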