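import Mathlib
import Groth.Prelude.Def_CxOX
import Groth.Agent.Helper4.RjSupp
import Groth.Agent.Helper4.ExtZeroStalk
import Groth.Agent.Helper4.RestrKInj

/-! `W`-local objects of `D(O_X)` for an open `W`: objects right orthogonal to those vanishing
on `W`. -/

set_option autoImplicit false
universe u

open CategoryTheory CategoryTheory.Limits AlgebraicGeometry Opposite Pretriangulated
attribute [local instance] HasDerivedCategory.standard

namespace Groth.Agent.Helper4.LocalObj

open Groth.Agent.Helper4.SuppLib Groth.Agent.Helper4.RjSupp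

variable {X : Scheme.{u}}

/-- vanishing on an open passes to smaller opens -/
theorem isZero_restrictD_of_le {W W' : X.Opens} (h : W ≤ W') (S : DCoh.D X)
    (hS : IsZero ((DCoh.restrictD W'.ι).obj S)) : IsZero ((DCoh.restrictD W.ι).obj S) := by
  rw [isZero_restrictD_iff] at hS ⊢
  intro i x
  exact hS i ⟨x.1, h x.2⟩

theorem isZero_restrictD_shift (W : X.Opens) (S : DCoh.D X) (n : ℤ)
    (hS : IsZero ((DCoh.restrictD W.ι).obj S)) : IsZero ((DCoh.restrictD W.ι).obj (S⟦n⟧)) := by
  have e := ((DCoh.restrictD W.ι).commShiftIso n).app S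
  exact IsZero.of_iso ((shiftFunctor _ n).map_isZero hS) e

/-- a morphism which is invertible over `W'` is invertible over any smaller open -/
theorem isIso_restrictD_map_of_le {W W' : X.Opens} (h : W ≤ W') {S S' : DCoh.D X} (f : S ⟶ S')
    (hf : IsIso ((DCoh.restrictD W'.ι).map f)) : IsIso ((DCoh.restrictD W.ι).map f) := by
  obtain ⟨C, g, k, hT⟩ := distinguished_cocone_triangle f
  have hT' := (DCoh.restrictD W'.ι).map_distinguished _ hT
  have hz : IsZero ((DCoh.restrictD W'.ι).obj C) := (Triangle.isZero₃_iff_isIso₁ _ hT').2 hf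
  have hz' := isZero_restrictD_of_le h C hz
  have hT'' := (DCoh.restrictD W.ι).map_distinguished _ hT
  exact (Triangle.isZero₃_iff_isIso₁ _ hT'').1 hz'

/-- `M` is `W`-local -/
def IsLocal (W : X.Opens) (M : DCoh.D X) : Prop :=
  ∀ (S : DCoh.D X), IsZero ((DCoh.restrictD W.ι).obj S) → ∀ f : S ⟶ M, f = 0

theorem IsLocal.mono {W W' : X.Opens} (h : W ≤ W') {M : DCoh.D X} (hM : IsLocal W M) :
    IsLocal W' M :=
  fun S hS f => hM S (isZero_restrictD_of_le h S hS) f

theorem isLocal_Rpush (W : X.Opens) [DCoh.HasRpush W.ι] (G : DCoh.D (W : Scheme.{u})) :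
    IsLocal W ((DCoh.Rpush W.ι).obj G) := by
  intro S hS f
  apply ((dAdj W).homEquiv _ _).symm.injective
  exact hS.eq_of_src _ _

theorem IsLocal.shift {W : X.Opens} {M : DCoh.D X} (hM : IsLocal W M) (n : ℤ) :
    IsLocal W (M⟦n⟧) := by
  intro S hS f
  have h1 : f⟦-n⟧' ≫ (shiftShiftNeg M n).hom = 0 :=
    hM _ (isZero_restrictD_shift W S (-n) hS) _
  have h2 : f⟦-n⟧' = 0 := by
    rw [← cancel_mono (shiftShiftNeg M n).hom, h1, zero_comp]
  have h3 : (shiftFunctor (DCoh.D X) (-n)).map f = (shiftFunctor (DCoh.D X) (-n)).map 0 := by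
    rw [h2, Functor.map_zero]
  exact (shiftFunctor (DCoh.D X) (-n)).map_injective h3

/-- local objects are closed under cones -/
theorem isLocal_of_distinguished (W : X.Opens) (T : Triangle (DCoh.D X))
    (hT : T ∈ distTriang (DCoh.D X)) (h₁ : IsLocal W T.obj₁) (h₂ : IsLocal W T.obj₂) :
    IsLocal W T.obj₃ := by
  intro S hS f
  have h0 : f ≫ T.mor₃ = 0 := (h₁.shift 1) S hS _
  obtain ⟨g, hg⟩ := Triangle.coyoneda_exact₃ T hT f h0
  rw [hg, h₂ S hS g, zero_comp]

theorem isZero_of_isLocal (W : X.Opens) (M : DCoh.D X) (hM : IsLocal W M)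
    (hz : IsZero ((DCoh.restrictD W.ι).obj M)) : IsZero M :=
  (IsZero.iff_id_eq_zero M).2 (hM M hz (𝟙 M))

section shriek

variable (U : X.Opens)

instance : PreservesFiniteLimits (CxOX.extZero U.ι) :=
  Groth.Agent.Helper4.RestrKInj.preservesFiniteLimits_extZero U

/-- the derived adjunction `j_! ⊣ j^*` -/
noncomputable def shriekAdj : CxOX.extZeroD U.ι ⊣ DCoh.restrictD U.ι :=
  haveI := Groth.Agent.Helper4.SchAdj.isGrothendieckAbelian_modules X
  haveI : (DCoh.restrictD U.ι).IsRightDerivedFunctor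
      (Scheme.Modules.restrictFunctor U.ι).mapDerivedCategoryFactorsh.inv
      (HomotopyCategory.quasiIso X.Modules (ComplexShape.up ℤ)) :=
    Functor.isRightDerivedFunctor_of_inverts _ _ _
  Groth.Agent.Helper4.KDerAdj.derivedAdj (CxOX.extZeroAdj U.ι) (DCoh.restrictD U.ι)
    (Scheme.Modules.restrictFunctor U.ι).mapDerivedCategoryFactorsh.inv

/-- restriction to `U` sends `V`-local objects to `U ∩ V`-local objects -/
theorem isLocal_restrictD (V : X.Opens) (M : DCoh.D X) (hM : IsLocal V M) :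
    IsLocal (U.ι ⁻¹ᵁ V) ((DCoh.restrictD U.ι).obj M) := by
  intro S hS f
  have hz : IsZero ((DCoh.restrictD V.ι).obj ((CxOX.extZeroD U.ι).obj S)) := by
    rw [isZero_restrictD_iff] at hS ⊢
    intro i x hx
    obtain ⟨y, hy, hyx⟩ := Groth.Agent.Helper4.ExtZeroStalk.support_HD_extZeroD_subset U.ι S i hx
    have hyV : y ∈ U.ι ⁻¹ᵁ V := by
      show U.ι y ∈ V
      have hyx' : U.ι y = V.ι x := hyx
      rw [hyx']
      exact x.2
    exact hS i ⟨y, hyV⟩ hy
  apply ((shriekAdj U).homEquiv _ _).symm.injective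
  exact (hM _ hz _).trans (hM _ hz _).symm

end shriek

end Groth.Agent.Helper4.LocalObj
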