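import Mathlib
import Groth.Agent.Helper4.LocalObj

/-! `W`-colocal objects of `D(O_X)` for an open `W`: objects left orthogonal to those vanishing
on `W`; the derived adjunction `j_! ⊣ j^*` has invertible unit. -/

set_option autoImplicit false
universe u

open CategoryTheory CategoryTheory.Limits AlgebraicGeometry Opposite Pretriangulated
attribute [local instance] HasDerivedCategory.standard

namespace Groth.Agent.Helper4.ColocalObj

open Groth.Agent.Helper4.SuppLib Groth.Agent.Helper4.RjSupp Groth.Agent.Helper4.LocalObj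

variable {X : Scheme.{u}}

/-- `M` is `W`-colocal -/
def IsColocal (W : X.Opens) (M : DCoh.D X) : Prop :=
  ∀ (S : DCoh.D X), IsZero ((DCoh.restrictD W.ι).obj S) → ∀ f : M ⟶ S, f = 0

theorem IsColocal.mono {W W' : X.Opens} (h : W ≤ W') {M : DCoh.D X} (hM : IsColocal W M) :
    IsColocal W' M :=
  fun S hS f => hM S (isZero_restrictD_of_le h S hS) f

theorem isColocal_extZeroD (W : X.Opens) (G : DCoh.D (W : Scheme.{u})) :
    IsColocal W ((CxOX.extZeroD W.ι).obj G) := by
  intro S hS f
  apply ((shriekAdj W).homEquiv _ _).injective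
  exact hS.eq_of_tgt _ _

theorem IsColocal.shift {W : X.Opens} {M : DCoh.D X} (hM : IsColocal W M) (n : ℤ) :
    IsColocal W (M⟦n⟧) := by
  intro S hS f
  have h1 : (shiftShiftNeg M n).inv ≫ f⟦-n⟧' = 0 :=
    hM _ (isZero_restrictD_shift W S (-n) hS) _
  have h2 : f⟦-n⟧' = 0 := by
    rw [← cancel_epi (shiftShiftNeg M n).inv, h1, comp_zero]
  have h3 : (shiftFunctor (DCoh.D X) (-n)).map f = (shiftFunctor (DCoh.D X) (-n)).map 0 := by
    rw [h2, Functor.map_zero]
  exact (shiftFunctor (DCoh.D X) (-n)).map_injective h3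

/-- colocal objects are closed under cones -/
theorem isColocal_of_distinguished (W : X.Opens) (T : Triangle (DCoh.D X))
    (hT : T ∈ distTriang (DCoh.D X)) (h₁ : IsColocal W T.obj₁) (h₂ : IsColocal W T.obj₂) :
    IsColocal W T.obj₃ := by
  intro S hS f
  have h0 : T.mor₂ ≫ f = 0 := h₂ S hS _
  obtain ⟨g, hg⟩ := Triangle.yoneda_exact₃ T hT f h0
  rw [hg, (h₁.shift 1) S hS g, comp_zero]

theorem isZero_of_isColocal (W : X.Opens) (M : DCoh.D X) (hM : IsColocal W M)
    (hz : IsZero ((DCoh.restrictD W.ι).obj M)) : IsZero M :=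
  (IsZero.iff_id_eq_zero M).2 (hM M hz (𝟙 M))

section

variable (U : X.Opens) [DCoh.HasRpush U.ι]

/-- restriction to `U` sends `V`-colocal objects to `U ∩ V`-colocal objects -/
theorem isColocal_restrictD (V : X.Opens) (M : DCoh.D X) (hM : IsColocal V M) :
    IsColocal (U.ι ⁻¹ᵁ V) ((DCoh.restrictD U.ι).obj M) := by
  intro S hS f
  have hz : IsZero ((DCoh.restrictD V.ι).obj ((DCoh.Rpush U.ι).obj S)) :=
    isZero_restrictD_Rpush U.ι V S hS
  apply ((dAdj U).homEquiv _ _).injective
  exact (hM _ hz _).trans (hM _ hz _).symm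

instance isIso_shriekAdj_unit : IsIso (shriekAdj U).unit := by
  let t : Adjunction.Triple (CxOX.extZeroD U.ι) (DCoh.restrictD U.ι) (DCoh.Rpush U.ι) :=
    ⟨shriekAdj U, dAdj U⟩
  exact t.isIso_unit_iff_isIso_counit.2 inferInstance

theorem isIso_restrict_counit (E : DCoh.D X) :
    IsIso ((DCoh.restrictD U.ι).map ((shriekAdj U).counit.app E)) := by
  have h := (shriekAdj U).right_triangle_components E
  haveI : IsIso ((shriekAdj U).unit.app ((DCoh.restrictD U.ι).obj E)) := inferInstance
  rw [IsIso.eq_inv_of_hom_inv_id h]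
  infer_instance

end

end Groth.Agent.Helper4.ColocalObj
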