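import Mathlib

/-! A split lemma in pretriangulated categories (dual version). -/

set_option autoImplicit false

open CategoryTheory Limits Pretriangulated

namespace Groth.Agent.Helper4.TriSplit2

variable {C : Type*} [Category C] [HasShift C ℤ] [HasZeroObject C] [Preadditive C]
  [∀ (n : ℤ), (shiftFunctor C n).Additive] [Pretriangulated C]

/-- Let `X ⟶ Y ⟶ Z ⟶ X⟦1⟧` be distinguished where `Y` is a biproduct of `Y₁` and `Y₂`. If the
component `Y₁ ⟶ Z` is an isomorphism then `X ⟶ Y ⟶ Y₂` is an isomorphism. -/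
theorem isIso_of_split {X Y Z Y₁ Y₂ : C} (f : X ⟶ Y) (g : Y ⟶ Z) (h : Z ⟶ X⟦(1 : ℤ)⟧)
    (hT : Triangle.mk f g h ∈ distTriang C)
    (i₁ : Y₁ ⟶ Y) (i₂ : Y₂ ⟶ Y) (p₁ : Y ⟶ Y₁) (p₂ : Y ⟶ Y₂)
    (h12 : i₁ ≫ p₂ = 0) (h22 : i₂ ≫ p₂ = 𝟙 Y₂) (hsum : p₁ ≫ i₁ + p₂ ≫ i₂ = 𝟙 Y)
    [IsIso (i₁ ≫ g)] : IsIso (f ≫ p₂) := by
  have hfg : f ≫ g = 0 := comp_distTriang_mor_zero₁₂ _ hT
  -- `h = 0`
  have hh : h = 0 := by
    have h1 : g ≫ h = 0 := comp_distTriang_mor_zero₂₃ _ hT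
    calc h = (inv (i₁ ≫ g) ≫ i₁ ≫ g) ≫ h := by rw [IsIso.inv_hom_id, Category.id_comp]
      _ = 0 := by simp only [Category.assoc, h1, comp_zero]
  apply isIso_of_coyoneda_map_bijective
  intro W
  constructor
  · intro w w' hww'
    have hw : (f ≫ p₂) ≫ (w - w') = 0 := by
      rw [Preadditive.comp_sub]
      exact sub_eq_zero.2 hww'
    suffices w - w' = 0 from sub_eq_zero.1 this
    obtain ⟨(z : Z ⟶ W), (hz : p₂ ≫ (w - w') = g ≫ z)⟩ :=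
      Triangle.yoneda_exact₂ _ hT (p₂ ≫ (w - w')) (by
        change f ≫ p₂ ≫ (w - w') = 0
        rw [← Category.assoc]; exact hw)
    have hz0 : (i₁ ≫ g) ≫ z = 0 := by
      rw [Category.assoc, ← hz, ← Category.assoc, h12, zero_comp]
    have hz1 : z = 0 := by
      rw [← cancel_epi (i₁ ≫ g), hz0, comp_zero]
    have : p₂ ≫ (w - w') = 0 := by rw [hz, hz1, comp_zero]
    calc w - w' = i₂ ≫ p₂ ≫ (w - w') := by rw [← Category.assoc, h22, Category.id_comp]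
      _ = 0 := by rw [this, comp_zero]
  · intro x
    -- x : X ⟶ W
    obtain ⟨(e : Y ≅ X ⊞ Z), (he1 : f ≫ e.hom = biprod.inl), -⟩ :=
      exists_iso_binaryBiproduct_of_distTriang _ hT hh
    obtain ⟨(y : Y ⟶ W), (hy : x = f ≫ y)⟩ : ∃ y : Y ⟶ W, x = f ≫ y := by
      refine ⟨e.hom ≫ biprod.fst ≫ x, ?_⟩
      rw [← Category.assoc, he1, biprod.inl_fst_assoc]
    let z : Z ⟶ W := inv (i₁ ≫ g) ≫ i₁ ≫ y
    let y' : Y ⟶ W := y - g ≫ z
    have hfy' : f ≫ y' = x := by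
      rw [Preadditive.comp_sub, ← Category.assoc, hfg, zero_comp, sub_zero, hy]
    have hiy' : i₁ ≫ y' = 0 := by
      rw [Preadditive.comp_sub]
      have : i₁ ≫ g ≫ z = i₁ ≫ y := by
        change i₁ ≫ g ≫ inv (i₁ ≫ g) ≫ i₁ ≫ y = i₁ ≫ y
        rw [← Category.assoc, ← Category.assoc, IsIso.hom_inv_id (i₁ ≫ g), Category.id_comp]
      rw [this, sub_self]
    refine ⟨i₂ ≫ y', ?_⟩
    change (f ≫ p₂) ≫ i₂ ≫ y' = x
    have : y' = p₂ ≫ i₂ ≫ y' := by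
      calc y' = (p₁ ≫ i₁ + p₂ ≫ i₂) ≫ y' := by rw [hsum, Category.id_comp]
        _ = p₂ ≫ i₂ ≫ y' := by
          rw [Preadditive.add_comp, Category.assoc, hiy', comp_zero, zero_add, Category.assoc]
    rw [Category.assoc, ← this, hfy']

end Groth.Agent.Helper4.TriSplit2
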