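import Mathlib
import Groth.Agent.Helper4.ColocalObj
import Groth.Agent.Helper4.TriSplit2
import Groth.Agent.Helper4.HasRD

/-! Mayer–Vietoris for `j_!`: the cocone of `j_{U!}E|_U ⊞ j_{V!}E|_V ⟶ E`. -/

set_option autoImplicit false
universe u

open CategoryTheory CategoryTheory.Limits AlgebraicGeometry Opposite Pretriangulated
attribute [local instance] HasDerivedCategory.standard

namespace Groth.Agent.Helper4.MVShriek

open Groth.Agent.Helper4.SuppLib Groth.Agent.Helper4.RjSupp Groth.Agent.Helper4.LocalObj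
  Groth.Agent.Helper4.ColocalObj

variable {X : Scheme.{u}}

/-- the counit of `W = U ∩ V` at an object extended by zero from `V` is invertible over `U` -/
theorem isIso_restrict_counit_inf (U V W : X.Opens) (hWV : W ≤ V) (hUVW : U ⊓ V ≤ W)
    (G : DCoh.D (V : Scheme.{u})) :
    IsIso ((DCoh.restrictD U.ι).map ((shriekAdj W).counit.app ((CxOX.extZeroD V.ι).obj G))) := by
  haveI : DCoh.HasRpush U.ι := Groth.Agent.Helper4.HasRD.hasRpush _
  haveI : DCoh.HasRpush W.ι := Groth.Agent.Helper4.HasRD.hasRpush _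
  obtain ⟨S', g, h, hT⟩ := distinguished_cocone_triangle
    ((shriekAdj W).counit.app ((CxOX.extZeroD V.ι).obj G))
  have hcol : IsColocal V S' :=
    isColocal_of_distinguished V _ hT ((isColocal_extZeroD W _).mono hWV)
      (isColocal_extZeroD V G)
  have hcolU : IsColocal (U.ι ⁻¹ᵁ V) ((DCoh.restrictD U.ι).obj S') :=
    isColocal_restrictD U V S' hcol
  have hzW : IsZero ((DCoh.restrictD W.ι).obj S') :=
    (Triangle.isZero₃_iff_isIso₁ _ ((DCoh.restrictD W.ι).map_distinguished _ hT)).2
      (isIso_restrict_counit W _)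
  have hzUV : IsZero ((DCoh.restrictD (U.ι ⁻¹ᵁ V).ι).obj ((DCoh.restrictD U.ι).obj S')) := by
    rw [isZero_restrictD_iff]
    intro i x hx
    rw [support_HD_restrictD] at hx
    rw [isZero_restrictD_iff] at hzW
    have hxV : (U.ι ⁻¹ᵁ V).ι x ∈ U.ι ⁻¹ᵁ V := x.2
    exact hzW i ⟨U.ι ((U.ι ⁻¹ᵁ V).ι x), hUVW ⟨((U.ι ⁻¹ᵁ V).ι x).2, hxV⟩⟩ hx
  have hz : IsZero ((DCoh.restrictD U.ι).obj S') := isZero_of_isColocal _ _ hcolU hzUV
  exact (Triangle.isZero₃_iff_isIso₁ _ ((DCoh.restrictD U.ι).map_distinguished _ hT)).1 hz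

/-- `j_{U!}(E|_U)` -/
noncomputable abbrev shr (U : X.Opens) (E : DCoh.D X) : DCoh.D X :=
  (CxOX.extZeroD U.ι).obj ((DCoh.restrictD U.ι).obj E)

/-- the counit `j_{U!}(E|_U) ⟶ E` -/
noncomputable abbrev ε (U : X.Opens) (E : DCoh.D X) : shr U E ⟶ E :=
  (shriekAdj U).counit.app E

theorem isIso_restrict_ε (U : X.Opens) (E : DCoh.D X) :
    IsIso ((DCoh.restrictD U.ι).map (ε U E)) :=
  haveI : DCoh.HasRpush U.ι := Groth.Agent.Helper4.HasRD.hasRpush _
  isIso_restrict_counit U E

theorem nonempty_cocone_iso (U V W : X.Opens) (hWU : W ≤ U) (hWV : W ≤ V) (hUVW : U ⊓ V ≤ W)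
    (hcov : ∀ x : X, x ∈ U ∨ x ∈ V) (E : DCoh.D X)
    {T : DCoh.D X} (f : T ⟶ shr U E ⊞ shr V E) (h : E ⟶ T⟦(1 : ℤ)⟧)
    (hT : Triangle.mk f (biprod.desc (ε U E) (ε V E)) h ∈ distTriang (DCoh.D X)) :
    Nonempty (T ≅ shr W E) := by
  let b : shr U E ⊞ shr V E ⟶ E := biprod.desc (ε U E) (ε V E)
  let s : T ⟶ shr V E := f ≫ biprod.snd
  let s' : T ⟶ shr U E := f ≫ biprod.fst
  have hrUs : IsIso ((DCoh.restrictD U.ι).map s) := by
    have hTU := (DCoh.restrictD U.ι).map_distinguished _ hT
    haveI : IsIso ((DCoh.restrictD U.ι).map biprod.inl ≫ (DCoh.restrictD U.ι).map b) := by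
      rw [← Functor.map_comp, biprod.inl_desc]
      exact isIso_restrict_ε U E
    have := Groth.Agent.Helper4.TriSplit2.isIso_of_split ((DCoh.restrictD U.ι).map f)
      ((DCoh.restrictD U.ι).map b)
      ((DCoh.restrictD U.ι).map h ≫ ((DCoh.restrictD U.ι).commShiftIso (1 : ℤ)).hom.app T) hTU
      ((DCoh.restrictD U.ι).map biprod.inl) ((DCoh.restrictD U.ι).map biprod.inr)
      ((DCoh.restrictD U.ι).map biprod.fst) ((DCoh.restrictD U.ι).map biprod.snd)
      (by rw [← Functor.map_comp, biprod.inl_snd, Functor.map_zero])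
      (by rw [← Functor.map_comp, biprod.inr_snd, CategoryTheory.Functor.map_id])
      (by rw [← Functor.map_comp, ← Functor.map_comp, ← Functor.map_add, biprod.total,
        CategoryTheory.Functor.map_id])
    rw [Functor.map_comp]
    exact this
  have hrVs' : IsIso ((DCoh.restrictD V.ι).map s') := by
    have hTV := (DCoh.restrictD V.ι).map_distinguished _ hT
    haveI : IsIso ((DCoh.restrictD V.ι).map biprod.inr ≫ (DCoh.restrictD V.ι).map b) := by
      rw [← Functor.map_comp, biprod.inr_desc]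
      exact isIso_restrict_ε V E
    have := Groth.Agent.Helper4.TriSplit2.isIso_of_split ((DCoh.restrictD V.ι).map f)
      ((DCoh.restrictD V.ι).map b)
      ((DCoh.restrictD V.ι).map h ≫ ((DCoh.restrictD V.ι).commShiftIso (1 : ℤ)).hom.app T) hTV
      ((DCoh.restrictD V.ι).map biprod.inr) ((DCoh.restrictD V.ι).map biprod.inl)
      ((DCoh.restrictD V.ι).map biprod.snd) ((DCoh.restrictD V.ι).map biprod.fst)
      (by rw [← Functor.map_comp, biprod.inr_fst, Functor.map_zero])
      (by rw [← Functor.map_comp, biprod.inl_fst, CategoryTheory.Functor.map_id])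
      (by rw [← Functor.map_comp, ← Functor.map_comp, ← Functor.map_add, add_comm, biprod.total,
        CategoryTheory.Functor.map_id])
    rw [Functor.map_comp]
    exact this
  have hrWs : IsIso ((DCoh.restrictD W.ι).map s) := isIso_restrictD_map_of_le hWU s hrUs
  have hrWs' : IsIso ((DCoh.restrictD W.ι).map s') := isIso_restrictD_map_of_le hWV s' hrVs'
  have hU : IsIso ((DCoh.restrictD U.ι).map ((shriekAdj W).counit.app T)) := by
    have nat := (shriekAdj W).counit.naturality s
    have e1 : (DCoh.restrictD U.ι).map ((shriekAdj W).counit.app T) ≫ (DCoh.restrictD U.ι).map s =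
        (DCoh.restrictD U.ι).map ((CxOX.extZeroD W.ι).map ((DCoh.restrictD W.ι).map s)) ≫
          (DCoh.restrictD U.ι).map ((shriekAdj W).counit.app (shr V E)) := by
      rw [← Functor.map_comp, ← Functor.map_comp]
      exact congrArg _ nat.symm
    haveI := isIso_restrict_counit_inf U V W hWV hUVW ((DCoh.restrictD V.ι).obj E)
    haveI : IsIso ((DCoh.restrictD U.ι).map ((shriekAdj W).counit.app T) ≫
        (DCoh.restrictD U.ι).map s) := by
      rw [e1]
      infer_instance
    exact IsIso.of_isIso_comp_right _ ((DCoh.restrictD U.ι).map s)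
  have hV : IsIso ((DCoh.restrictD V.ι).map ((shriekAdj W).counit.app T)) := by
    have nat := (shriekAdj W).counit.naturality s'
    have e1 : (DCoh.restrictD V.ι).map ((shriekAdj W).counit.app T) ≫ (DCoh.restrictD V.ι).map s' =
        (DCoh.restrictD V.ι).map ((CxOX.extZeroD W.ι).map ((DCoh.restrictD W.ι).map s')) ≫
          (DCoh.restrictD V.ι).map ((shriekAdj W).counit.app (shr U E)) := by
      rw [← Functor.map_comp, ← Functor.map_comp]
      exact congrArg _ nat.symm
    haveI := isIso_restrict_counit_inf V U W hWU (by rw [inf_comm]; exact hUVW)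
      ((DCoh.restrictD U.ι).obj E)
    haveI : IsIso ((DCoh.restrictD V.ι).map ((shriekAdj W).counit.app T) ≫
        (DCoh.restrictD V.ι).map s') := by
      rw [e1]
      infer_instance
    exact IsIso.of_isIso_comp_right _ ((DCoh.restrictD V.ι).map s')
  have hcounit : IsIso ((shriekAdj W).counit.app T) := by
    apply isIso_of_restrict (fun b : Bool => if b then U else V)
    · intro x
      rcases hcov x with hx | hx
      · exact ⟨true, hx⟩
      · exact ⟨false, hx⟩
    · intro b
      cases b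
      · exact hV
      · exact hU
  have hrWε : IsIso ((DCoh.restrictD W.ι).map (ε V E)) :=
    isIso_restrictD_map_of_le hWV _ (isIso_restrict_ε V E)
  exact ⟨(asIso ((shriekAdj W).counit.app T)).symm ≪≫
    (CxOX.extZeroD W.ι).mapIso (asIso ((DCoh.restrictD W.ι).map s) ≪≫
      asIso ((DCoh.restrictD W.ι).map (ε V E)))⟩

end Groth.Agent.Helper4.MVShriek
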