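import Mathlib
import Groth.Agent.Helper4.AssDict
import Groth.Agent.Helper4.SuppDict

set_option autoImplicit false
universe u
open CategoryTheory CategoryTheory.Limits AlgebraicGeometry TopologicalSpace Opposite Submodule

namespace Groth.Agent.Helper4.AssMax
open Groth.Agent.Helper4.StalkDict Groth.Agent.Helper4

variable {X : Scheme.{u}}

theorem specializes_of_primeIdealOf_le {U : X.Opens} (hU : IsAffineOpen U) {x y : X} (hx : x ∈ U)
    (hy : y ∈ U) (h : hU.primeIdealOf ⟨x, hx⟩ ≤ hU.primeIdealOf ⟨y, hy⟩) : x ⤳ y := by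
  rw [PrimeSpectrum.le_iff_specializes] at h
  have := h.map hU.fromSpec.continuous
  rw [hU.fromSpec_primeIdealOf, hU.fromSpec_primeIdealOf] at this
  exact this

set_option backward.isDefEq.respectTransparency false in
/-- a nonzero stalk at a point of an affine open contains a nonzero germ of a section over it -/
theorem exists_germ_ne_zero (F : X.Modules) [F.IsQuasicoherent] {U : X.Opens}
    (hU : IsAffineOpen U) (x : X) (hx : x ∈ U) (h : ¬ Subsingleton (F.presheaf.stalk x)) :
    ∃ m : Γ(F, U), F.presheaf.germ U x hx m ≠ 0 := by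
  by_contra hcon
  push Not at hcon
  apply h
  letI := sectionModStalk F x hx
  haveI := isLocalizedModule_germ hU F x hx
  have h0 : ∀ a : F.presheaf.stalk x, a = 0 := by
    intro a
    obtain ⟨⟨m, s⟩, hs⟩ := IsLocalizedModule.surj
      (hU.primeIdealOf ⟨x, hx⟩).asIdeal.primeCompl (germLin F x hx) a
    have h1 : s • a = 0 := by rw [hs]; exact hcon m
    have hu := IsLocalizedModule.map_units (germLin F x hx) s
    rw [Module.End.isUnit_iff] at hu
    apply hu.injective
    rw [map_zero]
    exact h1
  exact ⟨fun a b => by rw [h0 a, h0 b]⟩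

theorem isAssPoint_of_maximal_in_support (F : X.Modules) [F.IsQuasicoherent] (x : X)
    (hx : x ∈ CohB1.support F)
    (hmax : ∀ y ∈ CohB1.support F, y ⤳ x → y = x) : Curv2.IsAssPoint F x := by
  obtain ⟨_, ⟨V, hV : IsAffineOpen V, rfl⟩, hxV, -⟩ :=
    X.isBasis_affineOpens.exists_subset_of_mem_open (Set.mem_univ x) isOpen_univ
  obtain ⟨m, hm⟩ := exists_germ_ne_zero F hV x hxV hx
  have hle := not_not.mp ((not_congr (AssDict.germ_eq_zero_iff hV F x hxV m)).mp hm)
  obtain ⟨y, hyV, hass, hmin, hyx⟩ := AssDict.exists_isAssPoint_le hV F m _ hle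
  have hspec : y ⤳ x := specializes_of_primeIdealOf_le hV hyV hxV hyx
  have hysupp : y ∈ CohB1.support F := by
    intro hsub
    have : F.presheaf.germ V y hyV m = 0 := Subsingleton.elim _ _
    rw [AssDict.germ_eq_zero_iff hV F y hyV m] at this
    exact this hmin.1.2
  rw [← hmax y hysupp hspec]
  exact hass

end Groth.Agent.Helper4.AssMax
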