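import Mathlib
import Groth.Agent.Helper4.AssMax
import Groth.Prelude.Def_FDesc

set_option autoImplicit false
universe u
open CategoryTheory CategoryTheory.Limits AlgebraicGeometry TopologicalSpace Opposite Submodule

namespace Groth.Agent.Helper4.AssMax2
open Groth.Agent.Helper4.StalkDict Groth.Agent.Helper4

variable {X : Scheme.{u}}

theorem nontrivial_of_isAssPoint (F : X.Modules) (x : X) (h : Curv2.IsAssPoint F x) :
    Nontrivial (F.presheaf.stalk x) := by
  rw [← not_subsingleton_iff_nontrivial]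
  intro hs
  exact AssDict.not_isAssPoint_of_subsingleton F x hs h

/-- every point of the support has a generization which is an associated point -/
theorem exists_isAssPoint_specializes (F : X.Modules) [F.IsQuasicoherent] (y : X)
    (hy : Nontrivial (F.presheaf.stalk y)) : ∃ z : X, Curv2.IsAssPoint F z ∧ z ⤳ y := by
  obtain ⟨_, ⟨V, hV : IsAffineOpen V, rfl⟩, hyV, -⟩ :=
    X.isBasis_affineOpens.exists_subset_of_mem_open (Set.mem_univ y) isOpen_univ
  obtain ⟨m, hm⟩ := AssMax.exists_germ_ne_zero F hV y hyV (not_subsingleton_iff_nontrivial.mpr hy)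
  have hle := not_not.mp ((not_congr (AssDict.germ_eq_zero_iff hV F y hyV m)).mp hm)
  obtain ⟨z, hzV, hass, -, hzy⟩ := AssDict.exists_isAssPoint_le hV F m _ hle
  exact ⟨z, hass, AssMax.specializes_of_primeIdealOf_le hV hzV hyV hzy⟩

theorem maximal_ass_iff (F : X.Modules) [F.IsQuasicoherent] (x : X) :
    (Curv2.IsAssPoint F x ∧ ∀ y, Curv2.IsAssPoint F y → y ⤳ x → y = x) ↔
      (Nontrivial ↑(F.presheaf.stalk x) ∧
        ∀ y : X, Nontrivial ↑(F.presheaf.stalk y) → y ⤳ x → y = x) := by
  constructor
  · rintro ⟨hx, hmax⟩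
    refine ⟨nontrivial_of_isAssPoint F x hx, fun y hy hyx => ?_⟩
    obtain ⟨z, hz, hzy⟩ := exists_isAssPoint_specializes F y hy
    have hzx : z = x := hmax z hz (hzy.trans hyx)
    subst hzx
    exact (hzy.antisymm hyx).symm.eq
  · rintro ⟨hx, hmax⟩
    refine ⟨?_, fun y hy hyx => hmax y (nontrivial_of_isAssPoint F y hy) hyx⟩
    apply AssMax.isAssPoint_of_maximal_in_support F x (not_subsingleton_iff_nontrivial.mpr hx)
    intro y hy hyx
    exact hmax y (not_subsingleton_iff_nontrivial.mp hy) hyx

end Groth.Agent.Helper4.AssMax2
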