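import Groth.Agent.Helper4.FinLocFree7
import Groth.Agent.Helper4.TensorGen
import Groth.Agent.Helper4.SubExt3
import Groth.Agent.Helper4.QcqsMod
import Groth.Prelude.Def_LCI2
import Mathlib

set_option autoImplicit false
universe u
open CategoryTheory CategoryTheory.Limits AlgebraicGeometry Opposite TopologicalSpace

namespace Groth.Agent.Helper4.QAffSec

open Groth.Agent.Helper4.GenLoc Groth.Agent.Helper4.TensorInv Groth.Agent.Helper4.TensorGen
  Groth.Agent.Helper4.FinLocFree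

section Algebra

variable {A : Type u} [CommRing A]

/-- prime avoidance: a finite set of points in an open of `Spec A` lies in a basic open inside it -/
theorem exists_basicOpen_le (W : Opens (PrimeSpectrum A)) (P : Finset (PrimeSpectrum A))
    (hP : ∀ p ∈ P, p ∈ W) :
    ∃ f : A, (∀ p ∈ P, f ∉ p.asIdeal) ∧ PrimeSpectrum.basicOpen f ≤ W := by
  classical
  let I : Ideal A := PrimeSpectrum.vanishingIdeal ((W : Set (PrimeSpectrum A))ᶜ)
  have hI : ¬ ((I : Set A) ⊆ ⋃ p ∈ (P : Set (PrimeSpectrum A)), (p.asIdeal : Set A)) := by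
    intro h1
    have h0 := h1 (I.zero_mem)
    simp only [Set.mem_iUnion] at h0
    obtain ⟨p₀, -, -⟩ := h0
    obtain ⟨p, hp, hIp⟩ := (Ideal.subset_union_prime (f := fun p : PrimeSpectrum A => p.asIdeal)
      p₀ p₀ (fun p _ _ _ => p.isPrime)).mp h1
    have h2 : p ∈ PrimeSpectrum.zeroLocus (I : Set A) := by
      rw [PrimeSpectrum.mem_zeroLocus]; exact hIp
    rw [PrimeSpectrum.zeroLocus_vanishingIdeal_eq_closure,
      (W.isOpen.isClosed_compl).closure_eq] at h2
    exact h2 (hP p hp)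
  rw [Set.not_subset] at hI
  obtain ⟨f, hfI, hf⟩ := hI
  refine ⟨f, ?_, ?_⟩
  · intro p hp hfp
    exact hf (Set.mem_biUnion (by exact_mod_cast hp) hfp)
  · intro q hq
    by_contra hqW
    have := (PrimeSpectrum.mem_vanishingIdeal _ _).mp hfI q hqW
    exact hq this

end Algebra

variable {X : Scheme.{u}}

/-- in a quasi-affine scheme, a finite set of points in an open `W` is contained in an affine
`X_f ⊆ W` with `f` a global function -/
theorem exists_basicOpen_affine [X.IsQuasiAffine] (W : X.Opens) (E : Set X) (hE : E.Finite)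
    (hEW : E ⊆ W) :
    ∃ f : Γ(X, ⊤), IsAffineOpen (X.basicOpen f) ∧ E ⊆ X.basicOpen f ∧ X.basicOpen f ≤ W := by
  classical
  let j := X.toSpecΓ
  let W' : Opens (PrimeSpectrum Γ(X, ⊤)) := j ''ᵁ W
  let P : Finset (PrimeSpectrum Γ(X, ⊤)) := hE.toFinset.image (fun x => j x)
  obtain ⟨f, hfP, hfW⟩ := exists_basicOpen_le W' P (by
    intro p hp
    obtain ⟨x, hx, rfl⟩ := Finset.mem_image.mp hp
    exact ⟨x, hEW (hE.mem_toFinset.mp hx), rfl⟩)
  have hpre : X.basicOpen f = j ⁻¹ᵁ (PrimeSpectrum.basicOpen f) :=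
    (Scheme.toSpecΓ_preimage_basicOpen X f).symm
  refine ⟨f, ?_, ?_, ?_⟩
  · rw [← Scheme.Hom.isAffineOpen_iff_of_isOpenImmersion j, hpre]
    have : j ''ᵁ (j ⁻¹ᵁ (PrimeSpectrum.basicOpen f)) = PrimeSpectrum.basicOpen f := by
      rw [Scheme.Hom.image_preimage_eq_opensRange_inf]
      apply inf_eq_right.mpr
      intro q hq
      obtain ⟨x, -, rfl⟩ := hfW hq
      exact ⟨x, rfl⟩
    rw [this]
    exact IsAffineOpen.Spec_basicOpen f
  · intro x hx
    rw [hpre]
    change j x ∈ PrimeSpectrum.basicOpen f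
    exact hfP (j x) (Finset.mem_image.mpr ⟨x, hE.mem_toFinset.mpr hx, rfl⟩)
  · intro x hx
    rw [hpre] at hx
    obtain ⟨y, hy, hyx⟩ := hfW (show j x ∈ PrimeSpectrum.basicOpen f from hx)
    have : y = x := j.isOpenEmbedding.injective hyx
    exact this ▸ hy

/-- `O^1 ≅ O` -/
noncomputable def freeOneIso (Y : Scheme.{u}) : FlatMod.freeMod Y 1 ≅ Coh.structureModule Y :=
  coproductUniqueIso (fun _ : Fin 1 => Coh.structureModule Y)

theorem isFinLocFreeOfRank_one_of_isInvertible (L : X.Modules) (hL : PicF.IsInvertible L) :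
    FlatMod.IsFinLocFreeOfRank 1 L := fun x => by
  obtain ⟨U, hx, ⟨e⟩⟩ := hL x
  exact ⟨U, hx, ⟨e ≪≫ (freeOneIso _).symm⟩⟩

/-- an invertible module on a quasi-affine scheme is trivial on an affine `X_f ⊆ W` containing a
given finite subset of `W` -/
theorem exists_basicOpen_triv [X.IsQuasiAffine] (L : X.Modules) (hL : PicF.IsInvertible L)
    (W : X.Opens) (E : Set X) (hE : E.Finite) (hEW : E ⊆ W) :
    ∃ f : Γ(X, ⊤), IsAffineOpen (X.basicOpen f) ∧ E ⊆ X.basicOpen f ∧ X.basicOpen f ≤ W ∧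
      Nonempty (L.restrict (X.basicOpen f).ι ≅ Coh.structureModule (X.basicOpen f : Scheme.{u})) := by
  obtain ⟨f₀, hf₀, hE₀, hW₀⟩ := exists_basicOpen_affine W E hE hEW
  obtain ⟨g, hEg, hg⟩ := FinLocFree7.exists_basicOpen_free_of_finite hf₀ 1 L
    (isFinLocFreeOfRank_one_of_isInvertible L hL) E hE hE₀
  obtain ⟨f, hf, hEf, hfg⟩ := exists_basicOpen_affine (X.basicOpen g) E hE hEg
  refine ⟨f, hf, hEf, hfg.trans ((X.basicOpen_le g).trans hW₀), ?_⟩
  obtain ⟨i⟩ := hg.of_le hfg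
  exact ⟨i ≪≫ freeOneIso _⟩

theorem app_one_eq_res (L : X.Modules) (s : Coh.structureModule X ⟶ L) (V : X.Opens) :
    s.app V (one X V) = L.presheaf.map (homOfLE (le_top : V ≤ ⊤)).op (s.app ⊤ (one X ⊤)) :=
  (SecTwist.map_val s (homOfLE (le_top : V ≤ ⊤))).symm

/-- if the global section named by `s` is divisible by the function `f`, then `X_s ⊆ X_f` -/
theorem genLocus_le_basicOpen (L : X.Modules) (s : Coh.structureModule X ⟶ L) (f : Γ(X, ⊤))
    (m : Γ(L, ⊤)) (h : s.app ⊤ (one X ⊤) = f • m) : CohB1.genLocus L s ≤ X.basicOpen f := by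
  apply sSup_le
  intro V hV
  have hV' : IsIso ((Scheme.Modules.restrictFunctor V.ι).map s) := hV
  have hb := (isIso_restrict_iff s V).mp hV' V le_rfl
  rw [← isUnit_res_iff]
  have h1 : s.app V (one X V) = X.presheaf.map (homOfLE (le_top : V ≤ ⊤)).op f •
      L.presheaf.map (homOfLE (le_top : V ≤ ⊤)).op m := by
    rw [app_one_eq_res, h, Scheme.Modules.map_smul]
  obtain ⟨a, ha⟩ := hb.2 (L.presheaf.map (homOfLE (le_top : V ≤ ⊤)).op m)
  have h2 : s.app V (X.presheaf.map (homOfLE (le_top : V ≤ ⊤)).op f • a) = s.app V (one X V) := by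
    rw [Scheme.Modules.Hom.app_smul, ha, h1]
  have h3 := hb.1 h2
  exact isUnit_iff_exists_inv.mpr ⟨toFn a, h3⟩

/-- if over a trivializing open `V` the section named by `s` is a unit multiple of the generator,
then `V ⊆ X_s` -/
theorem le_genLocus_of_generator (L : X.Modules) (s : Coh.structureModule X ⟶ L) (V : X.Opens)
    (ε : L.restrict V.ι ≅ Coh.structureModule (V : Scheme.{u})) (u : Γ(X, V.ι ''ᵁ ⊤))
    (hu : IsUnit u)
    (h : s.app (V.ι ''ᵁ ⊤) (one X (V.ι ''ᵁ ⊤)) =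
      u • (show Γ(L, V.ι ''ᵁ ⊤) from ε.inv.app ⊤ (one (V : Scheme.{u}) ⊤))) :
    V ≤ CohB1.genLocus L s := by
  have h1 := genLocus_inf_eq L s V ε
  have h2 : fn (endo L s V ε) = (V.ι.appIso ⊤).hom u := by
    rw [fn_endo_eq]
    have h3 : secU L s V = ((V.ι.appIso ⊤).hom u) • (ε.inv.app ⊤ (one (V : Scheme.{u}) ⊤)) := by
      rw [TensorRes.restrict_smul]
      have : (V.ι.appIso ⊤).inv ((V.ι.appIso ⊤).hom u) = u := by
        rw [← CommRingCat.comp_apply, Iso.hom_inv_id]; rfl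
      rw [this]
      exact h
    rw [h3, Scheme.Modules.Hom.app_smul, iso_hom_inv_app, GenLoc.smul_one]
  have h4 : IsUnit (fn (endo L s V ε)) := by
    rw [h2]; exact hu.map (V.ι.appIso ⊤).hom.hom
  rw [Scheme.basicOpen_of_isUnit _ h4, Scheme.Opens.ι_image_top] at h1
  exact h1 ▸ inf_le_left

theorem res_res (M : X.Modules) {A B C : X.Opens} (h1 : B ≤ A) (h2 : C ≤ B) (m : Γ(M, A)) :
    M.presheaf.map (homOfLE h2).op (M.presheaf.map (homOfLE h1).op m) =
      M.presheaf.map (homOfLE (h2.trans h1)).op m := by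
  rw [← ConcreteCategory.comp_apply, ← Functor.map_comp]
  rfl

theorem res_resO {A B C : X.Opens} (h1 : B ≤ A) (h2 : C ≤ B) (m : Γ(X, A)) :
    X.presheaf.map (homOfLE h2).op (X.presheaf.map (homOfLE h1).op m) =
      X.presheaf.map (homOfLE (h2.trans h1)).op m := by
  rw [← ConcreteCategory.comp_apply, ← Functor.map_comp]
  rfl

theorem res_self (M : X.Modules) {A : X.Opens} (h : A ≤ A) (m : Γ(M, A)) :
    M.presheaf.map (homOfLE h).op m = m := by
  have : (homOfLE h).op = 𝟙 (op A) := rfl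
  rw [this, M.presheaf.map_id]
  rfl

/-- on a qcqs scheme, if a quasi-coherent `L` is trivial over `X_f`, then `X_f = X_s` for some
global section `s` of `L` -/
theorem exists_hom_genLocus_eq [CompactSpace X] [QuasiSeparatedSpace X] (L : X.Modules)
    [L.IsQuasicoherent] (f : Γ(X, ⊤))
    (ε : L.restrict (X.basicOpen f).ι ≅ Coh.structureModule (X.basicOpen f : Scheme.{u})) :
    ∃ s : Coh.structureModule X ⟶ L, CohB1.genLocus L s = X.basicOpen f := by
  set U := X.basicOpen f with hU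
  have hT : U.ι ''ᵁ ⊤ = U := Scheme.Opens.ι_image_top U
  let e : Γ(L, U.ι ''ᵁ ⊤) := ε.inv.app ⊤ (one (U : Scheme.{u}) ⊤)
  let t : Γ(L, X.basicOpen f) := L.presheaf.map (homOfLE hT.ge).op e
  obtain ⟨n, m, hm⟩ := QcqsMod.exists_pow_smul_eq_res_of_qcqs L (U := ⊤) isCompact_univ
    isQuasiSeparated_univ f t
  obtain ⟨σ0, hσ⟩ := SubExt.exists_unit_hom_of_section L (f • m)
  let σ : Coh.structureModule X ⟶ L := σ0
  have hσ' : σ.app ⊤ (one X ⊤) = f • m := hσ
  refine ⟨σ, le_antisymm (genLocus_le_basicOpen L σ f m hσ') ?_⟩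
  have hTf : U.ι ''ᵁ ⊤ ≤ X.basicOpen f := hT.le
  refine le_genLocus_of_generator L σ U ε
    (X.presheaf.map (homOfLE (le_top : U.ι ''ᵁ ⊤ ≤ ⊤)).op (f * f ^ n)) ?_ ?_
  · rw [isUnit_res_iff, ← pow_succ', Scheme.basicOpen_pow (X := X) f (Nat.succ_pos n)]
    exact hTf
  · rw [app_one_eq_res, hσ', Scheme.Modules.map_smul]
    have h1 : L.presheaf.map (homOfLE (le_top : U.ι ''ᵁ ⊤ ≤ ⊤)).op m =
        X.presheaf.map (homOfLE (le_top : U.ι ''ᵁ ⊤ ≤ ⊤)).op (f ^ n) • e := by
      rw [← res_res L (le_top : X.basicOpen f ≤ ⊤) hTf m]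
      have hm' : L.presheaf.map (homOfLE (le_top : X.basicOpen f ≤ ⊤)).op m =
          X.presheaf.map (homOfLE (le_top : X.basicOpen f ≤ ⊤)).op (f ^ n) • t := hm.symm
      rw [hm', Scheme.Modules.map_smul, res_resO, res_res, res_self]
    rw [h1, smul_smul, ← map_mul]

theorem isQuasicoherent_of_isInvertible (L : X.Modules) (hL : PicF.IsInvertible L) :
    L.IsQuasicoherent :=
  FinLocFree4.isQuasicoherent_of_isFinLocFree L
    (FinLocFree7.isFinLocFree_of_rank L (isFinLocFreeOfRank_one_of_isInvertible L hL))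

/-- S2127 -/
theorem exists_affine_genLocus [X.IsQuasiAffine] (L : X.Modules) (hL : PicF.IsInvertible L)
    (W : X.Opens) (E : Set X) (hE : E.Finite) (hEW : E ⊆ W) :
    ∃ s : Coh.structureModule X ⟶ L, IsAffineOpen (CohB1.genLocus L s) ∧
      E ⊆ CohB1.genLocus L s ∧ CohB1.genLocus L s ≤ W := by
  obtain ⟨f, hf, hEf, hfW, ⟨ε⟩⟩ := exists_basicOpen_triv L hL W E hE hEW
  haveI : L.IsQuasicoherent := isQuasicoherent_of_isInvertible L hL
  obtain ⟨s, hs⟩ := exists_hom_genLocus_eq L f ε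
  exact ⟨s, hs ▸ hf, hs ▸ hEf, hs ▸ hfW⟩

/-- S4373: invertible modules on quasi-affine schemes are ample -/
theorem isAmple_of_isQuasiAffine [X.IsQuasiAffine] (L : X.Modules) (hL : PicF.IsInvertible L) :
    CohB1.IsAmple L := by
  refine ⟨hL, inferInstance, fun x => ?_⟩
  obtain ⟨s, hs, hE, -⟩ := exists_affine_genLocus (CohB1.tensorPow L 1)
    (isInvertible_tensorPow hL 1) ⊤ {x} (Set.finite_singleton x) (fun _ _ => trivial)
  exact ⟨0, s, hE rfl, hs⟩

theorem IsTrivAlong.restrict {Y Z : Scheme.{u}} {L : X.Modules} (j : Y ⟶ X) [IsOpenImmersion j]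
    (k : Z ⟶ Y) [IsOpenImmersion k] (h : IsTrivAlong L (k ≫ j)) : IsTrivAlong (L.restrict j) k := by
  obtain ⟨i⟩ := h
  exact ⟨((Scheme.Modules.restrictFunctorComp k j).app L).symm ≪≫ i⟩

/-- the restriction of an invertible module to an open subscheme is invertible -/
theorem isInvertible_restrict {Y : Scheme.{u}} (j : Y ⟶ X) [IsOpenImmersion j] {L : X.Modules}
    (hL : PicF.IsInvertible L) : PicF.IsInvertible (L.restrict j) := by
  intro y
  obtain ⟨V, hxV, hV⟩ := hL (j y)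
  refine ⟨j ⁻¹ᵁ V, hxV, ?_⟩
  have hk : (j.resLE V (j ⁻¹ᵁ V) le_rfl) ≫ V.ι = (j ⁻¹ᵁ V).ι ≫ j := Scheme.Hom.resLE_comp_ι ..
  haveI : IsOpenImmersion ((j.resLE V (j ⁻¹ᵁ V) le_rfl) ≫ V.ι) := by rw [hk]; infer_instance
  haveI : IsOpenImmersion (j.resLE V (j ⁻¹ᵁ V) le_rfl) := IsOpenImmersion.of_comp _ V.ι
  exact IsTrivAlong.restrict j _ ((IsTrivAlong.comp V.ι hV _).congr hk)

/-- S4427 -/
theorem isRelAmple_id (Y : Scheme.{u}) (L : Y.Modules) (hL : PicF.IsInvertible L) :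
    RelAmple.IsRelAmple (𝟙 Y) L := by
  refine ⟨inferInstance, fun V => ?_⟩
  haveI : IsAffine ((𝟙 Y ⁻¹ᵁ V.1 : Y.Opens) : Scheme.{u}) := V.2
  exact isAmple_of_isQuasiAffine _ (isInvertible_restrict _ hL)

end Groth.Agent.Helper4.QAffSec
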