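import Mathlib

/-!
# Splittings and finite coproducts
-/

set_option autoImplicit false
set_option linter.unusedSectionVars false
set_option linter.style.haveILetI false
universe u

open CategoryTheory CategoryTheory.Limits

namespace Groth.Agent.Helper4.SN

section SplitSigma

variable {C : Type*} [Category C] [Preadditive C]

/-- the middle term of a split short complex whose right term is a finite coproduct is a finite
coproduct -/
theorem nonempty_iso_sigma_of_splitting {r : ℕ} (f : Fin (r + 1) → C) [HasCoproduct f]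
    [HasCoproduct (fun i : Fin r => f i.succ)] (S : ShortComplex C) (h : S.Splitting)
    (u : f 0 ≅ S.X₁) (θ : S.X₃ ≅ ∐ (fun i : Fin r => f i.succ)) :
    Nonempty (S.X₂ ≅ ∐ f) := by
  let c₁ : Cofan (fun i : Fin r => f i.succ) :=
    Cofan.mk S.X₃ (fun i => Sigma.ι (fun i : Fin r => f i.succ) i ≫ θ.inv)
  have t₁ : IsColimit c₁ := by
    refine mkCofanColimit c₁ (fun t => θ.hom ≫ Sigma.desc t.inj) ?_ ?_
    · intro t j
      change (Sigma.ι (fun i : Fin r => f i.succ) j ≫ θ.inv) ≫ θ.hom ≫ Sigma.desc t.inj = t.inj j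
      rw [Category.assoc, Iso.inv_hom_id_assoc, Sigma.ι_desc]
    · intro t m hm
      rw [← cancel_epi θ.inv, Iso.inv_hom_id_assoc]
      apply Sigma.hom_ext
      intro j
      rw [Sigma.ι_desc, ← hm j]
      change _ = (Sigma.ι (fun i : Fin r => f i.succ) j ≫ θ.inv) ≫ m
      rw [Category.assoc]
  let c₂ : BinaryCofan (f 0) c₁.pt := BinaryCofan.mk (u.hom ≫ S.f) h.s
  have t₂ : IsColimit c₂ := by
    refine BinaryCofan.IsColimit.mk c₂ (fun a b => h.r ≫ u.inv ≫ a + S.g ≫ b) ?_ ?_ ?_
    · intro T a b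
      change (u.hom ≫ S.f) ≫ (h.r ≫ u.inv ≫ a + S.g ≫ b) = a
      rw [Preadditive.comp_add, Category.assoc, h.f_r_assoc, Iso.hom_inv_id_assoc, Category.assoc,
        S.zero_assoc, zero_comp, comp_zero, add_zero]
    · intro T a b
      change h.s ≫ (h.r ≫ u.inv ≫ a + S.g ≫ b) = b
      rw [Preadditive.comp_add, ← Category.assoc, h.s_r, zero_comp, h.s_g_assoc, zero_add]
    · intro T a b m h1 h2
      change (u.hom ≫ S.f) ≫ m = a at h1
      change h.s ≫ m = b at h2
      rw [← h1, ← h2]
      have h3 : m = (h.r ≫ S.f + S.g ≫ h.s) ≫ m := by rw [h.id, Category.id_comp]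
      conv_lhs => rw [h3]
      rw [Preadditive.add_comp, Category.assoc, Category.assoc, Category.assoc,
        Iso.inv_hom_id_assoc]
  exact ⟨(extendCofanIsColimit f t₁ t₂).coconePointUniqueUpToIso (coproductIsCoproduct f)⟩

end SplitSigma

end Groth.Agent.Helper4.SN
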