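import Groth.Agent.Helper4.AmpleIso
import Mathlib

set_option autoImplicit false
universe u
open CategoryTheory CategoryTheory.Limits AlgebraicGeometry Opposite TopologicalSpace

namespace Groth.Agent.Helper4.TwistLocal

open Groth.Agent.Helper4.GenLoc Groth.Agent.Helper4.TensorInv Groth.Agent.Helper4.TensorGen
  Groth.Agent.Helper4.QAffSec Groth.Agent.Helper4.TensorLift

variable {X : Scheme.{u}}

/-- iterated tensor power of a local section -/
noncomputable def ePow (L : X.Modules) (T : X.Opens) (e : Γ(L, T)) :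
    ∀ n : ℕ, Γ(CohB1.tensorPow L n, T)
  | 0 => one X T
  | n + 1 => SecTwist.tmul (CohB1.tensorPow L n) L T (ePow L T e n) e

theorem ePow_map (L : X.Modules) {T T' : X.Opens} (i : T' ⟶ T) (e : Γ(L, T)) (n : ℕ) :
    (CohB1.tensorPow L n).presheaf.map i.op (ePow L T e n) =
      ePow L T' (L.presheaf.map i.op e) n := by
  induction n with
  | zero => exact map_one (X.presheaf.map i.op).hom
  | succ n ih =>
    change (CohB1.tensorMod (CohB1.tensorPow L n) L).val.map i.op
        (SecTwist.tmul _ _ T (ePow L T e n) e) = _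
    rw [SecTwist.map_tmul]
    exact congrArg (fun q => SecTwist.tmul (CohB1.tensorPow L n) L T' q (L.presheaf.map i.op e)) ih

theorem ePow_smul (L : X.Modules) (T : X.Opens) (b : Γ(X, T)) (e : Γ(L, T)) (n : ℕ) :
    ePow L T (b • e) n = b ^ n • ePow L T e n := by
  induction n with
  | zero =>
    rw [pow_zero, one_smul]
    rfl
  | succ n ih =>
    change SecTwist.tmul _ _ T (ePow L T (b • e) n) (b • e) = _
    rw [ih, tmul_smul_left, tmul_smul_right, smul_smul, ← pow_succ]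
    rfl

theorem pow_eq_ePow {L : X.Modules} (s : Coh.structureModule X ⟶ L) (T : X.Opens) (n : ℕ) :
    SecTwist.pow s n T = ePow L T (SecTwist.val s T) n := by
  induction n with
  | zero => rfl
  | succ n ih =>
    change SecTwist.tmul _ _ T (SecTwist.pow s n T) (SecTwist.val s T) = _
    rw [ih]
    rfl

theorem pow_eq_of_val_eq {L : X.Modules} (s : Coh.structureModule X ⟶ L) (T : X.Opens)
    (e : Γ(L, T)) (b : Γ(X, T)) (h : SecTwist.val s T = b • e) (n : ℕ) :
    SecTwist.pow s n T = b ^ n • ePow L T e n := by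
  rw [pow_eq_ePow, h, ePow_smul]

theorem tmul_zero_left (A B : X.Modules) (T : X.Opens) (n : Γ(B, T)) :
    SecTwist.tmul A B T 0 n = 0 := by
  have h := tmul_add_left A B T 0 0 n
  rw [add_zero] at h
  exact left_eq_add.mp h

theorem twist_eq_of_val_eq {L : X.Modules} (s : Coh.structureModule X ⟶ L) (F : X.Modules)
    (T : X.Opens) (e : Γ(L, T)) (b : Γ(X, T)) (h : SecTwist.val s T = b • e) (n : ℕ)
    (t : Γ(F, T)) :
    SecTwist.twist s n F T t = SecTwist.tmul F (CohB1.tensorPow L n) T (b ^ n • t) (ePow L T e n) := by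
  unfold SecTwist.twist
  rw [pow_eq_of_val_eq s T e b h, tmul_smul_right, tmul_smul_left]

/-- local data attached to a trivialization -/
theorem exists_local_frame (L : X.Modules) (s : Coh.structureModule X ⟶ L) (U : X.Opens)
    (ε : L.restrict U.ι ≅ Coh.structureModule (U : Scheme.{u})) :
    ∃ b : Γ(X, U.ι ''ᵁ ⊤), SecTwist.val s (U.ι ''ᵁ ⊤) =
        b • (show Γ(L, U.ι ''ᵁ ⊤) from ε.inv.app ⊤ (one (U : Scheme.{u}) ⊤)) ∧
      CohB1.genLocus L s ⊓ U = X.basicOpen b := by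
  refine ⟨(U.ι.appIso ⊤).inv (fn (endo L s U ε)), ?_, ?_⟩
  · have h1 := fn_endo_eq L s U ε
    have h2 : secU L s U = ε.inv.app ⊤ (ε.hom.app ⊤ (secU L s U)) := (iso_inv_hom_app ε ⊤ _).symm
    have h3 : ε.hom.app ⊤ (secU L s U) = (fn (endo L s U ε)) • one (U : Scheme.{u}) ⊤ := by
      rw [h1]
      exact (GenLoc.smul_one ⊤ (toFn (ε.hom.app ⊤ (secU L s U)))).symm
    rw [h3, Scheme.Modules.Hom.app_smul] at h2
    exact h2
  · rw [genLocus_inf_eq L s U ε, Scheme.image_basicOpen]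

/-- every point has an affine open neighbourhood over which `L` is trivial -/
theorem exists_affine_triv (L : X.Modules) (hL : PicF.IsInvertible L) (x : X) :
    ∃ W : X.Opens, x ∈ W ∧ IsAffineOpen W ∧
      Nonempty (L.restrict W.ι ≅ Coh.structureModule (W : Scheme.{u})) := by
  obtain ⟨U, hxU, hU⟩ := hL x
  obtain ⟨W, hW, hxW, hWU⟩ := exists_isAffineOpen_mem_and_subset (X := X) (x := x) (U := U) hxU
  exact ⟨W, hxW, hW, IsTrivAlong.of_le hWU hU⟩

/-- local vanishing of twists -/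
theorem exists_twist_eq_zero_local (L : X.Modules) (s : Coh.structureModule X ⟶ L)
    (F : X.Modules) [F.IsQuasicoherent] (W : X.Opens) (hW : IsCompact (W : Set X))
    (ε : L.restrict W.ι ≅ Coh.structureModule (W : Scheme.{u}))
    (t : Γ(F, W.ι ''ᵁ ⊤))
    (ht : ∀ (V : X.Opens) (h1 : V ≤ W.ι ''ᵁ ⊤), V ≤ CohB1.genLocus L s →
      F.presheaf.map (homOfLE h1).op t = 0) :
    ∃ k : ℕ, ∀ n, k ≤ n → SecTwist.twist s n F (W.ι ''ᵁ ⊤) t = 0 := by
  obtain ⟨b, hb, hbo⟩ := exists_local_frame L s W ε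
  have hT : W.ι ''ᵁ ⊤ = W := Scheme.Opens.ι_image_top W
  have hc : IsCompact ((W.ι ''ᵁ ⊤ : X.Opens) : Set X) := by rw [hT]; exact hW
  have h0 : F.presheaf.map (homOfLE (X.basicOpen_le b)).op t = 0 :=
    ht _ _ (by rw [← hbo]; exact inf_le_left)
  obtain ⟨k, hk⟩ := QcqsMod.exists_pow_smul_eq_zero_of_isCompact F hc b t h0
  refine ⟨k, fun n hn => ?_⟩
  rw [twist_eq_of_val_eq s F _ _ b hb n t]
  have : b ^ n • t = 0 := by
    rw [← Nat.sub_add_cancel hn, pow_add, mul_smul, hk, smul_zero]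
  rw [this]
  exact tmul_zero_left F _ _ _

/-- S15743 -/
theorem exists_twist_eq_zero [CompactSpace X] (L : X.Modules) (hL : PicF.IsInvertible L)
    (s : Coh.structureModule X ⟶ L) (F : X.Modules) [F.IsQuasicoherent] (t : Γ(F, ⊤))
    (ht : F.presheaf.map (homOfLE (le_top : CohB1.genLocus L s ≤ ⊤)).op t = 0) :
    ∃ n : ℕ, 0 < n ∧ SecTwist.twist s n F ⊤ t = 0 := by
  classical
  have key : ∀ x : X, ∃ (T : X.Opens) (k : ℕ), x ∈ T ∧ ∀ n, k ≤ n →
      SecTwist.twist s n F T (F.presheaf.map (homOfLE (le_top : T ≤ ⊤)).op t) = 0 := by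
    intro x
    obtain ⟨W, hxW, hW, ⟨ε⟩⟩ := exists_affine_triv L hL x
    have hT : W.ι ''ᵁ ⊤ = W := Scheme.Opens.ι_image_top W
    obtain ⟨k, hk⟩ := exists_twist_eq_zero_local L s F W hW.isCompact ε
      (F.presheaf.map (homOfLE (le_top : W.ι ''ᵁ ⊤ ≤ ⊤)).op t) (by
        intro V h1 h2
        rw [res_res]
        have : F.presheaf.map (homOfLE (h1.trans le_top)).op t =
            F.presheaf.map (homOfLE h2).op
              (F.presheaf.map (homOfLE (le_top : CohB1.genLocus L s ≤ ⊤)).op t) := by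
          rw [res_res]
        rw [this, ht, map_zero])
    exact ⟨W.ι ''ᵁ ⊤, k, by rw [hT]; exact hxW, hk⟩
  choose T k hxT hk using key
  obtain ⟨S, hS⟩ := CompactSpace.elim_nhds_subcover (fun x => (T x : Set X))
    (fun x => (T x).isOpen.mem_nhds (hxT x))
  refine ⟨S.sup k + 1, Nat.succ_pos _, ?_⟩
  apply AssDict.section_eq_zero_of_germ (CohB1.tensorMod F (CohB1.tensorPow L (S.sup k + 1))) ⊤
    (SecTwist.twist s (S.sup k + 1) F ⊤ t)
  intro y hy
  have hy' : y ∈ ⋃ x ∈ S, (T x : Set X) := by rw [hS]; trivial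
  simp only [Set.mem_iUnion] at hy'
  obtain ⟨x, hxS, hyx⟩ := hy'
  have h1 := hk x (S.sup k + 1) ((Finset.le_sup hxS).trans (Nat.le_succ _))
  have h2 := SecTwist.map_twist s (S.sup k + 1) F (homOfLE (le_top : T x ≤ ⊤)) t
  have h3 : (CohB1.tensorMod F (CohB1.tensorPow L (S.sup k + 1))).presheaf.map
      (homOfLE (le_top : T x ≤ ⊤)).op (SecTwist.twist s (S.sup k + 1) F ⊤ t) = 0 :=
    h2.trans h1
  have h4 := QcqsMod.germ_res (CohB1.tensorMod F (CohB1.tensorPow L (S.sup k + 1)))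
    (le_top : T x ≤ ⊤) y hyx (SecTwist.twist s (S.sup k + 1) F ⊤ t)
  rw [h3, map_zero] at h4
  exact h4.symm

end Groth.Agent.Helper4.TwistLocal
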