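import Groth.Agent.Helper4.QAffSec
import Groth.Prelude.Def_Mor2
import Mathlib

set_option autoImplicit false
universe u
open CategoryTheory CategoryTheory.Limits AlgebraicGeometry Opposite TopologicalSpace

namespace Groth.Agent.Helper4.AmpleIso

open Groth.Agent.Helper4.GenLoc Groth.Agent.Helper4.TensorInv Groth.Agent.Helper4.TensorGen
  Groth.Agent.Helper4.QAffSec

variable {X : Scheme.{u}}

/-- the generating locus is invariant under isomorphisms of the module -/
theorem genLocus_comp_iso {L L' : X.Modules} (e : L ≅ L') (s : Coh.structureModule X ⟶ L) :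
    CohB1.genLocus L' (s ≫ e.hom) = CohB1.genLocus L s := by
  unfold CohB1.genLocus
  congr 1
  ext U
  simp only [Set.mem_setOf_eq, Functor.map_comp]
  exact isIso_comp_right_iff _ _

theorem isInvertible_of_iso {L L' : X.Modules} (e : L ≅ L') (hL : PicF.IsInvertible L) :
    PicF.IsInvertible L' := by
  intro x
  obtain ⟨U, hxU, ⟨ε⟩⟩ := hL x
  exact ⟨U, hxU, ⟨(Scheme.Modules.restrictFunctor U.ι).mapIso e.symm ≪≫ ε⟩⟩

/-- tensor powers of isomorphic modules are isomorphic -/
noncomputable def tensorPowIso {L L' : X.Modules} (e : L ≅ L') :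
    ∀ n : ℕ, CohB1.tensorPow L n ≅ CohB1.tensorPow L' n
  | 0 => Iso.refl _
  | n + 1 => PicGrp.tensorModIso (tensorPowIso e n) e

theorem isAmple_of_iso {L L' : X.Modules} (e : L ≅ L') (h : CohB1.IsAmple L) :
    CohB1.IsAmple L' := by
  obtain ⟨hL, hX, h⟩ := h
  refine ⟨isInvertible_of_iso e hL, hX, fun x => ?_⟩
  obtain ⟨n, s, hx, ha⟩ := h x
  refine ⟨n, s ≫ (tensorPowIso e (n + 1)).hom, ?_, ?_⟩
  · rw [genLocus_comp_iso]; exact hx
  · rw [genLocus_comp_iso]; exact ha

theorem isAmple_iff_of_iso {L L' : X.Modules} (e : L ≅ L') :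
    CohB1.IsAmple L ↔ CohB1.IsAmple L' :=
  ⟨isAmple_of_iso e, isAmple_of_iso e.symm⟩

/-- `O^{⊗ k} ≅ O` -/
noncomputable def powUnitIso (X : Scheme.{u}) :
    ∀ k : ℕ, CohB1.tensorPow (Coh.structureModule X) k ≅ Coh.structureModule X
  | 0 => Iso.refl _
  | k + 1 => SecTwist.unitorR (CohB1.tensorPow (Coh.structureModule X) k) ≪≫ powUnitIso X k

/-- the generating locus of an endomorphism of `O` is the basic open of its function -/
theorem genLocus_unit (t : Coh.structureModule X ⟶ Coh.structureModule X) :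
    CohB1.genLocus (Coh.structureModule X) t = X.basicOpen (fn t) := by
  unfold CohB1.genLocus
  have key : ∀ U : X.Opens, IsIso ((Scheme.Modules.restrictFunctor U.ι).map t) ↔
      U ≤ X.basicOpen (fn t) := by
    intro U
    rw [isIso_restrict_iff]
    constructor
    · intro h
      exact (app_bijective_iff t U).mp (h U le_rfl)
    · intro h V hV
      exact (app_bijective_iff t V).mpr (hV.trans h)
  apply le_antisymm
  · apply sSup_le
    intro U hU
    exact (key U).mp hU
  · apply le_sSup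
    exact (key _).mpr le_rfl

theorem isQuasiAffine_of_isAmple_unit (h : CohB1.IsAmple (Coh.structureModule X)) :
    X.IsQuasiAffine := by
  obtain ⟨-, hX, h⟩ := h
  haveI := hX
  apply Scheme.IsQuasiAffine.of_forall_exists_mem_basicOpen
  intro x
  obtain ⟨n, s, hx, ha⟩ := h x
  refine ⟨fn (s ≫ (powUnitIso X (n + 1)).hom), ?_, ?_⟩
  · rw [← genLocus_unit, genLocus_comp_iso]; exact ha
  · rw [← genLocus_unit, genLocus_comp_iso]; exact hx

/-- S2336 without separatedness -/
theorem isQuasiAffine_iff_isAmple_unit :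
    X.IsQuasiAffine ↔ CohB1.IsAmple (Coh.structureModule X) :=
  ⟨fun _ => isAmple_of_isQuasiAffine _ isInvertible_structureModule, isQuasiAffine_of_isAmple_unit⟩

/-- S2337 -/
theorem isQuasiAffineHom_iff_isRelAmple_unit {Y : Scheme.{u}} (f : X ⟶ Y) :
    Mor2.IsQuasiAffine f ↔ RelAmple.IsRelAmple f (Coh.structureModule X) := by
  unfold Mor2.IsQuasiAffine RelAmple.IsRelAmple
  apply and_congr Iff.rfl
  constructor
  · intro h V
    rw [isAmple_iff_of_iso (Scheme.Modules.restrictUnitIso (f ⁻¹ᵁ V.1).ι),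
      ← isQuasiAffine_iff_isAmple_unit]
    exact h V.1 V.2
  · intro h V hV
    have := h ⟨V, hV⟩
    rw [isAmple_iff_of_iso (Scheme.Modules.restrictUnitIso (f ⁻¹ᵁ V).ι),
      ← isQuasiAffine_iff_isAmple_unit] at this
    exact this

end Groth.Agent.Helper4.AmpleIso
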