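import Groth.Agent.Helper4.GV2

/-!
# Grothendieck vanishing, part 5: finitely generated subsheaves and their colimit
-/

set_option autoImplicit false

namespace Groth.Agent.Helper4.GV

open CategoryTheory Limits TopologicalSpace Opposite

universe u
variable {X : TopCat.{u}}

/-- generators: sections over opens -/
abbrev Gens (F : CohTop.Ab X) : Type u := Σ U : Opens X, F.obj.obj (op U)

/-- the subgroup of `F(N)` generated by the restrictions of the generators defined over `N` -/
def GenAt (F : CohTop.Ab X) (α : Set (Gens F)) (N : Opens X) : AddSubgroup (F.obj.obj (op N)) :=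
  AddSubgroup.closure {y | ∃ g ∈ α, ∃ h : N ≤ g.1, y = rs F h g.2}

lemma genAt_map_le (F : CohTop.Ab X) (α : Set (Gens F)) {N N' : Opens X} (h : N' ≤ N) :
    (GenAt F α N).map (rs F h) ≤ GenAt F α N' := by
  rw [GenAt, AddMonoidHom.map_closure]
  apply AddSubgroup.closure_mono
  rintro _ ⟨y, ⟨g, hg, h₀, rfl⟩, rfl⟩
  exact ⟨g, hg, h.trans h₀, rs_rs F h₀ h g.2⟩

lemma genAt_res (F : CohTop.Ab X) (α : Set (Gens F)) {N N' : Opens X} (h : N' ≤ N)
    {y : F.obj.obj (op N)} (hy : y ∈ GenAt F α N) : rs F h y ∈ GenAt F α N' :=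
  genAt_map_le F α h (AddSubgroup.mem_map_of_mem _ hy)

lemma genAt_mono (F : CohTop.Ab X) {α β : Set (Gens F)} (h : α ⊆ β) (N : Opens X) :
    GenAt F α N ≤ GenAt F β N := by
  apply AddSubgroup.closure_mono
  rintro _ ⟨g, hg, h₀, rfl⟩
  exact ⟨g, h hg, h₀, rfl⟩

/-- sections locally generated by `α` -/
noncomputable def genPred (F : CohTop.Ab X) (α : Set (Gens F)) : LocPred F where
  S W :=
    { carrier := {s | ∀ x ∈ W, ∃ (N : Opens X) (hN : N ≤ W), x ∈ N ∧ rs F hN s ∈ GenAt F α N}
      zero_mem' := fun x hx => ⟨W, le_rfl, hx, by rw [map_zero]; exact zero_mem _⟩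
      add_mem' := by
        intro s s' hs hs' x hx
        obtain ⟨N, hN, hxN, h0⟩ := hs x hx
        obtain ⟨N', hN', hxN', h0'⟩ := hs' x hx
        refine ⟨N ⊓ N', inf_le_left.trans hN, ⟨hxN, hxN'⟩, ?_⟩
        rw [map_add]
        refine add_mem ?_ ?_
        · rw [← rs_rs F hN (inf_le_left : N ⊓ N' ≤ N)]
          exact genAt_res F α _ h0
        · rw [← rs_rs F hN' (inf_le_right : N ⊓ N' ≤ N')]
          exact genAt_res F α _ h0'
      neg_mem' := by
        intro s hs x hx
        obtain ⟨N, hN, hxN, h0⟩ := hs x hx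
        exact ⟨N, hN, hxN, by rw [map_neg]; exact neg_mem h0⟩ }
  res := by
    intro W W' h s hs x hx
    obtain ⟨N, hN, hxN, h0⟩ := hs x (h hx)
    refine ⟨N ⊓ W', inf_le_right, ⟨hxN, hx⟩, ?_⟩
    rw [rs_rs, ← rs_rs F hN (inf_le_left : N ⊓ W' ≤ N)]
    exact genAt_res F α _ h0
  loc := by
    intro W s hs x hx
    obtain ⟨V', hV', hxV', hm⟩ := hs x hx
    obtain ⟨N, hN, hxN, h0⟩ := hm x hxV'
    exact ⟨N, hN.trans hV', hxN, by rw [← rs_rs F hV' hN]; exact h0⟩

lemma genPred_mono (F : CohTop.Ab X) {α β : Set (Gens F)} (h : α ⊆ β) (W : Opens X) :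
    (genPred F α).S W ≤ (genPred F β).S W := by
  intro s hs x hx
  obtain ⟨N, hN, hxN, h0⟩ := hs x hx
  exact ⟨N, hN, hxN, genAt_mono F h N h0⟩

lemma mem_genPred (F : CohTop.Ab X) {α : Set (Gens F)} {g : Gens F} (hg : g ∈ α) :
    g.2 ∈ (genPred F α).S g.1 := by
  intro x hx
  exact ⟨g.1, le_rfl, hx, AddSubgroup.subset_closure ⟨g, hg, le_rfl, rfl⟩⟩

/-- the finitely generated subsheaves of `F` -/
noncomputable def fgFunctor (F : CohTop.Ab X) : Finset (Gens F) ⥤ CohTop.Ab X where
  obj α := (genPred F (α : Set (Gens F))).sheaf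
  map {α β} h := LocPred.incl _ _ (genPred_mono F (Finset.coe_subset.mpr (leOfHom h)))
  map_id α := by
    apply Sheaf.hom_ext
    ext A s
    rfl
  map_comp {α β γ} h h' := by
    apply Sheaf.hom_ext
    ext A s
    rfl

/-- the cocone of finitely generated subsheaves -/
noncomputable def fgCocone (F : CohTop.Ab X) : Cocone (fgFunctor F) where
  pt := F
  ι := { app := fun α => (genPred F (α : Set (Gens F))).ι
         naturality := fun α β h => rfl }

section desc

variable {F : CohTop.Ab X} (t : Cocone (fgFunctor F))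

/-- the value of the descended map on a section -/
noncomputable def descFun (W : Opens X) (s : F.obj.obj (op W)) : t.pt.obj.obj (op W) :=
  ((t.ι.app {⟨W, s⟩}).hom.app (op W)).hom
    ⟨s, mem_genPred F (g := ⟨W, s⟩) (by simp)⟩

lemma ι_app_eq_of_le {α β : Finset (Gens F)} (h : α ≤ β) (W : Opens X) (s : F.obj.obj (op W))
    (hs : s ∈ (genPred F (α : Set (Gens F))).S W) :
    ((t.ι.app α).hom.app (op W)).hom ⟨s, hs⟩ =
      ((t.ι.app β).hom.app (op W)).hom
        ⟨s, genPred_mono F (Finset.coe_subset.mpr h) W hs⟩ := by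
  have := t.w (homOfLE h)
  rw [← this]
  rfl

lemma descFun_eq (α : Finset (Gens F)) (W : Opens X) (s : F.obj.obj (op W))
    (hs : s ∈ (genPred F (α : Set (Gens F))).S W) :
    descFun t W s = ((t.ι.app α).hom.app (op W)).hom ⟨s, hs⟩ := by
  classical
  have h1 : ({⟨W, s⟩} : Finset (Gens F)) ≤ α ∪ {⟨W, s⟩} := Finset.subset_union_right
  have h2 : α ≤ α ∪ {⟨W, s⟩} := Finset.subset_union_left
  rw [descFun, ι_app_eq_of_le t h1, ι_app_eq_of_le t h2]

/-- the descended morphism -/
noncomputable def descHom : F ⟶ t.pt :=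
  ⟨{ app := fun A => AddCommGrpCat.ofHom
        { toFun := descFun t A.unop
          map_zero' := by
            rw [descFun_eq t ∅ A.unop 0 (zero_mem _)]
            exact map_zero _
          map_add' := fun s s' => by
            classical
            let α : Finset (Gens F) := {⟨A.unop, s⟩, ⟨A.unop, s'⟩}
            have hs : s ∈ (genPred F (α : Set (Gens F))).S A.unop :=
              mem_genPred F (g := ⟨A.unop, s⟩) (by simp [α])
            have hs' : s' ∈ (genPred F (α : Set (Gens F))).S A.unop :=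
              mem_genPred F (g := ⟨A.unop, s'⟩) (by simp [α])
            rw [descFun_eq t α _ _ (add_mem hs hs'), descFun_eq t α _ _ hs,
              descFun_eq t α _ _ hs']
            exact map_add ((t.ι.app α).hom.app (op A.unop)).hom ⟨s, hs⟩ ⟨s', hs'⟩ }
     naturality := fun A B i => by
      ext s
      let α : Finset (Gens F) := {⟨A.unop, s⟩}
      have hs : s ∈ (genPred F (α : Set (Gens F))).S A.unop :=
        mem_genPred F (g := ⟨A.unop, s⟩) (by simp [α])
      show descFun t B.unop (rs F i.unop.le s) = rs t.pt i.unop.le (descFun t A.unop s)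
      rw [descFun_eq t α _ _ ((genPred F (α : Set (Gens F))).res i.unop.le s hs),
        descFun_eq t α _ _ hs]
      exact hom_rs (t.ι.app α) i.unop.le ⟨s, hs⟩ }⟩

lemma descHom_apply (W : Opens X) (s : F.obj.obj (op W)) :
    ((descHom t).hom.app (op W)).hom s = descFun t W s := rfl

end desc

/-- `F` is the colimit of its finitely generated subsheaves -/
noncomputable def fgIsColimit (F : CohTop.Ab X) : IsColimit (fgCocone F) where
  desc t := descHom t
  fac t α := by
    apply Sheaf.hom_ext
    ext A s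
    show descFun t A.unop s.1 = _
    rw [descFun_eq t α A.unop s.1 s.2]
    rfl
  uniq t m hm := by
    apply Sheaf.hom_ext
    ext A s
    show (m.hom.app A).hom s = descFun t A.unop s
    unfold descFun
    rw [← hm]
    rfl

end Groth.Agent.Helper4.GV
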