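import Groth.Agent.Helper4.GV3
import Groth.Agent.Helper4.GV5

/-!
# Grothendieck vanishing, part 6: generic flasqueness of finitely generated sheaves
-/

set_option autoImplicit false

namespace Groth.Agent.Helper4.GV

open CategoryTheory Limits TopologicalSpace Opposite

universe u
variable {X : TopCat.{u}}

lemma nonempty_inter_finset_inf {Y : Set X} (hY : IsPreirreducible Y) {κ : Type*}
    (S : Finset κ) (f : κ → Opens X) (V₀ : Opens X) (h0 : (Y ∩ (V₀ : Set X)).Nonempty)
    (h : ∀ b ∈ S, (Y ∩ (f b : Set X)).Nonempty) :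
    (Y ∩ ((V₀ ⊓ S.inf f : Opens X) : Set X)).Nonempty := by
  classical
  induction S using Finset.induction_on with
  | empty => simpa using h0
  | insert b S hb ih =>
    have h1 := ih (fun c hc => h c (Finset.mem_insert_of_mem hc))
    have h2 := h b (Finset.mem_insert_self b S)
    have h3 := hY _ _ (f b).2 (V₀ ⊓ S.inf f : Opens X).2 h2 h1
    refine h3.mono ?_
    rintro x ⟨hxY, hxb, hxV, hxS⟩
    refine ⟨hxY, hxV, ?_⟩
    rw [Finset.inf_insert]
    exact ⟨hxb, hxS⟩

section core

variable {F : CohTop.Ab X} {Y : Set X} (hYirr : IsIrreducible Y) (hF : SuppIn F Y)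
  (α : Finset (Gens F))

open Classical in
/-- the generators which are not trivially zero -/
noncomputable def gens' (Y : Set X) (α : Finset (Gens F)) : Finset (Gens F) :=
  α.filter (fun g => (Y ∩ (g.1 : Set X)).Nonempty)

/-- the common domain of definition -/
noncomputable def V0 (Y : Set X) (α : Finset (Gens F)) : Opens X :=
  (gens' Y α).inf (fun g => g.1)

lemma V0_le {g : Gens F} (hg : g ∈ gens' Y α) : V0 Y α ≤ g.1 := Finset.inf_le hg

include hYirr in
lemma V0_nonempty : (Y ∩ (V0 Y α : Set X)).Nonempty := by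
  have h := nonempty_inter_finset_inf hYirr.isPreirreducible (gens' Y α) (fun g => g.1) ⊤
    (by simpa using hYirr.nonempty) (fun g hg => by
      classical
      exact (Finset.mem_filter.mp hg).2)
  simpa [V0] using h

/-- the generators restricted to the common domain -/
noncomputable def tau (g : gens' Y α) : F.obj.obj (op (V0 Y α)) :=
  rs F (V0_le α g.2) g.1.2

/-- linear combinations of the generators -/
noncomputable def comb : ((gens' Y α) → ℤ) →ₗ[ℤ] F.obj.obj (op (V0 Y α)) :=
  Fintype.linearCombination ℤ (tau α)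

include hF in
/-- every locally generated germ is a combination of the `tau` -/
lemma exists_comb {N : Opens X} (hN : N ≤ V0 Y α) {y : F.obj.obj (op N)}
    (hy : y ∈ GenAt F (α : Set (Gens F)) N) :
    ∃ a : (gens' Y α) → ℤ, y = rs F hN (comb α a) := by
  classical
  unfold GenAt at hy
  induction hy using AddSubgroup.closure_induction with
  | mem y hy =>
    obtain ⟨g, hg, h, rfl⟩ := hy
    by_cases hgY : (Y ∩ (g.1 : Set X)).Nonempty
    · have hg' : g ∈ gens' Y α := Finset.mem_filter.mpr ⟨hg, hgY⟩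
      refine ⟨Pi.single ⟨g, hg'⟩ 1, ?_⟩
      have : comb α (Pi.single (⟨g, hg'⟩ : gens' Y α) (1 : ℤ)) = tau α ⟨g, hg'⟩ := by
        simp [comb, Fintype.linearCombination_apply_single]
      rw [this, tau, rs_rs]
    · refine ⟨0, ?_⟩
      have hd : Disjoint ((g.1 : Opens X) : Set X) Y := by
        rw [Set.disjoint_left]
        intro z hz hzY
        exact hgY ⟨z, hzY, hz⟩
      rw [hF g.1 hd g.2, map_zero, map_zero, map_zero]
  | zero => exact ⟨0, by rw [map_zero, map_zero]⟩
  | add y y' _ _ ih ih' =>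
    obtain ⟨a, rfl⟩ := ih
    obtain ⟨a', rfl⟩ := ih'
    exact ⟨a + a', by rw [map_add, map_add]⟩
  | neg y _ ih =>
    obtain ⟨a, rfl⟩ := ih
    exact ⟨-a, by rw [map_neg, map_neg]⟩

/-- combinations of the generators are locally generated -/
lemma comb_mem {W : Opens X} (hW : W ≤ V0 Y α) (a : (gens' Y α) → ℤ) :
    rs F hW (comb α a) ∈ (genPred F (α : Set (Gens F))).S W := by
  classical
  intro x hx
  refine ⟨W, le_rfl, hx, ?_⟩
  rw [rs_self]
  unfold comb
  rw [Fintype.linearCombination_apply, map_sum]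
  refine sum_mem (fun g _ => ?_)
  rw [map_zsmul]
  refine zsmul_mem (AddSubgroup.subset_closure ?_) _
  refine ⟨g.1, (Finset.mem_filter.mp g.2).1, hW.trans (V0_le α g.2), ?_⟩
  rw [tau, rs_rs]

include hYirr in
/-- the module of generic relations -/
noncomputable def relK : Submodule ℤ ((gens' Y α) → ℤ) where
  carrier := {a | ∃ (W : Opens X) (h : W ≤ V0 Y α), (Y ∩ (W : Set X)).Nonempty ∧
    rs F h (comb α a) = 0}
  zero_mem' := ⟨V0 Y α, le_rfl, V0_nonempty hYirr α, by rw [map_zero, map_zero]⟩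
  add_mem' := by
    rintro a a' ⟨W, h, hne, h0⟩ ⟨W', h', hne', h0'⟩
    refine ⟨W ⊓ W', inf_le_left.trans h, hYirr.isPreirreducible _ _ W.2 W'.2 hne hne', ?_⟩
    rw [map_add, map_add, ← rs_rs F h (inf_le_left : W ⊓ W' ≤ W), h0,
      ← rs_rs F h' (inf_le_right : W ⊓ W' ≤ W'), h0', map_zero, map_zero, add_zero]
  smul_mem' := by
    rintro c a ⟨W, h, hne, h0⟩
    exact ⟨W, h, hne, by rw [map_smul, map_zsmul, h0, smul_zero]⟩

include hYirr hF in
/-- generic flasqueness -/
theorem exists_flasque_push :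
    ∃ V : Opens X, (Y ∩ (V : Set X)).Nonempty ∧
      TopCat.Sheaf.IsFlasque (pushU (genPred F (α : Set (Gens F))).sheaf V) := by
  classical
  obtain ⟨S, hS⟩ := (IsNoetherian.noetherian (relK hYirr α) : (relK hYirr α).FG)
  have hex : ∀ b : (gens' Y α) → ℤ, b ∈ relK hYirr α →
      ∃ (W : Opens X) (h : W ≤ V0 Y α), (Y ∩ (W : Set X)).Nonempty ∧
        rs F h (comb α b) = 0 := fun b hb => hb
  choose! Wf hWf hne h0 using hex
  have hSK : ∀ b ∈ S, b ∈ relK hYirr α := fun b hb => hS ▸ Submodule.subset_span hb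
  let V : Opens X := V0 Y α ⊓ S.inf Wf
  have hVne : (Y ∩ (V : Set X)).Nonempty :=
    nonempty_inter_finset_inf hYirr.isPreirreducible S Wf (V0 Y α) (V0_nonempty hYirr α)
      (fun b hb => hne b (hSK b hb))
  have hV0 : V ≤ V0 Y α := inf_le_left
  -- relations hold on all of `V`
  have hrel : ∀ a ∈ relK hYirr α, ∀ (W : Opens X) (hW : W ≤ V),
      rs F (hW.trans hV0) (comb α a) = 0 := by
    intro a ha W hW
    rw [← hS] at ha
    induction ha using Submodule.span_induction with
    | mem b hb =>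
      have hWb : W ≤ Wf b := hW.trans (inf_le_right.trans (Finset.inf_le hb))
      rw [← rs_rs F (hWf b (hSK b hb)) hWb, h0 b (hSK b hb), map_zero]
    | zero => rw [map_zero, map_zero]
    | add a a' _ _ ih ih' => rw [map_add, map_add, ih, ih', add_zero]
    | smul c a _ ih => rw [map_smul, map_zsmul, ih, smul_zero]
  refine ⟨V, hVne, isFlasque_pushU _ V ?_⟩
  intro W W' hW hWV s
  have hG : SuppIn (genPred F (α : Set (Gens F))).sheaf Y := (genPred F _).suppIn hF
  by_cases hW'Y : (Y ∩ (W' : Set X)).Nonempty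
  · obtain ⟨x₀, hx₀Y, hx₀W'⟩ := hW'Y
    obtain ⟨N₀, hN₀, hx₀N₀, hm₀⟩ := s.2 x₀ hx₀W'
    have hW'0 : W' ≤ V0 Y α := hW.trans (hWV.trans hV0)
    obtain ⟨a₀, ha₀⟩ := exists_comb hF α (hN₀.trans hW'0) hm₀
    refine ⟨⟨rs F (hWV.trans hV0) (comb α a₀), comb_mem α _ a₀⟩, ?_⟩
    apply Subtype.ext
    show rs F hW (rs F (hWV.trans hV0) (comb α a₀)) = s.1
    rw [rs_rs]
    refine eq_of_locally F _ _ (fun x hx => ?_)
    obtain ⟨N, hN, hxN, hm⟩ := s.2 x hx
    refine ⟨N, hN, hxN, ?_⟩
    obtain ⟨a, ha⟩ := exists_comb hF α (hN.trans hW'0) hm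
    rw [ha, rs_rs]
    by_cases hNY : (Y ∩ (N : Set X)).Nonempty
    · -- `a - a₀` is a generic relation
      have hK : a₀ - a ∈ relK hYirr α := by
        refine ⟨N₀ ⊓ N, inf_le_left.trans (hN₀.trans hW'0),
          hYirr.isPreirreducible _ _ N₀.2 N.2 ⟨x₀, hx₀Y, hx₀N₀⟩ hNY, ?_⟩
        rw [map_sub, map_sub, sub_eq_zero,
          ← rs_rs F (hN₀.trans hW'0) (inf_le_left : N₀ ⊓ N ≤ N₀), ← ha₀,
          ← rs_rs F (hN.trans hW'0) (inf_le_right : N₀ ⊓ N ≤ N), ← ha, rs_rs, rs_rs]
      have := hrel _ hK N (hN.trans (hW.trans hWV))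
      rw [map_sub, map_sub, sub_eq_zero] at this
      exact this
    · have hd : Disjoint ((N : Opens X) : Set X) Y := by
        rw [Set.disjoint_left]
        intro z hz hzY
        exact hNY ⟨z, hzY, hz⟩
      rw [hF N hd (rs F _ (comb α a₀)), hF N hd (rs F _ (comb α a))]
  · refine ⟨0, ?_⟩
    have hd : Disjoint ((W' : Opens X) : Set X) Y := by
      rw [Set.disjoint_left]
      intro z hz hzY
      exact hW'Y ⟨z, hzY, hz⟩
    rw [map_zero]
    exact (hG W' hd s).symm

end core

end Groth.Agent.Helper4.GV
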