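import Groth.Agent.Helper4.GV4
import Groth.Agent.Helper4.GV6

/-!
# Grothendieck vanishing, part 7: the induction
-/

set_option autoImplicit false

namespace Groth.Agent.Helper4.GV

open CategoryTheory Limits TopologicalSpace Opposite

universe u
variable {X : TopCat.{u}}

/-- all irreducible closed subsets of `Y` have height `< n` -/
def DimLT (Y : Set X) (n : ℕ) : Prop :=
  ∀ T : IrreducibleCloseds X, (T : Set X) ⊆ Y → Order.height T < (n : ℕ∞)

lemma DimLT.mono {Y Y' : Set X} {n : ℕ} (h : DimLT Y n) (hY : Y' ⊆ Y) : DimLT Y' n :=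
  fun T hT => h T (hT.trans hY)

lemma suppIn_univ (F : CohTop.Ab X) : SuppIn F Set.univ := by
  intro W hW s
  refine eq_zero_of_locally F s (fun x hx => ?_)
  exact (Set.disjoint_left.mp hW hx (Set.mem_univ x)).elim

variable [NoetherianSpace X]

theorem main_aux (Y : Closeds X) : ∀ n : ℕ, DimLT (Y : Set X) n →
    ∀ F : CohTop.Ab X, SuppIn F (Y : Set X) → Van F n := by
  induction Y using WellFoundedLT.induction with
  | ind Y IH =>
  intro n hn F hF
  by_cases hYe : (Y : Set X) = ∅
  · rw [hYe] at hF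
    exact van_of_isZero (isZero_of_suppIn_empty F hF) n
  by_cases hYp : IsPreirreducible (Y : Set X)
  · -- the irreducible case
    have hYirr : IsIrreducible (Y : Set X) := ⟨Set.nonempty_iff_ne_empty.mpr hYe, hYp⟩
    let T₀ : IrreducibleCloseds X := ⟨Y, hYirr, Y.isClosed⟩
    have hT₀ : Order.height T₀ < (n : ℕ∞) := hn T₀ (le_refl _)
    obtain ⟨m, rfl⟩ : ∃ m, n = m + 1 := by
      refine ⟨n - 1, ?_⟩
      have : n ≠ 0 := by
        rintro rfl
        simp at hT₀
      omega
    have hT₀' : Order.height T₀ ≤ (m : ℕ∞) := by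
      have : ((m + 1 : ℕ) : ℕ∞) = (m : ℕ∞) + 1 := by push_cast; rfl
      rw [this] at hT₀
      exact Order.le_of_lt_add_one hT₀
    refine van_of_isColimit (fgFunctor F) (fgCocone F) (fgIsColimit F) (m + 1) (fun α => ?_)
    show Van (genPred F (α : Set (Gens F))).sheaf (m + 1)
    set G : CohTop.Ab X := (genPred F (α : Set (Gens F))).sheaf with hGdef
    have hG : SuppIn G (Y : Set X) := (genPred F _).suppIn hF
    obtain ⟨V, hVne, hfl⟩ := exists_flasque_push hYirr hF α
    let Z : Closeds X := ⟨(Y : Set X) ∩ (V : Set X)ᶜ, Y.isClosed.inter V.2.isClosed_compl⟩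
    have hZY : Z < Y := by
      refine lt_of_le_of_ne (fun z hz => hz.1) ?_
      intro hZY
      obtain ⟨y, hyY, hyV⟩ := hVne
      have : y ∈ (Z : Set X) := by rw [hZY]; exact hyY
      exact this.2 hyV
    have hZm : DimLT (Z : Set X) m := by
      intro T hT
      have hlt : T < T₀ := by
        refine lt_of_le_of_ne (fun z hz => (hT hz).1) ?_
        intro hTT
        obtain ⟨y, hyY, hyV⟩ := hVne
        have : y ∈ (T : Set X) := by rw [hTT]; exact hyY
        exact (hT this).2 hyV
      have hfin : Order.height T < ⊤ :=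
        lt_of_le_of_lt (Order.height_mono hlt.le) (lt_of_le_of_lt hT₀' (ENat.natCast_lt_top m))
      exact lt_of_lt_of_le (Order.height_strictMono hlt hfin) hT₀'
    have hQ1 : Van (subUSC G V).X₃ m :=
      IH Z hZY m hZm _ (suppIn_cokernel_subU Y.isClosed hG V)
    have hQ2 : Van (pushSC G V).X₃ m :=
      IH Z hZY m hZm _ (suppIn_cokernel_subToPush Y.isClosed hG V)
    have hP : Van (pushSC G V).X₂ (m + 1) :=
      (van_of_isFlasque (pushU G V)).mono (by omega)
    have hS : Van (subU G V) (m + 1) := van_left (pushSC_shortExact G V) hP hQ2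
    exact van_mid (subUSC_shortExact G V) hS (hQ1.mono (by omega))
  · -- the reducible case
    rw [isPreirreducible_iff_isClosed_union_isClosed] at hYp
    push Not at hYp
    obtain ⟨z₁, z₂, hz₁, hz₂, hcov, hn₁, hn₂⟩ := hYp
    let Y₁ : Closeds X := ⟨(Y : Set X) ∩ z₁, Y.isClosed.inter hz₁⟩
    let Y₂ : Closeds X := ⟨(Y : Set X) ∩ z₂, Y.isClosed.inter hz₂⟩
    have hY₁ : Y₁ < Y := by
      refine lt_of_le_of_ne (fun z hz => hz.1) ?_
      intro h
      apply hn₁
      intro y hy
      have : y ∈ (Y₁ : Set X) := by rw [h]; exact hy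
      exact this.2
    have hY₂ : Y₂ < Y := by
      refine lt_of_le_of_ne (fun z hz => hz.1) ?_
      intro h
      apply hn₂
      intro y hy
      have : y ∈ (Y₂ : Set X) := by rw [h]; exact hy
      exact this.2
    let V : Opens X := ⟨(Y₁ : Set X)ᶜ, Y₁.isClosed.isOpen_compl⟩
    have h1 : SuppIn (subU F V) (Y₂ : Set X) := by
      refine suppIn_subU Y.isClosed hF V _ ?_
      rintro y ⟨hyY, hyV⟩
      refine ⟨hyY, ?_⟩
      rcases hcov hyY with h | h
      · exact (hyV ⟨hyY, h⟩).elim
      · exact h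
    have h3 : SuppIn (subUSC F V).X₃ (Y₁ : Set X) := by
      refine (suppIn_cokernel_subU Y.isClosed hF V).mono ?_
      rintro y ⟨hyY, hyV⟩
      by_contra hy
      exact hyV hy
    exact van_mid (subUSC_shortExact F V)
      (IH Y₂ hY₂ n (hn.mono (fun y hy => hy.1)) _ h1)
      (IH Y₁ hY₁ n (hn.mono (fun y hy => hy.1)) _ h3)

/-- **Grothendieck vanishing** on Noetherian topological spaces. -/
theorem grothendieck_vanishing (d : ℕ) (hd : topologicalKrullDim X ≤ d) (F : CohTop.Ab X)
    (p : ℕ) (hp : d < p) : Subsingleton (CohTop.H F p) := by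
  refine main_aux (⊤ : Closeds X) (d + 1) ?_ F ?_ p (by omega)
  · intro T _
    have h1 : (Order.height T : WithBot ℕ∞) ≤ Order.krullDim (IrreducibleCloseds X) :=
      Order.height_le_krullDim T
    have h2 : (Order.height T : WithBot ℕ∞) ≤ ((d : ℕ∞) : WithBot ℕ∞) := h1.trans hd
    have h3 : Order.height T ≤ (d : ℕ∞) := WithBot.coe_le_coe.mp h2
    refine lt_of_le_of_lt h3 ?_
    exact_mod_cast Nat.lt_succ_self d
  · simpa using suppIn_univ F

end Groth.Agent.Helper4.GV
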