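import Mathlib

/-!
# Euler characteristic of a long exact sequence of finite dimensional vector spaces
-/

set_option autoImplicit false

namespace Groth.Agent.Helper4.NApx79

universe u

variable {k : Type u} [Field k]
  {A B C : ℕ → Type u}
  [∀ i, AddCommGroup (A i)] [∀ i, Module k (A i)]
  [∀ i, AddCommGroup (B i)] [∀ i, Module k (B i)]
  [∀ i, AddCommGroup (C i)] [∀ i, Module k (C i)]
  [∀ i, Module.Finite k (A i)] [∀ i, Module.Finite k (B i)] [∀ i, Module.Finite k (C i)]
  (f : ∀ i, A i →ₗ[k] B i) (g : ∀ i, B i →ₗ[k] C i) (δ : ∀ i, C i →ₗ[k] A (i + 1))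

open Module

/-- the alternating sum of the dimensions in a long exact sequence, truncated -/
theorem alternating_sum_truncated
    (hf0 : Function.Injective (f 0))
    (hfg : ∀ i, Function.Exact (f i) (g i))
    (hgδ : ∀ i, Function.Exact (g i) (δ i))
    (hδf : ∀ i, Function.Exact (δ i) (f (i + 1))) (n : ℕ) :
    ∑ i ∈ Finset.range (n + 1), (-1 : ℤ) ^ i *
        ((finrank k (A i) : ℤ) - (finrank k (B i) : ℤ) + (finrank k (C i) : ℤ)) =
      (-1 : ℤ) ^ n * (finrank k (LinearMap.range (δ n)) : ℤ) := by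
  have hb : ∀ i, (finrank k (B i) : ℤ) =
      (finrank k (LinearMap.range (f i)) : ℤ) + (finrank k (LinearMap.range (g i)) : ℤ) := by
    intro i
    have h1 := LinearMap.finrank_range_add_finrank_ker (g i)
    rw [(LinearMap.exact_iff.1 (hfg i))] at h1
    omega
  have hc : ∀ i, (finrank k (C i) : ℤ) =
      (finrank k (LinearMap.range (g i)) : ℤ) + (finrank k (LinearMap.range (δ i)) : ℤ) := by
    intro i
    have h1 := LinearMap.finrank_range_add_finrank_ker (δ i)
    rw [(LinearMap.exact_iff.1 (hgδ i))] at h1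
    omega
  have ha : ∀ i, (finrank k (A (i + 1)) : ℤ) =
      (finrank k (LinearMap.range (δ i)) : ℤ) + (finrank k (LinearMap.range (f (i + 1))) : ℤ) := by
    intro i
    have h1 := LinearMap.finrank_range_add_finrank_ker (f (i + 1))
    rw [(LinearMap.exact_iff.1 (hδf i))] at h1
    omega
  have ha0 : (finrank k (A 0) : ℤ) = (finrank k (LinearMap.range (f 0)) : ℤ) := by
    rw [LinearMap.finrank_range_of_inj hf0]
  induction n with
  | zero =>
    rw [Finset.sum_range_one, hb 0, hc 0, ha0]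
    ring
  | succ n ih =>
    rw [Finset.sum_range_succ, ih, hb (n + 1), hc (n + 1), ha n]
    ring

/-- additivity of the Euler characteristic along a long exact sequence vanishing in large degrees -/
theorem alternating_sum_eq
    (hf0 : Function.Injective (f 0))
    (hfg : ∀ i, Function.Exact (f i) (g i))
    (hgδ : ∀ i, Function.Exact (g i) (δ i))
    (hδf : ∀ i, Function.Exact (δ i) (f (i + 1))) (d : ℕ)
    (hA : ∀ i, d ≤ i → Subsingleton (A i)) (hB : ∀ i, d ≤ i → Subsingleton (B i))
    (hC : ∀ i, d ≤ i → Subsingleton (C i)) :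
    ∑ᶠ i : ℕ, (-1 : ℤ) ^ i * (finrank k (B i) : ℤ) =
      ∑ᶠ i : ℕ, (-1 : ℤ) ^ i * (finrank k (A i) : ℤ) +
        ∑ᶠ i : ℕ, (-1 : ℤ) ^ i * (finrank k (C i) : ℤ) := by
  have hsupp : ∀ (M : ℕ → Type u) [∀ i, AddCommGroup (M i)] [∀ i, Module k (M i)],
      (∀ i, d ≤ i → Subsingleton (M i)) →
      ∑ᶠ i : ℕ, (-1 : ℤ) ^ i * (finrank k (M i) : ℤ) =
        ∑ i ∈ Finset.range (d + 1), (-1 : ℤ) ^ i * (finrank k (M i) : ℤ) := by
    intro M _ _ hM
    apply finsum_eq_sum_of_support_subset
    intro i hi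
    rw [Function.mem_support] at hi
    rw [Finset.coe_range, Set.mem_Iio]
    by_contra hcon
    rw [not_lt] at hcon
    apply hi
    haveI := hM i (by omega)
    rw [Module.finrank_zero_of_subsingleton]
    simp
  rw [hsupp A hA, hsupp B hB, hsupp C hC]
  have h := alternating_sum_truncated f g δ hf0 hfg hgδ hδf d
  haveI := hC d le_rfl
  have h0 : (finrank k (LinearMap.range (δ d)) : ℤ) = 0 := by
    have : finrank k (LinearMap.range (δ d)) = 0 := by
      have h1 : finrank k (C d) = 0 := Module.finrank_zero_of_subsingleton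
      have h2 := LinearMap.finrank_range_le (δ d)
      omega
    rw [this]; rfl
  rw [h0, mul_zero] at h
  have h2 : ∑ i ∈ Finset.range (d + 1), (-1 : ℤ) ^ i *
        ((finrank k (A i) : ℤ) - (finrank k (B i) : ℤ) + (finrank k (C i) : ℤ)) =
      ∑ i ∈ Finset.range (d + 1), (-1 : ℤ) ^ i * (finrank k (A i) : ℤ) -
        ∑ i ∈ Finset.range (d + 1), (-1 : ℤ) ^ i * (finrank k (B i) : ℤ) +
        ∑ i ∈ Finset.range (d + 1), (-1 : ℤ) ^ i * (finrank k (C i) : ℤ) := by
    rw [← Finset.sum_sub_distrib, ← Finset.sum_add_distrib]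
    apply Finset.sum_congr rfl
    intro i _
    ring
  rw [h2] at h
  linarith

end Groth.Agent.Helper4.NApx79
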