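import Mathlib
import Groth.Agent.Helper1.HHLes
import Groth.Agent.Helper4.NApx79
import Groth.Agent.S0002
import Groth.Agent.S0016

/-!
# Additivity of the Euler characteristic on proper schemes over a field
-/

set_option autoImplicit false
set_option linter.style.haveILetI false

namespace Groth.Agent.Helper4.NApx80

open CategoryTheory Limits AlgebraicGeometry Opposite Abelian
open Groth.Agent.Helper1.SerreCrit Groth.Agent.Helper1.HHLes

universe u

section LES

variable (A : Type u) [CommRing A] {X : Scheme.{u}} [X.Over (Spec (CommRingCat.of A))]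
variable (S : ShortComplex X.Modules) (hS : S.ShortExact)

include hS in
/-- exactness at `Hⁿ(X₂)` -/
theorem exact_f_g (n : ℕ) : Function.Exact (Canon.HHlin A S.f n) (Canon.HHlin A S.g n) := by
  intro x
  constructor
  · intro hx
    obtain ⟨y, hy⟩ := Ext.covariant_sequence_exact₂ _ (shortExact_toAb S hS)
      (show Ext _ ((S.map (toAbF X)).X₂) n from x) hx
    exact ⟨y, hy⟩
  · rintro ⟨y, rfl⟩
    show Ext.comp (Ext.comp (show Ext _ ((S.map (toAbF X)).X₁) n from y)
      (Ext.mk₀ (S.map (toAbF X)).f) (add_zero n)) (Ext.mk₀ (S.map (toAbF X)).g) (add_zero n) = 0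
    rw [Ext.comp_assoc _ _ _ (add_zero n) (add_zero 0) (by omega), Ext.mk₀_comp_mk₀,
      (S.map (toAbF X)).zero, Ext.mk₀_zero, Ext.comp_zero]

/-- exactness at `Hⁿ⁺¹(X₁)` -/
theorem exact_δ_f (n : ℕ) : Function.Exact (δ A S hS n) (Canon.HHlin A S.f (n + 1)) := by
  intro x
  constructor
  · intro hx
    obtain ⟨y, hy⟩ := Ext.covariant_sequence_exact₁ _ (shortExact_toAb S hS)
      (show Ext _ ((S.map (toAbF X)).X₁) (n + 1) from x) hx rfl
    exact ⟨y, hy⟩
  · rintro ⟨y, rfl⟩
    show Ext.comp (Ext.comp (show Ext _ ((S.map (toAbF X)).X₃) n from y)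
      (shortExact_toAb S hS).extClass rfl) (Ext.mk₀ (S.map (toAbF X)).f) (add_zero (n + 1)) = 0
    rw [Ext.comp_assoc _ _ _ rfl (add_zero 1) (by omega),
      (shortExact_toAb S hS).extClass_comp, Ext.comp_zero]

include hS in
theorem injective_f_zero : Function.Injective (Canon.HHlin A S.f 0) := by
  haveI : Mono (S.map (toAbF X)).f := (shortExact_toAb S hS).mono_f
  exact Ext.postcomp_mk₀_injective_of_mono _ (S.map (toAbF X)).f

end LES

/-- S1524: additivity of the Euler characteristic -/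
theorem euler_additive (k : Type u) [Field k] (X : Scheme.{u}) [X.Over (Spec (CommRingCat.of k))]
    [IsProper (X ↘ (Spec (CommRingCat.of k)))]
    (S : ShortComplex X.Modules) (hS : S.ShortExact)
    (h₁ : Coh.IsCoh S.X₁) (h₂ : Coh.IsCoh S.X₂) (h₃ : Coh.IsCoh S.X₃) :
    Curv2.euler k X S.X₂ = Curv2.euler k X S.X₁ + Curv2.euler k X S.X₃ := by
  haveI : CompactSpace X :=
    QuasiCompact.compactSpace_of_compactSpace (X ↘ (Spec (CommRingCat.of k)))
  haveI : QuasiSeparatedSpace X :=
    quasiSeparatedSpace_of_quasiSeparated (X ↘ (Spec (CommRingCat.of k)))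
  obtain ⟨d, hd⟩ := Groth.Agent.S0016.result X
  haveI : ∀ i, Module.Finite k (Coh.HH X S.X₁ i) := fun i => Groth.Agent.S0002.result k X _ h₁ i
  haveI : ∀ i, Module.Finite k (Coh.HH X S.X₂ i) := fun i => Groth.Agent.S0002.result k X _ h₂ i
  haveI : ∀ i, Module.Finite k (Coh.HH X S.X₃ i) := fun i => Groth.Agent.S0002.result k X _ h₃ i
  exact Groth.Agent.Helper4.NApx79.alternating_sum_eq
    (A := fun i => Coh.HH X S.X₁ i) (B := fun i => Coh.HH X S.X₂ i) (C := fun i => Coh.HH X S.X₃ i)
    (fun i => Canon.HHlin k S.f i) (fun i => Canon.HHlin k S.g i) (fun i => δ k S hS i)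
    (injective_f_zero k S hS) (exact_f_g k S hS) (exact_g_δ k S hS) (exact_δ_f k S hS) d
    (fun i hi => hd _ h₁.1 i hi) (fun i hi => hd _ h₂.1 i hi) (fun i hi => hd _ h₃.1 i hi)

end Groth.Agent.Helper4.NApx80
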