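import Mathlib
import Groth.Agent.Helper4.AmpleFinite
import Groth.Agent.Helper1.PF2
import Groth.Agent.Helper1.SerreFin1
import Groth.Agent.Helper4.QcohLocal
import Groth.Agent.Lead.StalkNhd

/-!
# Morphisms between invertible modules on an integral scheme, in local frames
-/

set_option autoImplicit false
set_option linter.style.haveILetI false

namespace Groth.Agent.Helper4.NApx81

open CategoryTheory Limits AlgebraicGeometry TopologicalSpace Opposite
open Groth.Agent.Helper4.TwistExt Groth.Agent.Helper4.StalkDict Groth.Agent.Helper4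
  Groth.Agent.Lead.StalkNhd

universe u

variable {X : Scheme.{u}}

theorem map_self {F : X.Modules} {T : X.Opens} (h : T ≤ T) (m : Γ(F, T)) :
    F.presheaf.map (homOfLE h).op m = m := by
  have : (homOfLE h).op = 𝟙 (op T) := Subsingleton.elim _ _
  rw [this, F.presheaf.map_id]
  rfl

theorem map_self_ring {T : X.Opens} (h : T ≤ T) (a : Γ(X, T)) :
    X.presheaf.map (homOfLE h).op a = a := by
  have : (homOfLE h).op = 𝟙 (op T) := Subsingleton.elim _ _
  rw [this, X.presheaf.map_id]
  rfl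

theorem map_map' {F : X.Modules} {A B C : X.Opens} (hBA : B ≤ A) (hCB : C ≤ B) (m : Γ(F, A)) :
    F.presheaf.map (homOfLE hCB).op (F.presheaf.map (homOfLE hBA).op m) =
      F.presheaf.map (homOfLE (hCB.trans hBA)).op m := by
  rw [← ConcreteCategory.comp_apply, ← Functor.map_comp]
  rfl

theorem app_map {N L : X.Modules} (φ : N ⟶ L) {V T : X.Opens} (h : V ≤ T) (m : Γ(N, T)) :
    φ.app V (N.presheaf.map (homOfLE h).op m) = L.presheaf.map (homOfLE h).op (φ.app T m) :=
  (congr($(φ.mapPresheaf.naturality (homOfLE h).op) m))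

/-- a common frame of two invertible modules near a point -/
theorem exists_common_frame (N L : X.Modules) (hN : PicF.IsInvertible N)
    (hL : PicF.IsInvertible L) (x : X) :
    ∃ (T : X.Opens) (eN : Γ(N, T)) (eL : Γ(L, T)), x ∈ T ∧ IsAffineOpen T ∧
      IsFrame N T eN ∧ IsFrame L T eL := by
  obtain ⟨T₁, e₁, hx₁, -, hf₁, -⟩ := AmpleFinite.exists_chart_forall N hN x
  obtain ⟨T₂, e₂, hx₂, -, hf₂, -⟩ := AmpleFinite.exists_chart_forall L hL x
  obtain ⟨_, ⟨W, hW : IsAffineOpen W, rfl⟩, hxW, hWT⟩ :=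
    X.isBasis_affineOpens.exists_subset_of_mem_open (show x ∈ ((T₁ ⊓ T₂ : X.Opens) : Set X) from
      ⟨hx₁, hx₂⟩) (T₁ ⊓ T₂).isOpen
  have h1 : W ≤ T₁ := fun y hy => (hWT hy).1
  have h2 : W ≤ T₂ := fun y hy => (hWT hy).2
  exact ⟨W, _, _, hxW, hW, Groth.Agent.Helper1.PF.IsFrame.res hf₁ h1,
    Groth.Agent.Helper1.PF.IsFrame.res hf₂ h2⟩

/-- the coefficient of a morphism in a pair of frames -/
theorem exists_coeff {N L : X.Modules} (φ : N ⟶ L) {T : X.Opens} {eN : Γ(N, T)} {eL : Γ(L, T)}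
    (hL : IsFrame L T eL) :
    ∃ a : Γ(X, T), ∀ (V : X.Opens) (h : V ≤ T) (r : Γ(X, V)),
      φ.app V (r • N.presheaf.map (homOfLE h).op eN) =
        (r * X.presheaf.map (homOfLE h).op a) • L.presheaf.map (homOfLE h).op eL := by
  obtain ⟨a, ha⟩ := (hL T le_rfl).1 (φ.app T eN)
  rw [map_self] at ha
  refine ⟨a, fun V h r => ?_⟩
  rw [Scheme.Modules.Hom.app_smul, app_map, ha, Scheme.Modules.map_smul, mul_smul]

section Integral

variable [IsIntegral X] {N L : X.Modules} (φ : N ⟶ L)

/-- if the coefficient vanishes in one (nonempty) frame, the morphism is zero -/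
theorem eq_zero_of_coeff_eq_zero (hN : PicF.IsInvertible N) (hL : PicF.IsInvertible L)
    {T : X.Opens} (hT : (T : Set X).Nonempty) {eN : Γ(N, T)}
    (hfN : IsFrame N T eN)
    (h0 : ∀ (V : X.Opens) (h : V ≤ T) (r : Γ(X, V)),
      φ.app V (r • N.presheaf.map (homOfLE h).op eN) = 0) : φ = 0 := by
  haveI : N.IsQuasicoherent := (Groth.Agent.Helper1.SerreFin.isCoh_of_isInvertible N hN).1
  apply QcohLocal.eq_zero_of_app_eq_zero_of_affine_cover
  intro x
  obtain ⟨T', eN', eL', hx, hT', hfN', hfL'⟩ := exists_common_frame N L hN hL x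
  refine ⟨T', hT', hx, ?_⟩
  obtain ⟨a', ha'⟩ := exists_coeff φ (eN := eN') hfL'
  -- `a' = 0`
  have hV : ((T : Set X) ∩ (T' : Set X)).Nonempty :=
    nonempty_preirreducible_inter T.isOpen T'.isOpen hT ⟨x, hx⟩
  haveI : Nonempty ((T ⊓ T' : X.Opens) : Scheme.{u}) := ⟨⟨hV.some, hV.some_mem⟩⟩
  have h1 := ha' (T ⊓ T') inf_le_right 1
  obtain ⟨r, hr⟩ := (hfN (T ⊓ T') inf_le_left).1 (N.presheaf.map (homOfLE inf_le_right).op eN')
  rw [one_smul, hr, h0 _ inf_le_left r, one_mul] at h1
  have h2 := (hfL' (T ⊓ T') inf_le_right).2 _ h1.symm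
  have h3 : a' = 0 := by
    apply map_injective_of_isIntegral X (homOfLE (inf_le_right : T ⊓ T' ≤ T'))
    rw [h2, map_zero]
  intro m
  obtain ⟨r', hr'⟩ := (hfN' T' le_rfl).1 m
  rw [hr', ha' T' le_rfl r', h3, map_zero, mul_zero, zero_smul]

include φ in
/-- a nonzero morphism between invertible modules is injective on stalks -/
theorem stalkLin_injective_of_ne_zero (hN : PicF.IsInvertible N) (hL : PicF.IsInvertible L)
    (hφ : φ ≠ 0) (x : X) : Function.Injective (stalkLin φ x) := by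
  haveI : N.IsQuasicoherent := (Groth.Agent.Helper1.SerreFin.isCoh_of_isInvertible N hN).1
  haveI : L.IsQuasicoherent := (Groth.Agent.Helper1.SerreFin.isCoh_of_isInvertible L hL).1
  obtain ⟨T, eN, eL, hx, hT, hfN, hfL⟩ := exists_common_frame N L hN hL x
  obtain ⟨a, ha⟩ := exists_coeff φ (eN := eN) hfL
  haveI : Nonempty (T : Scheme.{u}) := ⟨⟨x, hx⟩⟩
  have ha0 : a ≠ 0 := by
    rintro rfl
    apply hφ
    refine eq_zero_of_coeff_eq_zero φ hN hL ⟨x, hx⟩ hfN (fun V h r => ?_)
    rw [ha V h r, map_zero, mul_zero, zero_smul]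
  refine QcohLocal.stalkLin_injective_of_app_injective φ hT
    (QcqsMod.isLocalizingOn_of_isAffineOpen N hT) (QcqsMod.isLocalizingOn_of_isAffineOpen L hT)
    ?_ x hx
  rw [injective_iff_map_eq_zero]
  intro m hm
  obtain ⟨r, hr⟩ := (hfN T le_rfl).1 m
  rw [hr, ha T le_rfl r] at hm
  have h1 := (hfL T le_rfl).2 _ hm
  rw [map_self_ring] at h1
  rcases mul_eq_zero.1 h1 with h2 | h2
  · rw [hr, h2, zero_smul]
  · exact absurd h2 ha0

include φ in
/-- a nonzero morphism between invertible modules on an integral scheme is a monomorphism -/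
theorem mono_of_ne_zero (hN : PicF.IsInvertible N) (hL : PicF.IsInvertible L)
    (hφ : φ ≠ 0) : Mono φ :=
  AssMono.mono_of_stalkLin_injective φ (stalkLin_injective_of_ne_zero φ hN hL hφ)

include φ in
/-- a nonzero morphism between invertible modules is surjective at the generic point -/
theorem stalkLin_surjective_genericPoint (hN : PicF.IsInvertible N) (hL : PicF.IsInvertible L)
    (hφ : φ ≠ 0) : Function.Surjective (stalkLin φ (genericPoint X)) := by
  obtain ⟨T, eN, eL, hx, hT, hfN, hfL⟩ := exists_common_frame N L hN hL (genericPoint X)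
  obtain ⟨a, ha⟩ := exists_coeff φ (eN := eN) hfL
  have ha0 : a ≠ 0 := by
    rintro rfl
    apply hφ
    refine eq_zero_of_coeff_eq_zero φ hN hL ⟨_, hx⟩ hfN (fun V h r => ?_)
    rw [ha V h r, map_zero, mul_zero, zero_smul]
  intro t
  obtain ⟨V, hξV, m, rfl⟩ := TopCat.Presheaf.exists_germ_eq L.presheaf t
  have hξW : genericPoint X ∈ V ⊓ T := ⟨hξV, hx⟩
  haveI : Nonempty ((V ⊓ T : X.Opens) : Scheme.{u}) := ⟨⟨_, hξW⟩⟩
  obtain ⟨r, hr⟩ := (hfL (V ⊓ T) inf_le_right).1 (L.presheaf.map (homOfLE inf_le_left).op m)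
  set aW := X.presheaf.map (homOfLE (inf_le_right : V ⊓ T ≤ T)).op a with haW
  have haW0 : aW ≠ 0 := by
    intro h
    apply ha0
    apply map_injective_of_isIntegral X (homOfLE (inf_le_right : V ⊓ T ≤ T))
    rw [map_zero]
    exact h
  have h1 : φ.app (V ⊓ T) (r • N.presheaf.map (homOfLE inf_le_right).op eN) =
      aW • L.presheaf.map (homOfLE inf_le_left).op m := by
    rw [ha _ inf_le_right r, hr, ← mul_smul, mul_comm]
  set u := X.presheaf.germ (V ⊓ T) (genericPoint X) hξW aW with hu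
  have hu0 : u ≠ 0 := by
    intro h
    apply haW0
    apply germ_injective_of_isIntegral X (genericPoint X) hξW
    rw [map_zero]
    exact h
  have h2 : stalkLin φ (genericPoint X) (N.presheaf.germ (V ⊓ T) (genericPoint X) hξW
      (r • N.presheaf.map (homOfLE inf_le_right).op eN)) =
      u • L.presheaf.germ V (genericPoint X) hξV m := by
    rw [StalkExact.stalkLin_germ, h1, germ_smul]
    congr 1
    exact TopCat.Presheaf.germ_res_apply L.presheaf (homOfLE inf_le_left) _ hξW m
  letI : Field (X.presheaf.stalk (genericPoint X)) := inferInstanceAs (Field X.functionField)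
  refine ⟨u⁻¹ • N.presheaf.germ (V ⊓ T) (genericPoint X) hξW
      (r • N.presheaf.map (homOfLE inf_le_right).op eN), ?_⟩
  rw [map_smul, h2, smul_smul, inv_mul_cancel₀ hu0, one_smul]

end Integral

end Groth.Agent.Helper4.NApx81
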