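import Mathlib
import Groth.Agent.Helper4.NApx80
import Groth.Agent.Helper4.NApx81
import Groth.Agent.Helper1.ZeroDimAcyc
import Groth.Agent.Lead.ZeroDimGG
import Groth.Agent.Helper5.ConstrCurve
import Groth.Agent.Lead.ProperFinA
import Groth.Agent.Helper1.Dev1

/-!
# Nonzero morphisms between invertible modules on a proper integral curve
-/

set_option autoImplicit false
set_option linter.style.haveILetI false

namespace Groth.Agent.Helper4.NApx82

open CategoryTheory Limits AlgebraicGeometry TopologicalSpace Opposite
open Groth.Agent.Helper4.StalkDict Groth.Agent.Helper4 Groth.Agent.Lead.StalkNhd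

universe u

section General

variable {X : Scheme.{u}}

/-- sections of a sheaf of modules are determined by their value on the whole space -/
theorem subsingleton_sections (Q : X.Modules) (h : Subsingleton Γ(Q, ⊤)) :
    Subsingleton (SheafOfModules.sections Q) := by
  refine ⟨fun s t => PresheafOfModules.sections_ext s t (fun U => ?_)⟩
  have hs := PresheafOfModules.sections_property s (homOfLE (le_top : U.unop ≤ ⊤)).op
  have ht := PresheafOfModules.sections_property t (homOfLE (le_top : U.unop ≤ ⊤)).op
  have h0 : s.val (op ⊤) = t.val (op ⊤) := h.elim _ _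
  rw [← hs, ← ht, h0]

/-- a globally generated module without nonzero global sections is zero -/
theorem isZero_of_epi_free (Q : X.Modules) (h : Subsingleton Γ(Q, ⊤)) {I : Type u}
    (p : (SheafOfModules.free I : X.Modules) ⟶ Q) (hp : Epi p) : IsZero Q := by
  haveI := subsingleton_sections Q h
  let F : X.Modules := SheafOfModules.free I
  let p' : F ⟶ Q := p
  haveI hp' : @Epi X.Modules _ F Q p' := hp
  have h0 : p' = (0 : F ⟶ Q) := by
    apply (SheafOfModules.freeHomEquiv Q).injective
    funext i
    exact Subsingleton.elim _ _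
  exact IsZero.of_epi_eq_zero p' h0

end General

theorem isNoetherian_of_proper (k : Type u) [Field k] (X : Scheme.{u})
    [X.Over (Spec (CommRingCat.of k))] [IsProper (X ↘ (Spec (CommRingCat.of k)))] :
    IsNoetherian X := by
  haveI : IsLocallyNoetherian X :=
    LocallyOfFiniteType.isLocallyNoetherian (X ↘ (Spec (CommRingCat.of k)))
  haveI : CompactSpace X :=
    QuasiCompact.compactSpace_of_compactSpace (X ↘ (Spec (CommRingCat.of k)))
  exact {}

variable (k : Type u) [Field k] (X : Scheme.{u}) [X.Over (Spec (CommRingCat.of k))]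
  [IsProper (X ↘ (Spec (CommRingCat.of k)))] [IsIntegral X]

include k in
/-- on a curve, a coherent module vanishing at the generic point is supported at closed points,
and its support is discrete -/
theorem closed_points_of_generic_zero (hdim : topologicalKrullDim X = 1) (Q : X.Modules)
    (hQ : Coh.IsCoh Q) (hξ : Subsingleton (Q.presheaf.stalk (genericPoint X))) :
    (∀ x ∈ CohB1.support Q, IsClosed ({x} : Set X)) ∧ DiscreteTopology (CohB1.support Q) := by
  haveI := isNoetherian_of_proper k X
  have hcl : IsClosed (CohB1.support Q) := Groth.Agent.S0020.result X Q hQ.2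
  have hξ' : genericPoint X ∉ CohB1.support Q := fun h => h hξ
  have hpt : ∀ x ∈ CohB1.support Q, IsClosed ({x} : Set X) := by
    intro x hx
    apply Groth.Agent.Helper5.ConstrCurve.isClosed_singleton_of_ne hdim.le x
    rintro rfl
    exact hξ' hx
  refine ⟨hpt, ?_⟩
  have hfin := Groth.Agent.Helper5.ConstrCurve.finite_of_isClosed_of_notMem hdim.le _ hcl hξ'
  haveI : Finite (CohB1.support Q) := hfin.to_subtype
  haveI : T1Space (CohB1.support Q) := by
    refine ⟨fun z => ?_⟩
    have := (hpt z.1 z.2).preimage (continuous_subtype_val (p := fun y => y ∈ CohB1.support Q))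
    convert this using 1
    ext y
    simp [Subtype.ext_iff]
  infer_instance

omit [IsIntegral X] in
/-- the Euler characteristic of a coherent module supported at closed points -/
theorem euler_eq_finrank_h0 (Q : X.Modules) (hQ : Coh.IsCoh Q)
    (hpt : ∀ x ∈ CohB1.support Q, IsClosed ({x} : Set X)) :
    Curv2.euler k X Q = (Module.finrank k (Coh.HH X Q 0) : ℤ) := by
  haveI := isNoetherian_of_proper k X
  unfold Curv2.euler
  rw [finsum_eq_single _ 0 (fun i hi => by
    haveI := Groth.Agent.Helper1.ZeroDimAcyc.subsingleton_HH X Q hQ hpt i (by omega)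
    rw [Module.finrank_zero_of_subsingleton]
    simp)]
  simp

/-- the main lemma on nonzero morphisms of invertible modules on a proper integral curve -/
theorem hom_main (hdim : topologicalKrullDim X = 1) (N L : X.Modules)
    (hN : PicF.IsInvertible N) (hL : PicF.IsInvertible L) (φ : N ⟶ L) (hφ : φ ≠ 0) :
    Mono φ ∧
      Curv2.euler k X L = Curv2.euler k X N + (Module.finrank k (Coh.HH X (cokernel φ) 0) : ℤ) ∧
      (Module.finrank k (Coh.HH X (cokernel φ) 0) = 0 → IsIso φ) := by
  haveI := isNoetherian_of_proper k X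
  have hcN := Groth.Agent.Helper1.SerreFin.isCoh_of_isInvertible N hN
  have hcL := Groth.Agent.Helper1.SerreFin.isCoh_of_isInvertible L hL
  haveI hmono : Mono φ := NApx81.mono_of_ne_zero φ hN hL hφ
  have hcQ : Coh.IsCoh (cokernel φ) := Groth.Agent.Lead.PerfLib.isCoh_cokernel hcN hcL φ
  have hξ : Subsingleton ((cokernel φ).presheaf.stalk (genericPoint X)) :=
    subsingleton_stalk_cokernel φ _ (NApx81.stalkLin_surjective_genericPoint φ hN hL hφ)
  obtain ⟨hpt, hdisc⟩ := closed_points_of_generic_zero k X hdim (cokernel φ) hcQ hξ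
  refine ⟨hmono, ?_, ?_⟩
  · rw [← euler_eq_finrank_h0 k X (cokernel φ) hcQ hpt]
    exact NApx80.euler_additive k X (Groth.Agent.Helper1.Dev.cokSC φ)
      (Groth.Agent.Helper1.Dev.cokSC_shortExact φ) hcN hcL hcQ
  · intro h0
    haveI : Module.Finite k (Coh.HH X (cokernel φ) 0) := Groth.Agent.S0002.result k X _ hcQ 0
    have hsub : Subsingleton (Coh.HH X (cokernel φ) 0) := Module.finrank_zero_iff.1 h0
    have hΓ : Subsingleton Γ(cokernel φ, ⊤) :=
      (Groth.Agent.Lead.ProperFinA.h0Equiv (cokernel φ)).symm.injective.subsingleton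
    have hcl : IsClosed (CohB1.support (cokernel φ)) := Groth.Agent.S0020.result X _ hcQ.2
    haveI := hdisc
    have hepi := Groth.Agent.Lead.ZeroDimGG.epi_canFree_of_discrete_support (cokernel φ) hcl
    have hz : IsZero (cokernel φ) :=
      isZero_of_epi_free (cokernel φ) hΓ (Groth.Agent.Lead.GlobGen.canFree (cokernel φ)) hepi
    haveI : Epi φ := Preadditive.epi_of_isZero_cokernel φ hz
    exact isIso_of_mono_of_epi φ

/-- S1521 -/
theorem main1521 (hdim : topologicalKrullDim X = 1) (N L : X.Modules)
    (hN : PicF.IsInvertible N) (hL : PicF.IsInvertible L) (φ : N ⟶ L) (hφ : φ ≠ 0) :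
    Curv2.deg k X N 1 ≤ Curv2.deg k X L 1 ∧
      (Curv2.deg k X N 1 = Curv2.deg k X L 1 → IsIso φ) := by
  obtain ⟨-, h1, h2⟩ := hom_main k X hdim N L hN hL φ hφ
  unfold Curv2.deg
  rw [h1]
  refine ⟨by
    have : (0 : ℤ) ≤ (Module.finrank k (Coh.HH X (cokernel φ) 0) : ℤ) := Int.natCast_nonneg _
    linarith, fun h => h2 ?_⟩
  have : (Module.finrank k (Coh.HH X (cokernel φ) 0) : ℤ) = 0 := by linarith
  exact_mod_cast this

omit [IsProper (X ↘ Spec (CommRingCat.of k))] [IsIntegral X] in
theorem deg_structureModule : Curv2.deg k X (Coh.structureModule X) 1 = 0 := by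
  unfold Curv2.deg
  push_cast
  ring

/-- S1518 -/
theorem main1518 (hdim : topologicalKrullDim X = 1) (L : X.Modules) (hL : PicF.IsInvertible L)
    (s : Coh.structureModule X ⟶ L) (hs : s ≠ 0) : 0 ≤ Curv2.deg k X L 1 := by
  have := (main1521 k X hdim _ L TensorInv.isInvertible_structureModule hL s hs).1
  rwa [deg_structureModule] at this

/-- S1520 -/
theorem main1520 (hdim : topologicalKrullDim X = 1) (L : X.Modules) (hL : PicF.IsInvertible L)
    (s : Coh.structureModule X ⟶ L) (hs : s ≠ 0) (hdeg : Curv2.deg k X L 1 ≤ 0) :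
    Nonempty (L ≅ Coh.structureModule X) := by
  obtain ⟨h1, h2⟩ := main1521 k X hdim _ L TensorInv.isInvertible_structureModule hL s hs
  rw [deg_structureModule] at h1 h2
  haveI := h2 (le_antisymm h1 hdeg)
  exact ⟨(asIso s).symm⟩

/-- S1519 -/
theorem main1519 (hdim : topologicalKrullDim X = 1) (L : X.Modules) (hL : PicF.IsInvertible L)
    (s : Coh.structureModule X ⟶ L) (hs : s ≠ 0) (x : X) (hx : x ∉ CohB1.genLocus L s) :
    0 < Curv2.deg k X L 1 := by
  obtain ⟨h1, h2⟩ := main1521 k X hdim _ L TensorInv.isInvertible_structureModule hL s hs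
  rw [deg_structureModule] at h1 h2
  rcases h1.lt_or_eq with h | h
  · exact h
  · exfalso
    haveI := h2 h
    apply hx
    have : (⊤ : X.Opens) ≤ CohB1.genLocus L s := by
      apply le_sSup
      show IsIso ((Scheme.Modules.restrictFunctor (⊤ : X.Opens).ι).map s)
      infer_instance
    exact this trivial

end Groth.Agent.Helper4.NApx82
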