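import Mathlib
import Groth.Agent.Helper4.NApx80
import Groth.Agent.Helper1.ProjTop8
import Groth.Agent.Helper1.TwistExact
import Groth.Agent.Helper1.SerreFin1
import Groth.Agent.Helper1.KzChase
import Groth.Agent.Lead.Ref1B

/-!
# Snapper, part 1: the Euler characteristic of twists is additive
-/

set_option autoImplicit false
set_option linter.style.haveILetI false

namespace Groth.Agent.Helper4.SN

open CategoryTheory Limits AlgebraicGeometry Opposite

universe u

variable (k : Type u) [Field k] (X : Scheme.{u}) [X.Over (Spec (CommRingCat.of k))]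

/-- the Euler characteristic -/
noncomputable abbrev chi (F : X.Modules) : ℤ := Curv2.euler k X F

variable {X}

theorem chi_iso {F G : X.Modules} (e : F ≅ G) : chi k X F = chi k X G := by
  unfold chi Curv2.euler
  refine finsum_congr (fun i => ?_)
  rw [(Groth.Agent.Helper1.ProjTop.HHlinEquiv k e i).finrank_eq]

theorem chi_of_isZero {F : X.Modules} (h : IsZero F) : chi k X F = 0 := by
  unfold chi Curv2.euler
  refine finsum_eq_zero_of_forall_eq_zero (fun i => ?_)
  haveI := Groth.Agent.Helper1.KzChase.subsingleton_HH_of_isZero h i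
  rw [Module.finrank_zero_of_subsingleton]
  simp

variable [IsProper (X ↘ (Spec (CommRingCat.of k)))]

theorem chi_add (S : ShortComplex X.Modules) (hS : S.ShortExact)
    (h₁ : Coh.IsCoh S.X₁) (h₂ : Coh.IsCoh S.X₂) (h₃ : Coh.IsCoh S.X₃) :
    chi k X S.X₂ = chi k X S.X₁ + chi k X S.X₃ :=
  Groth.Agent.Helper4.NApx80.euler_additive k X S hS h₁ h₂ h₃

/-- the Euler characteristic of the twist by `T` -/
noncomputable abbrev chiT (T F : X.Modules) : ℤ := chi k X (CohB1.tensorMod T F)

theorem chiT_iso (T : X.Modules) {F G : X.Modules} (e : F ≅ G) : chiT k T F = chiT k T G :=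
  chi_iso k (PicGrp.tensorModIso (Iso.refl T) e)

theorem chiT_iso_left {T T' : X.Modules} (e : T ≅ T') (F : X.Modules) :
    chiT k T F = chiT k T' F :=
  chi_iso k (PicGrp.tensorModIso e (Iso.refl F))

theorem chiT_add (T : X.Modules) (hT : PicF.IsInvertible T)
    (S : ShortComplex X.Modules) (hS : S.ShortExact)
    (h₁ : Coh.IsCoh S.X₁) (h₂ : Coh.IsCoh S.X₂) (h₃ : Coh.IsCoh S.X₃) :
    chiT k T S.X₂ = chiT k T S.X₁ + chiT k T S.X₃ := by
  have hTc := Groth.Agent.Helper1.SerreFin.isCoh_of_isInvertible T hT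
  have hS' := Groth.Agent.Helper1.TwistExact.shortExact_map_tensorRightMod hS T hT
  have h := chi_add k (S.map (DCoh.tensorRightMod T)) hS'
    (Groth.Agent.Lead.Ref1B.isCoh_tensorMod _ _ h₁ hTc)
    (Groth.Agent.Lead.Ref1B.isCoh_tensorMod _ _ h₂ hTc)
    (Groth.Agent.Lead.Ref1B.isCoh_tensorMod _ _ h₃ hTc)
  show chi k X (CohB1.tensorMod T S.X₂) = chi k X (CohB1.tensorMod T S.X₁) +
    chi k X (CohB1.tensorMod T S.X₃)
  rw [chi_iso k (Groth.Agent.Lead.Ref1B.braid T S.X₂),
    chi_iso k (Groth.Agent.Lead.Ref1B.braid T S.X₁),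
    chi_iso k (Groth.Agent.Lead.Ref1B.braid T S.X₃)]
  exact h

theorem chiT_of_isZero (T : X.Modules) {F : X.Modules} (h : IsZero F) : chiT k T F = 0 := by
  refine chi_of_isZero k ?_
  have h1 : IsZero ((DCoh.tensorRightMod T).obj F) := Functor.map_isZero _ h
  exact IsZero.of_iso h1 (Groth.Agent.Lead.Ref1B.braid T F)

end Groth.Agent.Helper4.SN
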