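import Mathlib
import Groth.Agent.Helper1.Dev28
import Groth.Agent.Lead.StalkNhd

/-!
# Snapper, part 2: additive functions and the generic comparison lemma
-/

set_option autoImplicit false
set_option linter.style.haveILetI false

namespace Groth.Agent.Helper4.SN

open CategoryTheory Limits AlgebraicGeometry Opposite TopologicalSpace
open Groth.Agent.Helper1.Dev

universe u

variable {X : Scheme.{u}}

/-- an integer valued function on modules, additive on short exact sequences of coherent modules -/
structure AddFn (Φ : X.Modules → ℤ) : Prop where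
  add : ∀ S : ShortComplex X.Modules, S.ShortExact → Coh.IsCoh S.X₁ → Coh.IsCoh S.X₂ →
    Coh.IsCoh S.X₃ → Φ S.X₂ = Φ S.X₁ + Φ S.X₃

theorem AddFn.four_term [IsLocallyNoetherian X] {Φ : X.Modules → ℤ} (hΦ : AddFn Φ)
    {A B : X.Modules} (φ : A ⟶ B) (hA : Coh.IsCoh A) (hB : Coh.IsCoh B) :
    Φ A + Φ (cokernel φ) = Φ B + Φ (kernel φ) := by
  have hck : Coh.IsCoh (kernel φ) := Groth.Agent.Lead.PerfLib.isCoh_kernel hA hB φ
  have hcc : Coh.IsCoh (cokernel φ) := Groth.Agent.Lead.PerfLib.isCoh_cokernel hA hB φ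
  have hci : Coh.IsCoh (Abelian.image φ) := Groth.Agent.Lead.PerfLib.isCoh_kernel hB hcc _
  have h1 := hΦ.add (kerImSC φ) (kerImSC_shortExact φ) hck hA hci
  have h2 := hΦ.add (imCokSC φ) (imCokSC_shortExact φ) hci hB hcc
  have h1' : Φ A = Φ (kernel φ) + Φ (Abelian.image φ) := h1
  have h2' : Φ B = Φ (Abelian.image φ) + Φ (cokernel φ) := h2
  omega

theorem support_biprod_subset (A B : X.Modules) :
    CohB1.support (A ⊞ B : X.Modules) ⊆ CohB1.support A ∪ CohB1.support B := by
  have hS : (ShortComplex.mk (biprod.inl : A ⟶ A ⊞ B) (biprod.snd : A ⊞ B ⟶ B)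
      (by simp)).ShortExact :=
    (ShortComplex.Splitting.ofHasBinaryBiproduct A B).shortExact
  exact support_subset_union _ hS

/-- **generic comparison**: two coherent modules supported in `Y` which are isomorphic over an
open `U` have the same value under any additive function killing the coherent modules supported
in `Y \ U` -/
theorem generic_comparison [IsNoetherian X] {Φ : X.Modules → ℤ} (hΦ : AddFn Φ) (Y : Set X)
    (U : X.Opens)
    (hsmall : ∀ F : X.Modules, Coh.IsCoh F → CohB1.support F ⊆ Y \ (U : Set X) → Φ F = 0)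
    (A B : X.Modules) (hA : Coh.IsCoh A) (hB : Coh.IsCoh B) (hsA : CohB1.support A ⊆ Y)
    (hsB : CohB1.support B ⊆ Y) (e : A.restrict U.ι ≅ B.restrict U.ι) : Φ A = Φ B := by
  obtain ⟨H, i', hmono, hH, hbij⟩ := exists_graph_extension' A B hA hB U e
  have hsH : CohB1.support H ⊆ Y := by
    refine (support_subset_of_mono i').trans ((support_biprod_subset A B).trans ?_)
    exact Set.union_subset hsA hsB
  set v : H ⟶ A := i' ≫ biprod.fst
  set w : H ⟶ B := i' ≫ biprod.snd
  have hkv : Φ (kernel v) = 0 := by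
    refine hsmall _ (Groth.Agent.Lead.PerfLib.isCoh_kernel hH hA v) ?_
    intro x hx
    refine ⟨hsH (support_subset_of_mono (kernel.ι v) hx), fun hxU => hx ?_⟩
    exact Groth.Agent.Lead.StalkNhd.subsingleton_stalk_kernel v x (hbij x hxU).1.injective
  have hcv : Φ (cokernel v) = 0 := by
    refine hsmall _ (Groth.Agent.Lead.PerfLib.isCoh_cokernel hH hA v) ?_
    intro x hx
    refine ⟨hsA (support_subset_of_epi (cokernel.π v) hx), fun hxU => hx ?_⟩
    exact Groth.Agent.Lead.StalkNhd.subsingleton_stalk_cokernel v x (hbij x hxU).1.surjective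
  have hkw : Φ (kernel w) = 0 := by
    refine hsmall _ (Groth.Agent.Lead.PerfLib.isCoh_kernel hH hB w) ?_
    intro x hx
    refine ⟨hsH (support_subset_of_mono (kernel.ι w) hx), fun hxU => hx ?_⟩
    exact Groth.Agent.Lead.StalkNhd.subsingleton_stalk_kernel w x (hbij x hxU).2.injective
  have hcw : Φ (cokernel w) = 0 := by
    refine hsmall _ (Groth.Agent.Lead.PerfLib.isCoh_cokernel hH hB w) ?_
    intro x hx
    refine ⟨hsB (support_subset_of_epi (cokernel.π w) hx), fun hxU => hx ?_⟩
    exact Groth.Agent.Lead.StalkNhd.subsingleton_stalk_cokernel w x (hbij x hxU).2.surjective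
  have h1 := hΦ.four_term v hH hA
  have h2 := hΦ.four_term w hH hB
  omega

end Groth.Agent.Helper4.SN
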