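import Mathlib
import Groth.Agent.Helper4.SN1
import Groth.Agent.Helper4.SN2
import Groth.Agent.Helper4.TensorInv
import Groth.Prelude.Def_FGA

/-!
# Snapper, part 3: the alternating sums
-/

set_option autoImplicit false
set_option linter.style.haveILetI false

namespace Groth.Agent.Helper4.SN

open CategoryTheory Limits AlgebraicGeometry Opposite TopologicalSpace

universe u

variable {X : Scheme.{u}}

/-- the alternating sum defining intersection numbers, for a general "Euler characteristic" -/
noncomputable def altF (χ : X.Modules → ℤ) {r : ℕ} (M : Fin r → X.Modules) (F : X.Modules) : ℤ :=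
  (Finset.univ : Finset (Finset (Fin r))).sum fun I =>
    (-1 : ℤ) ^ I.card * χ (CohB1.tensorMod (FGA.tensorList ((I.sort (· ≤ ·)).map M)) F)

theorem isInvertible_tensorList (l : List X.Modules) (h : ∀ M ∈ l, PicF.IsInvertible M) :
    PicF.IsInvertible (FGA.tensorList l) := by
  induction l with
  | nil => exact Groth.Agent.Helper4.TensorInv.isInvertible_structureModule
  | cons M l ih =>
    exact Groth.Agent.Helper4.TensorInv.isInvertible_tensorMod (h M (List.mem_cons_self ..))
      (ih (fun N hN => h N (List.mem_cons_of_mem _ hN)))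

theorem sum_finset_fin_succ {r : ℕ} (f : Finset (Fin (r + 1)) → ℤ) :
    ∑ I, f I = ∑ J : Finset (Fin r), f (J.map (Fin.succEmb r)) +
      ∑ J : Finset (Fin r), f (insert 0 (J.map (Fin.succEmb r))) := by
  classical
  have hu : (Finset.univ : Finset (Fin (r + 1))) =
      insert 0 (Finset.univ.map (Fin.succEmb r)) := by
    ext i
    simp only [Finset.mem_univ, Finset.mem_insert, Finset.mem_map, Fin.coe_succEmb, true_and,
      true_iff]
    rcases Fin.eq_zero_or_eq_succ i with h | ⟨j, h⟩
    · exact Or.inl h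
    · exact Or.inr ⟨j, h.symm⟩
  have h0 : (0 : Fin (r + 1)) ∉ Finset.univ.map (Fin.succEmb r) := by
    simp [Fin.succ_ne_zero]
  have hp : (Finset.univ.map (Fin.succEmb r)).powerset =
      (Finset.univ : Finset (Finset (Fin r))).map
        ⟨fun J => J.map (Fin.succEmb r), Finset.map_injective _⟩ := by
    ext t
    simp only [Finset.mem_powerset, Finset.mem_map, Finset.mem_univ, true_and,
      Function.Embedding.coeFn_mk]
    rw [Finset.subset_map_iff]
    constructor
    · rintro ⟨J, -, rfl⟩
      exact ⟨J, rfl⟩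
    · rintro ⟨J, rfl⟩
      exact ⟨J, Finset.subset_univ _, rfl⟩
  rw [← Finset.powerset_univ, hu, Finset.sum_powerset_insert h0, hp, Finset.sum_map,
    Finset.sum_map]
  rfl

theorem sort_map_succ {r : ℕ} (J : Finset (Fin r)) :
    (J.map (Fin.succEmb r)).sort (· ≤ ·) = (J.sort (· ≤ ·)).map Fin.succ := by
  refine (Finset.map_sort (Fin.succEmb r) J (· ≤ ·) (· ≤ ·) (fun a _ b _ => ?_)).symm
  simp

theorem sort_insert_zero {r : ℕ} (J : Finset (Fin r)) :
    (insert 0 (J.map (Fin.succEmb r))).sort (· ≤ ·) = 0 :: (J.sort (· ≤ ·)).map Fin.succ := by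
  rw [Finset.sort_insert (· ≤ ·) (fun b _ => Fin.zero_le b) (by simp [Fin.succ_ne_zero]),
    sort_map_succ]

/-- the recursion for the alternating sums -/
theorem altF_succ (χ : X.Modules → ℤ) (hχ : ∀ {F G : X.Modules}, (F ≅ G) → χ F = χ G) {r : ℕ}
    (M : Fin (r + 1) → X.Modules) (F : X.Modules) :
    altF χ M F = altF χ (fun i => M i.succ) F -
      altF χ (fun i => M i.succ) (CohB1.tensorMod (M 0) F) := by
  classical
  unfold altF
  rw [sum_finset_fin_succ, sub_eq_add_neg, ← Finset.sum_neg_distrib]
  congr 1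
  · refine Finset.sum_congr rfl (fun J _ => ?_)
    rw [Finset.card_map, sort_map_succ, List.map_map]
    rfl
  · refine Finset.sum_congr rfl (fun J _ => ?_)
    rw [Finset.card_insert_of_notMem (by simp [Fin.succ_ne_zero]), Finset.card_map,
      sort_insert_zero, List.map_cons, List.map_map, pow_succ]
    have e : CohB1.tensorMod (FGA.tensorList (M 0 :: List.map (M ∘ Fin.succ) (J.sort (· ≤ ·)))) F ≅
        CohB1.tensorMod (FGA.tensorList (List.map (fun i => M i.succ) (J.sort (· ≤ ·))))
          (CohB1.tensorMod (M 0) F) :=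
      PicGrp.tensorModIso (Groth.Agent.Lead.Ref1B.braid (M 0) _) (Iso.refl F) ≪≫
        Groth.Agent.Lead.Ref1B.assoc _ (M 0) F
    rw [hχ e]
    ring

theorem altF_iso (χ : X.Modules → ℤ) (hχ : ∀ {F G : X.Modules}, (F ≅ G) → χ F = χ G) {r : ℕ}
    (M : Fin r → X.Modules) {F G : X.Modules} (e : F ≅ G) : altF χ M F = altF χ M G := by
  unfold altF
  refine Finset.sum_congr rfl (fun I _ => ?_)
  rw [hχ (PicGrp.tensorModIso (Iso.refl _) e)]

variable (k : Type u) [Field k] [X.Over (Spec (CommRingCat.of k))]
  [IsProper (X ↘ (Spec (CommRingCat.of k)))]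

theorem altF_addFn {r : ℕ} (M : Fin r → X.Modules) (hM : ∀ i, PicF.IsInvertible (M i)) :
    AddFn (altF (chi k X) M) where
  add S hS h₁ h₂ h₃ := by
    unfold altF
    rw [← Finset.sum_add_distrib]
    refine Finset.sum_congr rfl (fun I _ => ?_)
    have hT : PicF.IsInvertible (FGA.tensorList ((I.sort (· ≤ ·)).map M)) :=
      isInvertible_tensorList _ (fun N hN => by
        obtain ⟨i, -, rfl⟩ := List.mem_map.mp hN
        exact hM i)
    have := chiT_add k _ hT S hS h₁ h₂ h₃
    unfold chiT at this
    rw [this]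
    ring

theorem altF_of_isZero {r : ℕ} (M : Fin r → X.Modules) {F : X.Modules} (h : IsZero F) :
    altF (chi k X) M F = 0 := by
  unfold altF
  refine Finset.sum_eq_zero (fun I _ => ?_)
  have := chiT_of_isZero k (FGA.tensorList ((I.sort (· ≤ ·)).map M)) h
  unfold chiT at this
  rw [this, mul_zero]

end Groth.Agent.Helper4.SN
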