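import Mathlib
import Groth.Agent.Helper4.SN3
import Groth.Agent.Helper4.NApx82
import Groth.Agent.Helper4.TensorRes
import Groth.Agent.S0020

/-!
# Snapper, part 4: vanishing of the alternating sums above the dimension of the support
-/

set_option autoImplicit false
set_option linter.style.haveILetI false

namespace Groth.Agent.Helper4.SN

open CategoryTheory Limits AlgebraicGeometry Opposite TopologicalSpace
open Groth.Agent.Helper1.Dev

universe u

section Top

variable {T : Type*} [TopologicalSpace T]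

/-- all irreducible closed subsets of `Z` have height `< n` -/
def DimLT (Z : Set T) (n : ℕ) : Prop :=
  ∀ S : IrreducibleCloseds T, (S : Set T) ⊆ Z → Order.height S < (n : ℕ∞)

theorem DimLT.mono {Z Z' : Set T} {n : ℕ} (h : DimLT Z n) (hZ : Z' ⊆ Z) : DimLT Z' n :=
  fun S hS => h S (hS.trans hZ)

theorem isIrreducible_preimage_val {Z S : Set T} (hS : IsIrreducible S) (hSZ : S ⊆ Z) :
    IsIrreducible ((Subtype.val : Z → T) ⁻¹' S) := by
  obtain ⟨x, hx⟩ := hS.nonempty
  refine ⟨⟨⟨x, hSZ hx⟩, hx⟩, ?_⟩
  rintro u v hu hv ⟨a, haS, hau⟩ ⟨b, hbS, hbv⟩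
  obtain ⟨u', hu', rfl⟩ := isOpen_induced_iff.mp hu
  obtain ⟨v', hv', rfl⟩ := isOpen_induced_iff.mp hv
  obtain ⟨c, hcS, hcu, hcv⟩ := hS.isPreirreducible u' v' hu' hv' ⟨a.1, haS, hau⟩ ⟨b.1, hbS, hbv⟩
  exact ⟨⟨c, hSZ hcS⟩, hcS, hcu, hcv⟩

/-- chains below an irreducible closed subset of `Z` give chains in the subspace `Z` -/
theorem length_le_dim {Z : Set T} (p : LTSeries (IrreducibleCloseds T))
    (hp : (p.last : Set T) ⊆ Z) : (p.length : WithBot ℕ∞) ≤ topologicalKrullDim Z := by
  have hle : ∀ i, (p i : Set T) ⊆ Z := fun i =>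
    (show (p i : Set T) ⊆ p.last from p.monotone (Fin.le_last i)).trans hp
  let q : LTSeries (IrreducibleCloseds Z) := LTSeries.mk p.length
    (fun i => ⟨(Subtype.val : Z → T) ⁻¹' (p i),
      isIrreducible_preimage_val (p i).isIrreducible (hle i),
      (p i).isClosed.preimage continuous_subtype_val⟩) (by
      intro i j hij
      have hlt : p i < p j := p.strictMono hij
      refine lt_of_le_of_ne (fun x hx => hlt.le hx) ?_
      intro heq
      apply hlt.ne
      apply IrreducibleCloseds.ext
      refine Set.Subset.antisymm (fun x hx => hlt.le hx) ?_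
      intro x hx
      have h3 : (Subtype.val : Z → T) ⁻¹' (p i) = (Subtype.val : Z → T) ⁻¹' (p j) :=
        congrArg (fun S : IrreducibleCloseds Z => (S : Set Z)) heq
      have h2 : (⟨x, hle j hx⟩ : Z) ∈ (Subtype.val : Z → T) ⁻¹' (p j) := hx
      rw [← h3] at h2
      exact h2)
  exact Order.LTSeries.length_le_krullDim q

theorem dimLT_of_krullDim_lt {Z : Set T} {r : ℕ}
    (h : topologicalKrullDim Z < (r : WithBot ℕ∞)) : DimLT Z r := by
  intro S hS
  by_contra hcon
  rw [not_lt] at hcon
  obtain ⟨p, hp, hlen⟩ := Order.exists_series_of_le_height S hcon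
  have h1 := length_le_dim (Z := Z) p (by rw [hp]; exact hS)
  rw [hlen] at h1
  exact absurd (lt_of_le_of_lt h1 h) (lt_irrefl _)

/-- proper closed subsets of an irreducible closed set have smaller dimension -/
theorem DimLT.of_lt {Y : Set T} (hYirr : IsIrreducible Y) (hYcl : IsClosed Y) {n : ℕ}
    (h : DimLT Y (n + 1)) {Z : Set T} (hZY : Z ⊆ Y) (hne : ∃ y ∈ Y, y ∉ Z) : DimLT Z n := by
  intro S hS
  let T₀ : IrreducibleCloseds T := ⟨Y, hYirr, hYcl⟩
  have hT₀ : Order.height T₀ < ((n + 1 : ℕ) : ℕ∞) := h T₀ (le_refl _)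
  have hT₀' : Order.height T₀ ≤ (n : ℕ∞) := by
    have : ((n + 1 : ℕ) : ℕ∞) = (n : ℕ∞) + 1 := by push_cast; rfl
    rw [this] at hT₀
    exact Order.le_of_lt_add_one hT₀
  have hlt : S < T₀ := by
    refine lt_of_le_of_ne (fun z hz => hZY (hS hz)) ?_
    intro hST
    obtain ⟨y, hyY, hyZ⟩ := hne
    have : y ∈ (S : Set T) := by rw [hST]; exact hyY
    exact hyZ (hS this)
  have hfin : Order.height S < ⊤ :=
    lt_of_le_of_lt (Order.height_mono hlt.le) (lt_of_le_of_lt hT₀' (ENat.natCast_lt_top n))
  exact lt_of_lt_of_le (Order.height_strictMono hlt hfin) hT₀'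

theorem DimLT.pos {Y : Set T} (hYirr : IsIrreducible Y) (hYcl : IsClosed Y) {n : ℕ}
    (h : DimLT Y n) : ∃ m, n = m + 1 := by
  let T₀ : IrreducibleCloseds T := ⟨Y, hYirr, hYcl⟩
  have hT₀ : Order.height T₀ < (n : ℕ∞) := h T₀ (le_refl _)
  refine ⟨n - 1, ?_⟩
  have : n ≠ 0 := by
    rintro rfl
    simp at hT₀
  omega

end Top

variable {X : Scheme.{u}}

theorem support_tensorMod_subset (M N : X.Modules) :
    CohB1.support (CohB1.tensorMod M N) ⊆ CohB1.support N := by
  intro x hx hN
  apply hx
  have : Subsingleton (TensorProduct (X.presheaf.stalk x) (M.presheaf.stalk x)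
      (N.presheaf.stalk x)) := by
    refine subsingleton_of_forall_eq 0 (fun z => ?_)
    induction z using TensorProduct.induction_on with
    | zero => rfl
    | tmul a b => rw [Subsingleton.elim b 0, TensorProduct.tmul_zero]
    | add a b ha hb => rw [ha, hb, add_zero]
  exact (Groth.Agent.Lead.Ref1B.stalkTensorEquiv M N x).symm.toEquiv.subsingleton

/-- a module which is trivial on `U` does not change restrictions to `U` under tensoring -/
noncomputable def restrictTensorIso (L G : X.Modules) (U : X.Opens)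
    (e₀ : L.restrict U.ι ≅ Coh.structureModule (U : Scheme.{u})) :
    G.restrict U.ι ≅ (CohB1.tensorMod L G).restrict U.ι :=
  (Groth.Agent.Lead.Ref1B.unitorL (G.restrict U.ι)).symm ≪≫
    PicGrp.tensorModIso e₀.symm (Iso.refl _) ≪≫
    Groth.Agent.Helper4.TensorRes.resIso U.ι L G

variable (k : Type u) [Field k] [X.Over (Spec (CommRingCat.of k))]
  [IsProper (X ↘ (Spec (CommRingCat.of k)))]

/-- the class of coherent modules for which the alternating sums vanish above the dimension -/
def KVan : ObjectProperty X.Modules := fun F =>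
  ∀ (r : ℕ) (M : Fin r → X.Modules), (∀ i, PicF.IsInvertible (M i)) →
    DimLT (CohB1.support F) r → altF (chi k X) M F = 0

theorem kVan_halfClass : HalfClass (KVan (X := X) k) where
  iso := by
    intro M N e h r L hL hd
    rw [← altF_iso (chi k X) (chi_iso k) L e]
    exact h r L hL (by rw [support_eq_of_iso e]; exact hd)
  zero := fun M hM r L _ _ => altF_of_isZero k L hM
  ext := by
    intro S hS h₁ h₂ h₃ k₁ k₃ r L hL hd
    have := hS.mono_f
    have := hS.epi_g
    rw [(altF_addFn k L hL).add S hS h₁ h₂ h₃,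
      k₁ r L hL (hd.mono (support_subset_of_mono S.f)),
      k₃ r L hL (hd.mono (support_subset_of_epi S.g)), add_zero]

/-- **Snapper's vanishing**: the alternating sum over `r` invertible modules of the Euler
characteristics of the twists of a coherent module with support of dimension `< r` vanishes -/
theorem snapper_vanishing {r : ℕ} (M : Fin r → X.Modules) (hM : ∀ i, PicF.IsInvertible (M i))
    (F : X.Modules) (hF : Coh.IsCoh F) (hdim : DimLT (CohB1.support F) r) :
    altF (chi k X) M F = 0 := by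
  haveI := Groth.Agent.Helper4.NApx82.isNoetherian_of_proper k X
  refine (kVan_halfClass k).core (⊤ : Closeds X) ?_ F hF (Set.subset_univ _) r M hM hdim
  intro Y _ hYirr hB E hE
  set ι := (Scheme.IdealSheafData.vanishingIdeal Y).subschemeι
  set G := (Scheme.Modules.pushforward ι).obj E with hGdef
  have hG : Coh.IsCoh G := isCoh_push ι E hE
  have hsG : CohB1.support G ⊆ (Y : Set X) := by
    rw [← range_ι_vanishingIdeal Y]
    exact support_push_subset ι E
  have hclG : IsClosed (CohB1.support G) := Groth.Agent.S0020.result _ _ hG.2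
  intro r M hM hdim
  by_cases hfull : CohB1.support G = (Y : Set X)
  · rw [hfull] at hdim
    obtain ⟨r', rfl⟩ := hdim.pos hYirr Y.isClosed
    rw [altF_succ (chi k X) (chi_iso k) M G]
    obtain ⟨y, hyY⟩ := hYirr.nonempty
    obtain ⟨U, hyU, ⟨e₀⟩⟩ := hM 0 y
    have hΦ := altF_addFn k (fun i => M i.succ) (fun i => hM i.succ)
    have hcomp := generic_comparison hΦ (Y : Set X) U ?_ G (CohB1.tensorMod (M 0) G) hG
      (Groth.Agent.Lead.Ref1B.isCoh_tensorMod _ _
        (Groth.Agent.Helper1.SerreFin.isCoh_of_isInvertible _ (hM 0)) hG)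
      hsG ((support_tensorMod_subset (M 0) G).trans hsG) (restrictTensorIso (M 0) G U e₀)
    · rw [hcomp, sub_self]
    · intro F' hF' hsF'
      have hclF' : IsClosed (CohB1.support F') := Groth.Agent.S0020.result _ _ hF'.2
      let Y' : Closeds X := ⟨CohB1.support F', hclF'⟩
      have hY' : Y' < Y := by
        refine lt_of_le_of_ne (fun z hz => (hsF' hz).1) ?_
        intro heq
        have : y ∈ (Y' : Set X) := by rw [heq]; exact hyY
        exact (hsF' this).2 hyU
      refine hB Y' hY' F' hF' (le_refl _) r' _ (fun i => hM i.succ) ?_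
      exact hdim.of_lt hYirr Y.isClosed (fun z hz => (hsF' hz).1) ⟨y, hyY, fun h => (hsF' h).2 hyU⟩
  · let Y' : Closeds X := ⟨CohB1.support G, hclG⟩
    have hY' : Y' < Y := lt_of_le_of_ne hsG (fun heq => hfull (congrArg (fun Z : Closeds X => (Z : Set X)) heq))
    exact hB Y' hY' G hG (le_refl _) r M hM hdim

end Groth.Agent.Helper4.SN
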