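import Mathlib
import Groth.Agent.Helper4.SN4
import Groth.Agent.Helper4.GV7

/-!
# Snapper, part 5: truncated Euler characteristics and intersection numbers
-/

set_option autoImplicit false
set_option linter.style.haveILetI false

namespace Groth.Agent.Helper4.SN

open CategoryTheory Limits AlgebraicGeometry Opposite TopologicalSpace

universe u

variable (k : Type u) [Field k] {X : Scheme.{u}} [X.Over (Spec (CommRingCat.of k))]

/-- Grothendieck vanishing for modules on a Noetherian scheme -/
theorem subsingleton_HH_of_dim [IsNoetherian X] (d : ℕ) (hd : topologicalKrullDim X ≤ d)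
    (G : X.Modules) (p : ℕ) (hp : d < p) : Subsingleton (Coh.HH X G p) := by
  haveI : NoetherianSpace ↑X.toTopCat := (inferInstance : NoetherianSpace X)
  exact Groth.Agent.Helper4.GV.grothendieck_vanishing (X := X.toTopCat) d hd (Coh.toAb G) p hp

/-- the truncated Euler characteristic is the Euler characteristic -/
theorem eulerCharLE_eq_chi [IsNoetherian X] (d : ℕ) (hd : topologicalKrullDim X ≤ d)
    (G : X.Modules) : FGA.eulerCharLE k X G d = chi k X G := by
  unfold FGA.eulerCharLE chi Curv2.euler
  have hsupp : (Function.support fun i : ℕ =>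
      (-1 : ℤ) ^ i * (Module.finrank k (Coh.HH X G i) : ℤ)) ⊆ ↑(Finset.range (d + 1)) := by
    intro i hi
    simp only [Finset.coe_range, Set.mem_Iio]
    by_contra hcon
    apply hi
    haveI := subsingleton_HH_of_dim d hd G i (by omega)
    show (-1 : ℤ) ^ i * (Module.finrank k (Coh.HH X G i) : ℤ) = 0
    rw [Module.finrank_zero_of_subsingleton]
    simp
  rw [finsum_eq_sum_of_support_subset _ hsupp]

variable [IsProper (X ↘ (Spec (CommRingCat.of k)))]

theorem intNum_eq_altF (d : ℕ) (hd : topologicalKrullDim X ≤ d) {r : ℕ} (M : Fin r → X.Modules)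
    (F : X.Modules) : FGA.intNum k X d M F = altF (chi k X) M F := by
  haveI := Groth.Agent.Helper4.NApx82.isNoetherian_of_proper k X
  unfold FGA.intNum altF
  refine Finset.sum_congr rfl (fun I _ => ?_)
  rw [eulerCharLE_eq_chi k d hd]

/-- S3231 -/
theorem main3231 (d : ℕ) (hd : topologicalKrullDim X ≤ d) {r : ℕ} (M : Fin r → X.Modules)
    (hM : ∀ i, PicF.IsInvertible (M i)) (F : X.Modules) (hF : Coh.IsCoh F)
    (hr : topologicalKrullDim (CohB1.support F) < r) : FGA.intNum k X d M F = 0 := by
  rw [intNum_eq_altF k d hd]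
  exact snapper_vanishing k M hM F hF (dimLT_of_krullDim_lt hr)

end Groth.Agent.Helper4.SN
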