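import Groth.Agent.Helper4.FTIdeal2
import Groth.Agent.Helper4.QcohLocal
import Groth.Agent.Helper4.Scalar
import Groth.Agent.Helper4.QAffSec
import Groth.Agent.Helper4.FinLocFree4
import Groth.Prelude.Def_FlatMod2
import Mathlib

set_option autoImplicit false
universe u
open CategoryTheory CategoryTheory.Limits AlgebraicGeometry Opposite TopologicalSpace

namespace Groth.Agent.Helper4.SerreCrit

open Groth.Agent.Helper4.GenLoc Groth.Agent.Helper4.StalkExact Groth.Agent.Helper4.QAffSec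
  Groth.Agent.Helper4.Scalar

variable {X : Scheme.{u}}

/-- the hypothesis (c') of Serre's criterion -/
def SerreHyp (X : Scheme.{u}) : Prop :=
  ∀ (n : ℕ) (F F'' : X.Modules) (i : F ⟶ FlatMod.freeMod X n) (p : F ⟶ F''),
    Mono i → Epi p → Coh.IsQCoh F → Coh.IsQCoh F'' →
      Function.Surjective (p.val.app (Opposite.op ⊤)).hom

/-- every closed point has an affine neighbourhood of the form `X_f` -/
theorem exists_basicOpen_of_isClosed_singleton (h : SerreHyp X) (x : X)
    (hx : IsClosed ({x} : Set X)) :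
    ∃ f : Γ(X, ⊤), x ∈ X.basicOpen f ∧ IsAffineOpen (X.basicOpen f) := by
  obtain ⟨U, hU, hxU, -⟩ :=
    exists_isAffineOpen_mem_and_subset (X := X) (x := x) (U := ⊤) trivial
  obtain ⟨J, ιJ, hmono, hJq, hbij, hvan⟩ := Groth.Agent.Helper4.FTIdeal2.exists_ideal_module_mono' U
  let Z : Closeds X := ⟨{x}, hx⟩
  let I := Scheme.IdealSheafData.vanishingIdeal Z
  have hsupp : (I.support : Set X) = {x} := Scheme.IdealSheafData.coe_support_vanishingIdeal Z
  haveI : (Coh.structureModule I.subscheme).IsQuasicoherent :=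
    isQuasicoherent_of_isInvertible _ Groth.Agent.Helper4.TensorInv.isInvertible_structureModule
  let K : X.Modules := (Scheme.Modules.pushforward I.subschemeι).obj
    (Coh.structureModule I.subscheme)
  haveI hKq : K.IsQuasicoherent :=
    Groth.Agent.Helper4.QcohGlue.isQuasicoherent_pushforward I.subschemeι _
  let q : J ⟶ K := ιJ ≫ ClSub.toSubscheme I
  have hq : Epi q := by
    apply Groth.Agent.Helper4.QcohLocal.epi_of_app_surjective_of_affine_cover
    intro y
    by_cases hy : y ∈ U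
    · obtain ⟨V, hV, hyV, hVU⟩ := exists_isAffineOpen_mem_and_subset (X := X) (x := y) (U := U) hy
      refine ⟨V, hV, hyV, ?_⟩
      intro k
      obtain ⟨r, hr⟩ := I.subschemeι_app_surjective ⟨V, hV⟩ k
      obtain ⟨m, hm⟩ := (hbij V hVU).2 r
      refine ⟨m, ?_⟩
      change (ClSub.toSubscheme I).app V (ιJ.app V m) = k
      rw [hm]
      exact hr
    · have hyx : y ∈ (⟨({x} : Set X)ᶜ, hx.isOpen_compl⟩ : X.Opens) := by
        intro hyx
        rw [Set.mem_singleton_iff] at hyx
        exact hy (hyx ▸ hxU)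
      obtain ⟨V, hV, hyV, hVx⟩ := exists_isAffineOpen_mem_and_subset (X := X) (x := y) hyx
      refine ⟨V, hV, hyV, ?_⟩
      have hempty : I.subschemeι ⁻¹ᵁ V = ⊥ := by
        ext z
        simp only [Opens.coe_bot, Set.mem_empty_iff_false, iff_false]
        intro hz
        have h1 : I.subschemeι z ∈ (I.support : Set X) := by
          rw [← Scheme.IdealSheafData.range_subschemeι]; exact ⟨z, rfl⟩
        rw [hsupp] at h1
        exact hVx hz h1
      have : Subsingleton Γ(I.subscheme, I.subschemeι ⁻¹ᵁ V) := by rw [hempty]; infer_instance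
      intro k
      exact ⟨0, Subsingleton.elim (α := Γ(I.subscheme, I.subschemeι ⁻¹ᵁ V)) _ _⟩
  haveI : Mono (ιJ ≫ (freeOneIso X).inv) := by haveI := hmono; exact mono_comp _ _
  obtain ⟨m, hm⟩ := h 1 J K (ιJ ≫ (freeOneIso X).inv) q inferInstance hq hJq hKq
    (show Γ(K, ⊤) from (1 : Γ(I.subscheme, I.subschemeι ⁻¹ᵁ ⊤)))
  let f : Γ(X, ⊤) := toFn (ιJ.app ⊤ m)
  have hf1 : I.subschemeι.app ⊤ f = 1 := hm
  refine ⟨f, ?_, ?_⟩
  · have hxr : x ∈ Set.range I.subschemeι := by
      rw [Scheme.IdealSheafData.range_subschemeι, hsupp]; rfl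
    obtain ⟨z, hz⟩ := hxr
    have : z ∈ I.subschemeι ⁻¹ᵁ X.basicOpen f := by
      rw [Scheme.preimage_basicOpen, hf1, Scheme.basicOpen_of_isUnit _ isUnit_one]
      trivial
    rw [← hz]
    exact this
  · have hle : X.basicOpen f ≤ U := hvan ⊤ m
    have := hU.basicOpen (X.presheaf.map (homOfLE (le_top : U ≤ ⊤)).op f)
    rwa [Scheme.basicOpen_res, inf_eq_right.mpr hle] at this

/-- the affine basic opens `X_f` cover `X` -/
theorem exists_basicOpen_of_serreHyp [CompactSpace X] (h : SerreHyp X) (y : X) :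
    ∃ f : Γ(X, ⊤), y ∈ X.basicOpen f ∧ IsAffineOpen (X.basicOpen f) := by
  by_contra hcon
  push Not at hcon
  let T : Set X := ⋃ f ∈ {f : Γ(X, ⊤) | IsAffineOpen (X.basicOpen f)}, (X.basicOpen f : Set X)
  have hT : IsOpen T := isOpen_biUnion (fun f _ => (X.basicOpen f).isOpen)
  have hne : (Tᶜ).Nonempty := by
    refine ⟨y, fun hyT => ?_⟩
    obtain ⟨f, hf, hyf⟩ := Set.mem_iUnion₂.mp hyT
    exact hcon f hyf hf
  obtain ⟨x, hxT, hx⟩ := hT.isClosed_compl.exists_closed_singleton hne
  obtain ⟨f, hxf, hf⟩ := exists_basicOpen_of_isClosed_singleton h x hx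
  exact hxT (Set.mem_biUnion hf hxf)

theorem sum_app {M N : X.Modules} {α : Type*} (t : Finset α) (φ : α → (M ⟶ N)) (V : X.Opens)
    (m : Γ(M, V)) : (∑ i ∈ t, φ i).app V m = ∑ i ∈ t, (φ i).app V m := by
  classical
  induction t using Finset.induction_on with
  | empty => simp
  | insert a t ha ih =>
    rw [Finset.sum_insert ha, Finset.sum_insert ha, Scheme.Modules.Hom.add_app]
    change (φ a).app V m + (∑ i ∈ t, φ i).app V m = _
    rw [ih]

/-- functions whose non-vanishing loci cover `X` generate the unit ideal -/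
theorem span_eq_top_of_cover (h : SerreHyp X) (n : ℕ) (g : Fin n → Γ(X, ⊤))
    (hg : ∀ y : X, ∃ i, y ∈ X.basicOpen (g i)) : Ideal.span (Set.range g) = ⊤ := by
  classical
  let O := Coh.structureModule X
  let p : FlatMod.freeMod X n ⟶ O := Sigma.desc (fun i : Fin n => scalar (g i) O)
  let π : Fin n → (FlatMod.freeMod X n ⟶ O) := fun i =>
    Sigma.desc (fun j : Fin n => if j = i then 𝟙 O else 0)
  have hp : p = ∑ i, π i ≫ scalar (g i) O := by
    apply Sigma.hom_ext
    intro j
    rw [Preadditive.comp_sum]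
    simp only [p, π, colimit.ι_desc_assoc, colimit.ι_desc, Cofan.mk_pt, Cofan.mk_ι_app]
    rw [Finset.sum_eq_single j]
    · rw [if_pos rfl]
      exact (Category.id_comp _).symm
    · intro b _ hb
      rw [if_neg (Ne.symm hb), zero_comp]
    · intro hj; exact absurd (Finset.mem_univ j) hj
  haveI hOq : O.IsQuasicoherent :=
    isQuasicoherent_of_isInvertible _ Groth.Agent.Helper4.TensorInv.isInvertible_structureModule
  have hepi : Epi p := by
    apply Groth.Agent.Helper4.QcohLocal.epi_of_app_surjective_of_affine_cover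
    intro y
    obtain ⟨i, hi⟩ := hg y
    obtain ⟨V, hV, hyV, hVi⟩ :=
      exists_isAffineOpen_mem_and_subset (X := X) (x := y) (U := X.basicOpen (g i)) hi
    refine ⟨V, hV, hyV, ?_⟩
    intro c
    have hu : IsUnit (X.presheaf.map (homOfLE (le_top : V ≤ ⊤)).op (g i)) :=
      (isUnit_res_iff (g i) V).mpr hVi
    obtain ⟨u, hu⟩ := isUnit_iff_exists_inv.mp hu
    refine ⟨(Sigma.ι (fun _ : Fin n => O) i).app V
      (show Γ(O, V) from u * toFn c), ?_⟩
    have h1 : Sigma.ι (fun _ : Fin n => O) i ≫ p = scalar (g i) O :=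
      Sigma.ι_desc _ _
    change (Sigma.ι (fun _ : Fin n => O) i ≫ p).app V _ = c
    rw [h1, scalar_app]
    change X.presheaf.map (homOfLE (le_top : V ≤ ⊤)).op (g i) * (u * toFn c) = toFn c
    rw [← mul_assoc, hu, one_mul]
  have hsurj := h n (FlatMod.freeMod X n) O (𝟙 _) p inferInstance hepi
    (Groth.Agent.Helper4.FinLocFree4.isQuasicoherent_freeMod n) hOq
  obtain ⟨m, hm⟩ := hsurj (one X ⊤)
  have hm' : p.app ⊤ m = one X ⊤ := hm
  rw [hp, sum_app] at hm'
  rw [Ideal.eq_top_iff_one]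
  have h2 : (1 : Γ(X, ⊤)) = ∑ i, g i * toFn ((π i).app ⊤ m) := by
    have h3 : toFn (∑ i, (π i ≫ scalar (g i) O).app ⊤ m) = (1 : Γ(X, ⊤)) :=
      congrArg toFn hm'
    rw [← h3]
    change (∑ i, (π i ≫ scalar (g i) O).app ⊤ m : Γ(X, ⊤)) = _
    apply Finset.sum_congr rfl
    intro i _
    change (scalar (g i) O).app ⊤ ((π i).app ⊤ m) = _
    rw [scalar_app]
    change X.presheaf.map (homOfLE (le_top : (⊤ : X.Opens) ≤ ⊤)).op (g i) * _ = _
    congr 1
    change X.presheaf.map (𝟙 _) (g i) = g i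
    rw [X.presheaf.map_id]; rfl
  rw [h2]
  exact Ideal.sum_mem _ (fun i _ => Ideal.mul_mem_right _ _ (Ideal.subset_span ⟨i, rfl⟩))

/-- **Serre's criterion**, form (c') -/
theorem isAffine_of_serreHyp [CompactSpace X] (h : SerreHyp X) : IsAffine X := by
  have hcov := exists_basicOpen_of_serreHyp h
  choose f hyf haff using hcov
  obtain ⟨t, ht⟩ := CompactSpace.elim_nhds_subcover (fun y => (X.basicOpen (f y) : Set X))
    (fun y => (X.basicOpen (f y)).isOpen.mem_nhds (hyf y))
  let e := t.equivFin.symm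
  let g : Fin t.card → Γ(X, ⊤) := fun i => f (e i).1
  have hg : ∀ y : X, ∃ i, y ∈ X.basicOpen (g i) := by
    intro y
    have hy : y ∈ ⋃ x ∈ t, (X.basicOpen (f x) : Set X) := by rw [ht]; trivial
    obtain ⟨x, hxt, hyx⟩ := Set.mem_iUnion₂.mp hy
    refine ⟨t.equivFin ⟨x, hxt⟩, ?_⟩
    change y ∈ X.basicOpen (f (t.equivFin.symm (t.equivFin ⟨x, hxt⟩)).1)
    rw [Equiv.symm_apply_apply]
    exact hyx
  have hspan := span_eq_top_of_cover h t.card g hg
  refine isAffine_of_isAffineOpen_basicOpen (Set.range g) hspan ?_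
  rintro _ ⟨i, rfl⟩
  exact haff _

end Groth.Agent.Helper4.SerreCrit
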