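import Groth.Agent.Helper4.IdealTwist
import Groth.Agent.Helper4.SerreCrit
import Groth.Agent.Helper4.SubSec
import Groth.Agent.Helper4.QcohExt
import Groth.Agent.Helper4.SubExt3
import Groth.Agent.Helper4.RelIdealTwist
import Groth.Agent.Helper1.SerreCritC
import Mathlib

/-!
# Twisting short exact sequences by an invertible module; ampleness from `H¹`-vanishing
-/

set_option autoImplicit false
open CategoryTheory Limits AlgebraicGeometry TopologicalSpace Opposite
universe u

namespace Groth.Agent.Helper4.H1Twist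

open Groth.Agent.Helper4.GenLoc Groth.Agent.Helper4.GenLocIso
  Groth.Agent.Helper4.TensorInv Groth.Agent.Helper4.TensorGen
  Groth.Agent.Helper4.TensorAssoc Groth.Agent.Helper4.AmpleBasis
  Groth.Agent.Helper4.TensorRes Groth.Agent.Helper4.QAffSec
  Groth.Agent.Helper4.TwistExt Groth.Agent.Helper4.IdealTwist
  Groth.Agent.Helper4.TensorLift Groth.Agent.Helper4.StalkExact

variable {X : Scheme.{u}}

/-- over an open where `B` is trivial, `φ ⊗ 1_B` is injective on sections as soon as `φ` is -/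
theorem tensorMap_app_injective {A A' : X.Modules} (B : X.Modules) (U : X.Opens)
    (ε : B.restrict U.ι ≅ Coh.structureModule (U : Scheme.{u})) (φ : A ⟶ A') {T : X.Opens}
    (hT : T ≤ U) (hφ : Function.Injective (φ.app T)) :
    Function.Injective ((KoszTw.tensorMap φ (𝟙 B)).app T) := by
  obtain ⟨W', rfl⟩ : ∃ W' : (U : Scheme.{u}).Opens, T = U.ι ''ᵁ W' :=
    ⟨U.ι ⁻¹ᵁ T, (image_preimage_of_le' _ hT).symm⟩
  intro w w' hww
  have h1 := Psi_tensorMap A A' B U ε φ W' w
  have h2 := Psi_tensorMap A A' B U ε φ W' w'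
  rw [hww] at h1
  exact (Psi_bijective A B U ε W').1 (hφ (h1.symm.trans h2))

/-- tensoring with an invertible module preserves monomorphisms -/
theorem mono_tensorMap {A A' : X.Modules} (φ : A ⟶ A') [Mono φ] (B : X.Modules)
    (hB : PicF.IsInvertible B) : Mono (KoszTw.tensorMap φ (𝟙 B)) := by
  apply Groth.Agent.Helper4.SubSec.mono_of_app_injective
  intro T w w' hww
  apply eq_of_cover
  intro y hy
  obtain ⟨U, hyU, -, ⟨ε⟩⟩ := Groth.Agent.Helper4.TwistLocal.exists_affine_triv B hB y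
  refine ⟨T ⊓ U, inf_le_left, ⟨hy, hyU⟩, ?_⟩
  apply tensorMap_app_injective B U ε φ (inf_le_right : T ⊓ U ≤ U)
    (Groth.Agent.Helper4.AffineDict.app_injective_of_mono φ _)
  rw [app_res, app_res, hww]


/-- second half of Lemma Q: a global section of `J ⊗ B` generating at `x` gives a section of `B`
with affine non-vanishing locus around `x` -/
theorem exists_section_of_mem_genLocus (B : X.Modules)
    (hB : PicF.IsInvertible B) (U : X.Opens) (hU : IsAffineOpen U)
    (εB : B.restrict U.ι ≅ Coh.structureModule (U : Scheme.{u})) (x : X) (hx : x ∈ U)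
    (J : X.Modules) (ιJ : J ⟶ Coh.structureModule X)
    (hbij : ∀ V : X.Opens, V ≤ U → Function.Bijective (ιJ.app V))
    (hvan : ∀ (D : X.Opens) (m : Γ(J, D)), X.basicOpen (toFn (ιJ.app D m)) ≤ U)
    (τ : Coh.structureModule X ⟶ CohB1.tensorMod J B) (hτ : x ∈ CohB1.genLocus _ τ) :
    ∃ s : Coh.structureModule X ⟶ B, x ∈ CohB1.genLocus B s ∧
      IsAffineOpen (CohB1.genLocus B s) := by
  let s₁ := τ ≫ KoszTw.tensorMap ιJ (𝟙 B)
  have hle : CohB1.genLocus _ s₁ ≤ U := genLocus_le_of_factor ιJ U hvan τ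
  have hmem : x ∈ CohB1.genLocus _ s₁ := by
    have h1 : CohB1.genLocus _ τ ⊓ U ≤ CohB1.genLocus _ s₁ := by
      rw [Groth.Agent.Helper4.PullSec.le_genLocus_iff, isIso_restrict_iff]
      intro T hT
      have hb1 := (isIso_restrict_iff τ _).mp (isIso_restrict_genLocus _ τ) T (hT.trans inf_le_left)
      have hb2 := tensorMap_app_bijective J (Coh.structureModule X) B U εB ιJ (hT.trans inf_le_right)
        (hbij T (hT.trans inf_le_right))
      exact hb2.comp hb1
    exact h1 ⟨hτ, hx⟩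
  have hO : PicF.IsInvertible (CohB1.tensorMod (Coh.structureModule X) B) :=
    isInvertible_tensorMod isInvertible_structureModule hB
  refine ⟨s₁ ≫ (unitorL B).hom, ?_, ?_⟩
  · rw [Groth.Agent.Helper4.AmpleIso.genLocus_comp_iso]; exact hmem
  · rw [Groth.Agent.Helper4.AmpleIso.genLocus_comp_iso]
    have := isAffineOpen_genLocus_inf_affine _ hO s₁ hU
    rwa [inf_eq_left.mpr hle] at this


section Point

variable (x : X) (hx : IsClosed ({x} : Set X))

/-- the ideal of a closed point -/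
noncomputable def ptIdeal : X.IdealSheafData :=
  Scheme.IdealSheafData.vanishingIdeal (⟨{x}, hx⟩ : Closeds X)

theorem ptIdeal_support : ((ptIdeal x hx).support : Set X) = {x} :=
  Scheme.IdealSheafData.coe_support_vanishingIdeal (⟨{x}, hx⟩ : Closeds X)

/-- the skyscraper module at a closed point -/
noncomputable def ptMod : X.Modules :=
  (Scheme.Modules.pushforward (ptIdeal x hx).subschemeι).obj
    (Coh.structureModule (ptIdeal x hx).subscheme)

theorem subsingleton_ptMod (V : X.Opens) (hV : x ∉ V) : Subsingleton Γ(ptMod x hx, V) := by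
  have hempty : (ptIdeal x hx).subschemeι ⁻¹ᵁ V = ⊥ := by
    ext z
    simp only [Opens.coe_bot, Set.mem_empty_iff_false, iff_false]
    intro hz
    have h1 : (ptIdeal x hx).subschemeι z ∈ ((ptIdeal x hx).support : Set X) := by
      rw [← Scheme.IdealSheafData.range_subschemeι]; exact ⟨z, rfl⟩
    rw [ptIdeal_support] at h1
    rw [Set.mem_singleton_iff] at h1
    exact hV (h1 ▸ hz)
  have : Subsingleton Γ((ptIdeal x hx).subscheme, (ptIdeal x hx).subschemeι ⁻¹ᵁ V) := by
    rw [hempty]; infer_instance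
  exact this

/-- a function whose pullback to the point is a unit does not vanish at the point -/
theorem mem_basicOpen_of_isUnit (V : X.Opens) (hxV : x ∈ V) (f : Γ(X, V))
    (hf : IsUnit ((ptIdeal x hx).subschemeι.app V f)) : x ∈ X.basicOpen f := by
  have hxr : x ∈ Set.range (ptIdeal x hx).subschemeι := by
    rw [Scheme.IdealSheafData.range_subschemeι, ptIdeal_support]; rfl
  obtain ⟨z, hz⟩ := hxr
  have : z ∈ (ptIdeal x hx).subschemeι ⁻¹ᵁ X.basicOpen f := by
    rw [Scheme.preimage_basicOpen, Scheme.basicOpen_of_isUnit _ hf]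
    change (ptIdeal x hx).subschemeι z ∈ V
    rw [hz]
    exact hxV
  rw [← hz]
  exact this

end Point


/-- a section over `A` vanishing on `A ⊓ V` extends by zero when `A` and `V` cover -/
theorem exists_glue_zero (M : X.Modules) (A V : X.Opens) (hcov : ∀ y : X, y ∈ A ∨ y ∈ V)
    (a : Γ(M, A))
    (ha : M.presheaf.map (homOfLE (inf_le_left : A ⊓ V ≤ A)).op a = 0) :
    ∃ c : Γ(M, ⊤), M.presheaf.map (homOfLE (le_top : A ≤ ⊤)).op c = a := by
  let W : Bool → X.Opens := fun b => if b then A else V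
  let sec : ∀ b : Bool, Γ(M, W b) := fun b => match b with
    | true => a
    | false => 0
  have hcompat : TopCat.Presheaf.IsCompatible M.presheaf W sec := by
    intro b b'
    cases b <;> cases b'
    · rfl
    · change M.presheaf.map (homOfLE (inf_le_left : V ⊓ A ≤ V)).op 0 =
        M.presheaf.map (homOfLE (inf_le_right : V ⊓ A ≤ A)).op a
      rw [map_zero]
      have h1 : M.presheaf.map (homOfLE (inf_le_right : V ⊓ A ≤ A)).op a =
          M.presheaf.map (homOfLE (le_of_eq (inf_comm V A) : V ⊓ A ≤ A ⊓ V)).op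
            (M.presheaf.map (homOfLE (inf_le_left : A ⊓ V ≤ A)).op a) := by
        rw [res_res]
      rw [h1, ha, map_zero]
    · change M.presheaf.map (homOfLE (inf_le_left : A ⊓ V ≤ A)).op a =
        M.presheaf.map (homOfLE (inf_le_right : A ⊓ V ≤ V)).op 0
      rw [map_zero, ha]
    · rfl
  have hcover : (⊤ : X.Opens) ≤ iSup W := by
    intro y _
    rcases hcov y with h | h
    · exact Opens.mem_iSup.mpr ⟨true, h⟩
    · exact Opens.mem_iSup.mpr ⟨false, h⟩
  obtain ⟨c, hc, -⟩ := TopCat.Sheaf.existsUnique_gluing'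
    (⟨M.presheaf, M.isSheaf⟩ : TopCat.Sheaf Ab X) W ⊤ (fun b => homOfLE le_top) hcover sec hcompat
  exact ⟨c, hc true⟩


section Main

variable (x : X) (hx : IsClosed ({x} : Set X)) (U : X.Opens) (hxU : x ∈ U)
  (J : X.Modules) (ιJ : J ⟶ Coh.structureModule X)

/-- the map `J ⟶ κ(x)` -/
noncomputable def qMap : J ⟶ ptMod x hx := ιJ ≫ ClSub.toSubscheme (ptIdeal x hx)

theorem qMap_app (V : X.Opens) (m : Γ(J, V)) :
    (qMap x hx J ιJ).app V m = (ptIdeal x hx).subschemeι.app V (toFn (ιJ.app V m)) := rfl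

include hxU in
/-- **key local step**: if `H¹(X, I' ⊗ B) = 0` for the ideal `I' ⊆ J` of sections vanishing at the
closed point `x`, then `J ⊗ B` has a global section generating it at `x`. -/
theorem exists_generating_section (B : X.Modules) (hB : PicF.IsInvertible B)
    (εB : B.restrict U.ι ≅ Coh.structureModule (U : Scheme.{u}))
    (hbij : ∀ V : X.Opens, V ≤ U → Function.Bijective (ιJ.app V))
    (hH : Subsingleton (Coh.HH X (CohB1.tensorMod (kernel (qMap x hx J ιJ)) B) 1)) :
    ∃ τ : Coh.structureModule X ⟶ CohB1.tensorMod J B, x ∈ CohB1.genLocus _ τ := by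
  classical
  let q := qMap x hx J ιJ
  let I' : X.Modules := kernel q
  let ι' : I' ⟶ J := kernel.ι q
  let M : X.Modules := CohB1.tensorMod J B
  let φ : CohB1.tensorMod I' B ⟶ M := KoszTw.tensorMap ι' (𝟙 B)
  haveI hφ : Mono φ := mono_tensorMap ι' B hB
  let C : X.Modules := cokernel φ
  let π : M ⟶ C := cokernel.π φ
  let S : ShortComplex X.Modules := ShortComplex.mk φ π (cokernel.condition φ)
  have hS : S.ShortExact :=
    { exact := ShortComplex.exact_cokernel φ
      mono_f := hφ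
      epi_g := inferInstanceAs (Epi (cokernel.π φ)) }
  let Sq : ShortComplex X.Modules := ShortComplex.mk ι' q (kernel.condition q)
  have hSq : Sq.Exact := ShortComplex.exact_of_f_is_kernel _ (kernelIsKernel q)
  haveI : Mono Sq.f := inferInstanceAs (Mono (kernel.ι q))
  have hker : ∀ (V : X.Opens) (m : Γ(J, V)), q.app V m = 0 → ∃ i : Γ(I', V), ι'.app V i = m :=
    fun V m hm => (app_exact Sq hSq V m).mp hm
  have hqι : ∀ (V : X.Opens) (i : Γ(I', V)), q.app V (ι'.app V i) = 0 := fun V i =>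
    congrArg (fun ψ : I' ⟶ ptMod x hx => ψ.app V i) (kernel.condition q)
  have hφtmul : ∀ (V : X.Opens) (i : Γ(I', V)) (b : Γ(B, V)),
      φ.app V (SecTwist.tmul I' B V i b) = SecTwist.tmul J B V (ι'.app V i) b :=
    fun V i b => KoszTw.tensorMap_tmul ι' (𝟙 B) V i b
  have hπφ : ∀ (V : X.Opens) (w : Γ(CohB1.tensorMod I' B, V)), π.app V (φ.app V w) = 0 :=
    fun V w => congrArg (fun ψ : CohB1.tensorMod I' B ⟶ C => ψ.app V w) (cokernel.condition φ)
  let UT : X.Opens := U.ι ''ᵁ ⊤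
  have hUT : UT = U := Scheme.Opens.ι_image_top U
  have hxUT : x ∈ UT := hUT ▸ hxU
  obtain ⟨j₁, hj₁⟩ := (hbij UT hUT.le).2 (one X UT)
  let g : Γ(B, UT) := gen B U εB ⊤
  let t₁ : Γ(M, UT) := SecTwist.tmul J B UT j₁ g
  let V : X.Opens := ⟨({x} : Set X)ᶜ, hx.isOpen_compl⟩
  have hxV : x ∉ V := fun h => h rfl
  have hzero : C.presheaf.map (homOfLE (inf_le_left : UT ⊓ V ≤ UT)).op (π.app UT t₁) = 0 := by
    rw [← app_res, tmul_res]
    have h0 : q.app (UT ⊓ V) (J.presheaf.map (homOfLE (inf_le_left : UT ⊓ V ≤ UT)).op j₁) = 0 := by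
      haveI := subsingleton_ptMod x hx (UT ⊓ V) (fun h => hxV h.2)
      exact Subsingleton.elim _ _
    obtain ⟨i₁, hi₁⟩ := hker _ _ h0
    rw [← hi₁, ← hφtmul]
    exact hπφ _ _
  obtain ⟨c, hc⟩ := exists_glue_zero C UT V (fun y => by
    by_cases hy : y = x
    · exact Or.inl (hy ▸ hxUT)
    · exact Or.inr hy) (π.app UT t₁) hzero
  obtain ⟨τ₀, hτ₀⟩ := Groth.Agent.Helper1.SerreCrit.surjective_app_top S hS hH c
  have hτ₀' : π.app ⊤ τ₀ = c := hτ₀
  obtain ⟨τ, hτ⟩ := Groth.Agent.Helper4.SubExt.exists_unit_hom_of_section M τ₀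
  refine ⟨τ, ?_⟩
  have hval : SecTwist.val τ ⊤ = τ₀ := hτ
  let τU : Γ(M, UT) := M.presheaf.map (homOfLE (le_top : UT ≤ ⊤)).op τ₀
  have hvalU : SecTwist.val τ UT = τU := by
    rw [← val_res τ (le_top : UT ≤ ⊤), hval]
  -- analysis of `τU`
  have hπ : π.app UT (τU - t₁) = 0 := by
    rw [map_sub, app_res, hτ₀', hc, sub_self]
  obtain ⟨y, hy⟩ := (app_exact S hS.exact UT (τU - t₁)).mp hπ
  have hy' : φ.app UT y = τU - t₁ := hy
  let i₂ : Γ(I', UT) := Psi I' B U εB ⊤ y
  have hy2 : y = SecTwist.tmul I' B UT i₂ g := eq_tmul_gen I' B U εB ⊤ y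
  let jτ : Γ(J, UT) := j₁ + ι'.app UT i₂
  have hτU : τU = SecTwist.tmul J B UT jτ g := by
    rw [tmul_add_left, ← hφtmul, ← hy2, hy']
    abel
  have hiso : IsIso ((Scheme.Modules.restrictFunctor U.ι).map ιJ) :=
    (isIso_restrict_iff ιJ U).mpr hbij
  let εJ : J.restrict U.ι ≅ Coh.structureModule (U : Scheme.{u}) :=
    @asIso _ _ _ _ ((Scheme.Modules.restrictFunctor U.ι).map ιJ) hiso ≪≫
      Scheme.Modules.restrictUnitIso U.ι
  have hεJ : ∀ m : Γ(J, UT), toFn (εJ.hom.app ⊤ m) = (U.ι.appIso ⊤).hom (toFn (ιJ.app UT m)) :=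
    fun m => rfl
  let fτ : Γ(X, UT) := toFn (ιJ.app UT jτ)
  have hF : fn (endo M τ U (tensorTriv J B U εJ εB)) = (U.ι.appIso ⊤).hom fτ := by
    rw [fn_endo_eq]
    have h0 : secU M τ U = τU := hvalU
    rw [h0, hτU, ← hεJ]
    unfold tensorTriv
    change toFn ((SecTwist.unitorR (Coh.structureModule (U : Scheme.{u}))).hom.app ⊤
      ((PicGrp.tensorModIso εJ εB).hom.app ⊤
        ((resIso U.ι J B).inv.app ⊤ (SecTwist.tmul J B (U.ι ''ᵁ ⊤) jτ g)))) = _
    rw [resIso_inv_tmul, tensorModIso_hom_tmul]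
    have h2 : εB.hom.app ⊤ g = one (U : Scheme.{u}) ⊤ := iso_hom_inv_app εB ⊤ _
    rw [h2]
    have h3 := SecTwist.unitorR_tmul (Coh.structureModule (U : Scheme.{u})) ⊤
      (εJ.hom.app ⊤ jτ) (1 : Γ((U : Scheme.{u}), ⊤))
    refine (congrArg toFn h3).trans ?_
    exact (toFn_smul (1 : Γ((U : Scheme.{u}), ⊤)) (εJ.hom.app ⊤ jτ)).trans (one_mul _)
  have hmem : x ∈ X.basicOpen fτ := by
    apply mem_basicOpen_of_isUnit x hx UT hxUT
    have h1 : fτ = toFn (ιJ.app UT j₁) + toFn (ιJ.app UT (ι'.app UT i₂)) := by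
      change toFn (ιJ.app UT (j₁ + ι'.app UT i₂)) = _
      rw [map_add]; rfl
    have h2 : (ptIdeal x hx).subschemeι.app UT (toFn (ιJ.app UT (ι'.app UT i₂))) = 0 :=
      hqι UT i₂
    rw [h1, map_add, h2, add_zero, hj₁]
    have : toFn (one X UT) = 1 := rfl
    rw [this, map_one]
    exact isUnit_one
  have hgl := genLocus_inf_eq M τ U (tensorTriv J B U εJ εB)
  have h4 : x ∈ U.ι ''ᵁ ((U : Scheme.{u}).basicOpen (fn (endo M τ U (tensorTriv J B U εJ εB)))) := by
    rw [hF, Scheme.image_basicOpen]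
    have : (U.ι.appIso ⊤).inv ((U.ι.appIso ⊤).hom fτ) = fτ := by
      rw [← CommRingCat.comp_apply, Iso.hom_inv_id]; rfl
    rw [this]
    exact hmem
  rw [← hgl] at h4
  exact h4.1

end Main


theorem isQuasicoherent_ptMod (x : X) (hx : IsClosed ({x} : Set X)) :
    (ptMod x hx).IsQuasicoherent := by
  haveI : (Coh.structureModule (ptIdeal x hx).subscheme).IsQuasicoherent :=
    Groth.Agent.Helper4.QAffSec.isQuasicoherent_of_isInvertible _
      Groth.Agent.Helper4.TensorInv.isInvertible_structureModule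
  exact Groth.Agent.Helper4.QcohGlue.isQuasicoherent_pushforward (ptIdeal x hx).subschemeι _

/-- **S0050**: ampleness from vanishing of `H¹` of twisted ideals -/
theorem isAmple_of_H1_twisted_ideals [CompactSpace X] (L : X.Modules) (hL : PicF.IsInvertible L)
    (h : ∀ (I : X.Modules) (i : I ⟶ Coh.structureModule X), Mono i → Coh.IsQCoh I →
      ∃ n : ℕ, Subsingleton (Coh.HH X (CohB1.tensorMod I (CohB1.tensorPow L (n + 1))) 1)) :
    CohB1.IsAmple L := by
  have hclosed : ∀ x : X, IsClosed ({x} : Set X) →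
      ∃ (n : ℕ) (s : Coh.structureModule X ⟶ CohB1.tensorPow L (n + 1)),
        x ∈ CohB1.genLocus _ s ∧ IsAffineOpen (CohB1.genLocus _ s) := by
    intro x hx
    obtain ⟨U, hxU, hU, hε⟩ := Groth.Agent.Helper4.TwistLocal.exists_affine_triv L hL x
    obtain ⟨J, ιJ, hmono, hJq, hbij, hvan⟩ :=
      Groth.Agent.Helper4.FTIdeal2.exists_ideal_module_mono' U
    haveI := hmono
    haveI := hJq
    haveI := isQuasicoherent_ptMod x hx
    let q := qMap x hx J ιJ
    have hqc : (kernel q).IsQuasicoherent :=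
      Groth.Agent.Helper4.QcohLimits.isQuasicoherent_kernel q
    obtain ⟨n, hn⟩ := h (kernel q) (kernel.ι q ≫ ιJ) (mono_comp _ _) hqc
    obtain ⟨εB⟩ := Groth.Agent.Helper4.RelIdealTwist.isTrivAlong_tensorPow U hε (n + 1)
    obtain ⟨τ, hτ⟩ := exists_generating_section x hx U hxU J ιJ (CohB1.tensorPow L (n + 1))
      (isInvertible_tensorPow hL (n + 1)) εB hbij hn
    obtain ⟨s, hs1, hs2⟩ := exists_section_of_mem_genLocus _ (isInvertible_tensorPow hL (n + 1))
      U hU εB x hxU J ιJ hbij hvan τ hτ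
    exact ⟨n, s, hs1, hs2⟩
  refine ⟨hL, inferInstance, fun y => ?_⟩
  by_contra hcon
  push Not at hcon
  let T : Set X := ⋃ (n : ℕ), ⋃ (s : Coh.structureModule X ⟶ CohB1.tensorPow L (n + 1)),
    ⋃ (_ : IsAffineOpen (CohB1.genLocus _ s)), (CohB1.genLocus _ s : Set X)
  have hT : IsOpen T :=
    isOpen_iUnion fun n => isOpen_iUnion fun s => isOpen_iUnion fun _ => (CohB1.genLocus _ s).isOpen
  have hne : (Tᶜ).Nonempty := by
    refine ⟨y, fun hyT => ?_⟩
    simp only [T, Set.mem_iUnion] at hyT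
    obtain ⟨n, s, hs, hys⟩ := hyT
    exact hcon n s hys hs
  obtain ⟨x, hxT, hx⟩ := hT.isClosed_compl.exists_closed_singleton hne
  obtain ⟨n, s, hxs, hs⟩ := hclosed x hx
  apply hxT
  simp only [T, Set.mem_iUnion]
  exact ⟨n, s, hs, hxs⟩

end Groth.Agent.Helper4.H1Twist
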