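import Mathlib

set_option autoImplicit false
universe u
open TensorProduct

namespace Groth.Agent.Helper4.SemiLocal

section Rank

variable {R : Type u} [CommRing R] (M : Type u) [AddCommGroup M] [Module R M]
  [Module.Finite R M] [Module.Flat R M]

/-- rank at a maximal ideal computed via the quotient field -/
theorem finrank_quotient_tensor_eq_rankAtStalk (m : Ideal R) [hm : m.IsMaximal] :
    Module.finrank (R ⧸ m) ((R ⧸ m) ⊗[R] M) =
      Module.rankAtStalk M ⟨m, hm.isPrime⟩ := by
  letI : Field (R ⧸ m) := Ideal.Quotient.field m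
  rw [Module.rankAtStalk_eq]
  let κ := m.ResidueField
  let e : κ ⊗[R ⧸ m] ((R ⧸ m) ⊗[R] M) ≃ₗ[κ] κ ⊗[R] M :=
    AlgebraTensorModule.cancelBaseChange R (R ⧸ m) κ κ M
  have h1 : Module.finrank κ (κ ⊗[R ⧸ m] ((R ⧸ m) ⊗[R] M)) =
      Module.finrank (R ⧸ m) ((R ⧸ m) ⊗[R] M) := Module.finrank_baseChange
  rw [← h1]
  exact e.finrank_eq

end Rank

section Compl

variable {B : Type u} [CommRing B]

/-- the complement of a finite union of primes, as a submonoid -/
def compl (P : Finset (PrimeSpectrum B)) : Submonoid B := ⨅ p ∈ P, p.asIdeal.primeCompl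

theorem mem_compl {P : Finset (PrimeSpectrum B)} {g : B} :
    g ∈ compl P ↔ ∀ p ∈ P, g ∉ p.asIdeal := by
  simp [compl, Submonoid.mem_iInf, Ideal.mem_primeCompl_iff]

theorem exists_le_of_disjoint (P : Finset (PrimeSpectrum B)) (q : Ideal B)
    (hq : Disjoint (compl P : Set B) (q : Set B)) : ∃ p ∈ P, q ≤ p.asIdeal := by
  have h1 : (q : Set B) ⊆ ⋃ p ∈ (P : Set (PrimeSpectrum B)), (p.asIdeal : Set B) := by
    intro b hb
    have hbS : b ∉ compl P := fun h => Set.disjoint_left.mp hq h hb
    rw [mem_compl] at hbS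
    push Not at hbS
    obtain ⟨p, hp, hbp⟩ := hbS
    exact Set.mem_biUnion (by exact_mod_cast hp) hbp
  have h0 := h1 (q.zero_mem)
  simp only [Set.mem_iUnion] at h0
  obtain ⟨p₀, -, -⟩ := h0
  exact (Ideal.subset_union_prime (f := fun p : PrimeSpectrum B => p.asIdeal)
    p₀ p₀ (fun p _ _ _ => p.isPrime)).mp h1

theorem disjoint_of_mem (P : Finset (PrimeSpectrum B)) (p : PrimeSpectrum B) (hp : p ∈ P) :
    Disjoint (compl P : Set B) (p.asIdeal : Set B) := by
  rw [Set.disjoint_left]
  intro b hb hbp
  exact (mem_compl.mp hb) p hp hbp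

theorem finite_maximalSpectrum (P : Finset (PrimeSpectrum B)) :
    Finite (MaximalSpectrum (Localization (compl P))) := by
  classical
  let S := compl P
  let R' := Localization S
  have key : ∀ m : MaximalSpectrum R', ∃ p : P,
      m.asIdeal = Ideal.map (algebraMap B R') p.1.asIdeal := by
    intro m
    have hprime : (m.asIdeal.comap (algebraMap B R')).IsPrime := Ideal.comap_isPrime _ _
    have hdisj : Disjoint (S : Set B) (m.asIdeal.comap (algebraMap B R') : Set B) :=
      ((IsLocalization.isPrime_iff_isPrime_disjoint S R' m.asIdeal).mp m.isMaximal.isPrime).2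
    obtain ⟨p, hp, hle⟩ := exists_le_of_disjoint P _ hdisj
    refine ⟨⟨p, hp⟩, ?_⟩
    have h1 : m.asIdeal ≤ Ideal.map (algebraMap B R') p.asIdeal := by
      rw [← IsLocalization.map_comap S R' m.asIdeal]
      exact Ideal.map_mono hle
    have h2 : Ideal.map (algebraMap B R') p.asIdeal ≠ ⊤ :=
      (IsLocalization.map_algebraMap_ne_top_iff_disjoint S R' p.asIdeal).mpr
        (disjoint_of_mem P p hp)
    exact m.isMaximal.eq_of_le h2 h1
  choose F hF using key
  apply Finite.of_injective F
  intro m m' h
  apply MaximalSpectrum.ext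
  rw [hF m, hF m', h]

end Compl

section Main

variable {B : Type u} [CommRing B] (M : Type u) [AddCommGroup M] [Module B M]
  [Module.Finite B M] [Module.Flat B M] [Module.FinitePresentation B M]

/-- a finitely presented flat module of constant rank `r` is free of rank `r` on a basic open
neighbourhood of any given finite set of primes -/
theorem exists_free_away (r : ℕ) (hr : ∀ p : PrimeSpectrum B, Module.rankAtStalk M p = r)
    (P : Finset (PrimeSpectrum B)) :
    ∃ g : B, (∀ p ∈ P, g ∉ p.asIdeal) ∧
      Nonempty (LocalizedModule.Away g M ≃ₗ[Localization.Away g]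
        (Fin r →₀ Localization.Away g)) := by
  let S := compl P
  let R' := Localization S
  let M' := LocalizedModule S M
  haveI := finite_maximalSpectrum P
  haveI : Module.Finite R' M' := Module.Finite.of_isLocalizedModule S
    (LocalizedModule.mkLinearMap S M)
  haveI : Module.Flat R' M' := Module.Flat.of_isLocalizedModule R' S
    (LocalizedModule.mkLinearMap S M)
  have rk : ∀ m : MaximalSpectrum R',
      Module.finrank (R' ⧸ m.1) ((R' ⧸ m.1) ⊗[R'] M') = r := by
    intro m
    haveI := m.isMaximal
    rw [finrank_quotient_tensor_eq_rankAtStalk M' m.1,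
      Module.rankAtStalk_isBaseChange (LocalizedModule.isBaseChange S M)]
    exact hr _
  obtain ⟨b⟩ := Module.nonempty_basis_of_flat_of_finrank_eq R' M' r rk
  obtain ⟨g, hg, b', -⟩ := Module.FinitePresentation.exists_basis_localizedModule_powers S
    (LocalizedModule.mkLinearMap S M) R' b
  exact ⟨g, mem_compl.mp hg, ⟨b'.repr⟩⟩

end Main

end Groth.Agent.Helper4.SemiLocal
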