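import Groth.Agent.Helper4.FinLocFree5
import Groth.Agent.Helper4.FinLocFree4
import Groth.Agent.Helper4.FPGlue
import Groth.Agent.Helper4.SemiLocal
import Mathlib

set_option autoImplicit false
open CategoryTheory Limits AlgebraicGeometry TopologicalSpace Opposite
universe u

namespace Groth.Agent.Helper4.FinLocFree7

open Groth.Agent.Helper4.FinLocFree Groth.Agent.Helper4.FinLocFree2 Groth.Agent.Helper4.FinLocFree4
  Groth.Agent.Helper4.FinLocFree5 Groth.Agent.Helper4.StalkDict Scheme.Modules
  Groth.Agent.Helper8.TildeBC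

variable {X : Scheme.{u}} (F : X.Modules) {U : X.Opens} (hU : IsAffineOpen U)

include hU in
theorem opensRange_away_fromSpec (f : Γ(X, U)) :
    (Spec.map (CommRingCat.ofHom (algebraMap Γ(X, U) (Localization.Away f))) ≫
      hU.fromSpec).opensRange = X.basicOpen f := by
  rw [Scheme.Hom.opensRange_comp, Scheme.Hom.opensRange_localizationAway f,
    hU.fromSpec_image_basicOpen]

include hU in
set_option backward.isDefEq.respectTransparency false in
theorem isFreeAlong_basicOpen_of_free_away [F.IsQuasicoherent] (f : Γ(X, U)) (n : ℕ)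
    (e : LocalizedModule.Away f Γ(F, U) ≃ₗ[Localization.Away f] (Fin n →₀ Localization.Away f)) :
    IsFreeAlong F (X.basicOpen f).ι n := by
  let A : CommRingCat.{u} := Γ(X, U)
  let N : (Spec A).Modules := F.restrict hU.fromSpec
  haveI : N.IsQuasicoherent := inferInstance
  haveI : IsIso N.fromTildeΓ := inferInstance
  let ΓN : ModuleCat.{u} A := moduleSpecΓFunctor.obj N
  let e1 : tilde ΓN ≅ N := asIso N.fromTildeΓ
  let s : Γ(F, U) ≃ₗ[A] ΓN := SecDict.sectionsEquiv hU F
  obtain ⟨e2⟩ := away_equiv_of_equiv s f n e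
  have h1 := isFreeAlong_tilde_of_free_away A ΓN f n e2
  have h2 : IsFreeAlong N (Spec.map (CommRingCat.ofHom (algebraMap A (Localization.Away f)))) n :=
    h1.of_iso e1 _
  have h3 := (IsFreeAlong.restrict_iff hU.fromSpec _).mp h2
  have h4 := h3.opensRange _
  rwa [opensRange_away_fromSpec hU f] at h4

theorem isFinLocFree_of_rank {r : ℕ} (E : X.Modules) (hE : FlatMod.IsFinLocFreeOfRank r E) :
    FlatMod.IsFinLocFree E := fun x => by
  obtain ⟨V, hx, h⟩ := hE x
  exact ⟨V, r, hx, h⟩

include hU in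
set_option backward.isDefEq.respectTransparency false in
/-- a locally free module of rank `r` is free on a basic open neighbourhood of any finite subset
of an affine open -/
theorem exists_basicOpen_free_of_finite (r : ℕ) (E : X.Modules)
    (hE : FlatMod.IsFinLocFreeOfRank r E) (Z : Set X) (hZ : Z.Finite) (hZU : Z ⊆ U) :
    ∃ g : Γ(X, U), Z ⊆ X.basicOpen g ∧ IsFreeAlong E (X.basicOpen g).ι r := by
  classical
  have hE' := isFinLocFree_of_rank E hE
  haveI : E.IsQuasicoherent := isQuasicoherent_of_isFinLocFree E hE'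
  have hfp := isFinitePresentation_of_isFinLocFree E hE'
  haveI : Module.FinitePresentation Γ(X, U) Γ(E, U) := FPGlue.fp_sections E hfp hU
  haveI : Module.Finite Γ(X, U) Γ(E, U) := inferInstance
  haveI : Module.Flat Γ(X, U) Γ(E, U) :=
    flat_sections_of_flat_stalks E hU (fun y _ => by
      haveI := free_stalk_of_isFinLocFree E hE' y
      infer_instance)
  have hr : ∀ p : PrimeSpectrum Γ(X, U), Module.rankAtStalk (R := Γ(X, U)) Γ(E, U) p = r := by
    intro p
    obtain ⟨y, hy, rfl⟩ := exists_point_of_prime hU p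
    rw [← finrank_stalk_eq_rankAtStalk E hU y hy]
    obtain ⟨V, hyV, hV⟩ := hE y
    obtain ⟨b⟩ := nonempty_basis_stalk_of_isFreeAlong E (n := r) hV y hyV
    rw [Module.finrank_eq_card_basis b, Fintype.card_fin]
  let P : Finset (PrimeSpectrum Γ(X, U)) :=
    (hZ.toFinset.attach.image fun z => hU.primeIdealOf ⟨z.1, hZU (hZ.mem_toFinset.mp z.2)⟩)
  obtain ⟨g, hg, ⟨e⟩⟩ := SemiLocal.exists_free_away Γ(E, U) r hr P
  refine ⟨g, ?_, isFreeAlong_basicOpen_of_free_away E hU g r e⟩
  intro z hz
  rw [SetLike.mem_coe, mem_basicOpen_iff_notMem_primeIdealOf hU z (hZU hz) g]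
  apply hg
  rw [Finset.mem_image]
  exact ⟨⟨z, hZ.mem_toFinset.mpr hz⟩, Finset.mem_attach _ _, rfl⟩

end Groth.Agent.Helper4.FinLocFree7
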