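import Mathlib
import Groth.Agent.Helper4.StalkExact
import Groth.Agent.Helper4.QcohLocal

/-! Acyclicity of a complex of `O_X`-modules can be checked on sections over affine opens. -/

set_option autoImplicit false
universe u
open CategoryTheory CategoryTheory.Limits AlgebraicGeometry TopologicalSpace Opposite

namespace Groth.Agent.Helper4.AcycLocal
open Groth.Agent.Helper4.StalkDict Groth.Agent.Helper4.StalkExact

variable {X : Scheme.{u}}

/-- a morphism of modules which is surjective on sections over all affine opens is an epi -/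
theorem epi_of_app_surjective_affine {F G : X.Modules} (φ : F ⟶ G)
    (h : ∀ U : X.Opens, IsAffineOpen U → Function.Surjective (φ.app U)) : Epi φ := by
  apply Groth.Agent.Helper4.QcohLocal.epi_of_stalkLin_surjective
  intro x t
  obtain ⟨V, hxV, s, rfl⟩ := TopCat.Presheaf.exists_germ_eq G.presheaf t
  obtain ⟨W, hW, hxW, hWV⟩ := (Opens.isBasis_iff_nbhd.mp X.isBasis_affineOpens) hxV
  obtain ⟨m, hm⟩ := h W hW (G.presheaf.map (homOfLE hWV).op s)
  refine ⟨F.presheaf.germ W x hxW m, ?_⟩
  rw [stalkLin_germ, hm]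
  exact TopCat.Presheaf.germ_res_apply G.presheaf (homOfLE hWV) x hxW s

theorem comp_app_apply {F G H : X.Modules} (φ : F ⟶ G) (ψ : G ⟶ H) (U : X.Opens) (m : Γ(F, U)) :
    (φ ≫ ψ).app U m = ψ.app U (φ.app U m) := rfl

/-- exactness at `n` can be checked on sections over affine opens -/
theorem exactAt_of_affine (I : CochainComplex X.Modules ℤ) (n : ℤ)
    (h : ∀ U : X.Opens, IsAffineOpen U → ∀ z : Γ(I.X n, U), (I.d n (n + 1)).app U z = 0 →
      ∃ c : Γ(I.X (n - 1), U), (I.d (n - 1) n).app U c = z) :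
    I.ExactAt n := by
  rw [HomologicalComplex.exactAt_iff' I (n - 1) n (n + 1) (by simp) (by simp)]
  rw [ShortComplex.exact_iff_epi_toCycles]
  apply epi_of_app_surjective_affine
  intro U hU z
  have hz : (I.d n (n + 1)).app U ((I.sc' (n - 1) n (n + 1)).iCycles.app U z) = 0 := by
    have h0 : (I.sc' (n - 1) n (n + 1)).iCycles ≫ I.d n (n + 1) = 0 :=
      (I.sc' (n - 1) n (n + 1)).iCycles_g
    have h1 := congrArg (fun f => Scheme.Modules.Hom.app f U z) h0
    exact h1
  obtain ⟨c, hc⟩ := h U hU _ hz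
  refine ⟨c, ?_⟩
  apply Groth.Agent.Helper4.AffineDict.app_injective_of_mono (I.sc' (n - 1) n (n + 1)).iCycles U
  have h2 : (I.sc' (n - 1) n (n + 1)).toCycles ≫ (I.sc' (n - 1) n (n + 1)).iCycles =
      I.d (n - 1) n := (I.sc' (n - 1) n (n + 1)).toCycles_i
  have h3 := congrArg (fun f => Scheme.Modules.Hom.app f U c) h2
  exact h3.trans hc

end Groth.Agent.Helper4.AcycLocal
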