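import Groth.Agent.Helper4.TensorLift
import Groth.Agent.Helper4.TwistExt
import Groth.Agent.Helper4.QcohExt
import Groth.Agent.Helper4.GenLoc
import Groth.Agent.Helper4.SubExt3
import Groth.Agent.Helper4.SecRatio
import Groth.Agent.Helper4.TensorRes
import Groth.Agent.Helper4.TensorGen
import Mathlib

/-!
# A module with a tensor inverse is invertible
-/

set_option autoImplicit false
universe u
open CategoryTheory CategoryTheory.Limits AlgebraicGeometry Opposite TopologicalSpace TensorProduct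

namespace Groth.Agent.Helper4.InvOfTensor

open Groth.Agent.Helper4.TensorLift Groth.Agent.Helper4.GenLoc Groth.Agent.Helper4.StalkExact
  Groth.Agent.Helper4.TwistExt Groth.Agent.Helper4.QAffSec

variable {X : Scheme.{u}} (L N : X.Modules) (e : CohB1.tensorMod L N ≅ Coh.structureModule X)

/-- the pairing `L(T) × N(T) → O(T)` -/
noncomputable def pr (T : X.Opens) (l : Γ(L, T)) (n : Γ(N, T)) : Γ(X, T) :=
  toFn (e.hom.app T (SecTwist.tmul L N T l n))

theorem pr_add_left (T : X.Opens) (l l' : Γ(L, T)) (n : Γ(N, T)) :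
    pr L N e T (l + l') n = pr L N e T l n + pr L N e T l' n := by
  unfold pr
  rw [tmul_add_left]
  exact congrArg toFn (map_add (e.hom.app T).hom
    (show Γ(CohB1.tensorMod L N, T) from SecTwist.tmul L N T l n) (SecTwist.tmul L N T l' n))

theorem pr_add_right (T : X.Opens) (l : Γ(L, T)) (n n' : Γ(N, T)) :
    pr L N e T l (n + n') = pr L N e T l n + pr L N e T l n' := by
  unfold pr
  rw [tmul_add_right]
  exact congrArg toFn (map_add (e.hom.app T).hom
    (show Γ(CohB1.tensorMod L N, T) from SecTwist.tmul L N T l n) (SecTwist.tmul L N T l n'))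

theorem pr_smul_left (T : X.Opens) (r : Γ(X, T)) (l : Γ(L, T)) (n : Γ(N, T)) :
    pr L N e T (r • l) n = r * pr L N e T l n := by
  unfold pr
  rw [tmul_smul_left]
  have h := Scheme.Modules.Hom.app_smul e.hom r
    (show Γ(CohB1.tensorMod L N, T) from SecTwist.tmul L N T l n)
  exact (congrArg toFn h).trans (toFn_smul _ _)

theorem pr_smul_right (T : X.Opens) (r : Γ(X, T)) (l : Γ(L, T)) (n : Γ(N, T)) :
    pr L N e T l (r • n) = r * pr L N e T l n := by
  unfold pr
  rw [tmul_smul_right]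
  have h := Scheme.Modules.Hom.app_smul e.hom r
    (show Γ(CohB1.tensorMod L N, T) from SecTwist.tmul L N T l n)
  exact (congrArg toFn h).trans (toFn_smul _ _)

theorem pr_res {T T' : X.Opens} (h : T' ≤ T) (l : Γ(L, T)) (n : Γ(N, T)) :
    pr L N e T' (L.presheaf.map (homOfLE h).op l) (N.presheaf.map (homOfLE h).op n) =
      X.presheaf.map (homOfLE h).op (pr L N e T l n) := by
  unfold pr
  rw [← tmul_res, app_res]
  rfl

/-- evaluation of `e` on the presheaf tensor product -/
noncomputable def ev (T : X.Opens) (x : TT L N T) : Γ(X, T) :=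
  toFn (e.hom.app T (tt L N T x))

theorem ev_pure (T : X.Opens) (l : Γ(L, T)) (n : Γ(N, T)) :
    ev L N e T (pure L N T l n) = pr L N e T l n := rfl

theorem ev_add (T : X.Opens) (x y : TT L N T) : ev L N e T (x + y) = ev L N e T x + ev L N e T y := by
  unfold ev
  rw [tt_add]
  exact congrArg toFn (map_add (e.hom.app T).hom (tt L N T x) (tt L N T y))

theorem ev_zero (T : X.Opens) : ev L N e T 0 = 0 := by
  unfold ev
  rw [tt_zero]
  exact congrArg toFn (map_zero (e.hom.app T).hom)


theorem ev_smul (T : X.Opens) (r : Γ(X, T)) (x : TT L N T) :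
    ev L N e T ((r : RR X T) • x) = r * ev L N e T x := by
  unfold ev
  rw [tt_smul]
  have h := Scheme.Modules.Hom.app_smul e.hom r (tt L N T x)
  exact (congrArg toFn h).trans (toFn_smul _ _)

theorem ev_res {T T' : X.Opens} (i : T' ⟶ T) (x : TT L N T) :
    ev L N e T' (preMap L N i x) = X.presheaf.map i.op (ev L N e T x) := by
  unfold ev
  have h1 : tt L N T' (preMap L N i x) = (CohB1.tensorMod L N).presheaf.map i.op (tt L N T x) :=
    (tt_map L N i x).symm
  rw [h1, app_res]
  rfl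

/-- the bilinear map `(l', n') ↦ ⟨l, n'⟩ l'` -/
noncomputable def lamFun (T : X.Opens) (l : Γ(L, T)) (l' : Γ(L, T)) (n' : Γ(N, T)) : Γ(L, T) :=
  pr L N e T l n' • l'

theorem lamFun_add_left (T : X.Opens) (l m m' : Γ(L, T)) (n : Γ(N, T)) :
    lamFun L N e T l (m + m') n = lamFun L N e T l m n + lamFun L N e T l m' n :=
  smul_add _ _ _

theorem lamFun_smul_left (T : X.Opens) (l : Γ(L, T)) (r : Γ(X, T)) (m : Γ(L, T)) (n : Γ(N, T)) :
    lamFun L N e T l (r • m) n = r • lamFun L N e T l m n :=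
  smul_comm _ _ _

theorem lamFun_add_right (T : X.Opens) (l m : Γ(L, T)) (n n' : Γ(N, T)) :
    lamFun L N e T l m (n + n') = lamFun L N e T l m n + lamFun L N e T l m n' := by
  unfold lamFun
  rw [pr_add_right, add_smul]

theorem lamFun_smul_right (T : X.Opens) (l : Γ(L, T)) (r : Γ(X, T)) (m : Γ(L, T)) (n : Γ(N, T)) :
    lamFun L N e T l m (r • n) = r • lamFun L N e T l m n := by
  unfold lamFun
  rw [pr_smul_right, mul_smul]

/-- the linear map on the presheaf tensor product induced by `lamFun` -/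
noncomputable def Lam (T : X.Opens) (l : Γ(L, T)) : TT L N T →ₗ[RR X T] GG L T :=
  TensorProduct.lift (LinearMap.mk₂ (RR X T) (lamFun L N e T l) (lamFun_add_left L N e T l)
    (lamFun_smul_left L N e T l) (lamFun_add_right L N e T l) (lamFun_smul_right L N e T l))

theorem Lam_pure (T : X.Opens) (l l' : Γ(L, T)) (n' : Γ(N, T)) :
    Lam L N e T l (pure L N T l' n') = lamFun L N e T l l' n' :=
  TensorProduct.lift.tmul _ _

theorem lamFun_res {T T' : X.Opens} (h : T' ≤ T) (l l' : Γ(L, T)) (n' : Γ(N, T)) :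
    lamFun L N e T' (L.presheaf.map (homOfLE h).op l) (L.presheaf.map (homOfLE h).op l')
        (N.presheaf.map (homOfLE h).op n') =
      L.presheaf.map (homOfLE h).op (lamFun L N e T l l' n') := by
  unfold lamFun
  rw [pr_res, ← Groth.Agent.Helper4.QcohExt.res_smul]

theorem Lam_res {T T' : X.Opens} (h : T' ≤ T) (l : Γ(L, T)) (x : TT L N T) :
    Lam L N e T' (L.presheaf.map (homOfLE h).op l) (preMap L N (homOfLE h) x) =
      L.presheaf.map (homOfLE h).op (Lam L N e T l x) := by
  have key : (Lam L N e T' (L.presheaf.map (homOfLE h).op l)).toAddMonoidHom.comp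
      (preMap L N (homOfLE h)) =
      (L.presheaf.map (homOfLE h).op).hom.comp (Lam L N e T l).toAddMonoidHom := by
    apply addHom_ext
    intro m n
    change Lam L N e T' _ (preMap L N (homOfLE h) (pure L N T m n)) =
      L.presheaf.map (homOfLE h).op (Lam L N e T l (pure L N T m n))
    rw [preMap_pure, Lam_pure, Lam_pure, lamFun_res]
  exact DFunLike.congr_fun key x


section Key

variable (W₀ : X.Opens) (x₀ : TT L N W₀) (hx₀ : ev L N e W₀ x₀ = 1)

/-- the restriction of `x₀` -/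
noncomputable def xr {T : X.Opens} (hT : T ≤ W₀) : TT L N T := preMap L N (homOfLE hT) x₀

include hx₀ in
theorem ev_xr {T : X.Opens} (hT : T ≤ W₀) : ev L N e T (xr L N W₀ x₀ hT) = 1 := by
  unfold xr
  rw [ev_res, hx₀, map_one]

include hx₀ in
/-- `(★)`: every pure tensor is a multiple of `x₀` in `L ⊗ N` -/
theorem tt_pure_eq {T : X.Opens} (hT : T ≤ W₀) (l' : Γ(L, T)) (n' : Γ(N, T)) :
    tt L N T (pure L N T l' n') =
      tt L N T ((pr L N e T l' n' : RR X T) • xr L N W₀ x₀ hT) := by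
  apply (ConcreteCategory.bijective_of_isIso (e.hom.app T)).1
  have h1 : toFn (e.hom.app T (tt L N T (pure L N T l' n'))) = pr L N e T l' n' := rfl
  have h2 : toFn (e.hom.app T (tt L N T ((pr L N e T l' n' : RR X T) • xr L N W₀ x₀ hT))) =
      pr L N e T l' n' := by
    have := ev_smul L N e T (pr L N e T l' n') (xr L N W₀ x₀ hT)
    rw [ev_xr L N e W₀ x₀ hx₀ hT, mul_one] at this
    exact this
  exact h1.trans h2.symm

include hx₀ in
/-- `(★★)` -/
theorem starstar {T : X.Opens} (hT : T ≤ W₀) (l l' : Γ(L, T)) (n' : Γ(N, T)) :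
    pr L N e T l n' • l' = pr L N e T l' n' • (Lam L N e T l (xr L N W₀ x₀ hT) : Γ(L, T)) := by
  apply eq_of_cover
  intro p hp
  obtain ⟨T', i, hpT', hloc⟩ := toTensor_locInj L N T _ _ (tt_pure_eq L N e W₀ x₀ hx₀ hT l' n') p hp
  have hi : i = homOfLE (leOfHom i) := Subsingleton.elim _ _
  rw [hi] at hloc
  refine ⟨T', leOfHom i, hpT', ?_⟩
  have h1 := congrArg (Lam L N e T' (L.presheaf.map (homOfLE (leOfHom i)).op l)) hloc
  rw [Lam_res, Lam_res, Lam_pure] at h1
  refine h1.trans ?_
  congr 1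
  exact map_smul (Lam L N e T l) (pr L N e T l' n' : RR X T) (xr L N W₀ x₀ hT)


theorem pr_zero_left (T : X.Opens) (n : Γ(N, T)) : pr L N e T 0 n = 0 := by
  have h := pr_smul_left L N e T 0 (0 : Γ(L, T)) n
  rw [zero_smul, zero_mul] at h
  exact h

include hx₀ in
/-- the pairing against `n₁` detects zero where `⟨l₁, n₁⟩` is invertible -/
theorem key_inj (l₁ : Γ(L, W₀)) (n₁ : Γ(N, W₀)) {T : X.Opens} (hT : T ≤ W₀)
    (hu : IsUnit (X.presheaf.map (homOfLE hT).op (pr L N e W₀ l₁ n₁))) (l : Γ(L, T))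
    (hl : pr L N e T l (N.presheaf.map (homOfLE hT).op n₁) = 0) : l = 0 := by
  set l₁T := L.presheaf.map (homOfLE hT).op l₁ with hl₁T
  set n₁T := N.presheaf.map (homOfLE hT).op n₁ with hn₁T
  have huT : IsUnit (pr L N e T l₁T n₁T) := by
    rw [hl₁T, hn₁T, pr_res]; exact hu
  obtain ⟨v, hv⟩ := isUnit_iff_exists_inv'.mp huT
  have hcancel : ∀ {M : X.Modules} (m : Γ(M, T)), pr L N e T l₁T n₁T • m = 0 → m = 0 := by
    intro M m hm
    have : m = (v * pr L N e T l₁T n₁T) • m := by rw [hv, one_smul]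
    rw [this, mul_smul, hm, smul_zero]
  have hcancel' : ∀ c : Γ(X, T), c * pr L N e T l₁T n₁T = 0 → c = 0 := by
    intro c hc
    have : c = c * (pr L N e T l₁T n₁T * v) := by rw [mul_comm _ v, hv, mul_one]
    rw [this, ← mul_assoc, hc, zero_mul]
  -- (i)
  have h1 := starstar L N e W₀ x₀ hx₀ hT l l₁T n₁T
  rw [hl, zero_smul] at h1
  have hψ : (Lam L N e T l (xr L N W₀ x₀ hT) : Γ(L, T)) = 0 := hcancel _ h1.symm
  -- (ii)
  have h2 : ∀ (l' : Γ(L, T)) (n' : Γ(N, T)), pr L N e T l n' • l' = 0 := by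
    intro l' n'
    have h := starstar L N e W₀ x₀ hx₀ hT l l' n'
    rw [hψ, smul_zero] at h
    exact h
  -- (iii)
  have h3 : ∀ n' : Γ(N, T), pr L N e T l n' = 0 := by
    intro n'
    apply hcancel'
    rw [← pr_smul_left, h2 l₁T n', pr_zero_left]
  -- (iv)
  have h4 : ∀ (l'' : Γ(L, T)) (n'' : Γ(N, T)), pr L N e T l'' n'' • l = 0 := by
    intro l'' n''
    have h := starstar L N e W₀ x₀ hx₀ hT l'' l n''
    rw [h3 n'', zero_smul] at h
    exact h
  -- (v)
  have h5 : ∀ x : TT L N T, ev L N e T x • l = 0 := by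
    intro x
    induction x using TensorProduct.induction_on with
    | zero =>
      have h0 : ev L N e T (0 : TT L N T) = 0 := ev_zero L N e T
      change ev L N e T (0 : TT L N T) • l = 0
      rw [h0, zero_smul]
    | tmul a b => exact h4 a b
    | add x y hx hy =>
      have h0 : ev L N e T ((x : TT L N T) + y) = ev L N e T x + ev L N e T y := ev_add L N e T x y
      change ev L N e T ((x : TT L N T) + y) • l = 0
      rw [h0, add_smul, hx, hy, add_zero]
  -- (vi)
  have h6 := h5 (xr L N W₀ x₀ hT)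
  rw [ev_xr L N e W₀ x₀ hx₀ hT, one_smul] at h6
  exact h6

end Key

theorem pr_neg_smul_left (T : X.Opens) (c : Γ(X, T)) (l l' : Γ(L, T)) (n : Γ(N, T)) :
    pr L N e T (l + (-c) • l') n = pr L N e T l n - c * pr L N e T l' n := by
  rw [pr_add_left, pr_smul_left]
  ring

/-- some pure tensor pairs to a function invertible at `y` -/
theorem exists_pure_unit (W₀ : X.Opens) (y : X) :
    ∀ x : TT L N W₀, y ∈ X.basicOpen (ev L N e W₀ x) →
      ∃ (l : Γ(L, W₀)) (n : Γ(N, W₀)), y ∈ X.basicOpen (pr L N e W₀ l n) := by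
  intro x
  induction x using TensorProduct.induction_on with
  | zero =>
    intro h
    have h0 : ev L N e W₀ (0 : TT L N W₀) = 0 := ev_zero L N e W₀
    change y ∈ X.basicOpen (ev L N e W₀ (0 : TT L N W₀)) at h
    rw [h0, Scheme.basicOpen_zero] at h
    exact absurd h (by simp)
  | tmul a b => intro h; exact ⟨a, b, h⟩
  | add x x' hx hx' =>
    intro h
    have h0 : ev L N e W₀ ((x : TT L N W₀) + x') = ev L N e W₀ x + ev L N e W₀ x' :=
      ev_add L N e W₀ x x'
    change y ∈ X.basicOpen (ev L N e W₀ ((x : TT L N W₀) + x')) at h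
    rw [h0] at h
    have hyW : y ∈ W₀ := X.basicOpen_le _ h
    rw [Scheme.mem_basicOpen _ _ _ hyW, map_add] at h
    rcases IsLocalRing.isUnit_or_isUnit_of_isUnit_add h with h1 | h1
    · exact hx ((Scheme.mem_basicOpen _ _ _ hyW).mpr h1)
    · exact hx' ((Scheme.mem_basicOpen _ _ _ hyW).mpr h1)


include e in
/-- **S2122**: a module with a tensor inverse is invertible -/
theorem isInvertible_of_tensor_iso : PicF.IsInvertible L := by
  intro y
  obtain ⟨W₀, i, hyW₀, x₀, hx₀⟩ := toTensor_locSurj L N ⊤ (e.inv.app ⊤ (one X ⊤)) y trivial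
  have hev : ev L N e W₀ x₀ = 1 := by
    unfold ev
    rw [hx₀, app_res, Groth.Agent.Helper4.TensorGen.iso_hom_inv_app]
    exact map_one (X.presheaf.map i.op).hom
  obtain ⟨l₁, n₁, hy1⟩ := exists_pure_unit L N e W₀ y x₀ (by
    rw [hev, Scheme.basicOpen_of_isUnit _ isUnit_one]; exact hyW₀)
  obtain ⟨u, hu⟩ : ∃ u, u = pr L N e W₀ l₁ n₁ := ⟨_, rfl⟩
  rw [← hu] at hy1
  let U : X.Opens := X.basicOpen u
  have hUW : U ≤ W₀ := X.basicOpen_le u
  refine ⟨U, hy1, ?_⟩
  have hUT : U.ι ''ᵁ ⊤ = U := Scheme.Opens.ι_image_top U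
  have hle : ∀ W' : (U : Scheme.{u}).Opens, U.ι ''ᵁ W' ≤ U := fun W' =>
    (U.ι.opensFunctor.map (homOfLE (le_top : W' ≤ ⊤))).le.trans hUT.le
  let s₁ : Γ(L.restrict U.ι, ⊤) := L.presheaf.map (homOfLE ((hle ⊤).trans hUW)).op l₁
  obtain ⟨α, hα⟩ : ∃ α : Coh.structureModule (U : Scheme.{u}) ⟶ L.restrict U.ι,
      α.app ⊤ (one (U : Scheme.{u}) ⊤) = s₁ :=
    Groth.Agent.Helper4.SubExt.exists_unit_hom_of_section (L.restrict U.ι) s₁
  have hα1 : ∀ W' : (U : Scheme.{u}).Opens, α.app W' (one (U : Scheme.{u}) W') =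
      L.presheaf.map (homOfLE ((hle W').trans hUW)).op l₁ := by
    intro W'
    have h1 := app_res α (homOfLE (le_top : W' ≤ ⊤)) (one (U : Scheme.{u}) ⊤)
    have h2 : (Coh.structureModule (U : Scheme.{u})).presheaf.map (homOfLE (le_top : W' ≤ ⊤)).op
        (one (U : Scheme.{u}) ⊤) = one (U : Scheme.{u}) W' :=
      map_one ((U : Scheme.{u}).presheaf.map (homOfLE (le_top : W' ≤ ⊤)).op).hom
    rw [h2] at h1
    rw [h1]
    have h3 : α.app ⊤ (one (U : Scheme.{u}) ⊤) = s₁ := hα
    rw [h3]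
    change L.presheaf.map (U.ι.opensFunctor.map (homOfLE (le_top : W' ≤ ⊤))).op
      (L.presheaf.map (homOfLE ((hle ⊤).trans hUW)).op l₁) = _
    rw [← ConcreteCategory.comp_apply, ← Functor.map_comp]
    rfl
  have hαc : ∀ (W' : (U : Scheme.{u}).Opens) (c : Γ((U : Scheme.{u}), W')),
      α.app W' (show Γ(Coh.structureModule (U : Scheme.{u}), W') from c) =
        ((U.ι.appIso W').inv c) • L.presheaf.map (homOfLE ((hle W').trans hUW)).op l₁ := by
    intro W' c
    have h1 : (show Γ(Coh.structureModule (U : Scheme.{u}), W') from c) =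
        c • one (U : Scheme.{u}) W' := (GenLoc.smul_one W' c).symm
    conv_lhs => rw [h1, Scheme.Modules.Hom.app_smul, hα1]
    rfl
  haveI : IsIso α := by
    apply isIso_of_app_bijective
    intro W'
    have hT : U.ι ''ᵁ W' ≤ W₀ := (hle W').trans hUW
    have hunit : IsUnit (X.presheaf.map (homOfLE hT).op (pr L N e W₀ l₁ n₁)) := by
      rw [← hu]
      exact (Groth.Agent.Helper4.SecRatio.isUnit_res_iff' u hT).mpr (hle W')
    set l₁T := L.presheaf.map (homOfLE hT).op l₁ with hl₁T
    set n₁T := N.presheaf.map (homOfLE hT).op n₁ with hn₁T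
    have huT : IsUnit (pr L N e _ l₁T n₁T) := by
      rw [hl₁T, hn₁T, pr_res]; exact hunit
    obtain ⟨v, hv⟩ := isUnit_iff_exists_inv'.mp huT
    constructor
    · rw [injective_iff_map_eq_zero]
      intro c hc
      have hc' := hαc W' c
      rw [hc] at hc'
      have h1 : pr L N e _ (((U.ι.appIso W').inv c) • l₁T) n₁T = 0 := by
        rw [← hc']; exact pr_zero_left L N e _ n₁T
      rw [pr_smul_left] at h1
      have h2 : (U.ι.appIso W').inv c = 0 := by
        have : (U.ι.appIso W').inv c =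
            (U.ι.appIso W').inv c * (pr L N e _ l₁T n₁T * v) := by
          rw [mul_comm _ v, hv, mul_one]
        rw [this, ← mul_assoc, h1, zero_mul]
      have h3 := congrArg (U.ι.appIso W').hom h2
      rw [← CommRingCat.comp_apply, Iso.inv_hom_id, map_zero] at h3
      exact h3
    · intro l
      let l' : Γ(L, U.ι ''ᵁ W') := l
      let cc : Γ(X, U.ι ''ᵁ W') := pr L N e _ l' n₁T * v
      refine ⟨(U.ι.appIso W').hom cc, ?_⟩
      have h1 := hαc W' ((U.ι.appIso W').hom cc)
      have h2 : (U.ι.appIso W').inv ((U.ι.appIso W').hom cc) = cc := by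
        rw [← CommRingCat.comp_apply, Iso.hom_inv_id]; rfl
      rw [h2] at h1
      refine h1.trans ?_
      have h3 : l' + (-cc) • l₁T = 0 := by
        apply key_inj L N e W₀ x₀ hev l₁ n₁ hT hunit
        rw [← hn₁T, pr_neg_smul_left]
        change pr L N e _ l' n₁T - pr L N e _ l' n₁T * v * pr L N e _ l₁T n₁T = 0
        rw [mul_assoc, hv, mul_one, sub_self]
      rw [neg_smul, ← sub_eq_add_neg, sub_eq_zero] at h3
      exact h3.symm
  exact ⟨(asIso α).symm⟩

end Groth.Agent.Helper4.InvOfTensor
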