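import Mathlib

/-!
# Snapper, part 7: functions on `ℕ^n` with vanishing mixed differences are polynomials
-/

set_option autoImplicit false

namespace Groth.Agent.Helper4.SN

open Finset

section Diff

variable {n : ℕ}

/-- forward difference in the direction `i` -/
def Dp (i : Fin n) (g : (Fin n → ℕ) → ℤ) : (Fin n → ℕ) → ℤ :=
  fun m => g (m + Pi.single i 1) - g m

/-- iterated forward differences along a list of directions -/
def mixedL (l : List (Fin n)) (g : (Fin n → ℕ) → ℤ) : (Fin n → ℕ) → ℤ := l.foldr Dp g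

@[simp] lemma mixedL_nil (g : (Fin n → ℕ) → ℤ) : mixedL [] g = g := rfl

@[simp] lemma mixedL_cons (i : Fin n) (l : List (Fin n)) (g : (Fin n → ℕ) → ℤ) :
    mixedL (i :: l) g = Dp i (mixedL l g) := rfl

lemma Dp_zero (i : Fin n) : Dp i (0 : (Fin n → ℕ) → ℤ) = 0 := by
  funext m
  simp [Dp]

lemma mixedL_zero (l : List (Fin n)) : mixedL l (0 : (Fin n → ℕ) → ℤ) = 0 := by
  induction l with
  | nil => rfl
  | cons i l ih => rw [mixedL_cons, ih, Dp_zero]

lemma mixedL_append (l₁ l₂ : List (Fin n)) (g : (Fin n → ℕ) → ℤ) :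
    mixedL (l₁ ++ l₂) g = mixedL l₁ (mixedL l₂ g) := by
  unfold mixedL
  rw [List.foldr_append]

lemma mixedL_replicate (c : ℕ) (i : Fin n) (g : (Fin n → ℕ) → ℤ) :
    mixedL (List.replicate c i) g = (Dp i)^[c] g := by
  induction c with
  | zero => rfl
  | succ c ih => rw [List.replicate_succ, mixedL_cons, ih, Function.iterate_succ_apply']

/-- all mixed differences of order `s` vanish -/
def DVan (s : ℕ) (g : (Fin n → ℕ) → ℤ) : Prop :=
  ∀ l : List (Fin n), l.length = s → mixedL l g = 0

lemma DVan.of_le {s : ℕ} {g : (Fin n → ℕ) → ℤ} (h : DVan s g) (l : List (Fin n))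
    (hl : s ≤ l.length) : mixedL l g = 0 := by
  have hsplit : l = l.take (l.length - s) ++ l.drop (l.length - s) := (List.take_append_drop _ _).symm
  rw [hsplit, mixedL_append, h (l.drop (l.length - s)) (by rw [List.length_drop]; omega),
    mixedL_zero]

end Diff

section Split

variable {n : ℕ}

lemma cons_add_single_zero (t : ℕ) (m' : Fin n → ℕ) :
    (Fin.cons t m' : Fin (n + 1) → ℕ) + Pi.single 0 1 = Fin.cons (t + 1) m' := by
  funext i
  refine Fin.cases ?_ (fun j => ?_) i
  · simp
  · simp [Fin.succ_ne_zero]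

lemma cons_add_single_succ (t : ℕ) (m' : Fin n → ℕ) (j : Fin n) :
    (Fin.cons t m' : Fin (n + 1) → ℕ) + Pi.single j.succ 1 =
      Fin.cons t (m' + Pi.single j 1) := by
  funext i
  refine Fin.cases ?_ (fun l => ?_) i
  · simp [(Fin.succ_ne_zero j).symm]
  · by_cases h : l = j
    · subst h
      simp
    · have : l.succ ≠ j.succ := fun h' => h (Fin.succ_injective _ h')
      simp [Pi.single_eq_of_ne h, Pi.single_eq_of_ne this]

lemma mixedL_slice (l' : List (Fin n)) (G : (Fin (n + 1) → ℕ) → ℤ) :
    mixedL l' (fun m' => G (Fin.cons 0 m')) =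
      fun m' => mixedL (l'.map Fin.succ) G (Fin.cons 0 m') := by
  induction l' with
  | nil => rfl
  | cons j l' ih =>
    rw [mixedL_cons, ih, List.map_cons, mixedL_cons]
    funext m'
    simp only [Dp]
    rw [cons_add_single_succ]

lemma fwdDiff_iter_slice (c : ℕ) (G : (Fin (n + 1) → ℕ) → ℤ) (m' : Fin n → ℕ) :
    (fwdDiff (1 : ℕ))^[c] (fun t : ℕ => G (Fin.cons t m')) =
      fun t => ((Dp 0)^[c] G) (Fin.cons t m') := by
  induction c generalizing G with
  | zero => rfl
  | succ c ih =>
    rw [Function.iterate_succ_apply, Function.iterate_succ_apply]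
    have : fwdDiff (1 : ℕ) (fun t : ℕ => G (Fin.cons t m')) =
        fun t => (Dp 0 G) (Fin.cons t m') := by
      funext t
      simp only [fwdDiff, Dp]
      rw [cons_add_single_zero]
    rw [this, ih]

end Split

section Binom

open Polynomial in
/-- the binomial polynomial `X (X-1) ⋯ (X-c+1) / c!` -/
noncomputable def binomPoly (c : ℕ) : Polynomial ℚ :=
  Polynomial.C (1 / (c.factorial : ℚ)) * descPochhammer ℚ c

lemma binomPoly_eval (c t : ℕ) : (binomPoly c).eval (t : ℚ) = (t.choose c : ℚ) := by
  unfold binomPoly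
  rw [Polynomial.eval_mul, Polynomial.eval_C, descPochhammer_eval_eq_descFactorial,
    Nat.descFactorial_eq_factorial_mul_choose]
  push_cast
  have : (c.factorial : ℚ) ≠ 0 := by exact_mod_cast c.factorial_ne_zero
  field_simp

lemma binomPoly_natDegree_le (c : ℕ) : (binomPoly c).natDegree ≤ c := by
  unfold binomPoly
  exact (Polynomial.natDegree_C_mul_le _ _).trans (descPochhammer_natDegree ℚ c).le

variable {σ : Type*}

lemma eval_aeval_X (x : σ → ℚ) (i : σ) (q : Polynomial ℚ) :
    MvPolynomial.eval x (Polynomial.aeval (MvPolynomial.X i : MvPolynomial σ ℚ) q) =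
      q.eval (x i) := by
  have h := Polynomial.aeval_algHom_apply (MvPolynomial.aeval x : MvPolynomial σ ℚ →ₐ[ℚ] ℚ)
    (MvPolynomial.X i) q
  rw [MvPolynomial.aeval_X] at h
  rw [← MvPolynomial.coe_aeval_eq_eval]
  exact h.symm.trans (by rw [Polynomial.coe_aeval_eq_eval])

lemma totalDegree_aeval_X_le (i : σ) (q : Polynomial ℚ) :
    (Polynomial.aeval (MvPolynomial.X i : MvPolynomial σ ℚ) q).totalDegree ≤ q.natDegree := by
  rw [Polynomial.aeval_eq_sum_range]
  refine MvPolynomial.totalDegree_finsetSum_le (fun j hj => ?_)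
  refine (MvPolynomial.totalDegree_smul_le _ _).trans ?_
  rw [MvPolynomial.totalDegree_X_pow]
  exact Nat.lt_succ_iff.mp (Finset.mem_range.mp hj)

end Binom

/-- **functions with vanishing mixed differences of order `s + 1` are polynomials of total degree
at most `s`** -/
theorem exists_poly : ∀ (n s : ℕ) (g : (Fin n → ℕ) → ℤ), DVan (s + 1) g →
    ∃ P : MvPolynomial (Fin n) ℚ, P.totalDegree ≤ s ∧
      ∀ m, (g m : ℚ) = MvPolynomial.eval (fun i => (m i : ℚ)) P := by
  intro n
  induction n with
  | zero =>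
    intro s g _
    refine ⟨MvPolynomial.C (g 0 : ℚ), by rw [MvPolynomial.totalDegree_C]; exact Nat.zero_le _,
      fun m => ?_⟩
    rw [MvPolynomial.eval_C, Subsingleton.elim m 0]
  | succ n ih =>
    intro s g hg
    -- the coefficient functions of the Newton expansion in the first variable
    let hc : ℕ → (Fin n → ℕ) → ℤ := fun c m' => ((Dp 0)^[c] g) (Fin.cons 0 m')
    have hvan : ∀ c, c ≤ s → DVan (s - c + 1) (hc c) := by
      intro c hcs l' hl'
      show mixedL l' (fun m' => ((Dp 0)^[c] g) (Fin.cons 0 m')) = 0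
      rw [mixedL_slice, ← mixedL_replicate, ← mixedL_append,
        hg.of_le _ (by rw [List.length_append, List.length_map, List.length_replicate]; omega)]
      rfl
    have hzero : ∀ c, s + 1 ≤ c → hc c = 0 := by
      intro c hcs
      show (fun m' => ((Dp 0)^[c] g) (Fin.cons 0 m')) = 0
      rw [← mixedL_replicate, hg.of_le _ (by rw [List.length_replicate]; exact hcs)]
      rfl
    have hex : ∀ c, c ≤ s → ∃ P : MvPolynomial (Fin n) ℚ, P.totalDegree ≤ s - c ∧
        ∀ m', (hc c m' : ℚ) = MvPolynomial.eval (fun i => (m' i : ℚ)) P :=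
      fun c hcs => ih (s - c) (hc c) (hvan c hcs)
    choose! Pc hPdeg hPeval using hex
    -- Newton's formula
    have hnewton : ∀ (t : ℕ) (m' : Fin n → ℕ), g (Fin.cons t m') =
        ∑ c ∈ range (s + 1), (t.choose c : ℤ) * hc c m' := by
      intro t m'
      have h1 := shift_eq_sum_fwdDiff_iter (h := (1 : ℕ)) (fun t : ℕ => g (Fin.cons t m')) t 0
      simp only [zero_add, smul_eq_mul, mul_one, nsmul_eq_mul] at h1
      rw [h1]
      have h2 : ∀ c, (fwdDiff (1 : ℕ))^[c] (fun t : ℕ => g (Fin.cons t m')) 0 = hc c m' := by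
        intro c
        rw [fwdDiff_iter_slice]
      simp only [h2]
      have e1 : ∑ c ∈ range (t + 1), (t.choose c : ℤ) * hc c m' =
          ∑ c ∈ range (t + 1 + (s + 1)), (t.choose c : ℤ) * hc c m' := by
        refine Finset.sum_subset (by intro c hc'; simp only [mem_range] at hc' ⊢; omega) ?_
        intro c _ hc'
        simp only [mem_range, not_lt] at hc'
        rw [Nat.choose_eq_zero_of_lt (by omega)]
        simp
      have e2 : ∑ c ∈ range (s + 1), (t.choose c : ℤ) * hc c m' =
          ∑ c ∈ range (t + 1 + (s + 1)), (t.choose c : ℤ) * hc c m' := by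
        refine Finset.sum_subset (by intro c hc'; simp only [mem_range] at hc' ⊢; omega) ?_
        intro c _ hc'
        simp only [mem_range, not_lt] at hc'
        rw [hzero c hc']
        simp
      rw [e1, e2]
    refine ⟨∑ c ∈ range (s + 1),
      Polynomial.aeval (MvPolynomial.X 0 : MvPolynomial (Fin (n + 1)) ℚ) (binomPoly c) *
        MvPolynomial.rename Fin.succ (Pc c), ?_, ?_⟩
    · refine MvPolynomial.totalDegree_finsetSum_le (fun c hc' => ?_)
      have hcs : c ≤ s := Nat.lt_succ_iff.mp (mem_range.mp hc')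
      refine (MvPolynomial.totalDegree_mul _ _).trans ?_
      have h1 := (totalDegree_aeval_X_le (0 : Fin (n + 1)) (binomPoly c)).trans
        (binomPoly_natDegree_le c)
      have h2 := (MvPolynomial.totalDegree_rename_le Fin.succ (Pc c)).trans (hPdeg c hcs)
      omega
    · intro m
      obtain ⟨t, m', rfl⟩ : ∃ t m', m = Fin.cons t m' :=
        ⟨m 0, fun i => m i.succ, (Fin.cons_self_tail m).symm⟩
      rw [hnewton, map_sum]
      push_cast
      refine Finset.sum_congr rfl (fun c hc' => ?_)
      have hcs : c ≤ s := Nat.lt_succ_iff.mp (mem_range.mp hc')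
      rw [map_mul, eval_aeval_X, MvPolynomial.eval_rename, hPeval c hcs m']
      simp only [Fin.cons_zero]
      rw [binomPoly_eval]
      rfl

end Groth.Agent.Helper4.SN
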