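import Mathlib
import Groth.Agent.Helper4.SN5
import Groth.Agent.Helper4.SN7

/-!
# Snapper, part 8: the Euler characteristic of twists is a polynomial
-/

set_option autoImplicit false
set_option linter.style.haveILetI false

namespace Groth.Agent.Helper4.SN

open CategoryTheory Limits AlgebraicGeometry Opposite TopologicalSpace

universe u

variable (k : Type u) [Field k] {X : Scheme.{u}} [X.Over (Spec (CommRingCat.of k))]

theorem altF_zero (M : Fin 0 → X.Modules) (F : X.Modules) : altF (chi k X) M F = chi k X F := by
  unfold altF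
  rw [Fintype.sum_unique]
  have hd : (default : Finset (Fin 0)) = ∅ := Subsingleton.elim _ _
  rw [hd, Finset.card_empty, pow_zero, one_mul, Finset.sort_empty, List.map_nil]
  exact chi_iso k (Groth.Agent.Lead.Ref1B.unitorL F)

variable {n : ℕ} (L : Fin n → X.Modules) (G : (Fin n → ℕ) → X.Modules)
  (hiso : ∀ m i, Nonempty (G (m + Pi.single i 1) ≅ CohB1.tensorMod (L i) (G m)))

include hiso in
theorem altF_get_eq_mixedL : ∀ (l : List (Fin n)) (m : Fin n → ℕ),
    altF (chi k X) (fun a : Fin l.length => L (l.get a)) (G m) =
      (-1) ^ l.length * mixedL l (fun m => chi k X (G m)) m := by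
  intro l
  induction l with
  | nil =>
    intro m
    rw [altF_zero]
    simp
  | cons i l ih =>
    intro m
    rw [altF_succ (chi k X) (chi_iso k)]
    obtain ⟨e⟩ := hiso m i
    have h1 : altF (chi k X) (fun a : Fin l.length => L ((i :: l).get a.succ))
        (CohB1.tensorMod (L ((i :: l).get 0)) (G m)) =
        altF (chi k X) (fun a : Fin l.length => L (l.get a)) (G (m + Pi.single i 1)) :=
      (altF_iso (chi k X) (chi_iso k) _ e).symm
    have h2 : altF (chi k X) (fun a : Fin l.length => L ((i :: l).get a.succ)) (G m) =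
        altF (chi k X) (fun a : Fin l.length => L (l.get a)) (G m) := rfl
    show altF (chi k X) (fun a : Fin l.length => L ((i :: l).get a.succ)) (G m) -
      altF (chi k X) (fun a : Fin l.length => L ((i :: l).get a.succ))
        (CohB1.tensorMod (L ((i :: l).get 0)) (G m)) = _
    rw [h1, h2, ih m, ih (m + Pi.single i 1), mixedL_cons, List.length_cons, pow_succ]
    simp only [Dp]
    ring

variable [IsProper (X ↘ (Spec (CommRingCat.of k)))]

include hiso in
/-- **Snapper's theorem**, abstract form -/
theorem snapper_poly (hL : ∀ i, PicF.IsInvertible (L i)) (hG : ∀ m, Coh.IsCoh (G m)) (s : ℕ)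
    (hdim : ∀ m, DimLT (CohB1.support (G m)) (s + 1)) :
    ∃ P : MvPolynomial (Fin n) ℚ, P.totalDegree ≤ s ∧
      ∀ m, (chi k X (G m) : ℚ) = MvPolynomial.eval (fun i => (m i : ℚ)) P := by
  apply exists_poly n s (fun m => chi k X (G m))
  intro l hl
  funext m
  have h := altF_get_eq_mixedL k L G hiso l m
  have h0 := snapper_vanishing k (fun a : Fin l.length => L (l.get a)) (fun a => hL _) (G m)
    (hG m) (by rw [hl]; exact hdim m)
  rw [h0] at h
  have hne : ((-1 : ℤ) ^ l.length) ≠ 0 := pow_ne_zero _ (by norm_num)
  rcases mul_eq_zero.mp h.symm with h' | h'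
  · exact absurd h' hne
  · exact h'

end Groth.Agent.Helper4.SN
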