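import Mathlib
import Groth.Agent.Helper4.SN8
import Groth.Prelude.Def_Curv2

/-!
# Snapper, part 9: the concrete families of twists
-/

set_option autoImplicit false
set_option linter.style.haveILetI false

namespace Groth.Agent.Helper4.SN

open CategoryTheory Limits AlgebraicGeometry Opposite TopologicalSpace
open Groth.Agent.Lead.Ref1B

universe u

variable {X : Scheme.{u}}

/-- `(A ⊗ Q) ⊗ T ≅ Q ⊗ (A ⊗ T)` -/
noncomputable def swapL (A Q T : X.Modules) :
    CohB1.tensorMod (CohB1.tensorMod A Q) T ≅ CohB1.tensorMod Q (CohB1.tensorMod A T) :=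
  PicGrp.tensorModIso (braid A Q) (Iso.refl T) ≪≫ assoc Q A T

/-- `A ⊗ (Q ⊗ T) ≅ Q ⊗ (A ⊗ T)` -/
noncomputable def swapM (A Q T : X.Modules) :
    CohB1.tensorMod A (CohB1.tensorMod Q T) ≅ CohB1.tensorMod Q (CohB1.tensorMod A T) :=
  (assoc A Q T).symm ≪≫ swapL A Q T

theorem tensorList_congr {ι : Type*} (l : List ι) (f f' : ι → X.Modules)
    (h : ∀ j ∈ l, Nonempty (f' j ≅ f j)) :
    Nonempty (FGA.tensorList (l.map f') ≅ FGA.tensorList (l.map f)) := by
  induction l with
  | nil => exact ⟨Iso.refl _⟩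
  | cons j l ih =>
    obtain ⟨e⟩ := h j (List.mem_cons_self ..)
    obtain ⟨e'⟩ := ih (fun j' hj' => h j' (List.mem_cons_of_mem _ hj'))
    exact ⟨PicGrp.tensorModIso e e'⟩

theorem tensorList_update : ∀ (n : ℕ) (f f' : Fin n → X.Modules) (i₀ : Fin n) (Q : X.Modules),
    Nonempty (f' i₀ ≅ CohB1.tensorMod (f i₀) Q) → (∀ j, j ≠ i₀ → Nonempty (f' j ≅ f j)) →
    Nonempty (FGA.tensorList ((List.finRange n).map f') ≅
      CohB1.tensorMod Q (FGA.tensorList ((List.finRange n).map f))) := by
  intro n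
  induction n with
  | zero => intro f f' i₀; exact i₀.elim0
  | succ n ih =>
    intro f f' i₀ Q h₀ h
    rw [List.finRange_succ, List.map_cons, List.map_cons, List.map_map, List.map_map]
    refine Fin.cases ?_ (fun i₁ => ?_) i₀ h₀ h
    · intro h₀ h
      obtain ⟨e₀⟩ := h₀
      obtain ⟨e'⟩ := tensorList_congr (List.finRange n) (f ∘ Fin.succ) (f' ∘ Fin.succ)
        (fun j _ => h j.succ (Fin.succ_ne_zero j))
      exact ⟨PicGrp.tensorModIso e₀ e' ≪≫ swapL _ _ _⟩
    · intro h₀ h
      obtain ⟨e₀⟩ := h 0 (Fin.succ_ne_zero i₁).symm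
      obtain ⟨e'⟩ := ih (f ∘ Fin.succ) (f' ∘ Fin.succ) i₁ Q h₀
        (fun j hj => h j.succ (fun hh => hj (Fin.succ_injective _ hh)))
      exact ⟨PicGrp.tensorModIso e₀ e' ≪≫ swapM _ _ _⟩

theorem multiTwist_add_single {n : ℕ} (L : Fin n → X.Modules) (m : Fin n → ℕ) (i : Fin n) :
    Nonempty (FGA.multiTwist L (m + Pi.single i 1) ≅
      CohB1.tensorMod (L i) (FGA.multiTwist L m)) := by
  unfold FGA.multiTwist
  refine tensorList_update n (fun j => CohB1.tensorPow (L j) (m j))
    (fun j => CohB1.tensorPow (L j) ((m + Pi.single i 1 : Fin n → ℕ) j)) i (L i) ?_ ?_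
  · have h : (m + Pi.single i 1 : Fin n → ℕ) i = m i + 1 := by simp
    exact ⟨eqToIso (congrArg (CohB1.tensorPow (L i)) h)⟩
  · intro j hj
    have h : (m + Pi.single i 1 : Fin n → ℕ) j = m j := by simp [Pi.single_eq_of_ne hj]
    exact ⟨eqToIso (congrArg (CohB1.tensorPow (L j)) h)⟩

theorem tensorPows_add_single (F : X.Modules) : ∀ (r : ℕ) (L : Fin r → X.Modules)
    (n : Fin r → ℕ) (i : Fin r),
    Nonempty (Curv2.tensorPows F r L (n + Pi.single i 1) ≅
      CohB1.tensorMod (L i) (Curv2.tensorPows F r L n)) := by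
  intro r
  induction r with
  | zero => intro L n i; exact i.elim0
  | succ r ih =>
    intro L n i
    refine Fin.lastCases ?_ (fun i' => ?_) i
    · have h1 : (fun j : Fin r => (n + Pi.single (Fin.last r) 1 : Fin (r + 1) → ℕ) j.castSucc) =
          fun j => n j.castSucc := by
        funext j
        simp [Pi.single_eq_of_ne (Fin.castSucc_lt_last j).ne]
      have h2 : (n + Pi.single (Fin.last r) 1 : Fin (r + 1) → ℕ) (Fin.last r) = n (Fin.last r) + 1 := by simp
      show Nonempty (CohB1.tensorMod (Curv2.tensorPows F r (fun j => L j.castSucc)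
          (fun j => (n + Pi.single (Fin.last r) 1 : Fin (r + 1) → ℕ) j.castSucc))
          (CohB1.tensorPow (L (Fin.last r)) ((n + Pi.single (Fin.last r) 1 : Fin (r + 1) → ℕ) (Fin.last r))) ≅ _)
      rw [h1, h2]
      exact ⟨(assoc _ _ _).symm ≪≫ braid _ _⟩
    · have h1 : (fun j : Fin r => (n + Pi.single i'.castSucc 1 : Fin (r + 1) → ℕ) j.castSucc) =
          (fun j => n j.castSucc) + Pi.single i' 1 := by
        funext j
        by_cases hj : j = i'
        · subst hj; simp
        · have : j.castSucc ≠ i'.castSucc := fun h => hj (Fin.castSucc_injective _ h)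
          simp [Pi.single_eq_of_ne hj, Pi.single_eq_of_ne this]
      have h2 : (n + Pi.single i'.castSucc 1 : Fin (r + 1) → ℕ) (Fin.last r) = n (Fin.last r) := by
        simp [Pi.single_eq_of_ne (Fin.castSucc_lt_last i').ne']
      show Nonempty (CohB1.tensorMod (Curv2.tensorPows F r (fun j => L j.castSucc)
          (fun j => (n + Pi.single i'.castSucc 1 : Fin (r + 1) → ℕ) j.castSucc))
          (CohB1.tensorPow (L (Fin.last r)) ((n + Pi.single i'.castSucc 1 : Fin (r + 1) → ℕ) (Fin.last r))) ≅ _)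
      rw [h1, h2]
      obtain ⟨e⟩ := ih (fun j => L j.castSucc) (fun j => n j.castSucc) i'
      exact ⟨PicGrp.tensorModIso e (Iso.refl _) ≪≫ assoc _ _ _⟩

theorem support_tensorMod_subset_left (M N : X.Modules) :
    CohB1.support (CohB1.tensorMod M N) ⊆ CohB1.support M := by
  rw [Groth.Agent.Helper1.Dev.support_eq_of_iso (braid M N)]
  exact support_tensorMod_subset N M

theorem support_tensorPows_subset (F : X.Modules) : ∀ (r : ℕ) (L : Fin r → X.Modules)
    (n : Fin r → ℕ), CohB1.support (Curv2.tensorPows F r L n) ⊆ CohB1.support F := by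
  intro r
  induction r with
  | zero => intro L n; exact le_refl _
  | succ r ih =>
    intro L n
    exact (support_tensorMod_subset_left _ _).trans (ih _ _)

theorem isCoh_tensorPows (F : X.Modules) (hF : Coh.IsCoh F) : ∀ (r : ℕ) (L : Fin r → X.Modules)
    (_ : ∀ i, PicF.IsInvertible (L i)) (n : Fin r → ℕ), Coh.IsCoh (Curv2.tensorPows F r L n) := by
  intro r
  induction r with
  | zero => intro L _ n; exact hF
  | succ r ih =>
    intro L hL n
    exact isCoh_tensorMod _ _ (ih _ (fun i => hL _) _)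
      (Groth.Agent.Helper1.SerreFin.isCoh_of_isInvertible _
        (Groth.Agent.Helper4.TensorInv.isInvertible_tensorPow (hL _) _))

theorem isInvertible_multiTwist {n : ℕ} (L : Fin n → X.Modules)
    (hL : ∀ i, PicF.IsInvertible (L i)) (m : Fin n → ℕ) :
    PicF.IsInvertible (FGA.multiTwist L m) := by
  unfold FGA.multiTwist
  refine isInvertible_tensorList _ (fun N hN => ?_)
  obtain ⟨i, -, rfl⟩ := List.mem_map.mp hN
  exact Groth.Agent.Helper4.TensorInv.isInvertible_tensorPow (hL i) _

variable (k : Type u) [Field k] [X.Over (Spec (CommRingCat.of k))]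
  [IsProper (X ↘ (Spec (CommRingCat.of k)))]

/-- S3230 -/
theorem main3230 (d : ℕ) (hd : topologicalKrullDim X ≤ d) {n : ℕ} (L : Fin n → X.Modules)
    (hL : ∀ i, PicF.IsInvertible (L i)) (F : X.Modules) (hF : Coh.IsCoh F) (r : ℕ)
    (hr : topologicalKrullDim (CohB1.support F) ≤ r) :
    ∃ P : MvPolynomial (Fin n) ℚ, P.totalDegree ≤ r ∧
      ∀ m : Fin n → ℕ, (FGA.eulerCharLE k X (CohB1.tensorMod (FGA.multiTwist L m) F) d : ℚ) =
        MvPolynomial.eval (fun i => (m i : ℚ)) P := by
  haveI := Groth.Agent.Helper4.NApx82.isNoetherian_of_proper k X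
  have hlt : topologicalKrullDim (CohB1.support F) < ((r + 1 : ℕ) : WithBot ℕ∞) := by
    refine lt_of_le_of_lt hr ?_
    exact_mod_cast Nat.lt_succ_self r
  have hdF : DimLT (CohB1.support F) (r + 1) := dimLT_of_krullDim_lt hlt
  obtain ⟨P, hP, hPe⟩ := snapper_poly k L
    (fun m => CohB1.tensorMod (FGA.multiTwist L m) F)
    (fun m i => by
      obtain ⟨e⟩ := multiTwist_add_single L m i
      exact ⟨PicGrp.tensorModIso e (Iso.refl F) ≪≫ assoc _ _ _⟩)
    hL
    (fun m => isCoh_tensorMod _ _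
      (Groth.Agent.Helper1.SerreFin.isCoh_of_isInvertible _ (isInvertible_multiTwist L hL m)) hF)
    r (fun m => hdF.mono (support_tensorMod_subset _ _))
  refine ⟨P, hP, fun m => ?_⟩
  rw [eulerCharLE_eq_chi k d hd]
  exact hPe m

/-- S1528 -/
theorem main1528 (F : X.Modules) (hF : Coh.IsCoh F) (d : ℕ)
    (hsupp : topologicalKrullDim (CohB1.support F) ≤ d) (r : ℕ) (L : Fin r → X.Modules)
    (hL : ∀ i, PicF.IsInvertible (L i)) :
    ∃ P : MvPolynomial (Fin r) ℚ, P.totalDegree ≤ d ∧
      ∀ n : Fin r → ℕ, (Curv2.euler k X (Curv2.tensorPows F r L n) : ℚ) =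
        MvPolynomial.eval (fun i => (n i : ℚ)) P := by
  have hlt : topologicalKrullDim (CohB1.support F) < ((d + 1 : ℕ) : WithBot ℕ∞) := by
    refine lt_of_le_of_lt hsupp ?_
    exact_mod_cast Nat.lt_succ_self d
  have hdF : DimLT (CohB1.support F) (d + 1) := dimLT_of_krullDim_lt hlt
  exact snapper_poly k L (fun n => Curv2.tensorPows F r L n)
    (fun n i => tensorPows_add_single F r L n i) hL
    (fun n => isCoh_tensorPows F hF r L hL n) d
    (fun n => hdF.mono (support_tensorPows_subset F r L n))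

end Groth.Agent.Helper4.SN
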