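import Mathlib
import Groth.Agent.Helper4.SN9
import Groth.Agent.Helper4.InvOfTensor

/-!
# Newton's backward difference formula for Euler characteristics of twists (S11753)
-/

set_option autoImplicit false
set_option linter.style.haveILetI false

namespace Groth.Agent.Helper4.SN

open CategoryTheory Limits AlgebraicGeometry Opposite TopologicalSpace
open Groth.Agent.Lead.Ref1B

universe u

/-- pure combinatorics: Newton's backward difference formula -/
theorem newton_backward (A : ℕ → ℕ → ℤ) (r : ℕ) (hvan : ∀ i n, r < i → A i n = 0)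
    (hrec : ∀ i n, A (i + 1) (n + 1) = A i (n + 1) - A i n) :
    ∀ m j, A j m = ∑ i ∈ Finset.range (r + 1), ((m + i - 1).choose i : ℤ) * A (j + i) 0 := by
  intro m
  induction m with
  | zero =>
    intro j
    rw [Finset.sum_eq_single 0]
    · simp
    · intro i _ hi
      have : (0 + i - 1).choose i = 0 := Nat.choose_eq_zero_of_lt (by omega)
      rw [this]; simp
    · intro h; simp at h
  | succ m ih =>
    have key : ∀ t j, r + 1 ≤ j + t →
        A j (m + 1) = ∑ i ∈ Finset.range (r + 1), ((m + 1 + i - 1).choose i : ℤ) * A (j + i) 0 := by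
      intro t
      induction t with
      | zero =>
        intro j hj
        rw [hvan j (m + 1) (by omega)]
        symm
        refine Finset.sum_eq_zero (fun i _ => ?_)
        rw [hvan (j + i) 0 (by omega), mul_zero]
      | succ t iht =>
        intro j hj
        have h1 : A j (m + 1) = A j m + A (j + 1) (m + 1) := by rw [hrec j m]; ring
        rw [h1, ih j, iht (j + 1) (by omega)]
        have s1 : ∑ i ∈ Finset.range (r + 1), ((m + i - 1).choose i : ℤ) * A (j + i) 0 =
            ∑ i ∈ Finset.range r, ((m + (i + 1) - 1).choose (i + 1) : ℤ) * A (j + (i + 1)) 0 +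
              A j 0 := by
          rw [Finset.sum_range_succ' _ r]; simp
        have s2 : ∑ i ∈ Finset.range (r + 1), ((m + 1 + i - 1).choose i : ℤ) * A (j + 1 + i) 0 =
            ∑ i ∈ Finset.range r, ((m + 1 + i - 1).choose i : ℤ) * A (j + 1 + i) 0 := by
          rw [Finset.sum_range_succ _ r, hvan (j + 1 + r) 0 (by omega), mul_zero, add_zero]
        have s3 : ∑ i ∈ Finset.range (r + 1), ((m + 1 + i - 1).choose i : ℤ) * A (j + i) 0 =
            ∑ i ∈ Finset.range r,
              ((m + 1 + (i + 1) - 1).choose (i + 1) : ℤ) * A (j + (i + 1)) 0 + A j 0 := by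
          rw [Finset.sum_range_succ' _ r]; simp
        rw [s1, s2, s3]
        have h2 : ∀ i ∈ Finset.range r,
            ((m + 1 + (i + 1) - 1).choose (i + 1) : ℤ) * A (j + (i + 1)) 0 =
            ((m + (i + 1) - 1).choose (i + 1) : ℤ) * A (j + (i + 1)) 0 +
              ((m + 1 + i - 1).choose i : ℤ) * A (j + 1 + i) 0 := by
          intro i _
          have e1 : j + 1 + i = j + (i + 1) := by omega
          have e2 : m + (i + 1) - 1 = m + i := by omega
          have e3 : m + 1 + i - 1 = m + i := by omega
          have e4 : m + 1 + (i + 1) - 1 = m + i + 1 := by omega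
          rw [e1, e2, e3, e4, Nat.choose_succ_succ]
          push_cast
          ring
        rw [Finset.sum_congr rfl h2, Finset.sum_add_distrib]
        ring
    intro j
    exact key (r + 1) j (by omega)

variable (k : Type u) [Field k] {X : Scheme.{u}} [X.Over (Spec (CommRingCat.of k))]
  [IsProper (X ↘ (Spec (CommRingCat.of k)))]

/-- `M ⊗ (L^{n+1} ⊗ F) ≅ L^n ⊗ F` when `L ⊗ M ≅ O` -/
noncomputable def cancelIso (L M : X.Modules) (e : CohB1.tensorMod L M ≅ Coh.structureModule X)
    (n : ℕ) (F : X.Modules) :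
    CohB1.tensorMod M (CohB1.tensorMod (CohB1.tensorPow L (n + 1)) F) ≅
      CohB1.tensorMod (CohB1.tensorPow L n) F :=
  PicGrp.tensorModIso (Iso.refl M) (assoc (CohB1.tensorPow L n) L F) ≪≫
    swapM M (CohB1.tensorPow L n) (CohB1.tensorMod L F) ≪≫
    PicGrp.tensorModIso (Iso.refl _)
      ((assoc M L F).symm ≪≫ PicGrp.tensorModIso (braid M L ≪≫ e) (Iso.refl F) ≪≫ unitorL F)

/-- S11753 -/
theorem main11753 (d : ℕ) (hd : topologicalKrullDim X ≤ d)
    (L M : X.Modules) (hL : PicF.IsInvertible L)
    (hLM : Nonempty (CohB1.tensorMod L M ≅ Coh.structureModule X))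
    (F : X.Modules) (hF : Coh.IsCoh F) (r : ℕ)
    (hr : topologicalKrullDim (CohB1.support F) ≤ r) (m : ℕ) :
    FGA.eulerCharLE k X (CohB1.tensorMod (CohB1.tensorPow L m) F) d =
      (Finset.range (r + 1)).sum (fun i => ((m + i - 1).choose i : ℤ) *
        FGA.intNum k X d (fun _ : Fin i => M) F) := by
  haveI := Groth.Agent.Helper4.NApx82.isNoetherian_of_proper k X
  obtain ⟨e⟩ := hLM
  have hM : PicF.IsInvertible M :=
    Groth.Agent.Helper4.InvOfTensor.isInvertible_of_tensor_iso M L (braid M L ≪≫ e)
  let A : ℕ → ℕ → ℤ := fun i n =>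
    altF (chi k X) (fun _ : Fin i => M) (CohB1.tensorMod (CohB1.tensorPow L n) F)
  have hvan : ∀ i n, r < i → A i n = 0 := by
    intro i n hi
    refine snapper_vanishing k _ (fun _ => hM) _ ?_ ?_
    · exact isCoh_tensorMod _ _ (Groth.Agent.Helper1.SerreFin.isCoh_of_isInvertible _
        (TensorInv.isInvertible_tensorPow hL n)) hF
    · refine DimLT.mono (dimLT_of_krullDim_lt ?_) (support_tensorMod_subset _ _)
      refine lt_of_le_of_lt hr ?_
      exact_mod_cast hi
  have hrec : ∀ i n, A (i + 1) (n + 1) = A i (n + 1) - A i n := by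
    intro i n
    show altF (chi k X) (fun _ : Fin (i + 1) => M) _ = _
    rw [altF_succ (chi k X) (chi_iso k)]
    show altF (chi k X) (fun _ : Fin i => M) _ - altF (chi k X) (fun _ : Fin i => M)
      (CohB1.tensorMod M (CohB1.tensorMod (CohB1.tensorPow L (n + 1)) F)) = _
    rw [altF_iso (chi k X) (chi_iso k) _ (cancelIso L M e n F)]
  have hmain := newton_backward A r hvan hrec m 0
  rw [eulerCharLE_eq_chi k d hd]
  have h0 : A 0 m = chi k X (CohB1.tensorMod (CohB1.tensorPow L m) F) := altF_zero k _ _
  rw [← h0, hmain]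
  refine Finset.sum_congr rfl (fun i _ => ?_)
  rw [intNum_eq_altF k d hd, zero_add]
  congr 1
  exact altF_iso (chi k X) (chi_iso k) _ (unitorL F)

end Groth.Agent.Helper4.SN
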