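import Mathlib
import Groth.Agent.Helper4.SN5

/-!
# Snapper, part 6: additivity of intersection numbers
-/

set_option autoImplicit false
set_option linter.style.haveILetI false

namespace Groth.Agent.Helper4.SN

open CategoryTheory Limits AlgebraicGeometry Opposite TopologicalSpace

universe u

variable (k : Type u) [Field k] {X : Scheme.{u}} [X.Over (Spec (CommRingCat.of k))]
  [IsProper (X ↘ (Spec (CommRingCat.of k)))]

omit [IsProper (X ↘ (Spec (CommRingCat.of k)))] in
theorem altF_cons {r : ℕ} (C : X.Modules) (M : Fin r → X.Modules) (F : X.Modules) :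
    altF (chi k X) (Fin.cons C M : Fin (r + 1) → X.Modules) F =
      altF (chi k X) M F - altF (chi k X) M (CohB1.tensorMod C F) := by
  rw [altF_succ (chi k X) (chi_iso k)]
  simp only [Fin.cons_zero, Fin.cons_succ]

/-- S3232 -/
theorem main3232 (d : ℕ) (hd : topologicalKrullDim X ≤ d) {r : ℕ} (M : Fin r → X.Modules)
    (hM : ∀ i, PicF.IsInvertible (M i)) (A B : X.Modules) (hA : PicF.IsInvertible A)
    (hB : PicF.IsInvertible B) (F : X.Modules) (hF : Coh.IsCoh F)
    (hr : topologicalKrullDim (CohB1.support F) ≤ (r + 1 : ℕ)) :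
    FGA.intNum k X d (Fin.cons (CohB1.tensorMod A B) M) F =
      FGA.intNum k X d (Fin.cons A M) F + FGA.intNum k X d (Fin.cons B M) F := by
  rw [intNum_eq_altF k d hd, intNum_eq_altF k d hd, intNum_eq_altF k d hd]
  have hlt : topologicalKrullDim (CohB1.support F) < ((r + 1 + 1 : ℕ) : WithBot ℕ∞) := by
    refine lt_of_le_of_lt hr ?_
    exact_mod_cast Nat.lt_succ_self (r + 1)
  have hinv : ∀ i, PicF.IsInvertible ((Fin.cons A (Fin.cons B M) : Fin (r + 1 + 1) → X.Modules) i) := by
    intro i
    refine Fin.cases ?_ (fun j => ?_) i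
    · simpa using hA
    · refine Fin.cases ?_ (fun l => ?_) j
      · simpa using hB
      · simpa using hM l
  have h0 := snapper_vanishing k (Fin.cons A (Fin.cons B M) : Fin (r + 1 + 1) → X.Modules) hinv
    F hF (dimLT_of_krullDim_lt hlt)
  rw [altF_cons, altF_cons, altF_cons] at h0
  rw [altF_cons, altF_cons, altF_cons]
  have e : CohB1.tensorMod (CohB1.tensorMod A B) F ≅ CohB1.tensorMod B (CohB1.tensorMod A F) :=
    PicGrp.tensorModIso (Groth.Agent.Lead.Ref1B.braid A B) (Iso.refl F) ≪≫
      Groth.Agent.Lead.Ref1B.assoc B A F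
  rw [altF_iso (chi k X) (chi_iso k) M e]
  linarith

end Groth.Agent.Helper4.SN
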