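import Mathlib
import Groth.Agent.Helper4.SN12
import Groth.Agent.Helper4.SN6
import Groth.Agent.Helper4.PullTensor
import Groth.Agent.Helper4.PullSec
import Groth.Agent.Helper1.KzLin3
import Groth.Agent.Helper6.HProj
import Groth.Prelude.Def_Pic13

/-!
# Top coefficients of Hilbert polynomials as intersection numbers (S5644)
-/

set_option autoImplicit false
set_option linter.style.haveILetI false

namespace Groth.Agent.Helper4.SN

open CategoryTheory Limits AlgebraicGeometry Opposite TopologicalSpace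
open Groth.Agent.Lead.Ref1B

universe u

/-- pure combinatorics: iterated backward differences of a function given in the binomial basis -/
theorem binom_diff (N : ℕ) (a : Fin N → ℤ) (B : ℕ → ℕ → ℤ)
    (hrec : ∀ t m, B (t + 1) (m + 1) = B t (m + 1) - B t m)
    (h0 : ∀ m, B 0 m = ∑ j : Fin N, a j * ((m + j).choose j : ℤ)) :
    ∀ t m, B t (t + m) = ∑ j : Fin N, a j *
      (if t ≤ (j : ℕ) then ((m + j).choose (j - t) : ℤ) else 0) := by
  intro t
  induction t with
  | zero =>
    intro m
    rw [zero_add, h0]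
    refine Finset.sum_congr rfl (fun j _ => ?_)
    simp
  | succ t ih =>
    intro m
    have e1 : t + 1 + m = (t + m) + 1 := by omega
    rw [e1, hrec t (t + m)]
    have e2 : t + m + 1 = t + (m + 1) := by omega
    rw [e2, ih (m + 1), ih m, ← Finset.sum_sub_distrib]
    refine Finset.sum_congr rfl (fun j _ => ?_)
    rw [← mul_sub]
    congr 1
    by_cases h1 : t + 1 ≤ (j : ℕ)
    · have h2 : t ≤ (j : ℕ) := by omega
      rw [if_pos h1, if_pos h2, if_pos h2]
      obtain ⟨c, hc⟩ : ∃ c, (j : ℕ) - t = c + 1 := ⟨(j : ℕ) - t - 1, by omega⟩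
      have e3 : (j : ℕ) - (t + 1) = c := by omega
      have e4 : m + 1 + (j : ℕ) = (m + (j : ℕ)) + 1 := by omega
      rw [hc, e3, e4, Nat.choose_succ_succ]
      push_cast
      ring
    · rw [if_neg h1]
      by_cases h2 : t ≤ (j : ℕ)
      · have e3 : (j : ℕ) - t = 0 := by omega
        rw [if_pos h2, if_pos h2, e3]
        simp
      · rw [if_neg h2, if_neg h2, sub_zero]

variable (k : Type u) [Field k] {X : Scheme.{u}} [X.Over (Spec (CommRingCat.of k))]
  [IsProper (X ↘ (Spec (CommRingCat.of k)))]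

/-- twisting by an invertible module does not change the top intersection numbers -/
theorem altF_twist_indep {r : ℕ} (M : Fin r → X.Modules) (hM : ∀ i, PicF.IsInvertible (M i))
    (N : X.Modules) (hN : PicF.IsInvertible N) (F : X.Modules) (hF : Coh.IsCoh F)
    (hdim : DimLT (CohB1.support F) (r + 1)) :
    altF (chi k X) M (CohB1.tensorMod N F) = altF (chi k X) M F := by
  have h := snapper_vanishing k (Fin.cons N M : Fin (r + 1) → X.Modules)
    (fun i => by
      refine Fin.cases ?_ (fun j => ?_) i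
      · simpa using hN
      · simpa using hM j) F hF hdim
  rw [altF_cons] at h
  linarith


end Groth.Agent.Helper4.SN

namespace Groth.Agent.Helper4.SN

open CategoryTheory Limits AlgebraicGeometry Opposite TopologicalSpace
open Groth.Agent.Lead.Ref1B

universe u

section Proj

variable (k : Type u) [Field k] {n : ℕ} {X : Scheme.{u}} [X.Over (Spec (CommRingCat.of k))]
  (i : X ⟶ CohB1.ProjSpace n k) [IsClosedImmersion i]

include i in
theorem isProper_of_closedImmersion
    (hi : i ≫ CohB1.ProjSpace.toSpec n k = X ↘ Spec (CommRingCat.of k)) :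
    IsProper (X ↘ Spec (CommRingCat.of k)) := by
  haveI : IsProper (CohB1.ProjSpace.toSpec n k) := Groth.Agent.Helper6.HProj.isProper_toSpec n k
  rw [← hi]
  infer_instance

/-- `O_X(d)` -/
noncomputable abbrev OX (d : ℤ) : X.Modules :=
  (Scheme.Modules.pullback i).obj (Twist.twistProjSpace n k d)

theorem isInvertible_OX (d : ℤ) : PicF.IsInvertible (OX k i d) :=
  Groth.Agent.Helper4.PullSec.isInvertible_pullback i
    (Groth.Agent.Helper1.SerreVan.isInvertible_twist n k d)

theorem nonempty_OX_add (a b c : ℤ) (h : c = a + b) :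
    Nonempty (CohB1.tensorMod (OX k i a) (OX k i b) ≅ OX k i c) := by
  obtain ⟨e⟩ := Groth.Agent.Helper1.TwistMul.nonempty_twist_tensor_twist_iso
    (CohB1.polyGrading n k) (Groth.Agent.Helper1.SerreFin.hcov_poly n k) a b c h
  exact ⟨(Groth.Agent.Helper4.PullTensor.pullTensorIso i
    (Groth.Agent.Helper1.SerreVan.isInvertible_twist n k a)
    (Groth.Agent.Helper1.SerreVan.isInvertible_twist n k b)).symm ≪≫
    (Scheme.Modules.pullback i).mapIso e⟩

/-- `O_X(-1) ⊗ (F ⊗ O_X(m+1)) ≅ F ⊗ O_X(m)` -/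
theorem nonempty_cancel (F : X.Modules) (m : ℕ) :
    Nonempty (CohB1.tensorMod (OX k i (-1)) (Pic13.twistOn k i F ((m + 1 : ℕ) : ℤ)) ≅
      Pic13.twistOn k i F (m : ℤ)) := by
  obtain ⟨e⟩ := nonempty_OX_add k i (-1) ((m + 1 : ℕ) : ℤ) (m : ℤ) (by push_cast; ring)
  unfold Pic13.twistOn
  exact ⟨swapM _ F _ ≪≫ PicGrp.tensorModIso (Iso.refl F) e⟩

end Proj

section Main

variable (k : Type u) [Field k] {n : ℕ} {X : Scheme.{u}} [X.Over (Spec (CommRingCat.of k))]
  [IsProper (X ↘ (Spec (CommRingCat.of k)))]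
  (i : X ⟶ CohB1.ProjSpace n k) [IsClosedImmersion i]

/-- the iterated differences of `m ↦ χ(F(m))` -/
noncomputable def BB (F : X.Modules) (t m : ℕ) : ℤ :=
  altF (chi k X) (fun _ : Fin t => OX k i (-1)) (Pic13.twistOn k i F (m : ℤ))

theorem BB_rec (F : X.Modules) (t m : ℕ) :
    BB k i F (t + 1) (m + 1) = BB k i F t (m + 1) - BB k i F t m := by
  unfold BB
  rw [altF_succ (chi k X) (chi_iso k)]
  obtain ⟨e⟩ := nonempty_cancel k i F m
  show altF (chi k X) (fun _ : Fin t => OX k i (-1)) _ -
    altF (chi k X) (fun _ : Fin t => OX k i (-1))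
      (CohB1.tensorMod (OX k i (-1)) (Pic13.twistOn k i F ((m + 1 : ℕ) : ℤ))) = _
  rw [altF_iso (chi k X) (chi_iso k) _ e]

theorem BB_zero (F : X.Modules) (m : ℕ) :
    BB k i F 0 m = chi k X (Pic13.twistOn k i F (m : ℤ)) :=
  altF_zero k _ _


omit [IsProper (X ↘ (Spec (CommRingCat.of k)))] [X.Over (Spec (CommRingCat.of k))] in
theorem dimLT_of_dim_le (d : ℕ) (hd : topologicalKrullDim X ≤ d) (Z : Set X) :
    DimLT Z (d + 1) := by
  intro T _
  have h1 : (Order.height T : WithBot ℕ∞) ≤ Order.krullDim (IrreducibleCloseds X) :=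
    Order.height_le_krullDim T
  have h2 : (Order.height T : WithBot ℕ∞) ≤ ((d : ℕ∞) : WithBot ℕ∞) := h1.trans hd
  have h3 : Order.height T ≤ (d : ℕ∞) := WithBot.coe_le_coe.mp h2
  refine lt_of_le_of_lt h3 ?_
  exact_mod_cast Nat.lt_succ_self d

/-- the top difference is the intersection number -/
theorem BB_top (d : ℕ) (hd : topologicalKrullDim X ≤ d) (F : X.Modules)
    (hF : PicF.IsInvertible F) (m : ℕ) :
    BB k i F d m = altF (chi k X) (fun _ : Fin d => OX k i (-1)) (Coh.structureModule X) := by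
  haveI := Groth.Agent.Helper4.NApx82.isNoetherian_of_proper k X
  unfold BB
  have hN : PicF.IsInvertible (Pic13.twistOn k i F (m : ℤ)) :=
    TensorInv.isInvertible_tensorMod hF (isInvertible_OX k i _)
  rw [← altF_twist_indep k _ (fun _ => isInvertible_OX k i (-1)) _ hN (Coh.structureModule X)
    (Groth.Agent.Helper1.SerreFin.isCoh_of_isInvertible _
      TensorInv.isInvertible_structureModule) (dimLT_of_dim_le d hd _)]
  exact altF_iso (chi k X) (chi_iso k) _ (SecTwist.unitorR _).symm

/-- S5644 -/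
theorem main5644 (hi : i ≫ CohB1.ProjSpace.toSpec n k = X ↘ Spec (CommRingCat.of k))
    (s : ℕ) (hdim : topologicalKrullDim X = (s + 1 : ℕ))
    (L L' : X.Modules) (hL : PicF.IsInvertible L)
    (hLL' : Nonempty (CohB1.tensorMod L L' ≅ Coh.structureModule X))
    (a e : Fin (s + 2) → ℤ)
    (ha : ∀ m : ℕ, FGA.eulerCharLE k X (Pic13.twistOn k i L m) (s + 1) =
      ∑ j : Fin (s + 2), a j * ((m + j).choose j : ℤ))
    (he : ∀ m : ℕ, FGA.eulerCharLE k X (Pic13.twistOn k i (Coh.structureModule X) m) (s + 1) =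
      ∑ j : Fin (s + 2), e j * ((m + j).choose j : ℤ)) :
    a (Fin.last (s + 1)) = e (Fin.last (s + 1)) ∧
      a (Fin.last (s + 1)) = FGA.intNum k X (s + 1)
        (fun _ : Fin (s + 1) => (Scheme.Modules.pullback i).obj (Twist.twistProjSpace n k (-1)))
        (Coh.structureModule X) ∧
      a (Fin.castSucc (Fin.last s)) - e (Fin.castSucc (Fin.last s)) = FGA.intNum k X (s + 1)
        (Matrix.vecCons L' (fun _ : Fin s =>
          (Scheme.Modules.pullback i).obj (Twist.twistProjSpace n k (-1))))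
        (Coh.structureModule X) := by
  haveI := Groth.Agent.Helper4.NApx82.isNoetherian_of_proper k X
  have hd : topologicalKrullDim X ≤ ((s + 1 : ℕ) : WithBot ℕ∞) := hdim.le
  obtain ⟨eLL'⟩ := hLL'
  have hL' : PicF.IsInvertible L' :=
    Groth.Agent.Helper4.InvOfTensor.isInvertible_of_tensor_iso L' L (braid L' L ≪≫ eLL')
  have hO : PicF.IsInvertible (Coh.structureModule X) := TensorInv.isInvertible_structureModule
  have hcO : Coh.IsCoh (Coh.structureModule X) :=
    Groth.Agent.Helper1.SerreFin.isCoh_of_isInvertible _ hO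
  -- the general formula for the differences
  have gen : ∀ (F : X.Modules) (c : Fin (s + 2) → ℤ),
      (∀ m : ℕ, FGA.eulerCharLE k X (Pic13.twistOn k i F m) (s + 1) =
        ∑ j : Fin (s + 2), c j * ((m + j).choose j : ℤ)) →
      ∀ t m, BB k i F t (t + m) = ∑ j : Fin (s + 2), c j *
        (if t ≤ (j : ℕ) then ((m + j).choose (j - t) : ℤ) else 0) := by
    intro F c hc
    refine binom_diff (s + 2) c (BB k i F) (BB_rec k i F) (fun m => ?_)
    rw [BB_zero, ← eulerCharLE_eq_chi k (s + 1) hd, hc m]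
  -- top coefficient
  have top : ∀ (F : X.Modules) (c : Fin (s + 2) → ℤ),
      (∀ m : ℕ, FGA.eulerCharLE k X (Pic13.twistOn k i F m) (s + 1) =
        ∑ j : Fin (s + 2), c j * ((m + j).choose j : ℤ)) →
      BB k i F (s + 1) (s + 1) = c (Fin.last (s + 1)) := by
    intro F c hc
    have h := gen F c hc (s + 1) 0
    rw [add_zero] at h
    rw [h, Fin.sum_univ_castSucc]
    have hz : ∀ j : Fin (s + 1), c (Fin.castSucc j) *
        (if s + 1 ≤ ((Fin.castSucc j : Fin (s + 2)) : ℕ) then
          ((0 + ((Fin.castSucc j : Fin (s + 2)) : ℕ)).choose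
            (((Fin.castSucc j : Fin (s + 2)) : ℕ) - (s + 1)) : ℤ) else 0) = 0 := by
      intro j
      have : ¬ (s + 1 ≤ ((Fin.castSucc j : Fin (s + 2)) : ℕ)) := by
        simp only [Fin.val_castSucc]
        have := j.isLt
        omega
      rw [if_neg this, mul_zero]
    rw [Finset.sum_eq_zero (fun j _ => hz j), zero_add]
    simp
  -- next coefficient
  have nxt : ∀ (F : X.Modules) (c : Fin (s + 2) → ℤ),
      (∀ m : ℕ, FGA.eulerCharLE k X (Pic13.twistOn k i F m) (s + 1) =
        ∑ j : Fin (s + 2), c j * ((m + j).choose j : ℤ)) →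
      BB k i F s s = c (Fin.castSucc (Fin.last s)) + ((s : ℤ) + 1) * c (Fin.last (s + 1)) := by
    intro F c hc
    have h := gen F c hc s 0
    rw [add_zero] at h
    rw [h, Fin.sum_univ_castSucc, Fin.sum_univ_castSucc]
    have hz : ∀ j : Fin s, c (Fin.castSucc (Fin.castSucc j)) *
        (if s ≤ ((Fin.castSucc (Fin.castSucc j) : Fin (s + 2)) : ℕ) then
          ((0 + ((Fin.castSucc (Fin.castSucc j) : Fin (s + 2)) : ℕ)).choose
            (((Fin.castSucc (Fin.castSucc j) : Fin (s + 2)) : ℕ) - s) : ℤ) else 0) = 0 := by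
      intro j
      have : ¬ (s ≤ ((Fin.castSucc (Fin.castSucc j) : Fin (s + 2)) : ℕ)) := by
        simp only [Fin.val_castSucc]
        have := j.isLt
        omega
      rw [if_neg this, mul_zero]
    rw [Finset.sum_eq_zero (fun j _ => hz j), zero_add]
    simp
    ring
  have tL := top L a ha
  have tO := top (Coh.structureModule X) e he
  rw [BB_top k i (s + 1) hd L hL] at tL
  rw [BB_top k i (s + 1) hd _ hO] at tO
  have nL := nxt L a ha
  have nO := nxt (Coh.structureModule X) e he
  have hae : a (Fin.last (s + 1)) = e (Fin.last (s + 1)) := by rw [← tL, ← tO]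
  refine ⟨hae, ?_, ?_⟩
  · rw [intNum_eq_altF k (s + 1) hd, ← tL]
  · rw [intNum_eq_altF k (s + 1) hd]
    have h1 : a (Fin.castSucc (Fin.last s)) - e (Fin.castSucc (Fin.last s)) =
        BB k i L s s - BB k i (Coh.structureModule X) s s := by
      rw [nL, nO, hae]; ring
    rw [h1]
    set N := Pic13.twistOn k i L (s : ℤ) with hNdef
    have hN : PicF.IsInvertible N := TensorInv.isInvertible_tensorMod hL (isInvertible_OX k i _)
    have h2 := altF_twist_indep k (Fin.cons L' (fun _ : Fin s => OX k i (-1)) :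
        Fin (s + 1) → X.Modules)
      (fun j => by
        refine Fin.cases ?_ (fun j' => ?_) j
        · simpa using hL'
        · simpa using isInvertible_OX k i (-1)) N hN (Coh.structureModule X) hcO
      (dimLT_of_dim_le (s + 1) hd _)
    show _ = altF (chi k X) (Fin.cons L' (fun _ : Fin s => OX k i (-1)) :
      Fin (s + 1) → X.Modules) (Coh.structureModule X)
    rw [← h2, altF_cons]
    unfold BB
    congr 1
    · exact altF_iso (chi k X) (chi_iso k) _ (SecTwist.unitorR _).symm
    · refine altF_iso (chi k X) (chi_iso k) _ ?_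
      refine ?_ ≪≫ (PicGrp.tensorModIso (Iso.refl L') (SecTwist.unitorR N)).symm
      show CohB1.tensorMod (Coh.structureModule X) (OX k i (s : ℤ)) ≅
        CohB1.tensorMod L' (CohB1.tensorMod L (OX k i (s : ℤ)))
      exact PicGrp.tensorModIso (braid L' L ≪≫ eLL').symm (Iso.refl _) ≪≫ assoc L' L _

end Main

end Groth.Agent.Helper4.SN
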