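import Mathlib
import Groth.Agent.Helper4.SN7

/-!
# The multilinear coefficient of a polynomial of total degree `≤ d` in `d` variables as a mixed
difference
-/

set_option autoImplicit false
set_option linter.style.haveILetI false

namespace Groth.Agent.Helper4.SN

universe u

section MixedQ

variable {n : ℕ}

/-- forward difference, rational valued -/
def DpQ (i : Fin n) (g : (Fin n → ℕ) → ℚ) : (Fin n → ℕ) → ℚ :=
  fun m => g (m + Pi.single i 1) - g m

/-- iterated forward differences, rational valued -/
def mixedQ (l : List (Fin n)) (g : (Fin n → ℕ) → ℚ) : (Fin n → ℕ) → ℚ := l.foldr DpQ g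

@[simp] lemma mixedQ_nil (g : (Fin n → ℕ) → ℚ) : mixedQ [] g = g := rfl

@[simp] lemma mixedQ_cons (i : Fin n) (l : List (Fin n)) (g : (Fin n → ℕ) → ℚ) :
    mixedQ (i :: l) g = DpQ i (mixedQ l g) := rfl

lemma mixedQ_cast (l : List (Fin n)) (g : (Fin n → ℕ) → ℤ) :
    mixedQ l (fun m => (g m : ℚ)) = fun m => ((mixedL l g m : ℤ) : ℚ) := by
  induction l with
  | nil => rfl
  | cons i l ih =>
    rw [mixedQ_cons, ih, mixedL_cons]
    funext m
    simp [DpQ, Dp]

lemma DpQ_zero (i : Fin n) : DpQ i (0 : (Fin n → ℕ) → ℚ) = 0 := by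
  funext m
  simp [DpQ]

lemma mixedQ_zero (l : List (Fin n)) : mixedQ l (0 : (Fin n → ℕ) → ℚ) = 0 := by
  induction l with
  | nil => rfl
  | cons i l ih => rw [mixedQ_cons, ih, DpQ_zero]

lemma mixedQ_add (l : List (Fin n)) (g h : (Fin n → ℕ) → ℚ) :
    mixedQ l (g + h) = mixedQ l g + mixedQ l h := by
  induction l with
  | nil => rfl
  | cons i l ih =>
    rw [mixedQ_cons, ih, mixedQ_cons, mixedQ_cons]
    funext m
    simp only [DpQ, Pi.add_apply]
    ring

lemma mixedQ_smul (l : List (Fin n)) (c : ℚ) (g : (Fin n → ℕ) → ℚ) :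
    mixedQ l (fun m => c * g m) = fun m => c * mixedQ l g m := by
  induction l with
  | nil => rfl
  | cons i l ih =>
    rw [mixedQ_cons, ih, mixedQ_cons]
    funext m
    simp only [DpQ]
    ring

lemma mixedQ_sum {ι : Type*} (s : Finset ι) (l : List (Fin n)) (g : ι → (Fin n → ℕ) → ℚ) :
    mixedQ l (fun m => ∑ a ∈ s, g a m) = fun m => ∑ a ∈ s, mixedQ l (g a) m := by
  classical
  induction s using Finset.induction_on with
  | empty =>
    simp only [Finset.sum_empty]
    exact mixedQ_zero l
  | insert a s ha ih =>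
    have h1 : (fun m => ∑ b ∈ insert a s, g b m) = g a + fun m => ∑ b ∈ s, g b m := by
      funext m
      rw [Finset.sum_insert ha]
      rfl
    rw [h1, mixedQ_add, ih]
    funext m
    rw [Finset.sum_insert ha]
    rfl

/-- `g` does not depend on the `i`-th coordinate -/
def Indep (i : Fin n) (g : (Fin n → ℕ) → ℚ) : Prop := ∀ m, g (m + Pi.single i 1) = g m

lemma Indep.DpQ {i : Fin n} {g : (Fin n → ℕ) → ℚ} (h : Indep i g) (j : Fin n) :
    Indep i (DpQ j g) := by
  intro m
  simp only [SN.DpQ]
  rw [add_right_comm, h, h]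

lemma Indep.mixedQ {i : Fin n} {g : (Fin n → ℕ) → ℚ} (h : Indep i g) (l : List (Fin n)) :
    Indep i (mixedQ l g) := by
  induction l with
  | nil => exact h
  | cons j l ih => exact ih.DpQ j

lemma DpQ_of_indep {i : Fin n} {g : (Fin n → ℕ) → ℚ} (h : Indep i g) : DpQ i g = 0 := by
  funext m
  simp only [DpQ, h m, sub_self, Pi.zero_apply]

lemma mixedQ_of_indep (l : List (Fin n)) (i : Fin n) (hi : i ∈ l) (g : (Fin n → ℕ) → ℚ)
    (h : Indep i g) : mixedQ l g = 0 := by
  induction l with
  | nil => simp at hi
  | cons j l ih =>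
    rw [mixedQ_cons]
    by_cases hij : i = j
    · subst hij
      exact DpQ_of_indep (h.mixedQ l)
    · have : i ∈ l := by
        rcases List.mem_cons.mp hi with h' | h'
        · exact absurd h' hij
        · exact h'
      rw [ih this, DpQ_zero]

/-- the mixed differences of the product of all coordinates -/
lemma mixedQ_prod (l : List (Fin n)) (hl : l.Nodup) :
    mixedQ l (fun m => ∏ i, (m i : ℚ)) =
      fun m => ∏ i ∈ Finset.univ.filter (fun i => i ∉ l), (m i : ℚ) := by
  classical
  induction l with
  | nil =>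
    funext m
    simp
  | cons j l ih =>
    have hj : j ∉ l := (List.nodup_cons.mp hl).1
    rw [mixedQ_cons, ih (List.nodup_cons.mp hl).2]
    funext m
    simp only [DpQ]
    have hsplit : Finset.univ.filter (fun i => i ∉ l) =
        insert j (Finset.univ.filter (fun i => i ∉ j :: l)) := by
      ext i
      simp only [Finset.mem_filter, Finset.mem_univ, true_and, Finset.mem_insert, List.mem_cons,
        not_or]
      constructor
      · intro hi
        by_cases hij : i = j
        · exact Or.inl hij
        · exact Or.inr ⟨hij, hi⟩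
      · rintro (rfl | ⟨_, hi⟩)
        · exact hj
        · exact hi
    have hjn : j ∉ Finset.univ.filter (fun i => i ∉ j :: l) := by simp
    rw [hsplit, Finset.prod_insert hjn, Finset.prod_insert hjn]
    have hrest : ∏ i ∈ Finset.univ.filter (fun i => i ∉ j :: l),
        (((m + Pi.single j 1 : Fin n → ℕ) i : ℕ) : ℚ) =
        ∏ i ∈ Finset.univ.filter (fun i => i ∉ j :: l), (m i : ℚ) := by
      refine Finset.prod_congr rfl (fun i hi => ?_)
      have : i ≠ j := by
        simp only [Finset.mem_filter, Finset.mem_univ, true_and, List.mem_cons, not_or] at hi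
        exact hi.1
      simp [Pi.single_eq_of_ne this]
    rw [hrest]
    simp only [Pi.add_apply, Pi.single_eq_same]
    push_cast
    ring

end MixedQ

section Coeff

open MvPolynomial

variable {d : ℕ}

/-- the exponent `(1, …, 1)` -/
noncomputable def ones (d : ℕ) : Fin d →₀ ℕ := Finsupp.equivFunOnFinite.symm fun _ => 1

lemma ones_apply (i : Fin d) : ones d i = 1 := rfl

lemma eq_ones_of_sum_le (α : Fin d →₀ ℕ) (hα : (α.sum fun _ e => e) ≤ d) (h : ∀ i, α i ≠ 0) :
    α = ones d := by
  classical
  have hsum : (α.sum fun _ e => e) = ∑ i, α i := by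
    rw [Finsupp.sum_fintype]
    intro i; rfl
  rw [hsum] at hα
  have h1 : ∀ i, 1 ≤ α i := fun i => Nat.one_le_iff_ne_zero.mpr (h i)
  have h2 : ∑ i : Fin d, (α i - 1) = 0 := by
    have h3 : ∑ i : Fin d, α i = ∑ i : Fin d, (α i - 1) + ∑ _i : Fin d, 1 := by
      rw [← Finset.sum_add_distrib]
      exact Finset.sum_congr rfl (fun i _ => by have := h1 i; omega)
    have hd : ∑ _i : Fin d, 1 = d := by simp
    omega
  ext i
  have := (Finset.sum_eq_zero_iff.mp h2) i (Finset.mem_univ i)
  rw [ones_apply]
  have := h1 i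
  omega

/-- the value function of a monomial -/
noncomputable def monoFn (α : Fin d →₀ ℕ) : (Fin d → ℕ) → ℚ :=
  fun m => ∏ i ∈ α.support, ((m i : ℕ) : ℚ) ^ α i

lemma monoFn_indep (α : Fin d →₀ ℕ) (i : Fin d) (hi : α i = 0) : Indep i (monoFn α) := by
  intro m
  unfold monoFn
  refine Finset.prod_congr rfl (fun j hj => ?_)
  have : j ≠ i := by
    rintro rfl
    exact (Finsupp.mem_support_iff.mp hj) hi
  simp [Pi.single_eq_of_ne this]

lemma monoFn_ones : monoFn (ones d) = fun m => ∏ i, (m i : ℚ) := by
  funext m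
  unfold monoFn
  have : (ones d).support = Finset.univ := by
    ext i
    simp [ones_apply]
  rw [this]
  refine Finset.prod_congr rfl (fun i _ => ?_)
  rw [ones_apply, pow_one]

/-- **the multilinear coefficient as a mixed difference** -/
theorem coeff_ones_eq (P : MvPolynomial (Fin d) ℚ) (hP : P.totalDegree ≤ d) :
    coeff (ones d) P =
      mixedQ (List.finRange d) (fun m => eval (fun i => (m i : ℚ)) P) 0 := by
  classical
  have h1 : (fun m : Fin d → ℕ => eval (fun i => (m i : ℚ)) P) =
      fun m => ∑ α ∈ P.support, coeff α P * monoFn α m := by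
    funext m
    rw [MvPolynomial.eval_eq]
    rfl
  rw [h1, mixedQ_sum]
  simp only
  have h2 : ∀ α ∈ P.support, mixedQ (List.finRange d) (fun m => coeff α P * monoFn α m) 0 =
      if α = ones d then coeff α P else 0 := by
    intro α hα
    rw [mixedQ_smul]
    simp only
    by_cases hαo : α = ones d
    · rw [if_pos hαo, hαo, monoFn_ones, mixedQ_prod _ (List.nodup_finRange d)]
      simp
    · rw [if_neg hαo]
      have hdeg : (α.sum fun _ e => e) ≤ d := (MvPolynomial.le_totalDegree hα).trans hP
      have : ∃ i, α i = 0 := by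
        by_contra hcon
        push Not at hcon
        exact hαo (eq_ones_of_sum_le α hdeg hcon)
      obtain ⟨i, hi⟩ := this
      rw [mixedQ_of_indep _ i (List.mem_finRange i) _ (monoFn_indep α i hi)]
      simp
  rw [Finset.sum_congr rfl h2, Finset.sum_ite_eq']
  by_cases hmem : ones d ∈ P.support
  · rw [if_pos hmem]
  · rw [if_neg hmem]
    exact MvPolynomial.notMem_support_iff.mp hmem

/-- polynomials are determined by their values on `ℕ^d` -/
theorem eq_of_eval_nat_eq (P Q : MvPolynomial (Fin d) ℚ)
    (h : ∀ m : Fin d → ℕ, eval (fun i => (m i : ℚ)) P = eval (fun i => (m i : ℚ)) Q) : P = Q := by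
  refine MvPolynomial.funext_set (fun _ => Set.range (Nat.cast : ℕ → ℚ))
    (fun _ => Set.infinite_range_of_injective Nat.cast_injective) (fun x hx => ?_)
  have hx' : ∀ i, ∃ a : ℕ, (a : ℚ) = x i := fun i => hx i (Set.mem_univ i)
  choose m hm using hx'
  have : x = fun i => (m i : ℚ) := funext fun i => (hm i).symm
  rw [this]
  exact h m

end Coeff

end Groth.Agent.Helper4.SN
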