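import Mathlib
import Groth.Agent.Helper4.SN14
import Groth.Agent.Helper4.SN9
import Groth.Agent.Helper1.AffLin
import Groth.Agent.Helper1.PF4
import Groth.Agent.Helper4.PullSec

/-!
# Numerical intersections: the multilinear coefficient of the Snapper polynomial
-/

set_option autoImplicit false
set_option linter.style.haveILetI false

namespace Groth.Agent.Helper4.SN

open CategoryTheory Limits AlgebraicGeometry Opposite TopologicalSpace
open Groth.Agent.Lead.Ref1B

universe u

theorem topologicalKrullDim_mono {T : Type*} [TopologicalSpace T] {A B : Set T} (h : A ⊆ B) :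
    topologicalKrullDim A ≤ topologicalKrullDim B :=
  (Topology.IsEmbedding.inclusion h).isInducing.topologicalKrullDim_le

variable (k : Type u) [Field k] {X : Scheme.{u}} [X.Over (Spec (CommRingCat.of k))]
  [IsProper (X ↘ (Spec (CommRingCat.of k)))]

/-- the multilinear coefficient of a polynomial computing `χ(F ⊗ L^n)` is a mixed difference -/
theorem coeff_ones_eq_mixedL (F : X.Modules) (hF : Coh.IsCoh F) (d : ℕ)
    (hsupp : topologicalKrullDim (CohB1.support F) ≤ d) (L : Fin d → X.Modules)
    (hL : ∀ i, PicF.IsInvertible (L i)) (P : MvPolynomial (Fin d) ℚ)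
    (hP : ∀ n : Fin d → ℕ, (Curv2.euler k X (Curv2.tensorPows F d L n) : ℚ) =
      MvPolynomial.eval (fun i => (n i : ℚ)) P) :
    MvPolynomial.coeff (ones d) P =
      ((mixedL (List.finRange d) (fun m => Curv2.euler k X (Curv2.tensorPows F d L m)) 0 : ℤ) : ℚ) := by
  obtain ⟨P', hdeg, hP'⟩ := main1528 k F hF d hsupp d L hL
  have hPP' : P = P' := eq_of_eval_nat_eq P P' (fun m => by rw [← hP m, ← hP' m])
  rw [hPP', coeff_ones_eq P' hdeg]
  have h1 : (fun m : Fin d → ℕ => MvPolynomial.eval (fun i => (m i : ℚ)) P') =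
      fun m => ((Curv2.euler k X (Curv2.tensorPows F d L m) : ℤ) : ℚ) := by
    funext m
    exact (hP' m).symm
  rw [h1, mixedQ_cast]

section Quot

variable [IsLocallyNoetherian X] (D : X.IdealSheafData)

omit [X.Over (Spec (CommRingCat.of k))] [IsProper (X ↘ (Spec (CommRingCat.of k)))] in
theorem isCoh_quotMod : Coh.IsCoh (ClSub.quotMod D) :=
  Groth.Agent.Helper1.Dev.isCoh_push D.subschemeι _
    (Groth.Agent.Helper1.SerreFin.isCoh_of_isInvertible _ TensorInv.isInvertible_structureModule)

omit [X.Over (Spec (CommRingCat.of k))] [IsProper (X ↘ (Spec (CommRingCat.of k)))]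
  [IsLocallyNoetherian X] in
theorem support_quotMod_subset : CohB1.support (ClSub.quotMod D) ⊆ (D.support : Set X) := by
  refine (Groth.Agent.Helper1.Dev.support_push_subset D.subschemeι _).trans ?_
  rw [Scheme.IdealSheafData.range_subschemeι]

end Quot

/-- S7685 -/
theorem main7685 (D : X.IdealSheafData) (d : ℕ)
    (hD : topologicalKrullDim (D.support : Set X) = d)
    (L : Fin d → X.Modules) (hL : ∀ i, PicF.IsInvertible (L i)) (P : MvPolynomial (Fin d) ℚ)
    (hP : ∀ n : Fin d → ℕ, (Curv2.euler k X (Curv2.tensorPows (ClSub.quotMod D) d L n) : ℚ) =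
      MvPolynomial.eval (fun i => (n i : ℚ)) P) :
    ∃ z : ℤ, MvPolynomial.coeff (Finsupp.equivFunOnFinite.symm fun _ : Fin d => 1) P = (z : ℚ) := by
  haveI := Groth.Agent.Helper4.NApx82.isNoetherian_of_proper k X
  exact ⟨_, coeff_ones_eq_mixedL k _ (isCoh_quotMod D) d
    ((topologicalKrullDim_mono (support_quotMod_subset D)).trans hD.le) L hL P hP⟩


section Push

variable {Z : Scheme.{u}} (ι : Z ⟶ X) [IsAffineHom ι]

omit [IsProper (X ↘ (Spec (CommRingCat.of k)))] in
/-- Euler characteristics are preserved under affine pushforward -/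
theorem euler_push (G : Z.Modules) [Coh.IsQCoh G] :
    @Curv2.euler k _ Z ⟨ι ≫ (X ↘ Spec (CommRingCat.of k))⟩ G =
      Curv2.euler k X ((Scheme.Modules.pushforward ι).obj G) := by
  letI : Z.Over (Spec (CommRingCat.of k)) := ⟨ι ≫ (X ↘ Spec (CommRingCat.of k))⟩
  unfold Curv2.euler
  refine finsum_congr (fun i => ?_)
  obtain ⟨e⟩ := Groth.Agent.Helper1.AffLin.nonempty_HH_linearEquiv ι k rfl G i
  rw [e.finrank_eq]

end Push

/-- S7647 -/
theorem main7647 (D : X.IdealSheafData) (hD : topologicalKrullDim (D.support : Set X) ≤ 1)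
    (L : X.Modules) (hL : PicF.IsInvertible L) (P : MvPolynomial (Fin 1) ℚ)
    (hP : ∀ n : Fin 1 → ℕ,
      (Curv2.euler k X (Curv2.tensorPows (ClSub.quotMod D) 1 (fun _ => L) n) : ℚ) =
        MvPolynomial.eval (fun i => (n i : ℚ)) P) :
    MvPolynomial.coeff (Finsupp.equivFunOnFinite.symm fun _ : Fin 1 => 1) P =
      (@Curv2.deg k _ D.subscheme ⟨D.subschemeι ≫ (X ↘ (Spec (CommRingCat.of k)))⟩
        ((Scheme.Modules.pullback D.subschemeι).obj L) 1 : ℚ) := by
  haveI := Groth.Agent.Helper4.NApx82.isNoetherian_of_proper k X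
  have h := coeff_ones_eq_mixedL k _ (isCoh_quotMod D) 1
    ((topologicalKrullDim_mono (support_quotMod_subset D)).trans (by exact_mod_cast hD))
    (fun _ => L) (fun _ => hL) P hP
  refine h.trans ?_
  congr 1
  have hfr : List.finRange 1 = [0] := by decide
  rw [hfr, mixedL_cons, mixedL_nil]
  simp only [Dp, zero_add]
  unfold Curv2.deg
  set Z := D.subscheme
  set ι := D.subschemeι
  have hLZ : PicF.IsInvertible ((Scheme.Modules.pullback ι).obj L) :=
    Groth.Agent.Helper4.PullSec.isInvertible_pullback ι hL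
  haveI : Coh.IsQCoh ((Scheme.Modules.pullback ι).obj L) :=
    (Groth.Agent.Helper1.SerreFin.isCoh_of_isInvertible _ hLZ).1
  haveI : Coh.IsQCoh (Coh.structureModule Z) :=
    (Groth.Agent.Helper1.SerreFin.isCoh_of_isInvertible _
      TensorInv.isInvertible_structureModule).1
  rw [euler_push k ι, euler_push k ι]
  have e1 : Curv2.tensorPows (ClSub.quotMod D) 1 (fun _ => L) (Pi.single 0 1) ≅
      (Scheme.Modules.pushforward ι).obj ((Scheme.Modules.pullback ι).obj L) := by
    show CohB1.tensorMod (ClSub.quotMod D) (CohB1.tensorMod (Coh.structureModule X) L) ≅ _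
    exact PicGrp.tensorModIso (Iso.refl _) (unitorL L) ≪≫
      Groth.Agent.Helper1.PF.projIso ι (Coh.structureModule Z) L hL ≪≫
      (Scheme.Modules.pushforward ι).mapIso (unitorL _)
  have e2 : Curv2.tensorPows (ClSub.quotMod D) 1 (fun _ => L) 0 ≅
      (Scheme.Modules.pushforward ι).obj (Coh.structureModule Z) := by
    show CohB1.tensorMod (ClSub.quotMod D) (Coh.structureModule X) ≅ _
    exact SecTwist.unitorR _
  have h1 := chi_iso k e1
  have h2 := chi_iso k e2
  unfold chi at h1 h2
  rw [h1, h2]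
  push_cast
  ring

end Groth.Agent.Helper4.SN
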