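import Mathlib
import Groth.Agent.Helper4.SN15
import Groth.Agent.Helper4.SN13
import Groth.Agent.Helper4.AcycLocal
import Groth.Agent.Lead.IdealModDict

/-!
# Numerical intersections with an effective Cartier divisor (S7648)
-/

set_option autoImplicit false
set_option linter.style.haveILetI false

namespace Groth.Agent.Helper4.SN

open CategoryTheory Limits AlgebraicGeometry Opposite TopologicalSpace
open Groth.Agent.Lead.Ref1B

universe u

section EffCartier

variable {X : Scheme.{u}}

/-- a point of an effective Cartier divisor is a proper specialization of another point -/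
theorem exists_generization_of_mem_effCartier (D : X.IdealSheafData) (hD : FGA.IsEffCartier D)
    (ξ : X) (hξ : ξ ∈ D.support) : ∃ η : X, η ⤳ ξ ∧ η ≠ ξ := by
  obtain ⟨U, hξU, a, ha, hDa⟩ := hD ξ
  have hU : IsAffineOpen (U : X.Opens) := U.2
  have h1 : ξ ∈ X.zeroLocus (U := U.1) (D.ideal U) :=
    (Scheme.IdealSheafData.mem_support_iff_of_mem hξU).mp hξ
  rw [hDa, Scheme.mem_zeroLocus_iff] at h1
  have h2 : ξ ∉ X.basicOpen a := h1 a (Ideal.subset_span (Set.mem_singleton a))
  set p := hU.primeIdealOf ⟨ξ, hξU⟩ with hp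
  have hpξ : hU.fromSpec p = ξ := hU.fromSpec_primeIdealOf ⟨ξ, hξU⟩
  have hap : a ∈ p.asIdeal := by
    by_contra hcon
    apply h2
    have h3 : p ∈ (PrimeSpectrum.basicOpen a : Set (PrimeSpectrum Γ(X, U.1))) := hcon
    have h4 : p ∈ hU.fromSpec ⁻¹ᵁ X.basicOpen a := by
      rw [hU.fromSpec_preimage_basicOpen]; exact h3
    have h5 : hU.fromSpec p ∈ X.basicOpen a := h4
    rwa [hpξ] at h5
  obtain ⟨q, hq, hqp⟩ := Ideal.exists_minimalPrimes_le (I := ⊥) (J := p.asIdeal) bot_le
  haveI : q.IsPrime := hq.1.1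
  have hqne : q ≠ p.asIdeal := by
    rintro rfl
    exact Set.disjoint_left.mp (Ideal.disjoint_nonZeroDivisors_of_mem_minimalPrimes hq) hap ha
  let q' : PrimeSpectrum Γ(X, U.1) := ⟨q, inferInstance⟩
  have hspec : q' ⤳ p := (PrimeSpectrum.le_iff_specializes q' p).mp hqp
  refine ⟨hU.fromSpec q', ?_, ?_⟩
  · rw [← hpξ]
    exact hspec.map hU.fromSpec.continuous
  · rw [← hpξ]
    intro h
    have hinj : Function.Injective hU.fromSpec := hU.fromSpec.isOpenEmbedding.injective
    have : q' = p := hinj h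
    exact hqne (congrArg PrimeSpectrum.asIdeal this)

/-- the support of an effective Cartier divisor has smaller dimension -/
theorem dimLT_support_effCartier (D : X.IdealSheafData) (hD : FGA.IsEffCartier D) (e : ℕ)
    (hX : topologicalKrullDim X ≤ (e + 1 : ℕ)) : DimLT (D.support : Set X) (e + 1) := by
  intro T hT
  obtain ⟨ξ, hξ⟩ := QuasiSober.sober T.isIrreducible T.isClosed
  have hξT : ξ ∈ (T : Set X) := hξ.mem
  obtain ⟨η, hη, hne⟩ := exists_generization_of_mem_effCartier D hD ξ (hT hξT)
  let T' : IrreducibleCloseds X := ⟨closure {η}, isIrreducible_singleton.closure, isClosed_closure⟩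
  have hTT' : T < T' := by
    have hle : (T : Set X) ⊆ closure {η} := by
      rw [← hξ.def]
      exact closure_minimal (Set.singleton_subset_iff.mpr hη.mem_closure) isClosed_closure
    refine lt_of_le_of_ne hle ?_
    intro heq
    have hηT : η ∈ (T : Set X) := by
      have : (T : Set X) = closure {η} := congrArg (fun S : IrreducibleCloseds X => (S : Set X)) heq
      rw [this]; exact subset_closure rfl
    rw [← hξ.def] at hηT
    have h2 : ξ ⤳ η := specializes_iff_mem_closure.mpr hηT
    exact hne ((hη.antisymm h2).eq)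
  have hfin : Order.height T' ≤ ((e + 1 : ℕ) : ℕ∞) := by
    have h1 : (Order.height T' : WithBot ℕ∞) ≤ Order.krullDim (IrreducibleCloseds X) :=
      Order.height_le_krullDim T'
    have h2 : (Order.height T' : WithBot ℕ∞) ≤ (((e + 1 : ℕ) : ℕ∞) : WithBot ℕ∞) := h1.trans hX
    exact WithBot.coe_le_coe.mp h2
  have hlt : Order.height T < Order.height T' := by
    refine Order.height_strictMono hTT' ?_
    refine lt_of_le_of_lt ((Order.height_mono hTT'.le).trans hfin) ?_
    exact ENat.natCast_lt_top _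
  exact lt_of_lt_of_le hlt hfin

end EffCartier


section Main

variable (k : Type u) [Field k] {X : Scheme.{u}} [X.Over (Spec (CommRingCat.of k))]
  [IsProper (X ↘ (Spec (CommRingCat.of k)))]

/-- `DimLT` variant of `main1528` -/
theorem main1528' (F : X.Modules) (hF : Coh.IsCoh F) (d : ℕ)
    (hdF : DimLT (CohB1.support F) (d + 1)) (r : ℕ) (L : Fin r → X.Modules)
    (hL : ∀ i, PicF.IsInvertible (L i)) :
    ∃ P : MvPolynomial (Fin r) ℚ, P.totalDegree ≤ d ∧
      ∀ n : Fin r → ℕ, (Curv2.euler k X (Curv2.tensorPows F r L n) : ℚ) =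
        MvPolynomial.eval (fun i => (n i : ℚ)) P :=
  snapper_poly k L (fun n => Curv2.tensorPows F r L n)
    (fun n i => tensorPows_add_single F r L n i) hL
    (fun n => isCoh_tensorPows F hF r L hL n) d
    (fun n => hdF.mono (support_tensorPows_subset F r L n))

/-- `DimLT` variant of `coeff_ones_eq_mixedL` -/
theorem coeff_ones_eq_mixedL' (F : X.Modules) (hF : Coh.IsCoh F) (d : ℕ)
    (hdF : DimLT (CohB1.support F) (d + 1)) (L : Fin d → X.Modules)
    (hL : ∀ i, PicF.IsInvertible (L i)) (P : MvPolynomial (Fin d) ℚ)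
    (hP : ∀ n : Fin d → ℕ, (Curv2.euler k X (Curv2.tensorPows F d L n) : ℚ) =
      MvPolynomial.eval (fun i => (n i : ℚ)) P) :
    MvPolynomial.coeff (ones d) P =
      ((mixedL (List.finRange d) (fun m => Curv2.euler k X (Curv2.tensorPows F d L m)) 0 : ℤ) : ℚ) := by
  obtain ⟨P', hdeg, hP'⟩ := main1528' k F hF d hdF d L hL
  have hPP' : P = P' := eq_of_eval_nat_eq P P' (fun m => by rw [← hP m, ← hP' m])
  rw [hPP', coeff_ones_eq P' hdeg]
  have h1 : (fun m : Fin d → ℕ => MvPolynomial.eval (fun i => (m i : ℚ)) P') =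
      fun m => ((Curv2.euler k X (Curv2.tensorPows F d L m) : ℤ) : ℚ) := by
    funext m
    exact (hP' m).symm
  rw [h1, mixedQ_cast]

omit [IsProper (X ↘ (Spec (CommRingCat.of k)))] in
theorem altF_cast {r r' : ℕ} (h : r' = r) (M : Fin r → X.Modules) (F : X.Modules) :
    altF (chi k X) (fun a : Fin r' => M (Fin.cast h a)) F = altF (chi k X) M F := by
  subst h
  rfl

omit [IsProper (X ↘ (Spec (CommRingCat.of k)))] in
theorem altF_finRange {r : ℕ} (M : Fin r → X.Modules) (F : X.Modules) :
    altF (chi k X) (fun a : Fin (List.finRange r).length => M ((List.finRange r).get a)) F =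
      altF (chi k X) M F := by
  rw [← altF_cast k (List.length_finRange) M F]
  congr 1
  funext a
  congr 1
  simp

omit [X.Over (Spec (CommRingCat.of k))] [IsProper (X ↘ (Spec (CommRingCat.of k)))] in
theorem tensorPows_zero_iso (F : X.Modules) : ∀ (r : ℕ) (L : Fin r → X.Modules),
    Nonempty (Curv2.tensorPows F r L 0 ≅ F) := by
  intro r
  induction r with
  | zero => intro L; exact ⟨Iso.refl _⟩
  | succ r ih =>
    intro L
    obtain ⟨e⟩ := ih (fun i => L i.castSucc)
    exact ⟨SecTwist.unitorR _ ≪≫ e⟩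

/-- the multilinear coefficient as an alternating sum -/
theorem coeff_ones_eq_altF (F : X.Modules) (hF : Coh.IsCoh F) (d : ℕ)
    (hdF : DimLT (CohB1.support F) (d + 1)) (L : Fin d → X.Modules)
    (hL : ∀ i, PicF.IsInvertible (L i)) (P : MvPolynomial (Fin d) ℚ)
    (hP : ∀ n : Fin d → ℕ, (Curv2.euler k X (Curv2.tensorPows F d L n) : ℚ) =
      MvPolynomial.eval (fun i => (n i : ℚ)) P) :
    MvPolynomial.coeff (ones d) P = (((-1) ^ d * altF (chi k X) L F : ℤ) : ℚ) := by
  rw [coeff_ones_eq_mixedL' k F hF d hdF L hL P hP]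
  congr 1
  have h := altF_get_eq_mixedL k L (fun m => Curv2.tensorPows F d L m)
    (fun m i => tensorPows_add_single F d L m i) (List.finRange d) 0
  rw [altF_finRange, List.length_finRange] at h
  obtain ⟨e⟩ := tensorPows_zero_iso F d L
  rw [altF_iso (chi k X) (chi_iso k) L e] at h
  rw [h, ← mul_assoc, ← pow_add, ← two_mul, pow_mul]
  simp


section Cartier

variable (D : X.IdealSheafData)

omit [X.Over (Spec (CommRingCat.of k))] [IsProper (X ↘ (Spec (CommRingCat.of k)))] in
theorem epi_toSubscheme : Epi (ClSub.toSubscheme D) := by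
  apply Groth.Agent.Helper4.AcycLocal.epi_of_app_surjective_affine
  intro U hU
  exact D.subschemeι_app_surjective ⟨U, hU⟩

/-- `0 → I_D → O_X → O_D → 0` -/
noncomputable def idealSC : ShortComplex X.Modules :=
  ShortComplex.mk (ClSub.idealModι D) (ClSub.toSubscheme D) (kernel.condition _)

omit [X.Over (Spec (CommRingCat.of k))] [IsProper (X ↘ (Spec (CommRingCat.of k)))] in
theorem idealSC_shortExact : (idealSC D).ShortExact :=
  { exact := ShortComplex.exact_of_f_is_kernel _ (kernelIsKernel _)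
    mono_f := (inferInstance : Mono (ClSub.idealModι D))
    epi_g := epi_toSubscheme D }

/-- S7648 -/
theorem main7648 (e : ℕ) (hX : topologicalKrullDim X = e + 1) (hD : FGA.IsEffCartier D)
    (L : Fin (e + 1) → X.Modules) (hL : ∀ j, PicF.IsInvertible (L j))
    (hLD : ClSub.IsInverseOf (L 0) (ClSub.idealMod D))
    (P : MvPolynomial (Fin (e + 1)) ℚ) (Q : MvPolynomial (Fin e) ℚ)
    (hP : ∀ n : Fin (e + 1) → ℕ,
      (Curv2.euler k X (Curv2.tensorPows (Coh.structureModule X) (e + 1) L n) : ℚ) =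
        MvPolynomial.eval (fun i => (n i : ℚ)) P)
    (hQ : ∀ n : Fin e → ℕ,
      (Curv2.euler k X (Curv2.tensorPows (ClSub.quotMod D) e (fun j => L j.succ) n) : ℚ) =
        MvPolynomial.eval (fun i => (n i : ℚ)) Q) :
    MvPolynomial.coeff (Finsupp.equivFunOnFinite.symm fun _ : Fin (e + 1) => 1) P =
      MvPolynomial.coeff (Finsupp.equivFunOnFinite.symm fun _ : Fin e => 1) Q := by
  haveI := Groth.Agent.Helper4.NApx82.isNoetherian_of_proper k X
  have hXle : topologicalKrullDim X ≤ ((e + 1 : ℕ) : WithBot ℕ∞) := by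
    rw [hX]; push_cast; exact le_refl _
  have hcO : Coh.IsCoh (Coh.structureModule X) :=
    Groth.Agent.Helper1.SerreFin.isCoh_of_isInvertible _ TensorInv.isInvertible_structureModule
  have hcQ : Coh.IsCoh (ClSub.quotMod D) := isCoh_quotMod D
  have hcI : Coh.IsCoh (ClSub.idealMod D) :=
    Groth.Agent.Lead.PerfLib.isCoh_kernel hcO hcQ _
  have hdQ : DimLT (CohB1.support (ClSub.quotMod D)) (e + 1) :=
    (dimLT_support_effCartier D hD e hXle).mono (support_quotMod_subset D)
  have hL' : ∀ j : Fin e, PicF.IsInvertible (L j.succ) := fun j => hL _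
  have hcL0 := Groth.Agent.Helper1.SerreFin.isCoh_of_isInvertible _ (hL 0)
  rw [show (Finsupp.equivFunOnFinite.symm fun _ : Fin (e + 1) => 1) = ones (e + 1) from rfl,
    show (Finsupp.equivFunOnFinite.symm fun _ : Fin e => 1) = ones e from rfl,
    coeff_ones_eq_altF k _ hcO (e + 1) (dimLT_of_dim_le (e + 1) hXle _) L hL P hP,
    coeff_ones_eq_altF k _ hcQ e hdQ _ hL' Q hQ]
  congr 1
  -- the recursion
  rw [altF_succ (chi k X) (chi_iso k) L (Coh.structureModule X)]
  -- the exact sequence twisted by `L 0`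
  have hS' := Groth.Agent.Helper1.TwistExact.shortExact_map_tensorRightMod
    (idealSC_shortExact D) (L 0) (hL 0)
  have hadd := (altF_addFn k (fun j : Fin e => L j.succ) hL').add
    ((idealSC D).map (DCoh.tensorRightMod (L 0))) hS'
    (isCoh_tensorMod _ _ hcI hcL0) (isCoh_tensorMod _ _ hcO hcL0) (isCoh_tensorMod _ _ hcQ hcL0)
  obtain ⟨eLD⟩ := hLD
  have e1 : ((idealSC D).map (DCoh.tensorRightMod (L 0))).X₁ ≅ Coh.structureModule X :=
    braid _ _ ≪≫ eLD
  have e2 : ((idealSC D).map (DCoh.tensorRightMod (L 0))).X₂ ≅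
      CohB1.tensorMod (L 0) (Coh.structureModule X) := braid _ _
  have e3 : ((idealSC D).map (DCoh.tensorRightMod (L 0))).X₃ ≅
      CohB1.tensorMod (L 0) (ClSub.quotMod D) := braid _ _
  rw [altF_iso (chi k X) (chi_iso k) _ e1, altF_iso (chi k X) (chi_iso k) _ e2,
    altF_iso (chi k X) (chi_iso k) _ e3,
    altF_twist_indep k _ hL' (L 0) (hL 0) (ClSub.quotMod D) hcQ hdQ] at hadd
  rw [hadd, pow_succ]
  ring

end Cartier

end Main

end Groth.Agent.Helper4.SN
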