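import Mathlib
import Groth.Agent.Helper4.SN16
import Groth.Agent.Helper9.ClImm1

/-!
# Dévissage with multiplicities: `Φ(F) ≡ Σ_ξ length(F_ξ) Φ(O_{\bar ξ})` modulo lower dimension
-/

set_option autoImplicit false
set_option linter.style.haveILetI false

namespace Groth.Agent.Helper4.SN

open CategoryTheory Limits AlgebraicGeometry Opposite TopologicalSpace
open Groth.Agent.Helper1.Dev Groth.Agent.Helper4.StalkDict

universe u

section Top

variable {T : Type*} [TopologicalSpace T]

/-- the dimension of an irreducible closed subset is its height -/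
theorem topologicalKrullDim_eq_height (S : IrreducibleCloseds T) :
    topologicalKrullDim ↥(S : Set T) = ((Order.height S : ℕ∞) : WithBot ℕ∞) := by
  apply le_antisymm
  · unfold topologicalKrullDim Order.krullDim
    refine iSup_le (fun p => ?_)
    have hcont : Continuous (Subtype.val : ↥(S : Set T) → T) := continuous_subtype_val
    let q : LTSeries (IrreducibleCloseds T) :=
      p.map (IrreducibleCloseds.map Subtype.val hcont)
        (IrreducibleCloseds.map_strictMono_of_isInducing Topology.IsInducing.subtypeVal)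
    have hq : q.last ≤ S := by
      show (closure (Subtype.val '' (p.last : Set ↥(S : Set T))) : Set T) ⊆ S
      refine closure_minimal ?_ S.isClosed
      rintro _ ⟨x, -, rfl⟩
      exact x.2
    have h1 : (q.length : ℕ∞) ≤ Order.height S := Order.length_le_height hq
    have h2 : q.length = p.length := rfl
    rw [h2] at h1
    exact_mod_cast h1
  · have key : ∀ n : ℕ, (n : ℕ∞) ≤ Order.height S →
        ((n : ℕ∞) : WithBot ℕ∞) ≤ topologicalKrullDim ↥(S : Set T) := by
      intro n hn
      obtain ⟨p, hp, hlen⟩ := Order.exists_series_of_le_height S hn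
      have h1 := length_le_dim (Z := (S : Set T)) p (by rw [hp])
      rw [hlen] at h1
      exact_mod_cast h1
    by_cases htop : Order.height S = ⊤
    · rw [htop]
      have h2 : ∀ n : ℕ, ((n : ℕ∞) : WithBot ℕ∞) ≤ topologicalKrullDim ↥(S : Set T) :=
        fun n => key n (by rw [htop]; exact le_top)
      by_contra hcon
      rw [not_le] at hcon
      obtain ⟨c, hc⟩ : ∃ c : ℕ∞, topologicalKrullDim ↥(S : Set T) = (c : WithBot ℕ∞) := by
        cases h : topologicalKrullDim ↥(S : Set T) with
        | bot => exact absurd (h2 0) (by rw [h]; simp)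
        | coe c => exact ⟨c, rfl⟩
      rw [hc] at hcon h2
      have hc' : c < ⊤ := by exact_mod_cast hcon
      obtain ⟨m, rfl⟩ := ENat.ne_top_iff_exists.mp hc'.ne
      have := h2 (m + 1)
      have h3 : ((m + 1 : ℕ) : ℕ∞) ≤ (m : ℕ∞) := by exact_mod_cast this
      have h4 : m + 1 ≤ m := by exact_mod_cast h3
      omega
    · obtain ⟨n, hn⟩ := ENat.ne_top_iff_exists.mp htop
      rw [← hn]
      exact key n (by rw [← hn])

end Top

theorem length_eq_of_semilinear {R S M N : Type*} [CommRing R] [CommRing S]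
    [AddCommGroup M] [Module R M] [AddCommGroup N] [Module S N]
    (φ : R →+* S) (hφ : Function.Surjective φ) (f : M →+ N) (hf : Function.Bijective f)
    (hsemi : ∀ (r : R) (m : M), f (r • m) = φ r • f m) :
    Module.length R M = Module.length S N := by
  haveI : RingHomSurjective φ := ⟨hφ⟩
  let g : M →ₛₗ[φ] N := ⟨⟨f, map_add f⟩, hsemi⟩
  rw [Module.length, Module.length, WithBot.unbot_inj,
    Order.krullDim_eq_of_orderIso (Submodule.orderIsoMapComapOfBijective g hf)]

section Mult

variable {X : Scheme.{u}}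

/-- points whose closure has dimension `d` -/
def TopPt (d : ℕ) (ξ : X) : Prop :=
  topologicalKrullDim ↥(closure ({ξ} : Set X)) = (d : WithBot ℕ∞)

/-- the closure of a point as an irreducible closed subset -/
def irrCl (ξ : X) : IrreducibleCloseds X :=
  ⟨closure {ξ}, isIrreducible_singleton.closure, isClosed_closure⟩

theorem topPt_iff (d : ℕ) (ξ : X) : TopPt d ξ ↔ Order.height (irrCl ξ) = (d : ℕ∞) := by
  unfold TopPt
  have h := topologicalKrullDim_eq_height (irrCl ξ)
  change topologicalKrullDim ↥(closure ({ξ} : Set X)) = _ at h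
  rw [h]
  exact_mod_cast Iff.rfl

/-- the length of the stalk -/
noncomputable def len (F : X.Modules) (ξ : X) : ℕ∞ :=
  Module.length (X.presheaf.stalk ξ) (F.presheaf.stalk ξ)

theorem len_iso {F G : X.Modules} (e : F ≅ G) (ξ : X) : len F ξ = len G ξ :=
  (LinearEquiv.ofBijective (stalkLin e.hom ξ) (stalkLin_bijective_of_isIso e.hom ξ)).length_eq

theorem len_add (S : ShortComplex X.Modules) (hS : S.ShortExact) (ξ : X) :
    len S.X₂ ξ = len S.X₁ ξ + len S.X₃ ξ := by
  haveI := hS.mono_f
  haveI := hS.epi_g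
  exact Module.length_eq_add_of_exact (stalkLin S.f ξ) (stalkLin S.g ξ)
    (StalkExact.stalkLin_injective S.f ξ) (EpiStalk.stalkLin_surjective_of_epi S.g ξ)
    (StalkExact.stalkLin_exact S hS.exact ξ)

theorem len_eq_zero_iff (F : X.Modules) (ξ : X) : len F ξ = 0 ↔ ξ ∉ CohB1.support F := by
  unfold len CohB1.support
  rw [Module.length_eq_zero_iff]
  simp

theorem mem_support_iff (F : X.Modules) (ξ : X) : ξ ∈ CohB1.support F ↔ len F ξ ≠ 0 := by
  rw [Ne, len_eq_zero_iff, not_not]

variable {A : Type*} [AddCommGroup A] (N : AddSubgroup A) (Φ : X.Modules → A) (v : X → A) (d : ℕ)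

open Classical in
/-- the sum over the top-dimensional points -/
noncomputable def Psi (F : X.Modules) : A :=
  ∑ᶠ ξ : X, if TopPt d ξ then (len F ξ).toNat • v ξ else 0

/-- the top-dimensional points of the support -/
def topSupp (F : X.Modules) : Set X := {ξ | TopPt d ξ ∧ ξ ∈ CohB1.support F}

/-- finiteness conditions -/
def FinM (F : X.Modules) : Prop :=
  (topSupp d F).Finite ∧ ∀ ξ, TopPt d ξ → len F ξ ≠ ⊤

/-- the class of modules for which the multiplicity formula holds -/
def KM : ObjectProperty X.Modules := fun F =>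
  FinM d F ∧ Φ F - Psi v d F ∈ N

open Classical in
theorem support_term_subset (F : X.Modules) :
    Function.support (fun ξ : X => if TopPt d ξ then (len F ξ).toNat • v ξ else 0) ⊆
      topSupp d F := by
  intro ξ hξ
  rw [Function.mem_support] at hξ
  by_cases ht : TopPt d ξ
  · rw [if_pos ht] at hξ
    refine ⟨ht, ?_⟩
    by_contra hcon
    rw [← len_eq_zero_iff] at hcon
    rw [hcon] at hξ
    simp at hξ
  · rw [if_neg ht] at hξ
    exact absurd rfl hξ

theorem finM_ses (S : ShortComplex X.Modules) (hS : S.ShortExact) :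
    FinM d S.X₂ ↔ FinM d S.X₁ ∧ FinM d S.X₃ := by
  have hsupp : topSupp d S.X₂ = topSupp d S.X₁ ∪ topSupp d S.X₃ := by
    ext ξ
    simp only [topSupp, Set.mem_setOf_eq, Set.mem_union, mem_support_iff, len_add S hS ξ, Ne,
      add_eq_zero]
    tauto
  constructor
  · rintro ⟨hf, hl⟩
    refine ⟨⟨hf.subset (by rw [hsupp]; exact Set.subset_union_left), fun ξ ht => ?_⟩,
      ⟨hf.subset (by rw [hsupp]; exact Set.subset_union_right), fun ξ ht => ?_⟩⟩
    · have := hl ξ ht
      rw [len_add S hS ξ] at this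
      exact fun h0 => this (by rw [h0, top_add])
    · have := hl ξ ht
      rw [len_add S hS ξ] at this
      exact fun h0 => this (by rw [h0, add_top])
  · rintro ⟨⟨hf1, hl1⟩, ⟨hf3, hl3⟩⟩
    refine ⟨by rw [hsupp]; exact hf1.union hf3, fun ξ ht => ?_⟩
    rw [len_add S hS ξ]
    rw [Ne, ENat.add_eq_top]
    exact fun h0 => h0.elim (hl1 ξ ht) (hl3 ξ ht)

theorem Psi_ses (S : ShortComplex X.Modules) (hS : S.ShortExact) (h1 : FinM d S.X₁)
    (h3 : FinM d S.X₃) : Psi v d S.X₂ = Psi v d S.X₁ + Psi v d S.X₃ := by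
  classical
  unfold Psi
  rw [← finsum_add_distrib (h1.1.subset (support_term_subset v d S.X₁))
    (h3.1.subset (support_term_subset v d S.X₃))]
  refine finsum_congr (fun ξ => ?_)
  by_cases ht : TopPt d ξ
  · rw [if_pos ht, if_pos ht, if_pos ht, len_add S hS ξ,
      ENat.toNat_add (h1.2 ξ ht) (h3.2 ξ ht), add_smul]
  · rw [if_neg ht, if_neg ht, if_neg ht, add_zero]


section Main

variable (hiso : ∀ {F G : X.Modules}, (F ≅ G) → Φ F = Φ G)
  (hadd : ∀ S : ShortComplex X.Modules, S.ShortExact → Coh.IsCoh S.X₁ → Coh.IsCoh S.X₂ →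
    Coh.IsCoh S.X₃ → Φ S.X₂ = Φ S.X₁ + Φ S.X₃)
  (hzero : ∀ F : X.Modules, IsZero F → Φ F = 0)

include hiso hadd hzero in
theorem KM_exactClass : ExactClass (KM N Φ v d) where
  iso := by
    intro F G e hF
    have hsupp : topSupp d G = topSupp d F := by
      unfold topSupp
      rw [support_eq_of_iso e]
    have hlen : ∀ ξ, len G ξ = len F ξ := fun ξ => (len_iso e ξ).symm
    have hPsi : Psi v d G = Psi v d F := by
      classical
      unfold Psi
      exact finsum_congr (fun ξ => by rw [hlen ξ])
    refine ⟨⟨by rw [hsupp]; exact hF.1.1, fun ξ ht => by rw [hlen ξ]; exact hF.1.2 ξ ht⟩, ?_⟩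
    rw [hPsi, ← hiso e]
    exact hF.2
  zero := by
    intro F hF
    have hs : CohB1.support F = ∅ := support_eq_empty_of_isZero F hF
    have hlen : ∀ ξ, len F ξ = 0 := fun ξ => by
      rw [len_eq_zero_iff, hs]; exact Set.notMem_empty ξ
    have hPsi : Psi v d F = 0 := by
      classical
      unfold Psi
      refine finsum_eq_zero_of_forall_eq_zero (fun ξ => ?_)
      rw [hlen ξ]
      simp
    refine ⟨⟨?_, fun ξ _ => by rw [hlen ξ]; exact ENat.zero_ne_top⟩, ?_⟩
    · have : topSupp d F = ∅ := by
        unfold topSupp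
        rw [hs]
        simp
      rw [this]
      exact Set.finite_empty
    · rw [hPsi, hzero F hF, sub_zero]
      exact N.zero_mem
  two_of_three := by
    intro S hS h1 h2 h3
    have hfin := finM_ses d S hS
    have key : FinM d S.X₁ → FinM d S.X₃ →
        Φ S.X₂ - Psi v d S.X₂ = (Φ S.X₁ - Psi v d S.X₁) + (Φ S.X₃ - Psi v d S.X₃) := by
      intro hf1 hf3
      rw [Psi_ses v d S hS hf1 hf3, hadd S hS h1 h2 h3]
      abel
    refine ⟨fun k1 k2 => ?_, fun k1 k3 => ?_, fun k2 k3 => ?_⟩
    · have hf := hfin.mp k2.1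
      refine ⟨hf.2, ?_⟩
      have := key hf.1 hf.2
      have h4 : Φ S.X₃ - Psi v d S.X₃ =
          (Φ S.X₂ - Psi v d S.X₂) - (Φ S.X₁ - Psi v d S.X₁) := by rw [this]; abel
      rw [h4]
      exact N.sub_mem k2.2 k1.2
    · refine ⟨hfin.mpr ⟨k1.1, k3.1⟩, ?_⟩
      rw [key k1.1 k3.1]
      exact N.add_mem k1.2 k3.2
    · have hf := hfin.mp k2.1
      refine ⟨hf.1, ?_⟩
      have := key hf.1 hf.2
      have h4 : Φ S.X₁ - Psi v d S.X₁ =
          (Φ S.X₂ - Psi v d S.X₂) - (Φ S.X₃ - Psi v d S.X₃) := by rw [this]; abel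
      rw [h4]
      exact N.sub_mem k2.2 k3.2


/-- the stalk of `i_* O_Y` at the generic point of an irreducible closed `Y` has length one -/
theorem len_push_generic (Y : Closeds X) (hirr : IsIrreducible (Y : Set X)) (y : X)
    (hy : closure {y} = (Y : Set X)) :
    len ((Scheme.Modules.pushforward (Scheme.IdealSheafData.vanishingIdeal Y).subschemeι).obj
      (Coh.structureModule _)) y = 1 := by
  haveI := isIntegral_subscheme Y hirr
  have hy' := eq_ι_genericPoint Y y hy
  subst hy'
  set ι := (Scheme.IdealSheafData.vanishingIdeal Y).subschemeι with hι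
  set η := genericPoint (Scheme.IdealSheafData.vanishingIdeal Y).subscheme with hη
  unfold len
  rw [length_eq_of_semilinear (ι.stalkMap η).hom (ι.stalkMap_surjective η)
    (Groth.Agent.Lead.PushStalk.psHom ι (Coh.structureModule _) η)
    (Groth.Agent.Lead.PushStalk.psHom_bijective ι _ ι.isClosedEmbedding.isInducing η)
    (fun r m => Groth.Agent.Lead.PushStalk.psHom_smul ι _ η r m)]
  exact Module.length_eq_one_iff.mpr isSimpleModule_stalk_structureModule

include hiso hadd hzero in
/-- **dévissage with multiplicities** -/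
theorem mult_devissage [IsNoetherian X]
    (hsmall : ∀ F : X.Modules, Coh.IsCoh F → DimLT (CohB1.support F) d → Φ F ∈ N)
    (hv : ∀ ξ : X, TopPt d ξ → Φ (ClSub.quotMod (Scheme.IdealSheafData.vanishingIdeal
      (⟨closure ({ξ} : Set X), isClosed_closure⟩ : Closeds X))) - v ξ ∈ N)
    (X' : Closeds X) (hX' : DimLT (X' : Set X) (d + 1))
    (F : X.Modules) (hF : Coh.IsCoh F) (hsupp : CohB1.support F ⊆ (X' : Set X)) :
    KM N Φ v d F := by
  classical
  refine core (KM_exactClass N Φ v d hiso hadd hzero) X' ?_ F hF hsupp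
  intro Y hYX' hirr _
  set G := (Scheme.Modules.pushforward (Scheme.IdealSheafData.vanishingIdeal Y).subschemeι).obj
      (Coh.structureModule _) with hG
  have hcG : Coh.IsCoh G := isCoh_quotMod (Scheme.IdealSheafData.vanishingIdeal Y)
  have hsuppG : CohB1.support G ⊆ (Y : Set X) := by
    rw [← range_ι_vanishingIdeal Y]
    exact support_push_subset _ _
  let S₀ : IrreducibleCloseds X := ⟨Y, hirr, Y.isClosed⟩
  have hS₀ : Order.height S₀ < ((d + 1 : ℕ) : ℕ∞) := hX' S₀ hYX'
  have hS₀' : Order.height S₀ ≤ (d : ℕ∞) := by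
    have : ((d + 1 : ℕ) : ℕ∞) = (d : ℕ∞) + 1 := by push_cast; rfl
    rw [this] at hS₀
    exact Order.le_of_lt_add_one hS₀
  obtain ⟨y, hy⟩ := QuasiSober.sober hirr Y.isClosed
  have hy : closure {y} = (Y : Set X) := hy
  have hle : ∀ ξ ∈ (Y : Set X), irrCl ξ ≤ S₀ := fun ξ hξ =>
    closure_minimal (Set.singleton_subset_iff.mpr hξ) Y.isClosed
  have hlen0 : ∀ ξ, ξ ∉ (Y : Set X) → len G ξ = 0 := fun ξ hξ =>
    (len_eq_zero_iff G ξ).mpr (fun h => hξ (hsuppG h))
  rcases lt_or_eq_of_le hS₀' with hlt | heq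
  · -- small case
    have hnt : ∀ ξ ∈ (Y : Set X), ¬ TopPt d ξ := by
      intro ξ hξ ht
      rw [topPt_iff] at ht
      have := Order.height_mono (hle ξ hξ)
      rw [ht] at this
      exact absurd (lt_of_le_of_lt this hlt) (lt_irrefl _)
    have hterm : ∀ ξ, TopPt d ξ → len G ξ = 0 := fun ξ ht =>
      hlen0 ξ (fun hξ => hnt ξ hξ ht)
    have hPsi : Psi v d G = 0 := by
      unfold Psi
      refine finsum_eq_zero_of_forall_eq_zero (fun ξ => ?_)
      by_cases ht : TopPt d ξ
      · rw [if_pos ht, hterm ξ ht]; simp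
      · rw [if_neg ht]
    refine ⟨⟨?_, fun ξ ht => by rw [hterm ξ ht]; exact ENat.zero_ne_top⟩, ?_⟩
    · have : topSupp d G = ∅ := by
        ext ξ
        simp only [topSupp, Set.mem_setOf_eq, Set.mem_empty_iff_false, iff_false, not_and]
        intro ht hm
        exact hnt ξ (hsuppG hm) ht
      rw [this]
      exact Set.finite_empty
    · rw [hPsi, sub_zero]
      refine hsmall G hcG (fun S hS => ?_)
      have hSle : S ≤ S₀ := hS.trans hsuppG
      exact lt_of_le_of_lt (Order.height_mono hSle) hlt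
  · -- top case
    have hty : TopPt d y := by
      rw [topPt_iff]
      have : irrCl y = S₀ := IrreducibleCloseds.ext hy
      rw [this, heq]
    have huniq : ∀ ξ, TopPt d ξ → ξ ∈ (Y : Set X) → ξ = y := by
      intro ξ ht hξ
      rw [topPt_iff] at ht
      have h1 := hle ξ hξ
      have h2 : irrCl ξ = S₀ := by
        by_contra hne
        have hlt : irrCl ξ < S₀ := lt_of_le_of_ne h1 hne
        have hfin : Order.height (irrCl ξ) < ⊤ := by
          rw [ht]; exact ENat.natCast_lt_top d
        have := Order.height_strictMono hlt hfin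
        rw [ht, heq] at this
        exact lt_irrefl _ this
      have h3 : closure ({ξ} : Set X) = closure {y} := by
        rw [hy]
        exact congrArg (fun S : IrreducibleCloseds X => (S : Set X)) h2
      exact (inseparable_iff_closure_eq.mpr h3).eq
    have hleny : len G y = 1 := len_push_generic Y hirr y hy
    have hlenξ : ∀ ξ, ξ ≠ y → TopPt d ξ → len G ξ = 0 := fun ξ hne ht =>
      hlen0 ξ (fun hξ => hne (huniq ξ ht hξ))
    have hPsi : Psi v d G = v y := by
      unfold Psi
      rw [finsum_eq_single _ y]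
      · rw [if_pos hty, hleny]; simp
      · intro ξ hne
        by_cases ht : TopPt d ξ
        · rw [if_pos ht, hlenξ ξ hne ht]; simp
        · rw [if_neg ht]
    refine ⟨⟨?_, fun ξ ht => ?_⟩, ?_⟩
    · refine (Set.finite_singleton y).subset ?_
      rintro ξ ⟨ht, hm⟩
      exact huniq ξ ht (hsuppG hm)
    · by_cases hne : ξ = y
      · rw [hne, hleny]; exact ENat.one_ne_top
      · rw [hlenξ ξ hne ht]; exact ENat.zero_ne_top
    · rw [hPsi]
      obtain rfl : Y = (⟨closure ({y} : Set X), isClosed_closure⟩ : Closeds X) :=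
        Closeds.ext hy.symm
      exact hv y hty

end Main

end Mult

end Groth.Agent.Helper4.SN
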