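import Mathlib
import Groth.Agent.Helper4.SN17

/-!
# Intersection numbers and multiplicities of components (S7686)
-/

set_option autoImplicit false
set_option linter.style.haveILetI false

namespace Groth.Agent.Helper4.SN

open CategoryTheory Limits AlgebraicGeometry Opposite TopologicalSpace
open Groth.Agent.Helper1.Dev Groth.Agent.Helper4.StalkDict

universe u

variable (k : Type u) [Field k] {X : Scheme.{u}} [X.Over (Spec (CommRingCat.of k))]
  [IsProper (X ↘ (Spec (CommRingCat.of k)))]

theorem dimLT_closure_of_topPt (d : ℕ) (ξ : X) (ht : TopPt d ξ) :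
    DimLT (closure ({ξ} : Set X)) (d + 1) := by
  apply dimLT_of_krullDim_lt
  rw [ht]
  exact_mod_cast Nat.lt_succ_self d

omit [X.Over (Spec (CommRingCat.of k))] [IsProper (X ↘ (Spec (CommRingCat.of k)))] in
theorem support_quotMod_red_subset (ξ : X) :
    CohB1.support (ClSub.quotMod (Scheme.IdealSheafData.vanishingIdeal
      (⟨closure ({ξ} : Set X), isClosed_closure⟩ : Closeds X))) ⊆ closure ({ξ} : Set X) := by
  refine (support_quotMod_subset _).trans ?_
  rw [support_vanishingIdeal]
  exact le_refl _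

/-- S7686 -/
theorem main7686 (D : X.IdealSheafData) (d : ℕ)
    (hD : topologicalKrullDim (D.support : Set X) = d)
    (L : Fin d → X.Modules) (hL : ∀ i, PicF.IsInvertible (L i)) (P : MvPolynomial (Fin d) ℚ)
    (hP : ∀ n : Fin d → ℕ, (Curv2.euler k X (Curv2.tensorPows (ClSub.quotMod D) d L n) : ℚ) =
      MvPolynomial.eval (fun i => (n i : ℚ)) P)
    (Q : X → MvPolynomial (Fin d) ℚ)
    (hQ : ∀ ξ : X, topologicalKrullDim (closure ({ξ} : Set X)) = (d : WithBot ℕ∞) →
      ∀ n : Fin d → ℕ, (Curv2.euler k X (Curv2.tensorPows (ClSub.quotMod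
        (Scheme.IdealSheafData.vanishingIdeal
          (⟨closure ({ξ} : Set X), isClosed_closure⟩ : TopologicalSpace.Closeds X))) d L n) : ℚ) =
        MvPolynomial.eval (fun i => (n i : ℚ)) (Q ξ))
    [DecidablePred fun ξ : X => topologicalKrullDim (closure ({ξ} : Set X)) = (d : WithBot ℕ∞)] :
    MvPolynomial.coeff (Finsupp.equivFunOnFinite.symm fun _ : Fin d => 1) P =
      ∑ᶠ ξ : X, (if topologicalKrullDim (closure ({ξ} : Set X)) = (d : WithBot ℕ∞) then
        ((Module.length (X.presheaf.stalk ξ) ((ClSub.quotMod D).presheaf.stalk ξ)).toNat : ℚ) *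
          MvPolynomial.coeff (Finsupp.equivFunOnFinite.symm fun _ : Fin d => 1) (Q ξ) else 0) := by
  classical
  haveI := Groth.Agent.Helper4.NApx82.isNoetherian_of_proper k X
  let Φ : X.Modules → ℤ := fun F => (-1) ^ d * altF (chi k X) L F
  let v : X → ℤ := fun ξ => Φ (ClSub.quotMod (Scheme.IdealSheafData.vanishingIdeal
      (⟨closure ({ξ} : Set X), isClosed_closure⟩ : Closeds X)))
  have hX' : DimLT ((D.support : Closeds X) : Set X) (d + 1) := by
    apply dimLT_of_krullDim_lt
    rw [hD]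
    exact_mod_cast Nat.lt_succ_self d
  have hiso : ∀ {F G : X.Modules}, (F ≅ G) → Φ F = Φ G := fun e => by
    show (-1) ^ d * _ = (-1) ^ d * _
    rw [altF_iso (chi k X) (chi_iso k) L e]
  have hadd : ∀ S : ShortComplex X.Modules, S.ShortExact → Coh.IsCoh S.X₁ → Coh.IsCoh S.X₂ →
      Coh.IsCoh S.X₃ → Φ S.X₂ = Φ S.X₁ + Φ S.X₃ := fun S hS h1 h2 h3 => by
    show (-1) ^ d * _ = (-1) ^ d * _ + (-1) ^ d * _
    rw [(altF_addFn k L hL).add S hS h1 h2 h3, mul_add]
  have hsmall : ∀ F : X.Modules, Coh.IsCoh F → DimLT (CohB1.support F) d →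
      Φ F ∈ (⊥ : AddSubgroup ℤ) := fun F hF hdim => by
    rw [AddSubgroup.mem_bot]
    show (-1) ^ d * _ = 0
    rw [snapper_vanishing k L hL F hF hdim, mul_zero]
  have hzero : ∀ F : X.Modules, IsZero F → Φ F = 0 := fun F hF => by
    have := hsmall F (isCoh_of_isZero hF) (by
      rw [support_eq_empty_of_isZero F hF]
      intro S hS
      exact absurd (Set.subset_empty_iff.mp hS) S.isIrreducible.nonempty.ne_empty)
    exact AddSubgroup.mem_bot.mp this
  have hK := mult_devissage (⊥ : AddSubgroup ℤ) Φ v d hiso hadd hzero hsmall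
    (fun ξ _ => by rw [AddSubgroup.mem_bot]; exact sub_self _) D.support hX'
    (ClSub.quotMod D) (isCoh_quotMod D) (support_quotMod_subset D)
  obtain ⟨hfin, hmem⟩ := hK
  rw [AddSubgroup.mem_bot, sub_eq_zero] at hmem
  have hdD : DimLT (CohB1.support (ClSub.quotMod D)) (d + 1) :=
    hX'.mono (support_quotMod_subset D)
  have h1 := coeff_ones_eq_altF k (ClSub.quotMod D) (isCoh_quotMod D) d hdD L hL P hP
  change MvPolynomial.coeff (ones d) P = _
  rw [h1]
  change ((Φ (ClSub.quotMod D) : ℤ) : ℚ) = _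
  rw [hmem]
  unfold Psi
  have hc := (Int.castAddHom ℚ).map_finsum
    (hfin.1.subset (support_term_subset v d (ClSub.quotMod D)))
  simp only [Int.coe_castAddHom] at hc
  rw [hc]
  refine finsum_congr (fun ξ => ?_)
  by_cases ht' : topologicalKrullDim (closure ({ξ} : Set X)) = (d : WithBot ℕ∞)
  · have ht : TopPt d ξ := ht'
    rw [if_pos ht, if_pos ht']
    have h2 := coeff_ones_eq_altF k _ (isCoh_quotMod (Scheme.IdealSheafData.vanishingIdeal
      (⟨closure ({ξ} : Set X), isClosed_closure⟩ : Closeds X))) d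
      ((dimLT_closure_of_topPt d ξ ht).mono (support_quotMod_red_subset ξ)) L hL (Q ξ) (hQ ξ ht)
    change MvPolynomial.coeff (ones d) (Q ξ) = _ at h2
    change _ = _ * MvPolynomial.coeff (ones d) (Q ξ)
    rw [h2]
    rw [nsmul_eq_mul, Int.cast_mul, Int.cast_natCast]
    rfl
  · have ht : ¬ TopPt d ξ := ht'
    rw [if_neg ht, if_neg ht']
    simp

end Groth.Agent.Helper4.SN
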