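import Mathlib
import Groth.Agent.Helper4.SN18
import Groth.Agent.Helper4.PullTensor
import Groth.Agent.Helper4.PullSec
import Groth.Agent.Helper1.PF4

/-!
# Euler characteristics of twists modulo lower degree (S7650)
-/

set_option autoImplicit false
set_option linter.style.haveILetI false

namespace Groth.Agent.Helper4.SN

open CategoryTheory Limits AlgebraicGeometry Opposite TopologicalSpace
open Groth.Agent.Helper1.Dev Groth.Agent.Helper4.StalkDict Groth.Agent.Lead.Ref1B

universe u

section TP

variable {X : Scheme.{u}}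

/-- the twisting module `L_0^{n_0} ⊗ ⋯ ⊗ L_{r-1}^{n_{r-1}}` -/
noncomputable abbrev tpO (r : ℕ) (L : Fin r → X.Modules) (n : Fin r → ℕ) : X.Modules :=
  Curv2.tensorPows (Coh.structureModule X) r L n

theorem isInvertible_tpO : ∀ (r : ℕ) (L : Fin r → X.Modules) (_ : ∀ i, PicF.IsInvertible (L i))
    (n : Fin r → ℕ), PicF.IsInvertible (tpO r L n) := by
  intro r
  induction r with
  | zero => intro L _ n; exact TensorInv.isInvertible_structureModule
  | succ r ih =>
    intro L hL n
    exact TensorInv.isInvertible_tensorMod (ih _ (fun i => hL _) _)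
      (TensorInv.isInvertible_tensorPow (hL _) _)

theorem tensorPows_iso_tensor (F : X.Modules) : ∀ (r : ℕ) (L : Fin r → X.Modules)
    (n : Fin r → ℕ), Nonempty (Curv2.tensorPows F r L n ≅ CohB1.tensorMod F (tpO r L n)) := by
  intro r
  induction r with
  | zero => intro L n; exact ⟨(SecTwist.unitorR F).symm⟩
  | succ r ih =>
    intro L n
    obtain ⟨e⟩ := ih (fun i => L i.castSucc) (fun i => n i.castSucc)
    exact ⟨PicGrp.tensorModIso e (Iso.refl _) ≪≫ assoc _ _ _⟩

theorem pull_tpO {Z : Scheme.{u}} (f : Z ⟶ X) : ∀ (r : ℕ) (L : Fin r → X.Modules)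
    (_ : ∀ i, PicF.IsInvertible (L i)) (n : Fin r → ℕ),
    Nonempty ((Scheme.Modules.pullback f).obj (tpO r L n) ≅
      tpO r (fun i => (Scheme.Modules.pullback f).obj (L i)) n) := by
  intro r
  induction r with
  | zero => intro L _ n; exact ⟨PullUnit.pullbackUnitIso f⟩
  | succ r ih =>
    intro L hL n
    obtain ⟨e⟩ := ih (fun i => L i.castSucc) (fun i => hL _) (fun i => n i.castSucc)
    exact ⟨PullTensor.pullTensorIso f (isInvertible_tpO r _ (fun i => hL _) _)
        (TensorInv.isInvertible_tensorPow (hL _) _) ≪≫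
      PicGrp.tensorModIso e (PullTensor.pullPowIso f (hL _) _)⟩

/-- the projection formula for the twists of the structure sheaf of a closed subscheme -/
theorem push_tpO_iso {Z : Scheme.{u}} (f : Z ⟶ X) (r : ℕ) (L : Fin r → X.Modules)
    (hL : ∀ i, PicF.IsInvertible (L i)) (n : Fin r → ℕ) :
    Nonempty ((Scheme.Modules.pushforward f).obj
        (tpO r (fun i => (Scheme.Modules.pullback f).obj (L i)) n) ≅
      Curv2.tensorPows ((Scheme.Modules.pushforward f).obj (Coh.structureModule Z)) r L n) := by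
  obtain ⟨e1⟩ := pull_tpO f r L hL n
  obtain ⟨e2⟩ := tensorPows_iso_tensor ((Scheme.Modules.pushforward f).obj (Coh.structureModule Z))
    r L n
  have e3 := Groth.Agent.Helper1.PF.projIso f (Coh.structureModule Z) (tpO r L n)
    (isInvertible_tpO r L hL n)
  exact ⟨(Scheme.Modules.pushforward f).mapIso (e1.symm ≪≫ (unitorL _).symm) ≪≫ e3.symm ≪≫
    e2.symm⟩

end TP


section Poly

/-- functions on `ℕ^r` given by rational polynomials with all monomials of total degree `< d` -/
def lowPoly (r d : ℕ) : AddSubgroup ((Fin r → ℕ) → ℚ) where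
  carrier := {f | ∃ P : MvPolynomial (Fin r) ℚ, (∀ m ∈ P.support, (m.sum fun _ e => e) < d) ∧
    ∀ n, f n = MvPolynomial.eval (fun i => (n i : ℚ)) P}
  zero_mem' := ⟨0, by simp, fun n => by simp⟩
  add_mem' := by
    rintro f g ⟨P, hP, hf⟩ ⟨Q, hQ, hg⟩
    refine ⟨P + Q, fun m hm => ?_, fun n => by simp [hf n, hg n]⟩
    rcases Finset.mem_union.mp (MvPolynomial.support_add hm) with h | h
    exacts [hP m h, hQ m h]
  neg_mem' := by
    rintro f ⟨P, hP, hf⟩
    exact ⟨-P, fun m hm => hP m (by rwa [MvPolynomial.support_neg] at hm),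
      fun n => by simp [hf n]⟩

end Poly

variable (k : Type u) [Field k] {X : Scheme.{u}} [X.Over (Spec (CommRingCat.of k))]
  [IsProper (X ↘ (Spec (CommRingCat.of k)))]

/-- the Euler characteristic of the twists of `F` as a function of the exponents -/
noncomputable def chiFn (r : ℕ) (L : Fin r → X.Modules) (F : X.Modules) : (Fin r → ℕ) → ℚ :=
  fun n => ((Curv2.euler k X (Curv2.tensorPows F r L n) : ℤ) : ℚ)

omit [IsProper (X ↘ (Spec (CommRingCat.of k)))] in
theorem chiFn_eq (r : ℕ) (L : Fin r → X.Modules) (F : X.Modules) (n : Fin r → ℕ) :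
    chiFn k r L F n = ((chiT k (tpO r L n) F : ℤ) : ℚ) := by
  obtain ⟨e⟩ := tensorPows_iso_tensor F r L n
  unfold chiFn chiT
  rw [show Curv2.euler k X (Curv2.tensorPows F r L n) = chi k X (Curv2.tensorPows F r L n) from rfl,
    chi_iso k (e ≪≫ braid _ _)]

/-- S7650 -/
theorem main7650 (F : X.Modules) (hF : Coh.IsCoh F) (d : ℕ)
    (hd : topologicalKrullDim (CohB1.support F) = d)
    (r : ℕ) (L : Fin r → X.Modules) (hL : ∀ i, PicF.IsInvertible (L i))
    [DecidablePred fun ξ : X => topologicalKrullDim (closure ({ξ} : Set X)) = (d : WithBot ℕ∞)] :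
    ∃ P : MvPolynomial (Fin r) ℚ, (∀ m ∈ P.support, (m.sum fun _ e => e) < d) ∧
      ∀ n : Fin r → ℕ,
        (Curv2.euler k X (Curv2.tensorPows F r L n) : ℚ) -
          ∑ᶠ ξ : X, (if topologicalKrullDim (closure ({ξ} : Set X)) = (d : WithBot ℕ∞) then
            ((Module.length (X.presheaf.stalk ξ) (F.presheaf.stalk ξ)).toNat : ℚ) *
              (@Curv2.euler k _
                (Scheme.IdealSheafData.vanishingIdeal (⟨closure ({ξ} : Set X), isClosed_closure⟩ : TopologicalSpace.Closeds X)).subscheme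
                ⟨(Scheme.IdealSheafData.vanishingIdeal (⟨closure ({ξ} : Set X), isClosed_closure⟩ : TopologicalSpace.Closeds X)).subschemeι ≫ (X ↘ (Spec (CommRingCat.of k)))⟩
                (Curv2.tensorPows
                  (Coh.structureModule (Scheme.IdealSheafData.vanishingIdeal (⟨closure ({ξ} : Set X), isClosed_closure⟩ : TopologicalSpace.Closeds X)).subscheme)
                  r (fun i => (Scheme.Modules.pullback
                    (Scheme.IdealSheafData.vanishingIdeal (⟨closure ({ξ} : Set X), isClosed_closure⟩ : TopologicalSpace.Closeds X)).subschemeι).obj (L i)) n) : ℚ)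
            else 0)
          = MvPolynomial.eval (fun i => (n i : ℚ)) P := by
  classical
  haveI := Groth.Agent.Helper4.NApx82.isNoetherian_of_proper k X
  let Φ : X.Modules → ((Fin r → ℕ) → ℚ) := chiFn k r L
  let v : X → ((Fin r → ℕ) → ℚ) := fun ξ n =>
    ((@Curv2.euler k _
      (Scheme.IdealSheafData.vanishingIdeal (⟨closure ({ξ} : Set X), isClosed_closure⟩ : TopologicalSpace.Closeds X)).subscheme
      ⟨(Scheme.IdealSheafData.vanishingIdeal (⟨closure ({ξ} : Set X), isClosed_closure⟩ : TopologicalSpace.Closeds X)).subschemeι ≫ (X ↘ (Spec (CommRingCat.of k)))⟩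
      (Curv2.tensorPows
        (Coh.structureModule (Scheme.IdealSheafData.vanishingIdeal (⟨closure ({ξ} : Set X), isClosed_closure⟩ : TopologicalSpace.Closeds X)).subscheme)
        r (fun i => (Scheme.Modules.pullback
          (Scheme.IdealSheafData.vanishingIdeal (⟨closure ({ξ} : Set X), isClosed_closure⟩ : TopologicalSpace.Closeds X)).subschemeι).obj (L i)) n) : ℤ) : ℚ)
  have hcl : IsClosed (CohB1.support F) := Groth.Agent.S0020.result _ _ hF.2
  have hX' : DimLT ((⟨CohB1.support F, hcl⟩ : Closeds X) : Set X) (d + 1) := by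
    apply dimLT_of_krullDim_lt
    show topologicalKrullDim (CohB1.support F) < _
    rw [hd]
    exact_mod_cast Nat.lt_succ_self d
  have hiso : ∀ {F G : X.Modules}, (F ≅ G) → Φ F = Φ G := fun {F G} e => by
    funext n
    show chiFn k r L F n = chiFn k r L G n
    rw [chiFn_eq, chiFn_eq, chiT_iso k _ e]
  have hadd : ∀ S : ShortComplex X.Modules, S.ShortExact → Coh.IsCoh S.X₁ → Coh.IsCoh S.X₂ →
      Coh.IsCoh S.X₃ → Φ S.X₂ = Φ S.X₁ + Φ S.X₃ := fun S hS h1 h2 h3 => by
    funext n
    show chiFn k r L S.X₂ n = chiFn k r L S.X₁ n + chiFn k r L S.X₃ n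
    rw [chiFn_eq, chiFn_eq, chiFn_eq, chiT_add k _ (isInvertible_tpO r L hL n) S hS h1 h2 h3]
    push_cast
    rfl
  have hzero : ∀ F : X.Modules, IsZero F → Φ F = 0 := fun F hF => by
    funext n
    show chiFn k r L F n = 0
    rw [chiFn_eq, chiT_of_isZero k _ hF]
    simp
  have hsmall : ∀ F : X.Modules, Coh.IsCoh F → DimLT (CohB1.support F) d →
      Φ F ∈ lowPoly r d := fun F hF hdim => by
    rcases Nat.eq_zero_or_pos d with hd0 | hdpos
    · -- `d = 0`: the module is zero
      have hcl : IsClosed (CohB1.support F) := Groth.Agent.S0020.result _ _ hF.2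
      have hempty : CohB1.support F = ∅ := by
        by_contra hne
        obtain ⟨x, hx⟩ := Set.nonempty_iff_ne_empty.mpr hne
        have := hdim (irrCl x) (closure_minimal (Set.singleton_subset_iff.mpr hx) hcl)
        rw [hd0] at this
        simp at this
      rw [hzero F (isZero_of_support_eq_empty F hempty)]
      exact (lowPoly r d).zero_mem
    · obtain ⟨d', rfl⟩ : ∃ d', d = d' + 1 := ⟨d - 1, by omega⟩
      obtain ⟨P, hdeg, hP⟩ := main1528' k F hF d' hdim r L hL
      refine ⟨P, fun m hm => ?_, fun n => hP n⟩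
      exact Nat.lt_succ_of_le ((MvPolynomial.le_totalDegree hm).trans hdeg)
  have hv : ∀ ξ : X, TopPt d ξ → Φ (ClSub.quotMod (Scheme.IdealSheafData.vanishingIdeal
      (⟨closure ({ξ} : Set X), isClosed_closure⟩ : Closeds X))) - v ξ ∈ lowPoly r d := by
    intro ξ _
    have : Φ (ClSub.quotMod (Scheme.IdealSheafData.vanishingIdeal
      (⟨closure ({ξ} : Set X), isClosed_closure⟩ : Closeds X))) = v ξ := by
      funext n
      set ι := (Scheme.IdealSheafData.vanishingIdeal
        (⟨closure ({ξ} : Set X), isClosed_closure⟩ : Closeds X)).subschemeι with hι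
      obtain ⟨e⟩ := push_tpO_iso ι r L hL n
      show ((Curv2.euler k X _ : ℤ) : ℚ) = ((_ : ℤ) : ℚ)
      congr 1
      haveI : Coh.IsQCoh (tpO r (fun i => (Scheme.Modules.pullback ι).obj (L i)) n) :=
        (Groth.Agent.Helper1.SerreFin.isCoh_of_isInvertible _
          (isInvertible_tpO r _ (fun i => PullSec.isInvertible_pullback ι (hL i)) n)).1
      rw [euler_push k ι]
      exact (chi_iso k e).symm
    rw [this, sub_self]
    exact (lowPoly r d).zero_mem
  obtain ⟨hfin, P, hPdeg, hP⟩ := mult_devissage (lowPoly r d) Φ v d hiso hadd hzero hsmall hv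
    ⟨CohB1.support F, hcl⟩ hX' F hF (le_refl _)
  refine ⟨P, hPdeg, fun n => ?_⟩
  rw [← hP n]
  show _ = Φ F n - (Psi v d F) n
  unfold Psi
  have hc := (Pi.evalAddMonoidHom (fun _ : Fin r → ℕ => ℚ) n).map_finsum
    (hfin.1.subset (support_term_subset v d F))
  simp only [Pi.evalAddMonoidHom_apply] at hc
  rw [hc]
  congr 1
  refine finsum_congr (fun ξ => ?_)
  by_cases ht' : topologicalKrullDim (closure ({ξ} : Set X)) = (d : WithBot ℕ∞)
  · have ht : TopPt d ξ := ht'
    rw [if_pos ht, if_pos ht']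
    simp only [Pi.smul_apply, nsmul_eq_mul]
    rfl
  · have ht : ¬ TopPt d ξ := ht'
    rw [if_neg ht, if_neg ht']
    rfl

end Groth.Agent.Helper4.SN
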