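import Mathlib
import Groth.Agent.Helper4.SN19

/-!
# Intersection numbers `FGA.intNum` and the multiplicity formula (S14521)
-/

set_option autoImplicit false
set_option linter.style.haveILetI false

namespace Groth.Agent.Helper4.SN

open CategoryTheory Limits AlgebraicGeometry Opposite TopologicalSpace
open Groth.Agent.Helper1.Dev Groth.Agent.Helper4.StalkDict Groth.Agent.Lead.Ref1B

universe u

variable (k : Type u) [Field k] {X : Scheme.{u}} [X.Over (Spec (CommRingCat.of k))]
  [IsProper (X ↘ (Spec (CommRingCat.of k)))]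

/-- the multiplicity formula for the alternating sums -/
theorem altF_eq_finsum {r : ℕ} (M : Fin r → X.Modules) (hM : ∀ i, PicF.IsInvertible (M i))
    (F : X.Modules) (hF : Coh.IsCoh F) (X' : Closeds X) (hX' : DimLT (X' : Set X) (r + 1))
    (hsupp : CohB1.support F ⊆ (X' : Set X)) :
    FinM r F ∧ altF (chi k X) M F =
      Psi (fun ξ => altF (chi k X) M (ClSub.quotMod (Scheme.IdealSheafData.vanishingIdeal
        (⟨closure ({ξ} : Set X), isClosed_closure⟩ : Closeds X)))) r F := by
  haveI := Groth.Agent.Helper4.NApx82.isNoetherian_of_proper k X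
  have hsmall : ∀ F : X.Modules, Coh.IsCoh F → DimLT (CohB1.support F) r →
      altF (chi k X) M F ∈ (⊥ : AddSubgroup ℤ) := fun F hF hdim => by
    rw [AddSubgroup.mem_bot]
    exact snapper_vanishing k M hM F hF hdim
  have hzero : ∀ F : X.Modules, IsZero F → altF (chi k X) M F = 0 := fun F hF => by
    have := hsmall F (isCoh_of_isZero hF) (by
      rw [support_eq_empty_of_isZero F hF]
      intro S hS
      exact absurd (Set.subset_empty_iff.mp hS) S.isIrreducible.nonempty.ne_empty)
    exact AddSubgroup.mem_bot.mp this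
  have hK := mult_devissage (⊥ : AddSubgroup ℤ) (altF (chi k X) M)
    (fun ξ => altF (chi k X) M (ClSub.quotMod (Scheme.IdealSheafData.vanishingIdeal
        (⟨closure ({ξ} : Set X), isClosed_closure⟩ : Closeds X)))) r
    (fun e => altF_iso (chi k X) (chi_iso k) M e)
    (fun S hS h1 h2 h3 => (altF_addFn k M hM).add S hS h1 h2 h3) hzero hsmall
    (fun ξ _ => by rw [AddSubgroup.mem_bot]; exact sub_self _) X' hX' F hF hsupp
  obtain ⟨hfin, hmem⟩ := hK
  rw [AddSubgroup.mem_bot, sub_eq_zero] at hmem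
  exact ⟨hfin, hmem⟩

/-- S14521 -/
theorem main14521 (d : ℕ) (hd : topologicalKrullDim X ≤ d)
    {r : ℕ} (M : Fin r → X.Modules) (hM : ∀ i, PicF.IsInvertible (M i))
    (F : X.Modules) (hF : Coh.IsCoh F) (hsupp : topologicalKrullDim ↥(CohB1.support F) ≤ r)
    (s : Finset X) (hs : ∀ ξ : X, ξ ∈ s ↔ ξ ∈ CohB1.support F ∧
      topologicalKrullDim ↥(closure ({ξ} : Set X)) = r) :
    FGA.intNum k X d M F =
      ∑ ξ ∈ s, ((Module.length (X.presheaf.stalk ξ) (F.presheaf.stalk ξ)).toNat : ℤ) *
        FGA.intNum k X d M (ClSub.quotMod (Scheme.IdealSheafData.vanishingIdeal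
          ⟨closure ({ξ} : Set X), isClosed_closure⟩)) := by
  classical
  have hcl : IsClosed (CohB1.support F) := Groth.Agent.S0020.result _ _ hF.2
  have hX' : DimLT ((⟨CohB1.support F, hcl⟩ : Closeds X) : Set X) (r + 1) := by
    apply dimLT_of_krullDim_lt
    show topologicalKrullDim (CohB1.support F) < _
    refine lt_of_le_of_lt hsupp ?_
    exact_mod_cast Nat.lt_succ_self r
  obtain ⟨hfin, hmem⟩ := altF_eq_finsum k M hM F hF ⟨CohB1.support F, hcl⟩ hX' (le_refl _)
  rw [intNum_eq_altF k d hd, hmem]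
  unfold Psi
  have hsub : (Function.support fun ξ : X => if TopPt r ξ then (len F ξ).toNat •
      altF (chi k X) M (ClSub.quotMod (Scheme.IdealSheafData.vanishingIdeal
        (⟨closure ({ξ} : Set X), isClosed_closure⟩ : Closeds X))) else 0) ⊆ ↑s := by
    refine (support_term_subset _ r F).trans ?_
    rintro ξ ⟨ht, hm⟩
    exact (hs ξ).mpr ⟨hm, ht⟩
  rw [finsum_eq_sum_of_support_subset _ hsub]
  refine Finset.sum_congr rfl (fun ξ hξ => ?_)
  have ht : TopPt r ξ := ((hs ξ).mp hξ).2
  rw [if_pos ht, intNum_eq_altF k d hd, nsmul_eq_mul]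
  rfl

end Groth.Agent.Helper4.SN
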