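import Mathlib
import Groth.Agent.Helper4.AssDict
import Groth.Agent.Helper4.SuppDict

set_option autoImplicit false
universe u
open CategoryTheory CategoryTheory.Limits AlgebraicGeometry TopologicalSpace Opposite Submodule

namespace Groth.Agent.Helper4.AssRes
open Groth.Agent.Helper4.StalkDict Groth.Agent.Helper4

variable {X : Scheme.{u}}

/-- a section (over any open `W`) whose germs vanish at all associated points in `W` is zero. -/
theorem section_eq_zero_of_germ_assPoint (F : X.Modules) [F.IsQuasicoherent] (W : X.Opens)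
    (s : Γ(F, W))
    (h : ∀ y (hy : y ∈ W), Curv2.IsAssPoint F y → F.presheaf.germ W y hy s = 0) : s = 0 := by
  apply AssDict.section_eq_zero_of_germ
  intro x hxW
  obtain ⟨_, ⟨V, hV : IsAffineOpen V, rfl⟩, hxV, hVW⟩ :=
    X.isBasis_affineOpens.exists_subset_of_mem_open hxW W.isOpen
  have hVW' : V ≤ W := hVW
  set m : Γ(F, V) := F.presheaf.map (homOfLE hVW').op s with hm
  have hg : ∀ y (hy : y ∈ V), F.presheaf.germ V y hy m = F.presheaf.germ W y (hVW' hy) s :=
    fun y hy => TopCat.Presheaf.germ_res_apply F.presheaf (homOfLE hVW') y hy s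
  rw [← hg x hxV]
  by_contra hne
  have hle := not_not.mp ((not_congr (AssDict.germ_eq_zero_iff hV F x hxV m)).mp hne)
  obtain ⟨y, hyV, hass, hmin, -⟩ := AssDict.exists_isAssPoint_le hV F m _ hle
  have h0 := h y (hVW' hyV) hass
  rw [← hg y hyV, AssDict.germ_eq_zero_iff hV F y hyV m] at h0
  exact h0 hmin.1.2

theorem restrict_injective_of_assPoints_subset (F : X.Modules) [F.IsQuasicoherent] (U : X.Opens)
    (hU : ∀ x : X, Curv2.IsAssPoint F x → x ∈ U) :
    Function.Injective (F.presheaf.map (homOfLE (le_top : U ≤ ⊤)).op) := by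
  rw [injective_iff_map_eq_zero]
  intro s hs
  apply section_eq_zero_of_germ_assPoint
  intro y hy hass
  have hyU : y ∈ U := hU y hass
  have := TopCat.Presheaf.germ_res_apply F.presheaf (homOfLE (le_top : U ≤ ⊤)) y hyU s
  rw [← this, hs, map_zero]

end Groth.Agent.Helper4.AssRes
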