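import Mathlib
import Groth.Agent.Helper4.SN20
import Groth.Agent.Helper4.InvOfTensor
import Groth.Agent.Helper5.RedDense
import Groth.Agent.Lead.FlatLib1

/-!
# Supports of twists, multilinearity and inverses for the alternating sums
-/

set_option autoImplicit false
set_option linter.style.haveILetI false

namespace Groth.Agent.Helper4.SN

open CategoryTheory Limits AlgebraicGeometry Opposite TopologicalSpace
open Groth.Agent.Helper1.Dev Groth.Agent.Helper4.StalkDict Groth.Agent.Lead.Ref1B

universe u

section Supp

variable {X : Scheme.{u}}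

/-- modules with isomorphic restrictions to `U` have simultaneously vanishing stalks on `U` -/
theorem subsingleton_stalk_of_restrict_iso {A B : X.Modules} (U : X.Opens)
    (e : A.restrict U.ι ≅ B.restrict U.ι) (x : X) (hx : x ∈ U)
    (h : Subsingleton (A.presheaf.stalk x)) : Subsingleton (B.presheaf.stalk x) := by
  have h0 : Subsingleton (A.presheaf.stalk (U.ι ⟨x, hx⟩)) := h
  have h1 : Subsingleton ((A.restrict U.ι).presheaf.stalk (⟨x, hx⟩ : U)) :=
    (Groth.Agent.Lead.FlatLib.rsHom_bijective U.ι A ⟨x, hx⟩).1.subsingleton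
  have h2 : Subsingleton ((B.restrict U.ι).presheaf.stalk (⟨x, hx⟩ : U)) :=
    (stalkLin_bijective_of_isIso e.inv ⟨x, hx⟩).1.subsingleton
  exact (Groth.Agent.Lead.FlatLib.rsHom_bijective U.ι B ⟨x, hx⟩).2.subsingleton

theorem support_tensorMod_eq (L G : X.Modules) (hL : PicF.IsInvertible L) :
    CohB1.support (CohB1.tensorMod L G) = CohB1.support G := by
  refine Set.Subset.antisymm (support_tensorMod_subset L G) ?_
  intro x hx hcon
  apply hx
  obtain ⟨U, hxU, ⟨e₀⟩⟩ := hL x
  exact subsingleton_stalk_of_restrict_iso U (restrictTensorIso L G U e₀).symm x hxU hcon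

theorem support_tensorMod_eq_left (G L : X.Modules) (hL : PicF.IsInvertible L) :
    CohB1.support (CohB1.tensorMod G L) = CohB1.support G := by
  rw [support_eq_of_iso (braid G L)]
  exact support_tensorMod_eq L G hL

theorem support_quotMod_eq (J : X.IdealSheafData) :
    CohB1.support (ClSub.quotMod J) = (J.support : Set X) := by
  refine Set.Subset.antisymm (support_quotMod_subset J) ?_
  intro x hx
  rw [← Scheme.IdealSheafData.range_subschemeι] at hx
  obtain ⟨z, rfl⟩ := hx
  intro hcon
  have h1 : Subsingleton ((Coh.structureModule J.subscheme).presheaf.stalk z) :=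
    (Groth.Agent.Lead.PushStalk.psHom_bijective J.subschemeι (Coh.structureModule J.subscheme)
      J.subschemeι.isClosedEmbedding.isInducing z).2.subsingleton
  exact Groth.Agent.Helper5.RedDense.mem_support_structureModule J.subscheme z h1

end Supp

variable (k : Type u) [Field k] {X : Scheme.{u}} [X.Over (Spec (CommRingCat.of k))]
  [IsProper (X ↘ (Spec (CommRingCat.of k)))]

/-- homogeneity of the alternating sums in the first entry -/
theorem altF_cons_pow {r : ℕ} (A : X.Modules) (hA : PicF.IsInvertible A) (R : Fin r → X.Modules)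
    (hR : ∀ i, PicF.IsInvertible (R i)) (F : X.Modules) (hF : Coh.IsCoh F)
    (hdim : DimLT (CohB1.support F) (r + 1 + 1)) (m : ℕ) :
    altF (chi k X) (Fin.cons (CohB1.tensorPow A m) R : Fin (r + 1) → X.Modules) F =
      m * altF (chi k X) (Fin.cons A R : Fin (r + 1) → X.Modules) F := by
  induction m with
  | zero =>
    rw [altF_cons]
    show altF (chi k X) R F - altF (chi k X) R (CohB1.tensorMod (Coh.structureModule X) F) = _
    rw [altF_iso (chi k X) (chi_iso k) R (unitorL F)]
    simp
  | succ m ih =>
    have hAm := TensorInv.isInvertible_tensorPow hA m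
    have hcF : Coh.IsCoh (CohB1.tensorMod (CohB1.tensorPow A m) F) :=
      isCoh_tensorMod _ _ (Groth.Agent.Helper1.SerreFin.isCoh_of_isInvertible _ hAm) hF
    have h1 := altF_twist_indep k (Fin.cons A R : Fin (r + 1) → X.Modules)
      (fun i => by
        refine Fin.cases ?_ (fun j => ?_) i
        · simpa using hA
        · simpa using hR j) (CohB1.tensorPow A m) hAm F hF hdim
    rw [altF_cons, altF_cons] at h1
    have hX := altF_cons k A R F
    rw [hX] at ih ⊢
    rw [altF_cons] at ih
    rw [altF_cons]
    show altF (chi k X) R F - altF (chi k X) R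
      (CohB1.tensorMod (CohB1.tensorMod (CohB1.tensorPow A m) A) F) = _
    have e : CohB1.tensorMod (CohB1.tensorMod (CohB1.tensorPow A m) A) F ≅
        CohB1.tensorMod A (CohB1.tensorMod (CohB1.tensorPow A m) F) :=
      PicGrp.tensorModIso (braid _ _) (Iso.refl F) ≪≫ assoc _ _ _
    rw [altF_iso (chi k X) (chi_iso k) R e]
    push_cast
    linear_combination ih + h1

/-- the tensor product of a family -/
noncomputable def tAll : (r : ℕ) → (Fin r → X.Modules) → X.Modules
  | 0, _ => Coh.structureModule X
  | r + 1, M => CohB1.tensorMod (M 0) (tAll r (fun i => M i.succ))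

omit [X.Over (Spec (CommRingCat.of k))] [IsProper (X ↘ (Spec (CommRingCat.of k)))] in
theorem isInvertible_tAll : ∀ (r : ℕ) (M : Fin r → X.Modules) (_ : ∀ i, PicF.IsInvertible (M i)),
    PicF.IsInvertible (tAll r M) := by
  intro r
  induction r with
  | zero => intro M _; exact TensorInv.isInvertible_structureModule
  | succ r ih =>
    intro M hM
    exact TensorInv.isInvertible_tensorMod (hM 0) (ih _ (fun i => hM i.succ))

omit [IsProper (X ↘ (Spec (CommRingCat.of k)))] in
/-- passing to the inverses in the alternating sums -/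
theorem altF_inverse_aux : ∀ (r : ℕ) (L M : Fin r → X.Modules)
    (_ : ∀ i, Nonempty (CohB1.tensorMod (L i) (M i) ≅ Coh.structureModule X)) (F : X.Modules),
    altF (chi k X) M F = (-1) ^ r * altF (chi k X) L (CohB1.tensorMod (tAll r M) F) := by
  intro r
  induction r with
  | zero =>
    intro L M _ F
    rw [Subsingleton.elim M L, pow_zero, one_mul]
    exact (altF_iso (chi k X) (chi_iso k) L (unitorL F)).symm
  | succ r ih =>
    intro L M h F
    obtain ⟨e0⟩ := h 0
    rw [altF_succ (chi k X) (chi_iso k) M F,
      ih (fun i => L i.succ) (fun i => M i.succ) (fun i => h i.succ) F,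
      ih (fun i => L i.succ) (fun i => M i.succ) (fun i => h i.succ) (CohB1.tensorMod (M 0) F),
      altF_succ (chi k X) (chi_iso k) L]
    set T' := tAll r (fun i => M i.succ) with hT'
    show _ = (-1) ^ (r + 1) * (altF (chi k X) (fun i => L i.succ)
        (CohB1.tensorMod (CohB1.tensorMod (M 0) T') F) -
      altF (chi k X) (fun i => L i.succ)
        (CohB1.tensorMod (L 0) (CohB1.tensorMod (CohB1.tensorMod (M 0) T') F)))
    have e1 : CohB1.tensorMod (CohB1.tensorMod (M 0) T') F ≅
        CohB1.tensorMod T' (CohB1.tensorMod (M 0) F) :=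
      PicGrp.tensorModIso (braid _ _) (Iso.refl F) ≪≫ assoc _ _ _
    have e2 : CohB1.tensorMod (L 0) (CohB1.tensorMod (CohB1.tensorMod (M 0) T') F) ≅
        CohB1.tensorMod T' F :=
      (assoc _ _ _).symm ≪≫ PicGrp.tensorModIso ((assoc _ _ _).symm ≪≫
        PicGrp.tensorModIso e0 (Iso.refl T') ≪≫ unitorL T') (Iso.refl F)
    rw [altF_iso (chi k X) (chi_iso k) _ e1, altF_iso (chi k X) (chi_iso k) _ e2]
    ring

/-- the alternating sum in the inverses computes the intersection number up to sign -/
theorem altF_inverse {r : ℕ} (L M : Fin r → X.Modules) (hL : ∀ i, PicF.IsInvertible (L i))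
    (h : ∀ i, Nonempty (CohB1.tensorMod (L i) (M i) ≅ Coh.structureModule X)) (F : X.Modules)
    (hF : Coh.IsCoh F) (hdim : DimLT (CohB1.support F) (r + 1)) :
    altF (chi k X) M F = (-1) ^ r * altF (chi k X) L F := by
  have hM : ∀ i, PicF.IsInvertible (M i) := fun i => by
    obtain ⟨e⟩ := h i
    exact Groth.Agent.Helper4.InvOfTensor.isInvertible_of_tensor_iso (M i) (L i)
      (braid _ _ ≪≫ e)
  rw [altF_inverse_aux k r L M h F,
    altF_twist_indep k L hL (tAll r M) (isInvertible_tAll r M hM) F hF hdim]

end Groth.Agent.Helper4.SN
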