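import Mathlib
import Groth.Agent.Helper4.SN21
import Groth.Agent.Helper4.NApx81
import Groth.Agent.Helper4.GenTwistMain

/-!
# Sections of powers of an ample module vanishing along a proper closed subset
-/

set_option autoImplicit false
set_option linter.style.haveILetI false

namespace Groth.Agent.Helper4.SN

open CategoryTheory Limits AlgebraicGeometry Opposite TopologicalSpace
open Groth.Agent.Helper1.Dev Groth.Agent.Helper4.StalkDict Groth.Agent.Lead.Ref1B

universe u

variable {Z : Scheme.{u}}

/-- a globally generated module which is not zero has a nonzero global section -/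
theorem exists_section_ne_zero (G : Z.Modules) (hG : Curv2.IsGloballyGenerated G)
    (hne : (CohB1.support G).Nonempty) : ∃ t : Coh.structureModule Z ⟶ G, t ≠ 0 := by
  obtain ⟨ι', p, hp⟩ := hG
  by_contra hcon
  push Not at hcon
  let P : Z.Modules := SheafOfModules.free ι'
  let p' : P ⟶ G := p
  haveI : Epi p' := hp
  have key : ∀ (Q : Z.Modules) (g : G ⟶ Q), g = 0 := by
    intro Q g
    have h1 : p' ≫ g = p' ≫ (0 : G ⟶ Q) := by
      apply (SheafOfModules.freeHomEquiv _).injective
      funext i
      let σ : Coh.structureModule Z ⟶ G := SheafOfModules.ιFree i ≫ p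
      have hσ : σ = 0 := hcon σ
      have e1 : σ ≫ g = σ ≫ (0 : G ⟶ Q) := by rw [hσ, zero_comp, zero_comp]
      have a : SheafOfModules.ιFree i ≫ (p' ≫ g) = σ ≫ g := (Category.assoc _ _ _).symm
      have b : SheafOfModules.ιFree i ≫ (p' ≫ (0 : G ⟶ Q)) = σ ≫ (0 : G ⟶ Q) :=
        (Category.assoc _ _ _).symm
      exact congrArg (SheafOfModules.unitHomEquiv _) (a.trans (e1.trans b.symm))
    exact (cancel_epi p').mp h1
  have hz : IsZero G := (IsZero.iff_id_eq_zero G).mpr (key G (𝟙 G))
  rw [support_eq_empty_of_isZero G hz] at hne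
  exact Set.not_nonempty_empty hne

variable [IsIntegral Z] [IsNoetherian Z]

/-- a section of a power of an ample module vanishing along a proper closed subset -/
theorem exists_section_vanishing (L : Z.Modules) (hL : CohB1.IsAmple L) (T : Closeds Z)
    (hT : (T : Set Z) ≠ Set.univ) :
    ∃ (m : ℕ) (s : Coh.structureModule Z ⟶ CohB1.tensorPow L (m + 1)), Mono s ∧
      (∀ z ∈ (T : Set Z), z ∈ CohB1.support (cokernel s)) ∧
      genericPoint Z ∉ CohB1.support (cokernel s) := by
  set J := Scheme.IdealSheafData.vanishingIdeal T with hJ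
  have hJsupp : (J.support : Set Z) = T := support_vanishingIdeal T
  have hS := idealSC_shortExact J
  have hQ : Coh.IsCoh (ClSub.quotMod J) := isCoh_quotMod J
  have hO : Coh.IsCoh (Coh.structureModule Z) := isCoh_structureModule Z
  have hI : Coh.IsCoh (ClSub.idealMod J) :=
    Groth.Agent.Lead.PerfLib.isCoh_kernel hO hQ (ClSub.toSubscheme J)
  haveI : (ClSub.idealMod J).IsQuasicoherent := hI.1
  -- the generic point is not in `T`
  have hη : genericPoint Z ∉ (T : Set Z) := by
    intro h
    apply hT
    rw [Set.eq_univ_iff_forall]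
    intro z
    have h1 : closure ({genericPoint Z} : Set Z) = Set.univ := (genericPoint_spec Z).def
    have h2 : closure ({genericPoint Z} : Set Z) ⊆ (T : Set Z) :=
      closure_minimal (Set.singleton_subset_iff.mpr h) T.isClosed
    exact h2 (by rw [h1]; trivial)
  have hηI : genericPoint Z ∈ CohB1.support (ClSub.idealMod J) := by
    have h1 := support_subset_union (idealSC J) hS
      (Groth.Agent.Helper5.RedDense.mem_support_structureModule Z (genericPoint Z))
    rcases h1 with h | h
    · exact h
    · exfalso
      apply hη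
      rw [← hJsupp]
      exact support_quotMod_subset J h
  obtain ⟨n₀, hn₀⟩ := Groth.Agent.Helper4.GenTwistMain.exists_forall_isGloballyGenerated_twist hL
    (ClSub.idealMod J) hI.2
  set B := CohB1.tensorPow L (n₀ + 1) with hBdef
  have hB : PicF.IsInvertible B := TensorInv.isInvertible_tensorPow hL.1 _
  have hGG := hn₀ (n₀ + 1) (Nat.le_succ _)
  obtain ⟨t, ht⟩ := exists_section_ne_zero _ hGG ⟨genericPoint Z, by
    rw [support_tensorMod_eq_left _ _ hB]; exact hηI⟩
  -- the twisted ideal sequence
  have hS' := Groth.Agent.Helper1.TwistExact.shortExact_map_tensorRightMod hS B hB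
  let f' : CohB1.tensorMod (ClSub.idealMod J) B ⟶ CohB1.tensorMod (Coh.structureModule Z) B :=
    ((idealSC J).map (DCoh.tensorRightMod B)).f
  let g' : CohB1.tensorMod (Coh.structureModule Z) B ⟶ CohB1.tensorMod (ClSub.quotMod J) B :=
    ((idealSC J).map (DCoh.tensorRightMod B)).g
  have hfg : f' ≫ g' = 0 := ((idealSC J).map (DCoh.tensorRightMod B)).zero
  haveI : Mono f' := hS'.mono_f
  haveI : Epi g' := hS'.epi_g
  haveI : Mono (f' ≫ (unitorL B).hom) := mono_comp _ _
  let s : Coh.structureModule Z ⟶ B := t ≫ f' ≫ (unitorL B).hom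
  have hs : s ≠ 0 := by
    intro h0
    apply ht
    have : t ≫ (f' ≫ (unitorL B).hom) = 0 ≫ (f' ≫ (unitorL B).hom) := by
      rw [zero_comp]; exact h0
    exact (cancel_mono _).mp this
  have hmono : Mono s :=
    Groth.Agent.Helper4.NApx81.mono_of_ne_zero s TensorInv.isInvertible_structureModule hB hs
  refine ⟨n₀, s, hmono, ?_, ?_⟩
  · -- the cokernel is nonzero along `T`
    intro z hz hcon
    let q : B ⟶ CohB1.tensorMod (ClSub.quotMod J) B := (unitorL B).inv ≫ g'
    have hsq : s ≫ q = 0 := by
      show (t ≫ f' ≫ (unitorL B).hom) ≫ (unitorL B).inv ≫ g' = 0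
      rw [Category.assoc, Category.assoc, Iso.hom_inv_id_assoc, hfg, comp_zero]
    haveI : Epi q := epi_comp _ _
    have hd : cokernel.π s ≫ cokernel.desc s q hsq = q := cokernel.π_desc _ _ _
    haveI : Epi (cokernel.desc s q hsq) := by
      have : Epi (cokernel.π s ≫ cokernel.desc s q hsq) := by rw [hd]; infer_instance
      exact epi_of_epi (cokernel.π s) _
    have hsurj := EpiStalk.stalkLin_surjective_of_epi (cokernel.desc s q hsq) z
    have hsub : Subsingleton ((CohB1.tensorMod (ClSub.quotMod J) B).presheaf.stalk z) :=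
      hsurj.subsingleton
    have hz' : z ∈ CohB1.support (CohB1.tensorMod (ClSub.quotMod J) B) := by
      rw [support_tensorMod_eq_left _ _ hB, support_quotMod_eq, hJsupp]
      exact hz
    exact hz' hsub
  · -- the cokernel vanishes at the generic point
    intro hcon
    apply hcon
    have hsurj := Groth.Agent.Helper4.NApx81.stalkLin_surjective_genericPoint s
      TensorInv.isInvertible_structureModule hB hs
    have hπ := EpiStalk.stalkLin_surjective_of_epi (cokernel.π s) (genericPoint Z)
    refine ⟨fun a b => ?_⟩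
    have h0 : ∀ c : (cokernel s).presheaf.stalk (genericPoint Z), c = 0 := by
      intro c
      obtain ⟨b', rfl⟩ := hπ c
      obtain ⟨a', rfl⟩ := hsurj b'
      rw [← Groth.Agent.Lead.StalkNhd.stalkLin_comp, cokernel.condition]
      exact Groth.Agent.Lead.StalkNhd.stalkLin_zero _ _
    rw [h0 a, h0 b]

end Groth.Agent.Helper4.SN
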