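import Mathlib
import Groth.Agent.Helper4.SN22
import Groth.Agent.Helper4.PullAmple
import Groth.Agent.Lead.ProperFinA

/-!
# Positivity of intersection numbers of ample invertible modules
-/

set_option autoImplicit false
set_option linter.style.haveILetI false

namespace Groth.Agent.Helper4.SN

open CategoryTheory Limits AlgebraicGeometry Opposite TopologicalSpace
open Groth.Agent.Helper1.Dev Groth.Agent.Helper4.StalkDict Groth.Agent.Lead.Ref1B

universe u

variable (k : Type u) [Field k] {X : Scheme.{u}} [X.Over (Spec (CommRingCat.of k))]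
  [IsProper (X ↘ (Spec (CommRingCat.of k)))]

/-- the reduced structure module of the closure of a point -/
noncomputable abbrev redMod (ξ : X) : X.Modules :=
  ClSub.quotMod (Scheme.IdealSheafData.vanishingIdeal
    (⟨closure ({ξ} : Set X), isClosed_closure⟩ : Closeds X))

/-- the multiplicity formula for the alternating sums, with a sign -/
theorem signed_altF_eq_finsum (c : ℤ) {r : ℕ} (M : Fin r → X.Modules)
    (hM : ∀ i, PicF.IsInvertible (M i))
    (F : X.Modules) (hF : Coh.IsCoh F) (X' : Closeds X) (hX' : DimLT (X' : Set X) (r + 1))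
    (hsupp : CohB1.support F ⊆ (X' : Set X)) :
    FinM r F ∧ c * altF (chi k X) M F =
      Psi (fun ξ => c * altF (chi k X) M (redMod ξ)) r F := by
  haveI := Groth.Agent.Helper4.NApx82.isNoetherian_of_proper k X
  have hsmall : ∀ F : X.Modules, Coh.IsCoh F → DimLT (CohB1.support F) r →
      c * altF (chi k X) M F ∈ (⊥ : AddSubgroup ℤ) := fun F hF hdim => by
    rw [AddSubgroup.mem_bot, snapper_vanishing k M hM F hF hdim, mul_zero]
  have hzero : ∀ F : X.Modules, IsZero F → c * altF (chi k X) M F = 0 := fun F hF => by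
    have := hsmall F (isCoh_of_isZero hF) (by
      rw [support_eq_empty_of_isZero F hF]
      intro S hS
      exact absurd (Set.subset_empty_iff.mp hS) S.isIrreducible.nonempty.ne_empty)
    exact AddSubgroup.mem_bot.mp this
  have hK := mult_devissage (⊥ : AddSubgroup ℤ) (fun F => c * altF (chi k X) M F)
    (fun ξ => c * altF (chi k X) M (redMod ξ)) r
    (fun e => by
      show c * _ = c * _
      rw [altF_iso (chi k X) (chi_iso k) M e])
    (fun S hS h1 h2 h3 => by
      show c * _ = c * _ + c * _
      rw [(altF_addFn k M hM).add S hS h1 h2 h3, mul_add]) hzero hsmall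
    (fun ξ _ => by rw [AddSubgroup.mem_bot]; exact sub_self _) X' hX' F hF hsupp
  obtain ⟨hfin, hmem⟩ := hK
  rw [AddSubgroup.mem_bot, sub_eq_zero] at hmem
  exact ⟨hfin, hmem⟩

/-- positivity for modules, given positivity for the top-dimensional points -/
theorem pos_of_top (c : ℤ) {r : ℕ} (M : Fin r → X.Modules) (hM : ∀ i, PicF.IsInvertible (M i))
    (hpos : ∀ ζ : X, TopPt r ζ → 0 < c * altF (chi k X) M (redMod ζ))
    (F : X.Modules) (hF : Coh.IsCoh F) (X' : Closeds X) (hX' : DimLT (X' : Set X) (r + 1))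
    (hsupp : CohB1.support F ⊆ (X' : Set X))
    (ζ₀ : X) (hζ₀ : TopPt r ζ₀) (hmem : ζ₀ ∈ CohB1.support F) :
    0 < c * altF (chi k X) M F := by
  classical
  obtain ⟨hfin, heq⟩ := signed_altF_eq_finsum k c M hM F hF X' hX' hsupp
  rw [heq]
  unfold Psi
  refine finsum_pos (fun ζ => ?_) ⟨ζ₀, ?_⟩ (hfin.1.subset (support_term_subset _ r F))
  · by_cases ht : TopPt r ζ
    · rw [if_pos ht]
      exact nsmul_nonneg (hpos ζ ht).le _
    · rw [if_neg ht]
  · rw [if_pos hζ₀]
    have h1 : len F ζ₀ ≠ 0 := (mem_support_iff F ζ₀).mp hmem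
    have h2 : len F ζ₀ ≠ ⊤ := hfin.2 ζ₀ hζ₀
    have h3 : (len F ζ₀).toNat ≠ 0 := by
      intro h0
      rcases (ENat.toNat_eq_zero).mp h0 with h | h
      · exact h1 h
      · exact h2 h
    exact nsmul_pos (hpos ζ₀ hζ₀) h3


/-- base case: the Euler characteristic of a reduced closed point is positive -/
theorem chi_redMod_pos (ξ : X) (hξ : TopPt 0 ξ) : 0 < chi k X (redMod ξ) := by
  haveI := Groth.Agent.Helper4.NApx82.isNoetherian_of_proper k X
  set Wc : Closeds X := ⟨closure ({ξ} : Set X), isClosed_closure⟩ with hWc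
  set I := Scheme.IdealSheafData.vanishingIdeal Wc with hI
  set ι := I.subschemeι with hι
  letI : I.subscheme.Over (Spec (CommRingCat.of k)) :=
    ⟨ι ≫ (X ↘ Spec (CommRingCat.of k))⟩
  haveI : IsProper (I.subscheme ↘ Spec (CommRingCat.of k)) := by
    show IsProper (ι ≫ (X ↘ Spec (CommRingCat.of k)))
    infer_instance
  haveI : IsNoetherian I.subscheme := isNoetherian_of_isClosedImmersion ι
  have hO : Coh.IsCoh (Coh.structureModule I.subscheme) := isCoh_structureModule _
  haveI : Coh.IsQCoh (Coh.structureModule I.subscheme) := hO.1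
  have h1 : chi k X (redMod ξ) = chi k I.subscheme (Coh.structureModule I.subscheme) :=
    (euler_push k ι (Coh.structureModule I.subscheme)).symm
  have hmem : ∀ z : I.subscheme, ι z ∈ closure ({ξ} : Set X) := by
    intro z
    have : ι z ∈ Set.range ι := ⟨z, rfl⟩
    rw [range_ι_vanishingIdeal Wc] at this
    exact this
  have hdimZ : topologicalKrullDim I.subscheme ≤ 0 := by
    have hind : Topology.IsInducing (Set.codRestrict ι (closure ({ξ} : Set X)) hmem) :=
      ι.isEmbedding.isInducing.codRestrict hmem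
    have := hind.topologicalKrullDim_le
    rw [hξ] at this
    exact_mod_cast this
  rw [h1, ← eulerCharLE_eq_chi k 0 hdimZ]
  unfold FGA.eulerCharLE
  rw [Finset.sum_range_one, pow_zero, one_mul]
  haveI : Module.Finite k (Coh.HH I.subscheme (Coh.structureModule I.subscheme) 0) :=
    Groth.Agent.S0002.result k I.subscheme _ hO 0
  haveI : Nonempty I.subscheme := by
    have : ξ ∈ Set.range ι := by
      rw [range_ι_vanishingIdeal Wc]
      exact subset_closure rfl
    obtain ⟨z, -⟩ := this
    exact ⟨z⟩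
  haveI : Nontrivial (Coh.HH I.subscheme (Coh.structureModule I.subscheme) 0) := by
    have e := Groth.Agent.Lead.ProperFinA.h0Equiv (Coh.structureModule I.subscheme)
    haveI : Nonempty ↥(⊤ : I.subscheme.Opens) := by
      obtain ⟨z⟩ := (inferInstance : Nonempty I.subscheme)
      exact ⟨⟨z, trivial⟩⟩
    haveI : Nontrivial ((Coh.toAb (Coh.structureModule I.subscheme)).obj.obj (op ⊤)) :=
      (inferInstance : Nontrivial Γ(I.subscheme, ⊤))
    exact e.toEquiv.nontrivial
  exact_mod_cast Module.finrank_pos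


/-- the inductive step -/
theorem altF_pos_step (e : ℕ)
    (IH : ∀ (R : Fin e → X.Modules), (∀ i, CohB1.IsAmple (R i)) → ∀ ζ : X, TopPt e ζ →
      0 < (-1) ^ e * altF (chi k X) R (redMod ζ))
    (L : Fin (e + 1) → X.Modules) (hL : ∀ i, CohB1.IsAmple (L i)) (ξ : X)
    (hξ : TopPt (e + 1) ξ) :
    0 < (-1) ^ (e + 1) * altF (chi k X) L (redMod ξ) := by
  classical
  haveI := Groth.Agent.Helper4.NApx82.isNoetherian_of_proper k X
  set Wc : Closeds X := ⟨closure ({ξ} : Set X), isClosed_closure⟩ with hWc
  have hirr : IsIrreducible (Wc : Set X) := isIrreducible_singleton.closure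
  set I := Scheme.IdealSheafData.vanishingIdeal Wc with hI
  set ι := I.subschemeι with hι
  haveI := isIntegral_subscheme Wc hirr
  haveI : IsNoetherian I.subscheme := isNoetherian_of_isClosedImmersion ι
  have hrange : Set.range ι = closure ({ξ} : Set X) := range_ι_vanishingIdeal Wc
  -- a smaller irreducible closed subset of height `e`
  have hht : Order.height (irrCl ξ) = ((e : ℕ) : ℕ∞) + 1 := by
    have := (topPt_iff (e + 1) ξ).mp hξ
    rw [this]
    push_cast
    rfl
  obtain ⟨-, ⟨W', hW'lt, hW'ht⟩, -⟩ := Order.height_eq_coe_add_one_iff.mp hht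
  obtain ⟨w', hw'⟩ := QuasiSober.sober W'.isIrreducible W'.isClosed
  have hw' : closure ({w'} : Set X) = (W' : Set X) := hw'
  have htw' : TopPt e w' := by
    rw [topPt_iff]
    have : irrCl w' = W' := IrreducibleCloseds.ext hw'
    rw [this, hW'ht]
  have hW'sub : (W' : Set X) ⊆ closure ({ξ} : Set X) := hW'lt.le
  -- the closed subset `T` of the subscheme
  let T : Closeds I.subscheme := ⟨ι ⁻¹' (W' : Set X), W'.isClosed.preimage ι.continuous⟩
  have hTne : (T : Set I.subscheme) ≠ Set.univ := by
    intro h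
    have hξr : ξ ∈ Set.range ι := by rw [hrange]; exact subset_closure rfl
    obtain ⟨z₀, hz₀⟩ := hξr
    have h1 : z₀ ∈ (T : Set I.subscheme) := by rw [h]; trivial
    have hξW' : ξ ∈ (W' : Set X) := by rw [← hz₀]; exact h1
    have hle : irrCl ξ ≤ W' :=
      closure_minimal (Set.singleton_subset_iff.mpr hξW') W'.isClosed
    exact absurd hW'lt (not_lt_of_ge hle)
  -- the section
  set A := L 0 with hA
  have hAinv : PicF.IsInvertible A := (hL 0).1
  have hAZ : CohB1.IsAmple ((Scheme.Modules.pullback ι).obj A) :=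
    PullAmple.isAmple_pullback_of_isAffineHom ι (hL 0)
  obtain ⟨m, s, hmono, hTsupp, hηsupp⟩ := exists_section_vanishing _ hAZ T hTne
  haveI := hmono
  -- coherence
  have hOZ : Coh.IsCoh (Coh.structureModule I.subscheme) := isCoh_structureModule _
  have hBZ : Coh.IsCoh (CohB1.tensorPow ((Scheme.Modules.pullback ι).obj A) (m + 1)) :=
    Groth.Agent.Helper1.SerreFin.isCoh_of_isInvertible _
      (TensorInv.isInvertible_tensorPow hAZ.1 _)
  have hCZ : Coh.IsCoh (cokernel s) := Groth.Agent.Lead.PerfLib.isCoh_cokernel hOZ hBZ s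
  -- push the sequence forward
  have hSX := Groth.Agent.Helper1.ClTr.shortExact_push ι (cokSC s) (cokSC_shortExact s)
  set R : Fin e → X.Modules := fun i => L i.succ with hR
  have hRinv : ∀ i, PicF.IsInvertible (R i) := fun i => (hL i.succ).1
  have hcohC : Coh.IsCoh ((Scheme.Modules.pushforward ι).obj (cokernel s)) :=
    isCoh_push ι _ hCZ
  have hadd : altF (chi k X) R ((Scheme.Modules.pushforward ι).obj
      (CohB1.tensorPow ((Scheme.Modules.pullback ι).obj A) (m + 1))) =
      altF (chi k X) R (redMod ξ) +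
        altF (chi k X) R ((Scheme.Modules.pushforward ι).obj (cokernel s)) :=
    (altF_addFn k R hRinv).add ((cokSC s).map (Scheme.Modules.pushforward ι)) hSX
      (isCoh_push ι _ hOZ) (isCoh_push ι _ hBZ) hcohC
  have e₂ : (Scheme.Modules.pushforward ι).obj
      (CohB1.tensorPow ((Scheme.Modules.pullback ι).obj A) (m + 1)) ≅
      CohB1.tensorMod (CohB1.tensorPow A (m + 1)) (redMod ξ) :=
    (Scheme.Modules.pushforward ι).mapIso
      ((PullTensor.pullPowIso ι hAinv (m + 1)).symm ≪≫ (unitorL _).symm) ≪≫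
    (Groth.Agent.Helper1.PF.projIso ι (Coh.structureModule _) (CohB1.tensorPow A (m + 1))
      (TensorInv.isInvertible_tensorPow hAinv _)).symm ≪≫ braid _ _
  rw [altF_iso (chi k X) (chi_iso k) R e₂] at hadd
  -- homogeneity
  have hG : Coh.IsCoh (redMod ξ) := isCoh_quotMod _
  have hdW : DimLT (closure ({ξ} : Set X)) (e + 1 + 1) := dimLT_closure_of_topPt (e + 1) ξ hξ
  have hdG : DimLT (CohB1.support (redMod ξ)) (e + 1 + 1) :=
    hdW.mono (support_quotMod_red_subset ξ)
  have hLcons : L = Fin.cons A R := (Fin.cons_self_tail L).symm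
  have h1 := altF_cons_pow k A hAinv R hRinv (redMod ξ) hG hdG (m + 1)
  rw [altF_cons] at h1
  -- the cokernel
  have hsuppC : CohB1.support ((Scheme.Modules.pushforward ι).obj (cokernel s)) ⊆
      closure ({ξ} : Set X) := by
    rw [← hrange]
    exact support_push_subset ι _
  have hξη := eq_ι_genericPoint Wc ξ rfl
  have hξnot : ξ ∉ CohB1.support ((Scheme.Modules.pushforward ι).obj (cokernel s)) := by
    rw [hξη]
    intro hcon
    apply hcon
    have hsub : Subsingleton ((cokernel s).presheaf.stalk (genericPoint I.subscheme)) := by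
      by_contra h
      exact hηsupp h
    exact (Groth.Agent.Lead.PushStalk.psHom_bijective ι (cokernel s)
      ι.isClosedEmbedding.isInducing (genericPoint I.subscheme)).1.subsingleton
  have hw'mem : w' ∈ CohB1.support ((Scheme.Modules.pushforward ι).obj (cokernel s)) := by
    have hw'W : w' ∈ (W' : Set X) := by rw [← hw']; exact subset_closure rfl
    have hw'r : w' ∈ Set.range ι := by rw [hrange]; exact hW'sub hw'W
    obtain ⟨z', hz'⟩ := hw'r
    have hz'T : z' ∈ (T : Set I.subscheme) := by
      show ι z' ∈ (W' : Set X)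
      rw [hz']; exact hw'W
    rw [← hz']
    intro hcon
    apply hTsupp z' hz'T
    exact (Groth.Agent.Lead.PushStalk.psHom_bijective ι (cokernel s)
      ι.isClosedEmbedding.isInducing z').2.subsingleton
  have hcl : IsClosed (CohB1.support ((Scheme.Modules.pushforward ι).obj (cokernel s))) :=
    Groth.Agent.S0020.result _ _ hcohC.2
  have hX'' : DimLT ((⟨_, hcl⟩ : Closeds X) : Set X) (e + 1) :=
    hdW.of_lt hirr Wc.isClosed hsuppC ⟨ξ, subset_closure rfl, hξnot⟩
  have hpos := pos_of_top k ((-1) ^ e) R hRinv (IH R (fun i => hL i.succ))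
    ((Scheme.Modules.pushforward ι).obj (cokernel s)) hcohC ⟨_, hcl⟩ hX'' (le_refl _)
    w' htw' hw'mem
  -- conclusion
  rw [hLcons]
  have key : ((m + 1 : ℕ) : ℤ) * ((-1) ^ (e + 1) * altF (chi k X) (Fin.cons A R) (redMod ξ)) =
      (-1) ^ e * altF (chi k X) R ((Scheme.Modules.pushforward ι).obj (cokernel s)) := by
    rw [pow_succ]
    linear_combination ((-1 : ℤ) ^ e) * h1 + ((-1 : ℤ) ^ e) * hadd
  have hm : (0 : ℤ) < ((m + 1 : ℕ) : ℤ) := by exact_mod_cast Nat.succ_pos m
  rw [← key] at hpos
  exact (mul_pos_iff_of_pos_left hm).mp hpos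

/-- **positivity of intersection numbers of ample modules** on integral closed subschemes -/
theorem altF_pos : ∀ (e : ℕ) (L : Fin e → X.Modules), (∀ i, CohB1.IsAmple (L i)) →
    ∀ ξ : X, TopPt e ξ → 0 < (-1) ^ e * altF (chi k X) L (redMod ξ) := by
  intro e
  induction e with
  | zero =>
    intro L _ ξ hξ
    rw [pow_zero, one_mul, altF_zero]
    exact chi_redMod_pos k ξ hξ
  | succ e ih => exact fun L hL ξ hξ => altF_pos_step k e ih L hL ξ hξ

end Groth.Agent.Helper4.SN
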