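import Mathlib
import Groth.Agent.Helper4.SN23

/-!
# Positivity of intersection numbers of ample modules against coherent modules (S3233)
-/

set_option autoImplicit false
set_option linter.style.haveILetI false

namespace Groth.Agent.Helper4.SN

open CategoryTheory Limits AlgebraicGeometry Opposite TopologicalSpace
open Groth.Agent.Helper1.Dev Groth.Agent.Helper4.StalkDict Groth.Agent.Lead.Ref1B

universe u

section Top

variable {X : Scheme.{u}}

/-- a closed subset of dimension `r` contains a point whose closure has dimension `r` -/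
theorem exists_topPt (Y : Set X) (hY : IsClosed Y) (r : ℕ)
    (hdim : topologicalKrullDim ↥Y = (r : WithBot ℕ∞)) : ∃ ζ ∈ Y, TopPt r ζ := by
  have hle : ((r : ℕ) : WithBot ℕ∞) ≤ Order.krullDim (IrreducibleCloseds ↥Y) := by
    have : topologicalKrullDim ↥Y = Order.krullDim (IrreducibleCloseds ↥Y) := rfl
    rw [← this, hdim]
  obtain ⟨p, hp⟩ := Order.le_krullDim_iff.mp hle
  have hcont : Continuous (Subtype.val : ↥Y → X) := continuous_subtype_val
  let q : LTSeries (IrreducibleCloseds X) :=
    p.map (IrreducibleCloseds.map Subtype.val hcont)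
      (IrreducibleCloseds.map_strictMono_of_isInducing Topology.IsInducing.subtypeVal)
  have hqY : (q.last : Set X) ⊆ Y := by
    show (closure (Subtype.val '' (p.last : Set ↥Y)) : Set X) ⊆ Y
    refine closure_minimal ?_ hY
    rintro _ ⟨x, -, rfl⟩
    exact x.2
  have hlen : q.length = r := hp
  have h1 : (r : ℕ∞) ≤ Order.height q.last := by
    rw [← hlen]
    exact Order.length_le_height_last
  have hlt : topologicalKrullDim ↥Y < ((r + 1 : ℕ) : WithBot ℕ∞) := by
    rw [hdim]
    exact_mod_cast Nat.lt_succ_self r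
  have h2 : Order.height q.last < ((r + 1 : ℕ) : ℕ∞) := dimLT_of_krullDim_lt hlt q.last hqY
  have h3 : Order.height q.last = (r : ℕ∞) := by
    refine le_antisymm ?_ h1
    have : ((r + 1 : ℕ) : ℕ∞) = (r : ℕ∞) + 1 := by push_cast; rfl
    rw [this] at h2
    exact Order.le_of_lt_add_one h2
  obtain ⟨ζ, hζ⟩ := QuasiSober.sober q.last.isIrreducible q.last.isClosed
  have hζ : closure ({ζ} : Set X) = (q.last : Set X) := hζ
  refine ⟨ζ, hqY (by rw [← hζ]; exact subset_closure rfl), ?_⟩
  rw [topPt_iff]
  have : irrCl ζ = q.last := IrreducibleCloseds.ext hζ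
  rw [this, h3]

end Top

variable (k : Type u) [Field k] {X : Scheme.{u}} [X.Over (Spec (CommRingCat.of k))]
  [IsProper (X ↘ (Spec (CommRingCat.of k)))]

/-- positivity of the intersection numbers of ample modules with a coherent module -/
theorem altF_pos_of_dim {r : ℕ} (L : Fin r → X.Modules) (hL : ∀ i, CohB1.IsAmple (L i))
    (F : X.Modules) (hF : Coh.IsCoh F)
    (hr : topologicalKrullDim (CohB1.support F) = (r : WithBot ℕ∞)) :
    0 < (-1) ^ r * altF (chi k X) L F := by
  have hcl : IsClosed (CohB1.support F) := Groth.Agent.S0020.result _ _ hF.2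
  have hX' : DimLT ((⟨CohB1.support F, hcl⟩ : Closeds X) : Set X) (r + 1) := by
    apply dimLT_of_krullDim_lt
    show topologicalKrullDim (CohB1.support F) < _
    rw [hr]
    exact_mod_cast Nat.lt_succ_self r
  obtain ⟨ζ₀, hmem, hζ₀⟩ := exists_topPt (CohB1.support F) hcl r hr
  exact pos_of_top k ((-1) ^ r) L (fun i => (hL i).1) (altF_pos k r L hL) F hF ⟨_, hcl⟩ hX'
    (le_refl _) ζ₀ hζ₀ hmem

/-- S3233 -/
theorem main3233 (d : ℕ) (hd : topologicalKrullDim X ≤ d) {r : ℕ} (L M : Fin r → X.Modules)
    (hL : ∀ i, CohB1.IsAmple (L i))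
    (hLM : ∀ i, Nonempty (CohB1.tensorMod (L i) (M i) ≅ Coh.structureModule X))
    (F : X.Modules) (hF : Coh.IsCoh F) (hr : topologicalKrullDim (CohB1.support F) = r) :
    0 < FGA.intNum k X d M F := by
  have hcl : IsClosed (CohB1.support F) := Groth.Agent.S0020.result _ _ hF.2
  have hdim : DimLT (CohB1.support F) (r + 1) := by
    apply dimLT_of_krullDim_lt
    rw [hr]
    exact_mod_cast Nat.lt_succ_self r
  rw [intNum_eq_altF k d hd, altF_inverse k L M (fun i => (hL i).1) hLM F hF hdim]
  exact altF_pos_of_dim k L hL F hF hr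

end Groth.Agent.Helper4.SN
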