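import Mathlib
import Groth.Agent.Helper4.SN24
import Groth.Agent.Lead.IdealModDict

/-!
# Intersection with the divisor of a section (S11752)
-/

set_option autoImplicit false
set_option linter.style.haveILetI false

namespace Groth.Agent.Helper4.SN

open CategoryTheory Limits AlgebraicGeometry Opposite TopologicalSpace
open Groth.Agent.Helper1.Dev Groth.Agent.Helper4.StalkDict Groth.Agent.Lead.Ref1B

universe u

section Sec

variable {X : Scheme.{u}}

/-- a nonzero class in `H⁰` gives a nonzero global section -/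
theorem exists_section_of_nontrivial_H0 (F : X.Modules) (h : Nontrivial (Coh.HH X F 0)) :
    ∃ s : Coh.structureModule X ⟶ F, s ≠ 0 := by
  have e := Groth.Agent.Lead.ProperFinA.h0Equiv F
  haveI : Nontrivial ((Coh.toAb F).obj.obj (op ⊤)) := e.symm.toEquiv.nontrivial
  obtain ⟨t, ht⟩ : ∃ t : Γ(F, ⊤), t ≠ 0 := exists_ne (0 : (Coh.toAb F).obj.obj (op ⊤))
  refine ⟨Groth.Agent.Lead.IdealModDict.ofSection F t, fun h0 => ht ?_⟩
  have h1 := Groth.Agent.Lead.IdealModDict.ofSection_app F t ⊤ 1
  rw [h0] at h1
  have h2 : F.presheaf.map (homOfLE (le_top : (⊤ : X.Opens) ≤ ⊤)).op t = t := by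
    have : (homOfLE (le_top : (⊤ : X.Opens) ≤ ⊤)) = 𝟙 _ := Subsingleton.elim _ _
    rw [this, op_id, F.presheaf.map_id]
    rfl
  rw [h2, one_smul] at h1
  exact h1.symm

end Sec

variable (k : Type u) [Field k] {X : Scheme.{u}} [X.Over (Spec (CommRingCat.of k))]
  [IsProper (X ↘ (Spec (CommRingCat.of k)))]

/-- the intersection number with the divisor of a section of a power -/
theorem altF_cons_section [IsIntegral X] {r : ℕ} (A : X.Modules) (hA : PicF.IsInvertible A)
    (R : Fin r → X.Modules) (hR : ∀ i, PicF.IsInvertible (R i))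
    (hdim : DimLT (Set.univ : Set X) (r + 1 + 1)) (n : ℕ)
    (s : Coh.structureModule X ⟶ CohB1.tensorPow A n) (hs : s ≠ 0) :
    (n : ℤ) * altF (chi k X) (Fin.cons A R : Fin (r + 1) → X.Modules) (Coh.structureModule X) =
      - altF (chi k X) R (cokernel s) := by
  haveI := Groth.Agent.Helper4.NApx82.isNoetherian_of_proper k X
  have hAn := TensorInv.isInvertible_tensorPow hA n
  have hO : Coh.IsCoh (Coh.structureModule X) := isCoh_structureModule X
  have hB : Coh.IsCoh (CohB1.tensorPow A n) :=
    Groth.Agent.Helper1.SerreFin.isCoh_of_isInvertible _ hAn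
  haveI : Mono s := Groth.Agent.Helper4.NApx81.mono_of_ne_zero s
    TensorInv.isInvertible_structureModule hAn hs
  have hC : Coh.IsCoh (cokernel s) := Groth.Agent.Lead.PerfLib.isCoh_cokernel hO hB s
  have h1 := altF_cons_pow k A hA R hR (Coh.structureModule X) hO
    (hdim.mono (Set.subset_univ _)) n
  rw [altF_cons] at h1
  have hadd := (altF_addFn k R hR).add (cokSC s) (cokSC_shortExact s) hO hB hC
  have e : CohB1.tensorMod (CohB1.tensorPow A n) (Coh.structureModule X) ≅ CohB1.tensorPow A n :=
    SecTwist.unitorR _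
  rw [altF_iso (chi k X) (chi_iso k) R e] at h1
  change altF (chi k X) R (CohB1.tensorPow A n) =
    altF (chi k X) R (Coh.structureModule X) + altF (chi k X) R (cokernel s) at hadd
  linarith

/-- S11752 -/
theorem main11752 [IsIntegral X] (hdim : topologicalKrullDim X = 2)
    (N N' : X.Modules) (hN : PicF.IsInvertible N)
    (hNN' : Nonempty (CohB1.tensorMod N N' ≅ Coh.structureModule X))
    (hpos : 0 < FGA.intNum k X 2 ![N', N'] (Coh.structureModule X))
    (hsec : ∃ n : ℕ, 0 < n ∧ Nontrivial (Coh.HH X (CohB1.tensorPow N n) 0))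
    (H H' : X.Modules) (hH : CohB1.IsAmple H)
    (hHH' : Nonempty (CohB1.tensorMod H H' ≅ Coh.structureModule X)) :
    0 < FGA.intNum k X 2 ![N', H'] (Coh.structureModule X) := by
  haveI := Groth.Agent.Helper4.NApx82.isNoetherian_of_proper k X
  have hO : Coh.IsCoh (Coh.structureModule X) := isCoh_structureModule X
  have hdX : DimLT (Set.univ : Set X) (2 + 1) := dimLT_of_dim_le 2 hdim.le _
  have hdO : DimLT (CohB1.support (Coh.structureModule X)) (2 + 1) :=
    hdX.mono (Set.subset_univ _)
  -- pass to `N` and `H`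
  have e1 : FGA.intNum k X 2 ![N', N'] (Coh.structureModule X) =
      altF (chi k X) ![N, N] (Coh.structureModule X) := by
    rw [intNum_eq_altF k 2 hdim.le, altF_inverse k ![N, N] ![N', N'] (fun i => by
      fin_cases i <;> exact hN) (fun i => by fin_cases i <;> exact hNN') _ hO hdO]
    simp
  have e2 : FGA.intNum k X 2 ![N', H'] (Coh.structureModule X) =
      altF (chi k X) ![N, H] (Coh.structureModule X) := by
    rw [intNum_eq_altF k 2 hdim.le, altF_inverse k ![N, H] ![N', H'] (fun i => by
      fin_cases i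
      · exact hN
      · exact hH.1) (fun i => by
      fin_cases i
      · exact hNN'
      · exact hHH') _ hO hdO]
    simp
  rw [e1] at hpos
  rw [e2]
  obtain ⟨n, hn, hnt⟩ := hsec
  obtain ⟨s, hs⟩ := exists_section_of_nontrivial_H0 _ hnt
  have hAn := TensorInv.isInvertible_tensorPow hN n
  have hB : Coh.IsCoh (CohB1.tensorPow N n) :=
    Groth.Agent.Helper1.SerreFin.isCoh_of_isInvertible _ hAn
  have hC : Coh.IsCoh (cokernel s) := Groth.Agent.Lead.PerfLib.isCoh_cokernel hO hB s
  have hNN := altF_cons_section k N hN ![N] (fun i => by fin_cases i; exact hN) hdX n s hs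
  have hNH := altF_cons_section k N hN ![H] (fun i => by fin_cases i; exact hH.1) hdX n s hs
  have hn' : (0 : ℤ) < (n : ℤ) := by exact_mod_cast hn
  -- the support of the cokernel
  have hcl : IsClosed (CohB1.support (cokernel s)) := Groth.Agent.S0020.result _ _ hC.2
  have hηnot : genericPoint X ∉ CohB1.support (cokernel s) := by
    intro hcon
    apply hcon
    have hsurj := Groth.Agent.Helper4.NApx81.stalkLin_surjective_genericPoint s
      TensorInv.isInvertible_structureModule hAn hs
    have hπ := EpiStalk.stalkLin_surjective_of_epi (cokernel.π s) (genericPoint X)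
    refine ⟨fun a b => ?_⟩
    have h0 : ∀ c : (cokernel s).presheaf.stalk (genericPoint X), c = 0 := by
      intro c
      obtain ⟨b', rfl⟩ := hπ c
      obtain ⟨a', rfl⟩ := hsurj b'
      rw [← Groth.Agent.Lead.StalkNhd.stalkLin_comp, cokernel.condition]
      exact Groth.Agent.Lead.StalkNhd.stalkLin_zero _ _
    rw [h0 a, h0 b]
  have hX' : DimLT ((⟨_, hcl⟩ : Closeds X) : Set X) (1 + 1) :=
    hdX.of_lt (IrreducibleSpace.isIrreducible_univ X) isClosed_univ (Set.subset_univ _)
      ⟨genericPoint X, trivial, hηnot⟩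
  -- there is a one-dimensional point in the support
  have hex : ∃ ζ : X, TopPt 1 ζ ∧ ζ ∈ CohB1.support (cokernel s) := by
    by_contra hcon
    push Not at hcon
    have hsmall : DimLT (CohB1.support (cokernel s)) 1 := by
      intro S hS
      have h2 : Order.height S < ((1 + 1 : ℕ) : ℕ∞) := hX' S hS
      by_contra hge
      rw [not_lt] at hge
      have h3 : Order.height S = ((1 : ℕ) : ℕ∞) := by
        refine le_antisymm ?_ hge
        have : ((1 + 1 : ℕ) : ℕ∞) = ((1 : ℕ) : ℕ∞) + 1 := by push_cast; rfl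
        rw [this] at h2
        exact Order.le_of_lt_add_one h2
      obtain ⟨ζ, hζ⟩ := QuasiSober.sober S.isIrreducible S.isClosed
      have hζ : closure ({ζ} : Set X) = (S : Set X) := hζ
      have hζt : TopPt 1 ζ := by
        rw [topPt_iff]
        have : irrCl ζ = S := IrreducibleCloseds.ext hζ
        rw [this, h3]
      exact hcon ζ hζt (hS (by rw [← hζ]; exact subset_closure rfl))
    have hvan := snapper_vanishing k ![N] (fun i => by fin_cases i; exact hN) (cokernel s) hC hsmall
    rw [hvan, neg_zero] at hNN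
    have h5 : altF (chi k X) (Fin.cons N ![N] : Fin 2 → X.Modules) (Coh.structureModule X) = 0 := by
      rcases mul_eq_zero.mp hNN with h | h
      · exact absurd h hn'.ne'
      · exact h
    have h6 : (Fin.cons N ![N] : Fin 2 → X.Modules) = ![N, N] := rfl
    rw [h6] at h5
    rw [h5] at hpos
    exact lt_irrefl _ hpos
  obtain ⟨ζ₀, hζ₀, hmem⟩ := hex
  have hp := pos_of_top k ((-1) ^ 1) ![H] (fun i => by fin_cases i; exact hH.1)
    (altF_pos k 1 ![H] (fun i => by fin_cases i; exact hH))
    (cokernel s) hC ⟨_, hcl⟩ hX' (le_refl _) ζ₀ hζ₀ hmem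
  have h6 : (Fin.cons N ![H] : Fin 2 → X.Modules) = ![N, H] := rfl
  rw [h6] at hNH
  have h7 : (0 : ℤ) < (n : ℤ) * altF (chi k X) ![N, H] (Coh.structureModule X) := by
    rw [hNH]
    linarith
  exact (mul_pos_iff_of_pos_left hn').mp h7

end Groth.Agent.Helper4.SN
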