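import Mathlib
import Groth.Agent.Helper9.StalkTensor8
import Groth.Agent.Helper4.SN26
import Groth.Agent.Helper4.AssMono
import Groth.Agent.Lead.Ref1B

/-!
# Right exactness of the tensor product of modules on a scheme (through stalks),
  and the sequence `0 → I_D ⊗ F → F → F ⊗ O_D → 0`
-/

set_option autoImplicit false
set_option linter.style.haveILetI false

namespace Groth.Agent.Helper4.SN

open CategoryTheory Limits AlgebraicGeometry Opposite TopologicalSpace MonoidalCategory
open Groth.Agent.Helper9.SkyMod4 Groth.Agent.Helper9.SkyMod5 Groth.Agent.Helper9.StalkTensor8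
open Groth.Agent.Helper4.StalkDict

universe u

section Stalks

variable {X : Scheme.{u}}

theorem stalkLin_eq_St {F G : X.Modules} (φ : F ⟶ G) (x : X) :
    stalkLin φ x = ((St x).map φ).hom := rfl

/-- a morphism which is an epimorphism on all stalks is an epimorphism -/
theorem epi_of_stalks {M N : X.Modules} (φ : M ⟶ N) (h : ∀ x : X, Epi ((St x).map φ)) :
    Epi φ := by
  rw [Preadditive.epi_iff_isZero_cokernel]
  apply isZero_of_stalks
  intro x
  haveI := h x
  have e : (St x).obj (cokernel φ) ≅ cokernel ((St x).map φ) := PreservesCokernel.iso (St x) φ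
  exact (isZero_cokernel_of_epi ((St x).map φ)).of_iso e

/-- the stalk of `- ⊗ F` -/
noncomputable def stRightIso (F : X.Modules) (x : X) :
    DCoh.tensorRightMod F ⋙ St x ≅ St x ⋙ tensorRight ((St x).obj F) :=
  NatIso.ofComponents (fun M => (stIso x M F).symm) (by
    intro M M' φ
    have h := stIso_natural_left x φ F
    change (St x).map ((DCoh.tensorBi.map φ).app F) ≫ (stIso x M' F).inv =
      (stIso x M F).inv ≫ ((St x).map φ ▷ (St x).obj F)
    rw [Iso.comp_inv_eq, Category.assoc, Iso.eq_inv_comp]
    exact h.symm)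

theorem moduleCat_tensorRight_preservesFiniteColimits {R : Type u} [CommRing R]
    (N : ModuleCat.{u} R) : PreservesFiniteColimits (tensorRight N) := by
  haveI : (tensorLeft N).IsLeftAdjoint := (ihom.adjunction N).isLeftAdjoint
  haveI : PreservesColimitsOfSize.{0, 0} (tensorLeft N) := inferInstance
  haveI : PreservesColimitsOfSize.{0, 0} (tensorRight N) :=
    preservesColimits_of_natIso (BraidedCategory.tensorLeftIsoTensorRight N)
  exact PreservesColimitsOfSize.preservesFiniteColimits _


theorem moduleCat_exact_tensorRight {R : Type u} [CommRing R] (T : ShortComplex (ModuleCat.{u} R))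
    (hT : T.Exact) (hg : Epi T.g) (N : ModuleCat.{u} R) :
    (T.map (tensorRight N)).Exact ∧ Epi ((tensorRight N).map T.g) := by
  haveI := moduleCat_tensorRight_preservesFiniteColimits N
  haveI : CategoryWithHomology (ModuleCat.{u} R) := inferInstance
  haveI : PreservesColimitsOfShape WalkingSpan (tensorRight N) :=
    PreservesFiniteColimits.preservesFiniteColimits _
  haveI : (tensorRight N).PreservesEpimorphisms :=
    preservesEpimorphisms_of_preservesColimitsOfShape _
  haveI : (T.map (tensorRight N)).HasHomology := CategoryWithHomology.hasHomology _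
  haveI : PreservesColimit (parallelPair T.f 0) (tensorRight N) :=
    (PreservesFiniteColimits.preservesFiniteColimits WalkingParallelPair).preservesColimit
  exact ⟨hT.map_of_epi_of_preservesCokernel _ hg inferInstance, (tensorRight N).map_epi T.g⟩

/-- tensoring with any module is right exact -/
theorem exact_map_tensorRightMod (S : ShortComplex X.Modules) (hS : S.Exact) (hg : Epi S.g)
    (F : X.Modules) :
    (S.map (DCoh.tensorRightMod F)).Exact ∧ Epi ((DCoh.tensorRightMod F).map S.g) := by
  have key : ∀ x : X, ((S.map (St x)).map (tensorRight ((St x).obj F))).Exact ∧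
      Epi ((tensorRight ((St x).obj F)).map ((St x).map S.g)) := by
    intro x
    have h1 : (S.map (St x)).Exact := hS.map (St x)
    have h2 : Epi (S.map (St x)).g := (inferInstance : Epi ((St x).map S.g))
    exact moduleCat_exact_tensorRight (S.map (St x)) h1 h2 ((St x).obj F)
  constructor
  · rw [ShortComplex.exact_iff_isZero_homology]
    apply isZero_of_stalks
    intro x
    have e : (S.map (DCoh.tensorRightMod F)).map (St x) ≅
        (S.map (St x)).map (tensorRight ((St x).obj F)) :=
      S.mapNatIso (stRightIso F x)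
    have h1 : ((S.map (DCoh.tensorRightMod F)).map (St x)).Exact :=
      (ShortComplex.exact_iff_of_iso e).2 (key x).1
    rw [ShortComplex.exact_iff_isZero_homology] at h1
    exact h1.of_iso ((S.map (DCoh.tensorRightMod F)).mapHomologyIso (St x)).symm
  · apply epi_of_stalks
    intro x
    have hnat := (stRightIso F x).hom.naturality S.g
    let a₂ := (stRightIso F x).app S.X₂
    let a₃ := (stRightIso F x).app S.X₃
    have h3 : (St x).map ((DCoh.tensorRightMod F).map S.g) =
        a₂.hom ≫ (tensorRight ((St x).obj F)).map ((St x).map S.g) ≫ a₃.inv := by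
      rw [← Category.assoc, Iso.eq_comp_inv]
      exact hnat
    rw [h3]
    have e1 : Epi a₃.inv := @IsIso.epi_of_iso _ _ _ _ a₃.inv (Iso.isIso_inv a₃)
    have e2 : Epi a₂.hom := @IsIso.epi_of_iso _ _ _ _ a₂.hom (Iso.isIso_hom a₂)
    have e3 := @epi_comp _ _ _ _ _ _ (key x).2 _ e1
    exact @epi_comp _ _ _ _ _ _ e2 _ e3

theorem isIso_St_tensorMap {M M' : X.Modules} (φ : M ⟶ M') (F : X.Modules) (x : X)
    [IsIso ((St x).map φ)] : IsIso ((St x).map (KoszTw.tensorMap φ (𝟙 F))) := by
  have hnat := (stRightIso F x).hom.naturality φ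
  let a₁ := (stRightIso F x).app M
  let a₂ := (stRightIso F x).app M'
  have h3 : (St x).map ((DCoh.tensorRightMod F).map φ) =
      a₁.hom ≫ (tensorRight ((St x).obj F)).map ((St x).map φ) ≫ a₂.inv := by
    rw [← Category.assoc, Iso.eq_comp_inv]
    exact hnat
  have h4 : IsIso ((St x).map ((DCoh.tensorRightMod F).map φ)) := by
    rw [h3]
    infer_instance
  rw [KoszTw.tensorRightMod_map] at h4
  exact h4

end Stalks


section Frames

variable {X : Scheme.{u}}

open Groth.Agent.Helper4.TwistExt

/-- the germ of a frame is a free generator of the stalk -/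
theorem toSpanSingleton_germ_bijective (L : X.Modules) (T : X.Opens) (e : Γ(L, T))
    (hf : IsFrame L T e) (x : X) (hx : x ∈ T) :
    Function.Bijective (LinearMap.toSpanSingleton (X.presheaf.stalk x) (L.presheaf.stalk x)
      (L.presheaf.germ T x hx e)) := by
  constructor
  · rw [injective_iff_map_eq_zero]
    intro r hr
    rw [LinearMap.toSpanSingleton_apply] at hr
    obtain ⟨V, hxV, r₀, rfl⟩ := TopCat.Presheaf.exists_germ_eq X.presheaf r
    have hxW : x ∈ V ⊓ T := ⟨hxV, hx⟩
    have h1 : X.presheaf.germ V x hxV r₀ =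
        X.presheaf.germ (V ⊓ T) x hxW (X.presheaf.map (homOfLE inf_le_left).op r₀) :=
      (TopCat.Presheaf.germ_res_apply X.presheaf (homOfLE inf_le_left) x hxW r₀).symm
    have h2 : L.presheaf.germ T x hx e =
        L.presheaf.germ (V ⊓ T) x hxW (L.presheaf.map (homOfLE inf_le_right).op e) :=
      (TopCat.Presheaf.germ_res_apply L.presheaf (homOfLE inf_le_right) x hxW e).symm
    rw [h1, h2, ← germ_smul] at hr
    obtain ⟨W, hxW', iU, iV, hW⟩ := TopCat.Presheaf.germ_eq L.presheaf x hxW hxW _ 0
      (by rw [hr, map_zero])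
    rw [map_zero] at hW
    have hWT : W ≤ T := iU.le.trans inf_le_right
    have hiU : iU = homOfLE iU.le := Subsingleton.elim _ _
    rw [hiU, Scheme.Modules.map_smul, Groth.Agent.Helper4.NApx81.map_map'] at hW
    have h3 := (hf W hWT).2 _ hW
    rw [h1, ← TopCat.Presheaf.germ_res_apply X.presheaf (homOfLE iU.le) x hxW', h3, map_zero]
  · intro m
    obtain ⟨V, hxV, m₀, rfl⟩ := TopCat.Presheaf.exists_germ_eq L.presheaf m
    have hxW : x ∈ V ⊓ T := ⟨hxV, hx⟩
    obtain ⟨r, hr⟩ := (hf (V ⊓ T) inf_le_right).1 (L.presheaf.map (homOfLE inf_le_left).op m₀)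
    refine ⟨X.presheaf.germ (V ⊓ T) x hxW r, ?_⟩
    rw [LinearMap.toSpanSingleton_apply]
    have h2 : L.presheaf.germ T x hx e =
        L.presheaf.germ (V ⊓ T) x hxW (L.presheaf.map (homOfLE inf_le_right).op e) :=
      (TopCat.Presheaf.germ_res_apply L.presheaf (homOfLE inf_le_right) x hxW e).symm
    rw [h2, ← germ_smul, ← hr]
    exact TopCat.Presheaf.germ_res_apply L.presheaf (homOfLE inf_le_left) x hxW m₀

/-- twisting by an invertible module does not change the associated points -/
theorem isAssPoint_of_tensor_invertible (L F : X.Modules) (hL : PicF.IsInvertible L) (x : X)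
    (h : Curv2.IsAssPoint (CohB1.tensorMod L F) x) : Curv2.IsAssPoint F x := by
  obtain ⟨T, e, hx, -, hf, -⟩ := AmpleFinite.exists_chart_forall L hL x
  let ε : X.presheaf.stalk x ≃ₗ[X.presheaf.stalk x] L.presheaf.stalk x :=
    LinearEquiv.ofBijective _ (toSpanSingleton_germ_bijective L T e hf x hx)
  let E : F.presheaf.stalk x ≃ₗ[X.presheaf.stalk x] (CohB1.tensorMod L F).presheaf.stalk x :=
    (TensorProduct.lid (X.presheaf.stalk x) _).symm ≪≫ₗ
      TensorProduct.congr ε (LinearEquiv.refl (X.presheaf.stalk x) _) ≪≫ₗ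
      Groth.Agent.Lead.Ref1B.stalkTensorEquiv L F x
  unfold Curv2.IsAssPoint at h ⊢
  exact (LinearEquiv.isAssociatedPrime_iff E).2 h

end Frames

section Cartier2

variable {X : Scheme.{u}} [IsLocallyNoetherian X] (D : X.IdealSheafData)

omit [IsLocallyNoetherian X] in
theorem isIso_St_idealModι (x : X) (hx : x ∉ D.support) :
    IsIso ((St x).map (ClSub.idealModι D)) := by
  have hS : ((idealSC D).map (St x)).ShortExact := (idealSC_shortExact D).map_of_exact (St x)
  have h0 : IsZero ((idealSC D).map (St x)).X₃ := by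
    have h1 : x ∉ CohB1.support (ClSub.quotMod D) := by
      rw [support_quotMod_eq]; exact hx
    have h2 : Subsingleton ((ClSub.quotMod D).presheaf.stalk x) := not_not.mp h1
    exact @ModuleCat.isZero_of_subsingleton _ _ ((St x).obj (ClSub.quotMod D)) h2
  exact hS.isIso_f_iff.2 h0

theorem mono_tensor_idealModι (hD : BlowUp.IsEffCartierIdeal D) (F : X.Modules)
    (hF : Coh.IsCoh F) (hass : ∀ x ∈ D.support, ¬ Curv2.IsAssPoint F x) :
    Mono (KoszTw.tensorMap (ClSub.idealModι D) (𝟙 F)) := by
  have hcO : Coh.IsCoh (Coh.structureModule X) :=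
    Groth.Agent.Helper1.SerreFin.isCoh_of_isInvertible _ TensorInv.isInvertible_structureModule
  have hcQ : Coh.IsCoh (ClSub.quotMod D) := isCoh_quotMod D
  have hcI : Coh.IsCoh (ClSub.idealMod D) :=
    Groth.Agent.Lead.PerfLib.isCoh_kernel hcO hcQ _
  have hI : PicF.IsInvertible (ClSub.idealMod D) :=
    Groth.Agent.Lead.IdealModDict.isInvertible_of_isEffCartierIdeal D hD
  haveI : (CohB1.tensorMod (ClSub.idealMod D) F).IsQuasicoherent :=
    (Groth.Agent.Lead.Ref1B.isCoh_tensorMod _ _ hcI hF).1
  haveI : (CohB1.tensorMod (Coh.structureModule X) F).IsQuasicoherent :=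
    (Groth.Agent.Lead.Ref1B.isCoh_tensorMod _ _ hcO hF).1
  apply AssMono.mono_of_off_ass
  intro x hx
  have hxF : Curv2.IsAssPoint F x := isAssPoint_of_tensor_invertible _ F hI x hx
  have hxD : x ∉ D.support := fun h => hass x h hxF
  haveI := isIso_St_idealModι D x hxD
  have h4 := isIso_St_tensorMap (ClSub.idealModι D) F x
  rw [stalkLin_eq_St]
  exact (ConcreteCategory.bijective_of_isIso _).1

end Cartier2

section Snoc

variable (k : Type u) [Field k] {X : Scheme.{u}} [X.Over (Spec (CommRingCat.of k))]
  [IsProper (X ↘ (Spec (CommRingCat.of k)))]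

open Groth.Agent.Lead.Ref1B

omit [IsProper (X ↘ (Spec (CommRingCat.of k)))] in
/-- the recursion for the alternating sums at the last entry -/
theorem altF_snoc : ∀ (r : ℕ) (M : Fin r → X.Modules) (C F : X.Modules),
    altF (chi k X) (Fin.snoc M C : Fin (r + 1) → X.Modules) F =
      altF (chi k X) M F - altF (chi k X) M (CohB1.tensorMod C F) := by
  intro r
  induction r with
  | zero =>
    intro M C F
    have h : (Fin.snoc M C : Fin (0 + 1) → X.Modules) = Fin.cons C M := by
      funext i
      have hi : i = Fin.last 0 := Fin.ext (by have := i.isLt; simp only [Fin.val_last]; omega)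
      rw [hi, Fin.snoc_last]
      rfl
    rw [h, altF_cons]
  | succ r ih =>
    intro M C F
    rw [← Fin.cons_self_tail M, ← Fin.cons_snoc_eq_snoc_cons, altF_cons, altF_cons, altF_cons, ih, ih]
    have e : CohB1.tensorMod C (CohB1.tensorMod (M 0) F) ≅
        CohB1.tensorMod (M 0) (CohB1.tensorMod C F) :=
      (assoc C (M 0) F).symm ≪≫ PicGrp.tensorModIso (braid C (M 0)) (Iso.refl F) ≪≫
        assoc (M 0) C F
    rw [altF_iso (chi k X) (chi_iso k) (Fin.tail M) e]
    ring

/-- additivity of the alternating sums on a short exact sequence tensored with a module,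
  when the tensored sequence stays injective on the left -/
theorem altF_tensor_ses {r : ℕ} (M : Fin r → X.Modules) (hM : ∀ i, PicF.IsInvertible (M i))
    (S : ShortComplex X.Modules) (hS : S.ShortExact) (F : X.Modules)
    (hm : Mono (KoszTw.tensorMap S.f (𝟙 F)))
    (h1 : Coh.IsCoh (CohB1.tensorMod S.X₁ F)) (h2 : Coh.IsCoh (CohB1.tensorMod S.X₂ F))
    (h3 : Coh.IsCoh (CohB1.tensorMod S.X₃ F)) :
    altF (chi k X) M (CohB1.tensorMod S.X₂ F) =
      altF (chi k X) M (CohB1.tensorMod S.X₁ F) + altF (chi k X) M (CohB1.tensorMod S.X₃ F) := by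
  haveI := hS.epi_g
  obtain ⟨hex, hepi⟩ := exact_map_tensorRightMod S hS.exact hS.epi_g F
  have hS' : (S.map (DCoh.tensorRightMod F)).ShortExact :=
    { exact := hex
      mono_f := by
        show Mono ((DCoh.tensorRightMod F).map S.f)
        rw [KoszTw.tensorRightMod_map]
        exact hm
      epi_g := hepi }
  exact (altF_addFn k M hM).add (S.map (DCoh.tensorRightMod F)) hS' h1 h2 h3

/-- S14522 -/
theorem main14522 (d : ℕ) (hd : topologicalKrullDim X ≤ d)
    {r : ℕ} (M : Fin r → X.Modules) (hM : ∀ i, PicF.IsInvertible (M i))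
    (F : X.Modules) (hF : Coh.IsCoh F)
    (D : X.IdealSheafData) (hD : BlowUp.IsEffCartierIdeal D)
    (hass : ∀ x ∈ D.support, ¬ Curv2.IsAssPoint F x) :
    FGA.intNum k X d (Fin.snoc M (ClSub.idealMod D)) F =
      FGA.intNum k X d M (CohB1.tensorMod F (ClSub.quotMod D)) := by
  haveI := Groth.Agent.Helper4.NApx82.isNoetherian_of_proper k X
  rw [intNum_eq_altF k d hd, intNum_eq_altF k d hd, altF_snoc]
  have hcO : Coh.IsCoh (Coh.structureModule X) :=
    Groth.Agent.Helper1.SerreFin.isCoh_of_isInvertible _ TensorInv.isInvertible_structureModule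
  have hcQ : Coh.IsCoh (ClSub.quotMod D) := isCoh_quotMod D
  have hcI : Coh.IsCoh (ClSub.idealMod D) :=
    Groth.Agent.Lead.PerfLib.isCoh_kernel hcO hcQ _
  have hm := mono_tensor_idealModι D hD F hF hass
  have h := altF_tensor_ses k M hM (idealSC D) (idealSC_shortExact D) F hm
    (isCoh_tensorMod _ _ hcI hF) (isCoh_tensorMod _ _ hcO hF) (isCoh_tensorMod _ _ hcQ hF)
  change altF (chi k X) M (CohB1.tensorMod (Coh.structureModule X) F) =
    altF (chi k X) M (CohB1.tensorMod (ClSub.idealMod D) F) +
      altF (chi k X) M (CohB1.tensorMod (ClSub.quotMod D) F) at h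
  rw [altF_iso (chi k X) (chi_iso k) M (unitorL F),
    altF_iso (chi k X) (chi_iso k) M (braid (ClSub.quotMod D) F)] at h
  linarith

end Snoc

end Groth.Agent.Helper4.SN
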