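import Mathlib
import Groth.Agent.Helper4.SN27
import Groth.Agent.Helper1.Dev9

/-!
# Nefness and degrees on one-dimensional proper schemes
-/

set_option autoImplicit false
set_option linter.style.haveILetI false

namespace Groth.Agent.Helper4.SN

open CategoryTheory Limits AlgebraicGeometry Opposite TopologicalSpace
open Groth.Agent.Lead.Ref1B

universe u

variable (k : Type u) [Field k] {X : Scheme.{u}} [X.Over (Spec (CommRingCat.of k))]
  [IsProper (X ↘ (Spec (CommRingCat.of k)))]

omit [IsProper (X ↘ (Spec (CommRingCat.of k)))] in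
theorem altF_one (L F : X.Modules) :
    altF (chi k X) ![L] F = chi k X F - chi k X (CohB1.tensorMod L F) := by
  have h := altF_cons k L (![] : Fin 0 → X.Modules) F
  rw [altF_zero, altF_zero] at h
  exact h

/-- nonnegativity for modules, given nonnegativity for the top-dimensional points -/
theorem nonneg_of_top (c : ℤ) {r : ℕ} (M : Fin r → X.Modules) (hM : ∀ i, PicF.IsInvertible (M i))
    (hnn : ∀ ζ : X, TopPt r ζ → 0 ≤ c * altF (chi k X) M (redMod ζ))
    (F : X.Modules) (hF : Coh.IsCoh F) (X' : Closeds X) (hX' : DimLT (X' : Set X) (r + 1))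
    (hsupp : CohB1.support F ⊆ (X' : Set X)) :
    0 ≤ c * altF (chi k X) M F := by
  classical
  obtain ⟨hfin, heq⟩ := signed_altF_eq_finsum k c M hM F hF X' hX' hsupp
  rw [heq]
  unfold Psi
  refine finsum_nonneg (fun ζ => ?_)
  by_cases ht : TopPt r ζ
  · rw [if_pos ht]
    exact nsmul_nonneg (hnn ζ ht) _
  · rw [if_neg ht]

/-- S17276 -/
theorem main17276 (hdim : topologicalKrullDim X = 1) (L : X.Modules) (hL : PicF.IsInvertible L)
    (hnef : ∀ C : X.IdealSheafData, IsIntegral C.subscheme →
      topologicalKrullDim (C.support : Set X) = 1 →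
        0 ≤ Curv2.euler k X (CohB1.tensorMod (ClSub.quotMod C) L) -
          Curv2.euler k X (ClSub.quotMod C)) :
    0 ≤ Curv2.deg k X L 1 := by
  haveI := Groth.Agent.Helper4.NApx82.isNoetherian_of_proper k X
  have hO : Coh.IsCoh (Coh.structureModule X) :=
    Groth.Agent.Helper1.SerreFin.isCoh_of_isInvertible _ TensorInv.isInvertible_structureModule
  have hX' : DimLT ((⊤ : Closeds X) : Set X) (1 + 1) :=
    dimLT_of_dim_le 1 (by rw [hdim]; exact le_refl _) _
  have h := nonneg_of_top k (-1) ![L] (fun i => by fin_cases i; exact hL) ?_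
    (Coh.structureModule X) hO ⊤ hX' (Set.subset_univ _)
  · rw [altF_one] at h
    unfold Curv2.deg
    have e := chi_iso k (SecTwist.unitorR L)
    push_cast
    linarith
  · intro ζ hζ
    rw [altF_one]
    set Y : Closeds X := ⟨closure ({ζ} : Set X), isClosed_closure⟩ with hY
    set C := Scheme.IdealSheafData.vanishingIdeal Y with hC
    have hint : IsIntegral C.subscheme :=
      Groth.Agent.Helper1.Dev.isIntegral_subscheme Y isIrreducible_singleton.closure
    have hsupp : (C.support : Set X) = closure ({ζ} : Set X) :=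
      Scheme.IdealSheafData.coe_support_vanishingIdeal Y
    have h1 := hnef C hint (by rw [hsupp]; exact hζ)
    have e := chi_iso k (braid L (ClSub.quotMod C))
    show 0 ≤ -1 * (chi k X (ClSub.quotMod C) - chi k X (CohB1.tensorMod L (ClSub.quotMod C)))
    linarith

end Groth.Agent.Helper4.SN
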