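import Mathlib
import Groth.Agent.Helper4.SN28
import Groth.Agent.Helper4.PullUnit
import Groth.Agent.Helper4.AcycLocal

/-!
# Intersection with a curve on a surface: `(O(C) · L) = deg L|_C`
-/

set_option autoImplicit false
set_option linter.style.haveILetI false

namespace Groth.Agent.Helper4.SN

open CategoryTheory Limits AlgebraicGeometry Opposite TopologicalSpace
open Groth.Agent.Lead.Ref1B

universe u

section IsoPush

variable {C Z : Scheme.{u}} (e : C ⟶ Z) [IsIso e]

theorem isIso_unitToPush : IsIso (ClSub.unitToPush e) := by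
  haveI : Mono (ClSub.unitToPush e) := AssMono.mono_of_app_injective _ (fun V =>
    (ConcreteCategory.bijective_of_isIso (e.app V)).1)
  haveI : Epi (ClSub.unitToPush e) := AcycLocal.epi_of_app_surjective_affine _ (fun U _ =>
    (ConcreteCategory.bijective_of_isIso (e.app U)).2)
  exact isIso_of_mono_of_epi _

end IsoPush

/-- for a closed immersion, `O_X / ker ≅ i_* O_C` -/
noncomputable def quotModIsoPush {C X : Scheme.{u}} (i : C ⟶ X) [IsClosedImmersion i] :
    ClSub.quotMod i.ker ≅ (Scheme.Modules.pushforward i).obj (Coh.structureModule C) :=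
  haveI := isIso_unitToPush i.toImage
  (Scheme.Modules.pushforward i.imageι).mapIso (asIso (ClSub.unitToPush i.toImage)) ≪≫
    (Scheme.Modules.pushforwardComp i.toImage i.imageι).app _ ≪≫
    (Scheme.Modules.pushforwardCongr i.toImage_imageι).app _

section Main

variable (k : Type u) [Field k] {X : Scheme.{u}} [X.Over (Spec (CommRingCat.of k))]
  [IsProper (X ↘ (Spec (CommRingCat.of k)))]

/-- `(O(C) · L') = χ(O_C) - χ(L'|_C)` where intersection numbers are written with inverses -/
theorem altF_ideal_eq {C : Scheme.{u}} (i : C ⟶ X) [IsClosedImmersion i]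
    (L' : X.Modules) (hL' : PicF.IsInvertible L') :
    altF (chi k X) ![ClSub.idealMod i.ker, L'] (Coh.structureModule X) =
      @Curv2.euler k _ C ⟨i ≫ (X ↘ Spec (CommRingCat.of k))⟩ (Coh.structureModule C) -
      @Curv2.euler k _ C ⟨i ≫ (X ↘ Spec (CommRingCat.of k))⟩
        ((Scheme.Modules.pullback i).obj L') := by
  haveI := Groth.Agent.Helper4.NApx82.isNoetherian_of_proper k X
  letI : C.Over (Spec (CommRingCat.of k)) := ⟨i ≫ (X ↘ Spec (CommRingCat.of k))⟩
  have hcO : Coh.IsCoh (Coh.structureModule X) :=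
    Groth.Agent.Helper1.SerreFin.isCoh_of_isInvertible _ TensorInv.isInvertible_structureModule
  have hcQ : Coh.IsCoh (ClSub.quotMod i.ker) := isCoh_quotMod i.ker
  have hcI : Coh.IsCoh (ClSub.idealMod i.ker) :=
    Groth.Agent.Lead.PerfLib.isCoh_kernel hcO hcQ _
  have hM : ∀ j, PicF.IsInvertible ((![L'] : Fin 1 → X.Modules) j) := fun j => by
    fin_cases j; exact hL'
  have h1 : altF (chi k X) ![ClSub.idealMod i.ker, L'] (Coh.structureModule X) =
      altF (chi k X) ![L'] (Coh.structureModule X) -
        altF (chi k X) ![L'] (CohB1.tensorMod (ClSub.idealMod i.ker) (Coh.structureModule X)) :=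
    altF_cons k (ClSub.idealMod i.ker) ![L'] (Coh.structureModule X)
  have h2 := (altF_addFn k ![L'] hM).add (idealSC i.ker) (idealSC_shortExact i.ker) hcI hcO hcQ
  change altF (chi k X) ![L'] (Coh.structureModule X) =
    altF (chi k X) ![L'] (ClSub.idealMod i.ker) + altF (chi k X) ![L'] (ClSub.quotMod i.ker) at h2
  rw [h1, altF_iso (chi k X) (chi_iso k) ![L'] (SecTwist.unitorR (ClSub.idealMod i.ker)), h2,
    add_sub_cancel_left, altF_one]
  -- now identify the two Euler characteristics
  have hLC : PicF.IsInvertible ((Scheme.Modules.pullback i).obj L') :=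
    Groth.Agent.Helper4.PullSec.isInvertible_pullback i hL'
  haveI : Coh.IsQCoh ((Scheme.Modules.pullback i).obj L') :=
    (Groth.Agent.Helper1.SerreFin.isCoh_of_isInvertible _ hLC).1
  haveI : Coh.IsQCoh (Coh.structureModule C) :=
    (Groth.Agent.Helper1.SerreFin.isCoh_of_isInvertible _
      TensorInv.isInvertible_structureModule).1
  rw [euler_push k i, euler_push k i]
  have e1 : ClSub.quotMod i.ker ≅ (Scheme.Modules.pushforward i).obj (Coh.structureModule C) :=
    quotModIsoPush i
  have e2 : CohB1.tensorMod L' (ClSub.quotMod i.ker) ≅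
      (Scheme.Modules.pushforward i).obj ((Scheme.Modules.pullback i).obj L') :=
    braid _ _ ≪≫ PicGrp.tensorModIso e1 (Iso.refl L') ≪≫
      Groth.Agent.Helper1.PF.projIso i (Coh.structureModule C) L' hL' ≪≫
      (Scheme.Modules.pushforward i).mapIso (unitorL _)
  rw [chi_iso k e1, chi_iso k e2]

end Main

section Curve

variable (k : Type u) [Field k] {C : Scheme.{u}} [C.Over (Spec (CommRingCat.of k))]
  [IsProper (C ↘ (Spec (CommRingCat.of k)))]

/-- on a proper scheme of dimension at most one, `χ(N) + χ(N⁻¹) = 2 χ(O)` -/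
theorem chi_add_inverse_of_dim_one (hdim : topologicalKrullDim C ≤ 1) (N N' : C.Modules)
    (hN : PicF.IsInvertible N) (hN' : PicF.IsInvertible N')
    (e : CohB1.tensorMod N N' ≅ Coh.structureModule C) :
    chi k C N + chi k C N' = 2 * chi k C (Coh.structureModule C) := by
  haveI := Groth.Agent.Helper4.NApx82.isNoetherian_of_proper k C
  have hcO : Coh.IsCoh (Coh.structureModule C) :=
    Groth.Agent.Helper1.SerreFin.isCoh_of_isInvertible _ TensorInv.isInvertible_structureModule
  have hM : ∀ j, PicF.IsInvertible ((![N, N'] : Fin 2 → C.Modules) j) := fun j => by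
    fin_cases j
    · exact hN
    · exact hN'
  have h0 := snapper_vanishing k ![N, N'] hM (Coh.structureModule C) hcO
    (dimLT_of_dim_le 1 hdim _)
  have h1 : altF (chi k C) ![N, N'] (Coh.structureModule C) =
      altF (chi k C) ![N'] (Coh.structureModule C) -
        altF (chi k C) ![N'] (CohB1.tensorMod N (Coh.structureModule C)) :=
    altF_cons k N ![N'] (Coh.structureModule C)
  rw [h1, altF_one, altF_one] at h0
  have e1 : CohB1.tensorMod N' (Coh.structureModule C) ≅ N' := SecTwist.unitorR N'
  have e2 : CohB1.tensorMod N (Coh.structureModule C) ≅ N := SecTwist.unitorR N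
  have e3 : CohB1.tensorMod N' (CohB1.tensorMod N (Coh.structureModule C)) ≅
      Coh.structureModule C :=
    PicGrp.tensorModIso (Iso.refl N') e2 ≪≫ braid N' N ≪≫ e
  rw [chi_iso k e1, chi_iso k e2, chi_iso k e3] at h0
  linarith

end Curve

section Final

variable (k : Type u) [Field k] {X : Scheme.{u}} [X.Over (Spec (CommRingCat.of k))]
  [IsProper (X ↘ (Spec (CommRingCat.of k)))]

/-- S13459 -/
theorem main13459 (hdim : topologicalKrullDim X = 2) {C : Scheme.{u}} (i : C ⟶ X)
    [IsClosedImmersion i] (hC : topologicalKrullDim C = 1)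
    (L L' : X.Modules) (hL : PicF.IsInvertible L)
    (hLL' : Nonempty (CohB1.tensorMod L L' ≅ Coh.structureModule X)) :
    letI : C.Over (Spec (CommRingCat.of k)) := ⟨i ≫ (X ↘ (Spec (CommRingCat.of k)))⟩
    FGA.intNum k X 2 ![ClSub.idealMod i.ker, L'] (Coh.structureModule X) =
      Curv2.deg k C ((Scheme.Modules.pullback i).obj L) 1 := by
  letI : C.Over (Spec (CommRingCat.of k)) := ⟨i ≫ (X ↘ (Spec (CommRingCat.of k)))⟩
  haveI : IsProper (C ↘ Spec (CommRingCat.of k)) := by
    show IsProper (i ≫ (X ↘ Spec (CommRingCat.of k)))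
    infer_instance
  obtain ⟨e⟩ := hLL'
  have hL' : PicF.IsInvertible L' :=
    Groth.Agent.Helper4.InvOfTensor.isInvertible_of_tensor_iso L' L (braid L' L ≪≫ e)
  show FGA.intNum k X 2 ![ClSub.idealMod i.ker, L'] (Coh.structureModule X) =
      Curv2.deg k C ((Scheme.Modules.pullback i).obj L) 1
  rw [intNum_eq_altF k 2 (by rw [hdim]; exact le_refl _), altF_ideal_eq k i L' hL']
  unfold Curv2.deg
  have eC : CohB1.tensorMod ((Scheme.Modules.pullback i).obj L)
      ((Scheme.Modules.pullback i).obj L') ≅ Coh.structureModule C :=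
    (Groth.Agent.Helper4.PullTensor.pullTensorIso i hL hL').symm ≪≫
      (Scheme.Modules.pullback i).mapIso e ≪≫ Groth.Agent.Helper4.PullUnit.pullbackUnitIso i
  have h := chi_add_inverse_of_dim_one k (by rw [hC])
    ((Scheme.Modules.pullback i).obj L) ((Scheme.Modules.pullback i).obj L')
    (Groth.Agent.Helper4.PullSec.isInvertible_pullback i hL)
    (Groth.Agent.Helper4.PullSec.isInvertible_pullback i hL') eC
  push_cast
  linarith

end Final

end Groth.Agent.Helper4.SN
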