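import Mathlib
import Groth.Agent.Helper9.PullMon4
import Groth.Agent.Helper4.SN29
import Groth.Agent.Helper4.FinLocFree7
import Groth.Agent.Helper1.Dev4

/-!
# Modules supported at a closed point are skyscrapers; twisting them by locally free modules
-/

set_option autoImplicit false
set_option linter.style.haveILetI false

namespace Groth.Agent.Helper4.SN

open CategoryTheory Limits AlgebraicGeometry Opposite TopologicalSpace MonoidalCategory
open Groth.Agent.Helper9.SkyMod1 Groth.Agent.Helper9.SkyMod2 Groth.Agent.Helper9.SkyMod4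
  Groth.Agent.Helper9.SkyMod5 Groth.Agent.Helper9.StalkTensor8 Groth.Agent.Helper9.PullMon4
open Groth.Agent.Lead.Ref1B

universe u

section Sky

variable {X : Scheme.{u}}

theorem subsingleton_stalk_sky (x y : X) (hx : IsClosed ({x} : Set X)) (hy : y ≠ x)
    (N : ModuleCat.{u} (X.presheaf.stalk x)) :
    Subsingleton ((sky x N).presheaf.stalk y) := by
  have key : ∀ a : (sky x N).presheaf.stalk y, a = 0 := by
    intro a
    obtain ⟨V, hyV, s, rfl⟩ := TopCat.Presheaf.exists_germ_eq (sky x N).presheaf a
    let W : X.Opens := V ⊓ ⟨({x} : Set X)ᶜ, hx.isOpen_compl⟩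
    have hyW : y ∈ W := ⟨hyV, hy⟩
    rw [← TopCat.Presheaf.germ_res_apply (sky x N).presheaf (homOfLE inf_le_left : W ⟶ V) y hyW s]
    have h0 : ((sky x N).presheaf.map (homOfLE inf_le_left : W ⟶ V).op s) = 0 := by
      show (_ : PLift (x ∈ W) → N) = 0
      funext h
      exact absurd rfl h.down.2
    rw [h0, map_zero]
  exact ⟨fun a b => by rw [key a, key b]⟩

/-- a module supported at a closed point is the skyscraper of its stalk -/
theorem isIso_unit_of_support_subset (x : X) (hx : IsClosed ({x} : Set X)) (G : X.Modules)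
    (hG : CohB1.support G ⊆ {x}) : IsIso ((adj x).unit.app G) := by
  apply isIso_of_stalks
  intro y
  by_cases hy : y = x
  · subst hy
    exact isIso_St_unit y G
  · have h1 : IsZero ((St y).obj G) := by
      have : Subsingleton (G.presheaf.stalk y) := not_not.mp (fun h => hy (hG h))
      exact @ModuleCat.isZero_of_subsingleton _ _ ((St y).obj G) this
    have h2 : IsZero ((St y).obj ((skyFunctor x).obj ((St x).obj G))) := by
      have := subsingleton_stalk_sky x y hx hy ((St x).obj G)
      exact @ModuleCat.isZero_of_subsingleton _ _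
        ((St y).obj ((skyFunctor x).obj ((St x).obj G))) this
    exact ⟨⟨0, h1.eq_of_src _ _, h2.eq_of_src _ _⟩⟩

/-- modules supported at a closed point with isomorphic stalks are isomorphic -/
theorem nonempty_iso_of_stalk_iso (x : X) (hx : IsClosed ({x} : Set X)) (G G' : X.Modules)
    (hG : CohB1.support G ⊆ {x}) (hG' : CohB1.support G' ⊆ {x})
    (e : (St x).obj G ≅ (St x).obj G') : Nonempty (G ≅ G') := by
  haveI := isIso_unit_of_support_subset x hx G hG
  haveI := isIso_unit_of_support_subset x hx G' hG'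
  exact ⟨asIso ((adj x).unit.app G) ≪≫ (skyFunctor x).mapIso e ≪≫
    (asIso ((adj x).unit.app G')).symm⟩

end Sky

section Twist

variable {X : Scheme.{u}}

theorem nonempty_basis_stalk_of_rank {n : ℕ} (E : X.Modules)
    (hE : FlatMod.IsFinLocFreeOfRank n E) (x : X) :
    Nonempty (Module.Basis (Fin n) (X.presheaf.stalk x) (E.presheaf.stalk x)) := by
  haveI : E.IsQuasicoherent := FinLocFree4.isQuasicoherent_of_isFinLocFree E
    (FinLocFree7.isFinLocFree_of_rank E hE)
  obtain ⟨V, hxV, hV⟩ := hE x
  exact FinLocFree2.nonempty_basis_stalk_of_isFreeAlong E hV x hxV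

theorem isFinLocFreeOfRank_freeMod (n : ℕ) :
    FlatMod.IsFinLocFreeOfRank n (FlatMod.freeMod X n) :=
  fun _ => ⟨⊤, trivial, ⟨FinLocFree.restrictFreeIso _ n⟩⟩

/-- twisting a module supported at a closed point by a locally free module of rank `n` -/
theorem nonempty_tensor_iso_free {n : ℕ} (x : X) (hx : IsClosed ({x} : Set X))
    (G E : X.Modules) (hG : CohB1.support G ⊆ {x}) (hE : FlatMod.IsFinLocFreeOfRank n E) :
    Nonempty (CohB1.tensorMod G E ≅ CohB1.tensorMod G (FlatMod.freeMod X n)) := by
  obtain ⟨b⟩ := nonempty_basis_stalk_of_rank E hE x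
  obtain ⟨b'⟩ := nonempty_basis_stalk_of_rank (FlatMod.freeMod X n)
    (isFinLocFreeOfRank_freeMod n) x
  let ε : (St x).obj E ≅ (St x).obj (FlatMod.freeMod X n) :=
    (b.equiv b' (Equiv.refl _)).toModuleIso
  refine nonempty_iso_of_stalk_iso x hx _ _
    ((support_tensorMod_subset_left G E).trans hG)
    ((support_tensorMod_subset_left G _).trans hG) ?_
  exact (stIso' x G E).symm ≪≫ whiskerLeftIso ((St x).obj G) ε ≪≫
    stIso' x G (FlatMod.freeMod X n)

theorem closure_singleton_of_topPt_zero (ξ : X) (h : TopPt 0 ξ) :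
    closure ({ξ} : Set X) = {ξ} := by
  rw [topPt_iff] at h
  have hmin : IsMin (irrCl ξ) := Order.height_eq_zero.mp (by exact_mod_cast h)
  ext z
  constructor
  · intro hz
    have hle : irrCl z ≤ irrCl ξ :=
      closure_minimal (Set.singleton_subset_iff.mpr hz) isClosed_closure
    have hge : irrCl ξ ≤ irrCl z := hmin hle
    have h1 : ξ ∈ closure ({z} : Set X) := hge (subset_closure rfl)
    have h2 : z ⤳ ξ := specializes_iff_mem_closure.mpr h1
    have h3 : ξ ⤳ z := specializes_iff_mem_closure.mpr hz
    exact (h2.antisymm h3).eq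
  · rintro rfl
    exact subset_closure rfl

end Twist

section FlatTwist

variable {X : Scheme.{u}}

/-- a morphism which is a monomorphism on all stalks is a monomorphism -/
theorem mono_of_stalks {M N : X.Modules} (φ : M ⟶ N) (h : ∀ x : X, Mono ((St x).map φ)) :
    Mono φ := by
  rw [Preadditive.mono_iff_isZero_kernel]
  apply isZero_of_stalks
  intro x
  haveI := h x
  have e : (St x).obj (kernel φ) ≅ kernel ((St x).map φ) := PreservesKernel.iso (St x) φ
  exact (isZero_kernel_of_mono ((St x).map φ)).of_iso e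

/-- tensoring with a module with flat stalks is exact -/
theorem shortExact_map_tensorRightMod_of_flat (S : ShortComplex X.Modules) (hS : S.ShortExact)
    (E : X.Modules) (hE : ∀ x : X, Module.Flat (X.presheaf.stalk x) (E.presheaf.stalk x)) :
    (S.map (DCoh.tensorRightMod E)).ShortExact := by
  haveI := hS.epi_g
  haveI := hS.mono_f
  obtain ⟨hex, hepi⟩ := exact_map_tensorRightMod S hS.exact hS.epi_g E
  refine { exact := hex, mono_f := ?_, epi_g := hepi }
  show Mono ((DCoh.tensorRightMod E).map S.f)
  apply mono_of_stalks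
  intro x
  have hnat := (stRightIso E x).hom.naturality S.f
  let a₁ := (stRightIso E x).app S.X₁
  let a₂ := (stRightIso E x).app S.X₂
  have h3 : (St x).map ((DCoh.tensorRightMod E).map S.f) =
      a₁.hom ≫ (tensorRight ((St x).obj E)).map ((St x).map S.f) ≫ a₂.inv := by
    rw [← Category.assoc, Iso.eq_comp_inv]
    exact hnat
  rw [h3]
  have hm : Mono ((tensorRight ((St x).obj E)).map ((St x).map S.f)) := by
    rw [ModuleCat.mono_iff_injective]
    haveI : Module.Flat (X.presheaf.stalk x) ((St x).obj E) := hE x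
    have hinj : Function.Injective ((St x).map S.f).hom :=
      (ModuleCat.mono_iff_injective _).mp inferInstance
    exact Module.Flat.rTensor_preserves_injective_linearMap ((St x).map S.f).hom hinj
  have e1 : Mono a₂.inv := @IsIso.mono_of_iso _ _ _ _ a₂.inv (Iso.isIso_inv a₂)
  have e2 : Mono a₁.hom := @IsIso.mono_of_iso _ _ _ _ a₁.hom (Iso.isIso_hom a₁)
  have e3 := @mono_comp _ _ _ _ _ _ hm _ e1
  exact @mono_comp _ _ _ _ _ _ e2 _ e3

end FlatTwist

section Rank

variable (k : Type u) [Field k] {X : Scheme.{u}} [X.Over (Spec (CommRingCat.of k))]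
  [IsProper (X ↘ (Spec (CommRingCat.of k)))]

open Groth.Agent.Helper1.Dev

omit [IsProper (X ↘ (Spec (CommRingCat.of k)))] in
theorem chi_tensorRight_obj (G M : X.Modules) :
    chi k X ((DCoh.tensorRightMod G).obj M) = chi k X (CohB1.tensorMod M G) := rfl

theorem isCoh_tensorRight_obj (G M : X.Modules) (hG : Coh.IsCoh G) (hM : Coh.IsCoh M) :
    Coh.IsCoh ((DCoh.tensorRightMod G).obj M) := isCoh_tensorMod M G hM hG

/-- `χ(O^n ⊗ G) = n χ(G)` -/
theorem chi_freeMod_tensor (G : X.Modules) (hG : Coh.IsCoh G) : ∀ n : ℕ,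
    chi k X ((DCoh.tensorRightMod G).obj (FlatMod.freeMod X n)) = n * chi k X G := by
  haveI := Groth.Agent.Helper4.NApx82.isNoetherian_of_proper k X
  intro n
  induction n with
  | zero =>
    have h0 : IsZero (FlatMod.freeMod X 0) := by
      rw [IsZero.iff_id_eq_zero]
      apply Sigma.hom_ext
      intro j
      exact j.elim0
    rw [chi_of_isZero k ((DCoh.tensorRightMod G).map_isZero h0)]
    simp
  | succ n ih =>
    have hO := isCoh_structureModule X
    have hS : ((sigmaSC (Coh.structureModule X) n).map (DCoh.tensorRightMod G)).ShortExact :=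
      ((sigmaSplitting (Coh.structureModule X) n).map (DCoh.tensorRightMod G)).shortExact
    have h := chi_add k _ hS
      (isCoh_tensorRight_obj G _ hG hO)
      (isCoh_tensorRight_obj G _ hG (isCoh_freeMod X (n + 1)))
      (isCoh_tensorRight_obj G _ hG (isCoh_freeMod X n))
    have h1 : chi k X ((DCoh.tensorRightMod G).obj (Coh.structureModule X)) = chi k X G := by
      rw [chi_tensorRight_obj]
      exact chi_iso k (unitorL G)
    change chi k X ((DCoh.tensorRightMod G).obj (FlatMod.freeMod X (n + 1))) =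
      chi k X ((DCoh.tensorRightMod G).obj (Coh.structureModule X)) +
        chi k X ((DCoh.tensorRightMod G).obj (FlatMod.freeMod X n)) at h
    rw [h, ih, h1]
    push_cast
    ring

end Rank

section Main1558

variable (k : Type u) [Field k] {X : Scheme.{u}} [X.Over (Spec (CommRingCat.of k))]
  [IsProper (X ↘ (Spec (CommRingCat.of k)))]

open Groth.Agent.Helper1.Dev

/-- the defect `χ(F ⊗ E) - n χ(F)` -/
noncomputable def rkDefect (n : ℕ) (E F : X.Modules) : ℤ :=
  chi k X ((DCoh.tensorRightMod E).obj F) - n * chi k X F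

omit [IsProper (X ↘ (Spec (CommRingCat.of k)))] in
theorem rkDefect_iso (n : ℕ) (E : X.Modules) {F G : X.Modules} (e : F ≅ G) :
    rkDefect k n E F = rkDefect k n E G := by
  unfold rkDefect
  rw [chi_iso k ((DCoh.tensorRightMod E).mapIso e), chi_iso k e]

theorem rkDefect_add (n : ℕ) (E : X.Modules) (hE : FlatMod.IsFinLocFreeOfRank n E)
    (S : ShortComplex X.Modules) (hS : S.ShortExact) (h1 : Coh.IsCoh S.X₁) (h2 : Coh.IsCoh S.X₂)
    (h3 : Coh.IsCoh S.X₃) :
    rkDefect k n E S.X₂ = rkDefect k n E S.X₁ + rkDefect k n E S.X₃ := by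
  have hE' := FinLocFree7.isFinLocFree_of_rank E hE
  haveI : E.IsQuasicoherent := FinLocFree4.isQuasicoherent_of_isFinLocFree E hE'
  have hcE : Coh.IsCoh E := Groth.Agent.Lead.PerfLib.isCoh_of_isFinLocFree hE'
  have hflat : ∀ x : X, Module.Flat (X.presheaf.stalk x) (E.presheaf.stalk x) := fun x => by
    haveI := FinLocFree2.free_stalk_of_isFinLocFree E hE' x
    infer_instance
  have hS' := shortExact_map_tensorRightMod_of_flat S hS E hflat
  have ha := chi_add k _ hS' (isCoh_tensorRight_obj E _ hcE h1) (isCoh_tensorRight_obj E _ hcE h2)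
    (isCoh_tensorRight_obj E _ hcE h3)
  have hb := chi_add k S hS h1 h2 h3
  change chi k X ((DCoh.tensorRightMod E).obj S.X₂) =
    chi k X ((DCoh.tensorRightMod E).obj S.X₁) + chi k X ((DCoh.tensorRightMod E).obj S.X₃) at ha
  unfold rkDefect
  rw [ha, hb]
  ring

omit [IsProper (X ↘ (Spec (CommRingCat.of k)))] in
theorem rkDefect_zero (n : ℕ) (E : X.Modules) (F : X.Modules) (hF : IsZero F) :
    rkDefect k n E F = 0 := by
  unfold rkDefect
  rw [chi_of_isZero k hF, chi_of_isZero k ((DCoh.tensorRightMod E).map_isZero hF)]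
  simp

/-- the defect vanishes on the reduced closed points -/
theorem rkDefect_redMod (n : ℕ) (E : X.Modules) (hE : FlatMod.IsFinLocFreeOfRank n E)
    (ξ : X) (hξ : TopPt 0 ξ) : rkDefect k n E (redMod ξ) = 0 := by
  haveI := Groth.Agent.Helper4.NApx82.isNoetherian_of_proper k X
  have hcl := closure_singleton_of_topPt_zero ξ hξ
  have hx : IsClosed ({ξ} : Set X) := by
    rw [← hcl]; exact isClosed_closure
  set Y : Closeds X := ⟨closure ({ξ} : Set X), isClosed_closure⟩ with hY
  have hsupp : CohB1.support (redMod ξ) ⊆ {ξ} := by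
    refine (support_quotMod_subset (Scheme.IdealSheafData.vanishingIdeal Y)).trans ?_
    rw [Scheme.IdealSheafData.coe_support_vanishingIdeal Y]
    exact hcl.le
  obtain ⟨e⟩ := nonempty_tensor_iso_free ξ hx (redMod ξ) E hsupp hE
  have hcG : Coh.IsCoh (redMod ξ) := isCoh_quotMod _
  unfold rkDefect
  rw [chi_tensorRight_obj, chi_iso k e, chi_iso k (braid _ _), ← chi_tensorRight_obj,
    chi_freeMod_tensor k _ hcG n, sub_self]

/-- the defect vanishes for modules with zero-dimensional support -/
theorem rkDefect_eq_zero_of_dimLT (F : X.Modules) (hF : Coh.IsCoh F)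
    (hdim : DimLT (CohB1.support F) 1)
    (n : ℕ) (E : X.Modules) (hE : FlatMod.IsFinLocFreeOfRank n E) :
    rkDefect k n E F = 0 := by
  haveI := Groth.Agent.Helper4.NApx82.isNoetherian_of_proper k X
  have hcl : IsClosed (CohB1.support F) := Groth.Agent.S0020.result _ _ hF.2
  have hX' : DimLT ((⟨CohB1.support F, hcl⟩ : Closeds X) : Set X) (0 + 1) := hdim
  have hsmall : ∀ F : X.Modules, Coh.IsCoh F → DimLT (CohB1.support F) 0 →
      rkDefect k n E F ∈ (⊥ : AddSubgroup ℤ) := by
    intro G hG hdim
    rw [AddSubgroup.mem_bot]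
    apply rkDefect_zero
    apply Groth.Agent.Helper9.SkyMod5.isZero_of_stalks
    intro x
    have hclG : IsClosed (CohB1.support G) := Groth.Agent.S0020.result _ _ hG.2
    have hx : x ∉ CohB1.support G := by
      intro hx
      have h1 : ((irrCl x : IrreducibleCloseds X) : Set X) ⊆ CohB1.support G :=
        closure_minimal (Set.singleton_subset_iff.mpr hx) hclG
      exact absurd (hdim (irrCl x) h1) (by simp)
    have h2 : Subsingleton (G.presheaf.stalk x) := not_not.mp hx
    exact @ModuleCat.isZero_of_subsingleton _ _ ((Groth.Agent.Helper9.SkyMod4.St x).obj G) h2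
  have hK := mult_devissage (⊥ : AddSubgroup ℤ) (fun F => rkDefect k n E F)
    (fun _ => (0 : ℤ)) 0
    (fun e => rkDefect_iso k n E e)
    (fun S hS h1 h2 h3 => rkDefect_add k n E hE S hS h1 h2 h3)
    (fun F hF => rkDefect_zero k n E F hF) hsmall
    (fun ξ hξ => by
      rw [AddSubgroup.mem_bot, sub_zero]
      exact rkDefect_redMod k n E hE ξ hξ)
    ⟨CohB1.support F, hcl⟩ hX' F hF (le_refl _)
  obtain ⟨-, hmem⟩ := hK
  rw [AddSubgroup.mem_bot] at hmem
  have hPsi : Psi (fun _ : X => (0 : ℤ)) 0 F = 0 := by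
    unfold Psi
    refine finsum_eq_zero_of_forall_eq_zero (fun ξ => ?_)
    split_ifs <;> simp
  rw [hPsi, sub_zero] at hmem
  exact hmem

/-- S1558 -/
theorem main1558 (F : X.Modules) (hF : Coh.IsCoh F)
    (hsupp : topologicalKrullDim (CohB1.support F) ≤ 0)
    (n : ℕ) (E : X.Modules) (hE : FlatMod.IsFinLocFreeOfRank n E) :
    Curv2.euler k X (CohB1.tensorMod F E) = n * Curv2.euler k X F := by
  have hdim : DimLT (CohB1.support F) 1 := by
    apply dimLT_of_krullDim_lt
    refine lt_of_le_of_lt hsupp ?_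
    exact_mod_cast Nat.lt_succ_self 0
  have hmem := rkDefect_eq_zero_of_dimLT k F hF hdim n E hE
  have hmem' : chi k X ((DCoh.tensorRightMod E).obj F) - n * chi k X F = 0 := hmem
  rw [chi_tensorRight_obj] at hmem'
  linarith

end Main1558

end Groth.Agent.Helper4.SN
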