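import Mathlib
import Groth.Agent.Helper4.SN30

/-!
# Riemann–Roch for locally free modules against coherent modules on an integral curve
-/

set_option autoImplicit false
set_option linter.style.haveILetI false

namespace Groth.Agent.Helper4.SN

open CategoryTheory Limits AlgebraicGeometry Opposite TopologicalSpace
open Groth.Agent.Lead.Ref1B

universe u

section Generic

variable {X : Scheme.{u}} [IsIntegral X]

theorem closure_genericPoint : closure ({genericPoint X} : Set X) = Set.univ :=
  (genericPoint_spec X).def

theorem topPt_iff_eq_genericPoint (d : ℕ) (hdim : topologicalKrullDim X = d) (ξ : X) :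
    TopPt d ξ ↔ ξ = genericPoint X := by
  constructor
  · intro h
    rw [topPt_iff] at h
    have hle : irrCl ξ ≤ irrCl (genericPoint X) := by
      show closure ({ξ} : Set X) ⊆ closure ({genericPoint X} : Set X)
      rw [closure_genericPoint]
      exact Set.subset_univ _
    rcases hle.lt_or_eq with hlt | heq
    · exfalso
      have h1 : Order.height (irrCl ξ) < Order.height (irrCl (genericPoint X)) :=
        Order.height_strictMono hlt (by rw [h]; exact ENat.natCast_lt_top d)
      have h2 : (Order.height (irrCl (genericPoint X)) : WithBot ℕ∞) ≤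
          Order.krullDim (IrreducibleCloseds X) := Order.height_le_krullDim _
      have h3 : Order.krullDim (IrreducibleCloseds X) = (d : WithBot ℕ∞) := hdim
      rw [h3] at h2
      have h4 : Order.height (irrCl (genericPoint X)) ≤ (d : ℕ∞) := by exact_mod_cast h2
      rw [h] at h1
      exact absurd h1 (not_lt.mpr h4)
    · have h1 : closure ({ξ} : Set X) = closure ({genericPoint X} : Set X) :=
        congrArg (fun Z : IrreducibleCloseds X => (Z : Set X)) heq
      have hg : IsGenericPoint ξ (Set.univ : Set X) := by
        show closure ({ξ} : Set X) = Set.univ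
        rw [h1, closure_genericPoint]
      exact hg.eq (genericPoint_spec X)
  · rintro rfl
    unfold TopPt
    rw [closure_genericPoint, ← hdim]
    exact (IsHomeomorph.topologicalKrullDim_eq _ (Homeomorph.Set.univ X).isHomeomorph)

end Generic

section Main1557

variable (k : Type u) [Field k] {X : Scheme.{u}} [X.Over (Spec (CommRingCat.of k))]
  [IsIntegral X] [IsProper (X ↘ (Spec (CommRingCat.of k)))]

omit [X.Over (Spec (CommRingCat.of k))] [IsProper (X ↘ (Spec (CommRingCat.of k)))] in
/-- on an integral scheme the reduced module of the generic point is `O_X` -/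
theorem nonempty_redMod_genericPoint_iso :
    Nonempty (redMod (genericPoint X) ≅ Coh.structureModule X) := by
  set Y : Closeds X := ⟨closure ({genericPoint X} : Set X), isClosed_closure⟩ with hYdef
  have hY : Y = ⊤ := Closeds.ext closure_genericPoint
  have hI : Scheme.IdealSheafData.vanishingIdeal Y = ⊥ := by
    rw [hY, Scheme.IdealSheafData.vanishingIdeal_top, Scheme.nilradical_eq_bot]
  haveI : IsIso (Scheme.IdealSheafData.vanishingIdeal Y).subschemeι :=
    (Scheme.isIso_subschemeι_iff_eq_bot _).2 hI
  haveI := isIso_unitToPush (Scheme.IdealSheafData.vanishingIdeal Y).subschemeι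
  exact ⟨(asIso (ClSub.unitToPush (Scheme.IdealSheafData.vanishingIdeal Y).subschemeι)).symm⟩

/-- S1557 -/
theorem main1557 (hdim : topologicalKrullDim X = 1)
    (n : ℕ) (E : X.Modules) (hE : FlatMod.IsFinLocFreeOfRank n E) (F : X.Modules)
    (hF : Coh.IsCoh F) :
    Curv2.euler k X (CohB1.tensorMod E F) =
      (Module.finrank (X.presheaf.stalk (genericPoint X))
        (F.presheaf.stalk (genericPoint X)) : ℤ) * Curv2.deg k X E n +
        n * Curv2.euler k X F := by
  classical
  haveI := Groth.Agent.Helper4.NApx82.isNoetherian_of_proper k X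
  have hdim' : topologicalKrullDim X = ((1 : ℕ) : WithBot ℕ∞) := by rw [hdim]; rfl
  have hsmall : ∀ G : X.Modules, Coh.IsCoh G → DimLT (CohB1.support G) 1 →
      rkDefect k n E G ∈ (⊥ : AddSubgroup ℤ) := fun G hG hd => by
    rw [AddSubgroup.mem_bot]
    exact rkDefect_eq_zero_of_dimLT k G hG hd n E hE
  have hK := mult_devissage (⊥ : AddSubgroup ℤ) (fun F => rkDefect k n E F)
    (fun ξ => rkDefect k n E (redMod ξ)) 1
    (fun e => rkDefect_iso k n E e)
    (fun S hS h1 h2 h3 => rkDefect_add k n E hE S hS h1 h2 h3)
    (fun F hF => rkDefect_zero k n E F hF) hsmall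
    (fun ξ _ => by rw [AddSubgroup.mem_bot]; exact sub_self _)
    ⊤ (dimLT_of_dim_le 1 hdim'.le _) F hF (Set.subset_univ _)
  obtain ⟨-, hmem⟩ := hK
  rw [AddSubgroup.mem_bot, sub_eq_zero] at hmem
  have hPsi : Psi (fun ξ => rkDefect k n E (redMod ξ)) 1 F =
      (len F (genericPoint X)).toNat • rkDefect k n E (redMod (genericPoint X)) := by
    unfold Psi
    rw [finsum_eq_single _ (genericPoint X) (fun ξ hξ =>
      if_neg (fun ht => hξ ((topPt_iff_eq_genericPoint 1 hdim' ξ).mp ht)))]
    rw [if_pos ((topPt_iff_eq_genericPoint 1 hdim' (genericPoint X)).mpr rfl)]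
  have hlen : (len F (genericPoint X)).toNat =
      Module.finrank (X.presheaf.stalk (genericPoint X)) (F.presheaf.stalk (genericPoint X)) := by
    unfold len
    rw [Module.length_eq_rank (X.presheaf.stalk (genericPoint X))]
    rfl
  obtain ⟨e⟩ := nonempty_redMod_genericPoint_iso (X := X)
  have hdeg : rkDefect k n E (redMod (genericPoint X)) = Curv2.deg k X E n := by
    rw [rkDefect_iso k n E e]
    unfold rkDefect Curv2.deg
    rw [chi_tensorRight_obj, chi_iso k (unitorL E)]
  have hmem' : chi k X ((DCoh.tensorRightMod E).obj F) - n * chi k X F =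
      Psi (fun ξ => rkDefect k n E (redMod ξ)) 1 F := hmem
  rw [hPsi, hlen, hdeg, chi_tensorRight_obj, chi_iso k (braid F E)] at hmem'
  rw [nsmul_eq_mul] at hmem'
  linarith

end Main1557

end Groth.Agent.Helper4.SN
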