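import Mathlib
import Groth.Agent.Helper4.AssDict
import Groth.Agent.Helper4.StalkExact

set_option autoImplicit false
universe u
open CategoryTheory CategoryTheory.Limits AlgebraicGeometry TopologicalSpace Opposite Submodule

namespace Groth.Agent.Helper4.AssExact
open Groth.Agent.Helper4.StalkDict Groth.Agent.Helper4

variable {X : Scheme.{u}}

theorem isAssPoint_of_mono {F G : X.Modules} (φ : F ⟶ G) [Mono φ] (x : X)
    (h : Curv2.IsAssPoint F x) : Curv2.IsAssPoint G x :=
  IsAssociatedPrime.map_of_injective (stalkLin φ x) h (StalkExact.stalkLin_injective φ x)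

theorem isAssPoint_of_exact (S : ShortComplex X.Modules) (hS : S.Exact) [Mono S.f] (x : X)
    (h : Curv2.IsAssPoint S.X₂ x) : Curv2.IsAssPoint S.X₁ x ∨ Curv2.IsAssPoint S.X₃ x :=
  associatedPrimes.subset_union_of_exact (StalkExact.stalkLin_injective S.f x)
    (StalkExact.stalkLin_exact S hS x) h

end Groth.Agent.Helper4.AssExact
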