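import Mathlib
import Groth.Agent.Helper4.AssDict
import Groth.Agent.Helper4.AssRes
import Groth.Agent.Helper4.SuppDict
import Groth.Agent.Helper4.AssMax

set_option autoImplicit false
universe u
open CategoryTheory CategoryTheory.Limits AlgebraicGeometry TopologicalSpace Opposite Submodule

namespace Groth.Agent.Helper4.AssNoeth
open Groth.Agent.Helper4.StalkDict Groth.Agent.Helper4

variable {X : Scheme.{u}}

theorem exists_eq_colon_of_isAssPoint (F : X.Modules) [F.IsQuasicoherent] {U : X.Opens}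
    (hU : IsAffineOpen U) [IsNoetherianRing Γ(X, U)] (x : X) (hx : x ∈ U)
    (h : Curv2.IsAssPoint F x) :
    ∃ m : Γ(F, U), (hU.primeIdealOf ⟨x, hx⟩).asIdeal =
      (colon (⊥ : Submodule Γ(X, U) Γ(F, U)) {m} : Ideal Γ(X, U)) := by
  obtain ⟨m, hm⟩ := (AssDict.isAssPoint_iff_exists_minimalPrimes hU F x hx).mp h
  exact Submodule.exists_eq_colon_of_mem_minimalPrimes hm

theorem isAssPoint_of_eq_colon (F : X.Modules) [F.IsQuasicoherent] {U : X.Opens}
    (hU : IsAffineOpen U) (x : X) (hx : x ∈ U) (m : Γ(F, U))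
    (h : (hU.primeIdealOf ⟨x, hx⟩).asIdeal =
      (colon (⊥ : Submodule Γ(X, U) Γ(F, U)) {m} : Ideal Γ(X, U))) :
    Curv2.IsAssPoint F x := by
  rw [AssDict.isAssPoint_iff_exists_minimalPrimes hU F x hx]
  refine ⟨m, ?_⟩
  rw [← h, Ideal.minimalPrimes_eq_subsingleton_self]
  exact Set.mem_singleton _

theorem ass_subset_iff [IsLocallyNoetherian X] (M : X.Modules) [M.IsQuasicoherent] (U : X.Opens) :
    (∀ x, Curv2.IsAssPoint M x → x ∈ U) ↔
      ∀ (V : X.Opens), IsAffineOpen V → ∀ s : Γ(M, V),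
        M.presheaf.map (homOfLE (inf_le_left : V ⊓ U ≤ V)).op s = 0 → s = 0 := by
  constructor
  · intro h V hV s hs
    apply AssRes.section_eq_zero_of_germ_assPoint
    intro y hyV hass
    have hyU : y ∈ U := h y hass
    have := TopCat.Presheaf.germ_res_apply M.presheaf (homOfLE (inf_le_left : V ⊓ U ≤ V)) y
      ⟨hyV, hyU⟩ s
    rw [← this, hs, map_zero]
  · intro h x hass
    by_contra hxU
    obtain ⟨_, ⟨V, hV : IsAffineOpen V, rfl⟩, hxV, -⟩ :=
      X.isBasis_affineOpens.exists_subset_of_mem_open (Set.mem_univ x) isOpen_univ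
    haveI : IsNoetherianRing Γ(X, V) := IsLocallyNoetherian.component_noetherian ⟨V, hV⟩
    obtain ⟨m, hm⟩ := exists_eq_colon_of_isAssPoint M hV x hxV hass
    have hm0 : m = 0 := by
      apply h V hV m
      apply AssDict.section_eq_zero_of_germ
      intro y hy
      have hyV : y ∈ V := hy.1
      have := TopCat.Presheaf.germ_res_apply M.presheaf (homOfLE (inf_le_left : V ⊓ U ≤ V)) y
        hy m
      rw [this, AssDict.germ_eq_zero_iff hV M y hyV m, ← hm]
      intro hle
      apply hxU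
      have hspec : x ⤳ y := AssMax.specializes_of_primeIdealOf_le hV hxV hyV hle
      exact hspec.mem_open U.isOpen hy.2
    rw [hm0] at hm
    have htop : (colon (⊥ : Submodule Γ(X, V) Γ(M, V)) {(0 : Γ(M, V))} : Ideal Γ(X, V)) = ⊤ := by
      ext r; simp [mem_colon_singleton]
    rw [htop] at hm
    exact (hV.primeIdealOf ⟨x, hxV⟩).isPrime.ne_top hm

end Groth.Agent.Helper4.AssNoeth
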