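import Mathlib
import Groth.Agent.Helper4.AssNoeth
import Groth.Agent.Helper4.SecDict
import Groth.Prelude.Def_Coh

set_option autoImplicit false
universe u
open CategoryTheory CategoryTheory.Limits AlgebraicGeometry TopologicalSpace Opposite Submodule

namespace Groth.Agent.Helper4.AssFin
open Groth.Agent.Helper4.StalkDict Groth.Agent.Helper4

variable {X : Scheme.{u}}

theorem mem_associatedPrimes_of_isAssPoint (F : X.Modules) [F.IsQuasicoherent] {V : X.Opens}
    (hV : IsAffineOpen V) [IsNoetherianRing Γ(X, V)] (x : X) (hx : x ∈ V)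
    (h : Curv2.IsAssPoint F x) :
    (hV.primeIdealOf ⟨x, hx⟩).asIdeal ∈ associatedPrimes Γ(X, V) Γ(F, V) := by
  obtain ⟨m, hm⟩ := AssNoeth.exists_eq_colon_of_isAssPoint F hV x hx h
  refine ⟨(hV.primeIdealOf ⟨x, hx⟩).isPrime, m, ?_⟩
  rw [← hm]
  exact ((hV.primeIdealOf ⟨x, hx⟩).isPrime.radical).symm

theorem finite_assPoints_affine [IsLocallyNoetherian X] (F : X.Modules)
    (hq : SheafOfModules.IsQuasicoherent (R := X.ringCatSheaf) F)
    (hF : SheafOfModules.IsFiniteType (R := X.ringCatSheaf) F) {V : X.Opens}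
    (hV : IsAffineOpen V) : {x : X | x ∈ V ∧ Curv2.IsAssPoint F x}.Finite := by
  haveI : F.IsQuasicoherent := hq
  haveI : IsNoetherianRing Γ(X, V) := IsLocallyNoetherian.component_noetherian ⟨V, hV⟩
  haveI : Module.Finite Γ(X, V) Γ(F, V) := SecDict.finite_sections hV F hq hF
  have hfin : (associatedPrimes Γ(X, V) Γ(F, V)).Finite := associatedPrimes.finite _ _
  have hfin2 : {p : PrimeSpectrum Γ(X, V) | p.asIdeal ∈ associatedPrimes Γ(X, V) Γ(F, V)}.Finite :=
    hfin.preimage (fun a _ b _ h => PrimeSpectrum.ext h)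
  apply (hfin2.image (fun p => hV.fromSpec p)).subset
  rintro x ⟨hxV, hass⟩
  refine ⟨hV.primeIdealOf ⟨x, hxV⟩, mem_associatedPrimes_of_isAssPoint F hV x hxV hass, ?_⟩
  exact hV.fromSpec_primeIdealOf ⟨x, hxV⟩

theorem finite_assPoints_of_isCompact [IsLocallyNoetherian X] (F : X.Modules)
    (hq : SheafOfModules.IsQuasicoherent (R := X.ringCatSheaf) F)
    (hF : SheafOfModules.IsFiniteType (R := X.ringCatSheaf) F) (U : X.Opens)
    (hU : IsCompact (U : Set X)) : {x : X | x ∈ U ∧ Curv2.IsAssPoint F x}.Finite := by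
  obtain ⟨s, hs, e⟩ := isCompact_iff_finite_and_eq_biUnion_affineOpens.mp hU
  have : {x : X | x ∈ U ∧ Curv2.IsAssPoint F x} ⊆
      ⋃ i ∈ s, {x : X | x ∈ (i : X.Opens) ∧ Curv2.IsAssPoint F x} := by
    rintro x ⟨hxU, hass⟩
    rw [e] at hxU
    simp only [Opens.mem_iSup] at hxU
    obtain ⟨i, hi, hxi⟩ := hxU
    exact Set.mem_biUnion hi ⟨hxi, hass⟩
  exact (hs.biUnion fun i _ => finite_assPoints_affine F hq hF i.2).subset this

end Groth.Agent.Helper4.AssFin
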