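import Mathlib
import Groth.Agent.Helper4.SN24
import Groth.Agent.Helper4.TensorAssoc
import Groth.Agent.Helper1.SV1

/-!
# Asymptotic Riemann–Roch (S7649)
-/

set_option autoImplicit false
set_option linter.style.haveILetI false

namespace Groth.Agent.Helper4.SN

open CategoryTheory Limits AlgebraicGeometry Opposite TopologicalSpace
open Groth.Agent.Helper1.Dev Groth.Agent.Helper4.StalkDict Groth.Agent.Lead.Ref1B
open fwdDiff

universe u

section Alg

/-- mixed differences of a function of the sum of the variables -/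
theorem mixedL_sum {n : ℕ} (f : ℕ → ℤ) (l : List (Fin n)) :
    mixedL l (fun m : Fin n → ℕ => f (∑ i, m i)) =
      fun m => ((fwdDiff 1)^[l.length] f) (∑ i, m i) := by
  induction l with
  | nil => rfl
  | cons i l ih =>
    rw [mixedL_cons, ih]
    funext m
    unfold Dp
    have h1 : ∑ j, (m + Pi.single i 1 : Fin n → ℕ) j = ∑ j, m j + 1 := by
      simp [Finset.sum_add_distrib]
    show ((fwdDiff 1)^[l.length] f) (∑ j, (m + Pi.single i 1 : Fin n → ℕ) j) -
      ((fwdDiff 1)^[l.length] f) (∑ j, m j) = _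
    rw [h1, List.length_cons, Function.iterate_succ_apply']
    rfl

theorem fwdDiff_iter_cast (f : ℕ → ℤ) (p : Polynomial ℚ)
    (hf : ∀ n : ℕ, (f n : ℚ) = p.eval (n : ℚ)) :
    ∀ (j n : ℕ), (((fwdDiff 1)^[j] f) n : ℚ) = ((fwdDiff 1)^[j] p.eval) (n : ℚ) := by
  intro j
  induction j with
  | zero => intro n; exact hf n
  | succ j ih =>
    intro n
    rw [Function.iterate_succ_apply', Function.iterate_succ_apply']
    show ((((fwdDiff 1)^[j] f) (n + 1) - ((fwdDiff 1)^[j] f) n : ℤ) : ℚ) =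
      ((fwdDiff 1)^[j] p.eval) ((n : ℚ) + 1) - ((fwdDiff 1)^[j] p.eval) (n : ℚ)
    rw [Int.cast_sub, ih, ih]
    push_cast
    rfl

theorem fwdDiff_iter_eval (p : Polynomial ℚ) (d : ℕ) (hp : p.natDegree ≤ d) (x : ℚ) :
    ((fwdDiff 1)^[d] p.eval) x = (d.factorial : ℚ) * p.coeff d := by
  rcases lt_or_eq_of_le hp with hlt | heq
  · rw [Polynomial.fwdDiff_iter_eq_zero_of_degree_lt hlt,
      Polynomial.coeff_eq_zero_of_natDegree_lt hlt]
    simp
  · have := Polynomial.fwdDiff_iter_degree_eq_factorial p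
    rw [heq] at this
    rw [this, Polynomial.leadingCoeff, heq]
    simp [mul_comm]

theorem eval_sub_top_le (p : Polynomial ℚ) (d : ℕ) (hp : p.natDegree ≤ d) (n : ℕ) :
    |p.eval (n : ℚ) - p.coeff d * (n : ℚ) ^ d| ≤
      (∑ j ∈ Finset.range d, |p.coeff j|) * ((n : ℚ) + 1) ^ (d - 1) := by
  rw [Polynomial.eval_eq_sum_range' (Nat.lt_succ_of_le hp), Finset.sum_range_succ,
    add_sub_cancel_right, Finset.sum_mul]
  refine (Finset.abs_sum_le_sum_abs _ _).trans (Finset.sum_le_sum (fun j hj => ?_))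
  rw [abs_mul]
  have hj' : j < d := Finset.mem_range.mp hj
  have hn0 : (0 : ℚ) ≤ (n : ℚ) := Nat.cast_nonneg n
  have h1 : |(n : ℚ) ^ j| ≤ ((n : ℚ) + 1) ^ (d - 1) := by
    rw [abs_of_nonneg (pow_nonneg hn0 j)]
    calc (n : ℚ) ^ j ≤ ((n : ℚ) + 1) ^ j := pow_le_pow_left₀ hn0 (by linarith) j
      _ ≤ ((n : ℚ) + 1) ^ (d - 1) := pow_le_pow_right₀ (by linarith) (by omega)
  exact mul_le_mul_of_nonneg_left h1 (abs_nonneg _)

end Alg


section Geo

variable {X : Scheme.{u}}

theorem tensorPows_const_iso (L : X.Modules) (hL : PicF.IsInvertible L) :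
    ∀ (r : ℕ) (n : Fin r → ℕ),
      Nonempty (Curv2.tensorPows (Coh.structureModule X) r (fun _ => L) n ≅
        CohB1.tensorPow L (∑ i, n i)) := by
  intro r
  induction r with
  | zero =>
    intro n
    have h : ∑ i : Fin 0, n i = 0 := by simp
    rw [h]
    exact ⟨Iso.refl _⟩
  | succ r ih =>
    intro n
    obtain ⟨e⟩ := ih (fun i => n i.castSucc)
    rw [Fin.sum_univ_castSucc]
    exact ⟨PicGrp.tensorModIso e (Iso.refl _) ≪≫
      Groth.Agent.Helper4.TensorAssoc.powAddIso L hL _ _⟩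

variable (k : Type u) [Field k] [X.Over (Spec (CommRingCat.of k))]
  [IsProper (X ↘ (Spec (CommRingCat.of k)))]

omit [IsProper (X ↘ (Spec (CommRingCat.of k)))] in
theorem chi_eq_h0_of_vanishing (F : X.Modules)
    (h : ∀ j : ℕ, 1 ≤ j → Subsingleton (Coh.HH X F j)) :
    chi k X F = (Module.finrank k (Coh.HH X F 0) : ℤ) := by
  unfold chi Curv2.euler
  rw [finsum_eq_single _ 0]
  · simp
  · intro j hj
    haveI := h j (Nat.one_le_iff_ne_zero.mpr hj)
    rw [Module.finrank_zero_of_subsingleton]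
    simp

/-- S7649 -/
theorem main7649 (d : ℕ) (hX : topologicalKrullDim X = d) (L : X.Modules)
    (hL : CohB1.IsAmple L) (P : MvPolynomial (Fin d) ℚ)
    (hP : ∀ n : Fin d → ℕ, (Curv2.euler k X (Curv2.tensorPows (Coh.structureModule X) d
      (fun _ => L) n) : ℚ) = MvPolynomial.eval (fun i => (n i : ℚ)) P) :
    0 < MvPolynomial.coeff (Finsupp.equivFunOnFinite.symm fun _ : Fin d => 1) P ∧
      ∃ C : ℚ, ∀ n : ℕ,
        |(Module.finrank k (Coh.HH X (CohB1.tensorPow L n) 0) : ℚ) -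
            MvPolynomial.coeff (Finsupp.equivFunOnFinite.symm fun _ : Fin d => 1) P /
              (d.factorial : ℚ) * (n : ℚ) ^ d| ≤
          C * ((n : ℚ) + 1) ^ (d - 1) := by
  haveI := Groth.Agent.Helper4.NApx82.isNoetherian_of_proper k X
  have hLinv := hL.1
  have hO : Coh.IsCoh (Coh.structureModule X) := isCoh_structureModule X
  have hdX : DimLT (CohB1.support (Coh.structureModule X)) (d + 1) :=
    dimLT_of_dim_le d hX.le _
  -- part 1: positivity
  have hc1 := coeff_ones_eq_altF k (Coh.structureModule X) hO d hdX (fun _ => L)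
    (fun _ => hLinv) P hP
  change MvPolynomial.coeff (Finsupp.equivFunOnFinite.symm fun _ : Fin d => 1) P = _ at hc1
  have hsuppO : CohB1.support (Coh.structureModule X) = Set.univ := by
    rw [Set.eq_univ_iff_forall]
    exact fun x => Groth.Agent.Helper5.RedDense.mem_support_structureModule X x
  have hdimO : topologicalKrullDim (CohB1.support (Coh.structureModule X)) =
      (d : WithBot ℕ∞) := by
    rw [hsuppO, ← hX]
    exact (Homeomorph.Set.univ X).isHomeomorph.topologicalKrullDim_eq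
  have hpos := altF_pos_of_dim k (fun _ : Fin d => L) (fun _ => hL) (Coh.structureModule X)
    hO hdimO
  refine ⟨by rw [hc1]; exact_mod_cast hpos, ?_⟩
  -- part 2: the one-variable polynomial
  set f : ℕ → ℤ := fun n => chi k X (CohB1.tensorPow L n) with hf
  obtain ⟨p1, hdeg1, hp1⟩ := main1528' k (Coh.structureModule X) hO d hdX 1 (fun _ => L)
    (fun _ => hLinv)
  set p : Polynomial ℚ := MvPolynomial.aeval (fun _ : Fin 1 => (Polynomial.X : Polynomial ℚ)) p1
    with hp
  have hpdeg : p.natDegree ≤ d := by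
    have := MvPolynomial.aeval_natDegree_le (n := 1) p1 hdeg1
      (fun _ : Fin 1 => (Polynomial.X : Polynomial ℚ)) (fun _ => Polynomial.natDegree_X_le)
    simpa using this
  have hpeval : ∀ x : ℚ, p.eval x = MvPolynomial.eval (fun _ : Fin 1 => x) p1 := by
    intro x
    have h1 : (Polynomial.aeval x).comp
        (MvPolynomial.aeval (fun _ : Fin 1 => (Polynomial.X : Polynomial ℚ))) =
        MvPolynomial.aeval (fun _ : Fin 1 => x) := by
      apply MvPolynomial.algHom_ext
      intro i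
      simp
    have h2 := congrArg (fun φ : MvPolynomial (Fin 1) ℚ →ₐ[ℚ] ℚ => φ p1) h1
    simp only [AlgHom.comp_apply] at h2
    rw [hp, ← Polynomial.coe_aeval_eq_eval, h2]
    rfl
  have hfp : ∀ n : ℕ, (f n : ℚ) = p.eval (n : ℚ) := by
    intro n
    rw [hpeval]
    have := hp1 (fun _ => n)
    rw [← this]
    have e : Curv2.tensorPows (Coh.structureModule X) 1 (fun _ => L) (fun _ => n) ≅
        CohB1.tensorPow L n := unitorL _
    show ((chi k X (CohB1.tensorPow L n) : ℤ) : ℚ) = _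
    rw [← chi_iso k e]
  -- the top coefficient
  have hg : (fun m : Fin d → ℕ => Curv2.euler k X (Curv2.tensorPows (Coh.structureModule X) d
      (fun _ => L) m)) = fun m => f (∑ i, m i) := by
    funext m
    obtain ⟨e⟩ := tensorPows_const_iso L hLinv d m
    exact chi_iso k e
  have hc2 := coeff_ones_eq_mixedL' k (Coh.structureModule X) hO d hdX (fun _ => L)
    (fun _ => hLinv) P hP
  change MvPolynomial.coeff (Finsupp.equivFunOnFinite.symm fun _ : Fin d => 1) P = _ at hc2
  rw [hg, mixedL_sum, List.length_finRange] at hc2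
  beta_reduce at hc2
  have hsum0 : ∑ i : Fin d, (0 : Fin d → ℕ) i = 0 := by simp
  rw [hsum0, fwdDiff_iter_cast f p hfp d 0, fwdDiff_iter_eval p d hpdeg] at hc2
  have hfact : (d.factorial : ℚ) ≠ 0 := by exact_mod_cast Nat.factorial_ne_zero d
  have hc : MvPolynomial.coeff (Finsupp.equivFunOnFinite.symm fun _ : Fin d => 1) P /
      (d.factorial : ℚ) = p.coeff d := by
    rw [hc2]
    field_simp
  rw [hc]
  -- Serre vanishing
  obtain ⟨n₀, hn₀⟩ := Groth.Agent.Helper1.SV.serre_vanishing k (X ↘ Spec (CommRingCat.of k)) hL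
    (Coh.structureModule X) hO
  have hh0 : ∀ n : ℕ, n₀ ≤ n →
      (Module.finrank k (Coh.HH X (CohB1.tensorPow L n) 0) : ℚ) = p.eval (n : ℚ) := by
    intro n hn
    rw [← hfp n]
    have hvan : ∀ j : ℕ, 1 ≤ j → Subsingleton (Coh.HH X (CohB1.tensorPow L n) j) := by
      intro j hj
      haveI := hn₀ n hn j hj
      exact (Groth.Agent.Helper1.ProjTop.HHlinEquiv k (unitorL (CohB1.tensorPow L n)) j).symm.toEquiv.subsingleton
    rw [hf]
    show _ = ((chi k X (CohB1.tensorPow L n) : ℤ) : ℚ)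
    rw [chi_eq_h0_of_vanishing k _ hvan]
    simp
  -- the bound
  set B : ℚ := ∑ n ∈ Finset.range n₀,
    |(Module.finrank k (Coh.HH X (CohB1.tensorPow L n) 0) : ℚ) - p.coeff d * (n : ℚ) ^ d| with hB
  have hB0 : 0 ≤ B := Finset.sum_nonneg (fun _ _ => abs_nonneg _)
  set A : ℚ := ∑ j ∈ Finset.range d, |p.coeff j| with hA
  have hA0 : 0 ≤ A := Finset.sum_nonneg (fun _ _ => abs_nonneg _)
  refine ⟨A + B, fun n => ?_⟩
  have hpow : (1 : ℚ) ≤ ((n : ℚ) + 1) ^ (d - 1) :=
    one_le_pow₀ (by have : (0 : ℚ) ≤ (n : ℚ) := Nat.cast_nonneg n; linarith)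
  by_cases hn : n₀ ≤ n
  · rw [hh0 n hn]
    refine (eval_sub_top_le p d hpdeg n).trans ?_
    have : A * ((n : ℚ) + 1) ^ (d - 1) ≤ (A + B) * ((n : ℚ) + 1) ^ (d - 1) :=
      mul_le_mul_of_nonneg_right (by linarith) (by linarith)
    exact this
  · rw [not_le] at hn
    have h1 : |(Module.finrank k (Coh.HH X (CohB1.tensorPow L n) 0) : ℚ) -
        p.coeff d * (n : ℚ) ^ d| ≤ B :=
      Finset.single_le_sum (f := fun n : ℕ =>
        |(Module.finrank k (Coh.HH X (CohB1.tensorPow L n) 0) : ℚ) - p.coeff d * (n : ℚ) ^ d|)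
        (fun _ _ => abs_nonneg _) (Finset.mem_range.mpr hn)
    calc _ ≤ B := h1
      _ ≤ (A + B) * 1 := by linarith
      _ ≤ (A + B) * ((n : ℚ) + 1) ^ (d - 1) :=
        mul_le_mul_of_nonneg_left hpow (by linarith)

end Geo

end Groth.Agent.Helper4.SN
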