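import Mathlib
import Groth.Agent.Helper4.SN31
import Groth.Agent.Helper4.SN25

/-!
# Degree of a twist by an effective Cartier divisor on a proper scheme of dimension `≤ 1`
-/

set_option autoImplicit false
set_option linter.style.haveILetI false

namespace Groth.Agent.Helper4.SN

open CategoryTheory Limits AlgebraicGeometry Opposite TopologicalSpace
open Groth.Agent.Lead.Ref1B

universe u

section Dim

variable {X : Scheme.{u}}

/-- closed subsets all of whose irreducible closed subsets have height `≤ n` have dimension `≤ n` -/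
theorem krullDim_le_of_dimLT {S : Set X} (hS : IsClosed S) {n : ℕ} (h : DimLT S (n + 1)) :
    topologicalKrullDim ↥S ≤ (n : WithBot ℕ∞) := by
  show Order.krullDim (IrreducibleCloseds ↥S) ≤ _
  refine iSup_le (fun p => ?_)
  have hcont : Continuous (Subtype.val : ↥S → X) := continuous_subtype_val
  let q : LTSeries (IrreducibleCloseds X) :=
    p.map (IrreducibleCloseds.map Subtype.val hcont)
      (IrreducibleCloseds.map_strictMono_of_isInducing Topology.IsInducing.subtypeVal)
  have hqS : (q.last : Set X) ⊆ S := by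
    show (closure (Subtype.val '' (p.last : Set ↥S)) : Set X) ⊆ S
    refine closure_minimal ?_ hS
    rintro _ ⟨x, -, rfl⟩
    exact x.2
  have h1 : (q.length : ℕ∞) ≤ Order.height q.last := Order.length_le_height_last
  have h2 : Order.height q.last < ((n + 1 : ℕ) : ℕ∞) := h q.last hqS
  have h3 : (q.length : ℕ∞) < ((n + 1 : ℕ) : ℕ∞) := lt_of_le_of_lt h1 h2
  have h4 : q.length < n + 1 := by exact_mod_cast h3
  have h5 : q.length = p.length := rfl
  have h6 : p.length ≤ n := by omega
  exact_mod_cast h6

end Dim

section Vanish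

variable {X : Scheme.{u}}

/-- Grothendieck vanishing in terms of the dimension of the support -/
theorem subsingleton_HH_of_dimLT_support [IsNoetherian X] (G : X.Modules)
    (hcl : IsClosed (CohB1.support G)) (n : ℕ) (hdim : DimLT (CohB1.support G) n)
    (p : ℕ) (hp : n ≤ p) : Subsingleton (Coh.HH X G p) := by
  haveI : NoetherianSpace ↑X.toTopCat := (inferInstance : NoetherianSpace X)
  refine Groth.Agent.Helper4.GV.main_aux (X := X.toTopCat) ⟨CohB1.support G, hcl⟩ n hdim
    (Coh.toAb G) ?_ p hp
  intro W hW s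
  refine TopCat.Presheaf.section_ext
    (⟨G.presheaf, G.isSheaf⟩ : TopCat.Sheaf Ab X.toTopCat) W s 0 (fun y hy => ?_)
  have hy' : y ∉ CohB1.support G := fun h => Set.disjoint_left.mp hW hy h
  haveI : Subsingleton (G.presheaf.stalk y) := not_not.mp hy'
  exact Subsingleton.elim (α := G.presheaf.stalk y) _ _

end Vanish

section Finite

variable (k : Type u) [Field k] {X : Scheme.{u}} [X.Over (Spec (CommRingCat.of k))]
  [IsProper (X ↘ (Spec (CommRingCat.of k)))]

/-- a zero-dimensional closed subscheme of a proper `k`-scheme is finite over `k` -/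
theorem isFinite_subscheme_of_dimLT (D : X.IdealSheafData)
    (hdimD : DimLT (D.support : Set X) (0 + 1)) :
    IsFinite (D.subschemeι ≫ (X ↘ Spec (CommRingCat.of k))) := by
  haveI := Groth.Agent.Helper4.NApx82.isNoetherian_of_proper k X
  set ι := D.subschemeι with hι
  haveI : IsNoetherian D.subscheme := Groth.Agent.Helper1.Dev.isNoetherian_of_isClosedImmersion ι
  have hmem : ∀ z : D.subscheme, ι z ∈ (D.support : Set X) := by
    intro z
    have : ι z ∈ Set.range ι := ⟨z, rfl⟩
    rw [Scheme.IdealSheafData.range_subschemeι] at this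
    exact this
  have hdimZ : topologicalKrullDim D.subscheme ≤ 0 := by
    have hind : Topology.IsInducing (Set.codRestrict ι (D.support : Set X) hmem) :=
      ι.isEmbedding.isInducing.codRestrict hmem
    have h1 := hind.topologicalKrullDim_le
    have h2 := krullDim_le_of_dimLT D.support.isClosed hdimD
    exact_mod_cast h1.trans h2
  haveI : IsLocallyArtinian D.subscheme := .of_topologicalKrullDim_le_zero hdimZ
  haveI : IsArtinianScheme D.subscheme := {}
  haveI : Finite D.subscheme := IsArtinianScheme.finite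
  haveI : IsProper (ι ≫ (X ↘ Spec (CommRingCat.of k))) := inferInstance
  haveI : LocallyQuasiFinite (ι ≫ (X ↘ Spec (CommRingCat.of k))) :=
    .of_finite_preimage_singleton _ (fun x => Set.toFinite _)
  exact IsFinite.of_locallyQuasiFinite (ι ≫ (X ↘ Spec (CommRingCat.of k)))

end Finite

section Main1604

variable (k : Type u) [Field k] {X : Scheme.{u}} [X.Over (Spec (CommRingCat.of k))]
  [IsProper (X ↘ (Spec (CommRingCat.of k)))]

/-- `χ = h⁰` for coherent modules with zero-dimensional support -/
theorem chi_eq_h0_of_dimLT_one (G : X.Modules) (hG : Coh.IsCoh G)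
    (hdim : DimLT (CohB1.support G) 1) :
    chi k X G = (Module.finrank k (Coh.HH X G 0) : ℤ) := by
  haveI := Groth.Agent.Helper4.NApx82.isNoetherian_of_proper k X
  have hcl : IsClosed (CohB1.support G) := Groth.Agent.S0020.result _ _ hG.2
  exact chi_eq_h0_of_vanishing k G (fun j hj =>
    subsingleton_HH_of_dimLT_support G hcl 1 hdim j hj)

/-- the degree formula of S1604 -/
theorem deg_twist_effCartier (hdim : topologicalKrullDim X ≤ 1)
    (D : X.IdealSheafData) (hD : BlowUp.IsEffCartierIdeal D)
    (L : X.Modules) (hL : PicF.IsInvertible L) (hLD : ClSub.IsInverseOf L (ClSub.idealMod D))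
    (n : ℕ) (E : X.Modules) (hE : FlatMod.IsFinLocFreeOfRank n E) :
    Curv2.deg k X (CohB1.tensorMod E L) n =
      n * Module.finrank k (Coh.HH X (ClSub.quotMod D) 0) + Curv2.deg k X E n := by
  haveI := Groth.Agent.Helper4.NApx82.isNoetherian_of_proper k X
  obtain ⟨eLD⟩ := hLD
  have hE' := FinLocFree7.isFinLocFree_of_rank E hE
  haveI : E.IsQuasicoherent := FinLocFree4.isQuasicoherent_of_isFinLocFree E hE'
  have hcE : Coh.IsCoh E := Groth.Agent.Lead.PerfLib.isCoh_of_isFinLocFree hE'
  have hcL : Coh.IsCoh L := Groth.Agent.Helper1.SerreFin.isCoh_of_isInvertible _ hL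
  have hcO : Coh.IsCoh (Coh.structureModule X) :=
    Groth.Agent.Helper1.SerreFin.isCoh_of_isInvertible _ TensorInv.isInvertible_structureModule
  have hcQ : Coh.IsCoh (ClSub.quotMod D) := isCoh_quotMod D
  have hcI : Coh.IsCoh (ClSub.idealMod D) :=
    Groth.Agent.Lead.PerfLib.isCoh_kernel hcO hcQ _
  have hflat : ∀ x : X, Module.Flat (X.presheaf.stalk x) (E.presheaf.stalk x) := fun x => by
    haveI := FinLocFree2.free_stalk_of_isFinLocFree E hE' x
    infer_instance
  -- the twisted sequence
  have hS1 := shortExact_map_tensorRightMod_of_flat (idealSC D) (idealSC_shortExact D) E hflat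
  have hS2 := Groth.Agent.Helper1.TwistExact.shortExact_map_tensorRightMod hS1 L hL
  have hadd := chi_add k _ hS2
    (isCoh_tensorRight_obj L _ hcL (isCoh_tensorRight_obj E _ hcE hcI))
    (isCoh_tensorRight_obj L _ hcL (isCoh_tensorRight_obj E _ hcE hcO))
    (isCoh_tensorRight_obj L _ hcL (isCoh_tensorRight_obj E _ hcE hcQ))
  change chi k X (CohB1.tensorMod (CohB1.tensorMod (Coh.structureModule X) E) L) =
    chi k X (CohB1.tensorMod (CohB1.tensorMod (ClSub.idealMod D) E) L) +
      chi k X (CohB1.tensorMod (CohB1.tensorMod (ClSub.quotMod D) E) L) at hadd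
  -- identify the three terms
  have e2 : CohB1.tensorMod (CohB1.tensorMod (Coh.structureModule X) E) L ≅ CohB1.tensorMod E L :=
    PicGrp.tensorModIso (unitorL E) (Iso.refl L)
  have e1 : CohB1.tensorMod (CohB1.tensorMod (ClSub.idealMod D) E) L ≅ E :=
    PicGrp.tensorModIso (braid _ _) (Iso.refl L) ≪≫ assoc E (ClSub.idealMod D) L ≪≫
      PicGrp.tensorModIso (Iso.refl E) (braid _ _ ≪≫ eLD) ≪≫ SecTwist.unitorR E
  have hdimD : DimLT (D.support : Set X) (0 + 1) :=
    dimLT_support_effCartier D hD 0 (by simpa using hdim)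
  have hdimQ : DimLT (CohB1.support (ClSub.quotMod D)) 1 :=
    hdimD.mono (support_quotMod_subset D)
  have hdimQE : DimLT (CohB1.support (CohB1.tensorMod (ClSub.quotMod D) E)) 1 :=
    hdimQ.mono (support_tensorMod_subset_left _ _)
  have hcQE : Coh.IsCoh (CohB1.tensorMod (ClSub.quotMod D) E) := isCoh_tensorMod _ _ hcQ hcE
  have h3 : chi k X (CohB1.tensorMod (CohB1.tensorMod (ClSub.quotMod D) E) L) =
      n * Module.finrank k (Coh.HH X (ClSub.quotMod D) 0) := by
    rw [chi_iso k (braid _ L)]
    have ht := altF_twist_indep k (![] : Fin 0 → X.Modules) (fun i => i.elim0) L hL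
      (CohB1.tensorMod (ClSub.quotMod D) E) hcQE hdimQE
    rw [altF_zero, altF_zero] at ht
    rw [ht]
    have hr := rkDefect_eq_zero_of_dimLT k (ClSub.quotMod D) hcQ hdimQ n E hE
    have hr' : chi k X ((DCoh.tensorRightMod E).obj (ClSub.quotMod D)) -
        n * chi k X (ClSub.quotMod D) = 0 := hr
    rw [chi_tensorRight_obj, chi_eq_h0_of_dimLT_one k _ hcQ hdimQ] at hr'
    linarith
  rw [chi_iso k e2, chi_iso k e1, h3] at hadd
  unfold Curv2.deg
  have : chi k X (CohB1.tensorMod E L) = Curv2.euler k X (CohB1.tensorMod E L) := rfl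
  have : chi k X E = Curv2.euler k X E := rfl
  push_cast
  linarith

end Main1604

end Groth.Agent.Helper4.SN
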