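import Mathlib
import Groth.Agent.Helper4.SN5
import Groth.Agent.Helper4.SubExt3

/-!
# Curves: the Euler characteristic is `h⁰ - h¹`, and degree zero modules on genus zero curves
-/

set_option autoImplicit false
set_option linter.style.haveILetI false

namespace Groth.Agent.Helper4.SN

open CategoryTheory Limits AlgebraicGeometry Opposite TopologicalSpace

universe u

variable (k : Type u) [Field k] {X : Scheme.{u}} [X.Over (Spec (CommRingCat.of k))]

theorem chi_eq_h0_sub_h1 [IsNoetherian X] (hdim : topologicalKrullDim X ≤ 1) (F : X.Modules) :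
    chi k X F = (Module.finrank k (Coh.HH X F 0) : ℤ) - (Module.finrank k (Coh.HH X F 1) : ℤ) := by
  rw [← eulerCharLE_eq_chi k 1 (by exact_mod_cast hdim) F]
  unfold FGA.eulerCharLE
  simp [Finset.sum_range_succ]
  ring

variable [IsProper (X ↘ (Spec (CommRingCat.of k)))] [IsIntegral X]

/-- S6540 -/
theorem main6540 (hdim : topologicalKrullDim X = 1)
    (h0 : Module.finrank k (Coh.HH X (Coh.structureModule X) 0) = 1)
    (hg : Curv2.genus k X = 0) (L : X.Modules) (hL : PicF.IsInvertible L)
    (hdeg : Curv2.deg k X L 1 = 0) : Nonempty (L ≅ Coh.structureModule X) := by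
  haveI := Groth.Agent.Helper4.NApx82.isNoetherian_of_proper k X
  have h1 := chi_eq_h0_sub_h1 k hdim.le L
  have h2 := chi_eq_h0_sub_h1 k hdim.le (Coh.structureModule X)
  unfold Curv2.genus at hg
  unfold Curv2.deg at hdeg
  have hpos : 0 < Module.finrank k (Coh.HH X L 0) := by
    unfold chi at h1 h2
    rw [h0, hg] at h2
    push_cast at hdeg h2
    have : (Module.finrank k (Coh.HH X L 0) : ℤ) = 1 + (Module.finrank k (Coh.HH X L 1) : ℤ) := by
      linarith
    have h3 : (0 : ℤ) < (Module.finrank k (Coh.HH X L 0) : ℤ) := by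
      rw [this]
      have : (0 : ℤ) ≤ (Module.finrank k (Coh.HH X L 1) : ℤ) := Int.natCast_nonneg _
      linarith
    exact_mod_cast h3
  obtain ⟨x, hx⟩ : ∃ x : Coh.HH X L 0, x ≠ 0 := by
    by_contra hcon
    push Not at hcon
    haveI : Subsingleton (Coh.HH X L 0) := subsingleton_of_forall_eq 0 hcon
    rw [Module.finrank_zero_of_subsingleton] at hpos
    exact lt_irrefl _ hpos
  obtain ⟨s0, hs⟩ := Groth.Agent.Helper4.SubExt.exists_unit_hom_of_section L
    (Groth.Agent.Lead.ProperFinA.h0Equiv L x)
  let s : Coh.structureModule X ⟶ L := s0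
  have hs0 : s ≠ 0 := by
    intro h
    apply hx
    apply (Groth.Agent.Lead.ProperFinA.h0Equiv L).injective
    rw [map_zero, ← hs]
    have h' : s0 = (0 : Coh.structureModule X ⟶ L) := h
    rw [h']
    rfl
  exact Groth.Agent.Helper4.NApx82.main1520 k X hdim L hL s hs0 (le_of_eq hdeg)

end Groth.Agent.Helper4.SN
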