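import Mathlib
import Groth.Agent.Helper4.SN32

/-!
# Degree of a tensor product of locally free modules on a proper scheme of dimension `≤ 1`
-/

set_option autoImplicit false
set_option linter.style.haveILetI false

namespace Groth.Agent.Helper4.SN

open CategoryTheory Limits AlgebraicGeometry Opposite TopologicalSpace
open Groth.Agent.Lead.Ref1B

universe u

section Len

variable {X : Scheme.{u}}

/-- the length of the stalk of an invertible module -/
theorem len_invertible (L : X.Modules) (hL : PicF.IsInvertible L) (ξ : X) :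
    len L ξ = Module.length (X.presheaf.stalk ξ) (X.presheaf.stalk ξ) := by
  obtain ⟨T, e, hx, -, hf, -⟩ := AmpleFinite.exists_chart_forall L hL ξ
  exact (LinearEquiv.ofBijective _ (toSpanSingleton_germ_bijective L T e hf ξ hx)).length_eq.symm

/-- the length of the stalk of a locally free module of rank `m` -/
theorem len_of_rank {m : ℕ} (V : X.Modules) (hV : FlatMod.IsFinLocFreeOfRank m V) (ξ : X) :
    len V ξ = m * len (Coh.structureModule X) ξ := by
  obtain ⟨b⟩ := nonempty_basis_stalk_of_rank V hV ξ
  rw [len_invertible _ TensorInv.isInvertible_structureModule]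
  unfold len
  haveI : Module.Free (X.presheaf.stalk ξ) (V.presheaf.stalk ξ) := Module.Free.of_basis b
  haveI : Module.Finite (X.presheaf.stalk ξ) (V.presheaf.stalk ξ) := Module.Finite.of_basis b
  rw [Module.length_of_free_of_finite, Module.finrank_eq_card_basis b, Fintype.card_fin]

end Len

section Main7637

variable (k : Type u) [Field k] {X : Scheme.{u}} [X.Over (Spec (CommRingCat.of k))]
  [IsProper (X ↘ (Spec (CommRingCat.of k)))]

/-- the multiplicity formula for the rank defect on schemes of dimension `≤ 1` -/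
theorem rkDefect_eq_Psi (hdim : topologicalKrullDim X ≤ 1) (n : ℕ) (E : X.Modules)
    (hE : FlatMod.IsFinLocFreeOfRank n E) (F : X.Modules) (hF : Coh.IsCoh F) :
    FinM 1 F ∧ rkDefect k n E F = Psi (fun ξ => rkDefect k n E (redMod ξ)) 1 F := by
  haveI := Groth.Agent.Helper4.NApx82.isNoetherian_of_proper k X
  have hdim' : topologicalKrullDim X ≤ ((1 : ℕ) : WithBot ℕ∞) := by simpa using hdim
  have hsmall : ∀ G : X.Modules, Coh.IsCoh G → DimLT (CohB1.support G) 1 →
      rkDefect k n E G ∈ (⊥ : AddSubgroup ℤ) := fun G hG hd => by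
    rw [AddSubgroup.mem_bot]
    exact rkDefect_eq_zero_of_dimLT k G hG hd n E hE
  have hK := mult_devissage (⊥ : AddSubgroup ℤ) (fun F => rkDefect k n E F)
    (fun ξ => rkDefect k n E (redMod ξ)) 1
    (fun e => rkDefect_iso k n E e)
    (fun S hS h1 h2 h3 => rkDefect_add k n E hE S hS h1 h2 h3)
    (fun F hF => rkDefect_zero k n E F hF) hsmall
    (fun ξ _ => by rw [AddSubgroup.mem_bot]; exact sub_self _)
    ⊤ (dimLT_of_dim_le 1 hdim' _) F hF (Set.subset_univ _)
  obtain ⟨hfin, hmem⟩ := hK
  rw [AddSubgroup.mem_bot, sub_eq_zero] at hmem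
  exact ⟨hfin, hmem⟩

/-- S7637 -/
theorem main7637 (hdim : topologicalKrullDim X ≤ 1) (n m : ℕ) (E V : X.Modules)
    (hE : FlatMod.IsFinLocFreeOfRank n E) (hV : FlatMod.IsFinLocFreeOfRank m V) :
    Curv2.deg k X (CohB1.tensorMod E V) (n * m) =
      n * Curv2.deg k X V m + m * Curv2.deg k X E n := by
  classical
  have hcV : Coh.IsCoh V :=
    Groth.Agent.Lead.PerfLib.isCoh_of_isFinLocFree (FinLocFree7.isFinLocFree_of_rank V hV)
  have hcO : Coh.IsCoh (Coh.structureModule X) :=
    Groth.Agent.Helper1.SerreFin.isCoh_of_isInvertible _ TensorInv.isInvertible_structureModule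
  obtain ⟨-, hV'⟩ := rkDefect_eq_Psi k hdim n E hE V hcV
  obtain ⟨hfO, hO'⟩ := rkDefect_eq_Psi k hdim n E hE (Coh.structureModule X) hcO
  have hPsi : Psi (fun ξ => rkDefect k n E (redMod ξ)) 1 V =
      m • Psi (fun ξ => rkDefect k n E (redMod ξ)) 1 (Coh.structureModule X) := by
    unfold Psi
    rw [smul_finsum' m (hfO.1.subset (support_term_subset _ 1 (Coh.structureModule X)))]
    refine finsum_congr (fun ξ => ?_)
    by_cases ht : TopPt 1 ξ
    · rw [if_pos ht, if_pos ht, len_of_rank V hV ξ, ENat.toNat_mul, ENat.toNat_natCast, mul_smul]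
    · rw [if_neg ht, if_neg ht, smul_zero]
  rw [hPsi, ← hO'] at hV'
  unfold rkDefect at hV'
  rw [chi_tensorRight_obj, chi_tensorRight_obj, chi_iso k (braid V E),
    chi_iso k (unitorL E)] at hV'
  unfold Curv2.deg
  have h1 : chi k X (CohB1.tensorMod E V) = Curv2.euler k X (CohB1.tensorMod E V) := rfl
  have h2 : chi k X E = Curv2.euler k X E := rfl
  have h3 : chi k X V = Curv2.euler k X V := rfl
  have h4 : chi k X (Coh.structureModule X) = Curv2.euler k X (Coh.structureModule X) := rfl
  rw [nsmul_eq_mul] at hV'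
  push_cast
  rw [← h1, ← h2, ← h3, ← h4]
  linarith

end Main7637

end Groth.Agent.Helper4.SN
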