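import Mathlib
import Groth.Agent.Helper4.SN33
import Groth.Agent.Helper4.SN10
import Groth.Agent.Helper4.StalkExact

/-!
# Curves: degrees of submodules of a locally free module are bounded above
-/

set_option autoImplicit false
set_option linter.style.haveILetI false

namespace Groth.Agent.Helper4.SN

open CategoryTheory Limits AlgebraicGeometry Opposite TopologicalSpace

universe u

variable (k : Type u) [Field k] {X : Scheme.{u}} [X.Over (Spec (CommRingCat.of k))]

theorem h0_le_of_mono [IsProper (X ↘ (Spec (CommRingCat.of k)))] {M E : X.Modules} (i : M ⟶ E)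
    [Mono i] (hE : Coh.IsCoh E) :
    Module.finrank k (Coh.HH X M 0) ≤ Module.finrank k (Coh.HH X E 0) := by
  haveI : Module.Finite k (Coh.HH X E 0) := Groth.Agent.S0002.result k X _ hE 0
  let S : ShortComplex X.Modules := ShortComplex.mk i (cokernel.π i) (cokernel.condition i)
  have hS : S.ShortExact :=
    { exact := ShortComplex.exact_cokernel i
      mono_f := ‹Mono i›
      epi_g := (inferInstance : Epi (cokernel.π i)) }
  exact LinearMap.finrank_le_finrank_of_injective
    (Groth.Agent.Helper4.NApx80.injective_f_zero k S hS)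

theorem chi_le_h0_of_mono [IsProper (X ↘ (Spec (CommRingCat.of k)))]
    (hdim : topologicalKrullDim X ≤ 1) {M E : X.Modules} (i : M ⟶ E) [Mono i]
    (hE : Coh.IsCoh E) :
    Curv2.euler k X M ≤ (Module.finrank k (Coh.HH X E 0) : ℤ) := by
  haveI := Groth.Agent.Helper4.NApx82.isNoetherian_of_proper k X
  have h1 := chi_eq_h0_sub_h1 k hdim M
  unfold chi at h1
  rw [h1]
  have h0 := h0_le_of_mono k i hE
  have h2 : (0 : ℤ) ≤ (Module.finrank k (Coh.HH X M 1) : ℤ) := Int.natCast_nonneg _
  have h3 : (Module.finrank k (Coh.HH X M 0) : ℤ) ≤ (Module.finrank k (Coh.HH X E 0) : ℤ) := by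
    exact_mod_cast h0
  linarith

omit [X.Over (Spec (CommRingCat.of k))] in
theorem rank_le_of_mono [Nonempty X] {r r' : ℕ} {F E : X.Modules} (i : F ⟶ E) [Mono i]
    (hF : FlatMod.IsFinLocFreeOfRank r' F) (hE : FlatMod.IsFinLocFreeOfRank r E) : r' ≤ r := by
  obtain ⟨x⟩ := ‹Nonempty X›
  obtain ⟨bF⟩ := nonempty_basis_stalk_of_rank F hF x
  obtain ⟨bE⟩ := nonempty_basis_stalk_of_rank E hE x
  have hinj := Groth.Agent.Helper4.StalkExact.stalkLin_injective i x
  haveI : Module.Finite (X.presheaf.stalk x) (E.presheaf.stalk x) := Module.Finite.of_basis bE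
  have h := LinearMap.finrank_le_finrank_of_injective hinj
  rw [Module.finrank_eq_card_basis bF, Module.finrank_eq_card_basis bE] at h
  simpa using h

/-- S11826 -/
theorem main11826 [IsIntegral X] [IsProper (X ↘ (Spec (CommRingCat.of k)))]
    (hdim : topologicalKrullDim X = 1)
    (r : ℕ) (E : X.Modules) (hE : FlatMod.IsFinLocFreeOfRank r E) :
    ∃ N : ℤ, ∀ (M : X.Modules) (i : M ⟶ E), Mono i → PicF.IsInvertible M →
      Curv2.deg k X M 1 ≤ N := by
  have hEc : Coh.IsCoh E := Groth.Agent.Lead.PerfLib.isCoh_of_isFinLocFree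
    (FinLocFree7.isFinLocFree_of_rank E hE)
  refine ⟨(Module.finrank k (Coh.HH X E 0) : ℤ) - Curv2.euler k X (Coh.structureModule X), ?_⟩
  intro M i hi _
  haveI := hi
  have h := chi_le_h0_of_mono k hdim.le i hEc
  unfold Curv2.deg
  push_cast
  linarith

/-- S15331 -/
theorem main15331 [IsIntegral X] [IsProper (X ↘ (Spec (CommRingCat.of k)))]
    (hdim : topologicalKrullDim X = 1)
    (r : ℕ) (E : X.Modules) (hE : FlatMod.IsFinLocFreeOfRank r E) :
    ∃ N : ℤ, ∀ (F : X.Modules) (r' : ℕ) (i : F ⟶ E), Mono i →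
      FlatMod.IsFinLocFreeOfRank r' F → Curv2.deg k X F r' ≤ N := by
  have hEc : Coh.IsCoh E := Groth.Agent.Lead.PerfLib.isCoh_of_isFinLocFree
    (FinLocFree7.isFinLocFree_of_rank E hE)
  refine ⟨(Module.finrank k (Coh.HH X E 0) : ℤ) +
    (r : ℤ) * |Curv2.euler k X (Coh.structureModule X)|, ?_⟩
  intro F r' i hi hF
  haveI := hi
  have h := chi_le_h0_of_mono k hdim.le i hEc
  have hr : r' ≤ r := rank_le_of_mono i hF hE
  have hr' : (r' : ℤ) ≤ (r : ℤ) := by exact_mod_cast hr
  unfold Curv2.deg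
  have h1 : -(Curv2.euler k X (Coh.structureModule X)) ≤
      |Curv2.euler k X (Coh.structureModule X)| := neg_le_abs _
  have h2 : (0 : ℤ) ≤ |Curv2.euler k X (Coh.structureModule X)| := abs_nonneg _
  have h3 : (0 : ℤ) ≤ (r' : ℤ) := Int.natCast_nonneg _
  nlinarith

end Groth.Agent.Helper4.SN
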