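import Mathlib
import Groth.Agent.Helper4.SN34
import Groth.Agent.Helper4.QAffSec
import Groth.Agent.Helper2.CohQ1

/-!
# Curves: invertible submodules of extensions of invertible modules
-/

set_option autoImplicit false
set_option linter.style.haveILetI false

namespace Groth.Agent.Helper4.SN

open CategoryTheory Limits AlgebraicGeometry Opposite TopologicalSpace

universe u

variable (k : Type u) [Field k] {X : Scheme.{u}} [X.Over (Spec (CommRingCat.of k))]

omit [X.Over (Spec (CommRingCat.of k))] in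
theorem not_isZero_of_rank [Nonempty X] {n : ℕ} (hn : 0 < n) (E : X.Modules)
    (hE : FlatMod.IsFinLocFreeOfRank n E) : ¬ IsZero E := by
  intro h
  haveI : Mono (0 : E ⟶ FlatMod.freeMod X 0) := h.mono _
  have := rank_le_of_mono (0 : E ⟶ FlatMod.freeMod X 0) hE (isFinLocFreeOfRank_freeMod 0)
  omega

omit [X.Over (Spec (CommRingCat.of k))] in
theorem not_isZero_of_isInvertible [Nonempty X] (L : X.Modules) (hL : PicF.IsInvertible L) :
    ¬ IsZero L :=
  not_isZero_of_rank Nat.one_pos L (QAffSec.isFinLocFreeOfRank_one_of_isInvertible L hL)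

theorem isCoh_of_shortExact_inv (S : ShortComplex X.Modules) (hS : S.ShortExact)
    (h₁ : Coh.IsCoh S.X₁) (h₃ : Coh.IsCoh S.X₃) : Coh.IsCoh S.X₂ := by
  haveI : S.X₁.IsQuasicoherent := h₁.1
  haveI : S.X₃.IsQuasicoherent := h₃.1
  exact Groth.Agent.Helper2.CohQ1.isCoh_of_shortExact S hS h₁
    (QcohExt.isQuasicoherent_of_shortExact S hS) h₃

/-- S11827 -/
theorem main11827 [IsIntegral X] [IsProper (X ↘ (Spec (CommRingCat.of k)))]
    (hdim : topologicalKrullDim X = 1)
    (S : ShortComplex X.Modules) (hS : S.ShortExact)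
    (hL : PicF.IsInvertible S.X₁) (hM : PicF.IsInvertible S.X₃)
    (N : X.Modules) (hN : PicF.IsInvertible N) (j : N ⟶ S.X₂) [Mono j]
    (hq : PicF.IsInvertible (cokernel j)) :
    (∃ φ : N ≅ S.X₁, φ.hom ≫ S.f = j) ∨ Curv2.deg k X N 1 ≤ Curv2.deg k X S.X₃ 1 := by
  by_cases hg : j ≫ S.g = 0
  · left
    haveI := hS.mono_f
    haveI := hS.epi_g
    let u : N ⟶ S.X₁ := hS.exact.lift j hg
    have hu : u ≫ S.f = j := hS.exact.lift_f j hg
    have hu0 : u ≠ 0 := by
      intro h0
      have hj0 : j = 0 := by rw [← hu, h0, zero_comp]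
      apply not_isZero_of_isInvertible N hN
      rw [IsZero.iff_id_eq_zero, ← cancel_mono j, hj0, comp_zero, comp_zero]
    let v : cokernel j ⟶ S.X₃ := cokernel.desc j S.g hg
    have hv : cokernel.π j ≫ v = S.g := cokernel.π_desc j S.g hg
    have hv0 : v ≠ 0 := by
      intro h0
      have hg0 : S.g = 0 := by rw [← hv, h0, comp_zero]
      apply not_isZero_of_isInvertible S.X₃ hM
      rw [IsZero.iff_id_eq_zero, ← cancel_epi S.g, hg0, zero_comp, zero_comp]
    obtain ⟨h1, h2⟩ := Groth.Agent.Helper4.NApx82.main1521 k X hdim N S.X₁ hN hL u hu0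
    obtain ⟨h3, -⟩ := Groth.Agent.Helper4.NApx82.main1521 k X hdim (cokernel j) S.X₃ hq hM v hv0
    have hcL := Groth.Agent.Helper1.SerreFin.isCoh_of_isInvertible S.X₁ hL
    have hcM := Groth.Agent.Helper1.SerreFin.isCoh_of_isInvertible S.X₃ hM
    have hcN := Groth.Agent.Helper1.SerreFin.isCoh_of_isInvertible N hN
    have hcQ := Groth.Agent.Helper1.SerreFin.isCoh_of_isInvertible (cokernel j) hq
    have hcE : Coh.IsCoh S.X₂ := isCoh_of_shortExact_inv S hS hcL hcM
    have e1 := Groth.Agent.Helper4.NApx80.euler_additive k X S hS hcL hcE hcM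
    let S' : ShortComplex X.Modules := ShortComplex.mk j (cokernel.π j) (cokernel.condition j)
    have hS' : S'.ShortExact :=
      { exact := ShortComplex.exact_cokernel j
        mono_f := ‹Mono j›
        epi_g := (inferInstance : Epi (cokernel.π j)) }
    have e2 := Groth.Agent.Helper4.NApx80.euler_additive k X S' hS' hcN hcE hcQ
    have e2' : Curv2.euler k X S.X₂ = Curv2.euler k X N + Curv2.euler k X (cokernel j) := e2
    have heq : Curv2.deg k X N 1 = Curv2.deg k X S.X₁ 1 := by
      unfold Curv2.deg at h1 h3 ⊢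
      linarith
    haveI := h2 heq
    exact ⟨asIso u, hu⟩
  · right
    exact (Groth.Agent.Helper4.NApx82.main1521 k X hdim N S.X₃ hN hM (j ≫ S.g) hg).1

end Groth.Agent.Helper4.SN
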