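import Mathlib
import Groth.Agent.Helper4.SN35

/-!
# Curves: rank two bundles and invertible submodules
-/

set_option autoImplicit false
set_option linter.style.haveILetI false

namespace Groth.Agent.Helper4.SN

open CategoryTheory Limits AlgebraicGeometry Opposite TopologicalSpace

universe u

variable (k : Type u) [Field k] {X : Scheme.{u}} [X.Over (Spec (CommRingCat.of k))]

/-- if an invertible submodule `N ⊂ E` with invertible quotient maps to zero in `E/L`, then it
coincides with `L`. -/
theorem sub_eq_of_comp_zero [IsIntegral X] [IsProper (X ↘ (Spec (CommRingCat.of k)))]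
    (hdim : topologicalKrullDim X = 1)
    (S : ShortComplex X.Modules) (hS : S.ShortExact)
    (hL : PicF.IsInvertible S.X₁) (hM : PicF.IsInvertible S.X₃)
    (N : X.Modules) (hN : PicF.IsInvertible N) (j : N ⟶ S.X₂) [Mono j]
    (hq : PicF.IsInvertible (cokernel j)) (hg : j ≫ S.g = 0) :
    ∃ φ : N ≅ S.X₁, φ.hom ≫ S.f = j := by
  rcases main11827 k hdim S hS hL hM N hN j hq with h | h
  · exact h
  · -- redo the argument: the first alternative of `main11827` holds whenever `j ≫ S.g = 0`
    haveI := hS.mono_f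
    haveI := hS.epi_g
    let u : N ⟶ S.X₁ := hS.exact.lift j hg
    have hu : u ≫ S.f = j := hS.exact.lift_f j hg
    have hu0 : u ≠ 0 := by
      intro h0
      have hj0 : j = 0 := by rw [← hu, h0, zero_comp]
      apply not_isZero_of_isInvertible N hN
      rw [IsZero.iff_id_eq_zero, ← cancel_mono j, hj0, comp_zero, comp_zero]
    let v : cokernel j ⟶ S.X₃ := cokernel.desc j S.g hg
    have hv : cokernel.π j ≫ v = S.g := cokernel.π_desc j S.g hg
    have hv0 : v ≠ 0 := by
      intro h0
      have hg0 : S.g = 0 := by rw [← hv, h0, comp_zero]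
      apply not_isZero_of_isInvertible S.X₃ hM
      rw [IsZero.iff_id_eq_zero, ← cancel_epi S.g, hg0, zero_comp, zero_comp]
    obtain ⟨h1, h2⟩ := Groth.Agent.Helper4.NApx82.main1521 k X hdim N S.X₁ hN hL u hu0
    obtain ⟨h3, -⟩ := Groth.Agent.Helper4.NApx82.main1521 k X hdim (cokernel j) S.X₃ hq hM v hv0
    have hcL := Groth.Agent.Helper1.SerreFin.isCoh_of_isInvertible S.X₁ hL
    have hcM := Groth.Agent.Helper1.SerreFin.isCoh_of_isInvertible S.X₃ hM
    have hcN := Groth.Agent.Helper1.SerreFin.isCoh_of_isInvertible N hN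
    have hcQ := Groth.Agent.Helper1.SerreFin.isCoh_of_isInvertible (cokernel j) hq
    have hcE : Coh.IsCoh S.X₂ := isCoh_of_shortExact_inv S hS hcL hcM
    have e1 := Groth.Agent.Helper4.NApx80.euler_additive k X S hS hcL hcE hcM
    let S' : ShortComplex X.Modules := ShortComplex.mk j (cokernel.π j) (cokernel.condition j)
    have hS' : S'.ShortExact :=
      { exact := ShortComplex.exact_cokernel j
        mono_f := ‹Mono j›
        epi_g := (inferInstance : Epi (cokernel.π j)) }
    have e2 := Groth.Agent.Helper4.NApx80.euler_additive k X S' hS' hcN hcE hcQ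
    have e2' : Curv2.euler k X S.X₂ = Curv2.euler k X N + Curv2.euler k X (cokernel j) := e2
    have heq : Curv2.deg k X N 1 = Curv2.deg k X S.X₁ 1 := by
      unfold Curv2.deg at h1 h3 ⊢
      linarith
    haveI := h2 heq
    exact ⟨asIso u, hu⟩

/-- the short exact sequence of a monomorphism and its cokernel -/
theorem cokernel_shortExact {M E : X.Modules} (i : M ⟶ E) [Mono i] :
    (ShortComplex.mk i (cokernel.π i) (cokernel.condition i)).ShortExact :=
  { exact := ShortComplex.exact_cokernel i
    mono_f := ‹Mono i›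
    epi_g := (inferInstance : Epi (cokernel.π i)) }

/-- degrees in a rank two bundle with an invertible sub and quotient -/
theorem deg_two_eq [IsProper (X ↘ (Spec (CommRingCat.of k)))]
    (E M : X.Modules) (hM : PicF.IsInvertible M) (i : M ⟶ E) [Mono i]
    (hq : PicF.IsInvertible (cokernel i)) :
    Curv2.deg k X E 2 = Curv2.deg k X M 1 + Curv2.deg k X (cokernel i) 1 := by
  have hcM := Groth.Agent.Helper1.SerreFin.isCoh_of_isInvertible M hM
  have hcQ := Groth.Agent.Helper1.SerreFin.isCoh_of_isInvertible (cokernel i) hq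
  have hS := cokernel_shortExact i
  have hcE : Coh.IsCoh E := isCoh_of_shortExact_inv _ hS hcM hcQ
  have e := Groth.Agent.Helper4.NApx80.euler_additive k X _ hS hcM hcE hcQ
  have e' : Curv2.euler k X E = Curv2.euler k X M + Curv2.euler k X (cokernel i) := e
  unfold Curv2.deg
  rw [e']
  push_cast
  ring

/-- S11816 -/
theorem main11816 [IsIntegral X] [IsProper (X ↘ (Spec (CommRingCat.of k)))]
    (hdim : topologicalKrullDim X = 1) (E : X.Modules)
    (M M' : X.Modules) (hM : PicF.IsInvertible M) (hM' : PicF.IsInvertible M')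
    (i : M ⟶ E) (i' : M' ⟶ E) [Mono i] [Mono i']
    (hq : PicF.IsInvertible (cokernel i)) (hq' : PicF.IsInvertible (cokernel i'))
    (hd : Curv2.deg k X E 2 < 2 * Curv2.deg k X M 1)
    (hd' : Curv2.deg k X E 2 < 2 * Curv2.deg k X M' 1) :
    ∃ φ : M ≅ M', φ.hom ≫ i' = i := by
  rcases main11827 k hdim _ (cokernel_shortExact i') hM' hq' M hM i hq with h | h
  · exact h
  · exfalso
    have e' := deg_two_eq k E M' hM' i' hq'
    have h' : Curv2.deg k X M 1 ≤ Curv2.deg k X (cokernel i') 1 := h
    linarith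

/-- S11830 -/
theorem main11830 [IsIntegral X] [IsProper (X ↘ (Spec (CommRingCat.of k)))]
    (hdim : topologicalKrullDim X = 1) (E : X.Modules)
    (L L' : X.Modules) (hL : PicF.IsInvertible L) (hL' : PicF.IsInvertible L')
    (i : L ⟶ E) (i' : L' ⟶ E) [Mono i] [Mono i']
    (hq : PicF.IsInvertible (cokernel i)) (hq' : PicF.IsInvertible (cokernel i'))
    (hd : 2 * Curv2.deg k X L 1 = Curv2.deg k X E 2)
    (hd' : 2 * Curv2.deg k X L' 1 = Curv2.deg k X E 2) :
    Nonempty (L ⊞ cokernel i ≅ L' ⊞ cokernel i') := by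
  have e := deg_two_eq k E L hL i hq
  have e' := deg_two_eq k E L' hL' i' hq'
  by_cases hg : i ≫ cokernel.π i' = 0
  · obtain ⟨φ, hφ⟩ := sub_eq_of_comp_zero k hdim _ (cokernel_shortExact i') hL' hq' L hL i hq hg
    have hφ' : φ.hom ≫ i' = i := hφ
    exact ⟨biprod.mapIso φ (cokernel.mapIso i i' φ (Iso.refl E) (by simp [hφ']))⟩
  · have hg' : i' ≫ cokernel.π i ≠ 0 := by
      intro hg'
      obtain ⟨φ, hφ⟩ := sub_eq_of_comp_zero k hdim _ (cokernel_shortExact i) hL hq L' hL' i' hq' hg'
      have hφ' : φ.hom ≫ i = i' := hφ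
      apply hg
      have : i = φ.inv ≫ i' := by rw [← hφ', Iso.inv_hom_id_assoc]
      rw [this, Category.assoc, cokernel.condition, comp_zero]
    obtain ⟨-, h2⟩ := Groth.Agent.Helper4.NApx82.main1521 k X hdim L (cokernel i') hL hq' _ hg
    obtain ⟨-, h2'⟩ := Groth.Agent.Helper4.NApx82.main1521 k X hdim L' (cokernel i) hL' hq _ hg'
    haveI := h2 (by linarith)
    haveI := h2' (by linarith)
    exact ⟨biprod.mapIso (asIso (i ≫ cokernel.π i')) (asIso (i' ≫ cokernel.π i)).symm ≪≫
      biprod.braiding _ _⟩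

end Groth.Agent.Helper4.SN
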