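import Mathlib
import Groth.Agent.Helper4.SN36

/-!
# Curves: monomorphisms of coherent modules which are generically isomorphisms
-/

set_option autoImplicit false
set_option linter.style.haveILetI false

namespace Groth.Agent.Helper4.SN

open CategoryTheory Limits AlgebraicGeometry Opposite TopologicalSpace
open Groth.Agent.Helper4.NApx82

universe u

variable (k : Type u) [Field k] {X : Scheme.{u}} [X.Over (Spec (CommRingCat.of k))]

/-- a monomorphism of coherent modules on a proper integral curve whose cokernel vanishes at the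
generic point -/
theorem gen_iso_main [IsIntegral X] [IsProper (X ↘ (Spec (CommRingCat.of k)))]
    (hdim : topologicalKrullDim X = 1) (N L : X.Modules)
    (hcN : Coh.IsCoh N) (hcL : Coh.IsCoh L) (φ : N ⟶ L) [Mono φ]
    (hξ : Subsingleton ((cokernel φ).presheaf.stalk (genericPoint X))) :
    Curv2.euler k X L = Curv2.euler k X N + (Module.finrank k (Coh.HH X (cokernel φ) 0) : ℤ) ∧
      (Module.finrank k (Coh.HH X (cokernel φ) 0) = 0 → IsIso φ) := by
  haveI := isNoetherian_of_proper k X
  have hcQ : Coh.IsCoh (cokernel φ) := Groth.Agent.Lead.PerfLib.isCoh_cokernel hcN hcL φ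
  obtain ⟨hpt, hdisc⟩ := closed_points_of_generic_zero k X hdim (cokernel φ) hcQ hξ
  refine ⟨?_, ?_⟩
  · rw [← euler_eq_finrank_h0 k X (cokernel φ) hcQ hpt]
    exact NApx80.euler_additive k X (Groth.Agent.Helper1.Dev.cokSC φ)
      (Groth.Agent.Helper1.Dev.cokSC_shortExact φ) hcN hcL hcQ
  · intro h0
    haveI : Module.Finite k (Coh.HH X (cokernel φ) 0) := Groth.Agent.S0002.result k X _ hcQ 0
    have hsub : Subsingleton (Coh.HH X (cokernel φ) 0) := Module.finrank_zero_iff.1 h0
    have hΓ : Subsingleton Γ(cokernel φ, ⊤) :=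
      (Groth.Agent.Lead.ProperFinA.h0Equiv (cokernel φ)).symm.injective.subsingleton
    have hcl : IsClosed (CohB1.support (cokernel φ)) := Groth.Agent.S0020.result X _ hcQ.2
    haveI := hdisc
    have hepi := Groth.Agent.Lead.ZeroDimGG.epi_canFree_of_discrete_support (cokernel φ) hcl
    have hz : IsZero (cokernel φ) :=
      isZero_of_epi_free (cokernel φ) hΓ (Groth.Agent.Lead.GlobGen.canFree (cokernel φ)) hepi
    haveI : Epi φ := Preadditive.epi_of_isZero_cokernel φ hz
    exact isIso_of_mono_of_epi φ

/-- S15028 -/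
theorem main15028 [IsIntegral X] [IsProper (X ↘ (Spec (CommRingCat.of k)))]
    (hdim : topologicalKrullDim X = 1) (E F : X.Modules) (hEc : Coh.IsCoh E) (hFc : Coh.IsCoh F)
    (n : ℕ) (f : E ⟶ F) [Mono f]
    (hgen : Subsingleton ((cokernel f).presheaf.stalk (genericPoint X))) :
    Curv2.deg k X E n ≤ Curv2.deg k X F n ∧ (Curv2.deg k X E n = Curv2.deg k X F n ↔ IsIso f) := by
  obtain ⟨h1, h2⟩ := gen_iso_main k hdim E F hEc hFc f hgen
  unfold Curv2.deg
  rw [h1]
  refine ⟨by
    have : (0 : ℤ) ≤ (Module.finrank k (Coh.HH X (cokernel f) 0) : ℤ) := Int.natCast_nonneg _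
    linarith, ?_, ?_⟩
  · intro h
    apply h2
    have : (Module.finrank k (Coh.HH X (cokernel f) 0) : ℤ) = 0 := by linarith
    exact_mod_cast this
  · intro hiso
    have he : Curv2.euler k X E = Curv2.euler k X F := chi_iso k (asIso f)
    linarith

end Groth.Agent.Helper4.SN
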