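import Mathlib
import Groth.Agent.Helper4.SN37
import Groth.Agent.Lead.RegDimOne

/-!
# Regular curves: submodules of locally free modules are locally free; ranks and degrees
-/

set_option autoImplicit false
set_option linter.style.haveILetI false

namespace Groth.Agent.Helper4.SN

open CategoryTheory Limits AlgebraicGeometry Opposite TopologicalSpace
open Groth.Agent.Helper4.StalkDict

universe u

variable {X : Scheme.{u}}

/-- on an integral scheme a finite locally free module has constant rank -/
theorem isFinLocFreeOfRank_of_isFinLocFree [IsIntegral X] (M : X.Modules)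
    (hM : FlatMod.IsFinLocFree M) :
    FlatMod.IsFinLocFreeOfRank (Module.finrank (X.presheaf.stalk (genericPoint X))
      (M.presheaf.stalk (genericPoint X))) M := by
  haveI : M.IsQuasicoherent := FinLocFree4.isQuasicoherent_of_isFinLocFree M hM
  intro x
  obtain ⟨U, n, hxU, hU⟩ := hM x
  have hξ : genericPoint X ∈ U :=
    ((genericPoint_spec X).mem_open_set_iff U.isOpen).2 ⟨x, trivial, hxU⟩
  obtain ⟨b⟩ := FinLocFree2.nonempty_basis_stalk_of_isFreeAlong M hU (genericPoint X) hξ
  rw [Module.finrank_eq_card_basis b, Fintype.card_fin]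
  exact ⟨U, hxU, hU⟩

/-- on a regular integral scheme of dimension at most one, a coherent submodule of a finite
locally free module is finite locally free -/
theorem exists_rank_of_mono [IsIntegral X] [IsLocallyNoetherian X]
    (hreg : ∀ x : X, IsRegularLocalRing (X.presheaf.stalk x))
    (hdim : topologicalKrullDim X ≤ 1) {G E : X.Modules} (i : G ⟶ E) [Mono i]
    (hG : Coh.IsCoh G) {r : ℕ} (hE : FlatMod.IsFinLocFreeOfRank r E) :
    ∃ r' : ℕ, FlatMod.IsFinLocFreeOfRank r' G := by
  have hE' := FinLocFree7.isFinLocFree_of_rank E hE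
  have hEc : Coh.IsCoh E := Groth.Agent.Lead.PerfLib.isCoh_of_isFinLocFree hE'
  have htfE := (Groth.Agent.Lead.RegDimOne.torsionFree_iff_isFinLocFree X hreg hdim E hEc).2 hE'
  refine ⟨_, isFinLocFreeOfRank_of_isFinLocFree G
    ((Groth.Agent.Lead.RegDimOne.torsionFree_iff_isFinLocFree X hreg hdim G hG).1 ?_)⟩
  intro x
  haveI := htfE x
  exact Function.Injective.noZeroSMulDivisors (stalkLin i x)
    (Groth.Agent.Helper4.StalkExact.stalkLin_injective i x) (map_zero _) (fun c m => map_smul _ c m)

/-- additivity of ranks in short exact sequences -/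
theorem rank_add_of_shortExact [IsIntegral X] (S : ShortComplex X.Modules) (hS : S.ShortExact)
    {a b c : ℕ} (h₁ : FlatMod.IsFinLocFreeOfRank a S.X₁) (h₂ : FlatMod.IsFinLocFreeOfRank b S.X₂)
    (h₃ : FlatMod.IsFinLocFreeOfRank c S.X₃) : b = a + c := by
  let x : X := genericPoint X
  obtain ⟨bA⟩ := nonempty_basis_stalk_of_rank S.X₁ h₁ x
  obtain ⟨bB⟩ := nonempty_basis_stalk_of_rank S.X₂ h₂ x
  obtain ⟨bC⟩ := nonempty_basis_stalk_of_rank S.X₃ h₃ x
  haveI := hS.mono_f
  haveI := hS.epi_g
  have hinj := Groth.Agent.Helper4.StalkExact.stalkLin_injective S.f x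
  have hsurj := Groth.Agent.Helper4.EpiStalk.stalkLin_surjective_of_epi S.g x
  have hex := Groth.Agent.Helper4.StalkExact.stalkLin_exact S hS.exact x
  haveI : Module.Finite (X.presheaf.stalk x) (S.X₂.presheaf.stalk x) := Module.Finite.of_basis bB
  haveI : Module.Free (X.presheaf.stalk x) (S.X₂.presheaf.stalk x) := Module.Free.of_basis bB
  have h := LinearMap.finrank_range_add_finrank_ker (stalkLin S.g x)
  rw [LinearMap.range_eq_top.2 hsurj, finrank_top, (LinearMap.exact_iff.1 hex),
    ← (LinearEquiv.ofInjective (stalkLin S.f x) hinj).finrank_eq,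
    Module.finrank_eq_card_basis bA, Module.finrank_eq_card_basis bB,
    Module.finrank_eq_card_basis bC] at h
  simp only [Fintype.card_fin] at h
  omega

theorem isZero_of_rank_zero (K : X.Modules) (hK : FlatMod.IsFinLocFreeOfRank 0 K) : IsZero K := by
  apply Groth.Agent.Helper9.SkyMod5.isZero_of_stalks
  intro x
  obtain ⟨b⟩ := nonempty_basis_stalk_of_rank K hK x
  haveI : Subsingleton (K.presheaf.stalk x) := by
    haveI : IsEmpty (Fin 0) := inferInstance
    exact (Module.Basis.repr b).toEquiv.subsingleton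
  haveI : Subsingleton ((Groth.Agent.Helper9.SkyMod4.St x).obj K) :=
    (inferInstance : Subsingleton (K.presheaf.stalk x))
  exact ModuleCat.isZero_of_subsingleton _

variable (k : Type u) [Field k] [X.Over (Spec (CommRingCat.of k))]

theorem deg_of_isZero {K : X.Modules} (hK : IsZero K) : Curv2.deg k X K 0 = 0 := by
  unfold Curv2.deg
  have := chi_of_isZero k hK
  unfold chi at this
  rw [this]
  simp

theorem deg_add_of_shortExact [IsProper (X ↘ (Spec (CommRingCat.of k)))]
    (S : ShortComplex X.Modules) (hS : S.ShortExact)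
    (h₁ : Coh.IsCoh S.X₁) (h₂ : Coh.IsCoh S.X₂) (h₃ : Coh.IsCoh S.X₃) (a c : ℕ) :
    Curv2.deg k X S.X₂ (a + c) = Curv2.deg k X S.X₁ a + Curv2.deg k X S.X₃ c := by
  have e := Groth.Agent.Helper4.NApx80.euler_additive k X S hS h₁ h₂ h₃
  unfold Curv2.deg
  rw [e]
  push_cast
  ring

end Groth.Agent.Helper4.SN
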