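import Mathlib
import Groth.Agent.Helper4.SN38
import Groth.Prelude.Def_ModFun2

/-!
# Regular curves: kernels and coimages of morphisms of locally free modules; slope stability
-/

set_option autoImplicit false
set_option linter.style.haveILetI false

namespace Groth.Agent.Helper4.SN

open CategoryTheory Limits AlgebraicGeometry Opposite TopologicalSpace
open Groth.Agent.Helper4.StalkDict Groth.Agent.Helper4.NApx82

universe u

variable (k : Type u) [Field k] {X : Scheme.{u}} [X.Over (Spec (CommRingCat.of k))]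
  [IsIntegral X] [IsProper (X ↘ (Spec (CommRingCat.of k)))]

omit [X.Over (Spec (CommRingCat.of k))] [IsIntegral X] [IsProper (X ↘ (Spec (CommRingCat.of k)))] in
theorem isFinLocFreeOfRank_of_iso {n : ℕ} {F G : X.Modules} (e : F ≅ G)
    (h : FlatMod.IsFinLocFreeOfRank n F) : FlatMod.IsFinLocFreeOfRank n G := by
  intro x
  obtain ⟨V, hxV, hV⟩ := h x
  exact ⟨V, hxV, FinLocFree.IsFreeAlong.of_iso e V.ι hV⟩

/-- the kernel and the coimage of a morphism of finite locally free modules on a regular proper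
integral curve -/
theorem ker_coim_data (hdim : topologicalKrullDim X = 1)
    (hreg : ∀ x : X, IsRegularLocalRing (X.presheaf.stalk x))
    {r s : ℕ} {E F : X.Modules} (hE : FlatMod.IsFinLocFreeOfRank r E)
    (hF : FlatMod.IsFinLocFreeOfRank s F) (f : E ⟶ F) :
    ∃ rK rI : ℕ, FlatMod.IsFinLocFreeOfRank rK (kernel f) ∧
      FlatMod.IsFinLocFreeOfRank rI (Abelian.coimage f) ∧ r = rK + rI ∧ rI ≤ s ∧
      Curv2.deg k X E r = Curv2.deg k X (kernel f) rK + Curv2.deg k X (Abelian.coimage f) rI := by
  haveI := isNoetherian_of_proper k X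
  have hEc : Coh.IsCoh E := Groth.Agent.Lead.PerfLib.isCoh_of_isFinLocFree
    (FinLocFree7.isFinLocFree_of_rank E hE)
  have hFc : Coh.IsCoh F := Groth.Agent.Lead.PerfLib.isCoh_of_isFinLocFree
    (FinLocFree7.isFinLocFree_of_rank F hF)
  have hKc : Coh.IsCoh (kernel f) := Groth.Agent.Lead.PerfLib.isCoh_kernel hEc hFc f
  have hIc : Coh.IsCoh (Abelian.coimage f) :=
    Groth.Agent.Lead.PerfLib.isCoh_cokernel hKc hEc (kernel.ι f)
  obtain ⟨rK, hK⟩ := exists_rank_of_mono hreg hdim.le (kernel.ι f) hKc hE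
  obtain ⟨rI, hI⟩ := exists_rank_of_mono hreg hdim.le (Abelian.factorThruCoimage f) hIc hF
  have hS := cokernel_shortExact (kernel.ι f)
  have hr : r = rK + rI := rank_add_of_shortExact _ hS hK hE hI
  refine ⟨rK, rI, hK, hI, hr, rank_le_of_mono (Abelian.factorThruCoimage f) hI hF, ?_⟩
  subst hr
  exact deg_add_of_shortExact k _ hS hKc hEc hIc rK rI

omit [IsProper (X ↘ (Spec (CommRingCat.of k)))] in
/-- a monomorphism between free modules of the same rank is generically surjective -/
theorem subsingleton_stalk_cokernel_of_rank_eq {s : ℕ} {I F : X.Modules} (m : I ⟶ F) [Mono m]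
    (hI : FlatMod.IsFinLocFreeOfRank s I) (hF : FlatMod.IsFinLocFreeOfRank s F) :
    Subsingleton ((cokernel m).presheaf.stalk (genericPoint X)) := by
  apply Groth.Agent.Lead.StalkNhd.subsingleton_stalk_cokernel m
  obtain ⟨bI⟩ := nonempty_basis_stalk_of_rank I hI (genericPoint X)
  obtain ⟨bF⟩ := nonempty_basis_stalk_of_rank F hF (genericPoint X)
  have hinj := Groth.Agent.Helper4.StalkExact.stalkLin_injective m (genericPoint X)
  letI : Field (X.presheaf.stalk (genericPoint X)) := inferInstanceAs (Field X.functionField)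
  haveI : Module.Finite (X.presheaf.stalk (genericPoint X)) (I.presheaf.stalk (genericPoint X)) :=
    Module.Finite.of_basis bI
  haveI : Module.Finite (X.presheaf.stalk (genericPoint X)) (F.presheaf.stalk (genericPoint X)) :=
    Module.Finite.of_basis bF
  have hfr : Module.finrank (X.presheaf.stalk (genericPoint X)) (I.presheaf.stalk (genericPoint X)) =
      Module.finrank (X.presheaf.stalk (genericPoint X)) (F.presheaf.stalk (genericPoint X)) := by
    rw [Module.finrank_eq_card_basis bI, Module.finrank_eq_card_basis bF]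
  exact (LinearMap.injective_iff_surjective_of_finrank_eq_finrank hfr).1 hinj

/-- a submodule of full rank and full degree is everything -/
theorem isIso_of_mono_of_rank_deg_eq (hdim : topologicalKrullDim X = 1)
    {s : ℕ} {I F : X.Modules} (m : I ⟶ F) [Mono m]
    (hI : FlatMod.IsFinLocFreeOfRank s I) (hF : FlatMod.IsFinLocFreeOfRank s F)
    (hdeg : Curv2.deg k X I s = Curv2.deg k X F s) : IsIso m := by
  have hIc : Coh.IsCoh I := Groth.Agent.Lead.PerfLib.isCoh_of_isFinLocFree
    (FinLocFree7.isFinLocFree_of_rank I hI)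
  have hFc : Coh.IsCoh F := Groth.Agent.Lead.PerfLib.isCoh_of_isFinLocFree
    (FinLocFree7.isFinLocFree_of_rank F hF)
  obtain ⟨h1, h2⟩ := gen_iso_main k hdim I F hIc hFc m
    (subsingleton_stalk_cokernel_of_rank_eq m hI hF)
  apply h2
  unfold Curv2.deg at hdeg
  have : (Module.finrank k (Coh.HH X (cokernel m) 0) : ℤ) = 0 := by linarith
  exact_mod_cast this

/-- a submodule of full rank has at most the degree of the ambient module -/
theorem deg_le_of_mono_of_rank_eq (hdim : topologicalKrullDim X = 1)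
    {s : ℕ} {I F : X.Modules} (m : I ⟶ F) [Mono m]
    (hI : FlatMod.IsFinLocFreeOfRank s I) (hF : FlatMod.IsFinLocFreeOfRank s F) :
    Curv2.deg k X I s ≤ Curv2.deg k X F s := by
  have hIc : Coh.IsCoh I := Groth.Agent.Lead.PerfLib.isCoh_of_isFinLocFree
    (FinLocFree7.isFinLocFree_of_rank I hI)
  have hFc : Coh.IsCoh F := Groth.Agent.Lead.PerfLib.isCoh_of_isFinLocFree
    (FinLocFree7.isFinLocFree_of_rank F hF)
  obtain ⟨h1, -⟩ := gen_iso_main k hdim I F hIc hFc m
    (subsingleton_stalk_cokernel_of_rank_eq m hI hF)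
  unfold Curv2.deg
  have : (0 : ℤ) ≤ (Module.finrank k (Coh.HH X (cokernel m) 0) : ℤ) := Int.natCast_nonneg _
  linarith

omit [X.Over (Spec (CommRingCat.of k))] [IsIntegral X] [IsProper (X ↘ (Spec (CommRingCat.of k)))] in
theorem eq_zero_of_coimage_rank_zero {E F : X.Modules} (f : E ⟶ F)
    (hI : FlatMod.IsFinLocFreeOfRank 0 (Abelian.coimage f)) : f = 0 := by
  rw [← Abelian.coimage.fac f]
  have : Abelian.coimage.π f = 0 := (isZero_of_rank_zero _ hI).eq_of_tgt _ _
  rw [this, zero_comp]

omit [X.Over (Spec (CommRingCat.of k))] [IsIntegral X] [IsProper (X ↘ (Spec (CommRingCat.of k)))] in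
theorem isIso_of_kernel_zero_of_isIso_coimage {E F : X.Modules} (f : E ⟶ F)
    (hK : FlatMod.IsFinLocFreeOfRank 0 (kernel f)) [IsIso (Abelian.factorThruCoimage f)] :
    IsIso f := by
  haveI : Mono f := Preadditive.mono_of_isZero_kernel f (isZero_of_rank_zero _ hK)
  haveI : Epi f := by
    rw [← Abelian.coimage.fac f]
    infer_instance
  exact isIso_of_mono_of_epi f

omit [IsIntegral X] [IsProper (X ↘ (Spec (CommRingCat.of k)))] in
/-- the semistability inequality for the kernel, including the rank zero case -/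
theorem kernel_ineq {r : ℕ} {E : X.Modules} (hEss : ModFun.IsSlopeSemistable k X E r)
    {K : X.Modules} (j : K ⟶ E) [Mono j] {rK : ℕ} (hK : FlatMod.IsFinLocFreeOfRank rK K) :
    Curv2.deg k X K rK * (r : ℤ) ≤ Curv2.deg k X E r * (rK : ℤ) := by
  rcases Nat.eq_zero_or_pos rK with h0 | hpos
  · subst h0
    rw [deg_of_isZero k (isZero_of_rank_zero _ hK)]
    simp
  · exact hEss K rK j inferInstance hpos hK

/-- S15332 -/
theorem main15332 (hdim : topologicalKrullDim X = 1)
    (hreg : ∀ x : X, IsRegularLocalRing (X.presheaf.stalk x))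
    (r s : ℕ) (E F : X.Modules)
    (hE : FlatMod.IsFinLocFreeOfRank r E) (hF : FlatMod.IsFinLocFreeOfRank s F)
    (hEss : ModFun.IsSlopeSemistable k X E r)
    (hmax : ∀ (G : X.Modules) (r' : ℕ) (i : G ⟶ F), Mono i → 0 < r' →
      FlatMod.IsFinLocFreeOfRank r' G →
      Curv2.deg k X G r' * (r : ℤ) < Curv2.deg k X E r * (r' : ℤ))
    (f : E ⟶ F) : f = 0 := by
  by_contra hf
  obtain ⟨rK, rI, hK, hI, hr, -, hdeg⟩ := ker_coim_data k hdim hreg hE hF f
  have hI0 : 0 < rI := by
    rcases Nat.eq_zero_or_pos rI with h0 | hpos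
    · subst h0
      exact absurd (eq_zero_of_coimage_rank_zero f hI) hf
    · exact hpos
  have h1 := hmax _ rI (Abelian.factorThruCoimage f) inferInstance hI0 hI
  have h2 := kernel_ineq k hEss (kernel.ι f) hK
  have hr' : (r : ℤ) = (rK : ℤ) + (rI : ℤ) := by exact_mod_cast hr
  have e1 : Curv2.deg k X E r * (r : ℤ) =
      Curv2.deg k X (kernel f) rK * (r : ℤ) + Curv2.deg k X (Abelian.coimage f) rI * (r : ℤ) := by
    rw [hdeg]; ring
  have e2 : Curv2.deg k X E r * (r : ℤ) =
      Curv2.deg k X E r * (rK : ℤ) + Curv2.deg k X E r * (rI : ℤ) := by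
    rw [hr']; ring
  linarith

end Groth.Agent.Helper4.SN
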