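import Mathlib
import Groth.Agent.Helper4.SN39
import Groth.Agent.Helper2.SmoothRegSch

/-!
# Smooth curves: slope stability statements
-/

set_option autoImplicit false
set_option linter.style.haveILetI false

namespace Groth.Agent.Helper4.SN

open CategoryTheory Limits AlgebraicGeometry Opposite TopologicalSpace
open Groth.Agent.Helper4.StalkDict Groth.Agent.Helper4.NApx82

universe u

variable (k : Type u) [Field k] {X : Scheme.{u}} [X.Over (Spec (CommRingCat.of k))]

theorem regular_of_smooth [Smooth (X ↘ (Spec (CommRingCat.of k)))] (x : X) :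
    IsRegularLocalRing (X.presheaf.stalk x) :=
  Groth.Agent.Helper2.SmoothRegSch.stalk_regular_of_smooth k X (X ↘ (Spec (CommRingCat.of k))) x

variable [IsIntegral X] [IsProper (X ↘ (Spec (CommRingCat.of k)))]

/-- the core of the "stable bundles of the same slope" arguments -/
theorem isIso_core (hdim : topologicalKrullDim X = 1)
    (hreg : ∀ x : X, IsRegularLocalRing (X.presheaf.stalk x))
    {r s : ℕ} {E F : X.Modules}
    (hE : FlatMod.IsFinLocFreeOfRank r E) (hF : FlatMod.IsFinLocFreeOfRank s F) (f : E ⟶ F)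
    (hf : f ≠ 0)
    (hcore : ∀ (rK rI : ℕ), FlatMod.IsFinLocFreeOfRank rK (kernel f) →
      FlatMod.IsFinLocFreeOfRank rI (Abelian.coimage f) → r = rK + rI → rI ≤ s → 0 < rI →
      Curv2.deg k X E r = Curv2.deg k X (kernel f) rK + Curv2.deg k X (Abelian.coimage f) rI →
      rK = 0 ∧ rI = s ∧ Curv2.deg k X (Abelian.coimage f) rI = Curv2.deg k X F s) :
    IsIso f := by
  obtain ⟨rK, rI, hK, hI, hr, hIs, hdeg⟩ := ker_coim_data k hdim hreg hE hF f
  have hI0 : 0 < rI := by
    rcases Nat.eq_zero_or_pos rI with h0 | hpos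
    · subst h0
      exact absurd (eq_zero_of_coimage_rank_zero f hI) hf
    · exact hpos
  obtain ⟨h1, h2, h3⟩ := hcore rK rI hK hI hr hIs hI0 hdeg
  subst h1 h2
  haveI := isIso_of_mono_of_rank_deg_eq k hdim (Abelian.factorThruCoimage f) hI hF h3
  exact isIso_of_kernel_zero_of_isIso_coimage f hK

/-- S15333 -/
theorem main15333 (hdim : topologicalKrullDim X = 1)
    (hreg : ∀ x : X, IsRegularLocalRing (X.presheaf.stalk x))
    (r s : ℕ) (hr : 0 < r) (hs : 0 < s) (E F : X.Modules)
    (hE : FlatMod.IsFinLocFreeOfRank r E) (hF : FlatMod.IsFinLocFreeOfRank s F)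
    (hEss : ModFun.IsSlopeSemistable k X E r) (hEst : ModFun.IsSlopeStable k X E r)
    (hFss : ModFun.IsSlopeSemistable k X F s) (hFst : ModFun.IsSlopeStable k X F s)
    (hμ : Curv2.deg k X E r * (s : ℤ) = Curv2.deg k X F s * (r : ℤ))
    (f : E ⟶ F) (hf : f ≠ 0) : IsIso f := by
  apply isIso_core k hdim hreg hE hF f hf
  intro rK rI hK hI hrr hIs hI0 hdeg
  have hA := kernel_ineq k hEss (kernel.ι f) hK
  have hB := hFss _ rI (Abelian.factorThruCoimage f) inferInstance hI0 hI
  have hr' : (r : ℤ) = (rK : ℤ) + (rI : ℤ) := by exact_mod_cast hrr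
  have hrpos : (0 : ℤ) < (r : ℤ) := by exact_mod_cast hr
  have hspos : (0 : ℤ) < (s : ℤ) := by exact_mod_cast hs
  set dE := Curv2.deg k X E r
  set dF := Curv2.deg k X F s
  set dK := Curv2.deg k X (kernel f) rK
  set dI := Curv2.deg k X (Abelian.coimage f) rI
  -- dI * r ≥ dE * rI
  have hC : dE * (rI : ℤ) ≤ dI * (r : ℤ) := by
    have : dE * (r : ℤ) = dE * (rK : ℤ) + dE * (rI : ℤ) := by rw [hr']; ring
    have : dE * (r : ℤ) = dK * (r : ℤ) + dI * (r : ℤ) := by rw [hdeg]; ring
    linarith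
  -- the two inequalities are equalities
  have hD : dI * (r : ℤ) * (s : ℤ) ≤ dE * (rI : ℤ) * (s : ℤ) := by
    have h1 : dI * (s : ℤ) * (r : ℤ) ≤ dF * (rI : ℤ) * (r : ℤ) :=
      mul_le_mul_of_nonneg_right hB hrpos.le
    have h2 : dE * (rI : ℤ) * (s : ℤ) = dF * (rI : ℤ) * (r : ℤ) := by
      have : dE * (s : ℤ) * (rI : ℤ) = dF * (r : ℤ) * (rI : ℤ) := by rw [hμ]
      linarith
    linarith
  have hC' : dI * (r : ℤ) = dE * (rI : ℤ) := by
    have := le_of_mul_le_mul_right hD hspos
    linarith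
  have hK' : dK * (r : ℤ) = dE * (rK : ℤ) := by
    have : dE * (r : ℤ) = dE * (rK : ℤ) + dE * (rI : ℤ) := by rw [hr']; ring
    have : dE * (r : ℤ) = dK * (r : ℤ) + dI * (r : ℤ) := by rw [hdeg]; ring
    linarith
  have hB' : dI * (s : ℤ) = dF * (rI : ℤ) := by
    have h2 : dE * (rI : ℤ) * (s : ℤ) = dF * (rI : ℤ) * (r : ℤ) := by
      have : dE * (s : ℤ) * (rI : ℤ) = dF * (r : ℤ) * (rI : ℤ) := by rw [hμ]
      linarith
    have h3 : dI * (s : ℤ) * (r : ℤ) = dF * (rI : ℤ) * (r : ℤ) := by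
      have : dI * (r : ℤ) * (s : ℤ) = dE * (rI : ℤ) * (s : ℤ) := by rw [hC']
      linarith
    exact mul_right_cancel₀ hrpos.ne' h3
  have hrK : rK = 0 := by
    by_contra hne
    have hpos : 0 < rK := Nat.pos_of_ne_zero hne
    have hlt : rK < r := by omega
    have := hEst _ rK (kernel.ι f) inferInstance hpos hlt hK
    linarith
  have hrI : rI = s := by
    by_contra hne
    have hlt : rI < s := lt_of_le_of_ne hIs hne
    have := hFst _ rI (Abelian.factorThruCoimage f) inferInstance hI0 hlt hI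
    linarith
  refine ⟨hrK, hrI, ?_⟩
  subst hrI
  exact mul_right_cancel₀ hspos.ne' hB'

/-- S11810 -/
theorem main11810 (hdim : topologicalKrullDim X = 1)
    (hreg : ∀ x : X, IsRegularLocalRing (X.presheaf.stalk x))
    (r : ℕ) (hr : 0 < r) (E E' : X.Modules) (hE : FlatMod.IsFinLocFreeOfRank r E)
    (hE' : FlatMod.IsFinLocFreeOfRank r E')
    (hdeg : Curv2.deg k X E r = Curv2.deg k X E' r)
    (hss : ModFun.IsSlopeSemistable k X E r) (hss' : ModFun.IsSlopeSemistable k X E' r)
    (hst : ModFun.IsSlopeStable k X E r ∨ ModFun.IsSlopeStable k X E' r)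
    (f : E ⟶ E') (hf : f ≠ 0) : IsIso f := by
  apply isIso_core k hdim hreg hE hE' f hf
  intro rK rI hK hI hrr hIs hI0 hdg
  have hA := kernel_ineq k hss (kernel.ι f) hK
  have hB := hss' _ rI (Abelian.factorThruCoimage f) inferInstance hI0 hI
  have hr' : (r : ℤ) = (rK : ℤ) + (rI : ℤ) := by exact_mod_cast hrr
  have hrpos : (0 : ℤ) < (r : ℤ) := by exact_mod_cast hr
  rw [← hdeg] at hB ⊢
  set dE := Curv2.deg k X E r
  set dK := Curv2.deg k X (kernel f) rK
  set dI := Curv2.deg k X (Abelian.coimage f) rI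
  have e1 : dE * (r : ℤ) = dE * (rK : ℤ) + dE * (rI : ℤ) := by rw [hr']; ring
  have e2 : dE * (r : ℤ) = dK * (r : ℤ) + dI * (r : ℤ) := by rw [hdg]; ring
  have hC' : dI * (r : ℤ) = dE * (rI : ℤ) := by linarith
  have hK' : dK * (r : ℤ) = dE * (rK : ℤ) := by linarith
  have hrK : rK = 0 := by
    rcases hst with hst | hst
    · by_contra hne
      have hpos : 0 < rK := Nat.pos_of_ne_zero hne
      have hlt : rK < r := by omega
      have := hst _ rK (kernel.ι f) inferInstance hpos hlt hK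
      linarith
    · by_contra hne
      have hlt : rI < r := by omega
      have := hst _ rI (Abelian.factorThruCoimage f) inferInstance hI0 hlt hI
      rw [← hdeg] at this
      linarith
  have hrI : rI = r := by omega
  refine ⟨hrK, hrI, ?_⟩
  subst hrI
  exact mul_right_cancel₀ hrpos.ne' hC'

end Groth.Agent.Helper4.SN
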