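import Mathlib
import Groth.Agent.Helper4.SN40

/-!
# Smooth curves: slopes of direct sums, indecomposability of stable bundles
-/

set_option autoImplicit false
set_option linter.style.haveILetI false

namespace Groth.Agent.Helper4.SN

open CategoryTheory Limits AlgebraicGeometry Opposite TopologicalSpace
open Groth.Agent.Helper4.StalkDict Groth.Agent.Helper4.NApx82

universe u

variable (k : Type u) [Field k] {X : Scheme.{u}} [X.Over (Spec (CommRingCat.of k))]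
  [IsIntegral X] [IsProper (X ↘ (Spec (CommRingCat.of k)))]

omit [IsIntegral X] [IsProper (X ↘ (Spec (CommRingCat.of k)))] in
/-- slope bound including the rank zero case -/
theorem slope_bound {E : X.Modules} (m : ℚ)
    (h : ∀ (G : X.Modules) (r' : ℕ) (i : G ⟶ E), Mono i → 0 < r' →
      FlatMod.IsFinLocFreeOfRank r' G → (Curv2.deg k X G r' : ℚ) / r' ≤ m)
    {K : X.Modules} (j : K ⟶ E) [Mono j] {rK : ℕ} (hK : FlatMod.IsFinLocFreeOfRank rK K) :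
    (Curv2.deg k X K rK : ℚ) ≤ m * rK := by
  rcases Nat.eq_zero_or_pos rK with h0 | hpos
  · subst h0
    rw [deg_of_isZero k (isZero_of_rank_zero _ hK)]
    simp
  · have := h K rK j inferInstance hpos hK
    have hp : (0 : ℚ) < (rK : ℚ) := by exact_mod_cast hpos
    rwa [div_le_iff₀ hp] at this

/-- S15335 -/
theorem main15335 (hdim : topologicalKrullDim X = 1)
    (hreg : ∀ x : X, IsRegularLocalRing (X.presheaf.stalk x))
    (r₁ r₂ : ℕ) (E₁ E₂ : X.Modules)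
    (hE₁ : FlatMod.IsFinLocFreeOfRank r₁ E₁) (hE₂ : FlatMod.IsFinLocFreeOfRank r₂ E₂) (m₁ m₂ : ℚ)
    (h₁ : ∀ (G : X.Modules) (r' : ℕ) (i : G ⟶ E₁), Mono i → 0 < r' →
      FlatMod.IsFinLocFreeOfRank r' G → (Curv2.deg k X G r' : ℚ) / r' ≤ m₁)
    (h₂ : ∀ (G : X.Modules) (r' : ℕ) (i : G ⟶ E₂), Mono i → 0 < r' →
      FlatMod.IsFinLocFreeOfRank r' G → (Curv2.deg k X G r' : ℚ) / r' ≤ m₂)
    (F : X.Modules) (r' : ℕ) (i : F ⟶ E₁ ⊞ E₂) (hi : Mono i) (hr' : 0 < r')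
    (hF : FlatMod.IsFinLocFreeOfRank r' F) :
    (Curv2.deg k X F r' : ℚ) / r' ≤ max m₁ m₂ := by
  haveI := hi
  let g : F ⟶ E₂ := i ≫ biprod.snd
  obtain ⟨rK, rI, hK, hI, hr, -, hdeg⟩ := ker_coim_data k hdim hreg hF hE₂ g
  let j : kernel g ⟶ E₁ := kernel.ι g ≫ i ≫ biprod.fst
  have hj : j ≫ biprod.inl = kernel.ι g ≫ i := by
    have h0 : (kernel.ι g ≫ i) ≫ biprod.snd = 0 := by
      rw [Category.assoc]; exact kernel.condition g
    have ht : kernel.ι g ≫ i = (kernel.ι g ≫ i) ≫ (biprod.fst ≫ biprod.inl + biprod.snd ≫ biprod.inr) := by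
      rw [biprod.total, Category.comp_id]
    rw [ht, Preadditive.comp_add, ← Category.assoc _ biprod.snd, h0, zero_comp, add_zero]
    simp [j]
  haveI : Mono (j ≫ (biprod.inl : E₁ ⟶ E₁ ⊞ E₂)) := by rw [hj]; infer_instance
  haveI : Mono j := mono_of_mono j (biprod.inl : E₁ ⟶ E₁ ⊞ E₂)
  have b1 := slope_bound k m₁ h₁ j hK
  have b2 := slope_bound k m₂ h₂ (Abelian.factorThruCoimage g) hI
  have hp : (0 : ℚ) < (r' : ℚ) := by exact_mod_cast hr'
  rw [div_le_iff₀ hp, hdeg, hr]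
  push_cast
  have hK0 : (0 : ℚ) ≤ (rK : ℚ) := Nat.cast_nonneg _
  have hI0 : (0 : ℚ) ≤ (rI : ℚ) := Nat.cast_nonneg _
  have c1 : m₁ * (rK : ℚ) ≤ max m₁ m₂ * (rK : ℚ) :=
    mul_le_mul_of_nonneg_right (le_max_left _ _) hK0
  have c2 : m₂ * (rI : ℚ) ≤ max m₁ m₂ * (rI : ℚ) :=
    mul_le_mul_of_nonneg_right (le_max_right _ _) hI0
  linarith

/-- S15340 -/
theorem main15340 (hdim : topologicalKrullDim X = 1)
    (hreg : ∀ x : X, IsRegularLocalRing (X.presheaf.stalk x))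
    (r : ℕ) (hr : 0 < r) (E : X.Modules) (hE : FlatMod.IsFinLocFreeOfRank r E)
    (hEst : ModFun.IsSlopeStable k X E r) :
    ¬ IsZero E ∧ ∀ (E₁ E₂ : X.Modules), Nonempty (E ≅ E₁ ⊞ E₂) → IsZero E₁ ∨ IsZero E₂ := by
  haveI := isNoetherian_of_proper k X
  refine ⟨not_isZero_of_rank hr E hE, ?_⟩
  rintro E₁ E₂ ⟨e⟩
  by_contra hcon
  push Not at hcon
  obtain ⟨hn1, hn2⟩ := hcon
  have hB : FlatMod.IsFinLocFreeOfRank r (E₁ ⊞ E₂) := isFinLocFreeOfRank_of_iso e hE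
  have hBc : Coh.IsCoh (E₁ ⊞ E₂) := Groth.Agent.Lead.PerfLib.isCoh_of_isFinLocFree
    (FinLocFree7.isFinLocFree_of_rank _ hB)
  haveI : (E₁ ⊞ E₂).IsQuasicoherent := hBc.1
  have hq1 : E₁.IsQuasicoherent :=
    FinLocFree4.isQuasicoherent_of_retract (biprod.inl : E₁ ⟶ E₁ ⊞ E₂) biprod.fst biprod.inl_fst
  have hq2 : E₂.IsQuasicoherent :=
    FinLocFree4.isQuasicoherent_of_retract (biprod.inr : E₂ ⟶ E₁ ⊞ E₂) biprod.snd biprod.inr_snd
  have hc1 : Coh.IsCoh E₁ :=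
    Groth.Agent.Helper2.CohQ1.isCoh_of_mono (biprod.inl : E₁ ⟶ E₁ ⊞ E₂) hq1 hBc
  have hc2 : Coh.IsCoh E₂ :=
    Groth.Agent.Helper2.CohQ1.isCoh_of_mono (biprod.inr : E₂ ⟶ E₁ ⊞ E₂) hq2 hBc
  obtain ⟨a, h1⟩ := exists_rank_of_mono hreg hdim.le (biprod.inl : E₁ ⟶ E₁ ⊞ E₂) hc1 hB
  obtain ⟨b, h2⟩ := exists_rank_of_mono hreg hdim.le (biprod.inr : E₂ ⟶ E₁ ⊞ E₂) hc2 hB
  have hS : (ShortComplex.mk (biprod.inl : E₁ ⟶ E₁ ⊞ E₂) (biprod.snd : E₁ ⊞ E₂ ⟶ E₂)
      (by simp)).ShortExact := (ShortComplex.Splitting.ofHasBinaryBiproduct E₁ E₂).shortExact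
  have hr_eq : r = a + b := rank_add_of_shortExact _ hS h1 hB h2
  have hdeg := deg_add_of_shortExact k _ hS hc1 hBc hc2 a b
  have hdeg' : Curv2.deg k X E r = Curv2.deg k X E₁ a + Curv2.deg k X E₂ b := by
    rw [← hdeg, ← hr_eq]
    unfold Curv2.deg
    have := chi_iso k e
    unfold chi at this
    rw [this]
  have ha : 0 < a := by
    rcases Nat.eq_zero_or_pos a with h0 | hpos
    · subst h0; exact absurd (isZero_of_rank_zero _ h1) hn1
    · exact hpos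
  have hb : 0 < b := by
    rcases Nat.eq_zero_or_pos b with h0 | hpos
    · subst h0; exact absurd (isZero_of_rank_zero _ h2) hn2
    · exact hpos
  have s1 := hEst E₁ a (biprod.inl ≫ e.inv) inferInstance ha (by omega) h1
  have s2 := hEst E₂ b (biprod.inr ≫ e.inv) inferInstance hb (by omega) h2
  have hr' : (r : ℤ) = (a : ℤ) + (b : ℤ) := by exact_mod_cast hr_eq
  have e1 : Curv2.deg k X E r * (r : ℤ) =
      Curv2.deg k X E₁ a * (r : ℤ) + Curv2.deg k X E₂ b * (r : ℤ) := by rw [hdeg']; ring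
  have e2 : Curv2.deg k X E r * (r : ℤ) =
      Curv2.deg k X E r * (a : ℤ) + Curv2.deg k X E r * (b : ℤ) := by rw [hr']; ring
  linarith

end Groth.Agent.Helper4.SN
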