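import Mathlib
import Groth.Agent.Helper4.SN41

/-!
# Smooth geometrically connected schemes over a field are integral (Noetherian case)
-/

set_option autoImplicit false
set_option linter.style.haveILetI false

namespace Groth.Agent.Helper4.SN

open CategoryTheory Limits AlgebraicGeometry Opposite TopologicalSpace

universe u

/-- topological lemma (same statement as `Helper5.ConnInt.irreducibleSpace_of_unique_generic`):
finitely many "generic points" with unique generization ⇒ irreducible -/
theorem irreducibleSpace_of_unique_generic' {Y : Type*} [TopologicalSpace Y] [ConnectedSpace Y]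
    (S : Set Y) (hS : S.Finite) (g : Y → Y) (hgS : ∀ y, g y ∈ S) (hg : ∀ y, g y ⤳ y)
    (huniq : ∀ y, ∀ s ∈ S, s ⤳ y → s = g y) : IrreducibleSpace Y := by
  obtain ⟨y₀⟩ := (inferInstance : Nonempty Y)
  have hcl : IsClopen (closure {g y₀}) := by
    refine ⟨isClosed_closure, ?_⟩
    have hcompl : (closure {g y₀})ᶜ = ⋃ s ∈ S \ {g y₀}, closure {s} := by
      ext y
      simp only [Set.mem_compl_iff, Set.mem_iUnion, exists_prop, Set.mem_sdiff,
        Set.mem_singleton_iff, ← specializes_iff_mem_closure]
      constructor
      · intro hy
        refine ⟨g y, ⟨hgS y, ?_⟩, hg y⟩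
        intro h
        exact hy (h ▸ hg y)
      · rintro ⟨s, ⟨hs, hne⟩, hsy⟩ hy
        exact hne ((huniq y s hs hsy).trans (huniq y _ (hgS y₀) hy).symm)
    rw [← isClosed_compl_iff, hcompl]
    exact (hS.subset Set.sdiff_subset).isClosed_biUnion fun _ _ => isClosed_closure
  have huniv : closure {g y₀} = Set.univ :=
    hcl.eq_univ ⟨g y₀, subset_closure rfl⟩
  rw [irreducibleSpace_def]
  have : (⊤ : Set Y) = closure {g y₀} := huniv.symm
  rw [this]
  exact isIrreducible_singleton.closure

/-- a connected Noetherian scheme all of whose local rings are domains is integral -/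
theorem isIntegral_of_connected_of_isDomain_stalk (X : Scheme.{u}) [IsNoetherian X]
    [ConnectedSpace X] (hX : ∀ x : X, IsDomain (X.presheaf.stalk x)) : IsIntegral X := by
  haveI : IsReduced X := by
    haveI : ∀ x : X, _root_.IsReduced (X.presheaf.stalk x) := fun x => by
      haveI := hX x; infer_instance
    exact isReduced_of_isReduced_stalk X
  let bot : ∀ y : X, PrimeSpectrum (X.presheaf.stalk y) := fun y =>
    ⟨⊥, by haveI := hX y; exact Ideal.isPrime_bot⟩
  let g : X → X := fun y => X.fromSpecStalk y (bot y)
  let S : Set X := (fun z : X => closure ({z} : Set X)) ⁻¹' irreducibleComponents X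
  have hg : ∀ y, g y ⤳ y := fun y => by
    have : g y ∈ Set.range (X.fromSpecStalk y) := ⟨_, rfl⟩
    rw [Scheme.range_fromSpecStalk] at this
    exact this
  -- any generization of `y` is a specialization of `g y`
  have hgen : ∀ y z : X, z ⤳ y → g y ⤳ z := by
    intro y z hz
    have : z ∈ Set.range (X.fromSpecStalk y) := by
      rw [Scheme.range_fromSpecStalk]; exact hz
    obtain ⟨P, rfl⟩ := this
    have h1 : bot y ⤳ P :=
      (PrimeSpectrum.le_iff_specializes (bot y) P).1
        (show (bot y).asIdeal ≤ PrimeSpectrum.asIdeal P from bot_le)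
    exact h1.map (X.fromSpecStalk y).continuous
  have hSfin : S.Finite := by
    apply Set.Finite.preimage _ TopologicalSpace.NoetherianSpace.finite_irreducibleComponents
    intro a _ b _ hab
    exact (inseparable_iff_closure_eq.2 hab).eq
  have hgS : ∀ y, g y ∈ S := by
    intro y
    show closure ({g y} : Set X) ∈ irreducibleComponents X
    obtain ⟨Z, hZ, hsub⟩ :=
      exists_mem_irreducibleComponents_subset_of_isIrreducible _
        (isIrreducible_singleton (x := g y)).closure
    have hZc : IsClosed Z := isClosed_of_mem_irreducibleComponents Z hZ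
    have hZi : IsIrreducible Z := hZ.1
    obtain ⟨z, hz⟩ := QuasiSober.sober hZi hZc
    have hzg : z ⤳ g y := by
      rw [specializes_iff_mem_closure, hz.def]
      exact hsub (subset_closure rfl)
    have hgz : g y ⤳ z := hgen y z (hzg.trans (hg y))
    have : z = g y := (hzg.antisymm hgz).eq
    rw [← this, hz.def]
    exact hZ
  have huniq : ∀ y, ∀ s ∈ S, s ⤳ y → s = g y := by
    intro y s hs hsy
    have hgs : g y ⤳ s := hgen y s hsy
    have hs' : closure ({s} : Set X) ∈ irreducibleComponents X := hs
    have hle : closure ({s} : Set X) ⊆ closure ({g y} : Set X) :=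
      (specializes_iff_closure_subset.1 hgs)
    have heq : closure ({g y} : Set X) ⊆ closure ({s} : Set X) :=
      hs'.2 (isIrreducible_singleton (x := g y)).closure hle
    have hsg : s ⤳ g y := specializes_iff_closure_subset.2 heq
    exact (hsg.antisymm hgs).eq
  haveI := irreducibleSpace_of_unique_generic' S hSfin g hgS hg huniq
  exact isIntegral_of_irreducibleSpace_of_isReduced X

variable (k : Type u) [Field k] (X : Scheme.{u}) [X.Over (Spec (CommRingCat.of k))]

/-- a proper smooth geometrically connected scheme over a field is integral -/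
theorem isIntegral_of_smooth_of_geometricallyConnected
    [IsProper (X ↘ (Spec (CommRingCat.of k)))] [Smooth (X ↘ (Spec (CommRingCat.of k)))]
    [GeometricallyConnected (X ↘ (Spec (CommRingCat.of k)))] : IsIntegral X := by
  haveI := Groth.Agent.Helper4.NApx82.isNoetherian_of_proper k X
  haveI : ConnectedSpace X :=
    GeometricallyConnected.connectedSpace_of_subsingleton (f := X ↘ (Spec (CommRingCat.of k)))
  apply isIntegral_of_connected_of_isDomain_stalk X
  intro x
  haveI := regular_of_smooth k x
  exact Groth.Agent.Lead.RegLocal.isDomain_of_isRegularLocalRing _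

end Groth.Agent.Helper4.SN
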