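import Mathlib
import Groth.Agent.Helper4.SN42

/-!
# Smooth curves: more slope stability statements
-/

set_option autoImplicit false
set_option linter.style.haveILetI false

namespace Groth.Agent.Helper4.SN

open CategoryTheory Limits AlgebraicGeometry Opposite TopologicalSpace
open Groth.Agent.Helper4.StalkDict Groth.Agent.Helper4.NApx82

universe u

variable (k : Type u) [Field k] {X : Scheme.{u}} [X.Over (Spec (CommRingCat.of k))]
  [IsIntegral X] [IsProper (X ↘ (Spec (CommRingCat.of k)))]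

/-- S14136 -/
theorem main14136 (hdim : topologicalKrullDim X = 1)
    (hreg : ∀ x : X, IsRegularLocalRing (X.presheaf.stalk x))
    (r s : ℕ) (hr : 0 < r) (hs : 0 < s) (E F : X.Modules)
    (hE : FlatMod.IsFinLocFreeOfRank r E) (hF : FlatMod.IsFinLocFreeOfRank s F)
    (hEss : ModFun.IsSlopeSemistable k X E r) (hFss : ModFun.IsSlopeSemistable k X F s)
    (hslope : Curv2.deg k X F s * (r : ℤ) < Curv2.deg k X E r * (s : ℤ)) (f : E ⟶ F) : f = 0 := by
  by_contra hf
  obtain ⟨rK, rI, hK, hI, hrr, -, hdeg⟩ := ker_coim_data k hdim hreg hE hF f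
  have hI0 : 0 < rI := by
    rcases Nat.eq_zero_or_pos rI with h0 | hpos
    · subst h0
      exact absurd (eq_zero_of_coimage_rank_zero f hI) hf
    · exact hpos
  have hA := kernel_ineq k hEss (kernel.ι f) hK
  have hB := hFss _ rI (Abelian.factorThruCoimage f) inferInstance hI0 hI
  have hr' : (r : ℤ) = (rK : ℤ) + (rI : ℤ) := by exact_mod_cast hrr
  have hrpos : (0 : ℤ) < (r : ℤ) := by exact_mod_cast hr
  have hspos : (0 : ℤ) < (s : ℤ) := by exact_mod_cast hs
  have hIpos : (0 : ℤ) < (rI : ℤ) := by exact_mod_cast hI0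
  set dE := Curv2.deg k X E r
  set dF := Curv2.deg k X F s
  set dK := Curv2.deg k X (kernel f) rK
  set dI := Curv2.deg k X (Abelian.coimage f) rI
  have hC : dE * (rI : ℤ) ≤ dI * (r : ℤ) := by
    have : dE * (r : ℤ) = dE * (rK : ℤ) + dE * (rI : ℤ) := by rw [hr']; ring
    have : dE * (r : ℤ) = dK * (r : ℤ) + dI * (r : ℤ) := by rw [hdeg]; ring
    linarith
  have h1 : dE * (rI : ℤ) * (s : ℤ) ≤ dI * (r : ℤ) * (s : ℤ) :=
    mul_le_mul_of_nonneg_right hC hspos.le
  have h2 : dI * (s : ℤ) * (r : ℤ) ≤ dF * (rI : ℤ) * (r : ℤ) :=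
    mul_le_mul_of_nonneg_right hB hrpos.le
  have h3 : dF * (r : ℤ) * (rI : ℤ) < dE * (s : ℤ) * (rI : ℤ) :=
    mul_lt_mul_of_pos_right hslope hIpos
  linarith

/-- S14137 -/
theorem main14137 (hdim : topologicalKrullDim X = 1)
    (hreg : ∀ x : X, IsRegularLocalRing (X.presheaf.stalk x))
    (r : ℕ) (hr : 0 < r) (E : X.Modules) (hE : FlatMod.IsFinLocFreeOfRank r E)
    (hEst : ∀ (G : X.Modules) (r' : ℕ) (i : G ⟶ E), Mono i → 0 < r' →
      FlatMod.IsFinLocFreeOfRank r' G → (¬ IsIso i) →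
      Curv2.deg k X G r' * (r : ℤ) < Curv2.deg k X E r * (r' : ℤ))
    (f : E ⟶ E) (hf : f ≠ 0) : IsIso f := by
  apply isIso_core k hdim hreg hE hE f hf
  intro rK rI hK hI hrr hIs hI0 hdeg
  have hr' : (r : ℤ) = (rK : ℤ) + (rI : ℤ) := by exact_mod_cast hrr
  have hrpos : (0 : ℤ) < (r : ℤ) := by exact_mod_cast hr
  set dE := Curv2.deg k X E r
  set dK := Curv2.deg k X (kernel f) rK
  set dI := Curv2.deg k X (Abelian.coimage f) rI
  have e1 : dE * (r : ℤ) = dE * (rK : ℤ) + dE * (rI : ℤ) := by rw [hr']; ring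
  have e2 : dE * (r : ℤ) = dK * (r : ℤ) + dI * (r : ℤ) := by rw [hdeg]; ring
  have hrK : rK = 0 := by
    by_contra hne
    have hpos : 0 < rK := Nat.pos_of_ne_zero hne
    have hniK : ¬ IsIso (kernel.ι f) := by
      intro hiso
      apply hf
      rw [← cancel_epi (kernel.ι f), kernel.condition, comp_zero]
    have hk := hEst _ rK (kernel.ι f) inferInstance hpos hK hniK
    have hniI : ¬ IsIso (Abelian.factorThruCoimage f) := by
      intro hiso
      have : r ≤ rI := rank_le_of_mono (inv (Abelian.factorThruCoimage f)) hE hI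
      omega
    have hi := hEst _ rI (Abelian.factorThruCoimage f) inferInstance hI0 hI hniI
    linarith
  have hrI : rI = r := by omega
  subst hrK
  have hdK : dK = 0 := deg_of_isZero k (isZero_of_rank_zero _ hK)
  refine ⟨rfl, hrI, ?_⟩
  subst hrI
  rw [hdeg, hdK, zero_add]

/-- S16137 -/
theorem main16137 (hdim : topologicalKrullDim X = 1)
    (hreg : ∀ x : X, IsRegularLocalRing (X.presheaf.stalk x))
    (T : ShortComplex X.Modules) (hT : T.ShortExact)
    (r : ℕ) (hE : FlatMod.IsFinLocFreeOfRank r T.X₂)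
    (hst : ModFun.IsSlopeStable k X T.X₂ r)
    (φ : T.X₃ ⟶ T.X₁) : φ = 0 := by
  haveI := hT.mono_f
  haveI := hT.epi_g
  let ψ : T.X₂ ⟶ T.X₂ := T.g ≫ φ ≫ T.f
  have hψ2 : ψ ≫ ψ = 0 := by
    simp only [ψ, Category.assoc]
    rw [T.zero_assoc]
    simp
  suffices hψ : ψ = 0 by
    have h1 : T.g ≫ (φ ≫ T.f) = T.g ≫ 0 := by rw [comp_zero]; exact hψ
    have h2 : φ ≫ T.f = 0 := (cancel_epi T.g).1 h1
    have h3 : φ ≫ T.f = 0 ≫ T.f := by rw [zero_comp]; exact h2
    exact (cancel_mono T.f).1 h3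
  by_contra hψ
  obtain ⟨rK, rI, hK, hI, hrr, -, hdeg⟩ := ker_coim_data k hdim hreg hE hE ψ
  have hI0 : 0 < rI := by
    rcases Nat.eq_zero_or_pos rI with h0 | hpos
    · subst h0
      exact absurd (eq_zero_of_coimage_rank_zero ψ hI) hψ
    · exact hpos
  have hK0 : 0 < rK := by
    rcases Nat.eq_zero_or_pos rK with h0 | hpos
    · subst h0
      exfalso
      haveI : Mono ψ := Preadditive.mono_of_isZero_kernel ψ (isZero_of_rank_zero _ hK)
      apply hψ
      have : ψ ≫ ψ = 0 ≫ ψ := by rw [zero_comp]; exact hψ2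
      exact (cancel_mono ψ).1 this
    · exact hpos
  have hk := hst _ rK (kernel.ι ψ) inferInstance hK0 (by omega) hK
  have hi := hst _ rI (Abelian.factorThruCoimage ψ) inferInstance hI0 (by omega) hI
  have hr' : (r : ℤ) = (rK : ℤ) + (rI : ℤ) := by exact_mod_cast hrr
  have e1 : Curv2.deg k X T.X₂ r * (r : ℤ) =
      Curv2.deg k X T.X₂ r * (rK : ℤ) + Curv2.deg k X T.X₂ r * (rI : ℤ) := by rw [hr']; ring
  have e2 : Curv2.deg k X T.X₂ r * (r : ℤ) =
      Curv2.deg k X (kernel ψ) rK * (r : ℤ) + Curv2.deg k X (Abelian.coimage ψ) rI * (r : ℤ) := by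
    rw [hdeg]; ring
  linarith

end Groth.Agent.Helper4.SN
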