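import Mathlib
import Groth.Agent.Helper4.SN43
import Groth.Prelude.Def_Curve

/-!
# Smooth curves: stable bundles are simple; the maximal destabilising submodule
-/

set_option autoImplicit false
set_option linter.style.haveILetI false

namespace Groth.Agent.Helper4.SN

open CategoryTheory Limits AlgebraicGeometry Opposite TopologicalSpace
open Groth.Agent.Helper4.StalkDict Groth.Agent.Helper4.NApx82

universe u

variable (k : Type u) [Field k] {X : Scheme.{u}} [X.Over (Spec (CommRingCat.of k))]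
  [IsIntegral X] [IsProper (X ↘ (Spec (CommRingCat.of k)))]

/-- S11483 -/
theorem main11483 (hdim : topologicalKrullDim X = 1)
    (hreg : ∀ x : X, IsRegularLocalRing (X.presheaf.stalk x))
    (r : ℕ) (E : X.Modules) (hE : FlatMod.IsFinLocFreeOfRank r E)
    (hst : ∀ (G : X.Modules) (s : ℕ) (ι : G ⟶ E), Mono ι → FlatMod.IsFinLocFreeOfRank s G →
      0 < s → s < r → Curv2.deg k X G s * (r : ℤ) < Curv2.deg k X E r * (s : ℤ))
    (φ : E ⟶ E) (hφ : φ ≠ 0) : IsIso φ := by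
  apply isIso_core k hdim hreg hE hE φ hφ
  intro rK rI hK hI hrr hIs hI0 hdeg
  have hr' : (r : ℤ) = (rK : ℤ) + (rI : ℤ) := by exact_mod_cast hrr
  set dE := Curv2.deg k X E r
  set dK := Curv2.deg k X (kernel φ) rK
  set dI := Curv2.deg k X (Abelian.coimage φ) rI
  have e1 : dE * (r : ℤ) = dE * (rK : ℤ) + dE * (rI : ℤ) := by rw [hr']; ring
  have e2 : dE * (r : ℤ) = dK * (r : ℤ) + dI * (r : ℤ) := by rw [hdeg]; ring
  have hrK : rK = 0 := by
    by_contra hne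
    have hpos : 0 < rK := Nat.pos_of_ne_zero hne
    have hk := hst _ rK (kernel.ι φ) inferInstance hK hpos (by omega)
    have hi := hst _ rI (Abelian.factorThruCoimage φ) inferInstance hI hI0 (by omega)
    linarith
  have hrI : rI = r := by omega
  subst hrK
  have hdK : dK = 0 := deg_of_isZero k (isZero_of_rank_zero _ hK)
  refine ⟨rfl, hrI, ?_⟩
  subst hrI
  rw [hdeg, hdK, zero_add]

/-- S14149: the maximal destabilising submodule -/
theorem main14149 (hdim : topologicalKrullDim X = 1)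
    (r : ℕ) (hr : 0 < r) (E : X.Modules) (hE : FlatMod.IsFinLocFreeOfRank r E) :
    ∃ (E₁ : X.Modules) (r₁ : ℕ) (i₁ : E₁ ⟶ E), Mono i₁ ∧ 0 < r₁ ∧
      FlatMod.IsFinLocFreeOfRank r₁ E₁ ∧
      (∀ (G : X.Modules) (r' : ℕ) (j : G ⟶ E), Mono j → 0 < r' → FlatMod.IsFinLocFreeOfRank r' G →
        Curv2.deg k X G r' * (r₁ : ℤ) ≤ Curv2.deg k X E₁ r₁ * (r' : ℤ)) ∧
      (∀ (G : X.Modules) (r' : ℕ) (j : G ⟶ E), Mono j → 0 < r' → FlatMod.IsFinLocFreeOfRank r' G →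
        Curv2.deg k X G r' * (r₁ : ℤ) = Curv2.deg k X E₁ r₁ * (r' : ℤ) → r' ≤ r₁) ∧
      (∀ (G : X.Modules) (r' : ℕ) (i : G ⟶ E₁), Mono i → 0 < r' →
        FlatMod.IsFinLocFreeOfRank r' G →
        Curv2.deg k X G r' * (r₁ : ℤ) ≤ Curv2.deg k X E₁ r₁ * (r' : ℤ)) := by
  classical
  obtain ⟨N, hN⟩ := main15331 k hdim r E hE
  let A : Set (ℕ × ℤ) := {p | ∃ (G : X.Modules) (j : G ⟶ E), Mono j ∧ 0 < p.1 ∧
    FlatMod.IsFinLocFreeOfRank p.1 G ∧ Curv2.deg k X G p.1 = p.2}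
  set dE := Curv2.deg k X E r with hdE
  let A' : Set (ℕ × ℤ) := {p | p ∈ A ∧ dE * (p.1 : ℤ) ≤ p.2 * (r : ℤ)}
  have hEA : ((r, dE) : ℕ × ℤ) ∈ A' := ⟨⟨E, 𝟙 E, inferInstance, hr, hE, rfl⟩, le_refl _⟩
  have hrpos : (0 : ℤ) < (r : ℤ) := by exact_mod_cast hr
  have hfin : A'.Finite := by
    apply Set.Finite.subset ((Set.finite_Icc 1 r).prod (Set.finite_Icc (-|dE|) N))
    rintro ⟨r', d⟩ ⟨⟨G, j, hj, hpos, hG, hd⟩, hle⟩
    haveI := hj
    have h1 : r' ≤ r := rank_le_of_mono j hG hE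
    have hd' : Curv2.deg k X G r' = d := hd
    have h2 : d ≤ N := by rw [← hd']; exact hN G r' j hj hG
    have h3 : -|dE| ≤ d := by
      by_contra hlt
      push Not at hlt
      have hle' : dE * (r' : ℤ) ≤ d * (r : ℤ) := hle
      have hr'pos : (0 : ℤ) < (r' : ℤ) := by exact_mod_cast hpos
      have hr'r : (r' : ℤ) ≤ (r : ℤ) := by exact_mod_cast h1
      have ha : -|dE| ≤ dE := neg_abs_le dE
      have hb : (0 : ℤ) ≤ |dE| := abs_nonneg dE
      have h4 : d * (r : ℤ) < -|dE| * (r : ℤ) := mul_lt_mul_of_pos_right hlt hrpos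
      have h5 : -|dE| * (r : ℤ) ≤ -|dE| * (r' : ℤ) := by nlinarith
      have h6 : -|dE| * (r' : ℤ) ≤ dE * (r' : ℤ) := mul_le_mul_of_nonneg_right ha hr'pos.le
      linarith
    exact ⟨⟨hpos, h1⟩, h3, h2⟩
  let f : ℕ × ℤ → ℚ ×ₗ ℕ := fun p => toLex ((p.2 : ℚ) / (p.1 : ℚ), p.1)
  obtain ⟨⟨r₁, d₁⟩, ⟨⟨E₁, i₁, hi₁, hr₁, hE₁, hd₁⟩, hle₁⟩, hmax⟩ :=
    Set.exists_max_image A' f hfin ⟨_, hEA⟩
  have hd₁' : Curv2.deg k X E₁ r₁ = d₁ := hd₁
  have hr₁pos : (0 : ℚ) < (r₁ : ℚ) := by exact_mod_cast hr₁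
  have hall : ∀ p ∈ A, f p ≤ f (r₁, d₁) := by
    intro p hp
    by_cases h : dE * (p.1 : ℤ) ≤ p.2 * (r : ℤ)
    · exact hmax p ⟨hp, h⟩
    · push Not at h
      have h1 := hmax _ hEA
      refine le_trans (le_of_lt ?_) h1
      obtain ⟨G, j, hj, hpos, hG, hd⟩ := hp
      have hppos : (0 : ℚ) < (p.1 : ℚ) := by exact_mod_cast hpos
      have hrposq : (0 : ℚ) < (r : ℚ) := by exact_mod_cast hr
      rw [Prod.Lex.toLex_lt_toLex]
      left
      show (p.2 : ℚ) / (p.1 : ℚ) < (dE : ℚ) / (r : ℚ)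
      rw [div_lt_div_iff₀ hppos hrposq]
      exact_mod_cast h
  have hkey : ∀ (G : X.Modules) (r' : ℕ) (j : G ⟶ E), Mono j → 0 < r' →
      FlatMod.IsFinLocFreeOfRank r' G →
      ((Curv2.deg k X G r' : ℚ) / (r' : ℚ) < (d₁ : ℚ) / (r₁ : ℚ) ∨
        ((Curv2.deg k X G r' : ℚ) / (r' : ℚ) = (d₁ : ℚ) / (r₁ : ℚ) ∧ r' ≤ r₁)) := by
    intro G r' j hj hpos hG
    have := hall (r', Curv2.deg k X G r') ⟨G, j, hj, hpos, hG, rfl⟩
    exact Prod.Lex.toLex_le_toLex.1 this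
  have hP1 : ∀ (G : X.Modules) (r' : ℕ) (j : G ⟶ E), Mono j → 0 < r' →
      FlatMod.IsFinLocFreeOfRank r' G →
      Curv2.deg k X G r' * (r₁ : ℤ) ≤ Curv2.deg k X E₁ r₁ * (r' : ℤ) := by
    intro G r' j hj hpos hG
    have hr'pos : (0 : ℚ) < (r' : ℚ) := by exact_mod_cast hpos
    have hle : (Curv2.deg k X G r' : ℚ) / (r' : ℚ) ≤ (d₁ : ℚ) / (r₁ : ℚ) := by
      rcases hkey G r' j hj hpos hG with h | ⟨h, -⟩
      · exact h.le
      · exact h.le
    rw [div_le_div_iff₀ hr'pos hr₁pos] at hle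
    rw [hd₁']
    exact_mod_cast hle
  refine ⟨E₁, r₁, i₁, hi₁, hr₁, hE₁, hP1, ?_, ?_⟩
  · intro G r' j hj hpos hG heq
    have hr'pos : (0 : ℚ) < (r' : ℚ) := by exact_mod_cast hpos
    rcases hkey G r' j hj hpos hG with h | ⟨-, h⟩
    · exfalso
      rw [div_lt_div_iff₀ hr'pos hr₁pos] at h
      rw [hd₁'] at heq
      have : (Curv2.deg k X G r' : ℚ) * (r₁ : ℚ) = (d₁ : ℚ) * (r' : ℚ) := by exact_mod_cast heq
      linarith
    · exact h
  · intro G r' i hi hpos hG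
    haveI := hi
    haveI := hi₁
    exact hP1 G r' (i ≫ i₁) inferInstance hpos hG

end Groth.Agent.Helper4.SN
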