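import Mathlib
import Groth.Agent.Helper4.SN44
import Groth.Agent.Lead.HomShE
import Groth.Prelude.Def_KLin

/-!
# Hom spaces of coherent modules on a proper scheme over a field are finite dimensional;
stable bundles on a curve over an algebraically closed field are simple
-/

set_option autoImplicit false
set_option linter.style.haveILetI false

namespace Groth.Agent.Helper4.SN

open CategoryTheory Limits AlgebraicGeometry Opposite TopologicalSpace

universe u

section General

variable {X : Scheme.{u}} {F G : X.Modules}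

theorem stalkMapₗ_injective (φ ψ : F ⟶ G)
    (h : ∀ x : X, RefHull.stalkMapₗ φ x = RefHull.stalkMapₗ ψ x) : φ = ψ := by
  apply Scheme.Modules.hom_ext
  intro U
  ext m
  refine TopCat.Presheaf.section_ext (⟨G.presheaf, G.isSheaf⟩ : TopCat.Sheaf Ab X.toTopCat) U _ _ ?_
  intro x hx
  have h1 := RefHull.stalkMapₗ_germ φ x hx m
  have h2 := RefHull.stalkMapₗ_germ ψ x hx m
  rw [h x] at h1
  exact h1.symm.trans h2

theorem ofHom_injective (φ ψ : F ⟶ G) (h : RefHull.ofHom φ ⊤ = RefHull.ofHom ψ ⊤) : φ = ψ := by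
  apply stalkMapₗ_injective
  intro x
  have := congrArg (fun s : Γ(RefHull.homSh F G, ⊤) => s.1 ⟨x, trivial⟩) h
  exact this

theorem stalkMapₗ_add (φ ψ : F ⟶ G) (x : X) :
    RefHull.stalkMapₗ (φ + ψ) x = RefHull.stalkMapₗ φ x + RefHull.stalkMapₗ ψ x := by
  apply LinearMap.ext
  intro v
  obtain ⟨V, hv, m, rfl⟩ := TopCat.Presheaf.exists_germ_eq F.presheaf v
  rw [LinearMap.add_apply, RefHull.stalkMapₗ_germ, RefHull.stalkMapₗ_germ, RefHull.stalkMapₗ_germ,
    ← map_add]
  rfl

theorem ofHom_add (φ ψ : F ⟶ G) :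
    RefHull.ofHom (φ + ψ) ⊤ = RefHull.ofHom φ ⊤ + RefHull.ofHom ψ ⊤ := by
  apply Subtype.ext
  funext x
  exact stalkMapₗ_add φ ψ x.1

end General

variable (k : Type u) [Field k] {X : Scheme.{u}} [X.Over (Spec (CommRingCat.of k))]

theorem stalkMapₗ_smul {F G : X.Modules} (a : k) (φ : F ⟶ G) (x : X) :
    RefHull.stalkMapₗ (a • φ) x =
      X.presheaf.germ ⊤ x trivial (Coh.toGlobal (X ↘ Spec (CommRingCat.of k)) a) •
        RefHull.stalkMapₗ φ x := by
  apply LinearMap.ext
  intro v
  obtain ⟨V, hv, m, rfl⟩ := TopCat.Presheaf.exists_germ_eq F.presheaf v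
  rw [LinearMap.smul_apply, RefHull.stalkMapₗ_germ, RefHull.stalkMapₗ_germ, KLin.smul_app_apply,
    Mero.germ_smul]
  congr 1
  exact TopCat.Presheaf.germ_res_apply X.presheaf (homOfLE (le_top : V ≤ ⊤)) x hv _

theorem ofHom_smul {F G : X.Modules} (a : k) (φ : F ⟶ G) :
    RefHull.ofHom (a • φ) ⊤ =
      (show Γ(X, ⊤) from Coh.toGlobal (X ↘ Spec (CommRingCat.of k)) a) • RefHull.ofHom φ ⊤ := by
  apply Subtype.ext
  funext x
  exact stalkMapₗ_smul k a φ x.1

/-- the `k`-linear injection `Hom(F, G) → H⁰(X, 𝓗om(F, G))` -/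
noncomputable def homToH0 (F G : X.Modules) : (F ⟶ G) →ₗ[k] Coh.HH X (RefHull.homSh F G) 0 where
  toFun φ := (Groth.Agent.Lead.ProperFinA.h0Equiv (RefHull.homSh F G)).symm (RefHull.ofHom φ ⊤)
  map_add' φ ψ := by
    rw [ofHom_add]
    exact map_add _ _ _
  map_smul' a φ := by
    apply (Groth.Agent.Lead.ProperFinA.h0Equiv (RefHull.homSh F G)).injective
    refine ((Groth.Agent.Lead.ProperFinA.h0Equiv (RefHull.homSh F G)).apply_symm_apply _).trans ?_
    have h := Groth.Agent.Lead.ProperFinA.h0Equiv_smul (RefHull.homSh F G)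
      (Coh.toGlobal (X ↘ Spec (CommRingCat.of k)) a)
      ((Groth.Agent.Lead.ProperFinA.h0Equiv (RefHull.homSh F G)).symm (RefHull.ofHom φ ⊤))
    refine (ofHom_smul k a φ).trans ?_
    refine Eq.trans ?_ h.symm
    congr 1
    exact ((Groth.Agent.Lead.ProperFinA.h0Equiv (RefHull.homSh F G)).apply_symm_apply _).symm

theorem homToH0_injective (F G : X.Modules) : Function.Injective (homToH0 k F G) := by
  intro φ ψ h
  apply ofHom_injective
  exact (Groth.Agent.Lead.ProperFinA.h0Equiv (RefHull.homSh F G)).symm.injective h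

/-- Hom spaces between coherent modules on a proper scheme over a field are finite dimensional -/
theorem finite_hom [IsProper (X ↘ (Spec (CommRingCat.of k)))] (F G : X.Modules)
    (hF : Coh.IsCoh F) (hG : Coh.IsCoh G) : Module.Finite k (F ⟶ G) := by
  haveI := Groth.Agent.Helper4.NApx82.isNoetherian_of_proper k X
  haveI : Module.Finite k (Coh.HH X (RefHull.homSh F G) 0) :=
    Groth.Agent.S0002.result k X _ (Groth.Agent.Lead.HomShE.isCoh_homSh F G hF hG) 0
  exact Module.Finite.of_injective (homToH0 k F G) (homToH0_injective k F G)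

/-- a module all of whose nonzero endomorphisms are isomorphisms, over an algebraically closed
field, has only scalar endomorphisms -/
theorem scalar_of_division [IsAlgClosed k] [IsProper (X ↘ (Spec (CommRingCat.of k)))]
    (E : X.Modules) (hE : Coh.IsCoh E) (hdiv : ∀ φ : E ⟶ E, φ ≠ 0 → IsIso φ) (φ : E ⟶ E) :
    ∃ a : k, φ = a • 𝟙 E := by
  by_cases hz : IsZero E
  · exact ⟨0, hz.eq_of_src _ _⟩
  haveI : Nontrivial (End E) := by
    refine ⟨⟨𝟙 E, 0, ?_⟩⟩
    intro h
    exact hz ((IsZero.iff_id_eq_zero E).2 h)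
  haveI : NoZeroDivisors (End E) := by
    refine ⟨fun {a b} hab => ?_⟩
    by_contra hcon
    push Not at hcon
    obtain ⟨ha, hb⟩ := hcon
    haveI : IsIso (a : E ⟶ E) := hdiv a ha
    apply hb
    have h1 : (b : E ⟶ E) ≫ (a : E ⟶ E) = 0 := hab
    have h2 : (b : E ⟶ E) ≫ (a : E ⟶ E) = 0 ≫ (a : E ⟶ E) := by rw [zero_comp]; exact h1
    exact (cancel_mono (a : E ⟶ E)).1 h2
  haveI : IsDomain (End E) := NoZeroDivisors.to_isDomain _
  haveI : Module.Finite k (End E) := finite_hom k E E hE hE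
  haveI : Algebra.IsIntegral k (End E) := Algebra.IsIntegral.of_finite k (End E)
  obtain ⟨a, ha⟩ := (IsAlgClosed.algebraMap_bijective_of_isIntegral (k := k) (K := End E)).2 φ
  refine ⟨a, ?_⟩
  rw [← ha, Algebra.algebraMap_eq_smul_one]
  rfl

theorem toSheaf_map_smul_id (E : X.Modules) (a : k) :
    (SheafOfModules.toSheaf X.ringCatSheaf).map (a • 𝟙 E) =
      Coh.smulAb E (Coh.toGlobal (X ↘ Spec (CommRingCat.of k)) a) := by
  rw [KLin.smul_id]
  rfl

end Groth.Agent.Helper4.SN
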