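import Mathlib
import Groth.Agent.Helper4.SN45
import Groth.Agent.Helper4.SN37
import Groth.Agent.Helper4.SN26

/-!
# Curves: `h⁰(L) > g` forces `H¹(L) = 0` (no Serre duality needed)
-/

set_option autoImplicit false
set_option linter.style.haveILetI false

namespace Groth.Agent.Helper4.SN

open CategoryTheory Limits AlgebraicGeometry Opposite TopologicalSpace
open Groth.Agent.Helper4.NApx82

universe u

variable (k : Type u) [Field k] {X : Scheme.{u}} [X.Over (Spec (CommRingCat.of k))]

theorem HHlin_add {F G : X.Modules} (φ ψ : F ⟶ G) (r : ℕ) :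
    Canon.HHlin k (φ + ψ) r = Canon.HHlin k φ r + Canon.HHlin k ψ r := by
  apply LinearMap.ext
  intro x
  change Sheaf.H.map ((SheafOfModules.toSheaf X.ringCatSheaf).map (φ + ψ)) r x =
    Sheaf.H.map ((SheafOfModules.toSheaf X.ringCatSheaf).map φ) r x +
      Sheaf.H.map ((SheafOfModules.toSheaf X.ringCatSheaf).map ψ) r x
  have e : (SheafOfModules.toSheaf X.ringCatSheaf).map (φ + ψ) =
      (SheafOfModules.toSheaf X.ringCatSheaf).map φ +
        (SheafOfModules.toSheaf X.ringCatSheaf).map ψ :=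
    Functor.map_add (SheafOfModules.toSheaf X.ringCatSheaf)
  exact (congrArg (fun f => Sheaf.H.map f r x) e).trans (Sheaf.H.map_add_apply _ _ x)

theorem HHlin_comp {F G H : X.Modules} (φ : F ⟶ G) (ψ : G ⟶ H) (r : ℕ) :
    Canon.HHlin k (φ ≫ ψ) r = Canon.HHlin k ψ r ∘ₗ Canon.HHlin k φ r := by
  apply LinearMap.ext
  intro x
  change Sheaf.H.map ((SheafOfModules.toSheaf X.ringCatSheaf).map (φ ≫ ψ)) r x =
    Sheaf.H.map ((SheafOfModules.toSheaf X.ringCatSheaf).map ψ) r
      (Sheaf.H.map ((SheafOfModules.toSheaf X.ringCatSheaf).map φ) r x)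
  have e : (SheafOfModules.toSheaf X.ringCatSheaf).map (φ ≫ ψ) =
      (SheafOfModules.toSheaf X.ringCatSheaf).map φ ≫
        (SheafOfModules.toSheaf X.ringCatSheaf).map ψ :=
    Functor.map_comp (SheafOfModules.toSheaf X.ringCatSheaf) φ ψ
  exact (congrArg (fun f => Sheaf.H.map f r x) e).trans (Sheaf.H.map_comp_apply _ _ x)

theorem HHlin_smul_id (G : X.Modules) (a : k) (r : ℕ) (x : Coh.HH X G r) :
    Canon.HHlin k (a • 𝟙 G) r x = a • x := by
  change Sheaf.H.map ((SheafOfModules.toSheaf X.ringCatSheaf).map (a • 𝟙 G)) r x = _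
  exact congrArg (fun f => Sheaf.H.map f r x) (toSheaf_map_smul_id k G a)

theorem HHlin_smul {F G : X.Modules} (a : k) (φ : F ⟶ G) (r : ℕ) :
    Canon.HHlin k (a • φ) r = a • Canon.HHlin k φ r := by
  have h : a • φ = φ ≫ (a • 𝟙 G) := by
    rw [Linear.comp_smul, Category.comp_id]
  rw [h, HHlin_comp]
  apply LinearMap.ext
  intro x
  rw [LinearMap.comp_apply, HHlin_smul_id, LinearMap.smul_apply]

/-- the value of a morphism `O ⟶ L` at the unit section -/
noncomputable def sec1 (L : X.Modules) (s : Coh.structureModule X ⟶ L) :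
    (Coh.toAb L).obj.obj (op ⊤) :=
  s.app ⊤ (Groth.Agent.Helper4.GenLoc.one X ⊤)

theorem sec1_add (L : X.Modules) (s s' : Coh.structureModule X ⟶ L) :
    sec1 L (s + s') = sec1 L s + sec1 L s' := rfl

theorem sec1_smul (L : X.Modules) (a : k) (s : Coh.structureModule X ⟶ L) :
    sec1 L (a • s) =
      @HSMul.hSMul (X.ringCatSheaf.obj.obj (op ⊤)) (L.val.obj (op ⊤)) (L.val.obj (op ⊤)) _
        (Coh.toGlobal (X ↘ Spec (CommRingCat.of k)) a) (sec1 L s) := by
  have h := KLin.smul_app_apply a s ⊤ (Groth.Agent.Helper4.GenLoc.one X ⊤)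
  have h2 : X.presheaf.map (homOfLE (le_top : (⊤ : X.Opens) ≤ ⊤)).op
      (Coh.toGlobal (X ↘ Spec (CommRingCat.of k)) a) =
      Coh.toGlobal (X ↘ Spec (CommRingCat.of k)) a := by
    have : (homOfLE (le_top : (⊤ : X.Opens) ≤ ⊤)) = 𝟙 _ := Subsingleton.elim _ _
    rw [this, op_id, X.presheaf.map_id]
    rfl
  rw [h2] at h
  exact h

/-- evaluation of a morphism `O ⟶ L` at the unit section, as a `k`-linear map to `H⁰` -/
noncomputable def evalH0 (L : X.Modules) :
    (Coh.structureModule X ⟶ L) →ₗ[k] Coh.HH X L 0 where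
  toFun s := (Groth.Agent.Lead.ProperFinA.h0Equiv L).symm (sec1 L s)
  map_add' s s' := by
    rw [sec1_add]
    exact map_add _ _ _
  map_smul' a s := by
    apply (Groth.Agent.Lead.ProperFinA.h0Equiv L).injective
    refine ((Groth.Agent.Lead.ProperFinA.h0Equiv L).apply_symm_apply _).trans ?_
    refine (sec1_smul k L a s).trans ?_
    refine Eq.trans ?_ (Groth.Agent.Lead.ProperFinA.h0Equiv_smul L
      (Coh.toGlobal (X ↘ Spec (CommRingCat.of k)) a)
      ((Groth.Agent.Lead.ProperFinA.h0Equiv L).symm (sec1 L s))).symm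
    rw [(Groth.Agent.Lead.ProperFinA.h0Equiv L).apply_symm_apply]

theorem evalH0_surjective (L : X.Modules) : Function.Surjective (evalH0 k L) := by
  intro y
  let t : Γ(L, ⊤) := Groth.Agent.Lead.ProperFinA.h0Equiv L y
  refine ⟨Groth.Agent.Lead.IdealModDict.ofSection L t, ?_⟩
  apply (Groth.Agent.Lead.ProperFinA.h0Equiv L).injective
  refine ((Groth.Agent.Lead.ProperFinA.h0Equiv L).apply_symm_apply _).trans ?_
  have h1 := Groth.Agent.Lead.IdealModDict.ofSection_app L t ⊤ 1
  have h2 : L.presheaf.map (homOfLE (le_top : (⊤ : X.Opens) ≤ ⊤)).op t = t := by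
    have : (homOfLE (le_top : (⊤ : X.Opens) ≤ ⊤)) = 𝟙 _ := Subsingleton.elim _ _
    rw [this, op_id, L.presheaf.map_id]
    rfl
  rw [h2, one_smul] at h1
  exact h1

/-- for a nonzero section `s` of an invertible module on a proper integral curve, `H¹(s)` is
surjective -/
theorem HHlin_one_surjective_of_ne_zero [IsIntegral X] [IsProper (X ↘ (Spec (CommRingCat.of k)))]
    (hdim : topologicalKrullDim X = 1) (N L : X.Modules) (hN : PicF.IsInvertible N)
    (hL : PicF.IsInvertible L) (s : N ⟶ L) (hs : s ≠ 0) :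
    Function.Surjective (Canon.HHlin k s 1) := by
  haveI := isNoetherian_of_proper k X
  have hcN := Groth.Agent.Helper1.SerreFin.isCoh_of_isInvertible N hN
  have hcL := Groth.Agent.Helper1.SerreFin.isCoh_of_isInvertible L hL
  haveI hmono : Mono s := NApx81.mono_of_ne_zero s hN hL hs
  have hcQ : Coh.IsCoh (cokernel s) := Groth.Agent.Lead.PerfLib.isCoh_cokernel hcN hcL s
  have hξ : Subsingleton ((cokernel s).presheaf.stalk (genericPoint X)) :=
    Groth.Agent.Lead.StalkNhd.subsingleton_stalk_cokernel s _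
      (NApx81.stalkLin_surjective_genericPoint s hN hL hs)
  obtain ⟨hpt, -⟩ := closed_points_of_generic_zero k X hdim (cokernel s) hcQ hξ
  haveI := Groth.Agent.Helper1.ZeroDimAcyc.subsingleton_HH X (cokernel s) hcQ hpt 1 one_pos
  have hex := NApx80.exact_f_g k (Groth.Agent.Helper1.Dev.cokSC s)
    (Groth.Agent.Helper1.Dev.cokSC_shortExact s) 1
  intro y
  exact (hex y).1 (Subsingleton.elim _ _)

/-- S11823 -/
theorem main11823 [IsIntegral X] [IsProper (X ↘ (Spec (CommRingCat.of k)))]
    (hdim : topologicalKrullDim X = 1) (L : X.Modules) (hL : PicF.IsInvertible L)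
    (h0 : Curv2.genus k X < Module.finrank k (Coh.HH X L 0)) :
    Subsingleton (Coh.HH X L 1) := by
  haveI := isNoetherian_of_proper k X
  by_contra hns
  rw [not_subsingleton_iff_nontrivial] at hns
  have hcO : Coh.IsCoh (Coh.structureModule X) :=
    Groth.Agent.Helper1.SerreFin.isCoh_of_isInvertible _ TensorInv.isInvertible_structureModule
  have hcL := Groth.Agent.Helper1.SerreFin.isCoh_of_isInvertible L hL
  haveI : Module.Finite k (Coh.HH X L 1) := Groth.Agent.S0002.result k X _ hcL 1
  haveI : Module.Finite k (Coh.HH X (Coh.structureModule X) 1) :=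
    Groth.Agent.S0002.result k X _ hcO 1
  haveI : Module.Finite k (Coh.structureModule X ⟶ L) := finite_hom k _ _ hcO hcL
  obtain ⟨v, hv⟩ := exists_ne (0 : Coh.HH X L 1)
  obtain ⟨φ, hφ⟩ : ∃ φ : Module.Dual k (Coh.HH X L 1), φ v ≠ 0 := by
    by_contra h
    push_neg at h
    exact hv ((Module.forall_dual_apply_eq_zero_iff k v).1 h)
  let Θ : (Coh.structureModule X ⟶ L) →ₗ[k] Module.Dual k (Coh.HH X (Coh.structureModule X) 1) :=
    { toFun := fun s => φ ∘ₗ Canon.HHlin k s 1
      map_add' := fun s s' => by rw [HHlin_add, LinearMap.comp_add]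
      map_smul' := fun a s => by rw [HHlin_smul, LinearMap.comp_smul]; rfl }
  have hΘ : Function.Injective Θ := by
    rw [← LinearMap.ker_eq_bot, LinearMap.ker_eq_bot']
    intro s hs0
    by_contra hs
    have hsurj := HHlin_one_surjective_of_ne_zero k hdim _ L
      TensorInv.isInvertible_structureModule hL s hs
    obtain ⟨w, hw⟩ := hsurj v
    apply hφ
    rw [← hw]
    have := LinearMap.congr_fun hs0 w
    exact this
  have h1 := LinearMap.finrank_le_finrank_of_injective hΘ
  rw [Subspace.dual_finrank_eq] at h1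
  have h2 := LinearMap.finrank_le_finrank_of_surjective (evalH0_surjective k L)
  unfold Curv2.genus at h0
  omega

end Groth.Agent.Helper4.SN
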