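import Mathlib
import Groth.Agent.Helper4.SN50
import Groth.Agent.Helper4.SN32
import Groth.Agent.Helper4.QAffSec
import Groth.Agent.Helper1.TwistExact

/-!
# Curves: `H¹(I_Z ⊗ L) ≠ 0` bounds the degree (S1531, S1532), without Serre duality
-/

set_option autoImplicit false
set_option linter.style.haveILetI false

namespace Groth.Agent.Helper4.SN

open CategoryTheory Limits AlgebraicGeometry Opposite TopologicalSpace
open Groth.Agent.Helper4.NApx82 Groth.Agent.Helper4.StalkDict Groth.Agent.Lead.Ref1B

universe u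

variable (k : Type u) [Field k] {X : Scheme.{u}} [X.Over (Spec (CommRingCat.of k))]

/-- a monomorphism of coherent modules on a proper integral curve which is surjective at the
generic point induces a surjection on `H¹` -/
theorem HHlin_one_surjective_of_generic_surj [IsIntegral X]
    [IsProper (X ↘ (Spec (CommRingCat.of k)))]
    (hdim : topologicalKrullDim X = 1) (N M : X.Modules) (hcN : Coh.IsCoh N)
    (hcM : Coh.IsCoh M) (s : N ⟶ M) [Mono s]
    (hsurj : Function.Surjective (stalkLin s (genericPoint X))) :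
    Function.Surjective (Canon.HHlin k s 1) := by
  haveI := isNoetherian_of_proper k X
  have hcQ : Coh.IsCoh (cokernel s) := Groth.Agent.Lead.PerfLib.isCoh_cokernel hcN hcM s
  have hξ : Subsingleton ((cokernel s).presheaf.stalk (genericPoint X)) :=
    Groth.Agent.Lead.StalkNhd.subsingleton_stalk_cokernel s _ hsurj
  obtain ⟨hpt, -⟩ := closed_points_of_generic_zero k X hdim (cokernel s) hcQ hξ
  haveI := Groth.Agent.Helper1.ZeroDimAcyc.subsingleton_HH X (cokernel s) hcQ hpt 1 one_pos
  have hex := NApx80.exact_f_g k (Groth.Agent.Helper1.Dev.cokSC s)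
    (Groth.Agent.Helper1.Dev.cokSC_shortExact s) 1
  intro y
  exact (hex y).1 (Subsingleton.elim _ _)

/-- if `H¹(M) ≠ 0` and every nonzero section of `M` is generically surjective, then
`h⁰(M) ≤ g` -/
theorem h0_le_genus_of_h1_nontrivial [IsIntegral X] [IsProper (X ↘ (Spec (CommRingCat.of k)))]
    (hdim : topologicalKrullDim X = 1) (M : X.Modules) (hcM : Coh.IsCoh M)
    (hgen : ∀ s : Coh.structureModule X ⟶ M, s ≠ 0 →
      Mono s ∧ Function.Surjective (stalkLin s (genericPoint X)))
    (h1 : Nontrivial (Coh.HH X M 1)) :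
    Module.finrank k (Coh.HH X M 0) ≤ Curv2.genus k X := by
  haveI := isNoetherian_of_proper k X
  have hcO : Coh.IsCoh (Coh.structureModule X) :=
    Groth.Agent.Helper1.SerreFin.isCoh_of_isInvertible _ TensorInv.isInvertible_structureModule
  haveI : Module.Finite k (Coh.HH X M 1) := Groth.Agent.S0002.result k X _ hcM 1
  haveI : Module.Finite k (Coh.HH X (Coh.structureModule X) 1) :=
    Groth.Agent.S0002.result k X _ hcO 1
  haveI : Module.Finite k (Coh.structureModule X ⟶ M) := finite_hom k _ _ hcO hcM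
  obtain ⟨v, hv⟩ := exists_ne (0 : Coh.HH X M 1)
  obtain ⟨φ, hφ⟩ : ∃ φ : Module.Dual k (Coh.HH X M 1), φ v ≠ 0 := by
    by_contra h
    push Not at h
    exact hv ((Module.forall_dual_apply_eq_zero_iff k v).1 h)
  let Θ : (Coh.structureModule X ⟶ M) →ₗ[k] Module.Dual k (Coh.HH X (Coh.structureModule X) 1) :=
    { toFun := fun s => φ ∘ₗ Canon.HHlin k s 1
      map_add' := fun s s' => by rw [HHlin_add, LinearMap.comp_add]
      map_smul' := fun a s => by rw [HHlin_smul, LinearMap.comp_smul]; rfl }
  have hΘ : Function.Injective Θ := by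
    rw [← LinearMap.ker_eq_bot, LinearMap.ker_eq_bot']
    intro s hs0
    by_contra hs
    obtain ⟨hm, hsj⟩ := hgen s hs
    haveI := hm
    have hsurj := HHlin_one_surjective_of_generic_surj k hdim _ M hcO hcM s hsj
    obtain ⟨w, hw⟩ := hsurj v
    apply hφ
    rw [← hw]
    have := LinearMap.congr_fun hs0 w
    exact this
  have h1 := LinearMap.finrank_le_finrank_of_injective hΘ
  rw [Subspace.dual_finrank_eq] at h1
  have h2 := LinearMap.finrank_le_finrank_of_surjective (evalH0_surjective k M)
  unfold Curv2.genus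
  omega

section Ideal

variable [IsIntegral X] [IsProper (X ↘ (Spec (CommRingCat.of k)))]

/-- the inclusion `I_Z ⊗ L → L` -/
noncomputable def idealTwistι (Z : X.IdealSheafData) (L : X.Modules) :
    CohB1.tensorMod (ClSub.idealMod Z) L ⟶ L :=
  (DCoh.tensorRightMod L).map (ClSub.idealModι Z) ≫ (unitorL L).hom

omit [IsIntegral X] in
theorem mono_idealTwistι (Z : X.IdealSheafData) (L : X.Modules) (hL : PicF.IsInvertible L) :
    Mono (idealTwistι Z L) := by
  have hS := Groth.Agent.Helper1.TwistExact.shortExact_map_tensorRightMod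
    (idealSC_shortExact Z) L hL
  have h1 : Mono ((DCoh.tensorRightMod L).map (ClSub.idealModι Z)) := hS.mono_f
  have h2 : Mono (unitorL L).hom := inferInstance
  exact @mono_comp _ _ _ _ _ _ h1 _ h2

omit [IsIntegral X] in
/-- the Euler characteristic of `I_Z ⊗ L` for `Z` of dimension zero -/
theorem chi_idealTwist (Z : X.IdealSheafData)
    (hZ : topologicalKrullDim (Z.support : Set X) ≤ 0)
    (L : X.Modules) (hL : PicF.IsInvertible L) :
    Curv2.euler k X (CohB1.tensorMod (ClSub.idealMod Z) L) =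
      Curv2.euler k X L - (Module.finrank k (Coh.HH X (ClSub.quotMod Z) 0) : ℤ) := by
  haveI := isNoetherian_of_proper k X
  have hcO : Coh.IsCoh (Coh.structureModule X) :=
    Groth.Agent.Helper1.SerreFin.isCoh_of_isInvertible _ TensorInv.isInvertible_structureModule
  have hcL := Groth.Agent.Helper1.SerreFin.isCoh_of_isInvertible L hL
  have hcQ : Coh.IsCoh (ClSub.quotMod Z) := isCoh_quotMod Z
  have hcI : Coh.IsCoh (ClSub.idealMod Z) :=
    Groth.Agent.Lead.PerfLib.isCoh_kernel hcO hcQ _
  have hS := Groth.Agent.Helper1.TwistExact.shortExact_map_tensorRightMod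
    (idealSC_shortExact Z) L hL
  have hadd := chi_add k _ hS (isCoh_tensorRight_obj L _ hcL hcI)
    (isCoh_tensorRight_obj L _ hcL hcO) (isCoh_tensorRight_obj L _ hcL hcQ)
  change chi k X (CohB1.tensorMod (Coh.structureModule X) L) =
    chi k X (CohB1.tensorMod (ClSub.idealMod Z) L) +
      chi k X (CohB1.tensorMod (ClSub.quotMod Z) L) at hadd
  have hsuppQ : topologicalKrullDim (CohB1.support (ClSub.quotMod Z)) ≤ 0 :=
    (topologicalKrullDim_mono (support_quotMod_subset Z)).trans hZ
  have h3 := main1558 k (ClSub.quotMod Z) hcQ hsuppQ 1 L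
    (Groth.Agent.Helper4.QAffSec.isFinLocFreeOfRank_one_of_isInvertible L hL)
  have hdimQ : DimLT (CohB1.support (ClSub.quotMod Z)) 1 := by
    apply dimLT_of_krullDim_lt
    refine lt_of_le_of_lt hsuppQ ?_
    exact_mod_cast Nat.lt_succ_self 0
  have h4 := chi_eq_h0_of_dimLT_one k _ hcQ hdimQ
  rw [chi_iso k (unitorL L)] at hadd
  unfold chi at hadd h4
  rw [h3, h4] at hadd
  push_cast at hadd
  linarith

/-- nonzero sections of `I_Z ⊗ L` are monomorphisms, generically surjective -/
theorem gen_idealTwist (Z : X.IdealSheafData) (L : X.Modules) (hL : PicF.IsInvertible L)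
    (s : Coh.structureModule X ⟶ CohB1.tensorMod (ClSub.idealMod Z) L) (hs : s ≠ 0) :
    Mono s ∧ Function.Surjective (stalkLin s (genericPoint X)) := by
  haveI := mono_idealTwistι Z L hL
  have hs' : s ≫ idealTwistι Z L ≠ 0 := by
    intro h
    apply hs
    rw [← cancel_mono (idealTwistι Z L), h, zero_comp]
  haveI : Mono (s ≫ idealTwistι Z L) :=
    NApx81.mono_of_ne_zero _ TensorInv.isInvertible_structureModule hL hs'
  have hsj := NApx81.stalkLin_surjective_genericPoint (s ≫ idealTwistι Z L)
    TensorInv.isInvertible_structureModule hL hs'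
  refine ⟨mono_of_mono s (idealTwistι Z L), ?_⟩
  intro m
  obtain ⟨a, ha⟩ := hsj (stalkLin (idealTwistι Z L) (genericPoint X) m)
  refine ⟨a, ?_⟩
  apply Groth.Agent.Helper4.StalkExact.stalkLin_injective (idealTwistι Z L) (genericPoint X)
  rw [← ha, Groth.Agent.Lead.StalkNhd.stalkLin_comp]

omit [IsIntegral X] in
include k in
theorem isCoh_idealTwist (Z : X.IdealSheafData) (L : X.Modules) (hL : PicF.IsInvertible L) :
    Coh.IsCoh (CohB1.tensorMod (ClSub.idealMod Z) L) := by
  haveI := isNoetherian_of_proper k X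
  have hcO : Coh.IsCoh (Coh.structureModule X) :=
    Groth.Agent.Helper1.SerreFin.isCoh_of_isInvertible _ TensorInv.isInvertible_structureModule
  have hcL := Groth.Agent.Helper1.SerreFin.isCoh_of_isInvertible L hL
  have hcQ : Coh.IsCoh (ClSub.quotMod Z) := isCoh_quotMod Z
  have hcI : Coh.IsCoh (ClSub.idealMod Z) :=
    Groth.Agent.Lead.PerfLib.isCoh_kernel hcO hcQ _
  exact isCoh_tensorMod _ _ hcI hcL

/-- S1531 -/
theorem main1531 (hdim : topologicalKrullDim X = 1)
    (h0 : Module.finrank k (Coh.HH X (Coh.structureModule X) 0) = 1)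
    (L : X.Modules) (hL : PicF.IsInvertible L) (Z : X.IdealSheafData)
    (hZ : topologicalKrullDim (Z.support : Set X) ≤ 0)
    (h1 : Nontrivial (Coh.HH X (CohB1.tensorMod (ClSub.idealMod Z) L) 1)) :
    Curv2.deg k X L 1 ≤ 2 * (Curv2.genus k X : ℤ) - 2 +
      Module.finrank k (Coh.HH X (ClSub.quotMod Z) 0) := by
  haveI := isNoetherian_of_proper k X
  have hcM := isCoh_idealTwist k Z L hL
  have hb := h0_le_genus_of_h1_nontrivial k hdim _ hcM (gen_idealTwist Z L hL) h1
  have hχ := chi_idealTwist k Z hZ L hL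
  have hM := chi_eq_h0_sub_h1 k hdim.le (CohB1.tensorMod (ClSub.idealMod Z) L)
  have hO := chi_eq_h0_sub_h1 k hdim.le (Coh.structureModule X)
  unfold chi at hM hO
  haveI : Module.Finite k (Coh.HH X (CohB1.tensorMod (ClSub.idealMod Z) L) 1) :=
    Groth.Agent.S0002.result k X _ hcM 1
  have hpos : 0 < Module.finrank k (Coh.HH X (CohB1.tensorMod (ClSub.idealMod Z) L) 1) :=
    Module.finrank_pos
  unfold Curv2.deg
  unfold Curv2.genus at hb ⊢
  rw [hO, h0]
  rw [hM] at hχ
  push_cast
  omega

/-- S1532 -/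
theorem main1532 (hdim : topologicalKrullDim X = 1)
    (h0 : Module.finrank k (Coh.HH X (Coh.structureModule X) 0) = 1)
    (L : X.Modules) (hL : PicF.IsInvertible L) (Z : X.IdealSheafData)
    (hZ : topologicalKrullDim (Z.support : Set X) ≤ 0)
    (hdeg : 2 * (Curv2.genus k X : ℤ) - 2 +
      Module.finrank k (Coh.HH X (ClSub.quotMod Z) 0) < Curv2.deg k X L 1) :
    Subsingleton (Coh.HH X (CohB1.tensorMod (ClSub.idealMod Z) L) 1) ∧
      (Subsingleton (Coh.HH X (CohB1.tensorMod (ClSub.idealMod Z) L) 0) →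
        Curv2.genus k X = 0 ∧ Curv2.deg k X L 1 =
          Module.finrank k (Coh.HH X (ClSub.quotMod Z) 0) - 1) := by
  haveI := isNoetherian_of_proper k X
  have hsub : Subsingleton (Coh.HH X (CohB1.tensorMod (ClSub.idealMod Z) L) 1) := by
    by_contra hns
    rw [not_subsingleton_iff_nontrivial] at hns
    have := main1531 k hdim h0 L hL Z hZ hns
    omega
  refine ⟨hsub, fun hsub0 => ?_⟩
  have hχ := chi_idealTwist k Z hZ L hL
  have hM := chi_eq_h0_sub_h1 k hdim.le (CohB1.tensorMod (ClSub.idealMod Z) L)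
  have hO := chi_eq_h0_sub_h1 k hdim.le (Coh.structureModule X)
  unfold chi at hM hO
  rw [hM, Module.finrank_zero_of_subsingleton, Module.finrank_zero_of_subsingleton] at hχ
  unfold Curv2.deg at hdeg ⊢
  unfold Curv2.genus at hdeg ⊢
  rw [hO, h0] at hdeg ⊢
  push_cast at hdeg hχ ⊢
  constructor <;> omega

end Ideal

end Groth.Agent.Helper4.SN
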