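import Mathlib
import Groth.Agent.Helper4.SN51
import Groth.Agent.Helper4.QcohLimits
import Groth.Agent.Helper2.CohQ1
import Groth.Agent.Lead.GlobGen

/-!
# Curves: invertible modules of degree `≥ 2g` are globally generated (S1533), SD-free
-/

set_option autoImplicit false
set_option linter.style.haveILetI false

namespace Groth.Agent.Helper4.SN

open CategoryTheory Limits AlgebraicGeometry Opposite TopologicalSpace
open Groth.Agent.Helper4.NApx82 Groth.Agent.Helper4.StalkDict Groth.Agent.Lead.Ref1B

universe u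

variable (k : Type u) [Field k] {X : Scheme.{u}} [X.Over (Spec (CommRingCat.of k))]

theorem evalH0_injective (L : X.Modules) : Function.Injective (evalH0 k L) := by
  intro s s' h
  apply Groth.Agent.Helper4.AmpleLocal.unit_hom_ext
  exact (Groth.Agent.Lead.ProperFinA.h0Equiv L).symm.injective h

/-- `h⁰(M)` is the dimension of `Hom(O, M)` -/
theorem finrank_hom_unit (M : X.Modules) :
    Module.finrank k (Coh.structureModule X ⟶ M) = Module.finrank k (Coh.HH X M 0) :=
  (LinearEquiv.ofBijective (evalH0 k M) ⟨evalH0_injective k M, evalH0_surjective k M⟩).finrank_eq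

/-- every morphism `O ⟶ L` factors through the canonical map from the free module on the global
sections -/
theorem exists_fac_canFree (L : X.Modules) (s : Coh.structureModule X ⟶ L) :
    ∃ s₀ : Coh.structureModule X ⟶ (SheafOfModules.free Γ(L, ⊤) : X.Modules),
      s = s₀ ≫ Groth.Agent.Lead.GlobGen.canFree L := by
  obtain ⟨x, hx⟩ := Groth.Agent.Lead.GlobGen.canFree_surj L
    (s.app ⊤ (Groth.Agent.Helper4.GenLoc.one X ⊤))
  refine ⟨Groth.Agent.Lead.IdealModDict.ofSection _ x, ?_⟩
  apply Groth.Agent.Helper4.AmpleLocal.unit_hom_ext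
  rw [← hx]
  change _ = Scheme.Modules.Hom.app (Groth.Agent.Lead.GlobGen.canFree L) ⊤
    ((Groth.Agent.Lead.IdealModDict.ofSection _ x).app ⊤ (Groth.Agent.Helper4.GenLoc.one X ⊤))
  congr 1
  let F : X.Modules := SheafOfModules.free Γ(L, ⊤)
  have h1 := Groth.Agent.Lead.IdealModDict.ofSection_app F x ⊤ 1
  have h2 : F.presheaf.map (homOfLE (le_top : (⊤ : X.Opens) ≤ ⊤)).op x = x := by
    have : (homOfLE (le_top : (⊤ : X.Opens) ≤ ⊤)) = 𝟙 _ := Subsingleton.elim _ _
    rw [this, op_id, F.presheaf.map_id]
    rfl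
  rw [h2, one_smul] at h1
  exact h1.symm

section Curve

variable [IsIntegral X] [IsProper (X ↘ (Spec (CommRingCat.of k)))]

/-- nonzero sections of a submodule of an invertible module are monomorphisms, generically
surjective -/
theorem gen_of_mono_invertible {M L : X.Modules} (hL : PicF.IsInvertible L) (ι : M ⟶ L) [Mono ι]
    (s : Coh.structureModule X ⟶ M) (hs : s ≠ 0) :
    Mono s ∧ Function.Surjective (stalkLin s (genericPoint X)) := by
  have hs' : s ≫ ι ≠ 0 := by
    intro h
    apply hs
    rw [← cancel_mono ι, h, zero_comp]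
  haveI : Mono (s ≫ ι) :=
    NApx81.mono_of_ne_zero _ TensorInv.isInvertible_structureModule hL hs'
  have hsj := NApx81.stalkLin_surjective_genericPoint (s ≫ ι)
    TensorInv.isInvertible_structureModule hL hs'
  refine ⟨mono_of_mono s ι, ?_⟩
  intro m
  obtain ⟨a, ha⟩ := hsj (stalkLin ι (genericPoint X) m)
  refine ⟨a, ?_⟩
  apply Groth.Agent.Helper4.StalkExact.stalkLin_injective ι (genericPoint X)
  rw [← ha, Groth.Agent.Lead.StalkNhd.stalkLin_comp]

/-- S1533 -/
theorem main1533 (hdim : topologicalKrullDim X = 1)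
    (h0 : Module.finrank k (Coh.HH X (Coh.structureModule X) 0) = 1)
    (L : X.Modules) (hL : PicF.IsInvertible L)
    (hdeg : 2 * (Curv2.genus k X : ℤ) ≤ Curv2.deg k X L 1) :
    Curv2.IsGloballyGenerated L := by
  haveI := isNoetherian_of_proper k X
  have hcO : Coh.IsCoh (Coh.structureModule X) :=
    Groth.Agent.Helper1.SerreFin.isCoh_of_isInvertible _ TensorInv.isInvertible_structureModule
  have hcL := Groth.Agent.Helper1.SerreFin.isCoh_of_isInvertible L hL
  haveI : L.IsQuasicoherent := hcL.1
  let F : X.Modules := SheafOfModules.free Γ(L, ⊤)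
  let c : F ⟶ L := Groth.Agent.Lead.GlobGen.canFree L
  by_contra hgg
  have hnepi : ¬ Epi c := fun h => hgg ⟨_, c, h⟩
  haveI : F.IsQuasicoherent := Groth.Agent.Lead.GlobGen.isQuasicoherent_free _
  -- the image of the canonical map
  let L' : X.Modules := Abelian.image c
  let ι : L' ⟶ L := Abelian.image.ι c
  let π : F ⟶ L' := Abelian.factorThruImage c
  have hfac : π ≫ ι = c := Abelian.image.fac c
  haveI hmι : Mono ι := inferInstanceAs (Mono (Abelian.image.ι c))
  haveI heπ : Epi π := inferInstanceAs (Epi (Abelian.factorThruImage c))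
  haveI : L'.IsQuasicoherent := Groth.Agent.Helper4.QcohLimits.isQuasicoherent_image c
  have hcL' : Coh.IsCoh L' := Groth.Agent.Helper2.CohQ1.isCoh_of_mono ι ‹L'.IsQuasicoherent› hcL
  have hcT : Coh.IsCoh (cokernel ι) := Groth.Agent.Lead.PerfLib.isCoh_cokernel hcL' hcL ι
  -- Euler characteristics
  have hL1 := chi_eq_h0_sub_h1 k hdim.le L
  have hL'1 := chi_eq_h0_sub_h1 k hdim.le L'
  have hO := chi_eq_h0_sub_h1 k hdim.le (Coh.structureModule X)
  unfold chi at hL1 hL'1 hO
  have hh0 : (Curv2.genus k X : ℤ) + 1 ≤ (Module.finrank k (Coh.HH X L 0) : ℤ) := by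
    unfold Curv2.deg at hdeg
    unfold Curv2.genus at hdeg ⊢
    rw [hO, h0, hL1] at hdeg
    push_cast at hdeg
    have : (0 : ℤ) ≤ (Module.finrank k (Coh.HH X L 1) : ℤ) := Int.natCast_nonneg _
    linarith
  -- every section of `L` factors through `L'`
  have hfacs : ∀ s : Coh.structureModule X ⟶ L, ∃ s' : Coh.structureModule X ⟶ L', s = s' ≫ ι := by
    intro s
    obtain ⟨s₀, hs₀⟩ := exists_fac_canFree L s
    exact ⟨s₀ ≫ π, hs₀.trans ((congrArg (fun z => s₀ ≫ z) hfac.symm).trans
      (Category.assoc s₀ π ι).symm)⟩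
  -- `h⁰(L') = h⁰(L)`
  have heq : Module.finrank k (Coh.HH X L' 0) = Module.finrank k (Coh.HH X L 0) := by
    rw [← finrank_hom_unit, ← finrank_hom_unit]
    let Φ : (Coh.structureModule X ⟶ L') →ₗ[k] (Coh.structureModule X ⟶ L) :=
      { toFun := fun s' => s' ≫ ι
        map_add' := fun a b => Preadditive.add_comp _ _ _ _ _ _
        map_smul' := fun a s' => Linear.smul_comp _ _ _ a s' ι }
    have hΦ : Function.Bijective Φ := by
      constructor
      · intro a b hab
        exact (cancel_mono ι).1 hab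
      · intro s
        obtain ⟨s', hs'⟩ := hfacs s
        exact ⟨s', hs'.symm⟩
    exact (LinearEquiv.ofBijective Φ hΦ).finrank_eq
  -- a nonzero section
  have hnt : Nontrivial (Coh.HH X L 0) := by
    haveI : Module.Finite k (Coh.HH X L 0) := Groth.Agent.S0002.result k X _ hcL 0
    apply Module.nontrivial_of_finrank_pos (R := k)
    have : (0 : ℤ) ≤ (Curv2.genus k X : ℤ) := Int.natCast_nonneg _
    omega
  obtain ⟨s, hs⟩ := exists_section_of_nontrivial_H0 L hnt
  obtain ⟨s', hs'⟩ := hfacs s
  -- `ι` is generically surjective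
  have hιsurj : Function.Surjective (stalkLin ι (genericPoint X)) := by
    have hsj := NApx81.stalkLin_surjective_genericPoint s
      TensorInv.isInvertible_structureModule hL hs
    intro m
    obtain ⟨a, ha⟩ := hsj m
    refine ⟨stalkLin s' (genericPoint X) a, ?_⟩
    rw [← Groth.Agent.Lead.StalkNhd.stalkLin_comp, ← hs']
    exact ha
  have hξ : Subsingleton ((cokernel ι).presheaf.stalk (genericPoint X)) :=
    Groth.Agent.Lead.StalkNhd.subsingleton_stalk_cokernel ι _ hιsurj
  obtain ⟨hpt, hdisc⟩ := closed_points_of_generic_zero k X hdim (cokernel ι) hcT hξ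
  -- the cokernel is nonzero, hence has a nonzero global section
  have hT0 : 0 < Module.finrank k (Coh.HH X (cokernel ι) 0) := by
    haveI : Module.Finite k (Coh.HH X (cokernel ι) 0) := Groth.Agent.S0002.result k X _ hcT 0
    by_contra hcon
    have h0' : Module.finrank k (Coh.HH X (cokernel ι) 0) = 0 := by omega
    have hsub : Subsingleton (Coh.HH X (cokernel ι) 0) := Module.finrank_zero_iff.1 h0'
    have hΓ : Subsingleton Γ(cokernel ι, ⊤) :=
      (Groth.Agent.Lead.ProperFinA.h0Equiv (cokernel ι)).symm.injective.subsingleton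
    have hcl : IsClosed (CohB1.support (cokernel ι)) := Groth.Agent.S0020.result X _ hcT.2
    haveI := hdisc
    have hepi := Groth.Agent.Lead.ZeroDimGG.epi_canFree_of_discrete_support (cokernel ι) hcl
    have hz : IsZero (cokernel ι) :=
      isZero_of_epi_free (cokernel ι) hΓ (Groth.Agent.Lead.GlobGen.canFree (cokernel ι)) hepi
    haveI : Epi ι := Preadditive.epi_of_isZero_cokernel ι hz
    apply hnepi
    have : c = π ≫ ι := hfac.symm
    rw [this]
    exact epi_comp π ι
  have hχT := euler_eq_finrank_h0 k X (cokernel ι) hcT hpt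
  have hadd := NApx80.euler_additive k X (Groth.Agent.Helper1.Dev.cokSC ι)
    (Groth.Agent.Helper1.Dev.cokSC_shortExact ι) hcL' hcL hcT
  change Curv2.euler k X L = Curv2.euler k X L' + Curv2.euler k X (cokernel ι) at hadd
  rw [hχT, hL1, hL'1, heq] at hadd
  -- `H¹(L')` is nonzero
  have h1pos : 0 < Module.finrank k (Coh.HH X L' 1) := by
    have : (0 : ℤ) ≤ (Module.finrank k (Coh.HH X L 1) : ℤ) := Int.natCast_nonneg _
    omega
  have hnt1 : Nontrivial (Coh.HH X L' 1) := Module.nontrivial_of_finrank_pos (R := k) h1pos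
  have hb := h0_le_genus_of_h1_nontrivial k hdim L' hcL'
    (fun t ht => gen_of_mono_invertible hL ι t ht) hnt1
  rw [heq] at hb
  omega

end Curve

end Groth.Agent.Helper4.SN
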