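import Mathlib
import Groth.Agent.Helper4.SN52

/-!
# Curves over an algebraically closed field: `h⁰(O) = 1`, and `deg L ≥ 2g - 1 ⇒ H¹(L) = 0`
-/

set_option autoImplicit false
set_option linter.style.haveILetI false

namespace Groth.Agent.Helper4.SN

open CategoryTheory Limits AlgebraicGeometry Opposite TopologicalSpace
open Groth.Agent.Helper4.NApx82 Groth.Agent.Helper4.StalkDict Groth.Agent.Lead.Ref1B

universe u

variable (k : Type u) [Field k] {X : Scheme.{u}} [X.Over (Spec (CommRingCat.of k))]

/-- on an integral proper scheme over an algebraically closed field, `h⁰(O) = 1` -/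
theorem finrank_h0_unit_of_isAlgClosed [IsAlgClosed k] [IsIntegral X]
    [IsProper (X ↘ (Spec (CommRingCat.of k)))] :
    Module.finrank k (Coh.HH X (Coh.structureModule X) 0) = 1 := by
  haveI := isNoetherian_of_proper k X
  have hcO : Coh.IsCoh (Coh.structureModule X) :=
    Groth.Agent.Helper1.SerreFin.isCoh_of_isInvertible _ TensorInv.isInvertible_structureModule
  letI : Algebra k Γ(X, ⊤) := (Coh.toGlobal (X ↘ Spec (CommRingCat.of k))).toAlgebra
  haveI : Module.Finite k (Coh.HH X (Coh.structureModule X) 0) :=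
    Groth.Agent.S0002.result k X _ hcO 0
  let e : Coh.HH X (Coh.structureModule X) 0 ≃ₗ[k] Γ(X, ⊤) :=
    { (Groth.Agent.Lead.ProperFinA.h0Equiv (Coh.structureModule X)) with
      map_smul' := by
        intro a x
        change Groth.Agent.Lead.ProperFinA.h0Equiv (Coh.structureModule X)
          (Coh.toGlobal (X ↘ Spec (CommRingCat.of k)) a • x) = _
        rw [Groth.Agent.Lead.ProperFinA.h0Equiv_smul]
        rfl }
  haveI : Module.Finite k Γ(X, ⊤) := Module.Finite.equiv e
  haveI : Algebra.IsIntegral k Γ(X, ⊤) := Algebra.IsIntegral.of_finite k _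
  haveI : IsDomain Γ(X, ⊤) := inferInstance
  have hbij := IsAlgClosed.algebraMap_bijective_of_isIntegral (k := k) (K := Γ(X, ⊤))
  rw [e.finrank_eq]
  exact (LinearEquiv.ofBijective (Algebra.linearMap k Γ(X, ⊤)) hbij).finrank_eq.symm.trans
    (Module.finrank_self k)

/-- S1522 -/
theorem main1522 [IsAlgClosed k] [IsIntegral X] [IsProper (X ↘ (Spec (CommRingCat.of k)))]
    (hdim : topologicalKrullDim X = 1) (L : X.Modules) (hL : PicF.IsInvertible L)
    (hdeg : 2 * (Curv2.genus k X : ℤ) - 1 ≤ Curv2.deg k X L 1) :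
    Subsingleton (Coh.HH X L 1) := by
  haveI := isNoetherian_of_proper k X
  by_contra hns
  rw [not_subsingleton_iff_nontrivial] at hns
  have hcL := Groth.Agent.Helper1.SerreFin.isCoh_of_isInvertible L hL
  haveI : Module.Finite k (Coh.HH X L 1) := Groth.Agent.S0002.result k X _ hcL 1
  have hpos : 0 < Module.finrank k (Coh.HH X L 1) := Module.finrank_pos
  have h0 := finrank_h0_unit_of_isAlgClosed k (X := X)
  have hL1 := chi_eq_h0_sub_h1 k hdim.le L
  have hO := chi_eq_h0_sub_h1 k hdim.le (Coh.structureModule X)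
  unfold chi at hL1 hO
  apply not_nontrivial_iff_subsingleton.2 (main11823 k hdim L hL ?_) hns
  unfold Curv2.deg at hdeg
  unfold Curv2.genus at hdeg ⊢
  rw [hO, h0, hL1] at hdeg
  push_cast at hdeg
  omega

end Groth.Agent.Helper4.SN
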