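import Mathlib

/-!
# The Hopf lemma on nondegenerate bilinear maps over an algebraically closed field

If `φ : U × V → W` is bilinear with `φ u v = 0 → u = 0 ∨ v = 0`, `U, V ≠ 0`, then
`dim U + dim V ≤ dim W + 1`.  Proof via Krull's height theorem in the coordinate ring of the
Segre cone `k[x_i y_j] ⊆ k[x, y]`.
-/

open MvPolynomial

namespace Groth.Agent.Helper4.SN

section Hopf

variable (k : Type*) [Field k] (m n : ℕ)

/-- the monomials `x_i y_j`. -/
noncomputable def hzz (p : Fin (m+1) × Fin (n+1)) : MvPolynomial (Fin (m+1) ⊕ Fin (n+1)) k :=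
  X (Sum.inl p.1) * X (Sum.inr p.2)

/-- the coordinate ring of the Segre cone. -/
noncomputable def HR : Subalgebra k (MvPolynomial (Fin (m+1) ⊕ Fin (n+1)) k) :=
  Algebra.adjoin k (Set.range (hzz k m n))

noncomputable def hz (p : Fin (m+1) × Fin (n+1)) : HR k m n :=
  ⟨hzz k m n p, Algebra.subset_adjoin ⟨p, rfl⟩⟩

open Classical in
noncomputable def hkill (S : Set (Fin (m+1) ⊕ Fin (n+1))) :
    MvPolynomial (Fin (m+1) ⊕ Fin (n+1)) k →ₐ[k] MvPolynomial (Fin (m+1) ⊕ Fin (n+1)) k :=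
  aeval (fun t => if t ∈ S then 0 else X t)

open Classical in
lemma hkill_X (S : Set (Fin (m+1) ⊕ Fin (n+1))) (t) :
    hkill k m n S (X t) = if t ∈ S then 0 else X t := by
  simp [hkill]

lemma hkill_comp {S T : Set (Fin (m+1) ⊕ Fin (n+1))} (h : S ⊆ T) (p) :
    hkill k m n T (hkill k m n S p) = hkill k m n T p := by
  have : (hkill k m n T).comp (hkill k m n S) = hkill k m n T := by
    apply MvPolynomial.algHom_ext
    intro t
    classical
    simp only [AlgHom.comp_apply, hkill_X]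
    by_cases hS : t ∈ S
    · simp [hS, h hS]
    · simp [hS, hkill_X]
  exact congrArg (fun f => f p) this

/-- the contracted primes -/
noncomputable def hq (S : Set (Fin (m+1) ⊕ Fin (n+1))) : Ideal (HR k m n) :=
  RingHom.ker ((hkill k m n S).comp (HR k m n).val)

lemma mem_hq (S : Set (Fin (m+1) ⊕ Fin (n+1))) (r : HR k m n) :
    r ∈ hq k m n S ↔ hkill k m n S r.1 = 0 := by
  simp [hq, RingHom.mem_ker]

instance hq_isPrime (S : Set (Fin (m+1) ⊕ Fin (n+1))) : (hq k m n S).IsPrime := by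
  unfold hq
  exact RingHom.ker_isPrime _

lemma hz_mem_hq (S : Set (Fin (m+1) ⊕ Fin (n+1))) (i : Fin (m+1)) (j : Fin (n+1)) :
    hz k m n (i, j) ∈ hq k m n S ↔ (Sum.inl i ∈ S ∨ Sum.inr j ∈ S) := by
  classical
  rw [mem_hq]
  show hkill k m n S (X (Sum.inl i) * X (Sum.inr j)) = 0 ↔ _
  rw [map_mul, hkill_X, hkill_X, mul_eq_zero]
  constructor
  · rintro (h | h)
    · left
      by_contra hc
      rw [if_neg hc] at h
      exact X_ne_zero _ h
    · right
      by_contra hc
      rw [if_neg hc] at h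
      exact X_ne_zero _ h
  · rintro (h | h)
    · left; rw [if_pos h]
    · right; rw [if_pos h]

lemma hq_mono {S T : Set (Fin (m+1) ⊕ Fin (n+1))} (h : S ⊆ T) : hq k m n S ≤ hq k m n T := by
  intro r hr
  rw [mem_hq] at hr ⊢
  rw [← hkill_comp k m n h, hr, map_zero]

/-- the rank function ordering the variables `x_0, …, x_{m-1}, y_0, …, y_n` (omitting `x_m`). -/
def hrho : Fin (m+1) ⊕ Fin (n+1) → ℕ
  | Sum.inl i => if i.val = m then m + n + 2 else i.val
  | Sum.inr j => m + j.val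

def hS (t : ℕ) : Set (Fin (m+1) ⊕ Fin (n+1)) := {s | hrho m n s < t}

lemma hS_mono {s t : ℕ} (h : s ≤ t) : hS m n s ⊆ hS m n t := fun _ hx => lt_of_lt_of_le hx h

lemma hq_lt (t : ℕ) (ht : t ≤ m + n) : hq k m n (hS m n t) < hq k m n (hS m n (t+1)) := by
  refine lt_of_le_of_ne (hq_mono k m n (hS_mono m n (Nat.le_succ t))) ?_
  intro heq
  by_cases htm : t < m
  · have h1 : hz k m n (⟨t, by omega⟩, Fin.last n) ∈ hq k m n (hS m n (t+1)) := by
      rw [hz_mem_hq]
      left
      show hrho m n (Sum.inl ⟨t, _⟩) < t + 1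
      simp only [hrho]
      rw [if_neg (by omega)]
      omega
    rw [← heq, hz_mem_hq] at h1
    rcases h1 with h1 | h1
    · have : hrho m n (Sum.inl ⟨t, by omega⟩) < t := h1
      simp only [hrho] at this
      rw [if_neg (by omega)] at this
      omega
    · have : hrho m n (Sum.inr (Fin.last n)) < t := h1
      simp only [hrho, Fin.val_last] at this
      omega
  · have h1 : hz k m n (Fin.last m, ⟨t - m, by omega⟩) ∈ hq k m n (hS m n (t+1)) := by
      rw [hz_mem_hq]
      right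
      show hrho m n (Sum.inr ⟨t - m, _⟩) < t + 1
      simp only [hrho]
      omega
    rw [← heq, hz_mem_hq] at h1
    rcases h1 with h1 | h1
    · have : hrho m n (Sum.inl (Fin.last m)) < t := h1
      simp only [hrho, Fin.val_last, if_true] at this
      omega
    · have : hrho m n (Sum.inr ⟨t - m, by omega⟩) < t := h1
      simp only [hrho] at this
      omega

lemma le_height_hq (t : ℕ) (ht : t ≤ m + n + 1) : (t : ℕ∞) ≤ (hq k m n (hS m n t)).height := by
  induction t with
  | zero => simp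
  | succ t ih =>
    have h1 := ih (by omega)
    have h2 := Ideal.height_add_one_le_of_lt_of_isPrime (hq_lt k m n t (by omega))
    calc ((t + 1 : ℕ) : ℕ∞) = (t : ℕ∞) + 1 := by push_cast; rfl
      _ ≤ (hq k m n (hS m n t)).height + 1 := by gcongr
      _ ≤ _ := h2

/-- the irrelevant ideal -/
noncomputable def hM : Ideal (HR k m n) := Ideal.span (Set.range (hz k m n))

lemma exists_sub_mem_hM (r : HR k m n) : ∃ c : k, r - algebraMap k (HR k m n) c ∈ hM k m n := by
  obtain ⟨x, hx⟩ := r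
  induction hx using Algebra.adjoin_induction with
  | mem x hx =>
    obtain ⟨p, rfl⟩ := hx
    refine ⟨0, ?_⟩
    rw [map_zero, sub_zero]
    exact Ideal.subset_span ⟨p, rfl⟩
  | algebraMap c =>
    refine ⟨c, ?_⟩
    have : (⟨algebraMap k _ c, Subalgebra.algebraMap_mem _ c⟩ : HR k m n) = algebraMap k (HR k m n) c := rfl
    rw [this, sub_self]
    exact Ideal.zero_mem _
  | add x y hx hy ihx ihy =>
    obtain ⟨c₁, h₁⟩ := ihx
    obtain ⟨c₂, h₂⟩ := ihy
    refine ⟨c₁ + c₂, ?_⟩
    have : (⟨x + y, add_mem hx hy⟩ : HR k m n) - algebraMap k (HR k m n) (c₁ + c₂) =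
        ((⟨x, hx⟩ : HR k m n) - algebraMap k (HR k m n) c₁) +
          ((⟨y, hy⟩ : HR k m n) - algebraMap k (HR k m n) c₂) := by
      rw [map_add]
      apply Subtype.ext
      simp only [Subalgebra.coe_sub, Subalgebra.coe_add]
      ring
    rw [this]
    exact Ideal.add_mem _ h₁ h₂
  | mul x y hx hy ihx ihy =>
    obtain ⟨c₁, h₁⟩ := ihx
    obtain ⟨c₂, h₂⟩ := ihy
    refine ⟨c₁ * c₂, ?_⟩
    have : (⟨x * y, mul_mem hx hy⟩ : HR k m n) - algebraMap k (HR k m n) (c₁ * c₂) =
        ((⟨x, hx⟩ : HR k m n) - algebraMap k (HR k m n) c₁) * (⟨y, hy⟩ : HR k m n) +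
          algebraMap k (HR k m n) c₁ * ((⟨y, hy⟩ : HR k m n) - algebraMap k (HR k m n) c₂) := by
      rw [map_mul]
      apply Subtype.ext
      simp only [Subalgebra.coe_sub, Subalgebra.coe_add, Subalgebra.coe_mul]
      ring
    rw [this]
    exact Ideal.add_mem _ (Ideal.mul_mem_right _ _ h₁) (Ideal.mul_mem_left _ _ h₂)

lemma hM_le_hq_top : hM k m n ≤ hq k m n (hS m n (m + n + 1)) := by
  unfold hM
  rw [Ideal.span_le]
  rintro _ ⟨⟨i, j⟩, rfl⟩
  show hz k m n (i, j) ∈ hq k m n _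
  rw [hz_mem_hq]
  right
  show hrho m n (Sum.inr j) < m + n + 1
  simp only [hrho]
  have := j.2
  omega

lemma hq_top_eq_hM : hq k m n (hS m n (m + n + 1)) = hM k m n := by
  apply le_antisymm _ (hM_le_hq_top k m n)
  intro r hr
  obtain ⟨c, hc⟩ := exists_sub_mem_hM k m n r
  have h1 : algebraMap k (HR k m n) c ∈ hq k m n (hS m n (m + n + 1)) := by
    have := Ideal.sub_mem _ hr (hM_le_hq_top k m n hc)
    simpa using this
  have hc0 : c = 0 := by
    rw [mem_hq] at h1
    have : ((algebraMap k (HR k m n) c : HR k m n) : MvPolynomial (Fin (m+1) ⊕ Fin (n+1)) k) =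
        algebraMap k _ c := rfl
    rw [this, AlgHom.commutes] at h1
    exact (map_eq_zero_iff _ (algebraMap k (MvPolynomial (Fin (m+1) ⊕ Fin (n+1)) k)).injective).1 h1
  rw [hc0, map_zero, sub_zero] at hc
  exact hc

instance hM_isPrime : (hM k m n).IsPrime := by
  rw [← hq_top_eq_hM]; infer_instance

lemma le_height_hM : ((m + n + 1 : ℕ) : ℕ∞) ≤ (hM k m n).height := by
  rw [← hq_top_eq_hM]
  exact le_height_hq k m n (m + n + 1) le_rfl

instance : Algebra.FiniteType k (HR k m n) := by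
  have : (HR k m n).FG := by
    unfold HR
    have hfin : (Set.range (hzz k m n)).Finite := Set.finite_range _
    rw [← hfin.coe_toFinset]
    exact Subalgebra.fg_adjoin_finset _
  exact (Subalgebra.fg_iff_finiteType _).1 this

instance : IsNoetherianRing (HR k m n) := Algebra.FiniteType.isNoetherianRing k _

instance : IsJacobsonRing (HR k m n) := isJacobsonRing_of_finiteType (A := k)

lemma hz_rel (i l : Fin (m+1)) (j q : Fin (n+1)) :
    hz k m n (i, j) * hz k m n (l, q) = hz k m n (i, q) * hz k m n (l, j) := by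
  apply Subtype.ext
  show hzz k m n (i, j) * hzz k m n (l, q) = hzz k m n (i, q) * hzz k m n (l, j)
  simp only [hzz]
  ring

variable [IsAlgClosed k]

/-- every maximal ideal of `HR` is the kernel of a `k`-point. -/
lemma exists_point (𝔫 : Ideal (HR k m n)) [h𝔫 : 𝔫.IsMaximal] :
    ∃ ψ : HR k m n →ₐ[k] k, ∀ r, ψ r = 0 ↔ r ∈ 𝔫 := by
  letI : Field (HR k m n ⧸ 𝔫) := Ideal.Quotient.field 𝔫
  haveI : Algebra.FiniteType k (HR k m n ⧸ 𝔫) :=
    Algebra.FiniteType.of_surjective (Ideal.Quotient.mkₐ k 𝔫) (Ideal.Quotient.mkₐ_surjective k 𝔫)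
  haveI : Module.Finite k (HR k m n ⧸ 𝔫) := finite_of_finite_type_of_isJacobsonRing k _
  haveI : Algebra.IsIntegral k (HR k m n ⧸ 𝔫) := Algebra.IsIntegral.of_finite k _
  have hbij : Function.Bijective (algebraMap k (HR k m n ⧸ 𝔫)) :=
    IsAlgClosed.algebraMap_bijective_of_isIntegral
  let e : k ≃ₐ[k] (HR k m n ⧸ 𝔫) := AlgEquiv.ofBijective (Algebra.ofId k _) hbij
  refine ⟨(e.symm.toAlgHom).comp (Ideal.Quotient.mkₐ k 𝔫), fun r => ?_⟩
  show e.symm (Ideal.Quotient.mk 𝔫 r) = 0 ↔ _
  rw [EmbeddingLike.map_eq_zero_iff]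
  exact Ideal.Quotient.eq_zero_iff_mem

variable {c : ℕ} (γ : Fin c → Fin (m+1) → Fin (n+1) → k)

/-- the linear forms -/
noncomputable def hl (κ : Fin c) : HR k m n := ∑ i, ∑ j, γ κ i j • hz k m n (i, j)

omit [IsAlgClosed k] in
lemma hl_mem_hM (κ : Fin c) : hl k m n γ κ ∈ hM k m n := by
  unfold hl
  refine Ideal.sum_mem _ fun i _ => Ideal.sum_mem _ fun j _ => ?_
  rw [Algebra.smul_def]
  exact Ideal.mul_mem_left _ _ (Ideal.subset_span ⟨(i, j), rfl⟩)

lemma hz_mem_of_maximal
    (hγ : ∀ (u : Fin (m+1) → k) (v : Fin (n+1) → k),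
      (∀ κ, ∑ i, ∑ j, γ κ i j * u i * v j = 0) → u = 0 ∨ v = 0)
    (𝔫 : Ideal (HR k m n)) [h𝔫 : 𝔫.IsMaximal]
    (hJ : Ideal.span (Set.range (hl k m n γ)) ≤ 𝔫) (p : Fin (m+1) × Fin (n+1)) :
    hz k m n p ∈ 𝔫 := by
  obtain ⟨ψ, hψ⟩ := exists_point k m n 𝔫
  obtain ⟨i₀, j₀⟩ := p
  by_contra hne
  have hμ0 : ψ (hz k m n (i₀, j₀)) ≠ 0 := fun h => hne ((hψ _).1 h)
  set μ : Fin (m+1) → Fin (n+1) → k := fun i j => ψ (hz k m n (i, j)) with hμ
  have hrel : ∀ i l j q, μ i j * μ l q = μ i q * μ l j := by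
    intro i l j q
    simp only [hμ, ← map_mul, hz_rel k m n i l j q]
  let u : Fin (m+1) → k := fun i => μ i j₀
  let v : Fin (n+1) → k := fun j => μ i₀ j / μ i₀ j₀
  have huv : ∀ i j, u i * v j = μ i j := by
    intro i j
    show μ i j₀ * (μ i₀ j / μ i₀ j₀) = μ i j
    rw [← mul_div_assoc, hrel i i₀ j₀ j, mul_div_assoc, div_self hμ0, mul_one]
  have hzero : ∀ κ, ∑ i, ∑ j, γ κ i j * u i * v j = 0 := by
    intro κ
    have h1 : ψ (hl k m n γ κ) = 0 := (hψ _).2 (hJ (Ideal.subset_span ⟨κ, rfl⟩))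
    rw [← h1]
    unfold hl
    rw [map_sum]
    refine Finset.sum_congr rfl fun i _ => ?_
    rw [map_sum]
    refine Finset.sum_congr rfl fun j _ => ?_
    rw [map_smul, smul_eq_mul, mul_assoc, huv]
  rcases hγ u v hzero with h | h
  · exact hμ0 (congrFun h i₀)
  · have : v j₀ = 0 := congrFun h j₀
    have h1 : v j₀ = 1 := div_self hμ0
    rw [h1] at this
    exact one_ne_zero this

lemma hM_mem_minimalPrimes
    (hγ : ∀ (u : Fin (m+1) → k) (v : Fin (n+1) → k),
      (∀ κ, ∑ i, ∑ j, γ κ i j * u i * v j = 0) → u = 0 ∨ v = 0) :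
    hM k m n ∈ (Ideal.span (Set.range (hl k m n γ))).minimalPrimes := by
  refine ⟨⟨inferInstance, ?_⟩, ?_⟩
  · rw [Ideal.span_le]
    rintro _ ⟨κ, rfl⟩
    exact hl_mem_hM k m n γ κ
  · rintro q' ⟨hq'p, hJq'⟩ _
    have hrad : q'.IsRadical := hq'p.isRadical
    have hjac : q'.jacobson = q' := (isJacobsonRing_iff.1 inferInstance) q' hrad
    rw [← hjac]
    unfold Ideal.jacobson
    apply le_sInf
    rintro 𝔫 ⟨hle, hmax⟩
    haveI := hmax
    unfold hM
    rw [Ideal.span_le]
    rintro _ ⟨p, rfl⟩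
    exact hz_mem_of_maximal k m n γ hγ 𝔫 (hJq'.trans hle) p

theorem hopf_coord
    (hγ : ∀ (u : Fin (m+1) → k) (v : Fin (n+1) → k),
      (∀ κ, ∑ i, ∑ j, γ κ i j * u i * v j = 0) → u = 0 ∨ v = 0) :
    m + n + 1 ≤ c := by
  classical
  have h1 := le_height_hM k m n
  have h2 : hM k m n ∈ (Ideal.span ((Finset.univ.image (hl k m n γ) : Finset _) : Set (HR k m n))).minimalPrimes := by
    rw [Finset.coe_image, Finset.coe_univ, Set.image_univ]
    exact hM_mem_minimalPrimes k m n γ hγ
  have h3 := Ideal.height_le_card_of_mem_minimalPrimes_span_finset h2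
  have h4 : (Finset.univ.image (hl k m n γ)).card ≤ c := by
    refine Finset.card_image_le.trans ?_
    simp
  have : ((m + n + 1 : ℕ) : ℕ∞) ≤ (c : ℕ∞) := h1.trans (h3.trans (by exact_mod_cast h4))
  exact_mod_cast this

end Hopf

/-- **Hopf lemma.** A bilinear map `U × V → W` of finite dimensional vector spaces over an
algebraically closed field without zero divisors satisfies `dim U + dim V ≤ dim W + 1`. -/
theorem hopf_lemma {k : Type*} [Field k] [IsAlgClosed k] {U V W : Type*}
    [AddCommGroup U] [Module k U] [Module.Finite k U]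
    [AddCommGroup V] [Module k V] [Module.Finite k V]
    [AddCommGroup W] [Module k W] [Module.Finite k W]
    [Nontrivial U] [Nontrivial V]
    (φ : U →ₗ[k] V →ₗ[k] W) (hφ : ∀ u v, φ u v = 0 → u = 0 ∨ v = 0) :
    Module.finrank k U + Module.finrank k V ≤ Module.finrank k W + 1 := by
  obtain ⟨m, hm⟩ : ∃ m, Module.finrank k U = m + 1 :=
    Nat.exists_eq_succ_of_ne_zero (Module.finrank_pos (R := k) (M := U)).ne'
  obtain ⟨n, hn⟩ : ∃ n, Module.finrank k V = n + 1 :=
    Nat.exists_eq_succ_of_ne_zero (Module.finrank_pos (R := k) (M := V)).ne'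
  let bU : Module.Basis (Fin (m+1)) k U := Module.finBasisOfFinrankEq k U hm
  let bV : Module.Basis (Fin (n+1)) k V := Module.finBasisOfFinrankEq k V hn
  let bW : Module.Basis (Fin (Module.finrank k W)) k W := Module.finBasis k W
  let γ : Fin (Module.finrank k W) → Fin (m+1) → Fin (n+1) → k :=
    fun κ i j => bW.repr (φ (bU i) (bV j)) κ
  have key : m + n + 1 ≤ Module.finrank k W := by
    refine hopf_coord k m n γ ?_
    intro u v h
    have h0 : φ (∑ i, u i • bU i) (∑ j, v j • bV j) = 0 := by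
      have e1 : φ (∑ i, u i • bU i) (∑ j, v j • bV j) =
          ∑ i, ∑ j, (u i * v j) • φ (bU i) (bV j) := by
        simp only [map_sum, map_smul, LinearMap.sum_apply, LinearMap.smul_apply, Finset.smul_sum,
          smul_smul]
        rw [Finset.sum_comm]
        refine Finset.sum_congr rfl fun i _ => ?_
        refine Finset.sum_congr rfl fun j _ => ?_
        rw [mul_comm]
      rw [e1]
      apply bW.repr.injective
      ext κ
      rw [map_zero, Finsupp.zero_apply, ← h κ, map_sum, Finsupp.finsetSum_apply]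
      refine Finset.sum_congr rfl fun i _ => ?_
      rw [map_sum, Finsupp.finsetSum_apply]
      refine Finset.sum_congr rfl fun j _ => ?_
      rw [map_smul, Finsupp.smul_apply, smul_eq_mul]
      show u i * v j * γ κ i j = _
      ring
    rcases hφ _ _ h0 with h1 | h1
    · left
      funext i
      exact Fintype.linearIndependent_iff.1 bU.linearIndependent u h1 i
    · right
      funext j
      exact Fintype.linearIndependent_iff.1 bV.linearIndependent v h1 j
  omega

end Groth.Agent.Helper4.SN
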