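import Mathlib
import Groth.Agent.Helper4.SN53
import Groth.Agent.Helper4.SN55

/-!
# Clifford-type inequality without Serre duality

For an invertible module `M` on a proper integral curve over an algebraically closed field with
`H⁰(M) ≠ 0` and `H¹(M) ≠ 0`: `h⁰(M) + h¹(M) ≤ g + 1`, via the Hopf lemma applied to the pairing
`Hom(O, M) × H¹(M)^∨ → H¹(O)^∨`.
-/

set_option autoImplicit false
set_option linter.style.haveILetI false

namespace Groth.Agent.Helper4.SN

open CategoryTheory Limits AlgebraicGeometry Opposite TopologicalSpace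
open Groth.Agent.Helper4.NApx82

universe u

variable (k : Type u) [Field k] {X : Scheme.{u}} [X.Over (Spec (CommRingCat.of k))]

/-- the pairing `Hom(O, M) × H¹(M)^∨ → H¹(O)^∨` -/
noncomputable def cliffPair (M : X.Modules) :
    (Coh.structureModule X ⟶ M) →ₗ[k] Module.Dual k (Coh.HH X M 1) →ₗ[k]
      Module.Dual k (Coh.HH X (Coh.structureModule X) 1) :=
  LinearMap.mk₂ k (fun s φ => φ ∘ₗ Canon.HHlin k s 1)
    (fun s s' φ => by rw [HHlin_add, LinearMap.comp_add])
    (fun a s φ => by rw [HHlin_smul, LinearMap.comp_smul])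
    (fun s φ φ' => LinearMap.add_comp _ _ _)
    (fun a s φ => LinearMap.smul_comp _ _ _)

theorem cliffPair_apply (M : X.Modules) (s : Coh.structureModule X ⟶ M)
    (φ : Module.Dual k (Coh.HH X M 1)) :
    cliffPair k M s φ = φ ∘ₗ Canon.HHlin k s 1 := rfl

/-- SD-free Clifford: `h⁰(M) + h¹(M) ≤ g + 1` when both are nonzero -/
theorem h0_add_h1_le_genus_add_one [IsAlgClosed k] [IsIntegral X]
    [IsProper (X ↘ (Spec (CommRingCat.of k)))]
    (hdim : topologicalKrullDim X = 1) (M : X.Modules) (hM : PicF.IsInvertible M)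
    (h0 : Nontrivial (Coh.HH X M 0)) (h1 : Nontrivial (Coh.HH X M 1)) :
    Module.finrank k (Coh.HH X M 0) + Module.finrank k (Coh.HH X M 1) ≤ Curv2.genus k X + 1 := by
  haveI := isNoetherian_of_proper k X
  have hcO : Coh.IsCoh (Coh.structureModule X) :=
    Groth.Agent.Helper1.SerreFin.isCoh_of_isInvertible _ TensorInv.isInvertible_structureModule
  have hcM := Groth.Agent.Helper1.SerreFin.isCoh_of_isInvertible M hM
  haveI : Module.Finite k (Coh.HH X M 0) := Groth.Agent.S0002.result k X _ hcM 0
  haveI : Module.Finite k (Coh.HH X M 1) := Groth.Agent.S0002.result k X _ hcM 1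
  haveI : Module.Finite k (Coh.HH X (Coh.structureModule X) 1) :=
    Groth.Agent.S0002.result k X _ hcO 1
  haveI : Module.Finite k (Coh.structureModule X ⟶ M) := finite_hom k _ _ hcO hcM
  have e0 := finrank_hom_unit k M
  have hpos0 : 0 < Module.finrank k (Coh.HH X M 0) := Module.finrank_pos
  have hpos1 : 0 < Module.finrank k (Coh.HH X M 1) := Module.finrank_pos
  haveI : Nontrivial (Coh.structureModule X ⟶ M) :=
    Module.nontrivial_of_finrank_pos (R := k) (by rw [e0]; exact hpos0)
  haveI : Nontrivial (Module.Dual k (Coh.HH X M 1)) :=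
    Module.nontrivial_of_finrank_pos (R := k) (by rw [Subspace.dual_finrank_eq]; exact hpos1)
  have key := hopf_lemma (cliffPair k M) (by
    intro s φ h
    by_cases hs : s = 0
    · exact Or.inl hs
    · right
      have hsurj := HHlin_one_surjective_of_ne_zero k hdim _ M
        TensorInv.isInvertible_structureModule hM s hs
      apply LinearMap.ext
      intro v
      obtain ⟨w, rfl⟩ := hsurj v
      exact LinearMap.congr_fun h w)
  rw [e0, Subspace.dual_finrank_eq, Subspace.dual_finrank_eq] at key
  unfold Curv2.genus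
  exact key

/-- Clifford's inequality (SD-free form): if `H⁰(M) ≠ 0` and `H¹(M) ≠ 0` then
`2 h⁰(M) ≤ deg M + 2`. -/
theorem clifford_two_h0_le [IsAlgClosed k] [IsIntegral X]
    [IsProper (X ↘ (Spec (CommRingCat.of k)))]
    (hdim : topologicalKrullDim X = 1) (M : X.Modules) (hM : PicF.IsInvertible M)
    (h0 : Nontrivial (Coh.HH X M 0)) (h1 : Nontrivial (Coh.HH X M 1)) :
    2 * (Module.finrank k (Coh.HH X M 0) : ℤ) ≤ Curv2.deg k X M 1 + 2 := by
  haveI := isNoetherian_of_proper k X
  have hcO : Coh.IsCoh (Coh.structureModule X) :=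
    Groth.Agent.Helper1.SerreFin.isCoh_of_isInvertible _ TensorInv.isInvertible_structureModule
  have hcM := Groth.Agent.Helper1.SerreFin.isCoh_of_isInvertible M hM
  have key := h0_add_h1_le_genus_add_one k hdim M hM h0 h1
  have hχM := chi_eq_h0_sub_h1 k hdim.le M
  have hχO := chi_eq_h0_sub_h1 k hdim.le (Coh.structureModule X)
  unfold chi at hχM hχO
  have hO := finrank_h0_unit_of_isAlgClosed k (X := X)
  unfold Curv2.deg
  unfold Curv2.genus at key
  rw [hχM, hχO, hO]
  push_cast
  omega

end Groth.Agent.Helper4.SN
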