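import Mathlib
import Groth.Agent.Helper4.SN56
import Groth.Agent.Lead.Ref1B
import Groth.Agent.Helper4.TensorLift
import Groth.Agent.Helper4.FinLocFree2
import Groth.Agent.Helper4.QcqsMod
import Groth.Agent.Helper4.AssDict
import Groth.Agent.Helper4.FinLocFree4

/-!
# The multiplication of sections `H⁰(E₁) × H⁰(E₂) → H⁰(E₁ ⊗ E₂)` and the Hopf inequality
-/

set_option autoImplicit false
set_option linter.style.haveILetI false

namespace Groth.Agent.Helper4.SN

open CategoryTheory Limits AlgebraicGeometry Opposite TopologicalSpace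
open Groth.Agent.Helper4.NApx82 Groth.Agent.Helper4.StalkDict

universe u

section General

variable {X : Scheme.{u}}

/-- a section of a finite locally free module on an integral scheme which vanishes at the generic
point is zero -/
theorem eq_zero_of_germ_generic [IsIntegral X] (E : X.Modules) [E.IsQuasicoherent]
    (hE : FlatMod.IsFinLocFree E) (σ : Γ(E, ⊤))
    (h : E.presheaf.germ ⊤ (genericPoint X) trivial σ = 0) : σ = 0 := by
  apply Groth.Agent.Helper4.AssDict.section_eq_zero_of_germ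
  intro x hx
  obtain ⟨U, hU, n, hxU, ⟨b⟩⟩ := Groth.Agent.Helper4.FinLocFree2.exists_affine_basis E hE x
  have hξU : genericPoint X ∈ U :=
    ((genericPoint_spec X).mem_open_set_iff U.2).2 ⟨x, trivial, hxU⟩
  set σU : Γ(E, U) := E.presheaf.map (homOfLE (le_top : U ≤ ⊤)).op σ with hσU
  have h1 : E.presheaf.germ U (genericPoint X) hξU σU = 0 := by
    rw [hσU, Groth.Agent.Helper4.QcqsMod.germ_res]
    exact h
  letI := sectionModStalk E (genericPoint X) hξU
  haveI := isLocalizedModule_germ hU E (genericPoint X) hξU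
  obtain ⟨c, hc⟩ := (IsLocalizedModule.eq_zero_iff
    (hU.primeIdealOf ⟨genericPoint X, hξU⟩).asIdeal.primeCompl
    (germLin E (genericPoint X) hξU)).1 h1
  haveI : Nonempty U := ⟨⟨x, hxU⟩⟩
  haveI : IsDomain Γ(X, U) := inferInstance
  have hc0 : (c : Γ(X, U)) ≠ 0 := fun h0 => c.2 (h0 ▸ Ideal.zero_mem _)
  have hz : σU = 0 := by
    apply b.repr.injective
    ext i
    have h2 := congrArg (fun v => b.repr v i) hc
    simp only [map_smul, Finsupp.smul_apply, map_zero, Finsupp.zero_apply, Submonoid.smul_def,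
      smul_eq_mul] at h2
    rw [map_zero, Finsupp.zero_apply]
    exact (mul_eq_zero.1 h2).resolve_left hc0
  rw [← Groth.Agent.Helper4.QcqsMod.germ_res E (le_top : U ≤ ⊤) x hxU σ, ← hσU, hz, map_zero]

/-- over a field, a pure tensor of nonzero vectors is nonzero -/
theorem tmul_eq_zero_of_field {K : Type*} [Field K] {A B : Type*} [AddCommGroup A] [Module K A]
    [AddCommGroup B] [Module K B] (a : A) (b : B) (h : a ⊗ₜ[K] b = 0) : a = 0 ∨ b = 0 := by
  by_contra hne
  push Not at hne
  obtain ⟨f, hf⟩ : ∃ f : Module.Dual K A, f a ≠ 0 := by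
    by_contra hc
    push Not at hc
    exact hne.1 ((Module.forall_dual_apply_eq_zero_iff K a).1 hc)
  obtain ⟨g, hg⟩ : ∃ g : Module.Dual K B, g b ≠ 0 := by
    by_contra hc
    push Not at hc
    exact hne.2 ((Module.forall_dual_apply_eq_zero_iff K b).1 hc)
  have h1 := congrArg (fun τ => LinearMap.mul' K K (TensorProduct.map f g τ)) h
  simp only [TensorProduct.map_tmul, LinearMap.mul'_apply, map_zero] at h1
  exact (mul_ne_zero hf hg) h1

theorem sec1_tmulHom {M N : X.Modules} (a : Coh.structureModule X ⟶ M)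
    (b : Coh.structureModule X ⟶ N) :
    sec1 _ (SecTwist.tmulHom a b) = SecTwist.tmul M N ⊤ (sec1 M a) (sec1 N b) :=
  SecTwist.val_tmulHom a b ⊤

theorem eq_zero_of_sec1 {M : X.Modules} (a : Coh.structureModule X ⟶ M) (h : sec1 M a = 0) :
    a = 0 := by
  apply Groth.Agent.Helper4.AmpleLocal.unit_hom_ext
  exact h.trans rfl

/-- the product of two nonzero sections of finite locally free modules on an integral scheme is
nonzero -/
theorem tmulHom_eq_zero [IsIntegral X] {M N : X.Modules} [M.IsQuasicoherent] [N.IsQuasicoherent]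
    (hM : FlatMod.IsFinLocFree M) (hN : FlatMod.IsFinLocFree N)
    (a : Coh.structureModule X ⟶ M) (b : Coh.structureModule X ⟶ N)
    (h : SecTwist.tmulHom a b = 0) : a = 0 ∨ b = 0 := by
  have h1 : SecTwist.tmul M N ⊤ (sec1 M a) (sec1 N b) = 0 := by
    rw [← sec1_tmulHom, h]
    rfl
  have h2 := Groth.Agent.Lead.Ref1B.stalkTensorEquiv_germ M N (genericPoint X) ⊤ trivial
    (sec1 M a) (sec1 N b)
  rw [h1] at h2
  have h2' := h2.trans (map_zero _)
  have h3 := (LinearEquiv.map_eq_zero_iff _).1 h2'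
  rcases tmul_eq_zero_of_field _ _ h3 with h4 | h4
  · exact Or.inl (eq_zero_of_sec1 a (eq_zero_of_germ_generic M hM _ h4))
  · exact Or.inr (eq_zero_of_sec1 b (eq_zero_of_germ_generic N hN _ h4))

end General

variable (k : Type u) [Field k] {X : Scheme.{u}} [X.Over (Spec (CommRingCat.of k))]

theorem tmulHom_add_left {M N : X.Modules} (a a' : Coh.structureModule X ⟶ M)
    (b : Coh.structureModule X ⟶ N) :
    SecTwist.tmulHom (a + a') b = SecTwist.tmulHom a b + SecTwist.tmulHom a' b := by
  apply Groth.Agent.Helper4.AmpleLocal.unit_hom_ext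
  show sec1 _ (SecTwist.tmulHom (a + a') b) = sec1 _ (SecTwist.tmulHom a b + SecTwist.tmulHom a' b)
  rw [sec1_add, sec1_tmulHom, sec1_tmulHom, sec1_tmulHom, sec1_add]
  exact Groth.Agent.Helper4.TensorLift.tmul_add_left M N ⊤ _ _ _

theorem tmulHom_add_right {M N : X.Modules} (a : Coh.structureModule X ⟶ M)
    (b b' : Coh.structureModule X ⟶ N) :
    SecTwist.tmulHom a (b + b') = SecTwist.tmulHom a b + SecTwist.tmulHom a b' := by
  apply Groth.Agent.Helper4.AmpleLocal.unit_hom_ext
  show sec1 _ (SecTwist.tmulHom a (b + b')) = sec1 _ (SecTwist.tmulHom a b + SecTwist.tmulHom a b')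
  rw [sec1_add, sec1_tmulHom, sec1_tmulHom, sec1_tmulHom, sec1_add]
  exact Groth.Agent.Helper4.TensorLift.tmul_add_right M N ⊤ _ _ _

theorem tmulHom_smul_left {M N : X.Modules} (c : k) (a : Coh.structureModule X ⟶ M)
    (b : Coh.structureModule X ⟶ N) :
    SecTwist.tmulHom (c • a) b = c • SecTwist.tmulHom a b := by
  apply Groth.Agent.Helper4.AmpleLocal.unit_hom_ext
  show sec1 _ (SecTwist.tmulHom (c • a) b) = sec1 _ (c • SecTwist.tmulHom a b)
  rw [sec1_tmulHom]
  refine Eq.trans ?_ (sec1_smul k _ c _).symm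
  rw [sec1_tmulHom]
  refine Eq.trans ?_ (Groth.Agent.Helper4.TensorLift.tmul_smul_left M N ⊤ _ _ _)
  exact congrArg (fun z => SecTwist.tmul M N ⊤ z (sec1 N b)) (sec1_smul k M c a)

theorem tmulHom_smul_right {M N : X.Modules} (c : k) (a : Coh.structureModule X ⟶ M)
    (b : Coh.structureModule X ⟶ N) :
    SecTwist.tmulHom a (c • b) = c • SecTwist.tmulHom a b := by
  apply Groth.Agent.Helper4.AmpleLocal.unit_hom_ext
  show sec1 _ (SecTwist.tmulHom a (c • b)) = sec1 _ (c • SecTwist.tmulHom a b)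
  rw [sec1_tmulHom]
  refine Eq.trans ?_ (sec1_smul k _ c _).symm
  rw [sec1_tmulHom]
  refine Eq.trans ?_ (Groth.Agent.Helper4.TensorLift.tmul_smul_right M N ⊤ _ _ _)
  exact congrArg (fun z => SecTwist.tmul M N ⊤ (sec1 M a) z) (sec1_smul k N c b)

/-- multiplication of sections as a bilinear map -/
noncomputable def secPair (M N : X.Modules) :
    (Coh.structureModule X ⟶ M) →ₗ[k] (Coh.structureModule X ⟶ N) →ₗ[k]
      (Coh.structureModule X ⟶ CohB1.tensorMod M N) :=
  LinearMap.mk₂ k (fun a b => SecTwist.tmulHom a b)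
    (fun a a' b => tmulHom_add_left a a' b)
    (fun c a b => tmulHom_smul_left k c a b)
    (fun a b b' => tmulHom_add_right a b b')
    (fun c a b => tmulHom_smul_right k c a b)

/-- **Hopf inequality** for sections of finite locally free modules on an integral proper scheme
over an algebraically closed field -/
theorem h0_add_h0_le_h0_tensor [IsAlgClosed k] [IsIntegral X]
    [IsProper (X ↘ (Spec (CommRingCat.of k)))] (E₁ E₂ : X.Modules)
    (h₁ : FlatMod.IsFinLocFree E₁) (h₂ : FlatMod.IsFinLocFree E₂)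
    (n₁ : Nontrivial (Coh.HH X E₁ 0)) (n₂ : Nontrivial (Coh.HH X E₂ 0)) :
    Module.finrank k (Coh.HH X E₁ 0) + Module.finrank k (Coh.HH X E₂ 0) ≤
      Module.finrank k (Coh.HH X (CohB1.tensorMod E₁ E₂) 0) + 1 := by
  haveI := isNoetherian_of_proper k X
  have hcO : Coh.IsCoh (Coh.structureModule X) :=
    Groth.Agent.Helper1.SerreFin.isCoh_of_isInvertible _ TensorInv.isInvertible_structureModule
  have hc₁ : Coh.IsCoh E₁ := Groth.Agent.Lead.PerfLib.isCoh_of_isFinLocFree h₁
  have hc₂ : Coh.IsCoh E₂ := Groth.Agent.Lead.PerfLib.isCoh_of_isFinLocFree h₂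
  have hcT := Groth.Agent.Lead.Ref1B.isCoh_tensorMod E₁ E₂ hc₁ hc₂
  haveI := hc₁.1
  haveI := hc₂.1
  haveI : Module.Finite k (Coh.HH X E₁ 0) := Groth.Agent.S0002.result k X _ hc₁ 0
  haveI : Module.Finite k (Coh.HH X E₂ 0) := Groth.Agent.S0002.result k X _ hc₂ 0
  haveI : Module.Finite k (Coh.structureModule X ⟶ E₁) := finite_hom k _ _ hcO hc₁
  haveI : Module.Finite k (Coh.structureModule X ⟶ E₂) := finite_hom k _ _ hcO hc₂
  haveI : Module.Finite k (Coh.structureModule X ⟶ CohB1.tensorMod E₁ E₂) :=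
    finite_hom k _ _ hcO hcT
  have e1 := finrank_hom_unit k E₁
  have e2 := finrank_hom_unit k E₂
  have eT := finrank_hom_unit k (CohB1.tensorMod E₁ E₂)
  have hpos1 : 0 < Module.finrank k (Coh.HH X E₁ 0) := Module.finrank_pos
  have hpos2 : 0 < Module.finrank k (Coh.HH X E₂ 0) := Module.finrank_pos
  haveI : Nontrivial (Coh.structureModule X ⟶ E₁) :=
    Module.nontrivial_of_finrank_pos (R := k) (by rw [e1]; exact hpos1)
  haveI : Nontrivial (Coh.structureModule X ⟶ E₂) :=
    Module.nontrivial_of_finrank_pos (R := k) (by rw [e2]; exact hpos2)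
  have key := hopf_lemma (secPair k E₁ E₂) (fun a b h => tmulHom_eq_zero h₁ h₂ a b h)
  rw [e1, e2, eT] at key
  exact key

end Groth.Agent.Helper4.SN
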