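import Mathlib
import Groth.Agent.Helper4.SN57
import Groth.Agent.Lead.ZeroDimGG

/-!
# Helpers for `h⁰(L) ≤ deg L + 1`: the `H⁰` part of the long exact sequence, lifting of sections,
and sections of modules with finite support with prescribed germs
-/

set_option autoImplicit false
set_option linter.style.haveILetI false

namespace Groth.Agent.Helper4.SN

open CategoryTheory Limits AlgebraicGeometry Opposite TopologicalSpace
open Groth.Agent.Helper4.NApx82 Groth.Agent.Helper4.StalkDict

universe u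

section LES

variable (k : Type u) [Field k] {X : Scheme.{u}} [X.Over (Spec (CommRingCat.of k))]

theorem HHlin_id (F : X.Modules) (r : ℕ) : Canon.HHlin k (𝟙 F) r = LinearMap.id := by
  apply LinearMap.ext
  intro x
  have h := HHlin_smul_id k F (1 : k) r x
  rw [one_smul, one_smul] at h
  exact h

/-- cohomology is invariant under isomorphisms -/
noncomputable def HHequivOfIso {F G : X.Modules} (e : F ≅ G) (r : ℕ) :
    Coh.HH X F r ≃ₗ[k] Coh.HH X G r :=
  LinearEquiv.ofLinearMap (Canon.HHlin k e.hom r) (Canon.HHlin k e.inv r)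
    (by rw [← HHlin_comp, e.inv_hom_id, HHlin_id])
    (by rw [← HHlin_comp, e.hom_inv_id, HHlin_id])

theorem finrank_HH_of_iso {F G : X.Modules} (e : F ≅ G) (r : ℕ) :
    Module.finrank k (Coh.HH X F r) = Module.finrank k (Coh.HH X G r) :=
  (HHequivOfIso k e r).finrank_eq

variable (S : ShortComplex X.Modules) (hS : S.ShortExact)

include hS in
theorem h0_mid_eq [Module.Finite k (Coh.HH X S.X₁ 0)] [Module.Finite k (Coh.HH X S.X₂ 0)] :
    Module.finrank k (Coh.HH X S.X₂ 0) = Module.finrank k (Coh.HH X S.X₁ 0) +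
      Module.finrank k (LinearMap.range (Canon.HHlin k S.g 0)) := by
  have hex := NApx80.exact_f_g k S hS 0
  have hinj := NApx80.injective_f_zero k S hS
  have h1 := LinearMap.finrank_range_add_finrank_ker (Canon.HHlin k S.g 0)
  have h2 : LinearMap.ker (Canon.HHlin k S.g 0) = LinearMap.range (Canon.HHlin k S.f 0) :=
    (LinearMap.exact_iff.1 hex)
  have h3 : Module.finrank k (LinearMap.range (Canon.HHlin k S.f 0)) =
      Module.finrank k (Coh.HH X S.X₁ 0) := LinearMap.finrank_range_of_inj hinj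
  rw [h2, h3] at h1
  omega

include hS in
theorem h0_mid_le [Module.Finite k (Coh.HH X S.X₁ 0)] [Module.Finite k (Coh.HH X S.X₂ 0)]
    [Module.Finite k (Coh.HH X S.X₃ 0)] :
    Module.finrank k (Coh.HH X S.X₂ 0) ≤ Module.finrank k (Coh.HH X S.X₁ 0) +
      Module.finrank k (Coh.HH X S.X₃ 0) := by
  rw [h0_mid_eq k S hS]
  have := Submodule.finrank_le (LinearMap.range (Canon.HHlin k S.g 0))
  omega

include hS in
theorem surjective_g_of_h0_eq [Module.Finite k (Coh.HH X S.X₁ 0)]
    [Module.Finite k (Coh.HH X S.X₂ 0)] [Module.Finite k (Coh.HH X S.X₃ 0)]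
    (h : Module.finrank k (Coh.HH X S.X₂ 0) = Module.finrank k (Coh.HH X S.X₁ 0) +
      Module.finrank k (Coh.HH X S.X₃ 0)) :
    Function.Surjective (Canon.HHlin k S.g 0) := by
  rw [h0_mid_eq k S hS] at h
  rw [← LinearMap.range_eq_top]
  apply Submodule.eq_top_of_finrank_eq
  omega

include hS in
theorem h0_mid_eq_of_surjective [Module.Finite k (Coh.HH X S.X₁ 0)]
    [Module.Finite k (Coh.HH X S.X₂ 0)]
    (h : Function.Surjective (Canon.HHlin k S.g 0)) :
    Module.finrank k (Coh.HH X S.X₂ 0) = Module.finrank k (Coh.HH X S.X₁ 0) +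
      Module.finrank k (Coh.HH X S.X₃ 0) := by
  rw [h0_mid_eq k S hS, LinearMap.range_eq_top.2 h, finrank_top]

/-- naturality of `evalH0` -/
theorem evalH0_comp {A B : X.Modules} (a : Coh.structureModule X ⟶ A) (φ : A ⟶ B) :
    evalH0 k B (a ≫ φ) = Canon.HHlin k φ 0 (evalH0 k A a) := by
  have h := Sheaf.H.equiv₀_symm_naturality (F := Coh.toAb A) (G := Coh.toAb B)
    (isTerminalTop (α := Opens X)) ((SheafOfModules.toSheaf X.ringCatSheaf).map φ) (sec1 A a)
  exact h.symm

/-- surjectivity on `H⁰` in terms of lifting of sections -/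
theorem surjective_HHlin_zero_iff {A B : X.Modules} (φ : A ⟶ B) :
    Function.Surjective (Canon.HHlin k φ 0) ↔
      ∀ b : Coh.structureModule X ⟶ B, ∃ a : Coh.structureModule X ⟶ A, a ≫ φ = b := by
  constructor
  · intro h b
    obtain ⟨x, hx⟩ := h (evalH0 k B b)
    obtain ⟨a, rfl⟩ := evalH0_surjective k A x
    refine ⟨a, evalH0_injective k B ?_⟩
    rw [evalH0_comp, hx]
  · intro h y
    obtain ⟨b, rfl⟩ := evalH0_surjective k B y
    obtain ⟨a, rfl⟩ := h b
    exact ⟨evalH0 k A a, (evalH0_comp k a φ).symm⟩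

end LES

section Ext

variable {X : Scheme.{u}} (F : X.Modules)

/-- extension by zero with both restrictions -/
theorem exists_extension_zero (W V : X.Opens) (hcov : (⊤ : X.Opens) ≤ W ⊔ V)
    (hWV : ∀ y ∈ W ⊓ V, y ∉ CohB1.support F) (s : Γ(F, W)) :
    ∃ σ : Γ(F, ⊤), F.presheaf.map (homOfLE (le_top : W ≤ ⊤)).op σ = s ∧
      F.presheaf.map (homOfLE (le_top : V ≤ ⊤)).op σ = 0 := by
  let U : Bool → X.Opens := fun b => cond b W V
  let sf : ∀ b : Bool, Γ(F, U b) := fun b =>
    match b with
    | true => s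
    | false => (0 : Γ(F, V))
  have hcomp : TopCat.Presheaf.IsCompatible (Groth.Agent.Lead.ZeroDimGG.sh F).1 U sf := by
    intro i j
    match i, j with
    | true, true => rfl
    | false, false => rfl
    | true, false =>
      apply Groth.Agent.Lead.ZeroDimGG.eq_of_disjoint_support F (U true ⊓ U false)
      intro y hy
      exact hWV y hy
    | false, true =>
      apply Groth.Agent.Lead.ZeroDimGG.eq_of_disjoint_support F (U false ⊓ U true)
      intro y hy
      exact hWV y ⟨hy.2, hy.1⟩
  obtain ⟨σ, hσ, -⟩ := (Groth.Agent.Lead.ZeroDimGG.sh F).existsUnique_gluing' U ⊤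
    (fun b => homOfLE le_top)
    (by
      refine hcov.trans ?_
      rw [sup_le_iff]
      exact ⟨le_iSup U true, le_iSup U false⟩) sf hcomp
  exact ⟨σ, hσ true, hσ false⟩

/-- on a module with finite support consisting of closed points, there is a global section with
prescribed germs at the points of the support -/
theorem exists_section_with_germs (hfin : (CohB1.support F).Finite)
    (hpt : ∀ x ∈ CohB1.support F, IsClosed ({x} : Set X))
    (U : X → X.Opens) (f : ∀ x, Γ(F, U x)) (hU : ∀ x ∈ CohB1.support F, x ∈ U x) :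
    ∃ σ : Γ(F, ⊤), ∀ (x : X) (hx : x ∈ CohB1.support F),
      F.presheaf.germ ⊤ x trivial σ = F.presheaf.germ (U x) x (hU x hx) (f x) := by
  classical
  -- the pieces
  have key : ∀ (x : X) (hx : x ∈ CohB1.support F), ∃ σ : Γ(F, ⊤),
      F.presheaf.germ ⊤ x trivial σ = F.presheaf.germ (U x) x (hU x hx) (f x) ∧
      ∀ y : X, y ≠ x → F.presheaf.germ ⊤ y trivial σ = 0 := by
    intro x hx
    have hA : IsClosed (CohB1.support F \ {x}) := by
      have hfin' : (CohB1.support F \ {x}).Finite := hfin.subset Set.sdiff_subset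
      have : CohB1.support F \ {x} = ⋃ y ∈ (CohB1.support F \ {x}), ({y} : Set X) := by
        ext z; simp
      rw [this]
      exact hfin'.isClosed_biUnion (fun y hy => hpt y hy.1)
    have hB : IsClosed ({x} : Set X) := hpt x hx
    let W : X.Opens := U x ⊓ ⟨(CohB1.support F \ {x})ᶜ, hA.isOpen_compl⟩
    let V : X.Opens := ⟨{x}ᶜ, hB.isOpen_compl⟩
    have hxW : x ∈ W := ⟨hU x hx, fun h => h.2 rfl⟩
    have hcov : (⊤ : X.Opens) ≤ W ⊔ V := by
      intro y _
      by_cases hy : y = x
      · subst hy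
        exact Or.inl hxW
      · exact Or.inr hy
    have hWV : ∀ y ∈ W ⊓ V, y ∉ CohB1.support F := by
      rintro y ⟨⟨_, hy1⟩, hy2⟩ hy3
      exact hy1 ⟨hy3, hy2⟩
    obtain ⟨σ, hσ1, hσ2⟩ := exists_extension_zero F W V hcov hWV
      (F.presheaf.map (homOfLE (inf_le_left : W ≤ U x)).op (f x))
    refine ⟨σ, ?_, ?_⟩
    · rw [← TopCat.Presheaf.germ_res_apply F.presheaf (homOfLE (le_top : W ≤ ⊤)) x hxW σ]
      rw [hσ1]
      exact TopCat.Presheaf.germ_res_apply F.presheaf (homOfLE (inf_le_left : W ≤ U x)) x hxW (f x)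
    · intro y hy
      have hyV : y ∈ V := hy
      rw [← TopCat.Presheaf.germ_res_apply F.presheaf (homOfLE (le_top : V ≤ ⊤)) y hyV σ]
      rw [hσ2, map_zero]
  choose σ hσ1 hσ2 using key
  let σ' : X → Γ(F, ⊤) := fun x => if hx : x ∈ CohB1.support F then σ x hx else 0
  refine ⟨∑ x ∈ hfin.toFinset, σ' x, fun x hx => ?_⟩
  rw [map_sum]
  rw [Finset.sum_eq_single x]
  · show F.presheaf.germ ⊤ x trivial (if hx : x ∈ CohB1.support F then σ x hx else 0) = _
    rw [dif_pos hx]
    exact hσ1 x hx
  · intro y hy hyx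
    have hy' : y ∈ CohB1.support F := hfin.mem_toFinset.1 hy
    show F.presheaf.germ ⊤ x trivial (if hy : y ∈ CohB1.support F then σ y hy else 0) = _
    rw [dif_pos hy']
    exact hσ2 y hy' x (Ne.symm hyx)
  · intro h
    exact absurd (hfin.mem_toFinset.2 hx) h

end Ext

end Groth.Agent.Helper4.SN
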