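import Mathlib
import Groth.Agent.Helper4.SN58
import Groth.Agent.Helper4.NApx81

/-!
# A section of an invertible module generating it along the zeros of another section
-/

set_option autoImplicit false
set_option linter.style.haveILetI false

namespace Groth.Agent.Helper4.SN

open CategoryTheory Limits AlgebraicGeometry Opposite TopologicalSpace
open Groth.Agent.Helper4.NApx82 Groth.Agent.Helper4.StalkDict Groth.Agent.Helper4.TwistExt
  Groth.Agent.Helper4.GenLoc

universe u

variable {X : Scheme.{u}}

/-- the stalk map of `s : O ⟶ M` in terms of the global section -/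
theorem stalkLin_unit_germ {M : X.Modules} (s : Coh.structureModule X ⟶ M) (y : X) (W : X.Opens)
    (hy : y ∈ W) (c : Γ(Coh.structureModule X, W)) :
    stalkLin s y ((Coh.structureModule X).presheaf.germ W y hy c) =
      X.presheaf.germ W y hy (toFn c) • M.presheaf.germ ⊤ y trivial (sec1 M s) := by
  rw [Groth.Agent.Helper4.StalkExact.stalkLin_germ]
  have h1 : s.app W c = toFn c • s.app W (one X W) := by
    have : c = toFn c • one X W := (GenLoc.smul_one W (toFn c)).symm
    conv_lhs => rw [this, Scheme.Modules.Hom.app_smul]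
  rw [h1, germ_smul, Groth.Agent.Helper4.QAffSec.app_one_eq_res]
  congr 1
  exact Groth.Agent.Helper4.QcqsMod.germ_res M (le_top : W ≤ ⊤) y hy _

/-- in a frame, every element of the stalk is a multiple of the germ of the frame -/
theorem frame_span {M : X.Modules} {T : X.Opens} {e : Γ(M, T)} (hf : IsFrame M T e) (y : X)
    (hyT : y ∈ T) (m : M.presheaf.stalk y) :
    ∃ r : X.presheaf.stalk y, m = r • M.presheaf.germ T y hyT e := by
  obtain ⟨V, hyV, m', rfl⟩ := TopCat.Presheaf.exists_germ_eq M.presheaf m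
  obtain ⟨r', hr'⟩ := (hf (V ⊓ T) inf_le_right).1 (M.presheaf.map (homOfLE inf_le_left).op m')
  have hy' : y ∈ V ⊓ T := ⟨hyV, hyT⟩
  have e1 := Groth.Agent.Helper4.QcqsMod.germ_res M (inf_le_left : V ⊓ T ≤ V) y hy' m'
  have e2 := Groth.Agent.Helper4.QcqsMod.germ_res M (inf_le_right : V ⊓ T ≤ T) y hy' e
  refine ⟨X.presheaf.germ (V ⊓ T) y hy' r', ?_⟩
  refine e1.symm.trans ?_
  rw [hr']
  exact (germ_smul M (V ⊓ T) y hy' r' _).trans (congrArg (fun z => _ • z) e2)

/-- a section whose germ is a unit multiple of a frame is surjective on the stalk -/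
theorem stalkLin_surjective_of_unit {M : X.Modules} {T : X.Opens} {e : Γ(M, T)}
    (hf : IsFrame M T e) (y : X) (hyT : y ∈ T) (σ : Coh.structureModule X ⟶ M)
    (u : X.presheaf.stalk y) (hu : IsUnit u)
    (h : M.presheaf.germ ⊤ y trivial (sec1 M σ) = u • M.presheaf.germ T y hyT e) :
    Function.Surjective (stalkLin σ y) := by
  intro m
  obtain ⟨r, rfl⟩ := frame_span hf y hyT m
  obtain ⟨v, hv⟩ := hu
  refine ⟨(r * ↑v⁻¹) • (Coh.structureModule X).presheaf.germ ⊤ y trivial (one X ⊤), ?_⟩
  have h0 := stalkLin_unit_germ σ y ⊤ trivial (one X ⊤)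
  have h1 : X.presheaf.germ ⊤ y trivial (toFn (one X ⊤)) = 1 := map_one _
  rw [h1, one_smul, h, ← hv] at h0
  rw [map_smul, h0, smul_smul, mul_assoc, Units.inv_mul, mul_one]



/-- the key local statement -/
theorem stalkLin_surjective_of_germ_eq {M : X.Modules} (s t : Coh.structureModule X ⟶ M) [Mono s]
    (y : X) (hy : ¬ Subsingleton ((cokernel s).presheaf.stalk y))
    {T : X.Opens} {e : Γ(M, T)} (hyT : y ∈ T) (hf : IsFrame M T e)
    (hq : (cokernel s).presheaf.germ ⊤ y trivial ((cokernel.π s).app ⊤ (sec1 M t)) =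
      (cokernel s).presheaf.germ T y hyT ((cokernel.π s).app T e)) :
    Function.Surjective (stalkLin t y) := by
  set ge := M.presheaf.germ T y hyT e with hge
  set gs := M.presheaf.germ ⊤ y trivial (sec1 M s) with hgs
  set gt := M.presheaf.germ ⊤ y trivial (sec1 M t) with hgt
  obtain ⟨a, ha⟩ := frame_span hf y hyT gs
  -- `a` is not a unit
  have hna : ¬ IsUnit a := by
    intro hu
    apply hy
    apply Groth.Agent.Lead.StalkNhd.subsingleton_stalk_cokernel s y
    exact stalkLin_surjective_of_unit hf y hyT s a hu ha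
  -- exactness
  have h1 : stalkLin (cokernel.π s) y (gt - ge) = 0 := by
    have e1 := Groth.Agent.Helper4.StalkExact.stalkLin_germ (cokernel.π s) y ⊤ trivial (sec1 M t)
    have e2 := Groth.Agent.Helper4.StalkExact.stalkLin_germ (cokernel.π s) y T hyT e
    rw [map_sub, hgt, hge, e1, e2, hq, sub_self]
  haveI : Mono (Groth.Agent.Helper1.Dev.cokSC s).f := inferInstanceAs (Mono s)
  obtain ⟨c, hc⟩ := (Groth.Agent.Helper4.StalkExact.stalkLin_exact (Groth.Agent.Helper1.Dev.cokSC s)
    (Groth.Agent.Helper1.Dev.cokSC_shortExact s).exact y (gt - ge)).1 h1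
  obtain ⟨W, hyW, c', rfl⟩ := TopCat.Presheaf.exists_germ_eq (Coh.structureModule X).presheaf c
  have hc' : stalkLin s y ((Coh.structureModule X).presheaf.germ W y hyW c') = gt - ge := hc
  rw [stalkLin_unit_germ s y W hyW c'] at hc'
  set c₀ := X.presheaf.germ W y hyW (toFn c') with hc₀
  have hgt' : gt = (1 + c₀ * a) • ge := by
    rw [add_smul, one_smul, mul_smul, ← ha]
    rw [← hgs] at hc'
    rw [hc']
    abel
  have hunit : IsUnit (1 + c₀ * a) := by
    have hsum : (1 + c₀ * a) + (-(c₀ * a)) = 1 := by ring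
    rcases IsLocalRing.isUnit_or_isUnit_of_add_one hsum with h | h
    · exact h
    · exfalso
      rw [IsUnit.neg_iff] at h
      exact hna (isUnit_of_mul_isUnit_right h)
  exact stalkLin_surjective_of_unit hf y hyT t _ hunit hgt'

/-- if every section of the cokernel of `s` lifts to `M`, there is a section of `M` generating `M`
at all points of the support of the cokernel -/
theorem exists_generating_section {M : X.Modules} (hM : PicF.IsInvertible M)
    (s : Coh.structureModule X ⟶ M) [Mono s]
    (hfin : (CohB1.support (cokernel s)).Finite)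
    (hpt : ∀ x ∈ CohB1.support (cokernel s), IsClosed ({x} : Set X))
    (hlift : ∀ b : Coh.structureModule X ⟶ cokernel s,
      ∃ a : Coh.structureModule X ⟶ M, a ≫ cokernel.π s = b) :
    ∃ t : Coh.structureModule X ⟶ M, ∀ y ∈ CohB1.support (cokernel s),
      Function.Surjective (stalkLin t y) := by
  have hch := fun x : X => Groth.Agent.Helper4.AmpleFinite.exists_chart_forall M hM x
  choose T e hxT _ hfr _ using hch
  obtain ⟨σ, hσ⟩ := exists_section_with_germs (cokernel s) hfin hpt T
    (fun x => (cokernel.π s).app (T x) (e x)) (fun x _ => hxT x)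
  obtain ⟨t, ht⟩ := hlift (Groth.Agent.Lead.IdealModDict.ofSection (cokernel s) σ)
  refine ⟨t, fun y hy => ?_⟩
  refine stalkLin_surjective_of_germ_eq s t y hy (hxT y) (hfr y) ?_
  rw [← hσ y hy]
  congr 1
  have h1 : (cokernel.π s).app ⊤ (sec1 M t) = sec1 _ (t ≫ cokernel.π s) := rfl
  rw [h1, ht]
  have h2 := Groth.Agent.Lead.IdealModDict.ofSection_app (cokernel s) σ ⊤ 1
  have h3 : (cokernel s).presheaf.map (homOfLE (le_top : (⊤ : X.Opens) ≤ ⊤)).op σ = σ := by
    have : (homOfLE (le_top : (⊤ : X.Opens) ≤ ⊤)) = 𝟙 _ := Subsingleton.elim _ _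
    rw [this, op_id, (cokernel s).presheaf.map_id]
    rfl
  rw [h3, one_smul] at h2
  exact h2

end Groth.Agent.Helper4.SN
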