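import Mathlib
import Groth.Agent.Helper4.SN59
import Groth.Agent.Helper4.EpiStalk

/-!
# `h⁰(L) ≤ deg L + 1` on a proper integral curve with `h⁰(O) = 1`, with equality only in genus zero
-/

set_option autoImplicit false
set_option linter.style.haveILetI false

namespace Groth.Agent.Helper4.SN

open CategoryTheory Limits AlgebraicGeometry Opposite TopologicalSpace
open Groth.Agent.Helper4.NApx82 Groth.Agent.Helper4.StalkDict Groth.Agent.Helper4.TwistExt
  Groth.Agent.Helper4.GenLoc

universe u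

section General

variable {X : Scheme.{u}}

theorem stalkLin_zero {F G : X.Modules} (x : X) (m : F.presheaf.stalk x) :
    stalkLin (0 : F ⟶ G) x m = 0 := by
  obtain ⟨V, hxV, m', rfl⟩ := TopCat.Presheaf.exists_germ_eq F.presheaf m
  rw [Groth.Agent.Helper4.StalkExact.stalkLin_germ]
  exact map_zero _

/-- `(a ⊗ b) ≫ (φ ⊗ ψ) = (a ≫ φ) ⊗ (b ≫ ψ)` for sections -/
theorem tmulHom_comp_tensorMap {A A' B B' : X.Modules} (a : Coh.structureModule X ⟶ A)
    (b : Coh.structureModule X ⟶ B) (φ : A ⟶ A') (ψ : B ⟶ B') :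
    SecTwist.tmulHom a b ≫ KoszTw.tensorMap φ ψ = SecTwist.tmulHom (a ≫ φ) (b ≫ ψ) := by
  apply Groth.Agent.Helper4.AmpleLocal.unit_hom_ext
  show (KoszTw.tensorMap φ ψ).app ⊤ (sec1 _ (SecTwist.tmulHom a b)) =
    sec1 _ (SecTwist.tmulHom (a ≫ φ) (b ≫ ψ))
  rw [sec1_tmulHom, sec1_tmulHom]
  exact KoszTw.tensorMap_tmul φ ψ ⊤ _ _

/-- `q ≫ ρ⁻¹ = q ⊗ 1` -/
theorem comp_unitorR_inv {Q : X.Modules} (q : Coh.structureModule X ⟶ Q) :
    q ≫ (SecTwist.unitorR Q).inv = SecTwist.tmulHom q (𝟙 (Coh.structureModule X)) := by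
  rw [Iso.comp_inv_eq]
  apply Groth.Agent.Helper4.AmpleLocal.unit_hom_ext
  show sec1 Q q = (SecTwist.unitorR Q).hom.app ⊤ (sec1 _ (SecTwist.tmulHom q (𝟙 _)))
  rw [sec1_tmulHom]
  have h := SecTwist.unitorR_tmul Q ⊤ (sec1 Q q) (1 : X.ringCatSheaf.obj.obj (op ⊤))
  exact (h.trans (one_smul _ _)).symm

/-- tensoring a module with finite support with a section generating along the support is an
isomorphism -/
theorem isIso_tensorMap_id [IsIntegral X] {M : X.Modules} (hM : PicF.IsInvertible M)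
    (Q : X.Modules) (t : Coh.structureModule X ⟶ M) (ht : t ≠ 0)
    (h : ∀ y ∈ CohB1.support Q, Function.Surjective (stalkLin t y)) :
    IsIso (KoszTw.tensorMap (𝟙 Q) t) := by
  apply Groth.Agent.Helper4.QcohLocal.isIso_of_stalkLin_bijective
  intro x
  by_cases hx : x ∈ CohB1.support Q
  · have hb : Function.Bijective (RefHull.stalkMapₗ t x) :=
      ⟨NApx81.stalkLin_injective_of_ne_zero t TensorInv.isInvertible_structureModule hM ht x,
        h x hx⟩
    have hid : Function.Bijective (RefHull.stalkMapₗ (𝟙 Q) x) := by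
      rw [← Groth.Agent.Lead.Ref1B.isIso_St_map_iff]
      infer_instance
    exact Groth.Agent.Lead.Ref1B.bijective_stalkMapₗ_tensorMap (𝟙 Q) t x hid hb
  · have hsub : Subsingleton (Q.presheaf.stalk x) := not_not.mp hx
    haveI : Subsingleton ((CohB1.tensorMod Q (Coh.structureModule X)).presheaf.stalk x) :=
      (Groth.Agent.Lead.Ref1B.stalkTensorEquiv Q (Coh.structureModule X) x).symm.toEquiv.subsingleton
    haveI : Subsingleton ((CohB1.tensorMod Q M).presheaf.stalk x) :=
      (Groth.Agent.Lead.Ref1B.stalkTensorEquiv Q M x).symm.toEquiv.subsingleton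
    exact ⟨fun a b _ => Subsingleton.elim _ _, fun b => ⟨0, Subsingleton.elim _ _⟩⟩

end General

variable (k : Type u) [Field k] {X : Scheme.{u}} [X.Over (Spec (CommRingCat.of k))]
  [IsIntegral X] [IsProper (X ↘ (Spec (CommRingCat.of k)))]

/-- the equality case of `h⁰ ≤ deg + 1` in positive degree -/
def EqProp (M : X.Modules) : Prop :=
  PicF.IsInvertible M ∧ (Module.finrank k (Coh.HH X M 0) : ℤ) = Curv2.deg k X M 1 + 1 ∧
    0 < Curv2.deg k X M 1

/-- the inequality `h⁰(M) ≤ h⁰(O) + deg M` -/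
theorem h0_le_h0_unit_add_deg (hdim : topologicalKrullDim X = 1) (M : X.Modules)
    (hM : PicF.IsInvertible M) (hs : Nontrivial (Coh.HH X M 0)) :
    (Module.finrank k (Coh.HH X M 0) : ℤ) ≤
      Module.finrank k (Coh.HH X (Coh.structureModule X) 0) + Curv2.deg k X M 1 := by
  haveI := isNoetherian_of_proper k X
  have hO : PicF.IsInvertible (Coh.structureModule X) := TensorInv.isInvertible_structureModule
  have hcO := Groth.Agent.Helper1.SerreFin.isCoh_of_isInvertible _ hO
  have hcM := Groth.Agent.Helper1.SerreFin.isCoh_of_isInvertible M hM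
  obtain ⟨s, hs0⟩ := exists_section_of_nontrivial_H0 M hs
  obtain ⟨hmono, hχ, -⟩ := hom_main k X hdim _ M hO hM s hs0
  haveI := hmono
  have hcQ : Coh.IsCoh (cokernel s) := Groth.Agent.Lead.PerfLib.isCoh_cokernel hcO hcM s
  haveI : Module.Finite k (Coh.HH X (Coh.structureModule X) 0) :=
    Groth.Agent.S0002.result k X _ hcO 0
  haveI : Module.Finite k (Coh.HH X M 0) := Groth.Agent.S0002.result k X _ hcM 0
  haveI : Module.Finite k (Coh.HH X (cokernel s) 0) := Groth.Agent.S0002.result k X _ hcQ 0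
  have hle := h0_mid_le k (Groth.Agent.Helper1.Dev.cokSC s)
    (Groth.Agent.Helper1.Dev.cokSC_shortExact s)
  have hle' : Module.finrank k (Coh.HH X M 0) ≤
      Module.finrank k (Coh.HH X (Coh.structureModule X) 0) +
        Module.finrank k (Coh.HH X (cokernel s) 0) := hle
  unfold Curv2.deg
  rw [hχ]
  push_cast
  have : (Module.finrank k (Coh.HH X M 0) : ℤ) ≤
      (Module.finrank k (Coh.HH X (Coh.structureModule X) 0) : ℤ) +
        (Module.finrank k (Coh.HH X (cokernel s) 0) : ℤ) := by exact_mod_cast hle'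
  linarith

/-- the squaring step -/
theorem eqProp_sq (hdim : topologicalKrullDim X = 1)
    (h0 : Module.finrank k (Coh.HH X (Coh.structureModule X) 0) = 1)
    (M : X.Modules) (h : EqProp k M) :
    EqProp k (CohB1.tensorMod M M) ∧
      Curv2.deg k X (CohB1.tensorMod M M) 1 = 2 * Curv2.deg k X M 1 := by
  obtain ⟨hM, heq, hpos⟩ := h
  haveI := isNoetherian_of_proper k X
  have hO : PicF.IsInvertible (Coh.structureModule X) := TensorInv.isInvertible_structureModule
  have hcO := Groth.Agent.Helper1.SerreFin.isCoh_of_isInvertible _ hO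
  have hcM := Groth.Agent.Helper1.SerreFin.isCoh_of_isInvertible M hM
  haveI : Module.Finite k (Coh.HH X (Coh.structureModule X) 0) :=
    Groth.Agent.S0002.result k X _ hcO 0
  haveI : Module.Finite k (Coh.HH X M 0) := Groth.Agent.S0002.result k X _ hcM 0
  have hs : Nontrivial (Coh.HH X M 0) :=
    Module.nontrivial_of_finrank_pos (R := k) (by omega)
  obtain ⟨s, hs0⟩ := exists_section_of_nontrivial_H0 M hs
  obtain ⟨hmono, hχ, -⟩ := hom_main k X hdim _ M hO hM s hs0
  haveI := hmono
  have hcQ : Coh.IsCoh (cokernel s) := Groth.Agent.Lead.PerfLib.isCoh_cokernel hcO hcM s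
  haveI : Module.Finite k (Coh.HH X (cokernel s) 0) := Groth.Agent.S0002.result k X _ hcQ 0
  have hξ : Subsingleton ((cokernel s).presheaf.stalk (genericPoint X)) :=
    Groth.Agent.Lead.StalkNhd.subsingleton_stalk_cokernel s _
      (NApx81.stalkLin_surjective_genericPoint s hO hM hs0)
  obtain ⟨hpt, -⟩ := closed_points_of_generic_zero k X hdim (cokernel s) hcQ hξ
  have hcl : IsClosed (CohB1.support (cokernel s)) := Groth.Agent.S0020.result X _ hcQ.2
  have hfin : (CohB1.support (cokernel s)).Finite :=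
    Groth.Agent.Helper5.ConstrCurve.finite_of_isClosed_of_notMem hdim.le _ hcl (fun h => h hξ)
  -- `deg M = h⁰(Q)`
  have hdegM : Curv2.deg k X M 1 = (Module.finrank k (Coh.HH X (cokernel s) 0) : ℤ) := by
    unfold Curv2.deg
    rw [hχ]
    push_cast
    ring
  -- surjectivity on `H⁰`
  let S := Groth.Agent.Helper1.Dev.cokSC s
  have hS : S.ShortExact := Groth.Agent.Helper1.Dev.cokSC_shortExact s
  have hsurj : Function.Surjective (Canon.HHlin k (cokernel.π s) 0) := by
    refine surjective_g_of_h0_eq k S hS ?_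
    show Module.finrank k (Coh.HH X M 0) = Module.finrank k (Coh.HH X (Coh.structureModule X) 0) +
      Module.finrank k (Coh.HH X (cokernel s) 0)
    rw [h0]
    have : (Module.finrank k (Coh.HH X M 0) : ℤ) =
        (Module.finrank k (Coh.HH X (cokernel s) 0) : ℤ) + 1 := by rw [heq, hdegM]
    omega
  have hlift := (surjective_HHlin_zero_iff k (cokernel.π s)).1 hsurj
  obtain ⟨t, ht⟩ := exists_generating_section hM s hfin hpt hlift
  -- the support is nonempty
  have hQpos : 0 < Module.finrank k (Coh.HH X (cokernel s) 0) := by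
    have : (0 : ℤ) < (Module.finrank k (Coh.HH X (cokernel s) 0) : ℤ) := by rw [← hdegM]; exact hpos
    exact_mod_cast this
  obtain ⟨y, hy⟩ : ∃ y, y ∈ CohB1.support (cokernel s) := by
    by_contra hne
    push Not at hne
    have hz : IsZero (cokernel s) := Groth.Agent.Helper4.AssDict.isZero_of_subsingleton_stalks _
      (fun x => not_not.mp (hne x))
    have hid : 𝟙 (cokernel s) = 0 := hz.eq_of_src _ _
    have hsub : ∀ x : Coh.HH X (cokernel s) 0, x = 0 := by
      intro x
      have h1 := LinearMap.congr_fun (HHlin_id k (cokernel s) 0) x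
      have hzero : Canon.HHlin k (0 : cokernel s ⟶ cokernel s) 0 = 0 := by
        have := HHlin_smul k (0 : k) (0 : cokernel s ⟶ cokernel s) 0
        rw [zero_smul, zero_smul] at this
        exact this
      rw [hid, hzero] at h1
      exact h1.symm
    haveI : Subsingleton (Coh.HH X (cokernel s) 0) :=
      ⟨fun a b => (hsub a).trans (hsub b).symm⟩
    rw [Module.finrank_zero_of_subsingleton] at hQpos
    exact lt_irrefl 0 hQpos
  have ht0 : t ≠ 0 := by
    rintro rfl
    apply hy
    refine ⟨fun a b => ?_⟩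
    suffices h0 : ∀ c : (cokernel s).presheaf.stalk y, c = 0 by rw [h0 a, h0 b]
    intro c
    obtain ⟨m, rfl⟩ := Groth.Agent.Helper4.EpiStalk.stalkLin_surjective_of_epi (cokernel.π s) y c
    obtain ⟨z, rfl⟩ := ht y hy m
    rw [stalkLin_zero, map_zero]
  haveI hiso : IsIso (KoszTw.tensorMap (𝟙 (cokernel s)) t) :=
    isIso_tensorMap_id hM (cokernel s) t ht0 ht
  let τ : cokernel s ≅ CohB1.tensorMod (cokernel s) M :=
    (SecTwist.unitorR (cokernel s)).symm ≪≫ asIso (KoszTw.tensorMap (𝟙 (cokernel s)) t)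
  -- the tensored sequence
  let S' := S.map (DCoh.tensorRightMod M)
  have hS' : S'.ShortExact := Groth.Agent.Helper1.TwistExact.shortExact_map_tensorRightMod hS M hM
  have hcOM : Coh.IsCoh (CohB1.tensorMod (Coh.structureModule X) M) :=
    Groth.Agent.Lead.Ref1B.isCoh_tensorMod _ _ hcO hcM
  have hcMM : Coh.IsCoh (CohB1.tensorMod M M) := Groth.Agent.Lead.Ref1B.isCoh_tensorMod _ _ hcM hcM
  have hcQM : Coh.IsCoh (CohB1.tensorMod (cokernel s) M) :=
    Groth.Agent.Lead.Ref1B.isCoh_tensorMod _ _ hcQ hcM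
  haveI : Module.Finite k (Coh.HH X S'.X₁ 0) := Groth.Agent.S0002.result k X _ hcOM 0
  haveI : Module.Finite k (Coh.HH X S'.X₂ 0) := Groth.Agent.S0002.result k X _ hcMM 0
  have hg' : S'.g = KoszTw.tensorMap (cokernel.π s) (𝟙 M) := KoszTw.tensorRightMod_map _ M
  have hsurj' : Function.Surjective (Canon.HHlin k S'.g 0) := by
    rw [surjective_HHlin_zero_iff]
    intro r
    obtain ⟨m, hm⟩ := hlift (r ≫ τ.inv)
    refine ⟨SecTwist.tmulHom m t, ?_⟩
    have key := tmulHom_comp_tensorMap m t (cokernel.π s) (𝟙 M)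
    rw [hm, Category.comp_id] at key
    have h1 : SecTwist.tmulHom (r ≫ τ.inv) t = (r ≫ τ.inv) ≫ τ.hom := by
      show _ = (r ≫ τ.inv) ≫ ((SecTwist.unitorR (cokernel s)).inv ≫
        KoszTw.tensorMap (𝟙 (cokernel s)) t)
      rw [← Category.assoc, comp_unitorR_inv, tmulHom_comp_tensorMap, Category.comp_id,
        Category.id_comp]
    have h2 : (r ≫ τ.inv) ≫ τ.hom = r :=
      (Category.assoc r τ.inv τ.hom).trans
        ((congrArg (fun z => r ≫ z) τ.inv_hom_id).trans (Category.comp_id r))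
    exact (congrArg (fun z => SecTwist.tmulHom m t ≫ z) hg').trans (key.trans (h1.trans h2))
  have hh0 := h0_mid_eq_of_surjective k S' hS' hsurj'
  have e1 : Module.finrank k (Coh.HH X S'.X₁ 0) = Module.finrank k (Coh.HH X M 0) :=
    finrank_HH_of_iso k (Groth.Agent.Lead.Ref1B.unitorL M) 0
  have e3 : Module.finrank k (Coh.HH X S'.X₃ 0) = Module.finrank k (Coh.HH X (cokernel s) 0) :=
    (finrank_HH_of_iso k τ 0).symm
  have hh0' : Module.finrank k (Coh.HH X (CohB1.tensorMod M M) 0) =
      Module.finrank k (Coh.HH X M 0) + Module.finrank k (Coh.HH X (cokernel s) 0) := by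
    rw [← e1, ← e3]; exact hh0
  -- Euler characteristics
  have hχ' := chi_add k S' hS' hcOM hcMM hcQM
  have c1 : chi k X S'.X₁ = chi k X M := chi_iso k (Groth.Agent.Lead.Ref1B.unitorL M)
  have c3 : chi k X S'.X₃ = chi k X (cokernel s) := (chi_iso k τ).symm
  have cQ : chi k X (cokernel s) = (Module.finrank k (Coh.HH X (cokernel s) 0) : ℤ) :=
    euler_eq_finrank_h0 k X _ hcQ hpt
  have hdeg2 : Curv2.deg k X (CohB1.tensorMod M M) 1 = 2 * Curv2.deg k X M 1 := by
    have hχ'' : chi k X (CohB1.tensorMod M M) = chi k X M + chi k X (cokernel s) := by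
      rw [← c1, ← c3]; exact hχ'
    unfold chi at hχ'' cQ
    rw [hdegM]
    unfold Curv2.deg
    rw [hχ'', hχ, cQ]
    push_cast
    ring
  refine ⟨⟨TensorInv.isInvertible_tensorMod hM hM, ?_, ?_⟩, hdeg2⟩
  · rw [hdeg2, hh0']
    push_cast
    rw [heq, hdegM]
    ring
  · rw [hdeg2]; linarith

/-- iterated squares -/
noncomputable def sqPow (L : X.Modules) : ℕ → X.Modules
  | 0 => L
  | n + 1 => CohB1.tensorMod (sqPow L n) (sqPow L n)

theorem eqProp_sqPow (hdim : topologicalKrullDim X = 1)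
    (h0 : Module.finrank k (Coh.HH X (Coh.structureModule X) 0) = 1)
    (L : X.Modules) (h : EqProp k L) (n : ℕ) :
    EqProp k (sqPow L n) ∧ Curv2.deg k X (sqPow L n) 1 = 2 ^ n * Curv2.deg k X L 1 := by
  induction n with
  | zero => exact ⟨h, by simp [sqPow]⟩
  | succ n ih =>
    obtain ⟨h1, h2⟩ := eqProp_sq k hdim h0 (sqPow L n) ih.1
    refine ⟨h1, ?_⟩
    show Curv2.deg k X (CohB1.tensorMod (sqPow L n) (sqPow L n)) 1 = _
    rw [h2, ih.2, pow_succ]
    ring

/-- S1564 -/
theorem main1564 (hdim : topologicalKrullDim X = 1)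
    (h0 : Module.finrank k (Coh.HH X (Coh.structureModule X) 0) = 1)
    (L : X.Modules) (hL : PicF.IsInvertible L) (hs : Nontrivial (Coh.HH X L 0)) :
    (Module.finrank k (Coh.HH X L 0) : ℤ) ≤ Curv2.deg k X L 1 + 1 ∧
      ((Module.finrank k (Coh.HH X L 0) : ℤ) = Curv2.deg k X L 1 + 1 → 0 < Curv2.deg k X L 1 →
        Curv2.genus k X = 0) := by
  haveI := isNoetherian_of_proper k X
  refine ⟨?_, fun heq hpos => ?_⟩
  · have := h0_le_h0_unit_add_deg k hdim L hL hs
    rw [h0] at this
    push_cast at this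
    linarith
  · set g := Curv2.genus k X with hg
    obtain ⟨⟨hP, hPeq, hPpos⟩, hPdeg⟩ := eqProp_sqPow k hdim h0 L ⟨hL, heq, hpos⟩ g
    have hpow : (g : ℤ) < 2 ^ g := by exact_mod_cast Nat.lt_two_pow_self
    have hbig : (g : ℤ) < (Module.finrank k (Coh.HH X (sqPow L g) 0) : ℤ) := by
      rw [hPeq, hPdeg]
      nlinarith
    haveI hH1 : Subsingleton (Coh.HH X (sqPow L g) 1) :=
      main11823 k hdim (sqPow L g) hP (by rw [← hg]; exact_mod_cast hbig)
    have hχP := chi_eq_h0_sub_h1 k hdim.le (sqPow L g)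
    have hχO := chi_eq_h0_sub_h1 k hdim.le (Coh.structureModule X)
    unfold chi at hχP hχO
    have hz : Module.finrank k (Coh.HH X (sqPow L g) 1) = 0 := Module.finrank_zero_of_subsingleton
    have hdegP : Curv2.deg k X (sqPow L g) 1 =
        (Module.finrank k (Coh.HH X (sqPow L g) 0) : ℤ) - 1 + (g : ℤ) := by
      unfold Curv2.deg
      rw [hχP, hχO, h0, hz, hg]
      unfold Curv2.genus
      push_cast
      ring
    have : (g : ℤ) = 0 := by linarith
    exact_mod_cast this

end Groth.Agent.Helper4.SN
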