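import Mathlib
import Groth.Agent.Helper4.SN60
import Groth.Agent.Helper4.SN27
import Groth.Agent.Helper4.TensorAssoc
import Groth.Agent.Helper4.AmpleFinite
import Groth.Agent.Helper4.AssFin
import Groth.Agent.Helper4.AssRes
import Groth.Agent.Helper4.AssMono
import Groth.Agent.Helper4.AssExact
import Groth.Agent.Helper4.InvOfTensor
import Groth.Agent.Helper4.FinLocFree2
import Groth.Agent.Helper1.Dev9
import Groth.Agent.S0002

/-!
# Vanishing of `H⁰` of large negative twists of a coherent module without closed associated points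
-/

set_option autoImplicit false
set_option linter.style.haveILetI false

namespace Groth.Agent.Helper4.SN

open CategoryTheory Limits AlgebraicGeometry Opposite TopologicalSpace TensorProduct
open Groth.Agent.Helper4.NApx82 Groth.Agent.Helper4.StalkDict Groth.Agent.Helper4.TwistExt
  Groth.Agent.Helper4.GenLoc Groth.Agent.Lead.Ref1B
  Groth.Agent.Helper9.SkyMod4 Groth.Agent.Helper9.SkyMod5 Groth.Agent.Helper9.StalkTensor8

universe u

section StalkTensor

variable {X : Scheme.{u}}

/-- the stalk of a tensor product of morphisms on pure tensors -/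
theorem stalkLin_tensorMap_tmul {M M' N N' : X.Modules} (φ : M ⟶ M') (ψ : N ⟶ N') (x : X)
    (m : M.presheaf.stalk x) (n : N.presheaf.stalk x) :
    stalkLin (KoszTw.tensorMap φ ψ) x (stalkTensorEquiv M N x (m ⊗ₜ n)) =
      stalkTensorEquiv M' N' x (stalkLin φ x m ⊗ₜ stalkLin ψ x n) := by
  have h := stIso_natural x φ ψ
  have h2 := congrArg (fun f => f.hom (m ⊗ₜ n)) h
  exact h2.symm

/-- outside of the generating locus, the germ of a section of an invertible module lies in the
maximal ideal times the stalk -/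
theorem stalkLin_mem_maximalIdeal_smul {A : X.Modules} (hA : PicF.IsInvertible A)
    (t : Coh.structureModule X ⟶ A) (x : X) (hx : x ∉ CohB1.genLocus A t)
    (n : (Coh.structureModule X).presheaf.stalk x) :
    stalkLin t x n ∈ (IsLocalRing.maximalIdeal (X.presheaf.stalk x)) •
      (⊤ : Submodule (X.presheaf.stalk x) (A.presheaf.stalk x)) := by
  obtain ⟨T, e, hxT, -, hf, hall⟩ := Groth.Agent.Helper4.AmpleFinite.exists_chart_forall A hA x
  obtain ⟨b, hb, hbo⟩ := hall t
  obtain ⟨W, hxW, c, rfl⟩ := TopCat.Presheaf.exists_germ_eq (Coh.structureModule X).presheaf n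
  rw [stalkLin_unit_germ t x W hxW c]
  have h1 : A.presheaf.germ ⊤ x trivial (sec1 A t) = A.presheaf.germ T x hxT (SecTwist.val t T) := by
    have := Groth.Agent.Helper4.QcqsMod.germ_res A (le_top : T ≤ ⊤) x hxT (sec1 A t)
    rw [← this]
    congr 1
    exact SecTwist.map_val t (homOfLE (le_top : T ≤ ⊤))
  rw [h1, hb, germ_smul, smul_smul]
  apply Submodule.smul_mem_smul _ Submodule.mem_top
  apply Ideal.mul_mem_left
  rw [IsLocalRing.mem_maximalIdeal, mem_nonunits_iff]
  intro hu
  apply hx
  have : x ∈ X.basicOpen b := (X.mem_basicOpen b x hxT).mpr hu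
  rw [hbo] at this
  exact this.1

/-- outside of the generating locus of `t`, the stalk of `id ⊗ t` has image in the maximal ideal
times the stalk -/
theorem stalkLin_tensorMap_mem {A : X.Modules} (hA : PicF.IsInvertible A)
    (t : Coh.structureModule X ⟶ A) (G : X.Modules) (x : X) (hx : x ∉ CohB1.genLocus A t)
    (z : (CohB1.tensorMod G (Coh.structureModule X)).presheaf.stalk x) :
    stalkLin (KoszTw.tensorMap (𝟙 G) t) x z ∈ (IsLocalRing.maximalIdeal (X.presheaf.stalk x)) •
      (⊤ : Submodule (X.presheaf.stalk x) ((CohB1.tensorMod G A).presheaf.stalk x)) := by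
  obtain ⟨w, rfl⟩ := (stalkTensorEquiv G (Coh.structureModule X) x).surjective z
  induction w using TensorProduct.induction_on with
  | zero => rw [map_zero, map_zero]; exact Submodule.zero_mem _
  | tmul g n =>
    rw [stalkLin_tensorMap_tmul]
    have h1 := stalkLin_mem_maximalIdeal_smul hA t x hx n
    -- g ⊗ (element of m • ⊤) lies in m • ⊤
    have h2 : ∀ a ∈ (IsLocalRing.maximalIdeal (X.presheaf.stalk x)) •
        (⊤ : Submodule (X.presheaf.stalk x) (A.presheaf.stalk x)),
        stalkTensorEquiv G A x (stalkLin (𝟙 G) x g ⊗ₜ a) ∈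
          (IsLocalRing.maximalIdeal (X.presheaf.stalk x)) •
            (⊤ : Submodule (X.presheaf.stalk x) ((CohB1.tensorMod G A).presheaf.stalk x)) := by
      intro a ha
      refine Submodule.smul_induction_on ha ?_ ?_
      · intro r hr a' _
        rw [TensorProduct.tmul_smul, map_smul]
        exact Submodule.smul_mem_smul hr Submodule.mem_top
      · intro a' a'' ha' ha''
        rw [TensorProduct.tmul_add, map_add]
        exact Submodule.add_mem _ ha' ha''
    exact h2 _ h1
  | add w w' hw hw' =>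
    rw [map_add, map_add]
    exact Submodule.add_mem _ hw hw'

end StalkTensor

section Geo

/-- on a scheme universally closed over a field, a point whose closure lies in an affine open is
closed -/
theorem isClosed_singleton_of_closure_subset_affine (k : Type u) [Field k] {X : Scheme.{u}}
    (f : X ⟶ Spec (CommRingCat.of k)) [UniversallyClosed f]
    (y : X) (U : X.Opens) (hU : IsAffineOpen U) (h : closure ({y} : Set X) ⊆ U) :
    IsClosed ({y} : Set X) := by
  let Y : Closeds X := ⟨closure {y}, isClosed_closure⟩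
  have hirr : IsIrreducible (Y : Set X) := isIrreducible_singleton.closure
  haveI := Groth.Agent.Helper1.Dev.isIntegral_subscheme Y hirr
  set I := Scheme.IdealSheafData.vanishingIdeal Y with hI
  have hrange : Set.range I.subschemeι = closure ({y} : Set X) :=
    Groth.Agent.Helper1.Dev.range_ι_vanishingIdeal Y
  have hsub : Set.range I.subschemeι ⊆ Set.range U.ι := by
    rw [hrange, Scheme.Opens.range_ι]
    exact h
  let g : I.subscheme ⟶ (U : Scheme.{u}) := IsOpenImmersion.lift U.ι I.subschemeι hsub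
  have hg : g ≫ U.ι = I.subschemeι := IsOpenImmersion.lift_fac _ _ _
  haveI : IsClosedImmersion (g ≫ U.ι) := by rw [hg]; infer_instance
  haveI : IsClosedImmersion g := IsClosedImmersion.of_comp g U.ι
  haveI : IsAffine (U : Scheme.{u}) := hU
  haveI : IsAffine I.subscheme := isAffine_of_isAffineHom g
  haveI : UniversallyClosed (I.subschemeι ≫ f) := inferInstance
  have hfield := isField_of_universallyClosed k (I.subschemeι ≫ f)
  letI := hfield.toField
  haveI : Subsingleton I.subscheme := by
    have e := (I.subscheme.isoSpec).hom.homeomorph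
    haveI : Subsingleton (Spec Γ(I.subscheme, ⊤)) := by
      change Subsingleton (PrimeSpectrum Γ(I.subscheme, ⊤))
      infer_instance
    exact e.injective.subsingleton
  have hy : y ∈ Set.range I.subschemeι := by rw [hrange]; exact subset_closure rfl
  have : closure ({y} : Set X) = {y} := by
    apply Set.Subset.antisymm
    · intro z hz
      rw [← hrange] at hz
      obtain ⟨a, rfl⟩ := hz
      obtain ⟨b, hb⟩ := hy
      rw [Subsingleton.elim a b, hb]
      rfl
    · exact subset_closure
  rw [← this]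
  exact isClosed_closure


end Geo

section Core

variable (k : Type u) [Field k] {X : Scheme.{u}} [X.Over (Spec (CommRingCat.of k))]
  [IsProper (X ↘ (Spec (CommRingCat.of k)))]

include k in
/-- a global section of a quasi-coherent module without closed associated points, vanishing at all
points outside of an affine open, is zero -/
theorem eq_zero_of_stalk_zero_off_affine (G : X.Modules) [G.IsQuasicoherent] (U : X.Opens)
    (hU : IsAffineOpen U)
    (hass : ∀ x : X, Curv2.IsAssPoint G x → ¬ IsClosed ({x} : Set X))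
    (s : Coh.structureModule X ⟶ G)
    (hs : ∀ x : X, x ∉ U → ∀ n, stalkLin s x n = 0) : s = 0 := by
  apply eq_zero_of_sec1
  apply Groth.Agent.Helper4.AssRes.section_eq_zero_of_germ_assPoint G ⊤ (sec1 G s)
  intro y _ hy
  by_contra hne
  -- the germ of `sec1` in terms of `stalkLin`
  have hgerm : ∀ z : X, stalkLin s z ((Coh.structureModule X).presheaf.germ ⊤ z trivial (one X ⊤)) =
      G.presheaf.germ ⊤ z trivial (sec1 G s) := by
    intro z
    have h0 := stalkLin_unit_germ s z ⊤ trivial (one X ⊤)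
    have h1 : X.presheaf.germ ⊤ z trivial (toFn (one X ⊤)) = 1 := map_one _
    rw [h1, one_smul] at h0
    exact h0
  apply hass y hy
  apply isClosed_singleton_of_closure_subset_affine k (X ↘ (Spec (CommRingCat.of k))) y U hU
  intro z hz
  by_contra hzU
  have h0 := hs z hzU ((Coh.structureModule X).presheaf.germ ⊤ z trivial (one X ⊤))
  rw [hgerm z] at h0
  obtain ⟨W, hzW, iU, iV, hW⟩ := TopCat.Presheaf.germ_eq G.presheaf z
    (show z ∈ (⊤ : X.Opens) from trivial) (show z ∈ (⊤ : X.Opens) from trivial)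
    (sec1 G s) 0 (by rw [map_zero]; exact h0)
  have hyz : y ⤳ z := specializes_iff_mem_closure.mpr hz
  have hyW : y ∈ W := hyz.mem_open W.isOpen hzW
  apply hne
  have h2 := Groth.Agent.Helper4.QcqsMod.germ_res G (le_top : W ≤ ⊤) y hyW (sec1 G s)
  rw [← h2]
  have h3 : G.presheaf.map (homOfLE (le_top : W ≤ ⊤)).op (sec1 G s) = 0 := by
    have hiU : iU = homOfLE (le_top : W ≤ ⊤) := Subsingleton.elim _ _
    rw [hiU, map_zero] at hW
    exact hW
  rw [h3, map_zero]

/-- multiplication by a section `t` of `A`, from `G'` to `G ≅ G' ⊗ A` -/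
noncomputable def mulT {A : X.Modules} (t : Coh.structureModule X ⟶ A) {G' G : X.Modules}
    (e : CohB1.tensorMod G' A ≅ G) : G' ⟶ G :=
  (SecTwist.unitorR G').inv ≫ KoszTw.tensorMap (𝟙 G') t ≫ e.hom

omit [IsProper (X ↘ (Spec (CommRingCat.of k)))] in
/-- a linear map preserves multiples of an ideal -/
theorem map_mem_smul_top {R M N : Type*} [CommRing R] [AddCommGroup M] [Module R M]
    [AddCommGroup N] [Module R N] (f : M →ₗ[R] N) (I : Ideal R) (m : M)
    (hm : m ∈ I • (⊤ : Submodule R M)) : f m ∈ I • (⊤ : Submodule R N) := by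
  refine Submodule.smul_induction_on hm ?_ ?_
  · intro r hr a _
    rw [map_smul]
    exact Submodule.smul_mem_smul hr Submodule.mem_top
  · intro a b ha hb
    rw [map_add]
    exact Submodule.add_mem _ ha hb

/-- a linear map with image in `I • ⊤` maps `J • ⊤` into `(J * I) • ⊤` -/
theorem map_mem_mul_smul_top {R M N : Type*} [CommRing R] [AddCommGroup M] [Module R M]
    [AddCommGroup N] [Module R N] (f : M →ₗ[R] N) (I J : Ideal R)
    (hf : ∀ m, f m ∈ I • (⊤ : Submodule R N)) (m : M)
    (hm : m ∈ J • (⊤ : Submodule R M)) : f m ∈ (J * I) • (⊤ : Submodule R N) := by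
  refine Submodule.smul_induction_on hm ?_ ?_
  · intro r hr a _
    rw [map_smul, mul_smul]
    exact Submodule.smul_mem_smul hr (hf a)
  · intro a b ha hb
    rw [map_add]
    exact Submodule.add_mem _ ha hb

omit [IsProper (X ↘ (Spec (CommRingCat.of k)))] in
/-- outside of the generating locus of `t`, multiplication by `t` has image in the maximal ideal
times the stalk -/
theorem stalkLin_mulT_mem {A : X.Modules} (hA : PicF.IsInvertible A)
    (t : Coh.structureModule X ⟶ A) {G' G : X.Modules} (e : CohB1.tensorMod G' A ≅ G) (x : X)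
    (hx : x ∉ CohB1.genLocus A t) (z : G'.presheaf.stalk x) :
    stalkLin (mulT t e) x z ∈ (IsLocalRing.maximalIdeal (X.presheaf.stalk x)) •
      (⊤ : Submodule (X.presheaf.stalk x) (G.presheaf.stalk x)) := by
  unfold mulT
  rw [Groth.Agent.Lead.StalkNhd.stalkLin_comp, Groth.Agent.Lead.StalkNhd.stalkLin_comp]
  apply map_mem_smul_top
  exact stalkLin_tensorMap_mem hA t G' x hx _

omit [IsProper (X ↘ (Spec (CommRingCat.of k)))] in
/-- multiplication by `t` is a monomorphism when the associated points lie in the generating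
locus -/
theorem mono_mulT {A : X.Modules} (t : Coh.structureModule X ⟶ A) {G' G : X.Modules}
    [G'.IsQuasicoherent] [G.IsQuasicoherent] (e : CohB1.tensorMod G' A ≅ G)
    (hass : ∀ x : X, Curv2.IsAssPoint G' x → x ∈ CohB1.genLocus A t) : Mono (mulT t e) := by
  apply Groth.Agent.Helper4.AssMono.mono_of_off_ass
  intro x hx
  have hxU := hass x hx
  have h1 : Function.Bijective (stalkLin t x) :=
    Groth.Agent.Helper1.Dev.stalkLin_bijective_of_isIso_restrict t _
      (Groth.Agent.Helper4.GenLocIso.isIso_restrict_genLocus A t) x hxU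
  have h2 : Function.Bijective (stalkLin (𝟙 G') x) := by
    constructor
    · intro a b hab
      rwa [Groth.Agent.Helper1.Dev.stalkLin_id, Groth.Agent.Helper1.Dev.stalkLin_id] at hab
    · intro a
      exact ⟨a, Groth.Agent.Helper1.Dev.stalkLin_id _ _ _⟩
  have h3 : Function.Bijective (stalkLin (KoszTw.tensorMap (𝟙 G') t) x) :=
    bijective_stalkMapₗ_tensorMap (𝟙 G') t x h2 h1
  unfold mulT
  intro a b hab
  rw [Groth.Agent.Lead.StalkNhd.stalkLin_comp, Groth.Agent.Lead.StalkNhd.stalkLin_comp,
    Groth.Agent.Lead.StalkNhd.stalkLin_comp, Groth.Agent.Lead.StalkNhd.stalkLin_comp] at hab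
  have i1 := (Groth.Agent.Helper1.Dev.stalkLin_bijective_of_isIso e.hom x).1
  have i2 := (Groth.Agent.Helper1.Dev.stalkLin_bijective_of_isIso (SecTwist.unitorR G').inv x).1
  exact i2 (h3.1 (i1 hab))

/-- an antitone sequence of natural numbers is eventually constant -/
theorem exists_eventually_const (d : ℕ → ℕ) (hd : ∀ j, d (j + 1) ≤ d j) :
    ∃ J, ∀ j, J ≤ j → d (j + 1) = d j := by
  by_contra hcon
  push Not at hcon
  have hlt : ∀ J, ∃ j, J ≤ j ∧ d (j + 1) < d j := by
    intro J
    obtain ⟨j, hj, hne⟩ := hcon J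
    exact ⟨j, hj, lt_of_le_of_ne (hd j) hne⟩
  have hanti : ∀ i j, i ≤ j → d j ≤ d i := by
    intro i j hij
    induction hij with
    | refl => exact le_rfl
    | step _ ih => exact (hd _).trans ih
  -- build a strictly decreasing sequence
  have key : ∀ n : ℕ, ∃ j, d j + n ≤ d 0 := by
    intro n
    induction n with
    | zero => exact ⟨0, le_rfl⟩
    | succ n ih =>
      obtain ⟨j, hj⟩ := ih
      obtain ⟨j', hj', hlt'⟩ := hlt j
      refine ⟨j' + 1, ?_⟩
      have := hanti j j' hj'
      omega
  obtain ⟨j, hj⟩ := key (d 0 + 1)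
  omega

include k in
/-- **the core**: vanishing of sections of a system `G j` with `G (j+1) ⊗ A ≅ G j` -/
theorem core7679 {A : X.Modules} (hA : PicF.IsInvertible A) (t : Coh.structureModule X ⟶ A)
    (haff : IsAffineOpen (CohB1.genLocus A t))
    (G : ℕ → X.Modules) (hG : ∀ j, Coh.IsCoh (G j))
    (hass : ∀ j x, Curv2.IsAssPoint (G j) x →
      x ∈ CohB1.genLocus A t ∧ ¬ IsClosed ({x} : Set X))
    (e : ∀ j, CohB1.tensorMod (G (j + 1)) A ≅ G j) :
    ∃ j₀, ∀ j, j₀ ≤ j → Subsingleton (Coh.structureModule X ⟶ G j) := by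
  haveI := Groth.Agent.Helper4.NApx82.isNoetherian_of_proper k X
  haveI : ∀ j, (G j).IsQuasicoherent := fun j => (hG j).1
  have hcO : Coh.IsCoh (Coh.structureModule X) :=
    Groth.Agent.Helper1.SerreFin.isCoh_of_isInvertible _
      Groth.Agent.Helper4.TensorInv.isInvertible_structureModule
  haveI : ∀ j, Module.Finite k (Coh.structureModule X ⟶ G j) := fun j =>
    finite_hom k _ _ hcO (hG j)
  let T : ∀ j, G (j + 1) ⟶ G j := fun j => mulT t (e j)
  haveI hmono : ∀ j, Mono (T j) := fun j => mono_mulT t (e j) (fun x hx => (hass (j + 1) x hx).1)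
  let P : ∀ j, (Coh.structureModule X ⟶ G (j + 1)) →ₗ[k] (Coh.structureModule X ⟶ G j) :=
    fun j => Linear.rightComp k (Coh.structureModule X) (T j)
  have hPinj : ∀ j, Function.Injective (P j) := by
    intro j a b hab
    exact (cancel_mono (T j)).mp hab
  let d : ℕ → ℕ := fun j => Module.finrank k (Coh.structureModule X ⟶ G j)
  have hd : ∀ j, d (j + 1) ≤ d j := fun j =>
    LinearMap.finrank_le_finrank_of_injective (hPinj j)
  obtain ⟨J, hJ⟩ := exists_eventually_const d hd
  have hPsurj : ∀ j, J ≤ j → Function.Surjective (P j) := by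
    intro j hj
    exact (LinearMap.injective_iff_surjective_of_finrank_eq_finrank (hJ j hj)).mp (hPinj j)
  refine ⟨J, fun j hj => ?_⟩
  -- divisibility
  have hdiv : ∀ (i : ℕ) (j : ℕ), J ≤ j → ∀ (s : Coh.structureModule X ⟶ G j) (x : X),
      x ∉ CohB1.genLocus A t → ∀ n, stalkLin s x n ∈
        (IsLocalRing.maximalIdeal (X.presheaf.stalk x)) ^ i •
          (⊤ : Submodule (X.presheaf.stalk x) ((G j).presheaf.stalk x)) := by
    intro i
    induction i with
    | zero =>
      intro j _ s x _ n
      rw [pow_zero, Ideal.one_eq_top, Submodule.top_smul]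
      exact Submodule.mem_top
    | succ i ih =>
      intro j hj s x hx n
      obtain ⟨s', rfl⟩ := hPsurj j hj s
      change stalkLin (s' ≫ T j) x n ∈ _
      rw [Groth.Agent.Lead.StalkNhd.stalkLin_comp, pow_succ]
      exact map_mem_mul_smul_top (stalkLin (T j) x) _ _
        (fun z => stalkLin_mulT_mem hA t (e j) x hx z) _ (ih (j + 1) (by omega) s' x hx n)
  refine ⟨fun s s' => ?_⟩
  have hz : ∀ s : Coh.structureModule X ⟶ G j, s = 0 := by
    intro s
    apply eq_zero_of_stalk_zero_off_affine k (G j) _ haff (fun x hx => (hass j x hx).2) s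
    intro x hx n
    haveI : Module.Finite (X.presheaf.stalk x) ((G j).presheaf.stalk x) :=
      Groth.Agent.Helper4.FinLocFree2.finite_stalk (G j) (hG j).2 x
    have hkrull := Ideal.iInf_pow_smul_eq_bot_of_isLocalRing
      (M := (G j).presheaf.stalk x) (IsLocalRing.maximalIdeal (X.presheaf.stalk x))
      (IsLocalRing.maximalIdeal.isMaximal _).ne_top
    have hmem : stalkLin s x n ∈ (⨅ i : ℕ, (IsLocalRing.maximalIdeal (X.presheaf.stalk x)) ^ i •
        (⊤ : Submodule (X.presheaf.stalk x) ((G j).presheaf.stalk x))) := by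
      rw [Submodule.mem_iInf]
      intro i
      exact hdiv i j hj s x hx n
    rw [hkrull] at hmem
    exact hmem
  rw [hz s, hz s']

end Core

section Powers

variable {X : Scheme.{u}}

open Groth.Agent.Helper4.TensorAssoc Groth.Agent.Helper4.TensorInv

/-- powers of mutually inverse modules are mutually inverse -/
noncomputable def invPowIso {L M : X.Modules} (hL : PicF.IsInvertible L) (hM : PicF.IsInvertible M)
    (e : CohB1.tensorMod L M ≅ Coh.structureModule X) :
    ∀ r : ℕ, CohB1.tensorMod (CohB1.tensorPow M r) (CohB1.tensorPow L r) ≅ Coh.structureModule X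
  | 0 => SecTwist.unitorR _
  | r + 1 =>
    -- (M^r ⊗ M) ⊗ (L^r ⊗ L) ≅ M^r ⊗ (M ⊗ (L^r ⊗ L)) ≅ M^r ⊗ ((M ⊗ L^r) ⊗ L)
    --   ≅ M^r ⊗ ((L^r ⊗ M) ⊗ L) ≅ M^r ⊗ (L^r ⊗ (M ⊗ L)) ≅ M^r ⊗ (L^r ⊗ O) ≅ M^r ⊗ L^r ≅ O
    assocIso (CohB1.tensorPow M r) M (CohB1.tensorMod (CohB1.tensorPow L r) L) hM
        (isInvertible_tensorMod (isInvertible_tensorPow hL r) hL) ≪≫
      PicGrp.tensorModIso (Iso.refl (CohB1.tensorPow M r))
        ((assocIso M (CohB1.tensorPow L r) L (isInvertible_tensorPow hL r) hL).symm ≪≫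
          PicGrp.tensorModIso (braid M (CohB1.tensorPow L r)) (Iso.refl L) ≪≫
          assocIso (CohB1.tensorPow L r) M L hM hL ≪≫
          PicGrp.tensorModIso (Iso.refl (CohB1.tensorPow L r)) (braid M L ≪≫ e) ≪≫
          SecTwist.unitorR (CohB1.tensorPow L r)) ≪≫
      invPowIso hL hM e r

end Powers

section Main

variable (k : Type u) [Field k] {X : Scheme.{u}} [X.Over (Spec (CommRingCat.of k))]
  [IsProper (X ↘ (Spec (CommRingCat.of k)))]

open Groth.Agent.Helper4.TensorAssoc Groth.Agent.Helper4.TensorInv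

include k in
/-- the main step, for a given section `t` of `L^r` -/
theorem main7679_aux (L M : X.Modules) (hLinv : PicF.IsInvertible L) (hMinv : PicF.IsInvertible M)
    (e₀ : CohB1.tensorMod L M ≅ Coh.structureModule X) (F : X.Modules) (hF : Coh.IsCoh F)
    (hass : ∀ x : X, IsClosed ({x} : Set X) → ¬ Curv2.IsAssPoint F x)
    (r : ℕ) (hrpos : 0 < r) (t : Coh.structureModule X ⟶ CohB1.tensorPow L r)
    (hZt : ∀ x : X, Curv2.IsAssPoint F x → x ∈ CohB1.genLocus _ t)
    (haff : IsAffineOpen (CohB1.genLocus _ t)) :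
    ∃ n₀ : ℕ, ∀ n : ℕ, n₀ ≤ n →
      Subsingleton (Coh.HH X (CohB1.tensorMod F (CohB1.tensorPow M n)) 0) := by
  haveI := Groth.Agent.Helper4.NApx82.isNoetherian_of_proper k X
  haveI := hF.1
  have hA : PicF.IsInvertible (CohB1.tensorPow L r) := isInvertible_tensorPow hLinv r
  have hB : PicF.IsInvertible (CohB1.tensorPow M r) := isInvertible_tensorPow hMinv r
  let eBA : CohB1.tensorMod (CohB1.tensorPow M r) (CohB1.tensorPow L r) ≅ Coh.structureModule X :=
    invPowIso hLinv hMinv e₀ r
  have hcoh : ∀ N : X.Modules, PicF.IsInvertible N → Coh.IsCoh N := fun N hN =>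
    Groth.Agent.Helper1.SerreFin.isCoh_of_isInvertible _ hN
  -- the systems
  let G : ℕ → ℕ → X.Modules := fun n₀ j =>
    CohB1.tensorMod (CohB1.tensorMod F (CohB1.tensorPow M n₀))
      (CohB1.tensorPow (CohB1.tensorPow M r) j)
  have hG : ∀ n₀ j, Coh.IsCoh (G n₀ j) := fun n₀ j =>
    isCoh_tensorMod _ _ (isCoh_tensorMod _ _ hF (hcoh _ (isInvertible_tensorPow hMinv n₀)))
      (hcoh _ (isInvertible_tensorPow hB j))
  have hassG : ∀ n₀ j x, Curv2.IsAssPoint (G n₀ j) x → Curv2.IsAssPoint F x := by
    intro n₀ j x hx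
    have h1 := Groth.Agent.Helper4.AssExact.isAssPoint_of_mono (braid _ _).hom x hx
    have h2 := isAssPoint_of_tensor_invertible _ _ (isInvertible_tensorPow hB j) x h1
    have h3 := Groth.Agent.Helper4.AssExact.isAssPoint_of_mono (braid _ _).hom x h2
    exact isAssPoint_of_tensor_invertible _ _ (isInvertible_tensorPow hMinv n₀) x h3
  let e : ∀ n₀ j, CohB1.tensorMod (G n₀ (j + 1)) (CohB1.tensorPow L r) ≅ G n₀ j := fun n₀ j =>
    assocIso (CohB1.tensorMod F (CohB1.tensorPow M n₀))
        (CohB1.tensorMod (CohB1.tensorPow (CohB1.tensorPow M r) j) (CohB1.tensorPow M r))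
        (CohB1.tensorPow L r)
        (isInvertible_tensorMod (isInvertible_tensorPow hB j) hB) hA ≪≫
      PicGrp.tensorModIso (Iso.refl _)
        (assocIso (CohB1.tensorPow (CohB1.tensorPow M r) j) (CohB1.tensorPow M r)
            (CohB1.tensorPow L r) hB hA ≪≫
          PicGrp.tensorModIso (Iso.refl _) eBA ≪≫ SecTwist.unitorR _)
  have hcore : ∀ n₀, ∃ j₀, ∀ j, j₀ ≤ j → Subsingleton (Coh.structureModule X ⟶ G n₀ j) := by
    intro n₀
    refine core7679 k hA t haff (G n₀) (hG n₀) ?_ (e n₀)
    intro j x hx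
    have hxF := hassG n₀ j x hx
    exact ⟨hZt x hxF, fun hcl => hass x hcl hxF⟩
  choose j₀ hj₀ using hcore
  -- comparison with the twists of `F`
  let c : ∀ n₀ j, G n₀ j ≅ CohB1.tensorMod F (CohB1.tensorPow M (n₀ + r * j)) := fun n₀ j =>
    assocIso F (CohB1.tensorPow M n₀) (CohB1.tensorPow (CohB1.tensorPow M r) j)
        (isInvertible_tensorPow hMinv n₀) (isInvertible_tensorPow hB j) ≪≫
      PicGrp.tensorModIso (Iso.refl F)
        (PicGrp.tensorModIso (Iso.refl _) (powMulIso M hMinv r j) ≪≫ powAddIso M hMinv n₀ (r * j))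
  let Jmax := (Finset.range r).sup j₀
  refine ⟨r * Jmax, fun n hn => ?_⟩
  have hn' : n % r + r * (n / r) = n := Nat.mod_add_div n r
  have hlt : n % r < r := Nat.mod_lt n hrpos
  have hj : j₀ (n % r) ≤ n / r := by
    have h1 : j₀ (n % r) ≤ Jmax := Finset.le_sup (f := j₀) (Finset.mem_range.mpr hlt)
    have h2 : Jmax ≤ n / r := by
      rw [Nat.le_div_iff_mul_le hrpos, Nat.mul_comm]
      exact hn
    exact h1.trans h2
  have hsub := hj₀ (n % r) (n / r) hj
  have hsub2 : Subsingleton (Coh.structureModule X ⟶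
      CohB1.tensorMod F (CohB1.tensorPow M (n % r + r * (n / r)))) := by
    refine ⟨fun a b => ?_⟩
    have := hsub.elim (a ≫ (c (n % r) (n / r)).inv) (b ≫ (c (n % r) (n / r)).inv)
    exact (cancel_mono (c (n % r) (n / r)).inv).mp this
  rw [hn'] at hsub2
  refine ⟨fun a b => ?_⟩
  obtain ⟨a', rfl⟩ := evalH0_surjective k _ a
  obtain ⟨b', rfl⟩ := evalH0_surjective k _ b
  rw [hsub2.elim a' b']

include k in
/-- **S7679** -/
theorem main7679 (L : X.Modules) (hL : CohB1.IsAmple L) (M : X.Modules)
    (hM : ClSub.IsInverseOf L M) (F : X.Modules) (hF : Coh.IsCoh F)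
    (hass : ∀ x : X, IsClosed ({x} : Set X) → ¬ Curv2.IsAssPoint F x) :
    ∃ n₀ : ℕ, ∀ n : ℕ, n₀ ≤ n →
      Subsingleton (Coh.HH X (CohB1.tensorMod F (CohB1.tensorPow M n)) 0) := by
  haveI := Groth.Agent.Helper4.NApx82.isNoetherian_of_proper k X
  have hLinv := hL.1
  obtain ⟨e₀⟩ := hM
  have hMinv : PicF.IsInvertible M :=
    Groth.Agent.Helper4.InvOfTensor.isInvertible_of_tensor_iso M L (braid M L ≪≫ e₀)
  haveI := hF.1
  have hfin : {x : X | x ∈ (⊤ : X.Opens) ∧ Curv2.IsAssPoint F x}.Finite :=
    Groth.Agent.Helper4.AssFin.finite_assPoints_of_isCompact F hF.1 hF.2 ⊤ isCompact_univ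
  obtain ⟨m, t, hZt, -, haff⟩ :=
    Groth.Agent.Helper4.AmpleFinite.exists_affine_genLocus_of_finite hL _ hfin ⊤
      (fun _ _ => trivial)
  exact main7679_aux k L M hLinv hMinv e₀ F hF hass (m + 1) (Nat.succ_pos m) t
    (fun x hx => hZt ⟨trivial, hx⟩) haff

end Main

end Groth.Agent.Helper4.SN
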