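import Mathlib
import Groth.Agent.Helper4.SN62
import Groth.Agent.Helper4.SN31
import Groth.Agent.Helper4.H1Twist

/-!
# On a proper integral curve, an invertible module is ample iff its degree is positive
-/

set_option autoImplicit false
set_option linter.style.haveILetI false

namespace Groth.Agent.Helper4.SN

open CategoryTheory Limits AlgebraicGeometry Opposite TopologicalSpace TensorProduct
open Groth.Agent.Helper4.NApx82 Groth.Agent.Helper4.StalkDict Groth.Agent.Helper4.TwistExt
  Groth.Agent.Helper4.GenLoc Groth.Agent.Lead.Ref1B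

universe u

section Van

variable (k : Type u) [Field k] {X : Scheme.{u}} [X.Over (Spec (CommRingCat.of k))]
  [IsIntegral X] [IsProper (X ↘ (Spec (CommRingCat.of k)))]

/-- a nonzero section of a coherent submodule of an invertible module on a proper integral curve
induces a surjection on `H¹` -/
theorem HHlin_one_surjective_of_sub (hdim : topologicalKrullDim X = 1) (F B : X.Modules)
    (hF : Coh.IsCoh F) (hB : PicF.IsInvertible B) (j : F ⟶ B) [Mono j]
    (s : Coh.structureModule X ⟶ F) (hs : s ≠ 0) :
    Function.Surjective (Canon.HHlin k s 1) := by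
  haveI := isNoetherian_of_proper k X
  have hO : PicF.IsInvertible (Coh.structureModule X) := TensorInv.isInvertible_structureModule
  have hcO := Groth.Agent.Helper1.SerreFin.isCoh_of_isInvertible _ hO
  have hsj : s ≫ j ≠ 0 := by
    intro h
    apply hs
    rw [← cancel_mono j, h, zero_comp]
  haveI hmono2 : Mono (s ≫ j) := NApx81.mono_of_ne_zero (s ≫ j) hO hB hsj
  haveI hmono : Mono s := mono_of_mono s j
  have hcQ : Coh.IsCoh (cokernel s) := Groth.Agent.Lead.PerfLib.isCoh_cokernel hcO hF s
  have hsurj : Function.Surjective (stalkLin s (genericPoint X)) := by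
    intro t
    obtain ⟨u, hu⟩ := NApx81.stalkLin_surjective_genericPoint (s ≫ j) hO hB hsj
      (stalkLin j (genericPoint X) t)
    rw [Groth.Agent.Lead.StalkNhd.stalkLin_comp] at hu
    exact ⟨u, Groth.Agent.Helper4.StalkExact.stalkLin_injective j (genericPoint X) hu⟩
  have hξ : Subsingleton ((cokernel s).presheaf.stalk (genericPoint X)) :=
    Groth.Agent.Lead.StalkNhd.subsingleton_stalk_cokernel s _ hsurj
  obtain ⟨hpt, -⟩ := closed_points_of_generic_zero k X hdim (cokernel s) hcQ hξ
  haveI := Groth.Agent.Helper1.ZeroDimAcyc.subsingleton_HH X (cokernel s) hcQ hpt 1 one_pos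
  have hex := NApx80.exact_f_g k (Groth.Agent.Helper1.Dev.cokSC s)
    (Groth.Agent.Helper1.Dev.cokSC_shortExact s) 1
  intro y
  exact (hex y).1 (Subsingleton.elim _ _)

/-- `h⁰(F) > g` forces `H¹(F) = 0` for a coherent submodule `F` of an invertible module -/
theorem subsingleton_H1_of_sub (hdim : topologicalKrullDim X = 1) (F B : X.Modules)
    (hF : Coh.IsCoh F) (hB : PicF.IsInvertible B) (j : F ⟶ B) [Mono j]
    (h0 : Curv2.genus k X < Module.finrank k (Coh.HH X F 0)) :
    Subsingleton (Coh.HH X F 1) := by
  haveI := isNoetherian_of_proper k X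
  by_contra hns
  rw [not_subsingleton_iff_nontrivial] at hns
  have hcO : Coh.IsCoh (Coh.structureModule X) :=
    Groth.Agent.Helper1.SerreFin.isCoh_of_isInvertible _ TensorInv.isInvertible_structureModule
  haveI : Module.Finite k (Coh.HH X F 1) := Groth.Agent.S0002.result k X _ hF 1
  haveI : Module.Finite k (Coh.HH X (Coh.structureModule X) 1) :=
    Groth.Agent.S0002.result k X _ hcO 1
  haveI : Module.Finite k (Coh.structureModule X ⟶ F) := finite_hom k _ _ hcO hF
  obtain ⟨v, hv⟩ := exists_ne (0 : Coh.HH X F 1)
  obtain ⟨φ, hφ⟩ : ∃ φ : Module.Dual k (Coh.HH X F 1), φ v ≠ 0 := by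
    by_contra h
    push Not at h
    exact hv ((Module.forall_dual_apply_eq_zero_iff k v).1 h)
  let Θ : (Coh.structureModule X ⟶ F) →ₗ[k] Module.Dual k (Coh.HH X (Coh.structureModule X) 1) :=
    { toFun := fun s => φ ∘ₗ Canon.HHlin k s 1
      map_add' := fun s s' => by rw [HHlin_add, LinearMap.comp_add]
      map_smul' := fun a s => by rw [HHlin_smul, LinearMap.comp_smul]; rfl }
  have hΘ : Function.Injective Θ := by
    rw [← LinearMap.ker_eq_bot, LinearMap.ker_eq_bot']
    intro s hs0
    by_contra hs
    have hsurj := HHlin_one_surjective_of_sub k hdim F B hF hB j s hs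
    obtain ⟨w, hw⟩ := hsurj v
    apply hφ
    rw [← hw]
    have := LinearMap.congr_fun hs0 w
    exact this
  have h1 := LinearMap.finrank_le_finrank_of_injective hΘ
  rw [Subspace.dual_finrank_eq] at h1
  have h2 := LinearMap.finrank_le_finrank_of_surjective (evalH0_surjective k F)
  unfold Curv2.genus at h0
  omega

end Van

section Rank

variable {X : Scheme.{u}} [IsIntegral X]

/-- the rank of an invertible module at the generic point is one -/
theorem finrank_generic_of_isInvertible (B : X.Modules) (hB : PicF.IsInvertible B) :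
    Module.finrank (X.presheaf.stalk (genericPoint X)) (B.presheaf.stalk (genericPoint X)) = 1 := by
  obtain ⟨T, e, hηT, -, hf, -⟩ :=
    Groth.Agent.Helper4.AmpleFinite.exists_chart_forall B hB (genericPoint X)
  let ε : X.presheaf.stalk (genericPoint X) ≃ₗ[X.presheaf.stalk (genericPoint X)]
      B.presheaf.stalk (genericPoint X) :=
    LinearEquiv.ofBijective _ (toSpanSingleton_germ_bijective B T e hf (genericPoint X) hηT)
  rw [← ε.finrank_eq]
  exact Module.finrank_self _

/-- a nonzero submodule of the structure module has positive rank at the generic point -/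
theorem finrank_generic_pos_of_mono (I : X.Modules) (ι : I ⟶ Coh.structureModule X) [Mono ι]
    (hI : ¬ IsZero I) :
    0 < Module.finrank (X.presheaf.stalk (genericPoint X))
      (I.presheaf.stalk (genericPoint X)) := by
  have hO : PicF.IsInvertible (Coh.structureModule X) := TensorInv.isInvertible_structureModule
  have hinj := Groth.Agent.Helper4.StalkExact.stalkLin_injective ι (genericPoint X)
  have h1 := finrank_generic_of_isInvertible (Coh.structureModule X) hO
  letI : Field (X.presheaf.stalk (genericPoint X)) :=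
    inferInstanceAs (Field X.functionField)
  haveI : Module.Finite (X.presheaf.stalk (genericPoint X))
      ((Coh.structureModule X).presheaf.stalk (genericPoint X)) :=
    Module.finite_of_finrank_pos (by rw [h1]; exact one_pos)
  haveI : Module.Finite (X.presheaf.stalk (genericPoint X))
      (I.presheaf.stalk (genericPoint X)) :=
    Module.Finite.of_injective (stalkLin ι (genericPoint X)) hinj
  haveI : Nontrivial (I.presheaf.stalk (genericPoint X)) := by
    rw [← not_subsingleton_iff_nontrivial]
    intro hsub
    apply hI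
    apply Groth.Agent.Helper4.AssDict.isZero_of_subsingleton_stalks
    intro x
    refine ⟨fun a b => ?_⟩
    have key : ∀ t : I.presheaf.stalk x, t = 0 := by
      intro t
      obtain ⟨V, hxV, m, rfl⟩ := TopCat.Presheaf.exists_germ_eq I.presheaf t
      haveI : Nonempty V := ⟨⟨x, hxV⟩⟩
      have hηV : genericPoint X ∈ V :=
        ((genericPoint_spec X).mem_open_set_iff V.isOpen).mpr ⟨x, trivial, hxV⟩
      have hg0 : I.presheaf.germ V (genericPoint X) hηV m = I.presheaf.germ V (genericPoint X) hηV 0 :=
        Subsingleton.elim _ _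
      obtain ⟨W, hηW, iU, iV, hW⟩ := TopCat.Presheaf.germ_eq I.presheaf (genericPoint X) hηV hηV
        m 0 hg0
      rw [map_zero] at hW
      haveI : Nonempty W := ⟨⟨_, hηW⟩⟩
      have h5 := Groth.Agent.Helper4.StalkExact.app_res ι iU m
      rw [hW, map_zero] at h5
      have h3' : toFn (ι.app V m) = 0 := by
        apply map_injective_of_isIntegral X iU
        rw [map_zero]
        exact h5.symm
      have h3 : ι.app V m = 0 := h3'
      have h4 : m = 0 := by
        have hinjV := Groth.Agent.Helper4.AffineDict.app_injective_of_mono ι V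
        apply hinjV
        rw [h3, map_zero]
      rw [h4, map_zero]
    rw [key a, key b]
  exact Module.finrank_pos

end Rank

section Deg

variable (k : Type u) [Field k] {X : Scheme.{u}} [X.Over (Spec (CommRingCat.of k))]
  [IsIntegral X] [IsProper (X ↘ (Spec (CommRingCat.of k)))]

open Groth.Agent.Helper4.TensorInv

/-- the Euler characteristic of a twist of a coherent module by an invertible module -/
theorem euler_twist (hdim : topologicalKrullDim X = 1) (B : X.Modules) (hB : PicF.IsInvertible B)
    (F : X.Modules) (hF : Coh.IsCoh F) :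
    Curv2.euler k X (CohB1.tensorMod F B) =
      (Module.finrank (X.presheaf.stalk (genericPoint X))
        (F.presheaf.stalk (genericPoint X)) : ℤ) * Curv2.deg k X B 1 + Curv2.euler k X F := by
  have h := main1557 k hdim 1 B
    (Groth.Agent.Helper4.QAffSec.isFinLocFreeOfRank_one_of_isInvertible B hB) F hF
  have h2 : Curv2.euler k X (CohB1.tensorMod F B) = Curv2.euler k X (CohB1.tensorMod B F) :=
    chi_iso k (braid F B)
  rw [h2, h]
  push_cast
  ring

/-- the degree of a tensor power -/
theorem deg_tensorPow (hdim : topologicalKrullDim X = 1) (L : X.Modules)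
    (hL : PicF.IsInvertible L) (N : ℕ) :
    Curv2.deg k X (CohB1.tensorPow L N) 1 = N * Curv2.deg k X L 1 := by
  haveI := isNoetherian_of_proper k X
  induction N with
  | zero =>
    change Curv2.deg k X (Coh.structureModule X) 1 = _
    rw [deg_structureModule]
    simp
  | succ N ih =>
    have hc := Groth.Agent.Helper1.SerreFin.isCoh_of_isInvertible _ (isInvertible_tensorPow hL N)
    have h := euler_twist k hdim L hL (CohB1.tensorPow L N) hc
    rw [finrank_generic_of_isInvertible _ (isInvertible_tensorPow hL N)] at h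
    change Curv2.deg k X (CohB1.tensorMod (CohB1.tensorPow L N) L) 1 = _
    unfold Curv2.deg at ih h ⊢
    rw [h]
    push_cast at ih ⊢
    linear_combination ih

/-- positive degree implies ample -/
theorem isAmple_of_deg_pos (hdim : topologicalKrullDim X = 1) (L : X.Modules)
    (hL : PicF.IsInvertible L) (hdeg : 0 < Curv2.deg k X L 1) : CohB1.IsAmple L := by
  haveI := isNoetherian_of_proper k X
  have hcO : Coh.IsCoh (Coh.structureModule X) :=
    Groth.Agent.Helper1.SerreFin.isCoh_of_isInvertible _ isInvertible_structureModule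
  apply Groth.Agent.Helper4.H1Twist.isAmple_of_H1_twisted_ideals L hL
  intro I i hmono hIq
  haveI := hmono
  haveI : I.IsQuasicoherent := hIq
  by_cases hz : IsZero I
  · refine ⟨0, ?_⟩
    have hz' : IsZero (CohB1.tensorMod I (CohB1.tensorPow L (0 + 1))) :=
      (DCoh.tensorRightMod (CohB1.tensorPow L (0 + 1))).map_isZero hz
    exact Groth.Agent.Helper1.KzChase.subsingleton_HH_of_isZero hz' 1
  · haveI : (Coh.structureModule X).IsQuasicoherent := hcO.1
    have hcI : Coh.IsCoh I := ⟨hIq, Groth.Agent.Helper4.QcohEpi.isFiniteType_of_mono i hcO.2⟩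
    have hr := finrank_generic_pos_of_mono I i hz
    obtain ⟨r, hrdef⟩ : ∃ r, r = Module.finrank (X.presheaf.stalk (genericPoint X))
      (I.presheaf.stalk (genericPoint X)) := ⟨_, rfl⟩
    rw [← hrdef] at hr
    obtain ⟨d, hddef⟩ : ∃ d, d = Curv2.deg k X L 1 := ⟨_, rfl⟩
    rw [← hddef] at hdeg
    obtain ⟨n, hn⟩ : ∃ n : ℕ, (Curv2.genus k X : ℤ) <
        (r : ℤ) * (((n + 1 : ℕ) : ℤ) * d) + Curv2.euler k X I := by
      refine ⟨((Curv2.genus k X : ℤ) - Curv2.euler k X I).toNat, ?_⟩
      have h1 : (1 : ℤ) ≤ r := by exact_mod_cast hr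
      have h2 : (1 : ℤ) ≤ d := hdeg
      have h3 := Int.self_le_toNat ((Curv2.genus k X : ℤ) - Curv2.euler k X I)
      set m := ((Curv2.genus k X : ℤ) - Curv2.euler k X I).toNat with hm
      have hrd : (1 : ℤ) ≤ r * d := by nlinarith
      have h4 : ((m : ℤ) + 1) ≤ (r : ℤ) * (((m + 1 : ℕ) : ℤ) * d) := by
        push_cast
        nlinarith [mul_nonneg (by positivity : (0 : ℤ) ≤ (m : ℤ) + 1) (by linarith : (0 : ℤ) ≤ r * d - 1)]
      linarith
    refine ⟨n, ?_⟩
    have hB : PicF.IsInvertible (CohB1.tensorPow L (n + 1)) := isInvertible_tensorPow hL (n + 1)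
    have hcB := Groth.Agent.Helper1.SerreFin.isCoh_of_isInvertible _ hB
    have hcF : Coh.IsCoh (CohB1.tensorMod I (CohB1.tensorPow L (n + 1))) :=
      isCoh_tensorMod _ _ hcI hcB
    haveI : Mono (KoszTw.tensorMap i (𝟙 (CohB1.tensorPow L (n + 1)))) :=
      Groth.Agent.Helper4.H1Twist.mono_tensorMap i _ hB
    let j : CohB1.tensorMod I (CohB1.tensorPow L (n + 1)) ⟶ CohB1.tensorPow L (n + 1) :=
      KoszTw.tensorMap i (𝟙 (CohB1.tensorPow L (n + 1))) ≫ (unitorL _).hom
    haveI : Mono j := mono_comp _ _
    have heul := euler_twist k hdim (CohB1.tensorPow L (n + 1)) hB I hcI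
    rw [deg_tensorPow k hdim L hL (n + 1), ← hrdef, ← hddef] at heul
    have hchi := chi_eq_h0_sub_h1 k hdim.le (CohB1.tensorMod I (CohB1.tensorPow L (n + 1)))
    unfold chi at hchi
    apply subsingleton_H1_of_sub k hdim _ _ hcF hB j
    have h5 : (0 : ℤ) ≤ (Module.finrank k
      (Coh.HH X (CohB1.tensorMod I (CohB1.tensorPow L (n + 1))) 1) : ℤ) := Int.natCast_nonneg _
    have h6 : (Curv2.genus k X : ℤ) < (Module.finrank k
      (Coh.HH X (CohB1.tensorMod I (CohB1.tensorPow L (n + 1))) 0) : ℤ) := by linarith
    exact_mod_cast h6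

include k in
/-- a scheme proper over a field which is affine and irreducible is a single point -/
theorem subsingleton_of_affine_proper (haff : IsAffineOpen (⊤ : X.Opens)) :
    Subsingleton X := by
  have hη : IsClosed ({genericPoint X} : Set X) :=
    isClosed_singleton_of_closure_subset_affine k (X ↘ (Spec (CommRingCat.of k))) _ ⊤ haff
      (fun _ _ => trivial)
  have hcl : closure ({genericPoint X} : Set X) = Set.univ := closure_genericPoint
  rw [hη.closure_eq] at hcl
  refine ⟨fun a b => ?_⟩
  have ha : a ∈ ({genericPoint X} : Set X) := hcl ▸ Set.mem_univ a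
  have hb : b ∈ ({genericPoint X} : Set X) := hcl ▸ Set.mem_univ b
  rw [Set.mem_singleton_iff] at ha hb
  rw [ha, hb]

/-- ample implies positive degree -/
theorem deg_pos_of_isAmple (hdim : topologicalKrullDim X = 1) (L : X.Modules)
    (hL : PicF.IsInvertible L) (hamp : CohB1.IsAmple L) : 0 < Curv2.deg k X L 1 := by
  haveI := isNoetherian_of_proper k X
  obtain ⟨-, -, hcharts⟩ := hamp
  obtain ⟨n, s, hx, haff⟩ := hcharts (genericPoint X)
  have hB : PicF.IsInvertible (CohB1.tensorPow L (n + 1)) := isInvertible_tensorPow hL (n + 1)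
  have hO : PicF.IsInvertible (Coh.structureModule X) := isInvertible_structureModule
  have hs : s ≠ 0 := by
    rintro rfl
    exact Groth.Agent.Helper4.AmpleFinite.notMem_genLocus_zero hB _ hx
  obtain ⟨h1, h2⟩ := main1521 k X hdim _ _ hO hB s hs
  rw [deg_structureModule, deg_tensorPow k hdim L hL (n + 1)] at h1 h2
  have hne : (0 : ℤ) ≠ ((n + 1 : ℕ) : ℤ) * Curv2.deg k X L 1 := by
    intro h0
    haveI := h2 h0
    have htop := Groth.Agent.Helper4.AmpleEventual.genLocus_eq_top_of_isIso s
    rw [htop] at haff
    haveI := subsingleton_of_affine_proper k haff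
    -- a one-point space has dimension zero
    have hd0 : topologicalKrullDim X ≤ 0 := by
      unfold topologicalKrullDim
      haveI : Subsingleton (IrreducibleCloseds X) := by
        refine ⟨fun a b => ?_⟩
        apply IrreducibleCloseds.ext
        ext z
        constructor
        · intro _
          obtain ⟨w, hw⟩ := b.isIrreducible.nonempty
          rwa [Subsingleton.elim z w]
        · intro _
          obtain ⟨w, hw⟩ := a.isIrreducible.nonempty
          rwa [Subsingleton.elim z w]
      exact Order.krullDim_nonpos_of_subsingleton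
    rw [hdim] at hd0
    exact absurd hd0 (by decide)
  have hpos : (0 : ℤ) < ((n + 1 : ℕ) : ℤ) * Curv2.deg k X L 1 := lt_of_le_of_ne h1 hne
  have hn1 : (0 : ℤ) < ((n + 1 : ℕ) : ℤ) := by positivity
  exact (mul_pos_iff_of_pos_left hn1).mp hpos

end Deg

end Groth.Agent.Helper4.SN
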