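import Mathlib
import Groth.Agent.Helper4.SN63
import Groth.Agent.Helper4.SN5
import Groth.Agent.Helper4.FinitePush
import Groth.Agent.Helper4.QcohLocal
import Groth.Agent.Helper1.AffLin
import Groth.Agent.Helper1.ZeroDimAcyc

/-!
# Genus comparison for finite birational morphisms of curves
-/

set_option autoImplicit false
set_option linter.style.haveILetI false

namespace Groth.Agent.Helper4.SN

open CategoryTheory Limits AlgebraicGeometry Opposite TopologicalSpace
open Groth.Agent.Helper4.NApx82 Groth.Agent.Helper4.StalkDict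

universe u

section Top

/-- in a Noetherian `T₀` space of dimension at most one, a point outside of a dense open subset is
closed -/
theorem isClosed_singleton_of_notMem_dense {T : Type*} [TopologicalSpace T] [NoetherianSpace T]
    [T0Space T] (hdim : topologicalKrullDim T ≤ 1) (U : Set T) (hUo : IsOpen U) (hU : Dense U)
    (x : T) (hx : x ∉ U) : IsClosed ({x} : Set T) := by
  by_contra hcl
  have hne : closure ({x} : Set T) ≠ {x} := fun h => hcl (h ▸ isClosed_closure)
  obtain ⟨y, hy, hyx⟩ : ∃ y ∈ closure ({x} : Set T), y ≠ x := by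
    by_contra hcon
    push Not at hcon
    apply hne
    apply Set.Subset.antisymm
    · intro y hy
      exact hcon y hy
    · exact subset_closure
  let Zx : IrreducibleCloseds T := ⟨closure {x}, isIrreducible_singleton.closure, isClosed_closure⟩
  let Zy : IrreducibleCloseds T := ⟨closure {y}, isIrreducible_singleton.closure, isClosed_closure⟩
  have hxy : x ⤳ y := specializes_iff_mem_closure.mpr hy
  have hlt : Zy < Zx := by
    refine lt_of_le_of_ne ?_ ?_
    · change closure ({y} : Set T) ⊆ closure {x}
      exact closure_minimal (Set.singleton_subset_iff.mpr hy) isClosed_closure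
    · intro h
      have h1 : closure ({y} : Set T) = closure {x} :=
        congrArg (fun Z : IrreducibleCloseds T => (Z : Set T)) h
      have hyx' : y ⤳ x := by
        rw [specializes_iff_mem_closure, h1]
        exact subset_closure rfl
      exact hyx (hyx'.antisymm hxy).eq
  have hmax : ∀ Z : IrreducibleCloseds T, Zx ≤ Z → Z = Zx := by
    intro Z hZ
    by_contra hZne
    have hlt2 : Zx < Z := lt_of_le_of_ne hZ (Ne.symm hZne)
    let p0 : LTSeries (IrreducibleCloseds T) :=
      (RelSeries.singleton _ Zy).snoc Zx (by simpa using hlt)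
    let p : LTSeries (IrreducibleCloseds T) := p0.snoc Z (by simpa [p0] using hlt2)
    have hp : p.length = 2 := rfl
    have h2 := Order.LTSeries.length_le_krullDim p
    rw [hp] at h2
    have h3 : ((2 : ℕ) : WithBot ℕ∞) ≤ 1 := h2.trans hdim
    exact absurd h3 (by decide)
  have hcomp : closure ({x} : Set T) ∈ irreducibleComponents T := by
    refine ⟨isIrreducible_singleton.closure, fun s hs hle => ?_⟩
    have := hmax ⟨closure s, hs.closure, isClosed_closure⟩ (hle.trans subset_closure)
    have h1 : closure s = closure {x} := congrArg (fun Z : IrreducibleCloseds T => (Z : Set T)) this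
    rw [← h1]
    exact subset_closure
  have hfin : (irreducibleComponents T).Finite := NoetherianSpace.finite_irreducibleComponents
  let others : Set (Set T) := irreducibleComponents T \ {closure {x}}
  have hofin : others.Finite := hfin.subset Set.sdiff_subset
  have hocl : ∀ z ∈ others, IsClosed z := fun z hz => isClosed_of_mem_irreducibleComponents z hz.1
  have hWcl : IsClosed (⋃₀ others) := by
    rw [Set.sUnion_eq_biUnion]
    exact hofin.isClosed_biUnion hocl
  have hnot : ¬ closure ({x} : Set T) ⊆ ⋃₀ others := by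
    intro hsub
    have hirr : IsIrreducible (closure ({x} : Set T)) := isIrreducible_singleton.closure
    obtain ⟨z, hz, hsz⟩ := (isIrreducible_iff_sUnion_isClosed.mp hirr) hofin.toFinset
      (fun z hz => hocl z (hofin.mem_toFinset.mp hz))
      (by rw [Set.Finite.coe_toFinset]; exact hsub)
    have hz' : z ∈ others := hofin.mem_toFinset.mp hz
    have : z = closure ({x} : Set T) := by
      apply Set.Subset.antisymm
      · exact hcomp.2 hz'.1.1 hsz
      · exact hsz
    exact hz'.2 this
  obtain ⟨z, hz, hzW⟩ := Set.not_subset.mp hnot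
  obtain ⟨u, huW, huU⟩ := hU.inter_open_nonempty (⋃₀ others)ᶜ hWcl.isOpen_compl ⟨z, hzW⟩
  have huc : u ∈ closure ({x} : Set T) := by
    by_contra hu
    apply huW
    refine ⟨irreducibleComponent u, ⟨irreducibleComponent_mem_irreducibleComponents u, ?_⟩,
      mem_irreducibleComponent⟩
    intro h
    rw [Set.mem_singleton_iff] at h
    apply hu
    rw [← h]
    exact mem_irreducibleComponent
  obtain ⟨w, hwU, hwx⟩ := mem_closure_iff.mp huc U hUo huU
  rw [Set.mem_singleton_iff] at hwx
  exact hx (hwx ▸ hwU)

end Top

section Surj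

variable (k : Type u) [Field k] {X : Scheme.{u}} [X.Over (Spec (CommRingCat.of k))]

/-- on a Noetherian scheme of dimension at most one, a morphism of coherent modules whose cokernel
is supported at closed points induces a surjection on `H¹` -/
theorem HHlin_one_surjective_of_cokernel [IsNoetherian X] (hdim : topologicalKrullDim X ≤ 1)
    {A B : X.Modules} (φ : A ⟶ B) (hA : Coh.IsCoh A) (hB : Coh.IsCoh B)
    (hpt : ∀ x ∈ CohB1.support (cokernel φ), IsClosed ({x} : Set X)) :
    Function.Surjective (Canon.HHlin k φ 1) := by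
  have hcQ : Coh.IsCoh (cokernel φ) := Groth.Agent.Lead.PerfLib.isCoh_cokernel hA hB φ
  haveI := Groth.Agent.Helper1.ZeroDimAcyc.subsingleton_HH X (cokernel φ) hcQ hpt 1 one_pos
  haveI : Subsingleton (Coh.HH X (kernel φ) (1 + 1)) :=
    subsingleton_HH_of_dim 1 (by exact_mod_cast hdim) (kernel φ) 2 (by norm_num)
  have h1 := Groth.Agent.Helper1.HHLes.exact_g_δ k (Groth.Agent.Helper1.Dev.kerImSC φ)
    (Groth.Agent.Helper1.Dev.kerImSC_shortExact φ) 1
  have h2 := NApx80.exact_f_g k (Groth.Agent.Helper1.Dev.imCokSC φ)
    (Groth.Agent.Helper1.Dev.imCokSC_shortExact φ) 1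
  have hfac : φ = Abelian.factorThruImage φ ≫ Abelian.image.ι φ := (Abelian.image.fac φ).symm
  rw [hfac, HHlin_comp]
  intro y
  obtain ⟨z, hz⟩ := (h2 y).1 (Subsingleton.elim _ _)
  obtain ⟨w, hw⟩ := (h1 z).1 (Subsingleton.elim _ _)
  refine ⟨w, ?_⟩
  rw [LinearMap.comp_apply]
  rw [← hz]
  congr 1

end Surj

section Main

/-- where `f` is a closed immersion, `O_X ⟶ f_* O_Y` is surjective on stalks -/
theorem stalkLin_unitToPush_surjective {X Y : Scheme.{u}} (f : Y ⟶ X) [QuasiCompact f]
    [QuasiSeparated f] (U : X.Opens) (hfU : IsClosedImmersion (f ∣_ U)) (x : X) (hx : x ∈ U) :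
    Function.Surjective (stalkLin (ClSub.unitToPush f) x) := by
  obtain ⟨_, ⟨V', hV' : IsAffineOpen V', rfl⟩, hxV', -⟩ :=
    U.toScheme.isBasis_affineOpens.exists_subset_of_mem_open
      (Set.mem_univ (⟨x, hx⟩ : U.toScheme)) isOpen_univ
  have hV : IsAffineOpen (U.ι ''ᵁ V') := hV'.image_of_isOpenImmersion U.ι
  have hxV : x ∈ U.ι ''ᵁ V' := ⟨⟨x, hx⟩, hxV', rfl⟩
  have hs := Scheme.Hom.app_surjective (f ∣_ U) V' hV'
  rw [morphismRestrict_app] at hs
  have hsurj : Function.Surjective (f.app (U.ι ''ᵁ V')) := by
    intro t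
    obtain ⟨a, ha⟩ := hs (Y.presheaf.map
      (eqToHom (image_morphismRestrict_preimage f U V')).op t)
    refine ⟨a, ?_⟩
    have hinj : Function.Injective (Y.presheaf.map
        (eqToHom (image_morphismRestrict_preimage f U V')).op) :=
      (ConcreteCategory.bijective_of_isIso _).1
    apply hinj
    exact ha
  have hOY : Coh.IsCoh (Coh.structureModule Y) :=
    Groth.Agent.Helper1.SerreFin.isCoh_of_isInvertible _ TensorInv.isInvertible_structureModule
  haveI : (Coh.structureModule Y).IsQuasicoherent := hOY.1
  haveI := QcohGlue.isQuasicoherent_pushforward f (Coh.structureModule Y)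
  exact QcohLocal.stalkLin_surjective_of_app_surjective (ClSub.unitToPush f) hV
    (QcqsMod.isLocalizingOn_of_isAffineOpen _ hV) hsurj x hxV

variable (k : Type u) [Field k] {X Y : Scheme.{u}} [X.Over (Spec (CommRingCat.of k))]
  [Y.Over (Spec (CommRingCat.of k))] [IsProper (X ↘ (Spec (CommRingCat.of k)))]

/-- the genus does not go up along a finite morphism which is generically a closed immersion -/
theorem genus_le_of_finite (hdim : topologicalKrullDim X ≤ 1) (f : Y ⟶ X) [IsFinite f]
    (hf : f ≫ (X ↘ (Spec (CommRingCat.of k))) = Y ↘ (Spec (CommRingCat.of k)))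
    (hpt : ∀ x ∈ CohB1.support (cokernel (ClSub.unitToPush f)), IsClosed ({x} : Set X)) :
    Curv2.genus k Y ≤ Curv2.genus k X := by
  haveI := isNoetherian_of_proper k X
  have hOX : Coh.IsCoh (Coh.structureModule X) :=
    Groth.Agent.Helper1.SerreFin.isCoh_of_isInvertible _ TensorInv.isInvertible_structureModule
  have hOY : Coh.IsCoh (Coh.structureModule Y) :=
    Groth.Agent.Helper1.SerreFin.isCoh_of_isInvertible _ TensorInv.isInvertible_structureModule
  haveI : (Coh.structureModule Y).IsQuasicoherent := hOY.1
  have hP : Coh.IsCoh ((Scheme.Modules.pushforward f).obj (Coh.structureModule Y)) :=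
    ⟨QcohGlue.isQuasicoherent_pushforward f _,
      FinitePush.isFiniteType_pushforward_of_isFinite f _ hOY.2⟩
  have hsurj := HHlin_one_surjective_of_cokernel k hdim (ClSub.unitToPush f) hOX hP hpt
  haveI : Coh.IsQCoh (Coh.structureModule Y) := hOY.1
  obtain ⟨e⟩ := Groth.Agent.Helper1.AffLin.nonempty_HH_linearEquiv f k hf (Coh.structureModule Y) 1
  haveI : Module.Finite k (Coh.HH X (Coh.structureModule X) 1) :=
    Groth.Agent.S0002.result k X _ hOX 1
  unfold Curv2.genus
  rw [e.finrank_eq]
  exact LinearMap.finrank_le_finrank_of_surjective hsurj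

/-- **S1566** -/
theorem main1566 (hdim : topologicalKrullDim X ≤ 1) (f : Y ⟶ X) [IsFinite f]
    (hf : f ≫ (X ↘ (Spec (CommRingCat.of k))) = Y ↘ (Spec (CommRingCat.of k)))
    (U : X.Opens) (hU : Dense (U : Set X)) (hfU : IsClosedImmersion (f ∣_ U)) :
    Curv2.genus k Y ≤ Curv2.genus k X := by
  haveI := isNoetherian_of_proper k X
  apply genus_le_of_finite k hdim f hf
  intro x hx
  haveI : NoetherianSpace X := inferInstance
  apply isClosed_singleton_of_notMem_dense hdim (U : Set X) U.isOpen hU x
  intro hxU
  apply hx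
  exact Groth.Agent.Lead.StalkNhd.subsingleton_stalk_cokernel _ x
    (stalkLin_unitToPush_surjective f U hfU x hxU)

end Main

end Groth.Agent.Helper4.SN
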