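import Mathlib
import Groth.Agent.Helper4.SN64
import Groth.Agent.S9686

/-!
# Proper birational morphisms of curves are finite
-/

set_option autoImplicit false
set_option linter.style.haveILetI false

namespace Groth.Agent.Helper4.SN

open CategoryTheory Limits AlgebraicGeometry Opposite TopologicalSpace
open Groth.Agent.Helper4.NApx82 Groth.Agent.Helper4.StalkDict

universe u

section Top2

/-- in a quasi-sober Noetherian space, a closed set all of whose points are closed is finite -/
theorem finite_of_isClosed_of_points_closed {T : Type*} [TopologicalSpace T] [NoetherianSpace T]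
    [QuasiSober T] (Z : Set T) (hZ : IsClosed Z) (h : ∀ z ∈ Z, IsClosed ({z} : Set T)) :
    Z.Finite := by
  obtain ⟨S, hSf, hSc, hSi, rfl⟩ := NoetherianSpace.exists_finite_set_isClosed_irreducible hZ
  refine Set.Finite.sUnion hSf (fun C hC => ?_)
  obtain ⟨η, hgen⟩ : ∃ η, closure ({η} : Set T) = C :=
    ⟨_, (hSi C hC).closure_genericPoint (hSc C hC)⟩
  have hmem : η ∈ C := by
    rw [← hgen]
    exact subset_closure rfl
  have hcl := h _ ⟨C, hC, hmem⟩
  rw [hcl.closure_eq] at hgen
  rw [← hgen]
  exact Set.finite_singleton _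

/-- in a Noetherian space every irreducible component contains a nonempty open subset -/
theorem exists_open_subset_irreducibleComponent {T : Type*} [TopologicalSpace T]
    [NoetherianSpace T] (C : Set T) (hC : C ∈ irreducibleComponents T) :
    ∃ W : Set T, IsOpen W ∧ W.Nonempty ∧ W ⊆ C := by
  have hfin : (irreducibleComponents T).Finite := NoetherianSpace.finite_irreducibleComponents
  let others : Set (Set T) := irreducibleComponents T \ {C}
  have hofin : others.Finite := hfin.subset Set.sdiff_subset
  have hocl : ∀ z ∈ others, IsClosed z := fun z hz => isClosed_of_mem_irreducibleComponents z hz.1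
  have hWcl : IsClosed (⋃₀ others) := by
    rw [Set.sUnion_eq_biUnion]
    exact hofin.isClosed_biUnion hocl
  have hnot : ¬ C ⊆ ⋃₀ others := by
    intro hsub
    obtain ⟨z, hz, hsz⟩ := (isIrreducible_iff_sUnion_isClosed.mp hC.1) hofin.toFinset
      (fun z hz => hocl z (hofin.mem_toFinset.mp hz))
      (by rw [Set.Finite.coe_toFinset]; exact hsub)
    have hz' : z ∈ others := hofin.mem_toFinset.mp hz
    have : z = C := by
      apply Set.Subset.antisymm
      · exact hC.2 hz'.1.1 hsz
      · exact hsz
    exact hz'.2 this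
  obtain ⟨z, hz, hzW⟩ := Set.not_subset.mp hnot
  refine ⟨(⋃₀ others)ᶜ, hWcl.isOpen_compl, ⟨z, hzW⟩, ?_⟩
  intro u huW
  by_contra hu
  apply huW
  refine ⟨irreducibleComponent u, ⟨irreducibleComponent_mem_irreducibleComponents u, ?_⟩,
    mem_irreducibleComponent⟩
  intro h
  rw [Set.mem_singleton_iff] at h
  apply hu
  rw [← h]
  exact mem_irreducibleComponent

/-- the generic point of an irreducible component lies in every dense open subset -/
theorem mem_of_dense_of_closure_mem_irreducibleComponents {T : Type*} [TopologicalSpace T]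
    [NoetherianSpace T] (V : Set T) (hVo : IsOpen V) (hV : Dense V) (ξ : T)
    (hξ : closure ({ξ} : Set T) ∈ irreducibleComponents T) : ξ ∈ V := by
  obtain ⟨W, hWo, hWne, hWC⟩ := exists_open_subset_irreducibleComponent _ hξ
  obtain ⟨v, hvW, hvV⟩ := hV.inter_open_nonempty W hWo hWne
  obtain ⟨w, hwV, hwx⟩ := mem_closure_iff.mp (hWC hvW) V hVo hvV
  rw [Set.mem_singleton_iff] at hwx
  exact hwx ▸ hwV

end Top2

section Res

variable {X' X : Scheme.{u}} (f : X' ⟶ X) (U : X.Opens)

/-- where `f` is an isomorphism, the residue field maps are isomorphisms -/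
theorem isIso_residueFieldMap_of_isIso_restrict (hfU : IsIso (f ∣_ U)) (ξ : X')
    (hξ : ξ ∈ f ⁻¹ᵁ U) : IsIso (f.residueFieldMap ξ) := by
  let ξ' : (f ⁻¹ᵁ U).toScheme := ⟨ξ, hξ⟩
  have h1 := Scheme.residueFieldMap_comp (f ⁻¹ᵁ U).ι f ξ'
  have h2 := Scheme.residueFieldMap_comp (f ∣_ U) U.ι ξ'
  have h3 := Scheme.Hom.residueFieldMap_congr (morphismRestrict_ι f U) ξ'
  rw [h1, h2] at h3
  obtain ⟨e, he⟩ : ∃ e : X.residueField (U.ι ((f ∣_ U) ξ')) ≅ X.residueField (f ((f ⁻¹ᵁ U).ι ξ')),
      U.ι.residueFieldMap ((f ∣_ U) ξ') ≫ (f ∣_ U).residueFieldMap ξ' =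
        e.hom ≫ f.residueFieldMap ((f ⁻¹ᵁ U).ι ξ') ≫ (f ⁻¹ᵁ U).ι.residueFieldMap ξ' := ⟨_, h3⟩
  haveI : IsIso (e.hom ≫ f.residueFieldMap ((f ⁻¹ᵁ U).ι ξ') ≫
      (f ⁻¹ᵁ U).ι.residueFieldMap ξ') := by
    rw [← he]
    infer_instance
  haveI : IsIso (f.residueFieldMap ((f ⁻¹ᵁ U).ι ξ') ≫ (f ⁻¹ᵁ U).ι.residueFieldMap ξ') :=
    IsIso.of_isIso_comp_left e.hom _
  exact IsIso.of_isIso_comp_right (f.residueFieldMap ((f ⁻¹ᵁ U).ι ξ'))
    ((f ⁻¹ᵁ U).ι.residueFieldMap ξ')

end Res

section Fin

variable (k : Type u) [Field k] {X X' : Scheme.{u}} [X.Over (Spec (CommRingCat.of k))]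
  [IsProper (X ↘ (Spec (CommRingCat.of k)))]

include k in
/-- a proper morphism to a proper curve which is an isomorphism over a dense open subset with dense
preimage is finite -/
theorem isFinite_of_proper_birational (hdim : topologicalKrullDim X ≤ 1) (f : X' ⟶ X) [IsProper f]
    (U : X.Opens) (hU' : Dense ((f ⁻¹ᵁ U : X'.Opens) : Set X'))
    (hfU : IsIso (f ∣_ U)) : IsFinite f := by
  haveI := isNoetherian_of_proper k X
  haveI : IsLocallyNoetherian X' := LocallyOfFiniteType.isLocallyNoetherian f
  haveI : CompactSpace X' := QuasiCompact.compactSpace_of_compactSpace f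
  haveI : IsNoetherian X' := {}
  haveI : NoetherianSpace X' := inferInstance
  have hdim' : topologicalKrullDim X' ≤ 1 := by
    have h := Groth.Agent.S9686.result f 0 (fun ξ hξ => ?_)
    · calc topologicalKrullDim X' ≤ topologicalKrullDim X + (0 : ℕ) := h
        _ = topologicalKrullDim X := by simp
        _ ≤ 1 := hdim
    · have hmem : ξ ∈ f ⁻¹ᵁ U :=
        mem_of_dense_of_closure_mem_irreducibleComponents _ (f ⁻¹ᵁ U).isOpen hU' ξ hξ
      haveI := isIso_residueFieldMap_of_isIso_restrict f U hfU ξ hmem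
      letI := (f.residueFieldMap ξ).hom.toAlgebra
      have hsurj : Function.Surjective
          (algebraMap (X.residueField (f.base ξ)) (X'.residueField ξ)) :=
        (ConcreteCategory.bijective_of_isIso (f.residueFieldMap ξ)).2
      haveI := Algebra.isIntegral_of_surjective hsurj
      rw [_root_.trdeg_eq_zero]
      exact le_refl _
  haveI : LocallyQuasiFinite f := by
    rw [locallyQuasiFinite_iff_finite_preimage_singleton]
    intro x
    by_cases hx : x ∈ U
    · apply Set.Subsingleton.finite
      intro a ha b hb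
      have ha' : a ∈ f ⁻¹ᵁ U := by
        change f a ∈ U
        rw [show f a = x from ha]
        exact hx
      have hb' : b ∈ f ⁻¹ᵁ U := by
        change f b ∈ U
        rw [show f b = x from hb]
        exact hx
      have hinj : Function.Injective (f ∣_ U) :=
        (ConcreteCategory.bijective_of_isIso (f ∣_ U).base).1
      let a' : (f ⁻¹ᵁ U).toScheme := ⟨a, ha'⟩
      let b' : (f ⁻¹ᵁ U).toScheme := ⟨b, hb'⟩
      have : a' = b' := by
        apply hinj
        apply Subtype.ext
        rw [morphismRestrict_base_coe f U a', morphismRestrict_base_coe f U b']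
        exact (show f a = x from ha).trans (show f b = x from hb).symm
      exact congrArg Subtype.val this
    · refine Set.Finite.subset (finite_of_isClosed_of_points_closed
        (((f ⁻¹ᵁ U : X'.Opens) : Set X')ᶜ) (f ⁻¹ᵁ U).isOpen.isClosed_compl
        (fun z hz => isClosed_singleton_of_notMem_dense hdim' _ (f ⁻¹ᵁ U).isOpen hU' z hz)) ?_
      intro a ha hau
      apply hx
      rw [← show f a = x from ha]
      exact hau
  exact IsFinite.of_isProper_of_locallyQuasiFinite f

/-- **S1602** -/
theorem main1602 [X'.Over (Spec (CommRingCat.of k))] (hdim : topologicalKrullDim X ≤ 1)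
    (f : X' ⟶ X) [IsProper f]
    (hf : f ≫ (X ↘ (Spec (CommRingCat.of k))) = X' ↘ (Spec (CommRingCat.of k)))
    (U : X.Opens) (hU : Dense (U : Set X)) (hU' : Dense ((f ⁻¹ᵁ U : X'.Opens) : Set X'))
    (hfU : IsIso (f ∣_ U)) : Curv2.genus k X' ≤ Curv2.genus k X := by
  haveI := isFinite_of_proper_birational k hdim f U hU' hfU
  exact main1566 k hdim f hf U hU inferInstance

end Fin

end Groth.Agent.Helper4.SN
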