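import Mathlib
import Groth.Agent.Helper4.SN65
import Groth.Agent.Helper4.SuppLib

/-!
# A proper birational morphism of curves with equal genus is an isomorphism
-/

set_option autoImplicit false
set_option linter.style.haveILetI false

namespace Groth.Agent.Helper4.SN

open CategoryTheory Limits AlgebraicGeometry Opposite TopologicalSpace
open Groth.Agent.Helper4.NApx82 Groth.Agent.Helper4.StalkDict

universe u

section MonoUnit

variable {X X' : Scheme.{u}} (f : X' ⟶ X)

/-- for a surjective morphism to a reduced scheme `O_X ⟶ f_* O_X'` is a monomorphism -/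
theorem mono_unitToPush_of_surjective [IsReduced X] (hsurj : Function.Surjective f) :
    Mono (ClSub.unitToPush f) := by
  apply AssMono.mono_of_app_injective
  intro V
  rw [injective_iff_map_eq_zero]
  intro s hs
  have hs' : (f.app V).hom s = 0 := hs
  have hbot : X.basicOpen (show Γ(X, V) from s) = ⊥ := by
    rw [eq_bot_iff]
    intro x hx
    obtain ⟨a, rfl⟩ := hsurj x
    have ha : a ∈ f ⁻¹ᵁ (X.basicOpen (show Γ(X, V) from s)) := hx
    rw [Scheme.preimage_basicOpen] at ha
    have h0 : X'.basicOpen ((f.app V).hom s) = ⊥ := by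
      rw [hs']
      exact Scheme.basicOpen_zero X' _
    rw [h0] at ha
    exact ha
  exact (basicOpen_eq_bot_iff (show Γ(X, V) from s)).mp hbot

end MonoUnit

section IsoCrit

variable {X X' : Scheme.{u}} (f : X' ⟶ X)

/-- an affine morphism with `O_X ⟶ f_* O_X'` an isomorphism is an isomorphism -/
theorem isIso_of_isIso_unitToPush [IsAffineHom f] (h : IsIso (ClSub.unitToPush f)) : IsIso f := by
  have happ : ∀ V : X.Opens, Function.Bijective (f.app V).hom := by
    intro V
    have h1 : (ClSub.unitToPush f).app V ≫ (inv (ClSub.unitToPush f)).app V = 𝟙 _ := by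
      rw [← Scheme.Modules.Hom.comp_app, IsIso.hom_inv_id]
      rfl
    have h2 : (inv (ClSub.unitToPush f)).app V ≫ (ClSub.unitToPush f).app V = 𝟙 _ := by
      rw [← Scheme.Modules.Hom.comp_app, IsIso.inv_hom_id]
      rfl
    constructor
    · intro a b hab
      have := congrArg (fun t => (inv (ClSub.unitToPush f)).app V t) hab
      have ha := ConcreteCategory.congr_hom h1 a
      have hb := ConcreteCategory.congr_hom h1 b
      exact ha.symm.trans (this.trans hb)
    · intro t
      exact ⟨(inv (ClSub.unitToPush f)).app V t, ConcreteCategory.congr_hom h2 t⟩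
  change (MorphismProperty.isomorphisms Scheme.{u}) f
  refine @HasAffineProperty.of_iSup_eq_top (MorphismProperty.isomorphisms Scheme.{u}) _
    AlgebraicGeometry.instHasAffinePropertyIsomorphismsSchemeAndIsAffineIsIsoCommRingCatAppTop
    X' X f X.affineOpens (fun V : X.affineOpens => V) (iSup_affineOpens_eq_top X)
    (fun V => ⟨?_, ?_⟩)
  · exact V.2.preimage f
  · rw [morphismRestrict_appTop]
    haveI : IsIso (f.app (V.1.ι ''ᵁ ⊤)) :=
      (ConcreteCategory.isIso_iff_bijective (f.app (V.1.ι ''ᵁ ⊤))).mpr (happ _)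
    have h2 : ∀ (A B : X'.Opens) (h : A = B),
        IsIso (X'.presheaf.map (eqToHom h).op) := by
      intro A B h
      subst h
      rw [eqToHom_refl, op_id, X'.presheaf.map_id]
      infer_instance
    exact IsIso.comp_isIso' this (h2 _ _ _)

end IsoCrit

section Main

variable (k : Type u) [Field k] {X X' : Scheme.{u}} [X.Over (Spec (CommRingCat.of k))]
  [X'.Over (Spec (CommRingCat.of k))] [IsProper (X ↘ (Spec (CommRingCat.of k)))]

/-- **S1603** -/
theorem main1603 [IsReduced X] (hdim : topologicalKrullDim X ≤ 1)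
    (f : X' ⟶ X) [IsProper f]
    (hf : f ≫ (X ↘ (Spec (CommRingCat.of k))) = X' ↘ (Spec (CommRingCat.of k)))
    (U : X.Opens) (hU : Dense (U : Set X)) (hU' : Dense ((f ⁻¹ᵁ U : X'.Opens) : Set X'))
    (hfU : IsIso (f ∣_ U)) (h0 : Function.Surjective (f.app ⊤).hom)
    (h1 : Curv2.genus k X' = Curv2.genus k X) : IsIso f := by
  haveI := isFinite_of_proper_birational k hdim f U hU' hfU
  haveI := isNoetherian_of_proper k X
  haveI : NoetherianSpace X := inferInstance
  -- `f` is surjective
  have hUr : (U : Set X) ⊆ Set.range f := by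
    intro x hx
    obtain ⟨a, ha⟩ := (ConcreteCategory.bijective_of_isIso (f ∣_ U).base).2 ⟨x, hx⟩
    refine ⟨a.1, ?_⟩
    rw [← morphismRestrict_base_coe f U a]
    exact congrArg Subtype.val ha
  have hsurj : Function.Surjective f := by
    rw [← Set.range_eq_univ]
    have hcl : IsClosed (Set.range f) := f.isClosedMap.isClosed_range
    rw [← hcl.closure_eq]
    exact Set.eq_univ_of_univ_subset (hU.closure_eq ▸ closure_mono hUr)
  haveI hmono : Mono (ClSub.unitToPush f) := mono_unitToPush_of_surjective f hsurj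
  -- coherence
  have hOX : Coh.IsCoh (Coh.structureModule X) :=
    Groth.Agent.Helper1.SerreFin.isCoh_of_isInvertible _ TensorInv.isInvertible_structureModule
  have hOY : Coh.IsCoh (Coh.structureModule X') :=
    Groth.Agent.Helper1.SerreFin.isCoh_of_isInvertible _ TensorInv.isInvertible_structureModule
  haveI : (Coh.structureModule X').IsQuasicoherent := hOY.1
  have hP : Coh.IsCoh ((Scheme.Modules.pushforward f).obj (Coh.structureModule X')) :=
    ⟨QcohGlue.isQuasicoherent_pushforward f _,
      FinitePush.isFiniteType_pushforward_of_isFinite f _ hOY.2⟩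
  have hcQ : Coh.IsCoh (cokernel (ClSub.unitToPush f)) :=
    Groth.Agent.Lead.PerfLib.isCoh_cokernel hOX hP _
  -- the support of the cokernel
  have hsupp : CohB1.support (cokernel (ClSub.unitToPush f)) ⊆ ((U : Set X))ᶜ := by
    intro x hx hxU
    apply hx
    exact Groth.Agent.Lead.StalkNhd.subsingleton_stalk_cokernel _ x
      (stalkLin_unitToPush_surjective f U inferInstance x hxU)
  have hptU : ∀ x ∈ ((U : Set X))ᶜ, IsClosed ({x} : Set X) := fun x hx =>
    isClosed_singleton_of_notMem_dense hdim (U : Set X) U.isOpen hU x hx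
  have hpt : ∀ x ∈ CohB1.support (cokernel (ClSub.unitToPush f)), IsClosed ({x} : Set X) :=
    fun x hx => hptU x (hsupp hx)
  have hfin : (CohB1.support (cokernel (ClSub.unitToPush f))).Finite :=
    (finite_of_isClosed_of_points_closed _ U.isOpen.isClosed_compl hptU).subset hsupp
  -- cohomology
  have hs1 := HHlin_one_surjective_of_cokernel k hdim (ClSub.unitToPush f) hOX hP hpt
  haveI : Coh.IsQCoh (Coh.structureModule X') := hOY.1
  obtain ⟨e⟩ := Groth.Agent.Helper1.AffLin.nonempty_HH_linearEquiv f k hf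
    (Coh.structureModule X') 1
  haveI : Module.Finite k (Coh.HH X (Coh.structureModule X) 1) :=
    Groth.Agent.S0002.result k X _ hOX 1
  haveI : Module.Finite k (Coh.HH X ((Scheme.Modules.pushforward f).obj
      (Coh.structureModule X')) 1) := Groth.Agent.S0002.result k X _ hP 1
  have hrk : Module.finrank k (Coh.HH X (Coh.structureModule X) 1) =
      Module.finrank k (Coh.HH X ((Scheme.Modules.pushforward f).obj
        (Coh.structureModule X')) 1) := by
    unfold Curv2.genus at h1
    rw [← h1, e.finrank_eq]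
  have hi1 : Function.Injective (Canon.HHlin k (ClSub.unitToPush f) 1) :=
    (LinearMap.injective_iff_surjective_of_finrank_eq_finrank hrk).mpr hs1
  -- `H⁰` of the cokernel vanishes
  have hS := Groth.Agent.Helper1.Dev.cokSC_shortExact (ClSub.unitToPush f)
  have hex1 := NApx80.exact_δ_f k (Groth.Agent.Helper1.Dev.cokSC (ClSub.unitToPush f)) hS 0
  have hex2 := Groth.Agent.Helper1.HHLes.exact_g_δ k
    (Groth.Agent.Helper1.Dev.cokSC (ClSub.unitToPush f)) hS 0
  have hex3 := NApx80.exact_f_g k (Groth.Agent.Helper1.Dev.cokSC (ClSub.unitToPush f)) hS 0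
  have hs0 : Function.Surjective (Canon.HHlin k (ClSub.unitToPush f) 0) := by
    rw [surjective_HHlin_zero_iff]
    intro b
    obtain ⟨s, hs⟩ := h0 (sec1 _ b)
    refine ⟨Groth.Agent.Lead.IdealModDict.ofSection (Coh.structureModule X) s, ?_⟩
    apply evalH0_injective k
    change (Groth.Agent.Lead.ProperFinA.h0Equiv _).symm (sec1 _ _) =
      (Groth.Agent.Lead.ProperFinA.h0Equiv _).symm (sec1 _ b)
    congr 1
    rw [← hs]
    have h1 := Groth.Agent.Lead.IdealModDict.ofSection_app (Coh.structureModule X) s ⊤ 1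
    change (ClSub.unitToPush f).app ⊤
      ((Groth.Agent.Lead.IdealModDict.ofSection (Coh.structureModule X) s).app ⊤
        (Groth.Agent.Helper4.GenLoc.one X ⊤)) = _
    have h2 : (Coh.structureModule X).presheaf.map (homOfLE (le_top : (⊤ : X.Opens) ≤ ⊤)).op s
        = s := by
      have : (homOfLE (le_top : (⊤ : X.Opens) ≤ ⊤)) = 𝟙 _ := Subsingleton.elim _ _
      rw [this, op_id, (Coh.structureModule X).presheaf.map_id]
      rfl
    rw [h2] at h1
    have h3 : (Groth.Agent.Lead.IdealModDict.ofSection (Coh.structureModule X) s).app ⊤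
        (Groth.Agent.Helper4.GenLoc.one X ⊤) = s := h1.trans (one_mul (M := Γ(X, ⊤)) s)
    exact congrArg ((ClSub.unitToPush f).app ⊤) h3
  haveI hH0 : Subsingleton (Coh.HH X (cokernel (ClSub.unitToPush f)) 0) := by
    refine ⟨fun a b => ?_⟩
    suffices h : ∀ c : Coh.HH X (cokernel (ClSub.unitToPush f)) 0, c = 0 by rw [h a, h b]
    intro c
    have hδ : Groth.Agent.Helper1.HHLes.δ k
        (Groth.Agent.Helper1.Dev.cokSC (ClSub.unitToPush f)) hS 0 c = 0 := by
      apply hi1
      rw [map_zero]
      exact (hex1 _).2 ⟨c, rfl⟩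
    obtain ⟨p, rfl⟩ := (hex2 c).1 hδ
    obtain ⟨o, rfl⟩ := hs0 p
    exact (hex3 _).2 ⟨o, rfl⟩
  -- the cokernel vanishes
  have hQ0 : CohB1.support (cokernel (ClSub.unitToPush f)) = ∅ := by
    by_contra hne
    obtain ⟨x, hx⟩ := Set.nonempty_iff_ne_empty.mpr hne
    have hx' : ¬ Subsingleton ((cokernel (ClSub.unitToPush f)).presheaf.stalk x) := hx
    rw [not_subsingleton_iff_nontrivial] at hx'
    obtain ⟨t, ht⟩ := exists_ne (0 : (cokernel (ClSub.unitToPush f)).presheaf.stalk x)
    obtain ⟨V, hxV, s, rfl⟩ := TopCat.Presheaf.exists_germ_eq _ t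
    have hch : ∀ y : X, ∃ (Uy : X.Opens) (fy : Γ(cokernel (ClSub.unitToPush f), Uy)),
        (y ∈ CohB1.support (cokernel (ClSub.unitToPush f)) → y ∈ Uy) ∧
        (y = x → ∃ hxU : x ∈ Uy, (cokernel (ClSub.unitToPush f)).presheaf.germ Uy x hxU fy =
          (cokernel (ClSub.unitToPush f)).presheaf.germ V x hxV s) := by
      intro y
      by_cases hy : y = x
      · exact ⟨V, s, fun _ => hy ▸ hxV, fun _ => ⟨hxV, rfl⟩⟩
      · exact ⟨⊤, 0, fun _ => trivial, fun h => absurd h hy⟩
    choose Uy fy hUy hfy using hch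
    obtain ⟨σ, hσ⟩ := exists_section_with_germs (cokernel (ClSub.unitToPush f)) hfin hpt Uy fy hUy
    have hσx := hσ x hx
    obtain ⟨hxU, hg⟩ := hfy x rfl
    rw [hg] at hσx
    have hσ0 : σ = 0 := by
      apply (Groth.Agent.Lead.ProperFinA.h0Equiv (cokernel (ClSub.unitToPush f))).symm.injective
      exact Subsingleton.elim _ _
    apply ht
    rw [← hσx, hσ0, map_zero]
  have hZ : IsZero (cokernel (ClSub.unitToPush f)) :=
    Groth.Agent.Helper4.SuppLib.isZero_of_support _ hQ0
  haveI : Epi (ClSub.unitToPush f) := Preadditive.epi_of_isZero_cokernel _ hZ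
  exact isIso_of_isIso_unitToPush f (isIso_of_mono_of_epi _)

end Main

end Groth.Agent.Helper4.SN
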