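import Mathlib
import Groth.Prelude.Def_Found

/-! Helper lemmas on finiteness of integral closures (N-1 / N-2 / Japanese rings). -/

namespace Groth.Agent.Helper4.Japanese

open Groth

/-- Finiteness of integral closure passes to a localization of the base. -/
theorem finite_integralClosure_of_isLocalization {R : Type*} [CommRing R] (M : Submonoid R)
    (S : Type*) [CommRing S] [Algebra R S] [IsLocalization M S]
    (L : Type*) [CommRing L] [Algebra R L] [Algebra S L] [IsScalarTower R S L]
    (h : Module.Finite R (integralClosure R L)) : Module.Finite S (integralClosure S L) := by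
  have h' : (Subalgebra.toSubmodule (integralClosure R L)).FG := Module.Finite.iff_fg.mp h
  suffices hS : (Subalgebra.toSubmodule (integralClosure S L)).FG from
    (Module.Finite.iff_fg (N := Subalgebra.toSubmodule (integralClosure S L))).mpr hS
  obtain ⟨s, hs⟩ := h'
  refine ⟨s, le_antisymm ?_ ?_⟩
  · refine Submodule.span_le.mpr ?_
    intro x hx
    have hx' : x ∈ Subalgebra.toSubmodule (integralClosure R L) := by
      rw [← hs]; exact Submodule.subset_span hx
    have hx'' : IsIntegral R x := hx'
    exact hx''.tower_top
  · intro b hb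
    have hb' : IsIntegral S b := hb
    obtain ⟨m, hm⟩ := IsIntegral.exists_multiple_integral_of_isLocalization M b hb'
    have hmem : m • b ∈ Submodule.span R (s : Set L) := by
      rw [hs]; exact hm
    have hmem' : m • b ∈ Submodule.span S (s : Set L) :=
      Submodule.span_subset_span R S _ hmem
    obtain ⟨v, hv⟩ := IsLocalization.map_units S m
    have : b = (↑v⁻¹ : S) • (m • b) := by
      rw [Submonoid.smul_def, ← IsScalarTower.algebraMap_smul S (m : R) b,
        smul_smul, ← hv, Units.inv_mul, one_smul]
    rw [this]
    exact Submodule.smul_mem _ _ hmem'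

/-- Finiteness of integral closure can be checked on a finite cover by principal opens. -/
theorem finite_integralClosure_of_span_eq_top {R : Type*} [CommRing R] {ι : Type*} [Finite ι]
    (f : ι → R) (hf : Ideal.span (Set.range f) = ⊤)
    (Rf : ι → Type*) [∀ i, CommRing (Rf i)] [∀ i, Algebra R (Rf i)]
    [∀ i, IsLocalization.Away (f i) (Rf i)]
    (L : Type*) [CommRing L] [Algebra R L] [∀ i, Algebra (Rf i) L] [∀ i, IsScalarTower R (Rf i) L]
    (h : ∀ i, Module.Finite (Rf i) (integralClosure (Rf i) L)) :
    Module.Finite R (integralClosure R L) := by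
  classical
  cases nonempty_fintype ι
  suffices hS : (Subalgebra.toSubmodule (integralClosure R L)).FG from
    (Module.Finite.iff_fg (N := Subalgebra.toSubmodule (integralClosure R L))).mpr hS
  have h' : ∀ i, (Subalgebra.toSubmodule (integralClosure (Rf i) L)).FG :=
    fun i => Module.Finite.iff_fg.mp (h i)
  choose s hs using h'
  -- scale generators to be integral over R
  have key : ∀ i, ∃ N : ℕ, ∀ x ∈ s i, IsIntegral R ((f i) ^ N • x) := by
    intro i
    have : ∀ x ∈ s i, ∃ n : ℕ, IsIntegral R ((f i) ^ n • x) := by
      intro x hx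
      have hx' : x ∈ Subalgebra.toSubmodule (integralClosure (Rf i) L) := by
        rw [← hs i]; exact Submodule.subset_span hx
      have hx'' : IsIntegral (Rf i) x := hx'
      obtain ⟨⟨_, n, rfl⟩, hm⟩ :=
        IsIntegral.exists_multiple_integral_of_isLocalization (Submonoid.powers (f i)) x hx''
      exact ⟨n, hm⟩
    choose! n hn using this
    refine ⟨(s i).sup n, fun x hx => ?_⟩
    have hle : n x ≤ (s i).sup n := Finset.le_sup hx
    obtain ⟨k, hk⟩ := Nat.exists_eq_add_of_le hle
    rw [hk, pow_add, mul_comm, mul_smul]
    rw [Algebra.smul_def ((f i) ^ k)]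
    exact (isIntegral_algebraMap).mul (hn x hx)
  choose N hN using key
  let t : ι → Finset L := fun i => (s i).image (fun x => (f i) ^ (N i) • x)
  let T : Finset L := Finset.univ.biUnion t
  refine ⟨T, le_antisymm ?_ ?_⟩
  · refine Submodule.span_le.mpr ?_
    intro y hy
    simp only [T, t, Finset.coe_biUnion, Finset.coe_univ, Set.mem_univ, Set.iUnion_true,
      Set.mem_iUnion, Finset.coe_image, Set.mem_image] at hy
    obtain ⟨i, x, hx, rfl⟩ := hy
    exact hN i x hx
  · intro a ha
    have ha' : IsIntegral R a := ha
    refine Submodule.mem_of_span_eq_top_of_smul_pow_mem _ (Set.range f) hf a ?_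
    rintro ⟨_, i, rfl⟩
    have hai : a ∈ Submodule.span (Rf i) ((s i : Finset L) : Set L) := by
      rw [hs i]; exact (ha'.tower_top : IsIntegral (Rf i) a)
    -- s i ⊆ span (Rf i) (t i)
    have hsub : Submodule.span (Rf i) ((s i : Finset L) : Set L) ≤
        Submodule.span (Rf i) ((t i : Finset L) : Set L) := by
      refine Submodule.span_le.mpr ?_
      intro x hx
      obtain ⟨v, hv⟩ := IsLocalization.map_units (Rf i)
        (⟨(f i) ^ (N i), N i, rfl⟩ : Submonoid.powers (f i))
      have hxt : (f i) ^ (N i) • x ∈ Submodule.span (Rf i) ((t i : Finset L) : Set L) := by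
        refine Submodule.subset_span ?_
        simp only [t, Finset.coe_image, Set.mem_image]
        exact ⟨x, hx, rfl⟩
      have : x = (↑v⁻¹ : Rf i) • ((f i) ^ (N i) • x) := by
        rw [← IsScalarTower.algebraMap_smul (Rf i) ((f i) ^ (N i)) x, smul_smul, ← hv,
          Units.inv_mul, one_smul]
      rw [SetLike.mem_coe, this]
      exact Submodule.smul_mem _ _ hxt
    obtain ⟨y, hy, ⟨_, n, rfl⟩, hz⟩ :=
      (IsLocalization.mem_span_iff (Submonoid.powers (f i))).mp (hsub hai)
    refine ⟨n, ?_⟩
    have : (f i) ^ n • a = y := by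
      rw [hz, ← IsScalarTower.algebraMap_smul (Rf i) ((f i) ^ n), smul_smul]
      have := IsLocalization.mk'_spec' (Rf i) (1 : R) (⟨(f i) ^ n, n, rfl⟩ : Submonoid.powers (f i))
      simp only [map_one] at this
      rw [this, one_smul]
    rw [this]
    refine Submodule.span_mono ?_ hy
    intro z hz
    simp only [T, Finset.coe_biUnion, Finset.coe_univ, Set.mem_univ, Set.iUnion_true,
      Set.mem_iUnion]
    exact ⟨i, hz⟩

universe u

/-- N-1 in terms of an arbitrary fraction field. -/
theorem isN1_iff {R : Type u} [CommRing R] [IsDomain R] (K : Type*) [Field K] [Algebra R K]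
    [IsFractionRing R K] :
    CAlg.IsN1 R ↔ Module.Finite R (integralClosure R K) := by
  unfold CAlg.IsN1
  let e : FractionRing R ≃ₐ[R] K := FractionRing.algEquiv R K
  have e' : integralClosure R (FractionRing R) ≃ₐ[R] integralClosure R K := e.mapIntegralClosure
  exact ⟨fun h => Module.Finite.equiv e'.toLinearEquiv,
    fun h => Module.Finite.equiv e'.symm.toLinearEquiv⟩

/-- N-2 gives finiteness for finite extensions of an arbitrary fraction field. -/
theorem IsN2.finite {R : Type u} [CommRing R] [IsDomain R] (h : CAlg.IsN2 R)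
    (K : Type*) [Field K] [Algebra R K] [IsFractionRing R K]
    (L : Type u) [Field L] [Algebra R L] [Algebra K L] [IsScalarTower R K L]
    [FiniteDimensional K L] :
    Module.Finite R (integralClosure R L) := by
  let e : FractionRing R ≃ₐ[R] K := FractionRing.algEquiv R K
  letI : Algebra (FractionRing R) L := ((algebraMap K L).comp (e : FractionRing R →+* K)).toAlgebra
  haveI : IsScalarTower R (FractionRing R) L := IsScalarTower.of_algebraMap_eq (fun r => by
    change algebraMap R L r = algebraMap K L (e (algebraMap R _ r))
    rw [e.commutes, ← IsScalarTower.algebraMap_apply])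
  haveI : FiniteDimensional (FractionRing R) L :=
    Module.Finite.of_equiv_equiv (A₁ := K) (B₁ := L) e.symm.toRingEquiv (RingEquiv.refl L) (by
      ext x
      change algebraMap K L (e (e.symm x)) = algebraMap K L x
      rw [e.apply_symm_apply])
  exact h L inferInstance

/-- To prove N-2 it suffices to treat finite extensions of an arbitrary fraction field. -/
theorem isN2_of {R : Type u} [CommRing R] [IsDomain R]
    (K : Type*) [Field K] [Algebra R K] [IsFractionRing R K]
    (H : ∀ (L : Type u) [Field L] [Algebra R L] [Algebra K L] [IsScalarTower R K L],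
      FiniteDimensional K L → Module.Finite R (integralClosure R L)) : CAlg.IsN2 R := by
  intro L _ _ _ _ hfin
  let e : FractionRing R ≃ₐ[R] K := FractionRing.algEquiv R K
  letI : Algebra K L := ((algebraMap (FractionRing R) L).comp (e.symm : K →+* FractionRing R)).toAlgebra
  haveI : IsScalarTower R K L := IsScalarTower.of_algebraMap_eq (fun r => by
    change algebraMap R L r = algebraMap (FractionRing R) L (e.symm (algebraMap R _ r))
    rw [e.symm.commutes, ← IsScalarTower.algebraMap_apply])
  haveI : FiniteDimensional K L :=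
    Module.Finite.of_equiv_equiv (A₁ := FractionRing R) (B₁ := L) e.toRingEquiv (RingEquiv.refl L) (by
      ext x
      change algebraMap (FractionRing R) L (e.symm (e x)) = algebraMap (FractionRing R) L x
      rw [e.symm_apply_apply])
  exact H L inferInstance

theorem le_nonZeroDivisors_of_isDomain {R : Type*} [CommRing R] [IsDomain R] (M : Submonoid R)
    (S : Type*) [CommRing S] [Nontrivial S] [Algebra R S] [IsLocalization M S] :
    M ≤ nonZeroDivisors R := by
  intro x hx
  rw [mem_nonZeroDivisors_iff_ne_zero]
  rintro rfl
  have := IsLocalization.map_units S (⟨0, hx⟩ : M)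
  simp at this

/-- A localization of an N-1 domain which is again a domain is N-1. -/
theorem isN1_of_isLocalization (R : Type u) [CommRing R] [IsDomain R] (M : Submonoid R)
    (S : Type u) [CommRing S] [IsDomain S] [Algebra R S] [IsLocalization M S]
    (h : CAlg.IsN1 R) : CAlg.IsN1 S := by
  have hM : M ≤ nonZeroDivisors R := le_nonZeroDivisors_of_isDomain M S
  let K := FractionRing R
  letI : Algebra S K := (IsLocalization.lift (M := M) (S := S) (g := algebraMap R K)
    (fun y => IsLocalization.map_units K (⟨(y : R), hM y.2⟩ : nonZeroDivisors R))).toAlgebra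
  haveI : IsScalarTower R S K :=
    IsScalarTower.of_algebraMap_eq (fun r => (IsLocalization.lift_eq _ r).symm)
  haveI : IsFractionRing S K := IsFractionRing.isFractionRing_of_isDomain_of_isLocalization M S K
  rw [isN1_iff K]
  exact finite_integralClosure_of_isLocalization M S K h

/-- A localization of an N-2 domain which is again a domain is N-2. -/
theorem isN2_of_isLocalization (R : Type u) [CommRing R] [IsDomain R] (M : Submonoid R)
    (S : Type u) [CommRing S] [IsDomain S] [Algebra R S] [IsLocalization M S]
    (h : CAlg.IsN2 R) : CAlg.IsN2 S := by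
  have hM : M ≤ nonZeroDivisors R := le_nonZeroDivisors_of_isDomain M S
  let K := FractionRing R
  letI : Algebra S K := (IsLocalization.lift (M := M) (S := S) (g := algebraMap R K)
    (fun y => IsLocalization.map_units K (⟨(y : R), hM y.2⟩ : nonZeroDivisors R))).toAlgebra
  haveI : IsScalarTower R S K :=
    IsScalarTower.of_algebraMap_eq (fun r => (IsLocalization.lift_eq _ r).symm)
  haveI : IsFractionRing S K := IsFractionRing.isFractionRing_of_isDomain_of_isLocalization M S K
  refine isN2_of K (fun L _ _ _ _ hfin => ?_)
  letI : Algebra R L := ((algebraMap S L).comp (algebraMap R S)).toAlgebra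
  haveI : IsScalarTower R S L := IsScalarTower.of_algebraMap_eq (fun r => rfl)
  haveI : IsScalarTower R K L := IsScalarTower.of_algebraMap_eq (fun r => by
    change algebraMap S L (algebraMap R S r) = algebraMap K L (algebraMap R K r)
    rw [IsScalarTower.algebraMap_apply S K L, ← IsScalarTower.algebraMap_apply R S K])
  have := IsN2.finite h K L
  exact finite_integralClosure_of_isLocalization M S L this

/-- Being N-1 can be checked on a finite cover by principal opens. -/
theorem isN1_of_span_eq_top (R : Type u) [CommRing R] [IsDomain R]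
    {ι : Type*} [Finite ι] (f : ι → R) (hf : Ideal.span (Set.range f) = ⊤)
    (Rf : ι → Type u) [∀ i, CommRing (Rf i)] [∀ i, IsDomain (Rf i)] [∀ i, Algebra R (Rf i)]
    [∀ i, IsLocalization.Away (f i) (Rf i)] (h : ∀ i, CAlg.IsN1 (Rf i)) : CAlg.IsN1 R := by
  have hM : ∀ i, Submonoid.powers (f i) ≤ nonZeroDivisors R :=
    fun i => le_nonZeroDivisors_of_isDomain _ (Rf i)
  let K := FractionRing R
  letI : ∀ i, Algebra (Rf i) K := fun i =>
    (IsLocalization.lift (M := Submonoid.powers (f i)) (S := Rf i) (g := algebraMap R K)
      (fun y => IsLocalization.map_units K (⟨(y : R), hM i y.2⟩ : nonZeroDivisors R))).toAlgebra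
  haveI : ∀ i, IsScalarTower R (Rf i) K := fun i =>
    IsScalarTower.of_algebraMap_eq (fun r => (IsLocalization.lift_eq _ r).symm)
  haveI : ∀ i, IsFractionRing (Rf i) K := fun i =>
    IsFractionRing.isFractionRing_of_isDomain_of_isLocalization (Submonoid.powers (f i)) (Rf i) K
  have h' : ∀ i, Module.Finite (Rf i) (integralClosure (Rf i) K) := fun i => (isN1_iff K).mp (h i)
  exact finite_integralClosure_of_span_eq_top f hf Rf K h'

/-- Being N-2 can be checked on a finite cover by principal opens. -/
theorem isN2_of_span_eq_top (R : Type u) [CommRing R] [IsDomain R]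
    {ι : Type*} [Finite ι] (f : ι → R) (hf : Ideal.span (Set.range f) = ⊤)
    (Rf : ι → Type u) [∀ i, CommRing (Rf i)] [∀ i, IsDomain (Rf i)] [∀ i, Algebra R (Rf i)]
    [∀ i, IsLocalization.Away (f i) (Rf i)] (h : ∀ i, CAlg.IsN2 (Rf i)) : CAlg.IsN2 R := by
  have hM : ∀ i, Submonoid.powers (f i) ≤ nonZeroDivisors R :=
    fun i => le_nonZeroDivisors_of_isDomain _ (Rf i)
  let K := FractionRing R
  letI : ∀ i, Algebra (Rf i) K := fun i =>
    (IsLocalization.lift (M := Submonoid.powers (f i)) (S := Rf i) (g := algebraMap R K)
      (fun y => IsLocalization.map_units K (⟨(y : R), hM i y.2⟩ : nonZeroDivisors R))).toAlgebra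
  haveI : ∀ i, IsScalarTower R (Rf i) K := fun i =>
    IsScalarTower.of_algebraMap_eq (fun r => (IsLocalization.lift_eq _ r).symm)
  haveI : ∀ i, IsFractionRing (Rf i) K := fun i =>
    IsFractionRing.isFractionRing_of_isDomain_of_isLocalization (Submonoid.powers (f i)) (Rf i) K
  intro L _ _ _ _ hfin
  letI : ∀ i, Algebra (Rf i) L := fun i => ((algebraMap K L).comp (algebraMap (Rf i) K)).toAlgebra
  haveI : ∀ i, IsScalarTower (Rf i) K L := fun i => IsScalarTower.of_algebraMap_eq (fun r => rfl)
  haveI : ∀ i, IsScalarTower R (Rf i) L := fun i => IsScalarTower.of_algebraMap_eq (fun r => by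
    change algebraMap R L r = algebraMap K L (algebraMap (Rf i) K (algebraMap R (Rf i) r))
    rw [← IsScalarTower.algebraMap_apply R (Rf i) K, ← IsScalarTower.algebraMap_apply R K L])
  have h' : ∀ i, Module.Finite (Rf i) (integralClosure (Rf i) L) := fun i =>
    IsN2.finite (h i) K L
  exact finite_integralClosure_of_span_eq_top f hf Rf L h'

/-- A localization of a Nagata ring is Nagata. -/
theorem isNagata_of_isLocalization (R : Type u) [CommRing R] (M : Submonoid R)
    (S : Type u) [CommRing S] [Algebra R S] [IsLocalization M S]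
    (h : CAlg.IsNagata R) : CAlg.IsNagata S := by
  refine ⟨IsLocalization.isNoetherianRing M S h.1, ?_⟩
  intro q hq
  obtain ⟨p, hp, rfl⟩ : ∃ p : Ideal R, p.IsPrime ∧ p.map (algebraMap R S) = q :=
    ⟨q.comap (algebraMap R S), inferInstance, IsLocalization.map_comap M S q⟩
  have h2 : CAlg.IsN2 (R ⧸ p) := h.2 p
  exact isN2_of_isLocalization (R ⧸ p) (Algebra.algebraMapSubmonoid (R ⧸ p) M)
    (S ⧸ p.map (algebraMap R S)) h2

/-- Being Nagata can be checked on a finite cover by principal opens (abstract localizations). -/
theorem isNagata_of_span_eq_top (R : Type u) [CommRing R]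
    {ι : Type*} [Finite ι] (f : ι → R) (hf : Ideal.span (Set.range f) = ⊤)
    (Rf : ι → Type u) [∀ i, CommRing (Rf i)] [∀ i, Algebra R (Rf i)]
    [∀ i, IsLocalization.Away (f i) (Rf i)]
    (h : ∀ i, CAlg.IsNagata (Rf i)) : CAlg.IsNagata R := by
  classical
  cases nonempty_fintype ι
  refine ⟨?_, ?_⟩
  · refine AlgebraicGeometry.isNoetherianRing_of_away (Finset.univ.image f) ?_ ?_
    · rw [Finset.coe_image, Finset.coe_univ, Set.image_univ]; exact hf
    · rintro ⟨s, hs⟩
      obtain ⟨i, -, rfl⟩ := Finset.mem_image.mp hs
      have := (h i).1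
      exact isNoetherianRing_of_ringEquiv (Rf i)
        (IsLocalization.algEquiv (Submonoid.powers (f i)) (Rf i)
          (Localization.Away (f i))).toRingEquiv
  · intro p hp
    let ι' := {i : ι // f i ∉ p}
    let g : ι' → R ⧸ p := fun i => Ideal.Quotient.mk p (f i.1)
    have hspan : Ideal.span (Set.range g) = ⊤ := by
      have h1 : Ideal.span (Set.range (fun i => Ideal.Quotient.mk p (f i))) = ⊤ := by
        have := congrArg (Ideal.map (Ideal.Quotient.mk p)) hf
        rw [Ideal.map_span, Ideal.map_top, ← Set.range_comp] at this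
        exact this
      rw [eq_top_iff, ← h1, Ideal.span_le]
      rintro _ ⟨i, rfl⟩
      by_cases hi : f i ∈ p
      · have : Ideal.Quotient.mk p (f i) = 0 := Ideal.Quotient.eq_zero_iff_mem.mpr hi
        simp only [this]; exact zero_mem _
      · exact Ideal.subset_span ⟨⟨i, hi⟩, rfl⟩
    have hq : ∀ i : ι', (p.map (algebraMap R (Rf i.1))).IsPrime := fun i =>
      IsLocalization.isPrime_of_isPrime_disjoint (Submonoid.powers (f i.1)) _ p hp (by
        rw [Set.disjoint_left]
        rintro _ ⟨n, rfl⟩ hn
        exact i.2 (hp.mem_of_pow_mem n hn))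
    haveI : ∀ i : ι', IsLocalization.Away (g i)
        (Rf i.1 ⧸ p.map (algebraMap R (Rf i.1))) := fun i => by
      have : IsLocalization (Algebra.algebraMapSubmonoid (R ⧸ p) (Submonoid.powers (f i.1)))
        (Rf i.1 ⧸ p.map (algebraMap R (Rf i.1))) :=
        inferInstance
      have e : Algebra.algebraMapSubmonoid (R ⧸ p) (Submonoid.powers (f i.1)) =
          Submonoid.powers (g i) := by
        change Submonoid.map _ _ = _
        rw [Submonoid.map_powers]; rfl
      rw [e] at this
      exact this
    refine isN2_of_span_eq_top (R ⧸ p) g hspan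
      (fun i => Rf i.1 ⧸ p.map (algebraMap R (Rf i.1))) ?_
    intro i
    exact (h i.1).2 _

/-- An algebra essentially of finite type over a universally Japanese ring is universally
Japanese. -/
theorem isUniversallyJapanese_of_essFiniteType (R : Type u) [CommRing R]
    (hR : CAlg.IsUniversallyJapanese R) (T : Type u) [CommRing T] [Algebra R T]
    [Algebra.EssFiniteType R T] : CAlg.IsUniversallyJapanese T := by
  intro S _ _ _ hft
  letI : Algebra R S := ((algebraMap T S).comp (algebraMap R T)).toAlgebra
  haveI : IsScalarTower R T S := IsScalarTower.of_algebraMap_eq (fun _ => rfl)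
  haveI : Algebra.FiniteType T S := hft
  haveI : Algebra.EssFiniteType R S := Algebra.EssFiniteType.comp R T S
  have h0 : CAlg.IsN2 (Algebra.EssFiniteType.subalgebra R S) :=
    hR (Algebra.EssFiniteType.subalgebra R S) inferInstance
  exact isN2_of_isLocalization
    (Algebra.EssFiniteType.subalgebra R S) (Algebra.EssFiniteType.submonoid R S) S h0

/-- Being universally Japanese can be checked on a finite cover by principal opens (abstract
localizations). -/
theorem isUniversallyJapanese_of_span_eq_top (R : Type u) [CommRing R]
    {ι : Type*} [Finite ι] (f : ι → R) (hf : Ideal.span (Set.range f) = ⊤)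
    (Rf : ι → Type u) [∀ i, CommRing (Rf i)] [∀ i, Algebra R (Rf i)]
    [∀ i, IsLocalization.Away (f i) (Rf i)]
    (h : ∀ i, CAlg.IsUniversallyJapanese (Rf i)) : CAlg.IsUniversallyJapanese R := by
  intro S _ _ _ hft
  classical
  haveI := hft
  let g : ι → S := fun i => algebraMap R S (f i)
  let ι' := {i : ι // g i ≠ 0}
  have hspan : Ideal.span (Set.range (fun i : ι' => g i.1)) = ⊤ := by
    have h1 : Ideal.span (Set.range g) = ⊤ := by
      have := congrArg (Ideal.map (algebraMap R S)) hf
      rw [Ideal.map_span, Ideal.map_top, ← Set.range_comp] at this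
      exact this
    rw [eq_top_iff, ← h1, Ideal.span_le]
    rintro _ ⟨i, rfl⟩
    by_cases hi : g i = 0
    · rw [hi]; exact zero_mem _
    · exact Ideal.subset_span ⟨⟨i, hi⟩, rfl⟩
  haveI : ∀ i : ι', IsDomain (Localization.Away (g i.1)) := fun i =>
    IsLocalization.isDomain_localization (powers_le_nonZeroDivisors_of_noZeroDivisors i.2)
  refine isN2_of_span_eq_top S (fun i : ι' => g i.1) hspan
    (fun i => Localization.Away (g i.1)) ?_
  intro i
  have hu : IsUnit (algebraMap R (Localization.Away (g i.1)) (f i.1)) := by
    rw [IsScalarTower.algebraMap_apply R S (Localization.Away (g i.1))]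
    exact IsLocalization.Away.algebraMap_isUnit (g i.1)
  letI : Algebra (Rf i.1) (Localization.Away (g i.1)) :=
    (IsLocalization.Away.lift (f i.1) hu).toAlgebra
  haveI : IsScalarTower R (Rf i.1) (Localization.Away (g i.1)) :=
    IsScalarTower.of_algebraMap_eq (fun r => (IsLocalization.Away.lift_eq (f i.1) hu r).symm)
  haveI : Algebra.FiniteType R (Localization.Away (g i.1)) := inferInstance
  have hft' : Algebra.FiniteType (Rf i.1) (Localization.Away (g i.1)) :=
    Algebra.FiniteType.of_restrictScalars_finiteType R _ _
  exact h i.1 (Localization.Away (g i.1)) hft'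

end Groth.Agent.Helper4.Japanese
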