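import Mathlib
import Groth.Agent.Helper4.SN66
import Groth.Agent.S1585

/-!
# The normalization of a genus zero curve has genus zero
-/

set_option autoImplicit false
set_option linter.style.haveILetI false

namespace Groth.Agent.Helper4.SN

open CategoryTheory Limits AlgebraicGeometry Opposite TopologicalSpace
open Groth.Agent.Helper4.NApx82 Groth.Agent.Helper4.StalkDict

universe u

section Main

variable (k : Type u) [Field k] {X Y : Scheme.{u}} [X.Over (Spec (CommRingCat.of k))]
  [IsProper (X ↘ (Spec (CommRingCat.of k)))]

/-- for a finite morphism to a proper curve which is generically a closed immersion,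
`H¹(X, O_X) → H¹(X, f_* O_Y)` is surjective -/
theorem HHlin_one_unitToPush_surjective (hdim : topologicalKrullDim X ≤ 1) (f : Y ⟶ X) [IsFinite f]
    (U : X.Opens) (hU : Dense (U : Set X)) (hfU : IsClosedImmersion (f ∣_ U)) :
    Function.Surjective (Canon.HHlin k (ClSub.unitToPush f) 1) := by
  haveI := isNoetherian_of_proper k X
  haveI : NoetherianSpace X := inferInstance
  have hOX : Coh.IsCoh (Coh.structureModule X) :=
    Groth.Agent.Helper1.SerreFin.isCoh_of_isInvertible _ TensorInv.isInvertible_structureModule
  have hOY : Coh.IsCoh (Coh.structureModule Y) :=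
    Groth.Agent.Helper1.SerreFin.isCoh_of_isInvertible _ TensorInv.isInvertible_structureModule
  haveI : (Coh.structureModule Y).IsQuasicoherent := hOY.1
  have hP : Coh.IsCoh ((Scheme.Modules.pushforward f).obj (Coh.structureModule Y)) :=
    ⟨QcohGlue.isQuasicoherent_pushforward f _,
      FinitePush.isFiniteType_pushforward_of_isFinite f _ hOY.2⟩
  apply HHlin_one_surjective_of_cokernel k hdim (ClSub.unitToPush f) hOX hP
  intro x hx
  apply isClosed_singleton_of_notMem_dense hdim (U : Set X) U.isOpen hU x
  intro hxU
  apply hx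
  exact Groth.Agent.Lead.StalkNhd.subsingleton_stalk_cokernel _ x
    (stalkLin_unitToPush_surjective f U hfU x hxU)

include k in
/-- `H¹(O_X) = 0` passes to finite birational covers -/
theorem subsingleton_H1_of_finite_birational (hdim : topologicalKrullDim X ≤ 1) (f : Y ⟶ X)
    [IsFinite f] (U : X.Opens) (hU : Dense (U : Set X)) (hfU : IsClosedImmersion (f ∣_ U))
    (h1 : Subsingleton (Coh.HH X (Coh.structureModule X) 1)) :
    Subsingleton (Coh.HH Y (Coh.structureModule Y) 1) := by
  letI : Y.Over (Spec (CommRingCat.of k)) := ⟨f ≫ (X ↘ (Spec (CommRingCat.of k)))⟩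
  have hOY : Coh.IsCoh (Coh.structureModule Y) :=
    Groth.Agent.Helper1.SerreFin.isCoh_of_isInvertible _ TensorInv.isInvertible_structureModule
  haveI : Coh.IsQCoh (Coh.structureModule Y) := hOY.1
  obtain ⟨e⟩ := Groth.Agent.Helper1.AffLin.nonempty_HH_linearEquiv f k rfl
    (Coh.structureModule Y) 1
  have hs := HHlin_one_unitToPush_surjective k hdim f U hU hfU
  haveI : Subsingleton (Coh.HH X ((Coh.push f).obj (Coh.structureModule Y)) 1) := by
    refine ⟨fun a b => ?_⟩
    obtain ⟨a', rfl⟩ := hs a
    obtain ⟨b', rfl⟩ := hs b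
    rw [Subsingleton.elim a' b']
  exact e.toEquiv.subsingleton

include k in
/-- **S16298** -/
theorem main16298 [IsIntegral X] (hdim : topologicalKrullDim X = 1)
    (h1 : Subsingleton (Coh.HH X (Coh.structureModule X) 1))
    [QuasiCompact (X.fromSpecStalk (genericPoint X))]
    [QuasiSeparated (X.fromSpecStalk (genericPoint X))] :
    Subsingleton (Coh.HH (Curv2.normalization X)
      (Coh.structureModule (Curv2.normalization X)) 1) := by
  obtain ⟨hfin, -, ⟨V, hVne, hViso⟩, -, -⟩ := Groth.Agent.S1585.result k X
  haveI := hfin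
  haveI := hViso
  have hVd : Dense (V : Set X) := V.isOpen.dense hVne
  exact subsingleton_H1_of_finite_birational k hdim.le (Curv2.normalizationι X) V hVd
    inferInstance h1

end Main

end Groth.Agent.Helper4.SN
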