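import Mathlib
import Groth.Agent.Helper4.SN67
import Groth.Agent.Helper4.PullAmple
import Groth.Agent.Helper1.SV1
import Groth.Agent.Helper1.PF4
import Groth.Agent.Helper1.Dev14

/-!
# Ampleness can be checked on the integral closed subschemes (via eventual `H¹`-vanishing)
-/

set_option autoImplicit false
set_option linter.style.haveILetI false

namespace Groth.Agent.Helper4.SN

open CategoryTheory Limits AlgebraicGeometry Opposite TopologicalSpace
open Groth.Agent.Helper4.NApx82 Groth.Agent.Helper4.StalkDict Groth.Agent.Helper4.TensorInv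
  Groth.Agent.Helper1.Dev

universe u

section EvVan

variable {X : Scheme.{u}}

/-- eventual vanishing of `H¹` of the twists of `F` by powers of `L` -/
def EvVan (L F : X.Modules) : Prop :=
  ∃ n₀ : ℕ, ∀ n : ℕ, n₀ ≤ n →
    Subsingleton (Coh.HH X (CohB1.tensorMod F (CohB1.tensorPow L n)) 1)

theorem EvVan.of_iso {L F F' : X.Modules} (e : F ≅ F') (h : EvVan L F) : EvVan L F' := by
  obtain ⟨n₀, hn₀⟩ := h
  exact ⟨n₀, fun n hn => Groth.Agent.Helper1.SerreCrit.subsingleton_HH_of_iso
    (PicGrp.tensorModIso e (Iso.refl _)) 1 (hn₀ n hn)⟩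

variable (k : Type u) [Field k] [X.Over (Spec (CommRingCat.of k))]

include k in
theorem evVan_halfClass (L : X.Modules) (hL : PicF.IsInvertible L) :
    HalfClass (EvVan L : ObjectProperty X.Modules) where
  iso := fun e h => h.of_iso e
  zero := fun M hM => by
    refine ⟨0, fun n _ => ?_⟩
    apply Groth.Agent.Helper1.KzChase.subsingleton_HH_of_isZero
    have : IsZero ((DCoh.tensorRightMod (CohB1.tensorPow L n)).obj M) :=
      Functor.map_isZero _ hM
    exact this
  ext := fun S hS _ _ _ h₁ h₃ => by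
    obtain ⟨n₁, hn₁⟩ := h₁
    obtain ⟨n₃, hn₃⟩ := h₃
    refine ⟨max n₁ n₃, fun n hn => ?_⟩
    have hS' := Groth.Agent.Helper1.TwistExact.shortExact_map_tensorRightMod hS
      (CohB1.tensorPow L n) (isInvertible_tensorPow hL n)
    have hex := NApx80.exact_f_g k (S.map (DCoh.tensorRightMod (CohB1.tensorPow L n))) hS' 1
    haveI : Subsingleton (Coh.HH X (S.map (DCoh.tensorRightMod (CohB1.tensorPow L n))).X₁ 1) :=
      hn₁ n ((le_max_left _ _).trans hn)
    haveI : Subsingleton (Coh.HH X (S.map (DCoh.tensorRightMod (CohB1.tensorPow L n))).X₃ 1) :=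
      hn₃ n ((le_max_right _ _).trans hn)
    refine ⟨fun a b => ?_⟩
    suffices h : ∀ c : Coh.HH X (S.map (DCoh.tensorRightMod (CohB1.tensorPow L n))).X₂ 1,
        c = 0 by
      exact (h a).trans (h b).symm
    intro c
    obtain ⟨d, rfl⟩ := (hex c).1 (Subsingleton.elim _ _)
    rw [Subsingleton.elim d 0, map_zero]

end EvVan

section Push

variable (k : Type u) [Field k] {X : Scheme.{u}} [X.Over (Spec (CommRingCat.of k))]

include k in
/-- eventual vanishing on a closed subscheme gives eventual vanishing of the direct image -/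
theorem evVan_push {Z : Scheme.{u}} (i : Z ⟶ X) [IsAffineHom i] (L : X.Modules)
    (hL : PicF.IsInvertible L) (E : Z.Modules) (hE : Coh.IsQCoh E)
    (h : EvVan ((Scheme.Modules.pullback i).obj L) E) :
    EvVan L ((Scheme.Modules.pushforward i).obj E) := by
  obtain ⟨n₀, hn₀⟩ := h
  refine ⟨n₀, fun n hn => ?_⟩
  letI : Z.Over (Spec (CommRingCat.of k)) := ⟨i ≫ (X ↘ (Spec (CommRingCat.of k)))⟩
  have hL' := PullSec.isInvertible_pullback i hL
  have hB := Groth.Agent.Helper1.SerreFin.isCoh_of_isInvertible _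
    (isInvertible_tensorPow hL' n)
  haveI : E.IsQuasicoherent := hE
  haveI : (CohB1.tensorPow ((Scheme.Modules.pullback i).obj L) n).IsQuasicoherent := hB.1
  haveI hq : Coh.IsQCoh (CohB1.tensorMod E
      (CohB1.tensorPow ((Scheme.Modules.pullback i).obj L) n)) :=
    Groth.Agent.Lead.QcohTensor.isQuasicoherent_tensorMod E _
  obtain ⟨e⟩ := Groth.Agent.Helper1.AffLin.nonempty_HH_linearEquiv i k rfl
    (CohB1.tensorMod E (CohB1.tensorPow ((Scheme.Modules.pullback i).obj L) n)) 1
  haveI := hn₀ n hn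
  have h1 : Subsingleton (Coh.HH X ((Coh.push i).obj (CohB1.tensorMod E
      (CohB1.tensorPow ((Scheme.Modules.pullback i).obj L) n))) 1) :=
    e.symm.toEquiv.subsingleton
  refine Groth.Agent.Helper1.SerreCrit.subsingleton_HH_of_iso ?_ 1 h1
  exact (Scheme.Modules.pushforward i).mapIso
      (PicGrp.tensorModIso (Iso.refl E) (PullTensor.pullPowIso i hL n).symm) ≪≫
    (Groth.Agent.Helper1.PF.projIso i E (CohB1.tensorPow L n) (isInvertible_tensorPow hL n)).symm

include k in
/-- **ampleness from eventual vanishing on the integral closed subschemes** -/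
theorem isAmple_of_evVan [IsNoetherian X] (L : X.Modules) (hL : PicF.IsInvertible L)
    (h : ∀ Y : Closeds X, IsIrreducible (Y : Set X) →
      ∀ E : (Scheme.IdealSheafData.vanishingIdeal Y).subscheme.Modules, Coh.IsCoh E →
        EvVan ((Scheme.Modules.pullback
          (Scheme.IdealSheafData.vanishingIdeal Y).subschemeι).obj L) E) :
    CohB1.IsAmple L := by
  have hK := evVan_halfClass k L hL
  have hO : Coh.IsCoh (Coh.structureModule X) :=
    Groth.Agent.Helper1.SerreFin.isCoh_of_isInvertible _ isInvertible_structureModule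
  apply Groth.Agent.Helper4.H1Twist.isAmple_of_H1_twisted_ideals L hL
  intro I ι hmono hIq
  haveI := hmono
  haveI : I.IsQuasicoherent := hIq
  haveI : (Coh.structureModule X).IsQuasicoherent := hO.1
  have hI : Coh.IsCoh I := ⟨hIq, Groth.Agent.Helper4.QcohEpi.isFiniteType_of_mono ι hO.2⟩
  obtain ⟨n₀, hn₀⟩ := hK.core ⊤
    (fun Y _ hirr _ E hE => evVan_push k _ L hL E hE.1 (h Y hirr E hE)) I hI (Set.subset_univ _)
  exact ⟨n₀, hn₀ (n₀ + 1) (Nat.le_succ _)⟩

end Push

end Groth.Agent.Helper4.SN
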