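import Mathlib
import Groth.Agent.Helper4.SN68

/-!
# On a proper scheme of dimension at most one, ampleness is positivity of the degrees on the
one-dimensional irreducible components
-/

set_option autoImplicit false
set_option linter.style.haveILetI false

namespace Groth.Agent.Helper4.SN

open CategoryTheory Limits AlgebraicGeometry Opposite TopologicalSpace
open Groth.Agent.Helper4.NApx82 Groth.Agent.Helper4.StalkDict Groth.Agent.Helper4.TensorInv
  Groth.Agent.Helper1.Dev

universe u

section Top3

/-- in a space of dimension at most one, an irreducible closed subset which is not an irreducible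
component has dimension at most zero -/
theorem dim_le_zero_of_not_component {T : Type*} [TopologicalSpace T]
    (hdim : topologicalKrullDim T ≤ 1) (Y : Set T) (hYc : IsClosed Y) (hYi : IsIrreducible Y)
    (hY : Y ∉ irreducibleComponents T) : topologicalKrullDim ↥Y ≤ 0 := by
  by_contra hcon
  have h1 : ((1 : ℕ) : WithBot ℕ∞) ≤ topologicalKrullDim ↥Y := by
    have key : ∀ x : WithBot ℕ∞, ¬ x ≤ 0 → ((1 : ℕ) : WithBot ℕ∞) ≤ x := by
      intro x hx
      induction x using WithBot.recBotCoe with
      | bot => exact absurd bot_le hx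
      | coe n =>
        have hn : n ≠ 0 := by
          rintro rfl
          exact hx le_rfl
        exact_mod_cast (Order.one_le_iff_ne_zero.mpr hn)
    exact key _ hcon
  obtain ⟨l, hl⟩ := Order.le_krullDim_iff.mp h1
  -- a strictly bigger irreducible closed subset
  obtain ⟨s, hs, hYs, hsY⟩ : ∃ s : Set T, IsIrreducible s ∧ Y ⊆ s ∧ ¬ s ⊆ Y := by
    by_contra hno
    push Not at hno
    exact hY ⟨hYi, fun s hs hYs => hno s hs hYs⟩
  let Y' : IrreducibleCloseds T := ⟨closure s, hs.closure, isClosed_closure⟩
  let l' : LTSeries (IrreducibleCloseds T) :=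
    l.map (IrreducibleCloseds.map Subtype.val continuous_subtype_val)
      (IrreducibleCloseds.map_strictMono_of_isInducing Topology.IsInducing.subtypeVal)
  have hlast : l'.last < Y' := by
    have hsub : (l'.last : Set T) ⊆ Y := by
      change closure (Subtype.val '' (l.last : Set ↥Y)) ⊆ Y
      apply closure_minimal _ hYc
      rintro _ ⟨y, -, rfl⟩
      exact y.2
    refine lt_of_le_of_ne ?_ ?_
    · exact hsub.trans (hYs.trans subset_closure)
    · intro heq
      apply hsY
      have : (Y' : Set T) ⊆ Y := by
        rw [← heq]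
        exact hsub
      exact subset_closure.trans this
  let p : LTSeries (IrreducibleCloseds T) := l'.snoc Y' hlast
  have hp : p.length = 2 := by
    change l'.length + 1 = 2
    change l.length + 1 = 2
    rw [hl]
  have h2 := Order.LTSeries.length_le_krullDim p
  rw [hp] at h2
  have h3 : ((2 : ℕ) : WithBot ℕ∞) ≤ 1 := h2.trans hdim
  exact absurd h3 (by decide)

/-- `x ≤ 1` and `¬ x ≤ 0` force `x = 1` -/
theorem eq_one_of_le_one_of_not_le_zero (x : WithBot ℕ∞) (h1 : x ≤ 1) (h0 : ¬ x ≤ 0) : x = 1 := by
  induction x using WithBot.recBotCoe with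
  | bot => exact absurd bot_le h0
  | coe n =>
    have h1' : n ≤ 1 := by exact_mod_cast h1
    have h0' : n ≠ 0 := by
      rintro rfl
      exact h0 le_rfl
    have h2 : 1 ≤ n := Order.one_le_iff_ne_zero.mpr h0'
    have h3 : n = 1 := le_antisymm h1' h2
    rw [h3]
    rfl

end Top3

section Main

variable (k : Type u) [Field k] {X : Scheme.{u}} [X.Over (Spec (CommRingCat.of k))]
  [IsProper (X ↘ (Spec (CommRingCat.of k)))]

/-- the degree of `L` on the closed subscheme of `J` -/
noncomputable abbrev degOn (J : X.IdealSheafData) (L : X.Modules) : ℤ :=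
  @Curv2.deg k _ J.subscheme ⟨J.subschemeι ≫ (X ↘ (Spec (CommRingCat.of k)))⟩
    ((Scheme.Modules.pullback J.subschemeι).obj L) 1

theorem isAmple_pullback_iff_degOn_pos (J : X.IdealSheafData) [IsIntegral J.subscheme]
    (hd : topologicalKrullDim J.subscheme = 1) (L : X.Modules) (hL : PicF.IsInvertible L) :
    CohB1.IsAmple ((Scheme.Modules.pullback J.subschemeι).obj L) ↔ 0 < degOn k J L := by
  letI : J.subscheme.Over (Spec (CommRingCat.of k)) :=
    ⟨J.subschemeι ≫ (X ↘ (Spec (CommRingCat.of k)))⟩
  haveI : IsProper (J.subscheme ↘ Spec (CommRingCat.of k)) :=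
    (inferInstance : IsProper (J.subschemeι ≫ (X ↘ (Spec (CommRingCat.of k)))))
  have hL' := PullSec.isInvertible_pullback J.subschemeι hL
  exact ⟨fun h => deg_pos_of_isAmple k hd _ hL' h, fun h => isAmple_of_deg_pos k hd _ hL' h⟩

omit [X.Over (Spec (CommRingCat.of k))] [IsProper (X ↘ (Spec (CommRingCat.of k)))] in
theorem dim_subscheme_vanishingIdeal (Y : Closeds X) :
    topologicalKrullDim (Scheme.IdealSheafData.vanishingIdeal Y).subscheme =
      topologicalKrullDim ↥(Y : Set X) := by
  have e := (Scheme.IdealSheafData.vanishingIdeal Y).subschemeι.isClosedEmbedding.isEmbedding.toHomeomorph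
  have h := IsHomeomorph.topologicalKrullDim_eq e e.isHomeomorph
  rw [h, range_ι_vanishingIdeal]

omit [X.Over (Spec (CommRingCat.of k))] [IsProper (X ↘ (Spec (CommRingCat.of k)))] in
theorem radical_irreducibleComponentIdeal [IsNoetherian X] (C : Set X)
    (hC : C ∈ irreducibleComponents X) :
    (X.irreducibleComponentIdeal C hC).radical =
      Scheme.IdealSheafData.vanishingIdeal ⟨C, isClosed_of_mem_irreducibleComponents C hC⟩ := by
  rw [← Scheme.IdealSheafData.vanishingIdeal_support]
  congr 1

/-- **S7642**, the direction "positive degrees imply ample" -/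
theorem isAmple_of_degOn_pos [IsNoetherian X] (hdim : topologicalKrullDim X ≤ 1) (L : X.Modules)
    (hL : PicF.IsInvertible L)
    (h : ∀ (C : Set X) (hC : C ∈ irreducibleComponents X), topologicalKrullDim C = 1 →
      0 < degOn k ((X.irreducibleComponentIdeal C hC).radical) L) : CohB1.IsAmple L := by
  apply isAmple_of_evVan k L hL
  intro Y hirr E hE
  haveI : IsIntegral (Scheme.IdealSheafData.vanishingIdeal Y).subscheme :=
    isIntegral_subscheme Y hirr
  letI : (Scheme.IdealSheafData.vanishingIdeal Y).subscheme.Over (Spec (CommRingCat.of k)) :=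
    ⟨(Scheme.IdealSheafData.vanishingIdeal Y).subschemeι ≫ (X ↘ (Spec (CommRingCat.of k)))⟩
  haveI : IsProper ((Scheme.IdealSheafData.vanishingIdeal Y).subscheme ↘
      Spec (CommRingCat.of k)) :=
    (inferInstance : IsProper ((Scheme.IdealSheafData.vanishingIdeal Y).subschemeι ≫
      (X ↘ (Spec (CommRingCat.of k)))))
  haveI : IsNoetherian (Scheme.IdealSheafData.vanishingIdeal Y).subscheme :=
    isNoetherian_of_isClosedImmersion (Scheme.IdealSheafData.vanishingIdeal Y).subschemeι
  by_cases h0 : topologicalKrullDim ↥(Y : Set X) ≤ 0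
  · have hd : topologicalKrullDim (Scheme.IdealSheafData.vanishingIdeal Y).subscheme ≤
        ((0 : ℕ) : WithBot ℕ∞) := by
      rw [dim_subscheme_vanishingIdeal]
      exact_mod_cast h0
    exact ⟨0, fun n _ => subsingleton_HH_of_dim 0 hd _ 1 one_pos⟩
  · have hcomp : (Y : Set X) ∈ irreducibleComponents X := by
      by_contra hnc
      exact h0 (dim_le_zero_of_not_component hdim _ Y.isClosed hirr hnc)
    have hd1 : topologicalKrullDim ↥(Y : Set X) = 1 :=
      eq_one_of_le_one_of_not_le_zero _ ((topologicalKrullDim_subspace_le X _).trans hdim) h0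
    have hpos := h (Y : Set X) hcomp hd1
    rw [radical_irreducibleComponentIdeal] at hpos
    have hamp := (isAmple_pullback_iff_degOn_pos k (Scheme.IdealSheafData.vanishingIdeal Y)
      (by rw [dim_subscheme_vanishingIdeal]; exact hd1) L hL).mpr hpos
    obtain ⟨n₀, hn₀⟩ := Groth.Agent.Helper1.SV.serre_vanishing k
      ((Scheme.IdealSheafData.vanishingIdeal Y).subscheme ↘ Spec (CommRingCat.of k)) hamp E hE
    exact ⟨n₀, fun n hn => hn₀ n hn 1 le_rfl⟩

/-- **S7642**, the direction "ample implies positive degrees" -/
theorem degOn_pos_of_isAmple [IsNoetherian X] (L : X.Modules) (hL : PicF.IsInvertible L)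
    (hamp : CohB1.IsAmple L) (C : Set X) (hC : C ∈ irreducibleComponents X)
    (hCd : topologicalKrullDim C = 1) :
    0 < degOn k ((X.irreducibleComponentIdeal C hC).radical) L := by
  rw [radical_irreducibleComponentIdeal]
  haveI : IsIntegral (Scheme.IdealSheafData.vanishingIdeal
      ⟨C, isClosed_of_mem_irreducibleComponents C hC⟩).subscheme :=
    isIntegral_subscheme ⟨C, isClosed_of_mem_irreducibleComponents C hC⟩ hC.1
  rw [← isAmple_pullback_iff_degOn_pos k _
    (by rw [dim_subscheme_vanishingIdeal]; exact hCd) L hL]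
  exact PullAmple.isAmple_pullback_of_isAffineHom _ hamp

end Main

end Groth.Agent.Helper4.SN
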