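import Groth.Agent.S0385
import Mathlib

set_option autoImplicit false
universe u

namespace Groth.Agent.Helper4.NApx12

open AlgebraicGeometry CategoryTheory Limits

/-- A finite morphism to a quasi-compact open `U` of a qcqs scheme `S` extends to a finite morphism
to `S` (the scheme-theoretic closure in a Zariski-main-theorem compactification); the extension is
schematically dense. -/
theorem exists_finite_extension {S V : Scheme.{u}} [CompactSpace ↑S] [QuasiSeparatedSpace ↑S]
    (U : S.Opens) (hU : IsCompact (U : Set ↑S))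
    (v : V ⟶ (U : Scheme.{u})) [IsFinite v] :
    ∃ (T : Scheme.{u}) (π : T ⟶ S) (i : V ⟶ T), IsFinite π ∧ IsOpenImmersion i ∧
      IsPullback i v π U.ι ∧ Set.range i = ((π ⁻¹ᵁ U : T.Opens) : Set T) ∧
      (∀ W : S.affineOpens, Function.Injective (i.app (π ⁻¹ᵁ W.1))) := by
  haveI : CompactSpace (U : Scheme.{u}) := isCompact_iff_compactSpace.mp hU
  haveI : QuasiCompact U.ι := inferInstance
  let f : V ⟶ S := v ≫ U.ι
  haveI : QuasiCompact f := by show QuasiCompact (v ≫ U.ι); infer_instance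
  haveI : LocallyQuasiFinite f := by show LocallyQuasiFinite (v ≫ U.ι); infer_instance
  haveI : LocallyOfFiniteType f := by show LocallyOfFiniteType (v ≫ U.ι); infer_instance
  haveI : IsSeparated f := by show IsSeparated (v ≫ U.ι); infer_instance
  obtain ⟨T, j, π₀, hj1, hj2, hπ₀, hfac⟩ := Groth.Agent.S0385.result f
  haveI := hj1
  haveI := hj2
  haveI := hπ₀
  let π' : j.image ⟶ S := j.imageι ≫ π₀
  have hfac' : j.toImage ≫ π' = f := by
    show j.toImage ≫ j.imageι ≫ π₀ = f
    rw [Scheme.Hom.toImage_imageι_assoc]; exact hfac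
  have hfx : ∀ x : V, f x ∈ U := fun x => by
    show (v ≫ U.ι) x ∈ U
    rw [Scheme.Hom.comp_apply]
    exact (v x).2
  have hrange : Set.range j.toImage ⊆ ((π' ⁻¹ᵁ U : j.image.Opens) : Set j.image) := by
    rintro _ ⟨x, rfl⟩
    show π' (j.toImage x) ∈ U
    rw [← Scheme.Hom.comp_apply, hfac']
    exact hfx x
  let r : V ⟶ (π' ⁻¹ᵁ U : Scheme.{u}) := IsOpenImmersion.lift (π' ⁻¹ᵁ U).ι j.toImage
    (by rw [Scheme.Opens.range_ι]; exact hrange)
  have hr : r ≫ (π' ⁻¹ᵁ U).ι = j.toImage := IsOpenImmersion.lift_fac _ _ _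
  have hrv : r ≫ (π' ∣_ U) = v := by
    rw [← cancel_mono U.ι, Category.assoc, morphismRestrict_ι, ← Category.assoc, hr, hfac']
  haveI : IsFinite π' := by show IsFinite (j.imageι ≫ π₀); infer_instance
  haveI : UniversallyClosed r := by
    haveI : UniversallyClosed (r ≫ (π' ∣_ U)) := by rw [hrv]; infer_instance
    exact UniversallyClosed.of_comp_of_isSeparated r (π' ∣_ U)
  have hcl : IsClosed (Set.range r) := r.isClosedMap.isClosed_range
  have hd : Dense (Set.range r) := by
    rw [(π' ⁻¹ᵁ U).ι.isOpenEmbedding.isInducing.dense_iff]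
    intro y
    have h1 : (π' ⁻¹ᵁ U).ι '' Set.range r = Set.range j.toImage := by
      rw [← Set.range_comp, ← hr]
      rfl
    rw [h1, j.toImage.denseRange.closure_range]
    trivial
  have hsurj : Set.range r = Set.univ := by
    rw [← hcl.closure_eq]; exact hd.closure_eq
  have hrange' : Set.range j.toImage = ((π' ⁻¹ᵁ U : j.image.Opens) : Set j.image) := by
    rw [← hr, Scheme.Hom.comp_base, TopCat.coe_comp, Set.range_comp, hsurj, Set.image_univ,
      Scheme.Opens.range_ι]
  let e := IsOpenImmersion.isoOfRangeEq j.toImage (π' ⁻¹ᵁ U).ι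
    (by rw [hrange', Scheme.Opens.range_ι])
  have he : e.hom ≫ (π' ⁻¹ᵁ U).ι = j.toImage := IsOpenImmersion.isoOfRangeEq_hom_fac _ _ _
  refine ⟨j.image, π', j.toImage, inferInstance, inferInstance, ?_, hrange', ?_⟩
  · refine IsPullback.of_iso (isPullback_morphismRestrict π' U).flip e.symm (Iso.refl _)
      (Iso.refl _) (Iso.refl _) ?_ ?_ ?_ ?_
    · simp [← he]
    · rw [← cancel_mono U.ι]
      simp only [Iso.symm_hom, Iso.refl_hom, Category.comp_id, Category.assoc,
        morphismRestrict_ι]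
      have h5 : v ≫ U.ι = e.hom ≫ (π' ⁻¹ᵁ U).ι ≫ π' := by
        rw [← Category.assoc, he, hfac']
      rw [h5, Iso.inv_hom_id_assoc]
    · simp
    · simp
  · intro W
    have hW : IsAffineOpen (π₀ ⁻¹ᵁ W.1) := W.2.preimage π₀
    exact j.toImage_app_injective ⟨π₀ ⁻¹ᵁ W.1, hW⟩

end Groth.Agent.Helper4.NApx12
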