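import Groth.Prelude.Def_W4c6modpairsegaMP
import Groth.Agent.Helper4.NApx12
import Groth.Agent.Helper9.IdealComap
import Mathlib

set_option autoImplicit false
universe u

namespace Groth.Agent.Helper4.NApx13

open AlgebraicGeometry CategoryTheory Limits

/-- On an affine open where the ideal is principal, the interior is the basic open. -/
theorem interior_inter {S : Scheme.{u}} (I : S.IdealSheafData) (W : S.affineOpens)
    (a : Γ(S, W.1)) (ha : I.ideal W = Ideal.span {a}) :
    ((ModPair.interior I : S.Opens) : Set S) ∩ (W.1 : Set S) = (S.basicOpen a : Set S) := by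
  ext x
  constructor
  · rintro ⟨hx1, hx2⟩
    have h1 : x ∉ I.support := hx1
    rw [Scheme.IdealSheafData.mem_support_iff_of_mem (U := W) hx2, ha, Scheme.zeroLocus_span,
      Scheme.zeroLocus_singleton] at h1
    simpa using h1
  · intro hx
    have hxW : x ∈ W.1 := S.basicOpen_le a hx
    refine ⟨?_, hxW⟩
    show x ∉ I.support
    rw [Scheme.IdealSheafData.mem_support_iff_of_mem (U := W) hxW, ha, Scheme.zeroLocus_span,
      Scheme.zeroLocus_singleton]
    simpa using hx

theorem isCompact_interior {S : Scheme.{u}} [CompactSpace S] (I : S.IdealSheafData)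
    (hI : BlowUp.IsEffCartierIdeal I) : IsCompact ((ModPair.interior I : S.Opens) : Set S) := by
  choose W hxW a ha hIa using hI
  obtain ⟨t, ht⟩ := isCompact_univ.elim_finite_subcover (fun x : S => ((W x).1 : Set S))
    (fun x => (W x).1.isOpen) (fun x _ => Set.mem_iUnion.mpr ⟨x, hxW x⟩)
  have h1 : ((ModPair.interior I : S.Opens) : Set S) =
      ⋃ x ∈ t, (S.basicOpen (a x) : Set S) := by
    ext y
    simp only [Set.mem_iUnion]
    constructor
    · intro hy
      obtain ⟨x, hxt, hyx⟩ := Set.mem_iUnion₂.mp (ht (Set.mem_univ y))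
      refine ⟨x, hxt, ?_⟩
      rw [← interior_inter I (W x) (a x) (hIa x)]
      exact ⟨hy, hyx⟩
    · rintro ⟨x, hxt, hyx⟩
      rw [← interior_inter I (W x) (a x) (hIa x)] at hyx
      exact hyx.1
  rw [h1]
  exact t.finite_toSet.isCompact_biUnion (fun x _ => ((W x).2.basicOpen (a x)).isCompact)

theorem dense_interior {S : Scheme.{u}} (I : S.IdealSheafData)
    (hI : BlowUp.IsEffCartierIdeal I) : Dense ((ModPair.interior I : S.Opens) : Set S) := by
  rw [dense_iff_inter_open]
  rintro V hV ⟨x, hxV⟩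
  obtain ⟨W, hxW, a, ha, hIa⟩ := hI x
  obtain ⟨g, hg1, hg2⟩ := W.2.exists_basicOpen_le (V := ⟨V, hV⟩) ⟨x, hxV⟩ hxW
  by_contra hempty
  rw [Set.not_nonempty_iff_eq_empty] at hempty
  have h1 : S.basicOpen (g * a) = ⊥ := by
    rw [Scheme.basicOpen_mul]
    ext y
    simp only [TopologicalSpace.Opens.coe_inf, Set.mem_inter_iff, SetLike.mem_coe,
      TopologicalSpace.Opens.coe_bot, Set.mem_empty_iff_false, iff_false, not_and]
    intro hy1 hy2
    have hy3 : y ∈ ((ModPair.interior I : S.Opens) : Set S) ∩ (W.1 : Set S) := by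
      rw [interior_inter I W a hIa]; exact hy2
    have : y ∈ V ∩ ((ModPair.interior I : S.Opens) : Set S) := ⟨hg1 hy1, hy3.1⟩
    rw [hempty] at this
    exact this
  rw [← Scheme.isNilpotent_iff_basicOpen_eq_bot_of_isCompact W.2.isCompact] at h1
  obtain ⟨n, hn⟩ := h1
  rw [mul_pow] at hn
  have h2 : g ^ n = 0 := by
    have := (pow_mem ha n)
    exact (mem_nonZeroDivisors_iff_right.mp this) _ hn
  have h3 : S.basicOpen g = ⊥ := by
    rw [← Scheme.isNilpotent_iff_basicOpen_eq_bot_of_isCompact W.2.isCompact]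
    exact ⟨n, h2⟩
  rw [h3] at hg2
  exact hg2

end Groth.Agent.Helper4.NApx13
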