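import Groth.Prelude.Def_W4c6modpairsegaMP
import Groth.Agent.Helper4.NApx13
import Mathlib

set_option autoImplicit false
universe u

namespace Groth.Agent.Helper4.NApx14

open AlgebraicGeometry CategoryTheory Limits
open Groth.Agent.Helper4.NApx13

set_option backward.isDefEq.respectTransparency false in
theorem quasiCompact_interior_ι {S : Scheme.{u}} (I : S.IdealSheafData)
    (hI : BlowUp.IsEffCartierIdeal I) : QuasiCompact (ModPair.interior I).ι := by
  choose W hxW a ha hIa using hI
  have hsup : (⨆ x : S, (W x).1) = ⊤ := by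
    rw [eq_top_iff]
    intro x _
    exact TopologicalSpace.Opens.mem_iSup.mpr ⟨x, hxW x⟩
  rw [HasAffineProperty.iff_of_iSup_eq_top (P := @QuasiCompact) (U := W) hsup]
  intro x
  have h1 : (ModPair.interior I).ι ''ᵁ ((ModPair.interior I).ι ⁻¹ᵁ (W x).1) = S.basicOpen (a x) := by
    rw [Scheme.Hom.image_preimage_eq_opensRange_inf, Scheme.Opens.opensRange_ι]
    ext y
    have := interior_inter I (W x) (a x) (hIa x)
    exact Set.ext_iff.mp this y
  have h2 : IsAffineOpen ((ModPair.interior I).ι ⁻¹ᵁ (W x).1) := by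
    rw [← (ModPair.interior I).ι.isAffineOpen_iff_of_isOpenImmersion, h1]
    exact (W x).2.basicOpen (a x)
  haveI : IsAffine ((ModPair.interior I).ι ⁻¹ᵁ (W x).1).toScheme := h2
  show CompactSpace ((ModPair.interior I).ι ⁻¹ᵁ (W x).1).toScheme
  infer_instance

theorem quasiCompact_preimage_interior_ι {X X' : Scheme.{u}} (I : X.IdealSheafData)
    (hI : BlowUp.IsEffCartierIdeal I) (f : X' ⟶ X) :
    QuasiCompact (f ⁻¹ᵁ ModPair.interior I).ι := by
  haveI := quasiCompact_interior_ι I hI
  exact MorphismProperty.of_isPullback (P := @QuasiCompact)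
    (isPullback_morphismRestrict f (ModPair.interior I)) inferInstance

/-- pullback of an effective Cartier ideal along a morphism for which the preimage of the interior
is schematically dense is effective Cartier -/
theorem isEffCartierIdeal_comap {X X' : Scheme.{u}}
    (I : X.IdealSheafData) (hI : BlowUp.IsEffCartierIdeal I) (f : X' ⟶ X)
    [IsSchemeTheoreticallyDominant (f ⁻¹ᵁ ModPair.interior I).ι] :
    BlowUp.IsEffCartierIdeal (I.comap f) := by
  haveI := quasiCompact_preimage_interior_ι I hI f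
  intro y
  obtain ⟨W, hxW, a, ha, hIa⟩ := hI (f y)
  obtain ⟨_, ⟨V, hV, rfl⟩, hyV, hVW⟩ :=
    X'.isBasis_affineOpens.exists_subset_of_mem_open (show y ∈ ((f ⁻¹ᵁ W.1 : X'.Opens) : Set X') from hxW)
      (f ⁻¹ᵁ W.1).isOpen
  have e : V ≤ f ⁻¹ᵁ W.1 := hVW
  refine ⟨⟨V, hV⟩, hyV, (f.appLE W.1 V e).hom a, ?_, ?_⟩
  · set ι₀ := (f ⁻¹ᵁ ModPair.interior I).ι with hι₀
    have hinj : Function.Injective (ι₀.app V) := ι₀.app_injective V
    have hunit : IsUnit ((ι₀.app V).hom ((f.appLE W.1 V e).hom a)) := by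
      apply RingedSpace.isUnit_of_isUnit_germ
      intro x' hx'
      have hx1 : ι₀ x' ∈ V := hx'
      have hx2 : f (ι₀ x') ∈ ModPair.interior I := x'.2
      have hx3 : f (ι₀ x') ∈ W.1 := e hx1
      have h2 : x' ∈ (f ⁻¹ᵁ ModPair.interior I).toScheme.basicOpen
          ((ι₀.app V).hom ((f.appLE W.1 V e).hom a)) := by
        rw [← Scheme.Hom.preimage_basicOpen]
        show ι₀ x' ∈ X'.basicOpen ((f.appLE W.1 V e).hom a)
        rw [Scheme.Hom.appLE, CommRingCat.hom_comp, RingHom.comp_apply, Scheme.basicOpen_res,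
          ← Scheme.Hom.preimage_basicOpen]
        refine ⟨hx1, ?_⟩
        show f (ι₀ x') ∈ X.basicOpen a
        have : f (ι₀ x') ∈ ((ModPair.interior I : X.Opens) : Set X) ∩ (W.1 : Set X) := ⟨hx2, hx3⟩
        rw [interior_inter I W a hIa] at this
        exact this
      exact (Scheme.mem_basicOpen _ _ _ hx').mp h2
    rw [mem_nonZeroDivisors_iff_right]
    intro z hz
    apply hinj
    rw [map_zero]
    have h3 := congrArg (ι₀.app V).hom hz
    rw [map_mul, map_zero] at h3
    exact hunit.mul_left_eq_zero.mp h3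
  · rw [Groth.Agent.Helper9.IdealComap.ideal_comap f I W ⟨V, hV⟩ e, hIa,
      Ideal.map_span, Set.image_singleton]

end Groth.Agent.Helper4.NApx14
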