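import Groth.Prelude.Def_W4c6modpairsegaMP
import Groth.Agent.Helper4.NApx14
import Mathlib

set_option autoImplicit false
universe u

namespace Groth.Agent.Helper4.NApx15

open AlgebraicGeometry CategoryTheory Limits
open Groth.Agent.Helper4.NApx13 Groth.Agent.Helper4.NApx14

/-- the canonical morphism to the scheme theoretic image is schematically dominant -/
theorem isSchemeTheoreticallyDominant_toImage {X Y : Scheme.{u}} (f : X ⟶ Y) [QuasiCompact f] :
    IsSchemeTheoreticallyDominant f.toImage := by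
  rw [isSchemeTheoreticallyDominant_iff, eq_bot_iff]
  let U : Y.affineOpens → f.image.affineOpens := fun A =>
    ⟨f.imageι ⁻¹ᵁ A.1, A.2.preimage f.imageι⟩
  have hU : (⨆ A : Y.affineOpens, (U A).1) = ⊤ := by
    rw [eq_top_iff]
    intro y _
    obtain ⟨_, ⟨A, hA, rfl⟩, hyA, -⟩ :=
      Y.isBasis_affineOpens.exists_subset_of_mem_open (Set.mem_univ (f.imageι y)) isOpen_univ
    exact TopologicalSpace.Opens.mem_iSup.mpr ⟨⟨A, hA⟩, hyA⟩
  refine Scheme.IdealSheafData.le_of_iSup_eq_top U hU (fun A => ?_)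
  intro s hs
  have h1 := Scheme.Hom.ideal_ker_le f.toImage (U A) hs
  rw [RingHom.mem_ker] at h1
  have h2 : s = 0 := by
    apply f.toImage_app_injective A
    rw [map_zero]
    exact h1
  rw [h2]
  exact Submodule.zero_mem _

/-- every point is a specialization of a point of the interior of an effective Cartier divisor -/
theorem exists_specializes_interior {S : Scheme.{u}} (I : S.IdealSheafData)
    (hI : BlowUp.IsEffCartierIdeal I) (s : S) :
    ∃ u : S, u ∈ ModPair.interior I ∧ u ⤳ s := by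
  obtain ⟨W, hsW, a, ha, hIa⟩ := hI s
  let p := W.2.primeIdealOf ⟨s, hsW⟩
  obtain ⟨q, hq, hqp⟩ := Ideal.exists_minimalPrimes_le (bot_le : (⊥ : Ideal Γ(S, W.1)) ≤ p.asIdeal)
  haveI : q.IsPrime := hq.1.1
  let q' : PrimeSpectrum Γ(S, W.1) := ⟨q, inferInstance⟩
  have haq : a ∉ q := fun h => notMem_nonZeroDivisors_of_mem_mem_minimalPrimes h hq ha
  have hspec : q' ⤳ p := (PrimeSpectrum.le_iff_specializes q' p).mp hqp
  have h1 : W.2.fromSpec q' ⤳ W.2.fromSpec p := hspec.map W.2.fromSpec.continuous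
  rw [W.2.fromSpec_primeIdealOf ⟨s, hsW⟩] at h1
  refine ⟨W.2.fromSpec q', ?_, h1⟩
  have h2 : q' ∈ W.2.fromSpec ⁻¹ᵁ S.basicOpen a := by
    rw [W.2.fromSpec_preimage_basicOpen]
    exact haq
  have h3 : W.2.fromSpec q' ∈ S.basicOpen a := h2
  have h4 : W.2.fromSpec q' ∈ ((ModPair.interior I : S.Opens) : Set S) ∩ (W.1 : Set S) := by
    rw [interior_inter I W a hIa]; exact h3
  exact h4.1

end Groth.Agent.Helper4.NApx15
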