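import Groth.Prelude.Def_W4c6modpairsegaMP
import Groth.Agent.Helper4.NApx15
import Mathlib

set_option autoImplicit false
universe u

namespace Groth.Agent.Helper4.NApx16

open AlgebraicGeometry CategoryTheory Limits
open Groth.Agent.Helper4.NApx13 Groth.Agent.Helper4.NApx14 Groth.Agent.Helper4.NApx15

/-- closure in `S` of a closed subscheme of the interior of an effective Cartier divisor -/
theorem closure_of_closedImmersion {S V : Scheme.{u}} (I : S.IdealSheafData)
    (hI : BlowUp.IsEffCartierIdeal I) (g : V ⟶ (ModPair.interior I : Scheme.{u}))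
    [IsClosedImmersion g] :
    QuasiCompact (g ≫ (ModPair.interior I).ι) ∧
    IsOpenImmersion (g ≫ (ModPair.interior I).ι).toImage ∧
    Set.range (g ≫ (ModPair.interior I).ι).toImage =
      (g ≫ (ModPair.interior I).ι).imageι ⁻¹' (ModPair.interior I : Set S) ∧
    BlowUp.IsEffCartierIdeal (I.comap (g ≫ (ModPair.interior I).ι).imageι) := by
  haveI hqcU : QuasiCompact (ModPair.interior I).ι := quasiCompact_interior_ι I hI
  have hrangeι : Set.range (g ≫ (ModPair.interior I).ι).imageι =
      closure (Set.range (g ≫ (ModPair.interior I).ι)) := by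
    rw [Scheme.Hom.imageι, Scheme.IdealSheafData.range_subschemeι, Scheme.Hom.support_ker]
  have hrange : Set.range (g ≫ (ModPair.interior I).ι).toImage =
      (g ≫ (ModPair.interior I).ι).imageι ⁻¹' (ModPair.interior I : Set S) := by
    ext y
    constructor
    · rintro ⟨v, rfl⟩
      show (g ≫ (ModPair.interior I).ι).imageι ((g ≫ (ModPair.interior I).ι).toImage v) ∈
        ModPair.interior I
      rw [← Scheme.Hom.comp_apply, Scheme.Hom.toImage_imageι, Scheme.Hom.comp_apply]
      exact (g v).2
    · intro hy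
      have hy' : (g ≫ (ModPair.interior I).ι).imageι y ∈ ModPair.interior I := hy
      have h1 : (g ≫ (ModPair.interior I).ι).imageι y ∈
          closure (Set.range (g ≫ (ModPair.interior I).ι)) := by
        rw [← hrangeι]; exact ⟨y, rfl⟩
      have hC : IsClosed (Set.range g) := g.isClosedEmbedding.isClosed_range
      have h2 : Set.range (g ≫ (ModPair.interior I).ι) =
          (ModPair.interior I).ι '' Set.range g := by
        rw [← Set.range_comp]; rfl
      have h3 : (⟨_, hy'⟩ : (ModPair.interior I : Scheme.{u})) ∈ closure (Set.range g) := by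
        rw [(ModPair.interior I).ι.isOpenEmbedding.isInducing.closure_eq_preimage_closure_image,
          ← h2]
        exact h1
      rw [hC.closure_eq] at h3
      obtain ⟨v, hv⟩ := h3
      refine ⟨v, ?_⟩
      apply (g ≫ (ModPair.interior I).ι).imageι.isClosedEmbedding.injective
      show (g ≫ (ModPair.interior I).ι).imageι ((g ≫ (ModPair.interior I).ι).toImage v) = _
      rw [← Scheme.Hom.comp_apply, Scheme.Hom.toImage_imageι, Scheme.Hom.comp_apply, hv]
      rfl
  refine ⟨inferInstance, inferInstance, hrange, ?_⟩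
  set h := g ≫ (ModPair.interior I).ι with hh
  haveI : IsSchemeTheoreticallyDominant h.toImage := isSchemeTheoreticallyDominant_toImage h
  let e := IsOpenImmersion.isoOfRangeEq h.toImage (h.imageι ⁻¹ᵁ ModPair.interior I).ι
    (by rw [Scheme.Opens.range_ι]; exact hrange)
  have he : e.hom ≫ (h.imageι ⁻¹ᵁ ModPair.interior I).ι = h.toImage :=
    IsOpenImmersion.isoOfRangeEq_hom_fac _ _ _
  haveI : IsSchemeTheoreticallyDominant (h.imageι ⁻¹ᵁ ModPair.interior I).ι := by
    have : (h.imageι ⁻¹ᵁ ModPair.interior I).ι = e.inv ≫ h.toImage := by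
      rw [← he, Iso.inv_hom_id_assoc]
    rw [this]
    infer_instance
  exact isEffCartierIdeal_comap I hI h.imageι

/-- effective Cartier ideals can be detected on an open cover -/
theorem isEffCartierIdeal_of_cover {Z : Scheme.{u}} (J : Z.IdealSheafData)
    (hcover : ∀ y : Z, ∃ (V : Scheme.{u}) (j : V ⟶ Z) (_ : IsOpenImmersion j),
      y ∈ Set.range j ∧ BlowUp.IsEffCartierIdeal (J.comap j)) :
    BlowUp.IsEffCartierIdeal J := by
  intro y
  obtain ⟨V, j, hj, ⟨v, rfl⟩, hJ⟩ := hcover y
  obtain ⟨A, hvA, a, ha, hIa⟩ := hJ v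
  refine ⟨⟨j ''ᵁ A.1, A.2.image_of_isOpenImmersion j⟩, ⟨v, hvA, rfl⟩, (j.appIso A.1).inv.hom a, ?_, ?_⟩
  · rw [mem_nonZeroDivisors_iff_right]
    intro z hz
    have h1 := congrArg (j.appIso A.1).hom.hom hz
    rw [map_mul, map_zero] at h1
    have h2 : (j.appIso A.1).hom.hom ((j.appIso A.1).inv.hom a) = a := by
      rw [← CommRingCat.comp_apply, Iso.inv_hom_id]; rfl
    rw [h2] at h1
    have h3 := (mem_nonZeroDivisors_iff_right.mp ha) _ h1
    have h4 := congrArg (j.appIso A.1).inv.hom h3
    rw [map_zero, ← CommRingCat.comp_apply, Iso.hom_inv_id] at h4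
    exact h4
  · rw [Scheme.IdealSheafData.ideal_comap_of_isOpenImmersion] at hIa
    ext z
    have hz1 : (j.appIso A.1).inv.hom ((j.appIso A.1).hom.hom z) = z := by
      rw [← CommRingCat.comp_apply, Iso.hom_inv_id]; rfl
    constructor
    · intro hz
      have h1 : (j.appIso A.1).hom.hom z ∈ Ideal.span {a} := by
        rw [← hIa, Ideal.mem_comap, hz1]; exact hz
      obtain ⟨c, hc⟩ := Ideal.mem_span_singleton'.mp h1
      rw [Ideal.mem_span_singleton']
      refine ⟨(j.appIso A.1).inv.hom c, ?_⟩
      rw [← map_mul, hc, hz1]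
    · intro hz
      obtain ⟨c, hc⟩ := Ideal.mem_span_singleton'.mp hz
      have h1 : (j.appIso A.1).hom.hom z ∈ Ideal.span {a} := by
        rw [Ideal.mem_span_singleton']
        refine ⟨(j.appIso A.1).hom.hom c, ?_⟩
        rw [← hc, map_mul]
        congr 1
        rw [← CommRingCat.comp_apply, Iso.inv_hom_id]; rfl
      rw [← hIa, Ideal.mem_comap, hz1] at h1
      exact h1

end Groth.Agent.Helper4.NApx16
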