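import Groth.Prelude.Def_W4c6modpairsegaMP
import Groth.Agent.Helper4.NApx16
import Mathlib

set_option autoImplicit false
universe u

namespace Groth.Agent.Helper4.NApx19

open AlgebraicGeometry CategoryTheory Limits
open Groth.Agent.Helper4.NApx13 Groth.Agent.Helper4.NApx14 Groth.Agent.Helper4.NApx15
  Groth.Agent.Helper4.NApx16

/-- flat ring maps preserve nonzerodivisors -/
theorem map_mem_nonZeroDivisors_of_flat {R S : Type u} [CommRing R] [CommRing S] (φ : R →+* S)
    (hφ : φ.Flat) {a : R} (ha : a ∈ nonZeroDivisors R) : φ a ∈ nonZeroDivisors S := by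
  letI := φ.toAlgebra
  haveI : Module.Flat R S := hφ
  have h1 : IsSMulRegular S a := Module.Flat.isSMulRegular_of_nonZeroDivisors ha
  rw [mem_nonZeroDivisors_iff_right]
  intro z hz
  apply h1
  show a • z = a • 0
  rw [smul_zero, Algebra.smul_def, mul_comm]
  exact hz

/-- pullback of an effective Cartier ideal along a flat morphism -/
theorem isEffCartierIdeal_comap_of_flat {X X' : Scheme.{u}}
    (I : X.IdealSheafData) (hI : BlowUp.IsEffCartierIdeal I) (f : X' ⟶ X) [Flat f] :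
    BlowUp.IsEffCartierIdeal (I.comap f) := by
  intro y
  obtain ⟨W, hxW, a, ha, hIa⟩ := hI (f y)
  obtain ⟨_, ⟨V, hV, rfl⟩, hyV, hVW⟩ :=
    X'.isBasis_affineOpens.exists_subset_of_mem_open
      (show y ∈ ((f ⁻¹ᵁ W.1 : X'.Opens) : Set X') from hxW) (f ⁻¹ᵁ W.1).isOpen
  have e : V ≤ f ⁻¹ᵁ W.1 := hVW
  refine ⟨⟨V, hV⟩, hyV, (f.appLE W.1 V e).hom a, ?_, ?_⟩
  · exact map_mem_nonZeroDivisors_of_flat _
      (HasRingHomProperty.appLE (P := @Flat) f inferInstance W ⟨V, hV⟩ e) ha
  · rw [Groth.Agent.Helper9.IdealComap.ideal_comap f I W ⟨V, hV⟩ e, hIa,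
      Ideal.map_span, Set.image_singleton]

/-- restriction of an effective Cartier ideal to an open subscheme -/
theorem isEffCartierIdeal_comap_ι {X : Scheme.{u}}
    (I : X.IdealSheafData) (hI : BlowUp.IsEffCartierIdeal I) (U : X.Opens) :
    BlowUp.IsEffCartierIdeal (I.comap U.ι) :=
  isEffCartierIdeal_comap_of_flat I hI U.ι

/-- the interior of an effective Cartier divisor is schematically dense -/
theorem isSchemeTheoreticallyDominant_interior_ι {S : Scheme.{u}} (I : S.IdealSheafData)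
    (hI : BlowUp.IsEffCartierIdeal I) :
    IsSchemeTheoreticallyDominant (ModPair.interior I).ι := by
  haveI := quasiCompact_interior_ι I hI
  rw [isSchemeTheoreticallyDominant_iff, eq_bot_iff]
  choose W hxW a ha hIa using hI
  have hsup : (⨆ x : S, (W x).1) = ⊤ := by
    rw [eq_top_iff]
    intro x _
    exact TopologicalSpace.Opens.mem_iSup.mpr ⟨x, hxW x⟩
  refine Scheme.IdealSheafData.le_of_iSup_eq_top W hsup (fun x => ?_)
  intro s hs
  have h1 := Scheme.Hom.ideal_ker_le (ModPair.interior I).ι (W x) hs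
  rw [RingHom.mem_ker] at h1
  -- `s` restricted to the basic open of `a x` vanishes
  have hle : S.basicOpen (a x) ≤ (ModPair.interior I).ι ''ᵁ ((ModPair.interior I).ι ⁻¹ᵁ (W x).1) := by
    rw [Scheme.Hom.image_preimage_eq_opensRange_inf, Scheme.Opens.opensRange_ι]
    intro y hy
    have : y ∈ ((ModPair.interior I : S.Opens) : Set S) ∩ ((W x).1 : Set S) := by
      rw [interior_inter I (W x) (a x) (hIa x)]; exact hy
    exact this
  have h2 : (S.presheaf.map (homOfLE (S.basicOpen_le (a x))).op).hom s = 0 := by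
    have h3 : (S.presheaf.map (homOfLE (S.basicOpen_le (a x))).op) =
        (ModPair.interior I).ι.app (W x).1 ≫ S.presheaf.map (homOfLE hle).op := by
      rw [Scheme.Opens.ι_app]
      exact S.presheaf.map_comp (homOfLE _).op (homOfLE hle).op
    have h4 : (S.presheaf.map (homOfLE (S.basicOpen_le (a x))).op).hom s =
        (S.presheaf.map (homOfLE hle).op).hom (((ModPair.interior I).ι.app (W x).1).hom s) :=
      congrArg (fun φ => (CommRingCat.Hom.hom φ) s) h3
    rw [h4, h1]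
    exact map_zero _
  obtain ⟨n, hn⟩ := exists_pow_mul_eq_zero_of_res_basicOpen_eq_zero_of_isCompact S
    (W x).2.isCompact s (a x) h2
  have h4 : s = 0 := by
    have := (mem_nonZeroDivisors_iff_right.mp (pow_mem (ha x) n)) s
    apply this
    rw [mul_comm]; exact hn
  rw [h4]
  exact Submodule.zero_mem _

/-- product of effective Cartier ideals -/
theorem isEffCartierIdeal_mul {X : Scheme.{u}} (I₁ I₂ : X.IdealSheafData)
    (h₁ : BlowUp.IsEffCartierIdeal I₁) (h₂ : BlowUp.IsEffCartierIdeal I₂) :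
    BlowUp.IsEffCartierIdeal (I₁ * I₂) := by
  intro x
  obtain ⟨B₁, hx1, a₁, ha₁, hI₁⟩ := h₁ x
  obtain ⟨B₂, hx2, a₂, ha₂, hI₂⟩ := h₂ x
  obtain ⟨_, ⟨C, hC, rfl⟩, hxC, hCB⟩ :=
    X.isBasis_affineOpens.exists_subset_of_mem_open
      (show x ∈ ((B₁.1 ⊓ B₂.1 : X.Opens) : Set X) from ⟨hx1, hx2⟩) (B₁.1 ⊓ B₂.1).isOpen
  have e1 : C ≤ B₁.1 := fun y hy => (hCB hy).1
  have e2 : C ≤ B₂.1 := fun y hy => (hCB hy).2
  have hflat : ∀ (B : X.affineOpens) (e : C ≤ B.1),
      (X.presheaf.map (homOfLE e).op).hom.Flat := by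
    intro B e
    have h := HasRingHomProperty.appLE (P := @Flat) (𝟙 X) inferInstance B ⟨C, hC⟩ e
    have h' : (𝟙 X : X ⟶ X).appLE B.1 C e = X.presheaf.map (homOfLE e).op := by
      simp [Scheme.Hom.appLE]
      exact Category.id_comp _
    rw [h'] at h
    exact h
  refine ⟨⟨C, hC⟩, hxC, (X.presheaf.map (homOfLE e1).op).hom a₁ *
    (X.presheaf.map (homOfLE e2).op).hom a₂, ?_, ?_⟩
  · exact mul_mem (map_mem_nonZeroDivisors_of_flat _ (hflat B₁ e1) ha₁)
      (map_mem_nonZeroDivisors_of_flat _ (hflat B₂ e2) ha₂)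
  · rw [Scheme.IdealSheafData.ideal_mul, Pi.mul_apply, ← I₁.map_ideal (U := ⟨C, hC⟩) (V := B₁) e1, ← I₂.map_ideal (U := ⟨C, hC⟩) (V := B₂) e2,
      hI₁, hI₂, Ideal.map_span, Ideal.map_span, Set.image_singleton, Set.image_singleton,
      Ideal.span_singleton_mul_span_singleton]
    rfl

theorem interior_mul {X : Scheme.{u}} (I₁ I₂ : X.IdealSheafData) :
    ModPair.interior (I₁ * I₂) = ModPair.interior I₁ ⊓ ModPair.interior I₂ := by
  ext x
  show x ∉ (I₁ * I₂).support ↔ x ∉ I₁.support ∧ x ∉ I₂.support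
  rw [Scheme.IdealSheafData.support_mul]
  show ¬ (x ∈ I₁.support ∨ x ∈ I₂.support) ↔ _
  tauto

theorem interior_comap {X X' : Scheme.{u}} (I : X.IdealSheafData) (f : X' ⟶ X) :
    ModPair.interior (I.comap f) = f ⁻¹ᵁ ModPair.interior I := by
  ext x
  show x ∉ (I.comap f).support ↔ f x ∉ I.support
  rw [Scheme.IdealSheafData.support_comap]
  rfl

theorem interior_le_of_isAmbient {X Y : Scheme.{u}} (I : X.IdealSheafData) (J : Y.IdealSheafData)
    (f : X ⟶ Y) (h : I ≤ J.comap f) : ModPair.interior I ≤ f ⁻¹ᵁ ModPair.interior J := by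
  intro x hx
  show f x ∉ J.support
  intro hfx
  have h1 : x ∈ (J.comap f).support := by
    rw [Scheme.IdealSheafData.support_comap]; exact hfx
  exact hx (Scheme.IdealSheafData.support_antitone h h1)

/-- shrinking the affine neighbourhood on which an effective Cartier ideal is principal -/
theorem exists_affine_le {X : Scheme.{u}} (I : X.IdealSheafData) (hI : BlowUp.IsEffCartierIdeal I)
    (x : X) (V : X.Opens) (hxV : x ∈ V) :
    ∃ C : X.affineOpens, x ∈ C.1 ∧ C.1 ≤ V ∧
      ∃ b : Γ(X, C.1), b ∈ nonZeroDivisors Γ(X, C.1) ∧ I.ideal C = Ideal.span {b} := by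
  obtain ⟨B, hxB, a, ha, hIa⟩ := hI x
  obtain ⟨_, ⟨C, hC, rfl⟩, hxC, hCB⟩ :=
    X.isBasis_affineOpens.exists_subset_of_mem_open
      (show x ∈ ((B.1 ⊓ V : X.Opens) : Set X) from ⟨hxB, hxV⟩) (B.1 ⊓ V).isOpen
  have e1 : C ≤ B.1 := fun y hy => (hCB hy).1
  have e2 : C ≤ V := fun y hy => (hCB hy).2
  have hflat : (X.presheaf.map (homOfLE e1).op).hom.Flat := by
    have h := HasRingHomProperty.appLE (P := @Flat) (𝟙 X) inferInstance B ⟨C, hC⟩ e1
    have h' : (𝟙 X : X ⟶ X).appLE B.1 C e1 = X.presheaf.map (homOfLE e1).op := by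
      simp [Scheme.Hom.appLE]
      exact Category.id_comp _
    rw [h'] at h
    exact h
  refine ⟨⟨C, hC⟩, hxC, e2, (X.presheaf.map (homOfLE e1).op).hom a,
    map_mem_nonZeroDivisors_of_flat _ hflat ha, ?_⟩
  rw [← I.map_ideal (U := ⟨C, hC⟩) (V := B) e1, hIa, Ideal.map_span, Set.image_singleton]
  rfl

/-- a locally principal ideal containing an effective Cartier ideal is effective Cartier;
here for a pullback of an effective Cartier ideal -/
theorem isEffCartierIdeal_comap_of_le {X Y : Scheme.{u}} (K : Y.IdealSheafData)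
    (hK : BlowUp.IsEffCartierIdeal K) (f : X ⟶ Y) (J : X.IdealSheafData)
    (hJ : BlowUp.IsEffCartierIdeal J) (hle : J ≤ K.comap f) :
    BlowUp.IsEffCartierIdeal (K.comap f) := by
  intro z
  obtain ⟨A, hzA, c, -, hKc⟩ := hK (f z)
  obtain ⟨C, hzC, hCA, b, hb, hJb⟩ := exists_affine_le J hJ z (f ⁻¹ᵁ A.1) hzA
  refine ⟨C, hzC, (f.appLE A.1 C.1 hCA).hom c, ?_, ?_⟩
  · have h1 : b ∈ (K.comap f).ideal C := hle C (by rw [hJb]; exact Ideal.mem_span_singleton_self b)
    rw [Groth.Agent.Helper9.IdealComap.ideal_comap f K A C hCA, hKc, Ideal.map_span,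
      Set.image_singleton] at h1
    obtain ⟨u, hu⟩ := Ideal.mem_span_singleton'.mp h1
    rw [mem_nonZeroDivisors_iff_right]
    intro w hw
    apply (mem_nonZeroDivisors_iff_right.mp hb) w
    rw [← hu, ← mul_assoc, mul_comm w u, mul_assoc, hw, mul_zero]
  · rw [Groth.Agent.Helper9.IdealComap.ideal_comap f K A C hCA, hKc, Ideal.map_span,
      Set.image_singleton]

end Groth.Agent.Helper4.NApx19
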