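import Groth.Prelude.Def_W4c6modpairsegaMP
import Groth.Agent.Helper4.NApx16
import Mathlib

set_option autoImplicit false
universe u

namespace Groth.Agent.Helper4.NApx18

open AlgebraicGeometry CategoryTheory Limits
open Groth.Agent.Helper4.NApx13 Groth.Agent.Helper4.NApx14 Groth.Agent.Helper4.NApx15
  Groth.Agent.Helper4.NApx16

/-- the scheme theoretic closure of an open subscheme meets the open in the open itself -/
theorem isIso_imageι_restrict {P : Scheme.{u}} (W : P.Opens) : IsIso (W.ι.imageι ∣_ W) := by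
  set m := W.ι.imageι with hm
  set t := W.ι.toImage with ht
  have htm : t ≫ m = W.ι := Scheme.Hom.toImage_imageι _
  have hsub : Set.range t ⊆ Set.range (m ⁻¹ᵁ W).ι := by
    rintro _ ⟨w, rfl⟩
    rw [Scheme.Opens.range_ι]
    show m (t w) ∈ W
    rw [← Scheme.Hom.comp_apply, htm]
    exact w.2
  let σ : (W : Scheme.{u}) ⟶ (m ⁻¹ᵁ W : Scheme.{u}) := IsOpenImmersion.lift (m ⁻¹ᵁ W).ι t hsub
  have hσ : σ ≫ (m ⁻¹ᵁ W).ι = t := IsOpenImmersion.lift_fac _ _ _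
  have h1 : σ ≫ (m ∣_ W) = 𝟙 _ := by
    rw [← cancel_mono W.ι, Category.assoc, morphismRestrict_ι, ← Category.assoc, hσ, htm,
      Category.id_comp]
  haveI : IsSplitEpi (m ∣_ W) := ⟨⟨σ, h1⟩⟩
  haveI : IsClosedImmersion (m ∣_ W) :=
    MorphismProperty.of_isPullback (P := @IsClosedImmersion)
      (isPullback_morphismRestrict m W).flip inferInstance
  haveI : Mono (m ∣_ W) := inferInstance
  exact isIso_of_mono_of_isSplitEpi _

/-- range of toImage for an open subscheme -/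
theorem range_toImage_opens {P : Scheme.{u}} (W : P.Opens) :
    Set.range W.ι.toImage = W.ι.imageι ⁻¹' (W : Set P) := by
  ext y
  constructor
  · rintro ⟨w, rfl⟩
    show W.ι.imageι (W.ι.toImage w) ∈ W
    rw [← Scheme.Hom.comp_apply, Scheme.Hom.toImage_imageι]
    exact w.2
  · intro hy
    let w : (W : Scheme.{u}) := ⟨_, hy⟩
    refine ⟨w, ?_⟩
    apply W.ι.imageι.isClosedEmbedding.injective
    have h1 : (W.ι.toImage ≫ W.ι.imageι) w = W.ι.imageι y := by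
      rw [Scheme.Hom.toImage_imageι]; rfl
    exact h1

/-- base change of a morphism which is an isomorphism over an open -/
theorem isIso_snd_restrict {X S T : Scheme.{u}} (s : X ⟶ S) (g : T ⟶ S) (S₀ : S.Opens)
    (T₀ : T.Opens) (h : T₀ ≤ g ⁻¹ᵁ S₀) [IsIso (s ∣_ S₀)] :
    IsIso (pullback.snd s g ∣_ T₀) := by
  set pr₁ := pullback.fst s g with hpr₁
  set pr₂ := pullback.snd s g with hpr₂
  have hsubγ : Set.range (T₀.ι ≫ g) ⊆ Set.range S₀.ι := by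
    rintro _ ⟨w, rfl⟩
    rw [Scheme.Opens.range_ι, Scheme.Hom.comp_apply]
    exact h w.2
  let γ : (T₀ : Scheme.{u}) ⟶ (S₀ : Scheme.{u}) := IsOpenImmersion.lift S₀.ι (T₀.ι ≫ g) hsubγ
  have hγ : γ ≫ S₀.ι = T₀.ι ≫ g := IsOpenImmersion.lift_fac _ _ _
  have hsubτ : Set.range ((pr₂ ⁻¹ᵁ T₀).ι ≫ pr₁) ⊆ Set.range (s ⁻¹ᵁ S₀).ι := by
    rintro _ ⟨w, rfl⟩
    rw [Scheme.Opens.range_ι]
    show s (((pr₂ ⁻¹ᵁ T₀).ι ≫ pr₁) w) ∈ S₀
    rw [← Scheme.Hom.comp_apply, Category.assoc, pullback.condition, ← Category.assoc,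
      Scheme.Hom.comp_apply]
    exact h w.2
  let τ : (pr₂ ⁻¹ᵁ T₀ : Scheme.{u}) ⟶ (s ⁻¹ᵁ S₀ : Scheme.{u}) :=
    IsOpenImmersion.lift (s ⁻¹ᵁ S₀).ι ((pr₂ ⁻¹ᵁ T₀).ι ≫ pr₁) hsubτ
  have hτ : τ ≫ (s ⁻¹ᵁ S₀).ι = (pr₂ ⁻¹ᵁ T₀).ι ≫ pr₁ := IsOpenImmersion.lift_fac _ _ _
  have hA : IsPullback (pr₂ ⁻¹ᵁ T₀).ι (pr₂ ∣_ T₀) pr₂ T₀.ι := (isPullback_morphismRestrict pr₂ T₀).flip
  have hB : IsPullback pr₁ pr₂ s g := IsPullback.of_hasPullback s g
  have hC : IsPullback ((pr₂ ⁻¹ᵁ T₀).ι ≫ pr₁) (pr₂ ∣_ T₀) s (T₀.ι ≫ g) := hA.paste_horiz hB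
  have hD : IsPullback (s ⁻¹ᵁ S₀).ι (s ∣_ S₀) s S₀.ι := (isPullback_morphismRestrict s S₀).flip
  have hC' : IsPullback (τ ≫ (s ⁻¹ᵁ S₀).ι) (pr₂ ∣_ T₀) s (γ ≫ S₀.ι) := by
    rw [hτ, hγ]; exact hC
  have hcomm : τ ≫ (s ∣_ S₀) = (pr₂ ∣_ T₀) ≫ γ := by
    rw [← cancel_mono S₀.ι, Category.assoc, morphismRestrict_ι, ← Category.assoc, hτ,
      Category.assoc, Category.assoc, hγ, pullback.condition, ← Category.assoc,
      ← Category.assoc, morphismRestrict_ι]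
  have hE : IsPullback τ (pr₂ ∣_ T₀) (s ∣_ S₀) γ := IsPullback.of_right hC' hcomm hD
  exact hE.isIso_snd_of_isIso

end Groth.Agent.Helper4.NApx18
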