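import Groth.Prelude.Def_W4c6modpairsegaMP
import Groth.Agent.Helper4.NApx19
import Mathlib

set_option autoImplicit false
universe u

namespace Groth.Agent.Helper4.NApx21

open AlgebraicGeometry CategoryTheory Limits
open Groth.Agent.Helper4.NApx19

/-- pure algebra: `b = u * c` a nonzerodivisor and `c ∈ (b)` forces `u` to be a unit -/
theorem isUnit_of_mul_eq {R : Type u} [CommRing R] (b c u : R) (hb : b ∈ nonZeroDivisors R)
    (hbuc : b = u * c) (hc : c ∈ Ideal.span {b}) : IsUnit u := by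
  obtain ⟨v, hv⟩ := Ideal.mem_span_singleton'.mp hc
  have hcn : c ∈ nonZeroDivisors R := by
    rw [mem_nonZeroDivisors_iff_right]
    intro z hz
    apply (mem_nonZeroDivisors_iff_right.mp hb) z
    rw [hbuc, mul_comm u c, ← mul_assoc, hz, zero_mul]
  have h1 : (1 - v * u) * c = 0 := by
    rw [sub_mul, one_mul, mul_assoc, ← hbuc, hv, sub_self]
  have h2 : 1 - v * u = 0 := (mem_nonZeroDivisors_iff_right.mp hcn) _ h1
  have h3 : u * v = 1 := by
    rw [mul_comm]
    exact (sub_eq_zero.mp h2).symm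
  exact IsUnit.of_mul_eq_one _ h3

/-- the restriction map between affine opens is flat -/
theorem flat_res {X : Scheme.{u}} (B C : X.affineOpens) (e : C.1 ≤ B.1) :
    (X.presheaf.map (homOfLE e).op).hom.Flat := by
  have h := HasRingHomProperty.appLE (P := @Flat) (𝟙 X) inferInstance B C e
  have h' : (𝟙 X : X ⟶ X).appLE B.1 C.1 e = X.presheaf.map (homOfLE e).op := by
    simp [Scheme.Hom.appLE]
    exact Category.id_comp _
  rw [h'] at h
  exact h

/-- restriction of a principal ideal -/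
theorem ideal_res {X : Scheme.{u}} (I : X.IdealSheafData) (B C : X.affineOpens) (e : C.1 ≤ B.1)
    (a : Γ(X, B.1)) (h : I.ideal B = Ideal.span {a}) :
    I.ideal C = Ideal.span {(X.presheaf.map (homOfLE e).op).hom a} := by
  rw [← I.map_ideal (U := C) (V := B) e, h, Ideal.map_span, Set.image_singleton]
  rfl

/-- The open locus where two ideal sheaves agree (union of the affine opens on which they do). -/
noncomputable def eqLocus {Y : Scheme.{u}} (J K : Y.IdealSheafData) : Y.Opens :=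
  ⨆ A : {A : Y.affineOpens // J.ideal A = K.ideal A}, A.1.1

theorem le_eqLocus {Y : Scheme.{u}} (J K : Y.IdealSheafData) (A : Y.affineOpens)
    (h : J.ideal A = K.ideal A) : A.1 ≤ eqLocus J K :=
  le_iSup (fun A : {A : Y.affineOpens // J.ideal A = K.ideal A} => A.1.1) ⟨A, h⟩

theorem ideal_eq_of_le {Y : Scheme.{u}} (J K : Y.IdealSheafData) (A B : Y.affineOpens)
    (e : B ≤ A) (h : J.ideal A = K.ideal A) : J.ideal B = K.ideal B := by
  rw [← J.map_ideal e, ← K.map_ideal e, h]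

/-- local data: `J = (b)`, `K = (c)` on `C` with `b = u c`, `b` a nonzerodivisor; then the
locus of agreement inside `C` is `D(u)` -/
theorem eqLocus_inf {Y : Scheme.{u}} (J K : Y.IdealSheafData) (C : Y.affineOpens)
    (b c w : Γ(Y, C.1)) (hb : b ∈ nonZeroDivisors Γ(Y, C.1))
    (hJ : J.ideal C = Ideal.span {b}) (hK : K.ideal C = Ideal.span {c}) (hbuc : b = w * c) :
    eqLocus J K ⊓ C.1 = Y.basicOpen w := by
  apply le_antisymm
  · rintro y ⟨hy1, hy2⟩
    obtain ⟨⟨A, hA⟩, hyA⟩ := TopologicalSpace.Opens.mem_iSup.mp hy1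
    obtain ⟨_, ⟨B, hB, rfl⟩, hyB, hBle⟩ :=
      Y.isBasis_affineOpens.exists_subset_of_mem_open
        (show y ∈ ((A.1 ⊓ C.1 : Y.Opens) : Set Y) from ⟨hyA, hy2⟩) (A.1 ⊓ C.1).isOpen
    have e1 : (⟨B, hB⟩ : Y.affineOpens) ≤ A := fun z hz => (hBle hz).1
    have e2 : B ≤ C.1 := fun z hz => (hBle hz).2
    have h1 := ideal_eq_of_le J K A ⟨B, hB⟩ e1 hA
    have h2 := ideal_res J C ⟨B, hB⟩ e2 b hJ
    have h3 := ideal_res K C ⟨B, hB⟩ e2 c hK
    set ρ := (Y.presheaf.map (homOfLE e2).op).hom with hρ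
    have hbn : ρ b ∈ nonZeroDivisors Γ(Y, B) :=
      map_mem_nonZeroDivisors_of_flat _ (flat_res C ⟨B, hB⟩ e2) hb
    have hmul : ρ b = ρ w * ρ c := by rw [hbuc, map_mul]
    have hmem : ρ c ∈ Ideal.span {ρ b} := by
      rw [← h2, h1, h3]; exact Ideal.mem_span_singleton_self _
    have hu : IsUnit (ρ w) := isUnit_of_mul_eq _ _ _ hbn hmul hmem
    have h4 : Y.basicOpen (ρ w) = B := Y.basicOpen_of_isUnit hu
    have h5 : Y.basicOpen (ρ w) = B ⊓ Y.basicOpen w := Y.basicOpen_res w (homOfLE e2).op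
    have h6 : y ∈ B ⊓ Y.basicOpen w := by rw [← h5, h4]; exact hyB
    exact h6.2
  · have hD : IsAffineOpen (Y.basicOpen w) := C.2.basicOpen w
    have e : Y.basicOpen w ≤ C.1 := Y.basicOpen_le w
    refine le_inf ?_ e
    apply le_eqLocus J K ⟨Y.basicOpen w, hD⟩
    rw [ideal_res J C ⟨Y.basicOpen w, hD⟩ e b hJ, ideal_res K C ⟨Y.basicOpen w, hD⟩ e c hK]
    set ρ := (Y.presheaf.map (homOfLE e).op).hom with hρ
    have hu : IsUnit (ρ w) := RingedSpace.isUnit_res_basicOpen _ w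
    have hmul : ρ b = ρ w * ρ c := by rw [hbuc, map_mul]
    rw [hmul]
    exact Ideal.span_singleton_mul_left_unit hu _

/-- the two ideal sheaves agree on their locus of agreement -/
theorem comap_eqLocus_ι {Y : Scheme.{u}} (J K : Y.IdealSheafData) :
    J.comap (eqLocus J K).ι = K.comap (eqLocus J K).ι := by
  set U := eqLocus J K with hU
  let ι := U.ι
  have haff : ∀ A : {A : Y.affineOpens // J.ideal A = K.ideal A},
      IsAffineOpen (ι ⁻¹ᵁ A.1.1) := by
    intro A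
    rw [← ι.isAffineOpen_iff_of_isOpenImmersion, Scheme.Hom.image_preimage_eq_opensRange_inf,
      Scheme.Opens.opensRange_ι, inf_eq_right.mpr (le_eqLocus J K A.1 A.2)]
    exact A.1.2
  refine Scheme.IdealSheafData.ext_of_iSup_eq_top
    (fun A : {A : Y.affineOpens // J.ideal A = K.ideal A} => ⟨ι ⁻¹ᵁ A.1.1, haff A⟩) ?_ ?_
  · rw [eq_top_iff]
    intro z _
    have hz : ι z ∈ eqLocus J K := z.2
    obtain ⟨A, hzA⟩ := TopologicalSpace.Opens.mem_iSup.mp hz
    exact TopologicalSpace.Opens.mem_iSup.mpr ⟨A, hzA⟩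
  · intro A
    rw [Groth.Agent.Helper9.IdealComap.ideal_comap ι J A.1 ⟨ι ⁻¹ᵁ A.1.1, haff A⟩ le_rfl,
      Groth.Agent.Helper9.IdealComap.ideal_comap ι K A.1 ⟨ι ⁻¹ᵁ A.1.1, haff A⟩ le_rfl, A.2]

set_option backward.isDefEq.respectTransparency false in
/-- quasi-compactness of the locus of agreement given local data everywhere -/
theorem quasiCompact_eqLocus_ι {Y : Scheme.{u}} (J K : Y.IdealSheafData)
    (h : ∀ y : Y, ∃ C : Y.affineOpens, y ∈ C.1 ∧ ∃ b c w : Γ(Y, C.1),
      b ∈ nonZeroDivisors Γ(Y, C.1) ∧ J.ideal C = Ideal.span {b} ∧ K.ideal C = Ideal.span {c} ∧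
        b = w * c) :
    QuasiCompact (eqLocus J K).ι := by
  choose W hyW b c w hb hJ hK hbuc using h
  have hsup : (⨆ y : Y, (W y).1) = ⊤ := by
    rw [eq_top_iff]
    intro y _
    exact TopologicalSpace.Opens.mem_iSup.mpr ⟨y, hyW y⟩
  rw [HasAffineProperty.iff_of_iSup_eq_top (P := @QuasiCompact) (U := W) hsup]
  intro y
  have h1 : (eqLocus J K).ι ''ᵁ ((eqLocus J K).ι ⁻¹ᵁ (W y).1) = Y.basicOpen (w y) := by
    rw [Scheme.Hom.image_preimage_eq_opensRange_inf, Scheme.Opens.opensRange_ι]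
    exact eqLocus_inf J K (W y) (b y) (c y) (w y) (hb y) (hJ y) (hK y) (hbuc y)
  have h2 : IsAffineOpen ((eqLocus J K).ι ⁻¹ᵁ (W y).1) := by
    rw [← (eqLocus J K).ι.isAffineOpen_iff_of_isOpenImmersion, h1]
    exact (W y).2.basicOpen (w y)
  haveI : IsAffine ((eqLocus J K).ι ⁻¹ᵁ (W y).1).toScheme := h2
  show CompactSpace ((eqLocus J K).ι ⁻¹ᵁ (W y).1).toScheme
  infer_instance

/-- local data for `J ≤ K.comap g` with `J`, `K` effective Cartier -/
theorem exists_local_data {Y Z : Scheme.{u}} (J : Y.IdealSheafData) (K : Z.IdealSheafData)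
    (hJ : BlowUp.IsEffCartierIdeal J) (hK : BlowUp.IsEffCartierIdeal K) (g : Y ⟶ Z)
    (hle : J ≤ K.comap g) (y : Y) :
    ∃ C : Y.affineOpens, y ∈ C.1 ∧ ∃ b c w : Γ(Y, C.1),
      b ∈ nonZeroDivisors Γ(Y, C.1) ∧ J.ideal C = Ideal.span {b} ∧
        (K.comap g).ideal C = Ideal.span {c} ∧ b = w * c := by
  obtain ⟨A, hzA, c₀, -, hKc⟩ := hK (g y)
  obtain ⟨C, hzC, hCA, b, hb, hJb⟩ := exists_affine_le J hJ y (g ⁻¹ᵁ A.1) hzA
  have hKC : (K.comap g).ideal C = Ideal.span {(g.appLE A.1 C.1 hCA).hom c₀} := by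
    rw [Groth.Agent.Helper9.IdealComap.ideal_comap g K A C hCA, hKc, Ideal.map_span,
      Set.image_singleton]
  have h1 : b ∈ (K.comap g).ideal C := hle C (by rw [hJb]; exact Ideal.mem_span_singleton_self b)
  rw [hKC] at h1
  obtain ⟨w, hw⟩ := Ideal.mem_span_singleton'.mp h1
  exact ⟨C, hzC, b, (g.appLE A.1 C.1 hCA).hom c₀, w, hb, hJb, hKC, hw.symm⟩

/-- a morphism along which both pull back to the same effective Cartier ideal lands in the locus
of agreement -/
theorem range_subset_eqLocus {X Y : Scheme.{u}} (I : X.IdealSheafData) (J K : Y.IdealSheafData)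
    (hI : BlowUp.IsEffCartierIdeal I) (f : X ⟶ Y) (h1 : I = J.comap f) (h2 : I = K.comap f)
    (h : ∀ y : Y, ∃ C : Y.affineOpens, y ∈ C.1 ∧ ∃ b c w : Γ(Y, C.1),
      b ∈ nonZeroDivisors Γ(Y, C.1) ∧ J.ideal C = Ideal.span {b} ∧ K.ideal C = Ideal.span {c} ∧
        b = w * c) :
    Set.range f.base ⊆ (eqLocus J K : Set Y) := by
  rintro _ ⟨x, rfl⟩
  obtain ⟨C, hyC, b, c, w, hb, hJb, hKc, hbuc⟩ := h (f x)
  obtain ⟨B, hxB, hBC, t, ht, hIt⟩ := exists_affine_le I hI x (f ⁻¹ᵁ C.1) hyC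
  set φ := (f.appLE C.1 B.1 hBC).hom with hφ
  have hIb : I.ideal B = Ideal.span {φ b} := by
    rw [congrArg (fun L : X.IdealSheafData => L.ideal B) h1,
      Groth.Agent.Helper9.IdealComap.ideal_comap f J C B hBC, hJb, Ideal.map_span,
      Set.image_singleton]
  have hIc : I.ideal B = Ideal.span {φ c} := by
    rw [congrArg (fun L : X.IdealSheafData => L.ideal B) h2,
      Groth.Agent.Helper9.IdealComap.ideal_comap f K C B hBC, hKc, Ideal.map_span,
      Set.image_singleton]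
  have hbn : φ b ∈ nonZeroDivisors Γ(X, B.1) := by
    have ht' : t ∈ Ideal.span {φ b} := by rw [← hIb, hIt]; exact Ideal.mem_span_singleton_self _
    obtain ⟨v, hv⟩ := Ideal.mem_span_singleton'.mp ht'
    rw [mem_nonZeroDivisors_iff_right]
    intro z hz
    apply (mem_nonZeroDivisors_iff_right.mp ht) z
    rw [← hv, mul_left_comm, hz, mul_zero]
  have hmul : φ b = φ w * φ c := by rw [hbuc, map_mul]
  have hmem : φ c ∈ Ideal.span {φ b} := by
    rw [← hIb, hIc]; exact Ideal.mem_span_singleton_self _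
  have hu : IsUnit (φ w) := isUnit_of_mul_eq _ _ _ hbn hmul hmem
  have h4 : X.basicOpen (φ w) = B.1 := X.basicOpen_of_isUnit hu
  have h5 : x ∈ X.basicOpen (φ w) := by rw [h4]; exact hxB
  have h6 : f x ∈ Y.basicOpen w := by
    rw [hφ, Scheme.Hom.appLE, CommRingCat.hom_comp, RingHom.comp_apply, Scheme.basicOpen_res,
      ← Scheme.Hom.preimage_basicOpen] at h5
    exact h5.2
  have h7 := eqLocus_inf J K C b c w hb hJb hKc hbuc
  have h8 : f x ∈ eqLocus J K ⊓ C.1 := by rw [h7]; exact h6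
  exact h8.1

end Groth.Agent.Helper4.NApx21
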