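import Groth.Prelude.Def_W4c6modpairsegaMP
import Groth.Agent.Helper4.NApx21
import Groth.Agent.Helper4.NApx18
import Groth.Agent.Helper4.NApx15
import Groth.Agent.Helper4.NApx14
import Groth.Agent.S1682
import Mathlib

set_option autoImplicit false
universe u

namespace Groth.Agent.Helper4.NApx23

open AlgebraicGeometry CategoryTheory Limits
open Groth.Agent.Helper4.NApx19 Groth.Agent.Helper4.NApx21

/-- a bigger open than a schematically dense open is schematically dense -/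
theorem dominant_of_le {X : Scheme.{u}} (A B : X.Opens) (h : A ≤ B)
    [IsSchemeTheoreticallyDominant A.ι] : IsSchemeTheoreticallyDominant B.ι := by
  have hfac : X.homOfLE h ≫ B.ι = A.ι := X.homOfLE_ι h
  rw [isSchemeTheoreticallyDominant_iff, eq_bot_iff]
  have hk : A.ι.ker = ⊥ := IsSchemeTheoreticallyDominant.ker_eq_bot A.ι
  rw [← hk, ← hfac]
  exact Scheme.Hom.le_ker_comp _ _

/-- intersection of two retrocompact opens is retrocompact -/
theorem quasiCompact_inf_ι {P : Scheme.{u}} (A B : P.Opens) [QuasiCompact A.ι] [QuasiCompact B.ι] :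
    QuasiCompact (A ⊓ B).ι := by
  have h1 : QuasiCompact (P.homOfLE (inf_le_left : A ⊓ B ≤ A)) :=
    MorphismProperty.of_isPullback (P := @QuasiCompact) (isPullback_opens_inf A B).flip
      inferInstance
  have hfac : P.homOfLE (inf_le_left : A ⊓ B ≤ A) ≫ A.ι = (A ⊓ B).ι := P.homOfLE_ι _
  rw [← hfac]
  infer_instance

/-- blowing up preserves schematic density of a retrocompact open -/
theorem dominant_preimage_of_isBlowUp {X X' : Scheme.{u}} (U : X.Opens) [QuasiCompact U.ι]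
    [IsSchemeTheoreticallyDominant U.ι] (𝓘 : X.IdealSheafData) (π : X' ⟶ X)
    (hπ : BlowUp.IsBlowUp π 𝓘) : IsSchemeTheoreticallyDominant (π ⁻¹ᵁ U).ι := by
  classical
  obtain ⟨hE, -⟩ := id hπ
  let V : X.Opens := ModPair.interior 𝓘
  haveI hiso : IsIso (π ∣_ V) := Groth.Agent.S1682.result 𝓘 π hπ
  have hW : IsSchemeTheoreticallyDominant (π ⁻¹ᵁ V).ι := by
    have := isSchemeTheoreticallyDominant_interior_ι (𝓘.comap π) hE
    rwa [interior_comap] at this
  have h1 : IsSchemeTheoreticallyDominant (V.ι ⁻¹ᵁ U).ι :=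
    IsSchemeTheoreticallyDominant.of_isPullback (f := U.ι) (g := V.ι)
      (isPullback_morphismRestrict V.ι U)
  haveI h1q : QuasiCompact (V.ι ⁻¹ᵁ U).ι :=
    MorphismProperty.of_isPullback (P := @QuasiCompact) (isPullback_morphismRestrict V.ι U)
      inferInstance
  let b := π ∣_ V
  let U' : (V : Scheme.{u}).Opens := V.ι ⁻¹ᵁ U
  have h2 : IsSchemeTheoreticallyDominant (b ⁻¹ᵁ U').ι :=
    IsSchemeTheoreticallyDominant.of_isPullback (f := U'.ι) (g := b)
      (isPullback_morphismRestrict b U')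
  let j : ((b ⁻¹ᵁ U' : (π ⁻¹ᵁ V : Scheme.{u}).Opens) : Scheme.{u}) ⟶ X' :=
    (b ⁻¹ᵁ U').ι ≫ (π ⁻¹ᵁ V).ι
  have hj : IsSchemeTheoreticallyDominant j := inferInstance
  have hrange : Set.range j.base ⊆ Set.range (π ⁻¹ᵁ U).ι.base := by
    rintro _ ⟨z, rfl⟩
    rw [Scheme.Opens.range_ι]
    show π (j z) ∈ U
    have hz : b ((b ⁻¹ᵁ U').ι z) ∈ U' := z.2
    have e1 : π ((π ⁻¹ᵁ V).ι ((b ⁻¹ᵁ U').ι z)) = V.ι (b ((b ⁻¹ᵁ U').ι z)) := by
      have := morphismRestrict_ι π V
      rw [← Scheme.Hom.comp_apply, ← Scheme.Hom.comp_apply, ← this]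
      rfl
    show π ((π ⁻¹ᵁ V).ι ((b ⁻¹ᵁ U').ι z)) ∈ U
    rw [e1]
    exact hz
  have hfac : IsOpenImmersion.lift (π ⁻¹ᵁ U).ι j hrange ≫ (π ⁻¹ᵁ U).ι = j :=
    IsOpenImmersion.lift_fac _ _ _
  rw [isSchemeTheoreticallyDominant_iff, eq_bot_iff]
  have hk : j.ker = ⊥ := hj.ker_eq_bot
  rw [← hk, ← hfac]
  exact Scheme.Hom.le_ker_comp _ _

/-- a retrocompact open is retrocompact and schematically dense in its schematic closure -/
theorem toImage_dense {P : Scheme.{u}} (Ω : P.Opens) [QuasiCompact Ω.ι] :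
    IsSchemeTheoreticallyDominant (Ω.ι.imageι ⁻¹ᵁ Ω).ι ∧ QuasiCompact (Ω.ι.imageι ⁻¹ᵁ Ω).ι := by
  set m := Ω.ι.imageι with hm
  constructor
  · haveI : IsSchemeTheoreticallyDominant Ω.ι.toImage :=
      Groth.Agent.Helper4.NApx15.isSchemeTheoreticallyDominant_toImage Ω.ι
    let e := IsOpenImmersion.isoOfRangeEq Ω.ι.toImage (m ⁻¹ᵁ Ω).ι
      (by rw [Scheme.Opens.range_ι]; exact Groth.Agent.Helper4.NApx18.range_toImage_opens Ω)
    have he : e.hom ≫ (m ⁻¹ᵁ Ω).ι = Ω.ι.toImage := IsOpenImmersion.isoOfRangeEq_hom_fac _ _ _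
    have : (m ⁻¹ᵁ Ω).ι = e.inv ≫ Ω.ι.toImage := by rw [← he, Iso.inv_hom_id_assoc]
    rw [this]
    infer_instance
  · exact MorphismProperty.of_isPullback (P := @QuasiCompact) (isPullback_morphismRestrict m Ω)
      inferInstance

/-- local algebra of the ambient product: `K·(e) = (a)(b)` with `a, b ∈ (e)` -/
theorem local_ambProd {R : Type u} [CommRing R] (K E I J : Ideal R) (e a b : R)
    (ha : a ∈ nonZeroDivisors R) (hb : b ∈ nonZeroDivisors R)
    (hE : E = Ideal.span {e}) (hI : I = Ideal.span {a}) (hJ : J = Ideal.span {b})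
    (hIE : I ≤ E) (hJE : J ≤ E) (hK : K * E = I * J) :
    ∃ k, k ∈ nonZeroDivisors R ∧ K = Ideal.span {k} ∧ K ≤ I ∧ K ≤ J := by
  have hae : a ∈ Ideal.span {e} := by
    rw [← hE]; apply hIE; rw [hI]; exact Ideal.mem_span_singleton_self a
  have hbe : b ∈ Ideal.span {e} := by
    rw [← hE]; apply hJE; rw [hJ]; exact Ideal.mem_span_singleton_self b
  obtain ⟨a', ha'⟩ := Ideal.mem_span_singleton'.mp hae
  obtain ⟨b', hb'⟩ := Ideal.mem_span_singleton'.mp hbe
  have ha'n : a' ∈ nonZeroDivisors R ∧ e ∈ nonZeroDivisors R := by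
    rw [← mul_mem_nonZeroDivisors, ha']; exact ha
  have hb'n : b' ∈ nonZeroDivisors R ∧ e ∈ nonZeroDivisors R := by
    rw [← mul_mem_nonZeroDivisors, hb']; exact hb
  have he : e ∈ nonZeroDivisors R := ha'n.2
  have hKE : K * Ideal.span {e} = Ideal.span {a * b} := by
    rw [← hE, hK, hI, hJ, Ideal.span_singleton_mul_span_singleton]
  refine ⟨a' * b' * e, ?_, ?_, ?_, ?_⟩
  · exact mul_mem (mul_mem ha'n.1 hb'n.1) he
  · apply le_antisymm
    · intro x hx
      have h1 : x * e ∈ K * Ideal.span {e} := Ideal.mem_mul_span_singleton.mpr ⟨x, hx, rfl⟩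
      rw [hKE] at h1
      obtain ⟨r, hr⟩ := Ideal.mem_span_singleton'.mp h1
      have h2 : (x - r * (a' * b' * e)) * e = 0 := by
        rw [sub_mul, ← hr, ← ha', ← hb']; ring
      have h3 := (mem_nonZeroDivisors_iff_right.mp he) _ h2
      rw [sub_eq_zero.mp h3]
      exact Ideal.mem_span_singleton'.mpr ⟨r, rfl⟩
    · rw [Ideal.span_singleton_le_iff_mem]
      have h1 : a * b ∈ K * Ideal.span {e} := by
        rw [hKE]; exact Ideal.mem_span_singleton_self _
      obtain ⟨z, hz, hze⟩ := Ideal.mem_mul_span_singleton.mp h1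
      have h2 : (z - a' * b' * e) * e = 0 := by
        rw [sub_mul, hze, ← ha', ← hb']; ring
      have h3 := (mem_nonZeroDivisors_iff_right.mp he) _ h2
      rw [← sub_eq_zero.mp h3]
      exact hz
  · have : K = Ideal.span {a' * b' * e} := by
      apply le_antisymm
      · intro x hx
        have h1 : x * e ∈ K * Ideal.span {e} := Ideal.mem_mul_span_singleton.mpr ⟨x, hx, rfl⟩
        rw [hKE] at h1
        obtain ⟨r, hr⟩ := Ideal.mem_span_singleton'.mp h1
        have h2 : (x - r * (a' * b' * e)) * e = 0 := by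
          rw [sub_mul, ← hr, ← ha', ← hb']; ring
        have h3 := (mem_nonZeroDivisors_iff_right.mp he) _ h2
        rw [sub_eq_zero.mp h3]
        exact Ideal.mem_span_singleton'.mpr ⟨r, rfl⟩
      · rw [Ideal.span_singleton_le_iff_mem]
        have h1 : a * b ∈ K * Ideal.span {e} := by
          rw [hKE]; exact Ideal.mem_span_singleton_self _
        obtain ⟨z, hz, hze⟩ := Ideal.mem_mul_span_singleton.mp h1
        have h2 : (z - a' * b' * e) * e = 0 := by
          rw [sub_mul, hze, ← ha', ← hb']; ring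
        have h3 := (mem_nonZeroDivisors_iff_right.mp he) _ h2
        rw [← sub_eq_zero.mp h3]
        exact hz
    rw [this, hI, Ideal.span_singleton_le_iff_mem]
    exact Ideal.mem_span_singleton'.mpr ⟨b', by rw [← ha']; ring⟩
  · have : K = Ideal.span {a' * b' * e} := by
      apply le_antisymm
      · intro x hx
        have h1 : x * e ∈ K * Ideal.span {e} := Ideal.mem_mul_span_singleton.mpr ⟨x, hx, rfl⟩
        rw [hKE] at h1
        obtain ⟨r, hr⟩ := Ideal.mem_span_singleton'.mp h1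
        have h2 : (x - r * (a' * b' * e)) * e = 0 := by
          rw [sub_mul, ← hr, ← ha', ← hb']; ring
        have h3 := (mem_nonZeroDivisors_iff_right.mp he) _ h2
        rw [sub_eq_zero.mp h3]
        exact Ideal.mem_span_singleton'.mpr ⟨r, rfl⟩
      · rw [Ideal.span_singleton_le_iff_mem]
        have h1 : a * b ∈ K * Ideal.span {e} := by
          rw [hKE]; exact Ideal.mem_span_singleton_self _
        obtain ⟨z, hz, hze⟩ := Ideal.mem_mul_span_singleton.mp h1
        have h2 : (z - a' * b' * e) * e = 0 := by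
          rw [sub_mul, hze, ← ha', ← hb']; ring
        have h3 := (mem_nonZeroDivisors_iff_right.mp he) _ h2
        rw [← sub_eq_zero.mp h3]
        exact hz
    rw [this, hJ, Ideal.span_singleton_le_iff_mem]
    exact Ideal.mem_span_singleton'.mpr ⟨a', by rw [← hb']; ring⟩

/-- restricting local principal data to a smaller affine -/
theorem restrict_data {X : Scheme.{u}} (I : X.IdealSheafData) (B C : X.affineOpens)
    (e : C.1 ≤ B.1) (a : Γ(X, B.1)) (ha : a ∈ nonZeroDivisors Γ(X, B.1))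
    (h : I.ideal B = Ideal.span {a}) :
    (X.presheaf.map (homOfLE e).op).hom a ∈ nonZeroDivisors Γ(X, C.1) ∧
      I.ideal C = Ideal.span {(X.presheaf.map (homOfLE e).op).hom a} :=
  ⟨map_mem_nonZeroDivisors_of_flat _ (flat_res B C e) ha, ideal_res I B C e a h⟩

/-- three effective Cartier ideals are simultaneously principal near a point -/
theorem exists_affine_three {X : Scheme.{u}} (I₁ I₂ I₃ : X.IdealSheafData)
    (h₁ : BlowUp.IsEffCartierIdeal I₁) (h₂ : BlowUp.IsEffCartierIdeal I₂)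
    (h₃ : BlowUp.IsEffCartierIdeal I₃) (x : X) :
    ∃ C : X.affineOpens, x ∈ C.1 ∧ ∃ a₁ a₂ a₃ : Γ(X, C.1),
      a₁ ∈ nonZeroDivisors Γ(X, C.1) ∧ a₂ ∈ nonZeroDivisors Γ(X, C.1) ∧
      a₃ ∈ nonZeroDivisors Γ(X, C.1) ∧ I₁.ideal C = Ideal.span {a₁} ∧
      I₂.ideal C = Ideal.span {a₂} ∧ I₃.ideal C = Ideal.span {a₃} := by
  obtain ⟨C₁, hx₁, -, a₁, ha₁, hI₁⟩ := exists_affine_le I₁ h₁ x ⊤ trivial
  obtain ⟨C₂, hx₂, h12, a₂, ha₂, hI₂⟩ := exists_affine_le I₂ h₂ x C₁.1 hx₁
  obtain ⟨C₃, hx₃, h23, a₃, ha₃, hI₃⟩ := exists_affine_le I₃ h₃ x C₂.1 hx₂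
  have h13 : C₃.1 ≤ C₁.1 := h23.trans h12
  obtain ⟨n1, e1⟩ := restrict_data I₁ C₁ C₃ h13 a₁ ha₁ hI₁
  obtain ⟨n2, e2⟩ := restrict_data I₂ C₂ C₃ h23 a₂ ha₂ hI₂
  exact ⟨C₃, hx₃, _, _, a₃, n1, n2, ha₃, e1, e2, hI₃⟩

end Groth.Agent.Helper4.NApx23
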