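import Groth.Prelude.Def_W4c6modpairsegaMP
import Groth.Agent.Helper4.NApx23
import Mathlib

set_option autoImplicit false
universe u

namespace Groth.Agent.Helper4.NApx24

open AlgebraicGeometry CategoryTheory Limits
open Groth.Agent.Helper4.NApx19 Groth.Agent.Helper4.NApx21

/-- inverse image of ideal sheaves is multiplicative -/
theorem comap_mul {X Y : Scheme.{u}} (f : X ⟶ Y) (I J : Y.IdealSheafData) :
    (I * J).comap f = I.comap f * J.comap f := by
  have hloc : ∀ x : X, ∃ V : X.affineOpens, x ∈ V.1 ∧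
      ((I * J).comap f).ideal V = (I.comap f * J.comap f).ideal V := by
    intro x
    obtain ⟨_, ⟨U, hU, rfl⟩, hxU, -⟩ :=
      Y.isBasis_affineOpens.exists_subset_of_mem_open (Set.mem_univ (f x)) isOpen_univ
    obtain ⟨_, ⟨V, hV, rfl⟩, hxV, hVU⟩ :=
      X.isBasis_affineOpens.exists_subset_of_mem_open
        (show x ∈ ((f ⁻¹ᵁ U : X.Opens) : Set X) from hxU) (f ⁻¹ᵁ U).isOpen
    refine ⟨⟨V, hV⟩, hxV, ?_⟩
    have e : V ≤ f ⁻¹ᵁ U := hVU
    rw [Scheme.IdealSheafData.ideal_mul, Pi.mul_apply,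
      Groth.Agent.Helper9.IdealComap.ideal_comap f (I * J) ⟨U, hU⟩ ⟨V, hV⟩ e,
      Groth.Agent.Helper9.IdealComap.ideal_comap f I ⟨U, hU⟩ ⟨V, hV⟩ e,
      Groth.Agent.Helper9.IdealComap.ideal_comap f J ⟨U, hU⟩ ⟨V, hV⟩ e,
      Scheme.IdealSheafData.ideal_mul, Pi.mul_apply, Ideal.map_mul]
  choose W hxW hW using hloc
  refine Scheme.IdealSheafData.ext_of_iSup_eq_top W ?_ hW
  rw [eq_top_iff]
  intro x _
  exact TopologicalSpace.Opens.mem_iSup.mpr ⟨x, hxW x⟩

/-- cancellation of an effective Cartier ideal -/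
theorem mul_right_cancel_of_isEffCartier {X : Scheme.{u}} (A B E : X.IdealSheafData)
    (hE : BlowUp.IsEffCartierIdeal E) (h : A * E = B * E) : A = B := by
  choose W hxW e he hEe using hE
  refine Scheme.IdealSheafData.ext_of_iSup_eq_top W ?_ ?_
  · rw [eq_top_iff]
    intro x _
    exact TopologicalSpace.Opens.mem_iSup.mpr ⟨x, hxW x⟩
  · intro x
    have hmul : A.ideal (W x) * Ideal.span {e x} = B.ideal (W x) * Ideal.span {e x} := by
      have := congrArg (fun L : X.IdealSheafData => L.ideal (W x)) h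
      simp only [Scheme.IdealSheafData.ideal_mul, Pi.mul_apply, hEe x] at this
      exact this
    have key : ∀ P Q : Ideal Γ(X, (W x).1), P * Ideal.span {e x} = Q * Ideal.span {e x} → P ≤ Q := by
      intro P Q hPQ z hz
      have h1 : z * e x ∈ P * Ideal.span {e x} := Ideal.mem_mul_span_singleton.mpr ⟨z, hz, rfl⟩
      rw [hPQ] at h1
      obtain ⟨y, hy, hye⟩ := Ideal.mem_mul_span_singleton.mp h1
      have h2 : (y - z) * e x = 0 := by rw [sub_mul, hye, sub_self]
      have h3 := (mem_nonZeroDivisors_iff_right.mp (he x)) _ h2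
      rw [← sub_eq_zero.mp h3]
      exact hy
    exact le_antisymm (key _ _ hmul) (key _ _ hmul.symm)

end Groth.Agent.Helper4.NApx24
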