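import Groth.Prelude.Def_BlowUp2
import Groth.Prelude.Def_CurvBase
import Groth.Agent.Helper4.NApx21
import Groth.Agent.Helper9.IdealComap
import Mathlib

set_option autoImplicit false
universe u

namespace Groth.Agent.Helper4.NApx33

open AlgebraicGeometry CategoryTheory Limits Opposite TopologicalSpace
open Groth.Agent.Helper4.NApx19 Groth.Agent.Helper4.NApx21

/-- restriction from global sections -/
noncomputable abbrev ρ (W : Scheme.{u}) (V : W.Opens) : Γ(W, ⊤) →+* Γ(W, V) :=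
  (W.presheaf.map (homOfLE (le_top : V ≤ ⊤)).op).hom

/-- sections of the structure sheaf agreeing locally are equal -/
theorem sec_ext {W : Scheme.{u}} (V : W.Opens) (a b : Γ(W, V))
    (h : ∀ y ∈ V, ∃ (D : W.Opens) (hD : D ≤ V), y ∈ D ∧
      (W.presheaf.map (homOfLE hD).op).hom a = (W.presheaf.map (homOfLE hD).op).hom b) : a = b := by
  choose D hD hyD hab using h
  refine TopCat.Sheaf.eq_of_locally_eq' W.sheaf (fun y : V => D y.1 y.2) V
    (fun y => homOfLE (hD y.1 y.2)) ?_ a b (fun y => hab y.1 y.2)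
  intro y hy
  exact Opens.mem_iSup.mpr ⟨⟨y, hy⟩, hyD y hy⟩

/-- a global section which is locally a nonzerodivisor is a nonzerodivisor on global sections -/
theorem eq_zero_of_mul_eq_zero {W : Scheme.{u}} (t : Γ(W, ⊤))
    (H : ∀ w : W, ∃ V : W.affineOpens, w ∈ V.1 ∧ ρ W V.1 t ∈ nonZeroDivisors Γ(W, V.1))
    (s : Γ(W, ⊤)) (hs : s * t = 0) : s = 0 := by
  apply sec_ext
  intro y _
  obtain ⟨V, hyV, hV⟩ := H y
  refine ⟨V.1, le_top, hyV, ?_⟩
  have h1 : ρ W V.1 s * ρ W V.1 t = 0 := by rw [← map_mul, hs, map_zero]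
  have h2 := (mem_nonZeroDivisors_iff_right.mp hV) _ h1
  rw [map_zero]
  exact h2

/-- gluing local quotients by a local nonzerodivisor -/
theorem exists_quotient {W : Scheme.{u}} (t c : Γ(W, ⊤))
    (H : ∀ w : W, ∃ V : W.affineOpens, w ∈ V.1 ∧ ρ W V.1 t ∈ nonZeroDivisors Γ(W, V.1) ∧
      ∃ s, s * ρ W V.1 t = ρ W V.1 c) :
    ∃ s : Γ(W, ⊤), s * t = c := by
  choose V hwV hnzd sV hsV using H
  have hcompat : TopCat.Presheaf.IsCompatible W.presheaf (fun w : W => (V w).1) sV := by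
    intro w w'
    apply sec_ext
    intro y hy
    obtain ⟨_, ⟨V'', hV'' : IsAffineOpen V'', rfl⟩, hyV'', hle⟩ :=
      W.isBasis_affineOpens.exists_subset_of_mem_open hy ((V w).1 ⊓ (V w').1).2
    have hle' : V'' ≤ (V w).1 ⊓ (V w').1 := hle
    refine ⟨V'', hle', hyV'', ?_⟩
    have e1 : V'' ≤ (V w).1 := hle'.trans inf_le_left
    have e2 : V'' ≤ (V w').1 := hle'.trans inf_le_right
    have r1 : (W.presheaf.map (homOfLE hle').op).hom
        ((W.presheaf.map (Opens.infLELeft (V w).1 (V w').1).op).hom (sV w)) =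
        (W.presheaf.map (homOfLE e1).op).hom (sV w) := by
      rw [← RingHom.comp_apply, ← CommRingCat.hom_comp, ← W.presheaf.map_comp]
      rfl
    have r2 : (W.presheaf.map (homOfLE hle').op).hom
        ((W.presheaf.map (Opens.infLERight (V w).1 (V w').1).op).hom (sV w')) =
        (W.presheaf.map (homOfLE e2).op).hom (sV w') := by
      rw [← RingHom.comp_apply, ← CommRingCat.hom_comp, ← W.presheaf.map_comp]
      rfl
    refine r1.trans (Eq.trans ?_ r2.symm)
    have t1 : (W.presheaf.map (homOfLE e1).op).hom (ρ W (V w).1 t) = ρ W V'' t := by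
      rw [← RingHom.comp_apply, ← CommRingCat.hom_comp, ← W.presheaf.map_comp]
      rfl
    have t2 : (W.presheaf.map (homOfLE e2).op).hom (ρ W (V w').1 t) = ρ W V'' t := by
      rw [← RingHom.comp_apply, ← CommRingCat.hom_comp, ← W.presheaf.map_comp]
      rfl
    have c1 : (W.presheaf.map (homOfLE e1).op).hom (ρ W (V w).1 c) = ρ W V'' c := by
      rw [← RingHom.comp_apply, ← CommRingCat.hom_comp, ← W.presheaf.map_comp]
      rfl
    have c2 : (W.presheaf.map (homOfLE e2).op).hom (ρ W (V w').1 c) = ρ W V'' c := by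
      rw [← RingHom.comp_apply, ← CommRingCat.hom_comp, ← W.presheaf.map_comp]
      rfl
    have hn : ρ W V'' t ∈ nonZeroDivisors Γ(W, V'') := by
      rw [← t1]
      exact map_mem_nonZeroDivisors_of_flat _ (flat_res (V w) ⟨V'', hV''⟩ e1) (hnzd w)
    have q1 : (W.presheaf.map (homOfLE e1).op).hom (sV w) * ρ W V'' t = ρ W V'' c := by
      rw [← t1, ← map_mul, hsV w, c1]
    have q2 : (W.presheaf.map (homOfLE e2).op).hom (sV w') * ρ W V'' t = ρ W V'' c := by
      rw [← t2, ← map_mul, hsV w', c2]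
    have q3 : ((W.presheaf.map (homOfLE e1).op).hom (sV w) -
        (W.presheaf.map (homOfLE e2).op).hom (sV w')) * ρ W V'' t = 0 := by
      rw [sub_mul, q1, q2, sub_self]
    exact sub_eq_zero.mp ((mem_nonZeroDivisors_iff_right.mp hn) _ q3)
  have hcover : (⊤ : W.Opens) ≤ ⨆ w : W, (V w).1 := by
    intro y _
    exact Opens.mem_iSup.mpr ⟨y, hwV y⟩
  obtain ⟨s', hs', -⟩ := TopCat.Sheaf.existsUnique_gluing' W.sheaf (fun w : W => (V w).1) ⊤
    (fun w => homOfLE le_top) hcover sV hcompat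
  obtain ⟨s, hs⟩ : ∃ s : Γ(W, ⊤), ∀ w : W, ρ W (V w).1 s = sV w := ⟨s', hs'⟩
  refine ⟨s, ?_⟩
  apply sec_ext
  intro y _
  refine ⟨(V y).1, le_top, hwV y, ?_⟩
  have h1 : ρ W (V y).1 s = sV y := hs y
  show ρ W (V y).1 (s * t) = ρ W (V y).1 c
  rw [map_mul, h1, hsV y]

end Groth.Agent.Helper4.NApx33
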