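import Groth.Prelude.Def_BlowUp2
import Groth.Prelude.Def_CurvBase
import Groth.Agent.Helper4.NApx33
import Mathlib

set_option autoImplicit false
universe u

namespace Groth.Agent.Helper4.NApx34

open AlgebraicGeometry CategoryTheory Limits Opposite TopologicalSpace
open Groth.Agent.Helper4.NApx33

section Alg

variable {A B : Type u} [CommRing A] [CommRing B] [Algebra A B]
  (hinj : Function.Injective (algebraMap A B)) (I : Ideal A)
  (hIB : (Ideal.map (algebraMap A B) I : Set B) ⊆ algebraMap A B '' (I : Set A))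
  (f : B) (hgen : Ideal.map (algebraMap A B) I = Ideal.span {f})

include hIB hgen in
theorem exists_f₀ : ∃ f₀ ∈ I, algebraMap A B f₀ = f := by
  have : f ∈ (Ideal.map (algebraMap A B) I : Set B) := by
    rw [hgen]; exact Ideal.mem_span_singleton_self f
  obtain ⟨f₀, h1, h2⟩ := hIB this
  exact ⟨f₀, h1, h2⟩

include hIB hgen in
theorem exists_c (b : B) : ∃ c ∈ I, algebraMap A B c = b * f := by
  have : b * f ∈ (Ideal.map (algebraMap A B) I : Set B) := by
    rw [hgen]; exact Ideal.mul_mem_left _ _ (Ideal.mem_span_singleton_self f)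
  obtain ⟨c, h1, h2⟩ := hIB this
  exact ⟨c, h1, h2⟩

include hinj hIB hgen in
theorem sq_le (f₀ : A) (hf₀ : algebraMap A B f₀ = f) : I * I ≤ Ideal.span {f₀} * I := by
  rw [Ideal.mul_le]
  intro x hx y hy
  have hx' : algebraMap A B x ∈ Ideal.span {f} := hgen ▸ Ideal.mem_map_of_mem _ hx
  obtain ⟨b, hb⟩ := Ideal.mem_span_singleton'.mp hx'
  have hy' : algebraMap A B y ∈ Ideal.map (algebraMap A B) I := Ideal.mem_map_of_mem _ hy
  have hmem : b * algebraMap A B y ∈ (Ideal.map (algebraMap A B) I : Set B) :=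
    Ideal.mul_mem_left _ _ hy'
  obtain ⟨z, hz, hzb⟩ := hIB hmem
  have e : x * y = f₀ * z := by
    apply hinj
    rw [map_mul, map_mul, hf₀, hzb, ← hb]; ring
  rw [e]
  exact Ideal.mul_mem_mul (Ideal.mem_span_singleton_self _) hz

include hinj hIB hgen in
theorem local_key (f₀ : A) (hf₀I : f₀ ∈ I) (hf₀ : algebraMap A B f₀ = f) {R : Type u} [CommRing R]
    (φ : A →+* R) (t : R) (ht : t ∈ nonZeroDivisors R) (hI : I.map φ = Ideal.span {t}) :
    φ f₀ ∈ nonZeroDivisors R ∧ I.map φ = Ideal.span {φ f₀} := by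
  have h1 : φ f₀ ∈ Ideal.span {t} := hI ▸ Ideal.mem_map_of_mem _ hf₀I
  obtain ⟨u, hu⟩ := Ideal.mem_span_singleton'.mp h1
  have h2 : (I * I).map φ ≤ (Ideal.span {f₀} * I).map φ :=
    Ideal.map_mono (sq_le hinj I hIB f hgen f₀ hf₀)
  rw [Ideal.map_mul, Ideal.map_mul, hI, Ideal.map_span, Set.image_singleton,
    Ideal.span_singleton_mul_span_singleton, Ideal.span_singleton_mul_span_singleton,
    Ideal.span_singleton_le_iff_mem] at h2
  obtain ⟨w, hw⟩ := Ideal.mem_span_singleton'.mp h2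
  have h3' : w * u * (t * t) = t * t := by
    rw [← hu] at hw
    calc w * u * (t * t) = w * (u * t * t) := by ring
      _ = t * t := hw
  have h3 : (w * u - 1) * (t * t) = 0 := by
    rw [sub_mul, one_mul, h3', sub_self]
  have h4 : w * u = 1 := sub_eq_zero.mp ((mem_nonZeroDivisors_iff_right.mp (mul_mem ht ht)) _ h3)
  have hunit : IsUnit u := IsUnit.of_mul_eq_one w (by rw [mul_comm]; exact h4)
  refine ⟨?_, ?_⟩
  · rw [← hu]; exact mul_mem hunit.mem_nonZeroDivisors ht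
  · rw [hI, ← hu]
    exact (Ideal.span_singleton_mul_left_unit hunit t).symm

include hinj hIB hgen in
theorem existsUnique_ringHom (f₀ : A) (hf₀I : f₀ ∈ I) (hf₀ : algebraMap A B f₀ = f)
    {R : Type u} [CommRing R] (φ : A →+* R)
    (h1 : ∀ s : R, s * φ f₀ = 0 → s = 0) (h2 : ∀ c ∈ I, ∃ s, s * φ f₀ = φ c) :
    ∃! ψ : B →+* R, ψ.comp (algebraMap A B) = φ := by
  let Rel : B → R → Prop := fun b s => ∃ c ∈ I, algebraMap A B c = b * f ∧ s * φ f₀ = φ c
  have hex : ∀ b, ∃ s, Rel b s := by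
    intro b
    obtain ⟨c, hc, hcb⟩ := exists_c I hIB f hgen b
    obtain ⟨s, hs⟩ := h2 c hc
    exact ⟨s, c, hc, hcb, hs⟩
  have huniq : ∀ b s s', Rel b s → Rel b s' → s = s' := by
    rintro b s s' ⟨c, -, hcb, hs⟩ ⟨c', -, hcb', hs'⟩
    have hcc : c = c' := hinj (hcb.trans hcb'.symm)
    subst hcc
    have : (s - s') * φ f₀ = 0 := by rw [sub_mul, hs, hs', sub_self]
    exact sub_eq_zero.mp (h1 _ this)
  let ψ₀ : B → R := fun b => (hex b).choose
  have hψ : ∀ b s, Rel b s → ψ₀ b = s := fun b s hs => huniq b _ _ (hex b).choose_spec hs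
  have hψs : ∀ b, Rel b (ψ₀ b) := fun b => (hex b).choose_spec
  have hmul : ∀ b b', ψ₀ (b * b') = ψ₀ b * ψ₀ b' := by
    intro b b'
    apply hψ
    obtain ⟨c, hc, hcb, hs⟩ := hψs b
    obtain ⟨c', hc', hcb', hs'⟩ := hψs b'
    obtain ⟨c'', hc'', hcb''⟩ := exists_c I hIB f hgen (b * b')
    refine ⟨c'', hc'', hcb'', ?_⟩
    have e : c * c' = c'' * f₀ := by
      apply hinj
      rw [map_mul, map_mul, hcb, hcb', hcb'', hf₀]; ring
    have e2 : (ψ₀ b * ψ₀ b' * φ f₀ - φ c'') * φ f₀ = 0 := by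
      have : ψ₀ b * ψ₀ b' * φ f₀ * φ f₀ = (ψ₀ b * φ f₀) * (ψ₀ b' * φ f₀) := by ring
      rw [sub_mul, this, hs, hs', ← map_mul, ← map_mul, e, sub_self]
    exact sub_eq_zero.mp (h1 _ e2)
  have hadd : ∀ b b', ψ₀ (b + b') = ψ₀ b + ψ₀ b' := by
    intro b b'
    apply hψ
    obtain ⟨c, hc, hcb, hs⟩ := hψs b
    obtain ⟨c', hc', hcb', hs'⟩ := hψs b'
    exact ⟨c + c', I.add_mem hc hc', by rw [map_add, hcb, hcb', add_mul],
      by rw [add_mul, hs, hs', map_add]⟩
  have hone : ψ₀ 1 = 1 := hψ 1 1 ⟨f₀, hf₀I, by rw [hf₀, one_mul], one_mul _⟩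
  have hzero : ψ₀ 0 = 0 := hψ 0 0 ⟨0, I.zero_mem, by rw [map_zero, zero_mul], by
    rw [zero_mul, map_zero]⟩
  let ψ : B →+* R :=
    { toFun := ψ₀
      map_one' := hone
      map_mul' := hmul
      map_zero' := hzero
      map_add' := hadd }
  refine ⟨ψ, ?_, ?_⟩
  · ext a
    show ψ₀ (algebraMap A B a) = φ a
    exact hψ _ _ ⟨a * f₀, I.mul_mem_left a hf₀I, by rw [map_mul, hf₀], by rw [map_mul]⟩
  · intro ψ' hψ'
    ext b
    show ψ' b = ψ₀ b
    symm
    apply hψ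
    obtain ⟨c, hc, hcb⟩ := exists_c I hIB f hgen b
    refine ⟨c, hc, hcb, ?_⟩
    have e1 : φ f₀ = ψ' f := by rw [← hψ', RingHom.comp_apply, hf₀]
    have e2 : φ c = ψ' (b * f) := by rw [← hψ', RingHom.comp_apply, hcb]
    rw [e1, e2, map_mul]

end Alg

end Groth.Agent.Helper4.NApx34
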