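import Groth.Prelude.Def_BlowUp2
import Groth.Prelude.Def_CurvBase
import Groth.Agent.Helper4.NApx34
import Mathlib

set_option autoImplicit false
universe u

namespace Groth.Agent.Helper4.NApx35

open AlgebraicGeometry CategoryTheory Limits Opposite TopologicalSpace
open Groth.Agent.Helper4.NApx33 Groth.Agent.Helper4.NApx34

variable {A : Type u} [CommRing A]

/-- the ring map on global sections induced by a morphism to `Spec A` -/
noncomputable def φ {W : Scheme.{u}} (g : W ⟶ Spec (CommRingCat.of A)) : A →+* Γ(W, ⊤) :=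
  g.appTop.hom.comp (Scheme.ΓSpecIso (CommRingCat.of A)).inv.hom

theorem ofHom_φ {W : Scheme.{u}} (g : W ⟶ Spec (CommRingCat.of A)) :
    CommRingCat.ofHom (φ g) = (Scheme.ΓSpecIso (CommRingCat.of A)).inv ≫ g.appTop := rfl

theorem eq_toSpecΓ_comp {W : Scheme.{u}} (g : W ⟶ Spec (CommRingCat.of A)) :
    g = W.toSpecΓ ≫ Spec.map (CommRingCat.ofHom (φ g)) := by
  rw [ofHom_φ, Spec.map_comp, ← Category.assoc, ← Scheme.toSpecΓ_naturality, Category.assoc,
    toSpecΓ_SpecMap_ΓSpecIso_inv, Category.comp_id]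

theorem φ_comp_SpecMap {B : Type u} [CommRing B] {W : Scheme.{u}}
    (h : W ⟶ Spec (CommRingCat.of B)) (r : A →+* B) :
    φ (h ≫ Spec.map (CommRingCat.ofHom r)) = (φ h).comp r := by
  have e : CommRingCat.ofHom (φ (h ≫ Spec.map (CommRingCat.ofHom r))) =
      CommRingCat.ofHom r ≫ CommRingCat.ofHom (φ h) := by
    rw [ofHom_φ, ofHom_φ, Scheme.Hom.comp_appTop, ← Category.assoc,
      ← Scheme.ΓSpecIso_inv_naturality, Category.assoc]
  exact congrArg CommRingCat.Hom.hom e

theorem φ_toSpecΓ_comp {B : Type u} [CommRing B] {W : Scheme.{u}} (ψ : B →+* Γ(W, ⊤)) :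
    φ (W.toSpecΓ ≫ Spec.map (CommRingCat.ofHom ψ)) = ψ := by
  have e : CommRingCat.ofHom (φ (W.toSpecΓ ≫ Spec.map (CommRingCat.ofHom ψ))) =
      CommRingCat.ofHom ψ := by
    rw [ofHom_φ, Scheme.Hom.comp_appTop, ← Category.assoc, ← Scheme.ΓSpecIso_inv_naturality,
      Category.assoc, Scheme.toSpecΓ_appTop, Iso.inv_hom_id, Category.comp_id]
  exact congrArg CommRingCat.Hom.hom e

theorem ρ_top (W : Scheme.{u}) : ρ W ⊤ = RingHom.id _ := by
  have : (homOfLE (le_top : (⊤ : W.Opens) ≤ ⊤)) = 𝟙 _ := rfl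
  unfold ρ
  rw [this, op_id, W.presheaf.map_id]
  rfl

theorem ideal_comap_idealSheaf {W : Scheme.{u}} (g : W ⟶ Spec (CommRingCat.of A)) (I : Ideal A)
    (V : W.affineOpens) :
    ((Curv2.idealSheaf A I).comap g).ideal V = I.map ((ρ W V.1).comp (φ g)) := by
  rw [Groth.Agent.Helper9.IdealComap.ideal_comap g _ ⟨⊤, isAffineOpen_top _⟩ V le_top]
  unfold Curv2.idealSheaf
  rw [Groth.Agent.Helper9.IdealComap.ofIdealTop_ideal_top, Ideal.map_map]
  rfl

/-- `Spec B ⟶ Spec A` is a blowing up in `I` when `I B = f B ⊆ I` with `f` a nonzerodivisor -/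
theorem isBlowUp_Spec (B : Type u) [CommRing B] [Algebra A B]
    (hinj : Function.Injective (algebraMap A B)) (I : Ideal A)
    (hIB : (Ideal.map (algebraMap A B) I : Set B) ⊆ algebraMap A B '' (I : Set A))
    (f : B) (hf : f ∈ nonZeroDivisors B) (hgen : Ideal.map (algebraMap A B) I = Ideal.span {f}) :
    BlowUp.IsBlowUp (Spec.map (CommRingCat.ofHom (algebraMap A B))) (Curv2.idealSheaf A I) := by
  obtain ⟨f₀, hf₀I, hf₀⟩ := exists_f₀ I hIB f hgen
  constructor
  · intro x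
    refine ⟨⟨⊤, isAffineOpen_top _⟩, trivial,
      (Scheme.ΓSpecIso (CommRingCat.of B)).inv.hom f, ?_, ?_⟩
    · refine (mem_nonZeroDivisors_iff_right (M₀ := Γ(Spec (CommRingCat.of B), ⊤))).mpr ?_
      intro y hy
      have h1 : (Scheme.ΓSpecIso (CommRingCat.of B)).hom.hom y * f = 0 := by
        have := congrArg (Scheme.ΓSpecIso (CommRingCat.of B)).hom.hom hy
        rw [map_mul, map_zero] at this
        rw [← this]
        congr 1
        exact (congr($((Scheme.ΓSpecIso (CommRingCat.of B)).inv_hom_id).hom f)).symm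
      have h2 := (mem_nonZeroDivisors_iff_right.mp hf) _ h1
      have h3 := congrArg (Scheme.ΓSpecIso (CommRingCat.of B)).inv.hom h2
      rw [map_zero] at h3
      rw [← h3]
      exact (congr($((Scheme.ΓSpecIso (CommRingCat.of B)).hom_inv_id).hom y)).symm
    · rw [ideal_comap_idealSheaf, ρ_top, RingHom.id_comp]
      have e : φ (Spec.map (CommRingCat.ofHom (algebraMap A B))) =
          (Scheme.ΓSpecIso (CommRingCat.of B)).inv.hom.comp (algebraMap A B) := by
        have := φ_comp_SpecMap (𝟙 (Spec (CommRingCat.of B))) (algebraMap A B)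
        rw [Category.id_comp] at this
        rw [this]
        congr 1
      rw [e, ← Ideal.map_map, hgen, Ideal.map_span, Set.image_singleton]
  · intro W g hg
    have hloc : ∀ w : W, ∃ V : W.affineOpens, w ∈ V.1 ∧
        ρ W V.1 (φ g f₀) ∈ nonZeroDivisors Γ(W, V.1) ∧
        ∀ c ∈ I, ∃ s, s * ρ W V.1 (φ g f₀) = ρ W V.1 (φ g c) := by
      intro w
      obtain ⟨V, hwV, t, ht, hVt⟩ := hg w
      rw [ideal_comap_idealSheaf] at hVt
      obtain ⟨k1, k2⟩ := local_key hinj I hIB f hgen f₀ hf₀I hf₀ ((ρ W V.1).comp (φ g)) t ht hVt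
      refine ⟨V, hwV, k1, fun c hc => ?_⟩
      have : ((ρ W V.1).comp (φ g)) c ∈ Ideal.span {((ρ W V.1).comp (φ g)) f₀} :=
        k2 ▸ Ideal.mem_map_of_mem _ hc
      exact Ideal.mem_span_singleton'.mp this
    have h1 : ∀ s : Γ(W, ⊤), s * φ g f₀ = 0 → s = 0 :=
      eq_zero_of_mul_eq_zero _ (fun w => by
        obtain ⟨V, a, b, -⟩ := hloc w
        exact ⟨V, a, b⟩)
    have h2 : ∀ c ∈ I, ∃ s, s * φ g f₀ = φ g c := fun c hc =>
      exists_quotient _ _ (fun w => by
        obtain ⟨V, a, b, d⟩ := hloc w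
        exact ⟨V, a, b, d c hc⟩)
    obtain ⟨ψ, hψ, hψu⟩ := existsUnique_ringHom hinj I hIB f hgen f₀ hf₀I hf₀ (φ g) h1 h2
    refine ⟨W.toSpecΓ ≫ Spec.map (CommRingCat.ofHom ψ), ?_, ?_⟩
    · show (W.toSpecΓ ≫ Spec.map (CommRingCat.ofHom ψ)) ≫
        Spec.map (CommRingCat.ofHom (algebraMap A B)) = g
      rw [Category.assoc, ← Spec.map_comp, ← CommRingCat.ofHom_comp, hψ]
      exact (eq_toSpecΓ_comp g).symm
    · intro h' hh'
      have hh'' : h' ≫ Spec.map (CommRingCat.ofHom (algebraMap A B)) = g := hh'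
      have e1 : (φ h').comp (algebraMap A B) = φ g := by
        rw [← φ_comp_SpecMap, hh'']
      have e2 : φ h' = ψ := hψu _ e1
      rw [eq_toSpecΓ_comp h', e2]

end Groth.Agent.Helper4.NApx35
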