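import Mathlib

set_option autoImplicit false
universe u

namespace Groth.Agent.Helper4.NApx36

section Alg

variable {A B : Type u} [CommRing A] [CommRing B] (r : A →+* B) (I : Ideal A) (a : A)

theorem map_pow_le {R : Type u} [CommRing R] (φ : A →+* R)
    (h2 : I.map φ ≤ Ideal.span {φ a}) (n : ℕ) : (I ^ n).map φ ≤ Ideal.span {φ a ^ n} := by
  rw [Ideal.map_pow, ← Ideal.span_singleton_pow]
  exact Ideal.pow_right_mono h2 n

/-- universal property of the affine blow-up chart, abstractly -/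
theorem existsUnique_lift
    (F1 : ∀ z : B, ∃ n : ℕ, ∃ c ∈ I ^ n, z * r a ^ n = r c)
    (F2 : ∀ x : A, r x = 0 → ∃ k : ℕ, x * a ^ k = 0) (ha : a ∈ I)
    {R : Type u} [CommRing R] (φ : A →+* R)
    (h1 : φ a ∈ nonZeroDivisors R) (h2 : I.map φ ≤ Ideal.span {φ a}) :
    ∃! ψ : B →+* R, ψ.comp r = φ := by
  have hpow : ∀ n : ℕ, ∀ s : R, s * φ a ^ n = 0 → s = 0 := fun n s hs =>
    (mem_nonZeroDivisors_iff_right.mp (pow_mem h1 n)) s hs
  have hapow : ∀ n : ℕ, a ^ n ∈ I ^ n := fun n => Ideal.pow_mem_pow ha n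
  let Rel : B → R → Prop := fun z s =>
    ∃ n : ℕ, ∃ c ∈ I ^ n, z * r a ^ n = r c ∧ s * φ a ^ n = φ c
  have hex : ∀ z, ∃ s, Rel z s := by
    intro z
    obtain ⟨n, c, hc, hz⟩ := F1 z
    have : φ c ∈ Ideal.span {φ a ^ n} := map_pow_le I a φ h2 n (Ideal.mem_map_of_mem _ hc)
    obtain ⟨s, hs⟩ := Ideal.mem_span_singleton'.mp this
    exact ⟨s, n, c, hc, hz, hs⟩
  have huniq : ∀ z s s', Rel z s → Rel z s' → s = s' := by
    rintro z s s' ⟨n, c, -, hz, hs⟩ ⟨m, c', -, hz', hs'⟩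
    have e1 : r (c * a ^ m - c' * a ^ n) = 0 := by
      rw [map_sub, map_mul, map_mul, map_pow, map_pow, ← hz, ← hz']; ring
    obtain ⟨k, hk⟩ := F2 _ e1
    have e2 : (φ c * φ a ^ m - φ c' * φ a ^ n) * φ a ^ k = 0 := by
      have := congrArg φ hk
      rw [map_mul, map_sub, map_mul, map_mul, map_pow, map_pow, map_pow, map_zero] at this
      exact this
    have e3 : (s - s') * φ a ^ (n + m + k) = 0 := by
      rw [← e2, ← hs, ← hs']; ring
    exact sub_eq_zero.mp (hpow _ _ e3)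
  let ψ₀ : B → R := fun z => (hex z).choose
  have hψ : ∀ z s, Rel z s → ψ₀ z = s := fun z s hs => huniq z _ _ (hex z).choose_spec hs
  have hψs : ∀ z, Rel z (ψ₀ z) := fun z => (hex z).choose_spec
  have hmul : ∀ z z', ψ₀ (z * z') = ψ₀ z * ψ₀ z' := by
    intro z z'
    apply hψ
    obtain ⟨n, c, hc, hz, hs⟩ := hψs z
    obtain ⟨m, c', hc', hz', hs'⟩ := hψs z'
    refine ⟨n + m, c * c', ?_, ?_, ?_⟩
    · rw [pow_add]; exact Ideal.mul_mem_mul hc hc'
    · rw [map_mul, ← hz, ← hz']; ring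
    · rw [map_mul, ← hs, ← hs']; ring
  have hadd : ∀ z z', ψ₀ (z + z') = ψ₀ z + ψ₀ z' := by
    intro z z'
    apply hψ
    obtain ⟨n, c, hc, hz, hs⟩ := hψs z
    obtain ⟨m, c', hc', hz', hs'⟩ := hψs z'
    refine ⟨n + m, c * a ^ m + c' * a ^ n, ?_, ?_, ?_⟩
    · refine Ideal.add_mem _ ?_ ?_
      · rw [pow_add]; exact Ideal.mul_mem_mul hc (hapow m)
      · rw [add_comm n m, pow_add]; exact Ideal.mul_mem_mul hc' (hapow n)
    · rw [map_add, map_mul, map_mul, map_pow, map_pow, ← hz, ← hz']; ring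
    · rw [map_add, map_mul, map_mul, map_pow, map_pow, ← hs, ← hs']; ring
  have hone : ψ₀ 1 = 1 := hψ 1 1 ⟨0, 1, by rw [pow_zero, Ideal.one_eq_top]; exact Submodule.mem_top, by
    rw [pow_zero, mul_one, map_one], by rw [pow_zero, mul_one, map_one]⟩
  have hzero : ψ₀ 0 = 0 := hψ 0 0 ⟨0, 0, Ideal.zero_mem _, by rw [zero_mul, map_zero], by
    rw [zero_mul, map_zero]⟩
  let ψ : B →+* R :=
    { toFun := ψ₀
      map_one' := hone
      map_mul' := hmul
      map_zero' := hzero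
      map_add' := hadd }
  refine ⟨ψ, ?_, ?_⟩
  · ext x
    show ψ₀ (r x) = φ x
    exact hψ _ _ ⟨0, x, by rw [pow_zero, Ideal.one_eq_top]; exact Submodule.mem_top, by rw [pow_zero, mul_one],
      by rw [pow_zero, mul_one]⟩
  · intro ψ' hψ'
    ext z
    show ψ' z = ψ₀ z
    symm
    apply hψ
    obtain ⟨n, c, hc, hz⟩ := F1 z
    refine ⟨n, c, hc, hz, ?_⟩
    have e1 : φ a = ψ' (r a) := by rw [← hψ', RingHom.comp_apply]
    have e2 : φ c = ψ' (r c) := by rw [← hψ', RingHom.comp_apply]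
    rw [e1, e2, ← hz, map_mul, map_pow]

end Alg

end Groth.Agent.Helper4.NApx36
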