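import Groth.Prelude.Def_Rees
import Groth.Prelude.Def_BlowUp2
import Groth.Prelude.Def_ega3
import Mathlib

set_option autoImplicit false
universe u

namespace Groth.Agent.Helper4.NApx37

open AlgebraicGeometry CategoryTheory Polynomial HomogeneousLocalization

variable (A : Type u) [CommRing A] (I : Ideal A)

/-- the grading of the Rees algebra -/
noncomputable abbrev 𝒜 : ℕ → Submodule A (reesAlgebra I) := Rees.deg (reesAlgebra I)

variable {A I}

/-- the monomial `c Xⁿ` of the Rees algebra -/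
noncomputable def mono (n : ℕ) (c : A) (hc : c ∈ I ^ n) : reesAlgebra I :=
  ⟨monomial n c, reesAlgebra.monomial_mem.mpr hc⟩

theorem coe_mono (n : ℕ) (c : A) (hc : c ∈ I ^ n) :
    ((mono n c hc : reesAlgebra I) : A[X]) = monomial n c := rfl

theorem mono_mem (n : ℕ) (c : A) (hc : c ∈ I ^ n) : mono n c hc ∈ 𝒜 A I n := by
  intro m hm
  change (monomial n c).coeff m = 0
  rw [coeff_monomial, if_neg]
  exact fun h => hm h.symm

theorem coeff_mem {y : reesAlgebra I} (n : ℕ) : (y : A[X]).coeff n ∈ I ^ n :=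
  (mem_reesAlgebra_iff I _).mp y.2 n

theorem eq_mono {y : reesAlgebra I} {n : ℕ} (hy : y ∈ 𝒜 A I n) :
    y = mono n ((y : A[X]).coeff n) (coeff_mem n) := by
  apply Subtype.ext
  rw [coe_mono]
  ext m
  rw [coeff_monomial]
  split_ifs with h
  · rw [h]
  · exact hy m (fun h' => h h'.symm)

theorem mono_mul (n m : ℕ) (c d : A) (hc : c ∈ I ^ n) (hd : d ∈ I ^ m) :
    mono n c hc * mono m d hd =
      mono (n + m) (c * d) (by rw [pow_add]; exact Ideal.mul_mem_mul hc hd) := by
  apply Subtype.ext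
  rw [Subalgebra.coe_mul, coe_mono, coe_mono, coe_mono, monomial_mul_monomial]

theorem mono_eq_zero_iff (n : ℕ) (c : A) (hc : c ∈ I ^ n) : mono n c hc = 0 ↔ c = 0 := by
  constructor
  · intro h
    have := congrArg (fun y : reesAlgebra I => (y : A[X]).coeff n) h
    simpa [coe_mono] using this
  · intro h
    apply Subtype.ext
    rw [coe_mono, h, monomial_zero_right]
    rfl

/-- the degree one element `a X` -/
noncomputable def t (a : A) (ha : a ∈ I) : reesAlgebra I := mono 1 a (by rwa [pow_one])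

theorem t_mem (a : A) (ha : a ∈ I) : t a ha ∈ 𝒜 A I 1 := mono_mem _ _ _

theorem t_pow (a : A) (ha : a ∈ I) (n : ℕ) :
    t a ha ^ n = mono n (a ^ n) (Ideal.pow_mem_pow ha n) := by
  apply Subtype.ext
  rw [Subalgebra.coe_pow, coe_mono]
  show (monomial 1 a) ^ n = _
  rw [monomial_pow, one_mul]

/-- constants -/
noncomputable def cc (x : A) : reesAlgebra I := mono 0 x (by rw [pow_zero, Ideal.one_eq_top]; trivial)

theorem cc_eq (x : A) : (cc x : reesAlgebra I) = algebraMap A (reesAlgebra I) x := by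
  apply Subtype.ext
  rw [Subalgebra.coe_algebraMap]
  rfl

/-- the chart ring -/
noncomputable abbrev Ba (a : A) (ha : a ∈ I) : Type u := Away (𝒜 A I) (t a ha)

/-- the structure map of the chart ring -/
noncomputable def r (a : A) (ha : a ∈ I) : A →+* Ba a ha :=
  (fromZeroRingHom (𝒜 A I) _).comp (algebraMap A (𝒜 A I 0))

theorem val_r (a : A) (ha : a ∈ I) (x : A) :
    (r a ha x).val = Localization.mk (cc x) 1 := by
  rw [cc_eq]
  rfl

theorem cc_pow (x : A) (n : ℕ) : (cc x : reesAlgebra I) ^ n = cc (x ^ n) := by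
  rw [cc_eq, cc_eq, map_pow]

theorem cc_mul_mono (x : A) (n : ℕ) (c : A) (hc : c ∈ I ^ n) :
    (cc x : reesAlgebra I) * mono n c hc = mono n (x * c) (Ideal.mul_mem_left _ _ hc) := by
  apply Subtype.ext
  rw [Subalgebra.coe_mul, coe_mono, coe_mono]
  show monomial 0 x * monomial n c = _
  rw [monomial_mul_monomial, zero_add]

/-- elements of the chart ring are fractions `c Xⁿ / (a X)ⁿ` -/
theorem exists_mono (a : A) (ha : a ∈ I) (z : Ba a ha) :
    ∃ n : ℕ, ∃ c : A, ∃ hc : c ∈ I ^ n,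
      z.val = Localization.mk (mono n c hc) ⟨t a ha ^ n, (Submonoid.mem_powers_iff _ _).mpr ⟨n, rfl⟩⟩ := by
  obtain ⟨n, y, hy, rfl⟩ := Away.mk_surjective (𝒜 A I) (t_mem a ha) z
  have hy' : y ∈ 𝒜 A I n := by simpa using hy
  refine ⟨n, (y : A[X]).coeff n, coeff_mem n, ?_⟩
  rw [Away.val_mk, ← eq_mono hy']

theorem F1 (a : A) (ha : a ∈ I) (z : Ba a ha) :
    ∃ n : ℕ, ∃ c ∈ I ^ n, z * r a ha a ^ n = r a ha c := by
  obtain ⟨n, c, hc, hz⟩ := exists_mono a ha z
  refine ⟨n, c, hc, ?_⟩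
  apply val_injective
  rw [val_mul, val_pow, hz, val_r, val_r, Localization.mk_pow, Localization.mk_mul,
    Localization.mk_eq_mk_iff, Localization.r_iff_exists]
  refine ⟨1, ?_⟩
  simp only [OneMemClass.coe_one, one_mul, one_pow, mul_one]
  rw [cc_pow, t_pow, mul_comm (mono n c hc), cc_mul_mono, mul_comm (mono n (a ^ n) _), cc_mul_mono]
  apply Subtype.ext
  rw [coe_mono, coe_mono, mul_comm]

theorem F2 (a : A) (ha : a ∈ I) (x : A) (hx : r a ha x = 0) : ∃ k : ℕ, x * a ^ k = 0 := by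
  have h1 : (r a ha x).val = 0 := by rw [hx, val_zero]
  rw [val_r, ← Localization.mk_zero 1, Localization.mk_eq_mk_iff, Localization.r_iff_exists] at h1
  obtain ⟨⟨_, k, rfl⟩, hk⟩ := h1
  simp only [OneMemClass.coe_one, one_mul, mul_zero] at hk
  refine ⟨k, ?_⟩
  rw [t_pow, mul_comm, cc_mul_mono, mono_eq_zero_iff] at hk
  exact hk

/-- the fraction `c X / a X` -/
noncomputable def q (a : A) (ha : a ∈ I) (c : A) (hc : c ∈ I) : Ba a ha :=
  Away.mk (𝒜 A I) (t_mem a ha) 1 (t c hc) (by simpa using t_mem c hc)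

theorem F3 (a : A) (ha : a ∈ I) (c : A) (hc : c ∈ I) :
    r a ha c = q a ha c hc * r a ha a := by
  apply val_injective
  rw [val_mul, q, Away.val_mk, val_r, val_r, Localization.mk_mul,
    Localization.mk_eq_mk_iff, Localization.r_iff_exists]
  refine ⟨1, ?_⟩
  simp only [OneMemClass.coe_one, one_mul, mul_one, pow_one]
  rw [t, t, mul_comm, cc_mul_mono, mul_comm (mono 1 c _), cc_mul_mono]
  apply Subtype.ext
  rw [coe_mono, coe_mono, mul_comm]

theorem F4 (a : A) (ha : a ∈ I) : r a ha a ∈ nonZeroDivisors (Ba a ha) := by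
  refine (mem_nonZeroDivisors_iff_right (M₀ := Ba a ha)).mpr ?_
  intro z hz
  obtain ⟨n, c, hc, hzv⟩ := exists_mono a ha z
  have h1 : (z * r a ha a).val = 0 := by rw [hz, val_zero]
  rw [val_mul, hzv, val_r, Localization.mk_mul, ← Localization.mk_zero 1,
    Localization.mk_eq_mk_iff, Localization.r_iff_exists] at h1
  obtain ⟨⟨_, k, rfl⟩, hk⟩ := h1
  simp only [OneMemClass.coe_one, one_mul, mul_zero] at hk
  rw [t_pow, mul_comm (mono n c hc), cc_mul_mono, mono_mul, mono_eq_zero_iff] at hk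
  apply val_injective
  rw [val_zero, hzv, ← Localization.mk_zero 1, Localization.mk_eq_mk_iff,
    Localization.r_iff_exists]
  refine ⟨⟨t a ha ^ (k + 1), (Submonoid.mem_powers_iff _ _).mpr ⟨k + 1, rfl⟩⟩, ?_⟩
  simp only [OneMemClass.coe_one, one_mul, mul_zero]
  rw [t_pow, mono_mul, mono_eq_zero_iff, pow_succ, mul_assoc]
  rw [← hk]

theorem map_r (a : A) (ha : a ∈ I) : I.map (r a ha) = Ideal.span {r a ha a} := by
  apply le_antisymm
  · rw [Ideal.map_le_iff_le_comap]
    intro c hc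
    rw [Ideal.mem_comap, F3 a ha c hc]
    exact Ideal.mul_mem_left _ _ (Ideal.mem_span_singleton_self _)
  · rw [Ideal.span_singleton_le_iff_mem]
    exact Ideal.mem_map_of_mem _ ha

end Groth.Agent.Helper4.NApx37
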