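import Groth.Prelude.Def_Rees
import Groth.Prelude.Def_BlowUp2
import Groth.Prelude.Def_ega3
import Groth.Agent.Helper4.NApx37
import Groth.Agent.Helper4.NApx36
import Groth.Agent.Helper4.NApx35
import Groth.Agent.Helper4.NApx16
import Mathlib

set_option autoImplicit false
universe u

namespace Groth.Agent.Helper4.NApx38

open AlgebraicGeometry CategoryTheory Polynomial HomogeneousLocalization
open Groth.Agent.Helper4.NApx37 Groth.Agent.Helper4.NApx35 Groth.Agent.Helper4.NApx33

variable {A : Type u} [CommRing A] {I : Ideal A}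

variable (A I) in
/-- the structure morphism of `Proj` of the Rees algebra -/
noncomputable abbrev bb : Proj (𝒜 A I) ⟶ Spec (CommRingCat.of A) :=
  Proj (𝒜 A I) ↘ Spec (CommRingCat.of A)

/-- the chart -/
noncomputable abbrev j (a : A) (ha : a ∈ I) : Spec (CommRingCat.of (Ba a ha)) ⟶ Proj (𝒜 A I) :=
  Proj.awayι (𝒜 A I) (t a ha) (t_mem a ha) one_pos

theorem j_comp_bb (a : A) (ha : a ∈ I) :
    j a ha ≫ bb A I = Spec.map (CommRingCat.ofHom (r a ha)) := by
  show Proj.awayι (𝒜 A I) (t a ha) (t_mem a ha) one_pos ≫ (Proj.toSpecZero (𝒜 A I) ≫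
    Spec.map (CommRingCat.ofHom (algebraMap A (𝒜 A I 0)))) = _
  rw [← Category.assoc, Proj.awayι_toSpecZero, ← Spec.map_comp]
  rfl

theorem range_j (a : A) (ha : a ∈ I) :
    Set.range (j a ha) = (Proj.basicOpen (𝒜 A I) (t a ha) : Set (Proj (𝒜 A I))) := by
  have := Proj.opensRange_awayι (𝒜 A I) (t a ha) (t_mem a ha) one_pos
  exact congrArg (fun U : (Proj (𝒜 A I)).Opens => (U : Set (Proj (𝒜 A I)))) this

theorem j_preimage (a : A) (ha : a ∈ I) (c : A) (hc : c ∈ I) :
    j a ha ⁻¹ᵁ Proj.basicOpen (𝒜 A I) (t c hc) = PrimeSpectrum.basicOpen (q a ha c hc) := by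
  rw [Proj.awayι_preimage_basicOpen (𝒜 A I) (t_mem a ha) one_pos (t_mem c hc) one_pos]
  congr 1
  apply val_injective
  rw [q, Away.val_mk, Away.val_mk]
  congr 1
  exact pow_one _

/-- monomials of positive degree lie in the ideal generated by the `a X` -/
theorem mono_succ_mem (n : ℕ) : ∀ c ∈ I * I ^ n, c ∈ I ^ (n + 1) ∧ ∀ y : reesAlgebra I,
    (y : A[X]) = monomial (n + 1) c →
    y ∈ Ideal.span (Set.range (fun a : I => t (a : A) a.2)) := by
  intro c hc
  refine Submodule.mul_induction_on hc ?_ ?_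
  · intro a ha d hd
    refine ⟨by rw [pow_succ']; exact Ideal.mul_mem_mul ha hd, ?_⟩
    intro y hy
    have e : y = t a ha * mono n d hd := by
      apply Subtype.ext
      rw [hy, Subalgebra.coe_mul, coe_mono, t, coe_mono, monomial_mul_monomial, add_comm]
    rw [e]
    exact Ideal.mul_mem_right _ _ (Ideal.subset_span ⟨⟨a, ha⟩, rfl⟩)
  · rintro c c' ⟨hc1, hc2⟩ ⟨hc1', hc2'⟩
    refine ⟨Ideal.add_mem _ hc1 hc1', ?_⟩
    intro y hy
    have e : y = mono (n + 1) c hc1 + mono (n + 1) c' hc1' := by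
      apply Subtype.ext
      rw [hy, Subalgebra.coe_add, coe_mono, coe_mono, map_add]
    rw [e]
    exact Ideal.add_mem _ (hc2 _ rfl) (hc2' _ rfl)

theorem irrelevant_le :
    (HomogeneousIdeal.irrelevant (𝒜 A I)).toIdeal ≤
      Ideal.span (Set.range (fun a : I => t (a : A) a.2)) := by
  classical
  intro x hx
  rw [← DirectSum.sum_support_decompose (𝒜 A I) x]
  refine Ideal.sum_mem _ fun n _ => ?_
  rcases n with _ | n
  · have : ((DirectSum.decompose (𝒜 A I) x 0 : 𝒜 A I 0) : reesAlgebra I) = 0 := hx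
    rw [this]
    exact Ideal.zero_mem _
  · have hmem : ((DirectSum.decompose (𝒜 A I) x (n + 1) : 𝒜 A I (n + 1)) : reesAlgebra I) ∈
        𝒜 A I (n + 1) := SetLike.coe_mem _
    have e := eq_mono hmem
    set y : reesAlgebra I :=
      ((DirectSum.decompose (𝒜 A I) x (n + 1) : 𝒜 A I (n + 1)) : reesAlgebra I) with hy
    have hc : (y : A[X]).coeff (n + 1) ∈ I * I ^ n := by
      have := coeff_mem (I := I) (y := y) (n + 1)
      rwa [pow_succ'] at this
    exact (mono_succ_mem n _ hc).2 y (congrArg (fun z : reesAlgebra I => (z : A[X])) e)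

/-- the charts cover -/
theorem exists_chart (x : Proj (𝒜 A I)) : ∃ (a : A) (ha : a ∈ I), x ∈ Set.range (j a ha) := by
  have h := Proj.iSup_basicOpen_eq_top (𝒜 A I) (fun a : I => t (a : A) a.2) irrelevant_le
  have hx : x ∈ (⨆ a : I, Proj.basicOpen (𝒜 A I) (t (a : A) a.2)) := by
    rw [h]; trivial
  obtain ⟨a, ha⟩ := TopologicalSpace.Opens.mem_iSup.mp hx
  refine ⟨a.1, a.2, ?_⟩
  rw [range_j]
  exact ha

/-- the inverse image of `I` under a ring map for which it becomes principal with a nonzerodivisor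
generator is effective Cartier -/
theorem isEffCartier_comap_SpecMap {B : Type u} [CommRing B] (ρ' : A →+* B) (J : Ideal A) (e : B)
    (he : e ∈ nonZeroDivisors B) (hJ : J.map ρ' = Ideal.span {e}) :
    BlowUp.IsEffCartierIdeal
      ((Curv2.idealSheaf A J).comap (Spec.map (CommRingCat.ofHom ρ'))) := by
  intro x
  refine ⟨⟨⊤, isAffineOpen_top _⟩, trivial,
    (Scheme.ΓSpecIso (CommRingCat.of B)).inv.hom e, ?_, ?_⟩
  · refine (mem_nonZeroDivisors_iff_right (M₀ := Γ(Spec (CommRingCat.of B), ⊤))).mpr ?_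
    intro y hy
    have h1 : (Scheme.ΓSpecIso (CommRingCat.of B)).hom.hom y * e = 0 := by
      have := congrArg (Scheme.ΓSpecIso (CommRingCat.of B)).hom.hom hy
      rw [map_mul, map_zero] at this
      rw [← this]
      congr 1
      exact (congr($((Scheme.ΓSpecIso (CommRingCat.of B)).inv_hom_id).hom e)).symm
    have h2 := (mem_nonZeroDivisors_iff_right.mp he) _ h1
    have h3 := congrArg (Scheme.ΓSpecIso (CommRingCat.of B)).inv.hom h2
    rw [map_zero] at h3
    rw [← h3]
    exact (congr($((Scheme.ΓSpecIso (CommRingCat.of B)).hom_inv_id).hom y)).symm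
  · rw [ideal_comap_idealSheaf, ρ_top, RingHom.id_comp]
    have e' : φ (Spec.map (CommRingCat.ofHom ρ')) =
        (Scheme.ΓSpecIso (CommRingCat.of B)).inv.hom.comp ρ' := by
      have := φ_comp_SpecMap (𝟙 (Spec (CommRingCat.of B))) ρ'
      rw [Category.id_comp] at this
      rw [this]
      congr 1
    rw [e', ← Ideal.map_map, hJ, Ideal.map_span, Set.image_singleton]

/-- the inverse image of `I` on `Proj` of the Rees algebra is effective Cartier -/
theorem isEffCartier_comap_bb :
    BlowUp.IsEffCartierIdeal ((Curv2.idealSheaf A I).comap (bb A I)) := by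
  apply Groth.Agent.Helper4.NApx16.isEffCartierIdeal_of_cover
  intro x
  obtain ⟨a, ha, hx⟩ := exists_chart x
  refine ⟨_, j a ha, inferInstance, hx, ?_⟩
  rw [← Scheme.IdealSheafData.comap_comp, j_comp_bb]
  exact isEffCartier_comap_SpecMap (r a ha) I (r a ha a) (F4 a ha) (map_r a ha)

end Groth.Agent.Helper4.NApx38
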