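import Groth.Prelude.Def_Rees
import Groth.Prelude.Def_BlowUp2
import Groth.Prelude.Def_ega3
import Groth.Agent.Helper4.NApx38
import Mathlib

set_option autoImplicit false
universe u

namespace Groth.Agent.Helper4.NApx39

open AlgebraicGeometry CategoryTheory Polynomial HomogeneousLocalization
open Groth.Agent.Helper4.NApx37 Groth.Agent.Helper4.NApx35 Groth.Agent.Helper4.NApx33
open Groth.Agent.Helper4.NApx38 Groth.Agent.Helper4.NApx21

variable {A : Type u} [CommRing A] {I : Ideal A}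

theorem local_facts {T : Scheme.{u}} (gT : T ⟶ Spec (CommRingCat.of A)) (a : A)
    (hE : BlowUp.IsEffCartierIdeal ((Curv2.idealSheaf A I).comap gT))
    (heq : (Curv2.idealSheaf A I).comap gT = (Curv2.idealSheaf A (Ideal.span {a})).comap gT) :
    ∀ w : T, ∃ V : T.affineOpens, w ∈ V.1 ∧ ρ T V.1 (φ gT a) ∈ nonZeroDivisors Γ(T, V.1) ∧
      ∀ c ∈ I, ∃ s, s * ρ T V.1 (φ gT a) = ρ T V.1 (φ gT c) := by
  intro w
  obtain ⟨V, hwV, t, ht, hVt⟩ := hE w
  have hVt' := hVt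
  rw [heq] at hVt'
  rw [ideal_comap_idealSheaf] at hVt hVt'
  rw [Ideal.map_span, Set.image_singleton] at hVt'
  have h1 : t ∈ Ideal.span {((ρ T V.1).comp (φ gT)) a} := hVt' ▸ Ideal.mem_span_singleton_self t
  obtain ⟨u, hu⟩ := Ideal.mem_span_singleton'.mp h1
  refine ⟨V, hwV, ?_, ?_⟩
  · refine (mem_nonZeroDivisors_iff_right (M₀ := Γ(T, V.1))).mpr (fun s hs => ?_)
    apply (mem_nonZeroDivisors_iff_right.mp ht) s
    have hs' : s * ((ρ T V.1).comp (φ gT)) a = 0 := hs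
    rw [← hu, mul_left_comm, hs', mul_zero]
  · intro c hc
    have : ((ρ T V.1).comp (φ gT)) c ∈ Ideal.span {((ρ T V.1).comp (φ gT)) a} := by
      rw [hVt', ← hVt]; exact Ideal.mem_map_of_mem _ hc
    exact Ideal.mem_span_singleton'.mp this

theorem global_facts {T : Scheme.{u}} (gT : T ⟶ Spec (CommRingCat.of A)) (a : A)
    (hE : BlowUp.IsEffCartierIdeal ((Curv2.idealSheaf A I).comap gT))
    (heq : (Curv2.idealSheaf A I).comap gT = (Curv2.idealSheaf A (Ideal.span {a})).comap gT) :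
    φ gT a ∈ nonZeroDivisors Γ(T, ⊤) ∧ I.map (φ gT) ≤ Ideal.span {φ gT a} := by
  have hloc := local_facts gT a hE heq
  constructor
  · refine (mem_nonZeroDivisors_iff_right (M₀ := Γ(T, ⊤))).mpr ?_
    exact eq_zero_of_mul_eq_zero _ (fun w => by
      obtain ⟨V, h1, h2, -⟩ := hloc w
      exact ⟨V, h1, h2⟩)
  · rw [Ideal.map_le_iff_le_comap]
    intro c hc
    rw [Ideal.mem_comap]
    obtain ⟨s, hs⟩ := exists_quotient (φ gT a) (φ gT c) (fun w => by
      obtain ⟨V, h1, h2, h3⟩ := hloc w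
      exact ⟨V, h1, h2, h3 c hc⟩)
    exact Ideal.mem_span_singleton'.mpr ⟨s, hs⟩

/-- unique lifting to the chart -/
theorem existsUnique_chart_lift {T : Scheme.{u}} (gT : T ⟶ Spec (CommRingCat.of A)) (a : A)
    (ha : a ∈ I) (hE : BlowUp.IsEffCartierIdeal ((Curv2.idealSheaf A I).comap gT))
    (heq : (Curv2.idealSheaf A I).comap gT = (Curv2.idealSheaf A (Ideal.span {a})).comap gT) :
    ∃! k : T ⟶ Spec (CommRingCat.of (Ba a ha)),
      k ≫ Spec.map (CommRingCat.ofHom (r a ha)) = gT := by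
  obtain ⟨h1, h2⟩ := global_facts gT a hE heq
  obtain ⟨ψ, hψ, hψu⟩ := Groth.Agent.Helper4.NApx36.existsUnique_lift (r a ha) I a (F1 a ha)
    (F2 a ha) ha (φ gT) h1 h2
  refine ⟨T.toSpecΓ ≫ Spec.map (CommRingCat.ofHom ψ), ?_, ?_⟩
  · show (T.toSpecΓ ≫ Spec.map (CommRingCat.ofHom ψ)) ≫
      Spec.map (CommRingCat.ofHom (r a ha)) = gT
    rw [Category.assoc, ← Spec.map_comp, ← CommRingCat.ofHom_comp, hψ]
    exact (eq_toSpecΓ_comp gT).symm
  · intro k' hk'
    have hk'' : k' ≫ Spec.map (CommRingCat.ofHom (r a ha)) = gT := hk'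
    have e1 : (φ k').comp (r a ha) = φ gT := by
      rw [← φ_comp_SpecMap, hk'']
    have e2 : φ k' = ψ := hψu _ e1
    rw [eq_toSpecΓ_comp k', e2]

/-- an open on which two ideal sheaves agree lies in the locus of agreement -/
theorem le_eqLocus_of_comap_eq {Y : Scheme.{u}} (J K : Y.IdealSheafData) (N : Y.Opens)
    (h : J.comap N.ι = K.comap N.ι) : N ≤ eqLocus J K := by
  intro y hy
  obtain ⟨_, ⟨B, hB, rfl⟩, hyB, hBle⟩ :=
    Y.isBasis_affineOpens.exists_subset_of_mem_open hy N.isOpen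
  have hBN : B ≤ N := hBle
  refine le_eqLocus J K ⟨B, hB⟩ ?_ hyB
  have haff : IsAffineOpen (N.ι ⁻¹ᵁ B) := by
    rw [← N.ι.isAffineOpen_iff_of_isOpenImmersion, Scheme.Hom.image_preimage_eq_opensRange_inf,
      Scheme.Opens.opensRange_ι, inf_eq_right.mpr hBN]
    exact hB
  have e1 := Groth.Agent.Helper9.IdealComap.ideal_comap N.ι J ⟨B, hB⟩ ⟨N.ι ⁻¹ᵁ B, haff⟩ le_rfl
  have e2 := Groth.Agent.Helper9.IdealComap.ideal_comap N.ι K ⟨B, hB⟩ ⟨N.ι ⁻¹ᵁ B, haff⟩ le_rfl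
  rw [h] at e1
  have e3 := e1.symm.trans e2
  have hiso : IsIso (N.ι.app B) := by
    apply Scheme.Hom.isIso_app
    rw [Scheme.Opens.opensRange_ι]
    exact hBN
  have hbij : Function.Bijective (N.ι.appLE B (N.ι ⁻¹ᵁ B) le_rfl).hom := by
    rw [← Scheme.Hom.app_eq_appLE]
    exact ConcreteCategory.bijective_of_isIso (N.ι.app B)
  rw [← Ideal.comap_map_of_bijective _ hbij (I := J.ideal ⟨B, hB⟩),
    ← Ideal.comap_map_of_bijective _ hbij (I := K.ideal ⟨B, hB⟩)]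
  exact congrArg _ e3

theorem comap_eq_of_le_eqLocus {Y : Scheme.{u}} (J K : Y.IdealSheafData) (N : Y.Opens)
    (h : N ≤ eqLocus J K) : J.comap N.ι = K.comap N.ι := by
  have e : N.ι = Y.homOfLE h ≫ (eqLocus J K).ι := (Scheme.homOfLE_ι Y h).symm
  rw [e, Scheme.IdealSheafData.comap_comp, Scheme.IdealSheafData.comap_comp, comap_eqLocus_ι]

end Groth.Agent.Helper4.NApx39
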