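import Groth.Prelude.Def_Rees
import Groth.Prelude.Def_BlowUp2
import Groth.Prelude.Def_ega3
import Groth.Agent.Helper4.NApx39
import Mathlib

set_option autoImplicit false
universe u

namespace Groth.Agent.Helper4.NApx40

open AlgebraicGeometry CategoryTheory Polynomial HomogeneousLocalization Limits
open Groth.Agent.Helper4.NApx37 Groth.Agent.Helper4.NApx35 Groth.Agent.Helper4.NApx33
open Groth.Agent.Helper4.NApx38 Groth.Agent.Helper4.NApx21 Groth.Agent.Helper4.NApx39

variable {A : Type u} [CommRing A] {I : Ideal A}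

theorem φ_SpecMap {B : Type u} [CommRing B] (ρ' : A →+* B) :
    φ (Spec.map (CommRingCat.ofHom ρ')) =
      (Scheme.ΓSpecIso (CommRingCat.of B)).inv.hom.comp ρ' := by
  have := φ_comp_SpecMap (𝟙 (Spec (CommRingCat.of B))) ρ'
  rw [Category.id_comp] at this
  rw [this]
  congr 1

/-- on the chart `D₊(a X)` the inverse image of `I` is generated by `a` -/
theorem chart_eq (a : A) (ha : a ∈ I) :
    (Curv2.idealSheaf A I).comap (Spec.map (CommRingCat.ofHom (r a ha))) =
      (Curv2.idealSheaf A (Ideal.span {a})).comap (Spec.map (CommRingCat.ofHom (r a ha))) := by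
  apply Scheme.IdealSheafData.ext_of_isAffine
  rw [ideal_comap_idealSheaf, ideal_comap_idealSheaf, ρ_top, RingHom.id_comp, φ_SpecMap,
    ← Ideal.map_map, ← Ideal.map_map, map_r]
  simp only [Ideal.map_span, Set.image_singleton]

/-- the preimage of a chart lies in the locus where `a` generates -/
theorem preimage_le_eqLocus {Y : Scheme.{u}} (h : Y ⟶ Proj (𝒜 A I)) (a : A) (ha : a ∈ I) :
    h ⁻¹ᵁ Proj.basicOpen (𝒜 A I) (t a ha) ≤
      eqLocus ((Curv2.idealSheaf A I).comap (h ≫ bb A I))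
        ((Curv2.idealSheaf A (Ideal.span {a})).comap (h ≫ bb A I)) := by
  set N := h ⁻¹ᵁ Proj.basicOpen (𝒜 A I) (t a ha) with hN
  apply le_eqLocus_of_comap_eq
  have hrange : Set.range (N.ι ≫ h) ⊆ Set.range (j a ha) := by
    rw [range_j]
    rintro _ ⟨z, rfl⟩
    exact z.2
  let k := IsOpenImmersion.lift (j a ha) (N.ι ≫ h) hrange
  have hk : k ≫ j a ha = N.ι ≫ h := IsOpenImmersion.lift_fac _ _ _
  have e : N.ι ≫ h ≫ bb A I = k ≫ Spec.map (CommRingCat.ofHom (r a ha)) := by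
    calc N.ι ≫ h ≫ bb A I = (N.ι ≫ h) ≫ bb A I := (Category.assoc _ _ _).symm
      _ = (k ≫ j a ha) ≫ bb A I := by rw [hk]
      _ = k ≫ Spec.map (CommRingCat.ofHom (r a ha)) := by rw [Category.assoc, j_comp_bb]
  rw [← Scheme.IdealSheafData.comap_comp, ← Scheme.IdealSheafData.comap_comp, e,
    Scheme.IdealSheafData.comap_comp, Scheme.IdealSheafData.comap_comp, chart_eq]

/-- the locus where `a` generates lies in the preimage of the chart -/
theorem eqLocus_le_preimage {Y : Scheme.{u}} (h : Y ⟶ Proj (𝒜 A I))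
    (g : Y ⟶ Spec (CommRingCat.of A)) (hg : h ≫ bb A I = g)
    (hE : BlowUp.IsEffCartierIdeal ((Curv2.idealSheaf A I).comap g))
    (a : A) (ha : a ∈ I) :
    eqLocus ((Curv2.idealSheaf A I).comap g)
        ((Curv2.idealSheaf A (Ideal.span {a})).comap g) ≤
      h ⁻¹ᵁ Proj.basicOpen (𝒜 A I) (t a ha) := by
  intro y hy
  obtain ⟨a', ha', hy'⟩ := exists_chart (h y)
  rw [range_j] at hy'
  set N := eqLocus ((Curv2.idealSheaf A I).comap g)
    ((Curv2.idealSheaf A (Ideal.span {a})).comap g) ⊓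
    h ⁻¹ᵁ Proj.basicOpen (𝒜 A I) (t a' ha') with hN
  have hyN : y ∈ N := ⟨hy, hy'⟩
  set gN := N.ι ≫ g with hgN
  have hE_N : BlowUp.IsEffCartierIdeal ((Curv2.idealSheaf A I).comap gN) := by
    rw [hgN, Scheme.IdealSheafData.comap_comp]
    exact Groth.Agent.Helper4.NApx19.isEffCartierIdeal_comap_ι _ hE N
  have heq_a : (Curv2.idealSheaf A I).comap gN =
      (Curv2.idealSheaf A (Ideal.span {a})).comap gN := by
    rw [hgN, Scheme.IdealSheafData.comap_comp, Scheme.IdealSheafData.comap_comp]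
    exact comap_eq_of_le_eqLocus _ _ N inf_le_left
  obtain ⟨h1, h2⟩ := global_facts gN a hE_N heq_a
  have h3 : φ gN a' ∈ Ideal.span {φ gN a} := h2 (Ideal.mem_map_of_mem _ ha')
  obtain ⟨s, hs⟩ := Ideal.mem_span_singleton'.mp h3
  have hrange : Set.range (N.ι ≫ h) ⊆ Set.range (j a' ha') := by
    rw [range_j]
    rintro _ ⟨z, rfl⟩
    exact z.2.2
  let k := IsOpenImmersion.lift (j a' ha') (N.ι ≫ h) hrange
  have hk : k ≫ j a' ha' = N.ι ≫ h := IsOpenImmersion.lift_fac _ _ _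
  have e : k ≫ Spec.map (CommRingCat.ofHom (r a' ha')) = gN := by
    calc k ≫ Spec.map (CommRingCat.ofHom (r a' ha')) = (k ≫ j a' ha') ≫ bb A I := by
          rw [Category.assoc, j_comp_bb]
      _ = (N.ι ≫ h) ≫ bb A I := by rw [hk]
      _ = gN := by rw [Category.assoc, hg]
  have hχ : (φ k).comp (r a' ha') = φ gN := by rw [← φ_comp_SpecMap, e]
  have e1 : φ gN a = φ k (q a' ha' a ha) * φ gN a' := by
    rw [← hχ, RingHom.comp_apply, RingHom.comp_apply, F3 a' ha' a ha, map_mul]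
  have e2 : (φ k (q a' ha' a ha) * s - 1) * φ gN a = 0 := by
    rw [sub_mul, one_mul, mul_assoc, hs, ← e1, sub_self]
  have e3 : φ k (q a' ha' a ha) * s = 1 :=
    sub_eq_zero.mp ((mem_nonZeroDivisors_iff_right.mp h1) _ e2)
  have hunit : IsUnit (φ k (q a' ha' a ha)) := IsUnit.of_mul_eq_one _ e3
  have hpre' : k ⁻¹ᵁ ((Spec (CommRingCat.of (Ba a' ha'))).basicOpen
      ((Scheme.ΓSpecIso (CommRingCat.of (Ba a' ha'))).inv.hom (q a' ha' a ha))) = ⊤ := by
    rw [Scheme.preimage_basicOpen_top]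
    exact Scheme.basicOpen_of_isUnit _ hunit
  have hpre : k ⁻¹ᵁ PrimeSpectrum.basicOpen (q a' ha' a ha) = ⊤ := by
    rw [← hpre']
    congr 1
    exact (basicOpen_eq_of_affine (R := CommRingCat.of (Ba a' ha')) (q a' ha' a ha)).symm
  have hky : k ⟨y, hyN⟩ ∈ PrimeSpectrum.basicOpen (q a' ha' a ha) := by
    have : (⟨y, hyN⟩ : N) ∈ k ⁻¹ᵁ PrimeSpectrum.basicOpen (q a' ha' a ha) := by
      rw [hpre]; trivial
    exact this
  rw [← j_preimage a' ha' a ha] at hky
  have hjk : j a' ha' (k ⟨y, hyN⟩) = h y := by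
    show (k ≫ j a' ha') ⟨y, hyN⟩ = h y
    rw [hk]
    rfl
  have : j a' ha' (k ⟨y, hyN⟩) ∈ Proj.basicOpen (𝒜 A I) (t a ha) := hky
  rw [hjk] at this
  exact this

end Groth.Agent.Helper4.NApx40
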