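import Groth.Prelude.Def_Rees
import Groth.Prelude.Def_BlowUp2
import Groth.Prelude.Def_ega3
import Groth.Agent.Helper4.NApx40
import Mathlib

set_option autoImplicit false
universe u

namespace Groth.Agent.Helper4.NApx41

open AlgebraicGeometry CategoryTheory Polynomial HomogeneousLocalization Limits
open Groth.Agent.Helper4.NApx37 Groth.Agent.Helper4.NApx35 Groth.Agent.Helper4.NApx33
open Groth.Agent.Helper4.NApx38 Groth.Agent.Helper4.NApx21 Groth.Agent.Helper4.NApx39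
open Groth.Agent.Helper4.NApx40

variable {A : Type u} [CommRing A] {I : Ideal A}

/-- the locus where `a` generates the inverse image of `I` -/
noncomputable abbrev YY {Y : Scheme.{u}} (g : Y ⟶ Spec (CommRingCat.of A)) (a : A) : Y.Opens :=
  eqLocus ((Curv2.idealSheaf A I).comap g) ((Curv2.idealSheaf A (Ideal.span {a})).comap g)

theorem preimage_eq {Y : Scheme.{u}} (h : Y ⟶ Proj (𝒜 A I))
    (g : Y ⟶ Spec (CommRingCat.of A)) (hg : h ≫ bb A I = g)
    (hE : BlowUp.IsEffCartierIdeal ((Curv2.idealSheaf A I).comap g)) (a : A) (ha : a ∈ I) :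
    h ⁻¹ᵁ Proj.basicOpen (𝒜 A I) (t a ha) = YY (I := I) g a := by
  apply le_antisymm
  · have := preimage_le_eqLocus h a ha
    rw [hg] at this
    exact this
  · exact eqLocus_le_preimage h g hg hE a ha

theorem lift_unique {Y : Scheme.{u}} (g : Y ⟶ Spec (CommRingCat.of A))
    (hE : BlowUp.IsEffCartierIdeal ((Curv2.idealSheaf A I).comap g))
    (h₁ h₂ : Y ⟶ Proj (𝒜 A I)) (e₁ : h₁ ≫ bb A I = g) (e₂ : h₂ ≫ bb A I = g) : h₁ = h₂ := by
  have hcov : TopologicalSpace.IsOpenCover (fun a : I => YY (I := I) g (a : A)) := by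
    refine TopologicalSpace.IsOpenCover.mk (eq_top_iff.mpr ?_)
    intro y _
    obtain ⟨a, ha, hy⟩ := exists_chart (h₁ y)
    rw [range_j] at hy
    refine TopologicalSpace.Opens.mem_iSup.mpr ⟨⟨a, ha⟩, ?_⟩
    rw [← preimage_eq h₁ g e₁ hE a ha]
    exact hy
  apply (Y.openCoverOfIsOpenCover _ hcov).hom_ext
  rintro ⟨a, ha⟩
  show (YY (I := I) g a).ι ≫ h₁ = (YY (I := I) g a).ι ≫ h₂
  set N := YY (I := I) g a with hN
  have hr₁ : Set.range (N.ι ≫ h₁) ⊆ Set.range (j a ha) := by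
    rw [range_j]
    rintro _ ⟨z, rfl⟩
    have hz : N.ι z ∈ h₁ ⁻¹ᵁ Proj.basicOpen (𝒜 A I) (t a ha) := by
      rw [preimage_eq h₁ g e₁ hE a ha]; exact z.2
    exact hz
  have hr₂ : Set.range (N.ι ≫ h₂) ⊆ Set.range (j a ha) := by
    rw [range_j]
    rintro _ ⟨z, rfl⟩
    have hz : N.ι z ∈ h₂ ⁻¹ᵁ Proj.basicOpen (𝒜 A I) (t a ha) := by
      rw [preimage_eq h₂ g e₂ hE a ha]; exact z.2
    exact hz
  let k₁ := IsOpenImmersion.lift (j a ha) (N.ι ≫ h₁) hr₁
  let k₂ := IsOpenImmersion.lift (j a ha) (N.ι ≫ h₂) hr₂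
  have hk₁ : k₁ ≫ j a ha = N.ι ≫ h₁ := IsOpenImmersion.lift_fac _ _ _
  have hk₂ : k₂ ≫ j a ha = N.ι ≫ h₂ := IsOpenImmersion.lift_fac _ _ _
  have c₁ : k₁ ≫ Spec.map (CommRingCat.ofHom (r a ha)) = N.ι ≫ g := by
    calc k₁ ≫ Spec.map (CommRingCat.ofHom (r a ha)) = (k₁ ≫ j a ha) ≫ bb A I := by
          rw [Category.assoc, j_comp_bb]
      _ = (N.ι ≫ h₁) ≫ bb A I := by rw [hk₁]
      _ = N.ι ≫ g := by rw [Category.assoc, e₁]
  have c₂ : k₂ ≫ Spec.map (CommRingCat.ofHom (r a ha)) = N.ι ≫ g := by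
    calc k₂ ≫ Spec.map (CommRingCat.ofHom (r a ha)) = (k₂ ≫ j a ha) ≫ bb A I := by
          rw [Category.assoc, j_comp_bb]
      _ = (N.ι ≫ h₂) ≫ bb A I := by rw [hk₂]
      _ = N.ι ≫ g := by rw [Category.assoc, e₂]
  have hE_N : BlowUp.IsEffCartierIdeal ((Curv2.idealSheaf A I).comap (N.ι ≫ g)) := by
    rw [Scheme.IdealSheafData.comap_comp]
    exact Groth.Agent.Helper4.NApx19.isEffCartierIdeal_comap_ι _ hE N
  have heq : (Curv2.idealSheaf A I).comap (N.ι ≫ g) =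
      (Curv2.idealSheaf A (Ideal.span {a})).comap (N.ι ≫ g) := by
    rw [Scheme.IdealSheafData.comap_comp, Scheme.IdealSheafData.comap_comp]
    exact comap_eqLocus_ι _ _
  have hkk : k₁ = k₂ := (existsUnique_chart_lift (N.ι ≫ g) a ha hE_N heq).unique c₁ c₂
  rw [← hk₁, ← hk₂, hkk]

/-- local algebra: a principal ideal with nonzerodivisor generator spanned by a family is, near a
prime, generated by a member of the family -/
theorem exists_generator {R : Type u} [CommRing R] (φ' : A →+* R) (t : R)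
    (ht : t ∈ nonZeroDivisors R) (hI : I.map φ' = Ideal.span {t}) (𝔭 : Ideal R) [𝔭.IsPrime] :
    ∃ a ∈ I, ∃ u : R, u ∉ 𝔭 ∧ φ' a = u * t := by
  by_contra hcon
  push Not at hcon
  have hle : I.map φ' ≤ 𝔭 * Ideal.span {t} := by
    rw [Ideal.map_le_iff_le_comap]
    intro a ha
    rw [Ideal.mem_comap]
    have : φ' a ∈ Ideal.span {t} := hI ▸ Ideal.mem_map_of_mem _ ha
    obtain ⟨u, hu⟩ := Ideal.mem_span_singleton'.mp this
    have hu𝔭 : u ∈ 𝔭 := by
      by_contra h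
      exact hcon a ha u h hu.symm
    exact Ideal.mem_mul_span_singleton.mpr ⟨u, hu𝔭, hu⟩
  have htm : t ∈ 𝔭 * Ideal.span {t} := hle (hI ▸ Ideal.mem_span_singleton_self t)
  obtain ⟨p, hp, hpt⟩ := Ideal.mem_mul_span_singleton.mp htm
  have h0 : (p - 1) * t = 0 := by rw [sub_mul, hpt, one_mul, sub_self]
  have h1 : p - 1 = 0 := (mem_nonZeroDivisors_iff_right.mp ht) _ h0
  have h2 : p = 1 := sub_eq_zero.mp h1
  exact (Ideal.IsPrime.ne_top inferInstance) ((Ideal.eq_top_iff_one 𝔭).mpr (h2 ▸ hp))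

theorem ρ_res {W : Scheme.{u}} (V V' : W.Opens) (e : V' ≤ V) (x : Γ(W, ⊤)) :
    (W.presheaf.map (homOfLE e).op).hom (ρ W V x) = ρ W V' x := by
  rw [← RingHom.comp_apply, ← CommRingCat.hom_comp, ← W.presheaf.map_comp]
  rfl

/-- the loci `YY g a`, `a ∈ I`, cover -/
theorem exists_mem_YY {Y : Scheme.{u}} (g : Y ⟶ Spec (CommRingCat.of A))
    (hE : BlowUp.IsEffCartierIdeal ((Curv2.idealSheaf A I).comap g)) (y : Y) :
    ∃ a ∈ I, y ∈ YY (I := I) g a := by
  obtain ⟨V, hyV, t, ht, hVt⟩ := hE y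
  have hVt' := hVt
  rw [ideal_comap_idealSheaf] at hVt'
  let 𝔭 : Ideal Γ(Y, V.1) :=
    (IsLocalRing.maximalIdeal (Y.presheaf.stalk y)).comap (Y.presheaf.germ V.1 y hyV).hom
  haveI : 𝔭.IsPrime := Ideal.comap_isPrime _ _
  obtain ⟨a, ha, u, hu, hau⟩ := exists_generator ((ρ Y V.1).comp (φ g)) t ht hVt' 𝔭
  refine ⟨a, ha, ?_⟩
  have hyu : y ∈ Y.basicOpen u := by
    rw [Scheme.mem_basicOpen _ _ _ hyV]
    exact IsLocalRing.notMem_maximalIdeal.mp hu
  refine le_eqLocus _ _ (Y.affineBasicOpen u) ?_ hyu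
  have e : (Y.affineBasicOpen u).1 ≤ V.1 := Y.basicOpen_le u
  rw [ideal_res _ V (Y.affineBasicOpen u) e t hVt, ideal_comap_idealSheaf, Ideal.map_span,
    Set.image_singleton]
  have h1 : ((ρ Y (Y.affineBasicOpen u).1).comp (φ g)) a =
      (Y.presheaf.map (homOfLE e).op).hom u * (Y.presheaf.map (homOfLE e).op).hom t := by
    rw [← map_mul, ← hau]
    exact (ρ_res V.1 (Y.affineBasicOpen u).1 e (φ g a)).symm
  rw [h1]
  have hunit : IsUnit ((Y.presheaf.map (homOfLE e).op).hom u) :=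
    RingedSpace.isUnit_res_basicOpen _ u
  exact (Ideal.span_singleton_mul_left_unit hunit _).symm

theorem lift_exists {Y : Scheme.{u}} (g : Y ⟶ Spec (CommRingCat.of A))
    (hE : BlowUp.IsEffCartierIdeal ((Curv2.idealSheaf A I).comap g)) :
    ∃ h : Y ⟶ Proj (𝒜 A I), h ≫ bb A I = g := by
  have hcov : TopologicalSpace.IsOpenCover (fun a : I => YY (I := I) g (a : A)) := by
    refine TopologicalSpace.IsOpenCover.mk (eq_top_iff.mpr ?_)
    intro y _
    obtain ⟨a, ha, hy⟩ := exists_mem_YY g hE y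
    exact TopologicalSpace.Opens.mem_iSup.mpr ⟨⟨a, ha⟩, hy⟩
  let 𝒰 := Y.openCoverOfIsOpenCover _ hcov
  have hk : ∀ a : I, ∃ k : (YY (I := I) g (a : A)).toScheme ⟶ Spec (CommRingCat.of (Ba a.1 a.2)),
      k ≫ Spec.map (CommRingCat.ofHom (r a.1 a.2)) = (YY (I := I) g (a : A)).ι ≫ g := by
    intro a
    have hE_N : BlowUp.IsEffCartierIdeal
        ((Curv2.idealSheaf A I).comap ((YY (I := I) g (a : A)).ι ≫ g)) := by
      rw [Scheme.IdealSheafData.comap_comp]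
      exact Groth.Agent.Helper4.NApx19.isEffCartierIdeal_comap_ι _ hE _
    have heq : (Curv2.idealSheaf A I).comap ((YY (I := I) g (a : A)).ι ≫ g) =
        (Curv2.idealSheaf A (Ideal.span {(a : A)})).comap ((YY (I := I) g (a : A)).ι ≫ g) := by
      rw [Scheme.IdealSheafData.comap_comp, Scheme.IdealSheafData.comap_comp]
      exact comap_eqLocus_ι _ _
    exact (existsUnique_chart_lift _ a.1 a.2 hE_N heq).exists
  choose k hk using hk
  let hloc : ∀ a : 𝒰.I₀, 𝒰.X a ⟶ Proj (𝒜 A I) := fun a => k a ≫ j a.1 a.2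
  have hloc_b : ∀ a : 𝒰.I₀, hloc a ≫ bb A I = 𝒰.f a ≫ g := by
    intro a
    show (k a ≫ j a.1 a.2) ≫ bb A I = _
    rw [Category.assoc, j_comp_bb, hk a]
    rfl
  have hcompat : ∀ a a' : 𝒰.I₀, pullback.fst (𝒰.f a) (𝒰.f a') ≫ hloc a =
      pullback.snd (𝒰.f a) (𝒰.f a') ≫ hloc a' := by
    intro a a'
    have hE' : BlowUp.IsEffCartierIdeal ((Curv2.idealSheaf A I).comap
        ((pullback.fst (𝒰.f a) (𝒰.f a') ≫ 𝒰.f a) ≫ g)) := by
      rw [Scheme.IdealSheafData.comap_comp]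
      exact Groth.Agent.Helper4.NApx19.isEffCartierIdeal_comap_of_flat _ hE _
    apply lift_unique ((pullback.fst (𝒰.f a) (𝒰.f a') ≫ 𝒰.f a) ≫ g) hE'
    · rw [Category.assoc, hloc_b, Category.assoc]
    · rw [Category.assoc, hloc_b, pullback.condition, Category.assoc]
  refine ⟨𝒰.glueMorphisms hloc hcompat, ?_⟩
  apply 𝒰.hom_ext
  intro a
  rw [← Category.assoc, 𝒰.ι_glueMorphisms, hloc_b]

/-- `Proj` of the Rees algebra is the blowing up -/
theorem isBlowUp_proj : BlowUp.IsBlowUp (bb A I) (Curv2.idealSheaf A I) := by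
  refine ⟨isEffCartier_comap_bb, fun Y g hg => ?_⟩
  obtain ⟨h, hh⟩ := lift_exists g hg
  exact ⟨h, hh, fun h' hh' => lift_unique g hg h' h hh' hh⟩

end Groth.Agent.Helper4.NApx41
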