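import Groth.Prelude.Def_Rees
import Groth.Prelude.Def_BlowUp2
import Groth.Prelude.Def_ega3
import Groth.Agent.Helper4.NApx41
import Mathlib

set_option autoImplicit false
universe u

namespace Groth.Agent.Helper4.NApx42

open AlgebraicGeometry CategoryTheory Limits
open Groth.Agent.Helper4.NApx35 Groth.Agent.Helper4.NApx33

/-- transport of a blow-up along an isomorphism of the target -/
theorem isBlowUp_comp_iso {X₁ X₂ B : Scheme.{u}} (𝓘₁ : X₁.IdealSheafData) (b : B ⟶ X₁)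
    (hb : BlowUp.IsBlowUp b 𝓘₁) (e : X₁ ≅ X₂) :
    BlowUp.IsBlowUp (b ≫ e.hom) (𝓘₁.comap e.inv) := by
  constructor
  · rw [← Scheme.IdealSheafData.comap_comp, Category.assoc, Iso.hom_inv_id, Category.comp_id]
    exact hb.1
  · intro Y g hg
    rw [← Scheme.IdealSheafData.comap_comp] at hg
    obtain ⟨h, hh, hu⟩ := hb.2 Y (g ≫ e.inv) hg
    refine ⟨h, ?_, ?_⟩
    · show h ≫ b ≫ e.hom = g
      rw [← Category.assoc, hh, Category.assoc, Iso.inv_hom_id, Category.comp_id]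
    · intro h' hh'
      apply hu
      show h' ≫ b = g ≫ e.inv
      have hh'' : h' ≫ b ≫ e.hom = g := hh'
      rw [← hh'', Category.assoc, Category.assoc, Iso.hom_inv_id, Category.comp_id]

/-- an ideal sheaf on an affine scheme is the inverse image of the ideal sheaf of its global
sections -/
theorem eq_comap_toSpecΓ {Z : Scheme.{u}} [IsAffine Z] (𝓙 : Z.IdealSheafData) :
    𝓙 = (Curv2.idealSheaf Γ(Z, ⊤) (𝓙.ideal ⟨⊤, isAffineOpen_top Z⟩)).comap Z.toSpecΓ := by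
  apply Scheme.IdealSheafData.ext_of_isAffine
  rw [ideal_comap_idealSheaf, ρ_top, RingHom.id_comp]
  have e : φ (A := Γ(Z, ⊤)) Z.toSpecΓ = RingHom.id _ := by
    have h1 : CommRingCat.ofHom (φ (A := Γ(Z, ⊤)) Z.toSpecΓ) = 𝟙 _ := by
      rw [ofHom_φ, Scheme.toSpecΓ_appTop]
      exact (Scheme.ΓSpecIso Γ(Z, ⊤)).inv_hom_id
    exact congrArg CommRingCat.Hom.hom h1
  rw [e, Ideal.map_id]

/-- blow-ups exist on affine schemes -/
theorem exists_isBlowUp_of_isAffine {Z : Scheme.{u}} [IsAffine Z] (𝓙 : Z.IdealSheafData) :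
    ∃ (B : Scheme.{u}) (b : B ⟶ Z), BlowUp.IsBlowUp b 𝓙 := by
  obtain ⟨J, hJ⟩ : ∃ J : Ideal Γ(Z, ⊤), J = 𝓙.ideal ⟨⊤, isAffineOpen_top Z⟩ := ⟨_, rfl⟩
  have e : 𝓙 = (Curv2.idealSheaf Γ(Z, ⊤) J).comap Z.toSpecΓ := by
    rw [hJ]; exact eq_comap_toSpecΓ 𝓙
  have h := Groth.Agent.Helper4.NApx41.isBlowUp_proj (A := Γ(Z, ⊤)) (I := J)
  have h2 := isBlowUp_comp_iso _ _ h Z.isoSpec.symm
  refine ⟨_, Groth.Agent.Helper4.NApx38.bb Γ(Z, ⊤) J ≫ Z.isoSpec.symm.hom, ?_⟩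
  rw [e]
  exact h2

end Groth.Agent.Helper4.NApx42
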