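import Groth.Prelude.Def_Rees
import Groth.Prelude.Def_BlowUp2
import Groth.Prelude.Def_ega3
import Groth.Agent.Helper4.NApx42
import Mathlib

set_option autoImplicit false
universe u

namespace Groth.Agent.Helper4.NApx43

open AlgebraicGeometry CategoryTheory Limits

/-- a blow-up of an open part of `X`, as a scheme over `X` -/
structure LocalBlowUp {X : Scheme.{u}} (𝓘 : X.IdealSheafData) (U : X.Opens) where
  B : Scheme.{u}
  β : B ⟶ X
  range_le : Set.range β ⊆ (U : Set X)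
  effCartier : BlowUp.IsEffCartierIdeal (𝓘.comap β)
  lift : ∀ {Y : Scheme.{u}} (g : Y ⟶ X), Set.range g ⊆ (U : Set X) →
    BlowUp.IsEffCartierIdeal (𝓘.comap g) → ∃! h : Y ⟶ B, h ≫ β = g

namespace LocalBlowUp

variable {X : Scheme.{u}} {𝓘 : X.IdealSheafData} {U : X.Opens} (L : LocalBlowUp 𝓘 U)

noncomputable def desc {Y : Scheme.{u}} (g : Y ⟶ X) (hr : Set.range g ⊆ (U : Set X))
    (hE : BlowUp.IsEffCartierIdeal (𝓘.comap g)) : Y ⟶ L.B :=
  (L.lift g hr hE).exists.choose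

theorem desc_fac {Y : Scheme.{u}} (g : Y ⟶ X) (hr : Set.range g ⊆ (U : Set X))
    (hE : BlowUp.IsEffCartierIdeal (𝓘.comap g)) : L.desc g hr hE ≫ L.β = g :=
  (L.lift g hr hE).exists.choose_spec

theorem range_comp_le {Y : Scheme.{u}} (h : Y ⟶ L.B) : Set.range (h ≫ L.β) ⊆ (U : Set X) := by
  rintro _ ⟨y, rfl⟩
  exact L.range_le ⟨h y, rfl⟩

theorem hom_ext {Y : Scheme.{u}} (h₁ h₂ : Y ⟶ L.B) (e : h₁ ≫ L.β = h₂ ≫ L.β)
    (hE : BlowUp.IsEffCartierIdeal (𝓘.comap (h₂ ≫ L.β))) : h₁ = h₂ :=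
  (L.lift (h₂ ≫ L.β) (L.range_comp_le h₂) hE).unique e rfl

/-- a blow-up of the open subscheme gives a local blow-up -/
noncomputable def ofIsBlowUp {B : Scheme.{u}} (b : B ⟶ U.toScheme)
    (hb : BlowUp.IsBlowUp b (𝓘.comap U.ι)) : LocalBlowUp 𝓘 U where
  B := B
  β := b ≫ U.ι
  range_le := by
    rintro _ ⟨z, rfl⟩
    exact (b z).2
  effCartier := by
    rw [Scheme.IdealSheafData.comap_comp]
    exact hb.1
  lift := by
    intro Y g hr hE
    have hr' : Set.range g ⊆ Set.range U.ι := by rw [Scheme.Opens.range_ι]; exact hr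
    let g' := IsOpenImmersion.lift U.ι g hr'
    have hg' : g' ≫ U.ι = g := IsOpenImmersion.lift_fac _ _ _
    have hE' : BlowUp.IsEffCartierIdeal ((𝓘.comap U.ι).comap g') := by
      rw [← Scheme.IdealSheafData.comap_comp, hg']
      exact hE
    obtain ⟨h, hh, hu⟩ := hb.2 Y g' hE'
    refine ⟨h, ?_, ?_⟩
    · show h ≫ b ≫ U.ι = g
      rw [← Category.assoc, hh, hg']
    · intro h' hh'
      apply hu
      show h' ≫ b = g'
      rw [← cancel_mono U.ι, Category.assoc, hg']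
      exact hh'

end LocalBlowUp

theorem exists_localBlowUp {X : Scheme.{u}} (𝓘 : X.IdealSheafData) (U : X.affineOpens) :
    Nonempty (LocalBlowUp 𝓘 U.1) := by
  haveI : IsAffine U.1.toScheme := U.2
  obtain ⟨B, b, hb⟩ := Groth.Agent.Helper4.NApx42.exists_isBlowUp_of_isAffine (𝓘.comap U.1.ι)
  exact ⟨LocalBlowUp.ofIsBlowUp b hb⟩

section Glue

variable {X : Scheme.{u}} {𝓘 : X.IdealSheafData} (L : ∀ U : X.affineOpens, LocalBlowUp 𝓘 U.1)

/-- the transition maps -/
noncomputable def μ {U U' : X.affineOpens} (h : U ≤ U') : (L U).B ⟶ (L U').B :=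
  (L U').desc (L U).β ((L U).range_le.trans h) (L U).effCartier

theorem μ_fac {U U' : X.affineOpens} (h : U ≤ U') : μ L h ≫ (L U').β = (L U).β :=
  (L U').desc_fac _ _ _

theorem effCartier_comp {U : X.affineOpens} {Y : Scheme.{u}} (h : Y ⟶ (L U).B)
    [Flat h] : BlowUp.IsEffCartierIdeal (𝓘.comap (h ≫ (L U).β)) := by
  rw [Scheme.IdealSheafData.comap_comp]
  exact Groth.Agent.Helper4.NApx19.isEffCartierIdeal_comap_of_flat _ (L U).effCartier h

theorem μ_refl (U : X.affineOpens) : μ L (le_refl U) = 𝟙 _ := by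
  apply (L U).hom_ext
  · rw [μ_fac, Category.id_comp]
  · rw [Category.id_comp]; exact (L U).effCartier

theorem μ_trans {U U' U'' : X.affineOpens} (h : U ≤ U') (h' : U' ≤ U'') :
    μ L (h.trans h') = μ L h ≫ μ L h' := by
  apply (L U'').hom_ext
  · rw [μ_fac, Category.assoc, μ_fac, μ_fac]
  · rw [Category.assoc, μ_fac, μ_fac]; exact (L U).effCartier

/-- the transition maps are isomorphisms onto the preimage of the smaller open -/
theorem μ_iso {U U' : X.affineOpens} (h : U ≤ U') :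
    ∃ (μ' : (L U).B ⟶ ((L U').β ⁻¹ᵁ U.1).toScheme), IsIso μ' ∧
      μ' ≫ ((L U').β ⁻¹ᵁ U.1).ι = μ L h := by
  set W := (L U').β ⁻¹ᵁ U.1 with hW
  have hrμ : Set.range (μ L h) ⊆ Set.range W.ι := by
    rw [Scheme.Opens.range_ι]
    rintro _ ⟨z, rfl⟩
    show (L U').β (μ L h z) ∈ U.1
    have : (L U').β (μ L h z) = (L U).β z := by
      show (μ L h ≫ (L U').β) z = _
      rw [μ_fac]
    rw [this]
    exact (L U).range_le ⟨z, rfl⟩
  let μ' := IsOpenImmersion.lift W.ι (μ L h) hrμ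
  have hμ' : μ' ≫ W.ι = μ L h := IsOpenImmersion.lift_fac _ _ _
  have hrν : Set.range (W.ι ≫ (L U').β) ⊆ (U.1 : Set X) := by
    rintro _ ⟨z, rfl⟩
    exact z.2
  have hEν : BlowUp.IsEffCartierIdeal (𝓘.comap (W.ι ≫ (L U').β)) := effCartier_comp L W.ι
  let ν := (L U).desc (W.ι ≫ (L U').β) hrν hEν
  have hν : ν ≫ (L U).β = W.ι ≫ (L U').β := (L U).desc_fac _ _ _
  have h1 : μ' ≫ ν = 𝟙 _ := by
    apply (L U).hom_ext
    · rw [Category.assoc, hν, ← Category.assoc, hμ', μ_fac, Category.id_comp]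
    · rw [Category.id_comp]; exact (L U).effCartier
  have h2' : ν ≫ μ L h = W.ι := by
    apply (L U').hom_ext
    · rw [Category.assoc, μ_fac, hν]
    · exact hEν
  have h2 : ν ≫ μ' = 𝟙 _ := by
    rw [← cancel_mono W.ι, Category.assoc, hμ', h2', Category.id_comp]
  exact ⟨μ', ⟨ν, h1, h2⟩, hμ'⟩

instance μ_isOpenImmersion {U U' : X.affineOpens} (h : U ≤ U') : IsOpenImmersion (μ L h) := by
  obtain ⟨μ', hiso, hμ'⟩ := μ_iso L h
  rw [← hμ']
  infer_instance

theorem range_μ {U U' : X.affineOpens} (h : U ≤ U') :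
    Set.range (μ L h) = (L U').β ⁻¹' (U.1 : Set X) := by
  obtain ⟨μ', hiso, hμ'⟩ := μ_iso L h
  have hsurj : Set.range μ' = Set.univ := Set.range_eq_univ.mpr μ'.homeomorph.surjective
  rw [← hμ', Scheme.Hom.comp_base, TopCat.coe_comp, Set.range_comp, hsurj, Set.image_univ,
    Scheme.Opens.range_ι]
  rfl

/-- the diagram of local blow-ups -/
noncomputable def F : X.affineOpens ⥤ Scheme.{u} where
  obj U := (L U).B
  map f := μ L (leOfHom f)
  map_id U := μ_refl L U
  map_comp f g := μ_trans L (leOfHom f) (leOfHom g)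

instance {U U' : X.affineOpens} (f : U ⟶ U') : IsOpenImmersion ((F L).map f) :=
  μ_isOpenImmersion L (leOfHom f)

end Glue

end Groth.Agent.Helper4.NApx43
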