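import Groth.Prelude.Def_Rees
import Groth.Prelude.Def_BlowUp2
import Groth.Prelude.Def_ega3
import Groth.Agent.Helper4.NApx43
import Mathlib

set_option autoImplicit false
universe u

namespace Groth.Agent.Helper4.NApx44

open AlgebraicGeometry CategoryTheory Limits
open Groth.Agent.Helper4.NApx43

variable {X : Scheme.{u}} {𝓘 : X.IdealSheafData} (L : ∀ U : X.affineOpens, LocalBlowUp 𝓘 U.1)

theorem β_μ_apply {U U' : X.affineOpens} (h : U ≤ U') (z : (L U).B) :
    (L U').β (μ L h z) = (L U).β z := by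
  show (μ L h ≫ (L U').β) z = _
  rw [μ_fac]

instance : ((F L) ⋙ Scheme.forget).IsLocallyDirected := by
  constructor
  intro i j k fi fj xi xj hx
  have hx' : μ L (leOfHom fi) xi = μ L (leOfHom fj) xj := hx
  have hpi : (L i).β xi ∈ i.1 := (L i).range_le ⟨xi, rfl⟩
  have hpj : (L i).β xi ∈ j.1 := by
    rw [← β_μ_apply L (leOfHom fi) xi, hx', β_μ_apply L (leOfHom fj) xj]
    exact (L j).range_le ⟨xj, rfl⟩
  obtain ⟨_, ⟨V, hV, rfl⟩, hpV, hle⟩ := X.isBasis_affineOpens.exists_subset_of_mem_open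
    (show (L i).β xi ∈ ((i.1 ⊓ j.1 : X.Opens) : Set X) from ⟨hpi, hpj⟩) (i.1 ⊓ j.1).isOpen
  let l : X.affineOpens := ⟨V, hV⟩
  have hli : l ≤ i := fun z hz => (hle hz).1
  have hlj : l ≤ j := fun z hz => (hle hz).2
  have hxi : xi ∈ Set.range (μ L hli) := by
    rw [range_μ]
    exact hpV
  have hxj : xj ∈ Set.range (μ L hlj) := by
    rw [range_μ]
    show (L j).β xj ∈ V
    rw [← β_μ_apply L (leOfHom fj) xj, ← hx', β_μ_apply L (leOfHom fi) xi]
    exact hpV
  obtain ⟨y, hy⟩ := hxi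
  obtain ⟨y', hy'⟩ := hxj
  have hyy : y = y' := by
    apply (μ L (hli.trans (leOfHom fi))).isOpenEmbedding.injective
    have e1 : μ L (hli.trans (leOfHom fi)) y = μ L (leOfHom fi) (μ L hli y) := by
      rw [μ_trans L hli (leOfHom fi)]
      rfl
    have e2 : μ L (hli.trans (leOfHom fi)) y' = μ L (leOfHom fj) (μ L hlj y') := by
      have : μ L (hli.trans (leOfHom fi)) = μ L (hlj.trans (leOfHom fj)) := rfl
      rw [this, μ_trans L hlj (leOfHom fj)]
      rfl
    rw [e1, e2, hy, hy', hx']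
  subst hyy
  exact ⟨l, homOfLE hli, homOfLE hlj, y, hy, hy'⟩

/-- the glued scheme -/
noncomputable def BB : Scheme.{u} := colimit (F L)

/-- the charts of the glued scheme -/
noncomputable def cc (U : X.affineOpens) : (L U).B ⟶ BB L := colimit.ι (F L) U

instance (U : X.affineOpens) : IsOpenImmersion (cc L U) :=
  inferInstanceAs (IsOpenImmersion (colimit.ι (F L) U))

/-- the structure morphism of the glued scheme -/
noncomputable def ββ : BB L ⟶ X :=
  colimit.desc (F L)
    { pt := X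
      ι :=
        { app := fun U => (L U).β
          naturality := fun U U' f => by
            show μ L (leOfHom f) ≫ (L U').β = (L U).β ≫ 𝟙 X
            rw [μ_fac, Category.comp_id] } }

theorem cc_ββ (U : X.affineOpens) : cc L U ≫ ββ L = (L U).β :=
  colimit.ι_desc _ _

theorem μ_cc {U U' : X.affineOpens} (h : U ≤ U') : μ L h ≫ cc L U' = cc L U :=
  colimit.w (F L) (homOfLE h)

theorem exists_cc (x : BB L) : ∃ (U : X.affineOpens) (z : (L U).B), cc L U z = x :=
  Scheme.IsLocallyDirected.ι_jointly_surjective (F L) x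

theorem effCartier_ββ : BlowUp.IsEffCartierIdeal (𝓘.comap (ββ L)) := by
  apply Groth.Agent.Helper4.NApx16.isEffCartierIdeal_of_cover
  intro x
  obtain ⟨U, z, hz⟩ := exists_cc L x
  refine ⟨_, cc L U, inferInstance, ⟨z, hz⟩, ?_⟩
  rw [← Scheme.IdealSheafData.comap_comp, cc_ββ]
  exact (L U).effCartier

theorem ββ_cc_apply (U : X.affineOpens) (z : (L U).B) : ββ L (cc L U z) = (L U).β z := by
  show (cc L U ≫ ββ L) z = _
  rw [cc_ββ]

theorem range_cc (U : X.affineOpens) :
    Set.range (cc L U) = (ββ L) ⁻¹' (U.1 : Set X) := by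
  apply Set.Subset.antisymm
  · rintro _ ⟨z, rfl⟩
    show ββ L (cc L U z) ∈ U.1
    rw [ββ_cc_apply]
    exact (L U).range_le ⟨z, rfl⟩
  · intro x hx
    obtain ⟨U', x', rfl⟩ := exists_cc L x
    have hx1 : (L U').β x' ∈ U.1 := by
      rw [← ββ_cc_apply]; exact hx
    have hx2 : (L U').β x' ∈ U'.1 := (L U').range_le ⟨x', rfl⟩
    obtain ⟨_, ⟨V, hV, rfl⟩, hpV, hle⟩ := X.isBasis_affineOpens.exists_subset_of_mem_open
      (show (L U').β x' ∈ ((U.1 ⊓ U'.1 : X.Opens) : Set X) from ⟨hx1, hx2⟩) (U.1 ⊓ U'.1).isOpen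
    let l : X.affineOpens := ⟨V, hV⟩
    have hl : l ≤ U := fun z hz => (hle hz).1
    have hl' : l ≤ U' := fun z hz => (hle hz).2
    have hx' : x' ∈ Set.range (μ L hl') := by
      rw [range_μ]; exact hpV
    obtain ⟨y, rfl⟩ := hx'
    refine ⟨μ L hl y, ?_⟩
    have e1 : cc L U (μ L hl y) = cc L l y := by
      show (μ L hl ≫ cc L U) y = _
      rw [μ_cc]
    have e2 : cc L U' (μ L hl' y) = cc L l y := by
      show (μ L hl' ≫ cc L U') y = _
      rw [μ_cc]
    rw [e1, e2]

end Groth.Agent.Helper4.NApx44
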