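import Groth.Prelude.Def_Rees
import Groth.Prelude.Def_BlowUp2
import Groth.Prelude.Def_ega3
import Groth.Agent.Helper4.NApx44
import Mathlib

set_option autoImplicit false
universe u

namespace Groth.Agent.Helper4.NApx45

open AlgebraicGeometry CategoryTheory Limits
open Groth.Agent.Helper4.NApx43 Groth.Agent.Helper4.NApx44

variable {X : Scheme.{u}} {𝓘 : X.IdealSheafData} (L : ∀ U : X.affineOpens, LocalBlowUp 𝓘 U.1)

theorem isOpenCover_preimage {Y : Scheme.{u}} (g : Y ⟶ X) :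
    TopologicalSpace.IsOpenCover (fun U : X.affineOpens => g ⁻¹ᵁ U.1) := by
  refine TopologicalSpace.IsOpenCover.mk (eq_top_iff.mpr ?_)
  intro y _
  obtain ⟨_, ⟨V, hV, rfl⟩, hyV, -⟩ := X.isBasis_affineOpens.exists_subset_of_mem_open
    (Set.mem_univ (g y)) isOpen_univ
  exact TopologicalSpace.Opens.mem_iSup.mpr ⟨⟨V, hV⟩, hyV⟩

theorem lift_unique {Y : Scheme.{u}} (g : Y ⟶ X) (hE : BlowUp.IsEffCartierIdeal (𝓘.comap g))
    (h₁ h₂ : Y ⟶ BB L) (e₁ : h₁ ≫ ββ L = g) (e₂ : h₂ ≫ ββ L = g) : h₁ = h₂ := by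
  apply (Y.openCoverOfIsOpenCover _ (isOpenCover_preimage g)).hom_ext
  refine fun (U : X.affineOpens) => ?_
  show (g ⁻¹ᵁ U.1).ι ≫ h₁ = (g ⁻¹ᵁ U.1).ι ≫ h₂
  set N := g ⁻¹ᵁ U.1 with hN
  have hr : ∀ (h : Y ⟶ BB L), h ≫ ββ L = g →
      Set.range (N.ι ≫ h) ⊆ Set.range (cc L U) := by
    intro h e
    rw [range_cc]
    rintro _ ⟨z, rfl⟩
    show ββ L (h (N.ι z)) ∈ U.1
    have : ββ L (h (N.ι z)) = g (N.ι z) := by rw [← e]; rfl
    rw [this]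
    exact z.2
  let k₁ := IsOpenImmersion.lift (cc L U) (N.ι ≫ h₁) (hr h₁ e₁)
  let k₂ := IsOpenImmersion.lift (cc L U) (N.ι ≫ h₂) (hr h₂ e₂)
  have hk₁ : k₁ ≫ cc L U = N.ι ≫ h₁ := IsOpenImmersion.lift_fac _ _ _
  have hk₂ : k₂ ≫ cc L U = N.ι ≫ h₂ := IsOpenImmersion.lift_fac _ _ _
  have c₁ : k₁ ≫ (L U).β = N.ι ≫ g := by
    rw [← cc_ββ, ← Category.assoc, hk₁, Category.assoc, e₁]
  have c₂ : k₂ ≫ (L U).β = N.ι ≫ g := by
    rw [← cc_ββ, ← Category.assoc, hk₂, Category.assoc, e₂]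
  have hE_N : BlowUp.IsEffCartierIdeal (𝓘.comap (k₂ ≫ (L U).β)) := by
    rw [c₂, Scheme.IdealSheafData.comap_comp]
    exact Groth.Agent.Helper4.NApx19.isEffCartierIdeal_comap_ι _ hE N
  have hkk : k₁ = k₂ := (L U).hom_ext k₁ k₂ (c₁.trans c₂.symm) hE_N
  rw [← hk₁, ← hk₂, hkk]

theorem lift_exists {Y : Scheme.{u}} (g : Y ⟶ X) (hE : BlowUp.IsEffCartierIdeal (𝓘.comap g)) :
    ∃ h : Y ⟶ BB L, h ≫ ββ L = g := by
  let 𝒰 := Y.openCoverOfIsOpenCover _ (isOpenCover_preimage g)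
  have hr : ∀ U : X.affineOpens, Set.range ((g ⁻¹ᵁ U.1).ι ≫ g) ⊆ (U.1 : Set X) := by
    intro U
    rintro _ ⟨z, rfl⟩
    exact z.2
  have hEU : ∀ U : X.affineOpens, BlowUp.IsEffCartierIdeal (𝓘.comap ((g ⁻¹ᵁ U.1).ι ≫ g)) := by
    intro U
    rw [Scheme.IdealSheafData.comap_comp]
    exact Groth.Agent.Helper4.NApx19.isEffCartierIdeal_comap_ι _ hE _
  let hloc : ∀ U : 𝒰.I₀, 𝒰.X U ⟶ BB L := fun (U : X.affineOpens) =>
    (L U).desc ((g ⁻¹ᵁ U.1).ι ≫ g) (hr U) (hEU U) ≫ cc L U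
  have hloc_b : ∀ U : 𝒰.I₀, hloc U ≫ ββ L = 𝒰.f U ≫ g := by
    refine fun (U : X.affineOpens) => ?_
    show ((L U).desc ((g ⁻¹ᵁ U.1).ι ≫ g) (hr U) (hEU U) ≫ cc L U) ≫ ββ L = _
    rw [Category.assoc, cc_ββ, (L U).desc_fac]
    rfl
  have hcompat : ∀ U U' : 𝒰.I₀, pullback.fst (𝒰.f U) (𝒰.f U') ≫ hloc U =
      pullback.snd (𝒰.f U) (𝒰.f U') ≫ hloc U' := by
    intro U U'
    have hE' : BlowUp.IsEffCartierIdeal (𝓘.comap
        ((pullback.fst (𝒰.f U) (𝒰.f U') ≫ 𝒰.f U) ≫ g)) := by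
      rw [Scheme.IdealSheafData.comap_comp]
      exact Groth.Agent.Helper4.NApx19.isEffCartierIdeal_comap_of_flat _ hE _
    apply lift_unique L ((pullback.fst (𝒰.f U) (𝒰.f U') ≫ 𝒰.f U) ≫ g) hE'
    · rw [Category.assoc, hloc_b, Category.assoc]
    · rw [Category.assoc, hloc_b, pullback.condition, Category.assoc]
  refine ⟨𝒰.glueMorphisms hloc hcompat, ?_⟩
  apply 𝒰.hom_ext
  intro U
  rw [← Category.assoc, 𝒰.ι_glueMorphisms, hloc_b]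

theorem isBlowUp_ββ : BlowUp.IsBlowUp (ββ L) 𝓘 := by
  refine ⟨effCartier_ββ L, fun Y g hg => ?_⟩
  obtain ⟨h, hh⟩ := lift_exists L g hg
  exact ⟨h, hh, fun h' hh' => lift_unique L g hg h' h hh' hh⟩

/-- blow-ups exist -/
theorem exists_isBlowUp (X : Scheme.{u}) (𝓘 : X.IdealSheafData) :
    ∃ (X' : Scheme.{u}) (b : X' ⟶ X), BlowUp.IsBlowUp b 𝓘 := by
  have hL := fun U : X.affineOpens => exists_localBlowUp 𝓘 U
  exact ⟨BB (fun U => (hL U).some), ββ (fun U => (hL U).some), isBlowUp_ββ _⟩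

end Groth.Agent.Helper4.NApx45
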