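import Groth.Prelude.Def_W4c6modpairsegaMP
import Groth.Agent.Helper4.NApx45
import Mathlib

set_option autoImplicit false
universe u

namespace Groth.Agent.Helper4.NApx46

open AlgebraicGeometry CategoryTheory Limits

/-- for ideals with invertible sum, `(P ∩ Q)(P + Q) = P Q` -/
theorem inf_mul_sup {R : Type u} [CommRing R] (P Q : Ideal R) (e : R)
    (he : e ∈ nonZeroDivisors R) (h : P ⊔ Q = Ideal.span {e}) :
    (P ⊓ Q) * (P ⊔ Q) = P * Q := by
  apply le_antisymm
  · rw [Ideal.mul_le]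
    intro z hz w hw
    obtain ⟨p, hp, q, hq, rfl⟩ := Submodule.mem_sup.mp hw
    rw [mul_add]
    refine Ideal.add_mem _ ?_ ?_
    · rw [mul_comm z p]
      exact Ideal.mul_mem_mul hp hz.2
    · exact Ideal.mul_mem_mul hz.1 hq
  · rw [Ideal.mul_le]
    intro p hp q hq
    have hpe : p ∈ Ideal.span {e} := h ▸ (le_sup_left : P ≤ P ⊔ Q) hp
    have hqe : q ∈ Ideal.span {e} := h ▸ (le_sup_right : Q ≤ P ⊔ Q) hq
    obtain ⟨p', hp'⟩ := Ideal.mem_span_singleton'.mp hpe
    obtain ⟨q', hq'⟩ := Ideal.mem_span_singleton'.mp hqe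
    have e1 : p * q = (p' * q) * e := by rw [← hp']; ring
    have e2 : p' * q = p * q' := by rw [← hp', ← hq']; ring
    rw [e1, h]
    refine Ideal.mul_mem_mul ⟨?_, ?_⟩ (Ideal.mem_span_singleton_self e)
    · rw [e2]; exact Ideal.mul_mem_right _ _ hp
    · exact Ideal.mul_mem_left _ _ hq

/-- sheaf version -/
theorem inf_mul_sup_sheaf {Y : Scheme.{u}} (P Q : Y.IdealSheafData)
    (hE : BlowUp.IsEffCartierIdeal (P ⊔ Q)) : (P ⊓ Q) * (P ⊔ Q) = P * Q := by
  choose C hyC e he hCe using hE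
  refine Scheme.IdealSheafData.ext_of_iSup_eq_top C ?_ ?_
  · rw [eq_top_iff]
    intro y _
    exact TopologicalSpace.Opens.mem_iSup.mpr ⟨y, hyC y⟩
  · intro y
    have h := hCe y
    rw [Scheme.IdealSheafData.ideal_sup] at h
    rw [Scheme.IdealSheafData.ideal_mul, Scheme.IdealSheafData.ideal_mul,
      Scheme.IdealSheafData.ideal_inf, Scheme.IdealSheafData.ideal_sup]
    exact inf_mul_sup _ _ (e y) (he y) h

end Groth.Agent.Helper4.NApx46
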