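import Mathlib

set_option autoImplicit false

namespace Groth.Agent.Helper4.NApx0

open CategoryTheory AlgebraicGeometry Limits

universe u

/-- A quasi-compact open containing the image of a morphism from a quasi-compact scheme. -/
lemma exists_compact_open_range {X S : Scheme.{u}} (f : X ⟶ S) [CompactSpace X] :
    ∃ U : S.Opens, IsCompact (U : Set S) ∧ Set.range f ⊆ (U : Set S) := by
  obtain ⟨W, hWc, hWo, hKW, -⟩ :=
    PrespectralSpace.exists_isCompact_and_isOpen_between (X := S)
      (isCompact_range f.continuous) isOpen_univ (Set.subset_univ _)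
  exact ⟨⟨W, hWo⟩, hWc, hKW⟩

instance isCofiltered_op_of_directed (I : Type u) [Preorder I] [IsDirected I (fun a b => a ≤ b)]
    [Nonempty I] : IsCofiltered Iᵒᵖ := by
  haveI : IsFiltered I := isFiltered_of_directed_le_nonempty I
  infer_instance

/-- `Over.map` preserves connected limits. -/
noncomputable def isLimitMapOver {I : Type u} [Category.{u} I] [IsConnected I] {X' S : Scheme.{u}}
    (f' : X' ⟶ S) (D : I ⥤ Over X') (c : Cone D) (hc : IsLimit c) :
    IsLimit ((Over.map f').mapCone c) := by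
  apply isLimitOfReflects (Over.forget S)
  exact isLimitOfPreserves (Over.forget X') hc

instance directed_Ici {I : Type u} [Preorder I] [IsDirected I (fun a b => a ≤ b)] (i₀ : I) :
    IsDirected (Set.Ici i₀) (fun a b => a ≤ b) where
  directed a b := by
    obtain ⟨c, hac, hbc⟩ := exists_ge_ge (a : I) (b : I)
    exact ⟨⟨c, le_trans a.2 hac⟩, hac, hbc⟩

instance nonempty_Ici {I : Type u} [Preorder I] (i₀ : I) : Nonempty (Set.Ici i₀) :=
  ⟨⟨i₀, le_refl _⟩⟩

/-- The inclusion functor of the final segment. -/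
def inclIci {I : Type u} [Preorder I] (i₀ : I) : (Set.Ici i₀)ᵒᵖ ⥤ Iᵒᵖ :=
  (Subtype.mono_coe (· ∈ Set.Ici i₀)).functor.op

instance {I : Type u} [Preorder I] [IsDirected I (fun a b => a ≤ b)] (i₀ : I) :
    (Subtype.mono_coe (· ∈ Set.Ici i₀)).functor.Final := by
  rw [Monotone.final_functor_iff]
  intro k
  obtain ⟨c, h1, h2⟩ := exists_ge_ge i₀ k
  exact ⟨⟨c, h1⟩, h2⟩

instance {I : Type u} [Preorder I] [IsDirected I (fun a b => a ≤ b)] (i₀ : I) :
    (inclIci i₀).Initial := by
  unfold inclIci; infer_instance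

noncomputable def isLimitRestrict {I : Type u} [Preorder I] [IsDirected I (fun a b => a ≤ b)]
    {C : Type*} [Category C] (D : Iᵒᵖ ⥤ C) (c : Cone D) (hc : IsLimit c) (i₀ : I) :
    IsLimit (c.whisker (inclIci i₀)) :=
  (Functor.Initial.isLimitWhiskerEquiv (inclIci i₀) c).symm hc

end Groth.Agent.Helper4.NApx0
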