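import Mathlib
import Groth.Agent.Helper4.NApx0

set_option autoImplicit false

namespace Groth.Agent.Helper4.NApx4

open CategoryTheory AlgebraicGeometry Limits Opposite
open Groth.Agent.Helper4.NApx0

universe u

theorem lofp_of_loft_of_isLocallyNoetherian {X Y : Scheme.{u}} (f : X ⟶ Y)
    [IsLocallyNoetherian Y] [LocallyOfFiniteType f] : LocallyOfFinitePresentation f := by
  rw [HasRingHomProperty.iff_appLE (P := @LocallyOfFinitePresentation)]
  intro U V e
  have : IsNoetherianRing Γ(Y, U) := IsLocallyNoetherian.component_noetherian U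
  rw [← RingHom.FinitePresentation.of_finiteType]
  exact (HasRingHomProperty.iff_appLE (P := @LocallyOfFiniteType)).mp ‹_› U V e

instance : IsNoetherianRing (ULift.{u} ℤ) :=
  isNoetherianRing_of_ringEquiv ℤ ULift.ringEquiv.symm

instance isLocallyNoetherian_specZ : IsLocallyNoetherian (Spec (.of (ULift.{u} ℤ))) :=
  inferInstance

section Abs

variable {I : Type u} [SmallCategory I] [IsCofiltered I] (D : I ⥤ Scheme.{u}) (c : Cone D)
  (hc : IsLimit c) [∀ {i j : I} (f : i ⟶ j), IsAffineHom (D.map f)]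

/-- The structure maps to `Spec ℤ`. -/
noncomputable def tZ : D ⟶ (Functor.const I).obj (Spec (.of (ULift.{u} ℤ))) where
  app i := specULiftZIsTerminal.from (D.obj i)
  naturality i j a := specULiftZIsTerminal.hom_ext _ _

include hc in
theorem abs_unique [∀ i, CompactSpace (D.obj i)] {Z : Scheme.{u}}
    [LocallyOfFiniteType (specULiftZIsTerminal.from Z)] {i : I} (a b : D.obj i ⟶ Z)
    (hab : c.π.app i ≫ a = c.π.app i ≫ b) :
    ∃ (k : I) (hik : k ⟶ i), D.map hik ≫ a = D.map hik ≫ b :=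
  Scheme.exists_hom_comp_eq_comp_of_locallyOfFiniteType D (tZ D) (specULiftZIsTerminal.from Z)
    c hc a b (specULiftZIsTerminal.hom_ext _ _) (specULiftZIsTerminal.hom_ext _ _) hab

include hc in
theorem abs_exists [∀ i, CompactSpace (D.obj i)] [∀ i, QuasiSeparatedSpace (D.obj i)]
    {Z : Scheme.{u}} [LocallyOfFinitePresentation (specULiftZIsTerminal.from Z)]
    (a : c.pt ⟶ Z) : ∃ (i : I) (g : D.obj i ⟶ Z), c.π.app i ≫ g = a := by
  obtain ⟨i, g, h, -⟩ := Scheme.exists_π_app_comp_eq_of_locallyOfFinitePresentation D (tZ D)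
    (specULiftZIsTerminal.from Z) c hc a (by ext j; exact specULiftZIsTerminal.hom_ext _ _)
  exact ⟨i, g, h⟩

end Abs

section Tri

variable {A B : Type u} [Preorder A] [Preorder B] (DA : Aᵒᵖ ⥤ Scheme.{u})
  (DB : Bᵒᵖ ⥤ Scheme.{u}) (cA : Cone DA) (cB : Cone DB) (F : cA.pt ⟶ cB.pt)

/-- Compatible triples `(a, b, g : X_a ⟶ S_b)`. -/
structure Tri where
  a : A
  b : B
  g : DA.obj (op a) ⟶ DB.obj (op b)
  comm : cA.π.app (op a) ≫ g = F ≫ cB.π.app (op b)

variable {DA DB cA cB F}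

lemma mapA_comp {a₁ a₂ a₃ : A} (h₁ : a₁ ≤ a₂) (h₂ : a₂ ≤ a₃) :
    DA.map (homOfLE h₂).op ≫ DA.map (homOfLE h₁).op = DA.map (homOfLE (h₁.trans h₂)).op := by
  rw [← DA.map_comp]; rfl

lemma mapB_comp {b₁ b₂ b₃ : B} (h₁ : b₁ ≤ b₂) (h₂ : b₂ ≤ b₃) :
    DB.map (homOfLE h₂).op ≫ DB.map (homOfLE h₁).op = DB.map (homOfLE (h₁.trans h₂)).op := by
  rw [← DB.map_comp]; rfl

lemma mapA_refl (a : A) : DA.map (homOfLE (le_refl a)).op = 𝟙 _ := by
  have : (homOfLE (le_refl a)).op = 𝟙 (op a) := Subsingleton.elim _ _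
  rw [this, DA.map_id]

lemma mapB_refl (b : B) : DB.map (homOfLE (le_refl b)).op = 𝟙 _ := by
  have : (homOfLE (le_refl b)).op = 𝟙 (op b) := Subsingleton.elim _ _
  rw [this, DB.map_id]

instance : Preorder (Tri DA DB cA cB F) where
  le s t := ∃ (ha : s.a ≤ t.a) (hb : s.b ≤ t.b),
    DA.map (homOfLE ha).op ≫ s.g = t.g ≫ DB.map (homOfLE hb).op
  le_refl s := ⟨le_refl _, le_refl _, by rw [mapA_refl, mapB_refl]; simp⟩
  le_trans s t r := fun ⟨ha, hb, h⟩ ⟨ha', hb', h'⟩ => ⟨ha.trans ha', hb.trans hb', by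
    rw [← mapA_comp ha ha', ← mapB_comp hb hb', Category.assoc, h, ← Category.assoc, h',
      Category.assoc]⟩

lemma Tri.le_def (s t : Tri DA DB cA cB F) : s ≤ t ↔ ∃ (ha : s.a ≤ t.a) (hb : s.b ≤ t.b),
    DA.map (homOfLE ha).op ≫ s.g = t.g ≫ DB.map (homOfLE hb).op := Iff.rfl

/-- Restrict a triple to a larger index of `A`. -/
def Tri.restrict (t : Tri DA DB cA cB F) (a' : A) (h : t.a ≤ a') : Tri DA DB cA cB F where
  a := a'
  b := t.b
  g := DA.map (homOfLE h).op ≫ t.g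
  comm := by rw [← Category.assoc, cA.w, t.comm]

lemma Tri.le_restrict (t : Tri DA DB cA cB F) (a' : A) (h : t.a ≤ a') : t ≤ t.restrict a' h :=
  ⟨h, le_refl _, by
    have : DB.map (homOfLE (le_refl t.b)).op = 𝟙 _ := mapB_refl t.b
    show DA.map (homOfLE h).op ≫ t.g = (DA.map (homOfLE h).op ≫ t.g) ≫
      DB.map (homOfLE (le_refl t.b)).op
    rw [this, Category.comp_id]⟩

end Tri

section Dir

variable {A B : Type u} [Preorder A] [Preorder B] [IsDirected A (fun a b => a ≤ b)] [Nonempty A]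
  [IsDirected B (fun a b => a ≤ b)] [Nonempty B]
  {DA : Aᵒᵖ ⥤ Scheme.{u}} {DB : Bᵒᵖ ⥤ Scheme.{u}} {cA : Cone DA} {cB : Cone DB}
  (hcA : IsLimit cA) (F : cA.pt ⟶ cB.pt)
  [∀ {i j : Aᵒᵖ} (f : i ⟶ j), IsAffineHom (DA.map f)] [∀ i, CompactSpace (DA.obj i)]
  [∀ i, QuasiSeparatedSpace (DA.obj i)]
  [∀ j, LocallyOfFiniteType (specULiftZIsTerminal.from (DB.obj j))]

include hcA in
lemma exists_tri_b (b : B) : ∃ r : Tri DA DB cA cB F, r.b = b := by
  haveI := lofp_of_loft_of_isLocallyNoetherian (specULiftZIsTerminal.from (DB.obj (op b)))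
  obtain ⟨i, g, h⟩ := abs_exists DA cA hcA (F ≫ cB.π.app (op b))
  exact ⟨⟨i.unop, b, g, h⟩, rfl⟩

include hcA in
lemma exists_restrict_ge (s r : Tri DA DB cA cB F) (hb : s.b ≤ r.b) :
    ∃ (a' : A) (h : r.a ≤ a'), s ≤ r.restrict a' h := by
  obtain ⟨a1, h1, h2⟩ := exists_ge_ge s.a r.a
  have huv : cA.π.app (op a1) ≫ DA.map (homOfLE h1).op ≫ s.g =
      cA.π.app (op a1) ≫ DA.map (homOfLE h2).op ≫ r.g ≫ DB.map (homOfLE hb).op := by
    rw [← Category.assoc, cA.w, s.comm, ← Category.assoc, cA.w, ← Category.assoc, r.comm,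
      Category.assoc, cB.w]
  obtain ⟨k, hik, hk⟩ := abs_unique DA cA hcA _ _ huv
  have h3 : a1 ≤ k.unop := leOfHom hik.unop
  refine ⟨k.unop, h2.trans h3, ?_⟩
  refine ⟨h1.trans h3, hb, ?_⟩
  have hh : hik = (homOfLE h3).op := Subsingleton.elim _ _
  rw [hh] at hk
  show DA.map (homOfLE (h1.trans h3)).op ≫ s.g =
    (DA.map (homOfLE (h2.trans h3)).op ≫ r.g) ≫ DB.map (homOfLE hb).op
  rw [← mapA_comp h1 h3, ← mapA_comp h2 h3, Category.assoc, Category.assoc, Category.assoc]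
  exact hk

include hcA in
theorem tri_nonempty : Nonempty (Tri DA DB cA cB F) := by
  obtain ⟨b⟩ := ‹Nonempty B›
  obtain ⟨r, -⟩ := exists_tri_b hcA F b
  exact ⟨r⟩

include hcA in
theorem tri_directed : IsDirected (Tri DA DB cA cB F) (fun a b => a ≤ b) where
  directed s t := by
    obtain ⟨b3, hb1, hb2⟩ := exists_ge_ge s.b t.b
    obtain ⟨r0, hr0⟩ := exists_tri_b hcA F b3
    subst hr0
    obtain ⟨a', h', hs⟩ := exists_restrict_ge hcA F s r0 hb1
    obtain ⟨a'', h'', ht⟩ := exists_restrict_ge hcA F t (r0.restrict a' h') hb2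
    exact ⟨(r0.restrict a' h').restrict a'' h'', hs.trans (Tri.le_restrict _ _ _), ht⟩

include hcA in
theorem exists_tri_a (a : A) : ∃ r : Tri DA DB cA cB F, a ≤ r.a := by
  obtain ⟨t0⟩ := tri_nonempty hcA F
  obtain ⟨a', h1, h2⟩ := exists_ge_ge a t0.a
  exact ⟨t0.restrict a' h2, h1⟩

end Dir

section Fun

variable {A B : Type u} [Preorder A] [Preorder B]
  (DA : Aᵒᵖ ⥤ Scheme.{u}) (DB : Bᵒᵖ ⥤ Scheme.{u}) (cA : Cone DA) (cB : Cone DB)
  (F : cA.pt ⟶ cB.pt)

lemma monoA : Monotone (fun t : Tri DA DB cA cB F => t.a) := fun _ _ h => h.1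
lemma monoB : Monotone (fun t : Tri DA DB cA cB F => t.b) := fun _ _ h => h.2.1

/-- The projection to `A`. -/
def pA : (Tri DA DB cA cB F)ᵒᵖ ⥤ Aᵒᵖ := (monoA DA DB cA cB F).functor.op
/-- The projection to `B`. -/
def pB : (Tri DA DB cA cB F)ᵒᵖ ⥤ Bᵒᵖ := (monoB DA DB cA cB F).functor.op

/-- The comparison natural transformation. -/
def phi : pA DA DB cA cB F ⋙ DA ⟶ pB DA DB cA cB F ⋙ DB where
  app t := t.unop.g
  naturality s t u := by
    obtain ⟨ha, hb, h⟩ := leOfHom u.unop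
    have h1 : (pA DA DB cA cB F).map u = (homOfLE ha).op := Subsingleton.elim _ _
    have h2 : (pB DA DB cA cB F).map u = (homOfLE hb).op := Subsingleton.elim _ _
    show DA.map ((pA DA DB cA cB F).map u) ≫ t.unop.g =
      s.unop.g ≫ DB.map ((pB DA DB cA cB F).map u)
    rw [h1, h2]
    exact h

end Fun

section Main

variable {A B : Type u} [Preorder A] [Preorder B] [IsDirected A (fun a b => a ≤ b)] [Nonempty A]
  [IsDirected B (fun a b => a ≤ b)] [Nonempty B]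
  (DA : Aᵒᵖ ⥤ Scheme.{u}) (DB : Bᵒᵖ ⥤ Scheme.{u}) (cA : Cone DA) (cB : Cone DB)
  (hcA : IsLimit cA) (hcB : IsLimit cB) (F : cA.pt ⟶ cB.pt)

include hcA hcB in
theorem arrow_limit
    (hA1 : ∀ (i j : Aᵒᵖ) (f : i ⟶ j), IsAffineHom (DA.map f))
    (hA2 : ∀ i, CompactSpace (DA.obj i) ∧
      LocallyOfFiniteType (specULiftZIsTerminal.from (DA.obj i)))
    (hB1 : ∀ (i j : Bᵒᵖ) (f : i ⟶ j), IsAffineHom (DB.map f))
    (hB2 : ∀ i, CompactSpace (DB.obj i) ∧
      LocallyOfFiniteType (specULiftZIsTerminal.from (DB.obj i))) :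
    ∃ (I : Type u) (_ : Preorder I) (_ : IsDirected I (fun a b => a ≤ b)) (_ : Nonempty I)
      (DX DS : Iᵒᵖ ⥤ Scheme.{u}) (φ : DX ⟶ DS)
      (cX : Cone DX) (cS : Cone DS) (_ : IsLimit cX) (_ : IsLimit cS)
      (eX : cX.pt ≅ cA.pt) (eS : cS.pt ≅ cB.pt),
      (∀ (i j : Iᵒᵖ) (a : i ⟶ j), IsAffineHom (DX.map a) ∧ IsAffineHom (DS.map a)) ∧
      (∀ i, CompactSpace (DX.obj i) ∧ CompactSpace (DS.obj i) ∧
        LocallyOfFiniteType (specULiftZIsTerminal.from (DX.obj i)) ∧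
        LocallyOfFiniteType (specULiftZIsTerminal.from (DS.obj i))) ∧
      (∀ i, cX.π.app i ≫ φ.app i = eX.hom ≫ F ≫ eS.inv ≫ cS.π.app i) := by
  haveI : ∀ {i j : Aᵒᵖ} (f : i ⟶ j), IsAffineHom (DA.map f) := fun {i j} f => hA1 i j f
  haveI : ∀ i, CompactSpace (DA.obj i) := fun i => (hA2 i).1
  haveI : ∀ i, QuasiSeparatedSpace (DA.obj i) := fun i => by
    haveI := (hA2 i).2
    haveI : IsLocallyNoetherian (DA.obj i) :=
      LocallyOfFiniteType.isLocallyNoetherian (specULiftZIsTerminal.from (DA.obj i))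
    infer_instance
  haveI : ∀ j, LocallyOfFiniteType (specULiftZIsTerminal.from (DB.obj j)) := fun j => (hB2 j).2
  haveI hdir : IsDirected (Tri DA DB cA cB F) (fun a b => a ≤ b) := tri_directed hcA F
  haveI hne : Nonempty (Tri DA DB cA cB F) := tri_nonempty hcA F
  haveI : (monoA DA DB cA cB F).functor.Final := by
    rw [Monotone.final_functor_iff]
    intro a
    exact exists_tri_a hcA F a
  haveI : (monoB DA DB cA cB F).functor.Final := by
    rw [Monotone.final_functor_iff]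
    intro b
    obtain ⟨r, hr⟩ := exists_tri_b hcA F b
    exact ⟨r, hr.ge⟩
  haveI : (pA DA DB cA cB F).Initial := by unfold pA; infer_instance
  haveI : (pB DA DB cA cB F).Initial := by unfold pB; infer_instance
  refine ⟨Tri DA DB cA cB F, inferInstance, hdir, hne, pA DA DB cA cB F ⋙ DA,
    pB DA DB cA cB F ⋙ DB, phi DA DB cA cB F, cA.whisker (pA DA DB cA cB F),
    cB.whisker (pB DA DB cA cB F),
    (Functor.Initial.isLimitWhiskerEquiv (pA DA DB cA cB F) cA).symm hcA,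
    (Functor.Initial.isLimitWhiskerEquiv (pB DA DB cA cB F) cB).symm hcB,
    Iso.refl _, Iso.refl _, ?_, ?_, ?_⟩
  · intro i j a
    exact ⟨hA1 _ _ _, hB1 _ _ _⟩
  · intro i
    exact ⟨(hA2 _).1, (hB2 _).1, (hA2 _).2, (hB2 _).2⟩
  · intro i
    simp only [Iso.refl_hom, Iso.refl_inv, Category.id_comp]
    exact i.unop.comm

end Main

end Groth.Agent.Helper4.NApx4
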