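import Mathlib
import Groth.Agent.Helper4.NApx4

set_option autoImplicit false

namespace Groth.Agent.Helper4.NApx5

open CategoryTheory AlgebraicGeometry Limits Opposite
open Groth.Agent.Helper4.NApx4

universe u

section Rel

variable {A B : Type u} [Preorder A] [Preorder B] (DA : Aᵒᵖ ⥤ Scheme.{u})
  (DB : Bᵒᵖ ⥤ Scheme.{u}) (cA : Cone DA) (cB : Cone DB) (F : cA.pt ⟶ cB.pt)

variable {DA DB cA cB F} in
lemma Tri.le_comm {s t : Tri DA DB cA cB F} (h : s ≤ t) :
    DA.map (homOfLE (monoA DA DB cA cB F h)).op ≫ s.g =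
      t.g ≫ DB.map (homOfLE (monoB DA DB cA cB F h)).op := by
  obtain ⟨ha, hb, e⟩ := h
  exact e

/-- `X_a ×_{S_b} S` as an object over `S`. -/
noncomputable def relObj (t : Tri DA DB cA cB F) : Over cB.pt :=
  Over.mk (pullback.snd t.g (cB.π.app (op t.b)))

variable {DA DB cA cB F} in
/-- Transition maps. -/
noncomputable def relMapLeft {s t : Tri DA DB cA cB F} (h : s ≤ t) :
    pullback t.g (cB.π.app (op t.b)) ⟶ pullback s.g (cB.π.app (op s.b)) :=
  pullback.map t.g (cB.π.app (op t.b)) s.g (cB.π.app (op s.b))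
    (DA.map (homOfLE (monoA DA DB cA cB F h)).op) (𝟙 _)
    (DB.map (homOfLE (monoB DA DB cA cB F h)).op) (Tri.le_comm h).symm
    (by rw [Category.id_comp, cB.w])

variable {DA DB cA cB F} in
@[reassoc (attr := simp)]
lemma relMapLeft_fst {s t : Tri DA DB cA cB F} (h : s ≤ t) :
    relMapLeft h ≫ pullback.fst _ _ =
      pullback.fst _ _ ≫ DA.map (homOfLE (monoA DA DB cA cB F h)).op := by
  unfold relMapLeft pullback.map
  exact pullback.lift_fst _ _ _

variable {DA DB cA cB F} in
@[reassoc (attr := simp)]
lemma relMapLeft_snd {s t : Tri DA DB cA cB F} (h : s ≤ t) :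
    relMapLeft h ≫ pullback.snd _ _ = pullback.snd _ _ := by
  unfold relMapLeft pullback.map
  rw [pullback.lift_snd, Category.comp_id]

set_option backward.isDefEq.respectTransparency false in
/-- The diagram `t ↦ X_a ×_{S_b} S` over `S`. -/
noncomputable def relD : (Tri DA DB cA cB F)ᵒᵖ ⥤ Over cB.pt where
  obj t := relObj DA DB cA cB F t.unop
  map {s t} u := Over.homMk (relMapLeft (leOfHom u.unop)) (by simp [relObj])
  map_id t := by
    ext
    apply pullback.hom_ext
    · simp [relObj, mapA_refl]
    · simp [relObj]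
  map_comp {r s t} u v := by
    ext
    apply pullback.hom_ext
    · simp [relObj, mapA_comp]
    · simp [relObj]

set_option backward.isDefEq.respectTransparency false in
/-- The cone with apex `F : X ⟶ S`. -/
noncomputable def relCone : Cone (relD DA DB cA cB F) where
  pt := Over.mk F
  π :=
    { app := fun t => Over.homMk (pullback.lift (cA.π.app (op t.unop.a)) F t.unop.comm)
        (by simp [relD, relObj])
      naturality := fun s t u => by
        ext
        apply pullback.hom_ext
        · simp [relD, relObj]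
        · simp [relD, relObj] }

set_option backward.isDefEq.respectTransparency false in
/-- The cone over `pA ⋙ DA` induced by a cone over `relD`. -/
noncomputable def coneW (s : Cone (relD DA DB cA cB F)) : Cone (pA DA DB cA cB F ⋙ DA) where
  pt := s.pt.left
  π :=
    { app := fun t => (s.π.app t).left ≫ pullback.fst _ _
      naturality := fun t₁ t₂ u => by
        have h1 := congrArg (fun k => k.left) (s.w u)
        simp only [Over.comp_left] at h1
        have h2 : ((relD DA DB cA cB F).map u).left = relMapLeft (leOfHom u.unop) := rfl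
        rw [h2] at h1
        have h3 : (pA DA DB cA cB F ⋙ DA).map u =
            DA.map (homOfLE (monoA DA DB cA cB F (leOfHom u.unop))).op := rfl
        rw [h3]
        simp only [Functor.const_obj_obj, Functor.const_obj_map, Category.id_comp,
          Category.assoc]
        rw [← h1, Category.assoc, relMapLeft_fst] }

end Rel

section Lim

variable {A B : Type u} [Preorder A] [Preorder B] [IsDirected A (fun a b => a ≤ b)] [Nonempty A]
  [IsDirected B (fun a b => a ≤ b)] [Nonempty B]
  {DA : Aᵒᵖ ⥤ Scheme.{u}} {DB : Bᵒᵖ ⥤ Scheme.{u}} {cA : Cone DA} {cB : Cone DB}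
  (hcA : IsLimit cA) (hcB : IsLimit cB) (F : cA.pt ⟶ cB.pt)
  [∀ {i j : Aᵒᵖ} (f : i ⟶ j), IsAffineHom (DA.map f)] [∀ i, CompactSpace (DA.obj i)]
  [∀ i, QuasiSeparatedSpace (DA.obj i)]
  [∀ j, LocallyOfFiniteType (specULiftZIsTerminal.from (DB.obj j))]

include hcA in
theorem initial_pA : (pA DA DB cA cB F).Initial := by
  haveI hdir : IsDirected (Tri DA DB cA cB F) (fun a b => a ≤ b) := tri_directed hcA F
  haveI : (monoA DA DB cA cB F).functor.Final := by
    rw [Monotone.final_functor_iff]
    intro a
    exact exists_tri_a hcA F a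
  unfold pA; infer_instance

/-- The whiskered cone is a limit. -/
noncomputable def hw : IsLimit (cA.whisker (pA DA DB cA cB F)) :=
  haveI := initial_pA hcA F
  (Functor.Initial.isLimitWhiskerEquiv (pA DA DB cA cB F) cA).symm hcA

set_option backward.isDefEq.respectTransparency false in
include hcB in
theorem lift_over (s : Cone (relD DA DB cA cB F)) :
    (hw hcA F).lift (coneW DA DB cA cB F s) ≫ F = s.pt.hom := by
  apply hcB.hom_ext
  intro j
  obtain ⟨r, hr⟩ := exists_tri_b hcA F j.unop
  have hj : j = op r.b := by rw [hr]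
  subst hj
  have h1 := (hw hcA F).fac (coneW DA DB cA cB F s) (op r)
  have h2 : (cA.whisker (pA DA DB cA cB F)).π.app (op r) = cA.π.app (op r.a) := rfl
  rw [h2] at h1
  have h3 : (coneW DA DB cA cB F s).π.app (op r) = (s.π.app (op r)).left ≫ pullback.fst _ _ := rfl
  rw [h3] at h1
  have h4 : (s.π.app (op r)).left ≫ pullback.snd r.g (cB.π.app (op r.b)) = s.pt.hom :=
    Over.w (s.π.app (op r))
  rw [Category.assoc, ← r.comm, ← Category.assoc, h1, Category.assoc, pullback.condition,
    ← Category.assoc, h4]

set_option backward.isDefEq.respectTransparency false in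
/-- The relative cone is a limit cone. -/
noncomputable def relConeIsLimit : IsLimit (relCone DA DB cA cB F) where
  lift s := Over.homMk ((hw hcA F).lift (coneW DA DB cA cB F s)) (lift_over hcA hcB F s)
  fac s t := by
    ext
    apply pullback.hom_ext
    · have h1 := (hw hcA F).fac (coneW DA DB cA cB F s) t
      have h2 : (cA.whisker (pA DA DB cA cB F)).π.app t = cA.π.app (op t.unop.a) := rfl
      rw [h2] at h1
      simp only [relCone, Over.comp_left, Over.homMk_left, Category.assoc, pullback.lift_fst]
      exact h1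
    · have h4 : (s.π.app t).left ≫ pullback.snd t.unop.g (cB.π.app (op t.unop.b)) = s.pt.hom :=
        Over.w (s.π.app t)
      simp only [relCone, Over.comp_left, Over.homMk_left, Category.assoc, pullback.lift_snd]
      rw [h4]
      exact lift_over hcA hcB F s
  uniq s m hm := by
    ext
    simp only [Over.homMk_left]
    apply (hw hcA F).uniq (coneW DA DB cA cB F s) m.left
    intro t
    have h1 := congrArg (fun k => k.left ≫ pullback.fst t.unop.g (cB.π.app (op t.unop.b))) (hm t)
    simp only [relCone, Over.comp_left, Over.homMk_left, Category.assoc, pullback.lift_fst] at h1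
    exact h1

end Lim

section Main

variable {A B : Type u} [Preorder A] [Preorder B] [IsDirected A (fun a b => a ≤ b)] [Nonempty A]
  [IsDirected B (fun a b => a ≤ b)] [Nonempty B]
  (DA : Aᵒᵖ ⥤ Scheme.{u}) (DB : Bᵒᵖ ⥤ Scheme.{u}) (cA : Cone DA) (cB : Cone DB)
  (hcA : IsLimit cA) (hcB : IsLimit cB) (F : cA.pt ⟶ cB.pt)

set_option backward.isDefEq.respectTransparency.types false in
include hcA hcB in
theorem rel_limit
    (hA1 : ∀ (i j : Aᵒᵖ) (f : i ⟶ j), IsAffineHom (DA.map f))
    (hA2 : ∀ i, CompactSpace (DA.obj i) ∧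
      LocallyOfFiniteType (specULiftZIsTerminal.from (DA.obj i)))
    (hB1 : ∀ (i j : Bᵒᵖ) (f : i ⟶ j), IsAffineHom (DB.map f))
    (hB2 : ∀ i, CompactSpace (DB.obj i) ∧
      LocallyOfFiniteType (specULiftZIsTerminal.from (DB.obj i))) :
    ∃ (I : Type u) (_ : Preorder I) (_ : IsDirected I (fun a b => a ≤ b)) (_ : Nonempty I)
      (D : Iᵒᵖ ⥤ Over cB.pt) (c : Cone D) (_ : IsLimit c),
      (∀ i, LocallyOfFinitePresentation (D.obj i).hom ∧ QuasiCompact (D.obj i).hom ∧
        QuasiSeparated (D.obj i).hom) ∧
      (∀ (i j : Iᵒᵖ) (a : i ⟶ j), IsAffineHom (D.map a).left) ∧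
      Nonempty (c.pt ≅ Over.mk F) := by
  haveI : ∀ {i j : Aᵒᵖ} (f : i ⟶ j), IsAffineHom (DA.map f) := fun {i j} f => hA1 i j f
  haveI : ∀ {i j : Bᵒᵖ} (f : i ⟶ j), IsAffineHom (DB.map f) := fun {i j} f => hB1 i j f
  haveI : ∀ i, CompactSpace (DA.obj i) := fun i => (hA2 i).1
  haveI hAn : ∀ i, IsLocallyNoetherian (DA.obj i) := fun i => by
    haveI := (hA2 i).2
    exact LocallyOfFiniteType.isLocallyNoetherian (specULiftZIsTerminal.from (DA.obj i))
  haveI hBn : ∀ i, IsLocallyNoetherian (DB.obj i) := fun i => by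
    haveI := (hB2 i).2
    exact LocallyOfFiniteType.isLocallyNoetherian (specULiftZIsTerminal.from (DB.obj i))
  haveI : ∀ i, QuasiSeparatedSpace (DA.obj i) := fun i => inferInstance
  haveI : ∀ j, LocallyOfFiniteType (specULiftZIsTerminal.from (DB.obj j)) := fun j => (hB2 j).2
  haveI hdir : IsDirected (Tri DA DB cA cB F) (fun a b => a ≤ b) := tri_directed hcA F
  haveI hne : Nonempty (Tri DA DB cA cB F) := tri_nonempty hcA F
  have hπ : ∀ j, IsAffineHom (cB.π.app j) := fun j => isAffineHom_π_app DB cB hcB j
  refine ⟨Tri DA DB cA cB F, inferInstance, hdir, hne, relD DA DB cA cB F,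
    relCone DA DB cA cB F, relConeIsLimit hcA hcB F, ?_, ?_, ⟨Iso.refl _⟩⟩
  · intro t
    have hg : LocallyOfFiniteType t.unop.g := by
      haveI : LocallyOfFiniteType (t.unop.g ≫ specULiftZIsTerminal.from (DB.obj (op t.unop.b))) := by
        rw [specULiftZIsTerminal.hom_ext (t.unop.g ≫ specULiftZIsTerminal.from _)
          (specULiftZIsTerminal.from _)]
        exact (hA2 _).2
      exact locallyOfFiniteType_of_comp t.unop.g (specULiftZIsTerminal.from _)
    haveI : LocallyOfFinitePresentation t.unop.g := lofp_of_loft_of_isLocallyNoetherian _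
    haveI : QuasiCompact t.unop.g := inferInstance
    haveI : QuasiSeparated t.unop.g := inferInstance
    refine ⟨?_, ?_, ?_⟩
    · show LocallyOfFinitePresentation (pullback.snd t.unop.g (cB.π.app (op t.unop.b)))
      infer_instance
    · show QuasiCompact (pullback.snd t.unop.g (cB.π.app (op t.unop.b)))
      infer_instance
    · show QuasiSeparated (pullback.snd t.unop.g (cB.π.app (op t.unop.b)))
      infer_instance
  · intro s t u
    show IsAffineHom (relMapLeft (leOfHom u.unop))
    haveI : IsAffineHom (pullback.fst t.unop.g (cB.π.app (op t.unop.b))) :=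
      MorphismProperty.pullback_fst _ _ (hπ _)
    haveI : IsAffineHom (pullback.fst s.unop.g (cB.π.app (op s.unop.b))) :=
      MorphismProperty.pullback_fst _ _ (hπ _)
    haveI : IsAffineHom (relMapLeft (leOfHom u.unop) ≫
        pullback.fst t.unop.g (cB.π.app (op t.unop.b))) := by
      rw [relMapLeft_fst]; infer_instance
    exact IsAffineHom.of_comp _ (pullback.fst t.unop.g (cB.π.app (op t.unop.b)))

end Main

end Groth.Agent.Helper4.NApx5
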