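import Mathlib
import Groth.Agent.Helper4.NApx5
import Groth.Agent.Helper4.NApx0
import Groth.Agent.S0590

set_option autoImplicit false

namespace Groth.Agent.Helper4.NApx6

open CategoryTheory AlgebraicGeometry Limits Opposite

universe u

/-- Transfer a presentation as a limit along a finitely presented base morphism and an
isomorphism of the source. -/
theorem transfer {X S X' S' : Scheme.{u}} (f : X ⟶ S) (f' : X' ⟶ S') (h : S' ⟶ S) (eX : X' ≅ X)
    (hcomm : f' ≫ h = eX.hom ≫ f) [LocallyOfFinitePresentation h] [QuasiCompact h]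
    [QuasiSeparated h]
    (H : ∃ (I : Type u) (_ : Preorder I) (_ : IsDirected I (fun a b => a ≤ b)) (_ : Nonempty I)
      (D : Iᵒᵖ ⥤ Over S') (c : Cone D) (_ : IsLimit c),
      (∀ i, LocallyOfFinitePresentation (D.obj i).hom ∧ QuasiCompact (D.obj i).hom ∧
        QuasiSeparated (D.obj i).hom) ∧
      (∀ (i j : Iᵒᵖ) (a : i ⟶ j), IsAffineHom (D.map a).left) ∧
      Nonempty (c.pt ≅ Over.mk f')) :
    ∃ (I : Type u) (_ : Preorder I) (_ : IsDirected I (fun a b => a ≤ b)) (_ : Nonempty I)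
      (D : Iᵒᵖ ⥤ Over S) (c : Cone D) (_ : IsLimit c),
      (∀ i, LocallyOfFinitePresentation (D.obj i).hom ∧ QuasiCompact (D.obj i).hom ∧
        QuasiSeparated (D.obj i).hom) ∧
      (∀ (i j : Iᵒᵖ) (a : i ⟶ j), IsAffineHom (D.map a).left) ∧
      Nonempty (c.pt ≅ Over.mk f) := by
  obtain ⟨I, hP, hD, hN, D, c, hc, h1, h2, ⟨e⟩⟩ := H
  haveI : IsConnected Iᵒᵖ := IsCofiltered.isConnected _
  refine ⟨I, hP, hD, hN, D ⋙ Over.map h, (Over.map h).mapCone c,
    NApx0.isLimitMapOver h D c hc, ?_, ?_,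
    ⟨(Over.map h).mapIso e ≪≫ Over.isoMk eX (by simpa using hcomm.symm)⟩⟩
  · intro i
    haveI := (h1 i).1
    haveI := (h1 i).2.1
    haveI := (h1 i).2.2
    refine ⟨?_, ?_, ?_⟩
    · show LocallyOfFinitePresentation ((D.obj i).hom ≫ h); infer_instance
    · show QuasiCompact ((D.obj i).hom ≫ h); infer_instance
    · show QuasiSeparated ((D.obj i).hom ≫ h); infer_instance
  · intro i j a
    exact h2 i j a

/-- Stacks 09MV: relative approximation. -/
theorem rel_approx {X S : Scheme.{u}} (f : X ⟶ S)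
    [CompactSpace X] [QuasiSeparatedSpace X] [QuasiSeparatedSpace S] :
    ∃ (I : Type u) (_ : Preorder I) (_ : IsDirected I (fun a b => a ≤ b)) (_ : Nonempty I)
      (D : Iᵒᵖ ⥤ Over S) (c : Limits.Cone D) (_ : Limits.IsLimit c),
      (∀ i, LocallyOfFinitePresentation (D.obj i).hom ∧ QuasiCompact (D.obj i).hom ∧
        QuasiSeparated (D.obj i).hom) ∧
      (∀ (i j : Iᵒᵖ) (a : i ⟶ j), IsAffineHom (D.map a).left) ∧
      Nonempty (c.pt ≅ Over.mk f) := by
  obtain ⟨U, hUc, hU⟩ := NApx0.exists_compact_open_range f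
  haveI : CompactSpace U := isCompact_iff_compactSpace.mp hUc
  haveI : QuasiSeparatedSpace U := quasiSeparatedSpace_of_quasiSeparated U.ι
  let g : X ⟶ U := IsOpenImmersion.lift U.ι f (by rw [Scheme.Opens.range_ι]; exact hU)
  have hg : g ≫ U.ι = f := IsOpenImmersion.lift_fac _ _ _
  obtain ⟨A, hPA, hDA, hNA, DA, cA, hcA, hA1, hA2, ⟨eA⟩⟩ := Groth.Agent.S0590.result X
  obtain ⟨B, hPB, hDB, hNB, DB, cB, hcB, hB1, hB2, ⟨eB⟩⟩ := Groth.Agent.S0590.result (U : Scheme.{u})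
  have H := NApx5.rel_limit DA DB cA cB hcA hcB (eA.hom ≫ g ≫ eB.inv) hA1 hA2 hB1 hB2
  haveI : QuasiCompact U.ι := inferInstance
  refine transfer f (eA.hom ≫ g ≫ eB.inv) (eB.hom ≫ U.ι) eA ?_ H
  simp [hg]

end Groth.Agent.Helper4.NApx6
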