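import Mathlib
import Groth.Agent.Helper4.NApx0
import Groth.Agent.S7383
import Groth.Agent.S2076
import Groth.Agent.S9199
import Groth.Agent.S9200

set_option autoImplicit false

namespace Groth.Agent.Helper4.NApx1

open CategoryTheory AlgebraicGeometry Limits
open Groth.Agent.Helper4.NApx0

universe u

/-- Core: over a qcqs base, a finite type morphism from a qcqs scheme is a limit of finitely
presented schemes with affine transitions and eventually closed immersion projections. -/
theorem core {X S : Scheme.{u}} (f : X ⟶ S) [LocallyOfFiniteType f]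
    [CompactSpace X] [QuasiSeparatedSpace X] [CompactSpace S] [QuasiSeparatedSpace S] :
    ∃ (I : Type u) (_ : Preorder I) (_ : IsDirected I (fun a b => a ≤ b)) (_ : Nonempty I)
      (D : Iᵒᵖ ⥤ Over S) (c : Cone D) (_ : IsLimit c) (_ : c.pt ≅ Over.mk f) (i₀ : Iᵒᵖ),
      (∀ i, LocallyOfFinitePresentation (D.obj i).hom ∧ QuasiCompact (D.obj i).hom ∧
        QuasiSeparated (D.obj i).hom) ∧
      (∀ (i j : Iᵒᵖ) (a : i ⟶ j), IsAffineHom (D.map a).left) ∧
      (∀ (i : Iᵒᵖ) (_ : i ⟶ i₀), IsClosedImmersion (c.π.app i).left) := by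
  obtain ⟨I, hP, hD, hN, D, c, hc, h1, h2, ⟨e⟩⟩ := Groth.Agent.S7383.result f
  haveI : ∀ (i j : Iᵒᵖ) (a : i ⟶ j), IsAffineHom (D.map a).left := h2
  haveI : ∀ i, CompactSpace (D.obj i).left := fun i => by
    haveI := (h1 i).2.1
    exact QuasiCompact.compactSpace_of_compactSpace (D.obj i).hom
  haveI : IsClosedImmersion (𝟙 c.pt.left) := inferInstance
  haveI : LocallyOfFiniteType (𝟙 c.pt.left ≫ c.pt.hom) := by
    have : c.pt.hom = e.hom.left ≫ f := by simpa using (Over.w e.hom).symm
    rw [Category.id_comp, this]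
    haveI : IsIso e.hom.left := (Over.forget S).map_isIso e.hom
    infer_instance
  obtain ⟨i₀, hi₀⟩ := Groth.Agent.S2076.result S D c hc (𝟙 c.pt.left)
  refine ⟨I, hP, hD, hN, D, c, hc, e, i₀, h1, h2, fun i a => ?_⟩
  rw [Category.id_comp] at hi₀
  have hw : (c.π.app i).left ≫ (D.map a).left = (c.π.app i₀).left := by
    rw [← Over.comp_left, c.w]
  haveI : IsClosedImmersion ((c.π.app i).left ≫ (D.map a).left) := by rw [hw]; exact hi₀
  exact IsClosedImmersion.of_comp (c.π.app i).left (D.map a).left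

/-- Strong form of the closed immersion into a finitely presented scheme (with `X'` qcqs). -/
theorem closedImm_fp {X S : Scheme.{u}} (f : X ⟶ S) [LocallyOfFiniteType f]
    [CompactSpace X] [QuasiSeparatedSpace X] [QuasiSeparatedSpace S] :
    ∃ (X' : Scheme.{u}) (f' : X' ⟶ S) (j : X ⟶ X'), LocallyOfFinitePresentation f' ∧
      QuasiCompact f' ∧ QuasiSeparated f' ∧ IsClosedImmersion j ∧ j ≫ f' = f ∧
      CompactSpace X' ∧ QuasiSeparatedSpace X' := by
  obtain ⟨U, hUc, hU⟩ := exists_compact_open_range f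
  haveI : CompactSpace U := isCompact_iff_compactSpace.mp hUc
  haveI : QuasiSeparatedSpace U := quasiSeparatedSpace_of_quasiSeparated U.ι
  let g : X ⟶ U := IsOpenImmersion.lift U.ι f (by rw [Scheme.Opens.range_ι]; exact hU)
  have hg : g ≫ U.ι = f := IsOpenImmersion.lift_fac _ _ _
  haveI : LocallyOfFiniteType (g ≫ U.ι) := by rw [hg]; infer_instance
  haveI : LocallyOfFiniteType g := locallyOfFiniteType_of_comp g U.ι
  obtain ⟨I, hP, hD, hN, D, c, hc, e, i₀, h1, h2, h3⟩ := core g
  haveI := (h1 i₀).1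
  haveI := (h1 i₀).2.1
  haveI := (h1 i₀).2.2
  haveI := h3 i₀ (𝟙 _)
  haveI : IsIso e.inv.left := (Over.forget _).map_isIso e.inv
  refine ⟨(D.obj i₀).left, (D.obj i₀).hom ≫ U.ι, e.inv.left ≫ (c.π.app i₀).left,
    inferInstance, inferInstance, inferInstance, inferInstance, ?_, ?_, ?_⟩
  · have h4 : (c.π.app i₀).left ≫ (D.obj i₀).hom = c.pt.hom := Over.w (c.π.app i₀)
    have h5 : e.inv.left ≫ c.pt.hom = g := Over.w e.inv
    rw [Category.assoc, ← Category.assoc (c.π.app i₀).left, h4, ← Category.assoc, h5]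
    exact hg
  · exact QuasiCompact.compactSpace_of_compactSpace (D.obj i₀).hom
  · exact quasiSeparatedSpace_of_quasiSeparated (D.obj i₀).hom

/-- The structure maps of a diagram of `S`-schemes, as a natural transformation. -/
def strNat {I : Type u} [Category.{u} I] {S : Scheme.{u}} (D : I ⥤ Over S) :
    D ⋙ Over.forget S ⟶ (Functor.const I).obj S where
  app i := (D.obj i).hom
  naturality i j a := by simp

theorem separated_eventually {I : Type u} [SmallCategory I] [IsCofiltered I] {S : Scheme.{u}}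
    [QuasiSeparatedSpace S] (D : I ⥤ Over S) (c : Cone D) (hc : IsLimit c)
    (h2 : ∀ (i j : I) (a : i ⟶ j), IsAffineHom (D.map a).left)
    (h3 : ∀ i, CompactSpace (D.obj i).left) (h4 : ∀ i, QuasiSeparatedSpace (D.obj i).left)
    [hs : IsSeparated c.pt.hom] :
    ∃ i₁ : I, ∀ (i : I) (_ : i ⟶ i₁), IsSeparated (D.obj i).hom := by
  haveI : IsConnected I := IsCofiltered.isConnected I
  haveI : ∀ (i j : I) (a : i ⟶ j), IsAffineHom ((D ⋙ Over.forget S).map a) := h2
  haveI : ∀ i, CompactSpace ((D ⋙ Over.forget S).obj i) := h3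
  haveI : ∀ i, QuasiSeparatedSpace ((D ⋙ Over.forget S).obj i) := h4
  obtain ⟨i₀⟩ := IsCofiltered.nonempty (C := I)
  haveI : IsSeparated (((Over.forget S).mapCone c).π.app i₀ ≫ (strNat D).app i₀) := by
    have : ((Over.forget S).mapCone c).π.app i₀ ≫ (strNat D).app i₀ = c.pt.hom :=
      Over.w (c.π.app i₀)
    rw [this]; exact hs
  exact Groth.Agent.S9199.result S (D ⋙ Over.forget S) (strNat D) ((Over.forget S).mapCone c)
    (isLimitOfPreserves (Over.forget S) hc) i₀

theorem affine_eventually {I : Type u} [SmallCategory I] [IsCofiltered I] {S : Scheme.{u}}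
    [CompactSpace S] [QuasiSeparatedSpace S] (D : I ⥤ Over S) (c : Cone D) (hc : IsLimit c)
    (h2 : ∀ (i j : I) (a : i ⟶ j), IsAffineHom (D.map a).left)
    (h3 : ∀ i, CompactSpace (D.obj i).left) (h4 : ∀ i, QuasiSeparatedSpace (D.obj i).left)
    [hs : IsAffineHom c.pt.hom] :
    ∃ i₁ : I, ∀ (i : I) (_ : i ⟶ i₁), IsAffineHom (D.obj i).hom := by
  haveI : IsConnected I := IsCofiltered.isConnected I
  haveI : ∀ (i j : I) (a : i ⟶ j), IsAffineHom ((D ⋙ Over.forget S).map a) := h2
  haveI : ∀ i, CompactSpace ((D ⋙ Over.forget S).obj i) := h3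
  haveI : ∀ i, QuasiSeparatedSpace ((D ⋙ Over.forget S).obj i) := h4
  obtain ⟨i₀⟩ := IsCofiltered.nonempty (C := I)
  haveI : IsAffineHom (((Over.forget S).mapCone c).π.app i₀ ≫ (strNat D).app i₀) := by
    have : ((Over.forget S).mapCone c).π.app i₀ ≫ (strNat D).app i₀ = c.pt.hom :=
      Over.w (c.π.app i₀)
    rw [this]; exact hs
  exact Groth.Agent.S9200.result S (D ⋙ Over.forget S) (strNat D) ((Over.forget S).mapCone c)
    (isLimitOfPreserves (Over.forget S) hc) i₀

end Groth.Agent.Helper4.NApx1
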