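import Mathlib
import Groth.Agent.Helper4.NApx0

set_option autoImplicit false

namespace Groth.Agent.Helper4.NApx8

open CategoryTheory AlgebraicGeometry Limits Opposite

universe u

section SI

/-- The scheme-theoretic image of `p : X ⟶ Y` in an affine finite type `S`-scheme `Y` is finite
over `S` when `X` is integral over `S`. -/
theorem isFinite_imageι_comp {X Y S : Scheme.{u}} (p : X ⟶ Y) (q : Y ⟶ S) [IsAffineHom q]
    [LocallyOfFiniteType q] [IsIntegralHom (p ≫ q)] : IsFinite (p.imageι ≫ q) := by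
  haveI : IsAffineHom p := IsAffineHom.of_comp p q
  rw [IsFinite.iff_isIntegralHom_and_locallyOfFiniteType]
  refine ⟨?_, inferInstance⟩
  rw [isIntegralHom_iff]
  refine ⟨inferInstance, ?_⟩
  intro U hU
  have hV : IsAffineOpen (q ⁻¹ᵁ U) := hU.preimage q
  have hinj : Function.Injective (p.toImage.app ((p.imageι ≫ q) ⁻¹ᵁ U)).hom :=
    p.toImage_app_injective ⟨q ⁻¹ᵁ U, hV⟩
  have hint := IsIntegralHom.isIntegral_app (p ≫ q) U hU
  have e : p.toImage ≫ (p.imageι ≫ q) = p ≫ q := by rw [Scheme.Hom.toImage_imageι_assoc]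
  have hint' : ((p.toImage ≫ (p.imageι ≫ q)).app U).hom.IsIntegral := by rw [e]; exact hint
  rw [Scheme.Hom.comp_app] at hint'
  exact RingHom.IsIntegral.tower_bot _ _ hinj hint'

end SI

section Sub

universe v w

variable {C : Type w} [Category.{v} C] {I P : Type u} [Preorder I] [Preorder P]
  [IsDirected P (· ≤ ·)]
  (q : P → I) (hq : Monotone q) (hcof : ∀ i, ∃ p, i ≤ q p)
  (D : Iᵒᵖ ⥤ C) (c : Cone D) (hc : IsLimit c)
  (E : Pᵒᵖ ⥤ C) (m : ∀ p : P, E.obj (op p) ⟶ D.obj (op (q p))) [∀ p, Mono (m p)]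
  (hm : ∀ (p p' : P) (h : p ≤ p'),
    E.map (homOfLE h).op ≫ m p = m p' ≫ D.map (homOfLE (hq h)).op)
  (ε : ∀ p : P, c.pt ⟶ E.obj (op p)) (hε : ∀ p, ε p ≫ m p = c.π.app (op (q p)))

include hq hm hε in
/-- the cone over the sub-system -/
def subCone : Cone E where
  pt := c.pt
  π :=
    { app := fun p => ε p.unop
      naturality := by
        intro p p' f
        have h : p'.unop ≤ p.unop := leOfHom f.unop
        have hf : f = (homOfLE h).op := Subsingleton.elim _ _
        dsimp
        rw [Category.id_comp, ← cancel_mono (m p'.unop), Category.assoc, hf, hm _ _ h,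
          ← Category.assoc, hε, hε]
        exact (c.w (homOfLE (hq h)).op).symm }

include hq hm in
theorem aux_indep (s : Cone E) (i : I) (p p' : P) (h : i ≤ q p) (h' : i ≤ q p') :
    s.π.app (op p) ≫ m p ≫ D.map (homOfLE h).op =
      s.π.app (op p') ≫ m p' ≫ D.map (homOfLE h').op := by
  obtain ⟨r, hr, hr'⟩ := exists_ge_ge p p'
  have key : ∀ (p₀ : P) (h₀ : i ≤ q p₀) (hr₀ : p₀ ≤ r),
      s.π.app (op p₀) ≫ m p₀ ≫ D.map (homOfLE h₀).op =
        s.π.app (op r) ≫ m r ≫ D.map (homOfLE (h₀.trans (hq hr₀))).op := by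
    intro p₀ h₀ hr₀
    have h1 : s.π.app (op p₀) = s.π.app (op r) ≫ E.map (homOfLE hr₀).op :=
      (s.w (homOfLE hr₀).op).symm
    rw [h1, Category.assoc, ← Category.assoc (E.map _), hm _ _ hr₀, Category.assoc,
      ← D.map_comp]
    rfl
  rw [key p h hr, key p' h' hr']

/-- the induced cone over the big system -/
noncomputable def bigCone (s : Cone E) : Cone D where
  pt := s.pt
  π :=
    { app := fun i => s.π.app (op (hcof i.unop).choose) ≫ m (hcof i.unop).choose ≫
        D.map (homOfLE (hcof i.unop).choose_spec).op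
      naturality := by
        intro i i' f
        have h : i'.unop ≤ i.unop := leOfHom f.unop
        have hf : f = (homOfLE h).op := Subsingleton.elim _ _
        dsimp
        rw [Category.id_comp, Category.assoc, Category.assoc, hf, ← D.map_comp]
        exact aux_indep q hq D E m hm s i'.unop _ _ _ (h.trans (hcof i.unop).choose_spec) }

include hq hm in
theorem bigCone_app (s : Cone E) (i : I) (p : P) (h : i ≤ q p) :
    (bigCone q hq hcof D E m hm s).π.app (op i) = s.π.app (op p) ≫ m p ≫ D.map (homOfLE h).op :=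
  aux_indep q hq D E m hm s i _ _ _ h

include hq hm hε hc in
theorem sub_fac (s : Cone E) (p : P) :
    hc.lift (bigCone q hq hcof D E m hm s) ≫ ε p = (s.π.app (op p) : s.pt ⟶ E.obj (op p)) := by
  have h1 : (hc.lift (bigCone q hq hcof D E m hm s) ≫ ε p) ≫ m p =
      (s.π.app (op p) : s.pt ⟶ E.obj (op p)) ≫ m p := by
    have h2 : hc.lift (bigCone q hq hcof D E m hm s) ≫ c.π.app (op (q p)) =
        (bigCone q hq hcof D E m hm s).π.app (op (q p)) := hc.fac _ _
    have h3 := bigCone_app q hq hcof D E m hm s (q p) p le_rfl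
    have h4 : D.map (homOfLE (le_refl (q p))).op = 𝟙 _ := D.map_id _
    rw [h4, Category.comp_id] at h3
    rw [Category.assoc, hε]
    exact h2.trans h3
  exact (cancel_mono (m p)).1 h1

include hq hm hε hc in
theorem sub_uniq (s : Cone E) (g : s.pt ⟶ c.pt)
    (hg : ∀ p : P, g ≫ ε p = (s.π.app (op p) : s.pt ⟶ E.obj (op p))) :
    g = hc.lift (bigCone q hq hcof D E m hm s) := by
  apply hc.uniq (bigCone q hq hcof D E m hm s)
  intro i
  obtain ⟨p, hp⟩ := hcof i.unop
  have h1 : (bigCone q hq hcof D E m hm s).π.app (op i.unop) =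
      s.π.app (op p) ≫ m p ≫ D.map (homOfLE hp).op :=
    bigCone_app q hq hcof D E m hm s i.unop p hp
  refine Eq.trans ?_ h1.symm
  have h2 : c.π.app (op i.unop) = c.π.app (op (q p)) ≫ D.map (homOfLE hp).op :=
    (c.w (homOfLE hp).op).symm
  have h3 : g ≫ c.π.app (op i.unop) = (g ≫ ε p) ≫ m p ≫ D.map (homOfLE hp).op := by
    rw [h2, ← hε, Category.assoc, Category.assoc]
  rw [hg p] at h3
  exact h3

/-- the sub-system has the same limit -/
noncomputable def subConeIsLimit : IsLimit (subCone q hq D c E m hm ε hε) where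
  lift s := hc.lift (bigCone q hq hcof D E m hm s)
  fac s p := sub_fac q hq hcof D c hc E m hm ε hε s p.unop
  uniq s g hg := sub_uniq q hq hcof D c hc E m hm ε hε s g (fun p => hg (op p))

end Sub

section Img

theorem ker_comp_le {X Y W : Scheme.{u}} (p : X ⟶ Y) (g : Y ⟶ W) [QuasiCompact p]
    [IsAffineHom g] : (p ≫ g).ker ≤ (p.imageι ≫ g).ker := by
  intro U a ha
  rw [Scheme.Hom.ker_apply, RingHom.mem_ker] at ha ⊢
  have e : p.toImage ≫ (p.imageι ≫ g) = p ≫ g := by rw [Scheme.Hom.toImage_imageι_assoc]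
  have h0 : ((p.toImage ≫ (p.imageι ≫ g)).app U).hom a = 0 := by rw [e]; exact ha
  rw [Scheme.Hom.comp_app] at h0
  have hinj : Function.Injective (p.toImage.app ((p.imageι ≫ g) ⁻¹ᵁ U)).hom :=
    p.toImage_app_injective ⟨g ⁻¹ᵁ U, U.2.preimage g⟩
  exact hinj (by rw [map_zero]; exact h0)

variable {S : Scheme.{u}} {I : Type u} [Preorder I] (D : Iᵒᵖ ⥤ Over S) (c : Cone D)
  [hA : ∀ i, IsAffineHom (D.obj i).hom] [hQ : QuasiCompact c.pt.hom]

/-- the projections -/
abbrev pr (i : I) : c.pt.left ⟶ (D.obj (op i)).left := (c.π.app (op i)).left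

/-- the transition maps -/
abbrev tr {i k : I} (h : i ≤ k) : (D.obj (op k)).left ⟶ (D.obj (op i)).left :=
  (D.map (homOfLE h).op).left

theorem pr_hom (i : I) : pr D c i ≫ (D.obj (op i)).hom = c.pt.hom := Over.w (c.π.app (op i))

theorem pr_tr {i k : I} (h : i ≤ k) : pr D c k ≫ tr D h = pr D c i := by
  have := c.w (homOfLE h).op
  exact congrArg CommaMorphism.left this

include hA in
theorem isAffineHom_tr {i k : I} (h : i ≤ k) : IsAffineHom (tr D h) := by
  haveI := hA (op i)
  haveI : IsAffineHom (tr D h ≫ (D.obj (op i)).hom) := by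
    rw [Over.w]; exact hA (op k)
  exact IsAffineHom.of_comp (tr D h) (D.obj (op i)).hom

include hA hQ in
theorem quasiCompact_pr (i : I) : QuasiCompact (pr D c i) := by
  haveI := hA (op i)
  haveI : QuasiCompact (pr D c i ≫ (D.obj (op i)).hom) := by rw [pr_hom]; exact hQ
  exact QuasiCompact.of_comp (pr D c i) (D.obj (op i)).hom

/-- the image objects -/
noncomputable def imgObj (i : I) : Over S :=
  Over.mk ((pr D c i).imageι ≫ (D.obj (op i)).hom)

include hA hQ in
theorem img_ker_le {i k : I} (h : i ≤ k) :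
    (pr D c i).imageι.ker ≤ ((pr D c k).imageι ≫ tr D h).ker := by
  haveI := quasiCompact_pr D c k
  haveI := isAffineHom_tr D h
  have h1 : (pr D c i).imageι.ker = (pr D c k ≫ tr D h).ker := by
    rw [pr_tr]
    exact Scheme.IdealSheafData.ker_subschemeι _
  rw [h1]
  exact ker_comp_le _ _

/-- the transition maps of the image system -/
noncomputable def imgMapLeft {i k : I} (h : i ≤ k) :
    (pr D c k).image ⟶ (pr D c i).image :=
  IsClosedImmersion.lift (pr D c i).imageι ((pr D c k).imageι ≫ tr D h) (img_ker_le D c h)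

theorem imgMapLeft_fac {i k : I} (h : i ≤ k) :
    imgMapLeft D c h ≫ (pr D c i).imageι = (pr D c k).imageι ≫ tr D h :=
  IsClosedImmersion.lift_fac _ _ _

theorem tr_refl (i : I) : tr D (le_refl i) = 𝟙 _ := by
  show (D.map (homOfLE (le_refl i)).op).left = 𝟙 _
  have h2 : (homOfLE (le_refl i)).op = 𝟙 (op i) := Subsingleton.elim _ _
  rw [h2, D.map_id]; rfl

theorem tr_trans {i k l : I} (h : i ≤ k) (h' : k ≤ l) :
    tr D (h.trans h') = tr D h' ≫ tr D h := by
  show (D.map _).left = (D.map _).left ≫ (D.map _).left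
  have h2 : (homOfLE (h.trans h')).op = (homOfLE h').op ≫ (homOfLE h).op := Subsingleton.elim _ _
  rw [h2, D.map_comp]; rfl

theorem imgMapLeft_refl (i : I) : imgMapLeft D c (le_refl i) = 𝟙 _ := by
  rw [← cancel_mono (pr D c i).imageι, imgMapLeft_fac, Category.id_comp, tr_refl,
    Category.comp_id]

theorem imgMapLeft_trans {i k l : I} (h : i ≤ k) (h' : k ≤ l) :
    imgMapLeft D c (h.trans h') = imgMapLeft D c h' ≫ imgMapLeft D c h := by
  rw [← cancel_mono (pr D c i).imageι, imgMapLeft_fac, Category.assoc, imgMapLeft_fac,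
    ← Category.assoc, imgMapLeft_fac, Category.assoc, tr_trans]

theorem imgMapLeft_w {i k : I} (h : i ≤ k) :
    imgMapLeft D c h ≫ (imgObj D c i).hom = (imgObj D c k).hom := by
  show imgMapLeft D c h ≫ (pr D c i).imageι ≫ (D.obj (op i)).hom =
    (pr D c k).imageι ≫ (D.obj (op k)).hom
  rw [← Category.assoc, imgMapLeft_fac, Category.assoc]
  congr 1
  exact Over.w _

/-- the transition maps of the image system, over `S` -/
noncomputable def imgMap {i k : I} (h : i ≤ k) : imgObj D c k ⟶ imgObj D c i :=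
  Over.homMk (imgMapLeft D c h) (imgMapLeft_w D c h)

/-- the image system -/
noncomputable def imgD : Iᵒᵖ ⥤ Over S where
  obj i := imgObj D c i.unop
  map {i k} a := imgMap D c (leOfHom a.unop)
  map_id i := by
    apply Over.OverMorphism.ext
    exact imgMapLeft_refl D c i.unop
  map_comp {i k l} a b := by
    apply Over.OverMorphism.ext
    exact imgMapLeft_trans D c (leOfHom b.unop) (leOfHom a.unop)

/-- inclusion of the image -/
noncomputable def imgIncl (i : I) : (imgD D c).obj (op i) ⟶ D.obj (op i) :=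
  Over.homMk (pr D c i).imageι rfl

instance (i : I) : Mono (imgIncl D c i) := by
  haveI : Mono (imgIncl D c i).left := by
    show Mono (pr D c i).imageι
    infer_instance
  exact Over.mono_of_mono_left _

theorem imgIncl_nat (i k : I) (h : i ≤ k) :
    (imgD D c).map (homOfLE h).op ≫ imgIncl D c i =
      imgIncl D c k ≫ D.map (homOfLE (monotone_id h)).op := by
  apply Over.OverMorphism.ext
  exact imgMapLeft_fac D c h

/-- projection to the image -/
noncomputable def imgProj (i : I) : c.pt ⟶ (imgD D c).obj (op i) :=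
  Over.homMk (pr D c i).toImage (by
    show (pr D c i).toImage ≫ (pr D c i).imageι ≫ (D.obj (op i)).hom = c.pt.hom
    rw [Scheme.Hom.toImage_imageι_assoc, pr_hom])

theorem imgProj_incl (i : I) : imgProj D c i ≫ imgIncl D c i = c.π.app (op (id i)) := by
  apply Over.OverMorphism.ext
  exact Scheme.Hom.toImage_imageι _

/-- the cone over the image system -/
noncomputable def imgCone : Cone (imgD D c) :=
  subCone id monotone_id D c (imgD D c) (imgIncl D c) (imgIncl_nat D c) (imgProj D c)
    (imgProj_incl D c)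

/-- the image system has the same limit -/
noncomputable def imgConeIsLimit [IsDirected I (· ≤ ·)] (hc : IsLimit c) :
    IsLimit (imgCone D c) :=
  subConeIsLimit id monotone_id (fun i => ⟨i, le_rfl⟩) D c hc (imgD D c) (imgIncl D c)
    (imgIncl_nat D c) (imgProj D c) (imgProj_incl D c)

theorem imgCone_pt : (imgCone D c).pt = c.pt := rfl

theorem imgCone_π_left (i : I) : ((imgCone D c).π.app (op i)).left = (pr D c i).toImage := rfl

theorem isFinite_imgObj [∀ i, LocallyOfFiniteType (D.obj i).hom] [IsIntegralHom c.pt.hom] (i : I) :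
    IsFinite ((imgD D c).obj (op i)).hom := by
  haveI := hA (op i)
  haveI : IsIntegralHom (pr D c i ≫ (D.obj (op i)).hom) := by
    rw [pr_hom]; infer_instance
  exact isFinite_imageι_comp (pr D c i) (D.obj (op i)).hom

end Img

end Groth.Agent.Helper4.NApx8
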