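import Mathlib
import Groth.Agent.Helper4.NApx1
import Groth.Agent.Helper4.NApx8

set_option autoImplicit false

namespace Groth.Agent.Helper4.NApx9

open CategoryTheory AlgebraicGeometry Limits Opposite
open Groth.Agent.Helper4.NApx0 Groth.Agent.Helper4.NApx8

universe u

/-- An affine morphism to a qcqs scheme is a directed limit of affine finitely presented
schemes. -/
theorem affine_limit {X S : Scheme.{u}} (f : X ⟶ S) [IsAffineHom f] [CompactSpace S]
    [QuasiSeparatedSpace S] :
    ∃ (I : Type u) (_ : Preorder I) (_ : IsDirected I (fun a b => a ≤ b)) (_ : Nonempty I)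
      (D : Iᵒᵖ ⥤ Over S) (c : Cone D) (_ : IsLimit c) (_ : c.pt ≅ Over.mk f),
      ∀ i, IsAffineHom (D.obj i).hom ∧ LocallyOfFinitePresentation (D.obj i).hom := by
  haveI : CompactSpace X := QuasiCompact.compactSpace_of_compactSpace f
  haveI : QuasiSeparatedSpace X := quasiSeparatedSpace_of_quasiSeparated f
  obtain ⟨I, hP, hD, hN, D, c, hc, h1, h2, ⟨e⟩⟩ := Groth.Agent.S7383.result f
  haveI : IsIso e.hom.left := (Over.forget S).map_isIso e.hom
  have h4 : ∀ i, CompactSpace (D.obj i).left := fun i => by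
    haveI := (h1 i).2.1
    exact QuasiCompact.compactSpace_of_compactSpace (D.obj i).hom
  have h5 : ∀ i, QuasiSeparatedSpace (D.obj i).left := fun i => by
    haveI := (h1 i).2.2
    exact quasiSeparatedSpace_of_quasiSeparated (D.obj i).hom
  haveI : IsAffineHom c.pt.hom := by
    have : c.pt.hom = e.hom.left ≫ f := (Over.w e.hom).symm
    rw [this]; infer_instance
  obtain ⟨i₁, hi₁⟩ := NApx1.affine_eventually D c hc h2 h4 h5
  refine ⟨Set.Ici i₁.unop, inferInstance, inferInstance, inferInstance,
    inclIci i₁.unop ⋙ D, c.whisker (inclIci i₁.unop), isLimitRestrict D c hc i₁.unop, e, ?_⟩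
  intro i
  exact ⟨hi₁ _ (homOfLE i.unop.2).op, (h1 _).1⟩

/-- An integral morphism to a qcqs scheme is a directed limit of finite schemes. -/
theorem integral_limit_finite {X S : Scheme.{u}} (f : X ⟶ S) [IsIntegralHom f] [CompactSpace S]
    [QuasiSeparatedSpace S] :
    ∃ (I : Type u) (_ : Preorder I) (_ : IsDirected I (fun a b => a ≤ b)) (_ : Nonempty I)
      (D : Iᵒᵖ ⥤ Over S) (c : Cone D) (_ : IsLimit c) (_ : c.pt ≅ Over.mk f),
      ∀ i, IsFinite (D.obj i).hom := by
  obtain ⟨I, hP, hD, hN, D, c, hc, e, h1⟩ := affine_limit f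
  haveI : IsIso e.hom.left := (Over.forget S).map_isIso e.hom
  haveI hA : ∀ i, IsAffineHom (D.obj i).hom := fun i => (h1 i).1
  haveI : ∀ i, LocallyOfFiniteType (D.obj i).hom := fun i => by
    haveI := (h1 i).2
    infer_instance
  haveI hI : IsIntegralHom c.pt.hom := by
    have : c.pt.hom = e.hom.left ≫ f := (Over.w e.hom).symm
    rw [this]; infer_instance
  haveI hQ : QuasiCompact c.pt.hom := inferInstance
  refine ⟨I, hP, hD, hN, imgD D c, imgCone D c, imgConeIsLimit D c hc, e, ?_⟩
  intro i
  exact isFinite_imgObj D c i.unop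

end Groth.Agent.Helper4.NApx9
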