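import Groth.Agent.Helper4.FTIdeal2
import Groth.Agent.Helper4.QcohEpi
import Groth.Agent.Helper4.SecDict
import Mathlib

set_option autoImplicit false
universe u
open CategoryTheory CategoryTheory.Limits AlgebraicGeometry Opposite TopologicalSpace

namespace Groth.Agent.Helper4.FTIdealSheaf

open Groth.Agent.Helper4.GenLoc Groth.Agent.Helper4.GGSec Groth.Agent.Helper4.AmpleIso
  Groth.Agent.Helper4.StalkExact Groth.Agent.Helper4.QAffSec Groth.Agent.Helper4.TensorInv

variable {X : Scheme.{u}}

/-- the image ideal of a morphism `G ⟶ O_X` over an open -/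
noncomputable def imIdeal {G : X.Modules} (ιG : G ⟶ Coh.structureModule X) (V : X.Opens) :
    Ideal Γ(X, V) :=
  LinearMap.range (Groth.Agent.Helper4.QcohEpi.appLin ιG V)

theorem mem_imIdeal {G : X.Modules} (ιG : G ⟶ Coh.structureModule X) (V : X.Opens) (r : Γ(X, V)) :
    r ∈ imIdeal ιG V ↔ ∃ g : Γ(G, V), toFn (ιG.app V g) = r := Iff.rfl

/-- the ideal sheaf datum attached to a quasi-coherent module mapping to `O_X` -/
noncomputable def idealSheafOfModule (G : X.Modules) [G.IsQuasicoherent]
    (ιG : G ⟶ Coh.structureModule X) : X.IdealSheafData where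
  ideal V := imIdeal ιG V.1
  map_ideal_basicOpen := by
    intro V f
    apply le_antisymm
    · rw [Ideal.map_le_iff_le_comap]
      rintro r ⟨g, rfl⟩
      refine ⟨G.presheaf.map (homOfLE (X.basicOpen_le f)).op g, ?_⟩
      exact app_res ιG (homOfLE (X.basicOpen_le f)) g
    · rintro y ⟨g', rfl⟩
      obtain ⟨k, g, hg⟩ := Groth.Agent.Helper4.StalkDict.exists_pow_smul_eq_res V.2 G f g'
      have h1 : X.presheaf.map (homOfLE (X.basicOpen_le f)).op (f ^ k) •
          toFn (ιG.app (X.basicOpen f) g') =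
          X.presheaf.map (homOfLE (X.basicOpen_le f)).op (toFn (ιG.app V.1 g)) := by
        have := congrArg (fun t => toFn (ιG.app (X.basicOpen f) t)) hg
        simp only at this
        rw [Scheme.Modules.Hom.app_smul] at this
        refine this.trans ?_
        exact congrArg toFn (app_res ιG (homOfLE (X.basicOpen_le f)) g)
      have hu : IsUnit (X.presheaf.map (homOfLE (X.basicOpen_le f)).op (f ^ k)) := by
        rw [map_pow]
        exact (RingedSpace.isUnit_res_basicOpen X.toRingedSpace f).pow k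
      have h2 : X.presheaf.map (homOfLE (X.basicOpen_le f)).op (toFn (ιG.app V.1 g)) ∈
          Ideal.map (X.presheaf.map (homOfLE (X.basicOpen_le f)).op).hom (imIdeal ιG V.1) :=
        Ideal.mem_map_of_mem _ ⟨g, rfl⟩
      rw [← h1] at h2
      exact (Ideal.unit_mul_mem_iff_mem _ hu).mp h2

/-- S9823 (⇒): a quasi-compact open is the complement of the support of a finite type ideal -/
theorem exists_ft_idealSheafData [CompactSpace X] [QuasiSeparatedSpace X] (U : X.Opens)
    (hU : IsCompact (U : Set X)) :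
    ∃ I : X.IdealSheafData, (∀ V : X.affineOpens, (I.ideal V).FG) ∧
      (I.support : Set X) = (U : Set X)ᶜ := by
  obtain ⟨G, ιG, hmono, hGq, hGft, hbij, hvan⟩ :=
    Groth.Agent.Helper4.FTIdeal2.exists_ft_ideal_module' U hU
  haveI : G.IsQuasicoherent := hGq
  refine ⟨idealSheafOfModule G ιG, fun V => ?_, ?_⟩
  · haveI : Module.Finite Γ(X, V.1) Γ(G, V.1) :=
      Groth.Agent.Helper4.SecDict.finite_sections V.2 G hGq hGft
    change (LinearMap.range (Groth.Agent.Helper4.QcohEpi.appLin ιG V.1)).FG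
    rw [LinearMap.range_eq_map]
    exact Submodule.FG.map _ Module.Finite.fg_top
  · ext x
    rw [Scheme.IdealSheafData.coe_support_eq_eq_iInter_zeroLocus]
    simp only [Set.mem_iInter, Scheme.mem_zeroLocus_iff, SetLike.mem_coe, Set.mem_compl_iff]
    constructor
    · intro h hxU
      obtain ⟨V, hV, hxV, hVU⟩ := exists_isAffineOpen_mem_and_subset (X := X) (x := x) (U := U) hxU
      obtain ⟨g, hg⟩ := (hbij V hVU).2 (one X V)
      have h1 : (1 : Γ(X, V)) ∈ (idealSheafOfModule G ιG).ideal ⟨V, hV⟩ := ⟨g, hg⟩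
      have h2 := h ⟨V, hV⟩ 1 h1
      rw [Scheme.basicOpen_of_isUnit _ isUnit_one] at h2
      exact h2 hxV
    · rintro hxU V r ⟨g, rfl⟩ hx
      exact hxU (hvan V.1 g hx)

/-- S9823 (⇐) -/
theorem isCompact_of_ft_idealSheafData [CompactSpace X] (U : X.Opens) (I : X.IdealSheafData)
    (hI : ∀ V : X.affineOpens, (I.ideal V).FG) (hsupp : (I.support : Set X) = (U : Set X)ᶜ) :
    IsCompact (U : Set X) := by
  have key : ∀ V : X.affineOpens, IsCompact ((U : Set X) ∩ V.1) := by
    intro V
    obtain ⟨S, hS⟩ := hI V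
    have h1 : (U : Set X) ∩ V.1 = ⋃ f ∈ S, (X.basicOpen f : Set X) := by
      have h2 := I.coe_support_inter V
      rw [hsupp, ← hS, Scheme.zeroLocus_span] at h2
      ext x
      simp only [Set.mem_inter_iff, SetLike.mem_coe, Set.mem_iUnion, exists_prop]
      constructor
      · rintro ⟨hxU, hxV⟩
        by_contra hcon
        push Not at hcon
        have h3 : x ∈ X.zeroLocus (U := V.1) (S : Set Γ(X, V.1)) ∩ V.1 :=
          ⟨(Scheme.mem_zeroLocus_iff X _ x).mpr (fun f hf => hcon f hf), hxV⟩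
        rw [← h2] at h3
        exact h3.1 hxU
      · rintro ⟨f, hf, hxf⟩
        have hxV : x ∈ V.1 := X.basicOpen_le f hxf
        refine ⟨?_, hxV⟩
        by_contra hxU
        have h3 : x ∈ (U : Set X)ᶜ ∩ V.1 := ⟨hxU, hxV⟩
        rw [h2] at h3
        exact (Scheme.mem_zeroLocus_iff X _ x).mp h3.1 f hf hxf
    rw [h1]
    exact S.isCompact_biUnion (fun f _ => (V.2.basicOpen f).isCompact)
  have hex : ∀ x : X, ∃ V : X.affineOpens, x ∈ V.1 := by
    intro x
    obtain ⟨V, hV, hxV, -⟩ := exists_isAffineOpen_mem_and_subset (X := X) (x := x) (U := ⊤) trivial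
    exact ⟨⟨V, hV⟩, hxV⟩
  choose V hxV using hex
  obtain ⟨t, ht⟩ := CompactSpace.elim_nhds_subcover (fun x => ((V x).1 : Set X))
    (fun x => (V x).1.isOpen.mem_nhds (hxV x))
  have h1 : (U : Set X) = ⋃ x ∈ t, (U : Set X) ∩ (V x).1 := by
    rw [← Set.inter_iUnion₂, ht]; exact (Set.inter_univ _).symm
  rw [h1]
  exact t.isCompact_biUnion (fun x _ => key (V x))

end Groth.Agent.Helper4.FTIdealSheaf
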