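import Mathlib
import Groth.Agent.Helper4.NApx9
import Groth.Agent.Lead.ClImmLim
import Groth.Agent.S2154

set_option autoImplicit false

namespace Groth.Agent.Helper4.NApx11

open CategoryTheory AlgebraicGeometry Limits Opposite
open Groth.Agent.Helper4.NApx0 Groth.Agent.Helper4.NApx8
open Groth.Agent.Lead.Thick Groth.Agent.Lead.LimCISys

universe u

theorem ker_fg_of_surjective_of_fp {R B : Type*} [CommRing R] [CommRing B] (φ : R →+* B)
    (hs : Function.Surjective φ) (hfp : φ.FinitePresentation) : (RingHom.ker φ).FG := by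
  algebraize [φ]
  have := Algebra.FinitePresentation.ker_fG_of_surjective (Algebra.ofId R B) hs
  have h2 : (Algebra.ofId R B).toRingHom = φ := rfl
  rw [h2] at this
  exact this

/-- The ideal sheaf of a finitely presented closed immersion is of finite type. -/
theorem ker_fg_of_lfp {Z X : Scheme.{u}} (ι : Z ⟶ X) [IsClosedImmersion ι]
    [LocallyOfFinitePresentation ι] (U : X.affineOpens) : (ι.ker.ideal U).FG := by
  rw [Scheme.Hom.ker_apply]
  apply ker_fg_of_surjective_of_fp _ (ι.app_surjective U.1 U.2)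
  rw [Scheme.Hom.app_eq_appLE]
  exact HasRingHomProperty.appLE (P := @LocallyOfFinitePresentation) ι inferInstance U
    ⟨ι ⁻¹ᵁ U.1, U.2.preimage ι⟩ le_rfl

/-- The pullback of a finite type ideal sheaf is of finite type. -/
theorem comap_fg {X Y : Scheme.{u}} (f : X ⟶ Y) (J : Y.IdealSheafData)
    (hJ : ∀ V : Y.affineOpens, (J.ideal V).FG) (U : X.affineOpens) :
    ((J.comap f).ideal U).FG := by
  haveI : LocallyOfFinitePresentation J.subschemeι :=
    Groth.Agent.Lead.ClImmLim.lfp_subschemeι J hJ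
  exact ker_fg_of_lfp (pullback.fst f J.subschemeι) U

section EF

variable {Z X' S : Scheme.{u}} (t : Z ⟶ X') [IsClosedImmersion t] (q : X' ⟶ S)

/-- structure maps to `S` of the system of finite type thickenings -/
noncomputable def tq : Groth.Agent.Lead.Thick.D t ⟶ (Functor.const (Idx t)ᵒᵖ).obj S where
  app J := J.unop.1.subschemeι ≫ q
  naturality J₁ J₂ f := by
    change Scheme.IdealSheafData.inclusion (show J₂.unop.1 ≤ J₁.unop.1 from leOfHom f.unop) ≫
      J₂.unop.1.subschemeι ≫ q = (J₁.unop.1.subschemeι ≫ q) ≫ 𝟙 S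
    rw [Scheme.IdealSheafData.inclusion_subschemeι_assoc, Category.comp_id]

/-- Between a finite type sub-ideal and the ideal of an integral closed subscheme, there is a
finite type ideal with finite closed subscheme. -/
theorem exists_ft_finite [CompactSpace X'] [QuasiSeparatedSpace X'] [CompactSpace S]
    [QuasiSeparatedSpace S] [LocallyOfFiniteType q] [IsIntegralHom (t ≫ q)] (L₁ : Idx t) :
    ∃ L : Idx t, L₁ ≤ L ∧ IsFinite (L.1.subschemeι ≫ q) := by
  haveI : IsCofiltered (Idx t)ᵒᵖ := isCofiltered_op_of_directed (Idx t)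
  let D' := overDiag (Groth.Agent.Lead.Thick.D t) (tq t q)
  let c' := overCone (Groth.Agent.Lead.Thick.D t) (tq t q) (cone t) (op (botIdx t))
  have hc' : IsLimit c' := overConeIsLimit _ _ _ (isLimitCone t) _
  haveI : ∀ (i j : (Idx t)ᵒᵖ) (f : i ⟶ j), IsFinite (D'.map f).left := fun i j f => by
    show IsFinite (Scheme.IdealSheafData.inclusion
      (show j.unop.1 ≤ i.unop.1 from leOfHom f.unop))
    infer_instance
  haveI : ∀ i, CompactSpace (D'.obj i).left := fun i => by
    show CompactSpace ↥(i.unop.1.subscheme)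
    exact QuasiCompact.compactSpace_of_compactSpace i.unop.1.subschemeι
  haveI : ∀ i, QuasiSeparatedSpace (D'.obj i).left := fun i => by
    show QuasiSeparatedSpace ↥(i.unop.1.subscheme)
    exact quasiSeparatedSpace_of_quasiSeparated i.unop.1.subschemeι
  haveI : ∀ i, LocallyOfFiniteType (D'.obj i).hom := fun i => by
    show LocallyOfFiniteType (i.unop.1.subschemeι ≫ q)
    infer_instance
  haveI : IsIntegralHom c'.pt.hom := by
    show IsIntegralHom (π t (botIdx t) ≫ (botIdx t).1.subschemeι ≫ q)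
    rw [π_fac_assoc]; infer_instance
  obtain ⟨i₀, hi₀⟩ := Groth.Agent.S2154.result S D' c' hc'
  obtain ⟨L, h1, h2⟩ := exists_ge_ge L₁ i₀.unop
  refine ⟨L, h1, ?_⟩
  exact hi₀ (op L) (homOfLE h2).op

end EF

section Dbl

open Scheme.IdealSheafData

variable {S : Scheme.{u}} {A : Type u} [Preorder A] (D : Aᵒᵖ ⥤ Over S) (c : Cone D)
  [hA : ∀ i, IsAffineHom (D.obj i).hom] [hQ : QuasiCompact c.pt.hom]

/-- pairs of a stage and a finite type ideal with finite closed subscheme -/
structure Pidx where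
  /-- the stage -/
  a : A
  /-- the ideal -/
  J : ((D.obj (op a)).left).IdealSheafData
  le : J ≤ (pr D c a).ker
  fg : ∀ V : ((D.obj (op a)).left).affineOpens, (J.ideal V).FG
  fin : IsFinite (J.subschemeι ≫ (D.obj (op a)).hom)

instance : Preorder (Pidx D c) where
  le p p' := p.a ≤ p'.a ∧ ∀ h : p.a ≤ p'.a, p.J ≤ p'.J.map (tr D h)
  le_refl p := ⟨le_rfl, fun h => by rw [tr_refl, map_id]⟩
  le_trans p p' p'' h1 h2 := ⟨h1.1.trans h2.1, fun h => by
    have h3 : tr D h = tr D h2.1 ≫ tr D h1.1 := tr_trans D h1.1 h2.1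
    rw [h3, map_comp]
    exact (h1.2 h1.1).trans (map_mono _ (h2.2 h2.1))⟩

variable {D c}

theorem Pidx.le_a {p p' : Pidx D c} (h : p ≤ p') : p.a ≤ p'.a := h.1

theorem Pidx.le_J {p p' : Pidx D c} (h : p ≤ p') : p.J ≤ p'.J.map (tr D h.1) := h.2 h.1

variable (D c)

/-- objects of the double system -/
noncomputable def dblObj (p : Pidx D c) : Over S :=
  Over.mk (p.J.subschemeι ≫ (D.obj (op p.a)).hom)

variable {D c}

/-- transition maps -/
noncomputable def dblMapLeft {p p' : Pidx D c} (h : p ≤ p') : p'.J.subscheme ⟶ p.J.subscheme :=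
  subschemeMap p'.J p.J (tr D h.1) (h.2 h.1)

theorem dblMapLeft_fac {p p' : Pidx D c} (h : p ≤ p') :
    dblMapLeft h ≫ p.J.subschemeι = p'.J.subschemeι ≫ tr D h.1 :=
  subschemeMap_subschemeι _ _ _ _

theorem dblMapLeft_refl (p : Pidx D c) : dblMapLeft (le_refl p) = 𝟙 _ := by
  rw [← cancel_mono p.J.subschemeι, dblMapLeft_fac, Category.id_comp, tr_refl, Category.comp_id]

theorem dblMapLeft_trans {p p' p'' : Pidx D c} (h : p ≤ p') (h' : p' ≤ p'') :
    dblMapLeft (h.trans h') = dblMapLeft h' ≫ dblMapLeft h := by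
  rw [← cancel_mono p.J.subschemeι, dblMapLeft_fac, Category.assoc, dblMapLeft_fac,
    ← Category.assoc, dblMapLeft_fac, Category.assoc]
  congr 1
  exact tr_trans D h.1 h'.1

theorem dblMapLeft_w {p p' : Pidx D c} (h : p ≤ p') :
    dblMapLeft h ≫ (dblObj D c p).hom = (dblObj D c p').hom := by
  show dblMapLeft h ≫ p.J.subschemeι ≫ (D.obj (op p.a)).hom =
    p'.J.subschemeι ≫ (D.obj (op p'.a)).hom
  rw [← Category.assoc, dblMapLeft_fac, Category.assoc]
  congr 1
  exact Over.w _

/-- transition maps over `S` -/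
noncomputable def dblMap {p p' : Pidx D c} (h : p ≤ p') : dblObj D c p' ⟶ dblObj D c p :=
  Over.homMk (dblMapLeft h) (dblMapLeft_w h)

variable (D c)

/-- the double system -/
noncomputable def dblD : (Pidx D c)ᵒᵖ ⥤ Over S where
  obj p := dblObj D c p.unop
  map {p p'} f := dblMap (leOfHom f.unop)
  map_id p := by
    apply Over.OverMorphism.ext
    exact dblMapLeft_refl p.unop
  map_comp {p p' p''} f g := by
    apply Over.OverMorphism.ext
    exact dblMapLeft_trans (leOfHom g.unop) (leOfHom f.unop)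

/-- inclusion of the closed subscheme -/
noncomputable def dblIncl (p : Pidx D c) : (dblD D c).obj (op p) ⟶ D.obj (op p.a) :=
  Over.homMk p.J.subschemeι rfl

instance (p : Pidx D c) : Mono (dblIncl D c p) := by
  haveI : Mono (dblIncl D c p).left := by
    show Mono p.J.subschemeι
    infer_instance
  exact Over.mono_of_mono_left _

theorem dbl_a_mono : Monotone (Pidx.a : Pidx D c → A) := fun _ _ h => h.1

theorem dblIncl_nat (p p' : Pidx D c) (h : p ≤ p') :
    (dblD D c).map (homOfLE h).op ≫ dblIncl D c p =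
      dblIncl D c p' ≫ D.map (homOfLE (dbl_a_mono D c h)).op := by
  apply Over.OverMorphism.ext
  exact dblMapLeft_fac h

/-- projection to the closed subscheme -/
noncomputable def dblProjLeft (p : Pidx D c) : c.pt.left ⟶ p.J.subscheme :=
  IsClosedImmersion.lift p.J.subschemeι (pr D c p.a) (by
    rw [ker_subschemeι]; exact p.le)

theorem dblProjLeft_fac (p : Pidx D c) : dblProjLeft D c p ≫ p.J.subschemeι = pr D c p.a :=
  IsClosedImmersion.lift_fac _ _ _

/-- projection to the closed subscheme, over `S` -/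
noncomputable def dblProj (p : Pidx D c) : c.pt ⟶ (dblD D c).obj (op p) :=
  Over.homMk (dblProjLeft D c p) (by
    show dblProjLeft D c p ≫ p.J.subschemeι ≫ (D.obj (op p.a)).hom = c.pt.hom
    rw [← Category.assoc, dblProjLeft_fac, pr_hom])

theorem dblProj_incl (p : Pidx D c) : dblProj D c p ≫ dblIncl D c p = c.π.app (op p.a) := by
  apply Over.OverMorphism.ext
  exact dblProjLeft_fac D c p

/-- the cone over the double system -/
noncomputable def dblCone : Cone (dblD D c) :=
  subCone Pidx.a (dbl_a_mono D c) D c (dblD D c) (dblIncl D c) (dblIncl_nat D c) (dblProj D c)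
    (dblProj_incl D c)

section Fin

variable [CompactSpace S] [QuasiSeparatedSpace S] [hT : ∀ i, LocallyOfFiniteType (D.obj i).hom]
  [hI : IsIntegralHom c.pt.hom]

include hA hQ hT hI in
theorem exists_ft_finite' (a : A) (L₀ : ((D.obj (op a)).left).IdealSheafData)
    (h1 : L₀ ≤ (pr D c a).ker)
    (h2 : ∀ V : ((D.obj (op a)).left).affineOpens, (L₀.ideal V).FG) :
    ∃ L : ((D.obj (op a)).left).IdealSheafData, L₀ ≤ L ∧ L ≤ (pr D c a).ker ∧
      (∀ V : ((D.obj (op a)).left).affineOpens, (L.ideal V).FG) ∧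
      IsFinite (L.subschemeι ≫ (D.obj (op a)).hom) := by
  haveI := hA (op a)
  haveI := hT (op a)
  haveI : CompactSpace (D.obj (op a)).left :=
    QuasiCompact.compactSpace_of_compactSpace (D.obj (op a)).hom
  haveI : QuasiSeparatedSpace (D.obj (op a)).left :=
    quasiSeparatedSpace_of_quasiSeparated (D.obj (op a)).hom
  haveI : IsIntegralHom (pr D c a ≫ (D.obj (op a)).hom) := by
    rw [pr_hom]; exact hI
  haveI : IsIntegralHom ((pr D c a).imageι ≫ (D.obj (op a)).hom) := by
    haveI := isFinite_imageι_comp (pr D c a) (D.obj (op a)).hom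
    infer_instance
  have hk : (pr D c a).imageι.ker = (pr D c a).ker := ker_subschemeι _
  obtain ⟨L, hL1, hL2⟩ := exists_ft_finite (pr D c a).imageι (D.obj (op a)).hom
    ⟨L₀, by rw [hk]; exact h1, h2⟩
  exact ⟨L.1, hL1, by rw [← hk]; exact L.2.1, L.2.2, hL2⟩

include hA hQ hT hI in
theorem dbl_cof (a : A) : ∃ p : Pidx D c, a ≤ p.a := by
  obtain ⟨L, -, h2, h3, h4⟩ := exists_ft_finite' D c a ⊥ bot_le (fun V => by
    rw [ideal_bot]; exact Submodule.fg_bot)
  exact ⟨⟨a, L, h2, h3, h4⟩, le_rfl⟩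

include hA hQ hT hI in
theorem dbl_directed [IsDirected A (· ≤ ·)] : IsDirected (Pidx D c) (· ≤ ·) := by
  constructor
  intro p p'
  obtain ⟨a, h1, h2⟩ := exists_ge_ge p.a p'.a
  have e1 : p.J.comap (tr D h1) ≤ (pr D c a).ker := by
    rw [← le_map_iff_comap_le, map_ker, pr_tr]; exact p.le
  have e2 : p'.J.comap (tr D h2) ≤ (pr D c a).ker := by
    rw [← le_map_iff_comap_le, map_ker, pr_tr]; exact p'.le
  obtain ⟨L, hL1, hL2, hL3, hL4⟩ := exists_ft_finite' D c a
    (p.J.comap (tr D h1) ⊔ p'.J.comap (tr D h2)) (sup_le e1 e2) (fun V => by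
      rw [ideal_sup]
      exact Submodule.FG.sup (comap_fg _ _ p.fg V) (comap_fg _ _ p'.fg V))
  refine ⟨⟨a, L, hL2, hL3, hL4⟩, ⟨h1, fun h => ?_⟩, ⟨h2, fun h => ?_⟩⟩
  · exact le_map_iff_comap_le.mpr (le_sup_left.trans hL1)
  · exact le_map_iff_comap_le.mpr (le_sup_right.trans hL1)

/-- the double system has the same limit -/
noncomputable def dblConeIsLimit [IsDirected A (· ≤ ·)] (hc : IsLimit c) :
    IsLimit (dblCone D c) :=
  haveI := dbl_directed D c
  subConeIsLimit Pidx.a (dbl_a_mono D c) (dbl_cof D c) D c hc (dblD D c) (dblIncl D c)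
    (dblIncl_nat D c) (dblProj D c) (dblProj_incl D c)

end Fin

end Dbl

/-- An integral morphism to a qcqs scheme is a directed limit of finite finitely presented
schemes. -/
theorem integral_limit_finite_fp {X S : Scheme.{u}} (f : X ⟶ S) [IsIntegralHom f]
    [CompactSpace S] [QuasiSeparatedSpace S] :
    ∃ (I : Type u) (_ : Preorder I) (_ : IsDirected I (fun a b => a ≤ b)) (_ : Nonempty I)
      (D : Iᵒᵖ ⥤ Over S) (c : Cone D) (_ : IsLimit c) (_ : c.pt ≅ Over.mk f),
      ∀ i, IsFinite (D.obj i).hom ∧ LocallyOfFinitePresentation (D.obj i).hom := by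
  obtain ⟨A, hP, hD, hN, D, c, hc, e, h1⟩ := NApx9.affine_limit f
  haveI : IsIso e.hom.left := (Over.forget S).map_isIso e.hom
  haveI hA : ∀ i, IsAffineHom (D.obj i).hom := fun i => (h1 i).1
  haveI hT : ∀ i, LocallyOfFiniteType (D.obj i).hom := fun i => by
    haveI := (h1 i).2
    infer_instance
  haveI hI : IsIntegralHom c.pt.hom := by
    have : c.pt.hom = e.hom.left ≫ f := (Over.w e.hom).symm
    rw [this]; infer_instance
  haveI hQ : QuasiCompact c.pt.hom := inferInstance
  obtain ⟨a⟩ := hN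
  obtain ⟨p, -⟩ := dbl_cof D c a
  refine ⟨Pidx D c, inferInstance, dbl_directed D c, ⟨p⟩, dblD D c, dblCone D c,
    dblConeIsLimit D c hc, e, ?_⟩
  intro i
  refine ⟨i.unop.fin, ?_⟩
  show LocallyOfFinitePresentation (i.unop.J.subschemeι ≫ (D.obj (op i.unop.a)).hom)
  haveI := Groth.Agent.Lead.ClImmLim.lfp_subschemeι i.unop.J i.unop.fg
  haveI := (h1 (op i.unop.a)).2
  infer_instance

end Groth.Agent.Helper4.NApx11
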