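import Groth.Prelude.Def_W4c6modpairsegaMP
import Groth.Agent.Helper4.NApx23
import Mathlib

set_option autoImplicit false
universe u

namespace Groth.Agent.Helper4.NApx27

open AlgebraicGeometry CategoryTheory Limits
open Groth.Agent.Helper4.NApx19 Groth.Agent.Helper4.NApx21

/-- a morphism for which the preimage of an open is schematically dense factors through the
schematic closure of that open -/
theorem imageι_ker_le {P W : Scheme.{u}} (Ω : P.Opens) (l : W ⟶ P)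
    [IsSchemeTheoreticallyDominant (l ⁻¹ᵁ Ω).ι] : Ω.ι.imageι.ker ≤ l.ker := by
  have h1 : Ω.ι.imageι.ker = Ω.ι.ker := Scheme.IdealSheafData.ker_subschemeι _
  have h2 : ((l ⁻¹ᵁ Ω).ι ≫ l).ker = l.ker := by
    rw [Scheme.Hom.ker_comp (l ⁻¹ᵁ Ω).ι,
      IsSchemeTheoreticallyDominant.ker_eq_bot (l ⁻¹ᵁ Ω).ι, Scheme.IdealSheafData.map_bot]
  have h3 : (l ⁻¹ᵁ Ω).ι ≫ l = (l ∣_ Ω) ≫ Ω.ι := (morphismRestrict_ι l Ω).symm
  rw [h1, ← h2, h3]
  exact Scheme.Hom.le_ker_comp _ _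

/-- uniqueness of blow-ups -/
theorem isBlowUp_unique {X X₁ X₂ : Scheme.{u}} (𝓘 : X.IdealSheafData) (b₁ : X₁ ⟶ X) (b₂ : X₂ ⟶ X)
    (h₁ : BlowUp.IsBlowUp b₁ 𝓘) (h₂ : BlowUp.IsBlowUp b₂ 𝓘) :
    ∃ e : X₁ ≅ X₂, e.hom ≫ b₂ = b₁ := by
  obtain ⟨u, hu, -⟩ := h₂.2 X₁ b₁ h₁.1
  obtain ⟨v, hv, -⟩ := h₁.2 X₂ b₂ h₂.1
  have huv : u ≫ v = 𝟙 X₁ :=
    (h₁.2 X₁ b₁ h₁.1).unique (by rw [Category.assoc, hv, hu]) (Category.id_comp _)
  have hvu : v ≫ u = 𝟙 X₂ :=
    (h₂.2 X₂ b₂ h₂.1).unique (by rw [Category.assoc, hu, hv]) (Category.id_comp _)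
  exact ⟨⟨u, v, huv, hvu⟩, hu⟩

/-- the strict transform is a blow-up in the inverse image ideal -/
theorem isBlowUp_strictTransform {X X' Y : Scheme.{u}} (𝓘 : X.IdealSheafData) (b : X' ⟶ X)
    (hb : BlowUp.IsBlowUp b 𝓘) (f : Y ⟶ X) :
    BlowUp.IsBlowUp
      ((pullback.fst b f ⁻¹ᵁ ModPair.interior (𝓘.comap b)).ι.imageι ≫ pullback.snd b f)
      (𝓘.comap f) := by
  set E := 𝓘.comap b with hE
  have hEc : BlowUp.IsEffCartierIdeal E := hb.1
  set pr₁ := pullback.fst b f with hpr₁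
  set pr₂ := pullback.snd b f with hpr₂
  set Ω := pr₁ ⁻¹ᵁ ModPair.interior E with hΩ
  set m := Ω.ι.imageι with hm
  haveI qΩ : QuasiCompact Ω.ι := Groth.Agent.Helper4.NApx14.quasiCompact_preimage_interior_ι E hEc pr₁
  obtain ⟨dP, qP⟩ := Groth.Agent.Helper4.NApx23.toImage_dense Ω
  have hcomm : (m ≫ pr₁) ≫ b = (m ≫ pr₂) ≫ f := by
    rw [Category.assoc, Category.assoc, pullback.condition]
  have hid : (𝓘.comap f).comap (m ≫ pr₂) = E.comap (m ≫ pr₁) := by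
    rw [← Scheme.IdealSheafData.comap_comp, ← hcomm, Scheme.IdealSheafData.comap_comp]
  constructor
  · rw [hid]
    haveI : IsSchemeTheoreticallyDominant ((m ≫ pr₁) ⁻¹ᵁ ModPair.interior E).ι := dP
    exact Groth.Agent.Helper4.NApx14.isEffCartierIdeal_comap E hEc (m ≫ pr₁)
  · intro W g hg
    have hg' : BlowUp.IsEffCartierIdeal (𝓘.comap (g ≫ f)) := by
      rw [Scheme.IdealSheafData.comap_comp]; exact hg
    obtain ⟨h, hh, hhu⟩ := hb.2 W (g ≫ f) hg'
    set l := pullback.lift h g hh with hl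
    have hl1 : l ≫ pr₁ = h := pullback.lift_fst _ _ _
    have hl2 : l ≫ pr₂ = g := pullback.lift_snd _ _ _
    have hpre : l ⁻¹ᵁ Ω = ModPair.interior (𝓘.comap (g ≫ f)) := by
      rw [← hh, Scheme.IdealSheafData.comap_comp, interior_comap, ← hl1]
      rfl
    haveI : IsSchemeTheoreticallyDominant (l ⁻¹ᵁ Ω).ι := by
      rw [hpre]
      exact isSchemeTheoreticallyDominant_interior_ι _ hg'
    have hker : m.ker ≤ l.ker := imageι_ker_le Ω l
    refine ⟨IsClosedImmersion.lift m l hker, ?_, ?_⟩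
    · show IsClosedImmersion.lift m l hker ≫ m ≫ pr₂ = g
      rw [← Category.assoc, IsClosedImmersion.lift_fac, hl2]
    · intro α' hα'
      have hα'' : α' ≫ m ≫ pr₂ = g := hα'
      have e1 : (α' ≫ m ≫ pr₁) ≫ b = g ≫ f := by
        rw [Category.assoc, Category.assoc, pullback.condition, ← hα'']
        simp only [Category.assoc]
        rfl
      have e2 : α' ≫ m ≫ pr₁ = h := hhu _ e1
      rw [← cancel_mono m, IsClosedImmersion.lift_fac]
      apply pullback.hom_ext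
      · rw [Category.assoc, e2, hl1]
      · rw [Category.assoc, hα'', hl2]

end Groth.Agent.Helper4.NApx27
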