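import Groth.Prelude.Def_Rees
import Groth.Prelude.Def_BlowUp2
import Groth.Prelude.Def_ega3
import Groth.Agent.Helper4.NApx42
import Groth.Agent.Helper4.NApx27
import Groth.Agent.Helper4.NApx11
import Mathlib

set_option autoImplicit false
universe u

namespace Groth.Agent.Helper4.NApx49

open AlgebraicGeometry CategoryTheory Limits Polynomial
open Groth.Agent.Helper4.NApx37 Groth.Agent.Helper4.NApx38

section Affine

variable {A : Type u} [CommRing A] {I : Ideal A}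

theorem tower : IsScalarTower A (𝒜 A I 0) ↥(reesAlgebra I) :=
  IsScalarTower.of_algebraMap_eq' (R := A) (S := 𝒜 A I 0) (A := ↥(reesAlgebra I)) rfl

theorem finiteType_rees (hI : I.FG) : Algebra.FiniteType (𝒜 A I 0) ↥(reesAlgebra I) := by
  haveI : Algebra.FiniteType A ↥(reesAlgebra I) :=
    (Subalgebra.fg_iff_finiteType _).mp (reesAlgebra.fg hI)
  haveI := tower (A := A) (I := I)
  exact Algebra.FiniteType.of_restrictScalars_finiteType A (𝒜 A I 0) ↥(reesAlgebra I)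

theorem coe_algebraMap_zero (x : A) :
    ((algebraMap A (𝒜 A I 0) x : 𝒜 A I 0) : reesAlgebra I) = cc x := by
  rw [cc_eq]
  rfl

theorem bijective_algebraMap_zero : Function.Bijective (algebraMap A (𝒜 A I 0)) := by
  constructor
  · intro x y h
    have h1 : (cc x : reesAlgebra I) = cc y := by
      rw [← coe_algebraMap_zero, ← coe_algebraMap_zero, h]
    have := congrArg (fun z : reesAlgebra I => (z : A[X]).coeff 0) h1
    simpa [cc, coe_mono] using this
  · intro y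
    refine ⟨((y : reesAlgebra I) : A[X]).coeff 0, ?_⟩
    apply Subtype.ext
    rw [coe_algebraMap_zero]
    exact (eq_mono y.2).symm

/-- `Proj` of the Rees algebra of a finitely generated ideal is proper over the base -/
theorem isProper_bb (hI : I.FG) : IsProper (bb A I) := by
  haveI := finiteType_rees hI
  let e := RingEquiv.ofBijective (algebraMap A (𝒜 A I 0)) bijective_algebraMap_zero
  let m : CommRingCat.of A ⟶ CommRingCat.of (𝒜 A I 0) :=
    CommRingCat.ofHom (algebraMap A (𝒜 A I 0))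
  have he : m = e.toCommRingCatIso.hom := rfl
  haveI : IsIso m := by
    rw [he]; infer_instance
  show IsProper (Proj.toSpecZero (𝒜 A I) ≫ Spec.map m)
  infer_instance

end Affine

/-- proper blow-ups exist on affine schemes for finitely generated ideals -/
theorem exists_proper_isBlowUp_of_isAffine {Z : Scheme.{u}} [IsAffine Z] (𝓙 : Z.IdealSheafData)
    (hfg : (𝓙.ideal ⟨⊤, isAffineOpen_top Z⟩).FG) :
    ∃ (B : Scheme.{u}) (b : B ⟶ Z), BlowUp.IsBlowUp b 𝓙 ∧ IsProper b := by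
  obtain ⟨J, hJ⟩ : ∃ J : Ideal Γ(Z, ⊤), J = 𝓙.ideal ⟨⊤, isAffineOpen_top Z⟩ := ⟨_, rfl⟩
  have e : 𝓙 = (Curv2.idealSheaf Γ(Z, ⊤) J).comap Z.toSpecΓ := by
    rw [hJ]; exact Groth.Agent.Helper4.NApx42.eq_comap_toSpecΓ 𝓙
  have hJfg : J.FG := hJ ▸ hfg
  have h := Groth.Agent.Helper4.NApx41.isBlowUp_proj (A := Γ(Z, ⊤)) (I := J)
  have h2 := Groth.Agent.Helper4.NApx42.isBlowUp_comp_iso _ _ h Z.isoSpec.symm
  haveI := isProper_bb hJfg
  refine ⟨_, bb Γ(Z, ⊤) J ≫ Z.isoSpec.symm.hom, ?_, inferInstance⟩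
  rw [e]
  exact h2

/-- blow-ups restrict to open subschemes -/
theorem isBlowUp_restrict {X X' : Scheme.{u}} (𝓘 : X.IdealSheafData) (b : X' ⟶ X)
    (hb : BlowUp.IsBlowUp b 𝓘) (U : X.Opens) : BlowUp.IsBlowUp (b ∣_ U) (𝓘.comap U.ι) := by
  constructor
  · rw [← Scheme.IdealSheafData.comap_comp, morphismRestrict_ι, Scheme.IdealSheafData.comap_comp]
    exact Groth.Agent.Helper4.NApx19.isEffCartierIdeal_comap_ι _ hb.1 _
  · intro Y g hg
    rw [← Scheme.IdealSheafData.comap_comp] at hg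
    obtain ⟨h, hh, hu⟩ := hb.2 Y (g ≫ U.ι) hg
    have hr : Set.range h ⊆ Set.range (b ⁻¹ᵁ U).ι := by
      rw [Scheme.Opens.range_ι]
      rintro _ ⟨y, rfl⟩
      show b (h y) ∈ U
      have : b (h y) = U.ι (g y) := by
        show (h ≫ b) y = (g ≫ U.ι) y
        rw [hh]
      rw [this]
      exact (g y).2
    let h' := IsOpenImmersion.lift (b ⁻¹ᵁ U).ι h hr
    have hh' : h' ≫ (b ⁻¹ᵁ U).ι = h := IsOpenImmersion.lift_fac _ _ _
    refine ⟨h', ?_, ?_⟩
    · show h' ≫ (b ∣_ U) = g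
      rw [← cancel_mono U.ι, Category.assoc, morphismRestrict_ι, ← Category.assoc, hh', hh]
    · intro k hk
      have hk' : k ≫ (b ∣_ U) = g := hk
      rw [← cancel_mono (b ⁻¹ᵁ U).ι, hh']
      apply hu
      show (k ≫ (b ⁻¹ᵁ U).ι) ≫ b = g ≫ U.ι
      rw [Category.assoc, ← morphismRestrict_ι, ← Category.assoc, hk']

/-- a blow-up in an ideal of finite type is proper -/
theorem isProper_of_isBlowUp {X X' : Scheme.{u}} (𝓘 : X.IdealSheafData)
    (h𝓘 : BlowUp.IsFiniteTypeIdeal 𝓘) (b : X' ⟶ X) (hb : BlowUp.IsBlowUp b 𝓘) : IsProper b := by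
  have hcov : (⨆ U : X.affineOpens, U.1) = ⊤ := by
    rw [eq_top_iff]
    intro x _
    obtain ⟨_, ⟨V, hV, rfl⟩, hxV, -⟩ := X.isBasis_affineOpens.exists_subset_of_mem_open
      (Set.mem_univ x) isOpen_univ
    exact TopologicalSpace.Opens.mem_iSup.mpr ⟨⟨V, hV⟩, hxV⟩
  rw [IsZariskiLocalAtTarget.iff_of_iSup_eq_top (P := @IsProper) _ hcov]
  intro U
  haveI : IsAffine U.1.toScheme := U.2
  have hfg : ((𝓘.comap U.1.ι).ideal ⟨⊤, isAffineOpen_top _⟩).FG :=
    Groth.Agent.Helper4.NApx11.comap_fg U.1.ι 𝓘 h𝓘 _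
  obtain ⟨B, β, hβ, hprop⟩ := exists_proper_isBlowUp_of_isAffine (𝓘.comap U.1.ι) hfg
  obtain ⟨ε, hε⟩ := Groth.Agent.Helper4.NApx27.isBlowUp_unique _ (b ∣_ U.1) β
    (isBlowUp_restrict 𝓘 b hb U.1) hβ
  rw [← hε]
  infer_instance

end Groth.Agent.Helper4.NApx49
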