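import Groth.Prelude.Def_W4c6modpairsegaMP
import Groth.Agent.Helper4.NApx49
import Mathlib

set_option autoImplicit false
universe u

namespace Groth.Agent.Helper4.NApx50

open AlgebraicGeometry CategoryTheory Limits

/-- an ideal sheaf which is locally finitely generated defines a closed immersion locally of finite
presentation -/
theorem lfp_subschemeι_of_local {Y : Scheme.{u}} (J : Y.IdealSheafData)
    (h : ∀ y : Y, ∃ U : Y.affineOpens, y ∈ U.1 ∧ (J.ideal U).FG) :
    LocallyOfFinitePresentation J.subschemeι := by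
  rw [HasRingHomProperty.iff_exists_appLE (P := @LocallyOfFinitePresentation)
    (RingHom.finitePresentation_stableUnderComposition.stableUnderCompositionWithLocalizationAway
    RingHom.finitePresentation_holdsForLocalizationAway).1]
  intro x
  obtain ⟨U, hxU, hfg⟩ := h (J.subschemeι x)
  refine ⟨U, ⟨J.subschemeι ⁻¹ᵁ U.1, U.2.preimage _⟩, hxU, le_rfl, ?_⟩
  rw [← Scheme.Hom.app_eq_appLE]
  refine RingHom.FinitePresentation.of_surjective _ (J.subschemeι_app_surjective U) ?_
  rw [Scheme.IdealSheafData.ker_subschemeι_app J U]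
  exact hfg

/-- locally finitely generated ideal sheaves are of finite type -/
theorem isFiniteType_of_local {Y : Scheme.{u}} (J : Y.IdealSheafData)
    (h : ∀ y : Y, ∃ U : Y.affineOpens, y ∈ U.1 ∧ (J.ideal U).FG) :
    BlowUp.IsFiniteTypeIdeal J := by
  intro U
  haveI := lfp_subschemeι_of_local J h
  have := Groth.Agent.Helper4.NApx11.ker_fg_of_lfp J.subschemeι U
  rwa [Scheme.IdealSheafData.ker_subschemeι] at this

theorem isFiniteType_of_isEffCartier {Y : Scheme.{u}} (J : Y.IdealSheafData)
    (hJ : BlowUp.IsEffCartierIdeal J) : BlowUp.IsFiniteTypeIdeal J := by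
  apply isFiniteType_of_local
  intro y
  obtain ⟨U, hyU, f, -, hf⟩ := hJ y
  exact ⟨U, hyU, hf ▸ ⟨{f}, by simp⟩⟩

theorem isFiniteType_comap {X Y : Scheme.{u}} (f : X ⟶ Y) (J : Y.IdealSheafData)
    (hJ : BlowUp.IsFiniteTypeIdeal J) : BlowUp.IsFiniteTypeIdeal (J.comap f) :=
  fun U => Groth.Agent.Helper4.NApx11.comap_fg f J hJ U

theorem isFiniteType_sup {Y : Scheme.{u}} (J K : Y.IdealSheafData)
    (hJ : BlowUp.IsFiniteTypeIdeal J) (hK : BlowUp.IsFiniteTypeIdeal K) :
    BlowUp.IsFiniteTypeIdeal (J ⊔ K) := by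
  intro U
  rw [Scheme.IdealSheafData.ideal_sup]
  exact Submodule.FG.sup (hJ U) (hK U)

end Groth.Agent.Helper4.NApx50
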