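import Mathlib

set_option autoImplicit false
universe v₁ v₂ u₁ u₂

namespace Groth.Agent.Helper4.NApx61

open CategoryTheory CategoryTheory.Limits

variable {C : Type u₁} [Category.{v₁} C] {D : Type u₂} [Category.{v₂} D]
  (W : MorphismProperty C) [W.HasRightCalculusOfFractions] (L : C ⥤ D) [L.IsLocalization W]

/-- two morphisms out of `L.obj Z` have a common denominator -/
theorem common_den {Z A B : C} (a : L.obj Z ⟶ L.obj A) (b : L.obj Z ⟶ L.obj B) :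
    ∃ (Z' : C) (t : Z' ⟶ Z) (_ : W t) (a₁ : Z' ⟶ A) (b₁ : Z' ⟶ B),
      L.map t ≫ a = L.map a₁ ∧ L.map t ≫ b = L.map b₁ := by
  obtain ⟨φa, ha⟩ := Localization.exists_rightFraction L W a
  obtain ⟨φb, hb⟩ := Localization.exists_rightFraction L W b
  obtain ⟨ψ, hψ⟩ := (MorphismProperty.LeftFraction.mk (W := W) φa.s φb.s φb.hs).exists_rightFraction
  dsimp at hψ
  haveI : IsIso (L.map φa.s) := Localization.inverts L W _ φa.hs
  haveI : IsIso (L.map φb.s) := Localization.inverts L W _ φb.hs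
  refine ⟨ψ.X', ψ.s ≫ φa.s, W.comp_mem _ _ ψ.hs φa.hs, ψ.s ≫ φa.f, ψ.f ≫ φb.f, ?_, ?_⟩
  · rw [ha, L.map_comp, L.map_comp, Category.assoc,
      MorphismProperty.RightFraction.map_s_comp_map]
  · rw [hb, hψ, L.map_comp, L.map_comp, Category.assoc,
      MorphismProperty.RightFraction.map_s_comp_map]

/-- existence and uniqueness of the induced morphism for objects in the image of `L` -/
theorem existsUnique_lift_obj {Y X T P : C} (pT : Y ⟶ T) (pX : Y ⟶ X) (g : T ⟶ P) (f : X ⟶ P)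
    (hex : ∀ (Z : C) (a : Z ⟶ T) (b : Z ⟶ X), a ≫ g = b ≫ f →
      ∃ (Z' : C) (s : Z' ⟶ Z) (_ : W s) (c : Z' ⟶ Y), c ≫ pT = s ≫ a ∧ c ≫ pX = s ≫ b)
    (huniq : ∀ (Z : C) (c₁ c₂ : Z ⟶ Y), c₁ ≫ pT = c₂ ≫ pT → c₁ ≫ pX = c₂ ≫ pX →
      ∃ (Z' : C) (s : Z' ⟶ Z) (_ : W s), s ≫ c₁ = s ≫ c₂)
    (Z : C) (a : L.obj Z ⟶ L.obj T) (b : L.obj Z ⟶ L.obj X)
    (hab : a ≫ L.map g = b ≫ L.map f) :
    ∃! c : L.obj Z ⟶ L.obj Y, c ≫ L.map pT = a ∧ c ≫ L.map pX = b := by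
  obtain ⟨Z₁, t, ht, a₁, b₁, hta, htb⟩ := common_den W L a b
  haveI : IsIso (L.map t) := Localization.inverts L W _ ht
  have h1 : L.map (a₁ ≫ g) = L.map (b₁ ≫ f) := by
    rw [L.map_comp, L.map_comp, ← hta, ← htb, Category.assoc, Category.assoc, hab]
  obtain ⟨Z₂, u, hu, hu'⟩ := (MorphismProperty.map_eq_iff_precomp L W _ _).mp h1
  obtain ⟨Z₃, v, hv, c₀, hc₀T, hc₀X⟩ := hex Z₂ (u ≫ a₁) (u ≫ b₁)
    (by rw [Category.assoc, Category.assoc, hu'])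
  have hw : W (v ≫ u ≫ t) := W.comp_mem _ _ hv (W.comp_mem _ _ hu ht)
  haveI : IsIso (L.map (v ≫ u ≫ t)) := Localization.inverts L W _ hw
  have hfT : (inv (L.map (v ≫ u ≫ t)) ≫ L.map c₀) ≫ L.map pT = a := by
    rw [Category.assoc, ← L.map_comp, hc₀T, IsIso.inv_comp_eq, ← Category.assoc v u a₁,
      L.map_comp (v ≫ u) a₁, ← hta, ← Category.assoc, ← L.map_comp, Category.assoc]
  have hfX : (inv (L.map (v ≫ u ≫ t)) ≫ L.map c₀) ≫ L.map pX = b := by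
    rw [Category.assoc, ← L.map_comp, hc₀X, IsIso.inv_comp_eq, ← Category.assoc v u b₁,
      L.map_comp (v ≫ u) b₁, ← htb, ← Category.assoc, ← L.map_comp, Category.assoc]
  refine ⟨inv (L.map (v ≫ u ≫ t)) ≫ L.map c₀, ⟨hfT, hfX⟩, ?_⟩
  have key : ∀ c c' : L.obj Z ⟶ L.obj Y, c ≫ L.map pT = c' ≫ L.map pT →
      c ≫ L.map pX = c' ≫ L.map pX → c = c' := by
    intro c c' hT hX
    obtain ⟨Z₄, t', ht', c₁, c₁', hc₁, hc₁'⟩ := common_den W L c c'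
    haveI : IsIso (L.map t') := Localization.inverts L W _ ht'
    have e1 : L.map (c₁ ≫ pT) = L.map (c₁' ≫ pT) := by
      rw [L.map_comp, L.map_comp, ← hc₁, ← hc₁', Category.assoc, Category.assoc, hT]
    obtain ⟨Z₅, u₁, hu₁, hu₁'⟩ := (MorphismProperty.map_eq_iff_precomp L W _ _).mp e1
    have e2 : L.map (u₁ ≫ c₁ ≫ pX) = L.map (u₁ ≫ c₁' ≫ pX) := by
      rw [L.map_comp, L.map_comp u₁, L.map_comp c₁, L.map_comp c₁', ← hc₁, ← hc₁',
        Category.assoc, Category.assoc, hX]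
    obtain ⟨Z₆, u₂, hu₂, hu₂'⟩ := (MorphismProperty.map_eq_iff_precomp L W _ _).mp e2
    obtain ⟨Z₇, s, hs, hs'⟩ := huniq Z₆ (u₂ ≫ u₁ ≫ c₁) (u₂ ≫ u₁ ≫ c₁')
      (by simp only [Category.assoc]; rw [hu₁'])
      (by simp only [Category.assoc]; exact hu₂')
    have hW' : W (s ≫ u₂ ≫ u₁) := W.comp_mem _ _ hs (W.comp_mem _ _ hu₂ hu₁)
    haveI : IsIso (L.map (s ≫ u₂ ≫ u₁)) := Localization.inverts L W _ hW'
    have e3 : L.map c₁ = L.map c₁' := by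
      rw [← cancel_epi (L.map (s ≫ u₂ ≫ u₁)), ← L.map_comp, ← L.map_comp]
      simp only [Category.assoc]
      rw [hs']
    rw [← cancel_epi (L.map t'), hc₁, hc₁', e3]
  rintro c' ⟨hc'T, hc'X⟩
  exact key _ _ (hc'T.trans hfT.symm) (hc'X.trans hfX.symm)

/-- a commutative square which is a pullback "up to `W`" becomes a pullback in the localization -/
theorem isPullback_map {Y X T P : C} (pT : Y ⟶ T) (pX : Y ⟶ X) (g : T ⟶ P) (f : X ⟶ P)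
    (comm : pT ≫ g = pX ≫ f)
    (hex : ∀ (Z : C) (a : Z ⟶ T) (b : Z ⟶ X), a ≫ g = b ≫ f →
      ∃ (Z' : C) (s : Z' ⟶ Z) (_ : W s) (c : Z' ⟶ Y), c ≫ pT = s ≫ a ∧ c ≫ pX = s ≫ b)
    (huniq : ∀ (Z : C) (c₁ c₂ : Z ⟶ Y), c₁ ≫ pT = c₂ ≫ pT → c₁ ≫ pX = c₂ ≫ pX →
      ∃ (Z' : C) (s : Z' ⟶ Z) (_ : W s), s ≫ c₁ = s ≫ c₂) :
    IsPullback (L.map pT) (L.map pX) (L.map g) (L.map f) := by
  haveI : L.EssSurj := Localization.essSurj L W
  have hsq : L.map pT ≫ L.map g = L.map pX ≫ L.map f := by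
    rw [← L.map_comp, ← L.map_comp, comm]
  have main : ∀ (A : D) (a : A ⟶ L.obj T) (b : A ⟶ L.obj X), a ≫ L.map g = b ≫ L.map f →
      ∃! c : A ⟶ L.obj Y, c ≫ L.map pT = a ∧ c ≫ L.map pX = b := by
    intro A a b hab
    let e : L.obj (L.objPreimage A) ≅ A := L.objObjPreimageIso A
    obtain ⟨c₀, ⟨hc₀T, hc₀X⟩, hc₀u⟩ := existsUnique_lift_obj W L pT pX g f hex huniq
      (L.objPreimage A) (e.hom ≫ a) (e.hom ≫ b) (by rw [Category.assoc, Category.assoc, hab])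
    refine ⟨e.inv ≫ c₀, ⟨?_, ?_⟩, ?_⟩
    · rw [Category.assoc, hc₀T, Iso.inv_hom_id_assoc]
    · rw [Category.assoc, hc₀X, Iso.inv_hom_id_assoc]
    · rintro c' ⟨hc'T, hc'X⟩
      have := hc₀u (e.hom ≫ c') ⟨by rw [Category.assoc, hc'T], by rw [Category.assoc, hc'X]⟩
      rw [← this, Iso.inv_hom_id_assoc]
  refine ⟨⟨hsq⟩, ⟨PullbackCone.IsLimit.mk hsq
    (fun s => (main s.pt s.fst s.snd s.condition).choose)
    (fun s => (main s.pt s.fst s.snd s.condition).choose_spec.1.1)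
    (fun s => (main s.pt s.fst s.snd s.condition).choose_spec.1.2)
    (fun s m hm1 hm2 => (main s.pt s.fst s.snd s.condition).choose_spec.2 m ⟨hm1, hm2⟩)⟩⟩

end Groth.Agent.Helper4.NApx61
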