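import Groth.Prelude.Def_W4c6modpairsegaMP
import Groth.Agent.Helper4.NApx19
import Mathlib

set_option autoImplicit false
universe u

namespace Groth.Agent.Helper4.NApx20

open AlgebraicGeometry CategoryTheory Limits

/-- a closed immersion with trivial kernel is an isomorphism -/
theorem isIso_of_isClosedImmersion_of_ker_eq_bot {X Y : Scheme.{u}} (f : X ⟶ Y)
    [IsClosedImmersion f] (h : f.ker = ⊥) : IsIso f := by
  haveI : IsIso f.imageι := by
    show IsIso f.ker.subschemeι
    rw [Scheme.isIso_subschemeι_iff_eq_bot]; exact h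
  rw [← f.toImage_imageι]
  infer_instance

set_option backward.isDefEq.respectTransparency false in
/-- two morphisms over a separated base agreeing on a schematically dense part are equal -/
theorem ext_of_schematicallyDominant_of_isSeparated {W X Y Z : Scheme.{u}} {f g : X ⟶ Y}
    (s : Y ⟶ Z) [IsSeparated s] (h : f ≫ s = g ≫ s)
    (ι : W ⟶ X) [IsSchemeTheoreticallyDominant ι] (hU : ι ≫ f = ι ≫ g) : f = g := by
  let X' : Over Z := Over.mk (f ≫ s)
  let Y' : Over Z := Over.mk s
  let U' : Over Z := Over.mk (ι ≫ f ≫ s)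
  let f' : X' ⟶ Y' := Over.homMk f
  let g' : X' ⟶ Y' := Over.homMk g
  let ι' : U' ⟶ X' := Over.homMk ι
  have : IsSeparated Y'.hom := ‹_›
  have hl : ι' ≫ f' = ι' ≫ g' := by ext1; exact hU
  have hfac : (equalizer.lift ι' hl).left ≫ (equalizer.ι f' g').left = ι := by
    rw [← Over.comp_left, equalizer.lift_ι]
    rfl
  have hker : (equalizer.ι f' g').left.ker = ⊥ := by
    rw [eq_bot_iff, ← ι.ker_eq_bot, ← hfac]
    exact Scheme.Hom.le_ker_comp _ _
  have := isIso_of_isClosedImmersion_of_ker_eq_bot (equalizer.ι f' g').left hker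
  rw [← cancel_epi (equalizer.ι f' g').left]
  exact congr($(equalizer.condition f' g').left)

end Groth.Agent.Helper4.NApx20
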