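import Groth.Prelude.Def_W4c6modpairsegaMP
import Groth.Agent.Helper4.NApx61
import Groth.Agent.Helper4.NApx50
import Groth.Agent.Helper4.NApx49
import Groth.Agent.Helper4.NApx45
import Groth.Agent.Helper4.NApx46
import Groth.Agent.Helper4.NApx24
import Groth.Agent.Helper4.NApx23
import Groth.Agent.Helper4.NApx19
import Groth.Agent.Helper4.NApx15
import Groth.Agent.Helper4.NApx14
import Groth.Agent.S1682
import Groth.Agent.S18738
import Mathlib

set_option autoImplicit false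
universe u

namespace Groth.Agent.Helper4.NApx62

open AlgebraicGeometry CategoryTheory Limits

/-- an isomorphism over an open restricts to an isomorphism over a smaller open -/
theorem isIso_restrict_of_le {X Y : Scheme.{u}} (f : X ⟶ Y) (U V : Y.Opens) (hVU : V ≤ U)
    [IsIso (f ∣_ U)] : IsIso (f ∣_ V) := by
  have e : U.ι ''ᵁ (U.ι ⁻¹ᵁ V) = V := by
    rw [Scheme.Hom.image_preimage_eq_opensRange_inf, Scheme.Opens.opensRange_ι]
    exact inf_eq_right.mpr hVU
  have h1 : IsIso (f ∣_ U ∣_ (U.ι ⁻¹ᵁ V)) := inferInstance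
  have h2 : IsIso (f ∣_ U.ι ''ᵁ (U.ι ⁻¹ᵁ V)) :=
    ((MorphismProperty.isomorphisms Scheme.{u}).arrow_mk_iso_iff
      (morphismRestrictRestrict f U (U.ι ⁻¹ᵁ V))).mp h1
  exact ((MorphismProperty.isomorphisms Scheme.{u}).arrow_mk_iso_iff
      (morphismRestrictEq f e)).mp h2

/-- ambient morphisms to the two factors induce a morphism to `mprod` -/
theorem lift_mprod {S T X W : Scheme.{u}} (f : X ⟶ S) (g : T ⟶ S) (I : X.IdealSheafData)
    (J : T.IdealSheafData)
    (IW : W.IdealSheafData) (hW : BlowUp.IsEffCartierIdeal IW)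
    (b : W ⟶ X) (a : W ⟶ T) (hb : IW ≤ I.comap b) (ha : IW ≤ J.comap a) (hab : b ≫ f = a ≫ g) :
    ∃ c : W ⟶ ModPair.mprod f g I J,
      c ≫ ModPair.mprodι f g I J ≫ pullback.fst f g = b ∧
      c ≫ ModPair.mprodι f g I J ≫ pullback.snd f g = a := by
  set pr₁ := pullback.fst f g with hpr₁
  set pr₂ := pullback.snd f g with hpr₂
  set Ω := ModPair.prodInterior f g I J with hΩdef
  set m := ModPair.mprodι f g I J with hm
  have hm' : m = Ω.ι.imageι := rfl
  let h : W ⟶ pullback f g := pullback.lift b a hab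
  have hh1 : h ≫ pr₁ = b := pullback.lift_fst _ _ _
  have hh2 : h ≫ pr₂ = a := pullback.lift_snd _ _ _
  haveI hWd : IsSchemeTheoreticallyDominant (ModPair.interior IW).ι :=
    Groth.Agent.Helper4.NApx19.isSchemeTheoreticallyDominant_interior_ι IW hW
  have hsub : Set.range ((ModPair.interior IW).ι ≫ h) ⊆ Set.range Ω.ι := by
    rintro _ ⟨w, rfl⟩
    rw [Scheme.Opens.range_ι]
    refine ⟨?_, ?_⟩
    · show pr₁ (((ModPair.interior IW).ι ≫ h) w) ∈ ModPair.interior I
      rw [← Scheme.Hom.comp_apply, Category.assoc, hh1, Scheme.Hom.comp_apply]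
      exact Groth.Agent.Helper4.NApx19.interior_le_of_isAmbient IW I b hb w.2
    · show pr₂ (((ModPair.interior IW).ι ≫ h) w) ∈ ModPair.interior J
      rw [← Scheme.Hom.comp_apply, Category.assoc, hh2, Scheme.Hom.comp_apply]
      exact Groth.Agent.Helper4.NApx19.interior_le_of_isAmbient IW J a ha w.2
  let h₀ : (ModPair.interior IW : Scheme.{u}) ⟶ (Ω : Scheme.{u}) :=
    IsOpenImmersion.lift Ω.ι ((ModPair.interior IW).ι ≫ h) hsub
  have hh₀ : h₀ ≫ Ω.ι = (ModPair.interior IW).ι ≫ h := IsOpenImmersion.lift_fac _ _ _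
  have hker : m.ker ≤ h.ker := by
    have h5 : m.ker = Ω.ι.ker := by
      rw [hm']; exact Scheme.IdealSheafData.ker_subschemeι _
    have h6 : h.ker = ((ModPair.interior IW).ι ≫ h).ker := by
      rw [Scheme.Hom.ker_comp, (ModPair.interior IW).ι.ker_eq_bot,
        Scheme.IdealSheafData.map_bot]
    rw [h5, h6, ← hh₀]
    exact Scheme.Hom.le_ker_comp h₀ Ω.ι
  let c : W ⟶ ModPair.mprod f g I J := IsClosedImmersion.lift m h hker
  have hc : c ≫ m = h := IsClosedImmersion.lift_fac m h hker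
  refine ⟨c, ?_, ?_⟩
  · show c ≫ m ≫ pr₁ = b
    rw [← Category.assoc, hc, hh1]
  · show c ≫ m ≫ pr₂ = a
    rw [← Category.assoc, hc, hh2]

/-- the lifting property of the ambient product, after an admissible blow-up of the source -/
theorem exists_lift_ambProd (P T X : ModPair.Pair.{u}) (f : X ⟶ P) (g : T ⟶ P)
    {Y : Scheme.{u}} (π : Y ⟶ ModPair.mprod f.hom g.hom X.mod T.mod) (K : Y.IdealSheafData)
    (hY : ModPair.IsAmbProd f.hom g.hom X.mod T.mod π K)
    (Z : ModPair.Pair.{u}) (a : Z ⟶ T) (b : Z ⟶ X) (hab : a ≫ g = b ≫ f) :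
    ∃ (Z₁ : Scheme.{u}) (β : Z₁ ⟶ Z.total) (_ : BlowUp.IsEffCartierIdeal (Z.mod.comap β))
      (c₁ : Z₁ ⟶ Y),
      ModPair.IsAdmBlowup (Z.mod.comap β) Z.mod β ∧ Z.mod.comap β ≤ K.comap c₁ ∧
      c₁ ≫ π ≫ ModPair.mprodι f.hom g.hom X.mod T.mod ≫ pullback.snd f.hom g.hom = β ≫ a.hom ∧
      c₁ ≫ π ≫ ModPair.mprodι f.hom g.hom X.mod T.mod ≫ pullback.fst f.hom g.hom = β ≫ b.hom := by
  have hab' : b.hom ≫ f.hom = a.hom ≫ g.hom := (congrArg ModPair.Pair.Hom.hom hab).symm
  have hbc : Z.mod ≤ X.mod.comap b.hom := b.cond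
  have hac : Z.mod ≤ T.mod.comap a.hom := a.cond
  obtain ⟨c₀, hc₀1, hc₀2⟩ := lift_mprod f.hom g.hom X.mod T.mod Z.mod Z.isEffCartier
    b.hom a.hom hbc hac hab'
  set m := ModPair.mprodι f.hom g.hom X.mod T.mod with hm
  set pr₁ := pullback.fst f.hom g.hom with hpr₁
  set pr₂ := pullback.snd f.hom g.hom with hpr₂
  set CZ : Z.total.IdealSheafData := X.mod.comap b.hom ⊔ T.mod.comap a.hom with hCZ
  obtain ⟨Z₁, β, hβ⟩ := Groth.Agent.Helper4.NApx45.exists_isBlowUp Z.total CZ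
  have hle : Z.mod ≤ CZ := le_trans hbc le_sup_left
  have hint : ModPair.interior Z.mod ≤ ModPair.interior CZ := fun x hx hx' =>
    hx (Scheme.IdealSheafData.support_antitone hle hx')
  haveI : QuasiCompact (ModPair.interior Z.mod).ι :=
    Groth.Agent.Helper4.NApx14.quasiCompact_interior_ι Z.mod Z.isEffCartier
  haveI : IsSchemeTheoreticallyDominant (ModPair.interior Z.mod).ι :=
    Groth.Agent.Helper4.NApx19.isSchemeTheoreticallyDominant_interior_ι Z.mod Z.isEffCartier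
  haveI hdom : IsSchemeTheoreticallyDominant (β ⁻¹ᵁ ModPair.interior Z.mod).ι :=
    Groth.Agent.Helper4.NApx23.dominant_preimage_of_isBlowUp (ModPair.interior Z.mod) CZ β hβ
  have hM : BlowUp.IsEffCartierIdeal (Z.mod.comap β) :=
    Groth.Agent.Helper4.NApx14.isEffCartierIdeal_comap Z.mod Z.isEffCartier β
  -- finite type of the centre
  have hft : BlowUp.IsFiniteTypeIdeal CZ :=
    Groth.Agent.Helper4.NApx50.isFiniteType_sup _ _
      (Groth.Agent.Helper4.NApx50.isFiniteType_comap b.hom X.mod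
        (Groth.Agent.Helper4.NApx50.isFiniteType_of_isEffCartier X.mod X.isEffCartier))
      (Groth.Agent.Helper4.NApx50.isFiniteType_comap a.hom T.mod
        (Groth.Agent.Helper4.NApx50.isFiniteType_of_isEffCartier T.mod T.isEffCartier))
  have hprop : IsProper β := Groth.Agent.Helper4.NApx49.isProper_of_isBlowUp CZ hft β hβ
  haveI hiso0 : IsIso (β ∣_ ModPair.interior CZ) := Groth.Agent.S1682.result CZ β hβ
  have hiso : IsIso (β ∣_ ModPair.interior Z.mod) :=
    isIso_restrict_of_le β (ModPair.interior CZ) (ModPair.interior Z.mod) hint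
  -- the ideals on Z₁
  set A : Z₁.IdealSheafData := X.mod.comap (β ≫ b.hom) with hA
  set B : Z₁.IdealSheafData := T.mod.comap (β ≫ a.hom) with hB
  have hCZβ : CZ.comap β = A ⊔ B := by
    rw [hCZ, Scheme.IdealSheafData.comap_sup, ← Scheme.IdealSheafData.comap_comp,
      ← Scheme.IdealSheafData.comap_comp]
  have hAB : BlowUp.IsEffCartierIdeal (A ⊔ B) := hCZβ ▸ hβ.1
  -- pullback of the centre
  have hcen : (ModPair.prodCentre f.hom g.hom X.mod T.mod).comap (β ≫ c₀) = A ⊔ B := by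
    unfold ModPair.prodCentre
    rw [Scheme.IdealSheafData.comap_sup, ← Scheme.IdealSheafData.comap_comp,
      ← Scheme.IdealSheafData.comap_comp, Category.assoc, Category.assoc]
    rw [show c₀ ≫ m ≫ pr₁ = b.hom from hc₀1, show c₀ ≫ m ≫ pr₂ = a.hom from hc₀2]
  obtain ⟨c₁, hc₁, -⟩ := hY.1.2 Z₁ (β ≫ c₀) (hcen ▸ hAB)
  have hc₁X : c₁ ≫ π ≫ m ≫ pr₁ = β ≫ b.hom := by
    rw [← Category.assoc, hc₁, Category.assoc]
    rw [show c₀ ≫ m ≫ pr₁ = b.hom from hc₀1]
  have hc₁T : c₁ ≫ π ≫ m ≫ pr₂ = β ≫ a.hom := by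
    rw [← Category.assoc, hc₁, Category.assoc]
    rw [show c₀ ≫ m ≫ pr₂ = a.hom from hc₀2]
  -- the modulus condition
  have hKc : K.comap c₁ = A ⊓ B := by
    apply Groth.Agent.Helper4.NApx24.mul_right_cancel_of_isEffCartier _ _ (A ⊔ B) hAB
    rw [Groth.Agent.Helper4.NApx46.inf_mul_sup_sheaf A B hAB]
    have h2 := congrArg (fun L : Y.IdealSheafData => L.comap c₁) hY.2
    simp only [Groth.Agent.Helper4.NApx24.comap_mul] at h2
    rw [← Scheme.IdealSheafData.comap_comp, ← Scheme.IdealSheafData.comap_comp,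
      ← Scheme.IdealSheafData.comap_comp, ← Scheme.IdealSheafData.comap_comp,
      ← Scheme.IdealSheafData.comap_comp, hc₁, hcen] at h2
    rw [h2]
    show X.mod.comap ((β ≫ c₀) ≫ m ≫ pr₁) * T.mod.comap ((β ≫ c₀) ≫ m ≫ pr₂) = A * B
    rw [Category.assoc, Category.assoc, hc₀1, hc₀2]
  have hMA : Z.mod.comap β ≤ A := by
    rw [hA, Scheme.IdealSheafData.comap_comp]
    exact Scheme.IdealSheafData.comap_mono β hbc
  have hMB : Z.mod.comap β ≤ B := by
    rw [hB, Scheme.IdealSheafData.comap_comp]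
    exact Scheme.IdealSheafData.comap_mono β hac
  refine ⟨Z₁, β, hM, c₁, ⟨rfl, hprop, hiso⟩, ?_, hc₁T, hc₁X⟩
  rw [hKc]
  exact le_inf hMA hMB

/-- on an ambient product, `K` is the intersection of the two pulled-back moduli, hence contained
in the exceptional ideal -/
theorem ambProd_le_exceptional {S T X Y : Scheme.{u}} (f : X ⟶ S) (g : T ⟶ S)
    (I : X.IdealSheafData) (J : T.IdealSheafData)
    (π : Y ⟶ ModPair.mprod f g I J) (K : Y.IdealSheafData)
    (hY : ModPair.IsAmbProd f g I J π K) :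
    K ≤ (ModPair.prodCentre f g I J).comap π := by
  set DX := (I.comap (ModPair.mprodι f g I J ≫ pullback.fst f g)).comap π with hDX
  set DT := (J.comap (ModPair.mprodι f g I J ≫ pullback.snd f g)).comap π with hDT
  have hE : (ModPair.prodCentre f g I J).comap π = DX ⊔ DT := by
    unfold ModPair.prodCentre
    rw [Scheme.IdealSheafData.comap_sup]
  have hcart : BlowUp.IsEffCartierIdeal (DX ⊔ DT) := hE ▸ hY.1.1
  have hK : K = DX ⊓ DT := by
    apply Groth.Agent.Helper4.NApx24.mul_right_cancel_of_isEffCartier _ _ (DX ⊔ DT) hcart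
    rw [Groth.Agent.Helper4.NApx46.inf_mul_sup_sheaf DX DT hcart, ← hE]
    exact hY.2
  rw [hE, hK]
  exact le_trans inf_le_left le_sup_left

/-- S18752 -/
theorem main18752 (P T X : ModPair.Pair.{u}) (f : X ⟶ P) (g : T ⟶ P)
    {Y : Scheme.{u}} (π : Y ⟶ ModPair.mprod f.hom g.hom X.mod T.mod) (K : Y.IdealSheafData)
    (hY : ModPair.IsAmbProd f.hom g.hom X.mod T.mod π K) (hK : BlowUp.IsEffCartierIdeal K)
    (hX : ModPair.IsAmbient K X.mod
      (π ≫ ModPair.mprodι f.hom g.hom X.mod T.mod ≫ pullback.fst f.hom g.hom))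
    (hT : ModPair.IsAmbient K T.mod
      (π ≫ ModPair.mprodι f.hom g.hom X.mod T.mod ≫ pullback.snd f.hom g.hom)) :
    IsPullback
      ((ModPair.Pair.admBlowup.{u}).Q.map
        (ModPair.Pair.Hom.mk (P := ModPair.Pair.mk Y K hK) (Q := T)
          (π ≫ ModPair.mprodι f.hom g.hom X.mod T.mod ≫ pullback.snd f.hom g.hom) hT))
      ((ModPair.Pair.admBlowup.{u}).Q.map
        (ModPair.Pair.Hom.mk (P := ModPair.Pair.mk Y K hK) (Q := X)
          (π ≫ ModPair.mprodι f.hom g.hom X.mod T.mod ≫ pullback.fst f.hom g.hom) hX))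
      ((ModPair.Pair.admBlowup.{u}).Q.map g) ((ModPair.Pair.admBlowup.{u}).Q.map f) := by
  haveI : (ModPair.Pair.admBlowup.{u}).HasRightCalculusOfFractions := Groth.Agent.S18738.result
  apply Groth.Agent.Helper4.NApx61.isPullback_map ModPair.Pair.admBlowup.{u}
    (ModPair.Pair.admBlowup.{u}).Q
  · apply ModPair.Pair.Hom.ext
    show (π ≫ ModPair.mprodι f.hom g.hom X.mod T.mod ≫ pullback.snd f.hom g.hom) ≫ g.hom =
      (π ≫ ModPair.mprodι f.hom g.hom X.mod T.mod ≫ pullback.fst f.hom g.hom) ≫ f.hom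
    simp only [Category.assoc]
    rw [pullback.condition]
  · intro Z a b hab
    obtain ⟨Z₁, β, hM, c₁, hadm, hamb, hc₁T, hc₁X⟩ :=
      exists_lift_ambProd P T X f g π K hY Z a b hab
    refine ⟨⟨Z₁, Z.mod.comap β, hM⟩, ⟨β, le_refl _⟩, hadm, ⟨c₁, hamb⟩, ?_, ?_⟩
    · apply ModPair.Pair.Hom.ext
      exact hc₁T
    · apply ModPair.Pair.Hom.ext
      exact hc₁X
  · intro Z c₁ c₂ h1 h2
    refine ⟨Z, 𝟙 Z, MorphismProperty.id_mem _ Z, ?_⟩
    rw [Category.id_comp, Category.id_comp]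
    apply ModPair.Pair.Hom.ext
    have h1' : c₁.hom ≫ π ≫ ModPair.mprodι f.hom g.hom X.mod T.mod ≫ pullback.snd f.hom g.hom =
        c₂.hom ≫ π ≫ ModPair.mprodι f.hom g.hom X.mod T.mod ≫ pullback.snd f.hom g.hom :=
      congrArg ModPair.Pair.Hom.hom h1
    have h2' : c₁.hom ≫ π ≫ ModPair.mprodι f.hom g.hom X.mod T.mod ≫ pullback.fst f.hom g.hom =
        c₂.hom ≫ π ≫ ModPair.mprodι f.hom g.hom X.mod T.mod ≫ pullback.fst f.hom g.hom :=
      congrArg ModPair.Pair.Hom.hom h2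
    have h3 : c₁.hom ≫ π = c₂.hom ≫ π := by
      rw [← cancel_mono (ModPair.mprodι f.hom g.hom X.mod T.mod)]
      apply pullback.hom_ext
      · simp only [Category.assoc]; exact h2'
      · simp only [Category.assoc]; exact h1'
    have hE := ambProd_le_exceptional f.hom g.hom X.mod T.mod π K hY
    have hle : Z.mod ≤ ((ModPair.prodCentre f.hom g.hom X.mod T.mod).comap π).comap c₁.hom :=
      le_trans c₁.cond (Scheme.IdealSheafData.comap_mono c₁.hom hE)
    have hcart := Groth.Agent.Helper4.NApx19.isEffCartierIdeal_comap_of_le _ hY.1.1 c₁.hom Z.mod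
      Z.isEffCartier hle
    rw [← Scheme.IdealSheafData.comap_comp] at hcart
    exact (hY.1.2 Z.total (c₁.hom ≫ π) hcart).unique rfl h3.symm

end Groth.Agent.Helper4.NApx62
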