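import Mathlib
import Groth.Agent.Helper4.AmpleLocal

set_option autoImplicit false
open CategoryTheory Limits AlgebraicGeometry TopologicalSpace Opposite
universe u

namespace Groth.Agent.Helper4.AmpleCoprod

open Groth.Agent.Helper4.AmpleLocal Groth.Agent.Helper4.AmpleIso

theorem basicOpen_eq_of_res (T : Scheme.{u}) (U₁ U₂ : T.Opens) (hsup : U₁ ⊔ U₂ = ⊤)
    (a : Γ(T, ⊤)) (ha1 : T.presheaf.map (homOfLE (le_top : U₁ ≤ ⊤)).op a = 1)
    (ha2 : T.presheaf.map (homOfLE (le_top : U₂ ≤ ⊤)).op a = 0) : T.basicOpen a = U₁ := by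
  have k1 : U₁ ⊓ T.basicOpen a = U₁ := by
    rw [← Scheme.basicOpen_res T a (homOfLE (le_top : U₁ ≤ ⊤)).op, ha1]
    exact Scheme.basicOpen_of_isUnit T isUnit_one
  have k2 : U₂ ⊓ T.basicOpen a = ⊥ := by
    rw [← Scheme.basicOpen_res T a (homOfLE (le_top : U₂ ≤ ⊤)).op, ha2]
    exact Scheme.basicOpen_zero T U₂
  have k3 : T.basicOpen a = (U₁ ⊔ U₂) ⊓ T.basicOpen a := by rw [hsup, top_inf_eq]
  rw [k3, inf_sup_right, k1, k2, sup_bot_eq]

/-- idempotent cutting out a clopen piece -/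
theorem exists_idempotent (T : Scheme.{u}) (U₁ U₂ : T.Opens) (hsup : U₁ ⊔ U₂ = ⊤)
    (hinf : U₁ ⊓ U₂ = ⊥) :
    ∃ e : Γ(T, ⊤), T.basicOpen e = U₁ ∧ T.basicOpen (1 - e) = U₂ := by
  haveI : Subsingleton Γ(T, U₁ ⊓ U₂) := by rw [hinf]; infer_instance
  let x : RingHom.eqLocus
      (RingHom.comp (T.sheaf.obj.map (homOfLE inf_le_left : U₁ ⊓ U₂ ⟶ U₁).op).hom
        (RingHom.fst (T.sheaf.obj.obj <| op U₁) (T.sheaf.obj.obj <| op U₂)))
      (RingHom.comp (T.sheaf.obj.map (homOfLE inf_le_right : U₁ ⊓ U₂ ⟶ U₂).op).hom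
        (RingHom.snd (T.sheaf.obj.obj <| op U₁) (T.sheaf.obj.obj <| op U₂))) :=
    ⟨(1, 0), Subsingleton.elim (α := Γ(T, U₁ ⊓ U₂)) _ _⟩
  let e₀ : Γ(T, U₁ ⊔ U₂) := (T.sheaf.objSupIsoProdEqLocus U₁ U₂).inv x
  have h1 : T.presheaf.map (homOfLE le_sup_left).op e₀ = (1 : Γ(T, U₁)) :=
    TopCat.Sheaf.objSupIsoProdEqLocus_inv_fst T.sheaf U₁ U₂ x
  have h2 : T.presheaf.map (homOfLE le_sup_right).op e₀ = (0 : Γ(T, U₂)) :=
    TopCat.Sheaf.objSupIsoProdEqLocus_inv_snd T.sheaf U₁ U₂ x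
  have hle : (⊤ : T.Opens) ≤ U₁ ⊔ U₂ := hsup.ge
  let e : Γ(T, ⊤) := T.presheaf.map (homOfLE hle).op e₀
  have he1 : T.presheaf.map (homOfLE (le_top : U₁ ≤ ⊤)).op e = 1 := by
    rw [← h1]
    change (T.presheaf.map (homOfLE hle).op ≫ T.presheaf.map (homOfLE (le_top : U₁ ≤ ⊤)).op) e₀ = _
    rw [← Functor.map_comp]
    rfl
  have he2 : T.presheaf.map (homOfLE (le_top : U₂ ≤ ⊤)).op e = 0 := by
    rw [← h2]
    change (T.presheaf.map (homOfLE hle).op ≫ T.presheaf.map (homOfLE (le_top : U₂ ≤ ⊤)).op) e₀ = _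
    rw [← Functor.map_comp]
    rfl
  refine ⟨e, basicOpen_eq_of_res T U₁ U₂ hsup e he1 he2, ?_⟩
  apply basicOpen_eq_of_res T U₂ U₁ (by rw [sup_comm]; exact hsup)
  · rw [map_sub, map_one, he2, sub_zero]
  · rw [map_sub, map_one, he1, sub_self]

theorem isAmple_of_isCompl {T : Scheme.{u}} [CompactSpace T] (M : T.Modules) (U₁ U₂ : T.Opens)
    (hsup : U₁ ⊔ U₂ = ⊤) (hinf : U₁ ⊓ U₂ = ⊥)
    (h₁ : CohB1.IsAmple (M.restrict U₁.ι)) (h₂ : CohB1.IsAmple (M.restrict U₂.ι)) :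
    CohB1.IsAmple M := by
  obtain ⟨e, he1, he2⟩ := exists_idempotent T U₁ U₂ hsup hinf
  refine isAmple_of_basicOpen_cover M (fun b : Bool => if b then e else 1 - e) ?_ ?_
  · intro x
    have hx : x ∈ U₁ ⊔ U₂ := by rw [hsup]; trivial
    rcases hx with hx | hx
    · refine ⟨true, ?_⟩
      simp only [if_true]
      rw [he1]; exact hx
    · refine ⟨false, ?_⟩
      simp only [Bool.false_eq_true, if_false]
      rw [he2]; exact hx
  · intro b
    cases b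
    · change CohB1.IsAmple (M.restrict (T.basicOpen (1 - e)).ι)
      rw [he2]; exact h₂
    · change CohB1.IsAmple (M.restrict (T.basicOpen e).ι)
      rw [he1]; exact h₁

theorem isAmple_pullback_restrict_iff {P U : Scheme.{u}} (j : U ⟶ P) [IsOpenImmersion j]
    (L : P.Modules) (W : U.Opens) :
    CohB1.IsAmple (((Scheme.Modules.pullback j).obj L).restrict W.ι) ↔
      CohB1.IsAmple (L.restrict (W.ι ≫ j)) := by
  rw [← isAmple_restrict_restrict]
  exact isAmple_iff_of_iso ((Scheme.Modules.restrictFunctor W.ι).mapIso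
    ((Scheme.Modules.restrictFunctorIsoPullback j).app L)).symm

theorem isRelAmple_pullback_of_isOpenImmersion {P U Y : Scheme.{u}} (j : U ⟶ P)
    [IsOpenImmersion j] (g : P ⟶ Y) [QuasiCompact (j ≫ g)] (L : P.Modules)
    (h : RelAmple.IsRelAmple g L) :
    RelAmple.IsRelAmple (j ≫ g) ((Scheme.Modules.pullback j).obj L) := by
  refine ⟨inferInstance, fun V => ?_⟩
  rw [isAmple_pullback_restrict_iff]
  haveI : CompactSpace (((j ≫ g) ⁻¹ᵁ V.1 : U.Opens) : Scheme.{u}) :=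
    isCompact_iff_compactSpace.mp
      (QuasiCompact.isCompact_preimage (f := j ≫ g) _ V.1.isOpen V.2.isCompact)
  refine isAmple_restrict_of_range_le _ (g ⁻¹ᵁ V.1).ι ?_ (h.2 V)
  rintro _ ⟨z, rfl⟩
  rw [Scheme.Opens.range_ι]
  have hz : (j ≫ g) z.1 ∈ V.1 := z.2
  rw [Scheme.Hom.comp_apply] at hz
  rw [Scheme.Hom.comp_apply]
  exact hz

theorem isRelAmple_of_isCompl {P U₁ U₂ Y : Scheme.{u}} (j₁ : U₁ ⟶ P) (j₂ : U₂ ⟶ P)
    [IsOpenImmersion j₁] [IsOpenImmersion j₂]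
    (hsup : j₁.opensRange ⊔ j₂.opensRange = ⊤) (hinf : j₁.opensRange ⊓ j₂.opensRange = ⊥)
    (g : P ⟶ Y) [QuasiCompact g] (L : P.Modules)
    (h₁ : RelAmple.IsRelAmple (j₁ ≫ g) ((Scheme.Modules.pullback j₁).obj L))
    (h₂ : RelAmple.IsRelAmple (j₂ ≫ g) ((Scheme.Modules.pullback j₂).obj L)) :
    RelAmple.IsRelAmple g L := by
  refine ⟨inferInstance, fun V => ?_⟩
  let T : P.Opens := g ⁻¹ᵁ V.1
  haveI : CompactSpace (T : Scheme.{u}) :=
    isCompact_iff_compactSpace.mp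
      (QuasiCompact.isCompact_preimage (f := g) _ V.1.isOpen V.2.isCompact)
  have hsup' : T.ι ⁻¹ᵁ j₁.opensRange ⊔ T.ι ⁻¹ᵁ j₂.opensRange = ⊤ := by
    rw [← Scheme.Hom.preimage_sup, hsup]; rfl
  have hinf' : T.ι ⁻¹ᵁ j₁.opensRange ⊓ T.ι ⁻¹ᵁ j₂.opensRange = ⊥ := by
    rw [← Scheme.Hom.preimage_inf, hinf]; rfl
  have key : ∀ {U : Scheme.{u}} (j : U ⟶ P) [IsOpenImmersion j] (W : (T : Scheme.{u}).Opens)
      (hW : W = T.ι ⁻¹ᵁ j.opensRange) (hc : IsClosed (W : Set T))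
      (h : RelAmple.IsRelAmple (j ≫ g) ((Scheme.Modules.pullback j).obj L)),
      CohB1.IsAmple ((L.restrict T.ι).restrict W.ι) := by
    intro U j _ W hW hc h
    rw [isAmple_restrict_restrict]
    haveI : CompactSpace (W : Scheme.{u}) := isCompact_iff_compactSpace.mp hc.isCompact
    have h' := (isAmple_pullback_restrict_iff j L ((j ≫ g) ⁻¹ᵁ V.1)).mp (h.2 V)
    refine isAmple_restrict_of_range_le _ _ ?_ h'
    rintro _ ⟨w, rfl⟩
    have hw : T.ι w.1 ∈ j.opensRange := by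
      have hmem : w.1 ∈ W := w.2
      have hmem' : w.1 ∈ T.ι ⁻¹ᵁ j.opensRange := hW ▸ hmem
      exact hmem'
    obtain ⟨z, hz⟩ := hw
    have hzV : (j ≫ g) z ∈ V.1 := by
      rw [Scheme.Hom.comp_apply, hz]
      exact w.1.2
    refine ⟨⟨z, hzV⟩, ?_⟩
    rw [Scheme.Hom.comp_apply, Scheme.Hom.comp_apply]
    exact hz
  refine isAmple_of_isCompl (L.restrict T.ι) _ _ hsup' hinf' (key j₁ _ rfl ?_ h₁) (key j₂ _ rfl ?_ h₂)
  · have : ((T.ι ⁻¹ᵁ j₁.opensRange : (T : Scheme.{u}).Opens) : Set T) =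
        ((T.ι ⁻¹ᵁ j₂.opensRange : (T : Scheme.{u}).Opens) : Set T)ᶜ := by
      have a := congrArg (fun O : (T : Scheme.{u}).Opens => (O : Set T)) hsup'
      have b := congrArg (fun O : (T : Scheme.{u}).Opens => (O : Set T)) hinf'
      simp only [Opens.coe_sup, Opens.coe_inf, Opens.coe_top, Opens.coe_bot] at a b
      exact (IsCompl.eq_compl ⟨disjoint_iff.mpr b, codisjoint_iff.mpr a⟩)
    rw [this]
    exact (T.ι ⁻¹ᵁ j₂.opensRange).isOpen.isClosed_compl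
  · have : ((T.ι ⁻¹ᵁ j₂.opensRange : (T : Scheme.{u}).Opens) : Set T) =
        ((T.ι ⁻¹ᵁ j₁.opensRange : (T : Scheme.{u}).Opens) : Set T)ᶜ := by
      have a := congrArg (fun O : (T : Scheme.{u}).Opens => (O : Set T)) hsup'
      have b := congrArg (fun O : (T : Scheme.{u}).Opens => (O : Set T)) hinf'
      simp only [Opens.coe_sup, Opens.coe_inf, Opens.coe_top, Opens.coe_bot] at a b
      rw [Set.union_comm] at a
      rw [Set.inter_comm] at b
      exact (IsCompl.eq_compl ⟨disjoint_iff.mpr b, codisjoint_iff.mpr a⟩)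
    rw [this]
    exact (T.ι ⁻¹ᵁ j₁.opensRange).isOpen.isClosed_compl

theorem quasiCompact_coprod_desc {X X' Y : Scheme.{u}} (f : X ⟶ Y) (f' : X' ⟶ Y)
    [QuasiCompact f] [QuasiCompact f'] : QuasiCompact (coprod.desc f f') := by
  constructor
  intro U hU hUc
  have hset : (coprod.desc f f') ⁻¹' U =
      (coprod.inl : X ⟶ X ⨿ X') '' (f ⁻¹' U) ∪ (coprod.inr : X' ⟶ X ⨿ X') '' (f' ⁻¹' U) := by
    ext x
    obtain ⟨x | x, rfl⟩ := (coprodMk X X').surjective x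
    · rw [coprodMk_inl]
      have e1 : (coprod.desc f f') ((coprod.inl : X ⟶ X ⨿ X') x) = f x := by
        rw [← Scheme.Hom.comp_apply, coprod.inl_desc]
      constructor
      · intro hx
        exact Or.inl ⟨x, by rw [Set.mem_preimage, ← e1]; exact hx, rfl⟩
      · rintro (⟨y, hy, hyx⟩ | ⟨y, hy, hyx⟩)
        · have : y = x := (coprod.inl : X ⟶ X ⨿ X').isOpenEmbedding.injective hyx
          subst this
          rw [Set.mem_preimage, e1]; exact hy
        · exact absurd hyx (inr_ne_inl _ _ _ _)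
    · rw [coprodMk_inr]
      have e1 : (coprod.desc f f') ((coprod.inr : X' ⟶ X ⨿ X') x) = f' x := by
        rw [← Scheme.Hom.comp_apply, coprod.inr_desc]
      constructor
      · intro hx
        exact Or.inr ⟨x, by rw [Set.mem_preimage, ← e1]; exact hx, rfl⟩
      · rintro (⟨y, hy, hyx⟩ | ⟨y, hy, hyx⟩)
        · exact absurd hyx (inl_ne_inr _ _ _ _)
        · have : y = x := (coprod.inr : X' ⟶ X ⨿ X').isOpenEmbedding.injective hyx
          subst this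
          rw [Set.mem_preimage, e1]; exact hy
  rw [hset]
  exact ((QuasiCompact.isCompact_preimage (f := f) U hU hUc).image
      (coprod.inl : X ⟶ X ⨿ X').continuous).union
    ((QuasiCompact.isCompact_preimage (f := f') U hU hUc).image
      (coprod.inr : X' ⟶ X ⨿ X').continuous)

end Groth.Agent.Helper4.AmpleCoprod
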