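import Mathlib
import Groth.Agent.Helper4.AmpleCoprod
import Groth.Prelude.Def_RelProj

set_option autoImplicit false
open CategoryTheory Limits AlgebraicGeometry TopologicalSpace Opposite
universe u

namespace Groth.Agent.Helper4.CoprodMod

open Groth.Agent.Helper4.AmpleIso Groth.Agent.Helper4.AmpleCoprod Groth.Agent.Helper4.TwistExt

variable {P U₁ U₂ : Scheme.{u}} (j₁ : U₁ ⟶ P) (j₂ : U₂ ⟶ P) [IsOpenImmersion j₁]
  [IsOpenImmersion j₂]

theorem isZero_restrict_pushforward_of_disjoint (hinf : j₁.opensRange ⊓ j₂.opensRange = ⊥)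
    (L₂ : U₂.Modules) :
    IsZero ((Scheme.Modules.restrictFunctor j₁).obj ((Scheme.Modules.pushforward j₂).obj L₂)) := by
  rw [IsZero.iff_id_eq_zero]
  apply Scheme.Modules.hom_ext
  intro V
  ext m
  have hV : j₂ ⁻¹ᵁ (j₁ ''ᵁ V) = ⊥ := by
    ext y
    simp only [Opens.coe_bot, Set.mem_empty_iff_false, iff_false]
    rintro ⟨z, -, hz⟩
    have h1 : j₂ y ∈ j₁.opensRange ⊓ j₂.opensRange := ⟨⟨z, hz⟩, ⟨y, rfl⟩⟩
    rw [hinf] at h1
    exact h1
  change (show Γ(L₂, j₂ ⁻¹ᵁ (j₁ ''ᵁ V)) from m) = (0 : Γ(L₂, j₂ ⁻¹ᵁ (j₁ ''ᵁ V)))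
  apply eq_of_cover L₂
  intro y hy
  rw [hV] at hy
  exact hy.elim

/-- the module on `P` glued from modules on two disjoint open subschemes -/
noncomputable def glueMod (L₁ : U₁.Modules) (L₂ : U₂.Modules) : P.Modules :=
  (Scheme.Modules.pushforward j₁).obj L₁ ⊞ (Scheme.Modules.pushforward j₂).obj L₂

noncomputable def isoOfIsZeroRight {C : Type*} [Category C] [Preadditive C] {D : Type*} [Category D]
    [Preadditive D] (F : C ⥤ D) [F.Additive] (A B : C) [HasBinaryBiproduct A B]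
    (hB : IsZero (F.obj B)) : F.obj (A ⊞ B) ≅ F.obj A where
  hom := F.map biprod.fst
  inv := F.map biprod.inl
  hom_inv_id := by
    rw [← F.map_comp]
    have h1 : (biprod.fst : A ⊞ B ⟶ A) ≫ biprod.inl = 𝟙 _ - biprod.snd ≫ biprod.inr := by
      rw [eq_sub_iff_add_eq, biprod.total]
    rw [h1, F.map_sub, F.map_id, F.map_comp, hB.eq_of_tgt (F.map biprod.snd) 0, zero_comp, sub_zero]
  inv_hom_id := by rw [← F.map_comp, biprod.inl_fst, F.map_id]

noncomputable def isoOfIsZeroLeft {C : Type*} [Category C] [Preadditive C] {D : Type*} [Category D]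
    [Preadditive D] (F : C ⥤ D) [F.Additive] (A B : C) [HasBinaryBiproduct A B]
    (hA : IsZero (F.obj A)) : F.obj (A ⊞ B) ≅ F.obj B where
  hom := F.map biprod.snd
  inv := F.map biprod.inr
  hom_inv_id := by
    rw [← F.map_comp]
    have h1 : (biprod.snd : A ⊞ B ⟶ B) ≫ biprod.inr = 𝟙 _ - biprod.fst ≫ biprod.inl := by
      rw [eq_sub_iff_add_eq, add_comm, biprod.total]
    rw [h1, F.map_sub, F.map_id, F.map_comp, hA.eq_of_tgt (F.map biprod.fst) 0, zero_comp, sub_zero]
  inv_hom_id := by rw [← F.map_comp, biprod.inr_snd, F.map_id]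

instance : (Scheme.Modules.restrictFunctor j₁).Additive :=
  (Scheme.Modules.restrictAdjunction j₁).left_adjoint_additive

noncomputable def restrictGlueIso₁ (hinf : j₁.opensRange ⊓ j₂.opensRange = ⊥) (L₁ : U₁.Modules)
    (L₂ : U₂.Modules) : (glueMod j₁ j₂ L₁ L₂).restrict j₁ ≅ L₁ :=
  isoOfIsZeroRight (Scheme.Modules.restrictFunctor j₁) _ _
      (isZero_restrict_pushforward_of_disjoint j₁ j₂ hinf L₂) ≪≫
    (Scheme.Modules.restrictFunctorAdjCounitIso j₁).app L₁

noncomputable def restrictGlueIso₂ (hinf : j₁.opensRange ⊓ j₂.opensRange = ⊥) (L₁ : U₁.Modules)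
    (L₂ : U₂.Modules) : (glueMod j₁ j₂ L₁ L₂).restrict j₂ ≅ L₂ :=
  isoOfIsZeroLeft (Scheme.Modules.restrictFunctor j₂) _ _
      (isZero_restrict_pushforward_of_disjoint j₂ j₁ (by rw [inf_comm]; exact hinf) L₁) ≪≫
    (Scheme.Modules.restrictFunctorAdjCounitIso j₂).app L₂

theorem isRelAmple_of_iso {X Y : Scheme.{u}} {f : X ⟶ Y} {L L' : X.Modules} (e : L ≅ L')
    (h : RelAmple.IsRelAmple f L) : RelAmple.IsRelAmple f L' :=
  ⟨h.1, fun V => isAmple_of_iso ((Scheme.Modules.restrictFunctor _).mapIso e) (h.2 V)⟩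

/-- S4417 -/
theorem isQuasiProjective_coprod {X X' Y : Scheme.{u}} (f : X ⟶ Y) (f' : X' ⟶ Y)
    (hf : RelProj.IsQuasiProjective f) (hf' : RelProj.IsQuasiProjective f') :
    RelProj.IsQuasiProjective (coprod.desc f f') := by
  obtain ⟨hft, hqc, L, hL⟩ := hf
  obtain ⟨hft', hqc', L', hL'⟩ := hf'
  haveI := hqc
  haveI := hqc'
  haveI : QuasiCompact (coprod.desc f f') := quasiCompact_coprod_desc f f'
  have hc := isCompl_opensRange_inl_inr X X'
  have hinf : (coprod.inl : X ⟶ X ⨿ X').opensRange ⊓ (coprod.inr : X' ⟶ X ⨿ X').opensRange = ⊥ :=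
    hc.inf_eq_bot
  have hsup : (coprod.inl : X ⟶ X ⨿ X').opensRange ⊔ (coprod.inr : X' ⟶ X ⨿ X').opensRange = ⊤ :=
    hc.sup_eq_top
  refine ⟨?_, inferInstance, glueMod coprod.inl coprod.inr L L', ?_⟩
  · refine IsZariskiLocalAtSource.of_openCover (P := @LocallyOfFiniteType)
      (coprodOpenCover.{u, 0} X X') ?_
    rintro (⟨⟩ | ⟨⟩)
    · change LocallyOfFiniteType (coprod.inl ≫ coprod.desc f f')
      rw [coprod.inl_desc]; exact hft
    · change LocallyOfFiniteType (coprod.inr ≫ coprod.desc f f')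
      rw [coprod.inr_desc]; exact hft'
  · refine isRelAmple_of_isCompl coprod.inl coprod.inr hsup hinf (coprod.desc f f') _ ?_ ?_
    · have e : L ≅ (Scheme.Modules.pullback (coprod.inl : X ⟶ X ⨿ X')).obj
          (glueMod coprod.inl coprod.inr L L') :=
        (restrictGlueIso₁ coprod.inl coprod.inr hinf L L').symm ≪≫
          (Scheme.Modules.restrictFunctorIsoPullback coprod.inl).app _
      have h1 := isRelAmple_of_iso e hL
      have h2 : (coprod.inl : X ⟶ X ⨿ X') ≫ coprod.desc f f' = f := coprod.inl_desc f f'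
      rw [h2]; exact h1
    · have e : L' ≅ (Scheme.Modules.pullback (coprod.inr : X' ⟶ X ⨿ X')).obj
          (glueMod coprod.inl coprod.inr L L') :=
        (restrictGlueIso₂ coprod.inl coprod.inr hinf L L').symm ≪≫
          (Scheme.Modules.restrictFunctorIsoPullback coprod.inr).app _
      have h1 := isRelAmple_of_iso e hL'
      have h2 : (coprod.inr : X' ⟶ X ⨿ X') ≫ coprod.desc f f' = f' := coprod.inr_desc f f'
      rw [h2]; exact h1

end Groth.Agent.Helper4.CoprodMod
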