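import Mathlib
import Groth.Agent.Helper1.PF4
import Groth.Agent.Helper9.ClImmPF1
import Groth.Agent.Helper4.CoprodMod

/-!
# The projection formula `f_* F ⊗ E ≅ f_* (F ⊗ f^* E)` for finite locally free `E`
-/

set_option autoImplicit false
set_option linter.style.haveILetI false
set_option linter.unusedSectionVars false

namespace Groth.Agent.Helper4.SN

open CategoryTheory Limits AlgebraicGeometry Opposite TopologicalSpace
open Groth.Agent.Helper1.PF

universe u

section Add

variable {C D : Type*} [Category C] [Category D] [Preadditive C] [Preadditive D]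

/-- a natural transformation of additive functors is invertible on a finite direct sum as soon as
it is invertible on the summands -/
theorem isIso_app_of_decomp {S₁ S₂ : C ⥤ D} [S₁.Additive] [S₂.Additive] (Φ : S₁ ⟶ S₂)
    {ι : Type*} [Fintype ι] (G : C) (L : ι → C) (inc : ∀ i, L i ⟶ G) (pr : ∀ i, G ⟶ L i)
    (htot : ∑ i, pr i ≫ inc i = 𝟙 G) (h : ∀ i, IsIso (Φ.app (L i))) : IsIso (Φ.app G) := by
  refine ⟨⟨∑ i, S₂.map (pr i) ≫ inv (Φ.app (L i)) ≫ S₁.map (inc i), ?_, ?_⟩⟩
  · rw [Preadditive.comp_sum]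
    have h1 : ∀ i, Φ.app G ≫ S₂.map (pr i) ≫ inv (Φ.app (L i)) ≫ S₁.map (inc i) =
        S₁.map (pr i ≫ inc i) := by
      intro i
      rw [← Category.assoc, ← Φ.naturality, Category.assoc, IsIso.hom_inv_id_assoc,
        Functor.map_comp]
    rw [Finset.sum_congr rfl (fun i _ => h1 i), ← Functor.map_sum, htot, CategoryTheory.Functor.map_id]
  · rw [Preadditive.sum_comp]
    have h1 : ∀ i, (S₂.map (pr i) ≫ inv (Φ.app (L i)) ≫ S₁.map (inc i)) ≫ Φ.app G =
        S₂.map (pr i ≫ inc i) := by
      intro i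
      rw [Category.assoc, Category.assoc, Φ.naturality, IsIso.inv_hom_id_assoc,
        Functor.map_comp]
    rw [Finset.sum_congr rfl (fun i _ => h1 i), ← Functor.map_sum, htot, CategoryTheory.Functor.map_id]

theorem sigma_total {β : Type*} [Fintype β] [DecidableEq β] (f : β → C) [HasCoproduct f] :
    ∑ b, Sigma.π f b ≫ Sigma.ι f b = 𝟙 (∐ f) := by
  apply Sigma.hom_ext
  intro c
  rw [Preadditive.comp_sum, Category.comp_id, Finset.sum_eq_single c]
  · rw [Sigma.ι_π_eq_id_assoc]
  · intro b _ hb
    rw [Sigma.ι_π_of_ne_assoc _ (Ne.symm hb), zero_comp]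
  · simp

end Add

section Functors

variable {X Y : Scheme.{u}} (f : X ⟶ Y) (F : X.Modules)

/-- `E ↦ f_* F ⊗ E` -/
noncomputable def T₁ : Y.Modules ⥤ Y.Modules :=
  DCoh.tensorBi.obj ((Scheme.Modules.pushforward f).obj F)

/-- `E ↦ f_* (F ⊗ f^* E)` -/
noncomputable def T₂ : Y.Modules ⥤ Y.Modules :=
  Scheme.Modules.pullback f ⋙ DCoh.tensorBi.obj F ⋙ Scheme.Modules.pushforward f

instance : (T₁ f F).Additive := by unfold T₁; infer_instance

instance : (T₂ f F).Additive := by unfold T₂; infer_instance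

theorem T₁_map {E E' : Y.Modules} (ψ : E ⟶ E') :
    (T₁ f F).map ψ = KoszTw.tensorMap (𝟙 ((Scheme.Modules.pushforward f).obj F)) ψ :=
  KoszTw.tensorBi_obj_map _ ψ

theorem T₂_map {E E' : Y.Modules} (ψ : E ⟶ E') :
    (T₂ f F).map ψ = (Scheme.Modules.pushforward f).map
      (KoszTw.tensorMap (𝟙 F) ((Scheme.Modules.pullback f).map ψ)) := by
  change (Scheme.Modules.pushforward f).map
    ((DCoh.tensorBi.obj F).map ((Scheme.Modules.pullback f).map ψ)) = _
  exact congrArg _ (KoszTw.tensorBi_obj_map F ((Scheme.Modules.pullback f).map ψ))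

/-- the projection morphism as a natural transformation -/
noncomputable def Φ : T₁ f F ⟶ T₂ f F where
  app E := projMap f F E
  naturality E E' ψ := by
    rw [T₁_map, T₂_map]
    have h := Groth.Agent.Helper9.ClImmPF1.projMap_natural f (𝟙 F) ψ
    rw [CategoryTheory.Functor.map_id] at h
    exact h

theorem Φ_app (E : Y.Modules) : (Φ f F).app E = projMap f F E := rfl

end Functors

section Local

open Groth.Agent.Helper4.TensorLift Groth.Agent.Helper4.TwistExt Groth.Agent.Helper4.TensorAssoc
  Groth.Agent.Helper4.GenLoc Groth.Agent.Helper4.PullTensor Groth.Agent.Helper4.PullMate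
  Groth.Agent.Helper4.PullUnit Groth.Agent.Helper4.TensorRes

variable {X Y : Scheme.{u}} (f : X ⟶ Y) (F : X.Modules)

set_option maxHeartbeats 1000000 in
/-- the projection morphism is an isomorphism over an open where `L` is trivial -/
theorem isIso_restrict_projMap_of_triv (L : Y.Modules) (T : Y.Opens)
    (ε : L.restrict T.ι ≅ Coh.structureModule (T : Scheme.{u})) :
    IsIso ((Scheme.Modules.restrictFunctor T.ι).map (projMap f F L)) := by
  rw [isIso_restrict_iff]
  intro V hVT
  obtain ⟨T₂, e, T₂', e', hT₂, hfr, hT₂', hfr', hcomp⟩ := exists_frames f L T ε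
  have hV₂ : V ≤ T₂ := hVT.trans hT₂
  have hpre : f ⁻¹ᵁ V ≤ f ⁻¹ᵁ T := fun x hx => hVT hx
  have hV' : f ⁻¹ᵁ V ≤ T₂' := hpre.trans hT₂'
  have hY := tmul_frame_bijective ((Scheme.Modules.pushforward f).obj F) L T₂ e hfr hV₂ T ε hVT
  have hX := tmul_frame_bijective F ((Scheme.Modules.pullback f).obj L) T₂' e' hfr' hV'
    (f ⁻¹ᵁ T) (frameIso f T L ε).symm hpre
  have hc : (fun σ => (projMap f F L).app V σ) ∘
      (fun a : Γ((Scheme.Modules.pushforward f).obj F, V) =>
        SecTwist.tmul ((Scheme.Modules.pushforward f).obj F) L V a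
          (L.presheaf.map (homOfLE hV₂).op e)) =
      (fun a : Γ(F, f ⁻¹ᵁ V) =>
        SecTwist.tmul F ((Scheme.Modules.pullback f).obj L) (f ⁻¹ᵁ V) a
          (((Scheme.Modules.pullback f).obj L).presheaf.map (homOfLE hV').op e')) := by
    funext a
    show (projMap f F L).app V (SecTwist.tmul _ L V a (L.presheaf.map (homOfLE hV₂).op e)) = _
    rw [projMap_tmul, hcomp V hV₂ hV']
  have h2 : Function.Bijective ((fun σ => (projMap f F L).app V σ) ∘
      (fun a : Γ((Scheme.Modules.pushforward f).obj F, V) =>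
        SecTwist.tmul ((Scheme.Modules.pushforward f).obj F) L V a
          (L.presheaf.map (homOfLE hV₂).op e))) := by
    rw [hc]
    exact hX
  exact (Function.Bijective.of_comp_iff _ hY).1 h2

/-- naturality of the compatibility of the tensor product with restriction -/
theorem resIso_natural {Z : Scheme.{u}} (U : Z.Opens) {A A' B B' : Z.Modules} (α : A ⟶ A')
    (β : B ⟶ B') :
    (resIso U.ι A B).hom ≫ (Scheme.Modules.restrictFunctor U.ι).map (KoszTw.tensorMap α β) =
      KoszTw.tensorMap ((Scheme.Modules.restrictFunctor U.ι).map α)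
        ((Scheme.Modules.restrictFunctor U.ι).map β) ≫ (resIso U.ι A' B').hom := by
  apply TensorLift.hom_ext
  intro V m n
  have e1 : ((resIso U.ι A B).hom ≫
      (Scheme.Modules.restrictFunctor U.ι).map (KoszTw.tensorMap α β)).app V
        (SecTwist.tmul (A.restrict U.ι) (B.restrict U.ι) V m n) =
      (KoszTw.tensorMap α β).app (U.ι ''ᵁ V) (SecTwist.tmul A B (U.ι ''ᵁ V) m n) := by
    change ((Scheme.Modules.restrictFunctor U.ι).map (KoszTw.tensorMap α β)).app V
      ((resIso U.ι A B).hom.app V (SecTwist.tmul (A.restrict U.ι) (B.restrict U.ι) V m n)) = _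
    rw [resIso_hom_tmul]
    rfl
  have e2 : (KoszTw.tensorMap ((Scheme.Modules.restrictFunctor U.ι).map α)
      ((Scheme.Modules.restrictFunctor U.ι).map β) ≫ (resIso U.ι A' B').hom).app V
        (SecTwist.tmul (A.restrict U.ι) (B.restrict U.ι) V m n) =
      SecTwist.tmul A' B' (U.ι ''ᵁ V) (α.app (U.ι ''ᵁ V) m) (β.app (U.ι ''ᵁ V) n) := by
    change (resIso U.ι A' B').hom.app V
      ((KoszTw.tensorMap ((Scheme.Modules.restrictFunctor U.ι).map α)
        ((Scheme.Modules.restrictFunctor U.ι).map β)).app V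
          (SecTwist.tmul (A.restrict U.ι) (B.restrict U.ι) V m n)) = _
    rw [KoszTw.tensorMap_tmul, resIso_hom_tmul]
    rfl
  rw [e1, e2]
  exact KoszTw.tensorMap_tmul α β (U.ι ''ᵁ V) m n

/-- tensoring preserves being an isomorphism over an open -/
theorem isIso_restrict_tensorMap {Z : Scheme.{u}} (U : Z.Opens) (A : Z.Modules) {B B' : Z.Modules}
    (β : B ⟶ B') [h : IsIso ((Scheme.Modules.restrictFunctor U.ι).map β)] :
    IsIso ((Scheme.Modules.restrictFunctor U.ι).map (KoszTw.tensorMap (𝟙 A) β)) := by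
  have h1 := resIso_natural U (𝟙 A) β
  have h2 : IsIso (KoszTw.tensorMap ((Scheme.Modules.restrictFunctor U.ι).map (𝟙 A))
      ((Scheme.Modules.restrictFunctor U.ι).map β)) := by
    rw [CategoryTheory.Functor.map_id, ← KoszTw.tensorBi_obj_map]
    exact CategoryTheory.Functor.map_isIso
      (DCoh.tensorBi.obj ((Scheme.Modules.restrictFunctor U.ι).obj A)) _
  have h3 : (Scheme.Modules.restrictFunctor U.ι).map (KoszTw.tensorMap (𝟙 A) β) =
      (resIso U.ι A B).inv ≫ KoszTw.tensorMap ((Scheme.Modules.restrictFunctor U.ι).map (𝟙 A))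
        ((Scheme.Modules.restrictFunctor U.ι).map β) ≫ (resIso U.ι A B').hom := by
    rw [← h1, Iso.inv_hom_id_assoc]
  rw [h3]
  infer_instance

set_option maxHeartbeats 1000000 in
/-- the projection morphism is an isomorphism over an open where `E` is free of finite rank -/
theorem isIso_restrict_projMap_of_free (E : Y.Modules) (T : Y.Opens) (n : ℕ)
    (ε : E.restrict T.ι ≅ FlatMod.freeMod (T : Scheme.{u}) n) :
    IsIso ((Scheme.Modules.restrictFunctor T.ι).map (projMap f F E)) := by
  let R := Scheme.Modules.restrictFunctor T.ι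
  let P := Scheme.Modules.pushforward T.ι
  let OT := Coh.structureModule (T : Scheme.{u})
  let L₀ : Y.Modules := P.obj OT
  let G : Y.Modules := P.obj (FlatMod.freeMod (T : Scheme.{u}) n)
  have ε₀ : L₀.restrict T.ι ≅ OT := (Scheme.Modules.restrictFunctorAdjCounitIso T.ι).app OT
  have h0 : IsIso (R.map (projMap f F L₀)) := isIso_restrict_projMap_of_triv f F L₀ T ε₀
  let Φ' : T₁ f F ⋙ R ⟶ T₂ f F ⋙ R := Functor.whiskerRight (Φ f F) R
  have h0' : IsIso (Φ'.app L₀) := h0
  let inc : Fin n → (L₀ ⟶ G) := fun i => P.map (Sigma.ι (fun _ : Fin n => OT) i)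
  let pr : Fin n → (G ⟶ L₀) := fun i => P.map (Sigma.π (fun _ : Fin n => OT) i)
  have htot : ∑ i, pr i ≫ inc i = 𝟙 G := by
    have h1 : ∀ i, pr i ≫ inc i =
        P.map (Sigma.π (fun _ : Fin n => OT) i ≫ Sigma.ι (fun _ : Fin n => OT) i) := by
      intro i
      exact (P.map_comp _ _).symm
    rw [Finset.sum_congr rfl (fun i _ => h1 i), ← Functor.map_sum, sigma_total,
      CategoryTheory.Functor.map_id]
  have hG : IsIso (Φ'.app G) :=
    isIso_app_of_decomp Φ' G (fun _ => L₀) inc pr htot (fun _ => h0')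
  let ψ : E ⟶ G := (Scheme.Modules.restrictAdjunction T.ι).unit.app E ≫ P.map ε.hom
  have hψ : IsIso (R.map ψ) := by
    have h1 : IsIso (R.map ((Scheme.Modules.restrictAdjunction T.ι).unit.app E)) := by
      have h2 := (Scheme.Modules.restrictAdjunction T.ι).left_triangle_components E
      exact IsIso.of_isIso_fac_right h2
    have h3 : IsIso (R.map (P.map ε.hom)) := inferInstance
    rw [show R.map ψ = R.map ((Scheme.Modules.restrictAdjunction T.ι).unit.app E) ≫
      R.map (P.map ε.hom) from R.map_comp _ _]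
    infer_instance
  have hS₁ : IsIso ((T₁ f F ⋙ R).map ψ) := by
    rw [Functor.comp_map, T₁_map]
    exact isIso_restrict_tensorMap T _ ψ
  have hS₂ : IsIso ((T₂ f F ⋙ R).map ψ) := by
    rw [Functor.comp_map, T₂_map]
    have h1 : IsIso ((Scheme.Modules.restrictFunctor (f ⁻¹ᵁ T).ι).map
        ((Scheme.Modules.pullback f).map ψ)) := by
      rw [isIso_restrict_pullback_iff (f ⁻¹ᵁ T).ι T.ι f (f ∣_ T) (morphismRestrict_ι f T).symm]
      infer_instance
    have h2 := isIso_restrict_tensorMap (f ⁻¹ᵁ T) F ((Scheme.Modules.pullback f).map ψ)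
    rw [isIso_restrict_iff] at h2
    have h3 : IsIso ((Scheme.Modules.restrictFunctor T.ι).map ((Scheme.Modules.pushforward f).map
        (KoszTw.tensorMap (𝟙 F) ((Scheme.Modules.pullback f).map ψ)))) := by
      rw [isIso_restrict_iff]
      intro V hV
      exact h2 (f ⁻¹ᵁ V) (fun x hx => hV hx)
    exact h3
  have hnat := Φ'.naturality ψ
  have hE : Φ'.app E = (T₁ f F ⋙ R).map ψ ≫ Φ'.app G ≫ inv ((T₂ f F ⋙ R).map ψ) := by
    rw [← Category.assoc, hnat, Category.assoc, IsIso.hom_inv_id, Category.comp_id]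
  change IsIso (Φ'.app E)
  rw [hE]
  infer_instance

/-- **the projection morphism is an isomorphism for finite locally free `E`** -/
theorem isIso_projMap_of_isFinLocFree (E : Y.Modules) (hE : FlatMod.IsFinLocFree E) :
    IsIso (projMap f F E) := by
  apply Groth.Agent.Helper4.AffineIso.isIso_of_isIso_restrict
  intro y
  obtain ⟨T, n, hy, ⟨ε⟩⟩ := hE y
  exact ⟨T, hy, isIso_restrict_projMap_of_free f F E T n ε⟩

/-- **the projection formula for finite locally free modules** -/
noncomputable def projIsoLF (E : Y.Modules) (hE : FlatMod.IsFinLocFree E) :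
    CohB1.tensorMod ((Scheme.Modules.pushforward f).obj F) E ≅
      (Scheme.Modules.pushforward f).obj (CohB1.tensorMod F ((Scheme.Modules.pullback f).obj E)) :=
  @asIso _ _ _ _ (projMap f F E) (isIso_projMap_of_isFinLocFree f F E hE)

end Local

end Groth.Agent.Helper4.SN
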