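import Mathlib
import Groth.Agent.Helper4.SN72
import Groth.Agent.Helper4.SN65
import Groth.Agent.Helper4.SN33
import Groth.Agent.Helper4.NApx62
import Groth.Agent.Helper4.SN69
import Groth.Agent.Lead.LocLift6

/-!
# Degrees of pullbacks of locally free modules along birational morphisms of curves
-/

set_option autoImplicit false
set_option linter.style.haveILetI false
set_option linter.unusedSectionVars false

namespace Groth.Agent.Helper4.SN

open CategoryTheory Limits AlgebraicGeometry Opposite TopologicalSpace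
open Groth.Agent.Helper1.PF Groth.Agent.Helper4.GenLoc

universe u

section Unit

variable {X X' : Scheme.{u}} (f : X' ⟶ X)

theorem isIso_app_of_isIso_restrict (V : X.Opens) [IsIso (f ∣_ V)] : IsIso (f.app V) := by
  have h1 : IsIso ((f ∣_ V).app ⊤) := inferInstance
  rw [morphismRestrict_app] at h1
  have h2 : IsIso (f.app (V.ι ''ᵁ ⊤)) := by
    have hg : ∀ {A B : X'.Opens} (e : A = B), IsIso (X'.presheaf.map (eqToHom e).op) := by
      intro A B e
      subst e
      rw [eqToHom_refl, op_id, X'.presheaf.map_id]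
      infer_instance
    exact @IsIso.of_isIso_comp_right _ _ _ _ _ (f.app (V.ι ''ᵁ ⊤)) _ (hg _) h1
  rw [Scheme.Opens.ι_image_top] at h2
  exact h2

/-- `O_X ⟶ f_* O_{X'}` is an isomorphism over an open over which `f` is an isomorphism -/
theorem isIso_restrict_unitToPush (U : X.Opens) [IsIso (f ∣_ U)] :
    IsIso ((Scheme.Modules.restrictFunctor U.ι).map (ClSub.unitToPush f)) := by
  rw [isIso_restrict_iff]
  intro V hV
  haveI : IsIso (f ∣_ V) := Groth.Agent.Helper4.NApx62.isIso_restrict_of_le f U V hV
  haveI := isIso_app_of_isIso_restrict f V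
  exact ConcreteCategory.bijective_of_isIso (f.app V)

end Unit

section Main

open Groth.Agent.Helper1.Dev Groth.Agent.Lead.Ref1B Groth.Agent.Helper4.AmpleBasis
  Groth.Agent.Helper4.StalkDict

variable (k : Type u) [Field k] {X X' : Scheme.{u}} [X.Over (Spec (CommRingCat.of k))]
  [X'.Over (Spec (CommRingCat.of k))]

/-- Euler characteristics are preserved under affine pushforward -/
theorem euler_push' (f : X' ⟶ X) [IsAffineHom f]
    (hf : f ≫ (X ↘ (Spec (CommRingCat.of k))) = X' ↘ (Spec (CommRingCat.of k)))
    (M : X'.Modules) [Coh.IsQCoh M] :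
    Curv2.euler k X' M = Curv2.euler k X ((Scheme.Modules.pushforward f).obj M) := by
  unfold Curv2.euler
  refine finsum_congr (fun i => ?_)
  obtain ⟨e⟩ := Groth.Agent.Helper1.AffLin.nonempty_HH_linearEquiv f k hf M i
  rw [e.finrank_eq]

variable [IsProper (X ↘ (Spec (CommRingCat.of k)))]

/-- the degree of a pullback along an affine morphism is the rank defect of `f_* O` -/
theorem deg_pullback_eq_rkDefect (f : X' ⟶ X) [IsAffineHom f]
    (hf : f ≫ (X ↘ (Spec (CommRingCat.of k))) = X' ↘ (Spec (CommRingCat.of k)))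
    (n : ℕ) (E : X.Modules) (hE : FlatMod.IsFinLocFreeOfRank n E) :
    Curv2.deg k X' ((Scheme.Modules.pullback f).obj E) n =
      rkDefect k n E ((Scheme.Modules.pushforward f).obj (Coh.structureModule X')) := by
  have hE' := FinLocFree7.isFinLocFree_of_rank E hE
  have hpE : FlatMod.IsFinLocFree ((Scheme.Modules.pullback f).obj E) :=
    Groth.Agent.Lead.LocLift.isFinLocFree_pullback f hE'
  haveI : Coh.IsQCoh ((Scheme.Modules.pullback f).obj E) :=
    FinLocFree4.isQuasicoherent_of_isFinLocFree _ hpE
  haveI : Coh.IsQCoh (Coh.structureModule X') := (isCoh_structureModule X').1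
  unfold Curv2.deg rkDefect
  rw [euler_push' k f hf, euler_push' k f hf (Coh.structureModule X'), chi_tensorRight_obj]
  have e : (Scheme.Modules.pushforward f).obj ((Scheme.Modules.pullback f).obj E) ≅
      CohB1.tensorMod ((Scheme.Modules.pushforward f).obj (Coh.structureModule X')) E :=
    (Scheme.Modules.pushforward f).mapIso (Groth.Agent.Helper4.AmpleBasis.unitorL _).symm ≪≫
      (projIsoLF f (Coh.structureModule X') E hE').symm
  have he := chi_iso k e
  unfold chi at he ⊢
  rw [he]

omit [X'.Over (Spec (CommRingCat.of k))] in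
/-- the degree as a rank defect -/
theorem deg_eq_rkDefect (n : ℕ) (E : X.Modules) :
    Curv2.deg k X E n = rkDefect k n E (Coh.structureModule X) := by
  unfold Curv2.deg rkDefect
  rw [chi_tensorRight_obj, chi_iso k (Groth.Agent.Helper4.AmpleBasis.unitorL E)]

omit [X'.Over (Spec (CommRingCat.of k))] [IsProper (X ↘ (Spec (CommRingCat.of k)))] in
/-- a point whose closure is one-dimensional lies in every dense open -/
theorem mem_of_topPt_one [NoetherianSpace X] (hdim : topologicalKrullDim X ≤ 1) (U : X.Opens)
    (hU : Dense (U : Set X)) (ξ : X) (ht : TopPt 1 ξ) : ξ ∈ U := by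
  apply mem_of_dense_of_closure_mem_irreducibleComponents (U : Set X) U.isOpen hU ξ
  by_contra hnot
  have h0 := dim_le_zero_of_not_component hdim (closure ({ξ} : Set X)) isClosed_closure
    isIrreducible_singleton.closure hnot
  unfold TopPt at ht
  rw [ht] at h0
  exact absurd h0 (by norm_num)

omit [X'.Over (Spec (CommRingCat.of k))] in
/-- the rank defect only depends on the module over a dense open -/
theorem rkDefect_eq_of_isIso_restrict (hdim : topologicalKrullDim X ≤ 1) (n : ℕ) (E : X.Modules)
    (hE : FlatMod.IsFinLocFreeOfRank n E) {A B : X.Modules} (hA : Coh.IsCoh A) (hB : Coh.IsCoh B)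
    (φ : A ⟶ B) (U : X.Opens) (hU : Dense (U : Set X))
    (hφ : IsIso ((Scheme.Modules.restrictFunctor U.ι).map φ)) :
    rkDefect k n E A = rkDefect k n E B := by
  classical
  haveI := Groth.Agent.Helper4.NApx82.isNoetherian_of_proper k X
  haveI : NoetherianSpace X := inferInstance
  obtain ⟨-, hA'⟩ := rkDefect_eq_Psi k hdim n E hE A hA
  obtain ⟨-, hB'⟩ := rkDefect_eq_Psi k hdim n E hE B hB
  rw [hA', hB']
  unfold Psi
  refine finsum_congr (fun ξ => ?_)
  by_cases ht : TopPt 1 ξ
  · rw [if_pos ht, if_pos ht]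
    have hξU : ξ ∈ U := mem_of_topPt_one hdim U hU ξ ht
    have hlen : len A ξ = len B ξ :=
      (LinearEquiv.ofBijective (stalkLin φ ξ)
        (stalkLin_bijective_of_isIso_restrict φ U hφ ξ hξU)).length_eq
    rw [hlen]
  · rw [if_neg ht, if_neg ht]

/-- **S1666** -/
theorem main1666 [IsProper (X' ↘ (Spec (CommRingCat.of k)))] (hdim : topologicalKrullDim X ≤ 1)
    (f : X' ⟶ X)
    (hf : f ≫ (X ↘ (Spec (CommRingCat.of k))) = X' ↘ (Spec (CommRingCat.of k)))
    (U : X.Opens) (hU : Dense (U : Set X)) (hU' : Dense ((f ⁻¹ᵁ U : X'.Opens) : Set X'))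
    (hfU : IsIso (f ∣_ U)) (n : ℕ) (E : X.Modules) (hE : FlatMod.IsFinLocFreeOfRank n E) :
    Curv2.deg k X' ((Scheme.Modules.pullback f).obj E) n = Curv2.deg k X E n := by
  haveI := Groth.Agent.Helper4.NApx82.isNoetherian_of_proper k X
  haveI : IsProper f := by
    haveI : IsProper (f ≫ (X ↘ (Spec (CommRingCat.of k)))) := by rw [hf]; infer_instance
    exact IsProper.of_comp f (X ↘ (Spec (CommRingCat.of k)))
  haveI := isFinite_of_proper_birational k hdim f U hU' hfU
  have hOX : Coh.IsCoh (Coh.structureModule X) := isCoh_structureModule X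
  have hOX' : Coh.IsCoh (Coh.structureModule X') := isCoh_structureModule X'
  haveI : (Coh.structureModule X').IsQuasicoherent := hOX'.1
  have hP : Coh.IsCoh ((Scheme.Modules.pushforward f).obj (Coh.structureModule X')) :=
    ⟨QcohGlue.isQuasicoherent_pushforward f _,
      FinitePush.isFiniteType_pushforward_of_isFinite f _ hOX'.2⟩
  rw [deg_pullback_eq_rkDefect k f hf n E hE, deg_eq_rkDefect k n E]
  exact (rkDefect_eq_of_isIso_restrict k hdim n E hE hOX hP (ClSub.unitToPush f) U hU
    (isIso_restrict_unitToPush f U)).symm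

end Main

end Groth.Agent.Helper4.SN
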