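import Mathlib
import Groth.Agent.Helper4.SN73

/-!
# The degree of a locally free module as a sum over the one-dimensional components
-/

set_option autoImplicit false
set_option linter.style.haveILetI false
set_option linter.unusedSectionVars false

namespace Groth.Agent.Helper4.SN

open CategoryTheory Limits AlgebraicGeometry Opposite TopologicalSpace
open Groth.Agent.Helper1.Dev Groth.Agent.Lead.Ref1B

universe u

section Main1641

variable (k : Type u) [Field k] {X : Scheme.{u}} [X.Over (Spec (CommRingCat.of k))]
  [IsProper (X ↘ (Spec (CommRingCat.of k)))]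

/-- the rank defect of `O_X / D` is the degree of the restriction to `V(D)` -/
theorem rkDefect_quotMod (D : X.IdealSheafData) (n : ℕ) (E : X.Modules)
    (hE : FlatMod.IsFinLocFreeOfRank n E) :
    rkDefect k n E (ClSub.quotMod D) =
      @Curv2.deg k _ D.subscheme ⟨D.subschemeι ≫ (X ↘ (Spec (CommRingCat.of k)))⟩
        ((Scheme.Modules.pullback D.subschemeι).obj E) n := by
  letI : D.subscheme.Over (Spec (CommRingCat.of k)) :=
    ⟨D.subschemeι ≫ (X ↘ (Spec (CommRingCat.of k)))⟩
  exact (deg_pullback_eq_rkDefect k D.subschemeι rfl n E hE).symm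

/-- **S1641** -/
theorem main1641 [IsNoetherian X] (hdim : topologicalKrullDim X ≤ 1)
    (n : ℕ) (E : X.Modules) (hE : FlatMod.IsFinLocFreeOfRank n E) :
    Curv2.deg k X E n = ∑ᶠ Z : irreducibleComponents (X : Type u),
      (if topologicalKrullDim (Z.1 : Set X) = 1 then
        ((Module.length (X.presheaf.stalk Z.2.1.genericPoint)
          (X.presheaf.stalk Z.2.1.genericPoint)).toNat : ℤ) *
          @Curv2.deg k _ (X.irreducibleComponentIdeal Z.1 Z.2).radical.subscheme
            ⟨(X.irreducibleComponentIdeal Z.1 Z.2).radical.subschemeι ≫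
              (X ↘ (Spec (CommRingCat.of k)))⟩
            ((Scheme.Modules.pullback
              (X.irreducibleComponentIdeal Z.1 Z.2).radical.subschemeι).obj E) n
      else 0) := by
  classical
  have hOX : Coh.IsCoh (Coh.structureModule X) := isCoh_structureModule X
  obtain ⟨-, hPsi⟩ := rkDefect_eq_Psi k hdim n E hE _ hOX
  rw [deg_eq_rkDefect k n E, hPsi]
  unfold Psi
  let γ : irreducibleComponents (X : Type u) → X := fun Z => Z.2.1.genericPoint
  have hcl : ∀ Z : irreducibleComponents (X : Type u), closure ({γ Z} : Set X) = Z.1 :=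
    fun Z => Z.2.1.closure_genericPoint (isClosed_of_mem_irreducibleComponents Z.1 Z.2)
  have hinj : Function.Injective γ := fun Z Z' h => Subtype.ext (by rw [← hcl Z, ← hcl Z', h])
  have hsupp : Function.support (fun ξ : X => if TopPt 1 ξ then
      (len (Coh.structureModule X) ξ).toNat • rkDefect k n E (redMod ξ) else 0) ⊆
      γ '' Set.univ := by
    intro ξ hξ
    rw [Function.mem_support] at hξ
    have ht : TopPt 1 ξ := by
      by_contra hnt
      rw [if_neg hnt] at hξ
      exact hξ rfl
    have hcomp : closure ({ξ} : Set X) ∈ irreducibleComponents (X : Type u) := by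
      by_contra hnot
      have h0 := dim_le_zero_of_not_component hdim (closure ({ξ} : Set X)) isClosed_closure
        isIrreducible_singleton.closure hnot
      unfold TopPt at ht
      rw [ht] at h0
      exact absurd h0 (by norm_num)
    refine ⟨⟨closure ({ξ} : Set X), hcomp⟩, Set.mem_univ _, ?_⟩
    have h1 : closure ({γ ⟨closure ({ξ} : Set X), hcomp⟩} : Set X) = closure ({ξ} : Set X) :=
      hcl ⟨closure ({ξ} : Set X), hcomp⟩
    have hg : IsGenericPoint (γ ⟨closure ({ξ} : Set X), hcomp⟩) (closure ({ξ} : Set X)) := h1
    exact hg.eq (show IsGenericPoint ξ (closure ({ξ} : Set X)) from rfl)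
  rw [← finsum_mem_univ, finsum_mem_inter_support_eq' _ Set.univ (γ '' Set.univ)
    (fun x hx => ⟨fun _ => hsupp hx, fun _ => Set.mem_univ x⟩), finsum_mem_image hinj.injOn,
    finsum_mem_univ]
  refine finsum_congr (fun Z => ?_)
  have hiff : TopPt 1 (γ Z) ↔ topologicalKrullDim (Z.1 : Set X) = 1 := by
    unfold TopPt
    rw [hcl Z]
    rfl
  by_cases h1 : topologicalKrullDim (Z.1 : Set X) = 1
  · rw [if_pos (hiff.2 h1), if_pos h1, len_invertible _ TensorInv.isInvertible_structureModule,
      nsmul_eq_mul]
    congr 1
    have key : ∀ D : X.IdealSheafData,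
        D = Scheme.IdealSheafData.vanishingIdeal
          (⟨closure ({γ Z} : Set X), isClosed_closure⟩ : Closeds X) →
        rkDefect k n E (redMod (γ Z)) =
          @Curv2.deg k _ D.subscheme ⟨D.subschemeι ≫ (X ↘ (Spec (CommRingCat.of k)))⟩
            ((Scheme.Modules.pullback D.subschemeι).obj E) n := by
      rintro D rfl
      exact rkDefect_quotMod k _ n E hE
    apply key
    rw [radical_irreducibleComponentIdeal]
    congr 1
    exact Closeds.ext (hcl Z).symm
  · rw [if_neg (mt hiff.1 h1), if_neg h1]

end Main1641

end Groth.Agent.Helper4.SN
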