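import Mathlib

/-!
# A topological lemma: infinite closed subsets of noetherian `T0` spaces contain irreducible closed
subsets of dimension exactly one
-/

set_option autoImplicit false
set_option linter.style.haveILetI false

namespace Groth.Agent.Helper4.SN

open TopologicalSpace Topology

/-- an irreducible closed set which is minimal among the non-subsingleton irreducible closed sets has
dimension one -/
theorem dim_eq_one_of_minimal {T : Type*} [TopologicalSpace T] [T0Space T]
    (Z : Set T) (hZc : IsClosed Z) (hZi : IsIrreducible Z) (hZn : ¬ Z.Subsingleton)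
    (hmin : ∀ W : Set T, IsClosed W → IsIrreducible W → W ⊆ Z → W ≠ Z → W.Subsingleton) :
    topologicalKrullDim ↥Z = 1 := by
  haveI : IrreducibleSpace ↥Z := Subtype.irreducibleSpace hZi
  apply le_antisymm
  · -- at most one
    refine Order.krullDim_le_one_iff.mpr fun W => ?_
    by_cases hW : (W : Set ↥Z) = Set.univ
    · right
      intro W' hWW'
      intro x _
      change x ∈ (W : Set ↥Z)
      rw [hW]
      trivial
    · left
      have hsub : (Subtype.val '' (W : Set ↥Z)).Subsingleton := by
        apply hmin
        · exact hZc.isClosedEmbedding_subtypeVal.isClosedMap _ W.isClosed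
        · exact W.isIrreducible.image _ continuous_subtype_val.continuousOn
        · rintro _ ⟨y, -, rfl⟩
          exact y.2
        · intro heq
          apply hW
          ext y
          simp only [Set.mem_univ, iff_true]
          have hy : (y : T) ∈ Subtype.val '' (W : Set ↥Z) := by
            rw [heq]
            exact y.2
          obtain ⟨y', hy', hyy'⟩ := hy
          rwa [← Subtype.ext hyy']
      have hsub' : (W : Set ↥Z).Subsingleton := by
        intro a ha b hb
        exact Subtype.ext (hsub ⟨a, ha, rfl⟩ ⟨b, hb, rfl⟩)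
      intro W' hW'W
      intro a ha
      obtain ⟨b, hb⟩ := W'.isIrreducible.nonempty
      have hbW : b ∈ (W : Set ↥Z) := hW'W hb
      have : a = b := hsub' ha hbW
      rw [this]
      exact hb
  · -- at least one
    refine Order.one_le_krullDim_iff.mpr ?_
    obtain ⟨x, hx, y, hy, hxy⟩ : ∃ x ∈ Z, ∃ y ∈ Z, x ≠ y := by
      by_contra hcon
      push Not at hcon
      exact hZn fun a ha b hb => hcon a ha b hb
    have hex : ∃ w : ↥Z, closure ({w} : Set ↥Z) ≠ Set.univ := by
      by_contra hcon
      push Not at hcon
      have h1 := hcon ⟨x, hx⟩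
      have h2 := hcon ⟨y, hy⟩
      have h3 : Inseparable (⟨x, hx⟩ : ↥Z) ⟨y, hy⟩ := by
        rw [inseparable_iff_closure_eq, h1, h2]
      exact hxy (congrArg Subtype.val h3.eq)
    obtain ⟨w, hw⟩ := hex
    refine ⟨⟨closure {w}, isIrreducible_singleton.closure, isClosed_closure⟩,
      ⟨Set.univ, IrreducibleSpace.isIrreducible_univ _, isClosed_univ⟩, ?_⟩
    refine lt_of_le_of_ne ?_ ?_
    · intro a _
      trivial
    · intro heq
      exact hw (congrArg (fun W : IrreducibleCloseds ↥Z => (W : Set ↥Z)) heq)

/-- an infinite closed subset of a noetherian `T0` space contains an irreducible closed subset of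
dimension exactly one -/
theorem exists_irreducible_dim_one {T : Type*} [TopologicalSpace T] [NoetherianSpace T] [T0Space T]
    (F : Set T) (hF : IsClosed F) (hinf : F.Infinite) :
    ∃ Z : Set T, Z ⊆ F ∧ IsClosed Z ∧ IsIrreducible Z ∧ topologicalKrullDim ↥Z = 1 := by
  classical
  let P : Closeds T → Prop := fun Z =>
    (Z : Set T) ⊆ F ∧ IsIrreducible (Z : Set T) ∧ ¬ (Z : Set T).Subsingleton
  have hne : ∃ Z, P Z := by
    obtain ⟨S, hSf, hSc, hSi, hS⟩ := NoetherianSpace.exists_finite_set_isClosed_irreducible hF
    by_contra hcon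
    push Not at hcon
    apply hinf
    rw [hS, Set.sUnion_eq_biUnion]
    apply hSf.biUnion
    intro t ht
    have hsub : t ⊆ F := by
      rw [hS]
      exact Set.subset_sUnion_of_mem ht
    have : t.Subsingleton := by
      by_contra h
      exact hcon ⟨t, hSc t ht⟩ ⟨hsub, hSi t ht, h⟩
    exact this.finite
  obtain ⟨Z, hZ, hmin⟩ := wellFounded_lt.has_min {Z | P Z} hne
  refine ⟨Z, hZ.1, Z.isClosed, hZ.2.1, ?_⟩
  apply dim_eq_one_of_minimal (Z : Set T) Z.isClosed hZ.2.1 hZ.2.2
  intro W hWc hWi hWZ hne'
  by_contra hns
  have hP : P ⟨W, hWc⟩ := ⟨hWZ.trans hZ.1, hWi, hns⟩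
  apply hmin ⟨W, hWc⟩ hP
  refine lt_of_le_of_ne ?_ ?_
  · exact hWZ
  · intro heq
    exact hne' (congrArg (fun Z : Closeds T => (Z : Set T)) heq)

end Groth.Agent.Helper4.SN
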