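import Mathlib
import Groth.Agent.Helper4.SN76
import Groth.Agent.Helper4.SN75
import Groth.Agent.Helper4.SN69
import Groth.Agent.Helper4.GGSec
import Groth.Agent.Helper4.PullTensor
import Groth.Agent.Helper4.PullAmple
import Groth.Agent.Helper4.QAffSec
import Groth.Agent.Helper1.PUP8
import Groth.Agent.Helper1.VA10
import Groth.Agent.Helper6.HProj

/-!
# Semiample and strictly nef implies ample
-/

set_option autoImplicit false
set_option linter.style.haveILetI false

namespace Groth.Agent.Helper4.SN

open CategoryTheory Limits AlgebraicGeometry Opposite TopologicalSpace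
open Groth.Agent.Helper4.NApx82 Groth.Agent.Helper4.StalkDict Groth.Agent.Helper4.TensorInv
  Groth.Agent.Helper1.Dev

universe u

section Fin

variable {X Y : Scheme.{u}}

set_option backward.isDefEq.respectTransparency.types false in
/-- a proper morphism to a quasi-compact scheme whose fibres over closed points are finite is
finite -/
theorem isFinite_of_finite_closed_fibers (f : X ⟶ Y) [IsProper f] [CompactSpace Y]
    (h : ∀ y : Y, IsClosed ({y} : Set Y) → (f ⁻¹' {y}).Finite) : IsFinite f := by
  have hV : ∀ y : Y, ∃ V : Y.Opens, y ∈ V ∧ IsFinite (f ∣_ V) := by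
    intro y
    obtain ⟨y0, hy0, hcl⟩ := IsClosed.exists_closed_singleton (isClosed_closure (s := ({y} : Set Y)))
      ⟨y, subset_closure rfl⟩
    obtain ⟨V, hyV, hfin⟩ :=
      exists_isFinite_morphismRestrict_of_finite_preimage_singleton f y0 (h y0 hcl)
    refine ⟨V, ?_, hfin⟩
    exact (specializes_iff_mem_closure.mpr hy0).mem_open V.2 hyV
  choose V hyV hfin using hV
  refine IsZariskiLocalAtTarget.of_iSup_eq_top (P := @IsFinite) V ?_ hfin
  rw [eq_top_iff]
  intro y _
  exact Opens.mem_iSup.mpr ⟨y, hyV y⟩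

/-- an infinite fibre over a closed point contains an integral closed curve -/
theorem exists_curve_of_infinite_fiber [IsNoetherian X] (f : X ⟶ Y) (y : Y)
    (hy : IsClosed ({y} : Set Y)) (hinf : (f ⁻¹' {y}).Infinite) :
    ∃ C : X.IdealSheafData, IsIntegral C.subscheme ∧
      topologicalKrullDim (C.support : Set X) = 1 ∧ ∀ x ∈ C.support, f x = y := by
  obtain ⟨Z, hZF, hZc, hZi, hZd⟩ := exists_irreducible_dim_one (f ⁻¹' {y})
    (hy.preimage f.continuous) hinf
  refine ⟨Scheme.IdealSheafData.vanishingIdeal ⟨Z, hZc⟩, isIntegral_subscheme ⟨Z, hZc⟩ hZi, ?_, ?_⟩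
  · rw [support_vanishingIdeal]
    exact hZd
  · intro x hx
    have hx' : x ∈ ((Scheme.IdealSheafData.vanishingIdeal ⟨Z, hZc⟩).support : Set X) := hx
    rw [support_vanishingIdeal] at hx'
    exact hZF hx'

end Fin

section Triv

variable {C Y : Scheme.{u}}

/-- the pullback of a module along a morphism landing in the generating locus of a section is
trivial -/
theorem nonempty_iso_unit_of_forall_mem_genLocus (g : C ⟶ Y) (N : Y.Modules)
    (t : Coh.structureModule Y ⟶ N) (h : ∀ c : C, g c ∈ CohB1.genLocus N t) :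
    Nonempty ((Scheme.Modules.pullback g).obj N ≅ Coh.structureModule C) := by
  have htop : CohB1.genLocus _ (Groth.Agent.Helper4.PullSec.pullSec g t) = ⊤ := by
    rw [eq_top_iff]
    intro c _
    exact Groth.Agent.Helper4.PullSec.preimage_genLocus_le g t (h c)
  haveI := Groth.Agent.Helper4.GenLocIso.isIso_of_genLocus_eq_top _ _ htop
  exact ⟨(asIso (Groth.Agent.Helper4.PullSec.pullSec g t)).symm⟩

end Triv

section Mor

variable {X : Scheme.{u}}

/-- a globally generated invertible module on a quasi-compact scheme is generated by finitely many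
global sections -/
theorem exists_sections_cover [CompactSpace X] (M : X.Modules) (hM : PicF.IsInvertible M)
    (hg : Curv2.IsGloballyGenerated M) :
    ∃ (n : ℕ) (σ : Fin (n + 1) → (Coh.structureModule X ⟶ M)),
      ⨆ e, CohB1.genLocus M (σ e) = ⊤ := by
  classical
  choose t ht using Groth.Agent.Helper4.GGSec.exists_mem_genLocus_of_isGloballyGenerated M hM hg
  obtain ⟨s, hs⟩ := isCompact_univ.elim_finite_subcover
    (fun x => (CohB1.genLocus M (t x) : Set X)) (fun x => (CohB1.genLocus M (t x)).2)
    (fun x _ => Set.mem_iUnion.mpr ⟨x, ht x⟩)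
  let l := s.toList
  refine ⟨l.length, fun i => if h : (i : ℕ) < l.length then t (l.get ⟨i, h⟩) else 0, ?_⟩
  rw [eq_top_iff]
  intro x _
  obtain ⟨y, hy⟩ := Set.mem_iUnion.mp (hs (Set.mem_univ x))
  obtain ⟨hys, hxy⟩ := Set.mem_iUnion.mp hy
  have hyl : y ∈ l := Finset.mem_toList.mpr hys
  obtain ⟨i, hi⟩ := List.get_of_mem hyl
  refine Opens.mem_iSup.mpr ⟨⟨i, Nat.lt_succ_of_lt i.2⟩, ?_⟩
  simp only [dif_pos i.2]
  rw [hi]
  exact hxy

open Groth.Agent.Helper1.PUP in
/-- the morphism to projective space attached to finitely many generating sections -/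
theorem exists_to_projSpace_of_cover {R : Type u} [CommRing R] (n : ℕ)
    (q : X ⟶ Spec (CommRingCat.of R)) {L : X.Modules}
    (σ : Fin (n + 1) → (Coh.structureModule X ⟶ L))
    (hcov : ⨆ e, CohB1.genLocus L (σ e) = ⊤) :
    ∃ (r : X ⟶ CohB1.ProjSpace n R) (_ : r ≫ CohB1.ProjSpace.toSpec n R = q),
      Nonempty ((Scheme.Modules.pullback r).obj
        (Twist.twist (CohB1.polyGrading n R) ((1 : ℕ) : ℤ)) ≅ L) := by
  have hcov' : ⨆ e, XE σ e = ⊤ := hcov
  obtain ⟨τ, hτ⟩ := exists_iso_of_ratios σ (σ' n q σ hcov') (XE σ) hcov' (ratio σ)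
    (fun e => le_refl _) (XE_le_genLocus_σ' n q σ hcov') (ratio_spec σ)
    (ratio_smul_sec_σ' n q σ hcov')
  exact ⟨rr' n q σ hcov', rr'_toSpec n q σ hcov', ⟨τ⟩⟩

end Mor

section Main

variable (k : Type u) [Field k] {X : Scheme.{u}} [X.Over (Spec (CommRingCat.of k))]

omit [X.Over (Spec (CommRingCat.of k))] in
theorem dim_subscheme (C : X.IdealSheafData) :
    topologicalKrullDim C.subscheme = topologicalKrullDim ↥(C.support : Set X) := by
  have e := C.subschemeι.isClosedEmbedding.isEmbedding.toHomeomorph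
  have h := IsHomeomorph.topologicalKrullDim_eq e e.isHomeomorph
  rw [h, Scheme.IdealSheafData.range_subschemeι]

theorem deg_iso {E E' : X.Modules} (e : E ≅ E') (n : ℕ) :
    Curv2.deg k X E n = Curv2.deg k X E' n := by
  unfold Curv2.deg
  rw [show Curv2.euler k X E = Curv2.euler k X E' from chi_iso k e]

variable [IsProper (X ↘ (Spec (CommRingCat.of k)))]

theorem euler_diff_eq_degOn (C : X.IdealSheafData) (L : X.Modules) (hL : PicF.IsInvertible L) :
    Curv2.euler k X (CohB1.tensorMod (ClSub.quotMod C) L) - Curv2.euler k X (ClSub.quotMod C) =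
      degOn k C L := by
  have h := rkDefect_quotMod k C 1 L
    (Groth.Agent.Helper4.QAffSec.isFinLocFreeOfRank_one_of_isInvertible L hL)
  unfold rkDefect at h
  refine Eq.trans ?_ h
  simp only [Nat.cast_one, one_mul]
  rfl

theorem degOn_tensorPow (C : X.IdealSheafData) [IsIntegral C.subscheme]
    (hd : topologicalKrullDim ↥(C.support : Set X) = 1) (L : X.Modules)
    (hL : PicF.IsInvertible L) (N : ℕ) :
    degOn k C (CohB1.tensorPow L N) = N * degOn k C L := by
  letI : C.subscheme.Over (Spec (CommRingCat.of k)) :=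
    ⟨C.subschemeι ≫ (X ↘ (Spec (CommRingCat.of k)))⟩
  haveI : IsProper (C.subscheme ↘ Spec (CommRingCat.of k)) :=
    (inferInstance : IsProper (C.subschemeι ≫ (X ↘ (Spec (CommRingCat.of k)))))
  have hd' : topologicalKrullDim C.subscheme = 1 := by
    rw [dim_subscheme]
    exact hd
  have hL' := Groth.Agent.Helper4.PullSec.isInvertible_pullback C.subschemeι hL
  change Curv2.deg k C.subscheme ((Scheme.Modules.pullback C.subschemeι).obj
    (CohB1.tensorPow L N)) 1 = _
  rw [deg_iso k (Groth.Agent.Helper4.PullTensor.pullPowIso C.subschemeι hL N) 1,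
    deg_tensorPow k hd' _ hL' N]

open Groth.Agent.Helper1.PUP Groth.Agent.Helper1.Segre in
/-- a morphism to projective space which has nonzero degree on every integral closed curve is
finite -/
theorem isFinite_of_degOn_ne_zero (n : ℕ) (r : X ⟶ CohB1.ProjSpace n k)
    (hr : r ≫ CohB1.ProjSpace.toSpec n k = X ↘ Spec (CommRingCat.of k)) (M : X.Modules)
    (τ : (Scheme.Modules.pullback r).obj (Twist.twist (CohB1.polyGrading n k) ((1 : ℕ) : ℤ)) ≅ M)
    (h : ∀ C : X.IdealSheafData, IsIntegral C.subscheme →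
      topologicalKrullDim (C.support : Set X) = 1 → degOn k C M ≠ 0) : IsFinite r := by
  haveI := isNoetherian_of_proper k X
  haveI : IsProper (CohB1.ProjSpace.toSpec n k) := Groth.Agent.Helper6.HProj.isProper_toSpec n k
  haveI : IsProper (r ≫ CohB1.ProjSpace.toSpec n k) := by
    rw [hr]
    infer_instance
  haveI : IsProper r := IsProper.of_comp r (CohB1.ProjSpace.toSpec n k)
  haveI : CompactSpace (CohB1.ProjSpace n k) := Groth.Agent.Helper1.VA.compactSpace_proj k n
  apply isFinite_of_finite_closed_fibers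
  intro y hy
  by_contra hinf
  obtain ⟨C, hCi, hCd, hCy⟩ := exists_curve_of_infinite_fiber r y hy hinf
  apply h C hCi hCd
  haveI := hCi
  letI : C.subscheme.Over (Spec (CommRingCat.of k)) :=
    ⟨C.subschemeι ≫ (X ↘ (Spec (CommRingCat.of k)))⟩
  obtain ⟨e, he⟩ : ∃ e : Fin (n + 1), y ∈ Proj.basicOpen (CohB1.polyGrading n k)
      (MvPolynomial.X e : MvPolynomial (Fin (n + 1)) k) := by
    have h1 : y ∈ (⊤ : (Proj (CohB1.polyGrading n k)).Opens) := trivial
    rw [← iSup_basicOpen_X (R := k) n] at h1
    exact Opens.mem_iSup.mp h1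
  have hgl : CohB1.genLocus _ (TX (R := k) n e) =
      Proj.basicOpen (CohB1.polyGrading n k) (MvPolynomial.X e : MvPolynomial (Fin (n + 1)) k) := by
    unfold TX
    exact genLocus_TT (CohB1.polyGrading n k) (hcovP n) _ _
  have hmem : ∀ c : C.subscheme, (C.subschemeι ≫ r) c ∈ CohB1.genLocus _ (TX (R := k) n e) := by
    intro c
    rw [hgl]
    have hc : C.subschemeι c ∈ C.support := by
      have : C.subschemeι c ∈ Set.range C.subschemeι := ⟨c, rfl⟩
      rw [Scheme.IdealSheafData.range_subschemeι] at this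
      exact this
    have h2 : (C.subschemeι ≫ r) c = y := hCy _ hc
    rw [h2]
    exact he
  obtain ⟨ε⟩ := nonempty_iso_unit_of_forall_mem_genLocus (C.subschemeι ≫ r) _ (TX (R := k) n e) hmem
  have iso : (Scheme.Modules.pullback C.subschemeι).obj M ≅ Coh.structureModule C.subscheme :=
    (Scheme.Modules.pullback C.subschemeι).mapIso τ.symm ≪≫
      (Scheme.Modules.pullbackComp C.subschemeι r).app _ ≪≫ ε
  change Curv2.deg k C.subscheme ((Scheme.Modules.pullback C.subschemeι).obj M) 1 = 0
  rw [deg_iso k iso 1, deg_structureModule]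

end Main

end Groth.Agent.Helper4.SN
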