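import Mathlib
import Groth.Agent.Helper4.SN73
import Groth.Agent.Helper4.SN31
import Groth.Agent.Helper9.ClImm1

/-!
# Degree of the pullback of a locally free module along a finite morphism of curves
-/

set_option autoImplicit false
set_option linter.style.haveILetI false
set_option linter.unusedSectionVars false

namespace Groth.Agent.Helper4.SN

open CategoryTheory Limits AlgebraicGeometry Opposite TopologicalSpace
open Groth.Agent.Helper9.ClImm1 Groth.Agent.Helper9.SkyMod4

universe u

section PushStalk

variable {X Y : Scheme.{u}} (f : X ⟶ Y)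

/-- the stalk of a direct image at `f x` when `f` is closed and `x` is alone in its fibre -/
theorem pushStalkLin_bijective_of_isClosedMap (hcl : IsClosedMap f.base) (M : X.Modules) (x : X)
    (hx : ∀ x' : X, f.base x' = f.base x → x' = x) :
    Function.Bijective (pushStalkLin f M x).hom := by
  -- shrinking neighbourhoods
  have hshrink : ∀ W : X.Opens, x ∈ W → ∃ V : Y.Opens, f.base x ∈ V ∧ f ⁻¹ᵁ V ≤ W := by
    intro W hW
    refine ⟨⟨(f.base '' (W : Set X)ᶜ)ᶜ, (hcl _ W.isOpen.isClosed_compl).isOpen_compl⟩, ?_, ?_⟩
    · rintro ⟨x', hx'W, hx'⟩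
      exact hx'W (hx x' hx' ▸ hW)
    · intro z hz
      by_contra hzW
      exact hz ⟨z, hzW, rfl⟩
  constructor
  · rw [injective_iff_map_eq_zero]
    intro m hm
    obtain ⟨V, hV, s, rfl⟩ :=
      ((Scheme.Modules.pushforward f).obj M).presheaf.exists_germ_eq (x := f.base x) m
    rw [pushStalkLin_germ] at hm
    have h0 : M.presheaf.germ (f ⁻¹ᵁ V) x hV s = M.presheaf.germ (f ⁻¹ᵁ V) x hV 0 :=
      hm.trans (map_zero _).symm
    obtain ⟨W, hxW, iU, iV, hres⟩ := M.presheaf.germ_eq x hV hV s 0 h0
    rw [map_zero] at hres
    obtain ⟨V', hV', hle⟩ := hshrink W hxW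
    have hV'' : f.base x ∈ V ⊓ V' := ⟨hV, hV'⟩
    have h1 := ((Scheme.Modules.pushforward f).obj M).presheaf.germ_res_apply
      (homOfLE inf_le_left : V ⊓ V' ⟶ V) (f.base x) hV'' s
    rw [← h1]
    have hle' : f ⁻¹ᵁ (V ⊓ V') ≤ W := fun z hz => hle hz.2
    have h2 : ((Scheme.Modules.pushforward f).obj M).presheaf.map
        (homOfLE inf_le_left : V ⊓ V' ⟶ V).op s = 0 := by
      change M.presheaf.map (homOfLE (show f ⁻¹ᵁ (V ⊓ V') ≤ f ⁻¹ᵁ V from
        fun z hz => hz.1)).op s = 0
      have h3 : M.presheaf.map (homOfLE (show f ⁻¹ᵁ (V ⊓ V') ≤ f ⁻¹ᵁ V from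
          fun z hz => hz.1)).op s = M.presheaf.map (homOfLE hle').op (M.presheaf.map iU.op s) :=
        (Groth.Agent.Helper4.PullMate.map_map_eq M iU (homOfLE hle') _ s).symm
      rw [h3, hres]
      exact map_zero _
    rw [h2]
    exact map_zero _
  · intro m
    obtain ⟨W, hW, t, rfl⟩ := M.presheaf.exists_germ_eq (x := x) m
    obtain ⟨V', hV', hle⟩ := hshrink W hW
    refine ⟨((Scheme.Modules.pushforward f).obj M).presheaf.germ V' (f.base x) hV'
      (M.presheaf.map (homOfLE hle).op t), ?_⟩
    refine (pushStalkLin_germ f M x V' hV' (M.presheaf.map (homOfLE hle).op t)).trans ?_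
    exact M.presheaf.germ_res_apply (homOfLE hle) x hV' t

end PushStalk

section Alg

/-- for a local homomorphism into a local ring which is a field, the length of a module which is
semilinearly isomorphic to the target is the degree of the residue field extension -/
theorem length_toNat_eq_finrank_residue {R S : Type u} [CommRing R] [CommRing S] [IsLocalRing R]
    [IsLocalRing S] (φ : R →+* S) [IsLocalHom φ] (hS : IsLocalRing.maximalIdeal S = ⊥)
    {M : Type u} [AddCommGroup M] [Module R M] (g : M →+ S) (hg : Function.Bijective g)
    (hsemi : ∀ (r : R) (m : M), g (r • m) = φ r * g m) :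
    (Module.length R M).toNat =
      @Module.finrank (IsLocalRing.ResidueField R) (IsLocalRing.ResidueField S) _ _
        (IsLocalRing.ResidueField.map φ).toAlgebra.toModule := by
  letI := (IsLocalRing.ResidueField.map φ).toAlgebra
  have hres : Function.Bijective (IsLocalRing.residue S) := by
    refine ⟨?_, IsLocalRing.residue_surjective⟩
    rw [RingHom.injective_iff_ker_eq_bot, IsLocalRing.ker_residue, hS]
  have h := length_eq_of_semilinear (M := M) (N := IsLocalRing.ResidueField S)
    (IsLocalRing.residue R) IsLocalRing.residue_surjective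
    ((IsLocalRing.residue S).toAddMonoidHom.comp g) (hres.comp hg) (fun r m => by
      change IsLocalRing.residue S (g (r • m)) = _
      rw [hsemi, map_mul, ← IsLocalRing.ResidueField.map_residue]
      rfl)
  rw [h, Module.length_eq_rank, Cardinal.toNat_toENat]
  rfl

end Alg

section LenPush

open Groth.Agent.Lead.Ref1B Groth.Agent.Helper4.TwistExt

variable {X Y : Scheme.{u}} (f : X ⟶ Y)

/-- the length of the stalk of `f_* O_X` at the image of a point which is alone in its fibre and
whose local ring is a field -/
theorem len_push_toNat (hcl : IsClosedMap f.base) (x : X)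
    (hx : ∀ x' : X, f.base x' = f.base x → x' = x)
    (hS : IsLocalRing.maximalIdeal (X.presheaf.stalk x) = ⊥) :
    (len ((Scheme.Modules.pushforward f).obj (Coh.structureModule X)) (f.base x)).toNat =
      f.residueDegree x := by
  obtain ⟨T, e, hxT, -, hfr, -⟩ := AmpleFinite.exists_chart_forall (Coh.structureModule X)
    TensorInv.isInvertible_structureModule x
  let ε := LinearEquiv.ofBijective _
    (toSpanSingleton_germ_bijective (Coh.structureModule X) T e hfr x hxT)
  have hbij := pushStalkLin_bijective_of_isClosedMap f hcl (Coh.structureModule X) x hx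
  let g : ((Scheme.Modules.pushforward f).obj (Coh.structureModule X)).presheaf.stalk (f.base x) →+
      X.presheaf.stalk x :=
    (ε.symm : (Coh.structureModule X).presheaf.stalk x →+ X.presheaf.stalk x).comp
      (pushStalkAb f (Coh.structureModule X) x).hom
  have hg : Function.Bijective g := ε.symm.bijective.comp hbij
  have hsemi : ∀ (r : Y.presheaf.stalk (f.base x))
      (m : ((Scheme.Modules.pushforward f).obj (Coh.structureModule X)).presheaf.stalk (f.base x)),
      g (r • m) = (f.stalkMap x).hom r * g m := by
    intro r m
    change ε.symm (pushStalkAb f (Coh.structureModule X) x (r • m)) = _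
    rw [pushStalkAb_smul, map_smul]
    rfl
  have h := length_toNat_eq_finrank_residue (f.stalkMap x).hom hS g hg hsemi
  exact h

end LenPush

section Curve

variable {X : Scheme.{u}} [IsIntegral X]

/-- on an integral Noetherian scheme of dimension at most one every point other than the generic
point is closed -/
theorem isClosed_singleton_of_ne_genericPoint [IsNoetherian X] (hdim : topologicalKrullDim X ≤ 1)
    (x : X) (hx : x ≠ genericPoint X) : IsClosed ({x} : Set X) := by
  haveI : NoetherianSpace X := inferInstance
  have hgen : genericPoint X ∉ closure ({x} : Set X) := by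
    intro h
    apply hx
    have h1 : closure ({genericPoint X} : Set X) ⊆ closure ({x} : Set X) :=
      closure_minimal (Set.singleton_subset_iff.mpr h) isClosed_closure
    rw [closure_genericPoint] at h1
    have hg : IsGenericPoint x (Set.univ : Set X) := Set.univ_subset_iff.mp h1
    exact hg.eq (genericPoint_spec X)
  refine isClosed_singleton_of_notMem_dense hdim (closure ({x} : Set X))ᶜ
    isClosed_closure.isOpen_compl ?_ x (fun h => h (subset_closure rfl))
  exact isClosed_closure.isOpen_compl.dense ⟨genericPoint X, hgen⟩

/-- a space with at most one point has dimension at most zero -/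
theorem topologicalKrullDim_le_zero_of_subsingleton (T : Type*) [TopologicalSpace T]
    [Subsingleton T] : topologicalKrullDim T ≤ 0 := by
  haveI : Subsingleton (IrreducibleCloseds T) := by
    refine ⟨fun a b => SetLike.ext fun z => ?_⟩
    obtain ⟨wa, hwa⟩ := a.isIrreducible'.nonempty
    obtain ⟨wb, hwb⟩ := b.isIrreducible'.nonempty
    constructor
    · intro _
      rw [Subsingleton.elim z wb]
      exact hwb
    · intro _
      rw [Subsingleton.elim z wa]
      exact hwa
  exact Order.krullDim_nonpos_of_subsingleton

end Curve

section Fin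

variable {X Y : Scheme.{u}} [IsIntegral X] [IsIntegral Y]

/-- the generic point is alone in its fibre under a closed map of integral curves -/
theorem eq_genericPoint_of_map_eq [IsNoetherian X] (hX : topologicalKrullDim X ≤ 1)
    (hY : topologicalKrullDim Y = 1) (f : X ⟶ Y) (hcl : IsClosedMap f.base) (x' : X)
    (h : f.base x' = genericPoint Y) : x' = genericPoint X := by
  by_contra hne
  have h1 := isClosed_singleton_of_ne_genericPoint hX x' hne
  have h2 : IsClosed ({genericPoint Y} : Set Y) := by
    have h3 := hcl _ h1
    rwa [Set.image_singleton, h] at h3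
  have h3 : (Set.univ : Set Y) = {genericPoint Y} := by
    rw [← closure_genericPoint, h2.closure_eq]
  haveI : Subsingleton Y := by
    refine ⟨fun a b => ?_⟩
    have ha : a ∈ ({genericPoint Y} : Set Y) := h3 ▸ Set.mem_univ a
    have hb : b ∈ ({genericPoint Y} : Set Y) := h3 ▸ Set.mem_univ b
    rw [Set.mem_singleton_iff] at ha hb
    rw [ha, hb]
  have hd := topologicalKrullDim_le_zero_of_subsingleton Y
  rw [hY] at hd
  exact absurd hd (by norm_num)

end Fin

section Main

open Groth.Agent.Lead.Ref1B Groth.Agent.Helper4.AmpleBasis Groth.Agent.Helper1.Dev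

variable (k : Type u) [Field k] {X Y : Scheme.{u}} [X.Over (Spec (CommRingCat.of k))]
  [Y.Over (Spec (CommRingCat.of k))] [IsIntegral X] [IsIntegral Y]
  [IsProper (X ↘ (Spec (CommRingCat.of k)))] [IsProper (Y ↘ (Spec (CommRingCat.of k)))]

include k in
/-- a non-constant morphism of proper integral curves is finite -/
theorem isFinite_of_nonconstant (hX : topologicalKrullDim X = 1) (hY : topologicalKrullDim Y = 1)
    (f : X ⟶ Y)
    (hf : f ≫ (Y ↘ (Spec (CommRingCat.of k))) = X ↘ (Spec (CommRingCat.of k)))
    (hξ : f.base (genericPoint X) = genericPoint Y) : IsFinite f := by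
  haveI := Groth.Agent.Helper4.NApx82.isNoetherian_of_proper k X
  haveI := Groth.Agent.Helper4.NApx82.isNoetherian_of_proper k Y
  haveI : NoetherianSpace X := inferInstance
  haveI : IsProper f := by
    haveI : IsProper (f ≫ (Y ↘ (Spec (CommRingCat.of k)))) := by rw [hf]; infer_instance
    exact IsProper.of_comp f (Y ↘ (Spec (CommRingCat.of k)))
  have hcl : IsClosedMap f.base := f.isClosedMap
  haveI : LocallyQuasiFinite f := by
    rw [locallyQuasiFinite_iff_finite_preimage_singleton]
    intro y
    by_cases hy : y = genericPoint Y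
    · subst hy
      apply Set.Subsingleton.finite
      intro a ha b hb
      rw [eq_genericPoint_of_map_eq hX.le hY f hcl a ha,
        eq_genericPoint_of_map_eq hX.le hY f hcl b hb]
    · have hyc := isClosed_singleton_of_ne_genericPoint hY.le y hy
      refine finite_of_isClosed_of_points_closed (f.base ⁻¹' {y})
        (hyc.preimage f.continuous) (fun z hz => ?_)
      apply isClosed_singleton_of_ne_genericPoint hX.le z
      rintro rfl
      exact hy ((show f.base (genericPoint X) = y from hz).symm.trans hξ)
  exact IsFinite.of_isProper_of_locallyQuasiFinite f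

/-- **S7640** -/
theorem main7640 (hX : topologicalKrullDim X = 1) (hY : topologicalKrullDim Y = 1)
    (f : X ⟶ Y)
    (hf : f ≫ (Y ↘ (Spec (CommRingCat.of k))) = X ↘ (Spec (CommRingCat.of k)))
    (hξ : f.base (genericPoint X) = genericPoint Y)
    (n : ℕ) (E : Y.Modules) (hE : FlatMod.IsFinLocFreeOfRank n E) :
    Curv2.deg k X ((Scheme.Modules.pullback f).obj E) n =
      (f.residueDegree (genericPoint X) : ℤ) * Curv2.deg k Y E n := by
  haveI := Groth.Agent.Helper4.NApx82.isNoetherian_of_proper k X
  haveI := Groth.Agent.Helper4.NApx82.isNoetherian_of_proper k Y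
  haveI := isFinite_of_nonconstant k hX hY f hf hξ
  have hcl : IsClosedMap f.base := f.isClosedMap
  have hOX : Coh.IsCoh (Coh.structureModule X) := isCoh_structureModule X
  haveI : (Coh.structureModule X).IsQuasicoherent := hOX.1
  have hP : Coh.IsCoh ((Scheme.Modules.pushforward f).obj (Coh.structureModule X)) :=
    ⟨QcohGlue.isQuasicoherent_pushforward f _,
      FinitePush.isFiniteType_pushforward_of_isFinite f _ hOX.2⟩
  rw [deg_pullback_eq_rkDefect k f hf n E hE]
  unfold rkDefect
  rw [chi_tensorRight_obj, chi_iso k (braid _ E)]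
  have h1 := main1557 k hY n E hE _ hP
  unfold chi
  rw [h1]
  have hS : IsLocalRing.maximalIdeal (X.presheaf.stalk (genericPoint X)) = ⊥ := by
    rw [← IsLocalRing.isField_iff_maximalIdeal_eq]
    exact isField_stalk_of_closure_mem_irreducibleComponents X _
      (by simp [irreducibleComponents_eq_singleton])
  have h2 := len_push_toNat f hcl (genericPoint X)
    (fun x' hx' => eq_genericPoint_of_map_eq hX.le hY f hcl x' (hx'.trans hξ)) hS
  rw [hξ] at h2
  have hlen : (len ((Scheme.Modules.pushforward f).obj (Coh.structureModule X))
      (genericPoint Y)).toNat =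
      Module.finrank (Y.presheaf.stalk (genericPoint Y))
        (((Scheme.Modules.pushforward f).obj (Coh.structureModule X)).presheaf.stalk
          (genericPoint Y)) := by
    unfold len
    rw [Module.length_eq_rank (Y.presheaf.stalk (genericPoint Y))]
    rfl
  rw [← hlen, h2]
  ring

end Main

end Groth.Agent.Helper4.SN
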