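import Mathlib
import Groth.Agent.Helper4.SN77

/-!
# The generating locus of a section is affine when it contains no complete curve
-/

set_option autoImplicit false
set_option linter.style.haveILetI false

namespace Groth.Agent.Helper4.SN

open CategoryTheory Limits AlgebraicGeometry Opposite TopologicalSpace
open Groth.Agent.Helper4.NApx82 Groth.Agent.Helper4.StalkDict Groth.Agent.Helper4.TensorInv
  Groth.Agent.Helper1.Dev

universe u

section Mor

variable {X : Scheme.{u}}

open Groth.Agent.Helper1.PUP Groth.Agent.Helper4.PullSec in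
/-- the morphism to projective space attached to finitely many generating sections, with the
description of the preimages of the standard charts -/
theorem exists_to_projSpace_of_cover' {R : Type u} [CommRing R] (n : ℕ)
    (q : X ⟶ Spec (CommRingCat.of R)) {L : X.Modules}
    (σ : Fin (n + 1) → (Coh.structureModule X ⟶ L))
    (hcov : ⨆ e, CohB1.genLocus L (σ e) = ⊤) :
    ∃ (r : X ⟶ CohB1.ProjSpace n R) (_ : r ≫ CohB1.ProjSpace.toSpec n R = q),
      Nonempty ((Scheme.Modules.pullback r).obj
        (Twist.twist (CohB1.polyGrading n R) ((1 : ℕ) : ℤ)) ≅ L) ∧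
      ∀ e, CohB1.genLocus L (σ e) = r ⁻¹ᵁ Proj.basicOpen (CohB1.polyGrading n R)
        (MvPolynomial.X e : MvPolynomial (Fin (n + 1)) R) := by
  have hcov' : ⨆ e, XE σ e = ⊤ := hcov
  obtain ⟨τ, hτ⟩ := exists_iso_of_ratios σ (σ' n q σ hcov') (XE σ) hcov' (ratio σ)
    (fun e => le_refl _) (XE_le_genLocus_σ' n q σ hcov') (ratio_spec σ)
    (ratio_smul_sec_σ' n q σ hcov')
  refine ⟨rr' n q σ hcov', rr'_toSpec n q σ hcov', ⟨τ⟩, fun e => ?_⟩
  apply le_antisymm (XE_le_preimage n q σ hcov' e)
  have h1 := preimage_genLocus_le (rr n q σ hcov') (TX (R := R) n e)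
  have h2 : CohB1.genLocus _ (TX (R := R) n e) = Proj.basicOpen (CohB1.polyGrading n R)
      (MvPolynomial.X e : MvPolynomial (Fin (n + 1)) R) := by
    unfold TX
    exact genLocus_TT (CohB1.polyGrading n R) (hcovP n) _ _
  rw [h2] at h1
  refine h1.trans ?_
  change CohB1.genLocus _ (σ' n q σ hcov' e) ≤ CohB1.genLocus L (σ e)
  rw [← hτ e, Groth.Agent.Helper4.AmpleIso.genLocus_comp_iso]

end Mor

section Main

variable (k : Type u) [Field k] {X : Scheme.{u}} [X.Over (Spec (CommRingCat.of k))]
  [IsProper (X ↘ (Spec (CommRingCat.of k)))]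

include k in
/-- **S11372** -/
theorem main11372 (L : X.Modules) (hL : PicF.IsInvertible L)
    (hgen : Curv2.IsGloballyGenerated L) (s : Coh.structureModule X ⟶ L)
    (hcurves : ∀ C : X.IdealSheafData, IsIntegral C.subscheme →
      topologicalKrullDim (C.support : Set X) = 1 →
        ¬ ((C.support : Set X) ⊆ (CohB1.genLocus L s : Set X))) :
    IsAffineOpen (CohB1.genLocus L s) := by
  haveI := isNoetherian_of_proper k X
  obtain ⟨n, σ, hcov⟩ := exists_sections_cover L hL hgen
  let σ' : Fin (n + 1 + 1) → (Coh.structureModule X ⟶ L) := Fin.cons s σ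
  have hcov' : ⨆ e, CohB1.genLocus L (σ' e) = ⊤ := by
    rw [eq_top_iff, ← hcov]
    apply iSup_le
    intro e
    have : σ' e.succ = σ e := Fin.cons_succ _ _ _
    rw [← this]
    exact le_iSup (fun e => CohB1.genLocus L (σ' e)) e.succ
  obtain ⟨r, hr, -, hloc⟩ := exists_to_projSpace_of_cover' (n + 1)
    (X ↘ Spec (CommRingCat.of k)) σ' hcov'
  have hU : CohB1.genLocus L s = r ⁻¹ᵁ Proj.basicOpen (CohB1.polyGrading (n + 1) k)
      (MvPolynomial.X 0 : MvPolynomial (Fin (n + 1 + 1)) k) := hloc 0
  obtain ⟨V, hV⟩ : ∃ V : (CohB1.ProjSpace (n + 1) k).Opens, V = Proj.basicOpen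
      (CohB1.polyGrading (n + 1) k) (MvPolynomial.X 0 : MvPolynomial (Fin (n + 1 + 1)) k) :=
    ⟨_, rfl⟩
  have hVaff : IsAffineOpen V := by
    rw [hV]
    exact Proj.isAffineOpen_basicOpen (CohB1.polyGrading (n + 1) k) _
      (Groth.Agent.Helper1.Segre.hX 0) Nat.one_pos
  rw [hU, ← hV]
  haveI : IsProper (CohB1.ProjSpace.toSpec (n + 1) k) :=
    Groth.Agent.Helper6.HProj.isProper_toSpec (n + 1) k
  haveI : IsProper (r ≫ CohB1.ProjSpace.toSpec (n + 1) k) := by
    rw [hr]
    infer_instance
  haveI : IsProper r := IsProper.of_comp r (CohB1.ProjSpace.toSpec (n + 1) k)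
  haveI : JacobsonSpace (CohB1.ProjSpace (n + 1) k) :=
    LocallyOfFiniteType.jacobsonSpace (CohB1.ProjSpace.toSpec (n + 1) k)
  haveI : IsAffine (V : Scheme.{u}) := hVaff
  haveI : IsFinite (r ∣_ V) := by
    apply isFinite_of_finite_closed_fibers
    intro y hy
    by_contra hinf
    have hy' : IsClosed ({V.ι y} : Set (CohB1.ProjSpace (n + 1) k)) := by
      apply isClosed_singleton_of_isLocallyClosed_singleton
      have heq : ({V.ι y} : Set (CohB1.ProjSpace (n + 1) k)) = (V : Set _) ∩ closure {V.ι y} := by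
        ext z
        constructor
        · rintro rfl
          exact ⟨y.2, subset_closure rfl⟩
        · rintro ⟨hzV, hzc⟩
          obtain ⟨z', rfl⟩ : ∃ z' : (V : Scheme.{u}), V.ι z' = z := by
            have : z ∈ Set.range V.ι := by
              rw [Scheme.Opens.range_ι]
              exact hzV
            exact this
          have h1 : z' ∈ closure ({y} : Set (V : Scheme.{u})) := by
            rw [V.ι.isOpenEmbedding.isInducing.closure_eq_preimage_closure_image,
              Set.image_singleton]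
            exact hzc
          rw [hy.closure_eq] at h1
          rw [Set.mem_singleton_iff.mp h1]
          rfl
      rw [heq]
      exact V.2.isLocallyClosed.inter isClosed_closure.isLocallyClosed
    have hinf' : (r ⁻¹' {V.ι y}).Infinite := by
      intro hfin
      apply hinf
      refine Set.Finite.of_injOn (f := (r ⁻¹ᵁ V).ι) ?_ (r ⁻¹ᵁ V).ι.isOpenEmbedding.injective.injOn
        hfin
      intro x hx
      change r ((r ⁻¹ᵁ V).ι x) = V.ι y
      have h1 : (r ∣_ V) x = y := hx
      rw [← h1, ← Scheme.Hom.comp_apply, ← Scheme.Hom.comp_apply, morphismRestrict_ι]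
    obtain ⟨C, hCi, hCd, hCy⟩ := exists_curve_of_infinite_fiber r (V.ι y) hy' hinf'
    apply hcurves C hCi hCd
    intro x hx
    rw [hU, ← hV]
    change r x ∈ V
    rw [hCy x hx]
    exact y.2
  exact isAffine_of_isAffineHom (r ∣_ V)

end Main

end Groth.Agent.Helper4.SN
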