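import Mathlib
import Groth.Agent.Helper4.SN81
import Groth.Agent.Helper4.SN27
import Groth.Agent.Lead.StalkNhd
import Groth.Agent.Lead.RegDimOne
import Groth.Agent.Helper1.SerreFin1
import Groth.Agent.Helper1.PUP8
import Groth.Agent.Helper4.NApx81
import Groth.Agent.Helper4.EpiStalk
import Groth.Prelude.Def_LinSer

/-!
# A linear series on a regular curve defines a morphism to projective space
-/

set_option autoImplicit false
set_option linter.style.haveILetI false

namespace Groth.Agent.Helper4.SN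

open CategoryTheory Limits AlgebraicGeometry Opposite TopologicalSpace
open Groth.Agent.Helper4.StalkDict Groth.Agent.Helper4.StalkExact
open Groth.Agent.Helper4.GenLoc Groth.Agent.Helper1.PUP

universe u

section Val

/-- in a valuation ring, one member of a finite nonempty family divides all the others -/
theorem exists_dvd_all {R : Type*} [CommRing R] [IsDomain R] [ValuationRing R] :
    ∀ (n : ℕ) (f : Fin (n + 1) → R), ∃ j, ∀ i, f j ∣ f i
  | 0, f => ⟨0, fun i => by rw [Fin.fin_one_eq_zero i]⟩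
  | n + 1, f => by
    obtain ⟨j, hj⟩ := exists_dvd_all n (fun i => f i.castSucc)
    rcases ValuationRing.dvd_total (f j.castSucc) (f (Fin.last _)) with h | h
    · exact ⟨j.castSucc, fun i => Fin.lastCases h (fun i => hj i) i⟩
    · exact ⟨Fin.last _, fun i => Fin.lastCases dvd_rfl (fun i => h.trans (hj i)) i⟩

theorem valuationRing_stalk (X : Scheme.{u}) [IsIntegral X] (hdim : topologicalKrullDim X ≤ 1)
    (x : X) [IsRegularLocalRing (X.presheaf.stalk x)] : ValuationRing (X.presheaf.stalk x) := by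
  haveI := Groth.Agent.Lead.RegDimOne.isPrincipalIdealRing_of_regular_dim_le_one
    (X.presheaf.stalk x)
    ((Groth.Agent.Lead.RegDimOne.ringKrullDim_stalk_le_dim X x).trans hdim)
  exact ValuationRing.iff_local_bezout_domain.mpr ⟨inferInstance, inferInstance⟩

end Val

section Span

variable {X : Scheme.{u}}

/-- the germ at `x` of the global section attached to `σ : O ⟶ M` -/
noncomputable def gsec {M : X.Modules} (σ : Coh.structureModule X ⟶ M) (x : X) :
    M.presheaf.stalk x := M.presheaf.germ ⊤ x (show x ∈ (⊤ : X.Opens) from trivial) (sec σ ⊤)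

theorem germ_sec {M : X.Modules} (σ : Coh.structureModule X ⟶ M) (x : X) (V : X.Opens)
    (hx : x ∈ V) : M.presheaf.germ V x hx (sec σ V) = gsec σ x := by
  rw [← sec_res σ (le_top : V ≤ ⊤)]
  exact TopCat.Presheaf.germ_res_apply M.presheaf (homOfLE (le_top : V ≤ ⊤)) x hx (sec σ ⊤)

theorem stalkLin_gsec {M N : X.Modules} (σ : Coh.structureModule X ⟶ M) (φ : M ⟶ N) (x : X) :
    stalkLin φ x (gsec σ x) = gsec (σ ≫ φ) x := by
  unfold gsec
  exact stalkLin_germ φ x ⊤ (show x ∈ (⊤ : X.Opens) from trivial) (sec σ ⊤)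

/-- an epimorphism from a finite free module: the images of the basis vectors span each stalk -/
theorem span_gsec_of_epi {n : ℕ} {M : X.Modules}
    (π : (∐ fun _ : Fin n => Coh.structureModule X) ⟶ M) [Epi π] (x : X) :
    Submodule.span (X.presheaf.stalk x)
      (Set.range fun i => gsec (Sigma.ι (fun _ : Fin n => Coh.structureModule X) i ≫ π) x) = ⊤ := by
  rw [eq_top_iff]
  intro t _
  obtain ⟨m, rfl⟩ := Groth.Agent.Helper4.EpiStalk.stalkLin_surjective_of_epi π x t
  obtain ⟨V, hxV, m₀, rfl⟩ := TopCat.Presheaf.exists_germ_eq _ m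
  rw [stalkLin_germ]
  have key : m₀ = ∑ j, (Sigma.ι (fun _ : Fin n => Coh.structureModule X) j).app V
      ((Groth.Agent.Helper1.HHSum.proj (fun _ : Fin n => Coh.structureModule X) j).app V m₀) := by
    have h1 : (∑ j, Groth.Agent.Helper1.HHSum.proj (fun _ : Fin n => Coh.structureModule X) j ≫
        Sigma.ι (fun _ : Fin n => Coh.structureModule X) j).app V m₀ =
        (𝟙 (∐ fun _ : Fin n => Coh.structureModule X) :
          (∐ fun _ : Fin n => Coh.structureModule X) ⟶
            (∐ fun _ : Fin n => Coh.structureModule X)).app V m₀ :=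
      congrArg (fun φ => (Scheme.Modules.Hom.app φ V) m₀)
        (Groth.Agent.Helper1.HHSum.sum_proj_ι (fun _ : Fin n => Coh.structureModule X))
    rw [Groth.Agent.Helper1.SerreFin.sum_app_apply] at h1
    exact h1.symm
  rw [key, map_sum, map_sum]
  refine Submodule.sum_mem _ (fun j _ => ?_)
  have h2 : π.app V ((Sigma.ι (fun _ : Fin n => Coh.structureModule X) j).app V
      ((Groth.Agent.Helper1.HHSum.proj (fun _ : Fin n => Coh.structureModule X) j).app V m₀)) =
      toFn ((Groth.Agent.Helper1.HHSum.proj (fun _ : Fin n => Coh.structureModule X) j).app V m₀) •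
        sec (Sigma.ι (fun _ : Fin n => Coh.structureModule X) j ≫ π) V :=
    app_eq_smul_sec (Sigma.ι (fun _ : Fin n => Coh.structureModule X) j ≫ π) V _
  rw [h2, germ_smul, germ_sec]
  exact Submodule.smul_mem _ _ (Submodule.subset_span ⟨j, rfl⟩)

end Span

section Key

variable {X : Scheme.{u}} [IsIntegral X]

theorem exists_gsec_eq_smul (hdim : topologicalKrullDim X ≤ 1)
    (hreg : ∀ x : X, IsRegularLocalRing (X.presheaf.stalk x))
    (L : X.Modules) (hL : PicF.IsInvertible L) {r : ℕ}
    (σ : Fin (r + 1) → (Coh.structureModule X ⟶ L)) (x : X) :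
    ∃ j₀, ∀ i, ∃ g : X.presheaf.stalk x, gsec (σ i) x = g • gsec (σ j₀) x := by
  haveI := hreg x
  haveI := valuationRing_stalk X hdim x
  obtain ⟨T, e, hx, -, hf, -⟩ := Groth.Agent.Helper4.AmpleFinite.exists_chart_forall L hL x
  let θ : X.presheaf.stalk x ≃ₗ[X.presheaf.stalk x] L.presheaf.stalk x :=
    LinearEquiv.ofBijective _ (toSpanSingleton_germ_bijective L T e hf x hx)
  obtain ⟨j₀, hj₀⟩ := exists_dvd_all r (fun i => θ.symm (gsec (σ i) x))
  refine ⟨j₀, fun i => ?_⟩
  obtain ⟨g, hg⟩ := hj₀ i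
  refine ⟨g, ?_⟩
  apply θ.symm.injective
  rw [map_smul, smul_eq_mul, mul_comm]
  exact hg

variable [IsLocallyNoetherian X]

/-- the subsheaf of an invertible module on a regular curve generated by finitely many nonzero
global sections is covered by the generating loci of those sections -/
theorem exists_image_cover (hdim : topologicalKrullDim X ≤ 1)
    (hreg : ∀ x : X, IsRegularLocalRing (X.presheaf.stalk x))
    (L : X.Modules) (hL : PicF.IsInvertible L) {r : ℕ}
    (σ : Fin (r + 1) → (Coh.structureModule X ⟶ L)) (hσ : ∀ i, Mono (σ i)) :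
    ∃ (L' : X.Modules) (j : L' ⟶ L) (σ' : Fin (r + 1) → (Coh.structureModule X ⟶ L')),
      (∀ i, σ' i ≫ j = σ i) ∧ ⨆ e, CohB1.genLocus L' (σ' e) = ⊤ := by
  let F : X.Modules := ∐ fun _ : Fin (r + 1) => Coh.structureModule X
  let p : F ⟶ L := Sigma.desc σ
  let π : F ⟶ Abelian.image p := Abelian.factorThruImage p
  let j : Abelian.image p ⟶ L := Abelian.image.ι p
  haveI : Mono j := inferInstanceAs (Mono (Abelian.image.ι p))
  haveI : Epi π := inferInstanceAs (Epi (Abelian.factorThruImage p))
  have hπj : π ≫ j = p := Abelian.image.fac p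
  let σ' : Fin (r + 1) → (Coh.structureModule X ⟶ Abelian.image p) := fun i =>
    Sigma.ι (fun _ : Fin (r + 1) => Coh.structureModule X) i ≫ π
  have hσ' : ∀ i, σ' i ≫ j = σ i := by
    intro i
    change (Sigma.ι (fun _ : Fin (r + 1) => Coh.structureModule X) i ≫ π) ≫ j = σ i
    rw [Category.assoc, hπj]
    exact Sigma.ι_desc σ i
  have hcohO : Coh.IsCoh (Coh.structureModule X) := Groth.Agent.Helper1.Dev.isCoh_structureModule X
  have hcohF : Coh.IsCoh F := Groth.Agent.Helper1.SerreFin.isCoh_sigma_fin _ (fun _ => hcohO)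
  have hcohL : Coh.IsCoh L := Groth.Agent.Helper1.SerreFin.isCoh_of_isInvertible L hL
  have hcohL' : Coh.IsCoh (Abelian.image p) :=
    Groth.Agent.Lead.PerfLib.isCoh_kernel hcohL
      (Groth.Agent.Lead.PerfLib.isCoh_cokernel hcohF hcohL p) (cokernel.π p)
  refine ⟨Abelian.image p, j, σ', hσ', ?_⟩
  rw [eq_top_iff]
  intro x _
  obtain ⟨j₀, hj₀⟩ := exists_gsec_eq_smul hdim hreg L hL σ x
  have hbij : Function.Bijective (stalkLin (σ' j₀) x) := by
    constructor
    · haveI := hσ j₀
      have h1 : Function.Injective (stalkLin (σ j₀) x) := stalkLin_injective (σ j₀) x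
      have h2 : ∀ t, stalkLin (σ j₀) x t = stalkLin j x (stalkLin (σ' j₀) x t) := by
        intro t
        rw [← hσ' j₀]
        exact Groth.Agent.Lead.StalkNhd.stalkLin_comp _ _ x t
      intro a b hab
      apply h1
      rw [h2, h2, hab]
    · intro t
      have ht : t ∈ Submodule.span (X.presheaf.stalk x) (Set.range fun i => gsec (σ' i) x) := by
        rw [span_gsec_of_epi π x]; trivial
      have hg : ∀ i, ∃ g : X.presheaf.stalk x, gsec (σ' i) x = g • gsec (σ' j₀) x := by
        intro i
        obtain ⟨g, hg⟩ := hj₀ i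
        refine ⟨g, ?_⟩
        apply stalkLin_injective j x
        rw [map_smul, stalkLin_gsec, stalkLin_gsec, hσ', hσ']
        exact hg
      have hle : Submodule.span (X.presheaf.stalk x) (Set.range fun i => gsec (σ' i) x) ≤
          LinearMap.range (stalkLin (σ' j₀) x) := by
        rw [Submodule.span_le]
        rintro _ ⟨i, rfl⟩
        obtain ⟨g, hg⟩ := hg i
        refine ⟨g • (Coh.structureModule X).presheaf.germ ⊤ x
          (show x ∈ (⊤ : X.Opens) from trivial) (one X ⊤), ?_⟩
        rw [map_smul, stalkLin_germ]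
        exact hg.symm
      exact hle ht
  obtain ⟨U, hxU, hU⟩ := (Groth.Agent.Lead.StalkNhd.main (Abelian.image p)
    (Coh.structureModule X) hcohL' hcohO (σ' j₀) x).2.2 hbij
  refine Opens.mem_iSup.2 ⟨j₀, ?_⟩
  exact (le_sSup hU : U ≤ CohB1.genLocus _ _) hxU

end Key

section Mor2

variable {X : Scheme.{u}}

open Groth.Agent.Helper4.PullSec in
/-- the morphism to projective space attached to sections whose generating loci cover, with
the identification of the pulled back coordinates -/
theorem exists_to_projSpace_of_cover'' {R : Type u} [CommRing R] (n : ℕ)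
    (q : X ⟶ Spec (CommRingCat.of R)) {L : X.Modules}
    (σ : Fin (n + 1) → (Coh.structureModule X ⟶ L))
    (hcov : ⨆ e, CohB1.genLocus L (σ e) = ⊤) :
    ∃ (r : X ⟶ CohB1.ProjSpace n R) (_ : r ≫ CohB1.ProjSpace.toSpec n R = q)
      (τ : (Scheme.Modules.pullback r).obj (Twist.twistProjSpace n R 1) ≅ L),
      ∀ i, τ.hom.app ⊤ (ProjUP.pullSec r (Twist.twistProjSpace n R 1) (ProjUP.coord n R i)) =
        sec (σ i) ⊤ := by
  have hcov' : ⨆ e, XE σ e = ⊤ := hcov
  obtain ⟨τ, hτ⟩ := exists_iso_of_ratios σ (σ' n q σ hcov') (XE σ) hcov' (ratio σ)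
    (fun e => le_refl _) (XE_le_genLocus_σ' n q σ hcov') (ratio_spec σ)
    (ratio_smul_sec_σ' n q σ hcov')
  refine ⟨rr' n q σ hcov', rr'_toSpec n q σ hcov', τ, fun i => ?_⟩
  have h1 : sec (σ' n q σ hcov' i ≫ τ.hom) ⊤ = sec (σ i) ⊤ := by rw [hτ i]
  rw [sec_comp] at h1
  have h2 : sec (σ' n q σ hcov' i) ⊤ =
      ProjUP.pullSec (rr n q σ hcov') (Twist.twist (CohB1.polyGrading n R) ((1 : ℕ) : ℤ))
        (Twist.globalOf (CohB1.polyGrading n R) ⟨MvPolynomial.X i, Groth.Agent.Helper1.Segre.hX i⟩) := by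
    have h3 := sec_pullSec (rr n q σ hcov') (TX (R := R) n i) ⊤
    unfold TX TT at h3
    rw [sec_homOfTop] at h3
    exact h3
  rw [h2] at h1
  exact h1

end Mor2

section Main

variable (k : Type u) [Field k] (X : Scheme.{u}) [X.Over (Spec (CommRingCat.of k))]
  [IsIntegral X] [IsProper (X ↘ (Spec (CommRingCat.of k)))]

/-- **S6578** -/
theorem main6578 (hdim : topologicalKrullDim X = 1)
    (hreg : ∀ x : X, IsRegularLocalRing (X.presheaf.stalk x))
    (d r : ℕ) (L : X.Modules) (s : Fin (r + 1) → LinSer.Sect X L)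
    (hL : LinSer.IsLinSer k X L d r s) :
    ∃ (φ : X ⟶ CohB1.ProjSpace r k)
      (α : (Scheme.Modules.pullback φ).obj (Twist.twistProjSpace r k 1) ⟶ L),
      φ ≫ CohB1.ProjSpace.toSpec r k = X ↘ (Spec (CommRingCat.of k)) ∧
        ∀ i : Fin (r + 1), (α.val.app (Opposite.op ⊤)).hom
          (OmegaSh.pullSect φ (Twist.twistProjSpace r k 1) ⊤
            (Twist.globalOf (CohB1.polyGrading r k)
              (⟨MvPolynomial.X i, MvPolynomial.isHomogeneous_X k i⟩ :
                (CohB1.polyGrading r k) 1))) = s i := by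
  haveI := Groth.Agent.Helper4.NApx82.isNoetherian_of_proper k X
  obtain ⟨hinv, -, hlin⟩ := hL
  let σ : Fin (r + 1) → (Coh.structureModule X ⟶ L) := fun i =>
    Groth.Agent.Lead.LocLift.homOfTop L (s i)
  have hsec : ∀ i, sec (σ i) ⊤ = s i := fun i => sec_homOfTop (s i)
  have hne : ∀ i, σ i ≠ 0 := by
    intro i h0
    have hs0 : s i = 0 := by
      rw [← hsec i, h0]
      rfl
    have h1 := hlin (Pi.single i 1) (by
      apply Finset.sum_eq_zero
      intro e _
      by_cases he : e = i
      · subst he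
        rw [hs0, smul_zero]
      · rw [Pi.single_eq_of_ne he, map_zero, zero_smul])
    have h2 := congrFun h1 i
    rw [Pi.single_eq_same] at h2
    exact one_ne_zero h2
  have hmono : ∀ i, Mono (σ i) := fun i =>
    Groth.Agent.Helper4.NApx81.mono_of_ne_zero (σ i)
      (Groth.Agent.Helper4.TensorInv.isInvertible_structureModule) hinv (hne i)
  obtain ⟨L', j, σ', hσ', hcov⟩ := exists_image_cover hdim.le hreg L hinv σ hmono
  obtain ⟨φ, hφ, τ, hτ⟩ := exists_to_projSpace_of_cover'' r (X ↘ Spec (CommRingCat.of k)) σ' hcov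
  refine ⟨φ, τ.hom ≫ j, hφ, fun i => ?_⟩
  have h1 : j.app ⊤ (τ.hom.app ⊤ (ProjUP.pullSec φ (Twist.twistProjSpace r k 1)
      (ProjUP.coord r k i))) = s i := by
    rw [hτ i, ← sec_comp, hσ' i, hsec i]
  exact h1

end Main

end Groth.Agent.Helper4.SN
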