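import Mathlib
import Groth.Agent.Helper4.SN82
import Groth.Agent.Helper4.SN60
import Groth.Agent.Helper4.SN53
import Groth.Agent.Helper1.ProjH04
import Groth.Agent.Helper6.HomogRank
import Groth.Prelude.Def_Omega4

/-!
# The degree of a nondegenerate curve in projective space
-/

set_option autoImplicit false
set_option linter.style.haveILetI false

namespace Groth.Agent.Helper4.SN

open CategoryTheory Limits AlgebraicGeometry Opposite TopologicalSpace

universe u

section H0

variable (k : Type u) [Field k] {X : Scheme.{u}} [X.Over (Spec (CommRingCat.of k))]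

/-- the `k`-module structure on global sections -/
@[reducible] noncomputable def sectModule (F : X.Modules) : Module k (LinSer.Sect X F) :=
  Module.compHom _ (Coh.toGlobal (X ↘ Spec (CommRingCat.of k)))

/-- `H⁰(X, F) ≃ Γ(X, F)`, `k`-linearly -/
noncomputable def h0LinEquiv (F : X.Modules) :
    letI := sectModule k F
    Coh.HH X F 0 ≃ₗ[k] LinSer.Sect X F :=
  letI := sectModule k F
  { (Groth.Agent.Lead.ProperFinA.h0Equiv F) with
    map_smul' := by
      intro a x
      change Groth.Agent.Lead.ProperFinA.h0Equiv F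
        (Coh.toGlobal (X ↘ Spec (CommRingCat.of k)) a • x) = _
      exact Groth.Agent.Lead.ProperFinA.h0Equiv_smul F _ x }

end H0

section Pull

variable (k : Type u) [Field k] {X Y : Scheme.{u}} [X.Over (Spec (CommRingCat.of k))]
  [Y.Over (Spec (CommRingCat.of k))]

theorem appTop_toGlobal (f : X ⟶ Y)
    (hf : f ≫ (Y ↘ Spec (CommRingCat.of k)) = X ↘ Spec (CommRingCat.of k)) (a : k) :
    f.appTop.hom (Coh.toGlobal (Y ↘ Spec (CommRingCat.of k)) a) =
      Coh.toGlobal (X ↘ Spec (CommRingCat.of k)) a := by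
  unfold Coh.toGlobal
  rw [← hf]
  rfl

/-- pulling back sections, as a `k`-linear map -/
noncomputable def pullSectLin (f : X ⟶ Y)
    (hf : f ≫ (Y ↘ Spec (CommRingCat.of k)) = X ↘ Spec (CommRingCat.of k)) (M : Y.Modules) :
    letI := sectModule k M
    letI := sectModule k ((Scheme.Modules.pullback f).obj M)
    LinSer.Sect Y M →ₗ[k] LinSer.Sect X ((Scheme.Modules.pullback f).obj M) :=
  letI := sectModule k M
  letI := sectModule k ((Scheme.Modules.pullback f).obj M)
  { toFun := fun m => (OmegaSh.pullSect f M ⊤).hom m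
    map_add' := fun a b => map_add _ a b
    map_smul' := by
      intro a m
      change (OmegaSh.pullSect f M ⊤).hom (Coh.toGlobal (Y ↘ Spec (CommRingCat.of k)) a • m) =
        @HSMul.hSMul (X.ringCatSheaf.obj.obj (op ⊤))
          (((Scheme.Modules.pullback f).obj M).val.obj (op ⊤))
          (((Scheme.Modules.pullback f).obj M).val.obj (op ⊤)) _
          (Coh.toGlobal (X ↘ Spec (CommRingCat.of k)) a) ((OmegaSh.pullSect f M ⊤).hom m)
      rw [← appTop_toGlobal k f hf a]
      exact OmegaSh.pullSect_smul f M ⊤ _ m }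

end Pull

section Main

variable (k : Type u) [Field k] [IsAlgClosed k] (r : ℕ)
  (X : Scheme.{u}) [X.Over (Spec (CommRingCat.of k))] [IsIntegral X]
  [IsProper (X ↘ (Spec (CommRingCat.of k)))]

/-- **S12912** -/
theorem main12912 (hdim : topologicalKrullDim X = 1)
    (i : X ⟶ CohB1.ProjSpace r k)
    (hi : i ≫ CohB1.ProjSpace.toSpec r k = (X ↘ (Spec (CommRingCat.of k))))
    (hplane : ∀ s : LinSer.Sect (CohB1.ProjSpace r k) (Twist.twistProjSpace r k 1), s ≠ 0 →
      OmegaSh.pullSect i (Twist.twistProjSpace r k 1) ⊤ s ≠ 0) :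
    (r : ℤ) ≤ Curv2.deg k X ((Scheme.Modules.pullback i).obj (Twist.twistProjSpace r k 1)) 1 := by
  haveI := Groth.Agent.Helper4.NApx82.isNoetherian_of_proper k X
  obtain ⟨L, hLdef⟩ : ∃ L, L = (Scheme.Modules.pullback i).obj (Twist.twistProjSpace r k 1) :=
    ⟨_, rfl⟩
  have hinvO1 : PicF.IsInvertible (Twist.twistProjSpace r k 1) :=
    Groth.Agent.Helper1.SerreVan.isInvertible_twist r k 1
  have hL : PicF.IsInvertible ((Scheme.Modules.pullback i).obj (Twist.twistProjSpace r k 1)) :=
    Groth.Agent.Helper4.PullSec.isInvertible_pullback i hinvO1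
  have hcL := Groth.Agent.Helper1.SerreFin.isCoh_of_isInvertible _ hL
  haveI : Module.Finite k (Coh.HH X
      ((Scheme.Modules.pullback i).obj (Twist.twistProjSpace r k 1)) 0) :=
    Groth.Agent.S0002.result k X _ hcL 0
  letI := sectModule k (Twist.twistProjSpace r k 1)
  letI := sectModule k ((Scheme.Modules.pullback i).obj (Twist.twistProjSpace r k 1))
  let φ : Coh.HH (CohB1.ProjSpace r k) (Twist.twistProjSpace r k 1) 0 →ₗ[k]
      Coh.HH X ((Scheme.Modules.pullback i).obj (Twist.twistProjSpace r k 1)) 0 :=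
    (h0LinEquiv k ((Scheme.Modules.pullback i).obj (Twist.twistProjSpace r k 1))).symm.toLinearMap ∘ₗ
      pullSectLin k i hi (Twist.twistProjSpace r k 1) ∘ₗ
      (h0LinEquiv k (Twist.twistProjSpace r k 1)).toLinearMap
  have hφ : Function.Injective φ := by
    rw [injective_iff_map_eq_zero]
    intro x hx
    have h1 : pullSectLin k i hi (Twist.twistProjSpace r k 1)
        (h0LinEquiv k (Twist.twistProjSpace r k 1) x) = 0 := by
      have := (h0LinEquiv k
        ((Scheme.Modules.pullback i).obj (Twist.twistProjSpace r k 1))).symm.injective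
        (hx.trans (map_zero _).symm)
      exact this
    by_contra hx0
    have h2 : h0LinEquiv k (Twist.twistProjSpace r k 1) x ≠ 0 := fun h =>
      hx0 ((h0LinEquiv k (Twist.twistProjSpace r k 1)).injective (h.trans (map_zero _).symm))
    exact hplane _ h2 h1
  have h1 : Module.finrank k (Coh.HH (CohB1.ProjSpace r k) (Twist.twistProjSpace r k 1) 0) =
      r + 1 := by
    obtain ⟨e⟩ := Groth.Agent.Helper1.ProjTop.nonempty_H0 r k 1
    have h := e.finrank_eq
    rw [Groth.Agent.Helper6.HomogRank.finrank_homogeneousSubmodule] at h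
    refine Eq.trans ?_ (h.trans ?_)
    · rfl
    · rw [Nat.add_comm 1 r, Nat.choose_succ_self_right]
  have h2 : r + 1 ≤ Module.finrank k (Coh.HH X
      ((Scheme.Modules.pullback i).obj (Twist.twistProjSpace r k 1)) 0) := by
    rw [← h1]
    exact LinearMap.finrank_le_finrank_of_injective hφ
  have hnt : Nontrivial (Coh.HH X
      ((Scheme.Modules.pullback i).obj (Twist.twistProjSpace r k 1)) 0) :=
    Module.nontrivial_of_finrank_pos (R := k) (by omega)
  have h3 := h0_le_h0_unit_add_deg k hdim _ hL hnt
  rw [finrank_h0_unit_of_isAlgClosed k] at h3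
  have h4 : ((r + 1 : ℕ) : ℤ) ≤ (Module.finrank k (Coh.HH X
      ((Scheme.Modules.pullback i).obj (Twist.twistProjSpace r k 1)) 0) : ℤ) := by
    exact_mod_cast h2
  push_cast at h4 h3
  linarith

end Main

end Groth.Agent.Helper4.SN
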