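import Mathlib
import Groth.Agent.Lead.RegLocal

/-!
# A regular local ring is integrally closed

Key lemma: a Noetherian local domain `R` with a prime element `x ∈ m` such that `R/xR` is
integrally closed is itself integrally closed (proof by `x`-adic approximation using almost
integrality).
-/

set_option autoImplicit false

universe u

namespace Groth.Agent.Helper4.RegNormal

open IsLocalRing

section core

variable {R : Type u} [CommRing R] [IsDomain R]

/-- `a / b` is almost integral, phrased with divisibility. -/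
def AI (b a : R) : Prop := ∃ c : R, c ≠ 0 ∧ ∀ n : ℕ, b ^ n ∣ c * a ^ n

variable {x : R} (hx : Prime x)

include hx in
lemma exists_c_not_dvd [WfDvdMonoid R] {b a : R} (hb : ¬ x ∣ b) (h : AI b a) :
    ∃ c : R, ¬ x ∣ c ∧ ∀ n : ℕ, b ^ n ∣ c * a ^ n := by
  obtain ⟨c, hc0, hc⟩ := h
  obtain ⟨c₀, hcc, hnd⟩ := (FiniteMultiplicity.of_prime_left hx hc0).exists_eq_pow_mul_and_not_dvd
  refine ⟨c₀, hnd, fun n => ?_⟩
  obtain ⟨r, hr⟩ := hc n
  set γ := multiplicity x c
  have h1 : x ^ γ ∣ r * b ^ n := ⟨c₀ * a ^ n, by rw [mul_comm r, ← hr, hcc]; ring⟩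
  have h2 : x ^ γ ∣ r := hx.pow_dvd_of_dvd_mul_right γ (fun h => hb (hx.dvd_of_dvd_pow h)) h1
  obtain ⟨r', rfl⟩ := h2
  refine ⟨r', ?_⟩
  have hxγ : x ^ γ ≠ 0 := pow_ne_zero _ hx.ne_zero
  apply mul_left_cancel₀ hxγ
  rw [← mul_assoc, ← hcc, hr]; ring

include hx in
lemma step [IsNoetherianRing R] (hq : IsIntegrallyClosed (R ⧸ Ideal.span {x})) {b a c : R}
    (hb : ¬ x ∣ b) (hc : ¬ x ∣ c) (h : ∀ n : ℕ, b ^ n ∣ c * a ^ n) :
    ∃ r a₁ : R, a = b * r + x * a₁ ∧ ∀ n : ℕ, b ^ n ∣ c * a₁ ^ n := by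
  haveI : (Ideal.span {x}).IsPrime := (Ideal.span_singleton_prime hx.ne_zero).mpr hx
  have hmk0 : ∀ r : R, Ideal.Quotient.mk (Ideal.span {x}) r = 0 ↔ x ∣ r := fun r => by
    rw [Ideal.Quotient.eq_zero_iff_mem, Ideal.mem_span_singleton]
  have hb' : Ideal.Quotient.mk (Ideal.span {x}) b ≠ 0 := fun h0 => hb ((hmk0 b).mp h0)
  have hc' : Ideal.Quotient.mk (Ideal.span {x}) c ≠ 0 := fun h0 => hc ((hmk0 c).mp h0)
  have hbL : algebraMap (R ⧸ Ideal.span {x}) (FractionRing (R ⧸ Ideal.span {x}))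
      (Ideal.Quotient.mk (Ideal.span {x}) b) ≠ 0 := by
    rw [Ne, map_eq_zero_iff _ (IsFractionRing.injective _ _)]
    exact hb'
  have hz : IsAlmostIntegral (R ⧸ Ideal.span {x})
      (algebraMap (R ⧸ Ideal.span {x}) (FractionRing (R ⧸ Ideal.span {x}))
          (Ideal.Quotient.mk (Ideal.span {x}) a) /
        algebraMap (R ⧸ Ideal.span {x}) (FractionRing (R ⧸ Ideal.span {x}))
          (Ideal.Quotient.mk (Ideal.span {x}) b)) := by
    refine ⟨Ideal.Quotient.mk (Ideal.span {x}) c, mem_nonZeroDivisors_of_ne_zero hc', fun n => ?_⟩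
    obtain ⟨r, hr⟩ := h n
    refine ⟨Ideal.Quotient.mk (Ideal.span {x}) r, ?_⟩
    rw [Algebra.smul_def, div_pow, ← mul_div_assoc, eq_div_iff (pow_ne_zero n hbL), ← map_pow,
      ← map_pow, ← map_mul, ← map_mul, ← map_pow, ← map_pow, ← map_mul, ← map_mul, hr, mul_comm]
  have hz' : IsIntegral (R ⧸ Ideal.span {x}) _ := hz.isIntegral
  obtain ⟨y, hy⟩ := (isIntegrallyClosed_iff (FractionRing (R ⧸ Ideal.span {x}))).mp hq hz'
  obtain ⟨y, rfl⟩ := Ideal.Quotient.mk_surjective y
  have hmul : Ideal.Quotient.mk (Ideal.span {x}) a =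
      Ideal.Quotient.mk (Ideal.span {x}) b * Ideal.Quotient.mk (Ideal.span {x}) y := by
    apply IsFractionRing.injective (R ⧸ Ideal.span {x}) (FractionRing (R ⧸ Ideal.span {x}))
    rw [map_mul, hy, mul_div_cancel₀ _ hbL]
  have hdvd : x ∣ a - b * y := by rw [← hmk0, map_sub, map_mul, hmul, sub_self]
  obtain ⟨a₁, ha₁⟩ := hdvd
  refine ⟨y, a₁, by linear_combination ha₁, fun n => ?_⟩
  have h1 : b ^ n ∣ c * (a - b * y) ^ n := by
    rw [sub_eq_add_neg, add_pow, Finset.mul_sum]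
    refine Finset.dvd_sum fun k hk => ?_
    have hk' : k ≤ n := by
      have := Finset.mem_range.mp hk
      omega
    obtain ⟨r, hr⟩ := h k
    refine ⟨r * (-y) ^ (n - k) * (n.choose k), ?_⟩
    have hbn : b ^ n = b ^ k * b ^ (n - k) := by rw [← pow_add, Nat.add_sub_cancel' hk']
    have hneg : -(b * y) = b * (-y) := by ring
    rw [hbn, hneg, mul_pow]
    linear_combination (b ^ (n - k) * (-y) ^ (n - k) * (n.choose k)) * hr
  rw [ha₁, mul_pow] at h1
  obtain ⟨s, hs⟩ := h1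
  have h2 : x ^ n ∣ s * b ^ n := ⟨c * a₁ ^ n, by rw [mul_comm s, ← hs]; ring⟩
  obtain ⟨s', rfl⟩ := hx.pow_dvd_of_dvd_mul_right n (fun h => hb (hx.dvd_of_dvd_pow h)) h2
  refine ⟨s', mul_left_cancel₀ (pow_ne_zero n hx.ne_zero) ?_⟩
  linear_combination hs

include hx in
lemma dvd_of_not_dvd [IsNoetherianRing R] [IsLocalRing R] (hxm : x ∈ maximalIdeal R)
    (hq : IsIntegrallyClosed (R ⧸ Ideal.span {x})) {b a : R} (hb : ¬ x ∣ b) (h : AI b a) :
    b ∣ a := by
  obtain ⟨c, hc, hca⟩ := exists_c_not_dvd hx hb h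
  have key : ∀ k : ℕ, ∀ a : R, (∀ n, b ^ n ∣ c * a ^ n) →
      ∃ r a' : R, a = b * r + x ^ k * a' := by
    intro k
    induction k with
    | zero => intro a _; exact ⟨0, a, by ring⟩
    | succ k ih =>
      intro a ha
      obtain ⟨r, a₁, hra, ha₁⟩ := step hx hq hb hc ha
      obtain ⟨r', a', hr'⟩ := ih a₁ ha₁
      exact ⟨r + x * r', a', by rw [hra, hr']; ring⟩
  have hI : Ideal.span {x} ≠ ⊤ := by
    intro h
    rw [Ideal.span_singleton_eq_top] at h
    exact (mem_maximalIdeal x).mp hxm h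
  have hK := Ideal.iInf_pow_smul_eq_bot_of_isLocalRing (I := Ideal.span {x})
    (M := R ⧸ Ideal.span {b}) hI
  have hmem : (Ideal.Quotient.mk (Ideal.span {b}) a) ∈
      (⨅ i : ℕ, Ideal.span {x} ^ i • ⊤ : Submodule R (R ⧸ Ideal.span {b})) := by
    rw [Submodule.mem_iInf]
    intro k
    obtain ⟨r, a', hra⟩ := key k a hca
    have hbr : Ideal.Quotient.mk (Ideal.span {b}) (b * r) = 0 := by
      rw [Ideal.Quotient.eq_zero_iff_mem, Ideal.mem_span_singleton]
      exact dvd_mul_right b r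
    have : Ideal.Quotient.mk (Ideal.span {b}) a =
        (x ^ k) • Ideal.Quotient.mk (Ideal.span {b}) a' := by
      rw [hra, map_add, hbr, zero_add, map_mul]
      rfl
    rw [this]
    exact Submodule.smul_mem_smul (Ideal.pow_mem_pow (Ideal.mem_span_singleton_self x) k)
      Submodule.mem_top
  rw [hK, Submodule.mem_bot, Ideal.Quotient.eq_zero_iff_mem, Ideal.mem_span_singleton] at hmem
  exact hmem

include hx in
lemma dvd_of_AI [IsNoetherianRing R] [IsLocalRing R] (hxm : x ∈ maximalIdeal R)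
    (hq : IsIntegrallyClosed (R ⧸ Ideal.span {x})) :
    ∀ b : R, b ≠ 0 → ∀ a : R, AI b a → b ∣ a := by
  intro b
  refine wellFounded_dvdNotUnit.induction
    (C := fun b : R => b ≠ 0 → ∀ a : R, AI b a → b ∣ a) b ?_
  intro b ih hb0 a h
  by_cases hxb : x ∣ b
  · obtain ⟨b', rfl⟩ := hxb
    have hb'0 : b' ≠ 0 := right_ne_zero_of_mul hb0
    obtain ⟨c, hc0, hc⟩ := h
    obtain ⟨c₀, hcc, hnd⟩ :=
      (FiniteMultiplicity.of_prime_left hx hc0).exists_eq_pow_mul_and_not_dvd
    set γ := multiplicity x c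
    -- x ∣ a
    have hxa : x ∣ a := by
      obtain ⟨r, hr⟩ := hc (γ + 1)
      have h1 : x ^ γ * (c₀ * a ^ (γ + 1)) = x ^ γ * (x * (b' ^ (γ + 1) * r)) := by
        rw [← mul_assoc, ← hcc, hr]; ring
      have h2 := mul_left_cancel₀ (pow_ne_zero γ hx.ne_zero) h1
      have h3 : x ∣ c₀ * a ^ (γ + 1) := ⟨_, h2⟩
      rcases hx.dvd_or_dvd h3 with h4 | h4
      · exact absurd h4 hnd
      · exact hx.dvd_of_dvd_pow h4
    obtain ⟨a', rfl⟩ := hxa
    have hAI' : AI b' a' := by
      refine ⟨c, hc0, fun n => ?_⟩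
      obtain ⟨r, hr⟩ := hc n
      refine ⟨r, mul_left_cancel₀ (pow_ne_zero n hx.ne_zero) ?_⟩
      linear_combination hr
    have hlt : DvdNotUnit b' (x * b') := ⟨hb'0, x, hx.not_unit, mul_comm x b'⟩
    exact mul_dvd_mul_left x (ih b' hlt hb'0 a' hAI')
  · exact dvd_of_not_dvd hx hxm hq hxb h

include hx in
theorem isIntegrallyClosed_of_prime_quotient [IsNoetherianRing R] [IsLocalRing R]
    (hxm : x ∈ maximalIdeal R) (hq : IsIntegrallyClosed (R ⧸ Ideal.span {x})) :
    IsIntegrallyClosed R := by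
  rw [isIntegrallyClosed_iff (FractionRing R)]
  intro z hz
  obtain ⟨a, b, hb, rfl⟩ := IsFractionRing.div_surjective (A := R) z
  have hb0 : b ≠ 0 := nonZeroDivisors.ne_zero hb
  have hbK : algebraMap R (FractionRing R) b ≠ 0 := by
    rw [Ne, map_eq_zero_iff _ (IsFractionRing.injective _ _)]
    exact hb0
  obtain ⟨c, hc, hcn⟩ := hz.isAlmostIntegral (R := R)
  have hAI : AI b a := by
    refine ⟨c, nonZeroDivisors.ne_zero hc, fun n => ?_⟩
    obtain ⟨r, hr⟩ := hcn n
    refine ⟨r, ?_⟩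
    apply IsFractionRing.injective R (FractionRing R)
    have hr' : algebraMap R (FractionRing R) r =
        algebraMap R (FractionRing R) c *
          (algebraMap R (FractionRing R) a / algebraMap R (FractionRing R) b) ^ n := by
      rw [hr, Algebra.smul_def]
    rw [map_mul, map_mul, map_pow, map_pow, hr', div_pow]
    field_simp
  obtain ⟨y, rfl⟩ := dvd_of_AI hx hxm hq b hb0 a hAI
  exact ⟨y, by rw [map_mul, mul_div_cancel_left₀ _ hbK]⟩

end core

theorem isIntegrallyClosed_of_spanFinrank :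
    ∀ (d : ℕ) (R : Type u) [CommRing R] [IsRegularLocalRing R],
    (maximalIdeal R).spanFinrank = d → IsIntegrallyClosed R := by
  intro d
  induction d with
  | zero =>
    intro R _ _ h
    have hbot : maximalIdeal R = ⊥ :=
      (Submodule.spanFinrank_eq_zero_iff_eq_bot (maximalIdeal R).fg_of_isNoetherianRing).mp h
    have hf : IsField R := IsLocalRing.isField_iff_maximalIdeal_eq.mpr hbot
    letI := hf.toField
    infer_instance
  | succ d ih =>
    intro R _ _ h
    haveI : IsDomain R := Groth.Agent.Lead.RegLocal.isDomain_of_isRegularLocalRing R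
    have hreg : (maximalIdeal R).spanFinrank = ringKrullDim R :=
      IsRegularLocalRing.spanFinrank_maximalIdeal
    have hdim : ¬ ringKrullDim R ≤ 0 := by
      rw [← hreg, h]
      intro hle
      have : ((d + 1 : ℕ) : WithBot ℕ∞) ≤ ((0 : ℕ) : WithBot ℕ∞) := hle
      have h' : d + 1 ≤ 0 := by exact_mod_cast this
      omega
    obtain ⟨x, hxm, hx2, -⟩ := Groth.Agent.Lead.RegLocal.exists_mem_notMem_sq_minimalPrimes hdim
    obtain ⟨hR', -, hl, hspan⟩ := Groth.Agent.Lead.RegLocal.quotient_isRegularLocalRing hxm hx2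
    have hd : (maximalIdeal (R ⧸ Ideal.span {x})).spanFinrank = d := by omega
    have hdom : IsDomain (R ⧸ Ideal.span {x}) :=
      Groth.Agent.Lead.RegLocal.isDomain_of_isRegularLocalRing _
    have hprime : (Ideal.span {x}).IsPrime := (Ideal.Quotient.isDomain_iff_prime _).mp hdom
    have hx0 : x ≠ 0 := by
      rintro rfl
      exact hx2 (zero_mem _)
    have hxp : Prime x := (Ideal.span_singleton_prime hx0).mp hprime
    exact isIntegrallyClosed_of_prime_quotient hxp hxm (ih (R ⧸ Ideal.span {x}) hd)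

theorem isIntegrallyClosed_of_isRegularLocalRing (R : Type u) [CommRing R] [IsRegularLocalRing R] :
    IsIntegrallyClosed R :=
  isIntegrallyClosed_of_spanFinrank _ R rfl

end Groth.Agent.Helper4.RegNormal
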