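import Mathlib
import Groth.Prelude.Def_EGA4b

/-!
# The `(R_n)` locus of a Noetherian ring
-/

set_option autoImplicit false

namespace Groth.Agent.Helper4.RkLocus

universe u

variable {A : Type u} [CommRing A]

theorem regular_congr (I J : Ideal A) [I.IsPrime] [J.IsPrime] (h : I = J)
    (hI : IsRegularLocalRing (Localization.AtPrime I)) :
    IsRegularLocalRing (Localization.AtPrime J) := by
  subst h
  exact hI

theorem hasRkAt_iff (n : ℕ) (p : Ideal A) [p.IsPrime] :
    EGA4.HasRkAt n A p ↔ ∀ (q : Ideal A) [q.IsPrime], q ≤ p → q.height ≤ n →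
      IsRegularLocalRing (Localization.AtPrime q) := by
  constructor
  · intro h q hq hqp hht
    have hdisj : Disjoint (p.primeCompl : Set A) (q : Set A) := by
      rw [Set.disjoint_left]
      intro x hx hxq
      exact hx (hqp hxq)
    haveI hP : (q.map (algebraMap A (Localization.AtPrime p))).IsPrime :=
      IsLocalization.isPrime_of_isPrime_disjoint p.primeCompl _ q hq hdisj
    have hcomap : (q.map (algebraMap A (Localization.AtPrime p))).comap
        (algebraMap A (Localization.AtPrime p)) = q :=
      IsLocalization.under_map_of_isPrime_disjoint p.primeCompl _ hq hdisj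
    have hPht : (q.map (algebraMap A (Localization.AtPrime p))).height ≤ n := by
      rw [IsLocalization.height_map_of_disjoint p.primeCompl q hdisj]
      exact hht
    haveI hreg : IsRegularLocalRing (Localization.AtPrime
        (q.map (algebraMap A (Localization.AtPrime p)))) :=
      h (q.map (algebraMap A (Localization.AtPrime p))) hPht
    have e := IsLocalization.localizationLocalizationAtPrimeIsoLocalization p.primeCompl
      (q.map (algebraMap A (Localization.AtPrime p)))
    have h1 : IsRegularLocalRing (Localization.AtPrime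
        ((q.map (algebraMap A (Localization.AtPrime p))).comap
          (algebraMap A (Localization p.primeCompl)))) :=
      IsRegularLocalRing.of_ringEquiv e.symm.toRingEquiv
    exact regular_congr _ q hcomap h1
  · intro h P hP hPht
    haveI hq : (P.comap (algebraMap A (Localization.AtPrime p))).IsPrime := Ideal.comap_isPrime _ _
    have hqp : P.comap (algebraMap A (Localization.AtPrime p)) ≤ p := by
      intro x hx
      by_contra hxp
      have hu : IsUnit (algebraMap A (Localization.AtPrime p) x) :=
        IsLocalization.map_units _ (⟨x, hxp⟩ : p.primeCompl)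
      exact hP.ne_top (Ideal.eq_top_of_isUnit_mem _ hx hu)
    have hht : (P.comap (algebraMap A (Localization.AtPrime p))).height ≤ n := by
      have := IsLocalization.height_under p.primeCompl P
      rw [Ideal.under_def] at this
      rw [this]
      exact hPht
    haveI := h _ hqp hht
    exact IsRegularLocalRing.of_ringEquiv
      (IsLocalization.localizationLocalizationAtPrimeIsoLocalization p.primeCompl P).toRingEquiv

theorem not_hasRkAt_iff (n : ℕ) (p : Ideal A) [p.IsPrime] :
    ¬ EGA4.HasRkAt n A p ↔ ∃ (q : Ideal A) (_ : q.IsPrime), q ≤ p ∧ q.height ≤ n ∧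
      ¬ IsRegularLocalRing (Localization.AtPrime q) := by
  rw [hasRkAt_iff]
  constructor
  · intro h
    by_contra hcon
    apply h
    intro q hq hqp hht
    by_contra hreg
    exact hcon ⟨q, hq, hqp, hht, hreg⟩
  · rintro ⟨q, hq, hqp, hht, hreg⟩ h
    exact hreg (h q hqp hht)

theorem isOpen_of_finite_cover (n : ℕ) (T : Set (Ideal A)) (hT : T.Finite)
    (hcompl : ∀ p : PrimeSpectrum A, ¬ EGA4.HasRkAt n A p.asIdeal ↔ ∃ q ∈ T, q ≤ p.asIdeal) :
    IsOpen {p : PrimeSpectrum A | EGA4.HasRkAt n A p.asIdeal} := by
  rw [← isClosed_compl_iff]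
  have : {p : PrimeSpectrum A | EGA4.HasRkAt n A p.asIdeal}ᶜ
      = ⋃ q ∈ T, PrimeSpectrum.zeroLocus (q : Set A) := by
    ext p
    rw [Set.mem_compl_iff, Set.mem_setOf_eq, hcompl p]
    simp only [Set.mem_iUnion, PrimeSpectrum.mem_zeroLocus, SetLike.coe_subset_coe, exists_prop]
  rw [this]
  exact hT.isClosed_biUnion (fun q _ => PrimeSpectrum.isClosed_zeroLocus _)

end Groth.Agent.Helper4.RkLocus
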