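import Mathlib
import Groth.Agent.Helper4.SN83
import Groth.Agent.Helper4.SN74
import Groth.Agent.Helper4.SN39
import Groth.Agent.S4466
import Groth.Agent.S10829
import Groth.Agent.Helper5.P1Sch
import Groth.Agent.Helper6.HProj
import Groth.Agent.Helper1.TwistMul6

/-!
# The morphism to the projective line attached to a pencil
-/

set_option autoImplicit false
set_option linter.style.haveILetI false

namespace Groth.Agent.Helper4.SN

open CategoryTheory Limits AlgebraicGeometry Opposite TopologicalSpace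

universe u

section Alg

/-- for a local homomorphism of local rings which are fields, the degree can be computed on
residue fields -/
theorem finrank_eq_finrank_residue {R S : Type u} [CommRing R] [CommRing S] [IsLocalRing R]
    [IsLocalRing S] (φ : R →+* S) [IsLocalHom φ] (hR : IsLocalRing.maximalIdeal R = ⊥)
    (hS : IsLocalRing.maximalIdeal S = ⊥) :
    @Module.finrank R S _ _ φ.toAlgebra.toModule =
      @Module.finrank (IsLocalRing.ResidueField R) (IsLocalRing.ResidueField S) _ _
        (IsLocalRing.ResidueField.map φ).toAlgebra.toModule := by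
  letI := φ.toAlgebra
  letI := (IsLocalRing.ResidueField.map φ).toAlgebra
  have hbR : Function.Bijective (IsLocalRing.residue R) := by
    refine ⟨?_, IsLocalRing.residue_surjective⟩
    rw [RingHom.injective_iff_ker_eq_bot, IsLocalRing.ker_residue, hR]
  have hbS : Function.Bijective (IsLocalRing.residue S) := by
    refine ⟨?_, IsLocalRing.residue_surjective⟩
    rw [RingHom.injective_iff_ker_eq_bot, IsLocalRing.ker_residue, hS]
  exact Algebra.finrank_eq_of_equiv_equiv (RingEquiv.ofBijective _ hbR)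
    (RingEquiv.ofBijective _ hbS) (by
      ext x
      rfl)

end Alg

section P1

variable (k : Type u) [Field k]

instance isIntegral_P1 : IsIntegral (CohB1.ProjSpace 1 k) :=
  inferInstanceAs (IsIntegral (Proj (CohB1.polyGrading 1 k)))

instance isProper_P1 (n : ℕ) :
    IsProper ((CohB1.ProjSpace n k) ↘ (Spec (CommRingCat.of k))) :=
  Groth.Agent.Helper6.HProj.isProper_toSpec n k

theorem dim_P1 : topologicalKrullDim (CohB1.ProjSpace 1 k) = 1 := by
  have := Groth.Agent.S10829.result k 1
  rw [this]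
  rfl

theorem chi_twist_P1 (n : ℤ) :
    chi k (CohB1.ProjSpace 1 k) (Twist.twistProjSpace 1 k n) = n + 1 := by
  haveI := Groth.Agent.Helper4.NApx82.isNoetherian_of_proper k (CohB1.ProjSpace 1 k)
  rw [chi_eq_h0_sub_h1 k (dim_P1 k).le]
  have h := Groth.Agent.S4466.result k 1 Nat.one_pos n
  rw [Finset.sum_range_succ, Finset.sum_range_one] at h
  have h2 : Ring.choose (n + ((1 : ℕ) : ℤ)) 1 = n + 1 := by
    rw [Ring.choose_one_right]
    push_cast
    rfl
  rw [h2] at h
  rw [← h]
  ring

theorem deg_twist_one_P1 :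
    Curv2.deg k (CohB1.ProjSpace 1 k) (Twist.twistProjSpace 1 k 1) 1 = 1 := by
  unfold Curv2.deg
  obtain ⟨e⟩ := Groth.Agent.Helper1.TwistMul.nonempty_twist_zero_iso (CohB1.polyGrading 1 k)
  have e' : Twist.twistProjSpace 1 k 0 ≅ Coh.structureModule (CohB1.ProjSpace 1 k) := e
  have h0 := chi_iso k e'
  have h1 := chi_twist_P1 k 1
  have h2 := chi_twist_P1 k 0
  unfold chi at h0 h1 h2
  rw [← h0, h1, h2]
  norm_num

end P1

section Const

variable (k : Type u) [Field k] {X : Scheme.{u}} [X.Over (Spec (CommRingCat.of k))]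

open Groth.Agent.Helper1.PUP Groth.Agent.Helper4.PullSec Groth.Agent.Helper4.GenLoc in
/-- if `φ` maps into a single point, the pullbacks of the coordinates are all multiples of one of
them -/
theorem exists_smul_of_const (n : ℕ) (φ : X ⟶ CohB1.ProjSpace n k) (p : CohB1.ProjSpace n k)
    (hp : Set.range φ ⊆ {p}) :
    ∃ e : Fin (n + 1), ∀ i, ∃ c : Γ(X, ⊤),
      c • (ProjUP.pullSec φ (Twist.twistProjSpace n k 1) (ProjUP.coord n k e)) =
        ProjUP.pullSec φ (Twist.twistProjSpace n k 1) (ProjUP.coord n k i) := by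
  have hcov := Groth.Agent.Helper1.Segre.iSup_basicOpen_X (R := k) n
  have hp' : p ∈ ⨆ i, Proj.basicOpen (CohB1.polyGrading n k)
      (MvPolynomial.X i : MvPolynomial (Fin (n + 1)) k) := by
    rw [hcov]
    trivial
  obtain ⟨e, he⟩ := Opens.mem_iSup.1 hp'
  refine ⟨e, fun i => ?_⟩
  have hgen : (⊤ : X.Opens) ≤ CohB1.genLocus _ (pullSec φ (TX (R := k) n e)) := by
    refine le_trans ?_ (preimage_genLocus_le φ (TX (R := k) n e))
    intro x _
    change φ x ∈ CohB1.genLocus _ (TX (R := k) n e)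
    unfold TX
    rw [genLocus_TT _ (hcovP n)]
    have : φ x = p := hp ⟨x, rfl⟩
    rw [this]
    exact he
  obtain ⟨c, hc⟩ := exists_smul_sec (pullSec φ (TX (R := k) n e)) hgen
    (sec (pullSec φ (TX (R := k) n i)) ⊤)
  refine ⟨c, ?_⟩
  have h2 : ∀ j, sec (pullSec φ (TX (R := k) n j)) ⊤ =
      ProjUP.pullSec φ (Twist.twistProjSpace n k 1) (ProjUP.coord n k j) := by
    intro j
    have h3 := sec_pullSec φ (TX (R := k) n j) ⊤
    have h4 : sec (TX (R := k) n j) ⊤ = Twist.globalOf (CohB1.polyGrading n k)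
        ⟨MvPolynomial.X j, Groth.Agent.Helper1.Segre.hX j⟩ := sec_homOfTop _
    exact h3.trans (congrArg (ηapp φ (Twist.twist (CohB1.polyGrading n k) ((1 : ℕ) : ℤ)) ⊤) h4)
  rw [← h2 e, ← h2 i]
  exact hc

open Groth.Agent.Helper4.GenLoc in
/-- if `h⁰(O_X) = 1`, every global function is a constant -/
theorem exists_toGlobal_eq [IsIntegral X] (hfin : Module.finrank k (Coh.HH X (Coh.structureModule X) 0) = 1)
    (c : Γ(X, ⊤)) : ∃ c₀ : k, Coh.toGlobal (X ↘ Spec (CommRingCat.of k)) c₀ = c := by
  letI := sectModule k (Coh.structureModule X)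
  have h1 : Module.finrank k (LinSer.Sect X (Coh.structureModule X)) = 1 := by
    rw [← (h0LinEquiv k (Coh.structureModule X)).finrank_eq]
    exact hfin
  let o : LinSer.Sect X (Coh.structureModule X) := one X ⊤
  have hne : o ≠ 0 := by
    intro h
    have h2 : (1 : Γ(X, ⊤)) = 0 := h
    exact one_ne_zero h2
  let w : LinSer.Sect X (Coh.structureModule X) := (c • one X ⊤ : Γ(Coh.structureModule X, ⊤))
  obtain ⟨c₀, hc₀⟩ := (finrank_eq_one_iff_of_nonzero' o hne).mp h1 w
  refine ⟨c₀, ?_⟩
  have h3 : ((show Γ(X, ⊤) from Coh.toGlobal (X ↘ Spec (CommRingCat.of k)) c₀) • one X ⊤ :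
      Γ(Coh.structureModule X, ⊤)) = c • one X ⊤ := hc₀
  have h4 := congrArg toFn h3
  rw [Groth.Agent.Helper4.GenLoc.smul_one, Groth.Agent.Helper4.GenLoc.smul_one] at h4
  exact h4

/-- a pencil of linearly independent sections is not pulled back along a constant map when
`h⁰(O_X) = 1` -/
theorem false_of_const [IsIntegral X]
    (hfin : Module.finrank k (Coh.HH X (Coh.structureModule X) 0) = 1)
    (L : X.Modules) (s : Fin (1 + 1) → LinSer.Sect X L) (hlin : LinSer.LinIndep k X L s)
    (φ : X ⟶ CohB1.ProjSpace 1 k)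
    (α : (Scheme.Modules.pullback φ).obj (Twist.twistProjSpace 1 k 1) ⟶ L)
    (hα : ∀ i : Fin (1 + 1), α.app ⊤ (ProjUP.pullSec φ (Twist.twistProjSpace 1 k 1)
      (ProjUP.coord 1 k i)) = s i)
    (p : CohB1.ProjSpace 1 k) (hp : Set.range φ ⊆ {p}) : False := by
  obtain ⟨e, he⟩ := exists_smul_of_const k 1 φ p hp
  obtain ⟨i, hie⟩ := exists_ne e
  obtain ⟨c, hc⟩ := he i
  obtain ⟨c₀, rfl⟩ := exists_toGlobal_eq k hfin c
  have h1 : Coh.toGlobal (X ↘ Spec (CommRingCat.of k)) c₀ • s e = s i := by
    rw [← hα e, ← hα i, ← hc]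
    exact (Scheme.Modules.Hom.app_smul α _ _).symm
  have huniv : (Finset.univ : Finset (Fin (1 + 1))) = {i, e} :=
    (Finset.eq_univ_of_card _ (by rw [Finset.card_pair hie]; rfl)).symm
  have h2 := hlin (fun j => if j = i then 1 else -c₀) (by
    rw [huniv, Finset.sum_pair hie, if_pos rfl, if_neg (Ne.symm hie), map_one, one_smul,
      map_neg, neg_smul, h1, add_neg_cancel])
  have h3 := congrFun h2 i
  rw [if_pos rfl] at h3
  exact one_ne_zero h3

end Const

section NonConst

variable (k : Type u) [Field k] {X : Scheme.{u}} [X.Over (Spec (CommRingCat.of k))]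
  [IsIntegral X] [IsProper (X ↘ (Spec (CommRingCat.of k)))]

/-- a morphism from a proper integral curve to the projective line which is not constant is
dominant -/
theorem map_genericPoint_P1 (φ : X ⟶ CohB1.ProjSpace 1 k)
    (hnc : ¬ ∃ p : CohB1.ProjSpace 1 k, IsClosed ({p} : Set (CohB1.ProjSpace 1 k)) ∧
      Set.range φ ⊆ {p}) :
    φ (genericPoint X) = genericPoint (CohB1.ProjSpace 1 k) := by
  haveI := Groth.Agent.Helper4.NApx82.isNoetherian_of_proper k (CohB1.ProjSpace 1 k)
  by_contra h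
  have hcl := isClosed_singleton_of_ne_genericPoint (dim_P1 k).le _ h
  refine hnc ⟨_, hcl, ?_⟩
  rintro _ ⟨x, rfl⟩
  have h1 : genericPoint X ⤳ x := genericPoint_specializes x
  have h2 : φ (genericPoint X) ⤳ φ x := h1.map φ.continuous
  have h3 : φ x ∈ closure ({φ (genericPoint X)} : Set (CohB1.ProjSpace 1 k)) :=
    h2.mem_closure
  rw [hcl.closure_eq] at h3
  exact h3

/-- the degree bound for the morphism attached to a pencil -/
theorem finrank_le_of_nonconst (hdim : topologicalKrullDim X = 1)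
    (L : X.Modules) (hL : PicF.IsInvertible L) (φ : X ⟶ CohB1.ProjSpace 1 k)
    (hφ : φ ≫ CohB1.ProjSpace.toSpec 1 k = X ↘ (Spec (CommRingCat.of k)))
    (α : (Scheme.Modules.pullback φ).obj (Twist.twistProjSpace 1 k 1) ⟶ L) (hα : α ≠ 0)
    (hnc : ¬ ∃ p : CohB1.ProjSpace 1 k, IsClosed ({p} : Set (CohB1.ProjSpace 1 k)) ∧
      Set.range φ ⊆ {p}) :
    ((letI := (φ.stalkMap (genericPoint X)).hom.toAlgebra
      Module.finrank ((CohB1.ProjSpace 1 k).presheaf.stalk (φ (genericPoint X)))
        X.functionField : ℕ) : ℤ) ≤ Curv2.deg k X L 1 := by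
  have hξ := map_genericPoint_P1 k φ hnc
  have hO1 : PicF.IsInvertible (Twist.twistProjSpace 1 k 1) :=
    Groth.Agent.Helper1.SerreVan.isInvertible_twist 1 k 1
  have hN : PicF.IsInvertible ((Scheme.Modules.pullback φ).obj (Twist.twistProjSpace 1 k 1)) :=
    Groth.Agent.Helper4.PullSec.isInvertible_pullback φ hO1
  haveI : Mono α := Groth.Agent.Helper4.NApx81.mono_of_ne_zero α hN hL hα
  have h1 := deg_le_of_mono_of_rank_eq k hdim α
    (Groth.Agent.Helper4.QAffSec.isFinLocFreeOfRank_one_of_isInvertible _ hN)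
    (Groth.Agent.Helper4.QAffSec.isFinLocFreeOfRank_one_of_isInvertible _ hL)
  have h2 := main7640 k hdim (dim_P1 k) φ hφ hξ 1 (Twist.twistProjSpace 1 k 1)
    (Groth.Agent.Helper4.QAffSec.isFinLocFreeOfRank_one_of_isInvertible _ hO1)
  rw [deg_twist_one_P1, mul_one] at h2
  rw [h2] at h1
  refine le_trans (le_of_eq ?_) h1
  congr 1
  have hS : IsLocalRing.maximalIdeal (X.presheaf.stalk (genericPoint X)) = ⊥ := by
    rw [← IsLocalRing.isField_iff_maximalIdeal_eq]
    exact isField_stalk_of_closure_mem_irreducibleComponents X _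
      (by simp [irreducibleComponents_eq_singleton])
  have hR : IsLocalRing.maximalIdeal
      ((CohB1.ProjSpace 1 k).presheaf.stalk (φ (genericPoint X))) = ⊥ := by
    rw [← IsLocalRing.isField_iff_maximalIdeal_eq]
    exact isField_stalk_of_closure_mem_irreducibleComponents _ _
      (by rw [hξ]; simp [irreducibleComponents_eq_singleton])
  exact finrank_eq_finrank_residue (φ.stalkMap (genericPoint X)).hom hR hS

/-- **S6579** -/
theorem main6579 (hdim : topologicalKrullDim X = 1)
    (d : ℕ) (L : X.Modules) (s : Fin (1 + 1) → LinSer.Sect X L)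
    (hL : LinSer.IsLinSer k X L d 1 s)
    (φ : X ⟶ CohB1.ProjSpace 1 k)
    (α : (Scheme.Modules.pullback φ).obj (Twist.twistProjSpace 1 k 1) ⟶ L)
    (hφ : φ ≫ CohB1.ProjSpace.toSpec 1 k = X ↘ (Spec (CommRingCat.of k)) ∧
        ∀ i : Fin (1 + 1), (α.val.app (Opposite.op ⊤)).hom
          (OmegaSh.pullSect φ (Twist.twistProjSpace 1 k 1) ⊤
            (Twist.globalOf (CohB1.polyGrading 1 k)
              (⟨MvPolynomial.X i, MvPolynomial.isHomogeneous_X k i⟩ :
                (CohB1.polyGrading 1 k) 1))) = s i) :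
    ((¬ ∃ p : CohB1.ProjSpace 1 k, IsClosed ({p} : Set (CohB1.ProjSpace 1 k)) ∧
        Set.range φ ⊆ {p}) ∧
      (letI := (φ.stalkMap (genericPoint X)).hom.toAlgebra
       Module.finrank ((CohB1.ProjSpace 1 k).presheaf.stalk (φ (genericPoint X)))
        X.functionField ≤ d)) ∨
    ((∃ p : CohB1.ProjSpace 1 k, IsClosed ({p} : Set (CohB1.ProjSpace 1 k)) ∧
        Set.range φ ⊆ {p}) ∧
      Module.finrank k (Coh.HH X (Coh.structureModule X) 0) ≠ 1) := by
  obtain ⟨hinv, hdeg, hlin⟩ := hL
  by_cases hc : ∃ p : CohB1.ProjSpace 1 k, IsClosed ({p} : Set (CohB1.ProjSpace 1 k)) ∧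
      Set.range φ ⊆ {p}
  · right
    refine ⟨hc, fun hfin => ?_⟩
    obtain ⟨p, -, hp⟩ := hc
    exact false_of_const k hfin L s hlin φ α hφ.2 p hp
  · left
    refine ⟨hc, ?_⟩
    have hα : α ≠ 0 := by
      intro h0
      have hs0 : s 0 = 0 := by
        rw [← hφ.2 0, h0]
        rfl
      have h1 := hlin (Pi.single 0 1) (by
        apply Finset.sum_eq_zero
        intro e _
        by_cases he : e = 0
        · subst he
          rw [hs0, smul_zero]
        · rw [Pi.single_eq_of_ne he, map_zero, zero_smul])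
      have h2 := congrFun h1 0
      rw [Pi.single_eq_same] at h2
      exact one_ne_zero h2
    have h := finrank_le_of_nonconst k hdim L hinv φ hφ.1 α hα hc
    rw [hdeg] at h
    exact_mod_cast h

end NonConst

end Groth.Agent.Helper4.SN
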