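import Mathlib
import Groth.Agent.Helper4.SN84
import Groth.Agent.Helper4.SN66
import Groth.Agent.Helper4.SN37

/-!
# A curve with an invertible module of degree one with two sections is the projective line
-/

set_option autoImplicit false
set_option linter.style.haveILetI false

namespace Groth.Agent.Helper4.SN

open CategoryTheory Limits AlgebraicGeometry Opposite TopologicalSpace
open Groth.Agent.Helper4.StalkDict Groth.Agent.Helper4.StalkExact
open Groth.Agent.Helper4.GenLoc Groth.Agent.Helper1.PUP

universe u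

section Step1

variable (k : Type u) [Field k] {X : Scheme.{u}} [X.Over (Spec (CommRingCat.of k))]
  [IsIntegral X] [IsProper (X ↘ (Spec (CommRingCat.of k)))]

include k in
/-- global functions on a proper integral scheme over a field form a field -/
theorem isUnit_of_ne_zero_global (a : Γ(X, ⊤)) (ha : a ≠ 0) : IsUnit a := by
  haveI := Groth.Agent.Helper4.NApx82.isNoetherian_of_proper k X
  have hcO : Coh.IsCoh (Coh.structureModule X) :=
    Groth.Agent.Helper1.SerreFin.isCoh_of_isInvertible _
      Groth.Agent.Helper4.TensorInv.isInvertible_structureModule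
  letI : Algebra k Γ(X, ⊤) := (Coh.toGlobal (X ↘ Spec (CommRingCat.of k))).toAlgebra
  haveI : Module.Finite k (Coh.HH X (Coh.structureModule X) 0) :=
    Groth.Agent.S0002.result k X _ hcO 0
  let e : Coh.HH X (Coh.structureModule X) 0 ≃ₗ[k] Γ(X, ⊤) :=
    { (Groth.Agent.Lead.ProperFinA.h0Equiv (Coh.structureModule X)) with
      map_smul' := by
        intro a x
        change Groth.Agent.Lead.ProperFinA.h0Equiv (Coh.structureModule X)
          (Coh.toGlobal (X ↘ Spec (CommRingCat.of k)) a • x) = _
        rw [Groth.Agent.Lead.ProperFinA.h0Equiv_smul]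
        rfl }
  haveI : Module.Finite k Γ(X, ⊤) := Module.Finite.equiv e
  haveI : Algebra.IsIntegral k Γ(X, ⊤) := Algebra.IsIntegral.of_finite k _
  haveI : IsDomain Γ(X, ⊤) := inferInstance
  have hF : IsField Γ(X, ⊤) := isField_of_isIntegral_of_isField' (Field.toIsField k)
  obtain ⟨b, hb⟩ := hF.mul_inv_cancel ha
  exact IsUnit.of_mul_eq_one b hb

/-- if an invertible module of degree one has a nonzero section then `h⁰(O_X) = 1` -/
theorem h0_unit_eq_one_of_deg_one (hdim : topologicalKrullDim X = 1) (L : X.Modules)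
    (hL : PicF.IsInvertible L) (hdeg : Curv2.deg k X L 1 = 1)
    (σ : Coh.structureModule X ⟶ L) (hσ : σ ≠ 0) :
    Module.finrank k (Coh.HH X (Coh.structureModule X) 0) = 1 := by
  haveI := Groth.Agent.Helper4.NApx82.isNoetherian_of_proper k X
  have hO : PicF.IsInvertible (Coh.structureModule X) :=
    Groth.Agent.Helper4.TensorInv.isInvertible_structureModule
  have hcO := Groth.Agent.Helper1.SerreFin.isCoh_of_isInvertible _ hO
  have hcL := Groth.Agent.Helper1.SerreFin.isCoh_of_isInvertible _ hL
  obtain ⟨hmono, hχ, -⟩ := Groth.Agent.Helper4.NApx82.hom_main k X hdim _ L hO hL σ hσ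
  have hcQ : Coh.IsCoh (cokernel σ) := Groth.Agent.Lead.PerfLib.isCoh_cokernel hcO hcL σ
  haveI : Module.Finite k (Coh.HH X (cokernel σ) 0) := Groth.Agent.S0002.result k X _ hcQ 0
  haveI : Module.Finite k (Coh.HH X (Coh.structureModule X) 0) :=
    Groth.Agent.S0002.result k X _ hcO 0
  have hQ1 : Module.finrank k (Coh.HH X (cokernel σ) 0) = 1 := by
    unfold Curv2.deg at hdeg
    rw [hχ] at hdeg
    have : (Module.finrank k (Coh.HH X (cokernel σ) 0) : ℤ) = 1 := by
      push_cast at hdeg
      linarith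
    exact_mod_cast this
  letI := sectModule k (cokernel σ)
  letI := sectModule k (Coh.structureModule X)
  have hQ1' : Module.finrank k (LinSer.Sect X (cokernel σ)) = 1 := by
    rw [← (h0LinEquiv k (cokernel σ)).finrank_eq]
    exact hQ1
  haveI : Module.Finite k (LinSer.Sect X (cokernel σ)) :=
    Module.Finite.equiv (h0LinEquiv k (cokernel σ))
  have hO1 : Module.finrank k (LinSer.Sect X (Coh.structureModule X)) =
      Module.finrank k (Coh.HH X (Coh.structureModule X) 0) :=
    ((h0LinEquiv k (Coh.structureModule X)).finrank_eq).symm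
  haveI : Module.Finite k (LinSer.Sect X (Coh.structureModule X)) :=
    Module.Finite.equiv (h0LinEquiv k (Coh.structureModule X))
  rw [← hO1]
  -- a nonzero section of the cokernel
  haveI : Nontrivial (LinSer.Sect X (cokernel σ)) :=
    Module.nontrivial_of_finrank_pos (R := k) (by omega)
  obtain ⟨v, hv⟩ := exists_ne (0 : LinSer.Sect X (cokernel σ))
  -- the orbit map
  let ψ : LinSer.Sect X (Coh.structureModule X) →ₗ[k] LinSer.Sect X (cokernel σ) :=
    { toFun := fun a => (show Γ(X, ⊤) from a) • (show Γ(cokernel σ, ⊤) from v)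
      map_add' := fun a b => add_smul (show Γ(X, ⊤) from a) (show Γ(X, ⊤) from b)
        (show Γ(cokernel σ, ⊤) from v)
      map_smul' := fun c a => mul_smul (show Γ(X, ⊤) from
        Coh.toGlobal (X ↘ Spec (CommRingCat.of k)) c) (show Γ(X, ⊤) from a)
        (show Γ(cokernel σ, ⊤) from v) }
  have hψ : Function.Injective ψ := by
    rw [injective_iff_map_eq_zero]
    intro a ha
    by_contra ha0
    obtain ⟨u, hu⟩ := isUnit_of_ne_zero_global k (show Γ(X, ⊤) from a) ha0
    have h1 : (show Γ(X, ⊤) from a) • (show Γ(cokernel σ, ⊤) from v) = 0 := ha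
    have h2 : (show Γ(cokernel σ, ⊤) from v) = 0 := by
      have := congrArg (fun t => ((u⁻¹ : Γ(X, ⊤)ˣ) : Γ(X, ⊤)) • t) h1
      simp only [smul_zero] at this
      rw [← mul_smul, ← hu, Units.inv_mul, one_smul] at this
      exact this
    exact hv h2
  have hle := LinearMap.finrank_le_finrank_of_injective hψ
  rw [hQ1'] at hle
  have hpos : 0 < Module.finrank k (LinSer.Sect X (Coh.structureModule X)) := by
    haveI : Nontrivial (LinSer.Sect X (Coh.structureModule X)) := by
      refine ⟨⟨(one X ⊤ : Γ(Coh.structureModule X, ⊤)), 0, ?_⟩⟩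
      intro h
      have h2 : (1 : Γ(X, ⊤)) = 0 := h
      exact one_ne_zero h2
    exact Module.finrank_pos
  omega

end Step1

section Step3

variable (k : Type u) [Field k] {X : Scheme.{u}} [X.Over (Spec (CommRingCat.of k))]

/-- two sections one of which is a constant multiple of the other are linearly dependent -/
theorem false_of_smul_eq {L : X.Modules} (s : Fin (1 + 1) → LinSer.Sect X L)
    (hlin : LinSer.LinIndep k X L s) (e i : Fin (1 + 1)) (hie : i ≠ e) (c₀ : k)
    (h1 : Coh.toGlobal (X ↘ Spec (CommRingCat.of k)) c₀ • s e = s i) : False := by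
  have huniv : (Finset.univ : Finset (Fin (1 + 1))) = {i, e} :=
    (Finset.eq_univ_of_card _ (by rw [Finset.card_pair hie]; rfl)).symm
  have h2 := hlin (fun j => if j = i then 1 else -c₀) (by
    rw [huniv, Finset.sum_pair hie, if_pos rfl, if_neg (Ne.symm hie), map_one, one_smul,
      map_neg, neg_smul, h1, add_neg_cancel])
  have h3 := congrFun h2 i
  rw [if_pos rfl] at h3
  exact one_ne_zero h3

theorem ne_zero_of_linIndep {L : X.Modules} {n : ℕ} (s : Fin n → LinSer.Sect X L)
    (hlin : LinSer.LinIndep k X L s) (i : Fin n) : s i ≠ 0 := by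
  intro hs0
  have h1 := hlin (Pi.single i 1) (by
    apply Finset.sum_eq_zero
    intro e _
    by_cases he : e = i
    · subst he
      rw [hs0, smul_zero]
    · rw [Pi.single_eq_of_ne he, map_zero, zero_smul])
  have h2 := congrFun h1 i
  rw [Pi.single_eq_same] at h2
  exact one_ne_zero h2

variable [IsIntegral X] [IsProper (X ↘ (Spec (CommRingCat.of k)))]

/-- a pencil of degree one on a curve with `h⁰(O) = 1` has no base points -/
theorem iSup_genLocus_eq_top_of_deg_one (hdim : topologicalKrullDim X = 1)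
    (h0 : Module.finrank k (Coh.HH X (Coh.structureModule X) 0) = 1)
    (L : X.Modules) (hL : PicF.IsInvertible L) (hdeg : Curv2.deg k X L 1 = 1)
    (σ : Fin (1 + 1) → (Coh.structureModule X ⟶ L))
    (hlin : LinSer.LinIndep k X L (fun i => (sec (σ i) ⊤ : LinSer.Sect X L))) :
    ⨆ e, CohB1.genLocus L (σ e) = ⊤ := by
  haveI := Groth.Agent.Helper4.NApx82.isNoetherian_of_proper k X
  have hO : PicF.IsInvertible (Coh.structureModule X) :=
    Groth.Agent.Helper4.TensorInv.isInvertible_structureModule
  have hσ0 : σ 0 ≠ 0 := by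
    intro h
    apply ne_zero_of_linIndep k _ hlin 0
    change sec (σ 0) ⊤ = 0
    rw [h]
    rfl
  haveI hm0 : Mono (σ 0) := Groth.Agent.Helper4.NApx81.mono_of_ne_zero (σ 0) hO hL hσ0
  let F : X.Modules := ∐ fun _ : Fin (1 + 1) => Coh.structureModule X
  let p : F ⟶ L := Sigma.desc σ
  let π : F ⟶ Abelian.image p := Abelian.factorThruImage p
  let j : Abelian.image p ⟶ L := Abelian.image.ι p
  haveI : Mono j := inferInstanceAs (Mono (Abelian.image.ι p))
  haveI : Epi π := inferInstanceAs (Epi (Abelian.factorThruImage p))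
  have hπj : π ≫ j = p := Abelian.image.fac p
  let σ' : Fin (1 + 1) → (Coh.structureModule X ⟶ Abelian.image p) := fun i =>
    Sigma.ι (fun _ : Fin (1 + 1) => Coh.structureModule X) i ≫ π
  have hσ' : ∀ i, σ' i ≫ j = σ i := by
    intro i
    change (Sigma.ι (fun _ : Fin (1 + 1) => Coh.structureModule X) i ≫ π) ≫ j = σ i
    rw [Category.assoc, hπj]
    exact Sigma.ι_desc σ i
  have hcO : Coh.IsCoh (Coh.structureModule X) := Groth.Agent.Helper1.Dev.isCoh_structureModule X
  have hcF : Coh.IsCoh F := Groth.Agent.Helper1.SerreFin.isCoh_sigma_fin _ (fun _ => hcO)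
  have hcL : Coh.IsCoh L := Groth.Agent.Helper1.SerreFin.isCoh_of_isInvertible L hL
  have hcL' : Coh.IsCoh (Abelian.image p) :=
    Groth.Agent.Lead.PerfLib.isCoh_kernel hcL
      (Groth.Agent.Lead.PerfLib.isCoh_cokernel hcF hcL p) (cokernel.π p)
  haveI hm0' : Mono (σ' 0) := by
    haveI : Mono (σ' 0 ≫ j) := by rw [hσ' 0]; exact hm0
    exact mono_of_mono (σ' 0) j
  -- surjectivity at the generic point
  have hs0 : Function.Surjective (stalkLin (σ 0) (genericPoint X)) :=
    Groth.Agent.Helper4.NApx81.stalkLin_surjective_genericPoint (σ 0) hO hL hσ0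
  have hcomp : ∀ t, stalkLin (σ 0) (genericPoint X) t =
      stalkLin j (genericPoint X) (stalkLin (σ' 0) (genericPoint X) t) := by
    intro t
    rw [← hσ' 0]
    exact Groth.Agent.Lead.StalkNhd.stalkLin_comp _ _ _ t
  have hsj : Function.Surjective (stalkLin j (genericPoint X)) := by
    intro t
    obtain ⟨a, ha⟩ := hs0 t
    exact ⟨stalkLin (σ' 0) (genericPoint X) a, (hcomp a).symm.trans ha⟩
  have hs0' : Function.Surjective (stalkLin (σ' 0) (genericPoint X)) := by
    intro t
    obtain ⟨a, ha⟩ := hs0 (stalkLin j (genericPoint X) t)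
    refine ⟨a, ?_⟩
    apply stalkLin_injective j (genericPoint X)
    rw [← hcomp, ha]
  obtain ⟨hχ1, hiso1⟩ := gen_iso_main k hdim _ _ hcO hcL' (σ' 0)
    (Groth.Agent.Lead.StalkNhd.subsingleton_stalk_cokernel _ _ hs0')
  obtain ⟨hχ2, hiso2⟩ := gen_iso_main k hdim _ _ hcL' hcL j
    (Groth.Agent.Lead.StalkNhd.subsingleton_stalk_cokernel _ _ hsj)
  have hsum : Module.finrank k (Coh.HH X (cokernel (σ' 0)) 0) +
      Module.finrank k (Coh.HH X (cokernel j) 0) = 1 := by
    unfold Curv2.deg at hdeg
    rw [hχ2, hχ1] at hdeg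
    have : ((Module.finrank k (Coh.HH X (cokernel (σ' 0)) 0) +
        Module.finrank k (Coh.HH X (cokernel j) 0) : ℕ) : ℤ) = 1 := by
      push_cast at hdeg ⊢
      linarith
    exact_mod_cast this
  by_cases hb : Module.finrank k (Coh.HH X (cokernel j) 0) = 0
  · -- `j` is an isomorphism, so the sections generate
    haveI := hiso2 hb
    haveI : Epi p := by rw [← hπj]; infer_instance
    have hgen : ProjUP.GeneratedBy L (fun e => (sec (σ e) ⊤ : ProjUP.Γm L)) := by
      intro x
      have h := span_gsec_of_epi p x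
      have h2 : ∀ i, gsec (Sigma.ι (fun _ : Fin (1 + 1) => Coh.structureModule X) i ≫ p) x =
          (L.presheaf.germ ⊤ x trivial).hom (sec (σ i) ⊤) := by
        intro i
        have : Sigma.ι (fun _ : Fin (1 + 1) => Coh.structureModule X) i ≫ p = σ i :=
          Sigma.ι_desc σ i
        rw [this]
        rfl
      simp only [h2] at h
      exact h
    exact iSup_XE_eq_top hL σ hgen
  · -- `σ' 0` is an isomorphism, so the second section is a multiple of the first
    exfalso
    have ha : Module.finrank k (Coh.HH X (cokernel (σ' 0)) 0) = 0 := by omega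
    haveI := hiso1 ha
    have htop : (⊤ : X.Opens) ≤ CohB1.genLocus _ (σ' 0) := by
      apply le_sSup
      change IsIso ((Scheme.Modules.restrictFunctor (⊤ : X.Opens).ι).map (σ' 0))
      infer_instance
    obtain ⟨c, hc⟩ := exists_smul_sec (σ' 0) htop (sec (σ' 1) ⊤)
    obtain ⟨c₀, rfl⟩ := exists_toGlobal_eq k h0 c
    let s : Fin (1 + 1) → LinSer.Sect X L := fun i => sec (σ i) ⊤
    have h1 : Coh.toGlobal (X ↘ Spec (CommRingCat.of k)) c₀ • s 0 = s 1 := by
      change @HSMul.hSMul (X.ringCatSheaf.obj.obj (op ⊤)) (L.val.obj (op ⊤)) (L.val.obj (op ⊤)) _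
        (Coh.toGlobal (X ↘ Spec (CommRingCat.of k)) c₀) (sec (σ 0) ⊤) = sec (σ 1) ⊤
      have e0 : sec (σ 0) ⊤ = j.app ⊤ (sec (σ' 0) ⊤) := by rw [← hσ' 0]; rfl
      have e1 : sec (σ 1) ⊤ = j.app ⊤ (sec (σ' 1) ⊤) := by rw [← hσ' 1]; rfl
      rw [e0, e1, ← hc]
      exact (Scheme.Modules.Hom.app_smul j _ _).symm
    exact false_of_smul_eq k s hlin 0 1 (by decide) c₀ h1

end Step3

section Pair

variable (k : Type u) [Field k] {X : Scheme.{u}} [X.Over (Spec (CommRingCat.of k))]

/-- two linearly independent sections of a module with `h⁰ ≥ 2` -/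
theorem exists_linIndep_pair (L : X.Modules) (h2 : 2 ≤ Module.finrank k (Coh.HH X L 0)) :
    ∃ s : Fin (1 + 1) → LinSer.Sect X L, LinSer.LinIndep k X L s := by
  letI := sectModule k L
  have h2' : 1 < Module.finrank k (LinSer.Sect X L) := by
    rw [← (h0LinEquiv k L).finrank_eq]
    omega
  haveI : Nontrivial (LinSer.Sect X L) := Module.nontrivial_of_finrank_pos (R := k) (by omega)
  obtain ⟨v, hv⟩ := exists_ne (0 : LinSer.Sect X L)
  obtain ⟨w, hw⟩ := exists_linearIndependent_pair_of_one_lt_finrank h2' hv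
  refine ⟨![v, w], ?_⟩
  intro c hc
  exact funext ((Fintype.linearIndependent_iff.mp hw) c hc)

end Pair

section Main

variable (k : Type u) [Field k] {X : Scheme.{u}} [X.Over (Spec (CommRingCat.of k))]
  [IsIntegral X] [IsProper (X ↘ (Spec (CommRingCat.of k)))]

theorem chi_unit_P1 : chi k (CohB1.ProjSpace 1 k) (Coh.structureModule (CohB1.ProjSpace 1 k)) = 1 := by
  obtain ⟨e⟩ := Groth.Agent.Helper1.TwistMul.nonempty_twist_zero_iso (CohB1.polyGrading 1 k)
  have e' : Twist.twistProjSpace 1 k 0 ≅ Coh.structureModule (CohB1.ProjSpace 1 k) := e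
  rw [← chi_iso k e', chi_twist_P1 k 0]
  norm_num

/-- a finite morphism of degree one from a proper integral curve with `h⁰(O) = 1` to the
projective line is an isomorphism -/
theorem isIso_of_residueDegree_eq_one (hdim : topologicalKrullDim X = 1)
    (h0 : Module.finrank k (Coh.HH X (Coh.structureModule X) 0) = 1)
    (φ : X ⟶ CohB1.ProjSpace 1 k)
    (hφ : φ ≫ CohB1.ProjSpace.toSpec 1 k = X ↘ (Spec (CommRingCat.of k)))
    (hξ : φ (genericPoint X) = genericPoint (CohB1.ProjSpace 1 k))
    (hdeg : φ.residueDegree (genericPoint X) = 1) : IsIso φ := by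
  haveI := Groth.Agent.Helper4.NApx82.isNoetherian_of_proper k X
  haveI := Groth.Agent.Helper4.NApx82.isNoetherian_of_proper k (CohB1.ProjSpace 1 k)
  haveI : IsFinite φ := isFinite_of_nonconstant k hdim (dim_P1 k) φ hφ hξ
  have hcl : IsClosedMap φ.base := φ.isClosedMap
  have hOX : Coh.IsCoh (Coh.structureModule X) := Groth.Agent.Helper1.Dev.isCoh_structureModule X
  have hOY : Coh.IsCoh (Coh.structureModule (CohB1.ProjSpace 1 k)) :=
    Groth.Agent.Helper1.Dev.isCoh_structureModule _
  haveI : (Coh.structureModule X).IsQuasicoherent := hOX.1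
  have hP : Coh.IsCoh ((Scheme.Modules.pushforward φ).obj (Coh.structureModule X)) :=
    ⟨QcohGlue.isQuasicoherent_pushforward φ _,
      FinitePush.isFiniteType_pushforward_of_isFinite φ _ hOX.2⟩
  -- `φ` is surjective
  have hsurj : Function.Surjective φ := by
    rw [← Set.range_eq_univ]
    have hclr : IsClosed (Set.range φ) := hcl.isClosed_range
    rw [← hclr.closure_eq]
    apply Set.eq_univ_of_univ_subset
    rw [← closure_genericPoint (X := (CohB1.ProjSpace 1 k))]
    exact closure_mono (Set.singleton_subset_iff.mpr ⟨_, hξ⟩)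
  haveI hmono : Mono (ClSub.unitToPush φ) := mono_unitToPush_of_surjective φ hsurj
  -- the generic stalk of the cokernel
  have hS : IsLocalRing.maximalIdeal (X.presheaf.stalk (genericPoint X)) = ⊥ := by
    rw [← IsLocalRing.isField_iff_maximalIdeal_eq]
    exact isField_stalk_of_closure_mem_irreducibleComponents X _
      (by simp [irreducibleComponents_eq_singleton])
  have h2 := len_push_toNat φ hcl (genericPoint X)
    (fun x' hx' => eq_genericPoint_of_map_eq hdim.le (dim_P1 k) φ hcl x' (hx'.trans hξ)) hS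
  rw [hdeg] at h2
  have hS2 := Groth.Agent.Helper1.Dev.cokSC_shortExact (ClSub.unitToPush φ)
  have h3 := len_add _ hS2 (φ (genericPoint X))
  have h4 : len (Coh.structureModule (CohB1.ProjSpace 1 k)) (φ (genericPoint X)) = 1 := by
    rw [len_invertible _ Groth.Agent.Helper4.TensorInv.isInvertible_structureModule, hξ]
    rw [Module.length_eq_rank, Module.rank_self]
    exact map_one _
  have h5 : len ((Scheme.Modules.pushforward φ).obj (Coh.structureModule X))
      (φ (genericPoint X)) = 1 := by
    have := (ENat.toNat_eq_iff (by norm_num)).mp h2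
    exact this
  have h6 : len (cokernel (ClSub.unitToPush φ)) (φ (genericPoint X)) = 0 := by
    change len ((Scheme.Modules.pushforward φ).obj (Coh.structureModule X))
      (φ (genericPoint X)) = len (Coh.structureModule (CohB1.ProjSpace 1 k))
        (φ (genericPoint X)) + len (cokernel (ClSub.unitToPush φ)) (φ (genericPoint X)) at h3
    rw [h4, h5] at h3
    by_contra hne
    have h7 : 1 ≤ len (cokernel (ClSub.unitToPush φ)) (φ (genericPoint X)) :=
      Order.one_le_iff_ne_zero.mpr hne
    have h8 : (1 : ℕ∞) + 1 ≤ 1 + len (cokernel (ClSub.unitToPush φ)) (φ (genericPoint X)) :=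
      add_le_add_right h7 1
    rw [← h3] at h8
    exact absurd h8 (by decide)
  have hgen : Subsingleton ((cokernel (ClSub.unitToPush φ)).presheaf.stalk
      (genericPoint (CohB1.ProjSpace 1 k))) := by
    rw [len_eq_zero_iff, hξ] at h6
    exact not_not.mp h6
  obtain ⟨hχ, hiso⟩ := gen_iso_main k (dim_P1 k) _ _ hOY hP (ClSub.unitToPush φ) hgen
  haveI : Coh.IsQCoh (Coh.structureModule X) := hOX.1
  have hpush := euler_push' k φ hφ (Coh.structureModule X)
  have hX := chi_eq_h0_sub_h1 k hdim.le (Coh.structureModule X)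
  have hY := chi_unit_P1 k
  unfold chi at hX hY
  rw [← hpush, hX, hY, h0] at hχ
  have hq : Module.finrank k (Coh.HH (CohB1.ProjSpace 1 k)
      (cokernel (ClSub.unitToPush φ)) 0) = 0 := by
    have h9 : (0 : ℤ) ≤ (Module.finrank k (Coh.HH X (Coh.structureModule X) 1) : ℤ) :=
      Int.natCast_nonneg _
    have h10 : (Module.finrank k (Coh.HH (CohB1.ProjSpace 1 k)
        (cokernel (ClSub.unitToPush φ)) 0) : ℤ) ≤ 0 := by
      push_cast at hχ
      linarith
    have h11 : (0 : ℤ) ≤ (Module.finrank k (Coh.HH (CohB1.ProjSpace 1 k)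
        (cokernel (ClSub.unitToPush φ)) 0) : ℤ) := Int.natCast_nonneg _
    exact_mod_cast le_antisymm h10 h11
  exact isIso_of_isIso_unitToPush φ (hiso hq)

/-- **a proper integral curve with an invertible module of degree one having two independent
sections is the projective line** -/
theorem exists_iso_P1_of_deg_one (hdim : topologicalKrullDim X = 1) (L : X.Modules)
    (hL : PicF.IsInvertible L) (hdeg : Curv2.deg k X L 1 = 1)
    (h2 : 2 ≤ Module.finrank k (Coh.HH X L 0)) :
    ∃ e : X ≅ CohB1.ProjSpace 1 k,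
      e.hom ≫ CohB1.ProjSpace.toSpec 1 k = X ↘ (Spec (CommRingCat.of k)) := by
  obtain ⟨s, hlin⟩ := exists_linIndep_pair k L h2
  let σ : Fin (1 + 1) → (Coh.structureModule X ⟶ L) := fun i =>
    Groth.Agent.Lead.LocLift.homOfTop L (s i)
  have hsec : ∀ i, sec (σ i) ⊤ = s i := fun i => sec_homOfTop (s i)
  have hlin' : LinSer.LinIndep k X L (fun i => (sec (σ i) ⊤ : LinSer.Sect X L)) := by
    have : (fun i => (sec (σ i) ⊤ : LinSer.Sect X L)) = s := funext hsec
    rw [this]
    exact hlin
  have hσ0 : σ 0 ≠ 0 := by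
    intro h
    apply ne_zero_of_linIndep k s hlin 0
    rw [← hsec 0, h]
    rfl
  have h0 := h0_unit_eq_one_of_deg_one k hdim L hL hdeg (σ 0) hσ0
  have hcov := iSup_genLocus_eq_top_of_deg_one k hdim h0 L hL hdeg σ hlin'
  obtain ⟨φ, hφ, τ, hτ⟩ := exists_to_projSpace_of_cover'' 1 (X ↘ Spec (CommRingCat.of k)) σ hcov
  have hnc : ¬ ∃ p : CohB1.ProjSpace 1 k, IsClosed ({p} : Set (CohB1.ProjSpace 1 k)) ∧
      Set.range φ ⊆ {p} := by
    rintro ⟨p, -, hp⟩
    exact false_of_const k h0 L s hlin φ τ.hom (fun i => (hτ i).trans (hsec i)) p hp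
  have hξ := map_genericPoint_P1 k φ hnc
  have hO1 : PicF.IsInvertible (Twist.twistProjSpace 1 k 1) :=
    Groth.Agent.Helper1.SerreVan.isInvertible_twist 1 k 1
  have hd := main7640 k hdim (dim_P1 k) φ hφ hξ 1 (Twist.twistProjSpace 1 k 1)
    (Groth.Agent.Helper4.QAffSec.isFinLocFreeOfRank_one_of_isInvertible _ hO1)
  rw [deg_twist_one_P1, mul_one, deg_iso k τ 1, hdeg] at hd
  have hd' : φ.residueDegree (genericPoint X) = 1 := by exact_mod_cast hd.symm
  haveI := isIso_of_residueDegree_eq_one k hdim h0 φ hφ hξ hd'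
  exact ⟨asIso φ, hφ⟩

/-- **S6541** -/
theorem main6541 (hdim : topologicalKrullDim X = 1)
    (h1 : Subsingleton (Coh.HH X (Coh.structureModule X) 1))
    (L : X.Modules) (hL : PicF.IsInvertible L) (hdeg : Curv2.deg k X L 1 = 1) :
    ∃ e : X ≅ CohB1.ProjSpace 1 k,
      e.hom ≫ CohB1.ProjSpace.toSpec 1 k = X ↘ (Spec (CommRingCat.of k)) := by
  haveI := Groth.Agent.Helper4.NApx82.isNoetherian_of_proper k X
  have hOX : Coh.IsCoh (Coh.structureModule X) := Groth.Agent.Helper1.Dev.isCoh_structureModule X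
  haveI : Module.Finite k (Coh.HH X (Coh.structureModule X) 0) :=
    Groth.Agent.S0002.result k X _ hOX 0
  have hX := chi_eq_h0_sub_h1 k hdim.le (Coh.structureModule X)
  have hL' := chi_eq_h0_sub_h1 k hdim.le L
  unfold chi at hX hL'
  have hdeg0 := hdeg
  unfold Curv2.deg at hdeg
  rw [hX, hL', Module.finrank_zero_of_subsingleton (M := Coh.HH X (Coh.structureModule X) 1)]
    at hdeg
  have hpos : 0 < Module.finrank k (Coh.HH X (Coh.structureModule X) 0) := by
    haveI : Nontrivial (Coh.HH X (Coh.structureModule X) 0) := by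
      have e := Groth.Agent.Lead.ProperFinA.h0Equiv (Coh.structureModule X)
      haveI : Nontrivial ((Coh.toAb (Coh.structureModule X)).obj.obj (op ⊤)) := by
        refine ⟨⟨(one X ⊤ : Γ(Coh.structureModule X, ⊤)), 0, ?_⟩⟩
        intro h
        have h2 : (1 : Γ(X, ⊤)) = 0 := h
        exact one_ne_zero h2
      exact e.toEquiv.nontrivial
    exact Module.finrank_pos
  have h2 : 2 ≤ Module.finrank k (Coh.HH X L 0) := by
    have h3 : (0 : ℤ) ≤ (Module.finrank k (Coh.HH X L 1) : ℤ) := Int.natCast_nonneg _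
    have h4 : (1 : ℤ) ≤ (Module.finrank k (Coh.HH X (Coh.structureModule X) 0) : ℤ) := by
      exact_mod_cast hpos
    have h5 : (2 : ℤ) ≤ (Module.finrank k (Coh.HH X L 0) : ℤ) := by
      push_cast at hdeg
      linarith
    exact_mod_cast h5
  exact exists_iso_P1_of_deg_one k hdim L hL hdeg0 h2

end Main

end Groth.Agent.Helper4.SN
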