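import Mathlib
import Groth.Agent.Helper4.SN83
import Groth.Prelude.Def_ClSub2
import Groth.Prelude.Def_CurvBase

/-!
# The ideal sheaf of a closed point: sections of the quotient
-/

set_option autoImplicit false
set_option linter.unusedSectionVars false
set_option linter.style.haveILetI false
universe u

open CategoryTheory CategoryTheory.Limits AlgebraicGeometry Opposite TopologicalSpace

namespace Groth.Agent.Helper4.SN

section Alg

/-- two quotients of a ring by the same ideal have the same dimension over a field acting through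
the ring -/
theorem finrank_eq_of_surjective_of_ker_eq {k A B B' K : Type u} [Field k] [CommRing A]
    [AddCommGroup B] [CommRing B'] [CommRing K] [Module k B] [Module k K] (j : k →+* A)
    (φ : A →+* B') (ρ : B →+ B') (ev : A →+* K)
    (hφ : Function.Surjective φ) (hρ : Function.Bijective ρ) (hev : Function.Surjective ev)
    (hker : RingHom.ker φ = RingHom.ker ev)
    (hB : ∀ (c : k) (b : B), ρ (c • b) = φ (j c) * ρ b)
    (hK : ∀ (c : k) (y : K), c • y = ev (j c) * y) :
    Module.finrank k B = Module.finrank k K := by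
  let e₁ : B ≃+ B' := AddEquiv.ofBijective ρ hρ
  let e₂ : B' ≃+* K := (RingHom.quotientKerEquivOfSurjective hφ).symm.trans
    ((Ideal.quotEquivOfEq hker).trans (RingHom.quotientKerEquivOfSurjective hev))
  have he₂ : ∀ a, e₂ (φ a) = ev a := by
    intro a
    have h1 : (RingHom.quotientKerEquivOfSurjective hφ).symm (φ a) =
        Ideal.Quotient.mk _ a := by
      rw [RingEquiv.symm_apply_eq]
      rfl
    show (RingHom.quotientKerEquivOfSurjective hev)
      ((Ideal.quotEquivOfEq hker) ((RingHom.quotientKerEquivOfSurjective hφ).symm (φ a))) = _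
    rw [h1]
    rfl
  let el : B ≃ₗ[k] K :=
    { (e₁.trans e₂.toAddEquiv) with
      map_smul' := by
        intro c b
        show e₂ (ρ (c • b)) = c • e₂ (ρ b)
        rw [hB, map_mul, he₂, hK] }
  exact el.finrank_eq

end Alg

section Point

attribute [local instance] Curv2.resAlgebra

variable {X : Scheme.{u}}

/-- the ideal of a closed point over an affine open containing it -/
theorem vanishingIdeal_point_ideal (x : X) (hx : IsClosed ({x} : Set X)) (U : X.affineOpens)
    (hxU : x ∈ U.1) :
    (Scheme.IdealSheafData.vanishingIdeal ⟨{x}, hx⟩).ideal U =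
      (U.2.primeIdealOf ⟨x, hxU⟩).asIdeal := by
  rw [Scheme.IdealSheafData.vanishingIdeal_ideal]
  have h : (U.2.fromSpec ⁻¹' ((⟨{x}, hx⟩ : Closeds X) : Set X)) = {U.2.primeIdealOf ⟨x, hxU⟩} := by
    ext p
    simp only [Set.mem_preimage]
    constructor
    · intro hp
      apply U.2.fromSpec.isOpenEmbedding.injective
      rw [U.2.fromSpec_primeIdealOf]
      exact hp
    · intro hp
      rw [hp, U.2.fromSpec_primeIdealOf]
      rfl
  exact (congrArg PrimeSpectrum.vanishingIdeal h).trans (PrimeSpectrum.vanishingIdeal_singleton _)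

/-- the preimage of an open containing the point under the inclusion of the point -/
theorem preimage_point_eq_top (x : X) (hx : IsClosed ({x} : Set X)) (U : X.Opens) (hxU : x ∈ U) :
    (Scheme.IdealSheafData.vanishingIdeal ⟨{x}, hx⟩).subschemeι ⁻¹ᵁ U = ⊤ := by
  ext z
  simp only [Opens.coe_top, Set.mem_univ, iff_true]
  have hz : (Scheme.IdealSheafData.vanishingIdeal ⟨{x}, hx⟩).subschemeι z ∈
      Set.range (Scheme.IdealSheafData.vanishingIdeal ⟨{x}, hx⟩).subschemeι := ⟨z, rfl⟩
  rw [Scheme.IdealSheafData.range_subschemeι,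
    Scheme.IdealSheafData.coe_support_vanishingIdeal] at hz
  have : (Scheme.IdealSheafData.vanishingIdeal ⟨{x}, hx⟩).subschemeι z = x := hz
  show (Scheme.IdealSheafData.vanishingIdeal ⟨{x}, hx⟩).subschemeι z ∈ U
  rw [this]
  exact hxU

variable (k : Type u) [Field k] [X.Over (Spec (CommRingCat.of k))]

/-- **the global sections of `O_X / I_x` have dimension `[κ(x) : k]`** -/
theorem finrank_h0_quotMod_point (x : X) (hx : IsClosed ({x} : Set X)) :
    Module.finrank k
      (Coh.HH X (ClSub.quotMod (Scheme.IdealSheafData.vanishingIdeal ⟨{x}, hx⟩)) 0) =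
      Module.finrank k (X.residueField x) := by
  obtain ⟨D, hD⟩ : ∃ D, D = Scheme.IdealSheafData.vanishingIdeal ⟨{x}, hx⟩ := ⟨_, rfl⟩
  rw [← hD]
  letI := sectModule k (ClSub.quotMod D)
  rw [(h0LinEquiv k (ClSub.quotMod D)).finrank_eq]
  obtain ⟨U, hU, hxU⟩ := Groth.Agent.Helper4.QcohLimits.exists_affine_nhd x
  let Ua : X.affineOpens := ⟨U, hU⟩
  have hpre : D.subschemeι ⁻¹ᵁ U = ⊤ := by
    rw [hD]
    exact preimage_point_eq_top x hx U hxU
  have hle : D.subschemeι ⁻¹ᵁ U ≤ D.subschemeι ⁻¹ᵁ ⊤ := le_top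
  let j : k →+* Γ(X, U) :=
    (X.presheaf.map (homOfLE (le_top : U ≤ ⊤)).op).hom.comp
      (Coh.toGlobal (X ↘ Spec (CommRingCat.of k)))
  let φ : Γ(X, U) →+* Γ(D.subscheme, D.subschemeι ⁻¹ᵁ U) := (D.subschemeι.app U).hom
  let ρ : LinSer.Sect X (ClSub.quotMod D) →+ Γ(D.subscheme, D.subschemeι ⁻¹ᵁ U) :=
    (D.subscheme.presheaf.map (homOfLE hle).op).hom.toAddMonoidHom
  let ev : Γ(X, U) →+* X.residueField x :=
    (X.residue x).hom.comp (X.presheaf.germ U x hxU).hom
  have hφ : Function.Surjective φ := D.subschemeι_app_surjective Ua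
  have hρ : Function.Bijective ρ := by
    have hiso : IsIso (homOfLE hle) := by
      refine ⟨homOfLE ?_, Subsingleton.elim _ _, Subsingleton.elim _ _⟩
      rw [hpre]
      exact le_top
    haveI : IsIso (D.subscheme.presheaf.map (homOfLE hle).op) := inferInstance
    exact (ConcreteCategory.isIso_iff_bijective
      (D.subscheme.presheaf.map (homOfLE hle).op)).1 inferInstance
  haveI hmax : (hU.primeIdealOf ⟨x, hxU⟩).asIdeal.IsMaximal :=
    hU.primeIdealOf_isMaximal_of_isClosed ⟨x, hxU⟩ hx
  letI alg : Algebra Γ(X, U) (X.presheaf.stalk x) :=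
    TopCat.Presheaf.algebra_section_stalk X.presheaf (⟨x, hxU⟩ : U)
  haveI hloc : IsLocalization.AtPrime (X.presheaf.stalk x) (hU.primeIdealOf ⟨x, hxU⟩).asIdeal :=
    hU.isLocalization_stalk ⟨x, hxU⟩
  have hev : Function.Surjective ev := by
    intro y
    obtain ⟨y', rfl⟩ := Ideal.Quotient.mk_surjective y
    obtain ⟨a, ha⟩ := (IsLocalization.AtPrime.equivQuotMaximalIdeal
      (hU.primeIdealOf ⟨x, hxU⟩).asIdeal (X.presheaf.stalk x)).surjective
        (Ideal.Quotient.mk _ y')
    obtain ⟨a', rfl⟩ := Ideal.Quotient.mk_surjective a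
    exact ⟨a', ha⟩
  have hker : RingHom.ker φ = RingHom.ker ev := by
    have h1 : RingHom.ker φ = D.ideal Ua := D.ker_subschemeι_app Ua
    rw [h1, hD, vanishingIdeal_point_ideal x hx Ua hxU]
    ext a
    rw [RingHom.mem_ker]
    show a ∈ (hU.primeIdealOf ⟨x, hxU⟩).asIdeal ↔
      IsLocalRing.residue (X.presheaf.stalk x) ((X.presheaf.germ U x hxU).hom a) = 0
    rw [IsLocalRing.residue_eq_zero_iff]
    exact (IsLocalization.AtPrime.to_map_mem_maximal_iff (X.presheaf.stalk x)
      (hU.primeIdealOf ⟨x, hxU⟩).asIdeal a).symm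
  refine finrank_eq_of_surjective_of_ker_eq j φ ρ ev hφ hρ hev hker ?_ ?_
  · intro c b
    change (D.subscheme.presheaf.map (homOfLE hle).op).hom
      ((D.subschemeι.app ⊤).hom (Coh.toGlobal (X ↘ Spec (CommRingCat.of k)) c) *
        (show Γ(D.subscheme, D.subschemeι ⁻¹ᵁ ⊤) from b)) = _
    rw [map_mul]
    congr 1
    have hnat := D.subschemeι.naturality (homOfLE (le_top : U ≤ ⊤)).op
    exact (congr($hnat (Coh.toGlobal (X ↘ Spec (CommRingCat.of k)) c))).symm
  · intro c y
    change Curv2.resMap k X x c * y = _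
    congr 1
    change (X.residue x).hom ((X.presheaf.germ ⊤ x trivial).hom
      (Coh.toGlobal (X ↘ Spec (CommRingCat.of k)) c)) =
      (X.residue x).hom ((X.presheaf.germ U x hxU).hom
        ((X.presheaf.map (homOfLE (le_top : U ≤ ⊤)).op).hom
          (Coh.toGlobal (X ↘ Spec (CommRingCat.of k)) c)))
    congr 1
    exact (TopCat.Presheaf.germ_res_apply X.presheaf (homOfLE (le_top : U ≤ ⊤)) x hxU _).symm

omit [X.Over (Spec (CommRingCat.of k))] in
/-- the kernel of a morphism from a reduced scheme is the vanishing ideal of the closure of its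
range -/
theorem ker_eq_vanishingIdeal_of_isReduced {Y : Scheme.{u}} [IsReduced Y] (f : Y ⟶ X)
    (Z : Closeds X) (hZ : (Z : Set X) = closure (Set.range f)) :
    f.ker = Scheme.IdealSheafData.vanishingIdeal Z := by
  have h1 : f.ker = (⊥ : Y.IdealSheafData).map f := (Scheme.IdealSheafData.map_bot f).symm
  have h2 : (⊥ : Y.IdealSheafData) = Scheme.IdealSheafData.vanishingIdeal ⊤ := by
    rw [Scheme.IdealSheafData.vanishingIdeal_top, Scheme.nilradical_eq_bot]
  rw [h1, h2, Scheme.IdealSheafData.map_vanishingIdeal]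
  congr 1
  apply Closeds.ext
  rw [hZ]
  simp

omit [X.Over (Spec (CommRingCat.of k))] in
/-- the ideal sheaf of the residue field point is the vanishing ideal of the point -/
theorem ker_fromSpecResidueField (x : X) (hx : IsClosed ({x} : Set X)) :
    (X.fromSpecResidueField x).ker = Scheme.IdealSheafData.vanishingIdeal ⟨{x}, hx⟩ := by
  apply ker_eq_vanishingIdeal_of_isReduced
  rw [Scheme.range_fromSpecResidueField]
  exact hx.closure_eq.symm

end Point

end Groth.Agent.Helper4.SN
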