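import Mathlib
import Groth.Agent.Helper4.SN88
import Groth.Agent.Helper4.SN32
import Groth.Agent.Lead.IdealModDict
import Groth.Agent.Lead.InvDualA
import Groth.Prelude.Def_BlowUp2
import Groth.Agent.Helper4.SN77
import Groth.Agent.Helper4.AmpleBasis
import Groth.Agent.Helper4.QAffSec

/-!
# The ideal sheaf of a closed point with principal maximal ideal is effective Cartier
-/

set_option autoImplicit false
set_option linter.unusedSectionVars false
set_option linter.style.haveILetI false
universe u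

open CategoryTheory CategoryTheory.Limits AlgebraicGeometry Opposite TopologicalSpace

namespace Groth.Agent.Helper4.SN

section AlgPrincipal

/-- if the maximal ideal of the localization of a noetherian ring at a prime is principal, then
the prime becomes principal on a basic open neighbourhood -/
theorem exists_principal_away {A : Type u} [CommRing A] [IsNoetherianRing A] (𝔭 : Ideal A)
    [𝔭.IsPrime] (S : Type u) [CommRing S] [Algebra A S] [IsLocalization.AtPrime S 𝔭]
    [IsLocalRing S] (h : (IsLocalRing.maximalIdeal S).IsPrincipal) :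
    ∃ g b : A, g ∉ 𝔭 ∧ b ∈ 𝔭 ∧
      IsLocalRing.maximalIdeal S = Ideal.span {algebraMap A S b} ∧
      ∀ a ∈ 𝔭, ∃ c : A, g * a = c * b := by
  classical
  obtain ⟨π, hπ⟩ := h.principal
  have hmap : Ideal.map (algebraMap A S) 𝔭 = IsLocalRing.maximalIdeal S :=
    IsLocalization.AtPrime.map_eq_maximalIdeal 𝔭 S
  have hπmem : π ∈ Ideal.map (algebraMap A S) 𝔭 := by
    rw [hmap, hπ]
    exact Ideal.subset_span rfl
  obtain ⟨⟨b, s₀⟩, hbs⟩ := (IsLocalization.mem_map_algebraMap_iff 𝔭.primeCompl S).1 hπmem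
  have hunit : IsUnit (algebraMap A S s₀) := IsLocalization.map_units S s₀
  have hspan : IsLocalRing.maximalIdeal S = Ideal.span {algebraMap A S b.1} := by
    rw [hπ]
    change Ideal.span {π} = _
    rw [← hbs]
    exact (Ideal.span_singleton_mul_right_unit hunit π).symm
  have hloc : ∀ a ∈ 𝔭, ∃ g c : A, g ∉ 𝔭 ∧ g * a = c * b.1 := by
    intro a ha
    have h1 : algebraMap A S a ∈ IsLocalRing.maximalIdeal S := by
      rw [← hmap]
      exact Ideal.mem_map_of_mem _ ha
    rw [hspan, Ideal.mem_span_singleton'] at h1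
    obtain ⟨y, hy⟩ := h1
    obtain ⟨⟨c, t⟩, hct⟩ := IsLocalization.surj 𝔭.primeCompl y
    have h2 : algebraMap A S (t * a) = algebraMap A S (c * b.1) := by
      rw [map_mul, map_mul, ← hy, ← hct]
      ring
    obtain ⟨u, hu⟩ := (IsLocalization.eq_iff_exists 𝔭.primeCompl S).1 h2
    refine ⟨u * t, u * c, ?_, ?_⟩
    · exact (𝔭.primeCompl.mul_mem u.2 t.2)
    · rw [mul_assoc, hu, mul_assoc]
  choose! g c hg hgc using hloc
  obtain ⟨s, hs⟩ : ∃ s : Finset A, Ideal.span (s : Set A) = 𝔭 :=
    (IsNoetherian.noetherian 𝔭)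
  have hsub : ∀ a ∈ s, a ∈ 𝔭 := fun a ha => hs ▸ Ideal.subset_span ha
  refine ⟨∏ a ∈ s, g a, b.1, ?_, b.2, hspan, ?_⟩
  · intro hmem
    obtain ⟨a, ha, hga⟩ := (Ideal.IsPrime.prod_mem_iff).1 hmem
    exact hg a (hsub a ha) hga
  · let J : Ideal A := Submodule.comap (LinearMap.mulLeft A (∏ a ∈ s, g a)) (Ideal.span {b.1})
    have hJ : 𝔭 ≤ J := by
      rw [← hs, Ideal.span_le]
      intro a ha
      show (∏ a ∈ s, g a) * a ∈ Ideal.span {b.1}
      rw [← Finset.mul_prod_erase s g ha, Ideal.mem_span_singleton']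
      refine ⟨(∏ x ∈ s.erase a, g x) * c a, ?_⟩
      rw [mul_assoc, ← hgc a (hsub a ha)]
      ring
    intro a ha
    have h3 : (∏ a ∈ s, g a) * a ∈ Ideal.span {b.1} := hJ ha
    rw [Ideal.mem_span_singleton'] at h3
    obtain ⟨c', hc'⟩ := h3
    exact ⟨c', hc'.symm⟩

end AlgPrincipal

section Cartier

variable {X : Scheme.{u}}

/-- the ideal sheaf of a closed point at which the maximal ideal is principal and nonzero is an
effective Cartier divisor (on an integral locally noetherian scheme) -/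
theorem isEffCartierIdeal_point [IsIntegral X] [IsLocallyNoetherian X] (x : X)
    (hx : IsClosed ({x} : Set X))
    (hprin : (IsLocalRing.maximalIdeal (X.presheaf.stalk x)).IsPrincipal)
    (hne : IsLocalRing.maximalIdeal (X.presheaf.stalk x) ≠ ⊥) :
    BlowUp.IsEffCartierIdeal (Scheme.IdealSheafData.vanishingIdeal ⟨{x}, hx⟩) := by
  intro y
  by_cases hyx : y = x
  · subst hyx
    obtain ⟨U, hU, hyU⟩ := Groth.Agent.Helper4.QcohLimits.exists_affine_nhd y
    let Ua : X.affineOpens := ⟨U, hU⟩
    haveI : IsNoetherianRing Γ(X, U) := IsLocallyNoetherian.component_noetherian Ua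
    letI alg : Algebra Γ(X, U) (X.presheaf.stalk y) :=
      TopCat.Presheaf.algebra_section_stalk X.presheaf (⟨y, hyU⟩ : U)
    haveI hloc : IsLocalization.AtPrime (X.presheaf.stalk y)
        (hU.primeIdealOf ⟨y, hyU⟩).asIdeal := hU.isLocalization_stalk ⟨y, hyU⟩
    obtain ⟨g, b, hg, hb, hspan, hall⟩ := exists_principal_away
      (hU.primeIdealOf ⟨y, hyU⟩).asIdeal (X.presheaf.stalk y) hprin
    have hyg : y ∈ X.basicOpen g := by
      rw [Scheme.mem_basicOpen X g y hyU]
      by_contra hnu
      have h1 : (X.presheaf.germ U y hyU).hom g ∈ IsLocalRing.maximalIdeal (X.presheaf.stalk y) :=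
        (IsLocalRing.mem_maximalIdeal _).2 hnu
      exact hg ((IsLocalization.AtPrime.to_map_mem_maximal_iff (X.presheaf.stalk y)
        (hU.primeIdealOf ⟨y, hyU⟩).asIdeal g).1 h1)
    refine ⟨X.affineBasicOpen (U := Ua) g, hyg, ?_⟩
    let res : Γ(X, U) →+* Γ(X, X.basicOpen g) :=
      (X.presheaf.map (homOfLE (X.basicOpen_le g)).op).hom
    haveI : Nonempty (X.basicOpen g) := ⟨⟨y, hyg⟩⟩
    have hb0 : res b ≠ 0 := by
      intro h0
      apply hne
      rw [hspan]
      have h1 : algebraMap Γ(X, U) (X.presheaf.stalk y) b =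
          (X.presheaf.germ (X.basicOpen g) y hyg).hom (res b) :=
        (TopCat.Presheaf.germ_res_apply X.presheaf (homOfLE (X.basicOpen_le g)) y hyg b).symm
      rw [h1, h0, map_zero]
      exact Ideal.span_singleton_eq_bot.2 rfl
    haveI hdom : IsDomain Γ(X, X.basicOpen g) := inferInstance
    have hnzd : res b ∈ nonZeroDivisors Γ(X, X.basicOpen g) := mem_nonZeroDivisors_of_ne_zero hb0
    refine ⟨res b, hnzd, ?_⟩
    have hmap := (Scheme.IdealSheafData.vanishingIdeal ⟨{y}, hx⟩).map_ideal_basicOpen Ua g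
    rw [← hmap, vanishingIdeal_point_ideal y hx Ua hyU]
    apply le_antisymm
    · refine Ideal.map_le_iff_le_comap.2 ?_
      intro a ha
      obtain ⟨c, hc⟩ := hall a ha
      have hu : IsUnit (res g) := X.toRingedSpace.isUnit_res_basicOpen g
      obtain ⟨u, hu'⟩ := hu
      show res a ∈ Ideal.span {res b}
      rw [Ideal.mem_span_singleton']
      refine ⟨↑u⁻¹ * res c, ?_⟩
      have h2 : res g * res a = res c * res b := by
        rw [← map_mul, ← map_mul, hc]
      rw [mul_assoc, ← h2, ← hu', ← mul_assoc, Units.inv_mul, one_mul]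
    · rw [Ideal.span_le]
      intro z hz
      rw [Set.mem_singleton_iff] at hz
      rw [hz]
      exact Ideal.mem_map_of_mem _ hb
  · have hopen : IsOpen ({x}ᶜ : Set X) := hx.isOpen_compl
    obtain ⟨_, ⟨U, hU : IsAffineOpen U, rfl⟩, hyU, hUx⟩ :=
      X.isBasis_affineOpens.exists_subset_of_mem_open (show y ∈ ({x}ᶜ : Set X) from hyx) hopen
    refine ⟨⟨U, hU⟩, hyU, 1, one_mem _, ?_⟩
    rw [Scheme.IdealSheafData.vanishingIdeal_ideal]
    have hempty : (hU.fromSpec ⁻¹' ((⟨{x}, hx⟩ : Closeds X) : Set X)) = ∅ := by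
      ext p
      simp only [Set.mem_preimage, Set.mem_empty_iff_false, iff_false]
      intro hp
      have h1 : hU.fromSpec p ∈ (U : Set X) := by
        have := hU.range_fromSpec
        rw [← this]
        exact ⟨p, rfl⟩
      exact hUx h1 hp
    have h2 : PrimeSpectrum.vanishingIdeal
        (hU.fromSpec ⁻¹' ((⟨{x}, hx⟩ : Closeds X) : Set X)) = ⊤ :=
      (congrArg PrimeSpectrum.vanishingIdeal hempty).trans PrimeSpectrum.vanishingIdeal_empty
    rw [Ideal.span_singleton_one]
    exact h2

end Cartier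

section Deg

attribute [local instance] Curv2.resAlgebra

variable (k : Type u) [Field k] {X : Scheme.{u}} [X.Over (Spec (CommRingCat.of k))]
  [IsIntegral X] [IsProper (X ↘ (Spec (CommRingCat.of k)))]

/-- **the invertible module `O(x)` of a closed point with principal maximal ideal has degree
`[κ(x) : k]`** -/
theorem exists_invertible_deg_point (hdim : topologicalKrullDim X ≤ 1) (x : X)
    (hx : IsClosed ({x} : Set X))
    (hprin : (IsLocalRing.maximalIdeal (X.presheaf.stalk x)).IsPrincipal)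
    (hne : IsLocalRing.maximalIdeal (X.presheaf.stalk x) ≠ ⊥) :
    ∃ L : X.Modules, PicF.IsInvertible L ∧
      Curv2.deg k X L 1 = (Module.finrank k (X.residueField x) : ℤ) ∧
      ClSub.IsInverseOf L (ClSub.idealMod (Scheme.IdealSheafData.vanishingIdeal ⟨{x}, hx⟩)) := by
  haveI := Groth.Agent.Helper4.NApx82.isNoetherian_of_proper k X
  have hD := isEffCartierIdeal_point x hx hprin hne
  have hI := Groth.Agent.Lead.IdealModDict.isInvertible_of_isEffCartierIdeal _ hD
  obtain ⟨L, hL, ⟨e1⟩, -⟩ := Groth.Agent.Lead.InvDual.exists_inverse _ hI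
  refine ⟨L, hL, ?_, ⟨e1⟩⟩
  have h := deg_twist_effCartier k hdim _ hD L hL ⟨e1⟩ 1 (Coh.structureModule X)
    (Groth.Agent.Helper4.QAffSec.isFinLocFreeOfRank_one_of_isInvertible _
      Groth.Agent.Helper4.TensorInv.isInvertible_structureModule)
  rw [deg_iso k (Groth.Agent.Helper4.AmpleBasis.unitorL L) 1, finrank_h0_quotMod_point k x hx] at h
  rw [h]
  unfold Curv2.deg
  push_cast
  ring

end Deg

end Groth.Agent.Helper4.SN
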