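import Mathlib
import Groth.Agent.Helper4.SN89
import Groth.Agent.Helper4.SN85
import Groth.Agent.Helper4.SN33
import Groth.Agent.Lead.RegDimOne

/-!
# Curves with normal points of coprime degrees and `H¹(O) = 0` are projective lines
-/

set_option autoImplicit false
set_option linter.unusedSectionVars false
set_option linter.style.haveILetI false
universe u

open CategoryTheory CategoryTheory.Limits AlgebraicGeometry Opposite TopologicalSpace

namespace Groth.Agent.Helper4.SN

section Local

variable {X : Scheme.{u}} [IsIntegral X]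

/-- on an integral scheme the local ring at a point other than the generic point is not a field -/
theorem maximalIdeal_ne_bot_of_ne_genericPoint (x : X) (hxη : x ≠ genericPoint X) :
    IsLocalRing.maximalIdeal (X.presheaf.stalk x) ≠ ⊥ := by
  intro hbot
  have hfield : IsField (X.presheaf.stalk x) := IsLocalRing.isField_iff_maximalIdeal_eq.2 hbot
  let _ := hfield.toField
  have hsub : Subsingleton (PrimeSpectrum (X.presheaf.stalk x)) := inferInstance
  have h1 : genericPoint X ∈ Set.range (X.fromSpecStalk x) := by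
    rw [Scheme.range_fromSpecStalk]
    exact (genericPoint_spec X).specializes trivial
  have h2 : x ∈ Set.range (X.fromSpecStalk x) := by
    rw [Scheme.range_fromSpecStalk]
    exact specializes_rfl
  obtain ⟨p, hp⟩ := h1
  obtain ⟨q, hq⟩ := h2
  have hpq : p = q := hsub.elim _ _
  apply hxη
  rw [← hq, ← hp, hpq]

/-- a closed point of an integral scheme of dimension one is not the generic point -/
theorem ne_genericPoint_of_isClosed (hdim : topologicalKrullDim X = 1) (x : X)
    (hx : IsClosed ({x} : Set X)) : x ≠ genericPoint X := by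
  intro h
  have hcl : closure ({genericPoint X} : Set X) = Set.univ := genericPoint_spec X
  rw [← h, hx.closure_eq] at hcl
  haveI : Subsingleton X := by
    refine ⟨fun a b => ?_⟩
    have ha : a ∈ ({x} : Set X) := hcl ▸ Set.mem_univ a
    have hb : b ∈ ({x} : Set X) := hcl ▸ Set.mem_univ b
    rw [Set.mem_singleton_iff] at ha hb
    rw [ha, hb]
  have h0 := topologicalKrullDim_le_zero_of_subsingleton X
  rw [hdim] at h0
  exact absurd h0 (by decide)

/-- on an integral locally noetherian scheme of dimension at most one, the maximal ideal of an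
integrally closed local ring is principal -/
theorem isPrincipal_maximalIdeal_of_isIntegrallyClosed [IsLocallyNoetherian X]
    (hdim : topologicalKrullDim X ≤ 1) (x : X)
    (hn : IsIntegrallyClosed (X.presheaf.stalk x)) :
    (IsLocalRing.maximalIdeal (X.presheaf.stalk x)).IsPrincipal := by
  have hd : ringKrullDim (X.presheaf.stalk x) ≤ 1 :=
    (Groth.Agent.Lead.RegDimOne.ringKrullDim_stalk_le_dim X x).trans hdim
  haveI : Ring.KrullDimLE 1 (X.presheaf.stalk x) := Ring.krullDimLE_iff.2 (by exact_mod_cast hd)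
  have h := ((tfae_of_isNoetherianRing_of_isLocalRing_of_isDomain
    (X.presheaf.stalk x)).out 3 4).1
  refine h ⟨hn, fun P hP hP' => ?_⟩
  exact IsLocalRing.eq_maximalIdeal (hP'.isMaximal_of_ne_bot hP)

end Local

section Main

attribute [local instance] Curv2.resAlgebra

variable (k : Type u) [Field k] (X : Scheme.{u}) [X.Over (Spec (CommRingCat.of k))]
  [IsIntegral X] [IsProper (X ↘ (Spec (CommRingCat.of k)))]

/-- the degrees of the invertible modules on a proper curve form a subgroup of `ℤ` -/
def degSubgroup (hdim : topologicalKrullDim X ≤ 1) : AddSubgroup ℤ where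
  carrier := {d | ∃ L : X.Modules, PicF.IsInvertible L ∧ Curv2.deg k X L 1 = d}
  zero_mem' := ⟨Coh.structureModule X, Groth.Agent.Helper4.TensorInv.isInvertible_structureModule,
    by unfold Curv2.deg; push_cast; ring⟩
  add_mem' := by
    rintro a b ⟨L, hL, rfl⟩ ⟨M, hM, rfl⟩
    refine ⟨CohB1.tensorMod L M, Groth.Agent.Helper4.TensorInv.isInvertible_tensorMod hL hM, ?_⟩
    have h := main7637 k hdim 1 1 L M
      (Groth.Agent.Helper4.QAffSec.isFinLocFreeOfRank_one_of_isInvertible L hL)
      (Groth.Agent.Helper4.QAffSec.isFinLocFreeOfRank_one_of_isInvertible M hM)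
    rw [Nat.mul_one] at h
    rw [h]
    push_cast
    ring
  neg_mem' := by
    rintro a ⟨L, hL, rfl⟩
    obtain ⟨N, hN, ⟨e⟩, -⟩ := Groth.Agent.Lead.InvDual.exists_inverse L hL
    refine ⟨N, hN, ?_⟩
    have h := main7637 k hdim 1 1 N L
      (Groth.Agent.Helper4.QAffSec.isFinLocFreeOfRank_one_of_isInvertible N hN)
      (Groth.Agent.Helper4.QAffSec.isFinLocFreeOfRank_one_of_isInvertible L hL)
    rw [Nat.mul_one, deg_iso k e 1] at h
    have h0 : Curv2.deg k X (Coh.structureModule X) 1 = 0 := by
      unfold Curv2.deg; push_cast; ring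
    rw [h0] at h
    push_cast at h
    linarith

/-- **S6542** -/
theorem main6542 (hdim : topologicalKrullDim X = 1)
    (h1 : Subsingleton (Coh.HH X (Coh.structureModule X) 1))
    (s : Finset X) (hcl : ∀ x ∈ s, IsClosed ({x} : Set X))
    (hn : ∀ x ∈ s, IsIntegrallyClosed (X.presheaf.stalk x))
    (hgcd : s.gcd (fun x => Module.finrank k (X.residueField x)) = 1) :
    ∃ e : X ≅ CohB1.ProjSpace 1 k,
      e.hom ≫ CohB1.ProjSpace.toSpec 1 k = X ↘ (Spec (CommRingCat.of k)) := by
  haveI := Groth.Agent.Helper4.NApx82.isNoetherian_of_proper k X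
  have hmem : ∀ x ∈ s, ((Module.finrank k (X.residueField x) : ℕ) : ℤ) ∈ degSubgroup k X hdim.le := by
    intro x hxs
    obtain ⟨L, hL, hdeg, -⟩ := exists_invertible_deg_point k hdim.le x (hcl x hxs)
      (isPrincipal_maximalIdeal_of_isIntegrallyClosed hdim.le x (hn x hxs))
      (maximalIdeal_ne_bot_of_ne_genericPoint x (ne_genericPoint_of_isClosed hdim x (hcl x hxs)))
    exact ⟨L, hL, hdeg⟩
  obtain ⟨a, ha⟩ := Int.subgroup_cyclic (degSubgroup k X hdim.le)
  have hdvd : ∀ x ∈ s, a.natAbs ∣ Module.finrank k (X.residueField x) := by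
    intro x hxs
    have h2 := hmem x hxs
    rw [ha, AddSubgroup.mem_closure_singleton] at h2
    obtain ⟨n, hn'⟩ := h2
    have h6 : a ∣ ((Module.finrank k (X.residueField x) : ℕ) : ℤ) :=
      ⟨n, by rw [← hn', smul_eq_mul, mul_comm]⟩
    have h7 := Int.natAbs_dvd_natAbs.2 h6
    rwa [Int.natAbs_natCast] at h7
  have h3 : a.natAbs ∣ 1 := hgcd ▸ Finset.dvd_gcd hdvd
  have h4 : a.natAbs = 1 := Nat.dvd_one.1 h3
  have h5 : (1 : ℤ) ∈ degSubgroup k X hdim.le := by
    rw [ha, AddSubgroup.mem_closure_singleton]
    rcases Int.natAbs_eq a with h | h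
    · exact ⟨1, by rw [one_smul, h, h4]; rfl⟩
    · exact ⟨-1, by rw [neg_smul, one_smul, h, h4]; simp⟩
  obtain ⟨L, hL, hdeg⟩ := h5
  exact main6541 k hdim h1 L hL hdeg

end Main

end Groth.Agent.Helper4.SN
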