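import Mathlib
import Groth.Prelude.Def_CohB1

/-!
# The standard charts of the projective line are affine lines
-/

set_option autoImplicit false
set_option linter.unusedSectionVars false
set_option linter.style.haveILetI false
universe u

open MvPolynomial HomogeneousLocalization

namespace Groth.Agent.Helper4.SN.P1Chart

variable (k : Type u) [Field k] (i j : Fin 2) (hij : i ≠ j)

/-- the coordinate vector `(1, T)` (with `1` in position `i`) -/
noncomputable def vec {R : Type*} [One R] (t : R) : Fin 2 → R := fun l => if l = i then 1 else t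

/-- dehomogenisation with respect to `X_i` -/
noncomputable def ev' : MvPolynomial (Fin 2) k →ₐ[k] Polynomial k :=
  aeval (vec i (Polynomial.X : Polynomial k))

lemma ev'_Xi : ev' k i (X i) = 1 := by simp [ev', vec]

include hij in
lemma ev'_Xj : ev' k i (X j) = Polynomial.X := by
  simp [ev', vec, hij.symm]

lemma Xi_mem : (X i : MvPolynomial (Fin 2) k) ∈ CohB1.polyGrading 1 k 1 :=
  isHomogeneous_X k i

/-- the localization at `X_i` -/
abbrev Loc : Type u := Localization.Away (X i : MvPolynomial (Fin 2) k)

/-- the localization map -/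
noncomputable abbrev toLoc : MvPolynomial (Fin 2) k →+* Loc k i :=
  algebraMap (MvPolynomial (Fin 2) k) (Loc k i)

/-- the element `X_j/X_i` of the localization -/
noncomputable def uu : Loc k i :=
  Localization.mk (X j) ⟨X i, 1, pow_one _⟩

lemma Xi_mul_uu : toLoc k i (X i) * uu k i j = toLoc k i (X j) := by
  unfold uu toLoc
  rw [← Localization.mk_one_eq_algebraMap, ← Localization.mk_one_eq_algebraMap,
    Localization.mk_mul, Localization.mk_eq_mk_iff, Localization.r_iff_exists]
  refine ⟨1, ?_⟩
  simp

/-- dehomogenisation followed by rehomogenisation -/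
noncomputable def sigma : MvPolynomial (Fin 2) k →ₐ[k] Loc k i := aeval (vec i (uu k i j))

include hij in
lemma prod_two {M : Type*} [CommMonoid M] (f : Fin 2 → M) : ∏ l, f l = f i * f j := by
  apply Fintype.prod_eq_mul i j hij
  intro x hx
  exfalso
  fin_cases x <;> fin_cases i <;> fin_cases j <;> simp_all

include hij in
lemma sum_two {M : Type*} [AddCommMonoid M] (f : Fin 2 → M) : ∑ l, f l = f i + f j := by
  apply Fintype.sum_eq_add i j hij
  intro x hx
  exfalso
  fin_cases x <;> fin_cases i <;> fin_cases j <;> simp_all

include hij in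
lemma toLoc_monomial (m : Fin 2 →₀ ℕ) (c : k) :
    toLoc k i (monomial m c) = (toLoc k i (X i)) ^ (m i + m j) * sigma k i j (monomial m c) := by
  unfold sigma
  rw [aeval_monomial, monomial_eq, Finsupp.prod_fintype _ _ (fun l => by simp),
    Finsupp.prod_fintype _ _ (fun l => by simp), prod_two i j hij, prod_two i j hij]
  simp only [vec, if_true, if_neg hij.symm, one_pow, one_mul, map_mul, map_pow]
  rw [← Xi_mul_uu k i j, mul_pow, pow_add]
  have : toLoc k i (C c) = algebraMap k (Loc k i) c := by
    unfold toLoc
    rw [← algebraMap_eq, ← IsScalarTower.algebraMap_apply]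
  rw [this]
  ring

include hij in
lemma toLoc_eq_of_mem (n : ℕ) (a : MvPolynomial (Fin 2) k)
    (ha : a ∈ CohB1.polyGrading 1 k n) :
    toLoc k i a = (toLoc k i (X i)) ^ n * sigma k i j a := by
  have ha' : a.IsHomogeneous n := ha
  conv_lhs => rw [← support_sum_monomial_coeff a]
  conv_rhs => rw [← support_sum_monomial_coeff a]
  rw [map_sum, map_sum, Finset.mul_sum]
  refine Finset.sum_congr rfl (fun m hm => ?_)
  rw [toLoc_monomial k i j hij]
  have hdeg : m.degree = n := by
    rw [← ha' (mem_support_iff.1 hm), Finsupp.degree_eq_weight_one]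
    rfl
  have h2 : m i + m j = n := by
    rw [← hdeg, Finsupp.degree_eq_sum, sum_two i j hij]
  rw [h2]

lemma sigma_eq : sigma k i j = (Polynomial.aeval (uu k i j)).comp (ev' k i) := by
  apply MvPolynomial.algHom_ext
  intro l
  by_cases hl : l = i
  · simp [sigma, ev', vec, hl]
  · simp [sigma, ev', vec, hl]

lemma toLoc_injective : Function.Injective (toLoc k i) := by
  apply IsLocalization.injective (Loc k i) (M := Submonoid.powers (X i : MvPolynomial (Fin 2) k))
  exact powers_le_nonZeroDivisors_of_noZeroDivisors (X_ne_zero i)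

/-- the chart ring -/
abbrev B : Type u := Away (CohB1.polyGrading 1 k) (X i : MvPolynomial (Fin 2) k)

/-- the evaluation map on the chart `D₊(X_i)` -/
noncomputable def psi : B k i →+* Polynomial k :=
  (Localization.awayLift ((ev' k i : MvPolynomial (Fin 2) k →ₐ[k] Polynomial k) : _ →+* _) (X i)
    (by rw [RingHom.coe_coe, ev'_Xi]; exact isUnit_one)).comp
    (algebraMap (B k i) (Localization.Away (X i : MvPolynomial (Fin 2) k)))

lemma psi_mk (n : ℕ) (a : MvPolynomial (Fin 2) k) (ha : a ∈ CohB1.polyGrading 1 k (n • 1)) :
    psi k i (Away.mk (CohB1.polyGrading 1 k) (Xi_mem k i) n a ha) = ev' k i a := by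
  unfold psi
  rw [RingHom.comp_apply, HomogeneousLocalization.algebraMap_apply, Away.val_mk]
  have := Localization.awayLift_mk ((ev' k i : MvPolynomial (Fin 2) k →ₐ[k] Polynomial k) :
    MvPolynomial (Fin 2) k →+* Polynomial k) (X i) a (1 : Polynomial k)
    (by rw [mul_one]; exact ev'_Xi k i) n
  simpa using this

include hij in
theorem psi_injective : Function.Injective (psi k i) := by
  rw [injective_iff_map_eq_zero]
  intro b hb
  obtain ⟨n, a, ha, rfl⟩ := Away.mk_surjective (CohB1.polyGrading 1 k) (Xi_mem k i) b
  rw [psi_mk] at hb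
  have h2 : sigma k i j a = 0 := by
    rw [sigma_eq, AlgHom.comp_apply, hb, map_zero]
  have h3 : toLoc k i a = 0 := by
    rw [toLoc_eq_of_mem k i j hij (n • 1) a ha, h2, mul_zero]
  have h4 : a = 0 := toLoc_injective k i (by rw [h3, map_zero])
  subst h4
  apply HomogeneousLocalization.val_injective
  rw [Away.val_mk, HomogeneousLocalization.val_zero, Localization.mk_zero]

/-- the coordinate function `X_j/X_i` on the chart -/
noncomputable def tau : B k i :=
  Away.mk (CohB1.polyGrading 1 k) (Xi_mem k i) 1 (X j) (by simpa using Xi_mem k j)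

include hij in
lemma psi_tau : psi k i (tau k i j) = Polynomial.X := by
  unfold tau
  rw [psi_mk, ev'_Xj k i j hij]

/-- the structure map `k → (A_{X_i})₀` -/
noncomputable abbrev kToB : k →+* B k i :=
  (HomogeneousLocalization.fromZeroRingHom (CohB1.polyGrading 1 k)
    (Submonoid.powers (X i : MvPolynomial (Fin 2) k))).comp
    (algebraMap k (CohB1.polyGrading 1 k 0))

lemma psi_kToB (c : k) : psi k i (kToB k i c) = Polynomial.C c := by
  have h1 : kToB k i c =
      Away.mk (CohB1.polyGrading 1 k) (Xi_mem k i) 0 (C c) (by
        simpa using (isHomogeneous_C (Fin 2) c)) := by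
    apply HomogeneousLocalization.val_injective
    rw [Away.val_mk]
    simp [HomogeneousLocalization.fromZeroRingHom]
  rw [h1, psi_mk]
  simp [ev']

/-- the inverse map -/
noncomputable def phi : Polynomial k →+* B k i :=
  Polynomial.eval₂RingHom (kToB k i) (tau k i j)

include hij in
lemma psi_phi : (psi k i).comp (phi k i j) = RingHom.id _ := by
  apply Polynomial.ringHom_ext
  · intro c
    rw [RingHom.comp_apply, RingHom.id_apply]
    unfold phi
    rw [Polynomial.coe_eval₂RingHom, Polynomial.eval₂_C, psi_kToB]
  · rw [RingHom.comp_apply, RingHom.id_apply]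
    unfold phi
    rw [Polynomial.coe_eval₂RingHom, Polynomial.eval₂_X, psi_tau k i j hij]

include hij in
/-- the chart ring is a polynomial ring -/
noncomputable def equivPoly : B k i ≃+* Polynomial k :=
  RingEquiv.ofBijective (psi k i) ⟨psi_injective k i j hij, fun p =>
    ⟨phi k i j p, by
      have := congrArg (fun f => f p) (psi_phi k i j hij)
      exact this⟩⟩

include hij in
theorem isIntegrallyClosed_B : IsIntegrallyClosed (B k i) :=
  IsIntegrallyClosed.of_equiv (equivPoly k i j hij).symm

end Groth.Agent.Helper4.SN.P1Chart
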