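import Mathlib
import Groth.Agent.Lead.Ref1B
import Groth.Agent.Lead.ProperFinA
import Groth.Agent.Helper1.HHLes
import Groth.Agent.Helper1.PUP8
import Groth.Agent.Helper1.TwistExact
import Groth.Agent.Lead.LocLift

/-!
# Tensoring with an invertible module is an equivalence; lifting maps out of an invertible module
-/

set_option autoImplicit false
set_option linter.unusedSectionVars false
set_option linter.style.haveILetI false
universe u

open CategoryTheory CategoryTheory.Limits AlgebraicGeometry Opposite TopologicalSpace MonoidalCategory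
open Groth.Agent.Helper9.TensorSh

namespace Groth.Agent.Helper4.SN

section TwistEquiv

variable {X : Scheme.{u}}

/-- the unit of the sheafification adjunction, as a natural transformation -/
noncomputable def unitNT : 𝟭 (CohB1.PMod X) ⟶ (DCoh.shP (X := X)) ⋙ (DCoh.toP (X := X)) where
  app P := η X.sheaf P
  naturality P Q f := by
    exact (adj X.sheaf).unit.naturality f

/-- step 1: remove the inner sheafification -/
noncomputable def step1 (l' l : CohB1.PMod X) :
    DCoh.toP (X := X) ⋙ tensorRight l' ⋙ tensorRight l ⋙ DCoh.shP ⟶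
      (DCoh.toP (X := X) ⋙ tensorRight l' ⋙ DCoh.shP) ⋙
        (DCoh.toP (X := X) ⋙ tensorRight l ⋙ DCoh.shP) :=
  Functor.whiskerLeft (DCoh.toP (X := X) ⋙ tensorRight l')
    (Functor.whiskerRight unitNT (tensorRight l ⋙ DCoh.shP))

theorem step1_app (l' l : CohB1.PMod X) (F : X.Modules) :
    (step1 l' l).app F =
      (DCoh.shP (X := X)).map (η X.sheaf ((DCoh.toP (X := X)).obj F ⊗ l') ▷ l) := rfl

instance isIso_step1 (l' l : CohB1.PMod X) : IsIso (step1 l' l) := by
  haveI : ∀ F, IsIso ((step1 l' l).app F) := fun F => by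
    rw [step1_app]
    exact isIso_a_map_whiskerRight _ _
  exact NatIso.isIso_of_isIso_app _

/-- step 3: sheafify the second factor -/
noncomputable def step3 (m : CohB1.PMod X) :
    DCoh.toP (X := X) ⋙ tensorRight m ⋙ DCoh.shP ⟶
      DCoh.toP (X := X) ⋙ tensorRight ((DCoh.toP (X := X)).obj ((DCoh.shP (X := X)).obj m)) ⋙
        DCoh.shP :=
  Functor.whiskerLeft (DCoh.toP (X := X))
    (Functor.whiskerRight ((tensoringRight (CohB1.PMod X)).map (η X.sheaf m)) DCoh.shP)

theorem step3_app (m : CohB1.PMod X) (F : X.Modules) :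
    (step3 m).app F = (DCoh.shP (X := X)).map ((DCoh.toP (X := X)).obj F ◁ η X.sheaf m) := rfl

instance isIso_step3 (m : CohB1.PMod X) : IsIso (step3 m) := by
  haveI : ∀ F, IsIso ((step3 m).app F) := fun F => by
    rw [step3_app]
    exact isIso_a_map_whiskerLeft _ _
  exact NatIso.isIso_of_isIso_app _

/-- the counit isomorphism of sheafification -/
noncomputable def counitIso0 :=
  (asIso (PresheafOfModules.sheafificationAdjunction.{u, u, u, u}
      (J := Opens.grothendieckTopology X) (𝟙 X.ringCatSheaf.obj)).counit)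

/-- the counit isomorphism of sheafification, retyped -/
noncomputable def counitIso : DCoh.toP (X := X) ⋙ DCoh.shP ≅ 𝟭 X.Modules :=
  counitIso0

/-- tensoring on the right with a module and then with an inverse of it is naturally isomorphic
to the identity -/
noncomputable def twistTwistIso (L' L : X.Modules)
    (ε : CohB1.tensorMod L' L ≅ Coh.structureModule X) :
    DCoh.tensorRightMod L' ⋙ DCoh.tensorRightMod L ≅ 𝟭 X.Modules :=
  (asIso (step1 (CohB1.toPMod L') (CohB1.toPMod L))).symm ≪≫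
    Functor.isoWhiskerLeft (DCoh.toP (X := X))
      (Functor.isoWhiskerRight (tensorRightTensor (CohB1.toPMod L') (CohB1.toPMod L)).symm
        DCoh.shP) ≪≫
    asIso (step3 (CohB1.toPMod L' ⊗ CohB1.toPMod L)) ≪≫
    Functor.isoWhiskerLeft (DCoh.toP (X := X))
      (Functor.isoWhiskerRight ((tensoringRight (CohB1.PMod X)).mapIso
        ((DCoh.toP (X := X)).mapIso ε)) DCoh.shP) ≪≫
    Functor.isoWhiskerLeft (DCoh.toP (X := X))
      (Functor.isoWhiskerRight (rightUnitorNatIso (CohB1.PMod X)) DCoh.shP) ≪≫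
    counitIso

end TwistEquiv

section Abstract

theorem exists_lift_of_natIso {C : Type*} [Category C] (T' T : C ⥤ C) (Θ : T' ⋙ T ≅ 𝟭 C)
    {O L E E' : C} (g : E ⟶ E') (φ : L ⟶ E') (ε' : O ≅ T'.obj L) (τ : O ⟶ T'.obj E)
    (hτ : τ ≫ T'.map g = ε'.hom ≫ T'.map φ) : ∃ ψ : L ⟶ E, ψ ≫ g = φ := by
  have hnat := Θ.hom.naturality g
  have hnat2 := Θ.hom.naturality φ
  simp only [Functor.comp_map, Functor.id_map, Functor.comp_obj, Functor.id_obj] at hnat hnat2
  let θ : T.obj O ⟶ L := T.map ε'.hom ≫ Θ.hom.app L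
  haveI : IsIso θ := IsIso.comp_isIso
  refine ⟨inv θ ≫ T.map τ ≫ Θ.hom.app E, ?_⟩
  rw [Category.assoc, Category.assoc, ← hnat, ← Category.assoc (T.map τ), ← Functor.map_comp, hτ,
    Functor.map_comp, Category.assoc, hnat2, ← Category.assoc (T.map ε'.hom)]
  change inv θ ≫ θ ≫ φ = φ
  rw [IsIso.inv_hom_id_assoc]

end Abstract

section Lift

open Groth.Agent.Helper1.PUP Groth.Agent.Helper1.HHLes

variable (k : Type u) [CommRing k] {X : Scheme.{u}} [X.Over (Spec (CommRingCat.of k))]

/-- naturality of `H⁰(X, M) ≃ Γ(X, M)` -/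
theorem h0Equiv_HHlin {M N : X.Modules} (φ : M ⟶ N) (x : Coh.HH X M 0) :
    Groth.Agent.Lead.ProperFinA.h0Equiv N (Canon.HHlin k φ 0 x) =
      φ.app ⊤ (Groth.Agent.Lead.ProperFinA.h0Equiv M x) :=
  (Sheaf.H.equiv₀_naturality (isTerminalTop (α := Opens X))
    ((SheafOfModules.toSheaf X.ringCatSheaf).map φ) x).symm

include k in
/-- global sections lift along an epimorphism whose kernel has no `H¹` -/
theorem exists_lift_section (S : ShortComplex X.Modules) (hS : S.ShortExact)
    (h1 : Subsingleton (Coh.HH X S.X₁ 1)) (σ : Coh.structureModule X ⟶ S.X₃) :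
    ∃ τ : Coh.structureModule X ⟶ S.X₂, τ ≫ S.g = σ := by
  obtain ⟨c, hc⟩ : ∃ c : Coh.HH X S.X₃ 0,
      Groth.Agent.Lead.ProperFinA.h0Equiv S.X₃ c = sec σ ⊤ :=
    ⟨(Groth.Agent.Lead.ProperFinA.h0Equiv S.X₃).symm (sec σ ⊤), AddEquiv.apply_symm_apply _ _⟩
  have hδ : δ k S hS 0 c = 0 := Subsingleton.elim _ _
  obtain ⟨b, hb⟩ := (exact_g_δ k S hS 0 c).1 hδ
  refine ⟨Groth.Agent.Lead.LocLift.homOfTop S.X₂
    (Groth.Agent.Lead.ProperFinA.h0Equiv S.X₂ b), ?_⟩
  apply hom_ext_of_sec
  rw [sec_comp, sec_homOfTop, ← hc, ← hb]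
  exact (h0Equiv_HHlin k S.g b).symm

include k in
/-- maps out of an invertible module lift along an epimorphism whose twisted kernel has no `H¹` -/
theorem exists_lift_twist (S : ShortComplex X.Modules) (hS : S.ShortExact)
    (L L' : X.Modules) (hL' : PicF.IsInvertible L')
    (ε : CohB1.tensorMod L' L ≅ Coh.structureModule X)
    (ε' : Coh.structureModule X ≅ CohB1.tensorMod L L')
    (h1 : Subsingleton (Coh.HH X (CohB1.tensorMod S.X₁ L') 1))
    (φ : L ⟶ S.X₃) : ∃ ψ : L ⟶ S.X₂, ψ ≫ S.g = φ := by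
  have hS' := Groth.Agent.Helper1.TwistExact.shortExact_map_tensorRightMod hS L' hL'
  obtain ⟨τ, hτ⟩ := exists_lift_section k (S.map (DCoh.tensorRightMod L')) hS' h1
    (ε'.hom ≫ (DCoh.tensorRightMod L').map φ)
  exact exists_lift_of_natIso (DCoh.tensorRightMod L') (DCoh.tensorRightMod L)
    (twistTwistIso L' L ε) S.g φ ε' τ hτ

end Lift

end Groth.Agent.Helper4.SN
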