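import Mathlib
import Groth.Agent.Helper4.SN94
import Groth.Agent.Helper4.SN84
import Groth.Agent.Helper4.SN85
import Groth.Agent.Helper4.SN89
import Groth.Agent.Helper4.SN90
import Groth.Agent.Helper4.SN63
import Groth.Agent.Helper4.SN33
import Groth.Agent.Helper4.SN26
import Groth.Agent.Helper4.SN95
import Groth.Agent.Helper1.Segre2
import Groth.Agent.Helper1.KzLin3

/-!
# The projective line: points, the Picard group, cohomology of the twisting modules
-/

set_option autoImplicit false
set_option linter.unusedSectionVars false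
set_option linter.style.haveILetI false
universe u

open CategoryTheory CategoryTheory.Limits AlgebraicGeometry MvPolynomial HomogeneousLocalization
  TopologicalSpace

namespace Groth.Agent.Helper4.SN

section P1Normal

variable (k : Type u) [Field k]

open P1Chart

theorem exists_mem_basicOpen_P1 (x : Proj (CohB1.polyGrading 1 k)) :
    ∃ i : Fin 2, x ∈ Proj.basicOpen (CohB1.polyGrading 1 k) (X i : MvPolynomial (Fin 2) k) := by
  have h := Groth.Agent.Helper1.Segre.iSup_basicOpen_X k 1
  have hx : x ∈ (⊤ : (Proj (CohB1.polyGrading 1 k)).Opens) := trivial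
  rw [← h, TopologicalSpace.Opens.mem_iSup] at hx
  exact hx

theorem isIntegrallyClosed_stalk_Proj (x : Proj (CohB1.polyGrading 1 k)) :
    IsIntegrallyClosed ((Proj (CohB1.polyGrading 1 k)).presheaf.stalk x) := by
  obtain ⟨i, hxi⟩ := exists_mem_basicOpen_P1 k x
  obtain ⟨j, hij⟩ : ∃ j : Fin 2, i ≠ j := by
    fin_cases i
    · exact ⟨1, by decide⟩
    · exact ⟨0, by decide⟩
  have hU : IsAffineOpen (Proj.basicOpen (CohB1.polyGrading 1 k) (X i : MvPolynomial (Fin 2) k)) :=
    Proj.isAffineOpen_basicOpen (CohB1.polyGrading 1 k) (X i) (Xi_mem k i) Nat.one_pos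
  let e := Proj.basicOpenIsoAway (CohB1.polyGrading 1 k) (X i : MvPolynomial (Fin 2) k)
    (Xi_mem k i) Nat.one_pos
  haveI := isIntegrallyClosed_B k i j hij
  haveI : IsIntegrallyClosed Γ(Proj (CohB1.polyGrading 1 k),
      Proj.basicOpen (CohB1.polyGrading 1 k) (X i : MvPolynomial (Fin 2) k)) :=
    IsIntegrallyClosed.of_equiv e.commRingCatIsoToRingEquiv
  haveI : Nonempty (Proj.basicOpen (CohB1.polyGrading 1 k) (X i : MvPolynomial (Fin 2) k)) :=
    ⟨⟨x, hxi⟩⟩
  haveI : IsDomain Γ(Proj (CohB1.polyGrading 1 k),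
      Proj.basicOpen (CohB1.polyGrading 1 k) (X i : MvPolynomial (Fin 2) k)) := inferInstance
  letI : Algebra Γ(Proj (CohB1.polyGrading 1 k),
      Proj.basicOpen (CohB1.polyGrading 1 k) (X i : MvPolynomial (Fin 2) k))
      ((Proj (CohB1.polyGrading 1 k)).presheaf.stalk x) :=
    TopCat.Presheaf.algebra_section_stalk (Proj (CohB1.polyGrading 1 k)).presheaf
      (⟨x, hxi⟩ : Proj.basicOpen (CohB1.polyGrading 1 k) (X i : MvPolynomial (Fin 2) k))
  haveI := hU.isLocalization_stalk ⟨x, hxi⟩
  exact isIntegrallyClosed_of_isLocalization _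
    (hU.primeIdealOf ⟨x, hxi⟩).asIdeal.primeCompl
    (Ideal.primeCompl_le_nonZeroDivisors _)

theorem isIntegrallyClosed_stalk_P1 (x : CohB1.ProjSpace 1 k) :
    IsIntegrallyClosed ((CohB1.ProjSpace 1 k).presheaf.stalk x) :=
  isIntegrallyClosed_stalk_Proj k x

end P1Normal

section DimOne

/-- in a `T₀` space of dimension at most one with a generic point `η`, every other point is
closed -/
theorem isClosed_singleton_of_dim_le_one {T : Type*} [TopologicalSpace T] [T0Space T]
    (hdim : topologicalKrullDim T ≤ 1) (η : T) (hη : closure ({η} : Set T) = Set.univ)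
    (x : T) (hx : x ≠ η) : IsClosed ({x} : Set T) := by
  have hcl : closure ({x} : Set T) = {x} := by
    refine Set.Subset.antisymm ?_ (subset_closure)
    intro y hy
    by_contra hyx
    rw [Set.mem_singleton_iff] at hyx
    -- a chain of length two
    let Z₀ : IrreducibleCloseds T := ⟨closure {y}, isIrreducible_singleton.closure, isClosed_closure⟩
    let Z₁ : IrreducibleCloseds T := ⟨closure {x}, isIrreducible_singleton.closure, isClosed_closure⟩
    let Z₂ : IrreducibleCloseds T := ⟨closure {η}, isIrreducible_singleton.closure, isClosed_closure⟩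
    have h01 : Z₀ < Z₁ := by
      refine lt_of_le_of_ne ?_ ?_
      · change closure {y} ⊆ closure {x}
        exact closure_minimal (Set.singleton_subset_iff.2 hy) isClosed_closure
      · intro h
        have h2 : (closure {y} : Set T) = closure {x} :=
          congrArg (fun Z : IrreducibleCloseds T => (Z : Set T)) h
        have hxy : x ∈ closure ({y} : Set T) := h2 ▸ subset_closure (Set.mem_singleton x)
        have h3 : y ⤳ x := specializes_iff_mem_closure.2 hxy
        have h4 : x ⤳ y := specializes_iff_mem_closure.2 hy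
        exact hyx (h3.antisymm h4).eq
    have h12 : Z₁ < Z₂ := by
      refine lt_of_le_of_ne ?_ ?_
      · change closure {x} ⊆ closure {η}
        rw [hη]
        exact Set.subset_univ _
      · intro h
        have h2 : (closure {x} : Set T) = closure {η} :=
          congrArg (fun Z : IrreducibleCloseds T => (Z : Set T)) h
        have hηx : η ∈ closure ({x} : Set T) := h2 ▸ subset_closure (Set.mem_singleton η)
        have h3 : x ⤳ η := specializes_iff_mem_closure.2 hηx
        have h4 : η ⤳ x := specializes_iff_mem_closure.2 (hη ▸ Set.mem_univ x)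
        exact hx (h3.antisymm h4).eq
    let p : LTSeries (IrreducibleCloseds T) :=
      ((RelSeries.singleton _ Z₀).snoc Z₁ h01).snoc Z₂ (by
        rw [RelSeries.last_snoc]
        exact h12)
    have hp := Order.LTSeries.length_le_krullDim p
    have h2 : ((2 : ℕ) : WithBot ℕ∞) ≤ topologicalKrullDim T := hp
    have h3 := h2.trans hdim
    exact absurd h3 (by decide)
  rw [← hcl]
  exact isClosed_closure

end DimOne

section P1Pts

attribute [local instance] Curv2.resAlgebra

variable (k : Type u) [Field k]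

local notation "ℙ" => CohB1.ProjSpace 1 k
local notation "𝕆(" d ")" => Twist.twistProjSpace 1 k d

/-- every point of the projective line is closed or generic -/
theorem isClosed_or_eq_genericPoint_P1 (x : ℙ) :
    IsClosed ({x} : Set ℙ) ∨ x = genericPoint ℙ := by
  by_cases h : x = genericPoint ℙ
  · exact Or.inr h
  · exact Or.inl (isClosed_singleton_of_dim_le_one (dim_P1 k).le (genericPoint ℙ)
      (genericPoint_spec ℙ) x h)

/-- the ideal of a closed point of the projective line has an invertible inverse of degree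
`[κ(x) : k]` -/
theorem exists_inverse_ideal_point_P1 (x : ℙ) (hx : IsClosed ({x} : Set ℙ)) :
    ∃ L : (ℙ).Modules, PicF.IsInvertible L ∧
      Curv2.deg k ℙ L 1 = (Module.finrank k ((ℙ).residueField x) : ℤ) ∧
      ClSub.IsInverseOf L (ClSub.idealMod (Scheme.IdealSheafData.vanishingIdeal ⟨{x}, hx⟩)) := by
  haveI := Groth.Agent.Helper4.NApx82.isNoetherian_of_proper k ℙ
  have hne := ne_genericPoint_of_isClosed (dim_P1 k) x hx
  exact exists_invertible_deg_point k (dim_P1 k).le x hx
    (isPrincipal_maximalIdeal_of_isIntegrallyClosed (dim_P1 k).le x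
      (isIntegrallyClosed_stalk_P1 k x))
    (maximalIdeal_ne_bot_of_ne_genericPoint x hne)

end P1Pts

section P1Pic

variable (k : Type u) [Field k]

local notation "ℙ" => CohB1.ProjSpace 1 k
local notation "𝕆(" d ")" => Twist.twistProjSpace 1 k d

open Groth.Agent.Helper1.KzLin

theorem isInvertible_tw (d : ℤ) : PicF.IsInvertible 𝕆(d) :=
  Groth.Agent.Helper1.SerreVan.isInvertible_twist 1 k d

theorem rank_tw (d : ℤ) : FlatMod.IsFinLocFreeOfRank 1 𝕆(d) :=
  Groth.Agent.Helper4.QAffSec.isFinLocFreeOfRank_one_of_isInvertible _ (isInvertible_tw k d)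

theorem isNoetherian_P1 : IsNoetherian ℙ :=
  Groth.Agent.Helper4.NApx82.isNoetherian_of_proper k ℙ

/-- the degree of `O(n)` is `n` -/
theorem deg_tw (n : ℤ) : Curv2.deg k ℙ 𝕆(n) 1 = n := by
  unfold Curv2.deg
  have h1 := chi_twist_P1 k n
  have h2 := chi_unit_P1 k
  unfold chi at h1 h2
  rw [h1, h2]
  push_cast
  ring

/-- the degree of a tensor product of invertible modules -/
theorem deg_tensor_invertible (M V : (ℙ).Modules) (hM : PicF.IsInvertible M)
    (hV : PicF.IsInvertible V) :
    Curv2.deg k ℙ (CohB1.tensorMod M V) 1 = Curv2.deg k ℙ V 1 + Curv2.deg k ℙ M 1 := by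
  have h := main7637 k (dim_P1 k).le 1 1 M V
    (Groth.Agent.Helper4.QAffSec.isFinLocFreeOfRank_one_of_isInvertible M hM)
    (Groth.Agent.Helper4.QAffSec.isFinLocFreeOfRank_one_of_isInvertible V hV)
  simpa using h

/-- an invertible module of degree zero on the projective line is trivial -/
theorem nonempty_iso_unit_of_deg_zero (N : (ℙ).Modules) (hN : PicF.IsInvertible N)
    (hdeg : Curv2.deg k ℙ N 1 = 0) : Nonempty (Coh.structureModule ℙ ≅ N) := by
  haveI := isNoetherian_P1 k
  have hχ : Curv2.euler k ℙ N = 1 := by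
    unfold Curv2.deg at hdeg
    have h2 := chi_unit_P1 k
    unfold chi at h2
    rw [h2] at hdeg
    push_cast at hdeg
    linarith
  have h01 := chi_eq_h0_sub_h1 k (dim_P1 k).le N
  unfold chi at h01
  rw [hχ] at h01
  have hpos : 0 < Module.finrank k (Coh.HH ℙ N 0) := by
    by_contra hc
    have : Module.finrank k (Coh.HH ℙ N 0) = 0 := by omega
    rw [this] at h01
    have h3 : (0 : ℤ) ≤ (Module.finrank k (Coh.HH ℙ N 1) : ℤ) := Int.natCast_nonneg _
    push_cast at h01
    linarith
  have hnt : Nontrivial (Coh.HH ℙ N 0) := Module.nontrivial_of_finrank_pos (R := k) hpos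
  obtain ⟨σ, hσ⟩ := exists_section_of_nontrivial_H0 N hnt
  obtain ⟨-, heul, hiso⟩ := Groth.Agent.Helper4.NApx82.hom_main k ℙ (dim_P1 k)
    (Coh.structureModule ℙ) N Groth.Agent.Helper4.TensorInv.isInvertible_structureModule hN σ hσ
  have h2 := chi_unit_P1 k
  unfold chi at h2
  rw [hχ, h2] at heul
  haveI : IsIso σ := hiso (by
    have : (Module.finrank k (Coh.HH ℙ (cokernel σ) 0) : ℤ) = 0 := by linarith
    exact_mod_cast this)
  exact ⟨asIso σ⟩

/-- **the Picard group of the projective line**: an invertible module is a twisting module -/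
theorem nonempty_iso_tw_of_isInvertible (M : (ℙ).Modules) (hM : PicF.IsInvertible M) (d : ℤ)
    (hd : Curv2.deg k ℙ M 1 = d) : Nonempty (M ≅ 𝕆(d)) := by
  have hN : PicF.IsInvertible (CohB1.tensorMod M 𝕆(-d)) :=
    Groth.Agent.Helper4.TensorInv.isInvertible_tensorMod hM (isInvertible_tw k (-d))
  have hdeg : Curv2.deg k ℙ (CohB1.tensorMod M 𝕆(-d)) 1 = 0 := by
    rw [deg_tensor_invertible k M _ hM (isInvertible_tw k (-d)), deg_tw, hd]
    ring
  obtain ⟨e⟩ := nonempty_iso_unit_of_deg_zero k _ hN hdeg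
  obtain ⟨e1⟩ := tw_tw_iso 1 k M (-d) d 0 (by ring)
  obtain ⟨e2⟩ := tw_zero_iso 1 k M
  exact ⟨e2.symm ≪≫ e1.symm ≪≫ PicGrp.tensorModIso e.symm (Iso.refl _) ≪≫
    Groth.Agent.Helper4.AmpleBasis.unitorL 𝕆(d)⟩

/-- `H¹(O(a)) = 0` for `a ≥ -1` -/
theorem subsingleton_H1_tw (a : ℤ) (ha : -1 ≤ a) : Subsingleton (Coh.HH ℙ 𝕆(a) 1) :=
  Groth.Agent.Helper1.SerreVan.subsingleton_HH_twist 1 k a 1 le_rfl (by push_cast; omega)

/-- `H⁰(O(a)) = 0` for `a < 0` -/
theorem subsingleton_H0_tw (a : ℤ) (ha : a < 0) : Subsingleton (Coh.HH ℙ 𝕆(a) 0) :=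
  Groth.Agent.S0844.result k 1 a 0 (fun h => by omega) (fun h => by omega)

/-- `h⁰(O(a)) = max (a + 1) 0` -/
theorem finrank_H0_tw (a : ℤ) : Module.finrank k (Coh.HH ℙ 𝕆(a) 0) = (a + 1).toNat := by
  haveI := isNoetherian_P1 k
  by_cases ha : a < 0
  · haveI := subsingleton_H0_tw k a ha
    rw [Module.finrank_zero_of_subsingleton]
    omega
  · have h01 := chi_eq_h0_sub_h1 k (dim_P1 k).le 𝕆(a)
    rw [chi_twist_P1] at h01
    haveI := subsingleton_H1_tw k a (by omega)
    rw [Module.finrank_zero_of_subsingleton (M := Coh.HH ℙ 𝕆(a) 1)] at h01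
    push_cast at h01
    omega

/-- the Euler characteristic of a twist of a locally free module -/
theorem chi_tensor_tw (E : (ℙ).Modules) (r : ℕ) (hE : FlatMod.IsFinLocFreeOfRank r E) (n : ℤ) :
    chi k ℙ (CohB1.tensorMod E 𝕆(n)) = r * n + chi k ℙ E := by
  have h := main7637 k (dim_P1 k).le r 1 E 𝕆(n) hE (rank_tw k n)
  rw [deg_tw] at h
  unfold Curv2.deg at h
  have h2 := chi_unit_P1 k
  unfold chi at h2 ⊢
  rw [h2] at h
  push_cast at h
  linarith

end P1Pic

end Groth.Agent.Helper4.SN
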