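import Mathlib
import Groth.Agent.Helper4.SN38
import Groth.Agent.Helper4.SN59
import Groth.Agent.Helper4.SN62
import Groth.Agent.Lead.FlatLib3
import Groth.Agent.Lead.Hartogs2
import Groth.Agent.Helper1.Dev16

/-!
# A section of a locally free module which vanishes nowhere generates a subbundle
-/

set_option autoImplicit false
set_option linter.unusedSectionVars false
set_option linter.style.haveILetI false
universe u

open CategoryTheory CategoryTheory.Limits AlgebraicGeometry TopologicalSpace Opposite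

namespace Groth.Agent.Helper4.SN

section LocalAlg

/-- if `v ∉ 𝔪 M` for a finite free module over a local ring, some linear form takes the value
one at `v` -/
theorem exists_dual_eq_one {R : Type*} [CommRing R] [IsLocalRing R] {M : Type*} [AddCommGroup M]
    [Module R M] {n : ℕ} (b : Module.Basis (Fin n) R M) (v : M)
    (hv : v ∉ (IsLocalRing.maximalIdeal R) • (⊤ : Submodule R M)) :
    ∃ ρ : M →ₗ[R] R, ρ v = 1 := by
  by_contra hc
  push Not at hc
  apply hv
  rw [← b.sum_repr v]
  refine Submodule.sum_mem _ (fun i _ => Submodule.smul_mem_smul ?_ Submodule.mem_top)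
  by_contra hu
  rw [IsLocalRing.mem_maximalIdeal, mem_nonunits_iff, not_not] at hu
  obtain ⟨u, hu'⟩ := hu
  refine hc ((↑u⁻¹ : R) • b.coord i) ?_
  rw [LinearMap.smul_apply, Module.Basis.coord_apply, ← hu', smul_eq_mul, Units.inv_mul]

variable {R : Type*} [CommRing R] {A M C : Type*} [AddCommGroup A] [Module R A]
  [AddCommGroup M] [Module R M] [AddCommGroup C] [Module R C]

theorem apply_eq_smul (f : A →ₗ[R] M) (ε : R ≃ₗ[R] A) (a : A) :
    f a = (ε.symm a) • f (ε 1) := by
  rw [← map_smul, ← map_smul, smul_eq_mul, mul_one, LinearEquiv.apply_symm_apply]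

theorem injective_of_dual (f : A →ₗ[R] M) (ε : R ≃ₗ[R] A) (ρ : M →ₗ[R] R)
    (hρ : ρ (f (ε 1)) = 1) : Function.Injective f := by
  rw [injective_iff_map_eq_zero]
  intro a ha
  have h1 := congrArg ρ (apply_eq_smul f ε a)
  rw [ha, map_zero, map_smul, hρ, smul_eq_mul, mul_one] at h1
  exact (LinearEquiv.map_eq_zero_iff ε.symm).1 h1.symm

theorem flat_of_exact_of_dual (f : A →ₗ[R] M) (g : M →ₗ[R] C) (hex : Function.Exact f g)
    (hg : Function.Surjective g) (ε : R ≃ₗ[R] A) (ρ : M →ₗ[R] R)
    (hρ : ρ (f (ε 1)) = 1) [Module.Flat R M] : Module.Flat R C := by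
  set v := f (ε 1) with hv
  let q : M →ₗ[R] M := LinearMap.id - (LinearMap.toSpanSingleton R M v).comp ρ
  have hq : ∀ m, q m = m - ρ m • v := fun m => rfl
  have hgv : g v = 0 := (hex v).2 ⟨ε 1, rfl⟩
  have hker : LinearMap.ker g ≤ LinearMap.ker q := by
    intro m hm
    obtain ⟨a, rfl⟩ := (hex m).1 hm
    rw [LinearMap.mem_ker, hq, apply_eq_smul f ε a, ← hv, map_smul, hρ, smul_eq_mul, mul_one,
      sub_self]
  let j : C →ₗ[R] M := ((LinearMap.ker g).liftQ q hker).comp
    (g.quotKerEquivOfSurjective hg).symm.toLinearMap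
  have hj : ∀ m, j (g m) = q m := by
    intro m
    change ((LinearMap.ker g).liftQ q hker) ((g.quotKerEquivOfSurjective hg).symm (g m)) = q m
    have : (g.quotKerEquivOfSurjective hg).symm (g m) = Submodule.Quotient.mk m := by
      rw [LinearEquiv.symm_apply_eq]
      rfl
    rw [this, Submodule.liftQ_apply]
  refine Module.Flat.of_retract j g ?_
  ext c
  obtain ⟨m, rfl⟩ := hg c
  rw [LinearMap.comp_apply, hj, hq, map_sub, map_smul, hgv, smul_zero, sub_zero,
    LinearMap.id_apply]

end LocalAlg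

section Subbundle

open Groth.Agent.Helper4.StalkDict Groth.Agent.Helper4.NApx82 Groth.Agent.Lead.WeakAss

variable {X : Scheme.{u}}

/-- the stalk map of `s : O ⟶ F` sends the unit to the germ of the global section -/
theorem stalkLin_unitEquiv_one {F : X.Modules} (s : Coh.structureModule X ⟶ F) (x : X) :
    stalkLin s x (Groth.Agent.Lead.Hartogs2.unitEquiv x 1) =
      F.presheaf.germ ⊤ x trivial (sec1 F s) := by
  have h1 : Groth.Agent.Lead.Hartogs2.unitEquiv x 1 = germF ⊤ x trivial (1 : Γ(X, ⊤)) := by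
    change (1 : X.presheaf.stalk x) • germF ⊤ x trivial (1 : Γ(X, ⊤)) = _
    rw [one_smul]
  rw [h1]
  have h2 := stalkLin_unit_germ s x ⊤ trivial (Groth.Agent.Helper4.GenLoc.one X ⊤)
  have h3 : germF ⊤ x trivial (1 : Γ(X, ⊤)) =
      (Coh.structureModule X).presheaf.germ ⊤ x trivial (Groth.Agent.Helper4.GenLoc.one X ⊤) := rfl
  rw [h3, h2]
  have h4 : Groth.Agent.Helper4.GenLoc.toFn (Groth.Agent.Helper4.GenLoc.one X ⊤) = 1 := rfl
  rw [h4, map_one, one_smul]

/-- **a nowhere vanishing section of a finite locally free module spans a subbundle** -/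
theorem cokernel_locallyFree [IsIntegral X] (F : X.Modules) (r : ℕ)
    (hF : FlatMod.IsFinLocFreeOfRank (r + 1) F) (s : Coh.structureModule X ⟶ F)
    (hs : ∀ x : X, F.presheaf.germ ⊤ x trivial (sec1 F s) ∉
      (IsLocalRing.maximalIdeal (X.presheaf.stalk x)) •
        (⊤ : Submodule (X.presheaf.stalk x) (F.presheaf.stalk x))) :
    Mono s ∧ FlatMod.IsFinLocFreeOfRank r (cokernel s) := by
  have hdual : ∀ x : X, ∃ ρ : F.presheaf.stalk x →ₗ[X.presheaf.stalk x] X.presheaf.stalk x,
      ρ (stalkLin s x (Groth.Agent.Lead.Hartogs2.unitEquiv x 1)) = 1 := by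
    intro x
    obtain ⟨b⟩ := nonempty_basis_stalk_of_rank F hF x
    rw [stalkLin_unitEquiv_one]
    exact exists_dual_eq_one b _ (hs x)
  haveI hmono : Mono s := by
    apply Groth.Agent.Helper4.AssMono.mono_of_stalkLin_injective
    intro x
    obtain ⟨ρ, hρ⟩ := hdual x
    exact injective_of_dual (stalkLin s x) (Groth.Agent.Lead.Hartogs2.unitEquiv x) ρ hρ
  refine ⟨hmono, ?_⟩
  have hS := Groth.Agent.Helper1.Dev.cokSC_shortExact s
  have hO : FlatMod.IsFinLocFreeOfRank 1 (Coh.structureModule X) :=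
    Groth.Agent.Helper4.QAffSec.isFinLocFreeOfRank_one_of_isInvertible _
      Groth.Agent.Helper4.TensorInv.isInvertible_structureModule
  have hflat : FlatMod.IsFlat (cokernel s) := by
    intro x
    obtain ⟨ρ, hρ⟩ := hdual x
    obtain ⟨b⟩ := nonempty_basis_stalk_of_rank F hF x
    haveI : Module.Free (X.presheaf.stalk x) (F.presheaf.stalk x) := Module.Free.of_basis b
    haveI : Epi (cokernel.π s) := inferInstance
    exact flat_of_exact_of_dual (stalkLin s x) (stalkLin (cokernel.π s) x)
      (Groth.Agent.Helper4.StalkExact.stalkLin_exact (Groth.Agent.Helper1.Dev.cokSC s) hS.exact x)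
      (Groth.Agent.Helper4.EpiStalk.stalkLin_surjective_of_epi (cokernel.π s) x)
      (Groth.Agent.Lead.Hartogs2.unitEquiv x) ρ hρ
  have hlf := Groth.Agent.Lead.FlatLib.isFinLocFree_of_cokernel_of_isFlat s (Iso.refl _)
    (FinLocFree7.isFinLocFree_of_rank _ hO) (FinLocFree7.isFinLocFree_of_rank _ hF) hflat
  have hrk := isFinLocFreeOfRank_of_isFinLocFree (cokernel s) hlf
  have hadd := rank_add_of_shortExact (Groth.Agent.Helper1.Dev.cokSC s) hS hO hF hrk
  have : Module.finrank (X.presheaf.stalk (genericPoint X))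
      ((cokernel s).presheaf.stalk (genericPoint X)) = r := by omega
  rw [this] at hrk
  exact hrk

end Subbundle

end Groth.Agent.Helper4.SN
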