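import Mathlib
import Groth.Agent.Helper4.SN97
import Groth.Agent.Helper4.SN88
import Groth.Agent.Helper4.SN60
import Groth.Agent.Helper4.SN57
import Groth.Agent.Helper4.SN32
import Groth.Agent.Helper4.SN16
import Groth.Agent.Helper4.QcohLocal

set_option autoImplicit false
set_option linter.unusedSectionVars false
set_option linter.style.haveILetI false
universe u

open CategoryTheory CategoryTheory.Limits AlgebraicGeometry TopologicalSpace Opposite TensorProduct

namespace Groth.Agent.Helper4.SN

section Vanish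

open Groth.Agent.Helper4.StalkDict Groth.Agent.Helper4.NApx82 Groth.Agent.Lead.WeakAss
  Groth.Agent.Lead.Ref1B

variable {X : Scheme.{u}}

/-- the unit equivalence on a germ -/
theorem unitEquiv_germ (x : X) (U : X.Opens) (hxU : x ∈ U) (f : Γ(X, U)) :
    Groth.Agent.Lead.Hartogs2.unitEquiv x (X.presheaf.germ U x hxU f) = germF U x hxU f := by
  change X.presheaf.germ U x hxU f • germF ⊤ x trivial (1 : Γ(X, ⊤)) = _
  have h1 : germF ⊤ x trivial (1 : Γ(X, ⊤)) = germF U x hxU 1 := by
    rw [← germF_res (homOfLE (le_top : U ≤ ⊤)) x hxU (1 : Γ(X, ⊤)), map_one]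
  rw [h1, germF_smul, mul_one]

/-- the maximal ideal at a closed point kills the stalk of the skyscraper -/
theorem maximalIdeal_smul_stalk_quotMod (x : X) (hx : IsClosed ({x} : Set X))
    (D : X.IdealSheafData) (hD : D = Scheme.IdealSheafData.vanishingIdeal ⟨{x}, hx⟩)
    (a : X.presheaf.stalk x) (ha : a ∈ IsLocalRing.maximalIdeal (X.presheaf.stalk x))
    (q : (ClSub.quotMod D).presheaf.stalk x) :
    a • q = 0 := by
  haveI := epi_toSubscheme D
  have key : ∀ b : X.presheaf.stalk x, b ∈ IsLocalRing.maximalIdeal (X.presheaf.stalk x) →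
      stalkLin (ClSub.toSubscheme D) x (Groth.Agent.Lead.Hartogs2.unitEquiv x b) = 0 := by
    intro b hb
    obtain ⟨W, hxW, g, rfl⟩ := TopCat.Presheaf.exists_germ_eq X.presheaf b
    obtain ⟨_, ⟨U, hU : IsAffineOpen U, rfl⟩, hxU, hUW⟩ :=
      X.isBasis_affineOpens.exists_subset_of_mem_open hxW W.isOpen
    have hUW' : U ≤ W := hUW
    set f : Γ(X, U) := X.presheaf.map (homOfLE hUW').op g with hf
    have hgf : X.presheaf.germ W x hxW g = X.presheaf.germ U x hxU f :=
      (TopCat.Presheaf.germ_res_apply X.presheaf (homOfLE hUW') x hxU g).symm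
    rw [hgf] at hb ⊢
    rw [unitEquiv_germ]
    unfold germF
    rw [Groth.Agent.Helper4.StalkExact.stalkLin_germ]
    let Ua : X.affineOpens := ⟨U, hU⟩
    letI alg : Algebra Γ(X, U) (X.presheaf.stalk x) :=
      TopCat.Presheaf.algebra_section_stalk X.presheaf (⟨x, hxU⟩ : U)
    haveI hloc : IsLocalization.AtPrime (X.presheaf.stalk x) (hU.primeIdealOf ⟨x, hxU⟩).asIdeal :=
      hU.isLocalization_stalk ⟨x, hxU⟩
    have hmem : f ∈ D.ideal Ua := by
      rw [hD, vanishingIdeal_point_ideal x hx Ua hxU]
      exact (IsLocalization.AtPrime.to_map_mem_maximal_iff (X.presheaf.stalk x)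
        (hU.primeIdealOf ⟨x, hxU⟩).asIdeal f).1 hb
    rw [← D.ker_subschemeι_app Ua, RingHom.mem_ker] at hmem
    have h0 : (ClSub.toSubscheme D).app U (toF U f) = 0 := hmem
    rw [h0, map_zero]
  obtain ⟨n, rfl⟩ := Groth.Agent.Helper4.EpiStalk.stalkLin_surjective_of_epi
    (ClSub.toSubscheme D) x q
  obtain ⟨r, rfl⟩ := (Groth.Agent.Lead.Hartogs2.unitEquiv x).surjective n
  rw [← map_smul, ← map_smul, smul_eq_mul]
  exact key _ (Ideal.mul_mem_right _ _ ha)

/-- if the section `s` vanishes at the closed point `x`, then `id ⊗ s` vanishes on the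
skyscraper at `x` -/
theorem tensorMap_id_eq_zero_of_vanishing (x : X) (hx : IsClosed ({x} : Set X))
    (D : X.IdealSheafData) (hD : D = Scheme.IdealSheafData.vanishingIdeal ⟨{x}, hx⟩)
    (F : X.Modules) (s : Coh.structureModule X ⟶ F)
    (hs : F.presheaf.germ ⊤ x trivial (sec1 F s) ∈
      (IsLocalRing.maximalIdeal (X.presheaf.stalk x)) •
        (⊤ : Submodule (X.presheaf.stalk x) (F.presheaf.stalk x))) :
    KoszTw.tensorMap (𝟙 (ClSub.quotMod D)) s = 0 := by
  apply Groth.Agent.Helper4.QcohLocal.eq_zero_of_stalkLin_eq_zero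
  intro y z
  by_cases hy : y ∈ CohB1.support (ClSub.quotMod D)
  · have hyx : y = x := by
      have h1 := support_quotMod_subset D hy
      rw [hD, Scheme.IdealSheafData.coe_support_vanishingIdeal] at h1
      exact h1
    subst hyx
    have hall : ∀ n : (Coh.structureModule X).presheaf.stalk y, stalkLin s y n ∈
        (IsLocalRing.maximalIdeal (X.presheaf.stalk y)) •
          (⊤ : Submodule (X.presheaf.stalk y) (F.presheaf.stalk y)) := by
      intro n
      obtain ⟨r, rfl⟩ := (Groth.Agent.Lead.Hartogs2.unitEquiv y).surjective n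
      have h1 : Groth.Agent.Lead.Hartogs2.unitEquiv y r =
          r • Groth.Agent.Lead.Hartogs2.unitEquiv y 1 := by
        rw [← map_smul, smul_eq_mul, mul_one]
      rw [h1, map_smul, stalkLin_unitEquiv_one]
      exact Submodule.smul_mem _ _ hs
    obtain ⟨w, rfl⟩ := (stalkTensorEquiv (ClSub.quotMod D) (Coh.structureModule X) y).surjective z
    induction w using TensorProduct.induction_on with
    | zero => rw [map_zero, map_zero]
    | tmul q n =>
      rw [stalkLin_tensorMap_tmul]
      have h2 : ∀ m ∈ (IsLocalRing.maximalIdeal (X.presheaf.stalk y)) •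
          (⊤ : Submodule (X.presheaf.stalk y) (F.presheaf.stalk y)),
          stalkTensorEquiv (ClSub.quotMod D) F y
            (stalkLin (𝟙 (ClSub.quotMod D)) y q ⊗ₜ m) = 0 := by
        intro m hm
        refine Submodule.smul_induction_on hm ?_ ?_
        · intro r hr m' _
          rw [← TensorProduct.smul_tmul,
            maximalIdeal_smul_stalk_quotMod y hx D hD r hr, TensorProduct.zero_tmul, map_zero]
        · intro m' m'' h' h''
          rw [TensorProduct.tmul_add, map_add, h', h'', add_zero]
      exact h2 _ (hall n)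
    | add w w' hw hw' => rw [map_add, map_add, hw, hw', add_zero]
  · have hsub : Subsingleton ((ClSub.quotMod D).presheaf.stalk y) := not_not.mp hy
    haveI : Subsingleton ((CohB1.tensorMod (ClSub.quotMod D)
        (Coh.structureModule X)).presheaf.stalk y) :=
      (stalkTensorEquiv (ClSub.quotMod D) (Coh.structureModule X) y).symm.toEquiv.subsingleton
    rw [Subsingleton.elim z 0, map_zero]

/-- **a section of a finite locally free module vanishing at a closed point comes from the twist by
the ideal of the point** -/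
theorem exists_section_ideal_twist [IsIntegral X] (x : X) (hx : IsClosed ({x} : Set X))
    (F : X.Modules) (hF : FlatMod.IsFinLocFree F) (s : Coh.structureModule X ⟶ F) (hs0 : s ≠ 0)
    (hs : F.presheaf.germ ⊤ x trivial (sec1 F s) ∈
      (IsLocalRing.maximalIdeal (X.presheaf.stalk x)) •
        (⊤ : Submodule (X.presheaf.stalk x) (F.presheaf.stalk x))) :
    ∃ s' : Coh.structureModule X ⟶
      CohB1.tensorMod (ClSub.idealMod (Scheme.IdealSheafData.vanishingIdeal ⟨{x}, hx⟩)) F,
      s' ≠ 0 := by
  obtain ⟨D, hD⟩ : ∃ D, D = Scheme.IdealSheafData.vanishingIdeal ⟨{x}, hx⟩ := ⟨_, rfl⟩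
  rw [← hD]
  haveI : F.IsQuasicoherent := FinLocFree4.isQuasicoherent_of_isFinLocFree F hF
  have hflat : ∀ y : X, Module.Flat (X.presheaf.stalk y) (F.presheaf.stalk y) := fun y => by
    haveI := FinLocFree2.free_stalk_of_isFinLocFree F hF y
    infer_instance
  have hS' := shortExact_map_tensorRightMod_of_flat (idealSC D) (idealSC_shortExact D) F hflat
  haveI := hS'.mono_f
  set t : Coh.structureModule X ⟶ CohB1.tensorMod (Coh.structureModule X) F :=
    SecTwist.tmulHom (𝟙 (Coh.structureModule X)) s with ht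
  have hg : ((idealSC D).map (DCoh.tensorRightMod F)).g =
      KoszTw.tensorMap (ClSub.toSubscheme D) (𝟙 F) := KoszTw.tensorRightMod_map _ _
  have hkey : t ≫ KoszTw.tensorMap (ClSub.toSubscheme D) (𝟙 F) = 0 := by
    rw [ht, tmulHom_comp_tensorMap, Category.id_comp, Category.comp_id]
    have h1 : SecTwist.tmulHom (ClSub.toSubscheme D) s =
        SecTwist.tmulHom (ClSub.toSubscheme D ≫ 𝟙 _) (𝟙 (Coh.structureModule X) ≫ s) := by
      rw [Category.id_comp, Category.comp_id]
    rw [h1, ← tmulHom_comp_tensorMap, tensorMap_id_eq_zero_of_vanishing x hx D hD F s hs,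
      comp_zero]
  have htg : t ≫ ((idealSC D).map (DCoh.tensorRightMod F)).g = 0 := by
    rw [hg]
    exact hkey
  refine ⟨hS'.exact.lift t htg, fun h0 => ?_⟩
  have h2 : t = 0 := by
    rw [← hS'.exact.lift_f t htg, h0]
    exact zero_comp
  have hO : FlatMod.IsFinLocFree (Coh.structureModule X) :=
    FinLocFree7.isFinLocFree_of_rank _
      (Groth.Agent.Helper4.QAffSec.isFinLocFreeOfRank_one_of_isInvertible _
        Groth.Agent.Helper4.TensorInv.isInvertible_structureModule)
  haveI : (Coh.structureModule X).IsQuasicoherent :=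
    FinLocFree4.isQuasicoherent_of_isFinLocFree _ hO
  rcases tmulHom_eq_zero hO hF (𝟙 (Coh.structureModule X)) s h2 with h3 | h3
  · apply hs0
    rw [← Category.id_comp s, h3, zero_comp]
  · exact hs0 h3

end Vanish

end Groth.Agent.Helper4.SN
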