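import Mathlib
import Groth.Agent.Helper4.SN96
import Groth.Agent.Helper4.SN97
import Groth.Agent.Helper4.SN98
import Groth.Agent.Helper4.SN77
import Groth.Agent.Helper1.SerreFin3
import Groth.Agent.S7679

/-!
# The projective line: normalisation of a vector bundle and the sub line bundle of maximal degree
-/

set_option autoImplicit false
set_option linter.unusedSectionVars false
set_option linter.style.haveILetI false
universe u

open CategoryTheory CategoryTheory.Limits AlgebraicGeometry TopologicalSpace Opposite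

namespace Groth.Agent.Helper4.SN

section P1Ideal

attribute [local instance] Curv2.resAlgebra

variable (k : Type u) [Field k]

local notation "ℙ" => CohB1.ProjSpace 1 k
local notation "𝕆(" d ")" => Twist.twistProjSpace 1 k d

/-- the residue field of a closed point of the projective line has positive degree -/
theorem finrank_residueField_pos_P1 (x : ℙ) (hx : IsClosed ({x} : Set ℙ)) :
    0 < Module.finrank k ((ℙ).residueField x) := by
  haveI := isNoetherian_P1 k
  rw [← finrank_h0_quotMod_point k x hx]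
  obtain ⟨D, hD⟩ : ∃ D, D = Scheme.IdealSheafData.vanishingIdeal ⟨{x}, hx⟩ := ⟨_, rfl⟩
  rw [← hD]
  haveI : Module.Finite k (Coh.HH ℙ (ClSub.quotMod D) 0) :=
    Groth.Agent.Helper1.SerreFin.finite_HH 1 k _ (isCoh_quotMod D) 0
  haveI : Nonempty D.subscheme := by
    have h1 : x ∈ Set.range D.subschemeι := by
      rw [Scheme.IdealSheafData.range_subschemeι, hD,
        Scheme.IdealSheafData.coe_support_vanishingIdeal]
      exact Set.mem_singleton x
    obtain ⟨z, -⟩ := h1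
    exact ⟨z⟩
  haveI : Nonempty ↥(D.subschemeι ⁻¹ᵁ (⊤ : (ℙ).Opens)) := by
    obtain ⟨z⟩ := ‹Nonempty D.subscheme›
    exact ⟨⟨z, trivial⟩⟩
  haveI h5 : Nontrivial Γ(D.subscheme, D.subschemeι ⁻¹ᵁ (⊤ : (ℙ).Opens)) := inferInstance
  haveI : Nontrivial ((Coh.toAb (ClSub.quotMod D)).obj.obj (op ⊤)) := h5
  haveI : Nontrivial (Coh.HH ℙ (ClSub.quotMod D) 0) :=
    (Groth.Agent.Lead.ProperFinA.h0Equiv (ClSub.quotMod D)).toEquiv.nontrivial
  exact Module.finrank_pos

/-- the ideal of a closed point of the projective line is a negative twisting module -/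
theorem exists_ideal_point_iso_tw (x : ℙ) (hx : IsClosed ({x} : Set ℙ)) :
    ∃ e : ℤ, 1 ≤ e ∧
      Nonempty (ClSub.idealMod (Scheme.IdealSheafData.vanishingIdeal ⟨{x}, hx⟩) ≅ 𝕆(-e)) := by
  haveI := isNoetherian_P1 k
  have hne := ne_genericPoint_of_isClosed (dim_P1 k) x hx
  have hprin := isPrincipal_maximalIdeal_of_isIntegrallyClosed (dim_P1 k).le x
    (isIntegrallyClosed_stalk_P1 k x)
  have hbot := maximalIdeal_ne_bot_of_ne_genericPoint x hne
  obtain ⟨L, hL, hdeg, ⟨ε⟩⟩ := exists_invertible_deg_point k (dim_P1 k).le x hx hprin hbot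
  have hD := isEffCartierIdeal_point x hx hprin hbot
  have hI := Groth.Agent.Lead.IdealModDict.isInvertible_of_isEffCartierIdeal _ hD
  refine ⟨(Module.finrank k ((ℙ).residueField x) : ℤ), ?_, ?_⟩
  · exact_mod_cast finrank_residueField_pos_P1 k x hx
  · apply nonempty_iso_tw_of_isInvertible k _ hI
    have h1 := deg_tensor_invertible k L _ hL hI
    rw [deg_iso k ε 1, Groth.Agent.Helper4.NApx82.deg_structureModule k ℙ, hdeg] at h1
    linarith

end P1Ideal

section P1Norm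

variable (k : Type u) [Field k]

local notation "ℙ" => CohB1.ProjSpace 1 k
local notation "𝕆(" d ")" => Twist.twistProjSpace 1 k d

open Groth.Agent.Helper1.KzLin Groth.Agent.Helper1.ProjTop

/-- `O(a) ⊗ O(b) ≅ O(a + b)` -/
theorem tw_mul_iso (a b c : ℤ) (h : c = a + b) :
    Nonempty (CohB1.tensorMod 𝕆(a) 𝕆(b) ≅ 𝕆(c)) :=
  Groth.Agent.Helper1.TwistMul.nonempty_twist_tensor_twist_iso
    (CohB1.polyGrading 1 k) (Groth.Agent.Helper1.SerreFin.hcov_poly 1 k) a b c h

/-- tensor powers of `O(-1)` -/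
theorem tensorPow_tw_neg_one (n : ℕ) :
    Nonempty (CohB1.tensorPow 𝕆(-1) n ≅ 𝕆(-(n : ℤ))) := by
  induction n with
  | zero =>
    obtain ⟨e⟩ := tw_zero 1 k
    exact ⟨e.symm⟩
  | succ n ih =>
    obtain ⟨e⟩ := ih
    obtain ⟨e'⟩ := tw_mul_iso k (-(n : ℤ)) (-1) (-((n + 1 : ℕ) : ℤ)) (by push_cast; ring)
    exact ⟨PicGrp.tensorModIso e (Iso.refl _) ≪≫ e'⟩

/-- a finite locally free module on the projective line has no closed associated points -/
theorem not_isAssPoint_of_isClosed (E : (ℙ).Modules) (r : ℕ)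
    (hE : FlatMod.IsFinLocFreeOfRank r E) (x : ℙ) (hx : IsClosed ({x} : Set ℙ)) :
    ¬ Curv2.IsAssPoint E x := by
  rintro ⟨-, m, hm⟩
  obtain ⟨b⟩ := nonempty_basis_stalk_of_rank E hE x
  have hne := ne_genericPoint_of_isClosed (dim_P1 k) x hx
  have hbot := maximalIdeal_ne_bot_of_ne_genericPoint x hne
  obtain ⟨a, ha, ha0⟩ := Submodule.exists_mem_ne_zero_of_ne_bot hbot
  rw [hm] at ha
  obtain ⟨n, hn⟩ := ha
  rw [Submodule.mem_colon_singleton, Submodule.mem_bot] at hn
  have han : a ^ n ≠ 0 := pow_ne_zero n ha0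
  have hm0 : m = 0 := by
    apply b.repr.injective
    ext i
    have h2 := congrArg (fun v => b.repr v i) hn
    simp only [map_smul, Finsupp.smul_apply, smul_eq_mul, map_zero, Finsupp.zero_apply] at h2
    rw [map_zero, Finsupp.zero_apply]
    exact (mul_eq_zero.1 h2).resolve_left han
  have htop : IsLocalRing.maximalIdeal ((ℙ).presheaf.stalk x) = ⊤ := by
    rw [hm, hm0, Ideal.radical_eq_top, Ideal.eq_top_iff_one, Submodule.mem_colon_singleton,
      smul_zero]
    exact Submodule.zero_mem _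
  exact (IsLocalRing.maximalIdeal.isMaximal _).ne_top htop

/-- `O(1)` is ample on the projective line -/
theorem isAmple_tw_one : CohB1.IsAmple 𝕆(1) := by
  apply isAmple_of_deg_pos k (dim_P1 k) 𝕆(1) (isInvertible_tw k 1)
  rw [deg_tw]
  norm_num

/-- negative twists of a locally free module have no sections -/
theorem exists_bound_H0_twist (E : (ℙ).Modules) (r : ℕ) (hE : FlatMod.IsFinLocFreeOfRank r E) :
    ∃ n₀ : ℕ, ∀ d : ℤ, d ≤ -(n₀ : ℤ) →
      Subsingleton (Coh.HH ℙ (CohB1.tensorMod E 𝕆(d)) 0) := by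
  have hcE : Coh.IsCoh E :=
    Groth.Agent.Lead.PerfLib.isCoh_of_isFinLocFree (FinLocFree7.isFinLocFree_of_rank E hE)
  have hinv : ClSub.IsInverseOf 𝕆(1) 𝕆(-1) := by
    obtain ⟨e⟩ := tw_mul_iso k 1 (-1) 0 (by ring)
    obtain ⟨e'⟩ := tw_zero 1 k
    exact ⟨e ≪≫ e'⟩
  obtain ⟨n₀, hn₀⟩ := Groth.Agent.S7679.result k ℙ 𝕆(1) (isAmple_tw_one k) 𝕆(-1) hinv E hcE
    (fun x hx => not_isAssPoint_of_isClosed k E r hE x hx)
  refine ⟨n₀, fun d hd => ?_⟩
  obtain ⟨n, rfl⟩ : ∃ n : ℕ, d = -(n : ℤ) := ⟨(-d).toNat, by omega⟩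
  have hn : n₀ ≤ n := by omega
  haveI := hn₀ n hn
  obtain ⟨e⟩ := tensorPow_tw_neg_one k n
  exact (HHlinEquiv k (X := ℙ) (PicGrp.tensorModIso (Iso.refl E) e) 0).symm.toEquiv.subsingleton

/-- a large twist of a locally free module of positive rank has a section -/
theorem exists_nontrivial_H0_twist (E : (ℙ).Modules) (r : ℕ) (hr : 0 < r)
    (hE : FlatMod.IsFinLocFreeOfRank r E) :
    ∃ d : ℤ, Nontrivial (Coh.HH ℙ (CohB1.tensorMod E 𝕆(d)) 0) := by
  haveI := isNoetherian_P1 k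
  refine ⟨max 0 (1 - chi k ℙ E), ?_⟩
  have h1 := chi_tensor_tw k E r hE (max 0 (1 - chi k ℙ E))
  have h2 := chi_eq_h0_sub_h1 k (dim_P1 k).le (CohB1.tensorMod E 𝕆(max 0 (1 - chi k ℙ E)))
  have hr' : (1 : ℤ) ≤ (r : ℤ) := by exact_mod_cast hr
  have h3 : (0 : ℤ) ≤ max 0 (1 - chi k ℙ E) := le_max_left _ _
  have h4 : 1 - chi k ℙ E ≤ max 0 (1 - chi k ℙ E) := le_max_right _ _
  have h5 : (1 : ℤ) ≤ r * max 0 (1 - chi k ℙ E) + chi k ℙ E := by nlinarith
  have hpos : 0 < Module.finrank k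
      (Coh.HH ℙ (CohB1.tensorMod E 𝕆(max 0 (1 - chi k ℙ E))) 0) := by
    have h6 : (0 : ℤ) ≤ (Module.finrank k
      (Coh.HH ℙ (CohB1.tensorMod E 𝕆(max 0 (1 - chi k ℙ E))) 1) : ℤ) := Int.natCast_nonneg _
    have h7 : (0 : ℤ) < (Module.finrank k
      (Coh.HH ℙ (CohB1.tensorMod E 𝕆(max 0 (1 - chi k ℙ E))) 0) : ℤ) := by linarith
    exact_mod_cast h7
  exact Module.nontrivial_of_finrank_pos (R := k) hpos

/-- **normalisation**: the smallest twist with a section -/
theorem exists_normalization (E : (ℙ).Modules) (r : ℕ) (hr : 0 < r)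
    (hE : FlatMod.IsFinLocFreeOfRank r E) :
    ∃ d₀ : ℤ, Nontrivial (Coh.HH ℙ (CohB1.tensorMod E 𝕆(d₀)) 0) ∧
      ∀ d : ℤ, d < d₀ → Subsingleton (Coh.HH ℙ (CohB1.tensorMod E 𝕆(d)) 0) := by
  obtain ⟨n₀, hn₀⟩ := exists_bound_H0_twist k E r hE
  obtain ⟨d₀, hd₀, hmin⟩ := Int.exists_least_of_bdd
    (P := fun d : ℤ => Nontrivial (Coh.HH ℙ (CohB1.tensorMod E 𝕆(d)) 0))
    ⟨-(n₀ : ℤ), fun z hz => by
      by_contra hc
      push Not at hc
      haveI := hn₀ z hc.le
      exact not_subsingleton _ ‹_›⟩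
    (exists_nontrivial_H0_twist k E r hr hE)
  refine ⟨d₀, hd₀, fun d hd => ?_⟩
  by_contra hc
  rw [not_subsingleton_iff_nontrivial] at hc
  have := hmin d hc
  omega

/-- a module without `H⁰` has no nonzero sections -/
theorem eq_zero_of_subsingleton_H0 {X : Scheme.{u}} (G : X.Modules)
    (h : Subsingleton (Coh.HH X G 0)) (σ : Coh.structureModule X ⟶ G) : σ = 0 := by
  by_contra hne
  have e := Groth.Agent.Lead.ProperFinA.h0Equiv G
  haveI : Subsingleton ((Coh.toAb G).obj.obj (op ⊤)) := e.symm.toEquiv.subsingleton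
  exact hne (eq_zero_of_sec1 σ (Subsingleton.elim _ _))

/-- **the sub line bundle of maximal degree**: a normalised locally free module of rank `r + 1`
is an extension of a locally free module of rank `r` by the structure sheaf -/
theorem exists_sub_line_bundle (F : (ℙ).Modules) (r : ℕ)
    (hF : FlatMod.IsFinLocFreeOfRank (r + 1) F)
    (h0 : Nontrivial (Coh.HH ℙ F 0))
    (hneg : ∀ e : ℤ, 1 ≤ e → Subsingleton (Coh.HH ℙ (CohB1.tensorMod F 𝕆(-e)) 0)) :
    ∃ s : Coh.structureModule ℙ ⟶ F, Mono s ∧ FlatMod.IsFinLocFreeOfRank r (cokernel s) := by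
  obtain ⟨s, hs0⟩ := exists_section_of_nontrivial_H0 F h0
  have hF' := FinLocFree7.isFinLocFree_of_rank F hF
  haveI : F.IsQuasicoherent := FinLocFree4.isQuasicoherent_of_isFinLocFree F hF'
  refine ⟨s, cokernel_locallyFree F r hF s (fun x hmem => ?_)⟩
  rcases isClosed_or_eq_genericPoint_P1 k x with hx | hx
  · obtain ⟨s', hs'⟩ := exists_section_ideal_twist x hx F hF' s hs0 hmem
    obtain ⟨e, he, ⟨ε⟩⟩ := exists_ideal_point_iso_tw k x hx
    let θ : CohB1.tensorMod (ClSub.idealMod (Scheme.IdealSheafData.vanishingIdeal ⟨{x}, hx⟩)) F ≅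
        CohB1.tensorMod F 𝕆(-e) :=
      Groth.Agent.Lead.Ref1B.braid _ _ ≪≫ PicGrp.tensorModIso (Iso.refl F) ε
    have h1 := eq_zero_of_subsingleton_H0 _ (hneg e he) (s' ≫ θ.hom)
    apply hs'
    rw [← cancel_mono θ.hom, h1, zero_comp]
  · subst hx
    haveI := isNoetherian_P1 k
    have hbot : (IsLocalRing.maximalIdeal ((ℙ).presheaf.stalk (genericPoint ℙ))) •
        (⊤ : Submodule ((ℙ).presheaf.stalk (genericPoint ℙ))
          (F.presheaf.stalk (genericPoint ℙ))) = ⊥ := by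
      have : IsLocalRing.maximalIdeal ((ℙ).presheaf.stalk (genericPoint ℙ)) = ⊥ := by
        rw [eq_bot_iff]
        intro a ha
        exact Groth.Agent.Lead.Ref1I.eq_zero_of_mem_maximalIdeal_generic a ha
      rw [this, Submodule.bot_smul]
    rw [hbot, Submodule.mem_bot] at hmem
    exact hs0 (eq_zero_of_sec1 s (eq_zero_of_germ_generic F hF' _ hmem))

end P1Norm

end Groth.Agent.Helper4.SN
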