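import Mathlib
import Groth.Agent.Helper4.SN99
import Groth.Agent.Helper4.SN100
import Groth.Agent.Helper1.EulerCoh

/-!
# Splitting of an extension of a sum of twisting modules by the structure sheaf on the projective line
-/

set_option autoImplicit false
set_option linter.unusedSectionVars false
set_option linter.style.haveILetI false
universe u

open CategoryTheory CategoryTheory.Limits AlgebraicGeometry TopologicalSpace Opposite

namespace Groth.Agent.Helper4.SN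

section P1Split

variable (k : Type u) [Field k]

local notation "ℙ" => CohB1.ProjSpace 1 k
local notation "𝕆(" d ")" => Twist.twistProjSpace 1 k d

open Groth.Agent.Helper1.KzLin Groth.Agent.Helper1.ProjTop Groth.Agent.Helper1.HHLes
  Groth.Agent.Helper1.TwistExact

/-- if a finite coproduct has no `H⁰`, neither have the summands -/
theorem subsingleton_H0_component {X : Scheme.{u}} [X.Over (Spec (CommRingCat.of k))] {r : ℕ}
    (M : Fin r → X.Modules) (n : ℕ) (h : Subsingleton (Coh.HH X (∐ M) n)) (j : Fin r) :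
    Subsingleton (Coh.HH X (M j) n) := by
  classical
  haveI : Subsingleton (∀ j, Coh.HH X (M j) n) :=
    (Groth.Agent.Helper1.EulerCoh.sigmaEquiv (A := k) M n).symm.toEquiv.subsingleton
  refine ⟨fun a b => ?_⟩
  have h1 : (Pi.single j a : ∀ j, Coh.HH X (M j) n) = Pi.single j b := Subsingleton.elim _ _
  have h2 := congrFun h1 j
  rwa [Pi.single_eq_same, Pi.single_eq_same] at h2

/-- twisting a sum of twisting modules -/
theorem sigma_tw_tensor_iso {r : ℕ} (b : Fin r → ℤ) (a : ℤ) :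
    Nonempty (CohB1.tensorMod (∐ fun i : Fin r => 𝕆(b i)) 𝕆(a) ≅
      ∐ fun i : Fin r => 𝕆(b i + a)) := by
  obtain ⟨e⟩ := nonempty_sigma_tensor_iso (fun i : Fin r => 𝕆(b i)) 𝕆(a)
  have e' : ∀ i : Fin r, CohB1.tensorMod 𝕆(b i) 𝕆(a) ≅ 𝕆(b i + a) := fun i =>
    (tw_mul_iso k (b i) a (b i + a) rfl).some
  exact ⟨e ≪≫ Sigma.mapIso e'⟩

/-- in an extension of `∐ O(b i)` by `O` whose middle term has no sections after the twist by
`O(-1)`, all `b i` are nonpositive -/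
theorem le_zero_of_extension (S : ShortComplex (ℙ).Modules) (hS : S.ShortExact)
    (u : S.X₁ ≅ Coh.structureModule ℙ) {r : ℕ} (b : Fin r → ℤ)
    (θ : S.X₃ ≅ ∐ fun i : Fin r => 𝕆(b i))
    (hneg : Subsingleton (Coh.HH ℙ (CohB1.tensorMod S.X₂ 𝕆(-1)) 0)) (i : Fin r) : b i ≤ 0 := by
  have hS' := shortExact_map_tensorRightMod hS 𝕆(-1) (isInvertible_tw k (-1))
  -- `H¹` of the twisted kernel vanishes
  have h1 : Subsingleton (Coh.HH ℙ (CohB1.tensorMod S.X₁ 𝕆(-1)) 1) := by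
    haveI := subsingleton_H1_tw k (-1) le_rfl
    exact (HHlinEquiv k (X := ℙ) (PicGrp.tensorModIso u (Iso.refl 𝕆(-1)) ≪≫
      Groth.Agent.Helper4.AmpleBasis.unitorL 𝕆(-1)) 1).toEquiv.subsingleton
  -- `H⁰` of the twisted quotient vanishes
  have h3 : Subsingleton (Coh.HH ℙ (CohB1.tensorMod S.X₃ 𝕆(-1)) 0) := by
    refine ⟨fun c c' => ?_⟩
    have key : ∀ c : Coh.HH ℙ (CohB1.tensorMod S.X₃ 𝕆(-1)) 0, c = 0 := by
      intro c
      have h1' : Subsingleton (Coh.HH ℙ (S.map (DCoh.tensorRightMod 𝕆(-1))).X₁ (0 + 1)) := h1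
      have h2' : Subsingleton (Coh.HH ℙ (S.map (DCoh.tensorRightMod 𝕆(-1))).X₂ 0) := hneg
      have hδ : δ k (S.map (DCoh.tensorRightMod 𝕆(-1))) hS' 0 c = 0 := h1'.elim _ _
      obtain ⟨y, hy⟩ := (exact_g_δ k (S.map (DCoh.tensorRightMod 𝕆(-1))) hS' 0 c).1 hδ
      rw [← hy, h2'.elim y 0, map_zero]
      rfl
    rw [key c, key c']
  obtain ⟨e⟩ := sigma_tw_tensor_iso k b (-1)
  haveI h4 : Subsingleton (Coh.HH ℙ (∐ fun i : Fin r => 𝕆(b i + -1)) 0) :=
    (HHlinEquiv k (X := ℙ) (PicGrp.tensorModIso θ (Iso.refl 𝕆(-1)) ≪≫ e) 0).symm.toEquiv.subsingleton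
  haveI := subsingleton_H0_component k (fun i : Fin r => 𝕆(b i + -1)) 0 h4 i
  have h5 := finrank_H0_tw k (b i + -1)
  rw [Module.finrank_zero_of_subsingleton] at h5
  omega

/-- **an extension of `∐ O(b i)` by `O` whose middle term has no sections after the twist by
`O(-1)` splits** -/
theorem nonempty_iso_sigma_of_extension (S : ShortComplex (ℙ).Modules) (hS : S.ShortExact)
    (u : S.X₁ ≅ Coh.structureModule ℙ) {r : ℕ} (b : Fin r → ℤ)
    (θ : S.X₃ ≅ ∐ fun i : Fin r => 𝕆(b i))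
    (hneg : Subsingleton (Coh.HH ℙ (CohB1.tensorMod S.X₂ 𝕆(-1)) 0)) :
    Nonempty (S.X₂ ≅ ∐ fun j : Fin (r + 1) => 𝕆((Fin.cons 0 b : Fin (r + 1) → ℤ) j)) := by
  have hb : ∀ i, b i ≤ 0 := le_zero_of_extension k S hS u b θ hneg
  have hlift : ∀ i : Fin r, ∃ ψ : 𝕆(b i) ⟶ S.X₂,
      ψ ≫ S.g = Sigma.ι (fun i : Fin r => 𝕆(b i)) i ≫ θ.inv := by
    intro i
    obtain ⟨e1⟩ := tw_mul_iso k (-(b i)) (b i) 0 (by ring)
    obtain ⟨e2⟩ := tw_mul_iso k (b i) (-(b i)) 0 (by ring)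
    obtain ⟨e0⟩ := tw_zero 1 k
    have h1 : Subsingleton (Coh.HH ℙ (CohB1.tensorMod S.X₁ 𝕆(-(b i))) 1) := by
      haveI := subsingleton_H1_tw k (-(b i)) (by have := hb i; omega)
      exact (HHlinEquiv k (X := ℙ) (PicGrp.tensorModIso u (Iso.refl 𝕆(-(b i))) ≪≫
        Groth.Agent.Helper4.AmpleBasis.unitorL 𝕆(-(b i))) 1).toEquiv.subsingleton
    exact exists_lift_twist k S hS 𝕆(b i) 𝕆(-(b i)) (isInvertible_tw k _) (e1 ≪≫ e0)
      (e2 ≪≫ e0).symm h1 _
  choose ψ hψ using hlift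
  let σ : S.X₃ ⟶ S.X₂ := θ.hom ≫ Sigma.desc ψ
  have hσ : σ ≫ S.g = 𝟙 S.X₃ := by
    have h2 : Sigma.desc ψ ≫ S.g = θ.inv := by
      apply Sigma.hom_ext
      intro i
      rw [Sigma.ι_desc_assoc, hψ]
    change (θ.hom ≫ Sigma.desc ψ) ≫ S.g = _
    rw [Category.assoc, h2, Iso.hom_inv_id]
  have spl := ShortComplex.Splitting.ofExactOfSection S hS.exact σ hσ hS.mono_f
  obtain ⟨e0⟩ := tw_zero 1 k
  exact nonempty_iso_sigma_of_splitting
    (fun j : Fin (r + 1) => 𝕆((Fin.cons 0 b : Fin (r + 1) → ℤ) j)) S spl (e0 ≪≫ u.symm) θ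

end P1Split

section Rank

/-- twisting by an invertible module does not change the rank -/
theorem isFinLocFreeOfRank_tensor_invertible {X : Scheme.{u}} (E L : X.Modules) (n : ℕ)
    (hE : FlatMod.IsFinLocFreeOfRank n E) (hL : PicF.IsInvertible L) :
    FlatMod.IsFinLocFreeOfRank n (CohB1.tensorMod E L) := by
  intro x
  obtain ⟨U, hxU, hU⟩ := hE x
  obtain ⟨V, hxV, hV⟩ := hL x
  obtain ⟨ε⟩ := Groth.Agent.Helper4.FinLocFree.IsFreeAlong.of_le (inf_le_left : U ⊓ V ≤ U) hU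
  obtain ⟨ε'⟩ := Groth.Agent.Helper4.TensorInv.IsTrivAlong.of_le (inf_le_right : U ⊓ V ≤ V) hV
  exact ⟨U ⊓ V, ⟨hxU, hxV⟩, ⟨(Groth.Agent.Helper4.TensorRes.resIso (U ⊓ V).ι E L).symm ≪≫
    PicGrp.tensorModIso ε ε' ≪≫ SecTwist.unitorR _⟩⟩

/-- an empty coproduct is zero -/
theorem isZero_sigma_of_isEmpty {C : Type*} [Category C] [HasZeroMorphisms C] {ι : Type*}
    [IsEmpty ι] (f : ι → C) [HasCoproduct f] : IsZero (∐ f) := by
  rw [IsZero.iff_id_eq_zero]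
  apply Sigma.hom_ext
  intro i
  exact isEmptyElim i

end Rank

section P1Exist

variable (k : Type u) [Field k]

local notation "ℙ" => CohB1.ProjSpace 1 k
local notation "𝕆(" d ")" => Twist.twistProjSpace 1 k d

open Groth.Agent.Helper1.KzLin Groth.Agent.Helper1.ProjTop

/-- **Grothendieck's splitting theorem, existence** -/
theorem exists_splitting_P1 : ∀ (r : ℕ) (E : (ℙ).Modules), FlatMod.IsFinLocFreeOfRank r E →
    ∃ d : Fin r → ℤ, Nonempty (E ≅ ∐ fun i : Fin r => 𝕆(d i)) := by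
  intro r
  induction r with
  | zero =>
    intro E hE
    refine ⟨fun i => i.elim0, ⟨(isZero_of_rank_zero E hE).iso (isZero_sigma_of_isEmpty _)⟩⟩
  | succ r ih =>
    intro E hE
    obtain ⟨d₀, hnt, hmin⟩ := exists_normalization k E (r + 1) (Nat.succ_pos r) hE
    have hF : FlatMod.IsFinLocFreeOfRank (r + 1) (CohB1.tensorMod E 𝕆(d₀)) :=
      isFinLocFreeOfRank_tensor_invertible E 𝕆(d₀) (r + 1) hE (isInvertible_tw k d₀)
    have hneg : ∀ e : ℤ, 1 ≤ e →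
        Subsingleton (Coh.HH ℙ (CohB1.tensorMod (CohB1.tensorMod E 𝕆(d₀)) 𝕆(-e)) 0) := by
      intro e he
      obtain ⟨ε⟩ := tw_tw_iso 1 k E d₀ (-e) (d₀ - e) (by ring)
      haveI := hmin (d₀ - e) (by omega)
      exact (HHlinEquiv k (X := ℙ) ε 0).toEquiv.subsingleton
    obtain ⟨s, hmono, hrk⟩ := exists_sub_line_bundle k _ r hF hnt hneg
    haveI := hmono
    obtain ⟨b, ⟨θ⟩⟩ := ih (cokernel s) hrk
    obtain ⟨ζ⟩ := nonempty_iso_sigma_of_extension k (Groth.Agent.Helper1.Dev.cokSC s)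
      (Groth.Agent.Helper1.Dev.cokSC_shortExact s) (Iso.refl _) b θ (hneg 1 le_rfl)
    obtain ⟨e1⟩ := tw_tw_iso 1 k E d₀ (-d₀) 0 (by ring)
    obtain ⟨e2⟩ := tw_zero_iso 1 k E
    obtain ⟨e3⟩ := sigma_tw_tensor_iso k (Fin.cons 0 b : Fin (r + 1) → ℤ) (-d₀)
    exact ⟨fun j => (Fin.cons 0 b : Fin (r + 1) → ℤ) j + -d₀,
      ⟨e2.symm ≪≫ e1.symm ≪≫ PicGrp.tensorModIso ζ (Iso.refl 𝕆(-d₀)) ≪≫ e3⟩⟩

end P1Exist

end Groth.Agent.Helper4.SN
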