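import Mathlib
import Groth.Agent.Helper4.SN45

/-!
# Endomorphisms of indecomposable coherent modules on a proper scheme over a field
-/

set_option autoImplicit false
set_option linter.style.haveILetI false

namespace Groth.Agent.Helper4.SN

open CategoryTheory Limits AlgebraicGeometry Opposite TopologicalSpace

universe u

section Abelian

variable {C : Type*} [Category C] [Abelian C]

/-- an idempotent endomorphism of an object of an abelian category splits the object -/
theorem exists_iso_biprod_of_idempotent {E : C} (p : E ⟶ E) (hp : p ≫ p = p) :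
    ∃ (E₁ E₂ : C) (_ : E ≅ E₁ ⊞ E₂), (IsZero E₁ → p = 0) ∧ (IsZero E₂ → p = 𝟙 E) := by
  let q : E ⟶ E := 𝟙 E - p
  have hpq : p ≫ q = 0 := by simp [q, hp]
  have hqp : q ≫ p = 0 := by simp [q, hp]
  have hqq : q ≫ q = q := by
    simp only [q, Preadditive.sub_comp, Preadditive.comp_sub, Category.id_comp, Category.comp_id, hp]
    abel
  let i₁ : kernel q ⟶ E := kernel.ι q
  let i₂ : kernel p ⟶ E := kernel.ι p
  let r₁ : E ⟶ kernel q := kernel.lift q p hpq
  let r₂ : E ⟶ kernel p := kernel.lift p q hqp
  have h1 : r₁ ≫ i₁ = p := kernel.lift_ι _ _ _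
  have h2 : r₂ ≫ i₂ = q := kernel.lift_ι _ _ _
  have hi₁q : i₁ ≫ q = 0 := kernel.condition q
  have hi₂p : i₂ ≫ p = 0 := kernel.condition p
  have hi₁p : i₁ ≫ p = i₁ := by
    have : i₁ ≫ q = i₁ - i₁ ≫ p := by simp [q]
    rw [hi₁q] at this
    exact (sub_eq_zero.1 this.symm).symm
  have hi₂q : i₂ ≫ q = i₂ := by simp [q, hi₂p]
  have h11 : i₁ ≫ r₁ = 𝟙 _ := by
    rw [← cancel_mono i₁, Category.assoc, h1, hi₁p, Category.id_comp]
  have h22 : i₂ ≫ r₂ = 𝟙 _ := by
    rw [← cancel_mono i₂, Category.assoc, h2, hi₂q, Category.id_comp]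
  have h12 : i₁ ≫ r₂ = 0 := by
    rw [← cancel_mono i₂, Category.assoc, h2, hi₁q, Limits.zero_comp]
  have h21 : i₂ ≫ r₁ = 0 := by
    rw [← cancel_mono i₁, Category.assoc, h1, hi₂p, Limits.zero_comp]
  refine ⟨kernel q, kernel p,
    { hom := biprod.lift r₁ r₂
      inv := biprod.desc i₁ i₂
      hom_inv_id := by
        rw [biprod.lift_desc, h1, h2]
        simp [q]
      inv_hom_id := by
        apply biprod.hom_ext' <;> apply biprod.hom_ext <;>
          simp [h11, h22, h12, h21] }, ?_, ?_⟩
  · intro hz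
    rw [← h1, hz.eq_of_tgt r₁ 0, Limits.zero_comp]
  · intro hz
    have : q = 0 := by rw [← h2, hz.eq_of_tgt r₂ 0, Limits.zero_comp]
    have h3 : 𝟙 E - p = 0 := this
    exact (sub_eq_zero.1 h3).symm

end Abelian

section Algebra

open Polynomial

variable {k R : Type*} [Field k] [Ring R] [Algebra k R]

/-- in an algebra over a field with only trivial idempotents, every integral element is nilpotent
or a unit -/
theorem isNilpotent_or_isUnit_of_idempotents (hid : ∀ e : R, e * e = e → e = 0 ∨ e = 1)
    (φ : R) (hφ : IsIntegral k φ) : IsNilpotent φ ∨ IsUnit φ := by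
  classical
  let m : k[X] := X * minpoly k φ
  have hm0 : m ≠ 0 := mul_ne_zero X_ne_zero (minpoly.ne_zero hφ)
  have hPm : aeval φ m = 0 := by
    simp only [m, map_mul, minpoly.aeval, mul_zero]
  obtain ⟨g, hmg, hg⟩ := exists_eq_pow_rootMultiplicity_mul_and_not_dvd m hm0 0
  set j := rootMultiplicity 0 m with hj
  have hj1 : 1 ≤ j := by
    rw [hj]
    apply (le_rootMultiplicity_iff hm0).2
    simp only [map_zero, sub_zero, pow_one, m]
    exact dvd_mul_right _ _
  simp only [map_zero, sub_zero] at hmg hg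
  have hcop : IsCoprime (X ^ j : k[X]) g :=
    IsCoprime.pow_left ((Polynomial.irreducible_X.coprime_iff_not_dvd).2 hg)
  obtain ⟨u, v, huv⟩ := hcop
  let a : R := aeval φ (u * X ^ j)
  let e : R := aeval φ (v * g)
  have hae : a + e = 1 := by
    simp only [a, e]
    rw [← map_add, huv, map_one]
  have haeq : a * e = 0 := by
    simp only [a, e]
    rw [← map_mul]
    have : u * X ^ j * (v * g) = u * v * m := by rw [hmg]; ring
    rw [this, map_mul, hPm, mul_zero]
  have hea : e * a = 0 := by
    simp only [a, e]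
    rw [← map_mul]
    have : v * g * (u * X ^ j) = u * v * m := by rw [hmg]; ring
    rw [this, map_mul, hPm, mul_zero]
  have hee : e * e = e := by
    have : e * (a + e) = e := by rw [hae, mul_one]
    rw [mul_add, hea, zero_add] at this
    exact this
  have hφj : aeval φ (X ^ j : k[X]) = φ ^ j := by rw [map_pow, aeval_X]
  rcases hid e hee with h0 | h1
  · right
    have ha1 : a = 1 := by rw [h0, add_zero] at hae; exact hae
    have h1 : aeval φ u * φ ^ j = 1 := by
      rw [← hφj, ← map_mul]; exact ha1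
    have h2 : φ ^ j * aeval φ u = 1 := by
      rw [← hφj, ← map_mul, mul_comm, ]; exact ha1
    obtain ⟨j', hj'⟩ : ∃ j', j = j' + 1 := ⟨j - 1, by omega⟩
    rw [hj'] at h1 h2
    rw [isUnit_iff_exists]
    refine ⟨φ ^ j' * aeval φ u, ?_, ?_⟩
    · rw [← mul_assoc, ← pow_succ']; exact h2
    · have hc : φ ^ j' * aeval φ u = aeval φ u * φ ^ j' := by
        have : φ ^ j' = aeval φ (X ^ j' : k[X]) := by rw [map_pow, aeval_X]
        rw [this, ← map_mul, ← map_mul, mul_comm]
      rw [hc, mul_assoc, ← pow_succ]; exact h1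
  · left
    refine ⟨j, ?_⟩
    have hgv : aeval φ g * aeval φ v = 1 := by
      rw [← map_mul, mul_comm]; exact h1
    calc φ ^ j = φ ^ j * (aeval φ g * aeval φ v) := by rw [hgv, mul_one]
      _ = aeval φ (X ^ j * g) * aeval φ v := by rw [map_mul, hφj, mul_assoc]
      _ = 0 := by rw [← hmg, hPm, zero_mul]

end Algebra

variable (k : Type u) [Field k] {X : Scheme.{u}} [X.Over (Spec (CommRingCat.of k))]

/-- endomorphisms of an indecomposable coherent module on a proper scheme over a field are
nilpotent or invertible -/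
theorem isNilpotent_or_isUnit_of_indecomposable [IsProper (X ↘ (Spec (CommRingCat.of k)))]
    (E : X.Modules) (hE : Coh.IsCoh E)
    (hind : ∀ (E₁ E₂ : X.Modules), Nonempty (E ≅ E₁ ⊞ E₂) → IsZero E₁ ∨ IsZero E₂)
    (φ : End E) : IsNilpotent φ ∨ IsUnit φ := by
  haveI : Module.Finite k (End E) := finite_hom k E E hE hE
  haveI : Algebra.IsIntegral k (End E) := Algebra.IsIntegral.of_finite k (End E)
  apply isNilpotent_or_isUnit_of_idempotents (k := k) _ φ (Algebra.IsIntegral.isIntegral φ)
  intro e he
  obtain ⟨E₁, E₂, iso, h1, h2⟩ := exists_iso_biprod_of_idempotent (e : E ⟶ E) he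
  rcases hind E₁ E₂ ⟨iso⟩ with hz | hz
  · left; exact h1 hz
  · right; exact h2 hz

/-- S11821 -/
theorem main11821 [IsProper (X ↘ (Spec (CommRingCat.of k)))]
    (E : X.Modules) (hE : Coh.IsCoh E)
    (hind : (¬ IsZero E ∧ ∀ (E₁ E₂ : X.Modules), Nonempty (E ≅ E₁ ⊞ E₂) → IsZero E₁ ∨ IsZero E₂))
    (f : E ⟶ E) (a b : k)
    (ha : ¬ IsIso ((SheafOfModules.toSheaf X.ringCatSheaf).map f -
      Coh.smulAb E (Coh.toGlobal (X ↘ Spec (CommRingCat.of k)) a)))
    (hb : ¬ IsIso ((SheafOfModules.toSheaf X.ringCatSheaf).map f -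
      Coh.smulAb E (Coh.toGlobal (X ↘ Spec (CommRingCat.of k)) b))) :
    a = b := by
  haveI : Nontrivial (End E) := by
    refine ⟨⟨𝟙 E, 0, ?_⟩⟩
    intro h
    exact hind.1 ((IsZero.iff_id_eq_zero E).2 h)
  let F : End E := f
  have key : ∀ c : k, ¬ IsIso ((SheafOfModules.toSheaf X.ringCatSheaf).map f -
      Coh.smulAb E (Coh.toGlobal (X ↘ Spec (CommRingCat.of k)) c)) →
      IsNilpotent (F - algebraMap k (End E) c) := by
    intro c hc
    rcases isNilpotent_or_isUnit_of_indecomposable k E hE hind.2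
      (F - algebraMap k (End E) c) with h | h
    · exact h
    · exfalso
      apply hc
      have hiso : IsIso (f - c • 𝟙 E : E ⟶ E) := by
        have := (isUnit_iff_isIso (F - algebraMap k (End E) c)).1 h
        rw [Algebra.algebraMap_eq_smul_one] at this
        exact this
      have h1 : (SheafOfModules.toSheaf X.ringCatSheaf).map (f - c • 𝟙 E) =
          (SheafOfModules.toSheaf X.ringCatSheaf).map f -
            (SheafOfModules.toSheaf X.ringCatSheaf).map (c • 𝟙 E) :=
        Functor.map_sub (SheafOfModules.toSheaf X.ringCatSheaf)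
      have h2 := toSheaf_map_smul_id k E c
      have h3 : (SheafOfModules.toSheaf X.ringCatSheaf).map (f - c • 𝟙 E) =
          (SheafOfModules.toSheaf X.ringCatSheaf).map f -
            Coh.smulAb E (Coh.toGlobal (X ↘ Spec (CommRingCat.of k)) c) := h1.trans (by rw [h2])
      rw [← h3]
      exact ((SheafOfModules.toSheaf X.ringCatSheaf).mapIso
        (@asIso _ _ _ _ (f - c • 𝟙 E) hiso)).isIso_hom
  have hna := key a ha
  have hnb := key b hb
  have hcomm : Commute (F - algebraMap k (End E) b) (F - algebraMap k (End E) a) :=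
    ((Commute.refl F).sub_right (Algebra.commute_algebraMap_right a F)).sub_left
      ((Algebra.commute_algebraMap_left b F).sub_right (Algebra.commute_algebraMap_left b _))
  have hn : IsNilpotent (algebraMap k (End E) (a - b)) := by
    have h := hcomm.isNilpotent_sub hnb hna
    have e : F - algebraMap k (End E) b - (F - algebraMap k (End E) a) =
        algebraMap k (End E) (a - b) := by
      rw [map_sub]; abel
    rwa [e] at h
  obtain ⟨n, hn⟩ := hn
  rw [← map_pow] at hn
  have h0 : (a - b) ^ n = 0 := (map_eq_zero_iff _ (algebraMap k (End E)).injective).1 hn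
  exact sub_eq_zero.1 (eq_zero_of_pow_eq_zero h0)

end Groth.Agent.Helper4.SN
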