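import Mathlib
import Groth.Agent.Helper4.SN46

/-!
# Curves: endomorphisms of non-split extensions of invertible modules
-/

set_option autoImplicit false
set_option linter.style.haveILetI false

namespace Groth.Agent.Helper4.SN

open CategoryTheory Limits AlgebraicGeometry Opposite TopologicalSpace
open Groth.Agent.Helper4.NApx82

universe u

variable {X : Scheme.{u}}

theorem isInvertible_of_rank_one (L : X.Modules) (hL : FlatMod.IsFinLocFreeOfRank 1 L) :
    PicF.IsInvertible L := fun x => by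
  obtain ⟨U, hx, ⟨e⟩⟩ := hL x
  exact ⟨U, hx, ⟨e ≪≫ QAffSec.freeOneIso _⟩⟩

/-- a retraction of `S.f` yields a section of `S.g` -/
theorem isSplitEpi_of_retraction (S : ShortComplex X.Modules) (hS : S.ShortExact)
    (ρ : S.X₂ ⟶ S.X₁) (hρ : S.f ≫ ρ = 𝟙 _) : IsSplitEpi S.g := by
  let sp := ShortComplex.Splitting.ofExactOfRetraction S hS.exact ρ hρ hS.epi_g
  exact ⟨⟨⟨sp.s, sp.s_g⟩⟩⟩

variable (k : Type u) [Field k] [X.Over (Spec (CommRingCat.of k))]
  [IsIntegral X] [IsProper (X ↘ (Spec (CommRingCat.of k)))]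

/-- endomorphisms of an invertible module on a proper integral curve over an algebraically closed
field are scalars -/
theorem end_invertible_scalar [IsAlgClosed k] (hdim : topologicalKrullDim X = 1)
    (L : X.Modules) (hL : PicF.IsInvertible L) (φ : L ⟶ L) : ∃ a : k, φ = a • 𝟙 L := by
  apply scalar_of_division k L (Groth.Agent.Helper1.SerreFin.isCoh_of_isInvertible L hL)
  intro ψ hψ
  exact (main1521 k X hdim L L hL hL ψ hψ).2 rfl

/-- S11818 (in the `a • 𝟙` form) -/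
theorem main11818' [IsAlgClosed k] (hdim : topologicalKrullDim X = 1)
    (S : ShortComplex X.Modules) (hS : S.ShortExact)
    (hL : PicF.IsInvertible S.X₁) (hM : PicF.IsInvertible S.X₃)
    (hdeg : Curv2.deg k X S.X₃ 1 < Curv2.deg k X S.X₁ 1)
    (hhom : ∀ g : S.X₃ ⟶ S.X₁, g = 0) (hns : ¬ IsSplitEpi S.g)
    (φ : S.X₂ ⟶ S.X₂) : ∃ a : k, φ = a • 𝟙 S.X₂ := by
  haveI := hS.mono_f
  haveI := hS.epi_g
  have hc : S.f ≫ φ ≫ S.g = 0 := by
    by_contra hne
    have := (main1521 k X hdim S.X₁ S.X₃ hL hM _ hne).1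
    linarith
  let lam : S.X₁ ⟶ S.X₁ := hS.exact.lift (S.f ≫ φ) (by rw [Category.assoc]; exact hc)
  have hlam : lam ≫ S.f = S.f ≫ φ := hS.exact.lift_f _ _
  obtain ⟨a, ha⟩ := end_invertible_scalar k hdim S.X₁ hL lam
  refine ⟨a, ?_⟩
  let ψ : S.X₂ ⟶ S.X₂ := φ - a • 𝟙 S.X₂
  have hfψ : S.f ≫ ψ = 0 := by
    simp only [ψ, Preadditive.comp_sub, ← hlam, ha, Linear.smul_comp, Linear.comp_smul,
      Category.id_comp, Category.comp_id, sub_self]
  let τ : S.X₃ ⟶ S.X₂ := hS.exact.desc ψ hfψ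
  have hτ : S.g ≫ τ = ψ := hS.exact.g_desc _ _
  obtain ⟨b, hb⟩ := end_invertible_scalar k hdim S.X₃ hM (τ ≫ S.g)
  have hb0 : b = 0 := by
    by_contra hne
    apply hns
    refine ⟨⟨⟨b⁻¹ • τ, ?_⟩⟩⟩
    rw [Linear.smul_comp, hb, smul_smul, inv_mul_cancel₀ hne, one_smul]
  have hτg : τ ≫ S.g = 0 := by rw [hb, hb0, zero_smul]
  let σ : S.X₃ ⟶ S.X₁ := hS.exact.lift τ hτg
  have hσ : σ ≫ S.f = τ := hS.exact.lift_f _ _
  have hτ0 : τ = 0 := by rw [← hσ, hhom σ, zero_comp]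
  have hψ0 : ψ = 0 := by rw [← hτ, hτ0, comp_zero]
  exact sub_eq_zero.1 hψ0

omit [IsIntegral X] [IsProper (X ↘ (Spec (CommRingCat.of k)))] in
/-- the endomorphism `E → M → L → E` of an extension is not a scalar -/
theorem not_scalar_of_extension
    (S : ShortComplex X.Modules) (hS : S.ShortExact) (hE : ¬ IsZero S.X₂)
    (g : S.X₃ ⟶ S.X₁) (hg : g ≠ 0) (c : k) :
    (SheafOfModules.toSheaf X.ringCatSheaf).map (S.g ≫ g ≫ S.f) ≠
      Coh.smulAb S.X₂ (Coh.toGlobal (X ↘ Spec (CommRingCat.of k)) c) := by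
  haveI := hS.mono_f
  haveI := hS.epi_g
  intro h
  rw [← toSheaf_map_smul_id] at h
  have h' : S.g ≫ g ≫ S.f = c • 𝟙 S.X₂ :=
    (SheafOfModules.toSheaf X.ringCatSheaf).map_injective h
  have hsq : (S.g ≫ g ≫ S.f) ≫ (S.g ≫ g ≫ S.f) = 0 := by
    simp only [Category.assoc]
    rw [S.zero_assoc]
    simp
  rw [h', Linear.smul_comp, Linear.comp_smul, Category.id_comp, smul_smul] at hsq
  have h1 : 𝟙 S.X₂ ≠ 0 := fun h0 => hE ((IsZero.iff_id_eq_zero _).2 h0)
  rcases smul_eq_zero.1 hsq with h2 | h2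
  · have hc0 : c = 0 := mul_self_eq_zero.1 h2
    rw [hc0, zero_smul] at h'
    apply hg
    have h3 : S.g ≫ (g ≫ S.f) = S.g ≫ 0 := by rw [comp_zero]; exact h'
    have h4 : g ≫ S.f = 0 := (cancel_epi S.g).1 h3
    have h5 : g ≫ S.f = 0 ≫ S.f := by rw [zero_comp]; exact h4
    exact (cancel_mono S.f).1 h5
  · exact h1 h2

end Groth.Agent.Helper4.SN
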