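import Mathlib
import Groth.Agent.Helper4.SN99
import Groth.Agent.Helper4.SN51
import Groth.Agent.Helper4.SN53
import Groth.Agent.Helper4.SN95
import Groth.Agent.Helper4.SN47
import Groth.Agent.Helper4.RegNormal
import Groth.Agent.Helper4.InvOfTensor
import Groth.Agent.Helper1.ProjTop8

/-!
# Normalised rank two bundles on a regular proper curve
-/

set_option autoImplicit false
set_option linter.unusedSectionVars false
set_option linter.style.haveILetI false
universe u

open CategoryTheory CategoryTheory.Limits AlgebraicGeometry TopologicalSpace Opposite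

namespace Groth.Agent.Helper4.SN

section CurvePts

attribute [local instance] Curv2.resAlgebra

variable (k : Type u) [Field k] {X : Scheme.{u}} [X.Over (Spec (CommRingCat.of k))]
  [IsIntegral X] [IsProper (X ↘ (Spec (CommRingCat.of k)))]

/-- the residue field of a closed point of a proper `k`-scheme has positive degree -/
theorem finrank_residueField_pos (x : X) (hx : IsClosed ({x} : Set X)) :
    0 < Module.finrank k (X.residueField x) := by
  haveI := Groth.Agent.Helper4.NApx82.isNoetherian_of_proper k X
  rw [← finrank_h0_quotMod_point k x hx]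
  obtain ⟨D, hD⟩ : ∃ D, D = Scheme.IdealSheafData.vanishingIdeal ⟨{x}, hx⟩ := ⟨_, rfl⟩
  rw [← hD]
  haveI : Module.Finite k (Coh.HH X (ClSub.quotMod D) 0) :=
    Groth.Agent.S0002.result k X _ (isCoh_quotMod D) 0
  haveI : Nonempty D.subscheme := by
    have h1 : x ∈ Set.range D.subschemeι := by
      rw [Scheme.IdealSheafData.range_subschemeι, hD,
        Scheme.IdealSheafData.coe_support_vanishingIdeal]
      exact Set.mem_singleton x
    obtain ⟨z, -⟩ := h1
    exact ⟨z⟩
  haveI : Nonempty ↥(D.subschemeι ⁻¹ᵁ (⊤ : X.Opens)) := by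
    obtain ⟨z⟩ := ‹Nonempty D.subscheme›
    exact ⟨⟨z, trivial⟩⟩
  haveI h5 : Nontrivial Γ(D.subscheme, D.subschemeι ⁻¹ᵁ (⊤ : X.Opens)) := inferInstance
  haveI : Nontrivial ((Coh.toAb (ClSub.quotMod D)).obj.obj (op ⊤)) := h5
  haveI : Nontrivial (Coh.HH X (ClSub.quotMod D) 0) :=
    (Groth.Agent.Lead.ProperFinA.h0Equiv (ClSub.quotMod D)).toEquiv.nontrivial
  exact Module.finrank_pos

/-- the ideal of a closed point with integrally closed local ring on a proper integral curve is
invertible of degree `-[κ(x) : k]` -/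
theorem ideal_point_of_normal (hdim : topologicalKrullDim X = 1) (x : X)
    (hx : IsClosed ({x} : Set X)) (hn : IsIntegrallyClosed (X.presheaf.stalk x)) :
    PicF.IsInvertible (ClSub.idealMod (Scheme.IdealSheafData.vanishingIdeal ⟨{x}, hx⟩)) ∧
      Curv2.deg k X (ClSub.idealMod (Scheme.IdealSheafData.vanishingIdeal ⟨{x}, hx⟩)) 1 =
        -(Module.finrank k (X.residueField x) : ℤ) := by
  haveI := Groth.Agent.Helper4.NApx82.isNoetherian_of_proper k X
  have hne := ne_genericPoint_of_isClosed hdim x hx
  have hprin := isPrincipal_maximalIdeal_of_isIntegrallyClosed hdim.le x hn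
  have hbot := maximalIdeal_ne_bot_of_ne_genericPoint x hne
  obtain ⟨L, hL, hdeg, ⟨ε⟩⟩ := exists_invertible_deg_point k hdim.le x hx hprin hbot
  have hD := isEffCartierIdeal_point x hx hprin hbot
  have hI := Groth.Agent.Lead.IdealModDict.isInvertible_of_isEffCartierIdeal _ hD
  refine ⟨hI, ?_⟩
  have h := main7637 k hdim.le 1 1 L _
    (Groth.Agent.Helper4.QAffSec.isFinLocFreeOfRank_one_of_isInvertible L hL)
    (Groth.Agent.Helper4.QAffSec.isFinLocFreeOfRank_one_of_isInvertible _ hI)
  rw [Nat.mul_one, deg_iso k ε 1, Groth.Agent.Helper4.NApx82.deg_structureModule k X, hdeg] at h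
  push_cast at h
  linarith

/-- on an integral proper curve with `h⁰(O) = 1`, an invertible module with `H¹ ≠ 0` has degree
at most `2g - 2` -/
theorem deg_le_of_h1_nontrivial (hdim : topologicalKrullDim X = 1)
    (h0 : Module.finrank k (Coh.HH X (Coh.structureModule X) 0) = 1)
    (L : X.Modules) (hL : PicF.IsInvertible L) (h1 : Nontrivial (Coh.HH X L 1)) :
    Curv2.deg k X L 1 ≤ 2 * (Curv2.genus k X : ℤ) - 2 := by
  haveI := Groth.Agent.Helper4.NApx82.isNoetherian_of_proper k X
  have hO : PicF.IsInvertible (Coh.structureModule X) :=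
    Groth.Agent.Helper4.TensorInv.isInvertible_structureModule
  have hcL := Groth.Agent.Helper1.SerreFin.isCoh_of_isInvertible L hL
  have hb := h0_le_genus_of_h1_nontrivial k hdim L hcL
    (fun s hs => ⟨Groth.Agent.Helper4.NApx81.mono_of_ne_zero s hO hL hs,
      Groth.Agent.Helper4.NApx81.stalkLin_surjective_genericPoint s hO hL hs⟩) h1
  have hM := chi_eq_h0_sub_h1 k hdim.le L
  have hOO := chi_eq_h0_sub_h1 k hdim.le (Coh.structureModule X)
  unfold chi at hM hOO
  haveI : Module.Finite k (Coh.HH X L 1) := Groth.Agent.S0002.result k X _ hcL 1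
  have hpos : 0 < Module.finrank k (Coh.HH X L 1) := Module.finrank_pos
  unfold Curv2.deg
  unfold Curv2.genus at hb ⊢
  rw [hOO, h0, hM]
  push_cast
  omega

end CurvePts

section Normalised

attribute [local instance] Curv2.resAlgebra

variable (k : Type u) [Field k] {C : Scheme.{u}} [C.Over (Spec (CommRingCat.of k))]
  [IsIntegral C] [IsProper (C ↘ (Spec (CommRingCat.of k)))]

/-- a nonzero section of a bundle without sections in negative twists vanishes nowhere -/
theorem germ_not_mem_of_normalized (hdim : topologicalKrullDim C = 1)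
    (hreg : ∀ x : C, IsRegularLocalRing (C.presheaf.stalk x))
    (E : C.Modules) (r : ℕ) (hE : FlatMod.IsFinLocFreeOfRank r E)
    (hneg : ∀ M : C.Modules, PicF.IsInvertible M → Curv2.deg k C M 1 < 0 →
      Subsingleton (Coh.HH C (CohB1.tensorMod E M) 0))
    (s : Coh.structureModule C ⟶ E) (hs : s ≠ 0) (x : C) :
    E.presheaf.germ ⊤ x trivial (sec1 E s) ∉
      (IsLocalRing.maximalIdeal (C.presheaf.stalk x)) •
        (⊤ : Submodule (C.presheaf.stalk x) (E.presheaf.stalk x)) := by
  intro hmem
  have hFLF : FlatMod.IsFinLocFree E := FinLocFree7.isFinLocFree_of_rank E hE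
  by_cases hxη : x = genericPoint C
  · subst hxη
    have hf : IsField (C.presheaf.stalk (genericPoint C)) := Field.toIsField C.functionField
    rw [IsLocalRing.isField_iff_maximalIdeal_eq.1 hf, Submodule.bot_smul, Submodule.mem_bot] at hmem
    haveI : E.IsQuasicoherent := FinLocFree4.isQuasicoherent_of_isFinLocFree E hFLF
    exact hs (eq_zero_of_sec1 s (eq_zero_of_germ_generic E hFLF _ hmem))
  · have hx : IsClosed ({x} : Set C) :=
      isClosed_singleton_of_dim_le_one hdim.le (genericPoint C) (genericPoint_spec C) x hxη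
    obtain ⟨s', hs'⟩ := exists_section_ideal_twist x hx E hFLF s hs hmem
    haveI := hreg x
    obtain ⟨hI, hdeg⟩ := ideal_point_of_normal k hdim x hx
      (Groth.Agent.Helper4.RegNormal.isIntegrallyClosed_of_isRegularLocalRing _)
    have hpos := finrank_residueField_pos k x hx
    have hsub := hneg _ hI (by rw [hdeg]; omega)
    apply hs'
    have h0 := eq_zero_of_subsingleton_H0 _ hsub (s' ≫ (Groth.Agent.Lead.Ref1B.braid _ E).hom)
    rw [← cancel_mono (Groth.Agent.Lead.Ref1B.braid _ E).hom, h0, zero_comp]

/-- **S12430** -/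
theorem main12430 (hdim : topologicalKrullDim C = 1)
    (hreg : ∀ x : C, IsRegularLocalRing (C.presheaf.stalk x))
    (E : C.Modules) (hE : FlatMod.IsFinLocFreeOfRank 2 E)
    (hneg : ∀ M : C.Modules, PicF.IsInvertible M → Curv2.deg k C M 1 < 0 →
      Subsingleton (Coh.HH C (CohB1.tensorMod E M) 0))
    (s : Coh.structureModule C ⟶ E) (hs : s ≠ 0) :
    Mono s ∧ PicF.IsInvertible (cokernel s) := by
  obtain ⟨h0, h1⟩ := cokernel_locallyFree E 1 hE s
    (germ_not_mem_of_normalized k hdim hreg E 2 hE hneg s hs)
  exact ⟨h0, isInvertible_of_rank_one _ h1⟩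

/-- over an algebraically closed field, closed points of a proper scheme have degree one -/
theorem finrank_residueField_eq_one [IsAlgClosed k] (x : C) (hx : IsClosed ({x} : Set C)) :
    Module.finrank k (C.residueField x) = 1 := by
  have hpos := finrank_residueField_pos k x hx
  haveI : Module.Finite k (C.residueField x) := Module.finite_of_finrank_pos hpos
  haveI : Algebra.IsIntegral k (C.residueField x) := Algebra.IsIntegral.of_finite k _
  have hbij := IsAlgClosed.algebraMap_bijective_of_isIntegral (k := k) (K := C.residueField x)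
  exact (LinearEquiv.ofBijective (Algebra.linearMap k (C.residueField x)) hbij).finrank_eq.symm.trans
    (Module.finrank_self k)

/-- there is an invertible module of degree `-1` on a regular proper integral curve over an
algebraically closed field -/
theorem exists_invertible_deg_neg_one [IsAlgClosed k] (hdim : topologicalKrullDim C = 1)
    (hreg : ∀ x : C, IsRegularLocalRing (C.presheaf.stalk x)) :
    ∃ M : C.Modules, PicF.IsInvertible M ∧ Curv2.deg k C M 1 = -1 := by
  haveI := Groth.Agent.Helper4.NApx82.isNoetherian_of_proper k C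
  haveI : CompactSpace C :=
    QuasiCompact.compactSpace_of_compactSpace (C ↘ (Spec (CommRingCat.of k)))
  obtain ⟨x, -, hx⟩ := IsClosed.exists_closed_singleton (X := C) isClosed_univ Set.univ_nonempty
  haveI := hreg x
  obtain ⟨hI, hdeg⟩ := ideal_point_of_normal k hdim x hx
    (Groth.Agent.Helper4.RegNormal.isIntegrallyClosed_of_isRegularLocalRing _)
  refine ⟨_, hI, ?_⟩
  rw [hdeg, finrank_residueField_eq_one k x hx]
  rfl

/-- **S11347** -/
theorem main11347 [IsAlgClosed k] (hdim : topologicalKrullDim C = 1)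
    (hreg : ∀ x : C, IsRegularLocalRing (C.presheaf.stalk x))
    (E : C.Modules) (hE : FlatMod.IsFinLocFreeOfRank 2 E)
    (hn0 : Nontrivial (Coh.HH C E 0))
    (hneg : ∀ M : C.Modules, PicF.IsInvertible M → Curv2.deg k C M 1 < 0 →
      Subsingleton (Coh.HH C (CohB1.tensorMod E M) 0))
    (hind : ∀ L₁ L₂ : C.Modules, PicF.IsInvertible L₁ → PicF.IsInvertible L₂ →
      IsEmpty (E ≅ L₁ ⊞ L₂)) :
    2 - 2 * (Curv2.genus k C : ℤ) ≤ Curv2.deg k C E 2 ∧
      Curv2.deg k C E 2 ≤ 2 * (Curv2.genus k C : ℤ) := by
  haveI := Groth.Agent.Helper4.NApx82.isNoetherian_of_proper k C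
  have h0O := finrank_h0_unit_of_isAlgClosed k (X := C)
  have hO : PicF.IsInvertible (Coh.structureModule C) :=
    Groth.Agent.Helper4.TensorInv.isInvertible_structureModule
  have hcO := Groth.Agent.Helper1.SerreFin.isCoh_of_isInvertible _ hO
  have hcE : Coh.IsCoh E := Groth.Agent.Lead.PerfLib.isCoh_of_isFinLocFree
    (FinLocFree7.isFinLocFree_of_rank E hE)
  have hOO := chi_eq_h0_sub_h1 k hdim.le (Coh.structureModule C)
  unfold chi at hOO
  constructor
  · -- lower bound
    obtain ⟨s, hs⟩ := exists_section_of_nontrivial_H0 E hn0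
    obtain ⟨hmono, hL⟩ := main12430 k hdim hreg E hE hneg s hs
    haveI := hmono
    have hS := Groth.Agent.Helper1.Dev.cokSC_shortExact s
    obtain ⟨L', hL', ⟨ε⟩, ⟨ε2⟩⟩ := Groth.Agent.Lead.InvDual.exists_inverse (cokernel s) hL
    have hcL := Groth.Agent.Helper1.SerreFin.isCoh_of_isInvertible _ hL
    have h1 : Nontrivial (Coh.HH C L' 1) := by
      rw [← not_subsingleton_iff_nontrivial]
      intro hsub
      have h1' : Subsingleton (Coh.HH C
          (CohB1.tensorMod (Groth.Agent.Helper1.Dev.cokSC s).X₁ L') 1) :=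
        (Groth.Agent.Helper1.ProjTop.HHlinEquiv k (X := C)
          (Groth.Agent.Helper4.AmpleBasis.unitorL L') 1).toEquiv.subsingleton
      obtain ⟨ψ, hψ⟩ := exists_lift_twist k (Groth.Agent.Helper1.Dev.cokSC s) hS (cokernel s) L' hL'
        ε ε2.symm h1' (𝟙 _)
      have spl := ShortComplex.Splitting.ofExactOfSection _ hS.exact ψ hψ hS.mono_f
      exact (hind _ _ hO hL).false spl.isoBinaryBiproduct
    have hd := deg_le_of_h1_nontrivial k hdim h0O L' hL' h1
    have h7 := main7637 k hdim.le 1 1 L' _
      (Groth.Agent.Helper4.QAffSec.isFinLocFreeOfRank_one_of_isInvertible L' hL')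
      (Groth.Agent.Helper4.QAffSec.isFinLocFreeOfRank_one_of_isInvertible _ hL)
    rw [Nat.mul_one, deg_iso k ε 1, Groth.Agent.Helper4.NApx82.deg_structureModule k C] at h7
    have hadd := Groth.Agent.Helper4.NApx80.euler_additive k C _ hS hcO hcE hcL
    have hE2 : Curv2.deg k C E 2 = Curv2.deg k C (cokernel s) 1 := by
      unfold Curv2.deg
      change Curv2.euler k C E = Curv2.euler k C (Coh.structureModule C) +
        Curv2.euler k C (cokernel s) at hadd
      rw [hadd]
      push_cast
      ring
    rw [hE2]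
    push_cast at h7
    linarith
  · -- upper bound
    obtain ⟨M, hM, hdM⟩ := exists_invertible_deg_neg_one k hdim hreg
    have hsub := hneg M hM (by rw [hdM]; norm_num)
    have h7 := main7637 k hdim.le 2 1 E M hE
      (Groth.Agent.Helper4.QAffSec.isFinLocFreeOfRank_one_of_isInvertible M hM)
    rw [Nat.mul_one, hdM] at h7
    have hχ := chi_eq_h0_sub_h1 k hdim.le (CohB1.tensorMod E M)
    unfold chi at hχ
    rw [Module.finrank_zero_of_subsingleton] at hχ
    have hnn : (0 : ℤ) ≤ (Module.finrank k (Coh.HH C (CohB1.tensorMod E M) 1) : ℤ) :=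
      Int.natCast_nonneg _
    have hdef : Curv2.deg k C (CohB1.tensorMod E M) 2 =
        Curv2.euler k C (CohB1.tensorMod E M) - 2 * Curv2.euler k C (Coh.structureModule C) := by
      unfold Curv2.deg
      push_cast
      ring
    unfold Curv2.genus
    rw [hdef, hχ, hOO, h0O] at h7
    push_cast at h7
    linarith

end Normalised

end Groth.Agent.Helper4.SN
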