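import Mathlib
import Groth.Agent.Helper4.SN103
import Groth.Agent.Helper4.SN101
import Groth.Agent.Helper4.SN63
import Groth.Agent.Helper4.SN34
import Groth.Agent.Helper4.SN35

/-!
# Invertible submodules of maximal degree of a vector bundle on a curve
-/

set_option autoImplicit false
set_option linter.unusedSectionVars false
set_option linter.style.haveILetI false
universe u

open CategoryTheory CategoryTheory.Limits AlgebraicGeometry TopologicalSpace Opposite
open Groth.Agent.Helper4.StalkDict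

namespace Groth.Agent.Helper4.SN

section MonoSection

variable {X : Scheme.{u}} [IsIntegral X]

/-- a nonzero section of a finite locally free module on an integral scheme has nonzero germs -/
theorem germ_sec1_ne_zero (F : X.Modules) (hF : FlatMod.IsFinLocFree F)
    (s : Coh.structureModule X ⟶ F) (hs : s ≠ 0) (x : X) :
    F.presheaf.germ ⊤ x trivial (sec1 F s) ≠ 0 := by
  intro h0
  haveI : F.IsQuasicoherent := FinLocFree4.isQuasicoherent_of_isFinLocFree F hF
  apply hs
  apply eq_zero_of_sec1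
  apply eq_zero_of_germ_generic F hF
  have h1 : F.presheaf.germ ⊤ x trivial (sec1 F s) = F.presheaf.germ ⊤ x trivial 0 := by
    rw [h0, map_zero]
  obtain ⟨W, hxW, iU, iV, hW⟩ := TopCat.Presheaf.germ_eq F.presheaf (U := ⊤) (V := ⊤) x trivial trivial _ _ h1
  have hηW : genericPoint X ∈ W :=
    ((genericPoint_spec X).mem_open_set_iff W.2).2 ⟨x, trivial, hxW⟩
  rw [map_zero] at hW
  have h2 := Groth.Agent.Helper4.QcqsMod.germ_res F (le_top : W ≤ ⊤) (genericPoint X) hηW
    (sec1 F s)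
  rw [← h2]
  have h3 : F.presheaf.map (homOfLE (le_top : W ≤ ⊤)).op (sec1 F s) = 0 := hW
  rw [h3, map_zero]

/-- a nonzero section of a finite locally free module on an integral scheme is a monomorphism -/
theorem mono_of_section_ne_zero (F : X.Modules) (hF : FlatMod.IsFinLocFree F)
    (s : Coh.structureModule X ⟶ F) (hs : s ≠ 0) : Mono s := by
  apply Groth.Agent.Helper4.AssMono.mono_of_stalkLin_injective
  intro x
  have hg := germ_sec1_ne_zero F hF s hs x
  haveI : F.IsQuasicoherent := FinLocFree4.isQuasicoherent_of_isFinLocFree F hF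
  haveI := FinLocFree2.free_stalk_of_isFinLocFree F hF x
  rw [← stalkLin_unitEquiv_one] at hg
  rw [injective_iff_map_eq_zero]
  intro a ha
  rw [apply_eq_smul (stalkLin s x) (Groth.Agent.Lead.Hartogs2.unitEquiv x) a] at ha
  rcases smul_eq_zero.1 ha with h | h
  · exact (LinearEquiv.map_eq_zero_iff _).1 h
  · exact absurd h hg

end MonoSection

section Twist

variable {X : Scheme.{u}}

/-- tensoring with a module which has a tensor inverse is faithful -/
theorem faithful_tensorRightMod (P P' : X.Modules)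
    (ε : CohB1.tensorMod P P' ≅ Coh.structureModule X) : (DCoh.tensorRightMod P).Faithful :=
  Functor.Faithful.of_comp_iso (twistTwistIso P P' ε)

/-- a nonzero morphism `A → E ⊗ P` yields a nonzero morphism `A ⊗ P' → E` if `P ⊗ P' ≅ O` -/
theorem untwist_ne_zero (E P P' A : X.Modules)
    (ε : CohB1.tensorMod P P' ≅ Coh.structureModule X)
    (ε' : CohB1.tensorMod P' P ≅ Coh.structureModule X)
    (φ₁ : A ⟶ CohB1.tensorMod E P) (h : φ₁ ≠ 0) :
    ∃ φ : CohB1.tensorMod A P' ⟶ E, φ ≠ 0 := by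
  haveI := faithful_tensorRightMod P' P ε'
  let Θ := twistTwistIso P P' ε
  obtain ⟨φ₁', hφ₁'⟩ : ∃ φ₁' : A ⟶ (DCoh.tensorRightMod P).obj E, φ₁' ≠ 0 := ⟨φ₁, h⟩
  refine ⟨(DCoh.tensorRightMod P').map φ₁' ≫ Θ.hom.app E, ?_⟩
  intro h0
  apply hφ₁'
  apply (DCoh.tensorRightMod P').map_injective
  rw [Functor.map_zero, ← cancel_mono (Θ.hom.app E), zero_comp]
  exact h0

variable [IsIntegral X]

/-- a nonzero morphism from an invertible module to a finite locally free module on an integral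
scheme is a monomorphism -/
theorem mono_of_ne_zero_of_invertible {M E : X.Modules} (hM : PicF.IsInvertible M) (r : ℕ)
    (hE : FlatMod.IsFinLocFreeOfRank r E) (φ : M ⟶ E) (hφ : φ ≠ 0) : Mono φ := by
  obtain ⟨N, hN, ⟨ε1⟩, ⟨ε2⟩⟩ := Groth.Agent.Lead.InvDual.exists_inverse M hM
  haveI := faithful_tensorRightMod N M ε1
  have ε2' : (DCoh.tensorRightMod N).obj M ≅ Coh.structureModule X := ε2
  let s : Coh.structureModule X ⟶ (DCoh.tensorRightMod N).obj E :=
    ε2'.inv ≫ (DCoh.tensorRightMod N).map φ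
  have hs : s ≠ 0 := by
    intro h
    apply hφ
    apply (DCoh.tensorRightMod N).map_injective
    rw [Functor.map_zero, ← cancel_epi ε2'.inv, comp_zero]
    exact h
  have hF : FlatMod.IsFinLocFree (CohB1.tensorMod E N) :=
    FinLocFree7.isFinLocFree_of_rank _ (isFinLocFreeOfRank_tensor_invertible E N r hE hN)
  have key : ∀ (s' : Coh.structureModule X ⟶ CohB1.tensorMod E N), s' ≠ 0 → Mono s' :=
    fun s' h => mono_of_section_ne_zero _ hF s' h
  haveI hm : Mono s := key s hs
  haveI : Mono ((DCoh.tensorRightMod N).map φ) := by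
    have h1 : (DCoh.tensorRightMod N).map φ = ε2'.hom ≫ s := by
      simp only [s, Iso.hom_inv_id_assoc]
    rw [h1]
    infer_instance
  exact (DCoh.tensorRightMod N).mono_of_mono_map ‹_›

end Twist

section MaxSub

variable (k : Type u) [Field k] {X : Scheme.{u}} [X.Over (Spec (CommRingCat.of k))]
  [IsIntegral X] [IsProper (X ↘ (Spec (CommRingCat.of k)))]

/-- the degree of a tensor inverse -/
theorem deg_inverse (hdim : topologicalKrullDim X ≤ 1) (L N : X.Modules)
    (hL : PicF.IsInvertible L) (hN : PicF.IsInvertible N)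
    (ε : CohB1.tensorMod N L ≅ Coh.structureModule X) :
    Curv2.deg k X N 1 = -Curv2.deg k X L 1 := by
  have h7 := main7637 k hdim 1 1 N L
    (Groth.Agent.Helper4.QAffSec.isFinLocFreeOfRank_one_of_isInvertible N hN)
    (Groth.Agent.Helper4.QAffSec.isFinLocFreeOfRank_one_of_isInvertible L hL)
  rw [Nat.mul_one, deg_iso k ε 1, Groth.Agent.Helper4.NApx82.deg_structureModule k X] at h7
  push_cast at h7
  linarith

/-- a nonzero section of `E ⊗ P` gives an invertible submodule of `E` of degree `-deg P` -/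
theorem exists_sub_of_section (hdim : topologicalKrullDim X ≤ 1) (r : ℕ) (E : X.Modules)
    (hE : FlatMod.IsFinLocFreeOfRank r E) (P : X.Modules) (hP : PicF.IsInvertible P)
    (t : Coh.structureModule X ⟶ CohB1.tensorMod E P) (ht : t ≠ 0) :
    ∃ (M : X.Modules) (ι : M ⟶ E), PicF.IsInvertible M ∧ Mono ι ∧
      Curv2.deg k X M 1 = -Curv2.deg k X P 1 := by
  obtain ⟨P', hP', ⟨ε'⟩, ⟨ε⟩⟩ := Groth.Agent.Lead.InvDual.exists_inverse P hP
  obtain ⟨φ, hφ⟩ := untwist_ne_zero E P P' _ ε ε' t ht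
  have hφ' : (Groth.Agent.Helper4.AmpleBasis.unitorL P').inv ≫ φ ≠ 0 := by
    intro h
    apply hφ
    rw [← cancel_epi (Groth.Agent.Helper4.AmpleBasis.unitorL P').inv, h, comp_zero]
  exact ⟨P', _, hP', mono_of_ne_zero_of_invertible hP' r hE _ hφ', deg_inverse k hdim P P' hP hP' ε'⟩

/-- a finite locally free module of positive rank on a regular proper curve over an algebraically
closed field has an invertible submodule -/
theorem exists_invertible_sub [IsAlgClosed k] (hdim : topologicalKrullDim X = 1)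
    (hreg : ∀ x : X, IsRegularLocalRing (X.presheaf.stalk x))
    (r : ℕ) (hr : 0 < r) (E : X.Modules) (hE : FlatMod.IsFinLocFreeOfRank r E) :
    ∃ (M : X.Modules) (ι : M ⟶ E), PicF.IsInvertible M ∧ Mono ι := by
  haveI := Groth.Agent.Helper4.NApx82.isNoetherian_of_proper k X
  obtain ⟨M₁, hM₁, hd₁⟩ := exists_invertible_deg_neg_one k hdim hreg
  obtain ⟨L₁, hL₁, ⟨e1⟩, -⟩ := Groth.Agent.Lead.InvDual.exists_inverse M₁ hM₁
  have hdL : Curv2.deg k X L₁ 1 = 1 := by
    rw [deg_inverse k hdim.le M₁ L₁ hM₁ hL₁ e1, hd₁]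
    norm_num
  obtain ⟨m, hm⟩ := exists_nat_gt
    (-(Curv2.deg k X E r + (r : ℤ) * Curv2.euler k X (Coh.structureModule X)))
  have hP := Groth.Agent.Helper4.TensorInv.isInvertible_tensorPow hL₁ m
  have hdP : Curv2.deg k X (CohB1.tensorPow L₁ m) 1 = m := by
    rw [deg_tensorPow k hdim L₁ hL₁ m, hdL, mul_one]
  have h7 := main7637 k hdim.le r 1 E _ hE
    (Groth.Agent.Helper4.QAffSec.isFinLocFreeOfRank_one_of_isInvertible _ hP)
  rw [Nat.mul_one, hdP] at h7
  have hχ := chi_eq_h0_sub_h1 k hdim.le (CohB1.tensorMod E (CohB1.tensorPow L₁ m))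
  unfold chi at hχ
  have hdef : Curv2.deg k X (CohB1.tensorMod E (CohB1.tensorPow L₁ m)) r =
      Curv2.euler k X (CohB1.tensorMod E (CohB1.tensorPow L₁ m)) -
        (r : ℤ) * Curv2.euler k X (Coh.structureModule X) := rfl
  have hrm : (m : ℤ) ≤ (r : ℤ) * (m : ℤ) := by
    have h1 : (1 : ℤ) ≤ (r : ℤ) := by exact_mod_cast hr
    nlinarith [Int.natCast_nonneg m]
  have hpos : 0 < Module.finrank k (Coh.HH X (CohB1.tensorMod E (CohB1.tensorPow L₁ m)) 0) := by
    have h1 : (0 : ℤ) ≤ (Module.finrank k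
      (Coh.HH X (CohB1.tensorMod E (CohB1.tensorPow L₁ m)) 1) : ℤ) := Int.natCast_nonneg _
    have h2 : (0 : ℤ) < (Module.finrank k
        (Coh.HH X (CohB1.tensorMod E (CohB1.tensorPow L₁ m)) 0) : ℤ) := by
      push_cast at h7
      linarith
    exact_mod_cast h2
  haveI : Nontrivial (Coh.HH X (CohB1.tensorMod E (CohB1.tensorPow L₁ m)) 0) :=
    Module.nontrivial_of_finrank_pos hpos
  obtain ⟨t, ht⟩ := exists_section_of_nontrivial_H0
    (CohB1.tensorMod E (CohB1.tensorPow L₁ m)) inferInstance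
  obtain ⟨M, ι, hM, hι, -⟩ := exists_sub_of_section k hdim.le r E hE _ hP t ht
  exact ⟨M, ι, hM, hι⟩

/-- an invertible submodule of maximal degree -/
theorem exists_max_invertible_sub [IsAlgClosed k] (hdim : topologicalKrullDim X = 1)
    (hreg : ∀ x : X, IsRegularLocalRing (X.presheaf.stalk x))
    (r : ℕ) (hr : 0 < r) (E : X.Modules) (hE : FlatMod.IsFinLocFreeOfRank r E) :
    ∃ (M₀ : X.Modules) (ι₀ : M₀ ⟶ E), PicF.IsInvertible M₀ ∧ Mono ι₀ ∧
      ∀ (M : X.Modules) (ι : M ⟶ E), PicF.IsInvertible M → Mono ι →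
        Curv2.deg k X M 1 ≤ Curv2.deg k X M₀ 1 := by
  classical
  obtain ⟨N, hN⟩ := main11826 k hdim r E hE
  obtain ⟨M, ι, hM, hι⟩ := exists_invertible_sub k hdim hreg r hr E hE
  obtain ⟨d, ⟨M₀, ι₀, hM₀, hι₀, hd⟩, hmax⟩ := Int.exists_greatest_of_bdd
    (P := fun d : ℤ => ∃ (M : X.Modules) (ι : M ⟶ E), PicF.IsInvertible M ∧ Mono ι ∧
      Curv2.deg k X M 1 = d)
    ⟨N, fun z ⟨M, ι, hM, hι, hz⟩ => hz ▸ hN M ι hι hM⟩ ⟨_, M, ι, hM, hι, rfl⟩
  refine ⟨M₀, ι₀, hM₀, hι₀, fun M ι hM hι => ?_⟩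
  rw [hd]
  exact hmax _ ⟨M, ι, hM, hι, rfl⟩

/-- twisting by the inverse of an invertible submodule of maximal degree normalises -/
theorem normalized_of_max (hdim : topologicalKrullDim X = 1)
    (r : ℕ) (E : X.Modules) (hE : FlatMod.IsFinLocFreeOfRank r E)
    (M₀ : X.Modules) (ι₀ : M₀ ⟶ E) (hM₀ : PicF.IsInvertible M₀) (hι₀ : Mono ι₀)
    (hmax : ∀ (M : X.Modules) (ι : M ⟶ E), PicF.IsInvertible M → Mono ι →
      Curv2.deg k X M 1 ≤ Curv2.deg k X M₀ 1)
    (N₀ : X.Modules) (hN₀ : PicF.IsInvertible N₀)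
    (ε1 : CohB1.tensorMod N₀ M₀ ≅ Coh.structureModule X)
    (ε2 : CohB1.tensorMod M₀ N₀ ≅ Coh.structureModule X) :
    Nontrivial (Coh.HH X (CohB1.tensorMod E N₀) 0) ∧
      ∀ M : X.Modules, PicF.IsInvertible M → Curv2.deg k X M 1 < 0 →
        Subsingleton (Coh.HH X (CohB1.tensorMod (CohB1.tensorMod E N₀) M) 0) := by
  have hdN₀ := deg_inverse k hdim.le M₀ N₀ hM₀ hN₀ ε1
  constructor
  · rw [← not_subsingleton_iff_nontrivial]
    intro hsub
    haveI := faithful_tensorRightMod N₀ M₀ ε1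
    have ε2' : (DCoh.tensorRightMod N₀).obj M₀ ≅ Coh.structureModule X := ε2
    have h0 := eq_zero_of_subsingleton_H0 _ hsub (ε2'.inv ≫ (DCoh.tensorRightMod N₀).map ι₀)
    have h1 : (DCoh.tensorRightMod N₀).map ι₀ = 0 := by
      rw [← cancel_epi ε2'.inv, comp_zero]
      exact h0
    have h2 : ι₀ = 0 := by
      apply (DCoh.tensorRightMod N₀).map_injective
      rw [h1, Functor.map_zero]
    haveI := hι₀
    exact Groth.Agent.Helper4.SN.not_isZero_of_isInvertible M₀ hM₀ (IsZero.of_mono_eq_zero ι₀ h2)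
  · intro M hM hdM
    by_contra hns
    rw [not_subsingleton_iff_nontrivial] at hns
    obtain ⟨t, ht⟩ := exists_section_of_nontrivial_H0 _ hns
    obtain ⟨M', hM', ⟨εM'⟩, ⟨εM⟩⟩ := Groth.Agent.Lead.InvDual.exists_inverse M hM
    obtain ⟨φ₁, hφ₁⟩ := untwist_ne_zero (CohB1.tensorMod E N₀) M M' _ εM εM' t ht
    obtain ⟨φ, hφ⟩ := untwist_ne_zero E N₀ M₀ _ ε1 ε2 φ₁ hφ₁
    have hA : PicF.IsInvertible
        (CohB1.tensorMod (CohB1.tensorMod (Coh.structureModule X) M') M₀) :=
      Groth.Agent.Helper4.TensorInv.isInvertible_tensorMod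
        (Groth.Agent.Helper4.TensorInv.isInvertible_tensorMod
          Groth.Agent.Helper4.TensorInv.isInvertible_structureModule hM') hM₀
    haveI hmono := mono_of_ne_zero_of_invertible hA r hE φ hφ
    have hle := hmax _ φ hA hmono
    have hdM' := deg_inverse k hdim.le M M' hM hM' εM'
    have hOM' : PicF.IsInvertible (CohB1.tensorMod (Coh.structureModule X) M') :=
      Groth.Agent.Helper4.TensorInv.isInvertible_tensorMod
        Groth.Agent.Helper4.TensorInv.isInvertible_structureModule hM'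
    have h7 := main7637 k hdim.le 1 1 (CohB1.tensorMod (Coh.structureModule X) M') M₀
      (Groth.Agent.Helper4.QAffSec.isFinLocFreeOfRank_one_of_isInvertible _ hOM')
      (Groth.Agent.Helper4.QAffSec.isFinLocFreeOfRank_one_of_isInvertible _ hM₀)
    rw [Nat.mul_one, deg_iso k (Groth.Agent.Helper4.AmpleBasis.unitorL M') 1, hdM'] at h7
    push_cast at h7
    linarith

end MaxSub

end Groth.Agent.Helper4.SN
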