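import Mathlib
import Groth.Agent.Helper4.SN104
import Groth.Agent.Helper4.SN40

/-!
# Degree bounds for invertible submodules of an indecomposable rank two bundle on a curve
-/

set_option autoImplicit false
set_option linter.unusedSectionVars false
set_option linter.style.haveILetI false
universe u

open CategoryTheory CategoryTheory.Limits AlgebraicGeometry TopologicalSpace Opposite

namespace Groth.Agent.Helper4.SN

section Bounds

variable (k : Type u) [Field k] {X : Scheme.{u}} [X.Over (Spec (CommRingCat.of k))]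
  [IsIntegral X] [IsProper (X ↘ (Spec (CommRingCat.of k)))]

/-- the twist of an indecomposable bundle by an invertible module is not a sum of two invertible
modules -/
theorem isEmpty_iso_biprod_of_twist (E N₀ M₀ : X.Modules) (hM₀ : PicF.IsInvertible M₀)
    (ε1 : CohB1.tensorMod N₀ M₀ ≅ Coh.structureModule X)
    (hind : ∀ (E₁ E₂ : X.Modules), Nonempty (E ≅ E₁ ⊞ E₂) → IsZero E₁ ∨ IsZero E₂)
    (L₁ L₂ : X.Modules) (hL₁ : PicF.IsInvertible L₁) (hL₂ : PicF.IsInvertible L₂) :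
    IsEmpty (CohB1.tensorMod E N₀ ≅ L₁ ⊞ L₂) := by
  refine ⟨fun e => ?_⟩
  haveI : PreservesBinaryBiproducts (DCoh.tensorRightMod M₀) :=
    preservesBinaryBiproducts_of_preservesBiproducts _
  have e' : (DCoh.tensorRightMod N₀).obj E ≅ L₁ ⊞ L₂ := e
  let Θ := twistTwistIso N₀ M₀ ε1
  have e2 : E ≅ (DCoh.tensorRightMod M₀).obj L₁ ⊞ (DCoh.tensorRightMod M₀).obj L₂ :=
    (Θ.app E).symm ≪≫ (DCoh.tensorRightMod M₀).mapIso e' ≪≫
      (DCoh.tensorRightMod M₀).mapBiprod L₁ L₂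
  have h1 : PicF.IsInvertible (CohB1.tensorMod L₁ M₀) :=
    Groth.Agent.Helper4.TensorInv.isInvertible_tensorMod hL₁ hM₀
  have h2 : PicF.IsInvertible (CohB1.tensorMod L₂ M₀) :=
    Groth.Agent.Helper4.TensorInv.isInvertible_tensorMod hL₂ hM₀
  rcases hind _ _ ⟨e2⟩ with h | h
  · exact Groth.Agent.Helper4.SN.not_isZero_of_isInvertible _ h1 h
  · exact Groth.Agent.Helper4.SN.not_isZero_of_isInvertible _ h2 h

/-- **S11482** (for a regular proper integral curve) -/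
theorem main11482 [IsAlgClosed k] (hdim : topologicalKrullDim X = 1)
    (hreg : ∀ x : X, IsRegularLocalRing (X.presheaf.stalk x))
    (E : X.Modules) (hE : FlatMod.IsFinLocFreeOfRank 2 E)
    (hind : ∀ (E₁ E₂ : X.Modules), Nonempty (E ≅ E₁ ⊞ E₂) → IsZero E₁ ∨ IsZero E₂) :
    (∀ (L : X.Modules) (ι : L ⟶ E), PicF.IsInvertible L → Mono ι →
        2 * Curv2.deg k X L 1 ≤ Curv2.deg k X E 2 + 2 * (Curv2.genus k X : ℤ) - 2) ∧
      ∃ (L : X.Modules) (ι : L ⟶ E), PicF.IsInvertible L ∧ Mono ι ∧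
        Curv2.deg k X E 2 - 2 * (Curv2.genus k X : ℤ) ≤ 2 * Curv2.deg k X L 1 := by
  obtain ⟨M₀, ι₀, hM₀, hι₀, hmax⟩ := exists_max_invertible_sub k hdim hreg 2 (by norm_num) E hE
  obtain ⟨N₀, hN₀, ⟨ε1⟩, ⟨ε2⟩⟩ := Groth.Agent.Lead.InvDual.exists_inverse M₀ hM₀
  obtain ⟨hn0, hneg⟩ := normalized_of_max k hdim 2 E hE M₀ ι₀ hM₀ hι₀ hmax N₀ hN₀ ε1 ε2
  have hE' := isFinLocFreeOfRank_tensor_invertible E N₀ 2 hE hN₀
  have hb := main11347 k hdim hreg (CohB1.tensorMod E N₀) hE' hn0 hneg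
    (isEmpty_iso_biprod_of_twist E N₀ M₀ hM₀ ε1 hind)
  have h7 := main7637 k hdim.le 2 1 E N₀ hE
    (Groth.Agent.Helper4.QAffSec.isFinLocFreeOfRank_one_of_isInvertible N₀ hN₀)
  rw [Nat.mul_one, deg_inverse k hdim.le M₀ N₀ hM₀ hN₀ ε1] at h7
  push_cast at h7
  rw [h7] at hb
  obtain ⟨hb1, hb2⟩ := hb
  refine ⟨fun L ι hL hι => ?_, M₀, ι₀, hM₀, hι₀, by linarith⟩
  have := hmax L ι hL hι
  linarith

end Bounds

end Groth.Agent.Helper4.SN
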