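import Mathlib
import Groth.Agent.Helper4.SN105

/-!
# Simple rank two bundles on a curve: the degree bound for a line subbundle
-/

set_option autoImplicit false
set_option linter.unusedSectionVars false
set_option linter.style.haveILetI false
universe u

open CategoryTheory CategoryTheory.Limits AlgebraicGeometry TopologicalSpace Opposite

namespace Groth.Agent.Helper4.SN

section Scalar

variable {X : Scheme.{u}}

theorem smulAb_zero (M : X.Modules) : Coh.smulAb M 0 = 0 := by
  ext U m
  rw [Coh.smulAb_app, map_zero, zero_smul]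
  rfl

variable (k : Type u) [Field k] [X.Over (Spec (CommRingCat.of k))]

/-- an endomorphism which is a scalar `c` on the underlying abelian sheaf is zero if `c = 0` and an
isomorphism otherwise -/
theorem eq_zero_or_isIso_of_scalar (E : X.Modules) (φ : E ⟶ E) (c : k)
    (hc : (SheafOfModules.toSheaf X.ringCatSheaf).map φ =
      Coh.smulAb E (Coh.toGlobal (X ↘ Spec (CommRingCat.of k)) c)) :
    φ = 0 ∨ IsIso φ := by
  by_cases h0 : c = 0
  · left
    apply (SheafOfModules.toSheaf X.ringCatSheaf).map_injective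
    rw [hc, h0, map_zero, smulAb_zero]
    exact ((SheafOfModules.toSheaf X.ringCatSheaf).map_zero _ _).symm
  · right
    haveI : IsIso ((SheafOfModules.toSheaf X.ringCatSheaf).map φ) := by
      rw [hc]
      refine ⟨Coh.smulAb E (Coh.toGlobal (X ↘ Spec (CommRingCat.of k)) c⁻¹), ?_, ?_⟩
      · rw [← Coh.smulAb_mul, ← map_mul, inv_mul_cancel₀ h0, map_one, Coh.smulAb_one]
      · rw [← Coh.smulAb_mul, ← map_mul, mul_inv_cancel₀ h0, map_one, Coh.smulAb_one]
    have hr := (inferInstance : (SheafOfModules.toSheaf X.ringCatSheaf).ReflectsIsomorphisms)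
    exact @isIso_of_reflects_iso _ _ _ _ _ _ φ (SheafOfModules.toSheaf X.ringCatSheaf) this hr

end Scalar

section Simple

variable (k : Type u) [Field k] {X : Scheme.{u}} [X.Over (Spec (CommRingCat.of k))]
  [IsIntegral X] [IsProper (X ↘ (Spec (CommRingCat.of k)))]

/-- **S11817** -/
theorem main11817 (hdim : topologicalKrullDim X = 1)
    (h0O : Module.finrank k (Coh.HH X (Coh.structureModule X) 0) = 1)
    (E : X.Modules) (hE : FlatMod.IsFinLocFreeOfRank 2 E)
    (hsimple : ∀ φ : E ⟶ E, ∃ c : k, (SheafOfModules.toSheaf X.ringCatSheaf).map φ =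
      Coh.smulAb E (Coh.toGlobal (X ↘ Spec (CommRingCat.of k)) c))
    (L : X.Modules) (hL : PicF.IsInvertible L) (i : L ⟶ E) [Mono i]
    (hq : PicF.IsInvertible (cokernel i)) :
    2 * Curv2.deg k X L 1 ≤ Curv2.deg k X E 2 + (Curv2.genus k X : ℤ) - 2 := by
  haveI := Groth.Agent.Helper4.NApx82.isNoetherian_of_proper k X
  have hS := Groth.Agent.Helper1.Dev.cokSC_shortExact i
  have hcL := Groth.Agent.Helper1.SerreFin.isCoh_of_isInvertible _ hL
  have hcQ := Groth.Agent.Helper1.SerreFin.isCoh_of_isInvertible _ hq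
  have hcE : Coh.IsCoh E := Groth.Agent.Lead.PerfLib.isCoh_of_isFinLocFree
    (FinLocFree7.isFinLocFree_of_rank E hE)
  have hE0 : ¬ IsZero E := not_isZero_of_rank (by norm_num) E hE
  have hL0 : ¬ IsZero L := not_isZero_of_isInvertible L hL
  have hQ0 : ¬ IsZero (cokernel i) := not_isZero_of_isInvertible _ hq
  obtain ⟨Q', hQ', ⟨ε1⟩, ⟨ε2⟩⟩ := Groth.Agent.Lead.InvDual.exists_inverse (cokernel i) hq
  -- no nonzero morphism from the quotient to the sub
  have hA : ∀ h : cokernel i ⟶ L, h = 0 := by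
    intro h
    obtain ⟨c, hc⟩ := hsimple (cokernel.π i ≫ h ≫ i)
    rcases eq_zero_or_isIso_of_scalar k E _ c hc with h1 | h1
    · have h2 : h ≫ i = 0 := by
        rw [← cancel_epi (cokernel.π i), h1, comp_zero]
      rw [← cancel_mono i, h2, zero_comp]
    · exfalso
      have h2 : (cokernel.π i ≫ h ≫ i) ≫ (cokernel.π i ≫ h ≫ i) = 0 := by
        simp only [Category.assoc, cokernel.condition_assoc, zero_comp, comp_zero]
      have h3 : cokernel.π i ≫ h ≫ i = 0 := by
        rw [← cancel_mono (cokernel.π i ≫ h ≫ i), h2, zero_comp]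
      apply hE0
      rw [IsZero.iff_id_eq_zero, ← cancel_mono (cokernel.π i ≫ h ≫ i), zero_comp, Category.id_comp]
      exact h3
  -- `H⁰(L ⊗ Q')` vanishes
  have hB : Subsingleton (Coh.HH X (CohB1.tensorMod L Q') 0) := by
    by_contra hns
    rw [not_subsingleton_iff_nontrivial] at hns
    obtain ⟨t, ht⟩ := exists_section_of_nontrivial_H0 _ hns
    obtain ⟨φ, hφ⟩ := untwist_ne_zero L Q' (cokernel i) _ ε1 ε2 t ht
    apply hφ
    rw [← cancel_epi (Groth.Agent.Helper4.AmpleBasis.unitorL (cokernel i)).inv, comp_zero]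
    exact hA _
  -- `H¹(L ⊗ Q')` does not vanish
  have hC : Nontrivial (Coh.HH X (CohB1.tensorMod L Q') 1) := by
    rw [← not_subsingleton_iff_nontrivial]
    intro hsub
    obtain ⟨ψ, hψ⟩ := exists_lift_twist k (Groth.Agent.Helper1.Dev.cokSC i) hS (cokernel i) Q' hQ'
      ε1 ε2.symm hsub (𝟙 _)
    have spl := ShortComplex.Splitting.ofExactOfSection _ hS.exact ψ hψ hS.mono_f
    have hfr : i ≫ spl.r = 𝟙 L := spl.f_r
    obtain ⟨c, hc⟩ := hsimple (spl.r ≫ i)
    rcases eq_zero_or_isIso_of_scalar k E _ c hc with h1 | h1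
    · apply hL0
      rw [IsZero.iff_id_eq_zero, ← hfr, ← cancel_mono i, Category.assoc, h1, comp_zero, zero_comp]
    · haveI := h1
      haveI : Epi i := epi_of_epi spl.r i
      haveI : IsIso i := isIso_of_mono_of_epi i
      apply hQ0
      exact isZero_cokernel_of_epi i
  -- numerics
  have hχ := chi_eq_h0_sub_h1 k hdim.le (CohB1.tensorMod L Q')
  have hOO := chi_eq_h0_sub_h1 k hdim.le (Coh.structureModule X)
  unfold chi at hχ hOO
  rw [Module.finrank_zero_of_subsingleton] at hχ
  have hcLQ : Coh.IsCoh (CohB1.tensorMod L Q') :=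
    Groth.Agent.Helper1.SerreFin.isCoh_of_isInvertible _
      (Groth.Agent.Helper4.TensorInv.isInvertible_tensorMod hL hQ')
  haveI : Module.Finite k (Coh.HH X (CohB1.tensorMod L Q') 1) :=
    Groth.Agent.S0002.result k X _ hcLQ 1
  have hpos : 0 < Module.finrank k (Coh.HH X (CohB1.tensorMod L Q') 1) := Module.finrank_pos
  have h7 := main7637 k hdim.le 1 1 L Q'
    (Groth.Agent.Helper4.QAffSec.isFinLocFreeOfRank_one_of_isInvertible _ hL)
    (Groth.Agent.Helper4.QAffSec.isFinLocFreeOfRank_one_of_isInvertible _ hQ')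
  rw [Nat.mul_one, deg_inverse k hdim.le (cokernel i) Q' hq hQ' ε1] at h7
  have hadd := Groth.Agent.Helper4.NApx80.euler_additive k X _ hS hcL hcE hcQ
  change Curv2.euler k X E = Curv2.euler k X L + Curv2.euler k X (cokernel i) at hadd
  have hdef : Curv2.deg k X (CohB1.tensorMod L Q') 1 =
      Curv2.euler k X (CohB1.tensorMod L Q') - Curv2.euler k X (Coh.structureModule X) := by
    unfold Curv2.deg
    push_cast
    ring
  rw [hdef, hχ, hOO, h0O] at h7
  unfold Curv2.deg at h7 ⊢
  unfold Curv2.genus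
  rw [hadd, hOO, h0O]
  rw [hOO, h0O] at h7
  push_cast at h7 ⊢
  have hpos' : (1 : ℤ) ≤ (Module.finrank k (Coh.HH X (CohB1.tensorMod L Q') 1) : ℤ) := by
    exact_mod_cast hpos
  linarith

end Simple

end Groth.Agent.Helper4.SN
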