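import Mathlib
import Groth.Agent.Helper4.SN106
import Groth.Agent.Helper1.RP12

/-!
# Projective space is integral; a bundle with a section and a cosection is not simple
-/

set_option autoImplicit false
set_option linter.unusedSectionVars false
set_option linter.style.haveILetI false
universe u

open CategoryTheory CategoryTheory.Limits AlgebraicGeometry TopologicalSpace Opposite

namespace Groth.Agent.Helper4.SN

section Pn

variable (k : Type u) [Field k] (n : ℕ)

theorem X_mem_irrelevant_Pn (i : Fin (n + 1)) :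
    (MvPolynomial.X i : MvPolynomial (Fin (n + 1)) k) ∈
      HomogeneousIdeal.irrelevant (CohB1.polyGrading n k) := by
  rw [HomogeneousIdeal.mem_irrelevant_iff]
  have h1 : (MvPolynomial.X i : MvPolynomial (Fin (n + 1)) k) ∈ CohB1.polyGrading n k 1 :=
    MvPolynomial.isHomogeneous_X k i
  exact DirectSum.decompose_of_mem_ne (CohB1.polyGrading n k) h1 one_ne_zero

instance isIntegral_Pn : IsIntegral (CohB1.ProjSpace n k) := by
  have h : IsIntegral (Proj (CohB1.polyGrading n k)) := by
    apply Groth.Agent.Helper1.RP.isIntegral_proj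
    intro hbot
    have h1 := X_mem_irrelevant_Pn k n 0
    have h2 : (MvPolynomial.X 0 : MvPolynomial (Fin (n + 1)) k) ∈
        (HomogeneousIdeal.irrelevant (CohB1.polyGrading n k)).toIdeal := h1
    rw [hbot] at h2
    exact MvPolynomial.X_ne_zero 0 h2
  exact h

end Pn

section NotSimple

variable {X : Scheme.{u}} [IsIntegral X]

/-- scalar endomorphisms, for an arbitrary structure morphism -/
theorem eq_zero_or_isIso_of_scalar' {k : Type u} [Field k] (q : X ⟶ Spec (CommRingCat.of k))
    (E : X.Modules) (φ : E ⟶ E) (c : k)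
    (hc : (SheafOfModules.toSheaf X.ringCatSheaf).map φ = Coh.smulAb E (Coh.toGlobal q c)) :
    φ = 0 ∨ IsIso φ := by
  by_cases h0 : c = 0
  · left
    apply (SheafOfModules.toSheaf X.ringCatSheaf).map_injective
    rw [hc, h0, map_zero, smulAb_zero]
    exact ((SheafOfModules.toSheaf X.ringCatSheaf).map_zero _ _).symm
  · right
    haveI : IsIso ((SheafOfModules.toSheaf X.ringCatSheaf).map φ) := by
      rw [hc]
      refine ⟨Coh.smulAb E (Coh.toGlobal q c⁻¹), ?_, ?_⟩
      · rw [← Coh.smulAb_mul, ← map_mul, inv_mul_cancel₀ h0, map_one, Coh.smulAb_one]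
      · rw [← Coh.smulAb_mul, ← map_mul, mul_inv_cancel₀ h0, map_one, Coh.smulAb_one]
    have hr := (inferInstance : (SheafOfModules.toSheaf X.ringCatSheaf).ReflectsIsomorphisms)
    exact @isIso_of_reflects_iso _ _ _ _ _ _ φ (SheafOfModules.toSheaf X.ringCatSheaf) this hr

/-- **S11503** (on an integral scheme) -/
theorem main11503 {k : Type u} [Field k] (q : X ⟶ Spec (CommRingCat.of k))
    (r : ℕ) (hr : 1 < r) (E : X.Modules) (hE : FlatMod.IsFinLocFreeOfRank r E)
    (s : Coh.structureModule X ⟶ E) (hs : s ≠ 0)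
    (t : E ⟶ Coh.structureModule X) (ht : t ≠ 0) :
    ∃ φ : E ⟶ E, ∀ c : k, (SheafOfModules.toSheaf X.ringCatSheaf).map φ ≠
      Coh.smulAb E (Coh.toGlobal q c) := by
  refine ⟨t ≫ s, fun c hc => ?_⟩
  haveI := mono_of_section_ne_zero E (FinLocFree7.isFinLocFree_of_rank E hE) s hs
  rcases eq_zero_or_isIso_of_scalar' q E _ c hc with h | h
  · apply ht
    rw [← cancel_mono s, h, zero_comp]
  · haveI := h
    haveI : Mono t := mono_of_mono t s
    have h1 := rank_le_of_mono t hE
      (Groth.Agent.Helper4.QAffSec.isFinLocFreeOfRank_one_of_isInvertible _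
        Groth.Agent.Helper4.TensorInv.isInvertible_structureModule)
    omega

end NotSimple

end Groth.Agent.Helper4.SN
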