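import Mathlib
import Groth.Agent.Helper4.SN107
import Groth.Agent.Helper4.SN45

/-!
# Rank two bundles of odd degree on a genus one curve
-/

set_option autoImplicit false
set_option linter.unusedSectionVars false
set_option linter.style.haveILetI false
universe u

open CategoryTheory CategoryTheory.Limits AlgebraicGeometry TopologicalSpace Opposite

namespace Groth.Agent.Helper4.SN

section TFAE

variable (k : Type u) [Field k] {X : Scheme.{u}} [X.Over (Spec (CommRingCat.of k))]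
  [IsIntegral X] [IsProper (X ↘ (Spec (CommRingCat.of k)))]

/-- a simple module is indecomposable -/
theorem indecomposable_of_simple_aux (E : X.Modules)
    (hsimple : ∀ φ : E ⟶ E, ∃ c : k, (SheafOfModules.toSheaf X.ringCatSheaf).map φ =
      Coh.smulAb E (Coh.toGlobal (X ↘ Spec (CommRingCat.of k)) c))
    (E₁ E₂ B : X.Modules) (e : E ≅ B) (p₁ : B ⟶ E₁) (i₁ : E₁ ⟶ B) (p₂ : B ⟶ E₂) (i₂ : E₂ ⟶ B)
    (h11 : i₁ ≫ p₁ = 𝟙 _) (h22 : i₂ ≫ p₂ = 𝟙 _) (h21 : i₂ ≫ p₁ = 0) :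
    IsZero E₁ ∨ IsZero E₂ := by
  obtain ⟨c, hc⟩ := hsimple (e.hom ≫ p₁ ≫ i₁ ≫ e.inv)
  rcases eq_zero_or_isIso_of_scalar k E _ c hc with h | h
  · left
    rw [IsZero.iff_id_eq_zero]
    have h1 : p₁ ≫ i₁ = 0 := by
      rw [← cancel_epi e.hom, ← cancel_mono e.inv, comp_zero, zero_comp]
      simpa only [Category.assoc] using h
    have h2 : i₁ ≫ (p₁ ≫ i₁) ≫ p₁ = 0 := by
      rw [h1, zero_comp, comp_zero]
    rw [Category.assoc, h11, Category.comp_id, h11] at h2
    exact h2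
  · right
    rw [IsZero.iff_id_eq_zero]
    haveI := h
    haveI : IsIso (p₁ ≫ i₁) := by
      have h3 : p₁ ≫ i₁ = e.inv ≫ (e.hom ≫ p₁ ≫ i₁ ≫ e.inv) ≫ e.hom := by
        simp
      rw [h3]
      infer_instance
    haveI : Mono p₁ := mono_of_mono p₁ i₁
    have h4 : i₂ = 0 := by
      rw [← cancel_mono p₁, h21, zero_comp]
    rw [← h22, h4, zero_comp]

theorem indecomposable_of_simple (E : X.Modules)
    (hsimple : ∀ φ : E ⟶ E, ∃ c : k, (SheafOfModules.toSheaf X.ringCatSheaf).map φ =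
      Coh.smulAb E (Coh.toGlobal (X ↘ Spec (CommRingCat.of k)) c))
    (E₁ E₂ : X.Modules) (e : E ≅ E₁ ⊞ E₂) : IsZero E₁ ∨ IsZero E₂ :=
  indecomposable_of_simple_aux k E hsimple E₁ E₂ _ e biprod.fst biprod.inl biprod.snd biprod.inr
    biprod.inl_fst biprod.inr_snd biprod.inr_fst

/-- **S12633** -/
theorem main12633 [IsAlgClosed k] (hdim : topologicalKrullDim X = 1)
    (hreg : ∀ x : X, IsRegularLocalRing (X.presheaf.stalk x))
    (hg : Curv2.genus k X = 1) (E : X.Modules) (hE : FlatMod.IsFinLocFreeOfRank 2 E)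
    (hodd : Odd (Curv2.deg k X E 2)) :
    List.TFAE [
      (¬ IsZero E ∧ ∀ (E₁ E₂ : X.Modules), Nonempty (E ≅ E₁ ⊞ E₂) → IsZero E₁ ∨ IsZero E₂),
      (∀ φ : E ⟶ E, ∃ c : k, (SheafOfModules.toSheaf X.ringCatSheaf).map φ =
        Coh.smulAb E (Coh.toGlobal (X ↘ Spec (CommRingCat.of k)) c)),
      (∀ (F : X.Modules) (r' : ℕ) (i : F ⟶ E), Mono i → 0 < r' → r' < 2 →
        FlatMod.IsFinLocFreeOfRank r' F →
        Curv2.deg k X F r' * (2 : ℤ) < Curv2.deg k X E 2 * (r' : ℤ)),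
      (∀ (F : X.Modules) (r' : ℕ) (i : F ⟶ E), Mono i → 0 < r' → FlatMod.IsFinLocFreeOfRank r' F →
        Curv2.deg k X F r' * (2 : ℤ) ≤ Curv2.deg k X E 2 * (r' : ℤ))] := by
  tfae_have 1 → 4 := by
    rintro ⟨-, hind⟩ F r' i hi hr' hF
    haveI := hi
    have hle := rank_le_of_mono i hF hE
    obtain rfl | rfl : r' = 1 ∨ r' = 2 := by omega
    · have h1 := (main11482 k hdim hreg E hE hind).1 F i (isInvertible_of_rank_one F hF) hi
      rw [hg] at h1
      push_cast at h1 ⊢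
      linarith
    · have h1 := deg_le_of_mono_of_rank_eq k hdim i hF hE
      push_cast
      linarith
  tfae_have 4 → 3 := by
    intro hss F r' i hi hr' hr2 hF
    obtain rfl : r' = 1 := by omega
    have h1 := hss F 1 i hi hr' hF
    obtain ⟨m, hm⟩ := hodd
    push_cast at h1 ⊢
    omega
  tfae_have 3 → 2 := by
    intro hst φ
    have hEc : Coh.IsCoh E := Groth.Agent.Lead.PerfLib.isCoh_of_isFinLocFree
      (FinLocFree7.isFinLocFree_of_rank E hE)
    obtain ⟨a, ha⟩ := scalar_of_division k E hEc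
      (fun ψ hψ => main11483 k hdim hreg 2 E hE
        (fun G s ι hι hG hs hsr => hst G s ι hι hs hsr hG) ψ hψ) φ
    exact ⟨a, by rw [ha]; exact toSheaf_map_smul_id k E a⟩
  tfae_have 2 → 1 := by
    intro hsimple
    refine ⟨not_isZero_of_rank (by norm_num) E hE, fun E₁ E₂ ⟨e⟩ => ?_⟩
    exact indecomposable_of_simple k E hsimple E₁ E₂ e
  tfae_finish

end TFAE

end Groth.Agent.Helper4.SN
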