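import Mathlib
import Groth.Agent.Helper4.SN108

/-!
# A normalised rank two bundle on a curve of positive genus has degree at most `2g - 1`
-/

set_option autoImplicit false
set_option linter.unusedSectionVars false
set_option linter.style.haveILetI false
universe u

open CategoryTheory CategoryTheory.Limits AlgebraicGeometry TopologicalSpace Opposite

namespace Groth.Agent.Helper4.SN

section LocalAlg

variable {k R : Type*} [Field k] [CommRing R] [IsLocalRing R] (ι : k →+* R)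
  {M : Type*} [AddCommGroup M] [Module R M]

/-- two vectors of a free module of rank two over a local ring with residue field `k`, no nontrivial
`k`-combination of which lies in `𝔪 M`, span the module -/
theorem span_pair_eq_top_of_fibre
    (hι : Function.Surjective ((IsLocalRing.residue R).comp ι))
    (b : Module.Basis (Fin 2) R M) (v₁ v₂ : M)
    (h : ∀ a₁ a₂ : k, ι a₁ • v₁ + ι a₂ • v₂ ∈
      (IsLocalRing.maximalIdeal R) • (⊤ : Submodule R M) → a₁ = 0 ∧ a₂ = 0) :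
    Submodule.span R {v₁, v₂} = ⊤ := by
  classical
  set 𝔪M : Submodule R M := (IsLocalRing.maximalIdeal R) • (⊤ : Submodule R M) with h𝔪M
  -- every scalar is a constant modulo the maximal ideal
  have hconst : ∀ r : R, ∃ c : k, r - ι c ∈ IsLocalRing.maximalIdeal R := by
    intro r
    obtain ⟨c, hc⟩ := hι (IsLocalRing.residue R r)
    refine ⟨c, ?_⟩
    rw [← Ideal.Quotient.eq_zero_iff_mem, map_sub]
    have : (Ideal.Quotient.mk (IsLocalRing.maximalIdeal R)) (ι c) =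
        (Ideal.Quotient.mk (IsLocalRing.maximalIdeal R)) r := hc
    rw [this, sub_self]
  have hmem : ∀ (r : R) (m : M), r ∈ IsLocalRing.maximalIdeal R → r • m ∈ 𝔪M := fun r m hr =>
    Submodule.smul_mem_smul hr Submodule.mem_top
  -- coordinates of `v₁`, `v₂` modulo `𝔪`
  obtain ⟨c₁₁, hc₁₁⟩ := hconst (b.repr v₁ 0)
  obtain ⟨c₁₂, hc₁₂⟩ := hconst (b.repr v₁ 1)
  obtain ⟨c₂₁, hc₂₁⟩ := hconst (b.repr v₂ 0)
  obtain ⟨c₂₂, hc₂₂⟩ := hconst (b.repr v₂ 1)
  have hv : ∀ v : M, v = b.repr v 0 • b 0 + b.repr v 1 • b 1 := by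
    intro v
    conv_lhs => rw [← b.sum_repr v]
    rw [Fin.sum_univ_two]
  have hv₁ : v₁ - (ι c₁₁ • b 0 + ι c₁₂ • b 1) ∈ 𝔪M := by
    have : v₁ - (ι c₁₁ • b 0 + ι c₁₂ • b 1) =
        (b.repr v₁ 0 - ι c₁₁) • b 0 + (b.repr v₁ 1 - ι c₁₂) • b 1 := by
      conv_lhs => rw [hv v₁]
      simp only [sub_smul]
      abel
    rw [this]
    exact 𝔪M.add_mem (hmem _ _ hc₁₁) (hmem _ _ hc₁₂)
  have hv₂ : v₂ - (ι c₂₁ • b 0 + ι c₂₂ • b 1) ∈ 𝔪M := by
    have : v₂ - (ι c₂₁ • b 0 + ι c₂₂ • b 1) =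
        (b.repr v₂ 0 - ι c₂₁) • b 0 + (b.repr v₂ 1 - ι c₂₂) • b 1 := by
      conv_lhs => rw [hv v₂]
      simp only [sub_smul]
      abel
    rw [this]
    exact 𝔪M.add_mem (hmem _ _ hc₂₁) (hmem _ _ hc₂₂)
  -- the determinant is nonzero
  have hdet : c₁₁ * c₂₂ - c₁₂ * c₂₁ ≠ 0 := by
    intro hd
    -- a nontrivial combination vanishing modulo `𝔪`
    have key : ∀ a₁ a₂ : k, a₁ * c₁₁ + a₂ * c₂₁ = 0 → a₁ * c₁₂ + a₂ * c₂₂ = 0 →
        a₁ = 0 ∧ a₂ = 0 := by
      intro a₁ a₂ h1 h2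
      apply h
      have e : ι a₁ • v₁ + ι a₂ • v₂ =
          ι a₁ • (v₁ - (ι c₁₁ • b 0 + ι c₁₂ • b 1)) + ι a₂ • (v₂ - (ι c₂₁ • b 0 + ι c₂₂ • b 1)) +
            (ι (a₁ * c₁₁ + a₂ * c₂₁) • b 0 + ι (a₁ * c₁₂ + a₂ * c₂₂) • b 1) := by
        simp only [map_add, map_mul, smul_sub, smul_add, add_smul, mul_smul]
        abel
      rw [e, h1, h2, ι.map_zero, zero_smul, zero_smul, add_zero, add_zero]
      exact 𝔪M.add_mem (𝔪M.smul_mem _ hv₁) (𝔪M.smul_mem _ hv₂)
    by_cases h22 : c₂₂ = 0 ∧ c₂₁ = 0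
    · have := key 0 1 (by rw [h22.2]; ring) (by rw [h22.1]; ring)
      exact one_ne_zero this.2
    · have h3 := key c₂₂ (-c₁₂) ?_ (by ring)
      · have h4 := key c₂₁ (-c₁₁) (by ring) ?_
        · exact h22 ⟨h3.1, h4.1⟩
        · linear_combination -hd
      · linear_combination hd
  -- Nakayama
  have hb0 : b 0 ∈ Submodule.span R {v₁, v₂} ⊔ 𝔪M := by
    set d := c₁₁ * c₂₂ - c₁₂ * c₂₁ with hd
    have e : b 0 = (ι (d⁻¹ * c₂₂) • v₁ + ι (-(d⁻¹ * c₁₂)) • v₂) -
        (ι (d⁻¹ * c₂₂) • (v₁ - (ι c₁₁ • b 0 + ι c₁₂ • b 1)) +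
          ι (-(d⁻¹ * c₁₂)) • (v₂ - (ι c₂₁ • b 0 + ι c₂₂ • b 1))) := by
      have h1 : ι (d⁻¹ * c₂₂) * ι c₁₁ + ι (-(d⁻¹ * c₁₂)) * ι c₂₁ = 1 := by
        rw [← map_mul, ← map_mul, ← map_add, ← map_one ι]
        congr 1
        field_simp
        rw [hd]
        ring
      have h2 : ι (d⁻¹ * c₂₂) * ι c₁₂ + ι (-(d⁻¹ * c₁₂)) * ι c₂₂ = 0 := by
        rw [← map_mul, ← map_mul, ← map_add, ← map_zero ι]
        congr 1
        ring
      have e2 : (ι (d⁻¹ * c₂₂) • v₁ + ι (-(d⁻¹ * c₁₂)) • v₂) -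
          (ι (d⁻¹ * c₂₂) • (v₁ - (ι c₁₁ • b 0 + ι c₁₂ • b 1)) +
            ι (-(d⁻¹ * c₁₂)) • (v₂ - (ι c₂₁ • b 0 + ι c₂₂ • b 1))) =
          (ι (d⁻¹ * c₂₂) * ι c₁₁ + ι (-(d⁻¹ * c₁₂)) * ι c₂₁) • b 0 +
            (ι (d⁻¹ * c₂₂) * ι c₁₂ + ι (-(d⁻¹ * c₁₂)) * ι c₂₂) • b 1 := by
        simp only [smul_sub, smul_add, add_smul, mul_smul]
        abel
      rw [e2, h1, h2, one_smul, zero_smul, add_zero]
    rw [e]
    refine Submodule.sub_mem _ (Submodule.mem_sup_left ?_) (Submodule.mem_sup_right ?_)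
    · exact Submodule.add_mem _ (Submodule.smul_mem _ _ (Submodule.subset_span (by simp)))
        (Submodule.smul_mem _ _ (Submodule.subset_span (by simp)))
    · exact 𝔪M.add_mem (𝔪M.smul_mem _ hv₁) (𝔪M.smul_mem _ hv₂)
  have hb1 : b 1 ∈ Submodule.span R {v₁, v₂} ⊔ 𝔪M := by
    set d := c₁₁ * c₂₂ - c₁₂ * c₂₁ with hd
    have e : b 1 = (ι (-(d⁻¹ * c₂₁)) • v₁ + ι (d⁻¹ * c₁₁) • v₂) -
        (ι (-(d⁻¹ * c₂₁)) • (v₁ - (ι c₁₁ • b 0 + ι c₁₂ • b 1)) +
          ι (d⁻¹ * c₁₁) • (v₂ - (ι c₂₁ • b 0 + ι c₂₂ • b 1))) := by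
      have h1 : ι (-(d⁻¹ * c₂₁)) * ι c₁₁ + ι (d⁻¹ * c₁₁) * ι c₂₁ = 0 := by
        rw [← map_mul, ← map_mul, ← map_add, ← map_zero ι]
        congr 1
        ring
      have h2 : ι (-(d⁻¹ * c₂₁)) * ι c₁₂ + ι (d⁻¹ * c₁₁) * ι c₂₂ = 1 := by
        rw [← map_mul, ← map_mul, ← map_add, ← map_one ι]
        congr 1
        field_simp
        rw [hd]
        ring
      have e2 : (ι (-(d⁻¹ * c₂₁)) • v₁ + ι (d⁻¹ * c₁₁) • v₂) -
          (ι (-(d⁻¹ * c₂₁)) • (v₁ - (ι c₁₁ • b 0 + ι c₁₂ • b 1)) +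
            ι (d⁻¹ * c₁₁) • (v₂ - (ι c₂₁ • b 0 + ι c₂₂ • b 1))) =
          (ι (-(d⁻¹ * c₂₁)) * ι c₁₁ + ι (d⁻¹ * c₁₁) * ι c₂₁) • b 0 +
            (ι (-(d⁻¹ * c₂₁)) * ι c₁₂ + ι (d⁻¹ * c₁₁) * ι c₂₂) • b 1 := by
        simp only [smul_sub, smul_add, add_smul, mul_smul]
        abel
      rw [e2, h1, h2, one_smul, zero_smul, zero_add]
    rw [e]
    refine Submodule.sub_mem _ (Submodule.mem_sup_left ?_) (Submodule.mem_sup_right ?_)
    · exact Submodule.add_mem _ (Submodule.smul_mem _ _ (Submodule.subset_span (by simp)))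
        (Submodule.smul_mem _ _ (Submodule.subset_span (by simp)))
    · exact 𝔪M.add_mem (𝔪M.smul_mem _ hv₁) (𝔪M.smul_mem _ hv₂)
  have htop : (⊤ : Submodule R M) ≤ Submodule.span R {v₁, v₂} ⊔ 𝔪M := by
    rw [← b.span_eq, Submodule.span_le]
    rintro _ ⟨i, rfl⟩
    fin_cases i
    · exact hb0
    · exact hb1
  haveI : Module.Finite R M := Module.Finite.of_basis b
  refine top_le_iff.1 (Submodule.le_of_le_smul_of_le_jacobson_bot Module.Finite.fg_top
    (IsLocalRing.maximalIdeal_le_jacobson ⊥) htop)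

end LocalAlg

section Geom

attribute [local instance] Curv2.resAlgebra

open Groth.Agent.Helper4.StalkDict Groth.Agent.Helper1.Dev

variable (k : Type u) [Field k] {C : Scheme.{u}} [C.Over (Spec (CommRingCat.of k))]
  [IsIntegral C] [IsProper (C ↘ (Spec (CommRingCat.of k)))]

/-- over an algebraically closed field, the residue field of a closed point is `k` -/
theorem resMap_surjective [IsAlgClosed k] (x : C) (hx : IsClosed ({x} : Set C)) :
    Function.Surjective (Curv2.resMap k C x) := by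
  have hpos := finrank_residueField_pos k x hx
  haveI : Module.Finite k (C.residueField x) := Module.finite_of_finrank_pos hpos
  haveI : Algebra.IsIntegral k (C.residueField x) := Algebra.IsIntegral.of_finite k _
  exact (IsAlgClosed.algebraMap_bijective_of_isIntegral (k := k) (K := C.residueField x)).2

/-- the germ of the section attached to a `k`-linear combination of two morphisms `O ⟶ E` -/
theorem germ_sec1_comb (E : C.Modules) (s₁ s₂ : Coh.structureModule C ⟶ E) (a₁ a₂ : k) (x : C) :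
    E.presheaf.germ ⊤ x trivial (sec1 E (a₁ • s₁ + a₂ • s₂)) =
      Curv2.stalkMap k C x a₁ • E.presheaf.germ ⊤ x trivial (sec1 E s₁) +
        Curv2.stalkMap k C x a₂ • E.presheaf.germ ⊤ x trivial (sec1 E s₂) := by
  rw [sec1_add]
  refine ((E.presheaf.germ ⊤ x trivial).hom.map_add _ _).trans ?_
  congr 1
  · exact (congrArg (E.presheaf.germ ⊤ x trivial) (sec1_smul k E a₁ s₁)).trans
      (germ_smul E ⊤ x trivial _ _)
  · exact (congrArg (E.presheaf.germ ⊤ x trivial) (sec1_smul k E a₂ s₂)).trans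
      (germ_smul E ⊤ x trivial _ _)

/-- two independent sections of a normalised rank two bundle generate every stalk at a closed
point -/
theorem stalkLin_surjective_of_normalized [IsAlgClosed k] (hdim : topologicalKrullDim C = 1)
    (hreg : ∀ x : C, IsRegularLocalRing (C.presheaf.stalk x))
    (E : C.Modules) (hE : FlatMod.IsFinLocFreeOfRank 2 E)
    (hneg : ∀ M : C.Modules, PicF.IsInvertible M → Curv2.deg k C M 1 < 0 →
      Subsingleton (Coh.HH C (CohB1.tensorMod E M) 0))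
    (s₁ s₂ : Coh.structureModule C ⟶ E)
    (hli : ∀ a₁ a₂ : k, a₁ • s₁ + a₂ • s₂ = 0 → a₁ = 0 ∧ a₂ = 0)
    {F : C.Modules} (ψ : F ⟶ E) (i₁ i₂ : Coh.structureModule C ⟶ F)
    (h₁ : i₁ ≫ ψ = s₁) (h₂ : i₂ ≫ ψ = s₂) (x : C) (hx : IsClosed ({x} : Set C)) :
    Function.Surjective (stalkLin ψ x) := by
  obtain ⟨b⟩ := nonempty_basis_stalk_of_rank E hE x
  have hι : Function.Surjective
      ((IsLocalRing.residue (C.presheaf.stalk x)).comp (Curv2.stalkMap k C x)) :=
    resMap_surjective k x hx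
  have hspan := span_pair_eq_top_of_fibre (Curv2.stalkMap k C x) hι b
    (E.presheaf.germ ⊤ x trivial (sec1 E s₁)) (E.presheaf.germ ⊤ x trivial (sec1 E s₂))
    (fun a₁ a₂ hmem => by
      rw [← germ_sec1_comb] at hmem
      apply hli
      by_contra hne
      exact germ_not_mem_of_normalized k hdim hreg E 2 hE hneg _ hne x hmem)
  rw [← LinearMap.range_eq_top, ← top_le_iff, ← hspan, Submodule.span_le]
  intro v hv
  rcases hv with rfl | hv
  · refine ⟨stalkLin i₁ x (Groth.Agent.Lead.Hartogs2.unitEquiv x 1), ?_⟩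
    rw [← Groth.Agent.Lead.StalkNhd.stalkLin_comp, h₁, stalkLin_unitEquiv_one]
  · rw [Set.mem_singleton_iff] at hv
    subst hv
    refine ⟨stalkLin i₂ x (Groth.Agent.Lead.Hartogs2.unitEquiv x 1), ?_⟩
    rw [← Groth.Agent.Lead.StalkNhd.stalkLin_comp, h₂, stalkLin_unitEquiv_one]

omit [IsIntegral C] [IsProper (C ↘ (Spec (CommRingCat.of k)))] [C.Over (Spec (CommRingCat.of k))] in
/-- a morphism with coherent cokernel which is surjective on the stalks at all closed points is an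
epimorphism -/
theorem epi_of_stalkLin_surjective_closed [CompactSpace C] {F E : C.Modules} (ψ : F ⟶ E)
    (hcQ : Coh.IsCoh (cokernel ψ))
    (h : ∀ x : C, IsClosed ({x} : Set C) → Function.Surjective (stalkLin ψ x)) : Epi ψ := by
  have hz : IsZero (cokernel ψ) := by
    apply Groth.Agent.Helper4.AssDict.isZero_of_subsingleton_stalks
    by_contra hne
    push Not at hne
    obtain ⟨y, hy⟩ := hne
    have hcl : IsClosed (CohB1.support (cokernel ψ)) := Groth.Agent.S0020.result C _ hcQ.2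
    obtain ⟨x, hxs, hx⟩ := IsClosed.exists_closed_singleton hcl
      ⟨y, not_subsingleton_iff_nontrivial.2 hy⟩
    exact hxs (Groth.Agent.Lead.StalkNhd.subsingleton_stalk_cokernel ψ x (h x hx))
  exact Preadditive.epi_of_isZero_cokernel ψ hz

/-- the Euler characteristic of a free module -/
theorem chi_freeMod (n : ℕ) :
    Curv2.euler k C (FlatMod.freeMod C n) = n * Curv2.euler k C (Coh.structureModule C) := by
  have h := chi_freeMod_tensor k (Coh.structureModule C) (isCoh_structureModule C) n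
  rw [chi_tensorRight_obj, chi_iso k (SecTwist.unitorR (FlatMod.freeMod C n))] at h
  exact h

/-- **a normalised rank two bundle on a curve of positive genus has degree at most `2g - 1`** -/
theorem deg_le_of_normalized [IsAlgClosed k] (hdim : topologicalKrullDim C = 1)
    (hreg : ∀ x : C, IsRegularLocalRing (C.presheaf.stalk x))
    (hg : 1 ≤ Curv2.genus k C)
    (E : C.Modules) (hE : FlatMod.IsFinLocFreeOfRank 2 E)
    (hneg : ∀ M : C.Modules, PicF.IsInvertible M → Curv2.deg k C M 1 < 0 →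
      Subsingleton (Coh.HH C (CohB1.tensorMod E M) 0)) :
    Curv2.deg k C E 2 ≤ 2 * (Curv2.genus k C : ℤ) - 1 := by
  haveI := Groth.Agent.Helper4.NApx82.isNoetherian_of_proper k C
  haveI : CompactSpace C :=
    QuasiCompact.compactSpace_of_compactSpace (C ↘ (Spec (CommRingCat.of k)))
  by_contra hlt
  push Not at hlt
  have h0O := finrank_h0_unit_of_isAlgClosed k (X := C)
  have hOO := chi_eq_h0_sub_h1 k hdim.le (Coh.structureModule C)
  have hEE := chi_eq_h0_sub_h1 k hdim.le E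
  unfold chi at hOO hEE
  have hcE : Coh.IsCoh E := Groth.Agent.Lead.PerfLib.isCoh_of_isFinLocFree
    (FinLocFree7.isFinLocFree_of_rank E hE)
  -- `h⁰(E) ≥ 2`
  have h2 : 2 ≤ Module.finrank k (Coh.structureModule C ⟶ E) := by
    rw [finrank_hom_unit]
    have hdef : Curv2.deg k C E 2 =
        Curv2.euler k C E - 2 * Curv2.euler k C (Coh.structureModule C) := by
      unfold Curv2.deg
      push_cast
      ring
    have hnn : (0 : ℤ) ≤ (Module.finrank k (Coh.HH C E 1) : ℤ) := Int.natCast_nonneg _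
    have hgen : (Curv2.genus k C : ℤ) = (Module.finrank k (Coh.HH C (Coh.structureModule C) 1) : ℤ) :=
      rfl
    rw [hdef, hEE, hOO, h0O] at hlt
    push_cast at hlt
    have : (2 : ℤ) ≤ (Module.finrank k (Coh.HH C E 0) : ℤ) := by linarith
    exact_mod_cast this
  haveI : Nontrivial (Coh.structureModule C ⟶ E) :=
    Module.nontrivial_of_finrank_pos (R := k) (by omega)
  obtain ⟨s₁, hs₁⟩ := exists_ne (0 : Coh.structureModule C ⟶ E)
  obtain ⟨s₂, hs₂⟩ := exists_linearIndependent_pair_of_one_lt_finrank (R := k)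
    (by omega : 1 < Module.finrank k (Coh.structureModule C ⟶ E)) hs₁
  have hli : ∀ a₁ a₂ : k, a₁ • s₁ + a₂ • s₂ = 0 → a₁ = 0 ∧ a₂ = 0 :=
    fun a₁ a₂ h => (LinearIndependent.pair_iff.1 hs₂) a₁ a₂ h
  -- the map from the free module of rank two
  let ψ : FlatMod.freeMod C 2 ⟶ E := Sigma.desc (fun i : Fin 2 => ![s₁, s₂] i)
  have h₁ : Sigma.ι (fun _ : Fin 2 => Coh.structureModule C) 0 ≫ ψ = s₁ := by
    simp only [ψ, colimit.ι_desc, Cofan.mk_ι_app]
    rfl
  have h₂ : Sigma.ι (fun _ : Fin 2 => Coh.structureModule C) 1 ≫ ψ = s₂ := by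
    simp only [ψ, colimit.ι_desc, Cofan.mk_ι_app]
    rfl
  have hcF := isCoh_freeMod C 2
  have hF := isFinLocFreeOfRank_freeMod (X := C) 2
  have hcQ : Coh.IsCoh (cokernel ψ) := Groth.Agent.Lead.PerfLib.isCoh_cokernel hcF hcE ψ
  haveI hepi : Epi ψ := epi_of_stalkLin_surjective_closed ψ hcQ (fun x hx =>
    stalkLin_surjective_of_normalized k hdim hreg E hE hneg s₁ s₂ hli ψ _ _ h₁ h₂ x hx)
  -- the kernel has rank zero
  have hcK : Coh.IsCoh (kernel ψ) := Groth.Agent.Lead.PerfLib.isCoh_kernel hcF hcE ψ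
  obtain ⟨rK, hK⟩ := exists_rank_of_mono hreg hdim.le (kernel.ι ψ) hcK hF
  have hS : (ShortComplex.mk (kernel.ι ψ) ψ (kernel.condition ψ)).ShortExact :=
    { exact := ShortComplex.exact_of_f_is_kernel _ (kernelIsKernel ψ) }
  have hr := rank_add_of_shortExact _ hS hK hF hE
  obtain rfl : rK = 0 := by omega
  haveI : Mono ψ := Preadditive.mono_of_isZero_kernel ψ (isZero_of_rank_zero _ hK)
  haveI : IsIso ψ := isIso_of_mono_of_epi ψ
  have hχ := chi_iso k (asIso ψ)
  unfold chi at hχ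
  rw [chi_freeMod] at hχ
  have hdef : Curv2.deg k C E 2 =
      Curv2.euler k C E - 2 * Curv2.euler k C (Coh.structureModule C) := by
    unfold Curv2.deg
    push_cast
    ring
  rw [hdef, ← hχ] at hlt
  push_cast at hlt
  have : (1 : ℤ) ≤ (Curv2.genus k C : ℤ) := by exact_mod_cast hg
  linarith

end Geom

end Groth.Agent.Helper4.SN
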