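import Mathlib
import Groth.Agent.Helper4.SN109

/-!
# Indecomposable rank two bundles of even degree on a genus one curve
-/

set_option autoImplicit false
set_option linter.unusedSectionVars false
set_option linter.style.haveILetI false
universe u

open CategoryTheory CategoryTheory.Limits AlgebraicGeometry TopologicalSpace Opposite

namespace Groth.Agent.Helper4.SN

section Even

variable (k : Type u) [Field k] {C : Scheme.{u}} [C.Over (Spec (CommRingCat.of k))]
  [IsIntegral C] [IsProper (C ↘ (Spec (CommRingCat.of k)))]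

/-- a normalised rank two bundle which is not a sum of two invertible modules is a non-split
extension of an invertible module `L` by `O`; `H¹` of an inverse of `L` does not vanish -/
theorem normalized_extension_data (hdim : topologicalKrullDim C = 1)
    (hreg : ∀ x : C, IsRegularLocalRing (C.presheaf.stalk x))
    (E : C.Modules) (hE : FlatMod.IsFinLocFreeOfRank 2 E)
    (hn0 : Nontrivial (Coh.HH C E 0))
    (hneg : ∀ M : C.Modules, PicF.IsInvertible M → Curv2.deg k C M 1 < 0 →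
      Subsingleton (Coh.HH C (CohB1.tensorMod E M) 0))
    (hind : ∀ L₁ L₂ : C.Modules, PicF.IsInvertible L₁ → PicF.IsInvertible L₂ →
      IsEmpty (E ≅ L₁ ⊞ L₂)) :
    ∃ (s : Coh.structureModule C ⟶ E) (L' : C.Modules), Mono s ∧
      PicF.IsInvertible (cokernel s) ∧ PicF.IsInvertible L' ∧
      Nonempty (CohB1.tensorMod L' (cokernel s) ≅ Coh.structureModule C) ∧
      Nonempty (CohB1.tensorMod (cokernel s) L' ≅ Coh.structureModule C) ∧
      Nontrivial (Coh.HH C L' 1) ∧ Curv2.deg k C E 2 = Curv2.deg k C (cokernel s) 1 := by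
  haveI := Groth.Agent.Helper4.NApx82.isNoetherian_of_proper k C
  have hO : PicF.IsInvertible (Coh.structureModule C) :=
    Groth.Agent.Helper4.TensorInv.isInvertible_structureModule
  have hcO := Groth.Agent.Helper1.SerreFin.isCoh_of_isInvertible _ hO
  have hcE : Coh.IsCoh E := Groth.Agent.Lead.PerfLib.isCoh_of_isFinLocFree
    (FinLocFree7.isFinLocFree_of_rank E hE)
  obtain ⟨s, hs⟩ := exists_section_of_nontrivial_H0 E hn0
  obtain ⟨hmono, hL⟩ := main12430 k hdim hreg E hE hneg s hs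
  haveI := hmono
  have hS := Groth.Agent.Helper1.Dev.cokSC_shortExact s
  obtain ⟨L', hL', ⟨ε⟩, ⟨ε2⟩⟩ := Groth.Agent.Lead.InvDual.exists_inverse (cokernel s) hL
  have hcL := Groth.Agent.Helper1.SerreFin.isCoh_of_isInvertible _ hL
  have h1 : Nontrivial (Coh.HH C L' 1) := by
    rw [← not_subsingleton_iff_nontrivial]
    intro hsub
    have h1' : Subsingleton (Coh.HH C
        (CohB1.tensorMod (Groth.Agent.Helper1.Dev.cokSC s).X₁ L') 1) :=
      (Groth.Agent.Helper1.ProjTop.HHlinEquiv k (X := C)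
        (Groth.Agent.Helper4.AmpleBasis.unitorL L') 1).toEquiv.subsingleton
    obtain ⟨ψ, hψ⟩ := exists_lift_twist k (Groth.Agent.Helper1.Dev.cokSC s) hS (cokernel s) L' hL'
      ε ε2.symm h1' (𝟙 _)
    have spl := ShortComplex.Splitting.ofExactOfSection _ hS.exact ψ hψ hS.mono_f
    exact (hind _ _ hO hL).false spl.isoBinaryBiproduct
  have hadd := Groth.Agent.Helper4.NApx80.euler_additive k C _ hS hcO hcE hcL
  have hE2 : Curv2.deg k C E 2 = Curv2.deg k C (cokernel s) 1 := by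
    unfold Curv2.deg
    change Curv2.euler k C E = Curv2.euler k C (Coh.structureModule C) +
      Curv2.euler k C (cokernel s) at hadd
    rw [hadd]
    push_cast
    ring
  exact ⟨s, L', hmono, hL, hL', ⟨ε⟩, ⟨ε2⟩, h1, hE2⟩

/-- **S11825** -/
theorem main11825 [IsAlgClosed k] (hdim : topologicalKrullDim C = 1)
    (hreg : ∀ x : C, IsRegularLocalRing (C.presheaf.stalk x))
    (hg : Curv2.genus k C = 1) (E : C.Modules) (hE : FlatMod.IsFinLocFreeOfRank 2 E)
    (hind : ∀ (E₁ E₂ : C.Modules), Nonempty (E ≅ E₁ ⊞ E₂) → IsZero E₁ ∨ IsZero E₂)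
    (heven : Even (Curv2.deg k C E 2)) :
    ∃ (M : C.Modules) (S : ShortComplex C.Modules), PicF.IsInvertible M ∧ S.ShortExact ∧
      Nonempty (S.X₁ ≅ M) ∧ Nonempty (S.X₃ ≅ M) ∧ Nonempty (S.X₂ ≅ E) := by
  haveI := Groth.Agent.Helper4.NApx82.isNoetherian_of_proper k C
  have h0O := finrank_h0_unit_of_isAlgClosed k (X := C)
  obtain ⟨M₀, ι₀, hM₀, hι₀, hmax⟩ := exists_max_invertible_sub k hdim hreg 2 (by norm_num) E hE
  obtain ⟨N₀, hN₀, ⟨ε1⟩, ⟨ε2⟩⟩ := Groth.Agent.Lead.InvDual.exists_inverse M₀ hM₀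
  obtain ⟨hn0, hneg⟩ := normalized_of_max k hdim 2 E hE M₀ ι₀ hM₀ hι₀ hmax N₀ hN₀ ε1 ε2
  have hE' := isFinLocFreeOfRank_tensor_invertible E N₀ 2 hE hN₀
  have hind' := isEmpty_iso_biprod_of_twist E N₀ M₀ hM₀ ε1 hind
  have hb := main11347 k hdim hreg (CohB1.tensorMod E N₀) hE' hn0 hneg hind'
  have hb2 := deg_le_of_normalized k hdim hreg (by omega) (CohB1.tensorMod E N₀) hE' hneg
  have h7 := main7637 k hdim.le 2 1 E N₀ hE
    (Groth.Agent.Helper4.QAffSec.isFinLocFreeOfRank_one_of_isInvertible N₀ hN₀)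
  rw [Nat.mul_one, deg_inverse k hdim.le M₀ N₀ hM₀ hN₀ ε1] at h7
  push_cast at h7
  have hd0 : Curv2.deg k C (CohB1.tensorMod E N₀) 2 = 0 := by
    obtain ⟨m, hm⟩ := heven
    rw [hg] at hb hb2
    push_cast at hb hb2
    omega
  obtain ⟨s, L', hmono, hL, hL', ⟨ε⟩, ⟨ε'⟩, h1, hE2⟩ :=
    normalized_extension_data k hdim hreg (CohB1.tensorMod E N₀) hE' hn0 hneg hind'
  haveI := hmono
  -- the quotient is trivial
  have hdL : Curv2.deg k C (cokernel s) 1 = 0 := by rw [← hE2, hd0]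
  have hdL' : Curv2.deg k C L' 1 = 0 := by
    rw [deg_inverse k hdim.le (cokernel s) L' hL hL' ε, hdL, neg_zero]
  have hχ := chi_eq_h0_sub_h1 k hdim.le L'
  have hOO := chi_eq_h0_sub_h1 k hdim.le (Coh.structureModule C)
  unfold chi at hχ hOO
  have hcL' := Groth.Agent.Helper1.SerreFin.isCoh_of_isInvertible _ hL'
  haveI : Module.Finite k (Coh.HH C L' 1) := Groth.Agent.S0002.result k C _ hcL' 1
  have hpos1 : 0 < Module.finrank k (Coh.HH C L' 1) := Module.finrank_pos
  have hpos0 : 0 < Module.finrank k (Coh.HH C L' 0) := by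
    have hgen : (Curv2.genus k C : ℤ) =
        (Module.finrank k (Coh.HH C (Coh.structureModule C) 1) : ℤ) := rfl
    unfold Curv2.deg at hdL'
    rw [hχ, hOO, h0O, ← hgen, hg] at hdL'
    push_cast at hdL'
    have : (0 : ℤ) < (Module.finrank k (Coh.HH C L' 0) : ℤ) := by
      have : (0 : ℤ) < (Module.finrank k (Coh.HH C L' 1) : ℤ) := by exact_mod_cast hpos1
      linarith
    exact_mod_cast this
  haveI : Nontrivial (Coh.HH C L' 0) := Module.nontrivial_of_finrank_pos (R := k) hpos0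
  obtain ⟨t, ht⟩ := exists_section_of_nontrivial_H0 L' inferInstance
  obtain ⟨eL'⟩ := Groth.Agent.Helper4.NApx82.main1520 k C hdim L' hL' t ht hdL'.le
  -- `cokernel s ≅ O`
  have eL : cokernel s ≅ Coh.structureModule C :=
    (SecTwist.unitorR (cokernel s)).symm ≪≫
      (PicGrp.tensorModIso (Iso.refl (cokernel s)) eL'.symm) ≪≫ ε'
  -- twist back
  have hS := Groth.Agent.Helper1.Dev.cokSC_shortExact s
  have hS' := Groth.Agent.Helper1.TwistExact.shortExact_map_tensorRightMod hS M₀ hM₀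
  refine ⟨M₀, _, hM₀, hS', ⟨Groth.Agent.Helper4.AmpleBasis.unitorL M₀⟩,
    ⟨(DCoh.tensorRightMod M₀).mapIso eL ≪≫ Groth.Agent.Helper4.AmpleBasis.unitorL M₀⟩,
    ⟨(twistTwistIso N₀ M₀ ε1).app E⟩⟩

/-- indecomposable rank two bundles on a genus one curve are semistable -/
theorem semistable_of_indecomposable_genus_one [IsAlgClosed k] (hdim : topologicalKrullDim C = 1)
    (hreg : ∀ x : C, IsRegularLocalRing (C.presheaf.stalk x))
    (hg : Curv2.genus k C = 1) (E : C.Modules) (hE : FlatMod.IsFinLocFreeOfRank 2 E)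
    (hind : ∀ (E₁ E₂ : C.Modules), Nonempty (E ≅ E₁ ⊞ E₂) → IsZero E₁ ∨ IsZero E₂)
    (F : C.Modules) (r' : ℕ) (i : F ⟶ E) (hi : Mono i) (hr' : 0 < r')
    (hF : FlatMod.IsFinLocFreeOfRank r' F) :
    Curv2.deg k C F r' * (2 : ℤ) ≤ Curv2.deg k C E 2 * (r' : ℤ) := by
  haveI := hi
  have hle := rank_le_of_mono i hF hE
  obtain rfl | rfl : r' = 1 ∨ r' = 2 := by omega
  · have h1 := (main11482 k hdim hreg E hE hind).1 F i (isInvertible_of_rank_one F hF) hi
    rw [hg] at h1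
    push_cast at h1 ⊢
    linarith
  · have h1 := deg_le_of_mono_of_rank_eq k hdim i hF hE
    push_cast
    linarith

/-- **S11833** -/
theorem main11833 [IsAlgClosed k] (hdim : topologicalKrullDim C = 1)
    (hreg : ∀ x : C, IsRegularLocalRing (C.presheaf.stalk x))
    (hg : Curv2.genus k C = 1) (E : C.Modules) (hE : FlatMod.IsFinLocFreeOfRank 2 E)
    (heven : Even (Curv2.deg k C E 2)) :
    (∃ φ : E ⟶ E, ∀ c : k, (SheafOfModules.toSheaf C.ringCatSheaf).map φ ≠
        Coh.smulAb E (Coh.toGlobal (C ↘ Spec (CommRingCat.of k)) c)) ∧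
      ((¬ IsZero E ∧ ∀ (E₁ E₂ : C.Modules), Nonempty (E ≅ E₁ ⊞ E₂) → IsZero E₁ ∨ IsZero E₂) →
        (∀ (F : C.Modules) (r' : ℕ) (i : F ⟶ E), Mono i → 0 < r' →
          FlatMod.IsFinLocFreeOfRank r' F →
          Curv2.deg k C F r' * (2 : ℤ) ≤ Curv2.deg k C E 2 * (r' : ℤ))) := by
  have hE0 : ¬ IsZero E := not_isZero_of_rank (by norm_num) E hE
  refine ⟨?_, fun ⟨_, hind⟩ F r' i hi hr' hF =>
    semistable_of_indecomposable_genus_one k hdim hreg hg E hE hind F r' i hi hr' hF⟩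
  by_contra hsimple
  push Not at hsimple
  -- `E` is simple, hence indecomposable
  have hind : ∀ (E₁ E₂ : C.Modules), Nonempty (E ≅ E₁ ⊞ E₂) → IsZero E₁ ∨ IsZero E₂ :=
    fun E₁ E₂ ⟨e⟩ => indecomposable_of_simple k E hsimple E₁ E₂ e
  obtain ⟨M, S, hM, hS, ⟨e₁⟩, ⟨e₃⟩, ⟨e₂⟩⟩ := main11825 k hdim hreg hg E hE hind heven
  haveI := hS.mono_f
  haveI := hS.epi_g
  let φ : E ⟶ E := e₂.inv ≫ S.g ≫ e₃.hom ≫ e₁.inv ≫ S.f ≫ e₂.hom
  have hφ2 : φ ≫ φ = 0 := by
    simp only [φ, Category.assoc, Iso.hom_inv_id_assoc, S.zero_assoc, zero_comp, comp_zero]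
  have hφ0 : φ ≠ 0 := by
    intro h
    have h1 : S.g ≫ e₃.hom ≫ e₁.inv ≫ S.f = 0 := by
      have h2 : e₂.inv ≫ (S.g ≫ e₃.hom ≫ e₁.inv ≫ S.f) ≫ e₂.hom = 0 := by
        simpa only [φ, Category.assoc] using h
      rw [← cancel_epi e₂.inv, ← cancel_mono e₂.hom, comp_zero, zero_comp]
      exact h2
    have h3 : e₃.hom ≫ e₁.inv = 0 := by
      rw [← cancel_epi S.g, ← cancel_mono S.f, comp_zero, zero_comp]
      simpa only [Category.assoc] using h1
    have h4 : (𝟙 M) = 0 := by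
      have : e₃.inv ≫ (e₃.hom ≫ e₁.inv) ≫ e₁.hom = 𝟙 M := by simp
      rw [← this, h3, zero_comp, comp_zero]
    exact not_isZero_of_isInvertible M hM ((IsZero.iff_id_eq_zero M).2 h4)
  obtain ⟨c, hc⟩ := hsimple φ
  rcases eq_zero_or_isIso_of_scalar k E φ c hc with h | h
  · exact hφ0 h
  · haveI := h
    apply hE0
    rw [IsZero.iff_id_eq_zero, ← cancel_mono φ, ← cancel_mono φ, Category.assoc, hφ2,
      comp_zero, zero_comp, zero_comp]

end Even

end Groth.Agent.Helper4.SN
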