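import Mathlib
import Groth.Agent.Helper4.SN85
import Groth.Agent.S0023

/-!
# Characterisation of the projective line by an invertible module of degree one
-/

set_option autoImplicit false
set_option linter.style.haveILetI false

namespace Groth.Agent.Helper4.SN

open CategoryTheory Limits AlgebraicGeometry Opposite TopologicalSpace
open Groth.Agent.Helper4.StalkDict Groth.Agent.Helper4.StalkExact
open Groth.Agent.Helper4.GenLoc Groth.Agent.Helper1.PUP

universe u

section Iso

theorem residueDegree_of_isOpenImmersion {X Y : Scheme.{u}} (f : X ⟶ Y) [IsOpenImmersion f]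
    (x : X) : f.residueDegree x = 1 := by
  unfold Scheme.Hom.residueDegree
  letI := (f.residueFieldMap x).hom.toAlgebra
  have hbij : Function.Bijective (algebraMap (Y.residueField (f x)) (X.residueField x)) :=
    ConcreteCategory.bijective_of_isIso (f.residueFieldMap x)
  exact (LinearEquiv.ofBijective (Algebra.linearMap _ _) hbij).finrank_eq.symm.trans
    (Module.finrank_self _)

theorem isIso_unitToPush_of_isIso {X Y : Scheme.{u}} (f : X ⟶ Y) [IsIso f] :
    IsIso (ClSub.unitToPush f) :=
  isIso_of_app_bijective _ (fun V => ConcreteCategory.bijective_of_isIso (f.app V))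

end Iso

section Main

variable (k : Type u) [Field k] {X : Scheme.{u}} [X.Over (Spec (CommRingCat.of k))]
  [IsIntegral X] [IsProper (X ↘ (Spec (CommRingCat.of k)))]

/-- on a curve with `H¹(O) = 0` a module of degree one has at least two sections -/
theorem two_le_h0_of_deg_one (hdim : topologicalKrullDim X = 1)
    (h1 : Subsingleton (Coh.HH X (Coh.structureModule X) 1))
    (L : X.Modules) (hdeg : Curv2.deg k X L 1 = 1) :
    2 ≤ Module.finrank k (Coh.HH X L 0) := by
  haveI := Groth.Agent.Helper4.NApx82.isNoetherian_of_proper k X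
  have hOX : Coh.IsCoh (Coh.structureModule X) := Groth.Agent.Helper1.Dev.isCoh_structureModule X
  haveI : Module.Finite k (Coh.HH X (Coh.structureModule X) 0) :=
    Groth.Agent.S0002.result k X _ hOX 0
  have hX := chi_eq_h0_sub_h1 k hdim.le (Coh.structureModule X)
  have hL' := chi_eq_h0_sub_h1 k hdim.le L
  unfold chi at hX hL'
  unfold Curv2.deg at hdeg
  rw [hX, hL', Module.finrank_zero_of_subsingleton (M := Coh.HH X (Coh.structureModule X) 1)]
    at hdeg
  have hpos : 0 < Module.finrank k (Coh.HH X (Coh.structureModule X) 0) := by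
    haveI : Nontrivial (Coh.HH X (Coh.structureModule X) 0) := by
      have e := Groth.Agent.Lead.ProperFinA.h0Equiv (Coh.structureModule X)
      haveI : Nontrivial ((Coh.toAb (Coh.structureModule X)).obj.obj (op ⊤)) := by
        refine ⟨⟨(one X ⊤ : Γ(Coh.structureModule X, ⊤)), 0, ?_⟩⟩
        intro h
        have h2 : (1 : Γ(X, ⊤)) = 0 := h
        exact one_ne_zero h2
      exact e.toEquiv.nontrivial
    exact Module.finrank_pos
  have h3 : (0 : ℤ) ≤ (Module.finrank k (Coh.HH X L 1) : ℤ) := Int.natCast_nonneg _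
  have h4 : (1 : ℤ) ≤ (Module.finrank k (Coh.HH X (Coh.structureModule X) 0) : ℤ) := by
    exact_mod_cast hpos
  have h5 : (2 : ℤ) ≤ (Module.finrank k (Coh.HH X L 0) : ℤ) := by
    push_cast at hdeg
    linarith
  exact_mod_cast h5

/-- the pullback of `O(1)` along an isomorphism with the projective line -/
theorem exists_deg_one_of_iso (hdim : topologicalKrullDim X = 1)
    (e : X ≅ CohB1.ProjSpace 1 k)
    (he : e.hom ≫ CohB1.ProjSpace.toSpec 1 k = X ↘ (Spec (CommRingCat.of k))) :
    ∃ L : X.Modules, PicF.IsInvertible L ∧ Curv2.deg k X L 1 = 1 ∧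
      2 ≤ Module.finrank k (Coh.HH X L 0) := by
  have hO1 : PicF.IsInvertible (Twist.twistProjSpace 1 k 1) :=
    Groth.Agent.Helper1.SerreVan.isInvertible_twist 1 k 1
  have hL : PicF.IsInvertible ((Scheme.Modules.pullback e.hom).obj (Twist.twistProjSpace 1 k 1)) :=
    Groth.Agent.Helper4.PullSec.isInvertible_pullback e.hom hO1
  have hξ : e.hom (genericPoint X) = genericPoint (CohB1.ProjSpace 1 k) :=
    genericPoint_eq_of_isOpenImmersion e.hom
  have hd := main7640 k hdim (dim_P1 k) e.hom he hξ 1 (Twist.twistProjSpace 1 k 1)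
    (Groth.Agent.Helper4.QAffSec.isFinLocFreeOfRank_one_of_isInvertible _ hO1)
  rw [deg_twist_one_P1, mul_one, residueDegree_of_isOpenImmersion] at hd
  have hd' : Curv2.deg k X ((Scheme.Modules.pullback e.hom).obj (Twist.twistProjSpace 1 k 1)) 1
      = 1 := by exact_mod_cast hd
  refine ⟨_, hL, hd', ?_⟩
  apply two_le_h0_of_deg_one k hdim _ _ hd'
  -- `H¹(X, O_X) = 0`
  have hOX : Coh.IsCoh (Coh.structureModule X) := Groth.Agent.Helper1.Dev.isCoh_structureModule X
  haveI : Coh.IsQCoh (Coh.structureModule X) := hOX.1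
  obtain ⟨ε⟩ := Groth.Agent.Helper1.AffLin.nonempty_HH_linearEquiv e.hom k he
    (Coh.structureModule X) 1
  haveI := isIso_unitToPush_of_isIso e.hom
  have ε2 := Groth.Agent.Helper1.ProjTop.HHlinEquiv k (asIso (ClSub.unitToPush e.hom)) 1
  haveI := Groth.Agent.S0023.result 1 k 1 Nat.one_pos
  exact (ε.trans ε2.symm).toEquiv.subsingleton

end Main

section Final

variable (k : Type u) [Field k] (X : Scheme.{u}) [X.Over (Spec (CommRingCat.of k))]
  [IsIntegral X]

/-- **S11573** -/
theorem main11573
    (hprojX : ∃ (N : ℕ) (i : X ⟶ CohB1.ProjSpace N k), IsClosedImmersion i ∧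
      i ≫ CohB1.ProjSpace.toSpec N k = X ↘ (Spec (CommRingCat.of k)))
    (hdim : topologicalKrullDim X = 1) :
    (∃ e : X ≅ CohB1.ProjSpace 1 k,
        e.hom ≫ CohB1.ProjSpace.toSpec 1 k = X ↘ (Spec (CommRingCat.of k))) ↔
      ∃ L : X.Modules, PicF.IsInvertible L ∧ Curv2.deg k X L 1 = 1 ∧
        2 ≤ Module.finrank k (Coh.HH X L 0) := by
  obtain ⟨N, i, hi, hik⟩ := hprojX
  haveI : IsProper (X ↘ (Spec (CommRingCat.of k))) := by
    rw [← hik]
    haveI := Groth.Agent.Helper6.HProj.isProper_toSpec N k
    infer_instance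
  constructor
  · rintro ⟨e, he⟩
    exact exists_deg_one_of_iso k hdim e he
  · rintro ⟨L, hL, hdeg, h2⟩
    exact exists_iso_P1_of_deg_one k hdim L hL hdeg h2

end Final

end Groth.Agent.Helper4.SN
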