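import Mathlib
import Groth.Agent.Helper4.SN88
import Groth.Agent.Helper4.SN51
import Groth.Agent.Helper4.SN74
import Groth.Agent.Helper4.SN32
import Groth.Agent.Helper4.NApx80
import Groth.Agent.Helper1.ProjTop8
import Groth.Agent.Lead.QcohTensor

/-!
# Twisting by a point: `h⁰(L) ≤ h⁰(L(x)) ≤ h⁰(L) + [κ(x) : k]`
-/

set_option autoImplicit false
set_option linter.unusedSectionVars false
set_option linter.style.haveILetI false
universe u

open CategoryTheory CategoryTheory.Limits AlgebraicGeometry Opposite TopologicalSpace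

namespace Groth.Agent.Helper4.SN

section H0

variable (k : Type u) [Field k] {X : Scheme.{u}} [X.Over (Spec (CommRingCat.of k))]
  [IsProper (X ↘ (Spec (CommRingCat.of k)))]

/-- `h⁰` is subadditive on short exact sequences -/
theorem h0_le_add_of_shortExact (S : ShortComplex X.Modules) (hS : S.ShortExact)
    (h₂ : Coh.IsCoh S.X₂) (h₃ : Coh.IsCoh S.X₃) :
    Module.finrank k (Coh.HH X S.X₂ 0) ≤
      Module.finrank k (Coh.HH X S.X₁ 0) + Module.finrank k (Coh.HH X S.X₃ 0) := by
  haveI : Module.Finite k (Coh.HH X S.X₂ 0) := Groth.Agent.S0002.result k X _ h₂ 0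
  let f₀ := Canon.HHlin k S.f 0
  let g₀ := Canon.HHlin k S.g 0
  have hex : Function.Exact f₀ g₀ := Groth.Agent.Helper4.NApx80.exact_f_g k S hS 0
  have h1 := LinearMap.finrank_range_add_finrank_ker g₀
  have h2 : LinearMap.ker g₀ = LinearMap.range f₀ := LinearMap.exact_iff.1 hex
  have h3 : Module.finrank k (LinearMap.range f₀) ≤ Module.finrank k (Coh.HH X S.X₁ 0) := by
    by_cases hfin : Module.Finite k (Coh.HH X S.X₁ 0)
    · exact LinearMap.finrank_range_le f₀
    · have hinj : Function.Injective f₀ := Groth.Agent.Helper4.NApx80.injective_f_zero k S hS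
      exact absurd (Module.Finite.of_injective f₀ hinj) hfin
  have h4 : Module.finrank k (LinearMap.range g₀) ≤ Module.finrank k (Coh.HH X S.X₃ 0) := by
    haveI : Module.Finite k (Coh.HH X S.X₃ 0) := Groth.Agent.S0002.result k X _ h₃ 0
    exact Submodule.finrank_le _
  rw [h2] at h1
  omega

end H0

section Main7837

attribute [local instance] Curv2.resAlgebra

open Groth.Agent.Helper4.AmpleBasis in
/-- **S7837** -/
theorem main7837 (k : Type u) [Field k] (C : Scheme.{u}) [C.Over (Spec (CommRingCat.of k))]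
    [IsProper (C ↘ (Spec (CommRingCat.of k)))]
    (x : C) (hx : IsClosed ({x} : Set C))
    (L L' : C.Modules) (hL' : PicF.IsInvertible L')
    (hLL' : Nonempty (L ≅ CohB1.tensorMod L' (ClSub.idealMod (C.fromSpecResidueField x).ker))) :
    Module.finrank k (Coh.HH C L 0) ≤ Module.finrank k (Coh.HH C L' 0) ∧
      Module.finrank k (Coh.HH C L' 0) ≤
        Module.finrank k (Coh.HH C L 0) + Module.finrank k (C.residueField x) := by
  haveI := Groth.Agent.Helper4.NApx82.isNoetherian_of_proper k C
  rw [ker_fromSpecResidueField x hx] at hLL'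
  obtain ⟨e⟩ := hLL'
  obtain ⟨D, hD⟩ : ∃ D, D = Scheme.IdealSheafData.vanishingIdeal ⟨{x}, hx⟩ := ⟨_, rfl⟩
  rw [← hD] at e
  have hcO : Coh.IsCoh (Coh.structureModule C) :=
    Groth.Agent.Helper1.SerreFin.isCoh_of_isInvertible _
      Groth.Agent.Helper4.TensorInv.isInvertible_structureModule
  have hcL' := Groth.Agent.Helper1.SerreFin.isCoh_of_isInvertible L' hL'
  have hcQ : Coh.IsCoh (ClSub.quotMod D) := isCoh_quotMod D
  have hcI : Coh.IsCoh (ClSub.idealMod D) :=
    Groth.Agent.Lead.PerfLib.isCoh_kernel hcO hcQ _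
  have hS := Groth.Agent.Helper1.TwistExact.shortExact_map_tensorRightMod
    (idealSC_shortExact D) L' hL'
  have hc₂ : Coh.IsCoh ((idealSC D).map (DCoh.tensorRightMod L')).X₂ :=
    isCoh_tensorRight_obj L' _ hcL' hcO
  have hc₃ : Coh.IsCoh ((idealSC D).map (DCoh.tensorRightMod L')).X₃ :=
    isCoh_tensorRight_obj L' _ hcL' hcQ
  let e1 : L ≅ ((idealSC D).map (DCoh.tensorRightMod L')).X₁ := e ≪≫ braidIso _ _
  let e2 : ((idealSC D).map (DCoh.tensorRightMod L')).X₂ ≅ L' := unitorL L'
  have hLe : Module.finrank k (Coh.HH C L 0) =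
      Module.finrank k (Coh.HH C ((idealSC D).map (DCoh.tensorRightMod L')).X₁ 0) :=
    (Groth.Agent.Helper1.ProjTop.HHlinEquiv k e1 0).finrank_eq
  have hL'e : Module.finrank k (Coh.HH C ((idealSC D).map (DCoh.tensorRightMod L')).X₂ 0) =
      Module.finrank k (Coh.HH C L' 0) :=
    (Groth.Agent.Helper1.ProjTop.HHlinEquiv k e2 0).finrank_eq
  haveI : Module.Finite k (Coh.HH C ((idealSC D).map (DCoh.tensorRightMod L')).X₂ 0) :=
    Groth.Agent.S0002.result k C _ hc₂ 0
  have hmono := LinearMap.finrank_le_finrank_of_injective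
      (Groth.Agent.Helper4.NApx80.injective_f_zero k _ hS)
  have hsub := h0_le_add_of_shortExact k _ hS hc₂ hc₃
  -- the support of the quotient
  have hsupp : CohB1.support (ClSub.quotMod D) ⊆ ({x} : Set C) := by
    refine (support_quotMod_subset D).trans ?_
    rw [hD, Scheme.IdealSheafData.coe_support_vanishingIdeal]
    exact subset_rfl
  have hsuppQ : topologicalKrullDim (CohB1.support (ClSub.quotMod D)) ≤ 0 := by
    haveI : Subsingleton (CohB1.support (ClSub.quotMod D)) := by
      refine ⟨fun a b => Subtype.ext ?_⟩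
      rw [Set.mem_singleton_iff.1 (hsupp a.2), Set.mem_singleton_iff.1 (hsupp b.2)]
    exact topologicalKrullDim_le_zero_of_subsingleton _
  have hdimQ : DimLT (CohB1.support (ClSub.quotMod D)) 1 := by
    apply dimLT_of_krullDim_lt
    refine lt_of_le_of_lt hsuppQ ?_
    exact_mod_cast Nat.lt_succ_self 0
  haveI : (ClSub.quotMod D).IsQuasicoherent := hcQ.1
  haveI : L'.IsQuasicoherent := hcL'.1
  have hdimQL : DimLT (CohB1.support ((idealSC D).map (DCoh.tensorRightMod L')).X₃) 1 := by
    change DimLT (CohB1.support (CohB1.tensorMod (ClSub.quotMod D) L')) 1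
    refine hdimQ.mono ?_
    rw [Groth.Agent.Lead.QcohTensor.support_tensorMod _ _ hcQ.2 hcL'.2]
    exact Set.inter_subset_left
  have h3 := main1558 k (ClSub.quotMod D) hcQ hsuppQ 1 L'
    (Groth.Agent.Helper4.QAffSec.isFinLocFreeOfRank_one_of_isInvertible L' hL')
  have h4 := chi_eq_h0_of_dimLT_one k _ hcQ hdimQ
  have h5 := chi_eq_h0_of_dimLT_one k _ hc₃ hdimQL
  have h6 : Module.finrank k (Coh.HH C ((idealSC D).map (DCoh.tensorRightMod L')).X₃ 0) =
      Module.finrank k (C.residueField x) := by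
    have h7 : (Module.finrank k (Coh.HH C ((idealSC D).map (DCoh.tensorRightMod L')).X₃ 0) : ℤ) =
        (Module.finrank k (Coh.HH C (ClSub.quotMod D) 0) : ℤ) := by
      unfold chi at h4 h5
      have h3' : Curv2.euler k C ((idealSC D).map (DCoh.tensorRightMod L')).X₃ =
          (1 : ℕ) * Curv2.euler k C (ClSub.quotMod D) := h3
      rw [← h5, h3', h4]
      push_cast
      ring
    have h8 := finrank_h0_quotMod_point k x hx
    rw [← hD] at h8
    rw [← h8]
    exact_mod_cast h7
  rw [hLe, ← hL'e, ← h6]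
  exact ⟨hmono, hsub⟩

end Main7837

end Groth.Agent.Helper4.SN
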