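import Mathlib
import Groth.Agent.Helper4.SN91
import Groth.Agent.Helper4.SN90
import Groth.Agent.Helper4.SN86
import Groth.Agent.Helper4.SN21
import Groth.Agent.Helper4.ExtZeroStalk
import Groth.Agent.Helper4.SuppLib
import Groth.Agent.Helper4.Scalar

/-!
# Two linearly equivalent rational points on a normal proper curve
-/

set_option autoImplicit false
set_option linter.unusedSectionVars false
set_option linter.style.haveILetI false
universe u

open CategoryTheory CategoryTheory.Limits AlgebraicGeometry Opposite TopologicalSpace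

namespace Groth.Agent.Helper4.SN

section Rational

variable (k : Type u) [Field k] {C : Scheme.{u}} [C.Over (Spec (CommRingCat.of k))]

/-- the evaluation at a rational point is a retraction of the structure map of the stalk -/
theorem stalkClosedPointTo_stalkMap (x : Spec (CommRingCat.of k) ⟶ C)
    (hx : x ≫ (C ↘ Spec (CommRingCat.of k)) = 𝟙 _) (c : k) :
    (Scheme.stalkClosedPointTo x).hom
      (Curv2.stalkMap k C (x (IsLocalRing.closedPoint k)) c) = c := by
  letI : (Spec (CommRingCat.of k)).Over (Spec (CommRingCat.of k)) := ⟨𝟙 _⟩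
  have h1 := Scheme.germ_stalkClosedPointTo x ⊤ trivial
  have h2 := appTop_toGlobal k x hx c
  unfold Curv2.stalkMap
  have h3 := congrArg (fun φ => φ.hom (Coh.toGlobal (C ↘ Spec (CommRingCat.of k)) c)) h1
  simp only [] at h3
  refine h3.trans ?_
  change (Scheme.ΓSpecIso (CommRingCat.of k)).hom.hom
    (((Spec (CommRingCat.of k)).presheaf.map
      (eqToHom (Scheme.preimage_eq_top_of_closedPoint_mem x (U := ⊤) trivial).symm).op).hom
      (x.appTop.hom (Coh.toGlobal (C ↘ Spec (CommRingCat.of k)) c))) = c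
  rw [h2]
  have h4 : ((Spec (CommRingCat.of k)).presheaf.map
      (eqToHom (Scheme.preimage_eq_top_of_closedPoint_mem x (U := ⊤) trivial).symm).op) = 𝟙 _ := by
    exact (Spec (CommRingCat.of k)).presheaf.map_id _
  rw [h4]
  unfold Coh.toGlobal
  change (Scheme.ΓSpecIso (CommRingCat.of k)).hom.hom
    ((Scheme.ΓSpecIso (CommRingCat.of k)).inv.hom c) = c
  exact congrArg (fun φ => φ.hom c) (Scheme.ΓSpecIso (CommRingCat.of k)).inv_hom_id

theorem resMap_surjective_of_section (x : Spec (CommRingCat.of k) ⟶ C)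
    (hx : x ≫ (C ↘ Spec (CommRingCat.of k)) = 𝟙 _) :
    Function.Surjective (Curv2.resMap k C (x (IsLocalRing.closedPoint k))) := by
  intro a
  obtain ⟨s, rfl⟩ := Scheme.residue_surjective C _ a
  refine ⟨(Scheme.stalkClosedPointTo x).hom s, ?_⟩
  unfold Curv2.resMap
  rw [RingHom.comp_apply]
  have h1 : s - Curv2.stalkMap k C (x (IsLocalRing.closedPoint k))
      ((Scheme.stalkClosedPointTo x).hom s) ∈
      IsLocalRing.maximalIdeal (C.presheaf.stalk (x (IsLocalRing.closedPoint k))) := by
    rw [IsLocalRing.mem_maximalIdeal, mem_nonunits_iff]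
    intro hu
    have h2 := hu.map (Scheme.stalkClosedPointTo x).hom
    rw [map_sub, stalkClosedPointTo_stalkMap k x hx, sub_self] at h2
    exact not_isUnit_zero h2
  have h3 := (IsLocalRing.residue_eq_zero_iff _).2 h1
  rw [map_sub, sub_eq_zero] at h3
  exact h3.symm

attribute [local instance] Curv2.resAlgebra in
theorem finrank_residueField_of_section (x : Spec (CommRingCat.of k) ⟶ C)
    (hx : x ≫ (C ↘ Spec (CommRingCat.of k)) = 𝟙 _) :
    Module.finrank k (C.residueField (x (IsLocalRing.closedPoint k))) = 1 := by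
  have hbij : Function.Bijective
      (Algebra.linearMap k (C.residueField (x (IsLocalRing.closedPoint k)))) :=
    ⟨(Curv2.resMap k C (x (IsLocalRing.closedPoint k))).injective,
      resMap_surjective_of_section k x hx⟩
  rw [← (LinearEquiv.ofBijective _ hbij).finrank_eq, Module.finrank_self]

theorem isClosedImmersion_of_section [IsSeparated (C ↘ Spec (CommRingCat.of k))]
    (x : Spec (CommRingCat.of k) ⟶ C)
    (hx : x ≫ (C ↘ Spec (CommRingCat.of k)) = 𝟙 _) : IsClosedImmersion x := by
  haveI : IsClosedImmersion (x ≫ (C ↘ Spec (CommRingCat.of k))) := by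
    rw [hx]; infer_instance
  exact IsClosedImmersion.of_comp x (C ↘ Spec (CommRingCat.of k))

theorem range_of_section (x : Spec (CommRingCat.of k) ⟶ C) :
    Set.range x = {x (IsLocalRing.closedPoint k)} := by
  ext z
  constructor
  · rintro ⟨q, rfl⟩
    rw [Set.mem_singleton_iff]
    congr 1
    exact Subsingleton.elim (α := PrimeSpectrum k) _ _
  · intro hz
    rw [Set.mem_singleton_iff] at hz
    exact ⟨_, hz.symm⟩

theorem isClosed_of_section [IsSeparated (C ↘ Spec (CommRingCat.of k))]
    (x : Spec (CommRingCat.of k) ⟶ C)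
    (hx : x ≫ (C ↘ Spec (CommRingCat.of k)) = 𝟙 _) :
    IsClosed ({x (IsLocalRing.closedPoint k)} : Set C) := by
  haveI := isClosedImmersion_of_section k x hx
  rw [← range_of_section k x]
  exact x.isClosedEmbedding.isClosed_range

theorem ker_of_section [IsSeparated (C ↘ Spec (CommRingCat.of k))]
    (x : Spec (CommRingCat.of k) ⟶ C)
    (hx : x ≫ (C ↘ Spec (CommRingCat.of k)) = 𝟙 _) :
    x.ker = Scheme.IdealSheafData.vanishingIdeal
      ⟨{x (IsLocalRing.closedPoint k)}, isClosed_of_section k x hx⟩ := by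
  apply ker_eq_vanishingIdeal_of_isReduced
  rw [range_of_section k x]
  exact (isClosed_of_section k x hx).closure_eq.symm

theorem section_eq_of_ker_eq [IsSeparated (C ↘ Spec (CommRingCat.of k))]
    (x y : Spec (CommRingCat.of k) ⟶ C)
    (hx : x ≫ (C ↘ Spec (CommRingCat.of k)) = 𝟙 _)
    (hy : y ≫ (C ↘ Spec (CommRingCat.of k)) = 𝟙 _) (hker : x.ker = y.ker) : x = y := by
  haveI := isClosedImmersion_of_section k x hx
  have h1 := IsClosedImmersion.lift_fac x y hker.le
  have h2 : IsClosedImmersion.lift x y hker.le = 𝟙 _ := by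
    have h3 := congrArg (fun f => f ≫ (C ↘ Spec (CommRingCat.of k))) h1
    simp only [Category.assoc, hx, hy, Category.comp_id] at h3
    exact h3
  rw [h2, Category.id_comp] at h1
  exact h1

end Rational

section Twist

attribute [local instance] Curv2.resAlgebra

variable (k : Type u) [Field k] {X : Scheme.{u}} [X.Over (Spec (CommRingCat.of k))]
  [IsProper (X ↘ (Spec (CommRingCat.of k)))]

/-- `h⁰` of the twisted skyscraper at a closed point -/
theorem finrank_h0_quotMod_twist (x : X) (hx : IsClosed ({x} : Set X)) (L' : X.Modules)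
    (hL' : PicF.IsInvertible L') :
    Module.finrank k (Coh.HH X (CohB1.tensorMod
      (ClSub.quotMod (Scheme.IdealSheafData.vanishingIdeal ⟨{x}, hx⟩)) L') 0) =
      Module.finrank k (X.residueField x) := by
  haveI := Groth.Agent.Helper4.NApx82.isNoetherian_of_proper k X
  obtain ⟨D, hD⟩ : ∃ D, D = Scheme.IdealSheafData.vanishingIdeal ⟨{x}, hx⟩ := ⟨_, rfl⟩
  rw [← hD]
  have hcL' := Groth.Agent.Helper1.SerreFin.isCoh_of_isInvertible L' hL'
  have hcQ : Coh.IsCoh (ClSub.quotMod D) := isCoh_quotMod D
  have hc₃ : Coh.IsCoh (CohB1.tensorMod (ClSub.quotMod D) L') :=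
    Groth.Agent.Lead.Ref1B.isCoh_tensorMod _ _ hcQ hcL'
  have hsupp : CohB1.support (ClSub.quotMod D) ⊆ ({x} : Set X) := by
    refine (support_quotMod_subset D).trans ?_
    rw [hD, Scheme.IdealSheafData.coe_support_vanishingIdeal]
    exact subset_rfl
  have hsuppQ : topologicalKrullDim (CohB1.support (ClSub.quotMod D)) ≤ 0 := by
    haveI : Subsingleton (CohB1.support (ClSub.quotMod D)) := by
      refine ⟨fun a b => Subtype.ext ?_⟩
      rw [Set.mem_singleton_iff.1 (hsupp a.2), Set.mem_singleton_iff.1 (hsupp b.2)]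
    exact topologicalKrullDim_le_zero_of_subsingleton _
  have hdimQ : DimLT (CohB1.support (ClSub.quotMod D)) 1 := by
    apply dimLT_of_krullDim_lt
    refine lt_of_le_of_lt hsuppQ ?_
    exact_mod_cast Nat.lt_succ_self 0
  haveI : (ClSub.quotMod D).IsQuasicoherent := hcQ.1
  haveI : L'.IsQuasicoherent := hcL'.1
  have hdimQL : DimLT (CohB1.support (CohB1.tensorMod (ClSub.quotMod D) L')) 1 := by
    refine hdimQ.mono ?_
    rw [Groth.Agent.Lead.QcohTensor.support_tensorMod _ _ hcQ.2 hcL'.2]
    exact Set.inter_subset_left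
  have h3 := main1558 k (ClSub.quotMod D) hcQ hsuppQ 1 L'
    (Groth.Agent.Helper4.QAffSec.isFinLocFreeOfRank_one_of_isInvertible L' hL')
  have h4 := chi_eq_h0_of_dimLT_one k _ hcQ hdimQ
  have h5 := chi_eq_h0_of_dimLT_one k _ hc₃ hdimQL
  have h7 : (Module.finrank k (Coh.HH X (CohB1.tensorMod (ClSub.quotMod D) L') 0) : ℤ) =
      (Module.finrank k (Coh.HH X (ClSub.quotMod D) 0) : ℤ) := by
    unfold chi at h4 h5
    have h3' : Curv2.euler k X (CohB1.tensorMod (ClSub.quotMod D) L') =
        (1 : ℕ) * Curv2.euler k X (ClSub.quotMod D) := h3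
    rw [← h5, h3', h4]
    push_cast
    ring
  have h8 := finrank_h0_quotMod_point k x hx
  rw [← hD] at h8
  rw [← h8]
  exact_mod_cast h7

/-- the support of the twisted skyscraper at a closed point -/
theorem support_quotMod_twist (x : X) (hx : IsClosed ({x} : Set X)) (L' : X.Modules)
    (hL' : PicF.IsInvertible L') (hpos : 0 < Module.finrank k (X.residueField x)) :
    CohB1.support (CohB1.tensorMod
      (ClSub.quotMod (Scheme.IdealSheafData.vanishingIdeal ⟨{x}, hx⟩)) L') = {x} := by
  haveI := Groth.Agent.Helper4.NApx82.isNoetherian_of_proper k X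
  have hcL' := Groth.Agent.Helper1.SerreFin.isCoh_of_isInvertible L' hL'
  have hcQ : Coh.IsCoh (ClSub.quotMod (Scheme.IdealSheafData.vanishingIdeal ⟨{x}, hx⟩)) :=
    isCoh_quotMod _
  haveI : (ClSub.quotMod (Scheme.IdealSheafData.vanishingIdeal ⟨{x}, hx⟩)).IsQuasicoherent :=
    hcQ.1
  haveI : L'.IsQuasicoherent := hcL'.1
  have hsub : CohB1.support (CohB1.tensorMod
      (ClSub.quotMod (Scheme.IdealSheafData.vanishingIdeal ⟨{x}, hx⟩)) L') ⊆ {x} := by
    rw [Groth.Agent.Lead.QcohTensor.support_tensorMod _ _ hcQ.2 hcL'.2]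
    refine Set.inter_subset_left.trans ?_
    refine (support_quotMod_subset _).trans ?_
    rw [Scheme.IdealSheafData.coe_support_vanishingIdeal]
    exact subset_rfl
  refine Set.Subset.antisymm hsub ?_
  by_contra hne
  have hempty : CohB1.support (CohB1.tensorMod
      (ClSub.quotMod (Scheme.IdealSheafData.vanishingIdeal ⟨{x}, hx⟩)) L') = ∅ := by
    rw [Set.eq_empty_iff_forall_notMem]
    intro z hz
    apply hne
    rw [Set.singleton_subset_iff]
    have hzx := Set.mem_singleton_iff.1 (hsub hz)
    exact hzx ▸ hz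
  have hz := Groth.Agent.Helper4.SuppLib.isZero_of_support _ hempty
  haveI := Groth.Agent.Helper1.KzChase.subsingleton_HH_of_isZero hz 0
  have h0 := finrank_h0_quotMod_twist k x hx L' hL'
  rw [Module.finrank_zero_of_subsingleton] at h0
  omega

end Twist

section ScalarIso

open Groth.Agent.Helper4.Scalar

variable {X : Scheme.{u}}

theorem scalar_mul (a b : Γ(X, ⊤)) (M : X.Modules) :
    scalar (a * b) M = scalar b M ≫ scalar a M := by
  apply Scheme.Modules.hom_ext
  intro U
  ext m
  change (scalar (a * b) M).app U m = (scalar a M).app U ((scalar b M).app U m)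
  rw [scalar_app, scalar_app, scalar_app]
  unfold res
  rw [map_mul, mul_smul]

theorem scalar_one (M : X.Modules) : scalar (1 : Γ(X, ⊤)) M = 𝟙 M := by
  apply Scheme.Modules.hom_ext
  intro U
  ext m
  change (scalar 1 M).app U m = m
  rw [scalar_app]
  unfold res
  rw [map_one, one_smul]

theorem isIso_scalar_of_isUnit (a : Γ(X, ⊤)) (ha : IsUnit a) (M : X.Modules) :
    IsIso (scalar a M) := by
  obtain ⟨u, rfl⟩ := ha
  refine ⟨scalar ((u⁻¹ : Γ(X, ⊤)ˣ) : Γ(X, ⊤)) M, ?_, ?_⟩
  · rw [← scalar_mul, Units.inv_mul, scalar_one]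
  · rw [← scalar_mul, Units.mul_inv, scalar_one]

end ScalarIso

section CokerIso

variable {X : Scheme.{u}}

/-- the cokernel of the twisted ideal inclusion is the twisted quotient -/
noncomputable def cokernelIdealTwistIso (D : X.IdealSheafData) (L : X.Modules)
    (hL : PicF.IsInvertible L) :
    cokernel (idealTwistι D L) ≅ CohB1.tensorMod (ClSub.quotMod D) L :=
  have hS := Groth.Agent.Helper1.TwistExact.shortExact_map_tensorRightMod
    (idealSC_shortExact D) L hL
  haveI := hS.epi_g
  (cokernel.mapIso ((idealSC D).map (DCoh.tensorRightMod L)).f (idealTwistι D L) (Iso.refl _)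
    (Groth.Agent.Lead.Ref1B.unitorL L) (by
      unfold idealTwistι
      exact (Category.id_comp _).symm)).symm ≪≫
    (cokernelIsCokernel _).coconePointUniqueUpToIso hS.exact.gIsCokernel

end CokerIso

end Groth.Agent.Helper4.SN
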