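import Mathlib
import Groth.Agent.Helper4.SN110
import Groth.Agent.Helper4.SN92

/-!
# Bounding `h⁰` of a vector bundle on a curve by the degrees of its invertible submodules
-/

set_option autoImplicit false
set_option linter.unusedSectionVars false
set_option linter.style.haveILetI false
universe u

open CategoryTheory CategoryTheory.Limits AlgebraicGeometry TopologicalSpace Opposite

namespace Groth.Agent.Helper4.SN

section H0Bound

attribute [local instance] Curv2.resAlgebra

variable (k : Type u) [Field k] {X : Scheme.{u}} [X.Over (Spec (CommRingCat.of k))]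
  [IsProper (X ↘ (Spec (CommRingCat.of k)))]

/-- `h⁰` of the skyscraper at a closed point twisted by a locally free module of rank `n` -/
theorem finrank_h0_quotMod_twist_rank (x : X) (hx : IsClosed ({x} : Set X)) (n : ℕ)
    (E : X.Modules) (hE : FlatMod.IsFinLocFreeOfRank n E) :
    Module.finrank k (Coh.HH X (CohB1.tensorMod
      (ClSub.quotMod (Scheme.IdealSheafData.vanishingIdeal ⟨{x}, hx⟩)) E) 0) =
      n * Module.finrank k (X.residueField x) := by
  haveI := Groth.Agent.Helper4.NApx82.isNoetherian_of_proper k X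
  obtain ⟨D, hD⟩ : ∃ D, D = Scheme.IdealSheafData.vanishingIdeal ⟨{x}, hx⟩ := ⟨_, rfl⟩
  rw [← hD]
  have hcE : Coh.IsCoh E := Groth.Agent.Lead.PerfLib.isCoh_of_isFinLocFree
    (FinLocFree7.isFinLocFree_of_rank E hE)
  have hcQ : Coh.IsCoh (ClSub.quotMod D) := isCoh_quotMod D
  have hc₃ : Coh.IsCoh (CohB1.tensorMod (ClSub.quotMod D) E) :=
    Groth.Agent.Lead.Ref1B.isCoh_tensorMod _ _ hcQ hcE
  have hsupp : CohB1.support (ClSub.quotMod D) ⊆ ({x} : Set X) := by
    refine (support_quotMod_subset D).trans ?_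
    rw [hD, Scheme.IdealSheafData.coe_support_vanishingIdeal]
    exact subset_rfl
  have hsuppQ : topologicalKrullDim (CohB1.support (ClSub.quotMod D)) ≤ 0 := by
    haveI : Subsingleton (CohB1.support (ClSub.quotMod D)) := by
      refine ⟨fun a b => Subtype.ext ?_⟩
      rw [Set.mem_singleton_iff.1 (hsupp a.2), Set.mem_singleton_iff.1 (hsupp b.2)]
    exact topologicalKrullDim_le_zero_of_subsingleton _
  have hdimQ : DimLT (CohB1.support (ClSub.quotMod D)) 1 := by
    apply dimLT_of_krullDim_lt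
    refine lt_of_le_of_lt hsuppQ ?_
    exact_mod_cast Nat.lt_succ_self 0
  haveI : (ClSub.quotMod D).IsQuasicoherent := hcQ.1
  haveI : E.IsQuasicoherent := hcE.1
  have hdimQL : DimLT (CohB1.support (CohB1.tensorMod (ClSub.quotMod D) E)) 1 := by
    refine hdimQ.mono ?_
    rw [Groth.Agent.Lead.QcohTensor.support_tensorMod _ _ hcQ.2 hcE.2]
    exact Set.inter_subset_left
  have h3 := main1558 k (ClSub.quotMod D) hcQ hsuppQ n E hE
  have h4 := chi_eq_h0_of_dimLT_one k _ hcQ hdimQ
  have h5 := chi_eq_h0_of_dimLT_one k _ hc₃ hdimQL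
  have h7 : (Module.finrank k (Coh.HH X (CohB1.tensorMod (ClSub.quotMod D) E) 0) : ℤ) =
      (n : ℤ) * (Module.finrank k (Coh.HH X (ClSub.quotMod D) 0) : ℤ) := by
    unfold chi at h4 h5
    rw [← h5, h3, h4]
  have h8 := finrank_h0_quotMod_point k x hx
  rw [← hD] at h8
  rw [← h8]
  exact_mod_cast h7

/-- `h⁰(E) ≤ h⁰(E ⊗ I_x) + n [κ(x) : k]` for a locally free module of rank `n` -/
theorem h0_le_twist_point (x : X) (hx : IsClosed ({x} : Set X)) (n : ℕ)
    (E : X.Modules) (hE : FlatMod.IsFinLocFreeOfRank n E) :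
    Module.finrank k (Coh.HH X E 0) ≤
      Module.finrank k (Coh.HH X (CohB1.tensorMod E
        (ClSub.idealMod (Scheme.IdealSheafData.vanishingIdeal ⟨{x}, hx⟩))) 0) +
        n * Module.finrank k (X.residueField x) := by
  haveI := Groth.Agent.Helper4.NApx82.isNoetherian_of_proper k X
  have h9 := finrank_h0_quotMod_twist_rank k x hx n E hE
  obtain ⟨D, hD⟩ : ∃ D, D = Scheme.IdealSheafData.vanishingIdeal ⟨{x}, hx⟩ := ⟨_, rfl⟩
  rw [← hD] at h9 ⊢
  have hFLF := FinLocFree7.isFinLocFree_of_rank E hE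
  have hcE : Coh.IsCoh E := Groth.Agent.Lead.PerfLib.isCoh_of_isFinLocFree hFLF
  haveI : E.IsQuasicoherent := hcE.1
  have hflat : ∀ y : X, Module.Flat (X.presheaf.stalk y) (E.presheaf.stalk y) := fun y => by
    haveI := FinLocFree2.free_stalk_of_isFinLocFree E hFLF y
    infer_instance
  have hS' := shortExact_map_tensorRightMod_of_flat (idealSC D) (idealSC_shortExact D) E hflat
  have hcQ : Coh.IsCoh (ClSub.quotMod D) := isCoh_quotMod D
  have hcO : Coh.IsCoh (Coh.structureModule X) := Groth.Agent.Helper1.Dev.isCoh_structureModule X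
  have hc₂ : Coh.IsCoh (CohB1.tensorMod (Coh.structureModule X) E) :=
    Groth.Agent.Lead.Ref1B.isCoh_tensorMod _ _ hcO hcE
  have hc₃ : Coh.IsCoh (CohB1.tensorMod (ClSub.quotMod D) E) :=
    Groth.Agent.Lead.Ref1B.isCoh_tensorMod _ _ hcQ hcE
  have h := h0_le_add_of_shortExact k _ hS' hc₂ hc₃
  have e₂ := (Groth.Agent.Helper1.ProjTop.HHlinEquiv k (X := X)
    (Groth.Agent.Helper4.AmpleBasis.unitorL E) 0).finrank_eq
  have e₁ := (Groth.Agent.Helper1.ProjTop.HHlinEquiv k (X := X)
    (Groth.Agent.Lead.Ref1B.braid (ClSub.idealMod D) E) 0).finrank_eq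
  change Module.finrank k (Coh.HH X (CohB1.tensorMod (Coh.structureModule X) E) 0) ≤
    Module.finrank k (Coh.HH X (CohB1.tensorMod (ClSub.idealMod D) E) 0) +
      Module.finrank k (Coh.HH X (CohB1.tensorMod (ClSub.quotMod D) E) 0) at h
  rw [e₂, e₁, h9] at h
  exact h

variable [IsIntegral X]

/-- an invertible submodule of `F ⊗ P` gives an invertible submodule of `F` -/
theorem exists_sub_of_twist_sub (hdim : topologicalKrullDim X ≤ 1) (r : ℕ) (F : X.Modules)
    (hF : FlatMod.IsFinLocFreeOfRank r F) (P P' : X.Modules) (hP : PicF.IsInvertible P)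
    (hP' : PicF.IsInvertible P')
    (ε : CohB1.tensorMod P P' ≅ Coh.structureModule X)
    (ε' : CohB1.tensorMod P' P ≅ Coh.structureModule X)
    (M : X.Modules) (hM : PicF.IsInvertible M) (ι : M ⟶ CohB1.tensorMod F P) (hι : Mono ι) :
    ∃ (M' : X.Modules) (ι' : M' ⟶ F), PicF.IsInvertible M' ∧ Mono ι' ∧
      Curv2.deg k X M' 1 = Curv2.deg k X M 1 - Curv2.deg k X P 1 := by
  haveI := hι
  have hι0 : ι ≠ 0 := fun h =>
    not_isZero_of_isInvertible M hM (IsZero.of_mono_eq_zero ι h)
  obtain ⟨φ, hφ⟩ := untwist_ne_zero F P P' M ε ε' ι hι0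
  have hM' : PicF.IsInvertible (CohB1.tensorMod M P') :=
    Groth.Agent.Helper4.TensorInv.isInvertible_tensorMod hM hP'
  refine ⟨_, φ, hM', mono_of_ne_zero_of_invertible hM' r hF φ hφ, ?_⟩
  have h7 := main7637 k hdim 1 1 M P'
    (Groth.Agent.Helper4.QAffSec.isFinLocFreeOfRank_one_of_isInvertible _ hM)
    (Groth.Agent.Helper4.QAffSec.isFinLocFreeOfRank_one_of_isInvertible _ hP')
  rw [Nat.mul_one, deg_inverse k hdim P P' hP hP' ε'] at h7
  push_cast at h7
  linarith

/-- if all invertible submodules of a locally free module `F` of rank `r` have degree at most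
`m < n`, then `h⁰(F) ≤ r n` (given a closed point of degree one with normal local ring) -/
theorem h0_le_of_sub_deg_le (hdim : topologicalKrullDim X = 1) (x : X)
    (hx : IsClosed ({x} : Set X)) (hn : IsIntegrallyClosed (X.presheaf.stalk x))
    (hκ : Module.finrank k (X.residueField x) = 1) (r : ℕ) :
    ∀ (n : ℕ) (F : X.Modules), FlatMod.IsFinLocFreeOfRank r F → ∀ m : ℤ,
      (∀ (M : X.Modules) (ι : M ⟶ F), PicF.IsInvertible M → Mono ι → Curv2.deg k X M 1 ≤ m) →
      m < n → Module.finrank k (Coh.HH X F 0) ≤ r * n := by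
  intro n
  induction n with
  | zero =>
    intro F hF m hsub hm
    have hsubs : Subsingleton (Coh.HH X F 0) := by
      by_contra hns
      rw [not_subsingleton_iff_nontrivial] at hns
      obtain ⟨s, hs⟩ := exists_section_of_nontrivial_H0 F hns
      haveI := mono_of_section_ne_zero F (FinLocFree7.isFinLocFree_of_rank F hF) s hs
      have h1 := hsub _ s Groth.Agent.Helper4.TensorInv.isInvertible_structureModule inferInstance
      rw [Groth.Agent.Helper4.NApx82.deg_structureModule k X] at h1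
      push_cast at hm
      omega
    rw [Module.finrank_zero_of_subsingleton]
    omega
  | succ n ih =>
    intro F hF m hsub hm
    obtain ⟨hI, hdI⟩ := ideal_point_of_normal k hdim x hx hn
    rw [hκ] at hdI
    obtain ⟨Lp, hLp, ⟨e1⟩, ⟨e2⟩⟩ := Groth.Agent.Lead.InvDual.exists_inverse _ hI
    have hF₁ := isFinLocFreeOfRank_tensor_invertible F _ r hF hI
    have h1 := ih _ hF₁ (m - 1) (fun M ι hM hι => by
      obtain ⟨M', ι', hM', hι', hd⟩ := exists_sub_of_twist_sub k hdim.le r F hF _ Lp hI hLp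
        e2 e1 M hM ι hι
      have := hsub M' ι' hM' hι'
      rw [hd, hdI] at this
      push_cast at this
      linarith) (by push_cast at hm ⊢; linarith)
    have h2 := h0_le_twist_point k x hx r F hF
    rw [hκ] at h2
    calc Module.finrank k (Coh.HH X F 0) ≤ _ := h2
      _ ≤ r * n + r * 1 := Nat.add_le_add_right h1 _
      _ = r * (n + 1) := by ring

/-- **S18831** -/
theorem main18831 [IsAlgClosed k] (hdim : topologicalKrullDim X = 1)
    (hreg : ∀ x : X, IsRegularLocalRing (X.presheaf.stalk x))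
    (r : ℕ) (hr : 0 < r) (G : X.Modules) (hG : FlatMod.IsFinLocFreeOfRank r G)
    (hss : ModFun.IsSlopeSemistable k X G r) :
    (Module.finrank k (Coh.HH X G 0) : ℤ) ≤
      (r : ℤ) * max (⌊(Curv2.deg k X G r : ℚ) / (r : ℚ)⌋ + 1) 0 := by
  haveI := Groth.Agent.Helper4.NApx82.isNoetherian_of_proper k X
  haveI : CompactSpace X :=
    QuasiCompact.compactSpace_of_compactSpace (X ↘ (Spec (CommRingCat.of k)))
  obtain ⟨x, -, hx⟩ := IsClosed.exists_closed_singleton (X := X) isClosed_univ Set.univ_nonempty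
  haveI := hreg x
  have hn := Groth.Agent.Helper4.RegNormal.isIntegrallyClosed_of_isRegularLocalRing
    (X.presheaf.stalk x)
  have hκ := finrank_residueField_eq_one k x hx
  set m : ℤ := ⌊(Curv2.deg k X G r : ℚ) / (r : ℚ)⌋ with hm
  have hsub : ∀ (M : X.Modules) (ι : M ⟶ G), PicF.IsInvertible M → Mono ι →
      Curv2.deg k X M 1 ≤ m := by
    intro M ι hM hι
    have h1 := hss M 1 ι hι Nat.one_pos
      (Groth.Agent.Helper4.QAffSec.isFinLocFreeOfRank_one_of_isInvertible _ hM)
    rw [hm, Int.le_floor]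
    have hrpos : (0 : ℚ) < (r : ℚ) := by exact_mod_cast hr
    rw [le_div_iff₀ hrpos]
    have h2 : ((Curv2.deg k X M 1 * (r : ℤ) : ℤ) : ℚ) ≤ ((Curv2.deg k X G r * ((1 : ℕ) : ℤ) : ℤ) : ℚ) := by
      exact_mod_cast h1
    push_cast at h2
    linarith
  have hnn : (0 : ℤ) ≤ max (m + 1) 0 := le_max_right _ _
  have hcast : ((max (m + 1) 0).toNat : ℤ) = max (m + 1) 0 := Int.toNat_of_nonneg hnn
  have hlt : m < ((max (m + 1) 0).toNat : ℤ) := by
    rw [hcast]
    have := le_max_left (m + 1) 0
    linarith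
  have h := h0_le_of_sub_deg_le k hdim x hx hn hκ r (max (m + 1) 0).toNat G hG m hsub hlt
  have h' : (Module.finrank k (Coh.HH X G 0) : ℤ) ≤ (r : ℤ) * ((max (m + 1) 0).toNat : ℤ) := by
    exact_mod_cast h
  rw [hcast] at h'
  exact h'

end H0Bound

end Groth.Agent.Helper4.SN
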