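import Mathlib
import Groth.Agent.Helper4.SN110

/-!
# The destabilising sub line bundle of an unstable rank two bundle of degree zero
-/

set_option autoImplicit false
set_option linter.unusedSectionVars false
set_option linter.style.haveILetI false
universe u

open CategoryTheory CategoryTheory.Limits AlgebraicGeometry TopologicalSpace Opposite

namespace Groth.Agent.Helper4.SN

section Unstable

variable (k : Type u) [Field k] {C : Scheme.{u}} [C.Over (Spec (CommRingCat.of k))]
  [IsIntegral C] [IsProper (C ↘ (Spec (CommRingCat.of k)))]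

/-- a nonzero map from an invertible module `N` to the middle of a short exact sequence
`0 → L → E → M → 0` with invertible ends either has `deg N ≤ deg M` or factors through `L`
by a nonzero map -/
theorem factor_or_deg_le (hdim : topologicalKrullDim C = 1)
    (S : ShortComplex C.Modules) (hS : S.ShortExact)
    (hL : PicF.IsInvertible S.X₁) (hM : PicF.IsInvertible S.X₃)
    (N : C.Modules) (hN : PicF.IsInvertible N) (j : N ⟶ S.X₂) (hj : j ≠ 0) :
    Curv2.deg k C N 1 ≤ Curv2.deg k C S.X₃ 1 ∨
      ∃ j' : N ⟶ S.X₁, j' ≠ 0 ∧ j' ≫ S.f = j ∧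
        Curv2.deg k C N 1 ≤ Curv2.deg k C S.X₁ 1 ∧
        (Curv2.deg k C N 1 = Curv2.deg k C S.X₁ 1 → IsIso j') := by
  haveI := hS.mono_f
  by_cases h : j ≫ S.g = 0
  · right
    refine ⟨hS.exact.lift j h, ?_, hS.exact.lift_f j h, ?_⟩
    · intro h0
      apply hj
      rw [← hS.exact.lift_f j h, h0, zero_comp]
    · have hne : hS.exact.lift j h ≠ 0 := by
        intro h0
        apply hj
        rw [← hS.exact.lift_f j h, h0, zero_comp]
      exact Groth.Agent.Helper4.NApx82.main1521 k C hdim N S.X₁ hN hL _ hne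
  · left
    exact (Groth.Agent.Helper4.NApx82.main1521 k C hdim N S.X₃ hN hM _ h).1

/-- **S13934** -/
theorem main13934 (hdim : topologicalKrullDim C = 1)
    (S : ShortComplex C.Modules) (hS : S.ShortExact)
    (hE : FlatMod.IsFinLocFreeOfRank 2 S.X₂) (hE0 : Curv2.deg k C S.X₂ 2 = 0)
    (hL : PicF.IsInvertible S.X₁) (hM : PicF.IsInvertible S.X₃)
    (hpos : 0 < Curv2.deg k C S.X₁ 1) :
    (∀ (N : C.Modules), PicF.IsInvertible N → ∀ j : N ⟶ S.X₂, j ≠ 0 →
        Curv2.deg k C N 1 ≤ Curv2.deg k C S.X₁ 1) ∧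
    (∀ (N : C.Modules), PicF.IsInvertible N → ∀ (j : N ⟶ S.X₂), Mono j →
        PicF.IsInvertible (cokernel j) → 0 < Curv2.deg k C N 1 →
        ∃ φ : N ≅ S.X₁, φ.hom ≫ S.f = j) ∧
    (∀ (N N' : C.Modules), PicF.IsInvertible N → PicF.IsInvertible N' →
        Curv2.deg k C N 1 = 0 → Curv2.deg k C N' 1 = 0 →
        ∀ (a : N ⟶ S.X₂) (b : S.X₂ ⟶ N') (w : a ≫ b = 0),
          ¬ (ShortComplex.mk a b w).ShortExact) := by
  haveI := Groth.Agent.Helper4.NApx82.isNoetherian_of_proper k C
  haveI := hS.mono_f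
  have hcE : Coh.IsCoh S.X₂ := Groth.Agent.Lead.PerfLib.isCoh_of_isFinLocFree
    (FinLocFree7.isFinLocFree_of_rank S.X₂ hE)
  have hcL := Groth.Agent.Helper1.SerreFin.isCoh_of_isInvertible _ hL
  have hcM := Groth.Agent.Helper1.SerreFin.isCoh_of_isInvertible _ hM
  have hadd := deg_add_of_shortExact k S hS hcL hcE hcM 1 1
  have hdM : Curv2.deg k C S.X₃ 1 = - Curv2.deg k C S.X₁ 1 := by
    have : Curv2.deg k C S.X₂ (1 + 1) = Curv2.deg k C S.X₂ 2 := rfl
    rw [this, hE0] at hadd
    linarith
  -- `S.f ≠ 0`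
  have hf0 : S.f ≠ 0 := by
    intro h0
    apply not_isZero_of_isInvertible S.X₁ hL
    rw [IsZero.iff_id_eq_zero, ← cancel_mono S.f, h0, comp_zero, comp_zero]
  refine ⟨?_, ?_, ?_⟩
  · intro N hN j hj
    rcases factor_or_deg_le k hdim S hS hL hM N hN j hj with h | ⟨j', -, -, h, -⟩
    · rw [hdM] at h
      linarith
    · exact h
  · intro N hN j hj hQ hNpos
    haveI := hj
    have hj0 : j ≠ 0 := by
      intro h0
      apply not_isZero_of_isInvertible N hN
      rw [IsZero.iff_id_eq_zero, ← cancel_mono j, h0, comp_zero, comp_zero]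
    rcases factor_or_deg_le k hdim S hS hL hM N hN j hj0 with h | ⟨j', hj'0, hj', hle, hiso⟩
    · rw [hdM] at h
      linarith
    · -- degree of the quotient
      have hT := Groth.Agent.Helper1.Dev.cokSC_shortExact j
      have hcN := Groth.Agent.Helper1.SerreFin.isCoh_of_isInvertible _ hN
      have hcQ := Groth.Agent.Helper1.SerreFin.isCoh_of_isInvertible _ hQ
      have haddT := deg_add_of_shortExact k (Groth.Agent.Helper1.Dev.cokSC j) hT hcN hcE hcQ 1 1
      have hdQ : Curv2.deg k C (cokernel j) 1 = - Curv2.deg k C N 1 := by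
        have : Curv2.deg k C (Groth.Agent.Helper1.Dev.cokSC j).X₂ (1 + 1) =
          Curv2.deg k C S.X₂ 2 := rfl
        rw [this, hE0] at haddT
        change (0 : ℤ) = Curv2.deg k C N 1 + Curv2.deg k C (cokernel j) 1 at haddT
        linarith
      -- `S.f` factors through `j`
      have hfπ : S.f ≫ cokernel.π j = 0 := by
        by_contra hne
        have := (Groth.Agent.Helper4.NApx82.main1521 k C hdim S.X₁ (cokernel j) hL hQ _ hne).1
        rw [hdQ] at this
        linarith
      have hfπ' : S.f ≫ (Groth.Agent.Helper1.Dev.cokSC j).g = 0 := hfπ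
      haveI : Mono (Groth.Agent.Helper1.Dev.cokSC j).f := hT.mono_f
      have hlift : hT.exact.lift S.f hfπ' ≫ j = S.f := hT.exact.lift_f S.f hfπ'
      have hl0 : hT.exact.lift S.f hfπ' ≠ 0 := by
        intro h0
        apply hf0
        rw [← hlift, h0, zero_comp]
      have hle2 := (Groth.Agent.Helper4.NApx82.main1521 k C hdim S.X₁ N hL hN _ hl0).1
      haveI : IsIso j' := hiso (le_antisymm hle hle2)
      exact ⟨asIso j', hj'⟩
  · intro N N' hN hN' hd hd' a b w hT
    have hfb : S.f ≫ b = 0 := by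
      by_contra hne
      have := (Groth.Agent.Helper4.NApx82.main1521 k C hdim S.X₁ N' hL hN' _ hne).1
      rw [hd'] at this
      linarith
    haveI : Mono (ShortComplex.mk a b w).f := hT.mono_f
    have hfb' : S.f ≫ (ShortComplex.mk a b w).g = 0 := hfb
    have hlift : hT.exact.lift S.f hfb' ≫ a = S.f := hT.exact.lift_f S.f hfb'
    have hl0 : hT.exact.lift S.f hfb' ≠ 0 := by
      intro h0
      apply hf0
      rw [← hlift, h0, zero_comp]
    have := (Groth.Agent.Helper4.NApx82.main1521 k C hdim S.X₁ N hL hN _ hl0).1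
    change Curv2.deg k C S.X₁ 1 ≤ Curv2.deg k C N 1 at this
    rw [hd] at this
    linarith

end Unstable

end Groth.Agent.Helper4.SN
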