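import Mathlib
import Groth.Agent.Helper4.SN113

/-!
# `h⁰`-semistability and slope semistability in rank two
-/

set_option autoImplicit false
set_option linter.unusedSectionVars false
set_option linter.style.haveILetI false
universe u

open CategoryTheory CategoryTheory.Limits AlgebraicGeometry TopologicalSpace Opposite

namespace Groth.Agent.Helper4.SN

section H0ss

variable (k : Type u) [Field k] {C : Scheme.{u}} [C.Over (Spec (CommRingCat.of k))]
  [IsIntegral C] [IsProper (C ↘ (Spec (CommRingCat.of k)))]

/-- `h⁰(L) ≤ g` for an invertible module with `H¹(L) ≠ 0` -/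
theorem h0_le_genus_of_h1_nontrivial_invertible (hdim : topologicalKrullDim C = 1)
    (L : C.Modules) (hL : PicF.IsInvertible L) (h1 : Nontrivial (Coh.HH C L 1)) :
    Module.finrank k (Coh.HH C L 0) ≤ Curv2.genus k C := by
  have hO : PicF.IsInvertible (Coh.structureModule C) :=
    Groth.Agent.Helper4.TensorInv.isInvertible_structureModule
  have hcL := Groth.Agent.Helper1.SerreFin.isCoh_of_isInvertible L hL
  exact h0_le_genus_of_h1_nontrivial k hdim L hcL
    (fun s hs => ⟨Groth.Agent.Helper4.NApx81.mono_of_ne_zero s hO hL hs,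
      Groth.Agent.Helper4.NApx81.stalkLin_surjective_genericPoint s hO hL hs⟩) h1

/-- **S11822** -/
theorem main11822 (hdim : topologicalKrullDim C = 1)
    (h0O : Module.finrank k (Coh.HH C (Coh.structureModule C) 0) = 1)
    (E : C.Modules) (hE : FlatMod.IsFinLocFreeOfRank 2 E) (h1 : Subsingleton (Coh.HH C E 1))
    (hdeg : 4 * (Curv2.genus k C : ℤ) - 2 ≤ Curv2.deg k C E 2) :
    (∀ (M : C.Modules) (i : M ⟶ E), Mono i → PicF.IsInvertible M →
        2 * Module.finrank k (Coh.HH C M 0) ≤ Module.finrank k (Coh.HH C E 0)) ↔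
      (∀ (F : C.Modules) (r' : ℕ) (i : F ⟶ E), Mono i → 0 < r' →
        FlatMod.IsFinLocFreeOfRank r' F →
        Curv2.deg k C F r' * (2 : ℤ) ≤ Curv2.deg k C E 2 * (r' : ℤ)) := by
  haveI := Groth.Agent.Helper4.NApx82.isNoetherian_of_proper k C
  have hχE := chi_eq_h0_sub_h1 k hdim.le E
  have hχO := chi_eq_h0_sub_h1 k hdim.le (Coh.structureModule C)
  unfold chi at hχE hχO
  have h1E : Module.finrank k (Coh.HH C E 1) = 0 := Module.finrank_zero_of_subsingleton
  have hgen : (Curv2.genus k C : ℤ) =
      (Module.finrank k (Coh.HH C (Coh.structureModule C) 1) : ℤ) := rfl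
  -- `h⁰(E) = deg E + 2 - 2g`
  have hh0E : (Module.finrank k (Coh.HH C E 0) : ℤ) =
      Curv2.deg k C E 2 + 2 - 2 * (Curv2.genus k C : ℤ) := by
    unfold Curv2.deg
    rw [hχE, hχO, h0O, h1E, ← hgen]
    push_cast
    ring
  constructor
  · intro hA F r' i hi hr' hF
    haveI := hi
    have hle := rank_le_of_mono i hF hE
    obtain rfl | rfl : r' = 1 ∨ r' = 2 := by omega
    · have hFinv := isInvertible_of_rank_one F hF
      by_contra hcon
      push Not at hcon
      have hdF : 2 * (Curv2.genus k C : ℤ) - 2 < Curv2.deg k C F 1 := by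
        push_cast at hcon
        linarith
      have h1F : Subsingleton (Coh.HH C F 1) := by
        rw [← not_nontrivial_iff_subsingleton]
        intro hnt
        have := deg_le_of_h1_nontrivial k hdim h0O F hFinv hnt
        linarith
      have hχF := chi_eq_h0_sub_h1 k hdim.le F
      unfold chi at hχF
      have h1F0 : Module.finrank k (Coh.HH C F 1) = 0 := Module.finrank_zero_of_subsingleton
      have hh0F : (Module.finrank k (Coh.HH C F 0) : ℤ) =
          Curv2.deg k C F 1 + 1 - (Curv2.genus k C : ℤ) := by
        unfold Curv2.deg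
        rw [hχF, hχO, h0O, h1F0, ← hgen]
        push_cast
        ring
      have := hA F i hi hFinv
      have h2 : (2 : ℤ) * (Module.finrank k (Coh.HH C F 0) : ℤ) ≤
          (Module.finrank k (Coh.HH C E 0) : ℤ) := by exact_mod_cast this
      push_cast at hcon
      rw [hh0F, hh0E] at h2
      linarith
    · have h1 := deg_le_of_mono_of_rank_eq k hdim i hF hE
      push_cast
      linarith
  · intro hB M i hi hM
    have hM1 := Groth.Agent.Helper4.QAffSec.isFinLocFreeOfRank_one_of_isInvertible M hM
    have hdM := hB M 1 i hi one_pos hM1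
    push_cast at hdM
    have hχM := chi_eq_h0_sub_h1 k hdim.le M
    unfold chi at hχM
    have hgoal : (2 : ℤ) * (Module.finrank k (Coh.HH C M 0) : ℤ) ≤
        (Module.finrank k (Coh.HH C E 0) : ℤ) := by
      by_cases hnt : Nontrivial (Coh.HH C M 1)
      · have := h0_le_genus_of_h1_nontrivial_invertible k hdim M hM hnt
        have h3 : (Module.finrank k (Coh.HH C M 0) : ℤ) ≤ (Curv2.genus k C : ℤ) := by
          exact_mod_cast this
        rw [hh0E]
        linarith
      · rw [not_nontrivial_iff_subsingleton] at hnt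
        have h1M0 : Module.finrank k (Coh.HH C M 1) = 0 := Module.finrank_zero_of_subsingleton
        have hh0M : (Module.finrank k (Coh.HH C M 0) : ℤ) =
            Curv2.deg k C M 1 + 1 - (Curv2.genus k C : ℤ) := by
          unfold Curv2.deg
          rw [hχM, hχO, h0O, h1M0, ← hgen]
          push_cast
          ring
        rw [hh0M, hh0E]
        linarith
    exact_mod_cast hgoal

end H0ss

end Groth.Agent.Helper4.SN
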