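import Mathlib
import Groth.Agent.Helper4.SN114
import Groth.Agent.Helper4.AssNoeth

/-!
# Torsion submodules of coherent modules on a regular curve; enlarging non-saturated submodules
-/

set_option autoImplicit false
set_option linter.unusedSectionVars false
set_option linter.style.haveILetI false
universe u

open CategoryTheory CategoryTheory.Limits AlgebraicGeometry TopologicalSpace Opposite

namespace Groth.Agent.Helper4.SN

section Torsion

open Groth.Agent.Helper4.StalkDict

variable {X : Scheme.{u}}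

/-- a section over an open `V` vanishing on `V ⊓ U`, with `V ⊔ U = ⊤`, extends by zero -/
theorem exists_extension_by_zero (G : X.Modules) (U V : X.Opens) (hcov : (⊤ : X.Opens) ≤ V ⊔ U)
    (s : Γ(G, V)) (hs : G.presheaf.map (homOfLE (inf_le_left : V ⊓ U ≤ V)).op s = 0) :
    ∃ t : Γ(G, ⊤), G.presheaf.map (homOfLE (le_top : V ≤ ⊤)).op t = s ∧
      G.presheaf.map (homOfLE (le_top : U ≤ ⊤)).op t = 0 := by
  let F : TopCat.Sheaf Ab X.toTopCat := ⟨G.presheaf, G.isSheaf⟩
  let W : Bool → Opens X.toTopCat := fun b => bif b then V else U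
  let sf : ∀ b : Bool, ToType (F.1.obj (op (W b))) := fun b => by
    cases b
    · exact (0 : Γ(G, U))
    · exact s
  have hcomp : TopCat.Presheaf.IsCompatible F.1 W sf := by
    rintro (_ | _) (_ | _)
    · rfl
    · change G.presheaf.map (homOfLE (inf_le_left : U ⊓ V ≤ U)).op (0 : Γ(G, U)) =
        G.presheaf.map (homOfLE (inf_le_right : U ⊓ V ≤ V)).op s
      rw [map_zero]
      have h1 : (homOfLE (inf_le_right : U ⊓ V ≤ V)) =
          homOfLE (le_inf inf_le_right inf_le_left : U ⊓ V ≤ V ⊓ U) ≫
            homOfLE (inf_le_left : V ⊓ U ≤ V) := Subsingleton.elim _ _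
      rw [h1, op_comp, G.presheaf.map_comp]
      change 0 = (G.presheaf.map _).hom ((G.presheaf.map _).hom s)
      rw [hs, map_zero]
    · change G.presheaf.map (homOfLE (inf_le_left : V ⊓ U ≤ V)).op s =
        G.presheaf.map (homOfLE (inf_le_right : V ⊓ U ≤ U)).op (0 : Γ(G, U))
      rw [map_zero, hs]
    · rfl
  obtain ⟨t, ht, -⟩ := F.existsUnique_gluing' W ⊤
    (fun b => homOfLE le_top) (by
      refine hcov.trans ?_
      rw [sup_le_iff]
      exact ⟨le_iSup W true, le_iSup W false⟩) sf hcomp
  exact ⟨t, ht true, ht false⟩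

/-- an associated closed point carries a nonzero global section supported at that point -/
theorem exists_section_supported_at [IsLocallyNoetherian X] (G : X.Modules) [G.IsQuasicoherent]
    (x : X) (hx : IsClosed ({x} : Set X)) (hass : Curv2.IsAssPoint G x) :
    ∃ t : Γ(G, ⊤), t ≠ 0 ∧ ∀ y : X, y ≠ x → G.presheaf.germ ⊤ y trivial t = 0 := by
  let U : X.Opens := ⟨({x} : Set X)ᶜ, hx.isOpen_compl⟩
  have hnot : ¬ (∀ x', Curv2.IsAssPoint G x' → x' ∈ U) := fun h => (h x hass) rfl
  rw [Groth.Agent.Helper4.AssNoeth.ass_subset_iff] at hnot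
  push Not at hnot
  obtain ⟨V, hV, s, hs0, hsne⟩ := hnot
  have hxV : x ∈ V := by
    by_contra hxV
    apply hsne
    have hVU : V ≤ V ⊓ U := le_inf le_rfl (fun y hy => fun hyx => hxV (hyx ▸ hy))
    have h1 : (𝟙 V : V ⟶ V) = homOfLE hVU ≫ homOfLE (inf_le_left : V ⊓ U ≤ V) :=
      Subsingleton.elim _ _
    have h2 : s = G.presheaf.map (𝟙 V : V ⟶ V).op s := by
      rw [op_id, G.presheaf.map_id]; rfl
    rw [h2, h1, op_comp, G.presheaf.map_comp]
    change (G.presheaf.map _).hom ((G.presheaf.map _).hom s) = 0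
    rw [hs0, map_zero]
  have hcov : (⊤ : X.Opens) ≤ V ⊔ U := by
    intro y _
    by_cases hy : y = x
    · exact Or.inl (hy ▸ hxV)
    · exact Or.inr hy
  obtain ⟨t, htV, htU⟩ := exists_extension_by_zero G U V hcov s hs0
  refine ⟨t, fun h0 => hsne ?_, fun y hy => ?_⟩
  · rw [← htV, h0, map_zero]
  · have hyU : y ∈ U := hy
    rw [← TopCat.Presheaf.germ_res_apply G.presheaf (homOfLE (le_top : U ≤ ⊤)) y hyU t, htU,
      map_zero]

theorem sec1_ofSection (G : X.Modules) (t : Γ(G, ⊤)) :
    sec1 G (Groth.Agent.Lead.IdealModDict.ofSection G t) = t := by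
  have h1 := Groth.Agent.Lead.IdealModDict.ofSection_app G t ⊤ 1
  have h2 : G.presheaf.map (homOfLE (le_top : (⊤ : X.Opens) ≤ ⊤)).op t = t := by
    have : (homOfLE (le_top : (⊤ : X.Opens) ≤ ⊤)) = 𝟙 _ := Subsingleton.elim _ _
    rw [this, op_id, G.presheaf.map_id]
    rfl
  rw [h2, one_smul] at h1
  exact h1

/-- a coherent module with an associated closed point has a nonzero coherent submodule with a
nonzero global section and vanishing generic stalk -/
theorem exists_torsion_sub [IsIntegral X] [IsLocallyNoetherian X] (G : X.Modules)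
    (hG : Coh.IsCoh G) (x : X) (hx : IsClosed ({x} : Set X)) (hxη : genericPoint X ≠ x)
    (hass : Curv2.IsAssPoint G x) :
    ∃ (T : X.Modules) (j : T ⟶ G) (s : Coh.structureModule X ⟶ T), Mono j ∧ s ≠ 0 ∧
      Coh.IsCoh T ∧ Subsingleton (T.presheaf.stalk (genericPoint X)) := by
  haveI : G.IsQuasicoherent := hG.1
  obtain ⟨t, ht0, htη⟩ := exists_section_supported_at G x hx hass
  set s' := Groth.Agent.Lead.IdealModDict.ofSection G t with hs'
  have hO : PicF.IsInvertible (Coh.structureModule X) :=
    Groth.Agent.Helper4.TensorInv.isInvertible_structureModule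
  have hcO := Groth.Agent.Helper1.SerreFin.isCoh_of_isInvertible _ hO
  haveI : (Coh.structureModule X).IsQuasicoherent := hcO.1
  let T : X.Modules := Abelian.image s'
  let j : T ⟶ G := Abelian.image.ι s'
  let s : Coh.structureModule X ⟶ T := Abelian.factorThruImage s'
  have hfac : s ≫ j = s' := Abelian.image.fac s'
  haveI hmj : Mono j := inferInstanceAs (Mono (Abelian.image.ι s'))
  haveI hes : Epi s := inferInstanceAs (Epi (Abelian.factorThruImage s'))
  haveI : T.IsQuasicoherent := Groth.Agent.Helper4.QcohLimits.isQuasicoherent_image s'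
  have hcT : Coh.IsCoh T := Groth.Agent.Helper2.CohQ1.isCoh_of_mono j ‹T.IsQuasicoherent› hG
  refine ⟨T, j, s, hmj, ?_, hcT, ?_⟩
  · intro h0
    apply ht0
    rw [← sec1_ofSection G t, ← hs', ← hfac, h0, zero_comp]
    rfl
  · refine ⟨fun a b => ?_⟩
    have key : ∀ z : T.presheaf.stalk (genericPoint X), z = 0 := by
      intro z
      obtain ⟨w, rfl⟩ := Groth.Agent.Helper4.EpiStalk.stalkLin_surjective_of_epi s
        (genericPoint X) z
      apply Groth.Agent.Helper4.StalkExact.stalkLin_injective j (genericPoint X)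
      rw [map_zero, ← Groth.Agent.Lead.StalkNhd.stalkLin_comp, hfac]
      obtain ⟨r, rfl⟩ := (Groth.Agent.Lead.Hartogs2.unitEquiv (genericPoint X)).surjective w
      have h1 : Groth.Agent.Lead.Hartogs2.unitEquiv (genericPoint X) r =
          r • Groth.Agent.Lead.Hartogs2.unitEquiv (genericPoint X) 1 := by
        rw [← map_smul, smul_eq_mul, mul_one]
      rw [h1, map_smul, stalkLin_unitEquiv_one, sec1_ofSection, htη _ hxη, smul_zero]
    rw [key a, key b]

/-- in a local principal ideal domain, an element with nonzero proper annihilator has the maximal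
ideal as the radical of its annihilator -/
theorem radical_ker_toSpanSingleton {R : Type*} [CommRing R] [IsDomain R] [IsLocalRing R]
    [IsPrincipalIdealRing R] {M : Type*} [AddCommGroup M] [Module R M] (r : R) (hr : r ≠ 0)
    (m : M) (hm : m ≠ 0) (hrm : r • m = 0) :
    Ideal.radical (LinearMap.ker (LinearMap.toSpanSingleton R M m)) =
      IsLocalRing.maximalIdeal R := by
  set I : Ideal R := LinearMap.ker (LinearMap.toSpanSingleton R M m) with hI
  have hrI : r ∈ I := by
    rw [hI, LinearMap.mem_ker, LinearMap.toSpanSingleton_apply]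
    exact hrm
  have hIne : I ≠ ⊤ := by
    intro h
    have : (1 : R) ∈ I := by rw [h]; trivial
    rw [hI, LinearMap.mem_ker, LinearMap.toSpanSingleton_apply, one_smul] at this
    exact hm this
  apply le_antisymm
  · rw [Ideal.IsPrime.radical_le_iff (IsLocalRing.maximalIdeal.isMaximal R).isPrime]
    exact IsLocalRing.le_maximalIdeal hIne
  · rw [Ideal.radical_eq_sInf]
    apply le_sInf
    rintro J ⟨hIJ, hJ⟩
    have hJ0 : J ≠ ⊥ := by
      intro h
      apply hr
      have : r ∈ J := hIJ hrI
      rw [h, Ideal.mem_bot] at this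
      exact this
    have hJmax : J.IsMaximal := hJ.isMaximal hJ0
    rw [IsLocalRing.eq_maximalIdeal hJmax]

theorem exists_assPoint_of_not_isFinLocFree [IsIntegral X] [IsLocallyNoetherian X]
    (hreg : ∀ x : X, IsRegularLocalRing (X.presheaf.stalk x))
    (hdim : topologicalKrullDim X ≤ 1) (G : X.Modules) (hG : Coh.IsCoh G)
    (hnf : ¬ FlatMod.IsFinLocFree G) :
    ∃ x : X, IsClosed ({x} : Set X) ∧ genericPoint X ≠ x ∧ Curv2.IsAssPoint G x := by
  rw [← Groth.Agent.Lead.RegDimOne.torsionFree_iff_isFinLocFree X hreg hdim G hG] at hnf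
  push Not at hnf
  obtain ⟨x, hx⟩ := hnf
  rw [noZeroSMulDivisors_iff_right_eq_zero_of_smul] at hx
  push Not at hx
  obtain ⟨r, hr, m, hrm, hm⟩ := hx
  have hxη : genericPoint X ≠ x := by
    intro h
    subst h
    have hf : IsField (X.presheaf.stalk (genericPoint X)) := Field.toIsField X.functionField
    obtain ⟨r', hr'⟩ := hf.mul_inv_cancel hr
    apply hm
    have : (r' * r) • m = 0 := by rw [mul_smul, hrm, smul_zero]
    rw [mul_comm, hr', one_smul] at this
    exact this
  refine ⟨x, isClosed_singleton_of_dim_le_one hdim (genericPoint X) (genericPoint_spec X) x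
    (Ne.symm hxη), hxη, ?_⟩
  rw [Groth.Agent.Helper4.AssDict.isAssPoint_iff_isWeakAssPoint]
  haveI := hreg x
  haveI : IsPrincipalIdealRing (X.presheaf.stalk x) :=
    Groth.Agent.Lead.RegDimOne.isPrincipalIdealRing_of_regular_dim_le_one _
      ((Groth.Agent.Lead.RegDimOne.ringKrullDim_stalk_le_dim X x).trans hdim)
  exact ⟨m, radical_ker_toSpanSingleton r hr m hm hrm⟩

end Torsion

section GRank

open Groth.Agent.Helper4.StalkDict

variable {X : Scheme.{u}} [IsIntegral X]

/-- the generic rank of a module -/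
noncomputable def gRank (F : X.Modules) : ℕ :=
  Module.finrank (X.presheaf.stalk (genericPoint X)) (F.presheaf.stalk (genericPoint X))

theorem gRank_of_rank {n : ℕ} (F : X.Modules) (hF : FlatMod.IsFinLocFreeOfRank n F) :
    gRank F = n := by
  obtain ⟨b⟩ := nonempty_basis_stalk_of_rank F hF (genericPoint X)
  unfold gRank
  rw [Module.finrank_eq_card_basis b, Fintype.card_fin]

theorem gRank_of_subsingleton (F : X.Modules)
    (h : Subsingleton (F.presheaf.stalk (genericPoint X))) : gRank F = 0 := by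
  unfold gRank
  exact Module.finrank_zero_of_subsingleton

theorem gRank_add (S : ShortComplex X.Modules) (hS : S.ShortExact)
    (h₂ : Module.Finite (X.presheaf.stalk (genericPoint X))
      (S.X₂.presheaf.stalk (genericPoint X))) :
    gRank S.X₂ = gRank S.X₁ + gRank S.X₃ := by
  haveI := hS.mono_f
  haveI := hS.epi_g
  have hinj := Groth.Agent.Helper4.StalkExact.stalkLin_injective S.f (genericPoint X)
  have hsurj := Groth.Agent.Helper4.EpiStalk.stalkLin_surjective_of_epi S.g (genericPoint X)
  have hex := Groth.Agent.Helper4.StalkExact.stalkLin_exact S hS.exact (genericPoint X)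
  have h := LinearMap.finrank_range_add_finrank_ker (stalkLin S.g (genericPoint X))
  rw [LinearMap.range_eq_top.2 hsurj, finrank_top, (LinearMap.exact_iff.1 hex),
    ← (LinearEquiv.ofInjective (stalkLin S.f (genericPoint X)) hinj).finrank_eq] at h
  unfold gRank
  omega

end GRank

section Enlarge

variable (k : Type u) [Field k] {C : Scheme.{u}} [C.Over (Spec (CommRingCat.of k))]
  [IsIntegral C] [IsProper (C ↘ (Spec (CommRingCat.of k)))]

/-- a coherent module with vanishing generic stalk and a nonzero section has positive Euler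
characteristic and no `H¹` -/
theorem euler_pos_of_torsion (hdim : topologicalKrullDim C = 1) (T : C.Modules)
    (hcT : Coh.IsCoh T) (hξ : Subsingleton (T.presheaf.stalk (genericPoint C)))
    (s : Coh.structureModule C ⟶ T) (hs : s ≠ 0) :
    Subsingleton (Coh.HH C T 1) ∧ 0 < Curv2.euler k C T := by
  haveI := Groth.Agent.Helper4.NApx82.isNoetherian_of_proper k C
  obtain ⟨hpt, -⟩ := Groth.Agent.Helper4.NApx82.closed_points_of_generic_zero k C hdim T hcT hξ
  have h1 := Groth.Agent.Helper1.ZeroDimAcyc.subsingleton_HH C T hcT hpt 1 one_pos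
  refine ⟨h1, ?_⟩
  have hχ := chi_eq_h0_sub_h1 k hdim.le T
  unfold chi at hχ
  rw [hχ]
  have h10 : Module.finrank k (Coh.HH C T 1) = 0 := Module.finrank_zero_of_subsingleton
  haveI : Module.Finite k (Coh.HH C T 0) := Groth.Agent.S0002.result k C _ hcT 0
  have hne : evalH0 k T s ≠ 0 := by
    intro h
    apply hs
    apply evalH0_injective k T
    rw [h, map_zero]
  haveI : Nontrivial (Coh.HH C T 0) := ⟨⟨_, _, hne⟩⟩
  have hpos : 0 < Module.finrank k (Coh.HH C T 0) := Module.finrank_pos
  rw [h10]
  push_cast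
  omega

/-- **enlarging a submodule whose cokernel is not locally free** -/
theorem exists_larger_sub (hdim : topologicalKrullDim C = 1)
    (hreg : ∀ x : C, IsRegularLocalRing (C.presheaf.stalk x))
    {r ρ : ℕ} (E I : C.Modules) (hE : FlatMod.IsFinLocFreeOfRank r E)
    (hI : FlatMod.IsFinLocFreeOfRank ρ I) (i : I ⟶ E) [Mono i]
    (hnf : ¬ FlatMod.IsFinLocFree (cokernel i)) :
    ∃ (I₁ : C.Modules) (i₁ : I₁ ⟶ E) (u : I ⟶ I₁), Mono i₁ ∧ u ≫ i₁ = i ∧
      FlatMod.IsFinLocFreeOfRank ρ I₁ ∧ Curv2.deg k C I ρ < Curv2.deg k C I₁ ρ ∧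
      (Nontrivial (Coh.HH C (cokernel i) 1) → Nontrivial (Coh.HH C (cokernel i₁) 1)) := by
  haveI := Groth.Agent.Helper4.NApx82.isNoetherian_of_proper k C
  have hcE : Coh.IsCoh E := Groth.Agent.Lead.PerfLib.isCoh_of_isFinLocFree
    (FinLocFree7.isFinLocFree_of_rank E hE)
  have hcI : Coh.IsCoh I := Groth.Agent.Lead.PerfLib.isCoh_of_isFinLocFree
    (FinLocFree7.isFinLocFree_of_rank I hI)
  have hcG : Coh.IsCoh (cokernel i) := Groth.Agent.Lead.PerfLib.isCoh_cokernel hcI hcE i
  obtain ⟨x, hx, hxη, hass⟩ := exists_assPoint_of_not_isFinLocFree hreg hdim.le _ hcG hnf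
  obtain ⟨T, j, s, hj, hs, hcT, hTη⟩ := exists_torsion_sub _ hcG x hx hxη hass
  haveI := hj
  have hcG' : Coh.IsCoh (cokernel j) := Groth.Agent.Lead.PerfLib.isCoh_cokernel hcT hcG j
  obtain ⟨hT1, hTχ⟩ := euler_pos_of_torsion k hdim T hcT hTη s hs
  set q : E ⟶ cokernel j := cokernel.π i ≫ cokernel.π j with hq
  have hcI₁ : Coh.IsCoh (kernel q) := Groth.Agent.Lead.PerfLib.isCoh_kernel hcE hcG' q
  have hSa := Groth.Agent.Helper1.Dev.cokSC_shortExact i
  have hSb := Groth.Agent.Helper1.Dev.cokSC_shortExact j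
  have hSc : (ShortComplex.mk (kernel.ι q) q (kernel.condition q)).ShortExact :=
    { exact := ShortComplex.exact_kernel q
      mono_f := inferInstanceAs (Mono (kernel.ι q))
      epi_g := inferInstanceAs (Epi (cokernel.π i ≫ cokernel.π j)) }
  -- Euler characteristics
  have ea := Groth.Agent.Helper4.NApx80.euler_additive k C _ hSa hcI hcE hcG
  have eb := Groth.Agent.Helper4.NApx80.euler_additive k C _ hSb hcT hcG hcG'
  have ec := Groth.Agent.Helper4.NApx80.euler_additive k C _ hSc hcI₁ hcE hcG'
  change Curv2.euler k C E = Curv2.euler k C I + Curv2.euler k C (cokernel i) at ea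
  change Curv2.euler k C (cokernel i) = Curv2.euler k C T + Curv2.euler k C (cokernel j) at eb
  change Curv2.euler k C E = Curv2.euler k C (kernel q) + Curv2.euler k C (cokernel j) at ec
  -- generic ranks
  haveI : E.IsQuasicoherent := hcE.1
  haveI : (cokernel i).IsQuasicoherent := hcG.1
  have ga := gRank_add _ hSa (Groth.Agent.Helper4.FinLocFree2.finite_stalk E hcE.2 _)
  have gb := gRank_add _ hSb (Groth.Agent.Helper4.FinLocFree2.finite_stalk _ hcG.2 _)
  have gc := gRank_add _ hSc (Groth.Agent.Helper4.FinLocFree2.finite_stalk E hcE.2 _)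
  change gRank E = gRank I + gRank (cokernel i) at ga
  change gRank (cokernel i) = gRank T + gRank (cokernel j) at gb
  change gRank E = gRank (kernel q) + gRank (cokernel j) at gc
  rw [gRank_of_subsingleton T hTη, zero_add] at gb
  rw [gRank_of_rank I hI] at ga
  have hgI₁ : gRank (kernel q) = ρ := by omega
  obtain ⟨ρ₁, hρ₁⟩ := exists_rank_of_mono hreg hdim.le (kernel.ι q) hcI₁ hE
  have hρeq : ρ₁ = ρ := by rw [← gRank_of_rank _ hρ₁, hgI₁]
  subst hρeq
  refine ⟨kernel q, kernel.ι q, kernel.lift q i (by rw [hq, cokernel.condition_assoc, zero_comp]),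
    inferInstance, kernel.lift_ι _ _ _, hρ₁, ?_, ?_⟩
  · unfold Curv2.deg
    linarith
  · intro hnt
    -- `H¹(G) ↪ H¹(G')`
    have hex := Groth.Agent.Helper4.NApx80.exact_f_g k _ hSb 1
    have hinj : Function.Injective (Canon.HHlin k (cokernel.π j) 1) := by
      rw [← LinearMap.ker_eq_bot, LinearMap.ker_eq_bot']
      intro y hy
      obtain ⟨z, hz⟩ := (hex y).1 hy
      rw [← hz, Subsingleton.elim z 0, map_zero]
    haveI := hnt
    have hnt' : Nontrivial (Coh.HH C (cokernel j) 1) := hinj.nontrivial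
    -- `cokernel (kernel.ι q) ≅ cokernel j`
    haveI : Epi (ShortComplex.mk (kernel.ι q) q (kernel.condition q)).g := hSc.epi_g
    let e : cokernel (kernel.ι q) ≅ cokernel j :=
      IsColimit.coconePointUniqueUpToIso (cokernelIsCokernel (kernel.ι q)) hSc.exact.gIsCokernel
    haveI := hnt'
    exact (Groth.Agent.Helper1.ProjTop.HHlinEquiv k (X := C) e 1).toEquiv.nontrivial

end Enlarge

end Groth.Agent.Helper4.SN
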