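import Mathlib
import Groth.Agent.Helper4.SN115

/-!
# A bundle on a regular proper curve with `H¹ ≠ 0` has an invertible quotient of degree `≤ 2g - 2`

This is the consequence of Serre duality used in the vanishing theorems for semistable bundles;
it is proved here without a dualising sheaf, by a dimension count and induction on the rank.
-/

set_option autoImplicit false
set_option linter.unusedSectionVars false
set_option linter.style.haveILetI false
universe u

open CategoryTheory CategoryTheory.Limits AlgebraicGeometry TopologicalSpace Opposite TensorProduct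

namespace Groth.Agent.Helper4.SN

section LinearTensor

open Groth.Agent.Helper4.StalkDict Groth.Agent.Lead.Ref1B

variable (k : Type u) [Field k] {X : Scheme.{u}} [X.Over (Spec (CommRingCat.of k))]

/-- the stalk map of a scalar multiple of the identity -/
theorem stalkLin_smul_id (F : X.Modules) (a : k) (x : X) (m : F.presheaf.stalk x) :
    stalkLin (a • 𝟙 F) x m =
      X.presheaf.germ ⊤ x trivial (Coh.toGlobal (X ↘ Spec (CommRingCat.of k)) a) • m := by
  have h := stalkMapₗ_smul k a (𝟙 F) x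
  have h1 := LinearMap.congr_fun h m
  rw [LinearMap.smul_apply] at h1
  have h2 : RefHull.stalkMapₗ (𝟙 F) x m = m := by
    obtain ⟨V, hv, m₀, rfl⟩ := TopCat.Presheaf.exists_germ_eq F.presheaf m
    rw [RefHull.stalkMapₗ_germ]
    rfl
  rw [h2] at h1
  exact h1

/-- tensoring with a fixed module is `k`-linear on scalar endomorphisms -/
theorem tensorRightMod_map_smul_id (M F : X.Modules) (a : k) :
    (DCoh.tensorRightMod M).map (a • 𝟙 F) = a • 𝟙 ((DCoh.tensorRightMod M).obj F) := by
  rw [KoszTw.tensorRightMod_map]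
  apply stalkMapₗ_injective
  intro x
  apply LinearMap.ext
  intro z
  change stalkLin (KoszTw.tensorMap (a • 𝟙 F) (𝟙 M)) x z =
    stalkLin (a • 𝟙 (CohB1.tensorMod F M)) x z
  rw [stalkLin_smul_id]
  obtain ⟨w, rfl⟩ := (stalkTensorEquiv F M x).surjective z
  induction w using TensorProduct.induction_on with
  | zero => rw [map_zero, map_zero, smul_zero]
  | tmul m n =>
    rw [stalkLin_tensorMap_tmul, stalkLin_smul_id, ← map_smul, TensorProduct.smul_tmul']
    congr 2
    exact Groth.Agent.Helper1.Dev.stalkLin_id M x n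
  | add w w' hw hw' => rw [map_add, map_add, hw, hw', smul_add]

/-- tensoring with a fixed module is `k`-linear on morphisms -/
theorem tensorRightMod_map_smul (M : X.Modules) {F G : X.Modules} (a : k) (f : F ⟶ G) :
    (DCoh.tensorRightMod M).map (a • f) = a • (DCoh.tensorRightMod M).map f := by
  have h : a • f = (a • 𝟙 F) ≫ f := by rw [Linear.smul_comp, Category.id_comp]
  rw [h, Functor.map_comp, tensorRightMod_map_smul_id, Linear.smul_comp, Category.id_comp]

end LinearTensor

section DimCount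

variable (k : Type u) [Field k] {C : Scheme.{u}} [C.Over (Spec (CommRingCat.of k))]
  [IsIntegral C] [IsProper (C ↘ (Spec (CommRingCat.of k)))]

/-- an invertible module of negative degree has no sections -/
theorem subsingleton_h0_of_deg_neg (hdim : topologicalKrullDim C = 1) (N : C.Modules)
    (hN : PicF.IsInvertible N) (hd : Curv2.deg k C N 1 < 0) :
    Subsingleton (Coh.HH C N 0) := by
  by_contra hns
  rw [not_subsingleton_iff_nontrivial] at hns
  obtain ⟨s, hs⟩ := exists_section_of_nontrivial_H0 N hns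
  have hO : PicF.IsInvertible (Coh.structureModule C) :=
    Groth.Agent.Helper4.TensorInv.isInvertible_structureModule
  have h := (Groth.Agent.Helper4.NApx82.main1521 k C hdim _ N hO hN s hs).1
  have h0 : Curv2.deg k C (Coh.structureModule C) 1 = 0 := by
    unfold Curv2.deg
    push_cast
    ring
  rw [h0] at h
  linarith

/-- **a bundle of rank at least two with `H¹ ≠ 0` has an invertible submodule whose cokernel still
has `H¹ ≠ 0`** -/
theorem exists_sub_h1_cokernel_nontrivial [IsAlgClosed k] (hdim : topologicalKrullDim C = 1)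
    (hreg : ∀ x : C, IsRegularLocalRing (C.presheaf.stalk x))
    (r : ℕ) (hr : 2 ≤ r) (E : C.Modules) (hE : FlatMod.IsFinLocFreeOfRank r E)
    (h1 : Nontrivial (Coh.HH C E 1)) :
    ∃ (N : C.Modules) (φ : N ⟶ E), PicF.IsInvertible N ∧ Mono φ ∧
      Nontrivial (Coh.HH C (cokernel φ) 1) := by
  haveI := Groth.Agent.Helper4.NApx82.isNoetherian_of_proper k C
  have hO : PicF.IsInvertible (Coh.structureModule C) :=
    Groth.Agent.Helper4.TensorInv.isInvertible_structureModule
  have hcO := Groth.Agent.Helper1.SerreFin.isCoh_of_isInvertible _ hO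
  have hcE : Coh.IsCoh E := Groth.Agent.Lead.PerfLib.isCoh_of_isFinLocFree
    (FinLocFree7.isFinLocFree_of_rank E hE)
  haveI : Module.Finite k (Coh.HH C E 1) := Groth.Agent.S0002.result k C _ hcE 1
  -- a nonzero functional
  obtain ⟨v, hv⟩ := exists_ne (0 : Coh.HH C E 1)
  obtain ⟨θ, hθ⟩ : ∃ θ : Module.Dual k (Coh.HH C E 1), θ v ≠ 0 := by
    by_contra h
    push Not at h
    exact hv ((Module.forall_dual_apply_eq_zero_iff k v).1 h)
  -- a module of degree `m`
  obtain ⟨M₁, hM₁, hd₁⟩ := exists_invertible_deg_neg_one k hdim hreg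
  obtain ⟨L₁, hL₁, ⟨e1⟩, -⟩ := Groth.Agent.Lead.InvDual.exists_inverse M₁ hM₁
  have hdL : Curv2.deg k C L₁ 1 = 1 := by
    rw [deg_inverse k hdim.le M₁ L₁ hM₁ hL₁ e1, hd₁]
    norm_num
  obtain ⟨m, hm⟩ := exists_nat_gt
    (|Curv2.deg k C E r| + ((r : ℤ) + 1) * |Curv2.euler k C (Coh.structureModule C)|)
  have hP := Groth.Agent.Helper4.TensorInv.isInvertible_tensorPow hL₁ m
  have hdP : Curv2.deg k C (CohB1.tensorPow L₁ m) 1 = m := by
    rw [deg_tensorPow k hdim L₁ hL₁ m, hdL, mul_one]
  obtain ⟨P, hPdef⟩ : ∃ P, P = CohB1.tensorPow L₁ m := ⟨_, rfl⟩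
  rw [← hPdef] at hP hdP
  obtain ⟨P', hP', ⟨ε'⟩, ⟨ε⟩⟩ := Groth.Agent.Lead.InvDual.exists_inverse P hP
  have hdP' : Curv2.deg k C P' 1 = -(m : ℤ) := by
    rw [deg_inverse k hdim.le P P' hP hP' ε', hdP]
  have hcP' := Groth.Agent.Helper1.SerreFin.isCoh_of_isInvertible _ hP'
  have hEP := isFinLocFreeOfRank_tensor_invertible E P r hE hP
  have hcEP : Coh.IsCoh (CohB1.tensorMod E P) := Groth.Agent.Lead.PerfLib.isCoh_of_isFinLocFree
    (FinLocFree7.isFinLocFree_of_rank _ hEP)
  have hmpos : (0 : ℤ) < (m : ℤ) := by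
    have h1 : (0 : ℤ) ≤ |Curv2.deg k C E r| := abs_nonneg _
    have h2 : (0 : ℤ) ≤ |Curv2.euler k C (Coh.structureModule C)| := abs_nonneg _
    have h3 : (0 : ℤ) ≤ ((r : ℤ) + 1) := by positivity
    nlinarith
  -- the natural isomorphism
  obtain ⟨α, -⟩ : ∃ α : (DCoh.tensorRightMod P').obj ((DCoh.tensorRightMod P).obj E) ≅ E, True :=
    ⟨(twistTwistIso P P' ε).app E, trivial⟩
  obtain ⟨lam, -⟩ : ∃ lam : (DCoh.tensorRightMod P').obj (Coh.structureModule C) ≅ P', True :=
    ⟨Groth.Agent.Helper4.AmpleBasis.unitorL P', trivial⟩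
  haveI := faithful_tensorRightMod P' P ε'
  let T : (Coh.structureModule C ⟶ (DCoh.tensorRightMod P).obj E) → (P' ⟶ E) := fun t =>
    lam.inv ≫ (DCoh.tensorRightMod P').map t ≫ α.hom
  have hT_add : ∀ t t', T (t + t') = T t + T t' := by
    intro t t'
    simp only [T]
    rw [Functor.map_add, Preadditive.add_comp, Preadditive.comp_add]
  have hT_smul : ∀ (a : k) t, T (a • t) = a • T t := by
    intro a t
    simp only [T]
    rw [tensorRightMod_map_smul, Linear.smul_comp, Linear.comp_smul]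
  have hT_inj : ∀ t, T t = 0 → t = 0 := by
    intro t ht
    simp only [T] at ht
    apply (DCoh.tensorRightMod P').map_injective
    rw [Functor.map_zero, ← cancel_mono α.hom, zero_comp,
      ← cancel_epi lam.inv, comp_zero]
    exact ht
  haveI : Module.Finite k (Coh.HH C P' 1) := Groth.Agent.S0002.result k C _ hcP' 1
  haveI : Module.Finite k (Coh.structureModule C ⟶ (DCoh.tensorRightMod P).obj E) :=
    finite_hom k _ _ hcO hcEP
  let Ψ : (Coh.structureModule C ⟶ (DCoh.tensorRightMod P).obj E) →ₗ[k]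
      Module.Dual k (Coh.HH C P' 1) :=
    { toFun := fun t => θ ∘ₗ Canon.HHlin k (T t) 1
      map_add' := fun t t' => by rw [hT_add, HHlin_add, LinearMap.comp_add]
      map_smul' := fun a t => by rw [hT_smul, HHlin_smul, LinearMap.comp_smul]; rfl }
  -- dimensions
  have hdimV : (m : ℤ) - Curv2.euler k C (Coh.structureModule C) <
      (Module.finrank k (Coh.structureModule C ⟶ (DCoh.tensorRightMod P).obj E) : ℤ) := by
    rw [finrank_hom_unit]
    have h7 := main7637 k hdim.le r 1 E P hE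
      (Groth.Agent.Helper4.QAffSec.isFinLocFreeOfRank_one_of_isInvertible _ hP)
    rw [Nat.mul_one, hdP] at h7
    have hχ := chi_eq_h0_sub_h1 k hdim.le (CohB1.tensorMod E P)
    unfold chi at hχ
    have hdef : Curv2.deg k C (CohB1.tensorMod E P) r =
        Curv2.euler k C (CohB1.tensorMod E P) - (r : ℤ) * Curv2.euler k C (Coh.structureModule C) :=
      rfl
    have h1' : (0 : ℤ) ≤ (Module.finrank k (Coh.HH C (CohB1.tensorMod E P) 1) : ℤ) :=
      Int.natCast_nonneg _
    have habs1 := neg_abs_le (Curv2.deg k C E r)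
    have habs2 := neg_abs_le (Curv2.euler k C (Coh.structureModule C))
    have habs3 : (0 : ℤ) ≤ |Curv2.euler k C (Coh.structureModule C)| := abs_nonneg _
    have hr2 : (2 : ℤ) ≤ (r : ℤ) := by exact_mod_cast hr
    change (m : ℤ) - Curv2.euler k C (Coh.structureModule C) <
      (Module.finrank k (Coh.HH C (CohB1.tensorMod E P) 0) : ℤ)
    push_cast at h7
    nlinarith
  have hdimW : (Module.finrank k (Module.Dual k (Coh.HH C P' 1)) : ℤ) =
      (m : ℤ) - Curv2.euler k C (Coh.structureModule C) := by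
    rw [Subspace.dual_finrank_eq]
    have hχ := chi_eq_h0_sub_h1 k hdim.le P'
    unfold chi at hχ
    haveI := subsingleton_h0_of_deg_neg k hdim P' hP' (by rw [hdP']; linarith)
    have h00 : Module.finrank k (Coh.HH C P' 0) = 0 := Module.finrank_zero_of_subsingleton
    unfold Curv2.deg at hdP'
    rw [hχ, h00] at hdP'
    push_cast at hdP'
    linarith
  have hlt : Module.finrank k (Module.Dual k (Coh.HH C P' 1)) <
      Module.finrank k (Coh.structureModule C ⟶ (DCoh.tensorRightMod P).obj E) := by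
    have : (Module.finrank k (Module.Dual k (Coh.HH C P' 1)) : ℤ) <
        (Module.finrank k (Coh.structureModule C ⟶ (DCoh.tensorRightMod P).obj E) : ℤ) := by
      rw [hdimW]; exact hdimV
    exact_mod_cast this
  have hker := LinearMap.ker_ne_bot_of_finrank_lt (f := Ψ) hlt
  obtain ⟨t, htmem, ht0⟩ := Submodule.exists_mem_ne_zero_of_ne_bot hker
  have hTt0 : T t ≠ 0 := fun h => ht0 (hT_inj t h)
  haveI hmono : Mono (T t) := mono_of_ne_zero_of_invertible hP' r hE (T t) hTt0
  refine ⟨P', T t, hP', hmono, ?_⟩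
  rw [← not_subsingleton_iff_nontrivial]
  intro hsub
  have hex := Groth.Agent.Helper4.NApx80.exact_f_g k (Groth.Agent.Helper1.Dev.cokSC (T t))
    (Groth.Agent.Helper1.Dev.cokSC_shortExact (T t)) 1
  obtain ⟨w, hw⟩ := (hex v).1 (Subsingleton.elim _ _)
  apply hθ
  rw [← hw]
  have := LinearMap.congr_fun (LinearMap.mem_ker.1 htmem) w
  exact this

/-- the invertible submodule can be chosen with locally free cokernel -/
theorem exists_saturated_sub_h1 [IsAlgClosed k] (hdim : topologicalKrullDim C = 1)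
    (hreg : ∀ x : C, IsRegularLocalRing (C.presheaf.stalk x))
    (r : ℕ) (hr : 1 ≤ r) (E : C.Modules) (hE : FlatMod.IsFinLocFreeOfRank (r + 1) E)
    (h1 : Nontrivial (Coh.HH C E 1)) :
    ∃ (N : C.Modules) (φ : N ⟶ E), PicF.IsInvertible N ∧ Mono φ ∧
      FlatMod.IsFinLocFreeOfRank r (cokernel φ) ∧ Nontrivial (Coh.HH C (cokernel φ) 1) := by
  classical
  haveI := Groth.Agent.Helper4.NApx82.isNoetherian_of_proper k C
  obtain ⟨B, hB⟩ := main11826 k hdim (r + 1) E hE
  obtain ⟨N, φ, hN, hφ, hnt⟩ := exists_sub_h1_cokernel_nontrivial k hdim hreg (r + 1) (by omega)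
    E hE h1
  obtain ⟨d, ⟨N₀, φ₀, hN₀, hφ₀, hnt₀, hd⟩, hmax⟩ := Int.exists_greatest_of_bdd
    (P := fun d : ℤ => ∃ (N : C.Modules) (φ : N ⟶ E), PicF.IsInvertible N ∧ Mono φ ∧
      Nontrivial (Coh.HH C (cokernel φ) 1) ∧ Curv2.deg k C N 1 = d)
    ⟨B, fun z ⟨N, φ, hN, hφ, _, hz⟩ => hz ▸ hB N φ hφ hN⟩ ⟨_, N, φ, hN, hφ, hnt, rfl⟩
  haveI := hφ₀
  have hN₀1 := Groth.Agent.Helper4.QAffSec.isFinLocFreeOfRank_one_of_isInvertible N₀ hN₀
  have hflf : FlatMod.IsFinLocFree (cokernel φ₀) := by
    by_contra hnf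
    obtain ⟨I₁, i₁, u, hi₁, -, hI₁, hlt, htr⟩ := exists_larger_sub k hdim hreg E N₀ hE hN₀1 φ₀ hnf
    have := hmax _ ⟨I₁, i₁, isInvertible_of_rank_one I₁ hI₁, hi₁, htr hnt₀, rfl⟩
    rw [hd] at hlt
    linarith
  have hc := isFinLocFreeOfRank_of_isFinLocFree (cokernel φ₀) hflf
  have hadd := rank_add_of_shortExact (Groth.Agent.Helper1.Dev.cokSC φ₀)
    (Groth.Agent.Helper1.Dev.cokSC_shortExact φ₀) hN₀1 hE hc
  have hr' : Module.finrank (C.presheaf.stalk (genericPoint C))
      ((cokernel φ₀).presheaf.stalk (genericPoint C)) = r := by omega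
  rw [hr'] at hc
  exact ⟨N₀, φ₀, hN₀, hφ₀, hc, hnt₀⟩

/-- **a bundle with `H¹ ≠ 0` has an invertible quotient of degree at most `2g - 2`** (a shadow of
Serre duality, proved without a dualising sheaf) -/
theorem exists_quotient_of_h1_nontrivial [IsAlgClosed k] (hdim : topologicalKrullDim C = 1)
    (hreg : ∀ x : C, IsRegularLocalRing (C.presheaf.stalk x)) :
    ∀ (r : ℕ) (E : C.Modules), FlatMod.IsFinLocFreeOfRank (r + 1) E →
      Nontrivial (Coh.HH C E 1) →
      ∃ (Q : C.Modules) (q : E ⟶ Q), PicF.IsInvertible Q ∧ Epi q ∧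
        Curv2.deg k C Q 1 ≤ 2 * (Curv2.genus k C : ℤ) - 2 := by
  intro r
  induction r with
  | zero =>
    intro E hE h1
    have hEinv := isInvertible_of_rank_one E hE
    exact ⟨E, 𝟙 E, hEinv, inferInstance,
      deg_le_of_h1_nontrivial k hdim (finrank_h0_unit_of_isAlgClosed k (X := C)) E hEinv h1⟩
  | succ r ih =>
    intro E hE h1
    obtain ⟨N, φ, hN, hφ, hc, hnt⟩ := exists_saturated_sub_h1 k hdim hreg (r + 1) (by omega) E hE h1
    obtain ⟨Q, q', hQ, hq', hdQ⟩ := ih (cokernel φ) hc hnt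
    haveI := hq'
    exact ⟨Q, cokernel.π φ ≫ q', hQ, epi_comp _ _, hdQ⟩

/-- kernel form: a bundle of rank `r + 1` with `H¹ ≠ 0` has a subbundle of rank `r` and degree at
least `deg E - (2g - 2)` -/
theorem exists_sub_of_h1_nontrivial [IsAlgClosed k] (hdim : topologicalKrullDim C = 1)
    (hreg : ∀ x : C, IsRegularLocalRing (C.presheaf.stalk x))
    (r : ℕ) (E : C.Modules) (hE : FlatMod.IsFinLocFreeOfRank (r + 1) E)
    (h1 : Nontrivial (Coh.HH C E 1)) :
    ∃ (F : C.Modules) (i : F ⟶ E), Mono i ∧ FlatMod.IsFinLocFreeOfRank r F ∧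
      Curv2.deg k C E (r + 1) - (2 * (Curv2.genus k C : ℤ) - 2) ≤ Curv2.deg k C F r := by
  haveI := Groth.Agent.Helper4.NApx82.isNoetherian_of_proper k C
  obtain ⟨Q, q, hQ, hq, hdQ⟩ := exists_quotient_of_h1_nontrivial k hdim hreg r E hE h1
  haveI := hq
  have hcE : Coh.IsCoh E := Groth.Agent.Lead.PerfLib.isCoh_of_isFinLocFree
    (FinLocFree7.isFinLocFree_of_rank E hE)
  have hcQ := Groth.Agent.Helper1.SerreFin.isCoh_of_isInvertible _ hQ
  have hcF : Coh.IsCoh (kernel q) := Groth.Agent.Lead.PerfLib.isCoh_kernel hcE hcQ q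
  have hS : (ShortComplex.mk (kernel.ι q) q (kernel.condition q)).ShortExact :=
    { exact := ShortComplex.exact_kernel q
      mono_f := inferInstanceAs (Mono (kernel.ι q))
      epi_g := hq }
  obtain ⟨c, hc⟩ := exists_rank_of_mono hreg hdim.le (kernel.ι q) hcF hE
  have hQ1 := Groth.Agent.Helper4.QAffSec.isFinLocFreeOfRank_one_of_isInvertible Q hQ
  have hadd := rank_add_of_shortExact _ hS hc hE hQ1
  have hcr : c = r := by omega
  subst hcr
  have hdeg := deg_add_of_shortExact k _ hS hcF hcE hcQ c 1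
  change Curv2.deg k C E (c + 1) = Curv2.deg k C (kernel q) c + Curv2.deg k C Q 1 at hdeg
  refine ⟨kernel q, kernel.ι q, inferInstance, hc, ?_⟩
  linarith

end DimCount

end Groth.Agent.Helper4.SN
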