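import Mathlib
import Groth.Agent.Helper4.SN116

/-!
# Vanishing of `H¹` for semistable bundles of large slope on a curve
-/

set_option autoImplicit false
set_option linter.unusedSectionVars false
set_option linter.style.haveILetI false
universe u

open CategoryTheory CategoryTheory.Limits AlgebraicGeometry TopologicalSpace Opposite

namespace Groth.Agent.Helper4.SN

section Vanishing

variable (k : Type u) [Field k] {C : Scheme.{u}} [C.Over (Spec (CommRingCat.of k))]
  [IsIntegral C] [IsProper (C ↘ (Spec (CommRingCat.of k)))]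

/-- **S11812** -/
theorem main11812 [IsAlgClosed k] (hdim : topologicalKrullDim C = 1)
    (hreg : ∀ x : C, IsRegularLocalRing (C.presheaf.stalk x))
    (r : ℕ) (hr : 0 < r) (E : C.Modules) (hE : FlatMod.IsFinLocFreeOfRank r E)
    (hss : ∀ (F : C.Modules) (r' : ℕ) (i : F ⟶ E), Mono i → 0 < r' →
      FlatMod.IsFinLocFreeOfRank r' F →
      Curv2.deg k C F r' * (r : ℤ) ≤ Curv2.deg k C E r * (r' : ℤ))
    (hdeg : (r : ℤ) * (2 * (Curv2.genus k C : ℤ) - 2) < Curv2.deg k C E r) :
    Subsingleton (Coh.HH C E 1) := by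
  by_contra hns
  rw [not_subsingleton_iff_nontrivial] at hns
  obtain ⟨r', rfl⟩ : ∃ r', r = r' + 1 := ⟨r - 1, by omega⟩
  obtain ⟨F, i, hi, hF, hle⟩ := exists_sub_of_h1_nontrivial k hdim hreg r' E hE hns
  rcases Nat.eq_zero_or_pos r' with h0 | hpos
  · subst h0
    rw [deg_of_isZero k (isZero_of_rank_zero _ hF)] at hle
    push_cast at hdeg
    linarith
  · have h2 := hss F r' i hi hpos hF
    push_cast at h2 hdeg
    have hr'0 : (0 : ℤ) < (r' : ℤ) := by exact_mod_cast hpos
    nlinarith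

/-- **S11813** -/
theorem main11813 [IsAlgClosed k] (hdim : topologicalKrullDim C = 1)
    (hreg : ∀ x : C, IsRegularLocalRing (C.presheaf.stalk x))
    (r : ℕ) (hr : 2 ≤ r) (E : C.Modules) (hE : FlatMod.IsFinLocFreeOfRank r E)
    (hst : ∀ (F : C.Modules) (r' : ℕ) (i : F ⟶ E), Mono i → 0 < r' → r' < r →
      FlatMod.IsFinLocFreeOfRank r' F →
      Curv2.deg k C F r' * (r : ℤ) < Curv2.deg k C E r * (r' : ℤ))
    (hdeg : (r : ℤ) * (2 * (Curv2.genus k C : ℤ) - 2) ≤ Curv2.deg k C E r) :
    Subsingleton (Coh.HH C E 1) := by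
  by_contra hns
  rw [not_subsingleton_iff_nontrivial] at hns
  obtain ⟨r', rfl⟩ : ∃ r', r = r' + 1 := ⟨r - 1, by omega⟩
  obtain ⟨F, i, hi, hF, hle⟩ := exists_sub_of_h1_nontrivial k hdim hreg r' E hE hns
  have h2 := hst F r' i hi (by omega) (by omega) hF
  push_cast at h2 hdeg
  have hr'0 : (0 : ℤ) < (r' : ℤ) := by
    have : 0 < r' := by omega
    exact_mod_cast this
  nlinarith

end Vanishing

end Groth.Agent.Helper4.SN
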