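import Mathlib
import Groth.Agent.Helper4.SN117
import Groth.Agent.Helper4.SN111

/-!
# Global generation of a locally free module on a curve from the vanishing of `H¹(I_x ⊗ E)`
-/

set_option autoImplicit false
set_option linter.unusedSectionVars false
set_option linter.style.haveILetI false
universe u

open CategoryTheory CategoryTheory.Limits AlgebraicGeometry TopologicalSpace Opposite TensorProduct

namespace Groth.Agent.Helper4.SN

section LocalAlg

variable {k : Type*} [Field k] {R : Type*} [CommRing R] [IsLocalRing R] (ι : k →+* R)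
  {M : Type*} [AddCommGroup M] [Module R M] [Module.Finite R M] [Module.Free R M]
  {V : Type*} [AddCommGroup V] [Module k V] [Module.Finite k V]

/-- a `k`-space of elements of a free module over a local `k`-algebra with residue field `k`
generates the module as soon as the subspace of elements vanishing in the fibre has codimension
at least the rank -/
theorem span_range_eq_top_of_codim
    (hι : Function.Surjective ((IsLocalRing.residue R).comp ι))
    (e : V →+ M) (he : ∀ (a : k) (s : V), e (a • s) = ι a • e s)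
    (K : Submodule k V)
    (hK : ∀ s : V, e s ∈ (IsLocalRing.maximalIdeal R) • (⊤ : Submodule R M) → s ∈ K)
    (hdim : Module.finrank k K + Module.finrank R M ≤ Module.finrank k V) :
    Submodule.span R (Set.range e) = ⊤ := by
  classical
  let κ := IsLocalRing.ResidueField R
  let σ : k →+* κ := (IsLocalRing.residue R).comp ι
  let _ : Algebra k κ := σ.toAlgebra
  have hσ : Function.Bijective σ := ⟨σ.injective, hι⟩
  -- `κ` is one-dimensional over `k`
  have hκ1 : Module.finrank k κ = 1 := by
    have e1 : k ≃ₗ[k] κ := LinearEquiv.ofBijective (Algebra.linearMap k κ) hσ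
    rw [← e1.finrank_eq, Module.finrank_self]
  haveI : Module.Finite k κ := Module.finite_of_finrank_pos (by rw [hκ1]; exact one_pos)
  -- the fibre
  let Q := κ ⊗[R] M
  have hQ : Module.finrank k Q = Module.finrank R M := by
    rw [← Module.finrank_mul_finrank k κ Q, hκ1, one_mul, Module.finrank_baseChange]
  haveI : Module.Finite κ Q := inferInstance
  haveI : Module.Finite k Q := Module.Finite.trans κ Q
  -- the `k`-linear map to the fibre
  let e' : V →ₗ[k] Q :=
    { toFun := fun s => (1 : κ) ⊗ₜ[R] e s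
      map_add' := fun s t => by rw [map_add, TensorProduct.tmul_add]
      map_smul' := fun a s => by
        rw [he, RingHom.id_apply]
        change (1 : κ) ⊗ₜ[R] (ι a • e s) = a • ((1 : κ) ⊗ₜ[R] e s)
        rw [← TensorProduct.smul_tmul, TensorProduct.smul_tmul']
        congr 1 }
  have hker : LinearMap.ker e' ≤ K := by
    intro s hs
    apply hK
    rw [LinearMap.mem_ker] at hs
    change (1 : κ) ⊗ₜ[R] e s = 0 at hs
    have h1 := (congrArg (TensorProduct.quotTensorEquivQuotSMul M (IsLocalRing.maximalIdeal R))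
      hs).trans (map_zero _)
    have h2 : (TensorProduct.quotTensorEquivQuotSMul M (IsLocalRing.maximalIdeal R))
        ((1 : κ) ⊗ₜ[R] e s) = Submodule.Quotient.mk (e s) :=
      TensorProduct.quotTensorEquivQuotSMul_mk_tmul _ 1 (e s) |>.trans (by rw [one_smul])
    have h3 := h2.symm.trans h1
    rw [Submodule.Quotient.mk_eq_zero] at h3
    exact h3
  have hrange : LinearMap.range e' = ⊤ := by
    apply Submodule.eq_top_of_finrank_eq
    have h1 := LinearMap.finrank_range_add_finrank_ker e'
    have h2 := Submodule.finrank_mono hker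
    have h3 : Module.finrank k (LinearMap.range e') ≤ Module.finrank k Q :=
      Submodule.finrank_le _
    omega
  rw [← IsLocalRing.map_tensorProduct_mk_eq_top, eq_top_iff]
  intro z _
  have hz : z ∈ LinearMap.range e' := by rw [hrange]; trivial
  obtain ⟨s, rfl⟩ := hz
  exact ⟨e s, Submodule.subset_span ⟨s, rfl⟩, rfl⟩

end LocalAlg

section Lift

open Groth.Agent.Helper4.StalkDict Groth.Agent.Helper4.NApx82 Groth.Agent.Lead.WeakAss
  Groth.Agent.Lead.Ref1B

variable {X : Scheme.{u}}

/-- a section of a finite locally free module vanishing at a closed point lifts to the twist by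
the ideal of the point -/
theorem exists_lift_ideal_twist (x : X) (hx : IsClosed ({x} : Set X))
    (F : X.Modules) (hF : FlatMod.IsFinLocFree F) (s : Coh.structureModule X ⟶ F)
    (hs : F.presheaf.germ ⊤ x trivial (sec1 F s) ∈
      (IsLocalRing.maximalIdeal (X.presheaf.stalk x)) •
        (⊤ : Submodule (X.presheaf.stalk x) (F.presheaf.stalk x))) :
    ∃ s' : Coh.structureModule X ⟶
      CohB1.tensorMod (ClSub.idealMod (Scheme.IdealSheafData.vanishingIdeal ⟨{x}, hx⟩)) F,
      s' ≫ (DCoh.tensorRightMod F).map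
        (ClSub.idealModι (Scheme.IdealSheafData.vanishingIdeal ⟨{x}, hx⟩)) =
        SecTwist.tmulHom (𝟙 (Coh.structureModule X)) s := by
  obtain ⟨D, hD⟩ : ∃ D, D = Scheme.IdealSheafData.vanishingIdeal ⟨{x}, hx⟩ := ⟨_, rfl⟩
  rw [← hD]
  haveI : F.IsQuasicoherent := FinLocFree4.isQuasicoherent_of_isFinLocFree F hF
  have hflat : ∀ y : X, Module.Flat (X.presheaf.stalk y) (F.presheaf.stalk y) := fun y => by
    haveI := FinLocFree2.free_stalk_of_isFinLocFree F hF y
    infer_instance
  have hS' := shortExact_map_tensorRightMod_of_flat (idealSC D) (idealSC_shortExact D) F hflat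
  haveI := hS'.mono_f
  set t : Coh.structureModule X ⟶ CohB1.tensorMod (Coh.structureModule X) F :=
    SecTwist.tmulHom (𝟙 (Coh.structureModule X)) s with ht
  have hg : ((idealSC D).map (DCoh.tensorRightMod F)).g =
      KoszTw.tensorMap (ClSub.toSubscheme D) (𝟙 F) := KoszTw.tensorRightMod_map _ _
  have hkey : t ≫ KoszTw.tensorMap (ClSub.toSubscheme D) (𝟙 F) = 0 := by
    rw [ht, tmulHom_comp_tensorMap, Category.id_comp, Category.comp_id]
    have h1 : SecTwist.tmulHom (ClSub.toSubscheme D) s =
        SecTwist.tmulHom (ClSub.toSubscheme D ≫ 𝟙 _) (𝟙 (Coh.structureModule X) ≫ s) := by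
      rw [Category.id_comp, Category.comp_id]
    rw [h1, ← tmulHom_comp_tensorMap, tensorMap_id_eq_zero_of_vanishing x hx D hD F s hs,
      comp_zero]
  have htg : t ≫ ((idealSC D).map (DCoh.tensorRightMod F)).g = 0 := by
    rw [hg]
    exact hkey
  exact ⟨hS'.exact.lift t htg, hS'.exact.lift_f t htg⟩

end Lift

section Count

open Groth.Agent.Helper4.NApx82 Groth.Agent.Lead.Ref1B

variable (k : Type u) [Field k] {X : Scheme.{u}} [X.Over (Spec (CommRingCat.of k))]
  [IsProper (X ↘ (Spec (CommRingCat.of k)))]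

attribute [local instance] Curv2.resAlgebra

/-- the Euler characteristic of the fibre of a locally free module at a closed point -/
theorem chi_quotMod_twist_rank (x : X) (hx : IsClosed ({x} : Set X)) (n : ℕ)
    (E : X.Modules) (hE : FlatMod.IsFinLocFreeOfRank n E) :
    chi k X (CohB1.tensorMod
      (ClSub.quotMod (Scheme.IdealSheafData.vanishingIdeal ⟨{x}, hx⟩)) E) =
      (n : ℤ) * (Module.finrank k (X.residueField x) : ℤ) := by
  haveI := Groth.Agent.Helper4.NApx82.isNoetherian_of_proper k X
  have h9 := finrank_h0_quotMod_twist_rank k x hx n E hE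
  obtain ⟨D, hD⟩ : ∃ D, D = Scheme.IdealSheafData.vanishingIdeal ⟨{x}, hx⟩ := ⟨_, rfl⟩
  rw [← hD] at h9 ⊢
  have hcE : Coh.IsCoh E := Groth.Agent.Lead.PerfLib.isCoh_of_isFinLocFree
    (FinLocFree7.isFinLocFree_of_rank E hE)
  have hcQ : Coh.IsCoh (ClSub.quotMod D) := isCoh_quotMod D
  have hc₃ : Coh.IsCoh (CohB1.tensorMod (ClSub.quotMod D) E) :=
    Groth.Agent.Lead.Ref1B.isCoh_tensorMod _ _ hcQ hcE
  have hsupp : CohB1.support (ClSub.quotMod D) ⊆ ({x} : Set X) := by
    refine (support_quotMod_subset D).trans ?_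
    rw [hD, Scheme.IdealSheafData.coe_support_vanishingIdeal]
    exact subset_rfl
  have hsuppQ : topologicalKrullDim (CohB1.support (ClSub.quotMod D)) ≤ 0 := by
    haveI : Subsingleton (CohB1.support (ClSub.quotMod D)) := by
      refine ⟨fun a b => Subtype.ext ?_⟩
      rw [Set.mem_singleton_iff.1 (hsupp a.2), Set.mem_singleton_iff.1 (hsupp b.2)]
    exact topologicalKrullDim_le_zero_of_subsingleton _
  have hdimQ : DimLT (CohB1.support (ClSub.quotMod D)) 1 := by
    apply dimLT_of_krullDim_lt
    refine lt_of_le_of_lt hsuppQ ?_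
    exact_mod_cast Nat.lt_succ_self 0
  haveI : (ClSub.quotMod D).IsQuasicoherent := hcQ.1
  haveI : E.IsQuasicoherent := hcE.1
  have hdimQL : DimLT (CohB1.support (CohB1.tensorMod (ClSub.quotMod D) E)) 1 := by
    refine hdimQ.mono ?_
    rw [Groth.Agent.Lead.QcohTensor.support_tensorMod _ _ hcQ.2 hcE.2]
    exact Set.inter_subset_left
  have h5 := chi_eq_h0_of_dimLT_one k _ hc₃ hdimQL
  rw [h5, h9]
  push_cast
  ring

end Count

section GG

open Groth.Agent.Helper4.StalkDict Groth.Agent.Helper4.NApx82 Groth.Agent.Lead.Ref1B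

variable (k : Type u) [Field k] {C : Scheme.{u}} [C.Over (Spec (CommRingCat.of k))]
  [IsIntegral C] [IsProper (C ↘ (Spec (CommRingCat.of k)))]

/-- the sections of a locally free module `E` with `H¹(I_x ⊗ E) = 0` generate the stalk at the
closed point `x` -/
theorem span_germs_eq_top_of_h1_ideal_twist [IsAlgClosed k] (hdim : topologicalKrullDim C = 1)
    (r : ℕ) (E : C.Modules) (hE : FlatMod.IsFinLocFreeOfRank r E)
    (x : C) (hx : IsClosed ({x} : Set C))
    (hvan : Subsingleton (Coh.HH C (CohB1.tensorMod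
      (ClSub.idealMod (Scheme.IdealSheafData.vanishingIdeal ⟨{x}, hx⟩)) E) 1)) :
    Submodule.span (C.presheaf.stalk x)
      (Set.range fun s : Coh.structureModule C ⟶ E => E.presheaf.germ ⊤ x trivial (sec1 E s)) =
      ⊤ := by
  haveI := Groth.Agent.Helper4.NApx82.isNoetherian_of_proper k C
  have hFLF := FinLocFree7.isFinLocFree_of_rank E hE
  have hcE : Coh.IsCoh E := Groth.Agent.Lead.PerfLib.isCoh_of_isFinLocFree hFLF
  haveI : E.IsQuasicoherent := hcE.1
  have hcO : Coh.IsCoh (Coh.structureModule C) := Groth.Agent.Helper1.Dev.isCoh_structureModule C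
  haveI : (Coh.structureModule C).IsQuasicoherent := hcO.1
  obtain ⟨b⟩ := nonempty_basis_stalk_of_rank E hE x
  haveI : Module.Finite (C.presheaf.stalk x) (E.presheaf.stalk x) := Module.Finite.of_basis b
  haveI : Module.Free (C.presheaf.stalk x) (E.presheaf.stalk x) := Module.Free.of_basis b
  have hrk : Module.finrank (C.presheaf.stalk x) (E.presheaf.stalk x) = r := by
    rw [Module.finrank_eq_card_basis b, Fintype.card_fin]
  have hι : Function.Surjective
      ((IsLocalRing.residue (C.presheaf.stalk x)).comp (Curv2.stalkMap k C x)) :=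
    resMap_surjective k x hx
  have hκ := finrank_residueField_eq_one k x hx
  have hlift := fun s hs => exists_lift_ideal_twist x hx E hFLF s hs
  obtain ⟨D, hD⟩ : ∃ D, D = Scheme.IdealSheafData.vanishingIdeal ⟨{x}, hx⟩ := ⟨_, rfl⟩
  have hχQ := chi_quotMod_twist_rank k x hx r E hE
  rw [← hD] at hvan hχQ hlift
  rw [hκ] at hχQ
  -- coherence
  have hcQ : Coh.IsCoh (ClSub.quotMod D) := isCoh_quotMod D
  have hcI : Coh.IsCoh (ClSub.idealMod D) :=
    Groth.Agent.Lead.PerfLib.isCoh_kernel hcO hcQ _
  have hc₁ : Coh.IsCoh (CohB1.tensorMod (ClSub.idealMod D) E) :=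
    Groth.Agent.Lead.Ref1B.isCoh_tensorMod _ _ hcI hcE
  have hc₂ : Coh.IsCoh (CohB1.tensorMod (Coh.structureModule C) E) :=
    Groth.Agent.Lead.Ref1B.isCoh_tensorMod _ _ hcO hcE
  have hc₃ : Coh.IsCoh (CohB1.tensorMod (ClSub.quotMod D) E) :=
    Groth.Agent.Lead.Ref1B.isCoh_tensorMod _ _ hcQ hcE
  have hflat : ∀ y : C, Module.Flat (C.presheaf.stalk y) (E.presheaf.stalk y) := fun y => by
    haveI := FinLocFree2.free_stalk_of_isFinLocFree E hFLF y
    infer_instance
  have hS' := shortExact_map_tensorRightMod_of_flat (idealSC D) (idealSC_shortExact D) E hflat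
  haveI := hS'.mono_f
  -- the count
  have hadd := chi_add k _ hS' hc₁ hc₂ hc₃
  change chi k C (CohB1.tensorMod (Coh.structureModule C) E) =
    chi k C (CohB1.tensorMod (ClSub.idealMod D) E) +
      chi k C (CohB1.tensorMod (ClSub.quotMod D) E) at hadd
  rw [chi_iso k (Groth.Agent.Helper4.AmpleBasis.unitorL E), hχQ] at hadd
  have hχE := chi_eq_h0_sub_h1 k hdim.le E
  have hχI := chi_eq_h0_sub_h1 k hdim.le (CohB1.tensorMod (ClSub.idealMod D) E)
  have h10 : Module.finrank k (Coh.HH C (CohB1.tensorMod (ClSub.idealMod D) E) 1) = 0 :=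
    Module.finrank_zero_of_subsingleton
  rw [hχE, hχI, h10] at hadd
  -- the spaces of sections
  haveI : Module.Finite k (Coh.structureModule C ⟶ E) := finite_hom k _ _ hcO hcE
  haveI : Module.Finite k (Coh.structureModule C ⟶ CohB1.tensorMod (ClSub.idealMod D) E) :=
    finite_hom k _ _ hcO hc₁
  haveI : Module.Finite k (Coh.structureModule C ⟶
      CohB1.tensorMod (Coh.structureModule C) E) := finite_hom k _ _ hcO hc₂
  let Φ : (Coh.structureModule C ⟶ CohB1.tensorMod (ClSub.idealMod D) E) →ₗ[k]
      (Coh.structureModule C ⟶ CohB1.tensorMod (Coh.structureModule C) E) :=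
    { toFun := fun s' => s' ≫ (DCoh.tensorRightMod E).map (ClSub.idealModι D)
      map_add' := fun a b => Preadditive.add_comp _ _ _ _ _ _
      map_smul' := fun a s' => Linear.smul_comp _ _ _ a s' _ }
  let τ : (Coh.structureModule C ⟶ E) →ₗ[k]
      (Coh.structureModule C ⟶ CohB1.tensorMod (Coh.structureModule C) E) :=
    { toFun := fun s => SecTwist.tmulHom (𝟙 (Coh.structureModule C)) s
      map_add' := fun a b => tmulHom_add_right _ a b
      map_smul' := fun a s => tmulHom_smul_right k a _ s }
  have hτ : Function.Injective τ := by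
    rw [← LinearMap.ker_eq_bot, LinearMap.ker_eq_bot']
    intro s hs
    have hOF : FlatMod.IsFinLocFree (Coh.structureModule C) :=
      FinLocFree7.isFinLocFree_of_rank _
        (Groth.Agent.Helper4.QAffSec.isFinLocFreeOfRank_one_of_isInvertible _
          Groth.Agent.Helper4.TensorInv.isInvertible_structureModule)
    rcases tmulHom_eq_zero hOF hFLF (𝟙 (Coh.structureModule C)) s hs with h3 | h3
    · rw [← Category.id_comp s, h3, zero_comp]
    · exact h3
  let K : Submodule k (Coh.structureModule C ⟶ E) := Submodule.comap τ (LinearMap.range Φ)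
  have hKdim : Module.finrank k K ≤
      Module.finrank k (Coh.structureModule C ⟶ CohB1.tensorMod (ClSub.idealMod D) E) := by
    have h1 : Module.finrank k K ≤ Module.finrank k (LinearMap.range Φ) := by
      let ρ : K →ₗ[k] LinearMap.range Φ := (τ.comp K.subtype).codRestrict _ (fun s => s.2)
      apply LinearMap.finrank_le_finrank_of_injective (f := ρ)
      intro a b hab
      apply Subtype.ext
      apply hτ
      exact congrArg Subtype.val hab
    exact h1.trans (LinearMap.finrank_range_le Φ)
  rw [finrank_hom_unit] at hKdim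
  -- the germ map
  let e : (Coh.structureModule C ⟶ E) →+ E.presheaf.stalk x :=
    { toFun := fun s => E.presheaf.germ ⊤ x trivial (sec1 E s)
      map_zero' := by
        change E.presheaf.germ ⊤ x trivial (sec1 E 0) = 0
        have : sec1 E (0 : Coh.structureModule C ⟶ E) = 0 := rfl
        rw [this]
        exact map_zero _
      map_add' := fun s t => by
        change E.presheaf.germ ⊤ x trivial (sec1 E (s + t)) = _
        rw [sec1_add]
        exact map_add _ _ _ }
  have he : ∀ (a : k) (s : Coh.structureModule C ⟶ E),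
      e (a • s) = Curv2.stalkMap k C x a • e s := by
    intro a s
    exact (congrArg (E.presheaf.germ ⊤ x trivial) (sec1_smul k E a s)).trans
      (germ_smul E ⊤ x trivial _ _)
  have hK : ∀ s : Coh.structureModule C ⟶ E,
      e s ∈ (IsLocalRing.maximalIdeal (C.presheaf.stalk x)) •
        (⊤ : Submodule (C.presheaf.stalk x) (E.presheaf.stalk x)) → s ∈ K := by
    intro s hs
    obtain ⟨s', hs'⟩ := hlift s hs
    exact ⟨s', hs'⟩
  have hdim' : Module.finrank k K + Module.finrank (C.presheaf.stalk x) (E.presheaf.stalk x) ≤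
      Module.finrank k (Coh.structureModule C ⟶ E) := by
    rw [hrk, finrank_hom_unit]
    have h1 : (0 : ℤ) ≤ (Module.finrank k (Coh.HH C E 1) : ℤ) := Int.natCast_nonneg _
    have h2 : (Module.finrank k K : ℤ) ≤
        (Module.finrank k (Coh.HH C (CohB1.tensorMod (ClSub.idealMod D) E) 0) : ℤ) := by
      exact_mod_cast hKdim
    have h3 : (Module.finrank k K : ℤ) + (r : ℤ) ≤ (Module.finrank k (Coh.HH C E 0) : ℤ) := by
      push_cast at hadd
      linarith
    exact_mod_cast h3
  exact span_range_eq_top_of_codim (Curv2.stalkMap k C x) hι e he K hK hdim'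

/-- **a locally free module `E` with `H¹(I_x ⊗ E) = 0` at all closed points is globally
generated** -/
theorem isGloballyGenerated_of_h1_ideal_twist [IsAlgClosed k] (hdim : topologicalKrullDim C = 1)
    (r : ℕ) (E : C.Modules) (hE : FlatMod.IsFinLocFreeOfRank r E)
    (hvan : ∀ (x : C) (hx : IsClosed ({x} : Set C)), Subsingleton (Coh.HH C (CohB1.tensorMod
      (ClSub.idealMod (Scheme.IdealSheafData.vanishingIdeal ⟨{x}, hx⟩)) E) 1)) :
    Curv2.IsGloballyGenerated E := by
  haveI := Groth.Agent.Helper4.NApx82.isNoetherian_of_proper k C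
  haveI : CompactSpace C :=
    QuasiCompact.compactSpace_of_compactSpace (C ↘ (Spec (CommRingCat.of k)))
  have hFLF := FinLocFree7.isFinLocFree_of_rank E hE
  have hcE : Coh.IsCoh E := Groth.Agent.Lead.PerfLib.isCoh_of_isFinLocFree hFLF
  haveI : E.IsQuasicoherent := hcE.1
  let F : C.Modules := SheafOfModules.free Γ(E, ⊤)
  let c : F ⟶ E := Groth.Agent.Lead.GlobGen.canFree E
  haveI : F.IsQuasicoherent := Groth.Agent.Lead.GlobGen.isQuasicoherent_free _
  let L' : C.Modules := Abelian.image c
  let ι : L' ⟶ E := Abelian.image.ι c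
  let π : F ⟶ L' := Abelian.factorThruImage c
  have hfac : π ≫ ι = c := Abelian.image.fac c
  haveI hmι : Mono ι := inferInstanceAs (Mono (Abelian.image.ι c))
  haveI heπ : Epi π := inferInstanceAs (Epi (Abelian.factorThruImage c))
  haveI : L'.IsQuasicoherent := Groth.Agent.Helper4.QcohLimits.isQuasicoherent_image c
  have hcL' : Coh.IsCoh L' := Groth.Agent.Helper2.CohQ1.isCoh_of_mono ι ‹L'.IsQuasicoherent› hcE
  have hcT : Coh.IsCoh (cokernel ι) := Groth.Agent.Lead.PerfLib.isCoh_cokernel hcL' hcE ι
  have hfacs : ∀ s : Coh.structureModule C ⟶ E, ∃ s' : Coh.structureModule C ⟶ L',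
      s = s' ≫ ι := by
    intro s
    obtain ⟨s₀, hs₀⟩ := exists_fac_canFree E s
    exact ⟨s₀ ≫ π, hs₀.trans ((congrArg (fun z => s₀ ≫ z) hfac.symm).trans
      (Category.assoc s₀ π ι).symm)⟩
  haveI hepi : Epi ι := by
    apply epi_of_stalkLin_surjective_closed ι hcT
    intro x hx
    have hspan := span_germs_eq_top_of_h1_ideal_twist k hdim r E hE x hx (hvan x hx)
    rw [← LinearMap.range_eq_top, ← top_le_iff, ← hspan, Submodule.span_le]
    rintro v ⟨s, rfl⟩
    obtain ⟨s', hs'⟩ := hfacs s
    refine ⟨stalkLin s' x (Groth.Agent.Lead.Hartogs2.unitEquiv x 1), ?_⟩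
    rw [← Groth.Agent.Lead.StalkNhd.stalkLin_comp, ← hs', stalkLin_unitEquiv_one]
  refine ⟨_, c, ?_⟩
  rw [← hfac]
  exact epi_comp π ι

end GG

end Groth.Agent.Helper4.SN
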