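import Mathlib
import Groth.Agent.Helper4.SN118

/-!
# Global generation of semistable bundles of large slope; vanishing with bounded subsheaf slopes
-/

set_option autoImplicit false
set_option linter.unusedSectionVars false
set_option linter.style.haveILetI false
universe u

open CategoryTheory CategoryTheory.Limits AlgebraicGeometry TopologicalSpace Opposite TensorProduct

namespace Groth.Agent.Helper4.SN

section TwistSub

variable (k : Type u) [Field k] {X : Scheme.{u}} [X.Over (Spec (CommRingCat.of k))]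
  [IsIntegral X] [IsProper (X ↘ (Spec (CommRingCat.of k)))]

/-- a locally free submodule of `E ⊗ P` gives a locally free submodule of `E` of the same rank,
with the degree shifted by the rank times the degree of `P` -/
theorem exists_sub_of_twist_sub_rank (hdim : topologicalKrullDim X ≤ 1)
    (E P : X.Modules) (hP : PicF.IsInvertible P) (n : ℕ)
    (F' : X.Modules) (hF' : FlatMod.IsFinLocFreeOfRank n F') (ι' : F' ⟶ CohB1.tensorMod E P)
    (hι' : Mono ι') :
    ∃ (F : X.Modules) (ι : F ⟶ E), Mono ι ∧ FlatMod.IsFinLocFreeOfRank n F ∧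
      Curv2.deg k X F n = Curv2.deg k X F' n - (n : ℤ) * Curv2.deg k X P 1 := by
  haveI := hι'
  obtain ⟨P', hP', ⟨ε'⟩, ⟨ε⟩⟩ := Groth.Agent.Lead.InvDual.exists_inverse P hP
  obtain ⟨α, -⟩ : ∃ α : (DCoh.tensorRightMod P').obj ((DCoh.tensorRightMod P).obj E) ≅ E, True :=
    ⟨(twistTwistIso P P' ε).app E, trivial⟩
  obtain ⟨ι'', hι''⟩ : ∃ ι'' : F' ⟶ (DCoh.tensorRightMod P).obj E, ι'' = ι' := ⟨ι', rfl⟩
  haveI : Mono ι'' := by rw [hι'']; exact hι'
  have hS := Groth.Agent.Helper1.TwistExact.shortExact_map_tensorRightMod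
    (Groth.Agent.Helper1.Dev.cokSC_shortExact ι'') P' hP'
  have hm : Mono ((DCoh.tensorRightMod P').map ι'') := hS.mono_f
  have hF := isFinLocFreeOfRank_tensor_invertible F' P' n hF' hP'
  refine ⟨(DCoh.tensorRightMod P').obj F', (DCoh.tensorRightMod P').map ι'' ≫ α.hom,
    mono_comp _ _, hF, ?_⟩
  have h7 := main7637 k hdim n 1 F' P' hF'
    (Groth.Agent.Helper4.QAffSec.isFinLocFreeOfRank_one_of_isInvertible _ hP')
  rw [Nat.mul_one, deg_inverse k hdim P P' hP hP' ε'] at h7
  change Curv2.deg k X (CohB1.tensorMod F' P') n = _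
  rw [h7]
  push_cast
  ring

/-- the semistability inequality for submodules of a twist -/
theorem twist_ineq (hdim : topologicalKrullDim X ≤ 1)
    (r : ℕ) (E P : X.Modules) (hE : FlatMod.IsFinLocFreeOfRank r E) (hP : PicF.IsInvertible P)
    (n : ℕ) (G : X.Modules) (hG : FlatMod.IsFinLocFreeOfRank n G) (i : G ⟶ CohB1.tensorMod E P)
    (hi : Mono i)
    (hss : ∀ (F : X.Modules) (j : F ⟶ E), Mono j → FlatMod.IsFinLocFreeOfRank n F →
      Curv2.deg k X F n * (r : ℤ) ≤ Curv2.deg k X E r * (n : ℤ)) :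
    Curv2.deg k X G n * (r : ℤ) ≤ Curv2.deg k X (CohB1.tensorMod E P) r * (n : ℤ) := by
  obtain ⟨F, j, hj, hF, hd⟩ := exists_sub_of_twist_sub_rank k hdim E P hP n G hG i hi
  have h := hss F j hj hF
  have h7 := main7637 k hdim r 1 E P hE
    (Groth.Agent.Helper4.QAffSec.isFinLocFreeOfRank_one_of_isInvertible _ hP)
  rw [Nat.mul_one] at h7
  rw [h7, hd] at *
  push_cast
  nlinarith

/-- strict version -/
theorem twist_ineq_strict (hdim : topologicalKrullDim X ≤ 1)
    (r : ℕ) (E P : X.Modules) (hE : FlatMod.IsFinLocFreeOfRank r E) (hP : PicF.IsInvertible P)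
    (n : ℕ) (G : X.Modules) (hG : FlatMod.IsFinLocFreeOfRank n G) (i : G ⟶ CohB1.tensorMod E P)
    (hi : Mono i)
    (hss : ∀ (F : X.Modules) (j : F ⟶ E), Mono j → FlatMod.IsFinLocFreeOfRank n F →
      Curv2.deg k X F n * (r : ℤ) < Curv2.deg k X E r * (n : ℤ)) :
    Curv2.deg k X G n * (r : ℤ) < Curv2.deg k X (CohB1.tensorMod E P) r * (n : ℤ) := by
  obtain ⟨F, j, hj, hF, hd⟩ := exists_sub_of_twist_sub_rank k hdim E P hP n G hG i hi
  have h := hss F j hj hF
  have h7 := main7637 k hdim r 1 E P hE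
    (Groth.Agent.Helper4.QAffSec.isFinLocFreeOfRank_one_of_isInvertible _ hP)
  rw [Nat.mul_one] at h7
  rw [h7, hd] at *
  push_cast
  nlinarith

end TwistSub

section GG

variable (k : Type u) [Field k] {C : Scheme.{u}} [C.Over (Spec (CommRingCat.of k))]
  [IsIntegral C] [IsProper (C ↘ (Spec (CommRingCat.of k)))]

/-- the ideal of a closed point on a regular curve over an algebraically closed field is
invertible of degree `-1` -/
theorem ideal_point_of_regular [IsAlgClosed k] (hdim : topologicalKrullDim C = 1)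
    (hreg : ∀ x : C, IsRegularLocalRing (C.presheaf.stalk x)) (x : C)
    (hx : IsClosed ({x} : Set C)) :
    PicF.IsInvertible (ClSub.idealMod (Scheme.IdealSheafData.vanishingIdeal ⟨{x}, hx⟩)) ∧
      Curv2.deg k C (ClSub.idealMod (Scheme.IdealSheafData.vanishingIdeal ⟨{x}, hx⟩)) 1 = -1 := by
  haveI := hreg x
  obtain ⟨hI, hdeg⟩ := ideal_point_of_normal k hdim x hx
    (Groth.Agent.Helper4.RegNormal.isIntegrallyClosed_of_isRegularLocalRing _)
  refine ⟨hI, ?_⟩
  rw [hdeg, finrank_residueField_eq_one k x hx]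
  norm_num

/-- **S11814** -/
theorem main11814 [IsAlgClosed k] (hdim : topologicalKrullDim C = 1)
    (hreg : ∀ x : C, IsRegularLocalRing (C.presheaf.stalk x))
    (r : ℕ) (hr : 0 < r) (E : C.Modules) (hE : FlatMod.IsFinLocFreeOfRank r E)
    (hss : ∀ (F : C.Modules) (r' : ℕ) (i : F ⟶ E), Mono i → 0 < r' →
      FlatMod.IsFinLocFreeOfRank r' F →
      Curv2.deg k C F r' * (r : ℤ) ≤ Curv2.deg k C E r * (r' : ℤ))
    (hdeg : (r : ℤ) * (2 * (Curv2.genus k C : ℤ) - 1) < Curv2.deg k C E r) :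
    Curv2.IsGloballyGenerated E := by
  apply isGloballyGenerated_of_h1_ideal_twist k hdim r E hE
  intro x hx
  obtain ⟨hI, hdI⟩ := ideal_point_of_regular k hdim hreg x hx
  obtain ⟨I, hIdef⟩ : ∃ I, I = ClSub.idealMod (Scheme.IdealSheafData.vanishingIdeal ⟨{x}, hx⟩) :=
    ⟨_, rfl⟩
  rw [← hIdef] at hI hdI ⊢
  have hEI := isFinLocFreeOfRank_tensor_invertible E I r hE hI
  have h7 := main7637 k hdim.le r 1 E I hE
    (Groth.Agent.Helper4.QAffSec.isFinLocFreeOfRank_one_of_isInvertible _ hI)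
  rw [Nat.mul_one, hdI] at h7
  have hvan : Subsingleton (Coh.HH C (CohB1.tensorMod E I) 1) := by
    apply main11812 k hdim hreg r hr _ hEI
    · intro F r' i hi hr' hF
      exact twist_ineq k hdim.le r E I hE hI r' F hF i hi
        (fun F' j hj hF' => hss F' r' j hj hr' hF')
    · rw [h7]
      push_cast
      linarith
  exact (Groth.Agent.Helper1.ProjTop.HHlinEquiv k (X := C)
    (Groth.Agent.Lead.Ref1B.braid I E) 1).toEquiv.subsingleton

/-- **S11815** -/
theorem main11815 [IsAlgClosed k] (hdim : topologicalKrullDim C = 1)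
    (hreg : ∀ x : C, IsRegularLocalRing (C.presheaf.stalk x))
    (r : ℕ) (hr : 2 ≤ r) (E : C.Modules) (hE : FlatMod.IsFinLocFreeOfRank r E)
    (hst : ∀ (F : C.Modules) (r' : ℕ) (i : F ⟶ E), Mono i → 0 < r' → r' < r →
      FlatMod.IsFinLocFreeOfRank r' F →
      Curv2.deg k C F r' * (r : ℤ) < Curv2.deg k C E r * (r' : ℤ))
    (hdeg : (r : ℤ) * (2 * (Curv2.genus k C : ℤ) - 1) ≤ Curv2.deg k C E r) :
    Curv2.IsGloballyGenerated E := by
  apply isGloballyGenerated_of_h1_ideal_twist k hdim r E hE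
  intro x hx
  obtain ⟨hI, hdI⟩ := ideal_point_of_regular k hdim hreg x hx
  obtain ⟨I, hIdef⟩ : ∃ I, I = ClSub.idealMod (Scheme.IdealSheafData.vanishingIdeal ⟨{x}, hx⟩) :=
    ⟨_, rfl⟩
  rw [← hIdef] at hI hdI ⊢
  have hEI := isFinLocFreeOfRank_tensor_invertible E I r hE hI
  have h7 := main7637 k hdim.le r 1 E I hE
    (Groth.Agent.Helper4.QAffSec.isFinLocFreeOfRank_one_of_isInvertible _ hI)
  rw [Nat.mul_one, hdI] at h7
  have hvan : Subsingleton (Coh.HH C (CohB1.tensorMod E I) 1) := by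
    apply main11813 k hdim hreg r hr _ hEI
    · intro F r' i hi hr' hr'r hF
      exact twist_ineq_strict k hdim.le r E I hE hI r' F hF i hi
        (fun F' j hj hF' => hst F' r' j hj hr' hr'r hF')
    · rw [h7]
      push_cast
      linarith
  exact (Groth.Agent.Helper1.ProjTop.HHlinEquiv k (X := C)
    (Groth.Agent.Lead.Ref1B.braid I E) 1).toEquiv.subsingleton

/-- **S16008** -/
theorem main16008 [IsAlgClosed k] (hdim : topologicalKrullDim C = 1)
    (hreg : ∀ x : C, IsRegularLocalRing (C.presheaf.stalk x))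
    (r : ℕ) (hr : 0 < r) (E : C.Modules) (hE : FlatMod.IsFinLocFreeOfRank r E) (B : ℤ)
    (hB : ∀ (G : C.Modules) (n : ℕ) (j : G ⟶ E), Mono j → 0 < n →
      FlatMod.IsFinLocFreeOfRank n G →
      Curv2.deg k C G n * (r : ℤ) ≤ (Curv2.deg k C E r + (r : ℤ) * B) * (n : ℤ))
    (N : C.Modules) (hN : PicF.IsInvertible N)
    (hbig : (r : ℤ) * ((r : ℤ) - 1) * B + (r : ℤ) * (2 * (Curv2.genus k C : ℤ) - 2) <
      Curv2.deg k C E r + (r : ℤ) * Curv2.deg k C N 1) :
    Subsingleton (Coh.HH C (CohB1.tensorMod E N) 1) := by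
  by_contra hns
  rw [not_subsingleton_iff_nontrivial] at hns
  obtain ⟨r', rfl⟩ : ∃ r', r = r' + 1 := ⟨r - 1, by omega⟩
  have hEN := isFinLocFreeOfRank_tensor_invertible E N (r' + 1) hE hN
  have h7 := main7637 k hdim.le (r' + 1) 1 E N hE
    (Groth.Agent.Helper4.QAffSec.isFinLocFreeOfRank_one_of_isInvertible _ hN)
  rw [Nat.mul_one] at h7
  obtain ⟨F', i', hi', hF', hle⟩ := exists_sub_of_h1_nontrivial k hdim hreg r' _ hEN hns
  rw [h7] at hle
  rcases Nat.eq_zero_or_pos r' with h0 | hpos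
  · subst h0
    rw [deg_of_isZero k (isZero_of_rank_zero _ hF')] at hle
    push_cast at hbig hle
    linarith
  · obtain ⟨F, i, hi, hF, hd⟩ := exists_sub_of_twist_sub_rank k hdim.le E N hN r' F' hF' i' hi'
    have h2 := hB F r' i hi hpos hF
    rw [hd] at h2
    push_cast at h2 hbig hle
    have hr'0 : (0 : ℤ) < (r' : ℤ) := by exact_mod_cast hpos
    nlinarith

end GG

end Groth.Agent.Helper4.SN
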