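import Mathlib
import Groth.Agent.Helper4.SN119

/-!
# Preimages of submodules of a quotient, saturation of submodules of a bundle on a curve
-/

set_option autoImplicit false
set_option linter.unusedSectionVars false
set_option linter.style.haveILetI false
universe u

open CategoryTheory CategoryTheory.Limits AlgebraicGeometry TopologicalSpace Opposite

namespace Groth.Agent.Helper4.SN

section Preimage

variable (k : Type u) [Field k] {C : Scheme.{u}} [C.Over (Spec (CommRingCat.of k))]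
  [IsIntegral C] [IsProper (C ↘ (Spec (CommRingCat.of k)))]

/-- the preimage in the middle term of a short exact sequence of a submodule of the quotient -/
theorem preimage_data (hdim : topologicalKrullDim C = 1)
    (hreg : ∀ x : C, IsRegularLocalRing (C.presheaf.stalk x))
    (S : ShortComplex C.Modules) (hS : S.ShortExact) {r : ℕ}
    (hE : FlatMod.IsFinLocFreeOfRank r S.X₂) (h₁ : Coh.IsCoh S.X₁) (h₃ : Coh.IsCoh S.X₃)
    (G : C.Modules) (hcG : Coh.IsCoh G) (j : G ⟶ S.X₃) [Mono j] :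
    ∃ (G' : C.Modules) (i : G' ⟶ S.X₂) (ρ : ℕ), Mono i ∧ FlatMod.IsFinLocFreeOfRank ρ G' ∧
      ρ = gRank S.X₁ + gRank G ∧
      Curv2.euler k C G' = Curv2.euler k C S.X₁ + Curv2.euler k C G ∧
      ∃ u : S.X₁ ⟶ G', u ≫ i = S.f := by
  haveI := Groth.Agent.Helper4.NApx82.isNoetherian_of_proper k C
  haveI := hS.epi_g
  have hcE : Coh.IsCoh S.X₂ := Groth.Agent.Lead.PerfLib.isCoh_of_isFinLocFree
    (FinLocFree7.isFinLocFree_of_rank S.X₂ hE)
  have hcG' : Coh.IsCoh (cokernel j) := Groth.Agent.Lead.PerfLib.isCoh_cokernel hcG h₃ j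
  set q : S.X₂ ⟶ cokernel j := S.g ≫ cokernel.π j with hq
  have hcK : Coh.IsCoh (kernel q) := Groth.Agent.Lead.PerfLib.isCoh_kernel hcE hcG' q
  have hSb := Groth.Agent.Helper1.Dev.cokSC_shortExact j
  have hSc : (ShortComplex.mk (kernel.ι q) q (kernel.condition q)).ShortExact :=
    { exact := ShortComplex.exact_kernel q
      mono_f := inferInstanceAs (Mono (kernel.ι q))
      epi_g := inferInstanceAs (Epi (S.g ≫ cokernel.π j)) }
  have ea := Groth.Agent.Helper4.NApx80.euler_additive k C _ hS h₁ hcE h₃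
  have eb := Groth.Agent.Helper4.NApx80.euler_additive k C _ hSb hcG h₃ hcG'
  have ec := Groth.Agent.Helper4.NApx80.euler_additive k C _ hSc hcK hcE hcG'
  change Curv2.euler k C S.X₃ = Curv2.euler k C G + Curv2.euler k C (cokernel j) at eb
  change Curv2.euler k C S.X₂ = Curv2.euler k C (kernel q) + Curv2.euler k C (cokernel j) at ec
  haveI : S.X₂.IsQuasicoherent := hcE.1
  haveI : S.X₃.IsQuasicoherent := h₃.1
  have ga := gRank_add _ hS (Groth.Agent.Helper4.FinLocFree2.finite_stalk S.X₂ hcE.2 _)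
  have gb := gRank_add _ hSb (Groth.Agent.Helper4.FinLocFree2.finite_stalk _ h₃.2 _)
  have gc := gRank_add _ hSc (Groth.Agent.Helper4.FinLocFree2.finite_stalk S.X₂ hcE.2 _)
  change gRank S.X₃ = gRank G + gRank (cokernel j) at gb
  change gRank S.X₂ = gRank (kernel q) + gRank (cokernel j) at gc
  obtain ⟨ρ, hρ⟩ := exists_rank_of_mono hreg hdim.le (kernel.ι q) hcK hE
  have hgK := gRank_of_rank _ hρ
  refine ⟨kernel q, kernel.ι q, ρ, inferInstance, hρ, by omega, by linarith,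
    kernel.lift q S.f (by rw [hq, S.zero_assoc, zero_comp]), kernel.lift_ι _ _ _⟩

/-- degree form of `preimage_data` for locally free pieces -/
theorem preimage_deg (hdim : topologicalKrullDim C = 1)
    (hreg : ∀ x : C, IsRegularLocalRing (C.presheaf.stalk x))
    (S : ShortComplex C.Modules) (hS : S.ShortExact) {a r n : ℕ}
    (hA : FlatMod.IsFinLocFreeOfRank a S.X₁)
    (hE : FlatMod.IsFinLocFreeOfRank r S.X₂) (h₃ : Coh.IsCoh S.X₃)
    (G : C.Modules) (hG : FlatMod.IsFinLocFreeOfRank n G) (j : G ⟶ S.X₃) [Mono j] :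
    ∃ (G' : C.Modules) (i : G' ⟶ S.X₂), Mono i ∧ FlatMod.IsFinLocFreeOfRank (a + n) G' ∧
      Curv2.deg k C G' (a + n) = Curv2.deg k C S.X₁ a + Curv2.deg k C G n := by
  have hcA : Coh.IsCoh S.X₁ := Groth.Agent.Lead.PerfLib.isCoh_of_isFinLocFree
    (FinLocFree7.isFinLocFree_of_rank _ hA)
  have hcG : Coh.IsCoh G := Groth.Agent.Lead.PerfLib.isCoh_of_isFinLocFree
    (FinLocFree7.isFinLocFree_of_rank _ hG)
  obtain ⟨G', i, ρ, hi, hρ, hρeq, hχ, -⟩ := preimage_data k hdim hreg S hS hE hcA h₃ G hcG j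
  rw [gRank_of_rank _ hA, gRank_of_rank _ hG] at hρeq
  subst hρeq
  refine ⟨G', i, hi, hρ, ?_⟩
  unfold Curv2.deg
  rw [hχ]
  push_cast
  ring

/-- **saturation**: a locally free submodule of a bundle on a regular curve is contained in one of
the same rank, of degree at least as large, with locally free cokernel -/
theorem exists_saturation (hdim : topologicalKrullDim C = 1)
    (hreg : ∀ x : C, IsRegularLocalRing (C.presheaf.stalk x))
    {r ρ : ℕ} (E I : C.Modules) (hE : FlatMod.IsFinLocFreeOfRank r E)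
    (hI : FlatMod.IsFinLocFreeOfRank ρ I) (i : I ⟶ E) [Mono i] :
    ∃ (I₁ : C.Modules) (i₁ : I₁ ⟶ E) (u : I ⟶ I₁), Mono i₁ ∧ u ≫ i₁ = i ∧
      FlatMod.IsFinLocFreeOfRank ρ I₁ ∧ Curv2.deg k C I ρ ≤ Curv2.deg k C I₁ ρ ∧
      FlatMod.IsFinLocFree (cokernel i₁) := by
  classical
  obtain ⟨B, hB⟩ := main15331 k hdim r E hE
  obtain ⟨d, ⟨I₀, i₀, u₀, hi₀, hu₀, hI₀, hd⟩, hmax⟩ := Int.exists_greatest_of_bdd
    (P := fun d : ℤ => ∃ (I₁ : C.Modules) (i₁ : I₁ ⟶ E) (u : I ⟶ I₁), Mono i₁ ∧ u ≫ i₁ = i ∧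
      FlatMod.IsFinLocFreeOfRank ρ I₁ ∧ Curv2.deg k C I₁ ρ = d)
    ⟨B, fun z ⟨I₁, i₁, _, hi₁, _, hI₁, hz⟩ => hz ▸ hB I₁ ρ i₁ hi₁ hI₁⟩
    ⟨_, I, i, 𝟙 I, inferInstance, Category.id_comp i, hI, rfl⟩
  haveI := hi₀
  refine ⟨I₀, i₀, u₀, hi₀, hu₀, hI₀, ?_, ?_⟩
  · rw [hd]
    exact hmax _ ⟨I, i, 𝟙 I, inferInstance, Category.id_comp i, hI, rfl⟩
  · by_contra hnf
    obtain ⟨I₁, i₁, u, hi₁, hu, hI₁, hlt, -⟩ := exists_larger_sub k hdim hreg E I₀ hE hI₀ i₀ hnf
    have := hmax _ ⟨I₁, i₁, u₀ ≫ u, hi₁, by rw [Category.assoc, hu, hu₀], hI₁, rfl⟩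
    rw [hd] at hlt
    linarith

end Preimage

end Groth.Agent.Helper4.SN
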