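import Mathlib
import Groth.Agent.Helper4.SN120

/-!
# Semistable bundles of a fixed slope form an abelian subcategory (S16469)
-/

set_option autoImplicit false
set_option linter.unusedSectionVars false
set_option linter.style.haveILetI false
universe u

open CategoryTheory CategoryTheory.Limits AlgebraicGeometry TopologicalSpace Opposite

namespace Groth.Agent.Helper4.SN

section

variable (k : Type u) [Field k] {C : Scheme.{u}} [C.Over (Spec (CommRingCat.of k))]
  [IsIntegral C] [IsProper (C ↘ (Spec (CommRingCat.of k)))]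

/-- a subbundle of the slope of a semistable bundle has locally free cokernel of the same slope,
which is again semistable -/
theorem cokernel_of_slope_eq (hdim : topologicalKrullDim C = 1)
    (hreg : ∀ x : C, IsRegularLocalRing (C.presheaf.stalk x))
    {s ρ : ℕ} (hs : 0 < s) (F I : C.Modules) (hF : FlatMod.IsFinLocFreeOfRank s F)
    (hI : FlatMod.IsFinLocFreeOfRank ρ I) (m : I ⟶ F) [Mono m]
    (hFss : ModFun.IsSlopeSemistable k C F s)
    (hdeg : Curv2.deg k C I ρ * (s : ℤ) = Curv2.deg k C F s * (ρ : ℤ)) :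
    ∃ s₀ : ℕ, s = ρ + s₀ ∧ FlatMod.IsFinLocFreeOfRank s₀ (cokernel m) ∧
      Curv2.deg k C F s = Curv2.deg k C I ρ + Curv2.deg k C (cokernel m) s₀ ∧
      Curv2.deg k C (cokernel m) s₀ * (s : ℤ) = Curv2.deg k C F s * (s₀ : ℤ) ∧
      ∀ (G : C.Modules) (n : ℕ) (j : G ⟶ cokernel m), Mono j → 0 < n →
        FlatMod.IsFinLocFreeOfRank n G →
        Curv2.deg k C G n * (s₀ : ℤ) ≤ Curv2.deg k C (cokernel m) s₀ * (n : ℤ) := by
  haveI := Groth.Agent.Helper4.NApx82.isNoetherian_of_proper k C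
  have hsZ : (0 : ℤ) < (s : ℤ) := by exact_mod_cast hs
  have hcF : Coh.IsCoh F := Groth.Agent.Lead.PerfLib.isCoh_of_isFinLocFree
    (FinLocFree7.isFinLocFree_of_rank F hF)
  have hcI : Coh.IsCoh I := Groth.Agent.Lead.PerfLib.isCoh_of_isFinLocFree
    (FinLocFree7.isFinLocFree_of_rank I hI)
  have hcQ : Coh.IsCoh (cokernel m) := Groth.Agent.Lead.PerfLib.isCoh_cokernel hcI hcF m
  have hlf : FlatMod.IsFinLocFree (cokernel m) := by
    by_contra hnf
    obtain ⟨I₁, i₁, u, hi₁, hu, hI₁, hlt, -⟩ := exists_larger_sub k hdim hreg F I hF hI m hnf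
    haveI := hi₁
    have h1 := kernel_ineq k hFss i₁ hI₁
    rw [← hdeg] at h1
    have := le_of_mul_le_mul_right h1 hsZ
    linarith
  have hQ := isFinLocFreeOfRank_of_isFinLocFree _ hlf
  set s₀ := Module.finrank (C.presheaf.stalk (genericPoint C))
      ((cokernel m).presheaf.stalk (genericPoint C)) with hs₀
  have hS := cokernel_shortExact m
  have hrk : s = ρ + s₀ := rank_add_of_shortExact _ hS hI hF hQ
  have hd : Curv2.deg k C F s = Curv2.deg k C I ρ + Curv2.deg k C (cokernel m) s₀ := by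
    have := deg_add_of_shortExact k _ hS hcI hcF hcQ ρ s₀
    rw [← hrk] at this
    exact this
  have hsl : Curv2.deg k C (cokernel m) s₀ * (s : ℤ) = Curv2.deg k C F s * (s₀ : ℤ) := by
    have : (s : ℤ) = (ρ : ℤ) + (s₀ : ℤ) := by exact_mod_cast hrk
    have e1 : Curv2.deg k C (cokernel m) s₀ = Curv2.deg k C F s - Curv2.deg k C I ρ := by linarith
    rw [e1, sub_mul, hdeg, this]
    ring
  refine ⟨s₀, hrk, hQ, hd, hsl, ?_⟩
  intro G n j hj hn hG
  haveI := hj
  obtain ⟨G', i, hi, hG', hdG'⟩ := preimage_deg k hdim hreg _ hS hI hF hcQ G hG j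
  haveI := hi
  have h1 := hFss G' (ρ + n) i hi (by omega) hG'
  rw [hdG'] at h1
  push_cast at h1
  have h2 : Curv2.deg k C G n * (s : ℤ) ≤ Curv2.deg k C F s * (n : ℤ) := by
    have : (Curv2.deg k C I ρ + Curv2.deg k C G n) * (s : ℤ)
      = Curv2.deg k C I ρ * (s : ℤ) + Curv2.deg k C G n * (s : ℤ) := by ring
    rw [this, hdeg] at h1
    linarith
  have h3 : (Curv2.deg k C G n * (s₀ : ℤ)) * (s : ℤ)
      ≤ (Curv2.deg k C (cokernel m) s₀ * (n : ℤ)) * (s : ℤ) := by
    have e : (Curv2.deg k C (cokernel m) s₀ * (n : ℤ)) * (s : ℤ)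
        = (Curv2.deg k C F s * (n : ℤ)) * (s₀ : ℤ) := by
      rw [mul_right_comm, hsl]; ring
    rw [e]
    have : (Curv2.deg k C G n * (s₀ : ℤ)) * (s : ℤ)
        = (Curv2.deg k C G n * (s : ℤ)) * (s₀ : ℤ) := by ring
    rw [this]
    exact mul_le_mul_of_nonneg_right h2 (Int.natCast_nonneg _)
  exact le_of_mul_le_mul_right h3 hsZ

/-- S16469 with regularity in place of smoothness -/
theorem main16469 (hdim : topologicalKrullDim C = 1)
    (hreg : ∀ x : C, IsRegularLocalRing (C.presheaf.stalk x))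
    (r s : ℕ) (hr : 0 < r) (hs : 0 < s) (E F : C.Modules)
    (hE : FlatMod.IsFinLocFreeOfRank r E) (hF : FlatMod.IsFinLocFreeOfRank s F)
    (hEss : ModFun.IsSlopeSemistable k C E r) (hFss : ModFun.IsSlopeSemistable k C F s)
    (hμ : Curv2.deg k C E r * (s : ℤ) = Curv2.deg k C F s * (r : ℤ)) (f : E ⟶ F) :
    (∃ r₀ : ℕ, FlatMod.IsFinLocFreeOfRank r₀ (kernel f) ∧
        Curv2.deg k C (kernel f) r₀ * (r : ℤ) = Curv2.deg k C E r * (r₀ : ℤ) ∧
        ∀ (G : C.Modules) (n : ℕ) (j : G ⟶ kernel f), Mono j → 0 < n →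
          FlatMod.IsFinLocFreeOfRank n G →
          Curv2.deg k C G n * (r₀ : ℤ) ≤ Curv2.deg k C (kernel f) r₀ * (n : ℤ)) ∧
      (∃ s₀ : ℕ, FlatMod.IsFinLocFreeOfRank s₀ (cokernel f) ∧
        Curv2.deg k C (cokernel f) s₀ * (s : ℤ) = Curv2.deg k C F s * (s₀ : ℤ) ∧
        ∀ (G : C.Modules) (n : ℕ) (j : G ⟶ cokernel f), Mono j → 0 < n →
          FlatMod.IsFinLocFreeOfRank n G →
          Curv2.deg k C G n * (s₀ : ℤ) ≤ Curv2.deg k C (cokernel f) s₀ * (n : ℤ)) := by
  have hsZ : (0 : ℤ) < (s : ℤ) := by exact_mod_cast hs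
  have hrZ : (0 : ℤ) < (r : ℤ) := by exact_mod_cast hr
  obtain ⟨rK, rI, hK, hI, hrk, -, hdeg⟩ := ker_coim_data k hdim hreg hE hF f
  have ha := kernel_ineq k hEss (kernel.ι f) hK
  have hb := kernel_ineq k hFss (Abelian.factorThruCoimage f) hI
  have hrkZ : (r : ℤ) = (rK : ℤ) + (rI : ℤ) := by exact_mod_cast hrk
  -- (b') deg I * r ≤ deg E * rI
  have hb' : Curv2.deg k C (Abelian.coimage f) rI * (r : ℤ) ≤ Curv2.deg k C E r * (rI : ℤ) := by
    have h1 : (Curv2.deg k C (Abelian.coimage f) rI * (r : ℤ)) * (s : ℤ)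
        ≤ (Curv2.deg k C E r * (rI : ℤ)) * (s : ℤ) := by
      have e1 : (Curv2.deg k C (Abelian.coimage f) rI * (r : ℤ)) * (s : ℤ)
          = (Curv2.deg k C (Abelian.coimage f) rI * (s : ℤ)) * (r : ℤ) := by ring
      have e2 : (Curv2.deg k C E r * (rI : ℤ)) * (s : ℤ)
          = (Curv2.deg k C F s * (rI : ℤ)) * (r : ℤ) := by
        rw [mul_right_comm, hμ]; ring
      rw [e1, e2]
      exact mul_le_mul_of_nonneg_right hb hrZ.le
    exact le_of_mul_le_mul_right h1 hsZ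
  have hsum : Curv2.deg k C (kernel f) rK * (r : ℤ) + Curv2.deg k C (Abelian.coimage f) rI * (r : ℤ)
      = Curv2.deg k C E r * (rK : ℤ) + Curv2.deg k C E r * (rI : ℤ) := by
    rw [← add_mul, ← hdeg, ← mul_add, ← hrkZ]
  have haeq : Curv2.deg k C (kernel f) rK * (r : ℤ) = Curv2.deg k C E r * (rK : ℤ) := by linarith
  have hbeq' : Curv2.deg k C (Abelian.coimage f) rI * (r : ℤ) = Curv2.deg k C E r * (rI : ℤ) := by
    linarith
  have hbeq : Curv2.deg k C (Abelian.coimage f) rI * (s : ℤ) = Curv2.deg k C F s * (rI : ℤ) := by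
    have h1 : (Curv2.deg k C (Abelian.coimage f) rI * (s : ℤ)) * (r : ℤ)
        = (Curv2.deg k C F s * (rI : ℤ)) * (r : ℤ) := by
      have e1 : (Curv2.deg k C (Abelian.coimage f) rI * (s : ℤ)) * (r : ℤ)
          = (Curv2.deg k C (Abelian.coimage f) rI * (r : ℤ)) * (s : ℤ) := by ring
      rw [e1, hbeq', mul_right_comm, hμ]
      ring
    exact mul_right_cancel₀ hrZ.ne' h1
  refine ⟨⟨rK, hK, haeq, ?_⟩, ?_⟩
  · intro G n j hj hn hG
    haveI := hj
    have h1 := hEss G n (j ≫ kernel.ι f) (mono_comp _ _) hn hG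
    have h2 : (Curv2.deg k C G n * (rK : ℤ)) * (r : ℤ)
        ≤ (Curv2.deg k C (kernel f) rK * (n : ℤ)) * (r : ℤ) := by
      have e1 : (Curv2.deg k C G n * (rK : ℤ)) * (r : ℤ)
          = (Curv2.deg k C G n * (r : ℤ)) * (rK : ℤ) := by ring
      have e2 : (Curv2.deg k C (kernel f) rK * (n : ℤ)) * (r : ℤ)
          = (Curv2.deg k C E r * (n : ℤ)) * (rK : ℤ) := by
        rw [mul_right_comm, haeq]; ring
      rw [e1, e2]
      exact mul_le_mul_of_nonneg_right h1 (Int.natCast_nonneg _)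
    exact le_of_mul_le_mul_right h2 hrZ
  · obtain ⟨s₀, -, hQ, -, hsl, hss⟩ := cokernel_of_slope_eq k hdim hreg hs F _ hF hI
      (Abelian.factorThruCoimage f) hFss hbeq
    -- cokernel f ≅ cokernel m
    let e : cokernel f ≅ cokernel (Abelian.factorThruCoimage f) :=
      cokernelIsoOfEq (Abelian.coimage.fac f).symm ≪≫
        cokernelEpiComp (Abelian.coimage.π f) (Abelian.factorThruCoimage f)
    refine ⟨s₀, isFinLocFreeOfRank_of_iso e.symm hQ, ?_, ?_⟩
    · rw [deg_iso k e s₀]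
      exact hsl
    · intro G n j hj hn hG
      haveI := hj
      rw [deg_iso k e s₀]
      exact hss G n (j ≫ e.hom) (mono_comp _ _) hn hG

end

end Groth.Agent.Helper4.SN
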