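import Mathlib
import Groth.Agent.Helper4.SN121
import Groth.Agent.Helper4.SN42

/-!
# Semistability in extensions; quotient- versus sub-(semi)stability (S14139, S14151)
-/

set_option autoImplicit false
set_option linter.unusedSectionVars false
set_option linter.style.haveILetI false
universe u

open CategoryTheory CategoryTheory.Limits AlgebraicGeometry TopologicalSpace Opposite

namespace Groth.Agent.Helper4.SN

section

variable (k : Type u) [Field k] {C : Scheme.{u}} [C.Over (Spec (CommRingCat.of k))]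
  [IsIntegral C] [IsProper (C ↘ (Spec (CommRingCat.of k)))]

/-- cancel a positive factor after regrouping: `a * r₁ ≤ b * ρ` and `b * r = e * r₁` give
`a * r ≤ e * ρ` -/
theorem slope_transfer {a b e : ℤ} {r r₁ ρ : ℤ} (hr₁ : 0 < r₁) (hr : 0 ≤ r)
    (h : a * r₁ ≤ b * ρ) (hμ : b * r = e * r₁) : a * r ≤ e * ρ := by
  have h1 : (a * r) * r₁ ≤ (e * ρ) * r₁ := by
    have e1 : (a * r) * r₁ = (a * r₁) * r := by ring
    have e2 : (e * ρ) * r₁ = (b * ρ) * r := by
      rw [mul_right_comm, ← hμ]; ring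
    rw [e1, e2]
    exact mul_le_mul_of_nonneg_right h hr
  exact le_of_mul_le_mul_right h1 hr₁

theorem main14139 (hdim : topologicalKrullDim C = 1)
    (hreg : ∀ x : C, IsRegularLocalRing (C.presheaf.stalk x))
    (T : ShortComplex C.Modules) (hT : T.ShortExact)
    (r₁ r r₂ : ℕ) (hr₁ : 0 < r₁) (hr : 0 < r) (hr₂ : 0 < r₂)
    (hE₁ : FlatMod.IsFinLocFreeOfRank r₁ T.X₁) (hE : FlatMod.IsFinLocFreeOfRank r T.X₂)
    (hE₂ : FlatMod.IsFinLocFreeOfRank r₂ T.X₃)
    (hμ₁ : Curv2.deg k C T.X₁ r₁ * (r : ℤ) = Curv2.deg k C T.X₂ r * (r₁ : ℤ))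
    (hμ₂ : Curv2.deg k C T.X₃ r₂ * (r : ℤ) = Curv2.deg k C T.X₂ r * (r₂ : ℤ)) :
    ModFun.IsSlopeSemistable k C T.X₂ r ↔
      (ModFun.IsSlopeSemistable k C T.X₁ r₁ ∧ ModFun.IsSlopeSemistable k C T.X₃ r₂) := by
  haveI := Groth.Agent.Helper4.NApx82.isNoetherian_of_proper k C
  have hr₁Z : (0 : ℤ) < (r₁ : ℤ) := by exact_mod_cast hr₁
  have hr₂Z : (0 : ℤ) < (r₂ : ℤ) := by exact_mod_cast hr₂
  have hrZ : (0 : ℤ) < (r : ℤ) := by exact_mod_cast hr
  haveI := hT.mono_f
  haveI := hT.epi_g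
  have hc₃ : Coh.IsCoh T.X₃ := Groth.Agent.Lead.PerfLib.isCoh_of_isFinLocFree
    (FinLocFree7.isFinLocFree_of_rank _ hE₂)
  constructor
  · intro hss
    refine ⟨?_, ?_⟩
    · intro G n j hj hn hG
      haveI := hj
      have h1 := hss G n (j ≫ T.f) (mono_comp _ _) hn hG
      exact slope_transfer hrZ hr₁Z.le h1 hμ₁.symm
    · intro G n j hj hn hG
      haveI := hj
      obtain ⟨G', i, hi, hG', hdG'⟩ := preimage_deg k hdim hreg T hT hE₁ hE hc₃ G hG j
      have h1 := hss G' (r₁ + n) i hi (by omega) hG'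
      rw [hdG'] at h1
      push_cast at h1
      have h2 : Curv2.deg k C G n * (r : ℤ) ≤ Curv2.deg k C T.X₂ r * (n : ℤ) := by
        have : (Curv2.deg k C T.X₁ r₁ + Curv2.deg k C G n) * (r : ℤ)
          = Curv2.deg k C T.X₁ r₁ * (r : ℤ) + Curv2.deg k C G n * (r : ℤ) := by ring
        rw [this, hμ₁] at h1
        linarith
      exact slope_transfer hrZ hr₂Z.le h2 hμ₂.symm
  · rintro ⟨hss₁, hss₂⟩ G n i hi hn hG
    haveI := hi
    obtain ⟨rK, rI, hK, hI, hrk, -, hdeg⟩ := ker_coim_data k hdim hreg hG hE₂ (i ≫ T.g)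
    have hb := kernel_ineq k hss₂ (Abelian.factorThruCoimage (i ≫ T.g)) hI
    -- the kernel maps to `T.X₁`
    have hz : (kernel.ι (i ≫ T.g) ≫ i) ≫ T.g = 0 := by
      rw [Category.assoc, kernel.condition]
    let l : kernel (i ≫ T.g) ⟶ T.X₁ := hT.exact.lift (kernel.ι (i ≫ T.g) ≫ i) hz
    have hl : l ≫ T.f = kernel.ι (i ≫ T.g) ≫ i := hT.exact.lift_f _ hz
    haveI : Mono (l ≫ T.f) := by rw [hl]; exact mono_comp _ _
    haveI : Mono l := mono_of_mono l T.f
    have ha := kernel_ineq k hss₁ l hK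
    have ha' := slope_transfer hr₁Z hrZ.le ha hμ₁
    have hb' := slope_transfer hr₂Z hrZ.le hb hμ₂
    have hrkZ : (n : ℤ) = (rK : ℤ) + (rI : ℤ) := by exact_mod_cast hrk
    rw [hdeg, hrkZ, add_mul, mul_add]
    linarith

theorem main14151 (hdim : topologicalKrullDim C = 1)
    (hreg : ∀ x : C, IsRegularLocalRing (C.presheaf.stalk x))
    (r : ℕ) (hr : 0 < r) (E : C.Modules) (hE : FlatMod.IsFinLocFreeOfRank r E) :
    ((∀ (F : C.Modules) (s : ℕ) (p : E ⟶ F), Epi p → 0 < s → FlatMod.IsFinLocFreeOfRank s F →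
      Curv2.deg k C E r * (s : ℤ) ≤ Curv2.deg k C F s * (r : ℤ)) ↔
      (∀ (G : C.Modules) (r' : ℕ) (i : G ⟶ E), Mono i → 0 < r' → FlatMod.IsFinLocFreeOfRank r' G →
      Curv2.deg k C G r' * (r : ℤ) ≤ Curv2.deg k C E r * (r' : ℤ))) ∧
    ((∀ (F : C.Modules) (s : ℕ) (p : E ⟶ F), Epi p → 0 < s → FlatMod.IsFinLocFreeOfRank s F →
        (¬ IsIso p) → Curv2.deg k C E r * (s : ℤ) < Curv2.deg k C F s * (r : ℤ)) ↔
      (∀ (G : C.Modules) (r' : ℕ) (i : G ⟶ E), Mono i → 0 < r' → FlatMod.IsFinLocFreeOfRank r' G →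
        (¬ IsIso i) → Curv2.deg k C G r' * (r : ℤ) < Curv2.deg k C E r * (r' : ℤ))) := by
  haveI := Groth.Agent.Helper4.NApx82.isNoetherian_of_proper k C
  have hrZ : (0 : ℤ) < (r : ℤ) := by exact_mod_cast hr
  have hcE : Coh.IsCoh E := Groth.Agent.Lead.PerfLib.isCoh_of_isFinLocFree
    (FinLocFree7.isFinLocFree_of_rank _ hE)
  -- data of a locally free quotient
  have quot : ∀ (F : C.Modules) (s : ℕ) (p : E ⟶ F), Epi p → FlatMod.IsFinLocFreeOfRank s F →
      ∃ rK : ℕ, FlatMod.IsFinLocFreeOfRank rK (kernel p) ∧ r = rK + s ∧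
        Curv2.deg k C E r = Curv2.deg k C (kernel p) rK + Curv2.deg k C F s := by
    intro F s p hp hF
    haveI := hp
    have hcF : Coh.IsCoh F := Groth.Agent.Lead.PerfLib.isCoh_of_isFinLocFree
      (FinLocFree7.isFinLocFree_of_rank _ hF)
    have hcK : Coh.IsCoh (kernel p) := Groth.Agent.Lead.PerfLib.isCoh_kernel hcE hcF p
    obtain ⟨rK, hK⟩ := exists_rank_of_mono hreg hdim.le (kernel.ι p) hcK hE
    have hS : (ShortComplex.mk (kernel.ι p) p (kernel.condition p)).ShortExact :=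
      { exact := ShortComplex.exact_kernel p
        mono_f := inferInstanceAs (Mono (kernel.ι p))
        epi_g := hp }
    have hrk : r = rK + s := rank_add_of_shortExact _ hS hK hE hF
    refine ⟨rK, hK, hrk, ?_⟩
    have := deg_add_of_shortExact k _ hS hcK hcE hcF rK s
    rw [← hrk] at this
    exact this
  -- data of a saturation
  have sat : ∀ (G : C.Modules) (r' : ℕ) (i : G ⟶ E), Mono i → FlatMod.IsFinLocFreeOfRank r' G →
      ∃ (I₁ : C.Modules) (i₁ : I₁ ⟶ E) (s₀ : ℕ), Mono i₁ ∧ FlatMod.IsFinLocFreeOfRank r' I₁ ∧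
        Curv2.deg k C G r' ≤ Curv2.deg k C I₁ r' ∧ FlatMod.IsFinLocFreeOfRank s₀ (cokernel i₁) ∧
        r = r' + s₀ ∧ Curv2.deg k C E r = Curv2.deg k C I₁ r' + Curv2.deg k C (cokernel i₁) s₀ := by
    intro G r' i hi hG
    haveI := hi
    obtain ⟨I₁, i₁, u, hi₁, hu, hI₁, hle, hlf⟩ := exists_saturation k hdim hreg E G hE hG i
    haveI := hi₁
    have hQ := isFinLocFreeOfRank_of_isFinLocFree _ hlf
    have hcI : Coh.IsCoh I₁ := Groth.Agent.Lead.PerfLib.isCoh_of_isFinLocFree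
      (FinLocFree7.isFinLocFree_of_rank _ hI₁)
    have hcQ : Coh.IsCoh (cokernel i₁) := Groth.Agent.Lead.PerfLib.isCoh_cokernel hcI hcE i₁
    have hS := cokernel_shortExact i₁
    have hrk := rank_add_of_shortExact _ hS hI₁ hE hQ
    obtain ⟨s₀, hs₀⟩ : ∃ s₀ : ℕ, s₀ = Module.finrank (C.presheaf.stalk (genericPoint C))
      ((cokernel i₁).presheaf.stalk (genericPoint C)) := ⟨_, rfl⟩
    rw [← hs₀] at hQ hrk
    refine ⟨I₁, i₁, s₀, hi₁, hI₁, hle, hQ, hrk, ?_⟩
    have := deg_add_of_shortExact k _ hS hcI hcE hcQ r' s₀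
    rw [← hrk] at this
    exact this
  refine ⟨⟨?_, ?_⟩, ⟨?_, ?_⟩⟩
  · -- quotient-semistable ⇒ sub-semistable
    intro hq G r' i hi hr' hG
    obtain ⟨I₁, i₁, s₀, hi₁, hI₁, hle, hQ, hrk, hd⟩ := sat G r' i hi hG
    have hrkZ : (r : ℤ) = (r' : ℤ) + (s₀ : ℤ) := by exact_mod_cast hrk
    have h1 : Curv2.deg k C G r' * (r : ℤ) ≤ Curv2.deg k C I₁ r' * (r : ℤ) :=
      mul_le_mul_of_nonneg_right hle hrZ.le
    rcases Nat.eq_zero_or_pos s₀ with h0 | hpos
    · subst h0
      rw [deg_of_isZero k (isZero_of_rank_zero _ hQ)] at hd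
      have : r = r' := by omega
      subst this
      rw [hd, add_zero]
      exact h1
    · have h2 := hq _ s₀ (cokernel.π i₁) inferInstance hpos hQ
      have e1 : Curv2.deg k C (cokernel i₁) s₀ = Curv2.deg k C E r - Curv2.deg k C I₁ r' := by
        linarith
      rw [e1, sub_mul] at h2
      have e2 : Curv2.deg k C E r * (r : ℤ)
          = Curv2.deg k C E r * (r' : ℤ) + Curv2.deg k C E r * (s₀ : ℤ) := by
        rw [hrkZ]; ring
      linarith
  · -- sub-semistable ⇒ quotient-semistable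
    intro hsub F s p hp hs hF
    obtain ⟨rK, hK, hrk, hd⟩ := quot F s p hp hF
    have h1 := kernel_ineq k hsub (kernel.ι p) hK
    have hrkZ : (r : ℤ) = (rK : ℤ) + (s : ℤ) := by exact_mod_cast hrk
    have e1 : Curv2.deg k C (kernel p) rK = Curv2.deg k C E r - Curv2.deg k C F s := by linarith
    rw [e1, sub_mul] at h1
    have e2 : Curv2.deg k C E r * (r : ℤ)
        = Curv2.deg k C E r * (rK : ℤ) + Curv2.deg k C E r * (s : ℤ) := by
      rw [hrkZ]; ring
    linarith
  · -- quotient-stable ⇒ sub-stable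
    intro hq G r' i hi hr' hG hniso
    haveI := hi
    obtain ⟨I₁, i₁, s₀, hi₁, hI₁, hle, hQ, hrk, hd⟩ := sat G r' i hi hG
    haveI := hi₁
    have hrkZ : (r : ℤ) = (r' : ℤ) + (s₀ : ℤ) := by exact_mod_cast hrk
    have h1 : Curv2.deg k C G r' * (r : ℤ) ≤ Curv2.deg k C I₁ r' * (r : ℤ) :=
      mul_le_mul_of_nonneg_right hle hrZ.le
    rcases Nat.eq_zero_or_pos s₀ with h0 | hpos
    · subst h0
      have : r = r' := by omega
      subst this
      have h2 := deg_le_of_mono_of_rank_eq k hdim i hG hE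
      have h3 : Curv2.deg k C G r ≠ Curv2.deg k C E r := fun h =>
        hniso (isIso_of_mono_of_rank_deg_eq k hdim i hG hE h)
      have h4 : Curv2.deg k C G r < Curv2.deg k C E r := lt_of_le_of_ne h2 h3
      exact mul_lt_mul_of_pos_right h4 hrZ
    · have hni : ¬ IsIso (cokernel.π i₁) := by
        intro hiso
        have := rank_le_of_mono (cokernel.π i₁) hE hQ
        omega
      have h2 := hq _ s₀ (cokernel.π i₁) inferInstance hpos hQ hni
      have e1 : Curv2.deg k C (cokernel i₁) s₀ = Curv2.deg k C E r - Curv2.deg k C I₁ r' := by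
        linarith
      rw [e1, sub_mul] at h2
      have e2 : Curv2.deg k C E r * (r : ℤ)
          = Curv2.deg k C E r * (r' : ℤ) + Curv2.deg k C E r * (s₀ : ℤ) := by
        rw [hrkZ]; ring
      linarith
  · -- sub-stable ⇒ quotient-stable
    intro hsub F s p hp hs hF hniso
    haveI := hp
    obtain ⟨rK, hK, hrk, hd⟩ := quot F s p hp hF
    have hrkZ : (r : ℤ) = (rK : ℤ) + (s : ℤ) := by exact_mod_cast hrk
    have hrK : 0 < rK := by
      rcases Nat.eq_zero_or_pos rK with h0 | hpos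
      · exfalso
        subst h0
        haveI : Mono p := Preadditive.mono_of_isZero_kernel p (isZero_of_rank_zero _ hK)
        exact hniso (isIso_of_mono_of_epi p)
      · exact hpos
    have hni : ¬ IsIso (kernel.ι p) := by
      intro hiso
      have := rank_le_of_mono (inv (kernel.ι p)) hE hK
      omega
    have h1 := hsub _ rK (kernel.ι p) inferInstance hrK hK hni
    have e1 : Curv2.deg k C (kernel p) rK = Curv2.deg k C E r - Curv2.deg k C F s := by linarith
    rw [e1, sub_mul] at h1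
    have e2 : Curv2.deg k C E r * (r : ℤ)
        = Curv2.deg k C E r * (rK : ℤ) + Curv2.deg k C E r * (s : ℤ) := by
      rw [hrkZ]; ring
    linarith

end

end Groth.Agent.Helper4.SN
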