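import Mathlib
import Groth.Agent.Helper4.SN122

/-!
# The maximal destabilising subbundle (S16470)
-/

set_option autoImplicit false
set_option linter.unusedSectionVars false
set_option linter.style.haveILetI false
universe u

open CategoryTheory CategoryTheory.Limits AlgebraicGeometry TopologicalSpace Opposite

namespace Groth.Agent.Helper4.SN

section

variable (k : Type u) [Field k] {C : Scheme.{u}} [C.Over (Spec (CommRingCat.of k))]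
  [IsIntegral C] [IsProper (C ↘ (Spec (CommRingCat.of k)))]

/-- `E₁ ⊂ E` has maximal slope among the submodules of `E` -/
def IsMaxSlope (E E₁ : C.Modules) (r₁ : ℕ) : Prop :=
  ∀ (F : C.Modules) (r' : ℕ) (j : F ⟶ E), Mono j → 0 < r' → FlatMod.IsFinLocFreeOfRank r' F →
    Curv2.deg k C F r' * (r₁ : ℤ) ≤ Curv2.deg k C E₁ r₁ * (r' : ℤ)

/-- the slopes of the submodules of `M` are smaller than the slope of `E₁` -/
def IsSlopeLt (M E₁ : C.Modules) (r₁ : ℕ) : Prop :=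
  ∀ (Q : C.Modules) (s : ℕ) (j : Q ⟶ M), Mono j → 0 < s → FlatMod.IsFinLocFreeOfRank s Q →
    Curv2.deg k C Q s * (r₁ : ℤ) < Curv2.deg k C E₁ r₁ * (s : ℤ)

/-- existence of the maximal destabilising submodule -/
theorem exists_maxSlope (hdim : topologicalKrullDim C = 1)
    (hreg : ∀ x : C, IsRegularLocalRing (C.presheaf.stalk x))
    (r : ℕ) (hr : 0 < r) (E : C.Modules) (hE : FlatMod.IsFinLocFreeOfRank r E) :
    ∃ (E₁ : C.Modules) (r₁ : ℕ) (i₁ : E₁ ⟶ E), Mono i₁ ∧ 0 < r₁ ∧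
      FlatMod.IsFinLocFreeOfRank r₁ E₁ ∧ IsMaxSlope k E E₁ r₁ ∧ IsSlopeLt k (cokernel i₁) E₁ r₁ := by
  classical
  haveI := Groth.Agent.Helper4.NApx82.isNoetherian_of_proper k C
  have hcE : Coh.IsCoh E := Groth.Agent.Lead.PerfLib.isCoh_of_isFinLocFree
    (FinLocFree7.isFinLocFree_of_rank _ hE)
  obtain ⟨B, hB⟩ := main15331 k hdim r E hE
  set N : ℕ := r.factorial with hN
  have hNpos : 0 < N := Nat.factorial_pos r
  -- the weight of a submodule: slope first, then rank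
  let w : ℤ → ℕ → ℤ := fun d r' => d * ((N / r' : ℕ) : ℤ) * ((r : ℤ) + 1) + (r' : ℤ)
  have hdiv : ∀ r' : ℕ, 0 < r' → r' ≤ r → ((N / r' : ℕ) : ℤ) * (r' : ℤ) = (N : ℤ) := by
    intro r' h0 hle
    have := Nat.div_mul_cancel (Nat.dvd_factorial h0 hle)
    exact_mod_cast this
  have hdivpos : ∀ r' : ℕ, 0 < r' → r' ≤ r → (0 : ℤ) < ((N / r' : ℕ) : ℤ) := by
    intro r' h0 hle
    have : 0 < N / r' := Nat.div_pos (Nat.le_of_dvd hNpos (Nat.dvd_factorial h0 hle)) h0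
    exact_mod_cast this
  have hdivle : ∀ r' : ℕ, ((N / r' : ℕ) : ℤ) ≤ (N : ℤ) := by
    intro r'
    exact_mod_cast Nat.div_le_self N r'
  obtain ⟨wmax, ⟨E₁, r₁, i₁, hi₁, hr₁, hE₁, hw⟩, hmax⟩ := Int.exists_greatest_of_bdd
    (P := fun z : ℤ => ∃ (F : C.Modules) (r' : ℕ) (j : F ⟶ E), Mono j ∧ 0 < r' ∧
      FlatMod.IsFinLocFreeOfRank r' F ∧ w (Curv2.deg k C F r') r' = z)
    ⟨max B 0 * (N : ℤ) * ((r : ℤ) + 1) + (r : ℤ), by
      rintro z ⟨F, r', j, hj, h0, hF, rfl⟩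
      haveI := hj
      have hle : r' ≤ r := rank_le_of_mono j hF hE
      have h1 : Curv2.deg k C F r' * ((N / r' : ℕ) : ℤ) ≤ max B 0 * (N : ℤ) := by
        have hd := hB F r' j hj hF
        rcases le_or_gt (Curv2.deg k C F r') 0 with hneg | hpos
        · calc Curv2.deg k C F r' * ((N / r' : ℕ) : ℤ) ≤ 0 :=
                mul_nonpos_of_nonpos_of_nonneg hneg (Int.natCast_nonneg _)
            _ ≤ max B 0 * (N : ℤ) := mul_nonneg (le_max_right _ _) (Int.natCast_nonneg _)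
        · calc Curv2.deg k C F r' * ((N / r' : ℕ) : ℤ)
              ≤ Curv2.deg k C F r' * (N : ℤ) := mul_le_mul_of_nonneg_left (hdivle r') hpos.le
            _ ≤ max B 0 * (N : ℤ) :=
                mul_le_mul_of_nonneg_right (hd.trans (le_max_left _ _)) (Int.natCast_nonneg _)
      have h2 : (0 : ℤ) ≤ (r : ℤ) + 1 := by positivity
      have h3 : (r' : ℤ) ≤ (r : ℤ) := by exact_mod_cast hle
      have := mul_le_mul_of_nonneg_right h1 h2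
      show Curv2.deg k C F r' * ((N / r' : ℕ) : ℤ) * ((r : ℤ) + 1) + (r' : ℤ) ≤ _
      linarith⟩
    ⟨_, E, r, 𝟙 E, inferInstance, hr, hE, rfl⟩
  haveI := hi₁
  have hr₁le : r₁ ≤ r := rank_le_of_mono i₁ hE₁ hE
  have hNZ : (0 : ℤ) < (N : ℤ) := by exact_mod_cast hNpos
  have hrZ : (0 : ℤ) < (r : ℤ) + 1 := by positivity
  -- comparison of the weights
  have key : ∀ (F : C.Modules) (r' : ℕ) (j : F ⟶ E), Mono j → 0 < r' →
      FlatMod.IsFinLocFreeOfRank r' F →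
      Curv2.deg k C F r' * (r₁ : ℤ) ≤ Curv2.deg k C E₁ r₁ * (r' : ℤ) ∧
      (Curv2.deg k C F r' * (r₁ : ℤ) = Curv2.deg k C E₁ r₁ * (r' : ℤ) → r' ≤ r₁) := by
    intro F r' j hj h0 hF
    haveI := hj
    have hle : r' ≤ r := rank_le_of_mono j hF hE
    have hwF := hmax _ ⟨F, r', j, hj, h0, hF, rfl⟩
    rw [← hw] at hwF
    change Curv2.deg k C F r' * ((N / r' : ℕ) : ℤ) * ((r : ℤ) + 1) + (r' : ℤ)
      ≤ Curv2.deg k C E₁ r₁ * ((N / r₁ : ℕ) : ℤ) * ((r : ℤ) + 1) + (r₁ : ℤ) at hwF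
    set a := Curv2.deg k C F r' * ((N / r' : ℕ) : ℤ) with ha
    set b := Curv2.deg k C E₁ r₁ * ((N / r₁ : ℕ) : ℤ) with hb
    have h3 : (r' : ℤ) ≤ (r : ℤ) := by exact_mod_cast hle
    have h4 : (0 : ℤ) < (r' : ℤ) := by exact_mod_cast h0
    have h5 : (r₁ : ℤ) ≤ (r : ℤ) := by exact_mod_cast hr₁le
    have h6 : (0 : ℤ) < (r₁ : ℤ) := by exact_mod_cast hr₁
    have hab : a ≤ b := by
      by_contra hlt
      have : b + 1 ≤ a := not_le.mp hlt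
      nlinarith
    -- a * r' * r₁ = deg F * N * r₁, b * r₁ * r' = deg E₁ * N * r'
    have ea : a * (r' : ℤ) = Curv2.deg k C F r' * (N : ℤ) := by
      rw [ha, mul_assoc, hdiv r' h0 hle]
    have eb : b * (r₁ : ℤ) = Curv2.deg k C E₁ r₁ * (N : ℤ) := by
      rw [hb, mul_assoc, hdiv r₁ hr₁ hr₁le]
    have h7 : (Curv2.deg k C F r' * (r₁ : ℤ)) * (N : ℤ)
        = a * ((r' : ℤ) * (r₁ : ℤ)) := by
      rw [← mul_assoc, ea]; ring
    have h8 : (Curv2.deg k C E₁ r₁ * (r' : ℤ)) * (N : ℤ)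
        = b * ((r' : ℤ) * (r₁ : ℤ)) := by
      rw [mul_comm (r' : ℤ) (r₁ : ℤ), ← mul_assoc, eb]; ring
    have hpos : (0 : ℤ) < (r' : ℤ) * (r₁ : ℤ) := mul_pos h4 h6
    refine ⟨?_, ?_⟩
    · have : (Curv2.deg k C F r' * (r₁ : ℤ)) * (N : ℤ)
          ≤ (Curv2.deg k C E₁ r₁ * (r' : ℤ)) * (N : ℤ) := by
        rw [h7, h8]
        exact mul_le_mul_of_nonneg_right hab hpos.le
      exact le_of_mul_le_mul_right this hNZ
    · intro heq
      have : a * ((r' : ℤ) * (r₁ : ℤ)) = b * ((r' : ℤ) * (r₁ : ℤ)) := by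
        rw [← h7, ← h8, heq]
      have hab' : a = b := mul_right_cancel₀ hpos.ne' this
      rw [hab'] at hwF
      have : (r' : ℤ) ≤ (r₁ : ℤ) := by linarith
      exact_mod_cast this
  refine ⟨E₁, r₁, i₁, hi₁, hr₁, hE₁, fun F r' j hj h0 hF => (key F r' j hj h0 hF).1, ?_⟩
  intro Q s j hj hs hQ
  haveI := hj
  by_contra hnot'
  have hnot := not_lt.mp hnot'
  have hcI : Coh.IsCoh E₁ := Groth.Agent.Lead.PerfLib.isCoh_of_isFinLocFree
    (FinLocFree7.isFinLocFree_of_rank _ hE₁)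
  have hcQ : Coh.IsCoh (cokernel i₁) := Groth.Agent.Lead.PerfLib.isCoh_cokernel hcI hcE i₁
  obtain ⟨G', i, hi, hG', hdG'⟩ := preimage_deg k hdim hreg _ (cokernel_shortExact i₁)
    hE₁ hE hcQ Q hQ j
  obtain ⟨h1, h2⟩ := key G' (r₁ + s) i hi (by omega) hG'
  rw [hdG'] at h1 h2
  push_cast at h1 h2
  have : r₁ + s ≤ r₁ := h2 (by nlinarith)
  omega

/-- a submodule of maximal slope factors through the maximal destabilising submodule -/
theorem factor_of_maxSlope (hdim : topologicalKrullDim C = 1)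
    (hreg : ∀ x : C, IsRegularLocalRing (C.presheaf.stalk x))
    {r : ℕ} (E : C.Modules) (hE : FlatMod.IsFinLocFreeOfRank r E)
    (E₁ E₁' : C.Modules) (r₁ r₁' : ℕ) (i₁ : E₁ ⟶ E) (i₁' : E₁' ⟶ E)
    [Mono i₁] (hr₁ : 0 < r₁) (hE₁ : FlatMod.IsFinLocFreeOfRank r₁ E₁)
    (h1 : IsMaxSlope k E E₁ r₁) (h2 : IsSlopeLt k (cokernel i₁) E₁ r₁)
    [Mono i₁'] (hr₁' : 0 < r₁') (hE₁' : FlatMod.IsFinLocFreeOfRank r₁' E₁')
    (h1' : IsMaxSlope k E E₁' r₁') :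
    ∃ u : E₁' ⟶ E₁, u ≫ i₁ = i₁' := by
  haveI := Groth.Agent.Helper4.NApx82.isNoetherian_of_proper k C
  have hr₁Z : (0 : ℤ) < (r₁ : ℤ) := by exact_mod_cast hr₁
  have hlf : FlatMod.IsFinLocFree (cokernel i₁) := by
    by_contra hnf
    obtain ⟨I₁, j, u, hj, hu, hI₁, hlt, -⟩ := exists_larger_sub k hdim hreg E E₁ hE hE₁ i₁ hnf
    have := h1 I₁ r₁ j hj hr₁ hI₁
    have := le_of_mul_le_mul_right this hr₁Z
    linarith
  have hQ := isFinLocFreeOfRank_of_isFinLocFree _ hlf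
  obtain ⟨rK, rI, hK, hI, hrk, -, hdeg⟩ := ker_coim_data k hdim hreg hE₁' hQ (i₁' ≫ cokernel.π i₁)
  have hg0 : i₁' ≫ cokernel.π i₁ = 0 := by
    rcases Nat.eq_zero_or_pos rI with h0 | hpos
    · subst h0
      exact eq_zero_of_coimage_rank_zero _ hI
    · exfalso
      have hb := h2 _ rI (Abelian.factorThruCoimage (i₁' ≫ cokernel.π i₁)) inferInstance hpos hI
      have ha : Curv2.deg k C (kernel (i₁' ≫ cokernel.π i₁)) rK * (r₁ : ℤ)
          ≤ Curv2.deg k C E₁ r₁ * (rK : ℤ) := by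
        rcases Nat.eq_zero_or_pos rK with h0 | hposK
        · subst h0
          rw [deg_of_isZero k (isZero_of_rank_zero _ hK)]
          simp
        · exact h1 _ rK (kernel.ι (i₁' ≫ cokernel.π i₁) ≫ i₁') (mono_comp _ _) hposK hK
      have hc := h1' E₁ r₁ i₁ inferInstance hr₁ hE₁
      have hrkZ : (r₁' : ℤ) = (rK : ℤ) + (rI : ℤ) := by exact_mod_cast hrk
      rw [hdeg, hrkZ] at hc
      nlinarith
  exact ⟨(cokernel_shortExact i₁).exact.lift i₁' hg0, (cokernel_shortExact i₁).exact.lift_f _ hg0⟩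

/-- uniqueness of the maximal destabilising submodule -/
theorem maxSlope_unique (hdim : topologicalKrullDim C = 1)
    (hreg : ∀ x : C, IsRegularLocalRing (C.presheaf.stalk x))
    {r : ℕ} (E : C.Modules) (hE : FlatMod.IsFinLocFreeOfRank r E)
    (E₁ E₁' : C.Modules) (r₁ r₁' : ℕ) (i₁ : E₁ ⟶ E) (i₁' : E₁' ⟶ E)
    [Mono i₁] (hr₁ : 0 < r₁) (hE₁ : FlatMod.IsFinLocFreeOfRank r₁ E₁)
    (h1 : IsMaxSlope k E E₁ r₁) (h2 : IsSlopeLt k (cokernel i₁) E₁ r₁)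
    [Mono i₁'] (hr₁' : 0 < r₁') (hE₁' : FlatMod.IsFinLocFreeOfRank r₁' E₁')
    (h1' : IsMaxSlope k E E₁' r₁') (h2' : IsSlopeLt k (cokernel i₁') E₁' r₁') :
    ∃ e : E₁ ≅ E₁', e.hom ≫ i₁' = i₁ := by
  obtain ⟨u', hu'⟩ := factor_of_maxSlope k hdim hreg E hE E₁ E₁' r₁ r₁' i₁ i₁' hr₁ hE₁ h1 h2
    hr₁' hE₁' h1'
  obtain ⟨u, hu⟩ := factor_of_maxSlope k hdim hreg E hE E₁' E₁ r₁' r₁ i₁' i₁ hr₁' hE₁' h1' h2'
    hr₁ hE₁ h1
  refine ⟨⟨u, u', ?_, ?_⟩, hu⟩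
  · rw [← cancel_mono i₁, Category.assoc, hu', hu, Category.id_comp]
  · rw [← cancel_mono i₁', Category.assoc, hu, hu', Category.id_comp]

/-- S16470 with regularity in place of smoothness -/
theorem main16470 (hdim : topologicalKrullDim C = 1)
    (hreg : ∀ x : C, IsRegularLocalRing (C.presheaf.stalk x))
    (r : ℕ) (hr : 0 < r) (E : C.Modules) (hE : FlatMod.IsFinLocFreeOfRank r E) :
    (∃ (E₁ : C.Modules) (r₁ : ℕ) (i₁ : E₁ ⟶ E), Mono i₁ ∧ 0 < r₁ ∧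
      FlatMod.IsFinLocFreeOfRank r₁ E₁ ∧
      (∀ (F : C.Modules) (r' : ℕ) (j : F ⟶ E), Mono j → 0 < r' → FlatMod.IsFinLocFreeOfRank r' F →
        Curv2.deg k C F r' * (r₁ : ℤ) ≤ Curv2.deg k C E₁ r₁ * (r' : ℤ)) ∧
      (∀ (Q : C.Modules) (s : ℕ) (j : Q ⟶ cokernel i₁), Mono j → 0 < s →
        FlatMod.IsFinLocFreeOfRank s Q →
        Curv2.deg k C Q s * (r₁ : ℤ) < Curv2.deg k C E₁ r₁ * (s : ℤ))) ∧
    (∀ (E₁ E₁' : C.Modules) (r₁ r₁' : ℕ) (i₁ : E₁ ⟶ E) (i₁' : E₁' ⟶ E),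
      Mono i₁ → 0 < r₁ → FlatMod.IsFinLocFreeOfRank r₁ E₁ →
      (∀ (F : C.Modules) (r' : ℕ) (j : F ⟶ E), Mono j → 0 < r' → FlatMod.IsFinLocFreeOfRank r' F →
        Curv2.deg k C F r' * (r₁ : ℤ) ≤ Curv2.deg k C E₁ r₁ * (r' : ℤ)) →
      (∀ (Q : C.Modules) (s : ℕ) (j : Q ⟶ cokernel i₁), Mono j → 0 < s →
        FlatMod.IsFinLocFreeOfRank s Q →
        Curv2.deg k C Q s * (r₁ : ℤ) < Curv2.deg k C E₁ r₁ * (s : ℤ)) →
      Mono i₁' → 0 < r₁' → FlatMod.IsFinLocFreeOfRank r₁' E₁' →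
      (∀ (F : C.Modules) (r' : ℕ) (j : F ⟶ E), Mono j → 0 < r' → FlatMod.IsFinLocFreeOfRank r' F →
        Curv2.deg k C F r' * (r₁' : ℤ) ≤ Curv2.deg k C E₁' r₁' * (r' : ℤ)) →
      (∀ (Q : C.Modules) (s : ℕ) (j : Q ⟶ cokernel i₁'), Mono j → 0 < s →
        FlatMod.IsFinLocFreeOfRank s Q →
        Curv2.deg k C Q s * (r₁' : ℤ) < Curv2.deg k C E₁' r₁' * (s : ℤ)) →
      ∃ e : E₁ ≅ E₁', e.hom ≫ i₁' = i₁) := by
  refine ⟨exists_maxSlope k hdim hreg r hr E hE, ?_⟩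
  intro E₁ E₁' r₁ r₁' i₁ i₁' hi₁ hr₁ hE₁ h1 h2 hi₁' hr₁' hE₁' h1' h2'
  haveI := hi₁
  haveI := hi₁'
  exact maxSlope_unique k hdim hreg E hE E₁ E₁' r₁ r₁' i₁ i₁' hr₁ hE₁ h1 h2 hr₁' hE₁' h1' h2'

end

end Groth.Agent.Helper4.SN
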