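import Mathlib
import Groth.Agent.Helper4.SN123

/-!
# Twisted pairs `(E, φ : E ⟶ E ⊗ L)` on a curve: invariant submodules (S16002, S16003, S16004)
-/

set_option autoImplicit false
set_option linter.unusedSectionVars false
set_option linter.style.haveILetI false
universe u

open CategoryTheory CategoryTheory.Limits AlgebraicGeometry TopologicalSpace Opposite

namespace Groth.Agent.Helper4.SN

section Inv

variable {X : Scheme.{u}}

theorem mono_map_tensorRightMod (L : X.Modules) (hL : PicF.IsInvertible L) {A A' : X.Modules}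
    (m : A ⟶ A') [Mono m] : Mono ((DCoh.tensorRightMod L).map m) := by
  rw [KoszTw.tensorRightMod_map]
  exact Groth.Agent.Helper4.H1Twist.mono_tensorMap m L hL

/-- `j : G ⟶ E` is invariant under `φ : E ⟶ T E` -/
def IsInvSubF {A : Type*} [Category A] (T : A ⥤ A) {E G : A} (φ : E ⟶ T.obj E)
    (j : G ⟶ E) : Prop :=
  ∃ χ : G ⟶ T.obj G, χ ≫ T.map j = j ≫ φ

/-- the kernel and the coimage of a morphism of twisted pairs are invariant (for an exact
functor `T`) -/
theorem invSubF_kernel_coimage {A : Type*} [Category A] [Abelian A] (T : A ⥤ A)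
    [T.PreservesZeroMorphisms]
    (hT : ∀ S : ShortComplex A, S.ShortExact → (S.map T).ShortExact) {E F : A}
    (φ : E ⟶ T.obj E) (ψ : F ⟶ T.obj F)
    (f : E ⟶ F) (hf : f ≫ ψ = φ ≫ T.map f) :
    IsInvSubF T φ (kernel.ι f) ∧ IsInvSubF T ψ (Abelian.factorThruCoimage f) := by
  have hS : (ShortComplex.mk (kernel.ι f) (cokernel.π (kernel.ι f))
      (cokernel.condition _)).ShortExact :=
    { exact := ShortComplex.exact_cokernel (kernel.ι f)
      mono_f := inferInstanceAs (Mono (kernel.ι f))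
      epi_g := inferInstanceAs (Epi (cokernel.π (kernel.ι f))) }
  have hTS := hT _ hS
  haveI := hTS.mono_f
  have hS' : (ShortComplex.mk (Abelian.factorThruCoimage f)
      (cokernel.π (Abelian.factorThruCoimage f)) (cokernel.condition _)).ShortExact :=
    { exact := ShortComplex.exact_cokernel _
      mono_f := inferInstanceAs (Mono (Abelian.factorThruCoimage f))
      epi_g := inferInstanceAs (Epi (cokernel.π (Abelian.factorThruCoimage f))) }
  haveI : Mono (T.map (Abelian.factorThruCoimage f)) := (hT _ hS').mono_f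
  have hfac : Abelian.coimage.π f ≫ Abelian.factorThruCoimage f = f := Abelian.coimage.fac f
  have hTfac : T.map (Abelian.coimage.π f) ≫ T.map (Abelian.factorThruCoimage f) = T.map f := by
    rw [← T.map_comp, hfac]
  have hz : (kernel.ι f ≫ φ) ≫ T.map (Abelian.coimage.π f) = 0 := by
    rw [← cancel_mono (T.map (Abelian.factorThruCoimage f)), zero_comp, Category.assoc,
      Category.assoc, hTfac, ← hf, kernel.condition_assoc, zero_comp]
  refine ⟨⟨hTS.exact.lift (kernel.ι f ≫ φ) hz, hTS.exact.lift_f _ hz⟩, ?_⟩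
  have hz' : kernel.ι f ≫ φ ≫ T.map (Abelian.coimage.π f) = 0 := by
    rw [← Category.assoc]; exact hz
  refine ⟨cokernel.desc (kernel.ι f) (φ ≫ T.map (Abelian.coimage.π f)) hz', ?_⟩
  rw [← cancel_epi (Abelian.coimage.π f)]
  have h1 : Abelian.coimage.π f ≫ cokernel.desc (kernel.ι f) (φ ≫ T.map (Abelian.coimage.π f))
      hz' = φ ≫ T.map (Abelian.coimage.π f) :=
    cokernel.π_desc _ _ _
  rw [← Category.assoc, h1, Category.assoc, hTfac, ← hf, ← Category.assoc, hfac]

/-- `j : G ⟶ E` is invariant under `φ : E ⟶ E ⊗ L` -/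
abbrev IsInvSub (L : X.Modules) {E G : X.Modules} (φ : E ⟶ (DCoh.tensorRightMod L).obj E)
    (j : G ⟶ E) : Prop :=
  IsInvSubF (DCoh.tensorRightMod L) φ j

theorem invSub_kernel_coimage (L : X.Modules) (hL : PicF.IsInvertible L) {E F : X.Modules}
    (φ : E ⟶ (DCoh.tensorRightMod L).obj E) (ψ : F ⟶ (DCoh.tensorRightMod L).obj F)
    (f : E ⟶ F) (hf : f ≫ ψ = φ ≫ (DCoh.tensorRightMod L).map f) :
    IsInvSub L φ (kernel.ι f) ∧ IsInvSub L ψ (Abelian.factorThruCoimage f) :=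
  invSubF_kernel_coimage (DCoh.tensorRightMod L)
    (fun _ hS => Groth.Agent.Helper1.TwistExact.shortExact_map_tensorRightMod hS L hL) φ ψ f hf

end Inv

section Main

variable (k : Type u) [Field k] {C : Scheme.{u}} [C.Over (Spec (CommRingCat.of k))]
  [IsIntegral C] [IsProper (C ↘ (Spec (CommRingCat.of k)))]

/-- S16002 in general form -/
theorem main16002 (hdim : topologicalKrullDim C = 1)
    (hreg : ∀ x : C, IsRegularLocalRing (C.presheaf.stalk x))
    (ι : Type) (L : ι → C.Modules) (hL : ∀ i, PicF.IsInvertible (L i))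
    (r s : ℕ) (hr : 0 < r) (hs : 0 < s)
    (E F : C.Modules) (hE : FlatMod.IsFinLocFreeOfRank r E) (hF : FlatMod.IsFinLocFreeOfRank s F)
    (φ : ∀ i, E ⟶ (DCoh.tensorRightMod (L i)).obj E)
    (ψ : ∀ i, F ⟶ (DCoh.tensorRightMod (L i)).obj F)
    (hEss : ∀ (G : C.Modules) (n : ℕ) (j : G ⟶ E), Mono j → 0 < n →
      FlatMod.IsFinLocFreeOfRank n G → (∀ i, IsInvSub (L i) (φ i) j) →
      Curv2.deg k C G n * (r : ℤ) ≤ Curv2.deg k C E r * (n : ℤ))
    (hFss : ∀ (G : C.Modules) (n : ℕ) (j : G ⟶ F), Mono j → 0 < n →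
      FlatMod.IsFinLocFreeOfRank n G → (∀ i, IsInvSub (L i) (ψ i) j) →
      Curv2.deg k C G n * (s : ℤ) ≤ Curv2.deg k C F s * (n : ℤ))
    (f : E ⟶ F) (hf : ∀ i, f ≫ ψ i = φ i ≫ (DCoh.tensorRightMod (L i)).map f) (hne : f ≠ 0) :
    Curv2.deg k C E r * (s : ℤ) ≤ Curv2.deg k C F s * (r : ℤ) := by
  obtain ⟨rK, rI, hK, hI, hrk, -, hdeg⟩ := ker_coim_data k hdim hreg hE hF f
  have hI0 : 0 < rI := by
    rcases Nat.eq_zero_or_pos rI with h0 | hpos
    · subst h0
      exact absurd (eq_zero_of_coimage_rank_zero f hI) hne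
    · exact hpos
  have hinv := fun i => invSub_kernel_coimage (L i) (hL i) (φ i) (ψ i) f (hf i)
  have ha : Curv2.deg k C (kernel f) rK * (r : ℤ) ≤ Curv2.deg k C E r * (rK : ℤ) := by
    rcases Nat.eq_zero_or_pos rK with h0 | hpos
    · subst h0
      rw [deg_of_isZero k (isZero_of_rank_zero _ hK)]
      simp
    · exact hEss _ rK (kernel.ι f) inferInstance hpos hK (fun i => (hinv i).1)
  have hb := hFss _ rI (Abelian.factorThruCoimage f) inferInstance hI0 hI (fun i => (hinv i).2)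
  have hrkZ : (r : ℤ) = (rK : ℤ) + (rI : ℤ) := by exact_mod_cast hrk
  have hrZ : (0 : ℤ) < (r : ℤ) := by exact_mod_cast hr
  have hsZ : (0 : ℤ) < (s : ℤ) := by exact_mod_cast hs
  have hIZ : (0 : ℤ) < (rI : ℤ) := by exact_mod_cast hI0
  -- deg E * rI ≤ deg I * r
  have h1 : Curv2.deg k C E r * (rI : ℤ) ≤ Curv2.deg k C (Abelian.coimage f) rI * (r : ℤ) := by
    have e1 : Curv2.deg k C (kernel f) rK = Curv2.deg k C E r - Curv2.deg k C (Abelian.coimage f) rI := by
      linarith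
    rw [e1, sub_mul] at ha
    have e2 : Curv2.deg k C E r * (r : ℤ)
        = Curv2.deg k C E r * (rK : ℤ) + Curv2.deg k C E r * (rI : ℤ) := by
      rw [hrkZ]; ring
    linarith
  have h2 : (Curv2.deg k C E r * (s : ℤ)) * (rI : ℤ) ≤ (Curv2.deg k C F s * (r : ℤ)) * (rI : ℤ) := by
    calc (Curv2.deg k C E r * (s : ℤ)) * (rI : ℤ)
        = (Curv2.deg k C E r * (rI : ℤ)) * (s : ℤ) := by ring
      _ ≤ (Curv2.deg k C (Abelian.coimage f) rI * (r : ℤ)) * (s : ℤ) :=
          mul_le_mul_of_nonneg_right h1 hsZ.le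
      _ = (Curv2.deg k C (Abelian.coimage f) rI * (s : ℤ)) * (r : ℤ) := by ring
      _ ≤ (Curv2.deg k C F s * (rI : ℤ)) * (r : ℤ) := mul_le_mul_of_nonneg_right hb hrZ.le
      _ = (Curv2.deg k C F s * (r : ℤ)) * (rI : ℤ) := by ring
  exact le_of_mul_le_mul_right h2 hIZ

/-- tensoring with an invertible module is an equivalence -/
noncomputable def twistEquivalence (L L' : C.Modules)
    (ε : CohB1.tensorMod L L' ≅ Coh.structureModule C)
    (ε' : CohB1.tensorMod L' L ≅ Coh.structureModule C) : C.Modules ≌ C.Modules :=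
  CategoryTheory.Equivalence.mk (DCoh.tensorRightMod L) (DCoh.tensorRightMod L')
    (twistTwistIso L L' ε).symm (twistTwistIso L' L ε')

/-- a locally free submodule `I` of `E ⊗ L` is the twist of a submodule `G` of `E` -/
theorem exists_untwist_sub (hdim : topologicalKrullDim C ≤ 1)
    (E L : C.Modules) (hL : PicF.IsInvertible L) (n : ℕ)
    (I : C.Modules) (hI : FlatMod.IsFinLocFreeOfRank n I)
    (m : I ⟶ (DCoh.tensorRightMod L).obj E) [Mono m] :
    ∃ (G : C.Modules) (j : G ⟶ E) (e : (DCoh.tensorRightMod L).obj G ≅ I), Mono j ∧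
      FlatMod.IsFinLocFreeOfRank n G ∧
      Curv2.deg k C G n = Curv2.deg k C I n - (n : ℤ) * Curv2.deg k C L 1 ∧
      (DCoh.tensorRightMod L).map j = e.hom ≫ m := by
  obtain ⟨L', hL', ⟨ε'⟩, ⟨ε⟩⟩ := Groth.Agent.Lead.InvDual.exists_inverse L hL
  haveI : (DCoh.tensorRightMod L).IsEquivalence :=
    show (twistEquivalence L L' ε ε').functor.IsEquivalence from
      (twistEquivalence L L' ε ε').isEquivalence_functor
  obtain ⟨e, -⟩ : ∃ e : (DCoh.tensorRightMod L).obj ((DCoh.tensorRightMod L').obj I) ≅ I, True :=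
    ⟨(twistTwistIso L' L ε').app I, trivial⟩
  have hG := isFinLocFreeOfRank_tensor_invertible I L' n hI hL'
  refine ⟨(DCoh.tensorRightMod L').obj I, (DCoh.tensorRightMod L).preimage (e.hom ≫ m), e, ?_,
    hG, ?_, (DCoh.tensorRightMod L).map_preimage _⟩
  · haveI : Mono ((DCoh.tensorRightMod L).map ((DCoh.tensorRightMod L).preimage (e.hom ≫ m))) := by
      rw [(DCoh.tensorRightMod L).map_preimage]
      exact mono_comp _ _
    exact (DCoh.tensorRightMod L).mono_of_mono_map this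
  · have h7 := main7637 k hdim n 1 I L' hI
      (Groth.Agent.Helper4.QAffSec.isFinLocFreeOfRank_one_of_isInvertible _ hL')
    rw [Nat.mul_one, deg_inverse k hdim L L' hL hL' ε'] at h7
    change Curv2.deg k C (CohB1.tensorMod I L') n = _
    rw [h7]
    push_cast
    ring

/-- S16003 in general form -/
theorem main16003 (hdim : topologicalKrullDim C = 1)
    (hreg : ∀ x : C, IsRegularLocalRing (C.presheaf.stalk x))
    (L : C.Modules) (hL : PicF.IsInvertible L)
    (r : ℕ) (hr : 0 < r) (E : C.Modules) (hE : FlatMod.IsFinLocFreeOfRank r E)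
    (φ : E ⟶ (DCoh.tensorRightMod L).obj E)
    (hss : ∀ (G : C.Modules) (n : ℕ) (j : G ⟶ E), Mono j → 0 < n →
      FlatMod.IsFinLocFreeOfRank n G → IsInvSub L φ j →
      Curv2.deg k C G n * (r : ℤ) ≤ Curv2.deg k C E r * (n : ℤ))
    (hφ : φ ≠ 0) :
    0 ≤ Curv2.deg k C L 1 := by
  have hTE : FlatMod.IsFinLocFreeOfRank r ((DCoh.tensorRightMod L).obj E) :=
    isFinLocFreeOfRank_tensor_invertible E L r hE hL
  obtain ⟨rK, rI, hK, hI, hrk, -, hdeg⟩ := ker_coim_data k hdim hreg hE hTE φ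
  have hI0 : 0 < rI := by
    rcases Nat.eq_zero_or_pos rI with h0 | hpos
    · subst h0
      exact absurd (eq_zero_of_coimage_rank_zero φ hI) hφ
    · exact hpos
  have ha : Curv2.deg k C (kernel φ) rK * (r : ℤ) ≤ Curv2.deg k C E r * (rK : ℤ) := by
    rcases Nat.eq_zero_or_pos rK with h0 | hpos
    · subst h0
      rw [deg_of_isZero k (isZero_of_rank_zero _ hK)]
      simp
    · refine hss _ rK (kernel.ι φ) inferInstance hpos hK ⟨0, ?_⟩
      rw [zero_comp, kernel.condition]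
  obtain ⟨G, j, e, hj, hG, hdG, hjm⟩ := exists_untwist_sub k hdim.le E L hL rI _ hI
    (Abelian.factorThruCoimage φ)
  have hb := hss G rI j hj hI0 hG ⟨j ≫ Abelian.coimage.π φ ≫ e.inv, by
    rw [hjm, Category.assoc, Category.assoc, e.inv_hom_id_assoc, Abelian.coimage.fac]⟩
  have hrkZ : (r : ℤ) = (rK : ℤ) + (rI : ℤ) := by exact_mod_cast hrk
  have hrZ : (0 : ℤ) < (r : ℤ) := by exact_mod_cast hr
  have hIZ : (0 : ℤ) < (rI : ℤ) := by exact_mod_cast hI0
  have h1 : Curv2.deg k C E r * (rI : ℤ) ≤ Curv2.deg k C (Abelian.coimage φ) rI * (r : ℤ) := by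
    have e1 : Curv2.deg k C (kernel φ) rK
        = Curv2.deg k C E r - Curv2.deg k C (Abelian.coimage φ) rI := by linarith
    rw [e1, sub_mul] at ha
    have e2 : Curv2.deg k C E r * (r : ℤ)
        = Curv2.deg k C E r * (rK : ℤ) + Curv2.deg k C E r * (rI : ℤ) := by
      rw [hrkZ]; ring
    linarith
  rw [hdG, sub_mul] at hb
  have h2 : 0 ≤ ((rI : ℤ) * (r : ℤ)) * Curv2.deg k C L 1 := by
    have : ((rI : ℤ) * (r : ℤ)) * Curv2.deg k C L 1
        = (rI : ℤ) * Curv2.deg k C L 1 * (r : ℤ) := by ring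
    rw [this]
    linarith
  by_contra hneg
  have hneg' : Curv2.deg k C L 1 < 0 := not_le.mp hneg
  have : ((rI : ℤ) * (r : ℤ)) * Curv2.deg k C L 1 < 0 :=
    mul_neg_of_pos_of_neg (mul_pos hIZ hrZ) hneg'
  linarith

/-- S16004 in general form -/
theorem main16004 (hdim : topologicalKrullDim C = 1)
    (hreg : ∀ x : C, IsRegularLocalRing (C.presheaf.stalk x))
    (L : C.Modules) (hL : PicF.IsInvertible L) (hL0 : Curv2.deg k C L 1 = 0)
    (r : ℕ) (hr : 0 < r) (E : C.Modules) (hE : FlatMod.IsFinLocFreeOfRank r E)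
    (φ : E ⟶ (DCoh.tensorRightMod L).obj E)
    (hss : ∀ (G : C.Modules) (n : ℕ) (j : G ⟶ E), Mono j → 0 < n →
      FlatMod.IsFinLocFreeOfRank n G → IsInvSub L φ j →
      Curv2.deg k C G n * (r : ℤ) ≤ Curv2.deg k C E r * (n : ℤ)) :
    ∀ (G : C.Modules) (n : ℕ) (j : G ⟶ E), Mono j → 0 < n → FlatMod.IsFinLocFreeOfRank n G →
      Curv2.deg k C G n * (r : ℤ) ≤ Curv2.deg k C E r * (n : ℤ) := by
  haveI := Groth.Agent.Helper4.NApx82.isNoetherian_of_proper k C
  obtain ⟨E₁, r₁, i₁, hi₁, hr₁, hE₁, h1, h2⟩ := exists_maxSlope k hdim hreg r hr E hE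
  haveI := hi₁
  have hr₁Z : (0 : ℤ) < (r₁ : ℤ) := by exact_mod_cast hr₁
  have hrZ : (0 : ℤ) < (r : ℤ) := by exact_mod_cast hr
  -- the cokernel is locally free
  have hlf : FlatMod.IsFinLocFree (cokernel i₁) := by
    by_contra hnf
    obtain ⟨I₁, j, u, hj, hu, hI₁, hlt, -⟩ := exists_larger_sub k hdim hreg E E₁ hE hE₁ i₁ hnf
    have := h1 I₁ r₁ j hj hr₁ hI₁
    have := le_of_mul_le_mul_right this hr₁Z
    linarith
  have hQ := isFinLocFreeOfRank_of_isFinLocFree _ hlf
  have hTQ := isFinLocFreeOfRank_tensor_invertible _ L _ hQ hL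
  have hS := cokernel_shortExact i₁
  have hTS := Groth.Agent.Helper1.TwistExact.shortExact_map_tensorRightMod hS L hL
  haveI := hTS.mono_f
  -- the composite `E₁ → E → E ⊗ L → (E/E₁) ⊗ L` vanishes
  have hz : (i₁ ≫ φ) ≫ (DCoh.tensorRightMod L).map (cokernel.π i₁) = 0 := by
    obtain ⟨g, hg⟩ : ∃ g : E₁ ⟶ CohB1.tensorMod (cokernel i₁) L,
        g = (i₁ ≫ φ) ≫ (DCoh.tensorRightMod L).map (cokernel.π i₁) := ⟨_, rfl⟩
    rw [← hg]
    obtain ⟨rK, rI, hK, hI, hrk, -, hdeg⟩ := ker_coim_data k hdim hreg hE₁ hTQ g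
    rcases Nat.eq_zero_or_pos rI with h0 | hpos
    · subst h0
      exact eq_zero_of_coimage_rank_zero _ hI
    · exfalso
      obtain ⟨F, ιF, hιF, hF, hdF⟩ := exists_sub_of_twist_sub_rank k hdim.le (cokernel i₁) L hL rI
        _ hI (Abelian.factorThruCoimage g) inferInstance
      have hb := h2 F rI ιF hιF hpos hF
      rw [hdF, hL0, mul_zero, sub_zero] at hb
      have ha : Curv2.deg k C (kernel g) rK * (r₁ : ℤ) ≤ Curv2.deg k C E₁ r₁ * (rK : ℤ) := by
        rcases Nat.eq_zero_or_pos rK with h0 | hposK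
        · subst h0
          rw [deg_of_isZero k (isZero_of_rank_zero _ hK)]
          simp
        · exact h1 _ rK (kernel.ι g ≫ i₁) (mono_comp _ _) hposK hK
      have hrkZ : (r₁ : ℤ) = (rK : ℤ) + (rI : ℤ) := by exact_mod_cast hrk
      have : Curv2.deg k C E₁ r₁ * (r₁ : ℤ) < Curv2.deg k C E₁ r₁ * (r₁ : ℤ) := by
        nth_rewrite 1 [hdeg]
        nth_rewrite 2 [hrkZ]
        rw [add_mul, mul_add]
        linarith
      exact lt_irrefl _ this
  have hinv : IsInvSub L φ i₁ := ⟨hTS.exact.lift (i₁ ≫ φ) hz, hTS.exact.lift_f _ hz⟩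
  have h3 := hss E₁ r₁ i₁ hi₁ hr₁ hE₁ hinv
  intro G n j hj hn hG
  have h4 := h1 G n j hj hn hG
  have h5 : (Curv2.deg k C G n * (r : ℤ)) * (r₁ : ℤ) ≤ (Curv2.deg k C E r * (n : ℤ)) * (r₁ : ℤ) := by
    calc (Curv2.deg k C G n * (r : ℤ)) * (r₁ : ℤ)
        = (Curv2.deg k C G n * (r₁ : ℤ)) * (r : ℤ) := by ring
      _ ≤ (Curv2.deg k C E₁ r₁ * (n : ℤ)) * (r : ℤ) := mul_le_mul_of_nonneg_right h4 hrZ.le
      _ = (Curv2.deg k C E₁ r₁ * (r : ℤ)) * (n : ℤ) := by ring
      _ ≤ (Curv2.deg k C E r * (r₁ : ℤ)) * (n : ℤ) :=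
          mul_le_mul_of_nonneg_right h3 (Int.natCast_nonneg _)
      _ = (Curv2.deg k C E r * (n : ℤ)) * (r₁ : ℤ) := by ring
  exact le_of_mul_le_mul_right h5 hr₁Z

end Main

end Groth.Agent.Helper4.SN
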