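import Mathlib
import Groth.Agent.Helper4.SN124
import Groth.Agent.Helper1.ProjTop8

/-!
# Stable twisted pairs of rank two on a curve of genus one (S16006)
-/

set_option autoImplicit false
set_option linter.unusedSectionVars false
set_option linter.style.haveILetI false
universe u

open CategoryTheory CategoryTheory.Limits AlgebraicGeometry TopologicalSpace Opposite

namespace Groth.Agent.Helper4.SN

section TensorIso

variable {X : Scheme.{u}}

/-- functoriality of the tensor product in the second variable, for isomorphisms -/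
noncomputable def tensorLeftIso (A : X.Modules) {M N : X.Modules} (e : M ≅ N) :
    CohB1.tensorMod A M ≅ CohB1.tensorMod A N where
  hom := KoszTw.tensorMap (𝟙 A) e.hom
  inv := KoszTw.tensorMap (𝟙 A) e.inv
  hom_inv_id := by
    rw [← KoszTw.tensorMap_comp, Category.id_comp, e.hom_inv_id, KoszTw.tensorMap_id]
  inv_hom_id := by
    rw [← KoszTw.tensorMap_comp, Category.id_comp, e.inv_hom_id, KoszTw.tensorMap_id]

/-- cancellation of an invertible factor on the right -/
noncomputable def cancelRightIso (Q Q' : X.Modules)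
    (ε : CohB1.tensorMod Q Q' ≅ Coh.structureModule X) {A B : X.Modules}
    (e : CohB1.tensorMod A Q ≅ CohB1.tensorMod B Q) : A ≅ B :=
  ((twistTwistIso Q Q' ε).app A).symm ≪≫
    (DCoh.tensorRightMod Q').mapIso (show (DCoh.tensorRightMod Q).obj A ≅
      (DCoh.tensorRightMod Q).obj B from e) ≪≫ (twistTwistIso Q Q' ε).app B

/-- `(Q ⊗ L) ⊗ L ≅ (L ⊗ L) ⊗ Q` -/
noncomputable def swapIso (Q L : X.Modules) :
    CohB1.tensorMod (CohB1.tensorMod Q L) L ≅ CohB1.tensorMod (CohB1.tensorMod L L) Q :=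
  (show (DCoh.tensorRightMod L).obj (CohB1.tensorMod Q L) ≅
      (DCoh.tensorRightMod L).obj (CohB1.tensorMod L Q) from
    (DCoh.tensorRightMod L).mapIso (Groth.Agent.Lead.Ref1B.braid Q L)) ≪≫
  Groth.Agent.Lead.Ref1B.assoc L Q L ≪≫
  tensorLeftIso L (Groth.Agent.Lead.Ref1B.braid Q L) ≪≫
  (Groth.Agent.Lead.Ref1B.assoc L L Q).symm

end TensorIso

section Main

variable (k : Type u) [Field k] {C : Scheme.{u}} [C.Over (Spec (CommRingCat.of k))]
  [IsIntegral C] [IsProper (C ↘ (Spec (CommRingCat.of k)))]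

/-- on a curve of genus one, a nontrivial invertible module of degree zero has no `H¹` -/
theorem h1_subsingleton_of_deg_zero_genus_one (hdim : topologicalKrullDim C = 1)
    (h0 : Module.finrank k (Coh.HH C (Coh.structureModule C) 0) = 1)
    (hg : Curv2.genus k C = 1) (L : C.Modules) (hL : PicF.IsInvertible L)
    (hd : Curv2.deg k C L 1 = 0) (hne : ¬ Nonempty (L ≅ Coh.structureModule C)) :
    Subsingleton (Coh.HH C L 1) := by
  haveI := Groth.Agent.Helper4.NApx82.isNoetherian_of_proper k C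
  have hO : PicF.IsInvertible (Coh.structureModule C) :=
    Groth.Agent.Helper4.TensorInv.isInvertible_structureModule
  have hcL := Groth.Agent.Helper1.SerreFin.isCoh_of_isInvertible L hL
  by_contra hns
  rw [not_subsingleton_iff_nontrivial] at hns
  haveI : Module.Finite k (Coh.HH C L 1) := Groth.Agent.S0002.result k C _ hcL 1
  have hpos : 0 < Module.finrank k (Coh.HH C L 1) := Module.finrank_pos
  have hM := chi_eq_h0_sub_h1 k hdim.le L
  have hOO := chi_eq_h0_sub_h1 k hdim.le (Coh.structureModule C)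
  unfold chi at hM hOO
  unfold Curv2.deg at hd
  unfold Curv2.genus at hg
  rw [hOO, h0, hM, hg] at hd
  push_cast at hd
  have h0pos : 0 < Module.finrank k (Coh.HH C L 0) := by omega
  haveI : Module.Finite k (Coh.HH C L 0) := Groth.Agent.S0002.result k C _ hcL 0
  have hnt : Nontrivial (Coh.HH C L 0) := Module.nontrivial_of_finrank_pos (R := k) h0pos
  obtain ⟨s, hs⟩ := exists_section_of_nontrivial_H0 L hnt
  have h := (Groth.Agent.Helper4.NApx82.main1521 k C hdim _ L hO hL s hs).2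
  have hdO : Curv2.deg k C (Coh.structureModule C) 1 = 0 :=
    Groth.Agent.Helper4.NApx82.deg_structureModule k C
  have hdL : Curv2.deg k C L 1 = 0 := by
    unfold Curv2.deg
    rw [hOO, h0, hM]
    unfold Curv2.genus at *
    push_cast
    omega
  haveI := h (by rw [hdO, hdL])
  exact hne ⟨(asIso s).symm⟩

/-- degree of a tensor product of invertible modules -/
theorem deg_tensor_inv_curve (hdim : topologicalKrullDim C = 1) (A B : C.Modules)
    (hA : PicF.IsInvertible A) (hB : PicF.IsInvertible B) :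
    Curv2.deg k C (CohB1.tensorMod A B) 1 = Curv2.deg k C A 1 + Curv2.deg k C B 1 := by
  have h7 := main7637 k hdim.le 1 1 A B
    (Groth.Agent.Helper4.QAffSec.isFinLocFreeOfRank_one_of_isInvertible _ hA)
    (Groth.Agent.Helper4.QAffSec.isFinLocFreeOfRank_one_of_isInvertible _ hB)
  rw [Nat.mul_one] at h7
  rw [h7]
  push_cast
  ring

theorem isInvertible_tensor (A B : C.Modules)
    (hA : PicF.IsInvertible A) (hB : PicF.IsInvertible B) :
    PicF.IsInvertible (CohB1.tensorMod A B) :=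
  isInvertible_of_rank_one _ (isFinLocFreeOfRank_tensor_invertible A B 1
    (Groth.Agent.Helper4.QAffSec.isFinLocFreeOfRank_one_of_isInvertible _ hA) hB)

/-- S16006 in general form -/
theorem main16006 [IsAlgClosed k] (hdim : topologicalKrullDim C = 1)
    (hreg : ∀ x : C, IsRegularLocalRing (C.presheaf.stalk x))
    (hg : Curv2.genus k C = 1)
    (L : C.Modules) (hL : PicF.IsInvertible L) (hL0 : Curv2.deg k C L 1 = 0)
    (hL2 : ¬ Nonempty (CohB1.tensorMod L L ≅ Coh.structureModule C))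
    (E : C.Modules) (hE : FlatMod.IsFinLocFreeOfRank 2 E)
    (φ : E ⟶ (DCoh.tensorRightMod L).obj E)
    (hst : ∀ (G : C.Modules) (n : ℕ) (j : G ⟶ E), Mono j → 0 < n → n < 2 →
      FlatMod.IsFinLocFreeOfRank n G → IsInvSub L φ j →
      Curv2.deg k C G n * (2 : ℤ) < Curv2.deg k C E 2 * (n : ℤ)) :
    ∀ (G : C.Modules) (n : ℕ) (j : G ⟶ E), Mono j → 0 < n → n < 2 →
      FlatMod.IsFinLocFreeOfRank n G →
      Curv2.deg k C G n * (2 : ℤ) < Curv2.deg k C E 2 * (n : ℤ) := by
  haveI := Groth.Agent.Helper4.NApx82.isNoetherian_of_proper k C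
  have hO : PicF.IsInvertible (Coh.structureModule C) :=
    Groth.Agent.Helper4.TensorInv.isInvertible_structureModule
  have h0 : Module.finrank k (Coh.HH C (Coh.structureModule C) 0) = 1 :=
    finrank_h0_unit_of_isAlgClosed k
  have hcE : Coh.IsCoh E := Groth.Agent.Lead.PerfLib.isCoh_of_isFinLocFree
    (FinLocFree7.isFinLocFree_of_rank _ hE)
  -- `L` is not trivial
  have hLne : ¬ Nonempty (L ≅ Coh.structureModule C) := by
    rintro ⟨e⟩
    apply hL2
    obtain ⟨e1, -⟩ : ∃ e1 : CohB1.tensorMod L L ≅ CohB1.tensorMod (Coh.structureModule C) L,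
        True := ⟨(DCoh.tensorRightMod L).mapIso e, trivial⟩
    exact ⟨e1 ≪≫ Groth.Agent.Lead.Ref1B.unitorL L ≪≫ e⟩
  have hH1L := h1_subsingleton_of_deg_zero_genus_one k hdim h0 hg L hL hL0 hLne
  -- the module `E` is semistable
  have hss := main16004 k hdim hreg L hL hL0 2 (by norm_num) E hE φ (by
    intro G' n' j' hj' hn' hG' hinv'
    haveI := hj'
    have hle : n' ≤ 2 := rank_le_of_mono j' hG' hE
    rcases Nat.lt_or_ge n' 2 with h2 | h2
    · exact_mod_cast (hst G' n' j' hj' hn' h2 hG' hinv').le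
    · have : n' = 2 := le_antisymm hle h2
      subst this
      have := deg_le_of_mono_of_rank_eq k hdim j' hG' hE
      push_cast
      linarith)
  intro G n j hj hn hn2 hG
  haveI := hj
  have hn1 : n = 1 := by omega
  subst hn1
  by_contra hnot
  have hge : Curv2.deg k C E 2 * ((1 : ℕ) : ℤ) ≤ Curv2.deg k C G 1 * (2 : ℤ) := not_lt.mp hnot
  -- saturate
  obtain ⟨G₁, j₁, u, hj₁, hu, hG₁, hle, hlf⟩ := exists_saturation k hdim hreg E G hE hG j
  haveI := hj₁
  have hss₁ := hss G₁ 1 j₁ hj₁ (by norm_num) hG₁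
  push_cast at hss₁ hge
  have hdG₁ : Curv2.deg k C G₁ 1 * 2 = Curv2.deg k C E 2 := by linarith
  have hQ' := isFinLocFreeOfRank_of_isFinLocFree _ hlf
  have hS := cokernel_shortExact j₁
  have hrk := rank_add_of_shortExact _ hS hG₁ hE hQ'
  obtain ⟨s₀, hs₀⟩ : ∃ s₀ : ℕ, s₀ = Module.finrank (C.presheaf.stalk (genericPoint C))
      ((cokernel j₁).presheaf.stalk (genericPoint C)) := ⟨_, rfl⟩
  rw [← hs₀] at hQ' hrk
  have hs1 : s₀ = 1 := by omega
  subst hs1
  have hcG₁ : Coh.IsCoh G₁ := Groth.Agent.Lead.PerfLib.isCoh_of_isFinLocFree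
    (FinLocFree7.isFinLocFree_of_rank _ hG₁)
  have hcQ : Coh.IsCoh (cokernel j₁) := Groth.Agent.Lead.PerfLib.isCoh_cokernel hcG₁ hcE j₁
  have hdE := deg_add_of_shortExact k _ hS hcG₁ hcE hcQ 1 1
  change Curv2.deg k C E 2 = Curv2.deg k C G₁ 1 + Curv2.deg k C (cokernel j₁) 1 at hdE
  have hdQ : Curv2.deg k C (cokernel j₁) 1 = Curv2.deg k C G₁ 1 := by linarith
  have hGinv : PicF.IsInvertible G₁ := isInvertible_of_rank_one _ hG₁
  have hQinv : PicF.IsInvertible (cokernel j₁) := isInvertible_of_rank_one _ hQ'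
  -- `G₁` is not invariant
  have hni₁ : ¬ IsInvSub L φ j₁ := by
    intro hinv
    have := hst G₁ 1 j₁ hj₁ (by norm_num) (by norm_num) hG₁ hinv
    push_cast at this
    linarith
  have hTS := Groth.Agent.Helper1.TwistExact.shortExact_map_tensorRightMod hS L hL
  haveI := hTS.mono_f
  obtain ⟨c, hc⟩ : ∃ c : G₁ ⟶ CohB1.tensorMod (cokernel j₁) L,
      c = (j₁ ≫ φ) ≫ (DCoh.tensorRightMod L).map (cokernel.π j₁) := ⟨_, rfl⟩
  have hcne : c ≠ 0 := by
    intro hc0
    rw [hc] at hc0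
    exact hni₁ ⟨hTS.exact.lift (j₁ ≫ φ) hc0, hTS.exact.lift_f _ hc0⟩
  have hQLinv := isInvertible_tensor (cokernel j₁) L hQinv hL
  have hdQL := deg_tensor_inv_curve k hdim (cokernel j₁) L hQinv hL
  haveI hciso : IsIso c := (Groth.Agent.Helper4.NApx82.main1521 k C hdim _ _ hGinv hQLinv c hcne).2
    (by rw [hdQL, hL0, hdQ, add_zero])
  -- the extension splits
  obtain ⟨Q', hQ'inv, ⟨ε'⟩, ⟨ε⟩⟩ := Groth.Agent.Lead.InvDual.exists_inverse (cokernel j₁) hQinv
  obtain ⟨e3, -⟩ : ∃ e3 : CohB1.tensorMod G₁ Q' ≅ L, True :=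
    ⟨(DCoh.tensorRightMod Q').mapIso (asIso c) ≪≫
      (DCoh.tensorRightMod Q').mapIso (Groth.Agent.Lead.Ref1B.braid (cokernel j₁) L) ≪≫
      (twistTwistIso (cokernel j₁) Q' ε).app L, trivial⟩
  have hH1 : Subsingleton (Coh.HH C (CohB1.tensorMod G₁ Q') 1) :=
    (Groth.Agent.Helper1.ProjTop.HHlinEquiv k e3 1).toEquiv.subsingleton
  obtain ⟨ψ, hψ⟩ := exists_lift_twist k _ hS (cokernel j₁) Q' hQ'inv ε' ε.symm hH1 (𝟙 _)
  change ψ ≫ cokernel.π j₁ = 𝟙 _ at hψ
  haveI : Mono ψ := mono_of_mono_fac hψ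
  -- the retraction
  have hz : (𝟙 E - cokernel.π j₁ ≫ ψ) ≫ cokernel.π j₁ = 0 := by
    rw [Preadditive.sub_comp, Category.id_comp, Category.assoc, hψ, Category.comp_id, sub_self]
  obtain ⟨ρ, hρ⟩ : ∃ ρ : E ⟶ G₁, ρ ≫ j₁ = 𝟙 E - cokernel.π j₁ ≫ ψ :=
    ⟨hS.exact.lift _ hz, hS.exact.lift_f _ hz⟩
  have hdec : ρ ≫ j₁ + cokernel.π j₁ ≫ ψ = 𝟙 E := by rw [hρ]; abel
  -- `ψ` is not invariant
  have hni₂ : ¬ IsInvSub L φ ψ := by
    intro hinv
    have := hst _ 1 ψ inferInstance (by norm_num) (by norm_num) hQ' hinv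
    push_cast at this
    linarith
  obtain ⟨c', hc'⟩ : ∃ c' : cokernel j₁ ⟶ CohB1.tensorMod G₁ L,
      c' = (ψ ≫ φ) ≫ (DCoh.tensorRightMod L).map ρ := ⟨_, rfl⟩
  have hc'ne : c' ≠ 0 := by
    intro hc0
    rw [hc'] at hc0
    refine hni₂ ⟨(ψ ≫ φ) ≫ (DCoh.tensorRightMod L).map (cokernel.π j₁), ?_⟩
    have h2 : (ψ ≫ φ) ≫ (DCoh.tensorRightMod L).map (ρ ≫ j₁ + cokernel.π j₁ ≫ ψ) = ψ ≫ φ := by
      rw [hdec, CategoryTheory.Functor.map_id, Category.comp_id]
    rw [CategoryTheory.Functor.map_add, Preadditive.comp_add,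
      CategoryTheory.Functor.map_comp, CategoryTheory.Functor.map_comp,
      ← Category.assoc, ← Category.assoc] at h2
    have h3 : ((ψ ≫ φ) ≫ (DCoh.tensorRightMod L).map ρ) ≫ (DCoh.tensorRightMod L).map j₁ = 0 := by
      have h4 : (ψ ≫ φ) ≫ (DCoh.tensorRightMod L).map ρ = 0 := hc0
      rw [h4, zero_comp]
    rw [h3, zero_add] at h2
    exact h2
  have hGLinv := isInvertible_tensor G₁ L hGinv hL
  have hdGL := deg_tensor_inv_curve k hdim G₁ L hGinv hL
  haveI hc'iso : IsIso c' :=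
    (Groth.Agent.Helper4.NApx82.main1521 k C hdim _ _ hQinv hGLinv c' hc'ne).2
      (by rw [hdGL, hL0, hdQ, add_zero])
  -- conclusion
  apply hL2
  obtain ⟨e4, -⟩ : ∃ e4 : CohB1.tensorMod G₁ L ≅
      CohB1.tensorMod (CohB1.tensorMod (cokernel j₁) L) L, True :=
    ⟨(DCoh.tensorRightMod L).mapIso (asIso c), trivial⟩
  have e5 : CohB1.tensorMod (Coh.structureModule C) (cokernel j₁) ≅
      CohB1.tensorMod (CohB1.tensorMod L L) (cokernel j₁) :=
    Groth.Agent.Lead.Ref1B.unitorL _ ≪≫ asIso c' ≪≫ e4 ≪≫ swapIso _ L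
  exact ⟨(cancelRightIso (cokernel j₁) Q' ε e5).symm⟩

end Main

end Groth.Agent.Helper4.SN
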