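import Mathlib
import Groth.Agent.Helper4.SN125

/-!
# Twisted pairs with a commuting endomorphism (S16005)
-/

set_option autoImplicit false
set_option linter.unusedSectionVars false
set_option linter.style.haveILetI false
universe u

open CategoryTheory CategoryTheory.Limits AlgebraicGeometry TopologicalSpace Opposite

namespace Groth.Agent.Helper4.SN

section AbsInv

variable {A : Type*} [Category A] [Abelian A] (T : A ⥤ A) [T.Additive]

/-- the twisting map descends to the cokernel of an invariant subobject -/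
theorem exists_desc_of_invSubF {E G : A} (φ : E ⟶ T.obj E) (j : G ⟶ E) (h : IsInvSubF T φ j) :
    ∃ φ' : cokernel j ⟶ T.obj (cokernel j), cokernel.π j ≫ φ' = φ ≫ T.map (cokernel.π j) := by
  obtain ⟨χ, hχ⟩ := h
  have hz : j ≫ φ ≫ T.map (cokernel.π j) = 0 := by
    rw [← Category.assoc, ← hχ, Category.assoc, ← T.map_comp, cokernel.condition, T.map_zero,
      comp_zero]
  exact ⟨cokernel.desc j (φ ≫ T.map (cokernel.π j)) hz, cokernel.π_desc _ _ _⟩

/-- transitivity of invariance -/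
theorem invSubF_comp {E G K : A} (φ : E ⟶ T.obj E) (j : G ⟶ E) (χ : G ⟶ T.obj G)
    (hχ : χ ≫ T.map j = j ≫ φ) (i : K ⟶ G) (h : IsInvSubF T χ i) : IsInvSubF T φ (i ≫ j) := by
  obtain ⟨χ', hχ'⟩ := h
  refine ⟨χ', ?_⟩
  rw [T.map_comp, ← Category.assoc, hχ', Category.assoc, hχ, Category.assoc]

end AbsInv

section Main

variable (k : Type u) [Field k] {C : Scheme.{u}} [C.Over (Spec (CommRingCat.of k))]
  [IsIntegral C] [IsProper (C ↘ (Spec (CommRingCat.of k)))]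

/-- the preimage in the middle term of a short exact sequence of a submodule of the quotient,
with the preimage made explicit -/
theorem preimage_data_explicit (hdim : topologicalKrullDim C = 1)
    (hreg : ∀ x : C, IsRegularLocalRing (C.presheaf.stalk x))
    (S : ShortComplex C.Modules) (hS : S.ShortExact) {r : ℕ}
    (hE : FlatMod.IsFinLocFreeOfRank r S.X₂) (h₁ : Coh.IsCoh S.X₁) (h₃ : Coh.IsCoh S.X₃)
    (G : C.Modules) (hcG : Coh.IsCoh G) (j : G ⟶ S.X₃) [Mono j] :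
    ∃ (ρ : ℕ), FlatMod.IsFinLocFreeOfRank ρ (kernel (S.g ≫ cokernel.π j)) ∧
      ρ = gRank S.X₁ + gRank G ∧
      Curv2.euler k C (kernel (S.g ≫ cokernel.π j)) = Curv2.euler k C S.X₁ + Curv2.euler k C G := by
  haveI := Groth.Agent.Helper4.NApx82.isNoetherian_of_proper k C
  haveI := hS.epi_g
  have hcE : Coh.IsCoh S.X₂ := Groth.Agent.Lead.PerfLib.isCoh_of_isFinLocFree
    (FinLocFree7.isFinLocFree_of_rank S.X₂ hE)
  have hcG' : Coh.IsCoh (cokernel j) := Groth.Agent.Lead.PerfLib.isCoh_cokernel hcG h₃ j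
  set q : S.X₂ ⟶ cokernel j := S.g ≫ cokernel.π j with hq
  have hcK : Coh.IsCoh (kernel q) := Groth.Agent.Lead.PerfLib.isCoh_kernel hcE hcG' q
  have hSb := Groth.Agent.Helper1.Dev.cokSC_shortExact j
  have hSc : (ShortComplex.mk (kernel.ι q) q (kernel.condition q)).ShortExact :=
    { exact := ShortComplex.exact_kernel q
      mono_f := inferInstanceAs (Mono (kernel.ι q))
      epi_g := inferInstanceAs (Epi (S.g ≫ cokernel.π j)) }
  have ea := Groth.Agent.Helper4.NApx80.euler_additive k C _ hS h₁ hcE h₃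
  have eb := Groth.Agent.Helper4.NApx80.euler_additive k C _ hSb hcG h₃ hcG'
  have ec := Groth.Agent.Helper4.NApx80.euler_additive k C _ hSc hcK hcE hcG'
  change Curv2.euler k C S.X₃ = Curv2.euler k C G + Curv2.euler k C (cokernel j) at eb
  change Curv2.euler k C S.X₂ = Curv2.euler k C (kernel q) + Curv2.euler k C (cokernel j) at ec
  haveI : S.X₂.IsQuasicoherent := hcE.1
  haveI : S.X₃.IsQuasicoherent := h₃.1
  have ga := gRank_add _ hS (Groth.Agent.Helper4.FinLocFree2.finite_stalk S.X₂ hcE.2 _)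
  have gb := gRank_add _ hSb (Groth.Agent.Helper4.FinLocFree2.finite_stalk _ h₃.2 _)
  have gc := gRank_add _ hSc (Groth.Agent.Helper4.FinLocFree2.finite_stalk S.X₂ hcE.2 _)
  change gRank S.X₃ = gRank G + gRank (cokernel j) at gb
  change gRank S.X₂ = gRank (kernel q) + gRank (cokernel j) at gc
  obtain ⟨ρ, hρ⟩ := exists_rank_of_mono hreg hdim.le (kernel.ι q) hcK hE
  have hgK := gRank_of_rank _ hρ
  exact ⟨ρ, hρ, by omega, by linarith⟩

/-- a submodule of maximal slope, then maximal rank, among those satisfying a predicate -/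
theorem exists_maxSlope_pred (hdim : topologicalKrullDim C = 1)
    (r : ℕ) (hr : 0 < r) (E : C.Modules) (hE : FlatMod.IsFinLocFreeOfRank r E)
    (P : ∀ F : C.Modules, (F ⟶ E) → Prop) (hP : P E (𝟙 E)) :
    ∃ (E₁ : C.Modules) (r₁ : ℕ) (i₁ : E₁ ⟶ E), Mono i₁ ∧ 0 < r₁ ∧
      FlatMod.IsFinLocFreeOfRank r₁ E₁ ∧ P E₁ i₁ ∧
      ∀ (F : C.Modules) (r' : ℕ) (j : F ⟶ E), Mono j → 0 < r' →
        FlatMod.IsFinLocFreeOfRank r' F → P F j →
        Curv2.deg k C F r' * (r₁ : ℤ) ≤ Curv2.deg k C E₁ r₁ * (r' : ℤ) ∧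
        (Curv2.deg k C F r' * (r₁ : ℤ) = Curv2.deg k C E₁ r₁ * (r' : ℤ) → r' ≤ r₁) := by
  classical
  haveI := Groth.Agent.Helper4.NApx82.isNoetherian_of_proper k C
  have hcE : Coh.IsCoh E := Groth.Agent.Lead.PerfLib.isCoh_of_isFinLocFree
    (FinLocFree7.isFinLocFree_of_rank _ hE)
  obtain ⟨B, hB⟩ := main15331 k hdim r E hE
  set N : ℕ := r.factorial with hN
  have hNpos : 0 < N := Nat.factorial_pos r
  -- the weight of a submodule: slope first, then rank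
  let w : ℤ → ℕ → ℤ := fun d r' => d * ((N / r' : ℕ) : ℤ) * ((r : ℤ) + 1) + (r' : ℤ)
  have hdiv : ∀ r' : ℕ, 0 < r' → r' ≤ r → ((N / r' : ℕ) : ℤ) * (r' : ℤ) = (N : ℤ) := by
    intro r' h0 hle
    have := Nat.div_mul_cancel (Nat.dvd_factorial h0 hle)
    exact_mod_cast this
  have hdivpos : ∀ r' : ℕ, 0 < r' → r' ≤ r → (0 : ℤ) < ((N / r' : ℕ) : ℤ) := by
    intro r' h0 hle
    have : 0 < N / r' := Nat.div_pos (Nat.le_of_dvd hNpos (Nat.dvd_factorial h0 hle)) h0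
    exact_mod_cast this
  have hdivle : ∀ r' : ℕ, ((N / r' : ℕ) : ℤ) ≤ (N : ℤ) := by
    intro r'
    exact_mod_cast Nat.div_le_self N r'
  obtain ⟨wmax, ⟨E₁, r₁, i₁, hi₁, hr₁, hE₁, hPE₁, hw⟩, hmax⟩ := Int.exists_greatest_of_bdd
    (P := fun z : ℤ => ∃ (F : C.Modules) (r' : ℕ) (j : F ⟶ E), Mono j ∧ 0 < r' ∧
      FlatMod.IsFinLocFreeOfRank r' F ∧ P F j ∧ w (Curv2.deg k C F r') r' = z)
    ⟨max B 0 * (N : ℤ) * ((r : ℤ) + 1) + (r : ℤ), by
      rintro z ⟨F, r', j, hj, h0, hF, -, rfl⟩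
      haveI := hj
      have hle : r' ≤ r := rank_le_of_mono j hF hE
      have h1 : Curv2.deg k C F r' * ((N / r' : ℕ) : ℤ) ≤ max B 0 * (N : ℤ) := by
        have hd := hB F r' j hj hF
        rcases le_or_gt (Curv2.deg k C F r') 0 with hneg | hpos
        · calc Curv2.deg k C F r' * ((N / r' : ℕ) : ℤ) ≤ 0 :=
                mul_nonpos_of_nonpos_of_nonneg hneg (Int.natCast_nonneg _)
            _ ≤ max B 0 * (N : ℤ) := mul_nonneg (le_max_right _ _) (Int.natCast_nonneg _)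
        · calc Curv2.deg k C F r' * ((N / r' : ℕ) : ℤ)
              ≤ Curv2.deg k C F r' * (N : ℤ) := mul_le_mul_of_nonneg_left (hdivle r') hpos.le
            _ ≤ max B 0 * (N : ℤ) :=
                mul_le_mul_of_nonneg_right (hd.trans (le_max_left _ _)) (Int.natCast_nonneg _)
      have h2 : (0 : ℤ) ≤ (r : ℤ) + 1 := by positivity
      have h3 : (r' : ℤ) ≤ (r : ℤ) := by exact_mod_cast hle
      have := mul_le_mul_of_nonneg_right h1 h2
      show Curv2.deg k C F r' * ((N / r' : ℕ) : ℤ) * ((r : ℤ) + 1) + (r' : ℤ) ≤ _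
      linarith⟩
    ⟨_, E, r, 𝟙 E, inferInstance, hr, hE, hP, rfl⟩
  haveI := hi₁
  have hr₁le : r₁ ≤ r := rank_le_of_mono i₁ hE₁ hE
  have hNZ : (0 : ℤ) < (N : ℤ) := by exact_mod_cast hNpos
  have hrZ : (0 : ℤ) < (r : ℤ) + 1 := by positivity
  -- comparison of the weights
  refine ⟨E₁, r₁, i₁, hi₁, hr₁, hE₁, hPE₁, ?_⟩
  · intro F r' j hj h0 hF hPF
    haveI := hj
    have hle : r' ≤ r := rank_le_of_mono j hF hE
    have hwF := hmax _ ⟨F, r', j, hj, h0, hF, hPF, rfl⟩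
    rw [← hw] at hwF
    change Curv2.deg k C F r' * ((N / r' : ℕ) : ℤ) * ((r : ℤ) + 1) + (r' : ℤ)
      ≤ Curv2.deg k C E₁ r₁ * ((N / r₁ : ℕ) : ℤ) * ((r : ℤ) + 1) + (r₁ : ℤ) at hwF
    set a := Curv2.deg k C F r' * ((N / r' : ℕ) : ℤ) with ha
    set b := Curv2.deg k C E₁ r₁ * ((N / r₁ : ℕ) : ℤ) with hb
    have h3 : (r' : ℤ) ≤ (r : ℤ) := by exact_mod_cast hle
    have h4 : (0 : ℤ) < (r' : ℤ) := by exact_mod_cast h0
    have h5 : (r₁ : ℤ) ≤ (r : ℤ) := by exact_mod_cast hr₁le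
    have h6 : (0 : ℤ) < (r₁ : ℤ) := by exact_mod_cast hr₁
    have hab : a ≤ b := by
      by_contra hlt
      have : b + 1 ≤ a := not_le.mp hlt
      nlinarith
    -- a * r' * r₁ = deg F * N * r₁, b * r₁ * r' = deg E₁ * N * r'
    have ea : a * (r' : ℤ) = Curv2.deg k C F r' * (N : ℤ) := by
      rw [ha, mul_assoc, hdiv r' h0 hle]
    have eb : b * (r₁ : ℤ) = Curv2.deg k C E₁ r₁ * (N : ℤ) := by
      rw [hb, mul_assoc, hdiv r₁ hr₁ hr₁le]
    have h7 : (Curv2.deg k C F r' * (r₁ : ℤ)) * (N : ℤ)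
        = a * ((r' : ℤ) * (r₁ : ℤ)) := by
      rw [← mul_assoc, ea]; ring
    have h8 : (Curv2.deg k C E₁ r₁ * (r' : ℤ)) * (N : ℤ)
        = b * ((r' : ℤ) * (r₁ : ℤ)) := by
      rw [mul_comm (r' : ℤ) (r₁ : ℤ), ← mul_assoc, eb]; ring
    have hpos : (0 : ℤ) < (r' : ℤ) * (r₁ : ℤ) := mul_pos h4 h6
    refine ⟨?_, ?_⟩
    · have : (Curv2.deg k C F r' * (r₁ : ℤ)) * (N : ℤ)
          ≤ (Curv2.deg k C E₁ r₁ * (r' : ℤ)) * (N : ℤ) := by
        rw [h7, h8]
        exact mul_le_mul_of_nonneg_right hab hpos.le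
      exact le_of_mul_le_mul_right this hNZ
    · intro heq
      have : a * ((r' : ℤ) * (r₁ : ℤ)) = b * ((r' : ℤ) * (r₁ : ℤ)) := by
        rw [← h7, ← h8, heq]
      have hab' : a = b := mul_right_cancel₀ hpos.ne' this
      rw [hab'] at hwF
      have : (r' : ℤ) ≤ (r₁ : ℤ) := by linarith
      exact_mod_cast this

/-- the maximal invariant submodule of maximal slope is invariant under every commuting
endomorphism -/
theorem exists_maxInv_endInvariant (hdim : topologicalKrullDim C = 1)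
    (hreg : ∀ x : C, IsRegularLocalRing (C.presheaf.stalk x))
    (L : C.Modules) (hL : PicF.IsInvertible L)
    (r : ℕ) (hr : 0 < r) (E : C.Modules) (hE : FlatMod.IsFinLocFreeOfRank r E)
    (φ : E ⟶ (DCoh.tensorRightMod L).obj E) (ψ : E ⟶ E)
    (hcomm : ψ ≫ φ = φ ≫ (DCoh.tensorRightMod L).map ψ) :
    ∃ (G₀ : C.Modules) (r₀ : ℕ) (j₀ : G₀ ⟶ E), Mono j₀ ∧ 0 < r₀ ∧
      FlatMod.IsFinLocFreeOfRank r₀ G₀ ∧ IsInvSub L φ j₀ ∧
      (∃ ψ' : G₀ ⟶ G₀, ψ' ≫ j₀ = j₀ ≫ ψ) ∧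
      ∀ (F : C.Modules) (r' : ℕ) (j : F ⟶ E), Mono j → 0 < r' →
        FlatMod.IsFinLocFreeOfRank r' F → IsInvSub L φ j →
        Curv2.deg k C F r' * (r₀ : ℤ) ≤ Curv2.deg k C G₀ r₀ * (r' : ℤ) := by
  haveI := Groth.Agent.Helper4.NApx82.isNoetherian_of_proper k C
  have hTex : ∀ S : ShortComplex C.Modules, S.ShortExact →
      (S.map (DCoh.tensorRightMod L)).ShortExact :=
    fun _ hS => Groth.Agent.Helper1.TwistExact.shortExact_map_tensorRightMod hS L hL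
  have hcE : Coh.IsCoh E := Groth.Agent.Lead.PerfLib.isCoh_of_isFinLocFree
    (FinLocFree7.isFinLocFree_of_rank _ hE)
  obtain ⟨G₀, r₀, j₀, hj₀, hr₀, hG₀, hinv₀, hmax⟩ := exists_maxSlope_pred k hdim r hr E hE
    (fun F j => IsInvSub L φ j) ⟨φ, by rw [CategoryTheory.Functor.map_id, Category.comp_id,
      Category.id_comp]⟩
  haveI := hj₀
  refine ⟨G₀, r₀, j₀, hj₀, hr₀, hG₀, hinv₀, ?_, fun F r' j hj h0 hF hP => (hmax F r' j hj h0 hF hP).1⟩
  obtain ⟨χ₀, hχ₀⟩ := hinv₀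
  have hcG₀ : Coh.IsCoh G₀ := Groth.Agent.Lead.PerfLib.isCoh_of_isFinLocFree
    (FinLocFree7.isFinLocFree_of_rank _ hG₀)
  have hcQ : Coh.IsCoh (cokernel j₀) := Groth.Agent.Lead.PerfLib.isCoh_cokernel hcG₀ hcE j₀
  have hS := cokernel_shortExact j₀
  obtain ⟨φQ, hφQ⟩ := exists_desc_of_invSubF (DCoh.tensorRightMod L) φ j₀ ⟨χ₀, hχ₀⟩
  -- the morphism of pairs `G₀ → E → E → E/G₀`
  set g : G₀ ⟶ cokernel j₀ := j₀ ≫ ψ ≫ cokernel.π j₀ with hg
  have hgφ : g ≫ φQ = χ₀ ≫ (DCoh.tensorRightMod L).map g := by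
    rw [hg, CategoryTheory.Functor.map_comp, CategoryTheory.Functor.map_comp, ← Category.assoc χ₀,
      hχ₀, Category.assoc, Category.assoc, hφQ, ← Category.assoc ψ, hcomm, Category.assoc,
      Category.assoc]
  obtain ⟨hKinv, hIinv⟩ := invSubF_kernel_coimage (DCoh.tensorRightMod L) hTex χ₀ φQ g hgφ
  have hKinv' : IsInvSub L φ (kernel.ι g ≫ j₀) :=
    invSubF_comp (DCoh.tensorRightMod L) φ j₀ χ₀ hχ₀ (kernel.ι g) hKinv
  -- it suffices that `g = 0`
  suffices hg0 : g = 0 by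
    have hz : (j₀ ≫ ψ) ≫ cokernel.π j₀ = 0 := by rw [Category.assoc]; exact hg0
    exact ⟨hS.exact.lift (j₀ ≫ ψ) hz, hS.exact.lift_f _ hz⟩
  -- the kernel and the coimage
  have hcK : Coh.IsCoh (kernel g) := Groth.Agent.Lead.PerfLib.isCoh_kernel hcG₀ hcQ g
  have hcI : Coh.IsCoh (Abelian.coimage g) :=
    Groth.Agent.Lead.PerfLib.isCoh_cokernel hcK hcG₀ (kernel.ι g)
  obtain ⟨rK, hK⟩ := exists_rank_of_mono hreg hdim.le (kernel.ι g) hcK hG₀
  have hSK := cokernel_shortExact (kernel.ι g)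
  have eK := Groth.Agent.Helper4.NApx80.euler_additive k C _ hSK hcK hcG₀ hcI
  change Curv2.euler k C G₀ = Curv2.euler k C (kernel g) + Curv2.euler k C (Abelian.coimage g) at eK
  haveI : G₀.IsQuasicoherent := hcG₀.1
  have gK := gRank_add _ hSK (Groth.Agent.Helper4.FinLocFree2.finite_stalk G₀ hcG₀.2 _)
  change gRank G₀ = gRank (kernel g) + gRank (Abelian.coimage g) at gK
  rw [gRank_of_rank _ hK, gRank_of_rank _ hG₀] at gK
  -- the preimage of the coimage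
  obtain ⟨ρ, hρ, hρeq, hχ⟩ := preimage_data_explicit k hdim hreg _ hS hE hcG₀ hcQ
    (Abelian.coimage g) hcI (Abelian.factorThruCoimage g)
  change ρ = gRank G₀ + gRank (Abelian.coimage g) at hρeq
  change Curv2.euler k C (kernel (cokernel.π j₀ ≫ cokernel.π (Abelian.factorThruCoimage g))) =
    Curv2.euler k C G₀ + Curv2.euler k C (Abelian.coimage g) at hχ
  rw [gRank_of_rank _ hG₀] at hρeq
  -- the preimage is invariant
  obtain ⟨φQ', hφQ'⟩ := exists_desc_of_invSubF (DCoh.tensorRightMod L) φQ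
    (Abelian.factorThruCoimage g) hIinv
  have hpre : IsInvSub L φ
      (kernel.ι (cokernel.π j₀ ≫ cokernel.π (Abelian.factorThruCoimage g))) :=
    (invSubF_kernel_coimage (DCoh.tensorRightMod L) hTex φ φQ'
      (cokernel.π j₀ ≫ cokernel.π (Abelian.factorThruCoimage g)) (by
        rw [Category.assoc, hφQ', ← Category.assoc, hφQ, Category.assoc,
          CategoryTheory.Functor.map_comp])).1
  have hρpos : 0 < ρ := by omega
  obtain ⟨hle', hrk'⟩ := hmax _ ρ _ inferInstance hρpos hρ hpre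
  -- the kernel
  have hKle : Curv2.deg k C (kernel g) rK * (r₀ : ℤ) ≤ Curv2.deg k C G₀ r₀ * (rK : ℤ) := by
    rcases Nat.eq_zero_or_pos rK with h0 | hpos
    · subst h0
      rw [deg_of_isZero k (isZero_of_rank_zero _ hK)]
      simp
    · exact (hmax _ rK (kernel.ι g ≫ j₀) (mono_comp _ _) hpos hK hKinv').1
  -- degrees
  have hdG' : Curv2.deg k C (kernel (cokernel.π j₀ ≫ cokernel.π (Abelian.factorThruCoimage g))) ρ
      = 2 * Curv2.deg k C G₀ r₀ - Curv2.deg k C (kernel g) rK := by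
    unfold Curv2.deg
    rw [hχ, hρeq, eK]
    have : (r₀ : ℤ) = (rK : ℤ) + (gRank (Abelian.coimage g) : ℤ) := by exact_mod_cast gK
    push_cast
    rw [this]
    ring
  have hρZ : (ρ : ℤ) = 2 * (r₀ : ℤ) - (rK : ℤ) := by
    have h1 : (ρ : ℤ) = (r₀ : ℤ) + (gRank (Abelian.coimage g) : ℤ) := by exact_mod_cast hρeq
    have h2 : (r₀ : ℤ) = (rK : ℤ) + (gRank (Abelian.coimage g) : ℤ) := by exact_mod_cast gK
    linarith
  rw [hdG', hρZ] at hle' hrk'
  have heq : Curv2.deg k C (kernel g) rK * (r₀ : ℤ) = Curv2.deg k C G₀ r₀ * (rK : ℤ) := by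
    nlinarith
  have hρle : ρ ≤ r₀ := hrk' (by nlinarith)
  have hrKeq : rK = r₀ := by omega
  subst hrKeq
  have hr₀Z : (0 : ℤ) < (rK : ℤ) := by exact_mod_cast hr₀
  have hdeq : Curv2.deg k C (kernel g) rK = Curv2.deg k C G₀ rK := mul_right_cancel₀ hr₀Z.ne' heq
  haveI := isIso_of_mono_of_rank_deg_eq k hdim (kernel.ι g) hK hG₀ hdeq
  rw [← cancel_epi (kernel.ι g), kernel.condition, comp_zero]

/-- S16005 in general form -/
theorem main16005 (hdim : topologicalKrullDim C = 1)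
    (hreg : ∀ x : C, IsRegularLocalRing (C.presheaf.stalk x))
    (L : C.Modules) (hL : PicF.IsInvertible L)
    (r : ℕ) (hr : 0 < r) (E : C.Modules) (hE : FlatMod.IsFinLocFreeOfRank r E)
    (φ : E ⟶ (DCoh.tensorRightMod L).obj E) (ψ : E ⟶ E)
    (hcomm : ψ ≫ φ = φ ≫ (DCoh.tensorRightMod L).map ψ) :
    (∀ (G : C.Modules) (n : ℕ) (j : G ⟶ E) (χ : G ⟶ (DCoh.tensorRightMod L).obj G) (ψ' : G ⟶ G),
      Mono j → 0 < n → FlatMod.IsFinLocFreeOfRank n G →
      χ ≫ (DCoh.tensorRightMod L).map j = j ≫ φ → ψ' ≫ j = j ≫ ψ →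
      Curv2.deg k C G n * (r : ℤ) ≤ Curv2.deg k C E r * (n : ℤ)) ↔
    (∀ (G : C.Modules) (n : ℕ) (j : G ⟶ E) (χ : G ⟶ (DCoh.tensorRightMod L).obj G),
      Mono j → 0 < n → FlatMod.IsFinLocFreeOfRank n G →
      χ ≫ (DCoh.tensorRightMod L).map j = j ≫ φ →
      Curv2.deg k C G n * (r : ℤ) ≤ Curv2.deg k C E r * (n : ℤ)) := by
  constructor
  · intro h G n j χ hj hn hG hχ
    obtain ⟨G₀, r₀, j₀, hj₀, hr₀, hG₀, ⟨χ₀, hχ₀⟩, ⟨ψ', hψ'⟩, hmax⟩ :=
      exists_maxInv_endInvariant k hdim hreg L hL r hr E hE φ ψ hcomm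
    have h1 := h G₀ r₀ j₀ χ₀ ψ' hj₀ hr₀ hG₀ hχ₀ hψ'
    have h2 := hmax G n j hj hn hG ⟨χ, hχ⟩
    have hr₀Z : (0 : ℤ) < (r₀ : ℤ) := by exact_mod_cast hr₀
    have hrZ : (0 : ℤ) < (r : ℤ) := by exact_mod_cast hr
    have h5 : (Curv2.deg k C G n * (r : ℤ)) * (r₀ : ℤ) ≤ (Curv2.deg k C E r * (n : ℤ)) * (r₀ : ℤ) := by
      calc (Curv2.deg k C G n * (r : ℤ)) * (r₀ : ℤ)
          = (Curv2.deg k C G n * (r₀ : ℤ)) * (r : ℤ) := by ring
        _ ≤ (Curv2.deg k C G₀ r₀ * (n : ℤ)) * (r : ℤ) := mul_le_mul_of_nonneg_right h2 hrZ.le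
        _ = (Curv2.deg k C G₀ r₀ * (r : ℤ)) * (n : ℤ) := by ring
        _ ≤ (Curv2.deg k C E r * (r₀ : ℤ)) * (n : ℤ) :=
            mul_le_mul_of_nonneg_right h1 (Int.natCast_nonneg _)
        _ = (Curv2.deg k C E r * (n : ℤ)) * (r₀ : ℤ) := by ring
    exact le_of_mul_le_mul_right h5 hr₀Z
  · intro h G n j χ ψ' hj hn hG hχ _
    exact h G n j χ hj hn hG hχ

end Main

end Groth.Agent.Helper4.SN
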