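import Mathlib
import Groth.Agent.Helper4.SN126

/-!
# Quotients of semistable twisted pairs by invariant submodules of the same slope (S15328)
-/

set_option autoImplicit false
set_option linter.unusedSectionVars false
set_option linter.style.haveILetI false
universe u

open CategoryTheory CategoryTheory.Limits AlgebraicGeometry TopologicalSpace Opposite

namespace Groth.Agent.Helper4.SN

section Main

variable (k : Type u) [Field k] {C : Scheme.{u}} [C.Over (Spec (CommRingCat.of k))]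
  [IsIntegral C] [IsProper (C ↘ (Spec (CommRingCat.of k)))]

include k in
/-- the saturation of an invariant submodule is invariant; stated for a submodule `I₁ ⊃ F` of the
same rank with locally free cokernel -/
theorem invSub_of_saturation (hdim : topologicalKrullDim C = 1)
    (hreg : ∀ x : C, IsRegularLocalRing (C.presheaf.stalk x))
    (L : C.Modules) (hL : PicF.IsInvertible L)
    {r r' : ℕ} (E : C.Modules) (hE : FlatMod.IsFinLocFreeOfRank r E)
    (φ : E ⟶ (DCoh.tensorRightMod L).obj E)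
    (F : C.Modules) (hF : FlatMod.IsFinLocFreeOfRank r' F) (i : F ⟶ E) [Mono i]
    (hinv : IsInvSub L φ i)
    (I₁ : C.Modules) (hI₁ : FlatMod.IsFinLocFreeOfRank r' I₁) (i₁ : I₁ ⟶ E) [Mono i₁]
    (u : F ⟶ I₁) (hu : u ≫ i₁ = i) (hlf : FlatMod.IsFinLocFree (cokernel i₁)) :
    IsInvSub L φ i₁ := by
  have hQ₁ := isFinLocFreeOfRank_of_isFinLocFree _ hlf
  have hTQ₁ := isFinLocFreeOfRank_tensor_invertible _ L _ hQ₁ hL
  have hS := cokernel_shortExact i₁
  have hTS := Groth.Agent.Helper1.TwistExact.shortExact_map_tensorRightMod hS L hL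
  haveI := hTS.mono_f
  obtain ⟨χF, hχF⟩ := hinv
  obtain ⟨c, hc⟩ : ∃ c : I₁ ⟶ CohB1.tensorMod (cokernel i₁) L,
      c = (i₁ ≫ φ) ≫ (DCoh.tensorRightMod L).map (cokernel.π i₁) := ⟨_, rfl⟩
  have hc0 : c = 0 := by
    obtain ⟨rK, rI, hK, hI, hrk, -, -⟩ := ker_coim_data k hdim hreg hI₁ hTQ₁ c
    have huc : u ≫ c = 0 := by
      have h1 : u ≫ (i₁ ≫ φ) ≫ (DCoh.tensorRightMod L).map (cokernel.π i₁) = 0 := by
        rw [← Category.assoc, ← Category.assoc, hu, ← hχF, Category.assoc,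
          ← CategoryTheory.Functor.map_comp, ← hu, Category.assoc, cokernel.condition, comp_zero,
          CategoryTheory.Functor.map_zero, comp_zero]
      rw [hc]
      exact h1
    haveI : Mono (u ≫ i₁) := by rw [hu]; infer_instance
    haveI : Mono u := mono_of_mono u i₁
    haveI : Mono (kernel.lift c u huc) := mono_of_mono_fac (kernel.lift_ι c u huc)
    have hle := rank_le_of_mono (kernel.lift c u huc) hF hK
    have hrI : rI = 0 := by omega
    subst hrI
    exact eq_zero_of_coimage_rank_zero c hI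
  have hz : (i₁ ≫ φ) ≫ (DCoh.tensorRightMod L).map (cokernel.π i₁) = 0 := by
    rw [← hc]; exact hc0
  exact ⟨hTS.exact.lift (i₁ ≫ φ) hz, hTS.exact.lift_f _ hz⟩

/-- S15328 in general form -/
theorem main15328 (hdim : topologicalKrullDim C = 1)
    (hreg : ∀ x : C, IsRegularLocalRing (C.presheaf.stalk x))
    (L : C.Modules) (hL : PicF.IsInvertible L)
    (r : ℕ) (hr : 0 < r) (E : C.Modules) (hE : FlatMod.IsFinLocFreeOfRank r E)
    (φ : E ⟶ (DCoh.tensorRightMod L).obj E)
    (hss : ∀ (G : C.Modules) (s : ℕ) (j : G ⟶ E), Mono j → 0 < s →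
      FlatMod.IsFinLocFreeOfRank s G → IsInvSub L φ j →
      Curv2.deg k C G s * (r : ℤ) ≤ Curv2.deg k C E r * (s : ℤ))
    (F : C.Modules) (r' : ℕ) (hr' : 0 < r') (hF : FlatMod.IsFinLocFreeOfRank r' F)
    (i : F ⟶ E) [Mono i] (hinv : IsInvSub L φ i)
    (hslope : Curv2.deg k C F r' * (r : ℤ) = Curv2.deg k C E r * (r' : ℤ)) :
    r' ≤ r ∧ FlatMod.IsFinLocFreeOfRank (r - r') (cokernel i) ∧
    Curv2.deg k C E r = Curv2.deg k C F r' + Curv2.deg k C (cokernel i) (r - r') ∧
    Curv2.deg k C (cokernel i) (r - r') * (r : ℤ) = Curv2.deg k C E r * ((r - r' : ℕ) : ℤ) ∧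
    ∀ (φ' : cokernel i ⟶ (DCoh.tensorRightMod L).obj (cokernel i)),
      cokernel.π i ≫ φ' = φ ≫ (DCoh.tensorRightMod L).map (cokernel.π i) →
      ∀ (G : C.Modules) (s : ℕ) (j : G ⟶ cokernel i), Mono j → 0 < s →
        FlatMod.IsFinLocFreeOfRank s G → IsInvSub L φ' j →
        Curv2.deg k C G s * ((r - r' : ℕ) : ℤ) ≤ Curv2.deg k C (cokernel i) (r - r') * (s : ℤ) := by
  haveI := Groth.Agent.Helper4.NApx82.isNoetherian_of_proper k C
  have hrZ : (0 : ℤ) < (r : ℤ) := by exact_mod_cast hr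
  have hTex : ∀ S : ShortComplex C.Modules, S.ShortExact →
      (S.map (DCoh.tensorRightMod L)).ShortExact :=
    fun _ hS => Groth.Agent.Helper1.TwistExact.shortExact_map_tensorRightMod hS L hL
  have hcE : Coh.IsCoh E := Groth.Agent.Lead.PerfLib.isCoh_of_isFinLocFree
    (FinLocFree7.isFinLocFree_of_rank _ hE)
  have hcF : Coh.IsCoh F := Groth.Agent.Lead.PerfLib.isCoh_of_isFinLocFree
    (FinLocFree7.isFinLocFree_of_rank _ hF)
  have hcQ : Coh.IsCoh (cokernel i) := Groth.Agent.Lead.PerfLib.isCoh_cokernel hcF hcE i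
  -- the cokernel is locally free
  obtain ⟨I₁, i₁, u, hi₁, hu, hI₁, hle, hlf⟩ := exists_saturation k hdim hreg E F hE hF i
  haveI := hi₁
  have hinv₁ := invSub_of_saturation k hdim hreg L hL E hE φ F hF i hinv I₁ hI₁ i₁ u hu hlf
  have h1 := hss I₁ r' i₁ hi₁ hr' hI₁ hinv₁
  rw [← hslope] at h1
  have hdeq : Curv2.deg k C F r' = Curv2.deg k C I₁ r' :=
    le_antisymm hle (le_of_mul_le_mul_right h1 hrZ)
  haveI : Mono (u ≫ i₁) := by rw [hu]; infer_instance
  haveI : Mono u := mono_of_mono u i₁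
  haveI : IsIso u := isIso_of_mono_of_rank_deg_eq k hdim u hF hI₁ hdeq
  let e : cokernel i ≅ cokernel i₁ := cokernelIsoOfEq hu.symm ≪≫ cokernelEpiComp u i₁
  have hQ₁ := isFinLocFreeOfRank_of_isFinLocFree _ hlf
  obtain ⟨s₀, hs₀⟩ : ∃ s₀ : ℕ, s₀ = Module.finrank (C.presheaf.stalk (genericPoint C))
      ((cokernel i₁).presheaf.stalk (genericPoint C)) := ⟨_, rfl⟩
  rw [← hs₀] at hQ₁
  have hQ : FlatMod.IsFinLocFreeOfRank s₀ (cokernel i) := isFinLocFreeOfRank_of_iso e.symm hQ₁
  have hS := cokernel_shortExact i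
  have hrk : r = r' + s₀ := rank_add_of_shortExact _ hS hF hE hQ
  have hs₀' : s₀ = r - r' := by omega
  subst hs₀'
  have hd : Curv2.deg k C E r = Curv2.deg k C F r' + Curv2.deg k C (cokernel i) (r - r') := by
    have := deg_add_of_shortExact k _ hS hcF hcE hcQ r' (r - r')
    rw [← hrk] at this
    exact this
  have hrkZ : (r : ℤ) = (r' : ℤ) + ((r - r' : ℕ) : ℤ) := by exact_mod_cast hrk
  have hsl : Curv2.deg k C (cokernel i) (r - r') * (r : ℤ)
      = Curv2.deg k C E r * ((r - r' : ℕ) : ℤ) := by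
    have e1 : Curv2.deg k C (cokernel i) (r - r') = Curv2.deg k C E r - Curv2.deg k C F r' := by
      linarith
    rw [e1, sub_mul, hslope]
    nth_rewrite 1 [hrkZ]
    ring
  refine ⟨by omega, hQ, hd, hsl, ?_⟩
  intro φ' hφ' G s j hj hs hG hGinv
  haveI := hj
  have hcG : Coh.IsCoh G := Groth.Agent.Lead.PerfLib.isCoh_of_isFinLocFree
    (FinLocFree7.isFinLocFree_of_rank _ hG)
  obtain ⟨ρ, hρ, hρeq, hχ⟩ := preimage_data_explicit k hdim hreg _ hS hE hcF hcQ G hcG j
  change ρ = gRank F + gRank G at hρeq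
  change Curv2.euler k C (kernel (cokernel.π i ≫ cokernel.π j)) =
    Curv2.euler k C F + Curv2.euler k C G at hχ
  rw [gRank_of_rank _ hF, gRank_of_rank _ hG] at hρeq
  subst hρeq
  obtain ⟨φ'', hφ''⟩ := exists_desc_of_invSubF (DCoh.tensorRightMod L) φ' j hGinv
  have hpre : IsInvSub L φ (kernel.ι (cokernel.π i ≫ cokernel.π j)) :=
    (invSubF_kernel_coimage (DCoh.tensorRightMod L) hTex φ φ''
      (cokernel.π i ≫ cokernel.π j) (by
        rw [Category.assoc, hφ'', ← Category.assoc, hφ', Category.assoc,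
          CategoryTheory.Functor.map_comp])).1
  have h2 := hss _ (r' + s) _ inferInstance (by omega) hρ hpre
  have hdG' : Curv2.deg k C (kernel (cokernel.π i ≫ cokernel.π j)) (r' + s)
      = Curv2.deg k C F r' + Curv2.deg k C G s := by
    unfold Curv2.deg
    rw [hχ]
    push_cast
    ring
  rw [hdG'] at h2
  push_cast at h2
  have h3 : Curv2.deg k C G s * (r : ℤ) ≤ Curv2.deg k C E r * (s : ℤ) := by
    have : (Curv2.deg k C F r' + Curv2.deg k C G s) * (r : ℤ)
      = Curv2.deg k C F r' * (r : ℤ) + Curv2.deg k C G s * (r : ℤ) := by ring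
    rw [this, hslope] at h2
    linarith
  have h4 : (Curv2.deg k C G s * ((r - r' : ℕ) : ℤ)) * (r : ℤ)
      ≤ (Curv2.deg k C (cokernel i) (r - r') * (s : ℤ)) * (r : ℤ) := by
    have e1 : (Curv2.deg k C (cokernel i) (r - r') * (s : ℤ)) * (r : ℤ)
        = (Curv2.deg k C E r * (s : ℤ)) * ((r - r' : ℕ) : ℤ) := by
      rw [mul_right_comm, hsl]; ring
    rw [e1]
    have : (Curv2.deg k C G s * ((r - r' : ℕ) : ℤ)) * (r : ℤ)
        = (Curv2.deg k C G s * (r : ℤ)) * ((r - r' : ℕ) : ℤ) := by ring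
    rw [this]
    exact mul_le_mul_of_nonneg_right h3 (Int.natCast_nonneg _)
  exact le_of_mul_le_mul_right h4 hrZ

end Main

end Groth.Agent.Helper4.SN
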