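import Mathlib
import Groth.Agent.Helper4.SN127

/-!
# Opposite invariant filtrations of semistable twisted pairs of the same slope (S15330)
-/

set_option autoImplicit false
set_option linter.unusedSectionVars false
set_option linter.style.haveILetI false
universe u

open CategoryTheory CategoryTheory.Limits AlgebraicGeometry TopologicalSpace Opposite

namespace Groth.Agent.Helper4.SN

section Main

variable (k : Type u) [Field k] {C : Scheme.{u}} [C.Over (Spec (CommRingCat.of k))]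
  [IsIntegral C] [IsProper (C ↘ (Spec (CommRingCat.of k)))]

/-- a zero module which is locally free of rank `n` has `n = 0` -/
theorem rank_eq_zero_of_isZero {n : ℕ} (M : C.Modules) (hM : FlatMod.IsFinLocFreeOfRank n M)
    (h0 : IsZero M) : n = 0 := by
  by_contra hn
  obtain ⟨b⟩ := nonempty_basis_stalk_of_rank M hM (genericPoint C)
  haveI := Groth.Agent.Helper4.SuppLib.subsingleton_stalk_of_isZero M h0 (genericPoint C)
  have h1 : b ⟨0, Nat.pos_of_ne_zero hn⟩ ≠ 0 := b.ne_zero _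
  exact h1 (Subsingleton.elim _ _)

/-- S15328 in general form, allowing a submodule of rank zero -/
theorem main15328_gen (hdim : topologicalKrullDim C = 1)
    (hreg : ∀ x : C, IsRegularLocalRing (C.presheaf.stalk x))
    (L : C.Modules) (hL : PicF.IsInvertible L)
    (r : ℕ) (hr : 0 < r) (E : C.Modules) (hE : FlatMod.IsFinLocFreeOfRank r E)
    (φ : E ⟶ (DCoh.tensorRightMod L).obj E)
    (hss : ∀ (G : C.Modules) (s : ℕ) (j : G ⟶ E), Mono j → 0 < s →
      FlatMod.IsFinLocFreeOfRank s G → IsInvSub L φ j →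
      Curv2.deg k C G s * (r : ℤ) ≤ Curv2.deg k C E r * (s : ℤ))
    (F : C.Modules) (r' : ℕ) (hF : FlatMod.IsFinLocFreeOfRank r' F)
    (i : F ⟶ E) [Mono i] (hinv : IsInvSub L φ i)
    (hslope : Curv2.deg k C F r' * (r : ℤ) = Curv2.deg k C E r * (r' : ℤ)) :
    r' ≤ r ∧ FlatMod.IsFinLocFreeOfRank (r - r') (cokernel i) ∧
    Curv2.deg k C E r = Curv2.deg k C F r' + Curv2.deg k C (cokernel i) (r - r') ∧
    Curv2.deg k C (cokernel i) (r - r') * (r : ℤ) = Curv2.deg k C E r * ((r - r' : ℕ) : ℤ) ∧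
    ∀ (φ' : cokernel i ⟶ (DCoh.tensorRightMod L).obj (cokernel i)),
      cokernel.π i ≫ φ' = φ ≫ (DCoh.tensorRightMod L).map (cokernel.π i) →
      ∀ (G : C.Modules) (s : ℕ) (j : G ⟶ cokernel i), Mono j → 0 < s →
        FlatMod.IsFinLocFreeOfRank s G → IsInvSub L φ' j →
        Curv2.deg k C G s * ((r - r' : ℕ) : ℤ) ≤ Curv2.deg k C (cokernel i) (r - r') * (s : ℤ) := by
  haveI := Groth.Agent.Helper4.NApx82.isNoetherian_of_proper k C
  have hrZ : (0 : ℤ) < (r : ℤ) := by exact_mod_cast hr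
  have hTex : ∀ S : ShortComplex C.Modules, S.ShortExact →
      (S.map (DCoh.tensorRightMod L)).ShortExact :=
    fun _ hS => Groth.Agent.Helper1.TwistExact.shortExact_map_tensorRightMod hS L hL
  have hcE : Coh.IsCoh E := Groth.Agent.Lead.PerfLib.isCoh_of_isFinLocFree
    (FinLocFree7.isFinLocFree_of_rank _ hE)
  have hcF : Coh.IsCoh F := Groth.Agent.Lead.PerfLib.isCoh_of_isFinLocFree
    (FinLocFree7.isFinLocFree_of_rank _ hF)
  have hcQ : Coh.IsCoh (cokernel i) := Groth.Agent.Lead.PerfLib.isCoh_cokernel hcF hcE i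
  -- the cokernel is locally free
  obtain ⟨I₁, i₁, u, hi₁, hu, hI₁, hle, hlf⟩ := exists_saturation k hdim hreg E F hE hF i
  haveI := hi₁
  have hinv₁ := invSub_of_saturation k hdim hreg L hL E hE φ F hF i hinv I₁ hI₁ i₁ u hu hlf
  have hdeq : Curv2.deg k C F r' = Curv2.deg k C I₁ r' := by
    rcases Nat.eq_zero_or_pos r' with h0 | hr'
    · subst h0
      rw [deg_of_isZero k (isZero_of_rank_zero _ hF), deg_of_isZero k (isZero_of_rank_zero _ hI₁)]
    · have h1 := hss I₁ r' i₁ hi₁ hr' hI₁ hinv₁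
      rw [← hslope] at h1
      exact le_antisymm hle (le_of_mul_le_mul_right h1 hrZ)
  haveI : Mono (u ≫ i₁) := by rw [hu]; infer_instance
  haveI : Mono u := mono_of_mono u i₁
  haveI : IsIso u := isIso_of_mono_of_rank_deg_eq k hdim u hF hI₁ hdeq
  let e : cokernel i ≅ cokernel i₁ := cokernelIsoOfEq hu.symm ≪≫ cokernelEpiComp u i₁
  have hQ₁ := isFinLocFreeOfRank_of_isFinLocFree _ hlf
  obtain ⟨s₀, hs₀⟩ : ∃ s₀ : ℕ, s₀ = Module.finrank (C.presheaf.stalk (genericPoint C))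
      ((cokernel i₁).presheaf.stalk (genericPoint C)) := ⟨_, rfl⟩
  rw [← hs₀] at hQ₁
  have hQ : FlatMod.IsFinLocFreeOfRank s₀ (cokernel i) := isFinLocFreeOfRank_of_iso e.symm hQ₁
  have hS := cokernel_shortExact i
  have hrk : r = r' + s₀ := rank_add_of_shortExact _ hS hF hE hQ
  have hs₀' : s₀ = r - r' := by omega
  subst hs₀'
  have hd : Curv2.deg k C E r = Curv2.deg k C F r' + Curv2.deg k C (cokernel i) (r - r') := by
    have := deg_add_of_shortExact k _ hS hcF hcE hcQ r' (r - r')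
    rw [← hrk] at this
    exact this
  have hrkZ : (r : ℤ) = (r' : ℤ) + ((r - r' : ℕ) : ℤ) := by exact_mod_cast hrk
  have hsl : Curv2.deg k C (cokernel i) (r - r') * (r : ℤ)
      = Curv2.deg k C E r * ((r - r' : ℕ) : ℤ) := by
    have e1 : Curv2.deg k C (cokernel i) (r - r') = Curv2.deg k C E r - Curv2.deg k C F r' := by
      linarith
    rw [e1, sub_mul, hslope]
    nth_rewrite 1 [hrkZ]
    ring
  refine ⟨by omega, hQ, hd, hsl, ?_⟩
  intro φ' hφ' G s j hj hs hG hGinv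
  haveI := hj
  have hcG : Coh.IsCoh G := Groth.Agent.Lead.PerfLib.isCoh_of_isFinLocFree
    (FinLocFree7.isFinLocFree_of_rank _ hG)
  obtain ⟨ρ, hρ, hρeq, hχ⟩ := preimage_data_explicit k hdim hreg _ hS hE hcF hcQ G hcG j
  change ρ = gRank F + gRank G at hρeq
  change Curv2.euler k C (kernel (cokernel.π i ≫ cokernel.π j)) =
    Curv2.euler k C F + Curv2.euler k C G at hχ
  rw [gRank_of_rank _ hF, gRank_of_rank _ hG] at hρeq
  subst hρeq
  obtain ⟨φ'', hφ''⟩ := exists_desc_of_invSubF (DCoh.tensorRightMod L) φ' j hGinv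
  have hpre : IsInvSub L φ (kernel.ι (cokernel.π i ≫ cokernel.π j)) :=
    (invSubF_kernel_coimage (DCoh.tensorRightMod L) hTex φ φ''
      (cokernel.π i ≫ cokernel.π j) (by
        rw [Category.assoc, hφ'', ← Category.assoc, hφ', Category.assoc,
          CategoryTheory.Functor.map_comp])).1
  have h2 := hss _ (r' + s) _ inferInstance (by omega) hρ hpre
  have hdG' : Curv2.deg k C (kernel (cokernel.π i ≫ cokernel.π j)) (r' + s)
      = Curv2.deg k C F r' + Curv2.deg k C G s := by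
    unfold Curv2.deg
    rw [hχ]
    push_cast
    ring
  rw [hdG'] at h2
  push_cast at h2
  have h3 : Curv2.deg k C G s * (r : ℤ) ≤ Curv2.deg k C E r * (s : ℤ) := by
    have : (Curv2.deg k C F r' + Curv2.deg k C G s) * (r : ℤ)
      = Curv2.deg k C F r' * (r : ℤ) + Curv2.deg k C G s * (r : ℤ) := by ring
    rw [this, hslope] at h2
    linarith
  have h4 : (Curv2.deg k C G s * ((r - r' : ℕ) : ℤ)) * (r : ℤ)
      ≤ (Curv2.deg k C (cokernel i) (r - r') * (s : ℤ)) * (r : ℤ) := by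
    have e1 : (Curv2.deg k C (cokernel i) (r - r') * (s : ℤ)) * (r : ℤ)
        = (Curv2.deg k C E r * (s : ℤ)) * ((r - r' : ℕ) : ℤ) := by
      rw [mul_right_comm, hsl]; ring
    rw [e1]
    have : (Curv2.deg k C G s * ((r - r' : ℕ) : ℤ)) * (r : ℤ)
        = (Curv2.deg k C G s * (r : ℤ)) * ((r - r' : ℕ) : ℤ) := by ring
    rw [this]
    exact mul_le_mul_of_nonneg_right h3 (Int.natCast_nonneg _)
  exact le_of_mul_le_mul_right h4 hrZ

/-- S15330 in general form -/
theorem main15330 (hdim : topologicalKrullDim C = 1)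
    (hreg : ∀ x : C, IsRegularLocalRing (C.presheaf.stalk x))
    (L : C.Modules) (hL : PicF.IsInvertible L) (r : ℕ) (hr : 0 < r) (d : ℤ)
    (E : C.Modules) (hE : FlatMod.IsFinLocFreeOfRank r E)
    (φE : E ⟶ (DCoh.tensorRightMod L).obj E)
    (hEd : Curv2.deg k C E r = d)
    (hEss : (∀ (G : C.Modules) (s : ℕ) (j : G ⟶ E) (χ : G ⟶ (DCoh.tensorRightMod L).obj G),
        Mono j → 0 < s → FlatMod.IsFinLocFreeOfRank s G →
        χ ≫ (DCoh.tensorRightMod L).map j = j ≫ φE →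
        Curv2.deg k C G s * (r : ℤ) ≤ Curv2.deg k C E r * (s : ℤ)))
    (F : C.Modules) (hF : FlatMod.IsFinLocFreeOfRank r F)
    (φF : F ⟶ (DCoh.tensorRightMod L).obj F)
    (hFd : Curv2.deg k C F r = d)
    (hFss : (∀ (G : C.Modules) (s : ℕ) (j : G ⟶ F) (χ : G ⟶ (DCoh.tensorRightMod L).obj G),
        Mono j → 0 < s → FlatMod.IsFinLocFreeOfRank s G →
        χ ≫ (DCoh.tensorRightMod L).map j = j ≫ φF →
        Curv2.deg k C G s * (r : ℤ) ≤ Curv2.deg k C F r * (s : ℤ)))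
    (n : ℕ)
    (Es : ℕ → C.Modules) (rE : ℕ → ℕ) (hEs : ∀ i, FlatMod.IsFinLocFreeOfRank (rE i) (Es i))
    (ιE : ∀ i, Es i ⟶ E) (hιE : ∀ i, Mono (ιE i))
    (ψE : ∀ i, Es i ⟶ (DCoh.tensorRightMod L).obj (Es i))
    (hψE : ∀ i, ψE i ≫ (DCoh.tensorRightMod L).map (ιE i) = ιE i ≫ φE)
    (a : ∀ i, Es i ⟶ Es (i + 1)) (ha : ∀ i, a i ≫ ιE (i + 1) = ιE i)
    (hE0 : IsZero (Es 0)) (hEn : IsIso (ιE n))
    (Fs : ℕ → C.Modules) (rF : ℕ → ℕ) (hFs : ∀ i, FlatMod.IsFinLocFreeOfRank (rF i) (Fs i))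
    (ιF : ∀ i, Fs i ⟶ F) (hιF : ∀ i, Mono (ιF i))
    (ψF : ∀ i, Fs i ⟶ (DCoh.tensorRightMod L).obj (Fs i))
    (hψF : ∀ i, ψF i ≫ (DCoh.tensorRightMod L).map (ιF i) = ιF i ≫ φF)
    (b : ∀ i, Fs (i + 1) ⟶ Fs i) (hb : ∀ i, b i ≫ ιF i = ιF (i + 1))
    (hF0 : IsIso (ιF 0)) (hFn : IsZero (Fs n))
    (hrk : ∀ i, i ≤ n → rE i + rF i = r)
    (hopp : ∀ i, i < n → Nonempty (cokernel (a i) ≅ cokernel (b i))) :
    (∀ i, i ≤ n → 0 < rE i →
      Curv2.deg k C (Es i) (rE i) * (r : ℤ) = d * (rE i : ℤ) ∧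
      (∀ (G : C.Modules) (s : ℕ) (j : G ⟶ (Es i)) (χ : G ⟶ (DCoh.tensorRightMod L).obj G),
        Mono j → 0 < s → FlatMod.IsFinLocFreeOfRank s G →
        χ ≫ (DCoh.tensorRightMod L).map j = j ≫ ψE i →
        Curv2.deg k C G s * (rE i : ℤ) ≤ Curv2.deg k C (Es i) (rE i) * (s : ℤ))) ∧
    (∀ i, i ≤ n → 0 < rF i →
      Curv2.deg k C (Fs i) (rF i) * (r : ℤ) = d * (rF i : ℤ) ∧
      (∀ (G : C.Modules) (s : ℕ) (j : G ⟶ (Fs i)) (χ : G ⟶ (DCoh.tensorRightMod L).obj G),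
        Mono j → 0 < s → FlatMod.IsFinLocFreeOfRank s G →
        χ ≫ (DCoh.tensorRightMod L).map j = j ≫ ψF i →
        Curv2.deg k C G s * (rF i : ℤ) ≤ Curv2.deg k C (Fs i) (rF i) * (s : ℤ))) ∧
    (∀ i, i < n → rE i < rE (i + 1) →
      FlatMod.IsFinLocFreeOfRank (rE (i + 1) - rE i) (cokernel (a i)) ∧
      Curv2.deg k C (cokernel (a i)) (rE (i + 1) - rE i) * (r : ℤ)
        = d * ((rE (i + 1) - rE i : ℕ) : ℤ) ∧
      ∀ (φ' : cokernel (a i) ⟶ (DCoh.tensorRightMod L).obj (cokernel (a i))),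
        cokernel.π (a i) ≫ φ' = ψE (i + 1) ≫ (DCoh.tensorRightMod L).map (cokernel.π (a i)) →
        (∀ (G : C.Modules) (s : ℕ) (j : G ⟶ cokernel (a i))
          (χ : G ⟶ (DCoh.tensorRightMod L).obj G), Mono j → 0 < s →
        FlatMod.IsFinLocFreeOfRank s G →
        χ ≫ (DCoh.tensorRightMod L).map j = j ≫ φ' →
        Curv2.deg k C G s * ((rE (i + 1) - rE i : ℕ) : ℤ)
          ≤ Curv2.deg k C (cokernel (a i)) (rE (i + 1) - rE i) * (s : ℤ))) := by
  haveI := Groth.Agent.Helper4.NApx82.isNoetherian_of_proper k C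
  have hrZ : (0 : ℤ) < (r : ℤ) := by exact_mod_cast hr
  haveI := hιE
  haveI := hιF
  haveI ha_mono : ∀ i, Mono (a i) := fun i => by
    haveI : Mono (a i ≫ ιE (i + 1)) := by rw [ha]; infer_instance
    exact mono_of_mono (a i) (ιE (i + 1))
  haveI hb_mono : ∀ i, Mono (b i) := fun i => by
    haveI : Mono (b i ≫ ιF i) := by rw [hb]; infer_instance
    exact mono_of_mono (b i) (ιF i)
  have hcEs : ∀ i, Coh.IsCoh (Es i) := fun i => Groth.Agent.Lead.PerfLib.isCoh_of_isFinLocFree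
    (FinLocFree7.isFinLocFree_of_rank _ (hEs i))
  have hcFs : ∀ i, Coh.IsCoh (Fs i) := fun i => Groth.Agent.Lead.PerfLib.isCoh_of_isFinLocFree
    (FinLocFree7.isFinLocFree_of_rank _ (hFs i))
  have hrEmono : ∀ i, rE i ≤ rE (i + 1) := fun i => rank_le_of_mono (a i) (hEs i) (hEs (i + 1))
  have hrFmono : ∀ i, rF (i + 1) ≤ rF i := fun i => rank_le_of_mono (b i) (hFs (i + 1)) (hFs i)
  have hrE0 : rE 0 = 0 := rank_eq_zero_of_isZero _ (hEs 0) hE0
  -- the degrees along the two chains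
  have hstep : ∀ i, i < n →
      Curv2.deg k C (Es (i + 1)) (rE (i + 1)) + Curv2.deg k C (Fs (i + 1)) (rF (i + 1))
        = Curv2.deg k C (Es i) (rE i) + Curv2.deg k C (Fs i) (rF i) := by
    intro i hi
    obtain ⟨e⟩ := hopp i hi
    have h1 := deg_add_of_shortExact k _ (cokernel_shortExact (a i)) (hcEs i) (hcEs (i + 1))
      (Groth.Agent.Lead.PerfLib.isCoh_cokernel (hcEs i) (hcEs (i + 1)) (a i))
      (rE i) (rE (i + 1) - rE i)
    have h2 := deg_add_of_shortExact k _ (cokernel_shortExact (b i)) (hcFs (i + 1)) (hcFs i)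
      (Groth.Agent.Lead.PerfLib.isCoh_cokernel (hcFs (i + 1)) (hcFs i) (b i))
      (rF (i + 1)) (rE (i + 1) - rE i)
    have e1 : rE i + (rE (i + 1) - rE i) = rE (i + 1) := Nat.add_sub_cancel' (hrEmono i)
    have e2 : rF (i + 1) + (rE (i + 1) - rE i) = rF i := by
      have := hrk i hi.le
      have := hrk (i + 1) hi
      have := hrEmono i
      omega
    rw [e1] at h1
    rw [e2] at h2
    change Curv2.deg k C (Es (i + 1)) (rE (i + 1)) = Curv2.deg k C (Es i) (rE i) +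
      Curv2.deg k C (cokernel (a i)) (rE (i + 1) - rE i) at h1
    change Curv2.deg k C (Fs i) (rF i) = Curv2.deg k C (Fs (i + 1)) (rF (i + 1)) +
      Curv2.deg k C (cokernel (b i)) (rE (i + 1) - rE i) at h2
    rw [deg_iso k e (rE (i + 1) - rE i)] at h1
    linarith
  have hsum : ∀ i, i ≤ n →
      Curv2.deg k C (Es i) (rE i) + Curv2.deg k C (Fs i) (rF i) = d := by
    intro i
    induction i with
    | zero =>
      intro _
      have h1 : Curv2.deg k C (Es 0) (rE 0) = 0 := by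
        rw [hrE0]; exact deg_of_isZero k hE0
      have h2 : rF 0 = r := by
        have := hrk 0 (Nat.zero_le n)
        omega
      rw [h1, h2, zero_add, deg_iso k (asIso (ιF 0)) r, hFd]
    | succ i ih =>
      intro hi
      rw [hstep i hi]
      exact ih (Nat.le_of_succ_le hi)
  -- the inequalities from semistability
  have hleE : ∀ i, Curv2.deg k C (Es i) (rE i) * (r : ℤ) ≤ d * (rE i : ℤ) := by
    intro i
    rcases Nat.eq_zero_or_pos (rE i) with h0 | hpos
    · have hz : IsZero (Es i) := isZero_of_rank_zero _ (by rw [← h0]; exact hEs i)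
      rw [h0, deg_of_isZero k hz]
      simp
    · rw [← hEd]
      exact hEss (Es i) (rE i) (ιE i) (ψE i) inferInstance hpos (hEs i) (hψE i)
  have hleF : ∀ i, Curv2.deg k C (Fs i) (rF i) * (r : ℤ) ≤ d * (rF i : ℤ) := by
    intro i
    rcases Nat.eq_zero_or_pos (rF i) with h0 | hpos
    · have hz : IsZero (Fs i) := isZero_of_rank_zero _ (by rw [← h0]; exact hFs i)
      rw [h0, deg_of_isZero k hz]
      simp
    · rw [← hFd]
      exact hFss (Fs i) (rF i) (ιF i) (ψF i) inferInstance hpos (hFs i) (hψF i)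
  have heq : ∀ i, i ≤ n → Curv2.deg k C (Es i) (rE i) * (r : ℤ) = d * (rE i : ℤ) ∧
      Curv2.deg k C (Fs i) (rF i) * (r : ℤ) = d * (rF i : ℤ) := by
    intro i hi
    have h1 := hsum i hi
    have h2 : ((rE i : ℤ) + (rF i : ℤ)) = (r : ℤ) := by exact_mod_cast hrk i hi
    have h3 : (Curv2.deg k C (Es i) (rE i) + Curv2.deg k C (Fs i) (rF i)) * (r : ℤ)
        = d * ((rE i : ℤ) + (rF i : ℤ)) := by rw [h1, h2]
    have := hleE i
    have := hleF i
    constructor <;> linarith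
  -- semistability of the pieces
  have hssE : ∀ i, i ≤ n → 0 < rE i →
      ∀ (G : C.Modules) (s : ℕ) (j : G ⟶ (Es i)) (χ : G ⟶ (DCoh.tensorRightMod L).obj G),
        Mono j → 0 < s → FlatMod.IsFinLocFreeOfRank s G →
        χ ≫ (DCoh.tensorRightMod L).map j = j ≫ ψE i →
        Curv2.deg k C G s * (rE i : ℤ) ≤ Curv2.deg k C (Es i) (rE i) * (s : ℤ) := by
    intro i hi hpos G s j χ hj hs hG hχ
    haveI := hj
    have h1 := hEss G s (j ≫ ιE i) χ (mono_comp _ _) hs hG (by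
      rw [CategoryTheory.Functor.map_comp, ← Category.assoc, hχ, Category.assoc, hψE,
        Category.assoc])
    rw [hEd] at h1
    exact slope_transfer hrZ (Int.natCast_nonneg _) h1 (heq i hi).1.symm
  have hssF : ∀ i, i ≤ n → 0 < rF i →
      ∀ (G : C.Modules) (s : ℕ) (j : G ⟶ (Fs i)) (χ : G ⟶ (DCoh.tensorRightMod L).obj G),
        Mono j → 0 < s → FlatMod.IsFinLocFreeOfRank s G →
        χ ≫ (DCoh.tensorRightMod L).map j = j ≫ ψF i →
        Curv2.deg k C G s * (rF i : ℤ) ≤ Curv2.deg k C (Fs i) (rF i) * (s : ℤ) := by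
    intro i hi hpos G s j χ hj hs hG hχ
    haveI := hj
    have h1 := hFss G s (j ≫ ιF i) χ (mono_comp _ _) hs hG (by
      rw [CategoryTheory.Functor.map_comp, ← Category.assoc, hχ, Category.assoc, hψF,
        Category.assoc])
    rw [hFd] at h1
    exact slope_transfer hrZ (Int.natCast_nonneg _) h1 (heq i hi).2.symm
  refine ⟨fun i hi hpos => ⟨(heq i hi).1, hssE i hi hpos⟩,
    fun i hi hpos => ⟨(heq i hi).2, hssF i hi hpos⟩, ?_⟩
  intro i hi hlt
  have hpos : 0 < rE (i + 1) := by omega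
  have hposZ : (0 : ℤ) < (rE (i + 1) : ℤ) := by exact_mod_cast hpos
  haveI : Mono ((DCoh.tensorRightMod L).map (ιE (i + 1))) := mono_map_tensorRightMod L hL _
  have hinv : IsInvSub L (ψE (i + 1)) (a i) := ⟨ψE i, by
    rw [← cancel_mono ((DCoh.tensorRightMod L).map (ιE (i + 1))), Category.assoc,
      ← CategoryTheory.Functor.map_comp, ha, hψE, Category.assoc, hψE, ← Category.assoc, ha]⟩
  have hslope : Curv2.deg k C (Es i) (rE i) * (rE (i + 1) : ℤ)
      = Curv2.deg k C (Es (i + 1)) (rE (i + 1)) * (rE i : ℤ) := by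
    have h1 := (heq i hi.le).1
    have h2 := (heq (i + 1) hi).1
    have : (Curv2.deg k C (Es i) (rE i) * (rE (i + 1) : ℤ)) * (r : ℤ)
        = (Curv2.deg k C (Es (i + 1)) (rE (i + 1)) * (rE i : ℤ)) * (r : ℤ) := by
      have e1 : (Curv2.deg k C (Es i) (rE i) * (rE (i + 1) : ℤ)) * (r : ℤ)
          = (Curv2.deg k C (Es i) (rE i) * (r : ℤ)) * (rE (i + 1) : ℤ) := by ring
      have e2 : (Curv2.deg k C (Es (i + 1)) (rE (i + 1)) * (rE i : ℤ)) * (r : ℤ)
          = (Curv2.deg k C (Es (i + 1)) (rE (i + 1)) * (r : ℤ)) * (rE i : ℤ) := by ring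
      rw [e1, e2, h1, h2]
      ring
    exact mul_right_cancel₀ hrZ.ne' this
  obtain ⟨-, hQ, -, hsl, hssQ⟩ := main15328_gen k hdim hreg L hL (rE (i + 1)) hpos (Es (i + 1))
    (hEs (i + 1)) (ψE (i + 1))
    (fun G s j hj hs hG hGinv => by
      obtain ⟨χ, hχ⟩ := hGinv
      exact hssE (i + 1) hi hpos G s j χ hj hs hG hχ)
    (Es i) (rE i) (hEs i) (a i) hinv hslope
  refine ⟨hQ, ?_, ?_⟩
  · have h2 := (heq (i + 1) hi).1
    have : (Curv2.deg k C (cokernel (a i)) (rE (i + 1) - rE i) * (r : ℤ)) * (rE (i + 1) : ℤ)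
        = (d * ((rE (i + 1) - rE i : ℕ) : ℤ)) * (rE (i + 1) : ℤ) := by
      have e1 : (Curv2.deg k C (cokernel (a i)) (rE (i + 1) - rE i) * (r : ℤ)) * (rE (i + 1) : ℤ)
          = (Curv2.deg k C (cokernel (a i)) (rE (i + 1) - rE i) * (rE (i + 1) : ℤ)) * (r : ℤ) := by
        ring
      have e2 : (Curv2.deg k C (Es (i + 1)) (rE (i + 1)) * ((rE (i + 1) - rE i : ℕ) : ℤ)) * (r : ℤ)
          = (Curv2.deg k C (Es (i + 1)) (rE (i + 1)) * (r : ℤ)) * ((rE (i + 1) - rE i : ℕ) : ℤ) := by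
        ring
      rw [e1, hsl, e2, h2]
      ring
    exact mul_right_cancel₀ hposZ.ne' this
  · intro φ' hφ' G s j χ hj hs hG hχ
    exact hssQ φ' hφ' G s j hj hs hG ⟨χ, hχ⟩

end Main

end Groth.Agent.Helper4.SN
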