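import Mathlib
import Groth.Agent.Helper4.SN128
import Groth.Agent.Lead.LocLift6

/-!
# Nef bundles in the curve-test sense: extensions (S17280)
-/

set_option autoImplicit false
set_option linter.unusedSectionVars false
set_option linter.style.haveILetI false
universe u

open CategoryTheory CategoryTheory.Limits AlgebraicGeometry TopologicalSpace Opposite

namespace Groth.Agent.Helper4.SN

section Main

variable (k : Type u) [Field k] {C : Scheme.{u}} [C.Over (Spec (CommRingCat.of k))]
  [IsIntegral C] [IsProper (C ↘ (Spec (CommRingCat.of k)))]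

/-- the image in an invertible module of a nonzero map from a coherent module is invertible, of
degree at most that of the target -/
theorem coimage_invertible_of_ne_zero (hdim : topologicalKrullDim C = 1)
    (hreg : ∀ x : C, IsRegularLocalRing (C.presheaf.stalk x))
    (A M : C.Modules) (hA : Coh.IsCoh A) (hM : PicF.IsInvertible M) (c : A ⟶ M) (hc : c ≠ 0) :
    PicF.IsInvertible (Abelian.coimage c) ∧
      Curv2.deg k C (Abelian.coimage c) 1 ≤ Curv2.deg k C M 1 := by
  haveI := Groth.Agent.Helper4.NApx82.isNoetherian_of_proper k C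
  have hM1 := Groth.Agent.Helper4.QAffSec.isFinLocFreeOfRank_one_of_isInvertible M hM
  have hcM : Coh.IsCoh M := Groth.Agent.Helper1.SerreFin.isCoh_of_isInvertible M hM
  have hcK : Coh.IsCoh (kernel c) := Groth.Agent.Lead.PerfLib.isCoh_kernel hA hcM c
  have hcI : Coh.IsCoh (Abelian.coimage c) :=
    Groth.Agent.Lead.PerfLib.isCoh_cokernel hcK hA (kernel.ι c)
  obtain ⟨ρ, hρ⟩ := exists_rank_of_mono hreg hdim.le (Abelian.factorThruCoimage c) hcI hM1
  have hle : ρ ≤ 1 := rank_le_of_mono (Abelian.factorThruCoimage c) hρ hM1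
  have hne : ρ ≠ 0 := by
    intro h0
    subst h0
    exact hc (eq_zero_of_coimage_rank_zero c hρ)
  have h1 : ρ = 1 := by omega
  subst h1
  exact ⟨isInvertible_of_rank_one _ hρ,
    deg_le_of_mono_of_rank_eq k hdim (Abelian.factorThruCoimage c) hρ hM1⟩

end Main

section Nef

variable (k : Type u) [Field k]

/-- nefness in the curve-test sense -/
def IsCurveNef (X : Scheme.{u}) [X.Over (Spec (CommRingCat.of k))] (E : X.Modules) : Prop :=
  ∀ (C : Scheme.{u}) [C.Over (Spec (CommRingCat.of k))]
    [IsProper (C ↘ (Spec (CommRingCat.of k)))] [IsIntegral C],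
    topologicalKrullDim C = 1 → (∀ x : C, IsRegularLocalRing (C.presheaf.stalk x)) →
    ∀ (f : C ⟶ X), f ≫ (X ↘ (Spec (CommRingCat.of k))) = C ↘ (Spec (CommRingCat.of k)) →
    ∀ (M : C.Modules), PicF.IsInvertible M →
    ∀ (q : (Scheme.Modules.pullback f).obj E ⟶ M), Epi q → 0 ≤ Curv2.deg k C M 1

/-- S17280 -/
theorem main17280 (X : Scheme.{u}) [X.Over (Spec (CommRingCat.of k))]
    (S : ShortComplex X.Modules) (hS : S.ShortExact)
    (h₁ : FlatMod.IsFinLocFree S.X₁)
    (hnef₁ : IsCurveNef k X S.X₁) (hnef₃ : IsCurveNef k X S.X₃) : IsCurveNef k X S.X₂ := by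
  intro C _ _ _ hdim hreg f hf M hM q hq
  haveI := hq
  haveI := Groth.Agent.Helper4.NApx82.isNoetherian_of_proper k C
  haveI : (Scheme.Modules.pullback f).Additive := inferInstance
  haveI := hS.epi_g
  have hex : (S.map (Scheme.Modules.pullback f)).Exact :=
    hS.exact.map_of_epi_of_preservesCokernel (Scheme.Modules.pullback f) inferInstance
      inferInstance
  haveI : Epi (S.map (Scheme.Modules.pullback f)).g :=
    inferInstanceAs (Epi ((Scheme.Modules.pullback f).map S.g))
  by_cases hc : (Scheme.Modules.pullback f).map S.f ≫ q = 0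
  · have hq' : (S.map (Scheme.Modules.pullback f)).g ≫ hex.desc q hc = q := hex.g_desc q hc
    haveI : Epi ((S.map (Scheme.Modules.pullback f)).g ≫ hex.desc q hc) := by rw [hq']; exact hq
    have hepi : Epi (hex.desc q hc) := epi_of_epi (S.map (Scheme.Modules.pullback f)).g _
    exact hnef₃ C hdim hreg f hf M hM (hex.desc q hc) hepi
  · have hcA : Coh.IsCoh ((Scheme.Modules.pullback f).obj S.X₁) :=
      Groth.Agent.Lead.PerfLib.isCoh_of_isFinLocFree
        (Groth.Agent.Lead.LocLift.isFinLocFree_pullback f h₁)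
    obtain ⟨hI, hle⟩ := coimage_invertible_of_ne_zero k hdim hreg _ M hcA hM _ hc
    have := hnef₁ C hdim hreg f hf _ hI (Abelian.coimage.π _) inferInstance
    linarith

end Nef

end Groth.Agent.Helper4.SN
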