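import Mathlib
import Groth.Agent.Helper4.SN129
import Groth.Agent.Lead.Thick2

/-!
# Nef bundles on a curve twisted by a line bundle of degree at least `2g` are globally generated
(S17281)
-/

set_option autoImplicit false
set_option linter.unusedSectionVars false
set_option linter.style.haveILetI false
universe u

open CategoryTheory CategoryTheory.Limits AlgebraicGeometry TopologicalSpace Opposite

namespace Groth.Agent.Helper4.SN

section Main

variable (k : Type u) [Field k] {C : Scheme.{u}} [C.Over (Spec (CommRingCat.of k))]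
  [IsIntegral C] [IsProper (C ↘ (Spec (CommRingCat.of k)))]

/-- a bundle all of whose invertible quotients have non-negative degree, twisted by an invertible
module of degree at least `2g - 1`, has vanishing `H¹` -/
theorem h1_twist_subsingleton_of_quotients_nonneg [IsAlgClosed k]
    (hdim : topologicalKrullDim C = 1)
    (hreg : ∀ x : C, IsRegularLocalRing (C.presheaf.stalk x))
    (r : ℕ) (E : C.Modules) (hE : FlatMod.IsFinLocFreeOfRank r E)
    (hq : ∀ (M : C.Modules) (q : E ⟶ M), PicF.IsInvertible M → Epi q → 0 ≤ Curv2.deg k C M 1)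
    (P : C.Modules) (hP : PicF.IsInvertible P)
    (hdeg : 2 * (Curv2.genus k C : ℤ) - 1 ≤ Curv2.deg k C P 1) :
    Subsingleton (Coh.HH C (CohB1.tensorMod E P) 1) := by
  haveI := Groth.Agent.Helper4.NApx82.isNoetherian_of_proper k C
  have hEP := isFinLocFreeOfRank_tensor_invertible E P r hE hP
  rcases Nat.eq_zero_or_pos r with h0 | hpos
  · subst h0
    exact Groth.Agent.Lead.Thick.subsingleton_HH_of_isZero _ (isZero_of_rank_zero _ hEP) 1
  obtain ⟨r', rfl⟩ : ∃ r', r = r' + 1 := ⟨r - 1, by omega⟩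
  by_contra hns
  rw [not_subsingleton_iff_nontrivial] at hns
  have hcE : Coh.IsCoh E := Groth.Agent.Lead.PerfLib.isCoh_of_isFinLocFree
    (FinLocFree7.isFinLocFree_of_rank _ hE)
  have h7 := main7637 k hdim.le (r' + 1) 1 E P hE
    (Groth.Agent.Helper4.QAffSec.isFinLocFreeOfRank_one_of_isInvertible _ hP)
  rw [Nat.mul_one] at h7
  obtain ⟨F', i', hi', hF', hle⟩ := exists_sub_of_h1_nontrivial k hdim hreg r' _ hEP hns
  rw [h7] at hle
  obtain ⟨F, i, hi, hF, hd⟩ := exists_sub_of_twist_sub_rank k hdim.le E P hP r' F' hF' i' hi'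
  haveI := hi
  obtain ⟨K, j, u, hj, hu, hK, hleK, hlf⟩ := exists_saturation k hdim hreg E F hE hF i
  haveI := hj
  have hQ := isFinLocFreeOfRank_of_isFinLocFree _ hlf
  obtain ⟨s₀, hs₀⟩ : ∃ s₀ : ℕ, s₀ = Module.finrank (C.presheaf.stalk (genericPoint C))
      ((cokernel j).presheaf.stalk (genericPoint C)) := ⟨_, rfl⟩
  rw [← hs₀] at hQ
  have hS := cokernel_shortExact j
  have hrk := rank_add_of_shortExact _ hS hK hE hQ
  have hs1 : s₀ = 1 := by omega
  subst hs1
  have hcK : Coh.IsCoh K := Groth.Agent.Lead.PerfLib.isCoh_of_isFinLocFree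
    (FinLocFree7.isFinLocFree_of_rank _ hK)
  have hcQ : Coh.IsCoh (cokernel j) := Groth.Agent.Lead.PerfLib.isCoh_cokernel hcK hcE j
  have hdE := deg_add_of_shortExact k _ hS hcK hcE hcQ r' 1
  change Curv2.deg k C E (r' + 1) = Curv2.deg k C K r' + Curv2.deg k C (cokernel j) 1 at hdE
  have h0 := hq (cokernel j) (cokernel.π j) (isInvertible_of_rank_one _ hQ) inferInstance
  push_cast at hle hd
  nlinarith

end Main

section Nef

variable (k : Type u) [Field k]

/-- S17281 -/
theorem main17281 [IsAlgClosed k] (X : Scheme.{u}) [X.Over (Spec (CommRingCat.of k))]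
    [IsProper (X ↘ (Spec (CommRingCat.of k)))] [IsIntegral X]
    (hdim : topologicalKrullDim X = 1) (hreg : ∀ x : X, IsRegularLocalRing (X.presheaf.stalk x))
    (E : X.Modules) (hE : FlatMod.IsFinLocFree E) (hnef : IsCurveNef k X E)
    (H : X.Modules) (hH : PicF.IsInvertible H)
    (hdeg : 2 * (Curv2.genus k X : ℤ) ≤ Curv2.deg k X H 1) :
    Curv2.IsGloballyGenerated (CohB1.tensorMod E H) := by
  have hEr := isFinLocFreeOfRank_of_isFinLocFree E hE
  obtain ⟨r, hr⟩ : ∃ r : ℕ, r = Module.finrank (X.presheaf.stalk (genericPoint X))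
      (E.presheaf.stalk (genericPoint X)) := ⟨_, rfl⟩
  rw [← hr] at hEr
  have hEH := isFinLocFreeOfRank_tensor_invertible E H r hEr hH
  -- the invertible quotients of `E` have non-negative degree
  have hq : ∀ (M : X.Modules) (q : E ⟶ M), PicF.IsInvertible M → Epi q →
      0 ≤ Curv2.deg k X M 1 := by
    intro M q hM hqe
    haveI := hqe
    exact hnef X hdim hreg (𝟙 X) (Category.id_comp _) M hM
      ((Scheme.Modules.pullbackId X).hom.app E ≫ q) (epi_comp _ _)
  apply isGloballyGenerated_of_h1_ideal_twist k hdim r _ hEH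
  intro x hx
  obtain ⟨hI, hdI⟩ := ideal_point_of_regular k hdim hreg x hx
  obtain ⟨I, hIdef⟩ : ∃ I, I = ClSub.idealMod (Scheme.IdealSheafData.vanishingIdeal ⟨{x}, hx⟩) :=
    ⟨_, rfl⟩
  rw [← hIdef] at hI hdI ⊢
  have hHI := isInvertible_tensor H I hH hI
  have hdHI := deg_tensor_inv_curve k hdim H I hH hI
  have h1 := h1_twist_subsingleton_of_quotients_nonneg k hdim hreg r E hEr hq
    (CohB1.tensorMod H I) hHI (by rw [hdHI, hdI]; linarith)
  -- `I ⊗ (E ⊗ H) ≅ E ⊗ (H ⊗ I)`
  exact (Groth.Agent.Helper1.ProjTop.HHlinEquiv k (X := X)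
    (Groth.Agent.Lead.Ref1B.braid I (CohB1.tensorMod E H) ≪≫
      Groth.Agent.Lead.Ref1B.assoc E H I) 1).toEquiv.subsingleton

end Nef

end Groth.Agent.Helper4.SN
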