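import Mathlib
import Groth.Agent.Helper4.SN130

/-!
# Filtrations of subsheaves of a free module on a curve by line bundles of negative degree (S12913)
-/

set_option autoImplicit false
set_option linter.unusedSectionVars false
set_option linter.style.haveILetI false
universe u

open CategoryTheory CategoryTheory.Limits AlgebraicGeometry TopologicalSpace Opposite

namespace Groth.Agent.Helper4.SN

open Groth.Agent.Helper4.StalkDict Groth.Agent.Helper4.NApx82

section PartA

variable {C : Scheme.{u}}

/-- a morphism to the structure module which is not surjective on the stalk at the closed point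
`x` vanishes in the residue skyscraper at `x` -/
theorem comp_toSubscheme_eq_zero_of_not_surjective {N : C.Modules}
    (p : N ⟶ Coh.structureModule C) (x : C) (hx : IsClosed ({x} : Set C))
    (hns : ¬ Function.Surjective (stalkLin p x)) :
    p ≫ ClSub.toSubscheme (Scheme.IdealSheafData.vanishingIdeal ⟨{x}, hx⟩) = 0 := by
  obtain ⟨D, hD⟩ : ∃ D, D = Scheme.IdealSheafData.vanishingIdeal ⟨{x}, hx⟩ := ⟨_, rfl⟩
  rw [← hD]
  apply Groth.Agent.Helper4.QcohLocal.eq_zero_of_stalkLin_eq_zero
  intro y z
  by_cases hy : y ∈ CohB1.support (ClSub.quotMod D)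
  · have hyx : y = x := by
      have h1 := support_quotMod_subset D hy
      rw [hD, Scheme.IdealSheafData.coe_support_vanishingIdeal] at h1
      exact h1
    subst hyx
    rw [Groth.Agent.Lead.StalkNhd.stalkLin_comp]
    obtain ⟨r, hr⟩ := (Groth.Agent.Lead.Hartogs2.unitEquiv y).surjective (stalkLin p y z)
    have hrm : r ∈ IsLocalRing.maximalIdeal (C.presheaf.stalk y) := by
      by_contra hnm
      have hu : IsUnit r := by
        by_contra hnu
        exact hnm ((IsLocalRing.mem_maximalIdeal r).2 hnu)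
      obtain ⟨u, rfl⟩ := hu
      apply hns
      intro b
      obtain ⟨r', rfl⟩ := (Groth.Agent.Lead.Hartogs2.unitEquiv y).surjective b
      refine ⟨(r' * (↑u⁻¹ : C.presheaf.stalk y)) • z, ?_⟩
      rw [map_smul, ← hr, ← map_smul, smul_eq_mul, mul_assoc, Units.inv_mul, mul_one]
    rw [← hr]
    have h1 : Groth.Agent.Lead.Hartogs2.unitEquiv y r =
        r • Groth.Agent.Lead.Hartogs2.unitEquiv y 1 := by
      rw [← map_smul, smul_eq_mul, mul_one]
    rw [h1, map_smul]
    exact maximalIdeal_smul_stalk_quotMod y hx D hD r hrm _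
  · have hsub : Subsingleton ((ClSub.quotMod D).presheaf.stalk y) := not_not.mp hy
    exact Subsingleton.elim _ _

end PartA

section PartB

attribute [local instance] Curv2.resAlgebra

variable (k : Type u) [Field k] {C : Scheme.{u}} [C.Over (Spec (CommRingCat.of k))]
  [IsIntegral C] [IsProper (C ↘ (Spec (CommRingCat.of k)))]

/-- the coordinate functionals on a free module -/
noncomputable def freeProj (C : Scheme.{u}) (m : ℕ) (i : Fin m) :
    FlatMod.freeMod C m ⟶ Coh.structureModule C :=
  Sigma.desc (fun j => if j = i then 𝟙 _ else 0)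

theorem sum_freeProj_ι (C : Scheme.{u}) (m : ℕ) :
    ∑ i, freeProj C m i ≫ Sigma.ι (fun _ : Fin m => Coh.structureModule C) i =
      𝟙 (FlatMod.freeMod C m) := by
  apply Sigma.hom_ext
  intro j
  rw [Preadditive.comp_sum, Category.comp_id, Finset.sum_eq_single j]
  · unfold freeProj
    rw [← Category.assoc, Sigma.ι_desc, if_pos rfl, Category.id_comp]
  · intro i _ hij
    unfold freeProj
    rw [← Category.assoc, Sigma.ι_desc, if_neg (Ne.symm hij), zero_comp]
  · intro h
    exact absurd (Finset.mem_univ j) h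

theorem eq_zero_of_comp_freeProj {m : ℕ} {N : C.Modules} (f : N ⟶ FlatMod.freeMod C m)
    (h : ∀ i, f ≫ freeProj C m i = 0) : f = 0 := by
  rw [← Category.comp_id f, ← sum_freeProj_ι C m, Preadditive.comp_sum]
  apply Finset.sum_eq_zero
  intro i _
  rw [← Category.assoc, h i, zero_comp]

theorem isZero_of_epi_eq_zero {A : Type*} [Category A] [Abelian A] {X Y : A} (e : X ⟶ Y) [Epi e]
    (h : e = 0) : IsZero Y := by
  rw [IsZero.iff_id_eq_zero, ← cancel_epi e, h, zero_comp, zero_comp]

/-- the residue skyscraper at a closed point is not zero, and maps from the structure module to it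
are proportional -/
theorem hom_skyscraper [IsAlgClosed k] (x : C) (hx : IsClosed ({x} : Set C)) :
    ClSub.toSubscheme (Scheme.IdealSheafData.vanishingIdeal ⟨{x}, hx⟩) ≠ 0 ∧
    ∀ z : Coh.structureModule C ⟶
        ClSub.quotMod (Scheme.IdealSheafData.vanishingIdeal ⟨{x}, hx⟩),
      ∃ c : k, c • ClSub.toSubscheme (Scheme.IdealSheafData.vanishingIdeal ⟨{x}, hx⟩) = z := by
  have h1 : Module.finrank k (Coh.structureModule C ⟶
      ClSub.quotMod (Scheme.IdealSheafData.vanishingIdeal ⟨{x}, hx⟩)) = 1 := by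
    rw [finrank_hom_unit, finrank_h0_quotMod_point k x hx, finrank_residueField_eq_one k x hx]
  obtain ⟨D, hD⟩ : ∃ D, D = Scheme.IdealSheafData.vanishingIdeal ⟨{x}, hx⟩ := ⟨_, rfl⟩
  rw [← hD] at h1 ⊢
  have hne : ClSub.toSubscheme D ≠ 0 := by
    intro h0
    haveI := epi_toSubscheme D
    have hz : ∀ z : Coh.structureModule C ⟶ ClSub.quotMod D, z = 0 := fun z =>
      (isZero_of_epi_eq_zero _ h0).eq_of_tgt _ _
    haveI : Subsingleton (Coh.structureModule C ⟶ ClSub.quotMod D) :=
      ⟨fun a b => by rw [hz a, hz b]⟩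
    rw [Module.finrank_zero_of_subsingleton] at h1
    exact absurd h1 (by norm_num)
  exact ⟨hne, (finrank_eq_one_iff_of_nonzero' _ hne).1 h1⟩

/-- **a nonzero locally free submodule of a free module without global sections has a nonzero
functional which is not surjective** -/
theorem exists_ne_zero_not_epi [IsAlgClosed k] (hdim : topologicalKrullDim C = 1)
    (hreg : ∀ x : C, IsRegularLocalRing (C.presheaf.stalk x)) (m : ℕ) :
    ∀ (n : ℕ) (N : C.Modules) (ι : N ⟶ FlatMod.freeMod C m), Mono ι →
      FlatMod.IsFinLocFreeOfRank (n + 1) N → (∀ s : Coh.structureModule C ⟶ N, s = 0) →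
      ∃ q : FlatMod.freeMod C m ⟶ Coh.structureModule C, ι ≫ q ≠ 0 ∧ ¬ Epi (ι ≫ q) := by
  haveI := Groth.Agent.Helper4.NApx82.isNoetherian_of_proper k C
  haveI : CompactSpace C :=
    QuasiCompact.compactSpace_of_compactSpace (C ↘ (Spec (CommRingCat.of k)))
  have hO : PicF.IsInvertible (Coh.structureModule C) :=
    Groth.Agent.Helper4.TensorInv.isInvertible_structureModule
  have hO1 := Groth.Agent.Helper4.QAffSec.isFinLocFreeOfRank_one_of_isInvertible _ hO
  have hcO := Groth.Agent.Helper1.SerreFin.isCoh_of_isInvertible _ hO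
  intro n
  induction n with
  | zero =>
    intro N ι hι hN h0
    haveI := hι
    -- a nonzero coordinate
    obtain ⟨i, hi⟩ : ∃ i, ι ≫ freeProj C m i ≠ 0 := by
      by_contra hall
      push Not at hall
      have hι0 := eq_zero_of_comp_freeProj ι hall
      have hz : IsZero N := IsZero.of_mono_eq_zero ι hι0
      have := rank_eq_zero_of_isZero N hN hz
      omega
    refine ⟨freeProj C m i, hi, ?_⟩
    intro hepi
    -- then `N ≅ O`, which has sections
    have hcN : Coh.IsCoh N := Groth.Agent.Lead.PerfLib.isCoh_of_isFinLocFree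
      (FinLocFree7.isFinLocFree_of_rank _ hN)
    obtain ⟨rK, rI, hK, hI, hrk, hle, -⟩ := ker_coim_data k hdim hreg hN hO1 (ι ≫ freeProj C m i)
    have hrI : rI ≠ 0 := by
      intro h0'
      subst h0'
      exact hi (eq_zero_of_coimage_rank_zero _ hI)
    have hrK : rK = 0 := by omega
    subst hrK
    haveI : Mono (ι ≫ freeProj C m i) :=
      Preadditive.mono_of_isZero_kernel _ (isZero_of_rank_zero _ hK)
    haveI : IsIso (ι ≫ freeProj C m i) := isIso_of_mono_of_epi _
    have := h0 (inv (ι ≫ freeProj C m i))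
    have h1 : (𝟙 (Coh.structureModule C)) = 0 := by
      rw [← IsIso.inv_hom_id (ι ≫ freeProj C m i), this, zero_comp]
    have hz : IsZero (Coh.structureModule C) := (IsZero.iff_id_eq_zero _).2 h1
    have := rank_eq_zero_of_isZero _ hO1 hz
    omega
  | succ n ih =>
    intro N ι hι hN h0
    haveI := hι
    have hcN : Coh.IsCoh N := Groth.Agent.Lead.PerfLib.isCoh_of_isFinLocFree
      (FinLocFree7.isFinLocFree_of_rank _ hN)
    obtain ⟨i, hi⟩ : ∃ i, ι ≫ freeProj C m i ≠ 0 := by
      by_contra hall
      push Not at hall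
      have hι0 := eq_zero_of_comp_freeProj ι hall
      have hz : IsZero N := IsZero.of_mono_eq_zero ι hι0
      have := rank_eq_zero_of_isZero N hN hz
      omega
    by_cases hepi : Epi (ι ≫ freeProj C m i)
    swap
    · exact ⟨freeProj C m i, hi, hepi⟩
    set p₁ := ι ≫ freeProj C m i with hp₁
    obtain ⟨rK, rI, hK, hI, hrk, hle, -⟩ := ker_coim_data k hdim hreg hN hO1 p₁
    have hrI : rI ≠ 0 := by
      intro h0'
      subst h0'
      exact hi (eq_zero_of_coimage_rank_zero _ hI)
    have hrK : rK = n + 1 := by omega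
    subst hrK
    -- the induction hypothesis for the kernel
    have h0K : ∀ s : Coh.structureModule C ⟶ kernel p₁, s = 0 := by
      intro s
      rw [← cancel_mono (kernel.ι p₁), zero_comp]
      exact h0 _
    obtain ⟨q', hq', hne'⟩ := ih (kernel p₁) (kernel.ι p₁ ≫ ι) (mono_comp _ _) hK h0K
    -- a closed point at which the functional on the kernel vanishes
    have hcK : Coh.IsCoh (kernel p₁) := Groth.Agent.Lead.PerfLib.isCoh_of_isFinLocFree
      (FinLocFree7.isFinLocFree_of_rank _ hK)
    obtain ⟨x, hx, hxs⟩ : ∃ x : C, IsClosed ({x} : Set C) ∧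
        ¬ Function.Surjective (stalkLin ((kernel.ι p₁ ≫ ι) ≫ q') x) := by
      by_contra hall
      push Not at hall
      exact hne' (epi_of_stalkLin_surjective_closed _
        (Groth.Agent.Lead.PerfLib.isCoh_cokernel hcK hcO _) hall)
    have hvan := comp_toSubscheme_eq_zero_of_not_surjective _ x hx hxs
    obtain ⟨ht, hprop⟩ := hom_skyscraper k x hx
    obtain ⟨D, hD⟩ : ∃ D, D = Scheme.IdealSheafData.vanishingIdeal ⟨{x}, hx⟩ := ⟨_, rfl⟩
    rw [← hD] at hvan ht hprop
    haveI := epi_toSubscheme D
    -- descend along `p₁`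
    have hS : (ShortComplex.mk (kernel.ι p₁) p₁ (kernel.condition p₁)).ShortExact :=
      { exact := ShortComplex.exact_kernel p₁
        mono_f := inferInstanceAs (Mono (kernel.ι p₁))
        epi_g := hepi }
    have hz : kernel.ι p₁ ≫ ((ι ≫ q') ≫ ClSub.toSubscheme D) = 0 := by
      rw [← hvan]
      simp only [Category.assoc]
    haveI : Epi (ShortComplex.mk (kernel.ι p₁) p₁ (kernel.condition p₁)).g := hepi
    obtain ⟨z, hz'⟩ : ∃ z : Coh.structureModule C ⟶ ClSub.quotMod D,
        p₁ ≫ z = (ι ≫ q') ≫ ClSub.toSubscheme D :=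
      ⟨hS.exact.desc _ hz, hS.exact.g_desc _ hz⟩
    obtain ⟨c, hc⟩ := hprop z
    refine ⟨q' - c • freeProj C m i, ?_, ?_⟩
    · intro h
      apply hq'
      have h2 : kernel.ι p₁ ≫ (ι ≫ (q' - c • freeProj C m i)) = 0 := by rw [h, comp_zero]
      rw [Preadditive.comp_sub, Preadditive.comp_sub, Linear.comp_smul, Linear.comp_smul,
        ← hp₁, kernel.condition, smul_zero, sub_zero, ← Category.assoc] at h2
      exact h2
    · intro hepi'
      have h3 : (ι ≫ (q' - c • freeProj C m i)) ≫ ClSub.toSubscheme D = 0 := by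
        rw [Preadditive.comp_sub, Preadditive.sub_comp, Linear.comp_smul, Linear.smul_comp,
          ← hp₁, ← hz', ← hc, Linear.comp_smul, sub_self]
      haveI : Epi ((ι ≫ (q' - c • freeProj C m i)) ≫ ClSub.toSubscheme D) := epi_comp _ _
      exact ht ((isZero_of_epi_eq_zero _ h3).eq_of_tgt _ _)

/-- the filtration, indexed by the natural numbers -/
theorem exists_filtration_nat [IsAlgClosed k] (hdim : topologicalKrullDim C = 1)
    (hreg : ∀ x : C, IsRegularLocalRing (C.presheaf.stalk x)) (m : ℕ) :
    ∀ (r : ℕ) (N : C.Modules) (ι : N ⟶ FlatMod.freeMod C m), Mono ι →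
      FlatMod.IsFinLocFreeOfRank r N → (∀ s : Coh.structureModule C ⟶ N, s = 0) →
      ∃ (M : ℕ → C.Modules) (f : ∀ j, M (j + 1) ⟶ M j),
        Nonempty (M 0 ≅ N) ∧ IsZero (M r) ∧
        ∀ j, j < r → Mono (f j) ∧ PicF.IsInvertible (cokernel (f j)) ∧
          Curv2.deg k C (cokernel (f j)) 1 < 0 := by
  haveI := Groth.Agent.Helper4.NApx82.isNoetherian_of_proper k C
  have hO : PicF.IsInvertible (Coh.structureModule C) :=
    Groth.Agent.Helper4.TensorInv.isInvertible_structureModule
  have hO1 := Groth.Agent.Helper4.QAffSec.isFinLocFreeOfRank_one_of_isInvertible _ hO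
  have hdO : Curv2.deg k C (Coh.structureModule C) 1 = 0 :=
    Groth.Agent.Helper4.NApx82.deg_structureModule k C
  intro r
  induction r with
  | zero =>
    intro N ι _ hN _
    exact ⟨fun _ => N, fun _ => 𝟙 N, ⟨Iso.refl N⟩, isZero_of_rank_zero _ hN,
      fun j hj => absurd hj (Nat.not_lt_zero j)⟩
  | succ r ih =>
    intro N ι hι hN h0
    haveI := hι
    have hcN : Coh.IsCoh N := Groth.Agent.Lead.PerfLib.isCoh_of_isFinLocFree
      (FinLocFree7.isFinLocFree_of_rank _ hN)
    obtain ⟨q, hq, hne⟩ := exists_ne_zero_not_epi k hdim hreg m r N ι hι hN h0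
    set p := ι ≫ q with hp
    obtain ⟨hIinv, hIle⟩ := coimage_invertible_of_ne_zero k hdim hreg N _ hcN hO p hq
    have hI1 := Groth.Agent.Helper4.QAffSec.isFinLocFreeOfRank_one_of_isInvertible _ hIinv
    -- the degree of the image is negative
    have hIlt : Curv2.deg k C (Abelian.coimage p) 1 < 0 := by
      rw [hdO] at hIle
      rcases lt_or_eq_of_le hIle with h | h
      · exact h
      · exfalso
        haveI := isIso_of_mono_of_rank_deg_eq k hdim (Abelian.factorThruCoimage p) hI1 hO1
          (by rw [h, hdO])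
        apply hne
        rw [← Abelian.coimage.fac p]
        exact epi_comp _ _
    -- the kernel
    have hcO := Groth.Agent.Helper1.SerreFin.isCoh_of_isInvertible _ hO
    have hcK : Coh.IsCoh (kernel p) := Groth.Agent.Lead.PerfLib.isCoh_kernel hcN hcO p
    obtain ⟨rK, hK⟩ := exists_rank_of_mono hreg hdim.le (kernel.ι p) hcK hN
    have hrk : r + 1 = rK + 1 :=
      rank_add_of_shortExact _ (cokernel_shortExact (kernel.ι p)) hK hN hI1
    have hrK : rK = r := by omega
    subst hrK
    have h0K : ∀ s : Coh.structureModule C ⟶ kernel p, s = 0 := by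
      intro s
      rw [← cancel_mono (kernel.ι p), zero_comp]
      exact h0 _
    obtain ⟨M', f', ⟨e'⟩, hz', hf'⟩ := ih (kernel p) (kernel.ι p ≫ ι) (mono_comp _ _) hK h0K
    refine ⟨fun j => Nat.casesOn j N (fun j' => M' j'),
      fun j => Nat.casesOn j (e'.hom ≫ kernel.ι p) (fun j' => f' j'), ⟨Iso.refl N⟩, hz', ?_⟩
    intro j hj
    cases j with
    | zero =>
      refine ⟨mono_comp _ _, ?_, ?_⟩
      · have e : cokernel (e'.hom ≫ kernel.ι p) ≅ Abelian.coimage p :=
          cokernelEpiComp e'.hom (kernel.ι p)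
        exact isInvertible_of_rank_one _ (isFinLocFreeOfRank_of_iso e.symm hI1)
      · have e : cokernel (e'.hom ≫ kernel.ι p) ≅ Abelian.coimage p :=
          cokernelEpiComp e'.hom (kernel.ι p)
        exact (deg_iso k e 1).trans_lt hIlt
    | succ j' => exact hf' j' (by omega)

/-- S12913 -/
theorem main12913 [IsAlgClosed k] (hdim : topologicalKrullDim C = 1)
    (hreg : ∀ x : C, IsRegularLocalRing (C.presheaf.stalk x))
    (N : C.Modules) (r : ℕ) (hN : FlatMod.IsFinLocFreeOfRank r N) (m : ℕ)
    (ι : N ⟶ FlatMod.freeMod C m) [Mono ι] (h0 : ∀ s : LinSer.Sect C N, s = 0) :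
    ∃ (M : Fin (r + 1) → C.Modules) (f : (j : Fin r) → (M j.succ ⟶ M j.castSucc)),
      Nonempty (M 0 ≅ N) ∧ IsZero (M (Fin.last r)) ∧
        ∀ j : Fin r, Mono (f j) ∧ PicF.IsInvertible (cokernel (f j)) ∧
          Curv2.deg k C (cokernel (f j)) 1 < 0 := by
  have h0' : ∀ s : Coh.structureModule C ⟶ N, s = 0 := by
    intro s
    apply Groth.Agent.Helper4.AmpleLocal.unit_hom_ext
    exact (h0 _).trans (h0 _).symm
  obtain ⟨M, f, e, hz, hf⟩ := exists_filtration_nat k hdim hreg m r N ι inferInstance hN h0'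
  exact ⟨fun j => M j.val, fun j => f j.val, e, hz, fun j => hf j.val j.isLt⟩

end PartB

end Groth.Agent.Helper4.SN
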