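import Mathlib
import Groth.Agent.Helper4.SN131

/-!
# Descent on line bundles of a curve: `H¹ = 0` in degree `g - 1`, `h⁰ = 1` in degree `r ≤ g`
(S11828, S14152)
-/

set_option autoImplicit false
set_option linter.unusedSectionVars false
set_option linter.style.haveILetI false
universe u

open CategoryTheory CategoryTheory.Limits AlgebraicGeometry TopologicalSpace Opposite

namespace Groth.Agent.Helper4.SN

open Groth.Agent.Helper4.StalkDict Groth.Agent.Helper4.NApx82 Groth.Agent.Lead.Ref1B

section Descent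

attribute [local instance] Curv2.resAlgebra

variable (k : Type u) [Field k] {C : Scheme.{u}} [C.Over (Spec (CommRingCat.of k))]
  [IsIntegral C] [IsProper (C ↘ (Spec (CommRingCat.of k)))]

include k in
/-- a nonzero section of an invertible module generates the stalk at some closed point -/
theorem exists_closed_stalkLin_surjective (L : C.Modules) (hL : PicF.IsInvertible L)
    (s : Coh.structureModule C ⟶ L) (hs : s ≠ 0) :
    ∃ x : C, IsClosed ({x} : Set C) ∧ Function.Surjective (stalkLin s x) := by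
  haveI := Groth.Agent.Helper4.NApx82.isNoetherian_of_proper k C
  have hO : PicF.IsInvertible (Coh.structureModule C) :=
    Groth.Agent.Helper4.TensorInv.isInvertible_structureModule
  have hcO := Groth.Agent.Helper1.SerreFin.isCoh_of_isInvertible _ hO
  have hcL := Groth.Agent.Helper1.SerreFin.isCoh_of_isInvertible L hL
  haveI hm : Mono s := Groth.Agent.Helper4.NApx81.mono_of_ne_zero s hO hL hs
  have hgen := Groth.Agent.Helper4.NApx81.stalkLin_surjective_genericPoint s hO hL hs
  have hcQ := Groth.Agent.Lead.PerfLib.isCoh_cokernel hcO hcL s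
  obtain ⟨U, hηU, hU⟩ := Groth.Agent.Lead.StalkNhd.exists_nhd_subsingleton (cokernel s) hcQ.2
    (genericPoint C) (Groth.Agent.Lead.StalkNhd.subsingleton_stalk_cokernel s _ hgen)
  haveI : JacobsonSpace C := LocallyOfFiniteType.jacobsonSpace (C ↘ Spec (CommRingCat.of k))
  obtain ⟨x, hxU, hx⟩ := nonempty_inter_closedPoints (Z := (U : Set C)) ⟨_, hηU⟩
    U.isOpen.isLocallyClosed
  refine ⟨x, hx, ?_⟩
  have hex : (ShortComplex.mk s (cokernel.π s) (cokernel.condition s)).Exact :=
    ShortComplex.exact_of_g_is_cokernel _ (cokernelIsCokernel s)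
  haveI : Mono (ShortComplex.mk s (cokernel.π s) (cokernel.condition s)).f := hm
  have h2 := Groth.Agent.Helper4.StalkExact.stalkLin_exact _ hex x
  intro t
  haveI := hU x hxU
  exact (h2 t).mp (Subsingleton.elim _ _)

/-- a section generating the stalk at the closed point `x` does not come from `I_x ⊗ L`, so
`h⁰(I_x ⊗ L) < h⁰(L)` -/
theorem h0_idealTwist_lt (x : C) (hx : IsClosed ({x} : Set C)) (L : C.Modules)
    (hL : PicF.IsInvertible L) (s : Coh.structureModule C ⟶ L)
    (hsx : Function.Surjective (stalkLin s x)) :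
    Module.finrank k (Coh.HH C (CohB1.tensorMod
      (ClSub.idealMod (Scheme.IdealSheafData.vanishingIdeal ⟨{x}, hx⟩)) L) 0) <
      Module.finrank k (Coh.HH C L 0) := by
  haveI := Groth.Agent.Helper4.NApx82.isNoetherian_of_proper k C
  have hpos := finrank_residueField_pos k x hx
  have hsupp := support_quotMod_twist k x hx L hL hpos
  obtain ⟨D, hD⟩ : ∃ D, D = Scheme.IdealSheafData.vanishingIdeal ⟨{x}, hx⟩ := ⟨_, rfl⟩
  rw [← hD] at hsupp ⊢
  have hS := Groth.Agent.Helper1.TwistExact.shortExact_map_tensorRightMod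
    (idealSC_shortExact D) L hL
  haveI hmono : Mono (idealTwistι D L) := mono_idealTwistι D L hL
  have hO : PicF.IsInvertible (Coh.structureModule C) :=
    Groth.Agent.Helper4.TensorInv.isInvertible_structureModule
  have hcO := Groth.Agent.Helper1.SerreFin.isCoh_of_isInvertible _ hO
  have hcL := Groth.Agent.Helper1.SerreFin.isCoh_of_isInvertible L hL
  rw [← finrank_hom_unit k, ← finrank_hom_unit k]
  let Φ : (Coh.structureModule C ⟶ CohB1.tensorMod (ClSub.idealMod D) L) →ₗ[k]
      (Coh.structureModule C ⟶ L) :=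
    Linear.rightComp k (Coh.structureModule C) (idealTwistι D L)
  have hΦinj : Function.Injective Φ := fun a b h => (cancel_mono (idealTwistι D L)).1 h
  haveI : Module.Finite k (Coh.structureModule C ⟶ L) := finite_hom k _ _ hcO hcL
  have hns : s ∉ LinearMap.range Φ := by
    rintro ⟨s', hs'⟩
    have hs'' : s' ≫ idealTwistι D L = s := hs'
    -- cleanly typed versions of the twisted maps
    obtain ⟨tι, htι⟩ : ∃ tι : CohB1.tensorMod (ClSub.idealMod D) L ⟶
        CohB1.tensorMod (Coh.structureModule C) L,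
        tι = (DCoh.tensorRightMod L).map (ClSub.idealModι D) := ⟨_, rfl⟩
    obtain ⟨tq, htq⟩ : ∃ tq : CohB1.tensorMod (Coh.structureModule C) L ⟶
        CohB1.tensorMod (ClSub.quotMod D) L,
        tq = (DCoh.tensorRightMod L).map (ClSub.toSubscheme D) := ⟨_, rfl⟩
    have hιq : tι ≫ tq = 0 := by
      rw [htι, htq]
      exact ((idealSC D).map (DCoh.tensorRightMod L)).zero
    haveI hepi1 : Epi tq := by
      rw [htq]
      exact hS.epi_g
    have htw : idealTwistι D L = tι ≫ (unitorL L).hom := by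
      rw [htι]
      rfl
    rw [htw] at hs''
    have hzero : s ≫ ((unitorL L).inv ≫ tq) = 0 := by
      rw [← hs'', Category.assoc, Category.assoc, Iso.hom_inv_id_assoc, hιq, comp_zero]
    haveI hepi : Epi ((unitorL L).inv ≫ tq) := epi_comp _ _
    have hsub : Subsingleton ((CohB1.tensorMod (ClSub.quotMod D) L).presheaf.stalk x) := by
      refine ⟨fun a b => ?_⟩
      suffices h0 : ∀ c : (CohB1.tensorMod (ClSub.quotMod D) L).presheaf.stalk x, c = 0 by
        rw [h0 a, h0 b]
      intro c
      obtain ⟨u, rfl⟩ := Groth.Agent.Helper4.EpiStalk.stalkLin_surjective_of_epi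
        ((unitorL L).inv ≫ tq) x c
      obtain ⟨v, rfl⟩ := hsx u
      rw [← Groth.Agent.Lead.StalkNhd.stalkLin_comp, hzero,
        Groth.Agent.Lead.StalkNhd.stalkLin_zero]
    have hxs : x ∈ CohB1.support (CohB1.tensorMod (ClSub.quotMod D) L) := by
      rw [hsupp]
      exact Set.mem_singleton x
    exact hxs hsub
  have h1 : LinearMap.range Φ < ⊤ :=
    lt_top_iff_ne_top.2 (fun h => hns (h ▸ Submodule.mem_top))
  have h2 := Submodule.finrank_lt_finrank_of_lt h1
  have h3 := LinearMap.finrank_range_of_inj hΦinj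
  rw [finrank_top] at h2
  omega

/-- Riemann–Roch for an invertible module: `h⁰ - h¹ = deg + 1 - g` -/
theorem rr_invertible [IsAlgClosed k] (hdim : topologicalKrullDim C = 1) (L : C.Modules) :
    (Module.finrank k (Coh.HH C L 0) : ℤ) - (Module.finrank k (Coh.HH C L 1) : ℤ) =
      Curv2.deg k C L 1 + 1 - (Curv2.genus k C : ℤ) := by
  haveI := Groth.Agent.Helper4.NApx82.isNoetherian_of_proper k C
  have h0O := finrank_h0_unit_of_isAlgClosed k (X := C)
  have hM := chi_eq_h0_sub_h1 k hdim.le L
  have hOO := chi_eq_h0_sub_h1 k hdim.le (Coh.structureModule C)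
  unfold chi at hM hOO
  unfold Curv2.deg Curv2.genus
  rw [hOO, h0O, hM]
  push_cast
  ring

/-- **descent step**: an invertible module with `H¹ = 0` and a nonzero section can be twisted down
by a closed point keeping `H¹ = 0` -/
theorem exists_twist_down [IsAlgClosed k] (hdim : topologicalKrullDim C = 1)
    (hreg : ∀ x : C, IsRegularLocalRing (C.presheaf.stalk x))
    (L : C.Modules) (hL : PicF.IsInvertible L) (h1 : Subsingleton (Coh.HH C L 1))
    (h0 : 0 < Module.finrank k (Coh.HH C L 0)) :
    ∃ L' : C.Modules, PicF.IsInvertible L' ∧ Curv2.deg k C L' 1 = Curv2.deg k C L 1 - 1 ∧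
      Subsingleton (Coh.HH C L' 1) := by
  haveI := Groth.Agent.Helper4.NApx82.isNoetherian_of_proper k C
  have hnt : Nontrivial (Coh.HH C L 0) := Module.nontrivial_of_finrank_pos h0
  obtain ⟨s, hs⟩ := exists_section_of_nontrivial_H0 L hnt
  obtain ⟨x, hx, hsx⟩ := exists_closed_stalkLin_surjective k L hL s hs
  have hlt := h0_idealTwist_lt k x hx L hL s hsx
  obtain ⟨hI, hdI⟩ := ideal_point_of_regular k hdim hreg x hx
  obtain ⟨I, hIdef⟩ : ∃ I, I = ClSub.idealMod (Scheme.IdealSheafData.vanishingIdeal ⟨{x}, hx⟩) :=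
    ⟨_, rfl⟩
  rw [← hIdef] at hI hdI hlt
  have hIL := isInvertible_tensor I L hI hL
  have hdeg := deg_tensor_inv_curve k hdim I L hI hL
  refine ⟨CohB1.tensorMod I L, hIL, by rw [hdeg, hdI]; ring, ?_⟩
  have hcIL := Groth.Agent.Helper1.SerreFin.isCoh_of_isInvertible _ hIL
  haveI : Module.Finite k (Coh.HH C (CohB1.tensorMod I L) 1) :=
    Groth.Agent.S0002.result k C _ hcIL 1
  have hrr := rr_invertible k hdim L
  have hrr' := rr_invertible k hdim (CohB1.tensorMod I L)
  have h10 : Module.finrank k (Coh.HH C L 1) = 0 := Module.finrank_zero_of_subsingleton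
  rw [h10] at hrr
  rw [hdeg, hdI] at hrr'
  apply (Module.finrank_zero_iff (R := k)).1
  have : (Module.finrank k (Coh.HH C (CohB1.tensorMod I L) 1) : ℤ) = 0 := by
    have h2 : (Module.finrank k (Coh.HH C (CohB1.tensorMod I L) 0) : ℤ) <
      (Module.finrank k (Coh.HH C L 0) : ℤ) := by exact_mod_cast hlt
    have h3 : (0 : ℤ) ≤ (Module.finrank k (Coh.HH C (CohB1.tensorMod I L) 1) : ℤ) :=
      Int.natCast_nonneg _
    push_cast at hrr hrr'
    linarith
  exact_mod_cast this

/-- invertible modules of every degree `n ≥ 2g - 1` with `H¹ = 0` -/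
theorem exists_invertible_deg_h1_zero_large [IsAlgClosed k] (hdim : topologicalKrullDim C = 1)
    (hreg : ∀ x : C, IsRegularLocalRing (C.presheaf.stalk x)) (n : ℕ)
    (hn : 2 * (Curv2.genus k C : ℤ) - 1 ≤ n) :
    ∃ L : C.Modules, PicF.IsInvertible L ∧ Curv2.deg k C L 1 = (n : ℤ) ∧
      Subsingleton (Coh.HH C L 1) := by
  haveI := Groth.Agent.Helper4.NApx82.isNoetherian_of_proper k C
  have h0O := finrank_h0_unit_of_isAlgClosed k (X := C)
  obtain ⟨M, hM, hdM⟩ := exists_invertible_deg_neg_one k hdim hreg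
  obtain ⟨N, hN, ⟨ε1⟩, -⟩ := Groth.Agent.Lead.InvDual.exists_inverse M hM
  have hdN : Curv2.deg k C N 1 = 1 := by
    rw [deg_inverse k hdim.le M N hM hN ε1, hdM]
    norm_num
  have hP := Groth.Agent.Helper4.TensorInv.isInvertible_tensorPow hN n
  have hdP : Curv2.deg k C (CohB1.tensorPow N n) 1 = (n : ℤ) := by
    rw [deg_tensorPow k hdim N hN n, hdN, mul_one]
  refine ⟨_, hP, hdP, ?_⟩
  by_contra hns
  have hnt : Nontrivial (Coh.HH C (CohB1.tensorPow N n) 1) := not_subsingleton_iff_nontrivial.1 hns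
  have hle := deg_le_of_h1_nontrivial k hdim h0O _ hP hnt
  rw [hdP] at hle
  omega

/-- **the descending chain**: invertible modules of degree `2g - m`, `m ≤ g + 1`, with `H¹ = 0` -/
theorem exists_invertible_deg_h1_zero_chain [IsAlgClosed k] (hdim : topologicalKrullDim C = 1)
    (hreg : ∀ x : C, IsRegularLocalRing (C.presheaf.stalk x)) (m : ℕ)
    (hm : m ≤ Curv2.genus k C + 1) :
    ∃ L : C.Modules, PicF.IsInvertible L ∧
      Curv2.deg k C L 1 = 2 * (Curv2.genus k C : ℤ) - (m : ℤ) ∧
      Subsingleton (Coh.HH C L 1) := by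
  induction m with
  | zero =>
    obtain ⟨L, hL, hd, h1⟩ := exists_invertible_deg_h1_zero_large k hdim hreg
      (2 * Curv2.genus k C) (by push_cast; omega)
    refine ⟨L, hL, ?_, h1⟩
    rw [hd]
    push_cast
    ring
  | succ m ih =>
    obtain ⟨L, hL, hd, h1⟩ := ih (by omega)
    have hrr := rr_invertible k hdim L
    have h10 : Module.finrank k (Coh.HH C L 1) = 0 := Module.finrank_zero_of_subsingleton
    rw [h10, hd] at hrr
    have h0 : 0 < Module.finrank k (Coh.HH C L 0) := by
      have : (0 : ℤ) < (Module.finrank k (Coh.HH C L 0) : ℤ) := by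
        push_cast at hrr
        have hm' : (m : ℤ) + 1 ≤ (Curv2.genus k C : ℤ) + 1 := by exact_mod_cast hm
        linarith
      exact_mod_cast this
    obtain ⟨L', hL', hd', h1'⟩ := exists_twist_down k hdim hreg L hL h1 h0
    refine ⟨L', hL', ?_, h1'⟩
    rw [hd', hd]
    push_cast
    ring

/-- **S11828** -/
theorem main11828 [IsAlgClosed k] (hdim : topologicalKrullDim C = 1)
    (hreg : ∀ x : C, IsRegularLocalRing (C.presheaf.stalk x)) :
    ∃ L : C.Modules, PicF.IsInvertible L ∧
      Curv2.deg k C L 1 = (Curv2.genus k C : ℤ) - 1 ∧ Subsingleton (Coh.HH C L 1) := by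
  obtain ⟨L, hL, hd, h1⟩ := exists_invertible_deg_h1_zero_chain k hdim hreg
    (Curv2.genus k C + 1) le_rfl
  refine ⟨L, hL, ?_, h1⟩
  rw [hd]
  push_cast
  ring

/-- **descent keeping `h⁰ = 1`**: an invertible module of positive degree with `h⁰ = 1` can be
twisted down by a closed point keeping `h⁰ = 1` -/
theorem exists_twist_down_h0_one [IsAlgClosed k] (hdim : topologicalKrullDim C = 1)
    (hreg : ∀ x : C, IsRegularLocalRing (C.presheaf.stalk x))
    (L : C.Modules) (hL : PicF.IsInvertible L) (h0 : Module.finrank k (Coh.HH C L 0) = 1)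
    (hd : 0 < Curv2.deg k C L 1) :
    ∃ L' : C.Modules, PicF.IsInvertible L' ∧ Curv2.deg k C L' 1 = Curv2.deg k C L 1 - 1 ∧
      Module.finrank k (Coh.HH C L' 0) = 1 := by
  haveI := Groth.Agent.Helper4.NApx82.isNoetherian_of_proper k C
  haveI : CompactSpace C :=
    QuasiCompact.compactSpace_of_compactSpace (C ↘ (Spec (CommRingCat.of k)))
  have hO : PicF.IsInvertible (Coh.structureModule C) :=
    Groth.Agent.Helper4.TensorInv.isInvertible_structureModule
  have hcO := Groth.Agent.Helper1.SerreFin.isCoh_of_isInvertible _ hO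
  have hcL := Groth.Agent.Helper1.SerreFin.isCoh_of_isInvertible L hL
  have hnt : Nontrivial (Coh.HH C L 0) :=
    Module.nontrivial_of_finrank_pos (R := k) (by rw [h0]; exact one_pos)
  obtain ⟨s, hs⟩ := exists_section_of_nontrivial_H0 L hnt
  haveI hm : Mono s := Groth.Agent.Helper4.NApx81.mono_of_ne_zero s hO hL hs
  have hne : ¬ Epi s := by
    intro he
    haveI := isIso_of_mono_of_epi s
    have h1 := deg_iso k (asIso s) 1
    rw [Groth.Agent.Helper4.NApx82.deg_structureModule k C] at h1
    omega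
  have hcQ := Groth.Agent.Lead.PerfLib.isCoh_cokernel hcO hcL s
  obtain ⟨x, hx, hnsx⟩ : ∃ x : C, IsClosed ({x} : Set C) ∧
      ¬ Function.Surjective (stalkLin s x) := by
    by_contra hcon
    push Not at hcon
    exact hne (epi_of_stalkLin_surjective_closed s hcQ hcon)
  have hL1 := Groth.Agent.Helper4.QAffSec.isFinLocFreeOfRank_one_of_isInvertible L hL
  obtain ⟨b⟩ := nonempty_basis_stalk_of_rank L hL1 x
  have hrepr : ∀ t : L.presheaf.stalk x, t = (b.repr t 0) • b 0 := by
    intro t
    conv_lhs => rw [← b.sum_repr t]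
    rw [Fin.sum_univ_one]
  have hgerm : L.presheaf.germ ⊤ x trivial (sec1 L s) ∈
      (IsLocalRing.maximalIdeal (C.presheaf.stalk x)) •
        (⊤ : Submodule (C.presheaf.stalk x) (L.presheaf.stalk x)) := by
    obtain ⟨g, hg⟩ : ∃ g : L.presheaf.stalk x, g = L.presheaf.germ ⊤ x trivial (sec1 L s) :=
      ⟨_, rfl⟩
    rw [← hg]
    by_cases hu : IsUnit (b.repr g 0)
    · exfalso
      apply hnsx
      intro t
      obtain ⟨u, hu'⟩ := hu
      refine ⟨(b.repr t 0 * (↑u⁻¹ : C.presheaf.stalk x)) •
        Groth.Agent.Lead.Hartogs2.unitEquiv x 1, ?_⟩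
      rw [map_smul, stalkLin_unitEquiv_one, ← hg, hrepr g, ← hu', smul_smul, mul_assoc,
        Units.inv_mul, mul_one]
      exact (hrepr t).symm
    · have hmem : b.repr g 0 ∈ IsLocalRing.maximalIdeal (C.presheaf.stalk x) :=
        (IsLocalRing.mem_maximalIdeal _).2 hu
      rw [hrepr g]
      exact Submodule.smul_mem_smul hmem Submodule.mem_top
  have hsec := exists_section_ideal_twist x hx L
    (FinLocFree7.isFinLocFree_of_rank L hL1) s hs hgerm
  obtain ⟨hI, hdI⟩ := ideal_point_of_regular k hdim hreg x hx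
  obtain ⟨D, hD⟩ : ∃ D, D = Scheme.IdealSheafData.vanishingIdeal ⟨{x}, hx⟩ := ⟨_, rfl⟩
  rw [← hD] at hI hdI hsec
  obtain ⟨s', hs'⟩ := hsec
  have hIL := isInvertible_tensor (ClSub.idealMod D) L hI hL
  have hdeg := deg_tensor_inv_curve k hdim (ClSub.idealMod D) L hI hL
  refine ⟨CohB1.tensorMod (ClSub.idealMod D) L, hIL, by rw [hdeg, hdI]; ring, ?_⟩
  have hcIL := Groth.Agent.Helper1.SerreFin.isCoh_of_isInvertible _ hIL
  haveI hmono : Mono (idealTwistι D L) := mono_idealTwistι D L hL
  rw [← finrank_hom_unit k] at h0 ⊢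
  let Φ : (Coh.structureModule C ⟶ CohB1.tensorMod (ClSub.idealMod D) L) →ₗ[k]
      (Coh.structureModule C ⟶ L) :=
    Linear.rightComp k (Coh.structureModule C) (idealTwistι D L)
  have hΦinj : Function.Injective Φ := fun a b h => (cancel_mono (idealTwistι D L)).1 h
  haveI : Module.Finite k (Coh.structureModule C ⟶ L) := finite_hom k _ _ hcO hcL
  haveI : Module.Finite k (Coh.structureModule C ⟶ CohB1.tensorMod (ClSub.idealMod D) L) :=
    finite_hom k _ _ hcO hcIL
  have hle := LinearMap.finrank_le_finrank_of_injective hΦinj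
  haveI : Nontrivial (Coh.structureModule C ⟶ CohB1.tensorMod (ClSub.idealMod D) L) :=
    ⟨⟨s', 0, hs'⟩⟩
  have hpos : 0 < Module.finrank k
      (Coh.structureModule C ⟶ CohB1.tensorMod (ClSub.idealMod D) L) := Module.finrank_pos
  omega

/-- invertible modules of degree `g - m`, `m ≤ g`, with `h⁰ = 1` -/
theorem exists_invertible_deg_h0_one_chain [IsAlgClosed k] (hdim : topologicalKrullDim C = 1)
    (hreg : ∀ x : C, IsRegularLocalRing (C.presheaf.stalk x)) (m : ℕ)
    (hm : m ≤ Curv2.genus k C) :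
    ∃ L : C.Modules, PicF.IsInvertible L ∧
      Curv2.deg k C L 1 = (Curv2.genus k C : ℤ) - (m : ℤ) ∧
      Module.finrank k (Coh.HH C L 0) = 1 := by
  induction m with
  | zero =>
    obtain ⟨L, hL, hd, h1⟩ := exists_invertible_deg_h1_zero_chain k hdim hreg
      (Curv2.genus k C) (Nat.le_succ _)
    have hrr := rr_invertible k hdim L
    have h10 : Module.finrank k (Coh.HH C L 1) = 0 := Module.finrank_zero_of_subsingleton
    rw [h10, hd] at hrr
    refine ⟨L, hL, ?_, ?_⟩
    · rw [hd]
      push_cast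
      ring
    · have : (Module.finrank k (Coh.HH C L 0) : ℤ) = 1 := by
        push_cast at hrr
        linarith
      exact_mod_cast this
  | succ m ih =>
    obtain ⟨L, hL, hd, h0⟩ := ih (by omega)
    have hpos : 0 < Curv2.deg k C L 1 := by
      rw [hd]
      have : (m : ℤ) + 1 ≤ (Curv2.genus k C : ℤ) := by exact_mod_cast hm
      linarith
    obtain ⟨L', hL', hd', h0'⟩ := exists_twist_down_h0_one k hdim hreg L hL h0 hpos
    refine ⟨L', hL', ?_, h0'⟩
    rw [hd', hd]
    push_cast
    ring

/-- **S14152** -/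
theorem main14152 [IsAlgClosed k] (hdim : topologicalKrullDim C = 1)
    (hreg : ∀ x : C, IsRegularLocalRing (C.presheaf.stalk x)) (r : ℕ)
    (hr : r ≤ Curv2.genus k C) :
    ∃ L : C.Modules, PicF.IsInvertible L ∧ Curv2.deg k C L 1 = (r : ℤ) ∧
      Module.finrank k (Coh.HH C L 0) = 1 := by
  obtain ⟨L, hL, hd, h0⟩ := exists_invertible_deg_h0_one_chain k hdim hreg
    (Curv2.genus k C - r) (Nat.sub_le _ _)
  refine ⟨L, hL, ?_, h0⟩
  rw [hd]
  push_cast [Nat.cast_sub hr]
  ring

end Descent

end Groth.Agent.Helper4.SN
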