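import Mathlib
import Groth.Agent.Helper4.SN132

/-!
# Weierstrass gaps: the number of gap values at a point is the genus (S11836)
-/

set_option autoImplicit false
set_option linter.unusedSectionVars false
set_option linter.style.haveILetI false
universe u

open CategoryTheory CategoryTheory.Limits AlgebraicGeometry TopologicalSpace Opposite

namespace Groth.Agent.Helper4.SN

open Groth.Agent.Helper4.StalkDict Groth.Agent.Helper4.NApx82 Groth.Agent.Lead.Ref1B

section Comb

/-- counting the flat steps of a sequence with increments `0` or `1` -/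
theorem card_filter_steps (a : ℕ → ℕ) (h1 : ∀ n, a n ≤ a (n + 1)) (h2 : ∀ n, a (n + 1) ≤ a n + 1)
    (N : ℕ) :
    ((Finset.range N).filter (fun m => a (m + 1) = a m)).card + a N = N + a 0 := by
  induction N with
  | zero => simp
  | succ N ih =>
    rw [Finset.range_add_one, Finset.filter_insert]
    split_ifs with h
    · rw [Finset.card_insert_of_notMem (by simp)]
      omega
    · have := h1 N
      have := h2 N
      omega

/-- the gaps of a sequence which eventually is `n + 1 - g` -/
theorem gaps_ncard (a : ℕ → ℕ) (g : ℕ) (h0 : a 0 = 1) (h1 : ∀ n, a n ≤ a (n + 1))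
    (h2 : ∀ n, a (n + 1) ≤ a n + 1) (h3 : ∀ n, 2 * g ≤ n + 1 → a n + g = n + 1) :
    {n : ℕ | 1 ≤ n ∧ a n = a (n - 1)}.Finite ∧ {n : ℕ | 1 ≤ n ∧ a n = a (n - 1)}.ncard = g := by
  have hS : {n : ℕ | 1 ≤ n ∧ a n = a (n - 1)} =
      ↑(((Finset.range (2 * g)).filter (fun m => a (m + 1) = a m)).image (fun m => m + 1)) := by
    ext n
    simp only [Set.mem_ofPred_eq, Finset.coe_image, Finset.coe_filter, Finset.mem_range,
      Set.mem_image]
    constructor
    · rintro ⟨hn, han⟩
      obtain ⟨m, rfl⟩ : ∃ m, n = m + 1 := ⟨n - 1, by omega⟩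
      rw [Nat.add_sub_cancel] at han
      refine ⟨m, ⟨?_, han⟩, rfl⟩
      by_contra hm
      have e1 := h3 m (by omega)
      have e2 := h3 (m + 1) (by omega)
      omega
    · rintro ⟨m, ⟨-, hm⟩, rfl⟩
      exact ⟨by omega, by rw [Nat.add_sub_cancel]; exact hm⟩
  rw [hS]
  refine ⟨Finset.finite_toSet _, ?_⟩
  rw [Set.ncard_coe_finset, Finset.card_image_of_injective _ (fun x y h => by simpa using h)]
  have h4 := card_filter_steps a h1 h2 (2 * g)
  have h5 := h3 (2 * g) (by omega)
  omega

end Comb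

section Gaps

attribute [local instance] Curv2.resAlgebra

variable (k : Type u) [Field k] {C : Scheme.{u}} [C.Over (Spec (CommRingCat.of k))]
  [IsIntegral C] [IsProper (C ↘ (Spec (CommRingCat.of k)))]

/-- **S11836** -/
theorem main11836 [IsAlgClosed k] (hdim : topologicalKrullDim C = 1)
    (hreg : ∀ x : C, IsRegularLocalRing (C.presheaf.stalk x))
    (p : C) (hp : IsClosed ({p} : Set C)) (L : C.Modules) (hL : PicF.IsInvertible L)
    (hLp : ClSub.IsInverseOf L
      (ClSub.idealMod (Scheme.IdealSheafData.vanishingIdeal (⟨{p}, hp⟩ : Closeds C)))) :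
    {n : ℕ | 1 ≤ n ∧ Module.finrank k (Coh.HH C (CohB1.tensorPow L n) 0) =
        Module.finrank k (Coh.HH C (CohB1.tensorPow L (n - 1)) 0)}.Finite ∧
      {n : ℕ | 1 ≤ n ∧ Module.finrank k (Coh.HH C (CohB1.tensorPow L n) 0) =
        Module.finrank k (Coh.HH C (CohB1.tensorPow L (n - 1)) 0)}.ncard = Curv2.genus k C := by
  haveI := Groth.Agent.Helper4.NApx82.isNoetherian_of_proper k C
  have h0O := finrank_h0_unit_of_isAlgClosed k (X := C)
  obtain ⟨ε⟩ := hLp
  obtain ⟨hI, hdI⟩ := ideal_point_of_regular k hdim hreg p hp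
  have hκ := finrank_residueField_eq_one k p hp
  have hker := ker_fromSpecResidueField p hp
  obtain ⟨D, hD⟩ : ∃ D, D = Scheme.IdealSheafData.vanishingIdeal ⟨{p}, hp⟩ := ⟨_, rfl⟩
  rw [← hD] at ε hI hdI hker
  have hdL : Curv2.deg k C L 1 = 1 := by
    rw [deg_inverse k hdim.le (ClSub.idealMod D) L hI hL ε, hdI]
    norm_num
  have hPow : ∀ n, PicF.IsInvertible (CohB1.tensorPow L n) := fun n =>
    Groth.Agent.Helper4.TensorInv.isInvertible_tensorPow hL n
  have hdPow : ∀ n : ℕ, Curv2.deg k C (CohB1.tensorPow L n) 1 = (n : ℤ) := fun n => by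
    rw [deg_tensorPow k hdim L hL n, hdL, mul_one]
  have hstep : ∀ n, Module.finrank k (Coh.HH C (CohB1.tensorPow L n) 0) ≤
      Module.finrank k (Coh.HH C (CohB1.tensorPow L (n + 1)) 0) ∧
      Module.finrank k (Coh.HH C (CohB1.tensorPow L (n + 1)) 0) ≤
        Module.finrank k (Coh.HH C (CohB1.tensorPow L n) 0) + 1 := by
    intro n
    have e : CohB1.tensorPow L n ≅
        CohB1.tensorMod (CohB1.tensorPow L (n + 1)) (ClSub.idealMod D) :=
      ((Groth.Agent.Lead.Ref1B.assoc (CohB1.tensorPow L n) L (ClSub.idealMod D)) ≪≫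
        tensorLeftIso (CohB1.tensorPow L n) ε ≪≫ SecTwist.unitorR (CohB1.tensorPow L n)).symm
    have h := main7837 k C p hp (CohB1.tensorPow L n) (CohB1.tensorPow L (n + 1)) (hPow (n + 1))
      (by rw [hker]; exact ⟨e⟩)
    rw [hκ] at h
    exact h
  have hlarge : ∀ n : ℕ, 2 * Curv2.genus k C ≤ n + 1 →
      Module.finrank k (Coh.HH C (CohB1.tensorPow L n) 0) + Curv2.genus k C = n + 1 := by
    intro n hn
    have h1 : Subsingleton (Coh.HH C (CohB1.tensorPow L n) 1) := by
      by_contra hns
      have hnt : Nontrivial (Coh.HH C (CohB1.tensorPow L n) 1) :=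
        not_subsingleton_iff_nontrivial.1 hns
      have hle := deg_le_of_h1_nontrivial k hdim h0O _ (hPow n) hnt
      rw [hdPow] at hle
      omega
    have hrr := rr_invertible k hdim (CohB1.tensorPow L n)
    have h10 : Module.finrank k (Coh.HH C (CohB1.tensorPow L n) 1) = 0 :=
      Module.finrank_zero_of_subsingleton
    rw [h10, hdPow] at hrr
    have : (Module.finrank k (Coh.HH C (CohB1.tensorPow L n) 0) : ℤ) +
        (Curv2.genus k C : ℤ) = (n : ℤ) + 1 := by
      push_cast at hrr
      linarith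
    exact_mod_cast this
  exact gaps_ncard (fun n => Module.finrank k (Coh.HH C (CohB1.tensorPow L n) 0))
    (Curv2.genus k C) h0O (fun n => (hstep n).1) (fun n => (hstep n).2) hlarge

end Gaps

end Groth.Agent.Helper4.SN
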