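import Mathlib
import Groth.Agent.Helper4.SN133

/-!
# Vanishing of `H¹(T ⊗ I_E)` from surjectivity of the restriction to a divisor (S15681)
-/

set_option autoImplicit false
set_option linter.unusedSectionVars false
set_option linter.style.haveILetI false
universe u

open CategoryTheory CategoryTheory.Limits AlgebraicGeometry TopologicalSpace Opposite

namespace Groth.Agent.Helper4.SN

open Groth.Agent.Helper4.StalkDict Groth.Agent.Helper4.NApx82 Groth.Agent.Lead.Ref1B

section LiftH0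

open Groth.Agent.Helper1.PUP Groth.Agent.Helper1.HHLes

variable (k : Type u) [CommRing k] {X : Scheme.{u}} [X.Over (Spec (CommRingCat.of k))]

include k in
/-- surjectivity on `H⁰` lifts global sections -/
theorem exists_lift_of_H0_surjective {M N : X.Modules} (φ : M ⟶ N)
    (h : Function.Surjective (Canon.HHlin k φ 0)) (σ : Coh.structureModule X ⟶ N) :
    ∃ τ : Coh.structureModule X ⟶ M, τ ≫ φ = σ := by
  obtain ⟨c, hc⟩ : ∃ c : Coh.HH X N 0,
      Groth.Agent.Lead.ProperFinA.h0Equiv N c = sec σ ⊤ :=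
    ⟨(Groth.Agent.Lead.ProperFinA.h0Equiv N).symm (sec σ ⊤), AddEquiv.apply_symm_apply _ _⟩
  obtain ⟨b, hb⟩ := h c
  refine ⟨Groth.Agent.Lead.LocLift.homOfTop M
    (Groth.Agent.Lead.ProperFinA.h0Equiv M b), ?_⟩
  apply hom_ext_of_sec
  rw [sec_comp, sec_homOfTop, ← hc, ← hb]
  exact (h0Equiv_HHlin k φ b).symm

end LiftH0

section FreeSec

attribute [local instance] Curv2.resAlgebra

variable (k : Type u) [Field k] {C : Scheme.{u}} [C.Over (Spec (CommRingCat.of k))]
  [IsIntegral C] [IsProper (C ↘ (Spec (CommRingCat.of k)))]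

/-- a locally free module `T` with `H¹(T ⊗ I_E) ≠ 0`, `E` an effective Cartier divisor, has an
invertible quotient of degree at most `2g - 2 + deg E` -/
theorem exists_quotient_of_h1_idealTwist_nontrivial [IsAlgClosed k]
    (hdim : topologicalKrullDim C = 1)
    (hreg : ∀ x : C, IsRegularLocalRing (C.presheaf.stalk x))
    (T : C.Modules) (hT : FlatMod.IsFinLocFree T)
    (E : C.IdealSheafData) (hE : BlowUp.IsEffCartierIdeal E)
    (h1 : Nontrivial (Coh.HH C (CohB1.tensorMod T (ClSub.idealMod E)) 1)) :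
    ∃ (Q : C.Modules) (q : T ⟶ Q), PicF.IsInvertible Q ∧ Epi q ∧
      Curv2.deg k C Q 1 ≤ 2 * (Curv2.genus k C : ℤ) - 2 +
        (Module.finrank k (Coh.HH C (ClSub.quotMod E) 0) : ℤ) := by
  haveI := Groth.Agent.Helper4.NApx82.isNoetherian_of_proper k C
  have hTn := isFinLocFreeOfRank_of_isFinLocFree T hT
  obtain ⟨n, hn⟩ : ∃ n, n = Module.finrank (C.presheaf.stalk (genericPoint C))
      (T.presheaf.stalk (genericPoint C)) := ⟨_, rfl⟩
  rw [← hn] at hTn
  have hIE := Groth.Agent.Lead.IdealModDict.isInvertible_of_isEffCartierIdeal E hE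
  obtain ⟨I, hI⟩ : ∃ I, I = ClSub.idealMod E := ⟨_, rfl⟩
  rw [← hI] at hIE h1
  have hTI := isFinLocFreeOfRank_tensor_invertible T I n hTn hIE
  rcases Nat.eq_zero_or_pos n with h0 | hpos
  · exfalso
    rw [h0] at hTI
    have hz := isZero_of_rank_zero _ hTI
    haveI := Groth.Agent.Helper1.KzChase.subsingleton_HH_of_isZero hz 1
    exact not_subsingleton _ ‹_›
  obtain ⟨r, hr⟩ : ∃ r, n = r + 1 := ⟨n - 1, by omega⟩
  rw [hr] at hTI
  obtain ⟨Q', q', hQ', hq', hdQ'⟩ :=
    exists_quotient_of_h1_nontrivial k hdim hreg r _ hTI h1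
  obtain ⟨J, hJ, ⟨ε⟩, ⟨ε'⟩⟩ := Groth.Agent.Lead.InvDual.exists_inverse I hIE
  have hQ'1 := Groth.Agent.Helper4.QAffSec.isFinLocFreeOfRank_one_of_isInvertible Q' hQ'
  have hdQ := deg_twist_effCartier k hdim.le E hE J hJ ⟨hI ▸ ε⟩ 1 Q' hQ'1
  let a : T ≅ CohB1.tensorMod (CohB1.tensorMod T I) J :=
    (SecTwist.unitorR T).symm ≪≫ tensorLeftIso T ε'.symm ≪≫
      (Groth.Agent.Lead.Ref1B.assoc T I J).symm
  have hex := exact_map_tensorRightMod
    (ShortComplex.mk (kernel.ι q') q' (kernel.condition q')) (ShortComplex.exact_kernel q') hq' J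
  obtain ⟨t, ht⟩ : ∃ t : CohB1.tensorMod (CohB1.tensorMod T I) J ⟶ CohB1.tensorMod Q' J,
      t = (DCoh.tensorRightMod J).map q' := ⟨_, rfl⟩
  haveI hte : Epi t := by
    rw [ht]
    exact hex.2
  refine ⟨CohB1.tensorMod Q' J, a.hom ≫ t, isInvertible_tensor Q' J hQ' hJ, epi_comp _ _, ?_⟩
  rw [hdQ]
  push_cast
  linarith

omit [IsIntegral C] in
/-- the support of a kernel lies in the support of the source -/
theorem support_kernel_subset {A B : C.Modules} (φ : A ⟶ B) :
    CohB1.support (kernel φ) ⊆ CohB1.support A := by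
  intro x hx hsub
  apply hx
  exact (Groth.Agent.Helper4.StalkExact.stalkLin_injective (kernel.ι φ) x).subsingleton

/-- if the sections of `T ⊗ O_D` lift to `T`, the same holds for every invertible quotient `Q` of
`T`; hence `h⁰(O_D) ≤ h⁰(Q)` -/
theorem h0_quotMod_le_h0_of_epi (hdim : topologicalKrullDim C = 1)
    (T : C.Modules) (hcT : Coh.IsCoh T)
    (D : C.IdealSheafData) (hD : BlowUp.IsEffCartierIdeal D)
    (hsurj : ∀ σ : Coh.structureModule C ⟶ CohB1.tensorMod T (ClSub.quotMod D),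
      ∃ τ : Coh.structureModule C ⟶ CohB1.tensorMod T (Coh.structureModule C),
        τ ≫ KoszTw.tensorMap (𝟙 T) (ClSub.toSubscheme D) = σ)
    (Q : C.Modules) (hQ : PicF.IsInvertible Q) (q : T ⟶ Q) (hq : Epi q) :
    Module.finrank k (Coh.HH C (ClSub.quotMod D) 0) ≤ Module.finrank k (Coh.HH C Q 0) := by
  haveI := Groth.Agent.Helper4.NApx82.isNoetherian_of_proper k C
  have hO : PicF.IsInvertible (Coh.structureModule C) :=
    Groth.Agent.Helper4.TensorInv.isInvertible_structureModule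
  have hcO := Groth.Agent.Helper1.SerreFin.isCoh_of_isInvertible _ hO
  have hcQ := Groth.Agent.Helper1.SerreFin.isCoh_of_isInvertible Q hQ
  have hcOD : Coh.IsCoh (ClSub.quotMod D) := isCoh_quotMod D
  have hQ1 := Groth.Agent.Helper4.QAffSec.isFinLocFreeOfRank_one_of_isInvertible Q hQ
  have hdimD : DimLT (D.support : Set C) (0 + 1) :=
    dimLT_support_effCartier D hD 0 (by simpa using hdim.le)
  have hdimOD : DimLT (CohB1.support (ClSub.quotMod D)) 1 :=
    hdimD.mono (support_quotMod_subset D)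
  have hcTD : Coh.IsCoh (CohB1.tensorMod T (ClSub.quotMod D)) :=
    Groth.Agent.Lead.Ref1B.isCoh_tensorMod _ _ hcT hcOD
  have hcQD : Coh.IsCoh (CohB1.tensorMod Q (ClSub.quotMod D)) :=
    Groth.Agent.Lead.Ref1B.isCoh_tensorMod _ _ hcQ hcOD
  have hcQO : Coh.IsCoh (CohB1.tensorMod Q (Coh.structureModule C)) :=
    Groth.Agent.Lead.Ref1B.isCoh_tensorMod _ _ hcQ hcO
  -- the map `q ⊗ O_D`
  obtain ⟨φ, hφ⟩ : ∃ φ : CohB1.tensorMod T (ClSub.quotMod D) ⟶ CohB1.tensorMod Q (ClSub.quotMod D),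
      φ = KoszTw.tensorMap q (𝟙 (ClSub.quotMod D)) := ⟨_, rfl⟩
  haveI hφepi : Epi φ := by
    have hex := exact_map_tensorRightMod
      (ShortComplex.mk (kernel.ι q) q (kernel.condition q)) (ShortComplex.exact_kernel q) hq
      (ClSub.quotMod D)
    rw [hφ, ← KoszTw.tensorRightMod_map]
    exact hex.2
  have hcK : Coh.IsCoh (kernel φ) := Groth.Agent.Lead.PerfLib.isCoh_kernel hcTD hcQD φ
  have hdimK : DimLT (CohB1.support (kernel φ)) 1 :=
    hdimOD.mono ((support_kernel_subset φ).trans (support_tensorMod_subset T (ClSub.quotMod D)))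
  have hclK : IsClosed (CohB1.support (kernel φ)) := Groth.Agent.S0020.result C _ hcK.2
  have hK1 : Subsingleton (Coh.HH C (kernel φ) 1) :=
    subsingleton_HH_of_dimLT_support _ hclK 1 hdimK 1 le_rfl
  have hS' : (ShortComplex.mk (kernel.ι φ) φ (kernel.condition φ)).ShortExact :=
    { exact := ShortComplex.exact_kernel φ
      mono_f := inferInstanceAs (Mono (kernel.ι φ))
      epi_g := hφepi }
  have hlift : ∀ σ : Coh.structureModule C ⟶ CohB1.tensorMod Q (ClSub.quotMod D),
      ∃ τ : Coh.structureModule C ⟶ CohB1.tensorMod Q (Coh.structureModule C),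
        τ ≫ KoszTw.tensorMap (𝟙 Q) (ClSub.toSubscheme D) = σ := by
    intro σ
    obtain ⟨σ', hσ'⟩ := exists_lift_section k _ hS' hK1 σ
    have hσ'' : σ' ≫ φ = σ := hσ'
    obtain ⟨τ, hτ⟩ := hsurj σ'
    refine ⟨τ ≫ KoszTw.tensorMap q (𝟙 (Coh.structureModule C)), ?_⟩
    rw [Category.assoc, ← KoszTw.tensorMap_comp, Category.comp_id, Category.id_comp]
    have h1 : KoszTw.tensorMap q (ClSub.toSubscheme D) =
        KoszTw.tensorMap (𝟙 T) (ClSub.toSubscheme D) ≫ KoszTw.tensorMap q (𝟙 (ClSub.quotMod D)) := by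
      rw [← KoszTw.tensorMap_comp, Category.id_comp, Category.comp_id]
    rw [h1, ← Category.assoc, hτ, ← hφ]
    exact hσ''
  -- count
  haveI : Module.Finite k (Coh.structureModule C ⟶ CohB1.tensorMod Q (Coh.structureModule C)) :=
    finite_hom k _ _ hcO hcQO
  let Ψ : (Coh.structureModule C ⟶ CohB1.tensorMod Q (Coh.structureModule C)) →ₗ[k]
      (Coh.structureModule C ⟶ CohB1.tensorMod Q (ClSub.quotMod D)) :=
    Linear.rightComp k (Coh.structureModule C) (KoszTw.tensorMap (𝟙 Q) (ClSub.toSubscheme D))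
  have hΨ : Function.Surjective Ψ := fun σ => hlift σ
  have hle := LinearMap.finrank_le_finrank_of_surjective hΨ
  rw [finrank_hom_unit, finrank_hom_unit] at hle
  have e₁ := (Groth.Agent.Helper1.ProjTop.HHlinEquiv k (X := C) (SecTwist.unitorR Q) 0).finrank_eq
  rw [e₁] at hle
  -- `h⁰(Q ⊗ O_D) = h⁰(O_D)`
  have hdimQD : DimLT (CohB1.support (CohB1.tensorMod Q (ClSub.quotMod D))) 1 :=
    hdimOD.mono (support_tensorMod_subset Q (ClSub.quotMod D))
  have hr := rkDefect_eq_zero_of_dimLT k (ClSub.quotMod D) hcOD hdimOD 1 Q hQ1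
  have hr' : chi k C (CohB1.tensorMod (ClSub.quotMod D) Q) -
      (1 : ℕ) * chi k C (ClSub.quotMod D) = 0 := hr
  rw [chi_iso k (Groth.Agent.Lead.Ref1B.braid (ClSub.quotMod D) Q),
    chi_eq_h0_of_dimLT_one k _ hcOD hdimOD, chi_eq_h0_of_dimLT_one k _ hcQD hdimQD] at hr'
  have heq : Module.finrank k (Coh.HH C (CohB1.tensorMod Q (ClSub.quotMod D)) 0) =
      Module.finrank k (Coh.HH C (ClSub.quotMod D) 0) := by
    have : (Module.finrank k (Coh.HH C (CohB1.tensorMod Q (ClSub.quotMod D)) 0) : ℤ) =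
        (Module.finrank k (Coh.HH C (ClSub.quotMod D) 0) : ℤ) := by
      push_cast at hr'
      linarith
    exact_mod_cast this
  rw [heq] at hle
  exact hle

open MonoidalCategory in
/-- **S15681** -/
theorem main15681 [IsAlgClosed k] (hdim : topologicalKrullDim C = 1)
    (hreg : ∀ x : C, IsRegularLocalRing (C.presheaf.stalk x))
    (T : C.Modules) (hT : FlatMod.IsFinLocFree T)
    (D : C.IdealSheafData) (hD : BlowUp.IsEffCartierIdeal D)
    (hD1 : 1 ≤ Module.finrank k (Coh.HH C (ClSub.quotMod D) 0))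
    (hDg : 2 * Curv2.genus k C ≤ Module.finrank k (Coh.HH C (ClSub.quotMod D) 0))
    (hsurj : Function.Surjective (Sheaf.H.map ((SheafOfModules.toSheaf C.ringCatSheaf).map
      ((CohB1.sheafifyMod C).map (CohB1.toPMod T ◁ (ClSub.toSubscheme D).val) :
        CohB1.tensorMod T (Coh.structureModule C) ⟶ CohB1.tensorMod T (ClSub.quotMod D))) 0))
    (E : C.IdealSheafData) (hE : BlowUp.IsEffCartierIdeal E)
    (hdegE : Module.finrank k (Coh.HH C (ClSub.quotMod E) 0) + 2 * Curv2.genus k C =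
      Module.finrank k (Coh.HH C (ClSub.quotMod D) 0)) :
    Subsingleton (Coh.HH C (CohB1.tensorMod T (ClSub.idealMod E)) 1) := by
  haveI := Groth.Agent.Helper4.NApx82.isNoetherian_of_proper k C
  haveI : CompactSpace C :=
    QuasiCompact.compactSpace_of_compactSpace (C ↘ (Spec (CommRingCat.of k)))
  by_contra hns
  have hnt : Nontrivial (Coh.HH C (CohB1.tensorMod T (ClSub.idealMod E)) 1) :=
    not_subsingleton_iff_nontrivial.1 hns
  obtain ⟨Q, q, hQ, hq, hdQ⟩ :=
    exists_quotient_of_h1_idealTwist_nontrivial k hdim hreg T hT E hE hnt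
  have hcT : Coh.IsCoh T := Groth.Agent.Lead.PerfLib.isCoh_of_isFinLocFree hT
  have hmap : ((CohB1.sheafifyMod C).map (CohB1.toPMod T ◁ (ClSub.toSubscheme D).val) :
        CohB1.tensorMod T (Coh.structureModule C) ⟶ CohB1.tensorMod T (ClSub.quotMod D)) =
      KoszTw.tensorMap (𝟙 T) (ClSub.toSubscheme D) :=
    KoszTw.tensorBi_obj_map T (ClSub.toSubscheme D)
  rw [hmap] at hsurj
  have hsurj' : ∀ σ : Coh.structureModule C ⟶ CohB1.tensorMod T (ClSub.quotMod D),
      ∃ τ : Coh.structureModule C ⟶ CohB1.tensorMod T (Coh.structureModule C),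
        τ ≫ KoszTw.tensorMap (𝟙 T) (ClSub.toSubscheme D) = σ :=
    fun σ => exists_lift_of_H0_surjective k _ hsurj σ
  have hle := h0_quotMod_le_h0_of_epi k hdim T hcT D hD hsurj' Q hQ q hq
  -- the bound `h⁰(Q) ≤ deg Q + 1`
  obtain ⟨x, -, hx⟩ := IsClosed.exists_closed_singleton (X := C) isClosed_univ Set.univ_nonempty
  haveI := hreg x
  have hnorm : IsIntegrallyClosed (C.presheaf.stalk x) :=
    Groth.Agent.Helper4.RegNormal.isIntegrallyClosed_of_isRegularLocalRing _
  have hκ := finrank_residueField_eq_one k x hx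
  have hQ1 := Groth.Agent.Helper4.QAffSec.isFinLocFreeOfRank_one_of_isInvertible Q hQ
  have hb := h0_le_of_sub_deg_le k hdim x hx hnorm hκ 1
    (Module.finrank k (Coh.HH C (ClSub.quotMod D) 0) - 1) Q hQ1 (Curv2.deg k C Q 1)
    (fun M ι hM hι => by
      haveI := hι
      have hι0 : ι ≠ 0 := fun h =>
        not_isZero_of_isInvertible M hM (IsZero.of_mono_eq_zero ι h)
      exact (Groth.Agent.Helper4.NApx82.main1521 k C hdim M Q hM hQ ι hι0).1)
    (by
      have h2 : (Module.finrank k (Coh.HH C (ClSub.quotMod E) 0) : ℤ) +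
          2 * (Curv2.genus k C : ℤ) = (Module.finrank k (Coh.HH C (ClSub.quotMod D) 0) : ℤ) := by
        exact_mod_cast hdegE
      push_cast [Nat.cast_sub hD1]
      linarith)
  omega

end FreeSec

end Groth.Agent.Helper4.SN
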