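import Mathlib
import Groth.Agent.Helper4.SN134
import Groth.Agent.Helper3.CurveSmoothPt

/-!
# Line bundles with `h⁰ = 1, h¹ = 0` and `h⁰ = h¹ = 0` on an integral proper curve (S1523)

The descent of `SN132`, choosing the points in a nonempty open set of normal points.
-/

set_option autoImplicit false
set_option linter.unusedSectionVars false
set_option linter.style.haveILetI false
universe u

open CategoryTheory CategoryTheory.Limits AlgebraicGeometry TopologicalSpace Opposite

namespace Groth.Agent.Helper4.SN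

open Groth.Agent.Helper4.StalkDict Groth.Agent.Helper4.NApx82 Groth.Agent.Lead.Ref1B

section DescentW

attribute [local instance] Curv2.resAlgebra

variable (k : Type u) [Field k] {C : Scheme.{u}} [C.Over (Spec (CommRingCat.of k))]
  [IsIntegral C] [IsProper (C ↘ (Spec (CommRingCat.of k)))]

include k in
/-- a nonzero section of an invertible module generates the stalk at some closed point of a given
nonempty open set -/
theorem exists_closed_mem_stalkLin_surjective (W : C.Opens) (hW : (W : Set C).Nonempty)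
    (L : C.Modules) (hL : PicF.IsInvertible L)
    (s : Coh.structureModule C ⟶ L) (hs : s ≠ 0) :
    ∃ x : C, x ∈ W ∧ IsClosed ({x} : Set C) ∧ Function.Surjective (stalkLin s x) := by
  haveI := Groth.Agent.Helper4.NApx82.isNoetherian_of_proper k C
  have hO : PicF.IsInvertible (Coh.structureModule C) :=
    Groth.Agent.Helper4.TensorInv.isInvertible_structureModule
  have hcO := Groth.Agent.Helper1.SerreFin.isCoh_of_isInvertible _ hO
  have hcL := Groth.Agent.Helper1.SerreFin.isCoh_of_isInvertible L hL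
  haveI hm : Mono s := Groth.Agent.Helper4.NApx81.mono_of_ne_zero s hO hL hs
  have hgen := Groth.Agent.Helper4.NApx81.stalkLin_surjective_genericPoint s hO hL hs
  have hcQ := Groth.Agent.Lead.PerfLib.isCoh_cokernel hcO hcL s
  obtain ⟨U, hηU, hU⟩ := Groth.Agent.Lead.StalkNhd.exists_nhd_subsingleton (cokernel s) hcQ.2
    (genericPoint C) (Groth.Agent.Lead.StalkNhd.subsingleton_stalk_cokernel s _ hgen)
  haveI : JacobsonSpace C := LocallyOfFiniteType.jacobsonSpace (C ↘ Spec (CommRingCat.of k))
  have hne : ((U : Set C) ∩ (W : Set C)).Nonempty :=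
    nonempty_preirreducible_inter U.isOpen W.isOpen ⟨_, hηU⟩ hW
  obtain ⟨x, ⟨hxU, hxW⟩, hx⟩ := nonempty_inter_closedPoints hne
    (U.isOpen.inter W.isOpen).isLocallyClosed
  refine ⟨x, hxW, hx, ?_⟩
  have hex : (ShortComplex.mk s (cokernel.π s) (cokernel.condition s)).Exact :=
    ShortComplex.exact_of_g_is_cokernel _ (cokernelIsCokernel s)
  haveI : Mono (ShortComplex.mk s (cokernel.π s) (cokernel.condition s)).f := hm
  have h2 := Groth.Agent.Helper4.StalkExact.stalkLin_exact _ hex x
  intro t
  haveI := hU x hxU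
  exact (h2 t).mp (Subsingleton.elim _ _)

/-- the ideal of a normal closed point over an algebraically closed field is invertible of degree
`-1` -/
theorem ideal_point_of_normal_algClosed [IsAlgClosed k] (hdim : topologicalKrullDim C = 1) (x : C)
    (hx : IsClosed ({x} : Set C)) (hn : IsIntegrallyClosed (C.presheaf.stalk x)) :
    PicF.IsInvertible (ClSub.idealMod (Scheme.IdealSheafData.vanishingIdeal ⟨{x}, hx⟩)) ∧
      Curv2.deg k C (ClSub.idealMod (Scheme.IdealSheafData.vanishingIdeal ⟨{x}, hx⟩)) 1 = -1 := by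
  obtain ⟨hI, hdeg⟩ := ideal_point_of_normal k hdim x hx hn
  refine ⟨hI, ?_⟩
  rw [hdeg, finrank_residueField_eq_one k x hx]
  norm_num

/-- descent step with the point chosen in `W` -/
theorem exists_twist_down_of_normal_open [IsAlgClosed k] (hdim : topologicalKrullDim C = 1)
    (W : C.Opens) (hW : (W : Set C).Nonempty)
    (hn : ∀ x ∈ W, IsClosed ({x} : Set C) → IsIntegrallyClosed (C.presheaf.stalk x))
    (L : C.Modules) (hL : PicF.IsInvertible L) (h1 : Subsingleton (Coh.HH C L 1))
    (h0 : 0 < Module.finrank k (Coh.HH C L 0)) :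
    ∃ L' : C.Modules, PicF.IsInvertible L' ∧ Curv2.deg k C L' 1 = Curv2.deg k C L 1 - 1 ∧
      Subsingleton (Coh.HH C L' 1) := by
  haveI := Groth.Agent.Helper4.NApx82.isNoetherian_of_proper k C
  have hnt : Nontrivial (Coh.HH C L 0) := Module.nontrivial_of_finrank_pos h0
  obtain ⟨s, hs⟩ := exists_section_of_nontrivial_H0 L hnt
  obtain ⟨x, hxW, hx, hsx⟩ := exists_closed_mem_stalkLin_surjective k W hW L hL s hs
  have hlt := h0_idealTwist_lt k x hx L hL s hsx
  obtain ⟨hI, hdI⟩ := ideal_point_of_normal_algClosed k hdim x hx (hn x hxW hx)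
  obtain ⟨I, hIdef⟩ : ∃ I, I = ClSub.idealMod (Scheme.IdealSheafData.vanishingIdeal ⟨{x}, hx⟩) :=
    ⟨_, rfl⟩
  rw [← hIdef] at hI hdI hlt
  have hIL := isInvertible_tensor I L hI hL
  have hdeg := deg_tensor_inv_curve k hdim I L hI hL
  refine ⟨CohB1.tensorMod I L, hIL, by rw [hdeg, hdI]; ring, ?_⟩
  have hcIL := Groth.Agent.Helper1.SerreFin.isCoh_of_isInvertible _ hIL
  haveI : Module.Finite k (Coh.HH C (CohB1.tensorMod I L) 1) :=
    Groth.Agent.S0002.result k C _ hcIL 1
  have hrr := rr_invertible k hdim L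
  have hrr' := rr_invertible k hdim (CohB1.tensorMod I L)
  have h10 : Module.finrank k (Coh.HH C L 1) = 0 := Module.finrank_zero_of_subsingleton
  rw [h10] at hrr
  rw [hdeg, hdI] at hrr'
  apply (Module.finrank_zero_iff (R := k)).1
  have : (Module.finrank k (Coh.HH C (CohB1.tensorMod I L) 1) : ℤ) = 0 := by
    have h2 : (Module.finrank k (Coh.HH C (CohB1.tensorMod I L) 0) : ℤ) <
      (Module.finrank k (Coh.HH C L 0) : ℤ) := by exact_mod_cast hlt
    have h3 : (0 : ℤ) ≤ (Module.finrank k (Coh.HH C (CohB1.tensorMod I L) 1) : ℤ) :=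
      Int.natCast_nonneg _
    push_cast at hrr hrr'
    linarith
  exact_mod_cast this

/-- invertible modules of every degree `n ≥ 2g - 1` with `H¹ = 0` -/
theorem exists_invertible_deg_h1_zero_large_of_normal_open [IsAlgClosed k]
    (hdim : topologicalKrullDim C = 1)
    (W : C.Opens) (hW : (W : Set C).Nonempty)
    (hn : ∀ x ∈ W, IsClosed ({x} : Set C) → IsIntegrallyClosed (C.presheaf.stalk x)) (n : ℕ)
    (hn' : 2 * (Curv2.genus k C : ℤ) - 1 ≤ n) :
    ∃ L : C.Modules, PicF.IsInvertible L ∧ Curv2.deg k C L 1 = (n : ℤ) ∧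
      Subsingleton (Coh.HH C L 1) := by
  haveI := Groth.Agent.Helper4.NApx82.isNoetherian_of_proper k C
  have h0O := finrank_h0_unit_of_isAlgClosed k (X := C)
  haveI : JacobsonSpace C := LocallyOfFiniteType.jacobsonSpace (C ↘ Spec (CommRingCat.of k))
  obtain ⟨x, hxW, hx⟩ := nonempty_inter_closedPoints hW W.isOpen.isLocallyClosed
  obtain ⟨hM, hdM⟩ := ideal_point_of_normal_algClosed k hdim x hx (hn x hxW hx)
  obtain ⟨M, hMdef⟩ : ∃ M, M = ClSub.idealMod (Scheme.IdealSheafData.vanishingIdeal ⟨{x}, hx⟩) :=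
    ⟨_, rfl⟩
  rw [← hMdef] at hM hdM
  obtain ⟨N, hN, ⟨ε1⟩, -⟩ := Groth.Agent.Lead.InvDual.exists_inverse M hM
  have hdN : Curv2.deg k C N 1 = 1 := by
    rw [deg_inverse k hdim.le M N hM hN ε1, hdM]
    norm_num
  have hP := Groth.Agent.Helper4.TensorInv.isInvertible_tensorPow hN n
  have hdP : Curv2.deg k C (CohB1.tensorPow N n) 1 = (n : ℤ) := by
    rw [deg_tensorPow k hdim N hN n, hdN, mul_one]
  refine ⟨_, hP, hdP, ?_⟩
  by_contra hns
  have hnt : Nontrivial (Coh.HH C (CohB1.tensorPow N n) 1) := not_subsingleton_iff_nontrivial.1 hns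
  have hle := deg_le_of_h1_nontrivial k hdim h0O _ hP hnt
  rw [hdP] at hle
  omega

/-- the descending chain -/
theorem exists_invertible_deg_h1_zero_chain_of_normal_open [IsAlgClosed k]
    (hdim : topologicalKrullDim C = 1)
    (W : C.Opens) (hW : (W : Set C).Nonempty)
    (hn : ∀ x ∈ W, IsClosed ({x} : Set C) → IsIntegrallyClosed (C.presheaf.stalk x)) (m : ℕ)
    (hm : m ≤ Curv2.genus k C + 1) :
    ∃ L : C.Modules, PicF.IsInvertible L ∧
      Curv2.deg k C L 1 = 2 * (Curv2.genus k C : ℤ) - (m : ℤ) ∧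
      Subsingleton (Coh.HH C L 1) := by
  induction m with
  | zero =>
    obtain ⟨L, hL, hd, h1⟩ := exists_invertible_deg_h1_zero_large_of_normal_open k hdim W hW hn
      (2 * Curv2.genus k C) (by push_cast; omega)
    refine ⟨L, hL, ?_, h1⟩
    rw [hd]
    push_cast
    ring
  | succ m ih =>
    obtain ⟨L, hL, hd, h1⟩ := ih (by omega)
    have hrr := rr_invertible k hdim L
    have h10 : Module.finrank k (Coh.HH C L 1) = 0 := Module.finrank_zero_of_subsingleton
    rw [h10, hd] at hrr
    have h0 : 0 < Module.finrank k (Coh.HH C L 0) := by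
      have : (0 : ℤ) < (Module.finrank k (Coh.HH C L 0) : ℤ) := by
        push_cast at hrr
        have hm' : (m : ℤ) + 1 ≤ (Curv2.genus k C : ℤ) + 1 := by exact_mod_cast hm
        linarith
      exact_mod_cast this
    obtain ⟨L', hL', hd', h1'⟩ := exists_twist_down_of_normal_open k hdim W hW hn L hL h1 h0
    refine ⟨L', hL', ?_, h1'⟩
    rw [hd', hd]
    push_cast
    ring

/-- the smooth locus of an integral proper curve over an algebraically closed field is a nonempty
open set of normal points -/
theorem exists_normal_open [IsAlgClosed k] (hdim : topologicalKrullDim C = 1) :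
    ∃ W : C.Opens, (W : Set C).Nonempty ∧
      ∀ x ∈ W, IsClosed ({x} : Set C) → IsIntegrallyClosed (C.presheaf.stalk x) := by
  haveI := Groth.Agent.Helper4.NApx82.isNoetherian_of_proper k C
  haveI : LocallyOfFinitePresentation (C ↘ Spec (CommRingCat.of k)) := inferInstance
  refine ⟨(C ↘ Spec (CommRingCat.of k)).smoothLocus,
    ⟨genericPoint C, Scheme.Hom.genericPoint_mem_smoothLocus_of_perfectField _⟩, ?_⟩
  intro x hxW hx
  have hpos := finrank_residueField_pos k x hx
  haveI : Module.Finite k (C.residueField x) := Module.finite_of_finrank_pos hpos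
  haveI : Algebra.IsIntegral k (C.residueField x) := Algebra.IsIntegral.of_finite k _
  have hbij := IsAlgClosed.algebraMap_bijective_of_isIntegral (k := k) (K := C.residueField x)
  haveI : Algebra.IsSeparable k (C.residueField x) := by
    refine ⟨fun z => ?_⟩
    obtain ⟨a, rfl⟩ := hbij.2 z
    exact isSeparable_algebraMap a
  haveI := (Groth.Agent.Helper3.CurveSmoothPt.mem_smoothLocus_iff_regular k C x).1 hxW
  exact Groth.Agent.Helper4.RegNormal.isIntegrallyClosed_of_isRegularLocalRing _

/-- **S1523** -/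
theorem main1523 [IsAlgClosed k] (hdim : topologicalKrullDim C = 1) :
    (∃ L : C.Modules, PicF.IsInvertible L ∧ Module.finrank k (Coh.HH C L 0) = 1 ∧
      Subsingleton (Coh.HH C L 1)) ∧
    (∃ N : C.Modules, PicF.IsInvertible N ∧ Subsingleton (Coh.HH C N 0) ∧
      Subsingleton (Coh.HH C N 1)) := by
  haveI := Groth.Agent.Helper4.NApx82.isNoetherian_of_proper k C
  obtain ⟨W, hW, hn⟩ := exists_normal_open k hdim
  constructor
  · obtain ⟨L, hL, hd, h1⟩ := exists_invertible_deg_h1_zero_chain_of_normal_open k hdim W hW hn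
      (Curv2.genus k C) (Nat.le_succ _)
    have hrr := rr_invertible k hdim L
    have h10 : Module.finrank k (Coh.HH C L 1) = 0 := Module.finrank_zero_of_subsingleton
    rw [h10, hd] at hrr
    refine ⟨L, hL, ?_, h1⟩
    have : (Module.finrank k (Coh.HH C L 0) : ℤ) = 1 := by
      push_cast at hrr
      linarith
    exact_mod_cast this
  · obtain ⟨L, hL, hd, h1⟩ := exists_invertible_deg_h1_zero_chain_of_normal_open k hdim W hW hn
      (Curv2.genus k C + 1) le_rfl
    have hrr := rr_invertible k hdim L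
    have h10 : Module.finrank k (Coh.HH C L 1) = 0 := Module.finrank_zero_of_subsingleton
    rw [h10, hd] at hrr
    refine ⟨L, hL, ?_, h1⟩
    have hcL := Groth.Agent.Helper1.SerreFin.isCoh_of_isInvertible L hL
    haveI : Module.Finite k (Coh.HH C L 0) := Groth.Agent.S0002.result k C _ hcL 0
    apply (Module.finrank_zero_iff (R := k)).1
    have : (Module.finrank k (Coh.HH C L 0) : ℤ) = 0 := by
      push_cast at hrr
      linarith
    exact_mod_cast this

end DescentW

end Groth.Agent.Helper4.SN
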