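import Mathlib
import Groth.Agent.Helper4.SN135

/-!
# Global generation of a line bundle on a curve in terms of `h⁰(L ⊗ I_P)` (S11330)
-/

set_option autoImplicit false
set_option linter.unusedSectionVars false
set_option linter.style.haveILetI false
universe u

open CategoryTheory CategoryTheory.Limits AlgebraicGeometry TopologicalSpace Opposite TensorProduct

namespace Groth.Agent.Helper4.SN

section GG2

open Groth.Agent.Helper4.StalkDict Groth.Agent.Helper4.NApx82 Groth.Agent.Lead.Ref1B

attribute [local instance] Curv2.resAlgebra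

variable (k : Type u) [Field k] {C : Scheme.{u}} [C.Over (Spec (CommRingCat.of k))]
  [IsIntegral C] [IsProper (C ↘ (Spec (CommRingCat.of k)))]

/-- the sections of a locally free module `E` of rank `r` with `h⁰(I_x ⊗ E) + r ≤ h⁰(E)` generate
the stalk at the closed point `x` -/
theorem span_germs_eq_top_of_h0_ideal_twist [IsAlgClosed k] (hdim : topologicalKrullDim C = 1)
    (r : ℕ) (E : C.Modules) (hE : FlatMod.IsFinLocFreeOfRank r E)
    (x : C) (hx : IsClosed ({x} : Set C))
    (hcount : Module.finrank k (Coh.HH C (CohB1.tensorMod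
      (ClSub.idealMod (Scheme.IdealSheafData.vanishingIdeal ⟨{x}, hx⟩)) E) 0) + r ≤
      Module.finrank k (Coh.HH C E 0)) :
    Submodule.span (C.presheaf.stalk x)
      (Set.range fun s : Coh.structureModule C ⟶ E => E.presheaf.germ ⊤ x trivial (sec1 E s)) =
      ⊤ := by
  haveI := Groth.Agent.Helper4.NApx82.isNoetherian_of_proper k C
  have hFLF := FinLocFree7.isFinLocFree_of_rank E hE
  have hcE : Coh.IsCoh E := Groth.Agent.Lead.PerfLib.isCoh_of_isFinLocFree hFLF
  haveI : E.IsQuasicoherent := hcE.1
  have hcO : Coh.IsCoh (Coh.structureModule C) := Groth.Agent.Helper1.Dev.isCoh_structureModule C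
  haveI : (Coh.structureModule C).IsQuasicoherent := hcO.1
  obtain ⟨b⟩ := nonempty_basis_stalk_of_rank E hE x
  haveI : Module.Finite (C.presheaf.stalk x) (E.presheaf.stalk x) := Module.Finite.of_basis b
  haveI : Module.Free (C.presheaf.stalk x) (E.presheaf.stalk x) := Module.Free.of_basis b
  have hrk : Module.finrank (C.presheaf.stalk x) (E.presheaf.stalk x) = r := by
    rw [Module.finrank_eq_card_basis b, Fintype.card_fin]
  have hι : Function.Surjective
      ((IsLocalRing.residue (C.presheaf.stalk x)).comp (Curv2.stalkMap k C x)) :=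
    resMap_surjective k x hx
  have hκ := finrank_residueField_eq_one k x hx
  have hlift := fun s hs => exists_lift_ideal_twist x hx E hFLF s hs
  obtain ⟨D, hD⟩ : ∃ D, D = Scheme.IdealSheafData.vanishingIdeal ⟨{x}, hx⟩ := ⟨_, rfl⟩
  rw [← hD] at hcount hlift
  -- coherence
  have hcQ : Coh.IsCoh (ClSub.quotMod D) := isCoh_quotMod D
  have hcI : Coh.IsCoh (ClSub.idealMod D) :=
    Groth.Agent.Lead.PerfLib.isCoh_kernel hcO hcQ _
  have hc₁ : Coh.IsCoh (CohB1.tensorMod (ClSub.idealMod D) E) :=
    Groth.Agent.Lead.Ref1B.isCoh_tensorMod _ _ hcI hcE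
  have hc₂ : Coh.IsCoh (CohB1.tensorMod (Coh.structureModule C) E) :=
    Groth.Agent.Lead.Ref1B.isCoh_tensorMod _ _ hcO hcE
  have hc₃ : Coh.IsCoh (CohB1.tensorMod (ClSub.quotMod D) E) :=
    Groth.Agent.Lead.Ref1B.isCoh_tensorMod _ _ hcQ hcE
  have hflat : ∀ y : C, Module.Flat (C.presheaf.stalk y) (E.presheaf.stalk y) := fun y => by
    haveI := FinLocFree2.free_stalk_of_isFinLocFree E hFLF y
    infer_instance
  have hS' := shortExact_map_tensorRightMod_of_flat (idealSC D) (idealSC_shortExact D) E hflat
  haveI := hS'.mono_f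
  -- the spaces of sections
  haveI : Module.Finite k (Coh.structureModule C ⟶ E) := finite_hom k _ _ hcO hcE
  haveI : Module.Finite k (Coh.structureModule C ⟶ CohB1.tensorMod (ClSub.idealMod D) E) :=
    finite_hom k _ _ hcO hc₁
  haveI : Module.Finite k (Coh.structureModule C ⟶
      CohB1.tensorMod (Coh.structureModule C) E) := finite_hom k _ _ hcO hc₂
  let Φ : (Coh.structureModule C ⟶ CohB1.tensorMod (ClSub.idealMod D) E) →ₗ[k]
      (Coh.structureModule C ⟶ CohB1.tensorMod (Coh.structureModule C) E) :=
    { toFun := fun s' => s' ≫ (DCoh.tensorRightMod E).map (ClSub.idealModι D)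
      map_add' := fun a b => Preadditive.add_comp _ _ _ _ _ _
      map_smul' := fun a s' => Linear.smul_comp _ _ _ a s' _ }
  let τ : (Coh.structureModule C ⟶ E) →ₗ[k]
      (Coh.structureModule C ⟶ CohB1.tensorMod (Coh.structureModule C) E) :=
    { toFun := fun s => SecTwist.tmulHom (𝟙 (Coh.structureModule C)) s
      map_add' := fun a b => tmulHom_add_right _ a b
      map_smul' := fun a s => tmulHom_smul_right k a _ s }
  have hτ : Function.Injective τ := by
    rw [← LinearMap.ker_eq_bot, LinearMap.ker_eq_bot']
    intro s hs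
    have hOF : FlatMod.IsFinLocFree (Coh.structureModule C) :=
      FinLocFree7.isFinLocFree_of_rank _
        (Groth.Agent.Helper4.QAffSec.isFinLocFreeOfRank_one_of_isInvertible _
          Groth.Agent.Helper4.TensorInv.isInvertible_structureModule)
    rcases tmulHom_eq_zero hOF hFLF (𝟙 (Coh.structureModule C)) s hs with h3 | h3
    · rw [← Category.id_comp s, h3, zero_comp]
    · exact h3
  let K : Submodule k (Coh.structureModule C ⟶ E) := Submodule.comap τ (LinearMap.range Φ)
  have hKdim : Module.finrank k K ≤
      Module.finrank k (Coh.structureModule C ⟶ CohB1.tensorMod (ClSub.idealMod D) E) := by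
    have h1 : Module.finrank k K ≤ Module.finrank k (LinearMap.range Φ) := by
      let ρ : K →ₗ[k] LinearMap.range Φ := (τ.comp K.subtype).codRestrict _ (fun s => s.2)
      apply LinearMap.finrank_le_finrank_of_injective (f := ρ)
      intro a b hab
      apply Subtype.ext
      apply hτ
      exact congrArg Subtype.val hab
    exact h1.trans (LinearMap.finrank_range_le Φ)
  rw [finrank_hom_unit] at hKdim
  -- the germ map
  let e : (Coh.structureModule C ⟶ E) →+ E.presheaf.stalk x :=
    { toFun := fun s => E.presheaf.germ ⊤ x trivial (sec1 E s)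
      map_zero' := by
        change E.presheaf.germ ⊤ x trivial (sec1 E 0) = 0
        have : sec1 E (0 : Coh.structureModule C ⟶ E) = 0 := rfl
        rw [this]
        exact map_zero _
      map_add' := fun s t => by
        change E.presheaf.germ ⊤ x trivial (sec1 E (s + t)) = _
        rw [sec1_add]
        exact map_add _ _ _ }
  have he : ∀ (a : k) (s : Coh.structureModule C ⟶ E),
      e (a • s) = Curv2.stalkMap k C x a • e s := by
    intro a s
    exact (congrArg (E.presheaf.germ ⊤ x trivial) (sec1_smul k E a s)).trans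
      (germ_smul E ⊤ x trivial _ _)
  have hK : ∀ s : Coh.structureModule C ⟶ E,
      e s ∈ (IsLocalRing.maximalIdeal (C.presheaf.stalk x)) •
        (⊤ : Submodule (C.presheaf.stalk x) (E.presheaf.stalk x)) → s ∈ K := by
    intro s hs
    obtain ⟨s', hs'⟩ := hlift s hs
    exact ⟨s', hs'⟩
  have hdim' : Module.finrank k K + Module.finrank (C.presheaf.stalk x) (E.presheaf.stalk x) ≤
      Module.finrank k (Coh.structureModule C ⟶ E) := by
    rw [hrk, finrank_hom_unit]
    omega
  exact span_range_eq_top_of_codim (Curv2.stalkMap k C x) hι e he K hK hdim'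

end GG2

end Groth.Agent.Helper4.SN
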