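import Mathlib
import Groth.Agent.Helper4.SN136

/-!
# Global generation of a line bundle on a curve in terms of `h⁰(L ⊗ I_P)` (S11330)
-/

set_option autoImplicit false
set_option linter.unusedSectionVars false
set_option linter.style.haveILetI false
universe u

open CategoryTheory CategoryTheory.Limits AlgebraicGeometry TopologicalSpace Opposite TensorProduct

namespace Groth.Agent.Helper4.SN

section GG2

open Groth.Agent.Helper4.StalkDict Groth.Agent.Helper4.NApx82 Groth.Agent.Lead.Ref1B

attribute [local instance] Curv2.resAlgebra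

variable (k : Type u) [Field k] {C : Scheme.{u}} [C.Over (Spec (CommRingCat.of k))]
  [IsIntegral C] [IsProper (C ↘ (Spec (CommRingCat.of k)))]

include k in
/-- a coherent module whose stalks at the closed points are spanned by the germs of its global
sections is globally generated -/
theorem isGloballyGenerated_of_span_germs (E : C.Modules) (hcE : Coh.IsCoh E)
    (hspan : ∀ (x : C), IsClosed ({x} : Set C) → Submodule.span (C.presheaf.stalk x)
      (Set.range fun s : Coh.structureModule C ⟶ E =>
        E.presheaf.germ ⊤ x trivial (sec1 E s)) = ⊤) :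
    Curv2.IsGloballyGenerated E := by
  haveI := Groth.Agent.Helper4.NApx82.isNoetherian_of_proper k C
  haveI : CompactSpace C :=
    QuasiCompact.compactSpace_of_compactSpace (C ↘ (Spec (CommRingCat.of k)))
  haveI : E.IsQuasicoherent := hcE.1
  let F : C.Modules := SheafOfModules.free Γ(E, ⊤)
  let c : F ⟶ E := Groth.Agent.Lead.GlobGen.canFree E
  haveI : F.IsQuasicoherent := Groth.Agent.Lead.GlobGen.isQuasicoherent_free _
  let L' : C.Modules := Abelian.image c
  let ι : L' ⟶ E := Abelian.image.ι c
  let π : F ⟶ L' := Abelian.factorThruImage c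
  have hfac : π ≫ ι = c := Abelian.image.fac c
  haveI hmι : Mono ι := inferInstanceAs (Mono (Abelian.image.ι c))
  haveI heπ : Epi π := inferInstanceAs (Epi (Abelian.factorThruImage c))
  haveI : L'.IsQuasicoherent := Groth.Agent.Helper4.QcohLimits.isQuasicoherent_image c
  have hcL' : Coh.IsCoh L' := Groth.Agent.Helper2.CohQ1.isCoh_of_mono ι ‹L'.IsQuasicoherent› hcE
  have hcT : Coh.IsCoh (cokernel ι) := Groth.Agent.Lead.PerfLib.isCoh_cokernel hcL' hcE ι
  have hfacs : ∀ s : Coh.structureModule C ⟶ E, ∃ s' : Coh.structureModule C ⟶ L',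
      s = s' ≫ ι := by
    intro s
    obtain ⟨s₀, hs₀⟩ := exists_fac_canFree E s
    exact ⟨s₀ ≫ π, hs₀.trans ((congrArg (fun z => s₀ ≫ z) hfac.symm).trans
      (Category.assoc s₀ π ι).symm)⟩
  haveI hepi : Epi ι := by
    apply epi_of_stalkLin_surjective_closed ι hcT
    intro x hx
    rw [← LinearMap.range_eq_top, ← top_le_iff, ← hspan x hx, Submodule.span_le]
    rintro v ⟨s, rfl⟩
    obtain ⟨s', hs'⟩ := hfacs s
    refine ⟨stalkLin s' x (Groth.Agent.Lead.Hartogs2.unitEquiv x 1), ?_⟩
    rw [← Groth.Agent.Lead.StalkNhd.stalkLin_comp, ← hs', stalkLin_unitEquiv_one]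
  refine ⟨_, c, ?_⟩
  rw [← hfac]
  exact epi_comp π ι

/-- **S11330** -/
theorem main11330 [IsAlgClosed k] (hdim : topologicalKrullDim C = 1)
    (hreg : ∀ x : C, IsRegularLocalRing (C.presheaf.stalk x)) (L : C.Modules)
    (hL : PicF.IsInvertible L) :
    Curv2.IsGloballyGenerated L ↔
      ∀ (P : C) (hP : IsClosed ({P} : Set C)),
        Module.finrank k (Coh.HH C (CohB1.tensorMod L
          (ClSub.idealMod (Scheme.IdealSheafData.vanishingIdeal ⟨{P}, hP⟩))) 0) + 1 =
          Module.finrank k (Coh.HH C L 0) := by
  haveI := Groth.Agent.Helper4.NApx82.isNoetherian_of_proper k C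
  have hO : PicF.IsInvertible (Coh.structureModule C) :=
    Groth.Agent.Helper4.TensorInv.isInvertible_structureModule
  have hcO := Groth.Agent.Helper1.SerreFin.isCoh_of_isInvertible _ hO
  have hcL := Groth.Agent.Helper1.SerreFin.isCoh_of_isInvertible L hL
  have hL1 := Groth.Agent.Helper4.QAffSec.isFinLocFreeOfRank_one_of_isInvertible L hL
  constructor
  · rintro ⟨ι, p, hp⟩ P hP
    have hκ := finrank_residueField_eq_one k P hP
    have h1 := h0_le_twist_point k P hP 1 L hL1
    have hq := finrank_h0_quotMod_twist k P hP L hL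
    rw [hκ] at h1 hq
    obtain ⟨D, hD⟩ : ∃ D, D = Scheme.IdealSheafData.vanishingIdeal ⟨{P}, hP⟩ := ⟨_, rfl⟩
    rw [← hD] at h1 hq ⊢
    have hI : PicF.IsInvertible (ClSub.idealMod D) := by
      rw [hD]
      exact (ideal_point_of_regular k hdim hreg P hP).1
    have hIL := isInvertible_tensor (ClSub.idealMod D) L hI hL
    have hcIL := Groth.Agent.Helper1.SerreFin.isCoh_of_isInvertible _ hIL
    have eb := (Groth.Agent.Helper1.ProjTop.HHlinEquiv k (X := C)
      (Groth.Agent.Lead.Ref1B.braid (ClSub.idealMod D) L) 0).finrank_eq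
    haveI hmono : Mono (idealTwistι D L) := mono_idealTwistι D L hL
    let Φ : (Coh.structureModule C ⟶ CohB1.tensorMod (ClSub.idealMod D) L) →ₗ[k]
        (Coh.structureModule C ⟶ L) :=
      Linear.rightComp k (Coh.structureModule C) (idealTwistι D L)
    have hΦinj : Function.Injective Φ := fun a b h => (cancel_mono (idealTwistι D L)).1 h
    haveI : Module.Finite k (Coh.structureModule C ⟶ L) := finite_hom k _ _ hcO hcL
    haveI : Module.Finite k (Coh.structureModule C ⟶ CohB1.tensorMod (ClSub.idealMod D) L) :=
      finite_hom k _ _ hcO hcIL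
    have hle := LinearMap.finrank_le_finrank_of_injective hΦinj
    rw [finrank_hom_unit, finrank_hom_unit] at hle
    by_contra hne
    have heq : Module.finrank k (Coh.HH C (CohB1.tensorMod (ClSub.idealMod D) L) 0) =
        Module.finrank k (Coh.HH C L 0) := by
      rw [← eb] at hne h1
      omega
    -- every section factors through `I ⊗ L`
    have hΦsurj : Function.Surjective Φ := by
      have hbij := (LinearMap.injective_iff_surjective_of_finrank_eq_finrank
        (f := Φ) (by rw [finrank_hom_unit, finrank_hom_unit, heq])).1 hΦinj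
      exact hbij
    -- hence the presentation factors, and `I ⊗ L → L` is an epimorphism
    have hfac : ∀ i : ι, ∃ s' : Coh.structureModule C ⟶ CohB1.tensorMod (ClSub.idealMod D) L,
        s' ≫ idealTwistι D L = Sigma.ι (fun _ : ι => Coh.structureModule C) i ≫ p :=
      fun i => hΦsurj _
    choose s' hs' using hfac
    have hpfac : Sigma.desc s' ≫ idealTwistι D L = p := by
      apply Sigma.hom_ext
      intro i
      rw [← Category.assoc, Sigma.ι_desc, hs' i]
    haveI : Epi (Sigma.desc s' ≫ idealTwistι D L) := by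
      rw [hpfac]
      exact hp
    haveI hepi : Epi (idealTwistι D L) := epi_of_epi (Sigma.desc s') (idealTwistι D L)
    have hz : IsZero (cokernel (idealTwistι D L)) := isZero_cokernel_of_epi _
    have hz' : IsZero (CohB1.tensorMod (ClSub.quotMod D) L) :=
      hz.of_iso (cokernelIdealTwistIso D L hL).symm
    haveI := Groth.Agent.Helper1.KzChase.subsingleton_HH_of_isZero hz' 0
    rw [Module.finrank_zero_of_subsingleton] at hq
    exact absurd hq (by norm_num)
  · intro h
    apply isGloballyGenerated_of_span_germs k L hcL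
    intro x hx
    apply span_germs_eq_top_of_h0_ideal_twist k hdim 1 L hL1 x hx
    have eb := (Groth.Agent.Helper1.ProjTop.HHlinEquiv k (X := C)
      (Groth.Agent.Lead.Ref1B.braid
        (ClSub.idealMod (Scheme.IdealSheafData.vanishingIdeal ⟨{x}, hx⟩)) L) 0).finrank_eq
    rw [eb]
    exact (h x hx).le

end GG2

end Groth.Agent.Helper4.SN
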