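import Mathlib
import Groth.Agent.Helper3.FibBir
import Groth.Agent.Helper3.QFResFin

/-!
# Points closed in their fibre, and the dimension of their closures
-/

set_option autoImplicit false
set_option linter.style.haveILetI false

namespace Groth.Agent.Helper4.SN

open CategoryTheory Limits AlgebraicGeometry Opposite TopologicalSpace
open Groth.Agent.Helper5.VarDim Groth.Agent.Helper3.FibBir

universe u

section Fibre

variable {X Y : Scheme.{u}}

/-- every nonempty fibre of a quasi-compact morphism contains a point which is closed in the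
fibre -/
theorem exists_closed_in_fibre (f : X ⟶ Y) [QuasiCompact f] (y : Y) (hy : y ∈ Set.range f) :
    ∃ x : X, f x = y ∧ ∀ w : X, f w = y → x ⤳ w → w = x := by
  haveI : CompactSpace ↥(f ⁻¹' {y}) := isCompact_iff_compactSpace.mp (f.isCompact_preimage_singleton y)
  obtain ⟨x₀, hx₀⟩ := hy
  obtain ⟨⟨x, hx⟩, -, hcl⟩ := IsClosed.exists_closed_singleton (X := ↥(f ⁻¹' {y})) isClosed_univ
    ⟨⟨x₀, hx₀⟩, trivial⟩
  refine ⟨x, hx, fun w hw hsp => ?_⟩
  have h1 : (⟨w, hw⟩ : ↥(f ⁻¹' {y})) ∈ closure ({⟨x, hx⟩} : Set ↥(f ⁻¹' {y})) := by
    rw [closure_subtype, Set.image_singleton]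
    exact hsp.mem_closure
  rw [hcl.closure_eq] at h1
  exact congrArg Subtype.val h1

set_option backward.isDefEq.respectTransparency.types false in
/-- at a point closed in its fibre, the residue field extension of a morphism locally of finite
type is finite -/
theorem finite_residueFieldMap_of_closed_in_fibre (f : X ⟶ Y) [LocallyOfFiniteType f] (x : X)
    (hx : ∀ w : X, f w = f x → x ⤳ w → w = x) : (f.residueFieldMap x).hom.Finite := by
  have hcl : IsClosed ({f.asFiber x} : Set (f.fiber (f x))) := by
    rw [← (f.fiberHomeo (f x)).isClosed_image, Set.image_singleton]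
    have h1 : f.fiberHomeo (f x) (f.asFiber x) = ⟨x, rfl⟩ := by
      apply Subtype.ext
      simp
    rw [h1]
    rw [← closure_subset_iff_isClosed]
    rintro ⟨w, hw⟩ hmem
    rw [closure_subtype, Set.image_singleton] at hmem
    have : w = x := hx w hw (specializes_iff_mem_closure.mpr hmem)
    subst this
    rfl
  haveI : IsClosedImmersion (f.asFiberHom x) := by
    apply IsClosedImmersion.of_isPreimmersion
    rw [Scheme.Hom.range_asFiberHom]
    exact hcl
  haveI : LocallyOfFiniteType (f.fiberToSpecResidueField (f x)) :=
    MorphismProperty.pullback_snd _ _ inferInstance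
  haveI : LocallyOfFiniteType (Spec.map (f.residueFieldMap x)) := by
    rw [← Scheme.Hom.asFiberHom_fiberToSpecResidueField]
    infer_instance
  have hfin : IsFinite (Spec.map (f.residueFieldMap x)) :=
    isFinite_iff_locallyOfFiniteType_of_jacobsonSpace.mpr inferInstance
  exact (IsFinite.SpecMap_iff _).mp hfin

end Fibre

section Dim

variable (k : Type u) [Field k] {X Y : Scheme.{u}}

/-- a finite residue field extension does not change the dimension of the closure of a point -/
theorem dim_closure_eq_of_finite (f : X ⟶ Y) (g : Y ⟶ Spec (CommRingCat.of k))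
    [LocallyOfFiniteType g] [LocallyOfFiniteType (f ≫ g)] (x : X)
    (hfin : (f.residueFieldMap x).hom.Finite) :
    topologicalKrullDim ↥(closure ({x} : Set X)) = topologicalKrullDim ↥(closure ({f x} : Set Y)) := by
  obtain ⟨n, hn1, hn2⟩ := dim_closure_point k (f ≫ g) x
  obtain ⟨m, hm1, hm2⟩ := dim_closure_point k g (f x)
  letI a1 : Algebra k (Y.residueField (f x)) := (resHom k g (f x)).toAlgebra
  letI a2 : Algebra (Y.residueField (f x)) (X.residueField x) :=
    (f.residueFieldMap x).hom.toAlgebra
  letI a3 : Algebra k (X.residueField x) := (resHom k (f ≫ g) x).toAlgebra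
  haveI : IsScalarTower k (Y.residueField (f x)) (X.residueField x) :=
    IsScalarTower.of_algebraMap_eq' (resHom_comp k f g x)
  haveI : FaithfulSMul k (Y.residueField (f x)) :=
    (faithfulSMul_iff_algebraMap_injective _ _).mpr (RingHom.injective _)
  haveI : FaithfulSMul (Y.residueField (f x)) (X.residueField x) :=
    (faithfulSMul_iff_algebraMap_injective _ _).mpr (RingHom.injective _)
  haveI : Module.Finite (Y.residueField (f x)) (X.residueField x) := hfin
  have h0 : Algebra.trdeg (Y.residueField (f x)) (X.residueField x) = 0 := trdeg_eq_zero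
  have hadd := trdeg_add_eq k (Y.residueField (f x)) (A := X.residueField x)
  rw [hn2, hm2, h0, add_zero] at hadd
  have hnm : m = n := by exact_mod_cast hadd
  rw [hn1, hm1, hnm]

/-- the dimension of the closure of the image of a point is at most that of the closure of the
point -/
theorem dim_closure_image_le (f : X ⟶ Y) (g : Y ⟶ Spec (CommRingCat.of k))
    [LocallyOfFiniteType g] [LocallyOfFiniteType (f ≫ g)] (x : X) :
    topologicalKrullDim ↥(closure ({f x} : Set Y)) ≤ topologicalKrullDim ↥(closure ({x} : Set X)) := by
  obtain ⟨n, hn1, hn2⟩ := dim_closure_point k (f ≫ g) x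
  obtain ⟨m, hm1, hm2⟩ := dim_closure_point k g (f x)
  letI a1 : Algebra k (Y.residueField (f x)) := (resHom k g (f x)).toAlgebra
  letI a2 : Algebra (Y.residueField (f x)) (X.residueField x) :=
    (f.residueFieldMap x).hom.toAlgebra
  letI a3 : Algebra k (X.residueField x) := (resHom k (f ≫ g) x).toAlgebra
  haveI : IsScalarTower k (Y.residueField (f x)) (X.residueField x) :=
    IsScalarTower.of_algebraMap_eq' (resHom_comp k f g x)
  haveI : FaithfulSMul k (Y.residueField (f x)) :=
    (faithfulSMul_iff_algebraMap_injective _ _).mpr (RingHom.injective _)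
  haveI : FaithfulSMul (Y.residueField (f x)) (X.residueField x) :=
    (faithfulSMul_iff_algebraMap_injective _ _).mpr (RingHom.injective _)
  have hadd := trdeg_add_eq k (Y.residueField (f x)) (A := X.residueField x)
  rw [hn2, hm2] at hadd
  have hmn : (m : Cardinal) ≤ n := by
    rw [← hadd]
    exact le_self_add
  have hmn' : m ≤ n := by exact_mod_cast hmn
  rw [hn1, hm1]
  exact_mod_cast hmn'

end Dim

end Groth.Agent.Helper4.SN
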