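import Mathlib
import Groth.Agent.Helper4.SN79
import Groth.Agent.Helper4.SN77
import Groth.Agent.Helper4.SN74
import Groth.Agent.Lead.SuppProper

/-!
# Nefness and surjective pullback
-/

set_option autoImplicit false
set_option linter.style.haveILetI false

namespace Groth.Agent.Helper4.SN

open CategoryTheory Limits AlgebraicGeometry Opposite TopologicalSpace
open Groth.Agent.Helper4.NApx82 Groth.Agent.Helper4.StalkDict Groth.Agent.Helper4.TensorInv
  Groth.Agent.Helper1.Dev

universe u

section Top

/-- in an irreducible closed set of dimension at most zero of a `T0` space, all points are equal to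
the given generic point -/
theorem eq_of_mem_closure_of_dim_le_zero {T : Type*} [TopologicalSpace T] [T0Space T] (η z : T)
    (hdim : topologicalKrullDim ↥(closure ({η} : Set T)) ≤ 0) (hz : z ∈ closure ({η} : Set T)) :
    z = η := by
  by_contra hne
  have hsub : closure ({z} : Set T) ⊆ closure {η} :=
    closure_minimal (Set.singleton_subset_iff.mpr hz) isClosed_closure
  have hne' : closure ({z} : Set T) ≠ closure {η} := by
    intro heq
    exact hne ((inseparable_iff_closure_eq.mpr heq).eq)
  set Z := closure ({η} : Set T) with hZ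
  haveI : IrreducibleSpace ↥Z := Subtype.irreducibleSpace isIrreducible_singleton.closure
  have h1 : (1 : WithBot ℕ∞) ≤ topologicalKrullDim ↥Z := by
    refine Order.one_le_krullDim_iff.mpr ?_
    refine ⟨⟨closure {⟨z, hz⟩}, isIrreducible_singleton.closure, isClosed_closure⟩,
      ⟨Set.univ, IrreducibleSpace.isIrreducible_univ _, isClosed_univ⟩, ?_⟩
    refine lt_of_le_of_ne (fun a _ => trivial) ?_
    intro heq
    have h2 : closure ({⟨z, hz⟩} : Set ↥Z) = Set.univ :=
      congrArg (fun W : IrreducibleCloseds ↥Z => (W : Set ↥Z)) heq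
    apply hne'
    apply le_antisymm hsub
    intro w hw
    have h3 : (⟨w, hw⟩ : ↥Z) ∈ closure ({⟨z, hz⟩} : Set ↥Z) := by
      rw [h2]
      trivial
    rw [closure_subtype, Set.image_singleton] at h3
    exact h3
  have h2 : (1 : WithBot ℕ∞) ≤ 0 := h1.trans hdim
  exact absurd h2 (by decide)

end Top

section Curves

variable (k : Type u) [Field k] {X X' : Scheme.{u}}
  [X.Over (Spec (CommRingCat.of k))] [IsProper (X ↘ (Spec (CommRingCat.of k)))]
  [X'.Over (Spec (CommRingCat.of k))] [IsProper (X' ↘ (Spec (CommRingCat.of k)))]
  (f : X' ⟶ X)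

/-- the degree of a pullback on a curve contracted to a point vanishes -/
theorem degOn_pullback_of_contracted (C' : X'.IdealSheafData) (x : X)
    (hx : ∀ c ∈ (C'.support : Set X'), f c = x) (L : X.Modules) (hL : PicF.IsInvertible L) :
    degOn k C' ((Scheme.Modules.pullback f).obj L) = 0 := by
  letI : C'.subscheme.Over (Spec (CommRingCat.of k)) :=
    ⟨C'.subschemeι ≫ (X' ↘ (Spec (CommRingCat.of k)))⟩
  obtain ⟨U, hxU, ⟨ε⟩⟩ := hL x
  have hr : Set.range (C'.subschemeι ≫ f) ⊆ Set.range U.ι := by
    rintro _ ⟨c, rfl⟩
    rw [Scheme.Opens.range_ι]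
    have hc : C'.subschemeι c ∈ (C'.support : Set X') := by
      rw [← C'.range_subschemeι]
      exact ⟨c, rfl⟩
    have : (C'.subschemeι ≫ f) c = x := hx _ hc
    rw [this]
    exact hxU
  let h' : C'.subscheme ⟶ (U : Scheme.{u}) := IsOpenImmersion.lift U.ι (C'.subschemeι ≫ f) hr
  have hh' : h' ≫ U.ι = C'.subschemeι ≫ f := IsOpenImmersion.lift_fac _ _ _
  have iso : (Scheme.Modules.pullback C'.subschemeι).obj ((Scheme.Modules.pullback f).obj L) ≅
      Coh.structureModule C'.subscheme :=
    (Scheme.Modules.pullbackComp C'.subschemeι f).app L ≪≫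
      (Scheme.Modules.pullbackCongr hh'.symm).app L ≪≫
      ((Scheme.Modules.pullbackComp h' U.ι).app L).symm ≪≫
      (Scheme.Modules.pullback h').mapIso ((Scheme.Modules.restrictFunctorIsoPullback U.ι).app L).symm ≪≫
      (Scheme.Modules.pullback h').mapIso ε ≪≫ Groth.Agent.Helper4.PullUnit.pullbackUnitIso h'
  change Curv2.deg k C'.subscheme _ 1 = 0
  rw [deg_iso k iso 1, deg_structureModule]

/-- the degree of a pullback on a curve dominating a curve -/
theorem degOn_pullback_of_dominant
    (hf : f ≫ (X ↘ (Spec (CommRingCat.of k))) = X' ↘ (Spec (CommRingCat.of k)))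
    (C' : X'.IdealSheafData) (C : X.IdealSheafData)
    [IsIntegral C'.subscheme] [IsIntegral C.subscheme]
    (hd' : topologicalKrullDim ↥(C'.support : Set X') = 1)
    (hd : topologicalKrullDim ↥(C.support : Set X) = 1)
    (himg : f '' (C'.support : Set X') = (C.support : Set X))
    (L : X.Modules) (hL : PicF.IsInvertible L) :
    ∃ d : ℕ, 0 < d ∧ degOn k C' ((Scheme.Modules.pullback f).obj L) = d * degOn k C L := by
  letI : C'.subscheme.Over (Spec (CommRingCat.of k)) :=
    ⟨C'.subschemeι ≫ (X' ↘ (Spec (CommRingCat.of k)))⟩
  letI : C.subscheme.Over (Spec (CommRingCat.of k)) :=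
    ⟨C.subschemeι ≫ (X ↘ (Spec (CommRingCat.of k)))⟩
  haveI : IsProper (C'.subscheme ↘ Spec (CommRingCat.of k)) :=
    (inferInstance : IsProper (C'.subschemeι ≫ (X' ↘ (Spec (CommRingCat.of k)))))
  haveI : IsProper (C.subscheme ↘ Spec (CommRingCat.of k)) :=
    (inferInstance : IsProper (C.subschemeι ≫ (X ↘ (Spec (CommRingCat.of k)))))
  have hX : topologicalKrullDim C'.subscheme = 1 := by
    rw [dim_subscheme]
    exact hd'
  have hY : topologicalKrullDim C.subscheme = 1 := by
    rw [dim_subscheme]
    exact hd
  obtain ⟨h, hh⟩ : ∃ h : C'.subscheme ⟶ X, h = C'.subschemeι ≫ f := ⟨_, rfl⟩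
  have hrange : Set.range h = (C.support : Set X) := by
    rw [hh, Scheme.Hom.comp_base, TopCat.coe_comp, Set.range_comp, C'.range_subschemeι, himg]
  have hker : C ≤ h.ker := by
    rw [Groth.Agent.Lead.SuppProper.ker_eq_vanishingIdeal h,
      ← Scheme.IdealSheafData.le_support_iff_le_vanishingIdeal]
    intro x hx
    have hx' : x ∈ closure (Set.range h) := hx
    rw [hrange, C.support.isClosed.closure_eq] at hx'
    exact hx'
  obtain ⟨g, hg⟩ : ∃ g : C'.subscheme ⟶ C.subscheme, g ≫ C.subschemeι = h :=
    ⟨h.toImage ≫ Scheme.IdealSheafData.inclusion hker, by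
      rw [Category.assoc, Scheme.IdealSheafData.inclusion_subschemeι]
      exact Scheme.Hom.toImage_imageι h⟩
  have hgk : g ≫ (C.subscheme ↘ Spec (CommRingCat.of k)) =
      C'.subscheme ↘ Spec (CommRingCat.of k) := by
    change g ≫ C.subschemeι ≫ (X ↘ (Spec (CommRingCat.of k))) =
      C'.subschemeι ≫ (X' ↘ (Spec (CommRingCat.of k)))
    rw [reassoc_of% hg, hh, Category.assoc, hf]
  have hsurj : Function.Surjective g := by
    intro c
    have hc : C.subschemeι c ∈ Set.range h := by
      rw [hrange, ← C.range_subschemeι]
      exact ⟨c, rfl⟩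
    obtain ⟨c', hc'⟩ := hc
    refine ⟨c', C.subschemeι.isClosedEmbedding.injective ?_⟩
    rw [← hc', ← hg]
    rfl
  have hξ : g.base (genericPoint C'.subscheme) = genericPoint C.subscheme := by
    have hgen : IsGenericPoint (g (genericPoint C'.subscheme)) (Set.univ : Set C.subscheme) := by
      change closure {g (genericPoint C'.subscheme)} = Set.univ
      rw [Set.eq_univ_iff_forall]
      intro c
      obtain ⟨c', rfl⟩ := hsurj c
      have h1 : c' ∈ closure ({genericPoint C'.subscheme} : Set C'.subscheme) := by
        rw [(genericPoint_spec C'.subscheme).def]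
        trivial
      have h2 := image_closure_subset_closure_image g.continuous ⟨c', h1, rfl⟩
      rwa [Set.image_singleton] at h2
    exact hgen.eq (genericPoint_spec C.subscheme)
  have hL1 := Groth.Agent.Helper4.QAffSec.isFinLocFreeOfRank_one_of_isInvertible _
    (Groth.Agent.Helper4.PullSec.isInvertible_pullback C.subschemeι hL)
  have hmain := main7640 k hX hY g hgk hξ 1 ((Scheme.Modules.pullback C.subschemeι).obj L) hL1
  haveI := isFinite_of_nonconstant k hX hY g hgk hξ
  have hdpos : 0 < g.residueDegree (genericPoint C'.subscheme) := by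
    letI := (g.residueFieldMap (genericPoint C'.subscheme)).hom.toAlgebra
    haveI := Groth.Agent.Helper3.QFResFin.finite_residueFieldMap g (genericPoint C'.subscheme)
      (g.quasiFiniteAt _)
    exact Module.finrank_pos
  refine ⟨g.residueDegree (genericPoint C'.subscheme), hdpos, ?_⟩
  have iso : (Scheme.Modules.pullback C'.subschemeι).obj ((Scheme.Modules.pullback f).obj L) ≅
      (Scheme.Modules.pullback g).obj ((Scheme.Modules.pullback C.subschemeι).obj L) :=
    (Scheme.Modules.pullbackComp C'.subschemeι f).app L ≪≫
      (Scheme.Modules.pullbackCongr (hh.symm.trans hg.symm)).app L ≪≫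
      ((Scheme.Modules.pullbackComp g C.subschemeι).app L).symm
  change Curv2.deg k C'.subscheme _ 1 = _ * Curv2.deg k C.subscheme _ 1
  rw [deg_iso k iso 1]
  exact hmain

omit [X.Over (Spec (CommRingCat.of k))] [IsProper (X ↘ (Spec (CommRingCat.of k)))]
  [X'.Over (Spec (CommRingCat.of k))] [IsProper (X' ↘ (Spec (CommRingCat.of k)))] in
/-- the support of an integral closed subscheme is the closure of the image of its generic
point -/
theorem closure_genericPoint_subscheme (C : X.IdealSheafData) [IsIntegral C.subscheme] :
    closure ({C.subschemeι (genericPoint C.subscheme)} : Set X) = (C.support : Set X) := by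
  rw [← Set.image_singleton, C.subschemeι.isClosedEmbedding.closure_image_eq,
    (genericPoint_spec C.subscheme).def, Set.image_univ, C.range_subschemeι]

/-- **S16712** -/
theorem main16712
    (hf : f ≫ (X ↘ (Spec (CommRingCat.of k))) = X' ↘ (Spec (CommRingCat.of k)))
    [Surjective f] (L : X.Modules) (hL : PicF.IsInvertible L) :
    (∀ C : X.IdealSheafData, IsIntegral C.subscheme →
        topologicalKrullDim (C.support : Set X) = 1 →
          0 ≤ Curv2.euler k X (CohB1.tensorMod (ClSub.quotMod C) L) -
            Curv2.euler k X (ClSub.quotMod C)) ↔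
      (∀ C' : X'.IdealSheafData, IsIntegral C'.subscheme →
        topologicalKrullDim (C'.support : Set X') = 1 →
          0 ≤ Curv2.euler k X' (CohB1.tensorMod (ClSub.quotMod C')
            ((Scheme.Modules.pullback f).obj L)) - Curv2.euler k X' (ClSub.quotMod C')) := by
  have hL' := Groth.Agent.Helper4.PullSec.isInvertible_pullback f hL
  haveI : IsProper (f ≫ (X ↘ (Spec (CommRingCat.of k)))) := by
    rw [hf]
    infer_instance
  haveI : IsProper f := IsProper.of_comp f (X ↘ (Spec (CommRingCat.of k)))
  constructor
  · intro h C' hCi' hCd'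
    haveI := hCi'
    rw [euler_diff_eq_degOn k C' _ hL']
    set η' := C'.subschemeι (genericPoint C'.subscheme) with hη'
    have hcl' : closure ({η'} : Set X') = (C'.support : Set X') :=
      closure_genericPoint_subscheme C'
    have himg : f '' (C'.support : Set X') = closure ({f η'} : Set X) := by
      rw [← hcl', ← f.isClosedMap.closure_image_eq_of_continuous f.continuous, Set.image_singleton]
    have hle : topologicalKrullDim ↥(closure ({f η'} : Set X)) ≤ 1 := by
      have h1 := dim_closure_image_le k f (X ↘ (Spec (CommRingCat.of k))) η'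
      rw [hcl', hCd'] at h1
      exact h1
    by_cases h1 : topologicalKrullDim ↥(closure ({f η'} : Set X)) = 1
    · haveI : IsIntegral (Scheme.IdealSheafData.vanishingIdeal
          ⟨closure ({f η'} : Set X), isClosed_closure⟩).subscheme :=
        isIntegral_subscheme ⟨closure ({f η'} : Set X), isClosed_closure⟩
          isIrreducible_singleton.closure
      have hsupp : ((Scheme.IdealSheafData.vanishingIdeal
          ⟨closure ({f η'} : Set X), isClosed_closure⟩).support : Set X) = closure {f η'} :=
        support_vanishingIdeal _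
      have hd : topologicalKrullDim ↥((Scheme.IdealSheafData.vanishingIdeal
          ⟨closure ({f η'} : Set X), isClosed_closure⟩).support : Set X) = 1 := by
        rw [hsupp]
        exact h1
      obtain ⟨d, -, hdeg⟩ := degOn_pullback_of_dominant k f hf C'
        (Scheme.IdealSheafData.vanishingIdeal ⟨closure ({f η'} : Set X), isClosed_closure⟩)
        hCd' hd (himg.trans hsupp.symm) L hL
      rw [hdeg]
      have h2 := h _ inferInstance hd
      rw [euler_diff_eq_degOn k _ L hL] at h2
      exact mul_nonneg (Int.natCast_nonneg d) h2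
    · have h0 : topologicalKrullDim ↥(closure ({f η'} : Set X)) ≤ 0 := by
        by_contra hcon
        exact h1 (eq_one_of_le_one_of_not_le_zero _ hle hcon)
      rw [degOn_pullback_of_contracted k f C' (f η') ?_ L hL]
      intro c hc
      apply eq_of_mem_closure_of_dim_le_zero (f η') (f c) h0
      rw [← himg]
      exact ⟨c, hc, rfl⟩
  · intro h C hCi hCd
    haveI := hCi
    rw [euler_diff_eq_degOn k C L hL]
    set η := C.subschemeι (genericPoint C.subscheme) with hη
    have hcl : closure ({η} : Set X) = (C.support : Set X) := closure_genericPoint_subscheme C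
    obtain ⟨η', hη', hmin⟩ := exists_closed_in_fibre f η (f.surjective η)
    have hfin : (f.residueFieldMap η').hom.Finite := by
      apply finite_residueFieldMap_of_closed_in_fibre f η'
      intro w hw hsp
      exact hmin w (hw.trans hη') hsp
    have hdim := dim_closure_eq_of_finite k f (X ↘ (Spec (CommRingCat.of k))) η' hfin
    rw [hη', hcl, hCd] at hdim
    haveI : IsIntegral (Scheme.IdealSheafData.vanishingIdeal
        ⟨closure ({η'} : Set X'), isClosed_closure⟩).subscheme :=
      isIntegral_subscheme ⟨closure ({η'} : Set X'), isClosed_closure⟩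
        isIrreducible_singleton.closure
    have hsupp : ((Scheme.IdealSheafData.vanishingIdeal
        ⟨closure ({η'} : Set X'), isClosed_closure⟩).support : Set X') = closure {η'} :=
      support_vanishingIdeal _
    have hd' : topologicalKrullDim ↥((Scheme.IdealSheafData.vanishingIdeal
        ⟨closure ({η'} : Set X'), isClosed_closure⟩).support : Set X') = 1 := by
      rw [hsupp]
      exact hdim
    have himg : f '' ((Scheme.IdealSheafData.vanishingIdeal
        ⟨closure ({η'} : Set X'), isClosed_closure⟩).support : Set X') = (C.support : Set X) := by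
      rw [hsupp, ← f.isClosedMap.closure_image_eq_of_continuous f.continuous, Set.image_singleton,
        hη', hcl]
    obtain ⟨d, hdpos, hdeg⟩ := degOn_pullback_of_dominant k f hf
      (Scheme.IdealSheafData.vanishingIdeal ⟨closure ({η'} : Set X'), isClosed_closure⟩) C
      hd' hCd himg L hL
    have h2 := h _ inferInstance hd'
    rw [euler_diff_eq_degOn k _ _ hL', hdeg] at h2
    have hd0 : (0 : ℤ) < d := by exact_mod_cast hdpos
    exact nonneg_of_mul_nonneg_right h2 hd0

end Curves

end Groth.Agent.Helper4.SN
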