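import Mathlib
import Groth.Agent.Helper4.SN80
import Groth.Agent.Helper4.SN137
import Groth.Agent.Helper4.SN106
import Groth.Agent.Helper1.TwistExact
import Groth.Agent.Helper1.SerreVan
import Groth.Agent.Helper1.HHLes
import Groth.Agent.Lead.InvDualA

/-!
# Nef invertible modules on one-dimensional proper schemes with `H¹(O) = 0`
-/

set_option autoImplicit false
set_option linter.style.haveILetI false

namespace Groth.Agent.Helper4.SN

open CategoryTheory Limits AlgebraicGeometry Opposite TopologicalSpace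
open Groth.Agent.Helper4.NApx82 Groth.Agent.Helper4.StalkDict Groth.Agent.Helper4.TensorInv
  Groth.Agent.Helper1.Dev

universe u

section GenZero

variable (k : Type u) [Field k] {X : Scheme.{u}} [X.Over (Spec (CommRingCat.of k))]

include k in
/-- right exactness of cohomology in the top degree -/
theorem subsingleton_HH_of_epi {E F : X.Modules} (π : E ⟶ F) [Epi π] (q : ℕ)
    (hE : Subsingleton (Coh.HH X E q)) (hK : Subsingleton (Coh.HH X (kernel π) (q + 1))) :
    Subsingleton (Coh.HH X F q) := by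
  let S : ShortComplex X.Modules := ShortComplex.mk (kernel.ι π) π (kernel.condition π)
  have hS : S.ShortExact :=
    { exact := ShortComplex.exact_kernel π
      mono_f := inferInstanceAs (Mono (kernel.ι π))
      epi_g := inferInstanceAs (Epi π) }
  refine ⟨fun x y => ?_⟩
  have key : ∀ z : Coh.HH X F q, z = 0 := by
    intro z
    have h0 : Groth.Agent.Helper1.HHLes.δ k S hS q z = 0 := @Subsingleton.elim _ hK _ _
    obtain ⟨w, hw⟩ := (Groth.Agent.Helper1.HHLes.exact_g_δ k S hS q z).1 h0
    rw [← hw, Subsingleton.elim w 0, map_zero]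
  rw [key x, key y]

variable [IsProper (X ↘ (Spec (CommRingCat.of k)))]

/-- nefness gives nonnegativity of all rank defects -/
theorem rkDefect_nonneg_of_nef (hdim : topologicalKrullDim X ≤ 1) (L : X.Modules)
    (hL : PicF.IsInvertible L)
    (hnef : ∀ J : X.IdealSheafData, IsIntegral J.subscheme → topologicalKrullDim J.subscheme = 1 →
      0 ≤ @Curv2.deg k _ J.subscheme ⟨J.subschemeι ≫ (X ↘ (Spec (CommRingCat.of k)))⟩
        ((Scheme.Modules.pullback J.subschemeι).obj L) 1)
    (F : X.Modules) (hF : Coh.IsCoh F) : 0 ≤ rkDefect k 1 L F := by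
  classical
  have hL1 := Groth.Agent.Helper4.QAffSec.isFinLocFreeOfRank_one_of_isInvertible L hL
  obtain ⟨-, h⟩ := rkDefect_eq_Psi k hdim 1 L hL1 F hF
  rw [h]
  unfold Psi
  apply finsum_nonneg
  intro ξ
  split_ifs with ht
  · apply nsmul_nonneg
    show 0 ≤ rkDefect k 1 L (redMod ξ)
    rw [rkDefect_quotMod k _ 1 L hL1]
    refine hnef _ (isIntegral_subscheme _ isIrreducible_singleton.closure) ?_
    rw [dim_subscheme_vanishingIdeal]
    unfold TopPt at ht
    exact ht.trans (by norm_num)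
  · exact le_rfl

/-- every morphism `O ⟶ L` factors through the evaluation at a basis of `Hom(O, L)` -/
theorem exists_fac_basis_desc {L : X.Modules} {r : ℕ}
    (b : Module.Basis (Fin r) k (Coh.structureModule X ⟶ L)) (a : Coh.structureModule X ⟶ L) :
    ∃ a₀ : Coh.structureModule X ⟶ ∐ fun _ : Fin r => Coh.structureModule X,
      a₀ ≫ Sigma.desc (fun i => b i) = a := by
  refine ⟨∑ i, (b.repr a i) • Sigma.ι (fun _ : Fin r => Coh.structureModule X) i, ?_⟩
  rw [Preadditive.sum_comp]
  conv_rhs => rw [← b.sum_repr a]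
  refine Finset.sum_congr rfl (fun i _ => ?_)
  rw [Linear.smul_comp, Sigma.ι_desc]

/-- **S16295** -/
theorem main16295 (hdim : topologicalKrullDim X = 1)
    (h1 : Subsingleton (Coh.HH X (Coh.structureModule X) 1))
    (L : X.Modules) (hL : PicF.IsInvertible L)
    (hnef : ∀ J : X.IdealSheafData, IsIntegral J.subscheme → topologicalKrullDim J.subscheme = 1 →
      0 ≤ @Curv2.deg k _ J.subscheme ⟨J.subschemeι ≫ (X ↘ (Spec (CommRingCat.of k)))⟩
        ((Scheme.Modules.pullback J.subschemeι).obj L) 1) :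
    Subsingleton (Coh.HH X L 1) ∧
      ∃ (r : ℕ) (p : (∐ fun _ : Fin r => Coh.structureModule X) ⟶ L), Epi p := by
  classical
  haveI := isNoetherian_of_proper k X
  have hcO : Coh.IsCoh (Coh.structureModule X) :=
    Groth.Agent.Helper1.SerreFin.isCoh_of_isInvertible _ isInvertible_structureModule
  have hcL : Coh.IsCoh L := Groth.Agent.Helper1.SerreFin.isCoh_of_isInvertible L hL
  have hL1 := Groth.Agent.Helper4.QAffSec.isFinLocFreeOfRank_one_of_isInvertible L hL
  haveI : Module.Finite k (Coh.structureModule X ⟶ L) := finite_hom k _ _ hcO hcL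
  obtain ⟨r, hr⟩ : ∃ r, r = Module.finrank k (Coh.structureModule X ⟶ L) := ⟨_, rfl⟩
  let b : Module.Basis (Fin r) k (Coh.structureModule X ⟶ L) :=
    (Module.finBasis k (Coh.structureModule X ⟶ L)).reindex (finCongr hr.symm)
  let p : (∐ fun _ : Fin r => Coh.structureModule X) ⟶ L := Sigma.desc (fun i => b i)
  have hcS : Coh.IsCoh (∐ fun _ : Fin r => Coh.structureModule X) :=
    Groth.Agent.Helper1.SerreFin.isCoh_sigma_fin _ (fun _ => hcO)
  -- the image and the quotient
  let i : Abelian.image p ⟶ L := Abelian.image.ι p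
  let S := cokSC i
  have hS : S.ShortExact := cokSC_shortExact i
  have hcI : Coh.IsCoh (Abelian.image p) :=
    Groth.Agent.Lead.PerfLib.isCoh_kernel hcL
      (Groth.Agent.Lead.PerfLib.isCoh_cokernel hcS hcL p) _
  have hcQ : Coh.IsCoh (cokernel i) := Groth.Agent.Lead.PerfLib.isCoh_cokernel hcI hcL i
  -- `H¹` of the image vanishes
  have hH2 : ∀ G : X.Modules, Subsingleton (Coh.HH X G 2) := fun G =>
    subsingleton_HH_of_dim 1 (by rw [hdim]; rfl) G 2 (by norm_num)
  have hI1 : Subsingleton (Coh.HH X (Abelian.image p) 1) := by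
    haveI : Epi (Abelian.factorThruImage p) := inferInstance
    exact subsingleton_HH_of_epi k (Abelian.factorThruImage p) 1
      (Groth.Agent.Helper1.SerreVan.subsingleton_HH_sigma _ 1 (fun _ => h1)) (hH2 _)
  -- all sections of the quotient vanish
  have hQ0 : ∀ t : Coh.structureModule X ⟶ cokernel i, t = 0 := by
    intro t
    have hsurj : Function.Surjective (Canon.HHlin k S.g 0) := by
      intro x
      have h0 : Groth.Agent.Helper1.HHLes.δ k S hS 0 x = 0 := @Subsingleton.elim _ hI1 _ _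
      exact (Groth.Agent.Helper1.HHLes.exact_g_δ k S hS 0 x).1 h0
    obtain ⟨a, ha⟩ := (surjective_HHlin_zero_iff k S.g).1 hsurj t
    obtain ⟨a₀, ha₀⟩ := exists_fac_basis_desc k b a
    rw [← ha, ← ha₀]
    have hp : p = Abelian.factorThruImage p ≫ i := (Abelian.image.fac p).symm
    show (a₀ ≫ p) ≫ cokernel.π i = 0
    calc (a₀ ≫ p) ≫ cokernel.π i
        = (a₀ ≫ Abelian.factorThruImage p ≫ i) ≫ cokernel.π i :=
          congrArg (fun z => (a₀ ≫ z) ≫ cokernel.π i) hp
      _ = 0 := by
        rw [Category.assoc, Category.assoc, cokernel.condition, comp_zero, comp_zero]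
  -- the inverse of `L` and the quotient `F = Q ⊗ L⁻¹` of `O`
  obtain ⟨M, hM, ⟨ε2⟩, ⟨ε1⟩⟩ := Groth.Agent.Lead.InvDual.exists_inverse L hL
  have hcM : Coh.IsCoh M := Groth.Agent.Helper1.SerreFin.isCoh_of_isInvertible M hM
  haveI : Epi (KoszTw.tensorMap (cokernel.π i) (𝟙 M)) :=
    Groth.Agent.Helper1.TwistExact.epi_tensorMap _ M hM
  let q : Coh.structureModule X ⟶ CohB1.tensorMod (cokernel i) M :=
    ε1.inv ≫ KoszTw.tensorMap (cokernel.π i) (𝟙 M)
  haveI : Epi q := epi_comp _ _
  have hcF : Coh.IsCoh (CohB1.tensorMod (cokernel i) M) :=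
    Groth.Agent.Lead.Ref1B.isCoh_tensorMod _ _ hcQ hcM
  have hF1 : Subsingleton (Coh.HH X (CohB1.tensorMod (cokernel i) M) 1) :=
    subsingleton_HH_of_epi k q 1 h1 (hH2 _)
  let e : CohB1.tensorMod (CohB1.tensorMod (cokernel i) M) L ≅ cokernel i :=
    Groth.Agent.Helper4.TensorAssoc.assocIso (cokernel i) M L hM hL ≪≫
      PicGrp.tensorModIso (Iso.refl (cokernel i)) ε2 ≪≫ SecTwist.unitorR (cokernel i)
  -- numerics
  have hnn := rkDefect_nonneg_of_nef k hdim.le L hL hnef _ hcF
  unfold rkDefect at hnn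
  rw [chi_tensorRight_obj, chi_iso k e] at hnn
  have hχQ := chi_eq_h0_sub_h1 k hdim.le (cokernel i)
  have hχF := chi_eq_h0_sub_h1 k hdim.le (CohB1.tensorMod (cokernel i) M)
  haveI hQ0' : Subsingleton (Coh.HH X (cokernel i) 0) := ⟨fun x y => by
    obtain ⟨a, rfl⟩ := evalH0_surjective k (cokernel i) x
    obtain ⟨b', rfl⟩ := evalH0_surjective k (cokernel i) y
    rw [hQ0 a, hQ0 b']⟩
  rw [Module.finrank_zero_of_subsingleton (M := Coh.HH X (cokernel i) 0)] at hχQ
  haveI := hF1
  rw [Module.finrank_zero_of_subsingleton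
    (M := Coh.HH X (CohB1.tensorMod (cokernel i) M) 1)] at hχF
  haveI hfinQ1 : Module.Finite k (Coh.HH X (cokernel i) 1) :=
    Groth.Agent.S0002.result k X _ hcQ 1
  haveI hfinF0 : Module.Finite k (Coh.HH X (CohB1.tensorMod (cokernel i) M) 0) :=
    Groth.Agent.S0002.result k X _ hcF 0
  have hz1 : Module.finrank k (Coh.HH X (cokernel i) 1) = 0 := by
    push_cast at hχQ hχF hnn
    omega
  have hz2 : Module.finrank k (Coh.HH X (CohB1.tensorMod (cokernel i) M) 0) = 0 := by
    push_cast at hχQ hχF hnn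
    omega
  haveI hsQ1 : Subsingleton (Coh.HH X (cokernel i) 1) := Module.finrank_zero_iff.1 hz1
  haveI hsF0 : Subsingleton (Coh.HH X (CohB1.tensorMod (cokernel i) M) 0) :=
    Module.finrank_zero_iff.1 hz2
  -- `F = 0`, hence `Q = 0`
  have hq0 : q = 0 := evalH0_injective k _ (Subsingleton.elim _ _)
  have hFz : IsZero (CohB1.tensorMod (cokernel i) M) := IsZero.of_epi_eq_zero q hq0
  have hQz : IsZero (cokernel i) :=
    ((DCoh.tensorRightMod L).map_isZero hFz).of_iso e.symm
  haveI : Epi i := Abelian.epi_of_cokernel_π_eq_zero i (hQz.eq_of_tgt _ _)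
  refine ⟨?_, r, p, ?_⟩
  · refine ⟨fun x y => ?_⟩
    have key : ∀ z : Coh.HH X L 1, z = 0 := by
      intro z
      have hz : Canon.HHlin k S.g 1 z = 0 := Subsingleton.elim (α := Coh.HH X (cokernel i) 1) _ _
      obtain ⟨w, hw⟩ := (NApx80.exact_f_g k S hS 1 z).1 hz
      rw [← hw, @Subsingleton.elim _ hI1 w 0, map_zero]
    rw [key x, key y]
  · have hp : Abelian.factorThruImage p ≫ i = p := Abelian.image.fac p
    rw [← hp]
    exact epi_comp _ _

omit [IsProper (X ↘ (Spec (CommRingCat.of k)))] in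
include k in
/-- a quotient of a finite free module is globally generated -/
theorem isGloballyGenerated_of_epi_sigma {L : X.Modules} {r : ℕ}
    (p : (∐ fun _ : Fin r => Coh.structureModule X) ⟶ L) [Epi p] :
    Curv2.IsGloballyGenerated L := by
  refine ⟨Γ(L, ⊤), Groth.Agent.Lead.GlobGen.canFree L, ?_⟩
  have hfac : ∀ j : Fin r, ∃ s₀ : Coh.structureModule X ⟶
      (SheafOfModules.free Γ(L, ⊤) : X.Modules),
      Sigma.ι (fun _ : Fin r => Coh.structureModule X) j ≫ p =
        s₀ ≫ Groth.Agent.Lead.GlobGen.canFree L := fun j => exists_fac_canFree L _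
  choose s₀ hs₀ using hfac
  have hp : Sigma.desc s₀ ≫ Groth.Agent.Lead.GlobGen.canFree L = p := by
    apply Sigma.hom_ext
    intro j
    rw [← Category.assoc, Sigma.ι_desc, hs₀ j]
  haveI : Epi (Sigma.desc s₀ ≫ Groth.Agent.Lead.GlobGen.canFree L) := by
    rw [hp]
    infer_instance
  exact epi_of_epi (Sigma.desc s₀) _

/-- **S16295**, final form -/
theorem main16295' (hdim : topologicalKrullDim X = 1)
    (h1 : Subsingleton (Coh.HH X (Coh.structureModule X) 1))
    (L : X.Modules) (hL : PicF.IsInvertible L)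
    (hnef : ∀ J : X.IdealSheafData, IsIntegral J.subscheme → topologicalKrullDim J.subscheme = 1 →
      0 ≤ @Curv2.deg k _ J.subscheme ⟨J.subschemeι ≫ (X ↘ (Spec (CommRingCat.of k)))⟩
        ((Scheme.Modules.pullback J.subschemeι).obj L) 1) :
    Subsingleton (Coh.HH X L 1) ∧ Curv2.IsGloballyGenerated L := by
  obtain ⟨h, r, p, hp⟩ := main16295 k hdim h1 L hL hnef
  haveI := hp
  exact ⟨h, isGloballyGenerated_of_epi_sigma k p⟩

/-- **S16296** -/
theorem main16296 (hdim : topologicalKrullDim X = 1)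
    (h1 : Subsingleton (Coh.HH X (Coh.structureModule X) 1))
    (L : X.Modules) (hL : PicF.IsInvertible L)
    (hnef : ∀ J : X.IdealSheafData, IsIntegral J.subscheme → topologicalKrullDim J.subscheme = 1 →
      0 ≤ @Curv2.deg k _ J.subscheme ⟨J.subschemeι ≫ (X ↘ (Spec (CommRingCat.of k)))⟩
        ((Scheme.Modules.pullback J.subschemeι).obj L) 1) :
    (Module.finrank k (Coh.HH X L 0) : ℤ) =
      Module.finrank k (Coh.HH X (Coh.structureModule X) 0) + Curv2.deg k X L 1 := by
  haveI := isNoetherian_of_proper k X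
  obtain ⟨hL1, -⟩ := main16295 k hdim h1 L hL hnef
  have hχL := chi_eq_h0_sub_h1 k hdim.le L
  have hχO := chi_eq_h0_sub_h1 k hdim.le (Coh.structureModule X)
  rw [Module.finrank_zero_of_subsingleton (M := Coh.HH X L 1)] at hχL
  rw [Module.finrank_zero_of_subsingleton (M := Coh.HH X (Coh.structureModule X) 1)] at hχO
  unfold Curv2.deg
  unfold chi at hχL hχO
  rw [hχL, hχO]
  push_cast
  ring

end GenZero

end Groth.Agent.Helper4.SN
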