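import Mathlib
import Groth.Agent.Helper4.SN174
import Groth.Agent.S0032
import Groth.Agent.S0042

/-!
# Vanishing above the fibre dimension over an affine Noetherian base; `main16295` for `dim ≤ 1`
-/

set_option autoImplicit false
set_option linter.style.haveILetI false

namespace Groth.Agent.Helper4.SN

open CategoryTheory Limits AlgebraicGeometry Opposite TopologicalSpace

universe u

section FibVan

/-- cohomology of a coherent module vanishes above the fibre dimension, over an affine Noetherian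
base -/
theorem subsingleton_HH_of_fibres (A : Type u) [CommRing A] [IsNoetherianRing A]
    (X : Scheme.{u}) (f : X ⟶ Spec (CommRingCat.of A)) [IsProper f] (d : ℕ)
    (hfib : ∀ y : ↥(Spec (CommRingCat.of A)), topologicalKrullDim ↥(f.fiber y) ≤ d)
    (G : X.Modules) (hG : Coh.IsCoh G) (p : ℕ) (hp : d < p) :
    Subsingleton (Coh.HH X G p) := by
  haveI : Coh.IsQCoh G := hG.1
  obtain ⟨e⟩ := Groth.Agent.S0032.result f G p
  have hst : ∀ y : ↥(Spec (CommRingCat.of A)),
      Limits.IsZero (TopCat.Presheaf.stalk ((Coh.RpushAb f p).obj (Coh.toAb G)).obj y) :=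
    fun y => Groth.Agent.S0042.result f y d (hfib y) G hG p hp
  haveI : Subsingleton ↑(((Coh.RpushAb f p).obj (Coh.toAb G)).obj.obj (op ⊤)) := by
    refine ⟨fun s t => ?_⟩
    apply TopCat.Presheaf.section_ext ((Coh.RpushAb f p).obj (Coh.toAb G)) ⊤ s t
    intro x hx
    haveI : Subsingleton ↑(TopCat.Presheaf.stalk ((Coh.RpushAb f p).obj (Coh.toAb G)).obj x) :=
      AddCommGrpCat.subsingleton_of_isZero (hst x)
    exact Subsingleton.elim _ _
  exact e.toEquiv.subsingleton

end FibVan


section GenZeroLe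

open Groth.Agent.Helper4.NApx82 Groth.Agent.Helper4.StalkDict Groth.Agent.Helper4.TensorInv
  Groth.Agent.Helper1.Dev

variable (k : Type u) [Field k] {X : Scheme.{u}} [X.Over (Spec (CommRingCat.of k))]
  [IsProper (X ↘ (Spec (CommRingCat.of k)))]

/-- **S16295** for `dim X ≤ 1` -/
theorem main16295_le (hdim : topologicalKrullDim X ≤ 1)
    (h1 : Subsingleton (Coh.HH X (Coh.structureModule X) 1))
    (L : X.Modules) (hL : PicF.IsInvertible L)
    (hnef : ∀ J : X.IdealSheafData, IsIntegral J.subscheme → topologicalKrullDim J.subscheme = 1 →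
      0 ≤ @Curv2.deg k _ J.subscheme ⟨J.subschemeι ≫ (X ↘ (Spec (CommRingCat.of k)))⟩
        ((Scheme.Modules.pullback J.subschemeι).obj L) 1) :
    Subsingleton (Coh.HH X L 1) ∧
      ∃ (r : ℕ) (p : (∐ fun _ : Fin r => Coh.structureModule X) ⟶ L), Epi p := by
  classical
  haveI := isNoetherian_of_proper k X
  have hcO : Coh.IsCoh (Coh.structureModule X) :=
    Groth.Agent.Helper1.SerreFin.isCoh_of_isInvertible _ isInvertible_structureModule
  have hcL : Coh.IsCoh L := Groth.Agent.Helper1.SerreFin.isCoh_of_isInvertible L hL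
  have hL1 := Groth.Agent.Helper4.QAffSec.isFinLocFreeOfRank_one_of_isInvertible L hL
  haveI : Module.Finite k (Coh.structureModule X ⟶ L) := finite_hom k _ _ hcO hcL
  obtain ⟨r, hr⟩ : ∃ r, r = Module.finrank k (Coh.structureModule X ⟶ L) := ⟨_, rfl⟩
  let b : Module.Basis (Fin r) k (Coh.structureModule X ⟶ L) :=
    (Module.finBasis k (Coh.structureModule X ⟶ L)).reindex (finCongr hr.symm)
  let p : (∐ fun _ : Fin r => Coh.structureModule X) ⟶ L := Sigma.desc (fun i => b i)
  have hcS : Coh.IsCoh (∐ fun _ : Fin r => Coh.structureModule X) :=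
    Groth.Agent.Helper1.SerreFin.isCoh_sigma_fin _ (fun _ => hcO)
  -- the image and the quotient
  let i : Abelian.image p ⟶ L := Abelian.image.ι p
  let S := cokSC i
  have hS : S.ShortExact := cokSC_shortExact i
  have hcI : Coh.IsCoh (Abelian.image p) :=
    Groth.Agent.Lead.PerfLib.isCoh_kernel hcL
      (Groth.Agent.Lead.PerfLib.isCoh_cokernel hcS hcL p) _
  have hcQ : Coh.IsCoh (cokernel i) := Groth.Agent.Lead.PerfLib.isCoh_cokernel hcI hcL i
  -- `H¹` of the image vanishes
  have hH2 : ∀ G : X.Modules, Subsingleton (Coh.HH X G 2) := fun G =>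
    subsingleton_HH_of_dim 1 (by exact_mod_cast hdim) G 2 (by norm_num)
  have hI1 : Subsingleton (Coh.HH X (Abelian.image p) 1) := by
    haveI : Epi (Abelian.factorThruImage p) := inferInstance
    exact subsingleton_HH_of_epi k (Abelian.factorThruImage p) 1
      (Groth.Agent.Helper1.SerreVan.subsingleton_HH_sigma _ 1 (fun _ => h1)) (hH2 _)
  -- all sections of the quotient vanish
  have hQ0 : ∀ t : Coh.structureModule X ⟶ cokernel i, t = 0 := by
    intro t
    have hsurj : Function.Surjective (Canon.HHlin k S.g 0) := by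
      intro x
      have h0 : Groth.Agent.Helper1.HHLes.δ k S hS 0 x = 0 := @Subsingleton.elim _ hI1 _ _
      exact (Groth.Agent.Helper1.HHLes.exact_g_δ k S hS 0 x).1 h0
    obtain ⟨a, ha⟩ := (surjective_HHlin_zero_iff k S.g).1 hsurj t
    obtain ⟨a₀, ha₀⟩ := exists_fac_basis_desc k b a
    rw [← ha, ← ha₀]
    have hp : p = Abelian.factorThruImage p ≫ i := (Abelian.image.fac p).symm
    show (a₀ ≫ p) ≫ cokernel.π i = 0
    calc (a₀ ≫ p) ≫ cokernel.π i
        = (a₀ ≫ Abelian.factorThruImage p ≫ i) ≫ cokernel.π i :=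
          congrArg (fun z => (a₀ ≫ z) ≫ cokernel.π i) hp
      _ = 0 := by
        rw [Category.assoc, Category.assoc, cokernel.condition, comp_zero, comp_zero]
  -- the inverse of `L` and the quotient `F = Q ⊗ L⁻¹` of `O`
  obtain ⟨M, hM, ⟨ε2⟩, ⟨ε1⟩⟩ := Groth.Agent.Lead.InvDual.exists_inverse L hL
  have hcM : Coh.IsCoh M := Groth.Agent.Helper1.SerreFin.isCoh_of_isInvertible M hM
  haveI : Epi (KoszTw.tensorMap (cokernel.π i) (𝟙 M)) :=
    Groth.Agent.Helper1.TwistExact.epi_tensorMap _ M hM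
  let q : Coh.structureModule X ⟶ CohB1.tensorMod (cokernel i) M :=
    ε1.inv ≫ KoszTw.tensorMap (cokernel.π i) (𝟙 M)
  haveI : Epi q := epi_comp _ _
  have hcF : Coh.IsCoh (CohB1.tensorMod (cokernel i) M) :=
    Groth.Agent.Lead.Ref1B.isCoh_tensorMod _ _ hcQ hcM
  have hF1 : Subsingleton (Coh.HH X (CohB1.tensorMod (cokernel i) M) 1) :=
    subsingleton_HH_of_epi k q 1 h1 (hH2 _)
  let e : CohB1.tensorMod (CohB1.tensorMod (cokernel i) M) L ≅ cokernel i :=
    Groth.Agent.Helper4.TensorAssoc.assocIso (cokernel i) M L hM hL ≪≫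
      PicGrp.tensorModIso (Iso.refl (cokernel i)) ε2 ≪≫ SecTwist.unitorR (cokernel i)
  -- numerics
  have hnn := rkDefect_nonneg_of_nef k hdim L hL hnef _ hcF
  unfold rkDefect at hnn
  rw [chi_tensorRight_obj, chi_iso k e] at hnn
  have hχQ := chi_eq_h0_sub_h1 k hdim (cokernel i)
  have hχF := chi_eq_h0_sub_h1 k hdim (CohB1.tensorMod (cokernel i) M)
  haveI hQ0' : Subsingleton (Coh.HH X (cokernel i) 0) := ⟨fun x y => by
    obtain ⟨a, rfl⟩ := evalH0_surjective k (cokernel i) x
    obtain ⟨b', rfl⟩ := evalH0_surjective k (cokernel i) y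
    rw [hQ0 a, hQ0 b']⟩
  rw [Module.finrank_zero_of_subsingleton (M := Coh.HH X (cokernel i) 0)] at hχQ
  haveI := hF1
  rw [Module.finrank_zero_of_subsingleton
    (M := Coh.HH X (CohB1.tensorMod (cokernel i) M) 1)] at hχF
  haveI hfinQ1 : Module.Finite k (Coh.HH X (cokernel i) 1) :=
    Groth.Agent.S0002.result k X _ hcQ 1
  haveI hfinF0 : Module.Finite k (Coh.HH X (CohB1.tensorMod (cokernel i) M) 0) :=
    Groth.Agent.S0002.result k X _ hcF 0
  have hz1 : Module.finrank k (Coh.HH X (cokernel i) 1) = 0 := by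
    push_cast at hχQ hχF hnn
    omega
  have hz2 : Module.finrank k (Coh.HH X (CohB1.tensorMod (cokernel i) M) 0) = 0 := by
    push_cast at hχQ hχF hnn
    omega
  haveI hsQ1 : Subsingleton (Coh.HH X (cokernel i) 1) := Module.finrank_zero_iff.1 hz1
  haveI hsF0 : Subsingleton (Coh.HH X (CohB1.tensorMod (cokernel i) M) 0) :=
    Module.finrank_zero_iff.1 hz2
  -- `F = 0`, hence `Q = 0`
  have hq0 : q = 0 := evalH0_injective k _ (Subsingleton.elim _ _)
  have hFz : IsZero (CohB1.tensorMod (cokernel i) M) := IsZero.of_epi_eq_zero q hq0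
  have hQz : IsZero (cokernel i) :=
    ((DCoh.tensorRightMod L).map_isZero hFz).of_iso e.symm
  haveI : Epi i := Abelian.epi_of_cokernel_π_eq_zero i (hQz.eq_of_tgt _ _)
  refine ⟨?_, r, p, ?_⟩
  · refine ⟨fun x y => ?_⟩
    have key : ∀ z : Coh.HH X L 1, z = 0 := by
      intro z
      have hz : Canon.HHlin k S.g 1 z = 0 := Subsingleton.elim (α := Coh.HH X (cokernel i) 1) _ _
      obtain ⟨w, hw⟩ := (NApx80.exact_f_g k S hS 1 z).1 hz
      rw [← hw, @Subsingleton.elim _ hI1 w 0, map_zero]
    rw [key x, key y]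
  · have hp : Abelian.factorThruImage p ≫ i = p := Abelian.image.fac p
    rw [← hp]
    exact epi_comp _ _

/-- **S16295** for `dim X ≤ 1`, final form -/
theorem main16295_le' (hdim : topologicalKrullDim X ≤ 1)
    (h1 : Subsingleton (Coh.HH X (Coh.structureModule X) 1))
    (L : X.Modules) (hL : PicF.IsInvertible L)
    (hnef : ∀ J : X.IdealSheafData, IsIntegral J.subscheme → topologicalKrullDim J.subscheme = 1 →
      0 ≤ @Curv2.deg k _ J.subscheme ⟨J.subschemeι ≫ (X ↘ (Spec (CommRingCat.of k)))⟩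
        ((Scheme.Modules.pullback J.subschemeι).obj L) 1) :
    Subsingleton (Coh.HH X L 1) ∧ Curv2.IsGloballyGenerated L := by
  obtain ⟨h, r, p, hp⟩ := main16295_le k hdim h1 L hL hnef
  haveI := hp
  exact ⟨h, isGloballyGenerated_of_epi_sigma k p⟩

end GenZeroLe

end Groth.Agent.Helper4.SN
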