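import Mathlib
import Groth.Agent.Helper4.SN175
import Groth.Agent.Helper1.PicLoc4
import Groth.Agent.Helper1.GrSh2

/-!
# Quotients modulo an ideal of the base and cohomology: `H^q(M) = J H^q(M)` when `H^q(M/JM) = 0`
-/

set_option autoImplicit false
set_option linter.style.haveILetI false

namespace Groth.Agent.Helper4.SN

open CategoryTheory Limits AlgebraicGeometry Opposite TopologicalSpace
open Groth.Agent.Helper1.Form

universe u

section Nak

/-- a finite module which equals `𝔪 M` for every maximal ideal is zero -/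
theorem subsingleton_of_forall_maximal_smul_top (A : Type*) [CommRing A] (M : Type*)
    [AddCommGroup M] [Module A M] [Module.Finite A M]
    (h : ∀ m : Ideal A, m.IsMaximal → (⊤ : Submodule A M) ≤ m • (⊤ : Submodule A M)) :
    Subsingleton M := by
  by_contra hM
  rw [not_subsingleton_iff_nontrivial] at hM
  have hne : Module.annihilator A M ≠ ⊤ := by
    intro htop
    obtain ⟨x, hx⟩ := exists_ne (0 : M)
    apply hx
    have h1 : (1 : A) ∈ Module.annihilator A M := by rw [htop]; trivial
    have := Module.mem_annihilator.1 h1 x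
    rwa [one_smul] at this
  obtain ⟨m, hm, hle⟩ := Ideal.exists_le_maximal _ hne
  obtain ⟨r, hr1, hr2⟩ := Submodule.exists_sub_one_mem_and_smul_eq_zero_of_fg_of_le_smul m
    (⊤ : Submodule A M) Module.Finite.fg_top (h m hm)
  have hr : r ∈ m := hle (Module.mem_annihilator.2 (fun x => hr2 x trivial))
  apply hm.ne_top
  rw [Ideal.eq_top_iff_one]
  have : (1 : A) = r - (r - 1) := by ring
  rw [this]
  exact m.sub_mem hr hr1

end Nak

section Quot

variable {A : Type u} [CommRing A] {X : Scheme.{u}} [X.Over (Spec (CommRingCat.of A))]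

/-- the map `∐_j M ⟶ M` given by multiplication by the `a j` -/
noncomputable def smulFin {t : ℕ} (a : Fin t → A) (M : X.Modules) :
    (∐ fun _ : Fin t => M) ⟶ M :=
  Sigma.desc fun j => Formal.smulMod A M (a j)

theorem ι_smulFin {t : ℕ} (a : Fin t → A) (M : X.Modules) (j : Fin t) :
    Sigma.ι (fun _ : Fin t => M) j ≫ smulFin a M = Formal.smulMod A M (a j) := by
  unfold smulFin
  rw [Sigma.ι_desc]

theorem kills_cokernel_smulFin {t : ℕ} (a : Fin t → A) (M : X.Modules) :
    Kills (Ideal.span (Set.range a)) (cokernel.π (smulFin a M)) := by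
  intro b hb
  induction hb using Submodule.span_induction with
  | mem x hx =>
    obtain ⟨j, rfl⟩ := hx
    have h1 : a j • cokernel.π (smulFin a M) =
        Formal.smulMod A M (a j) ≫ cokernel.π (smulFin a M) := rfl
    rw [h1, ← ι_smulFin a M j, Category.assoc, cokernel.condition, comp_zero]
  | zero => rw [zero_smul]
  | add x y _ _ hx hy => rw [add_smul, hx, hy, add_zero]
  | smul r x _ hx => rw [smul_eq_mul, mul_smul, hx, smul_zero]

theorem smulFin_comp_eq_zero {t : ℕ} (a : Fin t → A) {J : Ideal A} (ha : ∀ j, a j ∈ J)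
    {M N : X.Modules} {p : M ⟶ N} (hp : Kills J p) : smulFin a M ≫ p = 0 := by
  apply Sigma.hom_ext
  intro j
  rw [← Category.assoc, ι_smulFin, comp_zero]
  exact hp (a j) (ha j)

/-- the kernel of a quotient map modulo `J = (a_1, …, a_t)` is generated by the `a_j M` -/
theorem exists_epi_kernel_of_isQuot {t : ℕ} (a : Fin t → A) (J : Ideal A)
    (ha : Ideal.span (Set.range a) = J) {M N : X.Modules} {p : M ⟶ N} (hp : IsQuot J p) :
    ∃ φ' : (∐ fun _ : Fin t => M) ⟶ kernel p, Epi φ' ∧ φ' ≫ kernel.ι p = smulFin a M := by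
  have haJ : ∀ j, a j ∈ J := fun j => by
    rw [← ha]; exact Ideal.subset_span ⟨j, rfl⟩
  have hφp : smulFin a M ≫ p = 0 := smulFin_comp_eq_zero a haJ hp.kills
  set c := cokernel.π (smulFin a M) with hc
  have hkc : Kills J c := by
    rw [← ha]; exact kills_cokernel_smulFin a M
  obtain ⟨d, hd⟩ := hp.fac c hkc
  have h0 : kernel.ι p ≫ c = 0 := by
    rw [← hd, ← Category.assoc, kernel.condition, zero_comp]
  let l : kernel p ⟶ kernel c := kernel.lift c (kernel.ι p) h0
  let φ' : (∐ fun _ : Fin t => M) ⟶ kernel p := kernel.lift p (smulFin a M) hφp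
  have hl : l ≫ kernel.ι c = kernel.ι p := kernel.lift_ι _ _ _
  have hφ' : φ' ≫ kernel.ι p = smulFin a M := kernel.lift_ι _ _ _
  have hfac : φ' ≫ l = Abelian.factorThruImage (smulFin a M) := by
    rw [← cancel_mono (Abelian.image.ι (smulFin a M)), Abelian.image.fac]
    show (φ' ≫ l) ≫ kernel.ι c = _
    rw [Category.assoc, hl, hφ']
  haveI : Mono l := mono_of_mono_fac hl
  haveI : Epi (φ' ≫ l) := by rw [hfac]; infer_instance
  haveI : Epi l := epi_of_epi φ' l
  haveI : IsIso l := isIso_of_mono_of_epi l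
  refine ⟨φ', ?_, hφ'⟩
  have : φ' = (φ' ≫ l) ≫ inv l := by rw [Category.assoc, IsIso.hom_inv_id, Category.comp_id]
  rw [this]
  infer_instance

end Quot


section HHQuot

open Groth.Agent.Helper1.SerreCrit Groth.Agent.Helper1.HHSum

variable (A : Type u) [CommRing A] {X : Scheme.{u}} [X.Over (Spec (CommRingCat.of A))]

theorem HHlinA_sum {F G : X.Modules} {ι : Type*} (T : Finset ι) (f : ι → (F ⟶ G)) (q : ℕ)
    (x : Coh.HH X F q) :
    Canon.HHlin A (∑ j ∈ T, f j) q x = ∑ j ∈ T, Canon.HHlin A (f j) q x := by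
  rw [HHlin_apply, CategoryTheory.Functor.map_sum, hom_sum_apply]
  rfl

/-- right exactness of cohomology in the top degree, over a ring -/
theorem surjective_HHlin_of_epi {E F : X.Modules} (π : E ⟶ F) [Epi π] (q : ℕ)
    (hK : Subsingleton (Coh.HH X (kernel π) (q + 1))) :
    Function.Surjective (Canon.HHlin A π q) := by
  let S : ShortComplex X.Modules := ShortComplex.mk (kernel.ι π) π (kernel.condition π)
  have hS : S.ShortExact :=
    { exact := ShortComplex.exact_kernel π
      mono_f := inferInstanceAs (Mono (kernel.ι π))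
      epi_g := inferInstanceAs (Epi π) }
  intro z
  have h0 : Groth.Agent.Helper1.HHLes.δ A S hS q z = 0 := @Subsingleton.elim _ hK _ _
  exact (Groth.Agent.Helper1.HHLes.exact_g_δ A S hS q z).1 h0

/-- if `H^q(M/JM) = 0` and `H^{q+1}` vanishes on coherent modules then `H^q(M) = J H^q(M)` -/
theorem mem_smul_top_of_isQuot [IsLocallyNoetherian X] {t : ℕ} (a : Fin t → A) (J : Ideal A)
    (ha : Ideal.span (Set.range a) = J) {M N : X.Modules} (hM : Coh.IsCoh M) (hN : Coh.IsCoh N)
    {p : M ⟶ N} (hp : IsQuot J p) (q : ℕ)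
    (hNq : Subsingleton (Coh.HH X N q))
    (hvan : ∀ G : X.Modules, Coh.IsCoh G → Subsingleton (Coh.HH X G (q + 1)))
    (x : Coh.HH X M q) : x ∈ J • (⊤ : Submodule A (Coh.HH X M q)) := by
  obtain ⟨φ', hepi, hφ'⟩ := exists_epi_kernel_of_isQuot a J ha hp
  haveI := hepi
  haveI := hp.epi
  let S : ShortComplex X.Modules := ShortComplex.mk (kernel.ι p) p (kernel.condition p)
  have hS : S.ShortExact :=
    { exact := ShortComplex.exact_kernel p
      mono_f := inferInstanceAs (Mono (kernel.ι p))
      epi_g := inferInstanceAs (Epi p) }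
  have hx0 : Canon.HHlin A S.g q x = 0 := @Subsingleton.elim _ hNq _ _
  obtain ⟨w, hw⟩ := (Groth.Agent.Helper4.NApx80.exact_f_g A S hS q x).1 hx0
  have hcS : Coh.IsCoh (∐ fun _ : Fin t => M) :=
    Groth.Agent.Helper1.SerreFin.isCoh_sigma_fin _ (fun _ => hM)
  have hcK : Coh.IsCoh (kernel p) := Groth.Agent.Lead.PerfLib.isCoh_kernel hM hN p
  have hcK' : Coh.IsCoh (kernel φ') := Groth.Agent.Lead.PerfLib.isCoh_kernel hcS hcK φ'
  obtain ⟨v, hv⟩ := surjective_HHlin_of_epi A φ' q (hvan _ hcK') w
  have hx : x = Canon.HHlin A (smulFin a M) q v := by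
    rw [← hφ', Groth.Agent.Helper1.GrSh.HHlin_comp, hv]
    exact hw.symm
  have hdec : smulFin a M =
      ∑ j, proj (fun _ : Fin t => M) j ≫ Formal.smulMod A M (a j) := by
    calc smulFin a M = 𝟙 _ ≫ smulFin a M := (Category.id_comp _).symm
      _ = (∑ j, proj (fun _ : Fin t => M) j ≫ Sigma.ι (fun _ : Fin t => M) j) ≫ smulFin a M := by
        rw [sum_proj_ι]
      _ = _ := by
        rw [Preadditive.sum_comp]
        refine Finset.sum_congr rfl (fun j _ => ?_)
        rw [Category.assoc, ι_smulFin]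
  rw [hx, hdec, HHlinA_sum]
  refine Submodule.sum_mem _ (fun j _ => ?_)
  rw [Groth.Agent.Helper1.GrSh.HHlin_comp, Groth.Agent.Helper1.GrSh.HHlin_smulMod]
  refine Submodule.smul_mem_smul ?_ trivial
  rw [← ha]
  exact Ideal.subset_span ⟨j, rfl⟩

end HHQuot

end Groth.Agent.Helper4.SN
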