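import Groth.Agent.Helper4.AmpleTensor
import Mathlib

set_option autoImplicit false
universe u
open CategoryTheory CategoryTheory.Limits AlgebraicGeometry Opposite TopologicalSpace TensorProduct
  MonoidalCategory

namespace Groth.Agent.Helper4.AmpleRestrict

open Groth.Agent.Helper4.GenLoc Groth.Agent.Helper4.TensorInv Groth.Agent.Helper4.TensorGen
  Groth.Agent.Helper4.QAffSec Groth.Agent.Helper4.TensorLift Groth.Agent.Helper4.TwistLocal
  Groth.Agent.Helper4.TwistExt Groth.Agent.Helper4.TensorRes Groth.Agent.Helper4.TensorAssoc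
  Groth.Agent.Helper4.AmpleIso Groth.Agent.Helper4.AmpleBasis Groth.Agent.Helper4.AmpleTensor

variable {X Y : Scheme.{u}}

/-- the restriction of a global section to an open subscheme -/
noncomputable def resSec (j : Y ⟶ X) [IsOpenImmersion j] {M : X.Modules}
    (σ : Coh.structureModule X ⟶ M) : Coh.structureModule Y ⟶ M.restrict j :=
  (Scheme.Modules.restrictUnitIso j).inv ≫ (Scheme.Modules.restrictFunctor j).map σ

theorem resSec_app_bijective_iff (j : Y ⟶ X) [IsOpenImmersion j] {M : X.Modules}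
    (σ : Coh.structureModule X ⟶ M) (V' : Y.Opens) :
    Function.Bijective ((resSec j σ).app V') ↔ Function.Bijective (σ.app (j ''ᵁ V')) := by
  have h1 : Function.Bijective ((Scheme.Modules.restrictUnitIso j).inv.app V') :=
    ConcreteCategory.bijective_of_isIso ((Scheme.Modules.restrictUnitIso j).inv.app V')
  have h3 : ⇑((resSec j σ).app V') = ⇑(σ.app (j ''ᵁ V')) ∘
      ⇑((Scheme.Modules.restrictUnitIso j).inv.app V') := by
    funext m; rfl
  rw [h3]
  exact ⟨fun h => (Function.Bijective.of_comp_iff _ h1).mp h, fun h => h.comp h1⟩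

/-- Lemma R: the generating locus commutes with restriction to an open subscheme -/
theorem genLocus_resSec (j : Y ⟶ X) [IsOpenImmersion j] {M : X.Modules}
    (σ : Coh.structureModule X ⟶ M) :
    CohB1.genLocus (M.restrict j) (resSec j σ) = j ⁻¹ᵁ (CohB1.genLocus M σ) := by
  have key : ∀ V' : Y.Opens, IsIso ((Scheme.Modules.restrictFunctor V'.ι).map (resSec j σ)) ↔
      IsIso ((Scheme.Modules.restrictFunctor (j ''ᵁ V').ι).map σ) := by
    intro V'
    rw [isIso_restrict_iff, isIso_restrict_iff]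
    constructor
    · intro h T hT
      have hT' : j ''ᵁ (j ⁻¹ᵁ T) = T := SubExt.image_preimage_of_le j (hT.trans (by
        rintro _ ⟨y, -, rfl⟩; exact ⟨y, rfl⟩))
      have h1 := (resSec_app_bijective_iff j σ (j ⁻¹ᵁ T)).mp (h (j ⁻¹ᵁ T) (by
        intro y hy
        obtain ⟨z, hz, hzy⟩ := hT hy
        have : z = y := j.isOpenEmbedding.injective hzy
        exact this ▸ hz))
      rwa [hT'] at h1
    · intro h V'' hV''
      rw [resSec_app_bijective_iff]
      exact h _ (by
        rintro _ ⟨y, hy, rfl⟩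
        exact ⟨y, hV'' hy, rfl⟩)
  apply le_antisymm
  · apply sSup_le
    intro V' hV'
    have h1 : j ''ᵁ V' ≤ CohB1.genLocus M σ := le_sSup ((key V').mp hV')
    intro y hy
    exact h1 ⟨y, hy, rfl⟩
  · intro y hy
    obtain ⟨U, hU, hyU⟩ : ∃ U : X.Opens,
        U ∈ {U : X.Opens | IsIso ((Scheme.Modules.restrictFunctor U.ι).map σ)} ∧ j y ∈ U :=
      Opens.mem_sSup.mp hy
    have hU' : IsIso ((Scheme.Modules.restrictFunctor (Scheme.Opens.ι U)).map σ) := hU
    have h2 : j ''ᵁ (j ⁻¹ᵁ U) ≤ U := by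
      rintro _ ⟨z, hz, rfl⟩; exact hz
    have h3 : IsIso ((Scheme.Modules.restrictFunctor (j ''ᵁ (j ⁻¹ᵁ U)).ι).map σ) := by
      rw [isIso_restrict_iff]
      intro T hT
      exact (isIso_restrict_iff σ U).mp hU' T (hT.trans h2)
    exact Opens.mem_sSup.mpr ⟨j ⁻¹ᵁ U, (key _).mpr h3, hyU⟩

/-- tensor powers commute with restriction to open subschemes -/
noncomputable def resPowIso (j : Y ⟶ X) [IsOpenImmersion j] (L : X.Modules) :
    ∀ n : ℕ, CohB1.tensorPow (L.restrict j) n ≅ (CohB1.tensorPow L n).restrict j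
  | 0 => (Scheme.Modules.restrictUnitIso j).symm
  | n + 1 => PicGrp.tensorModIso (resPowIso j L n) (Iso.refl (L.restrict j)) ≪≫
      resIso j (CohB1.tensorPow L n) L

/-- the restriction of an ample module to a quasi-compact open subscheme is ample -/
theorem isAmple_restrict (j : Y ⟶ X) [IsOpenImmersion j] [CompactSpace Y] {L : X.Modules}
    (hL : CohB1.IsAmple L) : CohB1.IsAmple (L.restrict j) := by
  refine ⟨isInvertible_restrict j hL.1, inferInstance, fun y => ?_⟩
  obtain ⟨m, τ, hx, hle, ha⟩ := exists_genLocus_nhd hL (j y) j.opensRange ⟨y, rfl⟩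
  refine ⟨m, resSec j τ ≫ (resPowIso j L (m + 1)).inv, ?_, ?_⟩
  · have := genLocus_comp_iso (resPowIso j L (m + 1)).symm (resSec j τ)
    rw [Iso.symm_hom] at this
    rw [this, genLocus_resSec]
    exact hx
  · have := genLocus_comp_iso (resPowIso j L (m + 1)).symm (resSec j τ)
    rw [Iso.symm_hom] at this
    rw [this, genLocus_resSec]
    exact SubExt.isAffineOpen_preimage_of_le j ha hle

/-- S4387 -/
theorem isRelAmple_iff_tensorPow (f : X ⟶ Y) (L : X.Modules) (hL : PicF.IsInvertible L) (n : ℕ)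
    (hn : 0 < n) :
    RelAmple.IsRelAmple f L ↔ RelAmple.IsRelAmple f (CohB1.tensorPow L n) := by
  unfold RelAmple.IsRelAmple
  apply and_congr Iff.rfl
  apply forall_congr'
  intro V
  have hinv := isInvertible_restrict (f ⁻¹ᵁ V.1).ι hL
  rw [← isAmple_iff_of_iso (resPowIso (f ⁻¹ᵁ V.1).ι L n)]
  exact ⟨isAmple_tensorPow hinv n hn, isAmple_of_tensorPow hinv n hn⟩

theorem isAmple_of_isAmple_restrict_top {L : X.Modules}
    (h : CohB1.IsAmple (L.restrict (⊤ : X.Opens).ι)) : CohB1.IsAmple L := by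
  haveI : CompactSpace ((⊤ : X.Opens) : Scheme.{u}) := h.2.1
  haveI : CompactSpace X := (Scheme.Hom.homeomorph X.topIso.hom).compactSpace
  have h1 := isAmple_restrict X.topIso.inv h
  have e : (L.restrict (⊤ : X.Opens).ι).restrict X.topIso.inv ≅ L :=
    ((Scheme.Modules.restrictFunctorComp X.topIso.inv (⊤ : X.Opens).ι).app L).symm ≪≫
      (Scheme.Modules.restrictFunctorCongr (Scheme.toIso_inv_ι X)).app L ≪≫
      Scheme.Modules.restrictFunctorId.app L
  exact isAmple_of_iso e h1

/-- S4381 -/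
theorem isRelAmple_iff_isAmple_of_isAffine [IsAffine Y] (f : X ⟶ Y) [QuasiCompact f]
    (L : X.Modules) : RelAmple.IsRelAmple f L ↔ CohB1.IsAmple L := by
  constructor
  · intro h
    have h1 := h.2 ⟨⊤, isAffineOpen_top Y⟩
    exact isAmple_of_isAmple_restrict_top h1
  · intro h
    refine ⟨inferInstance, fun V => ?_⟩
    haveI : CompactSpace ((f ⁻¹ᵁ V.1 : X.Opens) : Scheme.{u}) :=
      isCompact_iff_compactSpace.mp (QuasiCompact.isCompact_preimage (f := f) _ V.1.isOpen
        V.2.isCompact)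
    exact isAmple_restrict _ h

end Groth.Agent.Helper4.AmpleRestrict
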