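import Groth.Agent.Helper4.TwistCover
import Groth.Agent.Helper4.PullAmple
import Groth.Agent.Helper4.CounitEpi
import Mathlib

set_option autoImplicit false
universe u
open CategoryTheory CategoryTheory.Limits AlgebraicGeometry Opposite TopologicalSpace

namespace Groth.Agent.Helper4.RelCompTwist

open Groth.Agent.Helper4.GenLoc Groth.Agent.Helper4.TensorInv Groth.Agent.Helper4.TensorGen
  Groth.Agent.Helper4.TensorRes Groth.Agent.Helper4.TensorAssoc
  Groth.Agent.Helper4.AmpleIso Groth.Agent.Helper4.AmpleBasis Groth.Agent.Helper4.AmpleRestrict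
  Groth.Agent.Helper4.AmpleLocal Groth.Agent.Helper4.PullSec Groth.Agent.Helper4.PullTensor
  Groth.Agent.Helper4.PullAmple Groth.Agent.Helper4.TwistCover Groth.Agent.Helper4.CounitEpi

variable {X Y : Scheme.{u}}

theorem isInvertible_of_isRelAmple (f : X ⟶ Y) (L : X.Modules) (hL : RelAmple.IsRelAmple f L) :
    PicF.IsInvertible L := by
  apply isInvertible_of_cover
  intro x
  obtain ⟨V, hV, hxV, -⟩ := exists_isAffineOpen_mem_and_subset (X := Y) (x := f x) (U := ⊤) trivial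
  refine ⟨_, (f ⁻¹ᵁ V).ι, inferInstance, ?_, (hL.2 ⟨V, hV⟩).1⟩
  rw [Scheme.Opens.range_ι]
  exact hxV

theorem isRelAmple_morphismRestrict (f : X ⟶ Y) [QuasiCompact f] (L : X.Modules)
    (hL : RelAmple.IsRelAmple f L) (U : Y.Opens) :
    RelAmple.IsRelAmple (f ∣_ U) (L.restrict (f ⁻¹ᵁ U).ι) := by
  let W : Option PUnit.{u + 1} → Y.Opens := fun o => match o with
    | none => ⊤
    | some _ => U
  have hW : ⨆ i, W i = ⊤ := top_le_iff.mp (le_iSup W none)
  exact (isRelAmple_iff_of_openCover f L W hW).mp hL (some PUnit.unit)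

/-- Theorem A: `f` quasi-compact, `K` ample on `Y`, `L` `f`-ample ⟹ `L ⊗ f^*K^n` ample for `n ≫ 0` -/
theorem exists_forall_isAmple_tensor_pullback (f : X ⟶ Y) [QuasiCompact f] (L : X.Modules)
    (K : Y.Modules) (hL : RelAmple.IsRelAmple f L) (hK : CohB1.IsAmple K) :
    ∃ n₀ : ℕ, ∀ n, n₀ ≤ n → CohB1.IsAmple
      (CohB1.tensorMod L ((Scheme.Modules.pullback f).obj (CohB1.tensorPow K n))) := by
  haveI : CompactSpace Y := hK.2.1
  haveI : CompactSpace X := QuasiCompact.compactSpace_of_compactSpace f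
  haveI : QuasiSeparatedSpace Y := quasiSeparatedSpace_of_isAmple hK
  haveI : QuasiSeparated f := quasiSeparated_of_isRelAmple f L hL
  haveI : QuasiSeparatedSpace X := quasiSeparatedSpace_of_quasiSeparated f
  have hLinv := isInvertible_of_isRelAmple f L hL
  have hN := isInvertible_pullback f hK.1
  obtain ⟨n₀, hn₀⟩ := exists_forall_isAmple_twist hLinv hN (fun x => by
    obtain ⟨k, s, hxs, hsaff⟩ := hK.2.2 (f x)
    refine ⟨k, pullPowSec f hK.1 (k + 1) s, ?_, ?_⟩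
    · rw [genLocus_pullPowSec]; exact hxs
    · rw [genLocus_pullPowSec]; exact hL.2 ⟨_, hsaff⟩)
  refine ⟨n₀, fun n hn => ?_⟩
  exact isAmple_of_iso (PicGrp.tensorModIso (Iso.refl L) (pullPowIso f hK.1 n)).symm (hn₀ n hn)

theorem exists_forall_isAmple_restrict {Z : Scheme.{u}} (f : X ⟶ Y) (g : Y ⟶ Z)
    [QuasiCompact f] (L : X.Modules) (K : Y.Modules)
    (hL : RelAmple.IsRelAmple f L) (hK : RelAmple.IsRelAmple g K) (V : Z.Opens)
    (hV : IsAffineOpen V) :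
    ∃ n₁ : ℕ, ∀ n, n₁ ≤ n → CohB1.IsAmple
      ((CohB1.tensorMod L ((Scheme.Modules.pullback f).obj (CohB1.tensorPow K n))).restrict
        (f ⁻¹ᵁ (g ⁻¹ᵁ V)).ι) := by
  have hKU : CohB1.IsAmple (K.restrict (g ⁻¹ᵁ V).ι) := hK.2 ⟨V, hV⟩
  have hLU := isRelAmple_morphismRestrict f L hL (g ⁻¹ᵁ V)
  obtain ⟨n₁, hn₁⟩ := exists_forall_isAmple_tensor_pullback (f ∣_ (g ⁻¹ᵁ V)) _ _ hLU hKU
  refine ⟨n₁, fun n hn => ?_⟩
  refine isAmple_of_iso ?_ (hn₁ n hn)
  exact (PicGrp.tensorModIso (Iso.refl _)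
    (resPullIso f (g ⁻¹ᵁ V) (CohB1.tensorPow K n) ≪≫
      (Scheme.Modules.pullback (f ∣_ (g ⁻¹ᵁ V))).mapIso
        (resPowIso (g ⁻¹ᵁ V).ι K n).symm)).symm ≪≫ resIso _ _ _

/-- S2331 -/
theorem exists_forall_isRelAmple_comp {Z : Scheme.{u}} [CompactSpace Z] (f : X ⟶ Y) (g : Y ⟶ Z)
    [QuasiCompact f] [QuasiCompact g] (L : X.Modules) (K : Y.Modules)
    (hL : RelAmple.IsRelAmple f L) (hK : RelAmple.IsRelAmple g K) :
    ∃ n₀ : ℕ, 0 < n₀ ∧ ∀ n, n₀ ≤ n →
      RelAmple.IsRelAmple (f ≫ g)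
        (CohB1.tensorMod L ((Scheme.Modules.pullback f).obj (CohB1.tensorPow K n))) := by
  have hex : ∀ z : Z, ∃ V : Z.Opens, IsAffineOpen V ∧ z ∈ V := by
    intro z
    obtain ⟨V, hV, hzV, -⟩ := exists_isAffineOpen_mem_and_subset (X := Z) (x := z) (U := ⊤) trivial
    exact ⟨V, hV, hzV⟩
  choose V hVaff hzV using hex
  obtain ⟨t, ht⟩ := CompactSpace.elim_nhds_subcover (fun z => (V z : Set Z))
    (fun z => (V z).isOpen.mem_nhds (hzV z))
  choose n₁ hn₁ using fun z => exists_forall_isAmple_restrict f g L K hL hK (V z) (hVaff z)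
  refine ⟨max 1 (t.sup n₁), lt_of_lt_of_le Nat.one_pos (le_max_left _ _), fun n hn => ?_⟩
  have hcov : ⨆ i : t, V i.1 = ⊤ := by
    refine eq_top_iff.mpr fun z _ => ?_
    have hz : z ∈ ⋃ x ∈ t, (V x : Set Z) := ht ▸ Set.mem_univ z
    obtain ⟨x, hxt, hzx⟩ := Set.mem_iUnion₂.mp hz
    exact Opens.mem_iSup.mpr ⟨⟨x, hxt⟩, hzx⟩
  rw [isRelAmple_iff_of_openCover (f ≫ g) _ (fun i : t => V i.1) hcov]
  intro i
  haveI : IsAffine (V i.1 : Scheme.{u}) := hVaff i.1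
  rw [isRelAmple_iff_isAmple_of_isAffine]
  exact hn₁ i.1 n (((Finset.le_sup i.2).trans (le_max_right _ _)).trans hn)

end Groth.Agent.Helper4.RelCompTwist
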