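import Mathlib
import Groth.Agent.Helper1.PSB2
import Groth.Agent.Helper1.ProjBC8
import Groth.Agent.Helper1.NegTw
import Groth.Agent.Helper1.KzLin3
import Groth.Agent.Helper4.PullTensor
import Groth.Agent.Helper4.PullUnit

set_option autoImplicit false
set_option linter.unusedSectionVars false
set_option linter.style.haveILetI false

/-!
# SN208: the affine chart of `P^r_Y` over an affine open `V ⊆ Y`: a closed immersion
`p⁻¹V ⟶ P^r_{Γ(Y, V)}` compatible with all the twisting sheaves `O(d)`, `d ∈ ℤ`.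
-/

namespace Groth.Agent.Helper4.SN208

open CategoryTheory Limits AlgebraicGeometry TopologicalSpace Opposite
open Groth.Agent.Helper1.ProjBC Groth.Agent.Helper1.PSB

universe u

section generic

variable {R R' : Type u} [CommRing R] [CommRing R'] (φ : R →+* R') (N : ℕ)
variable {W : Scheme.{u}} (g : W ⟶ CohB1.ProjSpace N R') (h : W ⟶ CohB1.ProjSpace N R)
  (hgh : g ≫ γγ φ N = h)

include hgh in
/-- compatibility of the twisting sheaves with base change, nonnegative degrees -/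
theorem nonempty_pull_twist_nat (d : ℕ) :
    Nonempty ((Scheme.Modules.pullback g).obj (Twist.twistProjSpace N R' (d : ℤ)) ≅
      (Scheme.Modules.pullback h).obj (Twist.twistProjSpace N R (d : ℤ))) :=
  ⟨(Scheme.Modules.pullback g).mapIso (twistBC φ N d).symm ≪≫
    (Scheme.Modules.pullbackComp g (γγ φ N)).app (Twist.twistProjSpace N R (d : ℤ)) ≪≫
    (Scheme.Modules.pullbackCongr hgh).app (Twist.twistProjSpace N R (d : ℤ))⟩

/-- `g^* O(a) ⊗ g^* O(-a) ≅ O` -/
theorem nonempty_pull_twist_tensor_neg {S : Type u} [CommRing S] (k : W ⟶ CohB1.ProjSpace N S)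
    (a b : ℤ) (hab : a + b = 0) :
    Nonempty (CohB1.tensorMod ((Scheme.Modules.pullback k).obj (Twist.twistProjSpace N S a))
      ((Scheme.Modules.pullback k).obj (Twist.twistProjSpace N S b)) ≅ Coh.structureModule W) := by
  obtain ⟨e⟩ := Groth.Agent.Helper1.TwistMul.nonempty_twist_tensor_twist_iso
    (CohB1.polyGrading N S) (Groth.Agent.Helper1.PUP.hcovP N (R := S)) a b 0 hab.symm
  obtain ⟨e0⟩ := Groth.Agent.Helper1.KzLin.tw_zero N S
  have hA := Groth.Agent.Helper1.SerreVan.isInvertible_twist N S a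
  have hB := Groth.Agent.Helper1.SerreVan.isInvertible_twist N S b
  exact ⟨(Groth.Agent.Helper4.PullTensor.pullTensorIso k hA hB).symm ≪≫
    (Scheme.Modules.pullback k).mapIso (e ≪≫ e0) ≪≫
    Groth.Agent.Helper4.PullUnit.pullbackUnitIso k⟩

include hgh in
/-- compatibility of the twisting sheaves with base change, all degrees -/
theorem nonempty_pull_twist (d : ℤ) :
    Nonempty ((Scheme.Modules.pullback g).obj (Twist.twistProjSpace N R' d) ≅
      (Scheme.Modules.pullback h).obj (Twist.twistProjSpace N R d)) := by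
  rcases Int.le_total 0 d with hd | hd
  · obtain ⟨k, rfl⟩ := Int.eq_ofNat_of_zero_le hd
    exact nonempty_pull_twist_nat φ N g h hgh k
  · obtain ⟨k, hk⟩ := Int.eq_ofNat_of_zero_le (Int.neg_nonneg_of_nonpos hd)
    obtain ⟨τ⟩ := nonempty_pull_twist_nat φ N g h hgh k
    obtain ⟨e⟩ := nonempty_pull_twist_tensor_neg N g (k : ℤ) d (by omega)
    obtain ⟨e'⟩ := nonempty_pull_twist_tensor_neg N h d (k : ℤ) (by omega)
    have hA : PicF.IsInvertible
        ((Scheme.Modules.pullback g).obj (Twist.twistProjSpace N R' (k : ℤ))) :=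
      Groth.Agent.Helper4.PullSec.isInvertible_pullback _
        (Groth.Agent.Helper1.SerreVan.isInvertible_twist N R' _)
    have hA' : PicF.IsInvertible
        ((Scheme.Modules.pullback g).obj (Twist.twistProjSpace N R' d)) :=
      Groth.Agent.Helper4.PullSec.isInvertible_pullback _
        (Groth.Agent.Helper1.SerreVan.isInvertible_twist N R' _)
    exact ⟨(Groth.Agent.Helper1.NegTw.invUniqueIso hA hA' e e' τ).symm⟩

end generic

section chart

variable (r : ℕ) {Y : Scheme.{u}} {V : Y.Opens} (hV : IsAffineOpen V)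

/-- the ring map `ℤ → Γ(Y, V)` -/
noncomputable abbrev φZ (V : Y.Opens) : ULift.{u} ℤ →+* Γ(Y, V) :=
  (Int.castRingHom Γ(Y, V)).comp (ULift.ringEquiv : ULift.{u} ℤ ≃+* ℤ).toRingHom

/-- the preimage of `V` in `P^r_Y` -/
noncomputable abbrev XV (V : Y.Opens) : (CohB1.ProjSpaceOver r Y).Opens :=
  CohB1.ProjSpaceOver.toBase r Y ⁻¹ᵁ V

theorem isPullback_chart :
    IsPullback ((XV r V).ι ≫ prZ r Y)
      ((CohB1.ProjSpaceOver.toBase r Y ∣_ V) ≫ hV.isoSpec.hom)
      (CohB1.ProjSpace.toSpec r (ULift.{u} ℤ))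
      (Spec.map (CommRingCat.ofHom (φZ V))) :=
  isPullback_affine r hV

/-- the isomorphism `p⁻¹V ≅ P^r_ℤ ×_ℤ Spec Γ(Y, V)` -/
noncomputable def wV : (XV r V : Scheme.{u}) ≅ QQ (φZ V) r :=
  (isPullback_chart r hV).isoPullback

theorem wV_q₁ : (wV r hV).hom ≫ q₁ (φZ V) r = (XV r V).ι ≫ prZ r Y :=
  (isPullback_chart r hV).isoPullback_hom_fst

theorem wV_q₂ : (wV r hV).hom ≫ q₂ (φZ V) r =
    (CohB1.ProjSpaceOver.toBase r Y ∣_ V) ≫ hV.isoSpec.hom :=
  (isPullback_chart r hV).isoPullback_hom_snd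

/-- the chart `p⁻¹V ⟶ P^r_{Γ(Y, V)}` -/
noncomputable def iV : (XV r V : Scheme.{u}) ⟶ CohB1.ProjSpace r Γ(Y, V) :=
  (wV r hV).hom ≫ ββ (φZ V) r

instance isClosedImmersion_iV : IsClosedImmersion (iV r hV) := by
  haveI := isClosedImmersion_ββ (φZ V) r
  exact IsClosedImmersion.comp _ (ββ (φZ V) r)

instance isAffineHom_iV : IsAffineHom (iV r hV) := inferInstance

theorem iV_γγ : iV r hV ≫ γγ (φZ V) r = (XV r V).ι ≫ prZ r Y :=
  calc iV r hV ≫ γγ (φZ V) r
      = (wV r hV).hom ≫ (ββ (φZ V) r ≫ γγ (φZ V) r) := Category.assoc _ _ _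
    _ = (wV r hV).hom ≫ q₁ (φZ V) r := congrArg _ (ββ_γγ (φZ V) r)
    _ = _ := wV_q₁ r hV

theorem iV_toSpec : iV r hV ≫ CohB1.ProjSpace.toSpec r Γ(Y, V) =
    (CohB1.ProjSpaceOver.toBase r Y ∣_ V) ≫ hV.isoSpec.hom :=
  calc iV r hV ≫ CohB1.ProjSpace.toSpec r Γ(Y, V)
      = (wV r hV).hom ≫ (ββ (φZ V) r ≫ Proj.toSpecZero (CohB1.polyGrading r Γ(Y, V)) ≫
          Spec.map (CommRingCat.ofHom (algebraMap Γ(Y, V) (CohB1.polyGrading r Γ(Y, V) 0)))) :=
        Category.assoc _ _ _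
    _ = (wV r hV).hom ≫ q₂ (φZ V) r := congrArg _ (ββ_toSpec (φZ V) r)
    _ = _ := wV_q₂ r hV

/-- **the chart is compatible with the twisting sheaves** -/
theorem nonempty_iV_twist_iso (d : ℤ) :
    Nonempty ((Scheme.Modules.pullback (iV r hV)).obj (Twist.twistProjSpace r Γ(Y, V) d) ≅
      (Twist.twistOver r Y d).restrict (XV r V).ι) := by
  obtain ⟨e⟩ := nonempty_pull_twist (φZ V) r (iV r hV) ((XV r V).ι ≫ prZ r Y) (iV_γγ r hV) d
  have iso1 : (Scheme.Modules.pullback ((XV r V).ι ≫ prZ r Y)).obj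
        (Twist.twistProjSpace r (ULift.{u} ℤ) d) ≅
      (Scheme.Modules.pullback (XV r V).ι).obj (Twist.twistOver r Y d) :=
    ((Scheme.Modules.pullbackComp (XV r V).ι (prZ r Y)).app
      (Twist.twistProjSpace r (ULift.{u} ℤ) d)).symm
  have iso2 : (Scheme.Modules.pullback (XV r V).ι).obj (Twist.twistOver r Y d) ≅
      (Twist.twistOver r Y d).restrict (XV r V).ι :=
    ((Scheme.Modules.restrictFunctorIsoPullback (XV r V).ι).app (Twist.twistOver r Y d)).symm
  exact ⟨e ≪≫ iso1 ≪≫ iso2⟩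

end chart

end Groth.Agent.Helper4.SN208
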