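import Mathlib
import Groth.Agent.Helper1.PSB2
import Groth.Agent.Helper1.KzLin3
import Groth.Agent.Helper1.ProjTop8
import Groth.Agent.Helper1.ProjBC8
import Groth.Agent.Helper3.ProjBC1
import Groth.Agent.Helper4.SN208

set_option autoImplicit false
set_option linter.unusedSectionVars false
set_option linter.style.haveILetI false

/-!
# SN213: global functions on `P^r_R` are the constants
-/

namespace Groth.Agent.Helper4.SN213

open CategoryTheory Limits AlgebraicGeometry TopologicalSpace Opposite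

universe u

/-- a ring map with a semilinear additive inverse-like equivalence is bijective -/
theorem bijective_of_semilinear_addEquiv {A B : Type*} [CommRing A] [Ring B] (φ : A →+* B)
    (ψ : B ≃+ A) (h : ∀ a b, ψ (φ a * b) = a * ψ b) : Function.Bijective φ := by
  set g : B := ψ.symm 1 with hg
  have hψg : ψ g = 1 := ψ.apply_symm_apply 1
  have star : ∀ b : B, b = φ (ψ b) * g := by
    intro b
    apply ψ.injective
    rw [h, hψg, mul_one]
  set a : A := ψ 1 with ha
  set c : A := ψ (g * g) with hc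
  have h1 : (1 : B) = φ a * g := star 1
  have h2 : g * g = φ c * g := star (g * g)
  have h3 : g = φ (a * c) * g := by
    calc g = 1 * g := (one_mul g).symm
      _ = φ a * g * g := by rw [← h1]
      _ = φ a * (g * g) := mul_assoc _ _ _
      _ = φ a * (φ c * g) := by rw [h2]
      _ = φ (a * c) * g := by rw [map_mul, mul_assoc]
  have h4 : a * c = 1 := by
    have := congrArg ψ h3
    rw [h, hψg, mul_one] at this
    exact this.symm
  have h5 : g = φ c := by
    calc g = φ (a * c) * g := h3
      _ = φ (c * a) * g := by rw [mul_comm]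
      _ = φ c * (φ a * g) := by rw [map_mul, mul_assoc]
      _ = φ c := by rw [← h1, mul_one]
  constructor
  · rw [injective_iff_map_eq_zero]
    intro x hx
    have h6 : ψ (φ x * 1) = x * a := h x 1
    rw [hx, zero_mul, map_zero] at h6
    calc x = x * (a * c) := by rw [h4, mul_one]
      _ = (x * a) * c := (mul_assoc _ _ _).symm
      _ = 0 := by rw [← h6, zero_mul]
  · intro b
    refine ⟨ψ b * c, ?_⟩
    rw [map_mul, ← h5]
    exact (star b).symm

section F1

variable (r : ℕ) (R : Type u) [CommRing R]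

/-- degree zero homogeneous polynomials are the constants -/
noncomputable def homogZeroEquiv (σ : Type*) :
    ↥(MvPolynomial.homogeneousSubmodule σ R 0) ≃ₗ[R] R :=
  (LinearEquiv.ofEq _ _ ((MvPolynomial.homogeneousSubmodule_zero (σ := σ) (R := R)).trans
      Submodule.one_eq_range)).trans
    (LinearEquiv.ofInjective (Algebra.linearMap R (MvPolynomial σ R))
      (MvPolynomial.C_injective σ R)).symm

/-- `H^0(P^r_R, O) ≃ R`, linearly -/
theorem nonempty_HH_structure_equiv :
    Nonempty (Coh.HH (CohB1.ProjSpace r R) (Coh.structureModule (CohB1.ProjSpace r R)) 0 ≃ₗ[R] R) := by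
  obtain ⟨e3⟩ := Groth.Agent.Helper1.ProjTop.nonempty_H0 r R 0
  obtain ⟨e0⟩ := Groth.Agent.Helper1.KzLin.tw_zero r R
  have e0' : Twist.twistProjSpace r R ((0 : ℕ) : ℤ) ≅ Coh.structureModule (CohB1.ProjSpace r R) := by
    rw [Nat.cast_zero]; exact e0
  exact ⟨((Groth.Agent.Helper1.ProjTop.HHlinEquiv R e0' 0).symm.trans e3).trans
    (homogZeroEquiv R (Fin (r + 1)))⟩

theorem resTop_top {X : Scheme.{u}} (c : Coh.Γtop X) : Coh.resTop X (op ⊤) c = c := by
  have h : (homOfLE (le_top (a := (op (⊤ : X.Opens)).unop))).op = 𝟙 (op (⊤ : X.Opens)) := rfl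
  show (X.ringCatSheaf.obj.map (homOfLE (le_top (a := (op (⊤ : X.Opens)).unop))).op).hom c = c
  rw [h, CategoryTheory.Functor.map_id]
  rfl

/-- the constants are the only global functions on `P^r_R` -/
theorem bijective_toGlobal :
    Function.Bijective (Coh.toGlobal (CohB1.ProjSpace.toSpec r R)) := by
  obtain ⟨e⟩ := nonempty_HH_structure_equiv r R
  let E := Sheaf.H.equiv₀ (Coh.toAb (Coh.structureModule (CohB1.ProjSpace r R)))
    (isTerminalTop (α := (CohB1.ProjSpace r R).Opens))
  let ψ : Coh.Γtop (CohB1.ProjSpace r R) ≃+ R := E.symm.trans e.toAddEquiv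
  apply bijective_of_semilinear_addEquiv _ ψ
  intro a b
  have h1 : E.symm (Coh.toGlobal (CohB1.ProjSpace.toSpec r R) a * b) = a • E.symm b := by
    have h2 := Sheaf.H.equiv₀_symm_naturality (isTerminalTop (α := (CohB1.ProjSpace r R).Opens))
      (Coh.smulAb (Coh.structureModule (CohB1.ProjSpace r R))
        (Coh.toGlobal (CohB1.ProjSpace.toSpec r R) a)) b
    refine Eq.trans ?_ h2.symm
    congr 1
  show e (E.symm (Coh.toGlobal (CohB1.ProjSpace.toSpec r R) a * b)) = a * e (E.symm b)
  rw [h1, map_smul, smul_eq_mul]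

end F1

section F2

open Groth.Agent.Helper1.ProjBC

variable {R R' : Type u} [CommRing R] [CommRing R'] (φ : R →+* R') (N : ℕ)

/-- `P^N_{R'}` is the base change of `P^N_R` -/
theorem isPullback_γγ :
    IsPullback (γγ φ N) (CohB1.ProjSpace.toSpec N R') (CohB1.ProjSpace.toSpec N R)
      (Spec.map (CommRingCat.ofHom φ)) := by
  letI : Algebra R R' := φ.toAlgebra
  letI : Algebra (MvPolynomial (Fin (N + 1)) R) (MvPolynomial (Fin (N + 1)) R') :=
    MvPolynomial.algebraMvPolynomial
  exact Groth.Agent.Helper3.ProjBC1.main (CohB1.polyGrading N R) (CohB1.polyGrading N R')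
    (polyMap φ N) (fun b => rfl) (hirr φ N)

instance isIso_ββ : IsIso (ββ φ N) := by
  have h := isPullback_γγ φ N
  have h1 : ββ φ N ≫ h.isoPullback.hom = 𝟙 _ := by
    apply pullback.hom_ext
    · refine (Category.assoc _ _ _).trans
        ((congrArg (fun t => ββ φ N ≫ t) h.isoPullback_hom_fst).trans ?_)
      exact (ββ_γγ φ N).trans (Category.id_comp _).symm
    · refine (Category.assoc _ _ _).trans
        ((congrArg (fun t => ββ φ N ≫ t) h.isoPullback_hom_snd).trans ?_)
      exact (ββ_toSpec φ N).trans (Category.id_comp _).symm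
  have h2 : ββ φ N = h.isoPullback.inv :=
    ((Iso.comp_inv_eq h.isoPullback).2 (h1.symm.trans rfl)).symm.trans (Category.id_comp _)
  rw [h2]
  infer_instance

end F2

section chart

open Groth.Agent.Helper4.SN208

/-- `R → Γ(P^r_R, O)` is an isomorphism -/
theorem isIso_appTop_toSpec (r : ℕ) (R : Type u) [CommRing R] :
    IsIso (CohB1.ProjSpace.toSpec r R).appTop := by
  have h := bijective_toGlobal r R
  rw [ConcreteCategory.isIso_iff_bijective]
  have h2 : Function.Bijective (Scheme.ΓSpecIso (CommRingCat.of R)).hom :=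
    ConcreteCategory.bijective_of_isIso (Scheme.ΓSpecIso (CommRingCat.of R)).hom
  have h3 : ∀ x, (CohB1.ProjSpace.toSpec r R).appTop x =
      Coh.toGlobal (CohB1.ProjSpace.toSpec r R) ((Scheme.ΓSpecIso (CommRingCat.of R)).hom x) := by
    intro x
    show _ = ((CohB1.ProjSpace.toSpec r R).appTop).hom
      ((Scheme.ΓSpecIso (CommRingCat.of R)).inv.hom ((Scheme.ΓSpecIso (CommRingCat.of R)).hom.hom x))
    have h4 : (Scheme.ΓSpecIso (CommRingCat.of R)).inv.hom
        ((Scheme.ΓSpecIso (CommRingCat.of R)).hom.hom x) = x := by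
      rw [← CommRingCat.comp_apply, Iso.hom_inv_id]
      rfl
    rw [h4]
  have h5 : ⇑(ConcreteCategory.hom (CohB1.ProjSpace.toSpec r R).appTop) =
      ⇑(Coh.toGlobal (CohB1.ProjSpace.toSpec r R)) ∘
        ⇑(ConcreteCategory.hom (Scheme.ΓSpecIso (CommRingCat.of R)).hom) := funext h3
  rw [h5]
  exact h.comp h2

variable (r : ℕ) {Y : Scheme.{u}} {V : Y.Opens} (hV : IsAffineOpen V)

instance isIso_iV : IsIso (iV r hV) := by
  unfold iV
  haveI := isIso_ββ (φZ V) r
  exact IsIso.comp_isIso' inferInstance (isIso_ββ (φZ V) r)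

include hV in
/-- **`Γ(V, O_V) → Γ(p⁻¹V, O)` is an isomorphism** -/
theorem isIso_appTop_restrict : IsIso (CohB1.ProjSpaceOver.toBase r Y ∣_ V).appTop := by
  have h1 := congrArg Scheme.Hom.appTop (iV_toSpec r hV)
  rw [Scheme.Hom.comp_appTop, Scheme.Hom.comp_appTop] at h1
  haveI := isIso_appTop_toSpec r Γ(Y, V)
  haveI : IsIso (iV r hV).appTop := inferInstanceAs (IsIso ((iV r hV).app ⊤))
  haveI : IsIso hV.isoSpec.hom.appTop := inferInstanceAs (IsIso (hV.isoSpec.hom.app ⊤))
  haveI : IsIso (hV.isoSpec.hom.appTop ≫ (CohB1.ProjSpaceOver.toBase r Y ∣_ V).appTop) := by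
    rw [← h1]
    infer_instance
  exact IsIso.of_isIso_comp_left hV.isoSpec.hom.appTop _

include hV in
/-- `Γ(Y, V) → Γ(P^r_Y, p⁻¹V)` is an isomorphism for `V` affine -/
theorem isIso_app_toBase : IsIso ((CohB1.ProjSpaceOver.toBase r Y).app V) := by
  have h0 := isIso_appTop_restrict r hV
  have h1 := morphismRestrict_appTop (CohB1.ProjSpaceOver.toBase r Y) V
  haveI : IsIso ((CohB1.ProjSpaceOver.toBase r Y).app (V.ι ''ᵁ ⊤) ≫
      (CohB1.ProjSpaceOver r Y).presheaf.map
        (eqToHom (image_morphismRestrict_preimage (CohB1.ProjSpaceOver.toBase r Y) V ⊤)).op) := by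
    rw [← h1]; exact h0
  haveI : IsIso ((CohB1.ProjSpaceOver.toBase r Y).app (V.ι ''ᵁ ⊤)) :=
    IsIso.of_isIso_comp_right _ ((CohB1.ProjSpaceOver r Y).presheaf.map
        (eqToHom (image_morphismRestrict_preimage (CohB1.ProjSpaceOver.toBase r Y) V ⊤)).op)
  have e : V = V.ι ''ᵁ ⊤ := by simp
  rw [Scheme.Hom.app_eq _ e]
  infer_instance

end chart

end Groth.Agent.Helper4.SN213
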