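import Mathlib

/-!
# Base change of graded pieces along a pushout of rings (algebra for S4406)

* `isBaseChange_of_families`: an elementwise criterion for `IsBaseChange`;
* `tmul_sum_eq_zero`: for `A = R ⊗[R'] B` with `B` graded over `R'`, a relation
  `∑ rⱼ • bⱼ = 0` in `A` with all `bⱼ` homogeneous of the same degree `i` comes from a relation in
  `R ⊗[R'] ℬ i`;
* `exists_family_of_mem`: homogeneous elements of degree `i` of `A` are `R`-combinations of images
  of homogeneous elements of degree `i` of `B`.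
-/

set_option autoImplicit false

namespace Groth.Agent.Helper4.SN273

open TensorProduct

section abstract

variable {S₀ T₀ N P R : Type*} [CommRing S₀] [CommRing T₀] [Algebra S₀ T₀]
  [AddCommGroup N] [Module S₀ N] [AddCommGroup P] [Module T₀ P] [Module S₀ P]
  [IsScalarTower S₀ T₀ P] (β : N →ₗ[S₀] P) (c : R → T₀)

/-- an elementwise criterion for `IsBaseChange` -/
theorem isBaseChange_of_families
    (H1 : ∀ t : T₀, ∃ (ι : Type) (_ : Fintype ι) (r : ι → R) (s : ι → S₀),
      t = ∑ j, c (r j) * algebraMap S₀ T₀ (s j))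
    (H2 : ∀ p : P, ∃ (ι : Type) (_ : Fintype ι) (r : ι → R) (n : ι → N),
      p = ∑ j, c (r j) • β (n j))
    (H3 : ∀ (ι : Type) [Fintype ι] (r : ι → R) (n : ι → N), ∑ j, c (r j) • β (n j) = 0 →
      ∑ j, c (r j) • ((1 : T₀) ⊗ₜ[S₀] n j) = 0) :
    IsBaseChange T₀ β := by
  classical
  -- normal form of elements of the tensor product
  have hform : ∀ x : T₀ ⊗[S₀] N, ∃ (ι : Type) (_ : Fintype ι) (r : ι → R) (n : ι → N),
      x = ∑ j, c (r j) • ((1 : T₀) ⊗ₜ[S₀] n j) := by
    intro x
    induction x using TensorProduct.induction_on with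
    | zero => exact ⟨PEmpty, inferInstance, PEmpty.elim, PEmpty.elim, by simp⟩
    | tmul t n =>
      obtain ⟨ι, hι, r, s, rfl⟩ := H1 t
      refine ⟨ι, hι, r, fun j => s j • n, ?_⟩
      rw [TensorProduct.sum_tmul]
      refine Finset.sum_congr rfl fun j _ => ?_
      rw [← TensorProduct.smul_tmul, TensorProduct.smul_tmul', smul_eq_mul, Algebra.smul_def,
        mul_one]
    | add x y hx hy =>
      obtain ⟨ι, hι, r, n, rfl⟩ := hx
      obtain ⟨ι', hι', r', n', rfl⟩ := hy
      refine ⟨ι ⊕ ι', inferInstance, Sum.elim r r', Sum.elim n n', ?_⟩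
      rw [Fintype.sum_sum_type]
      simp
  let μ : T₀ ⊗[S₀] N →ₗ[T₀] P := LinearMap.liftBaseChange T₀ β
  have hμ : ∀ (t : T₀) (n : N), μ (t ⊗ₜ n) = t • β n := fun t n => by
    simp [μ]
  refine IsBaseChange.of_equiv (LinearEquiv.ofBijective μ ⟨?_, ?_⟩) (fun n => ?_)
  · rw [injective_iff_map_eq_zero]
    intro x hx
    obtain ⟨ι, hι, r, n, rfl⟩ := hform x
    apply H3
    rw [← hx, map_sum]
    refine Finset.sum_congr rfl fun j _ => ?_
    rw [map_smul, hμ, one_smul]
  · intro p
    obtain ⟨ι, hι, r, n, rfl⟩ := H2 p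
    refine ⟨∑ j, c (r j) ⊗ₜ[S₀] n j, ?_⟩
    rw [map_sum]
    refine Finset.sum_congr rfl fun j _ => ?_
    rw [hμ]
  · change μ (1 ⊗ₜ n) = β n
    rw [hμ, one_smul]

/-- the additive map `r ⊗ b ↦ c r • (1 ⊗ frac b)` between tensor products over different rings -/
theorem exists_tensor_addHom {S₀ T₀ N R' R E : Type*} [CommRing S₀] [CommRing T₀] [Algebra S₀ T₀]
    [AddCommGroup N] [Module S₀ N] [CommRing R'] [CommRing R] [Algebra R' R] [AddCommGroup E]
    [Module R' E] (cR : R →+* T₀) (cR' : R' →+* S₀)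
    (hc : ∀ r', algebraMap S₀ T₀ (cR' r') = cR (algebraMap R' R r'))
    (frac : E →+ N) (hfrac : ∀ (r' : R') (b : E), frac (r' • b) = cR' r' • frac b) :
    ∃ Ψ : R ⊗[R'] E →+ T₀ ⊗[S₀] N, ∀ r b, Ψ (r ⊗ₜ b) = cR r • ((1 : T₀) ⊗ₜ[S₀] frac b) := by
  let f : R →+ E →+ T₀ ⊗[S₀] N :=
    AddMonoidHom.mk' (fun r => AddMonoidHom.mk' (fun b => cR r • ((1 : T₀) ⊗ₜ[S₀] frac b))
      (fun b b' => by rw [map_add, TensorProduct.tmul_add, smul_add]))
      (fun r r' => by
        ext b
        simp only [AddMonoidHom.mk'_apply, AddMonoidHom.add_apply, map_add, add_smul])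
  refine ⟨TensorProduct.liftAddHom f ?_, fun r b => rfl⟩
  intro r' r b
  change cR (r' • r) • ((1 : T₀) ⊗ₜ[S₀] frac b) = cR r • ((1 : T₀) ⊗ₜ[S₀] frac (r' • b))
  rw [hfrac, ← TensorProduct.smul_tmul, Algebra.smul_def (cR' r') (1 : T₀), mul_one, hc,
    Algebra.smul_def r' r, map_mul, mul_smul, TensorProduct.smul_tmul', TensorProduct.smul_tmul',
    TensorProduct.smul_tmul', smul_eq_mul, smul_eq_mul, smul_eq_mul, mul_one, mul_comm]

end abstract

section pushout

variable {R' R B A : Type*} [CommRing R'] [CommRing R] [Algebra R' R] [CommRing B] [Algebra R' B]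
  [CommRing A] [Algebra R A] [Algebra R' A] [IsScalarTower R' R A] [Algebra B A]
  [IsScalarTower R' B A] [Algebra.IsPushout R' R B A]
  (ℬ : ℕ → Submodule R' B) [GradedAlgebra ℬ]

/-- the retraction of `B` onto its component of degree `i` -/
noncomputable def proj (i : ℕ) : B →ₗ[R'] ℬ i :=
  (DirectSum.component R' ℕ (fun i => ℬ i) i).comp
    (DirectSum.decomposeLinearEquiv ℬ).toLinearMap

lemma proj_apply (i : ℕ) (b : B) : proj ℬ i b = DirectSum.decompose ℬ b i := rfl

lemma proj_comp_subtype (i : ℕ) : (proj ℬ i).comp (ℬ i).subtype = LinearMap.id := by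
  ext b
  simp only [LinearMap.comp_apply, Submodule.subtype_apply, LinearMap.id_apply, proj_apply]
  rw [DirectSum.decompose_coe, DirectSum.of_eq_same]

/-- a relation in `A` between homogeneous elements of degree `i` of `B` comes from a relation in
`R ⊗[R'] ℬ i` -/
theorem tmul_sum_eq_zero (i : ℕ) {ι : Type*} [Fintype ι] (r : ι → R) (b : ι → ℬ i)
    (h : ∑ j, r j • algebraMap B A (b j : B) = 0) :
    ∑ j, r j ⊗ₜ[R'] b j = (0 : R ⊗[R'] ℬ i) := by
  have h1 : (LinearMap.lTensor R (proj ℬ i)).comp (LinearMap.lTensor R (ℬ i).subtype) =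
      LinearMap.id := by
    rw [← LinearMap.lTensor_comp, proj_comp_subtype, LinearMap.lTensor_id]
  have h2 : LinearMap.lTensor R (ℬ i).subtype (∑ j, r j ⊗ₜ[R'] b j) = 0 := by
    apply (Algebra.IsPushout.equiv R' R B A).injective
    rw [map_zero, map_sum, map_sum, ← h]
    refine Finset.sum_congr rfl fun j _ => ?_
    rw [LinearMap.lTensor_tmul, Submodule.subtype_apply, Algebra.IsPushout.equiv_tmul,
      Algebra.smul_def]
  have h3 := congrArg (LinearMap.lTensor R (proj ℬ i)) h2
  rw [map_zero, ← LinearMap.comp_apply, h1] at h3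
  exact h3

variable (𝒜 : ℕ → Submodule R A) [GradedAlgebra 𝒜]
  (hmem : ∀ (i : ℕ) (b : B), b ∈ ℬ i → algebraMap B A b ∈ 𝒜 i)

include hmem in
/-- homogeneous elements of `A` are combinations of images of homogeneous elements of `B` of the
same degree -/
theorem exists_family_of_mem (i : ℕ) (a : A) (ha : a ∈ 𝒜 i) :
    ∃ (ι : Type) (_ : Fintype ι) (r : ι → R) (b : ι → ℬ i),
      a = ∑ j, r j • algebraMap B A (b j : B) := by
  classical
  -- first without homogeneity
  have h0 : ∀ x : R ⊗[R'] B, ∃ (ι : Type) (_ : Fintype ι) (r : ι → R) (b : ι → B),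
      Algebra.IsPushout.equiv R' R B A x = ∑ j, r j • algebraMap B A (b j) := by
    intro x
    induction x using TensorProduct.induction_on with
    | zero => exact ⟨PEmpty, inferInstance, PEmpty.elim, PEmpty.elim, by simp⟩
    | tmul r b =>
      refine ⟨PUnit, inferInstance, fun _ => r, fun _ => b, ?_⟩
      simp [Algebra.IsPushout.equiv_tmul, Algebra.smul_def]
    | add x y hx hy =>
      obtain ⟨ι, hι, r, b, h1⟩ := hx
      obtain ⟨ι', hι', r', b', h2⟩ := hy
      refine ⟨ι ⊕ ι', inferInstance, Sum.elim r r', Sum.elim b b', ?_⟩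
      rw [map_add, h1, h2, Fintype.sum_sum_type]
      simp
  obtain ⟨ι, hι, r, b, hb⟩ := h0 ((Algebra.IsPushout.equiv R' R B A).symm a)
  rw [AlgEquiv.apply_symm_apply] at hb
  refine ⟨ι, hι, r, fun j => DirectSum.decompose ℬ (b j) i, ?_⟩
  -- take the component of degree `i`
  have key : ∀ (r : R) (b : B), ((DirectSum.decompose 𝒜 (r • algebraMap B A b) i : 𝒜 i) : A) =
      r • algebraMap B A (DirectSum.decompose ℬ b i : B) := by
    intro r b
    conv_lhs => rw [← DirectSum.sum_support_decompose ℬ b]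
    rw [map_sum, Finset.smul_sum, DirectSum.decompose_sum, DFinsupp.finsetSum_apply,
      AddSubmonoidClass.coe_finsetSum]
    have hm : ∀ k : ℕ, r • algebraMap B A (DirectSum.decompose ℬ b k : B) ∈ 𝒜 k := fun k =>
      Submodule.smul_mem _ _ (hmem k _ (DirectSum.decompose ℬ b k).2)
    by_cases hi : i ∈ DFinsupp.support (DirectSum.decompose ℬ b)
    · rw [Finset.sum_eq_single_of_mem i hi]
      · exact DirectSum.decompose_of_mem_same 𝒜 (hm i)
      · intro k _ hk
        exact DirectSum.decompose_of_mem_ne 𝒜 (hm k) hk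
    · rw [Finset.sum_eq_zero]
      · rw [DFinsupp.notMem_support_iff] at hi
        rw [hi]
        simp
      · intro k hk
        exact DirectSum.decompose_of_mem_ne 𝒜 (hm k) (fun h => hi (h ▸ hk))
  conv_lhs => rw [← DirectSum.decompose_of_mem_same 𝒜 ha, hb]
  rw [DirectSum.decompose_sum, DFinsupp.finsetSum_apply, AddSubmonoidClass.coe_finsetSum]
  exact Finset.sum_congr rfl fun j _ => key (r j) (b j)

end pushout

end Groth.Agent.Helper4.SN273
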