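import Mathlib
import Groth.Prelude.Def_RelProj3
import Groth.Agent.Helper1.GM9
import Groth.Agent.Helper1.GM11

/-!
# Sections of `M(n)~` over `D₊(g)` as fractions with numerator and power of `g` (calculus)
-/

set_option autoImplicit false
set_option linter.unusedSectionVars false
set_option linter.style.haveILetI false

namespace Groth.Agent.Helper4.SN274

open CategoryTheory AlgebraicGeometry TopologicalSpace Opposite
open Groth.Agent.Helper1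
open scoped HomogeneousIdeal

universe u

section single

variable {A σ : Type u} [CommRing A] [SetLike σ A] [AddSubgroupClass σ A] {𝒜 : ℕ → σ} [GradedRing 𝒜]
variable {M τ : Type u} [AddCommGroup M] [Module A M] [SetLike τ M] [AddSubgroupClass τ M]
  {ℳ : ℕ → τ} [SetLike.GradedSMul 𝒜 ℳ] [DirectSum.Decomposition ℳ]
variable {g : A} {n : ℤ}

/-- the section `s` over `D₊(g)` is the fraction `m / g ^ k` -/
def HasNum (s : Γ(GrMod.tilde 𝒜 ℳ n, Proj.basicOpen 𝒜 g)) (k : ℕ) (m : M) : Prop :=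
  ∀ y : (Proj.basicOpen 𝒜 g : (Proj 𝒜).Opens), g ^ k • GrMod.val s y = GMS.ι₁ y.1 m

lemma pow_notMem (y : (Proj.basicOpen 𝒜 g : (Proj 𝒜).Opens)) (k : ℕ) :
    g ^ k ∉ y.1.asHomogeneousIdeal :=
  GMH.pow_notMem' ((ProjectiveSpectrum.mem_basicOpen 𝒜 g y.1).1 y.2) k

lemma pow_mem_deg {e : ℕ} (hg : g ∈ 𝒜 e) (k : ℕ) : g ^ k ∈ 𝒜 (k * e) := by
  have := SetLike.pow_mem_graded k hg
  simpa [smul_eq_mul] using this

lemma exists_hasNum {e : ℕ} (he : 0 < e) (hg : g ∈ 𝒜 e)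
    (s : Γ(GrMod.tilde 𝒜 ℳ n, Proj.basicOpen 𝒜 g)) :
    ∃ (k i : ℕ) (m : M), m ∈ ℳ i ∧ (i : ℤ) = k * e + n ∧ HasNum s k m := by
  obtain ⟨k, i, m, hm, hi, h⟩ := GMS.exists_global_frac 𝒜 ℳ n he g hg s
  exact ⟨k, i, m, hm, hi, fun y => h y.1 y.2⟩

lemma HasNum.ext {s t : Γ(GrMod.tilde 𝒜 ℳ n, Proj.basicOpen 𝒜 g)} {k : ℕ} {m : M}
    (hs : HasNum s k m) (ht : HasNum t k m) : s = t := by
  apply GM.sect_ext
  intro y
  apply GMS.smul_injective y.1 (pow_notMem y k)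
  change g ^ k • GrMod.val s y = g ^ k • GrMod.val t y
  rw [hs y, ht y]

lemma HasNum.mul_pow {s : Γ(GrMod.tilde 𝒜 ℳ n, Proj.basicOpen 𝒜 g)} {k : ℕ} {m : M}
    (hs : HasNum s k m) (l : ℕ) : HasNum s (l + k) (g ^ l • m) := by
  intro y
  rw [pow_add, mul_smul, hs y]
  exact (GMS.ι₁_smul y.1 _ m).symm

lemma hasNum_zero (k : ℕ) :
    HasNum (0 : Γ(GrMod.tilde 𝒜 ℳ n, Proj.basicOpen 𝒜 g)) k (0 : M) := by
  intro y
  rw [GM.val_zero, smul_zero]
  exact (GMS.ι₁_zero y.1).symm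

lemma HasNum.add {s t : Γ(GrMod.tilde 𝒜 ℳ n, Proj.basicOpen 𝒜 g)} {k : ℕ} {m m' : M}
    (hs : HasNum s k m) (ht : HasNum t k m') : HasNum (s + t) k (m + m') := by
  intro y
  rw [GM.val_add, smul_add, hs y, ht y]
  exact (GMS.ι₁_add y.1 m m').symm

lemma hasNum_sum {ι : Type*} (J : Finset ι) (s : ι → Γ(GrMod.tilde 𝒜 ℳ n, Proj.basicOpen 𝒜 g))
    (k : ℕ) (m : ι → M) (h : ∀ j ∈ J, HasNum (s j) k (m j)) :
    HasNum (∑ j ∈ J, s j) k (∑ j ∈ J, m j) := by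
  classical
  induction J using Finset.induction_on with
  | empty => simpa using hasNum_zero k
  | insert a J ha ih =>
    rw [Finset.sum_insert ha, Finset.sum_insert ha]
    exact (h a (Finset.mem_insert_self a J)).add
      (ih fun j hj => h j (Finset.mem_insert_of_mem hj))

lemma hasNum_fracSect {e : ℕ} (hg : g ∈ 𝒜 e) (k i : ℕ) (m : M) (hm : m ∈ ℳ i)
    (hi : (i : ℤ) = (k * e : ℕ) + n) :
    HasNum (GM.fracSect n m hm (g ^ k) (pow_mem_deg hg k) hi (Proj.basicOpen 𝒜 g)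
      (fun z hz => pow_notMem ⟨z, hz⟩ k)) k m := by
  intro y
  rw [GM.val_fracSect]
  exact (GMS.eq_mk_iff y.1 _ m (pow_notMem y k)).1 rfl

/-- a fraction that vanishes has numerator killed by a power of `g` -/
lemma HasNum.exists_pow_smul_eq_zero {e : ℕ} (he : 0 < e) (hg : g ∈ 𝒜 e) {k i : ℕ} {m : M}
    (hm : m ∈ ℳ i)
    (hs : HasNum (0 : Γ(GrMod.tilde 𝒜 ℳ n, Proj.basicOpen 𝒜 g)) k m) :
    ∃ N : ℕ, g ^ N • m = 0 := by
  apply GMS.exists_pow_smul_eq_zero 𝒜 ℳ he g hg m hm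
  intro x hx
  have := hs ⟨x, (ProjectiveSpectrum.mem_basicOpen 𝒜 g x).2 hx⟩
  rw [GM.val_zero, smul_zero] at this
  exact this.symm

/-- multiplication by the function `a / g ^ l` -/
lemma HasNum.awaySec_smul {e : ℕ} (hg : g ∈ 𝒜 e) {s : Γ(GrMod.tilde 𝒜 ℳ n, Proj.basicOpen 𝒜 g)}
    {k : ℕ} {m : M} (hs : HasNum s k m) (l : ℕ) (a : A) (ha : a ∈ 𝒜 (l • e)) :
    HasNum (GMF.awaySec 𝒜 hg l a • s) (l + k) (a • m) := by
  intro y
  rw [GM.val_smul, GMF.val_awaySec 𝒜 hg l a ha y]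
  have h1 : GrMod.val s y = LocalizedModule.mk m ⟨g ^ k, pow_notMem y k⟩ :=
    (GMS.eq_mk_iff y.1 _ m (pow_notMem y k)).2 (hs y)
  rw [h1]
  refine ((GMS.eq_mk_iff y.1 _ (a • m) (pow_notMem y (l + k))).1 ?_)
  refine (LocalizedModule.mk_smul_mk _ _ _ _).trans ?_
  congr 1
  exact Subtype.ext (pow_add g l k).symm

end single

end Groth.Agent.Helper4.SN274
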