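import Mathlib
import Groth.Prelude.Def_RelProj3
import Groth.Agent.Helper1.GM9
import Groth.Agent.Helper1.GM11

set_option autoImplicit false
set_option linter.unusedSectionVars false
set_option linter.style.haveILetI false

namespace Groth.Agent.Helper4.SN274

open CategoryTheory AlgebraicGeometry TopologicalSpace Opposite HomogeneousLocalization
open Groth.Agent.Helper1
open scoped HomogeneousIdeal

universe u

section single

variable {A σ : Type u} [CommRing A] [SetLike σ A] [AddSubgroupClass σ A] {𝒜 : ℕ → σ} [GradedRing 𝒜]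
variable {g : A}

lemma awaySec_eq {e : ℕ} (hg : g ∈ 𝒜 e) (l : ℕ) (a : A) (ha : a ∈ 𝒜 (l • e)) :
    GMF.awaySec 𝒜 hg l a = (Proj.awayToSection 𝒜 g).hom (Away.mk 𝒜 hg l a ha) := by
  unfold GMF.awaySec
  rw [dif_pos ha]

/-- every function on `D₊(g)` is of the form `a / g ^ l` -/
lemma exists_eq_awaySec {e : ℕ} (he : 0 < e) (hg : g ∈ 𝒜 e)
    (t : Γ(Proj 𝒜, Proj.basicOpen 𝒜 g)) :
    ∃ (l : ℕ) (a : A), a ∈ 𝒜 (l • e) ∧ t = GMF.awaySec 𝒜 hg l a := by
  obtain ⟨x, rfl⟩ : ∃ x : Away 𝒜 g, (Proj.awayToSection 𝒜 g).hom x = t := by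
    have := (ConcreteCategory.bijective_of_isIso (Proj.basicOpenIsoAway 𝒜 g hg he).hom).2 t
    obtain ⟨x, hx⟩ := this
    exact ⟨x, hx⟩
  obtain ⟨l, a, ha, rfl⟩ := Away.mk_surjective 𝒜 hg x
  exact ⟨l, a, ha, (awaySec_eq hg l a ha).symm⟩

/-- constant functions on `D₊(g)` -/
noncomputable def cst (g : A) : 𝒜 0 →+* Γ(Proj 𝒜, Proj.basicOpen 𝒜 g) :=
  (Proj.awayToSection 𝒜 g).hom.comp (fromZeroRingHom 𝒜 (Submonoid.powers g))

lemma cst_eq_awaySec {e : ℕ} (hg : g ∈ 𝒜 e) (a : 𝒜 0) :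
    cst g a = GMF.awaySec 𝒜 hg 0 (a : A) := by
  have ha : (a : A) ∈ 𝒜 (0 • e) := by
    rw [zero_smul]
    exact a.2
  rw [awaySec_eq hg 0 _ ha]
  change (Proj.awayToSection 𝒜 g).hom (fromZeroRingHom 𝒜 (Submonoid.powers g) a) = _
  congr 1
  apply HomogeneousLocalization.val_injective
  rw [Away.val_mk]
  change Localization.mk (a : A) _ = _
  congr 1
  exact Subtype.ext (pow_zero g).symm

lemma awaySec_sum {e : ℕ} (hg : g ∈ 𝒜 e) (l : ℕ) {ι : Type*} [Fintype ι] (a₀ : ι → 𝒜 0)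
    (a : ι → A) (ha : ∀ j, a j ∈ 𝒜 (l • e)) :
    GMF.awaySec 𝒜 hg l (∑ j, (a₀ j : A) * a j) =
      ∑ j, cst g (a₀ j) * GMF.awaySec 𝒜 hg l (a j) := by
  have hmem : ∀ j, (a₀ j : A) * a j ∈ 𝒜 (l • e) := fun j => by
    have := SetLike.mul_mem_graded (a₀ j).2 (ha j)
    rwa [zero_add] at this
  have hsum : ∑ j, (a₀ j : A) * a j ∈ 𝒜 (l • e) := sum_mem fun j _ => hmem j
  rw [awaySec_eq hg l _ hsum]
  have h1 : ∀ j, cst g (a₀ j) * GMF.awaySec 𝒜 hg l (a j) =
      (Proj.awayToSection 𝒜 g).hom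
        (fromZeroRingHom 𝒜 (Submonoid.powers g) (a₀ j) * Away.mk 𝒜 hg l (a j) (ha j)) := by
    intro j
    rw [awaySec_eq hg l _ (ha j), map_mul]
    rfl
  simp_rw [h1]
  rw [← map_sum]
  congr 1
  apply HomogeneousLocalization.val_injective
  rw [Away.val_mk, ← HomogeneousLocalization.algebraMap_apply, map_sum, Localization.mk_sum]
  refine Finset.sum_congr rfl fun j _ => ?_
  rw [HomogeneousLocalization.algebraMap_apply, HomogeneousLocalization.val_mul, Away.val_mk]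
  change _ = Localization.mk (a₀ j : A) 1 * _
  rw [Localization.mk_mul, one_mul]

end single

end Groth.Agent.Helper4.SN274
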