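import Mathlib
import Groth.Prelude.Def_RelProj3
import Groth.Agent.Helper1.GM9
import Groth.Agent.Helper1.GM11
import Groth.Agent.Helper4.SN274a
import Groth.Agent.Helper4.SN274b

set_option autoImplicit false
set_option linter.unusedSectionVars false
set_option linter.style.haveILetI false

namespace Groth.Agent.Helper4.SN274

open CategoryTheory AlgebraicGeometry TopologicalSpace Opposite HomogeneousLocalization
open Groth.Agent.Helper1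
open scoped HomogeneousIdeal

universe u

section two

variable {A σ : Type u} [CommRing A] [SetLike σ A] [AddSubgroupClass σ A] {𝒜 : ℕ → σ} [GradedRing 𝒜]
variable {M τ : Type u} [AddCommGroup M] [Module A M] [SetLike τ M] [AddSubgroupClass τ M]
  (ℳ : ℕ → τ) [SetLike.GradedSMul 𝒜 ℳ] [DirectSum.Decomposition ℳ]
variable {B σ' : Type u} [CommRing B] [SetLike σ' B] [AddSubgroupClass σ' B] {ℬ : ℕ → σ'}
  [GradedRing ℬ]
variable {N τ' : Type u} [AddCommGroup N] [Module B N] [SetLike τ' N] [AddSubgroupClass τ' N]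
  (𝒩 : ℕ → τ') [SetLike.GradedSMul ℬ 𝒩] [DirectSum.Decomposition 𝒩]
variable (ψ : 𝒜 →+*ᵍ ℬ) (hψ : ℬ₊ ≤ (𝒜₊).map ψ) (v : M →ₛₗ[ψ.toRingHom] N)
  (hv : ∀ (i : ℕ) (m : M), m ∈ ℳ i → v m ∈ 𝒩 i)
variable {f : A} {n : ℤ}

/-- the image of a fraction `m / f ^ k` is `v m / (ψ f) ^ k` -/
lemma HasNum.secMap {s : Γ(GrMod.tilde 𝒜 ℳ n, Proj.basicOpen 𝒜 f)} {k : ℕ} {m : M}
    (hs : HasNum s k m) : HasNum (GMH.secMap ℳ 𝒩 ψ hψ v hv n s) k (v m) := by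
  intro y
  rw [GMH.val_secMap]
  set x : (Proj.basicOpen 𝒜 f : (Proj 𝒜).Opens) :=
    ⟨ProjectiveSpectrum.comap ψ hψ y.1, GMH.basicOpen_le ψ hψ y.2⟩ with hx
  have h1 : GrMod.val s x = LocalizedModule.mk m ⟨f ^ k, pow_notMem x k⟩ :=
    (GMS.eq_mk_iff x.1 _ m (pow_notMem x k)).2 (hs x)
  rw [h1, GrMod.locModMap_mk]
  refine (GMS.eq_mk_iff y.1 _ (v m) (pow_notMem y k)).1 ?_
  congr 1
  exact Subtype.ext (map_pow ψ f k)

/-- compatibility of `awaySec` with the map on functions -/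
lemma appLE_awaySec {e : ℕ} (hf : f ∈ 𝒜 e) (l : ℕ) (a : A) (ha : a ∈ 𝒜 (l • e)) :
    ((Proj.map ψ hψ).appLE (Proj.basicOpen 𝒜 f) (Proj.basicOpen ℬ (ψ f))
      (GMH.basicOpen_le ψ hψ)).hom (GMF.awaySec 𝒜 hf l a) =
      GMF.awaySec ℬ (ψ.map_mem hf) l (ψ a) := by
  rw [awaySec_eq hf l a ha, awaySec_eq (ψ.map_mem hf) l (ψ a) (ψ.map_mem ha)]
  have h := Proj.awayToSection_comp_appLE ψ hψ hf
  have h2 := congrArg (fun q => q.hom (Away.mk 𝒜 hf l a ha)) h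
  simp only [CommRingCat.hom_comp, RingHom.comp_apply, CommRingCat.hom_ofHom,
    Away.map_mk] at h2
  exact h2

lemma appLE_cst {e : ℕ} (hf : f ∈ 𝒜 e) (a : 𝒜 0) :
    ((Proj.map ψ hψ).appLE (Proj.basicOpen 𝒜 f) (Proj.basicOpen ℬ (ψ f))
      (GMH.basicOpen_le ψ hψ)).hom (cst f a) =
      cst (ψ f) (⟨ψ (a : A), ψ.map_mem a.2⟩ : ℬ 0) := by
  rw [cst_eq_awaySec hf]
  refine (appLE_awaySec ψ hψ hf 0 (a : A) (by rw [zero_smul]; exact a.2)).trans ?_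
  exact (cst_eq_awaySec (ψ.map_mem hf) ⟨ψ (a : A), ψ.map_mem a.2⟩).symm

/-- the map on sections is semilinear -/
lemma secMap_smul {e : ℕ} (he : 0 < e) (hf : f ∈ 𝒜 e) (t : Γ(Proj 𝒜, Proj.basicOpen 𝒜 f))
    (s : Γ(GrMod.tilde 𝒜 ℳ n, Proj.basicOpen 𝒜 f)) :
    GMH.secMap ℳ 𝒩 ψ hψ v hv n (t • s) =
      ((Proj.map ψ hψ).appLE (Proj.basicOpen 𝒜 f) (Proj.basicOpen ℬ (ψ f))
        (GMH.basicOpen_le ψ hψ)).hom t • GMH.secMap ℳ 𝒩 ψ hψ v hv n s := by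
  obtain ⟨l, a, ha, rfl⟩ := exists_eq_awaySec he hf t
  obtain ⟨k, i, m, hm, hi, hs⟩ := exists_hasNum (ℳ := ℳ) he hf s
  rw [appLE_awaySec ψ hψ hf l a ha]
  have h1 := (hs.awaySec_smul hf l a ha).secMap ℳ 𝒩 ψ hψ v hv
  have h2 := (hs.secMap ℳ 𝒩 ψ hψ v hv).awaySec_smul (ψ.map_mem hf) l (ψ a) (ψ.map_mem ha)
  have h3 : v (a • m) = ψ a • v m := by
    rw [LinearMap.map_smulₛₗ]
    rfl
  rw [h3] at h1
  exact h1.ext h2

lemma secMap_add (s t : Γ(GrMod.tilde 𝒜 ℳ n, Proj.basicOpen 𝒜 f)) :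
    GMH.secMap ℳ 𝒩 ψ hψ v hv n (s + t) =
      GMH.secMap ℳ 𝒩 ψ hψ v hv n s + GMH.secMap ℳ 𝒩 ψ hψ v hv n t := by
  apply GM.sect_ext
  intro y
  rw [GMH.val_secMap, GM.val_add, GM.val_add, map_add, GMH.val_secMap, GMH.val_secMap]

end two

end Groth.Agent.Helper4.SN274
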