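import Mathlib
import Groth.Prelude.Def_RelProj3
import Groth.Agent.Helper1.GM9
import Groth.Agent.Helper1.GM11
import Groth.Agent.Helper4.SN273
import Groth.Agent.Helper4.SN274c

/-!
# Base change of `O(n)` on `Proj` along a base change of graded algebras: sections over `D₊(g)`
-/

set_option autoImplicit false
set_option linter.unusedSectionVars false
set_option linter.style.haveILetI false

namespace Groth.Agent.Helper4.SN274

open CategoryTheory AlgebraicGeometry TopologicalSpace Opposite HomogeneousLocalization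
open Groth.Agent.Helper1 TensorProduct
open scoped HomogeneousIdeal

universe u

section common

variable {A σ : Type u} [CommRing A] [SetLike σ A] [AddSubgroupClass σ A] {𝒜 : ℕ → σ} [GradedRing 𝒜]
variable {M τ : Type u} [AddCommGroup M] [Module A M] [SetLike τ M] [AddSubgroupClass τ M]
  {ℳ : ℕ → τ} [SetLike.GradedSMul 𝒜 ℳ] [DirectSum.Decomposition ℳ]
variable {g : A} {n : ℤ}

/-- finitely many sections over `D₊(g)` have a common denominator -/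
lemma exists_common_hasNum {e : ℕ} (he : 0 < e) (hg : g ∈ 𝒜 e) {ι : Type*} [Fintype ι]
    (s : ι → Γ(GrMod.tilde 𝒜 ℳ n, Proj.basicOpen 𝒜 g)) :
    ∃ (K i₀ : ℕ), (i₀ : ℤ) = ((K * e : ℕ) : ℤ) + n ∧ ∀ j, ∃ m ∈ ℳ i₀, HasNum (s j) K m := by
  classical
  choose k i m hm hi hs using fun j => exists_hasNum (ℳ := ℳ) he hg (s j)
  set K := ∑ j, k j + n.natAbs with hK
  have hnn : 0 ≤ ((K * e : ℕ) : ℤ) + n := by
    have h1 : n.natAbs ≤ K := Nat.le_add_left _ _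
    have h2 : K ≤ K * e := Nat.le_mul_of_pos_right _ he
    have h3 : (n.natAbs : ℤ) ≤ ((K * e : ℕ) : ℤ) := by exact_mod_cast h1.trans h2
    omega
  refine ⟨K, (((K * e : ℕ) : ℤ) + n).toNat, (Int.toNat_of_nonneg hnn), fun j => ?_⟩
  have hkj : k j ≤ K :=
    (Finset.single_le_sum (f := k) (fun _ _ => Nat.zero_le _) (Finset.mem_univ j)).trans
      (Nat.le_add_right _ _)
  refine ⟨g ^ (K - k j) • m j, ?_, ?_⟩
  · have h1 : g ^ (K - k j) • m j ∈ ℳ ((K - k j) * e + i j) :=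
      SetLike.GradedSMul.smul_mem (pow_mem_deg hg (K - k j)) (hm j)
    have h2 : (K - k j) * e + i j = (((K * e : ℕ) : ℤ) + n).toNat := by
      have h3 : (((K - k j) * e + i j : ℕ) : ℤ) = ((K * e : ℕ) : ℤ) + n := by
        push_cast [Nat.cast_sub hkj]
        rw [hi j]
        ring
      omega
    rw [← h2]
    exact h1
  · have := (hs j).mul_pow (K - k j)
    rwa [Nat.sub_add_cancel hkj] at this

end common

section alg

variable {R A : Type u} [CommRing R] [CommRing A] [Algebra R A] (𝒜 : ℕ → Submodule R A)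
  [GradedAlgebra 𝒜]

/-- constant functions on `D₊(g)` coming from the base ring -/
noncomputable def cR (g : A) : R →+* Γ(Proj 𝒜, Proj.basicOpen 𝒜 g) :=
  (cst (𝒜 := 𝒜) g).comp (algebraMap R (𝒜 0))

variable {𝒜} in
lemma HasNum.cR_smul {g : A} {e : ℕ} (hg : g ∈ 𝒜 e) {n : ℤ}
    {s : Γ(GrMod.tilde 𝒜 𝒜 n, Proj.basicOpen 𝒜 g)} {k : ℕ} {m : A} (hs : HasNum s k m) (r : R) :
    HasNum (cR 𝒜 g r • s) k (r • m) := by
  have h0 : algebraMap R A r ∈ 𝒜 (0 • e) := by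
    rw [zero_smul]
    exact SetLike.algebraMap_mem_graded 𝒜 r
  have h1 := hs.awaySec_smul hg 0 (algebraMap R A r) h0
  rw [zero_add] at h1
  have h2 : cR 𝒜 g r = GMF.awaySec 𝒜 hg 0 (algebraMap R A r) :=
    cst_eq_awaySec hg (algebraMap R (𝒜 0) r)
  have h3 : algebraMap R A r • m = r • m := by
    rw [smul_eq_mul, Algebra.smul_def]
  rw [h2, ← h3]
  exact h1

end alg

section main

variable {R R' A B : Type u} [CommRing R'] [CommRing R] [Algebra R' R]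
  [CommRing B] [Algebra R' B] (ℬ : ℕ → Submodule R' B) [GradedAlgebra ℬ]
  [CommRing A] [Algebra R A] [Algebra R' A] [IsScalarTower R' R A] (𝒜 : ℕ → Submodule R A)
  [GradedAlgebra 𝒜] [Algebra B A] [IsScalarTower R' B A] [Algebra.IsPushout R' R B A]
  (φ : ℬ →+*ᵍ 𝒜) (hφA : ∀ b : B, φ b = algebraMap B A b)
  (hφ : 𝒜₊ ≤ (ℬ₊).map φ) (n : ℤ) {g : B} {e : ℕ} (he : 0 < e) (hg : g ∈ ℬ e)

variable {ℬ 𝒜} in
/-- `φ` as a semilinear map -/
def vφ : B →ₛₗ[φ.toRingHom] A where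
  toFun := φ
  map_add' := map_add φ
  map_smul' := fun b b' => by
    rw [smul_eq_mul, map_mul]
    rfl

variable {ℬ 𝒜} in
lemma hvφ : ∀ (i : ℕ) (m : B), m ∈ ℬ i → vφ φ m ∈ 𝒜 i := fun _ _ hm => φ.map_mem hm

include hφA in
lemma hmem : ∀ (i : ℕ) (b : B), b ∈ ℬ i → algebraMap B A b ∈ 𝒜 i := fun i b hb => by
  rw [← hφA]
  exact φ.map_mem hb

include hφA he hg in
/-- sections over `D₊(φ g)` are combinations of images of sections over `D₊(g)` -/
lemma exists_family_sections (p : Γ(GrMod.tilde 𝒜 𝒜 n, Proj.basicOpen 𝒜 (φ g))) :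
    ∃ (ι : Type) (_ : Fintype ι) (r : ι → R)
      (s : ι → Γ(GrMod.tilde ℬ ℬ n, Proj.basicOpen ℬ g)),
      p = ∑ j, cR 𝒜 (φ g) (r j) • GMH.secMap ℬ 𝒜 φ hφ (vφ φ) (hvφ φ) n (s j) := by
  classical
  have hg' : φ g ∈ 𝒜 e := φ.map_mem hg
  obtain ⟨k, i, a, ha, hi, hp⟩ := exists_hasNum (ℳ := 𝒜) he hg' p
  obtain ⟨ι, hι, r, b, hab⟩ := SN273.exists_family_of_mem ℬ 𝒜 (hmem ℬ 𝒜 φ hφA) i a ha
  have hi' : (i : ℤ) = ((k * e : ℕ) : ℤ) + n := by
    push_cast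
    exact hi
  refine ⟨ι, hι, r, fun j => GM.fracSect n (b j : B) (b j).2 (g ^ k) (pow_mem_deg hg k) hi'
    (Proj.basicOpen ℬ g) (fun z hz => pow_notMem ⟨z, hz⟩ k), ?_⟩
  refine hp.ext ?_
  rw [hab]
  refine hasNum_sum Finset.univ _ k _ fun j _ => ?_
  have h1 := hasNum_fracSect (ℳ := ℬ) (n := n) hg k i (b j : B) (b j).2 hi'
  have h2 := h1.secMap ℬ 𝒜 φ hφ (vφ φ) (hvφ φ)
  have h3 := HasNum.cR_smul hg' h2 (r j)
  rw [← hφA]
  exact h3

include hφA he hg in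
/-- functions on `D₊(φ g)` are combinations of images of functions on `D₊(g)` -/
lemma exists_family_functions (t : Γ(Proj 𝒜, Proj.basicOpen 𝒜 (φ g))) :
    ∃ (ι : Type) (_ : Fintype ι) (r : ι → R) (s : ι → Γ(Proj ℬ, Proj.basicOpen ℬ g)),
      t = ∑ j, cR 𝒜 (φ g) (r j) *
        ((Proj.map φ hφ).appLE (Proj.basicOpen ℬ g) (Proj.basicOpen 𝒜 (φ g))
          (GMH.basicOpen_le φ hφ)).hom (s j) := by
  classical
  have hg' : φ g ∈ 𝒜 e := φ.map_mem hg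
  obtain ⟨l, a, ha, rfl⟩ := exists_eq_awaySec he hg' t
  obtain ⟨ι, hι, r, b, hab⟩ := SN273.exists_family_of_mem ℬ 𝒜 (hmem ℬ 𝒜 φ hφA) (l • e) a ha
  refine ⟨ι, hι, r, fun j => GMF.awaySec ℬ hg l (b j : B), ?_⟩
  have h1 : ∀ j, ((Proj.map φ hφ).appLE (Proj.basicOpen ℬ g) (Proj.basicOpen 𝒜 (φ g))
      (GMH.basicOpen_le φ hφ)).hom (GMF.awaySec ℬ hg l (b j : B)) =
      GMF.awaySec 𝒜 hg' l (φ (b j : B)) := fun j => appLE_awaySec φ hφ hg l _ (b j).2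
  simp_rw [h1]
  have h2 : a = ∑ j, ((algebraMap R (𝒜 0) (r j) : 𝒜 0) : A) * φ (b j : B) := by
    rw [hab]
    refine Finset.sum_congr rfl fun j _ => ?_
    rw [Algebra.smul_def, hφA]
    rfl
  rw [h2]
  exact awaySec_sum hg' l (fun j => algebraMap R (𝒜 0) (r j)) (fun j => φ (b j : B))
    (fun j => φ.map_mem (b j).2)

include hφA he hg in
/-- a relation between images of sections comes from a relation in the tensor product -/
lemma exists_relation {ι : Type} [Fintype ι] (r : ι → R)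
    (s : ι → Γ(GrMod.tilde ℬ ℬ n, Proj.basicOpen ℬ g))
    (h : ∑ j, cR 𝒜 (φ g) (r j) • GMH.secMap ℬ 𝒜 φ hφ (vφ φ) (hvφ φ) n (s j) = 0) :
    ∃ (K i₁ : ℕ) (_ : (i₁ : ℤ) = ((K * e : ℕ) : ℤ) + n) (b : ι → ℬ i₁),
      (∀ j, HasNum (s j) K (b j : B)) ∧ ∑ j, r j ⊗ₜ[R'] b j = (0 : R ⊗[R'] ℬ i₁) := by
  classical
  have hg' : φ g ∈ 𝒜 e := φ.map_mem hg
  obtain ⟨K, i₀, hi₀, hb⟩ := exists_common_hasNum (ℳ := ℬ) he hg s
  choose b hbm hbs using hb
  set a : A := ∑ j, r j • φ (b j) with ha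
  have ham : a ∈ 𝒜 i₀ := sum_mem fun j _ => Submodule.smul_mem _ _ (φ.map_mem (hbm j))
  have h1 : HasNum (∑ j, cR 𝒜 (φ g) (r j) • GMH.secMap ℬ 𝒜 φ hφ (vφ φ) (hvφ φ) n (s j)) K a :=
    hasNum_sum Finset.univ _ K _ fun j _ =>
      HasNum.cR_smul hg' ((hbs j).secMap ℬ 𝒜 φ hφ (vφ φ) (hvφ φ)) (r j)
  rw [h] at h1
  obtain ⟨N', hN'⟩ := h1.exists_pow_smul_eq_zero he hg' ham
  have hi₁ : ((N' * e + i₀ : ℕ) : ℤ) = (((N' + K) * e : ℕ) : ℤ) + n := by
    push_cast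
    rw [hi₀]
    push_cast
    ring
  refine ⟨N' + K, N' * e + i₀, hi₁, fun j => ⟨g ^ N' * b j,
    SetLike.mul_mem_graded (pow_mem_deg hg N') (hbm j)⟩, fun j => (hbs j).mul_pow N', ?_⟩
  apply SN273.tmul_sum_eq_zero ℬ (A := A)
  have h2 : ∀ j, r j • algebraMap B A (g ^ N' * b j) = φ g ^ N' * (r j • φ (b j)) := by
    intro j
    rw [← hφA, map_mul, map_pow, mul_smul_comm]
  simp_rw [h2]
  rw [← Finset.mul_sum]
  exact hN'

end main

end Groth.Agent.Helper4.SN274
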