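import Mathlib
import Groth.Prelude.Def_RelProj3
import Groth.Agent.Helper1.GM9
import Groth.Agent.Helper1.GM10
import Groth.Agent.Helper1.GM11
import Groth.Agent.Helper1.GM12
import Groth.Agent.Helper4.SN273
import Groth.Agent.Helper4.SN274d

/-!
# Base change of sections of `A(n)~` over `D₊(g)`, for gradings by additive subgroups

The same as `SN274d/e`, for gradings `ℕ → σ` by an arbitrary `AddSubgroupClass`, the base rings
acting through degree zero.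
-/

set_option autoImplicit false
set_option linter.unusedSectionVars false
set_option linter.style.haveILetI false

namespace Groth.Agent.Helper4.SN279

open CategoryTheory AlgebraicGeometry TopologicalSpace Opposite HomogeneousLocalization
open Groth.Agent.Helper1 TensorProduct Groth.Agent.Helper4.SN274
open scoped HomogeneousIdeal

universe u

section sub

variable {R A σ : Type u} [CommRing R] [CommRing A] [Algebra R A] [SetLike σ A]
  [AddSubgroupClass σ A] (𝒜 : ℕ → σ) [GradedRing 𝒜] (h0 : ∀ r : R, algebraMap R A r ∈ 𝒜 0)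

/-- the grading, as a grading by submodules over the base ring -/
def sub (i : ℕ) : Submodule R A where
  carrier := (𝒜 i : Set A)
  add_mem' := fun ha hb => add_mem ha hb
  zero_mem' := zero_mem (𝒜 i)
  smul_mem' := fun r a ha => by
    change r • a ∈ 𝒜 i
    rw [Algebra.smul_def]
    have h := SetLike.mul_mem_graded (h0 r) ha
    rwa [zero_add] at h

lemma mem_sub {i : ℕ} {a : A} : a ∈ sub 𝒜 h0 i ↔ a ∈ 𝒜 i := Iff.rfl

/-- the graded monoid structure -/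
lemma subGradedMonoid : SetLike.GradedMonoid (sub 𝒜 h0) where
  one_mem := (SetLike.GradedOne.one_mem : (1 : A) ∈ 𝒜 0)
  mul_mem := fun _ _ _ _ ha hb => SetLike.mul_mem_graded (A := 𝒜) ha hb

/-- the comparison of the pieces -/
def toSub (i : ℕ) : 𝒜 i →+ sub 𝒜 h0 i where
  toFun a := ⟨a.1, a.2⟩
  map_zero' := rfl
  map_add' _ _ := rfl

open Classical in
/-- the decomposition -/
@[instance_reducible]
noncomputable def subDecomposition : DirectSum.Decomposition (sub 𝒜 h0) :=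
  DirectSum.Decomposition.ofAddHom (sub 𝒜 h0)
    ((DirectSum.map (toSub 𝒜 h0)).comp (DirectSum.decomposeAddEquiv 𝒜).toAddMonoidHom)
    (by
      ext a
      simp only [AddMonoidHom.comp_apply, AddMonoidHom.id_apply, AddEquiv.coe_toAddMonoidHom]
      have h1 : (DirectSum.coeAddMonoidHom (sub 𝒜 h0)).comp (DirectSum.map (toSub 𝒜 h0)) =
          DirectSum.coeAddMonoidHom 𝒜 := by
        apply DirectSum.addHom_ext
        intro i x
        simp only [AddMonoidHom.comp_apply, DirectSum.map_of, DirectSum.coeAddMonoidHom_of]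
        rfl
      have h2 := DFunLike.congr_fun h1 (DirectSum.decomposeAddEquiv 𝒜 a)
      simp only [AddMonoidHom.comp_apply] at h2
      rw [h2]
      exact DirectSum.Decomposition.left_inv a)
    (by
      apply DirectSum.addHom_ext
      intro i x
      simp only [AddMonoidHom.comp_apply, AddMonoidHom.id_apply, AddEquiv.coe_toAddMonoidHom,
        DirectSum.coeAddMonoidHom_of]
      have h1 : DirectSum.decomposeAddEquiv 𝒜 (x : A) = DirectSum.of (fun i => 𝒜 i) i ⟨x.1, x.2⟩ :=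
        DirectSum.decompose_coe 𝒜 (⟨x.1, x.2⟩ : 𝒜 i)
      rw [h1, DirectSum.map_of]
      rfl)

/-- the graded algebra structure -/
@[instance_reducible]
noncomputable def subGradedAlgebra : GradedAlgebra (sub 𝒜 h0) :=
  letI := subGradedMonoid 𝒜 h0
  letI := subDecomposition 𝒜 h0
  { }

/-- the base ring in degree zero -/
def toZero : R →+* 𝒜 0 where
  toFun r := ⟨algebraMap R A r, h0 r⟩
  map_one' := Subtype.ext (map_one _)
  map_mul' a b := Subtype.ext (map_mul _ a b)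
  map_zero' := Subtype.ext (map_zero _)
  map_add' a b := Subtype.ext (map_add _ a b)

/-- constant functions on `D₊(g)` coming from the base ring -/
noncomputable def cR (g : A) : R →+* Γ(Proj 𝒜, Proj.basicOpen 𝒜 g) :=
  (cst (𝒜 := 𝒜) g).comp (toZero 𝒜 h0)

variable {𝒜} in
lemma HasNum.cR_smul {g : A} {e : ℕ} (hg : g ∈ 𝒜 e) {n : ℤ}
    {s : Γ(GrMod.tilde 𝒜 𝒜 n, Proj.basicOpen 𝒜 g)} {k : ℕ} {m : A} (hs : HasNum s k m) (r : R) :
    HasNum (cR 𝒜 h0 g r • s) k (r • m) := by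
  have h0' : algebraMap R A r ∈ 𝒜 (0 • e) := by
    rw [zero_smul]
    exact h0 r
  have h1 := hs.awaySec_smul hg 0 (algebraMap R A r) h0'
  rw [zero_add] at h1
  have h2 : cR 𝒜 h0 g r = GMF.awaySec 𝒜 hg 0 (algebraMap R A r) :=
    cst_eq_awaySec hg (toZero 𝒜 h0 r)
  have h3 : algebraMap R A r • m = r • m := by
    rw [smul_eq_mul, Algebra.smul_def]
  rw [h2, ← h3]
  exact h1

end sub

section main

variable {R R' A B : Type u} [CommRing R'] [CommRing R] [Algebra R' R]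
  [CommRing B] [Algebra R' B] {σB : Type u} [SetLike σB B] [AddSubgroupClass σB B]
  (ℬ : ℕ → σB) [GradedRing ℬ] (hB0 : ∀ r' : R', algebraMap R' B r' ∈ ℬ 0)
  [CommRing A] [Algebra R A] [Algebra R' A] [IsScalarTower R' R A]
  {σA : Type u} [SetLike σA A] [AddSubgroupClass σA A] (𝒜 : ℕ → σA) [GradedRing 𝒜]
  (hA0 : ∀ r : R, algebraMap R A r ∈ 𝒜 0)
  [Algebra B A] [IsScalarTower R' B A] [Algebra.IsPushout R' R B A]
  (φ : ℬ →+*ᵍ 𝒜) (hφA : ∀ b : B, φ b = algebraMap B A b)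
  (hφ : 𝒜₊ ≤ (ℬ₊).map φ) (n : ℤ) {g : B} {e : ℕ} (he : 0 < e) (hg : g ∈ ℬ e)

variable {ℬ 𝒜} in
/-- `φ` as a semilinear map -/
def vφ : B →ₛₗ[φ.toRingHom] A where
  toFun := φ
  map_add' := map_add φ
  map_smul' := fun b b' => by
    rw [smul_eq_mul, map_mul]
    rfl

variable {ℬ 𝒜} in
lemma hvφ : ∀ (i : ℕ) (m : B), m ∈ ℬ i → vφ φ m ∈ 𝒜 i := fun _ _ hm => φ.map_mem hm

include hφA in
lemma hmem : ∀ (i : ℕ) (b : B), b ∈ sub ℬ hB0 i → algebraMap B A b ∈ sub 𝒜 hA0 i := fun i b hb => by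
  rw [← hφA]
  exact φ.map_mem hb

include hB0 hφA he hg in
/-- sections over `D₊(φ g)` are combinations of images of sections over `D₊(g)` -/
lemma exists_family_sections (p : Γ(GrMod.tilde 𝒜 𝒜 n, Proj.basicOpen 𝒜 (φ g))) :
    ∃ (ι : Type) (_ : Fintype ι) (r : ι → R)
      (s : ι → Γ(GrMod.tilde ℬ ℬ n, Proj.basicOpen ℬ g)),
      p = ∑ j, cR 𝒜 hA0 (φ g) (r j) • GMH.secMap ℬ 𝒜 φ hφ (vφ φ) (hvφ φ) n (s j) := by
  classical
  letI := subGradedAlgebra ℬ hB0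
  letI := subGradedAlgebra 𝒜 hA0
  have hg' : φ g ∈ 𝒜 e := φ.map_mem hg
  obtain ⟨k, i, a, ha, hi, hp⟩ := exists_hasNum (ℳ := 𝒜) he hg' p
  obtain ⟨ι, hι, r, b, hab⟩ := SN273.exists_family_of_mem (sub ℬ hB0) (sub 𝒜 hA0)
    (hmem ℬ hB0 𝒜 hA0 φ hφA) i a ha
  have hi' : (i : ℤ) = ((k * e : ℕ) : ℤ) + n := by
    push_cast
    exact hi
  have hbm : ∀ j, (b j : B) ∈ ℬ i := fun j => (b j).2
  refine ⟨ι, hι, r, fun j => GM.fracSect n (b j : B) (hbm j) (g ^ k) (pow_mem_deg hg k) hi'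
    (Proj.basicOpen ℬ g) (fun z hz => pow_notMem ⟨z, hz⟩ k), ?_⟩
  refine hp.ext ?_
  rw [hab]
  refine hasNum_sum Finset.univ _ k _ fun j _ => ?_
  have h1 := hasNum_fracSect (ℳ := ℬ) (n := n) hg k i (b j : B) (hbm j) hi'
  have h2 := h1.secMap ℬ 𝒜 φ hφ (vφ φ) (hvφ φ)
  have h3 := HasNum.cR_smul hA0 hg' h2 (r j)
  rw [← hφA]
  exact h3

include hB0 hφA he hg in
/-- functions on `D₊(φ g)` are combinations of images of functions on `D₊(g)` -/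
lemma exists_family_functions (t : Γ(Proj 𝒜, Proj.basicOpen 𝒜 (φ g))) :
    ∃ (ι : Type) (_ : Fintype ι) (r : ι → R) (s : ι → Γ(Proj ℬ, Proj.basicOpen ℬ g)),
      t = ∑ j, cR 𝒜 hA0 (φ g) (r j) *
        ((Proj.map φ hφ).appLE (Proj.basicOpen ℬ g) (Proj.basicOpen 𝒜 (φ g))
          (GMH.basicOpen_le φ hφ)).hom (s j) := by
  classical
  letI := subGradedAlgebra ℬ hB0
  letI := subGradedAlgebra 𝒜 hA0
  have hg' : φ g ∈ 𝒜 e := φ.map_mem hg
  obtain ⟨l, a, ha, rfl⟩ := exists_eq_awaySec he hg' t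
  obtain ⟨ι, hι, r, b, hab⟩ := SN273.exists_family_of_mem (sub ℬ hB0) (sub 𝒜 hA0)
    (hmem ℬ hB0 𝒜 hA0 φ hφA) (l • e) a ha
  have hbm : ∀ j, (b j : B) ∈ ℬ (l • e) := fun j => (b j).2
  refine ⟨ι, hι, r, fun j => GMF.awaySec ℬ hg l (b j : B), ?_⟩
  have h1 : ∀ j, ((Proj.map φ hφ).appLE (Proj.basicOpen ℬ g) (Proj.basicOpen 𝒜 (φ g))
      (GMH.basicOpen_le φ hφ)).hom (GMF.awaySec ℬ hg l (b j : B)) =
      GMF.awaySec 𝒜 hg' l (φ (b j : B)) := fun j => appLE_awaySec φ hφ hg l _ (hbm j)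
  simp_rw [h1]
  have h2 : a = ∑ j, ((toZero 𝒜 hA0 (r j) : 𝒜 0) : A) * φ (b j : B) := by
    rw [hab]
    refine Finset.sum_congr rfl fun j _ => ?_
    rw [Algebra.smul_def, hφA]
    rfl
  rw [h2]
  exact awaySec_sum hg' l (fun j => toZero 𝒜 hA0 (r j)) (fun j => φ (b j : B))
    (fun j => φ.map_mem (hbm j))

include hB0 hA0 hφA he hg in
/-- a relation between images of sections comes from a relation in the tensor product -/
lemma exists_relation {ι : Type} [Fintype ι] (r : ι → R)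
    (s : ι → Γ(GrMod.tilde ℬ ℬ n, Proj.basicOpen ℬ g))
    (h : ∑ j, cR 𝒜 hA0 (φ g) (r j) • GMH.secMap ℬ 𝒜 φ hφ (vφ φ) (hvφ φ) n (s j) = 0) :
    ∃ (K i₁ : ℕ) (_ : (i₁ : ℤ) = ((K * e : ℕ) : ℤ) + n) (b : ι → sub ℬ hB0 i₁),
      (∀ j, HasNum (s j) K (b j : B)) ∧ ∑ j, r j ⊗ₜ[R'] b j = (0 : R ⊗[R'] sub ℬ hB0 i₁) := by
  classical
  letI := subGradedAlgebra ℬ hB0
  letI := subGradedAlgebra 𝒜 hA0
  have hg' : φ g ∈ 𝒜 e := φ.map_mem hg
  obtain ⟨K, i₀, hi₀, hb⟩ := exists_common_hasNum (ℳ := ℬ) he hg s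
  choose b hbm hbs using hb
  set a : A := ∑ j, r j • φ (b j) with ha
  have ham : a ∈ 𝒜 i₀ := by
    have : a ∈ sub 𝒜 hA0 i₀ :=
      sum_mem fun j _ => Submodule.smul_mem _ _ (φ.map_mem (hbm j))
    exact this
  have h1 : HasNum (∑ j, cR 𝒜 hA0 (φ g) (r j) • GMH.secMap ℬ 𝒜 φ hφ (vφ φ) (hvφ φ) n (s j))
      K a :=
    hasNum_sum Finset.univ _ K _ fun j _ =>
      HasNum.cR_smul hA0 hg' ((hbs j).secMap ℬ 𝒜 φ hφ (vφ φ) (hvφ φ)) (r j)
  rw [h] at h1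
  obtain ⟨N', hN'⟩ := h1.exists_pow_smul_eq_zero he hg' ham
  have hi₁ : ((N' * e + i₀ : ℕ) : ℤ) = (((N' + K) * e : ℕ) : ℤ) + n := by
    push_cast
    rw [hi₀]
    push_cast
    ring
  refine ⟨N' + K, N' * e + i₀, hi₁, fun j => ⟨g ^ N' * b j,
    SetLike.mul_mem_graded (pow_mem_deg hg N') (hbm j)⟩, fun j => (hbs j).mul_pow N', ?_⟩
  apply SN273.tmul_sum_eq_zero (sub ℬ hB0) (A := A)
  have h2 : ∀ j, r j • algebraMap B A (g ^ N' * b j) = φ g ^ N' * (r j • φ (b j)) := by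
    intro j
    rw [← hφA, map_mul, map_pow, mul_smul_comm]
  simp_rw [h2]
  rw [← Finset.mul_sum]
  exact hN'

include hB0 hA0 hφA hg in
lemma appLE_cR (r' : R') :
    ((Proj.map φ hφ).appLE (Proj.basicOpen ℬ g) (Proj.basicOpen 𝒜 (φ g))
      (GMH.basicOpen_le φ hφ)).hom (cR ℬ hB0 g r') =
      cR 𝒜 hA0 (φ g) (algebraMap R' R r') := by
  change ((Proj.map φ hφ).appLE (Proj.basicOpen ℬ g) (Proj.basicOpen 𝒜 (φ g))
      (GMH.basicOpen_le φ hφ)).hom (cst g (toZero ℬ hB0 r')) =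
    cst (φ g) (toZero 𝒜 hA0 (algebraMap R' R r'))
  rw [appLE_cst φ hφ hg]
  congr 1
  apply Subtype.ext
  change φ (algebraMap R' B r') = algebraMap R A (algebraMap R' R r')
  rw [hφA, ← IsScalarTower.algebraMap_apply, ← IsScalarTower.algebraMap_apply]

include hB0 hA0 hφA he hg in
/-- **the map on sections over `D₊(g)` is a base change** -/
theorem exists_isBaseChange_secMap :
    letI := ((Proj.map φ hφ).appLE (Proj.basicOpen ℬ g) (Proj.basicOpen 𝒜 (φ g))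
      (GMH.basicOpen_le φ hφ)).hom.toAlgebra
    letI : Module Γ(Proj ℬ, Proj.basicOpen ℬ g) Γ(GrMod.tilde 𝒜 𝒜 n, Proj.basicOpen 𝒜 (φ g)) :=
      Module.compHom _ ((Proj.map φ hφ).appLE (Proj.basicOpen ℬ g) (Proj.basicOpen 𝒜 (φ g))
        (GMH.basicOpen_le φ hφ)).hom
    haveI : IsScalarTower Γ(Proj ℬ, Proj.basicOpen ℬ g) Γ(Proj 𝒜, Proj.basicOpen 𝒜 (φ g))
        Γ(GrMod.tilde 𝒜 𝒜 n, Proj.basicOpen 𝒜 (φ g)) := IsScalarTower.of_compHom _ _ _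
    ∃ β : Γ(GrMod.tilde ℬ ℬ n, Proj.basicOpen ℬ g) →ₗ[Γ(Proj ℬ, Proj.basicOpen ℬ g)]
        Γ(GrMod.tilde 𝒜 𝒜 n, Proj.basicOpen 𝒜 (φ g)),
      (∀ m, β m = GMH.secMap ℬ 𝒜 φ hφ (vφ φ) (hvφ φ) n m) ∧
      IsBaseChange Γ(Proj 𝒜, Proj.basicOpen 𝒜 (φ g)) β := by
  letI := ((Proj.map φ hφ).appLE (Proj.basicOpen ℬ g) (Proj.basicOpen 𝒜 (φ g))
    (GMH.basicOpen_le φ hφ)).hom.toAlgebra
  letI : Module Γ(Proj ℬ, Proj.basicOpen ℬ g) Γ(GrMod.tilde 𝒜 𝒜 n, Proj.basicOpen 𝒜 (φ g)) :=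
    Module.compHom _ ((Proj.map φ hφ).appLE (Proj.basicOpen ℬ g) (Proj.basicOpen 𝒜 (φ g))
      (GMH.basicOpen_le φ hφ)).hom
  haveI : IsScalarTower Γ(Proj ℬ, Proj.basicOpen ℬ g) Γ(Proj 𝒜, Proj.basicOpen 𝒜 (φ g))
      Γ(GrMod.tilde 𝒜 𝒜 n, Proj.basicOpen 𝒜 (φ g)) := IsScalarTower.of_compHom _ _ _
  let β : Γ(GrMod.tilde ℬ ℬ n, Proj.basicOpen ℬ g) →ₗ[Γ(Proj ℬ, Proj.basicOpen ℬ g)]
      Γ(GrMod.tilde 𝒜 𝒜 n, Proj.basicOpen 𝒜 (φ g)) :=
    { toFun := GMH.secMap ℬ 𝒜 φ hφ (vφ φ) (hvφ φ) n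
      map_add' := secMap_add ℬ 𝒜 φ hφ (vφ φ) (hvφ φ)
      map_smul' := fun t s => secMap_smul ℬ 𝒜 φ hφ (vφ φ) (hvφ φ) he hg t s }
  refine ⟨β, fun m => rfl, ?_⟩
  refine SN273.isBaseChange_of_families β (cR 𝒜 hA0 (φ g)) ?_ ?_ ?_
  · exact fun t => exists_family_functions ℬ hB0 𝒜 hA0 φ hφA hφ he hg t
  · exact fun p => exists_family_sections ℬ hB0 𝒜 hA0 φ hφA hφ n he hg p
  · intro ι _ r s h
    obtain ⟨K, i₁, hi₁, b, hbs, hrel⟩ := exists_relation ℬ hB0 𝒜 hA0 φ hφA hφ n he hg r s h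
    have hbm : ∀ b : sub ℬ hB0 i₁, (b : B) ∈ ℬ i₁ := fun b => b.2
    have hfr : ∀ b : sub ℬ hB0 i₁, HasNum (GM.fracSect n (b : B) (hbm b) (g ^ K)
        (pow_mem_deg hg K) hi₁
        (Proj.basicOpen ℬ g) (fun z hz => pow_notMem ⟨z, hz⟩ K)) K (b : B) := fun b =>
      hasNum_fracSect (ℳ := ℬ) (n := n) hg K i₁ (b : B) (hbm b) hi₁
    let frac : sub ℬ hB0 i₁ →+ Γ(GrMod.tilde ℬ ℬ n, Proj.basicOpen ℬ g) :=
      AddMonoidHom.mk' (fun b => GM.fracSect n (b : B) (hbm b) (g ^ K) (pow_mem_deg hg K) hi₁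
        (Proj.basicOpen ℬ g) (fun z hz => pow_notMem ⟨z, hz⟩ K))
        (fun b b' => (hfr (b + b')).ext ((hfr b).add (hfr b')))
    have hfrac : ∀ (r' : R') (b : sub ℬ hB0 i₁), frac (r' • b) = cR ℬ hB0 g r' • frac b :=
      fun r' b => (hfr (r' • b)).ext (HasNum.cR_smul hB0 hg (hfr b) r')
    obtain ⟨Ψ, hΨ⟩ := SN273.exists_tensor_addHom (cR 𝒜 hA0 (φ g)) (cR ℬ hB0 g)
      (fun r' => appLE_cR ℬ hB0 𝒜 hA0 φ hφA hφ hg r') frac hfrac
    have h1 := congrArg Ψ hrel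
    rw [map_sum, map_zero] at h1
    simp_rw [hΨ] at h1
    have hfs : ∀ j, frac (b j) = s j := fun j => (hfr (b j)).ext (hbs j)
    simp_rw [hfs] at h1
    exact h1

end main

end Groth.Agent.Helper4.SN279
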