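import Mathlib
import Groth.Prelude.Def_RelProj3
import Groth.Agent.Helper1.TR17
import Groth.Agent.Helper1.TR20
import Groth.Agent.Helper1.GlueHom

/-!
# The comparison map `O_P(n) ⟶ g_* O_{P'}(n)` for a base change of relative Proj's
-/

set_option autoImplicit false
set_option linter.unusedSectionVars false
set_option linter.style.haveILetI false

namespace Groth.Agent.Helper4.SN280

open CategoryTheory CategoryTheory.Limits AlgebraicGeometry TopologicalSpace Opposite RelProj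
open Groth.Agent.Helper1 Groth.Agent.Helper1.RP
open scoped HomogeneousIdeal

universe u

variable {Y Y' P P' : Scheme.{u}} (ψ : Y' ⟶ Y) {𝒮 : QCGrAlg Y} {𝒮' : QCGrAlg Y'}

/-- a pair of affine opens `U' ⊆ ψ⁻¹ U` -/
structure Pr where
  U : Y.Opens
  hU : IsAffineOpen U
  U' : Y'.Opens
  hU' : IsAffineOpen U'
  hle : U' ≤ ψ ⁻¹ᵁ U

variable {ψ}
variable (u : 𝒮.presheaf ⟶ ψ.base _* 𝒮'.presheaf)
  (φ : ∀ (U : Y.Opens) (hU : IsAffineOpen U) (U' : Y'.Opens) (hU' : IsAffineOpen U')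
    (_ : U' ≤ ψ ⁻¹ᵁ U), 𝒮.deg U hU →+*ᵍ 𝒮'.deg U' hU')
  (hφ : ∀ (U : Y.Opens) (hU : IsAffineOpen U) (U' : Y'.Opens) (hU' : IsAffineOpen U')
    (hle : U' ≤ ψ ⁻¹ᵁ U), (φ U hU U' hU' hle).toRingHom =
      ((u.app (op U) : 𝒮.presheaf.obj (op U) ⟶ 𝒮'.presheaf.obj (op (ψ ⁻¹ᵁ U))) ≫
        𝒮'.presheaf.map (homOfLE hle).op).hom)
  (hirr : ∀ (U : Y.Opens) (hU : IsAffineOpen U) (U' : Y'.Opens) (hU' : IsAffineOpen U')
    (hle : U' ≤ ψ ⁻¹ᵁ U), (𝒮'.deg U' hU')₊ ≤ ((𝒮.deg U hU)₊).map (φ U hU U' hU' hle))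
  {p : P ⟶ Y}
  {chart : ∀ (U : Y.Opens) (hU : IsAffineOpen U),
    (((p ⁻¹ᵁ U : P.Opens) : Scheme.{u}) ≅ Proj (𝒮.deg U hU))}
  {p' : P' ⟶ Y'}
  {chart' : ∀ (U' : Y'.Opens) (hU' : IsAffineOpen U'),
    (((p' ⁻¹ᵁ U' : P'.Opens) : Scheme.{u}) ≅ Proj (𝒮'.deg U' hU'))}
  {g : P' ⟶ P}
  (hg : ∀ (U : Y.Opens) (hU : IsAffineOpen U) (U' : Y'.Opens) (hU' : IsAffineOpen U')
    (hle : U' ≤ ψ ⁻¹ᵁ U), (p' ⁻¹ᵁ U').ι ≫ g =
      (chart' U' hU').hom ≫ Proj.map (φ U hU U' hU' hle) (hirr U hU U' hU' hle) ≫ emb p chart U hU)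
  {n : ℤ} {L : P.Modules}
  {lam : ∀ (U : Y.Opens) (hU : IsAffineOpen U),
    L ⟶ (Scheme.Modules.pushforward (emb p chart U hU)).obj (GrTwist.twist (𝒮.deg U hU) n)}
  {L' : P'.Modules}
  {lam' : ∀ (U' : Y'.Opens) (hU' : IsAffineOpen U'),
    L' ⟶ (Scheme.Modules.pushforward (emb p' chart' U' hU')).obj
      (GrTwist.twist (𝒮'.deg U' hU') n)}

/-- the graded homomorphism of a pair -/
abbrev fc (c : Pr ψ) : 𝒮.deg c.U c.hU →+*ᵍ 𝒮'.deg c.U' c.hU' := φ c.U c.hU c.U' c.hU' c.hle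

include hg in
lemma emb_sq (c : Pr ψ) :
    emb p' chart' c.U' c.hU' ≫ g =
      Proj.map (fc φ c) (hirr c.U c.hU c.U' c.hU' c.hle) ≫ emb p chart c.U c.hU := by
  have h1 : emb p' chart' c.U' c.hU' = (chart' c.U' c.hU').inv ≫ (p' ⁻¹ᵁ c.U').ι := rfl
  rw [h1, Category.assoc, hg c.U c.hU c.U' c.hU' c.hle, Iso.inv_hom_id_assoc]

include hg in
lemma emb_sq_apply (c : Pr ψ) (y : Proj (𝒮'.deg c.U' c.hU')) :
    g.base ((emb p' chart' c.U' c.hU').base y) =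
      (emb p chart c.U c.hU).base
        (ProjectiveSpectrum.comap (fc φ c) (hirr c.U c.hU c.U' c.hU' c.hle) y) :=
  congrArg (fun ψ' : Proj (𝒮'.deg c.U' c.hU') ⟶ P => ψ'.base y) (emb_sq φ hirr hg c)

variable (lam lam') in
/-- "`t` is the image of `s`, read in the charts of the pair `c`" -/
def RelC (c : Pr ψ) (V : P.Opens) (V' : P'.Opens) (s : Γ(L, V)) (t : Γ(L', V')) : Prop :=
  ∀ (y : ProjectiveSpectrum (𝒮'.deg c.U' c.hU'))
    (hy : (emb p' chart' c.U' c.hU').base y ∈ V')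
    (hy' : (emb p chart c.U c.hU).base
      (ProjectiveSpectrum.comap (fc φ c) (hirr c.U c.hU c.U' c.hU' c.hle) y) ∈ V),
    GrTwist.val (V := emb p' chart' c.U' c.hU' ⁻¹ᵁ V') ((lam' c.U' c.hU').app V' t) ⟨y, hy⟩ =
      GrTwist.locMap (fc φ c) (hirr c.U c.hU c.U' c.hU' c.hle) y
        (GrTwist.val (V := emb p chart c.U c.hU ⁻¹ᵁ V) ((lam c.U c.hU).app V s) ⟨_, hy'⟩)

lemma RelC.res {c : Pr ψ} {V V₁ : P.Opens} {V' V₁' : P'.Opens} {s : Γ(L, V)} {t : Γ(L', V')}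
    (H : RelC φ hirr lam lam' c V V' s t) (hV : V₁ ≤ V) (hV' : V₁' ≤ V') :
    RelC φ hirr lam lam' c V₁ V₁' (L.presheaf.map (homOfLE hV).op s)
      (L'.presheaf.map (homOfLE hV').op t) := by
  intro y hy hy'
  rw [Groth.Agent.Helper4.StalkExact.app_res, Groth.Agent.Helper4.StalkExact.app_res]
  exact H y (hV' hy) (hV hy')

variable (hP : IsRelProj 𝒮 p chart) (hP' : IsRelProj 𝒮' p' chart')
  (hL : IsRelTwist 𝒮 p chart n L lam) (hL' : IsRelTwist 𝒮' p' chart' n L' lam')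

include hg hL' in
lemma RelC.unique {c : Pr ψ} {V : P.Opens} {V' : P'.Opens} {s : Γ(L, V)} {t t' : Γ(L', V')}
    (hV' : V' ≤ p' ⁻¹ᵁ c.U') (hVg : V' ≤ g ⁻¹ᵁ V)
    (H : RelC φ hirr lam lam' c V V' s t) (H' : RelC φ hirr lam lam' c V V' s t') : t = t' := by
  apply (hL'.bijective c.U' c.hU' V' hV').1
  apply GT.sect_ext
  rintro ⟨y, hy⟩
  have hy' : (emb p chart c.U c.hU).base
      (ProjectiveSpectrum.comap (fc φ c) (hirr c.U c.hU c.U' c.hU' c.hle) y) ∈ V := by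
    rw [← emb_sq_apply φ hirr hg c y]
    exact hVg hy
  exact (H y hy hy').trans (H' y hy hy').symm

include hg hL' in
lemma exists_relC (c : Pr ψ) (V : P.Opens) (V' : P'.Opens) (hV' : V' ≤ p' ⁻¹ᵁ c.U')
    (hVg : V' ≤ g ⁻¹ᵁ V) (s : Γ(L, V)) : ∃ t : Γ(L', V'), RelC φ hirr lam lam' c V V' s t := by
  have hle' : emb p' chart' c.U' c.hU' ⁻¹ᵁ V' ≤
      Proj.map (fc φ c) (hirr c.U c.hU c.U' c.hU' c.hle) ⁻¹ᵁ (emb p chart c.U c.hU ⁻¹ᵁ V) := by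
    intro y hy
    have h1 := emb_sq_apply φ hirr hg c y
    have h2 : g.base ((emb p' chart' c.U' c.hU').base y) ∈ V := hVg hy
    rw [h1] at h2
    exact h2
  obtain ⟨t, ht⟩ := (hL'.bijective c.U' c.hU' V' hV').2
    ((GrTwist.twist (𝒮'.deg c.U' c.hU') n).presheaf.map (homOfLE hle').op
      ((GrTwist.comap (fc φ c) (hirr c.U c.hU c.U' c.hU' c.hle) n).app
        (emb p chart c.U c.hU ⁻¹ᵁ V) ((lam c.U c.hU).app V s)))
  refine ⟨t, fun y hy hy' => ?_⟩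
  have h1 : (lam' c.U' c.hU').app V' t = _ := ht
  rw [h1]
  rfl

/-- the pair of basic opens -/
def Pr.basic (c : Pr ψ) (r : Γ(Y, c.U)) (r' : Γ(Y', c.U'))
    (h : Y'.basicOpen r' ≤ ψ ⁻¹ᵁ Y.basicOpen r) : Pr ψ :=
  ⟨Y.basicOpen r, c.hU.basicOpen r, Y'.basicOpen r', c.hU'.basicOpen r', h⟩

include hφ in
lemma fc_apply (c : Pr ψ) (a : 𝒮.presheaf.obj (op c.U)) :
    fc φ c a = (𝒮'.presheaf.map (homOfLE c.hle).op).hom ((u.app (op c.U)).hom a) :=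
  DFunLike.congr_fun (hφ c.U c.hU c.U' c.hU' c.hle) a

include hφ in
lemma res_fc (c : Pr ψ) (r : Γ(Y, c.U)) (r' : Γ(Y', c.U'))
    (h : Y'.basicOpen r' ≤ ψ ⁻¹ᵁ Y.basicOpen r) (a : 𝒮.presheaf.obj (op c.U)) :
    𝒮'.res c.hU' (c.hU'.basicOpen r') (Y'.basicOpen_le r') (fc φ c a) =
      fc φ (c.basic r r' h) (𝒮.res c.hU (c.hU.basicOpen r) (Y.basicOpen_le r) a) := by
  rw [fc_apply u φ hφ, fc_apply u φ hφ, QCGrAlg.res_apply, QCGrAlg.res_apply]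
  have hnat := u.naturality (homOfLE (Y.basicOpen_le r)).op
  have h1 : (u.app (op (Y.basicOpen r))).hom ((𝒮.presheaf.map (homOfLE (Y.basicOpen_le r)).op).hom a) =
      ((ψ.base _* 𝒮'.presheaf).map (homOfLE (Y.basicOpen_le r)).op).hom ((u.app (op c.U)).hom a) :=
    congrArg (fun f => f.hom a) hnat
  change _ = (𝒮'.presheaf.map (homOfLE h).op).hom
    ((u.app (op (Y.basicOpen r))).hom ((𝒮.presheaf.map (homOfLE (Y.basicOpen_le r)).op).hom a))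
  rw [h1]
  change (𝒮'.presheaf.map _ ≫ 𝒮'.presheaf.map _).hom _ = (𝒮'.presheaf.map _ ≫ 𝒮'.presheaf.map _).hom _
  rw [← Functor.map_comp, ← Functor.map_comp]
  rfl

include hφ hP hP' hL hL' in
theorem RelC.fwd {c : Pr ψ} (r : Γ(Y, c.U)) (r' : Γ(Y', c.U'))
    (h : Y'.basicOpen r' ≤ ψ ⁻¹ᵁ Y.basicOpen r) {V : P.Opens} {V' : P'.Opens} {s : Γ(L, V)}
    {t : Γ(L', V')} (H : RelC φ hirr lam lam' c V V' s t) :
    RelC φ hirr lam lam' (c.basic r r' h) V V' s t := by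
  intro y hy hy'
  have hy₂ : (emb p' chart' c.U' c.hU').base (ProjectiveSpectrum.comap
      (𝒮'.res c.hU' (c.hU'.basicOpen r') (Y'.basicOpen_le r'))
      (𝒮'.irrelevant_le_map c.U' c.hU' r') y) ∈ V' := by
    rw [TRG.emb_comap hP']; exact hy
  have hy₃ : (emb p chart c.U c.hU).base (ProjectiveSpectrum.comap
      (𝒮.res c.hU (c.hU.basicOpen r) (Y.basicOpen_le r)) (𝒮.irrelevant_le_map c.U c.hU r)
      (ProjectiveSpectrum.comap (fc φ (c.basic r r' h))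
        (hirr _ (c.hU.basicOpen r) _ (c.hU'.basicOpen r') h) y)) ∈ V := by
    rw [TRG.emb_comap hP]; exact hy'
  have hcomm : ∀ a : 𝒮.presheaf.obj (op c.U),
      𝒮'.res c.hU' (c.hU'.basicOpen r') (Y'.basicOpen_le r') (fc φ c a) =
        fc φ (c.basic r r' h) (𝒮.res c.hU (c.hU.basicOpen r) (Y.basicOpen_le r) a) :=
    res_fc u φ hφ c r r' h
  have hy₄ : (emb p chart c.U c.hU).base (ProjectiveSpectrum.comap (fc φ c)
      (hirr c.U c.hU c.U' c.hU' c.hle) (ProjectiveSpectrum.comap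
      (𝒮'.res c.hU' (c.hU'.basicOpen r') (Y'.basicOpen_le r'))
      (𝒮'.irrelevant_le_map c.U' c.hU' r') y)) ∈ V := by
    have e := TRC.comap_square (fc φ c) (hirr c.U c.hU c.U' c.hU' c.hle) (fc φ (c.basic r r' h))
      (hirr _ (c.hU.basicOpen r) _ (c.hU'.basicOpen r') h)
      (𝒮.res c.hU (c.hU.basicOpen r) (Y.basicOpen_le r)) (𝒮.irrelevant_le_map c.U c.hU r)
      (𝒮'.res c.hU' (c.hU'.basicOpen r') (Y'.basicOpen_le r'))
      (𝒮'.irrelevant_le_map c.U' c.hU' r') hcomm y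
    exact Eq.mpr (congrArg (fun z => (emb p chart c.U c.hU).base z ∈ V) e) hy₃
  have e1 := hL'.compat c.U' c.hU' r' V' t y hy hy₂
  have e2 := H _ hy₂ hy₄
  have e3 := hL.compat c.U c.hU r V s _ hy' hy₃
  refine e1.trans ?_
  rw [e2]
  refine Eq.trans ?_ (congrArg _ e3.symm)
  exact TRC.locMap_square (fc φ c) (hirr c.U c.hU c.U' c.hU' c.hle) (fc φ (c.basic r r' h))
    (hirr _ (c.hU.basicOpen r) _ (c.hU'.basicOpen r') h)
    (𝒮.res c.hU (c.hU.basicOpen r) (Y.basicOpen_le r)) (𝒮.irrelevant_le_map c.U c.hU r)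
    (𝒮'.res c.hU' (c.hU'.basicOpen r') (Y'.basicOpen_le r'))
    (𝒮'.irrelevant_le_map c.U' c.hU' r') hcomm ((lam c.U c.hU).app V s) y hy₄ hy₃

include hφ hg hP hP' hL hL' in
theorem RelC.bwd {c : Pr ψ} (r : Γ(Y, c.U)) (r' : Γ(Y', c.U'))
    (h : Y'.basicOpen r' ≤ ψ ⁻¹ᵁ Y.basicOpen r) {V : P.Opens} {V' : P'.Opens} {s : Γ(L, V)}
    {t : Γ(L', V')} (hV' : V' ≤ p' ⁻¹ᵁ Y'.basicOpen r') (hVg : V' ≤ g ⁻¹ᵁ V)
    (H : RelC φ hirr lam lam' (c.basic r r' h) V V' s t) : RelC φ hirr lam lam' c V V' s t := by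
  obtain ⟨t', ht'⟩ := exists_relC φ hirr hg hL' c V V'
    (hV'.trans (p'.preimage_mono (Y'.basicOpen_le r'))) hVg s
  have h1 := ht'.fwd u φ hφ hirr hP hP' hL hL' r r' h
  have h2 : t' = t := RelC.unique φ hirr hg hL' (c := c.basic r r' h) hV' hVg h1 H
  subst h2
  exact ht'

lemma RelC.congr {c c' : Pr ψ} (hU : c.U = c'.U) (hU' : c.U' = c'.U') {V : P.Opens}
    {V' : P'.Opens} {s : Γ(L, V)} {t : Γ(L', V')} (H : RelC φ hirr lam lam' c V V' s t) :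
    RelC φ hirr lam lam' c' V V' s t := by
  obtain ⟨U, hU₀, U', hU₀', hle⟩ := c
  obtain ⟨U₂, hU₂, U₂', hU₂', hle₂⟩ := c'
  simp only at hU hU'
  subst hU
  subst hU'
  exact H

include hφ hg hP hP' hL hL' in
theorem RelC.indep {c₁ c₂ : Pr ψ} {V : P.Opens} {V' : P'.Opens} {s : Γ(L, V)} {t : Γ(L', V')}
    (hV₁ : V' ≤ p' ⁻¹ᵁ c₁.U') (hV₂ : V' ≤ p' ⁻¹ᵁ c₂.U') (hVg : V' ≤ g ⁻¹ᵁ V)
    (H : RelC φ hirr lam lam' c₁ V V' s t) : RelC φ hirr lam lam' c₂ V V' s t := by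
  obtain ⟨t', ht'⟩ := exists_relC φ hirr hg hL' c₂ V V' hV₂ hVg s
  suffices h2 : t' = t by subst h2; exact ht'
  apply Groth.Agent.Helper4.TwistExt.eq_of_cover L' V'
  intro x hx
  have hy₁ : p'.base x ∈ c₁.U' := hV₁ hx
  have hy₂ : p'.base x ∈ c₂.U' := hV₂ hx
  have hz₁ : ψ.base (p'.base x) ∈ c₁.U := c₁.hle hy₁
  have hz₂ : ψ.base (p'.base x) ∈ c₂.U := c₂.hle hy₂
  obtain ⟨r₁, r₂, er, hxr⟩ :=
    exists_basicOpen_le_affine_inter c₁.hU c₂.hU (ψ.base (p'.base x)) ⟨hz₁, hz₂⟩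
  obtain ⟨a₁, a₂, ea, hxa⟩ :=
    exists_basicOpen_le_affine_inter c₁.hU' c₂.hU' (p'.base x) ⟨hy₁, hy₂⟩
  set r₁' : Γ(Y', c₁.U') := a₁ * (ψ.appLE c₁.U c₁.U' c₁.hle).hom r₁ with hr₁'
  set r₂' : Γ(Y', c₂.U') := a₂ * (ψ.appLE c₂.U c₂.U' c₂.hle).hom r₂ with hr₂'
  have hb₁ : Y'.basicOpen r₁' = Y'.basicOpen a₁ ⊓ ψ ⁻¹ᵁ Y.basicOpen r₁ := by
    rw [hr₁', Scheme.basicOpen_mul, Scheme.basicOpen_appLE, ← inf_assoc,
      inf_eq_left.mpr (Y'.basicOpen_le a₁)]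
  have hb₂ : Y'.basicOpen r₂' = Y'.basicOpen a₂ ⊓ ψ ⁻¹ᵁ Y.basicOpen r₂ := by
    rw [hr₂', Scheme.basicOpen_mul, Scheme.basicOpen_appLE, ← inf_assoc,
      inf_eq_left.mpr (Y'.basicOpen_le a₂)]
  have eb : Y'.basicOpen r₁' = Y'.basicOpen r₂' := by rw [hb₁, hb₂, ea, er]
  have h₁ : Y'.basicOpen r₁' ≤ ψ ⁻¹ᵁ Y.basicOpen r₁ := hb₁ ▸ inf_le_right
  have h₂ : Y'.basicOpen r₂' ≤ ψ ⁻¹ᵁ Y.basicOpen r₂ := hb₂ ▸ inf_le_right
  have hx' : p'.base x ∈ Y'.basicOpen r₁' := by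
    rw [hb₁]
    exact ⟨hxa, hxr⟩
  refine ⟨V' ⊓ p' ⁻¹ᵁ (Y'.basicOpen r₁'), inf_le_left, ⟨hx, hx'⟩, ?_⟩
  have hVD : V' ⊓ p' ⁻¹ᵁ (Y'.basicOpen r₁') ≤ p' ⁻¹ᵁ (Y'.basicOpen r₁') := inf_le_right
  have hVD₂ : V' ⊓ p' ⁻¹ᵁ (Y'.basicOpen r₁') ≤ p' ⁻¹ᵁ (Y'.basicOpen r₂') := by
    rw [← eb]
    exact hVD
  have hVg' : V' ⊓ p' ⁻¹ᵁ (Y'.basicOpen r₁') ≤ g ⁻¹ᵁ V := inf_le_left.trans hVg
  have h3 := H.res φ hirr (le_refl V)
    (inf_le_left : V' ⊓ p' ⁻¹ᵁ (Y'.basicOpen r₁') ≤ V')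
  have h4 := h3.fwd u φ hφ hirr hP hP' hL hL' r₁ r₁' h₁
  have h5 : RelC φ hirr lam lam' (c₂.basic r₂ r₂' h₂) V (V' ⊓ p' ⁻¹ᵁ (Y'.basicOpen r₁')) _ _ :=
    h4.congr φ hirr (c := c₁.basic r₁ r₁' h₁) (c' := c₂.basic r₂ r₂' h₂) er eb
  have h6 := h5.bwd u φ hφ hirr hg hP hP' hL hL' r₂ r₂' h₂ hVD₂ hVg'
  have h7 := ht'.res φ hirr (le_refl V)
    (inf_le_left : V' ⊓ p' ⁻¹ᵁ (Y'.basicOpen r₁') ≤ V')
  exact RelC.unique φ hirr hg hL' (c := c₂) (inf_le_left.trans hV₂) hVg' h7 h6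

variable (lam) in
/-- the morphism `L ⟶ g_* emb'_* O(n)` reading a section of `L` in the chart of the pair and applying
`a / f ↦ φ a / φ f` -/
noncomputable def aC (c : Pr ψ) :
    L ⟶ (Scheme.Modules.pushforward g).obj ((Scheme.Modules.pushforward
      (emb p' chart' c.U' c.hU')).obj (GrTwist.twist (𝒮'.deg c.U' c.hU') n)) :=
  lam c.U c.hU ≫ (Scheme.Modules.pushforward (emb p chart c.U c.hU)).map
      (GrTwist.comap (fc φ c) (hirr c.U c.hU c.U' c.hU' c.hle) n) ≫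
    (Scheme.Modules.pushforwardComp (Proj.map (fc φ c) (hirr c.U c.hU c.U' c.hU' c.hle))
      (emb p chart c.U c.hU)).hom.app (GrTwist.twist (𝒮'.deg c.U' c.hU') n) ≫
    (Scheme.Modules.pushforwardCongr (emb_sq φ hirr hg c).symm).hom.app
      (GrTwist.twist (𝒮'.deg c.U' c.hU') n) ≫
    (Scheme.Modules.pushforwardComp (emb p' chart' c.U' c.hU') g).inv.app
      (GrTwist.twist (𝒮'.deg c.U' c.hU') n)

variable (lam') in
/-- the morphism `g_* L' ⟶ g_* emb'_* O(n)` -/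
noncomputable def bC (c : Pr ψ) :
    (Scheme.Modules.pushforward g).obj L' ⟶
      (Scheme.Modules.pushforward g).obj ((Scheme.Modules.pushforward
        (emb p' chart' c.U' c.hU')).obj (GrTwist.twist (𝒮'.deg c.U' c.hU') n)) :=
  (Scheme.Modules.pushforward g).map (lam' c.U' c.hU')

lemma val_aC (c : Pr ψ) (V : P.Opens) (s : Γ(L, V))
    (y : ProjectiveSpectrum (𝒮'.deg c.U' c.hU'))
    (hy : (emb p' chart' c.U' c.hU').base y ∈ g ⁻¹ᵁ V)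
    (hy' : (emb p chart c.U c.hU).base
      (ProjectiveSpectrum.comap (fc φ c) (hirr c.U c.hU c.U' c.hU' c.hle) y) ∈ V) :
    GrTwist.val (V := emb p' chart' c.U' c.hU' ⁻¹ᵁ (g ⁻¹ᵁ V)) ((aC φ hirr hg lam c).app V s)
      ⟨y, hy⟩ =
    GrTwist.locMap (fc φ c) (hirr c.U c.hU c.U' c.hU' c.hle) y
      (GrTwist.val (V := emb p chart c.U c.hU ⁻¹ᵁ V) ((lam c.U c.hU).app V s) ⟨_, hy'⟩) := rfl

lemma relC_iff (c : Pr ψ) (V : P.Opens) (s : Γ(L, V))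
    (t : Γ((Scheme.Modules.pushforward g).obj L', V)) :
    (bC lam' (g := g) c).app V t = (aC φ hirr hg lam c).app V s ↔
      RelC φ hirr lam lam' c V (g ⁻¹ᵁ V) s t := by
  constructor
  · intro H y hy hy'
    have := congrArg (fun z => GrTwist.val (V := emb p' chart' c.U' c.hU' ⁻¹ᵁ (g ⁻¹ᵁ V)) z ⟨y, hy⟩) H
    exact this
  · intro H
    apply GT.sect_ext
    rintro ⟨y, hy⟩
    have hy' : (emb p chart c.U c.hU).base
        (ProjectiveSpectrum.comap (fc φ c) (hirr c.U c.hU c.U' c.hU' c.hle) y) ∈ V := by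
      rw [← emb_sq_apply φ hirr hg c y]; exact hy
    exact H y hy hy'

include hφ hg hP hP' hL hL' in
/-- **the image of a section** -/
theorem existsUnique_img (V : P.Opens) (s : Γ(L, V)) :
    ∃! t : Γ(L', g ⁻¹ᵁ V), ∀ c : Pr ψ, RelC φ hirr lam lam' c V (g ⁻¹ᵁ V) s t := by
  let T : Pr ψ → P'.Opens := fun c => g ⁻¹ᵁ V ⊓ p' ⁻¹ᵁ c.U'
  have hTV : ∀ c, T c ≤ g ⁻¹ᵁ V := fun c => inf_le_left
  have hTU : ∀ c, T c ≤ p' ⁻¹ᵁ c.U' := fun c => inf_le_right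
  have hcover : g ⁻¹ᵁ V ≤ iSup T := by
    intro x hx
    obtain ⟨_, ⟨U, hU : IsAffineOpen U, rfl⟩, hxU, -⟩ :=
      Y.isBasis_affineOpens.exists_subset_of_mem_open (Set.mem_univ (ψ.base (p'.base x)))
        isOpen_univ
    obtain ⟨_, ⟨U', hU' : IsAffineOpen U', rfl⟩, hxU', hle⟩ :=
      Y'.isBasis_affineOpens.exists_subset_of_mem_open
        (show p'.base x ∈ ((ψ ⁻¹ᵁ U : Y'.Opens) : Set Y') from hxU) (ψ ⁻¹ᵁ U).isOpen
    exact Opens.mem_iSup.2 ⟨⟨U, hU, U', hU', hle⟩, hx, hxU'⟩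
  choose τ hτ using fun c : Pr ψ => exists_relC φ hirr hg hL' c V (T c) (hTU c) (hTV c) s
  have hcompat : TopCat.Presheaf.IsCompatible L'.presheaf T τ := by
    intro c c'
    have h1 := (hτ c).res φ hirr (le_refl V) (inf_le_left : T c ⊓ T c' ≤ T c)
    have h2 := (hτ c').res φ hirr (le_refl V) (inf_le_right : T c ⊓ T c' ≤ T c')
    have h3 := h1.indep u φ hφ hirr hg hP hP' hL hL' (c₁ := c) (c₂ := c')
      (inf_le_left.trans (hTU c)) (inf_le_right.trans (hTU c')) (inf_le_left.trans (hTV c))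
    exact RelC.unique φ hirr hg hL' (c := c') (inf_le_right.trans (hTU c'))
      (inf_le_left.trans (hTV c)) h3 h2
  obtain ⟨t, ht, -⟩ := TopCat.Sheaf.existsUnique_gluing'
    (⟨L'.presheaf, L'.isSheaf⟩ : TopCat.Sheaf Ab P') T (g ⁻¹ᵁ V) (fun c => homOfLE (hTV c))
    hcover τ hcompat
  refine ⟨t, fun c y hy hy' => ?_, fun t' ht' => ?_⟩
  · have hyT : (emb p' chart' c.U' c.hU').base y ∈ T c := ⟨hy, emb_mem p' chart' c.U' c.hU' y⟩
    have h1 : L'.presheaf.map (homOfLE (hTV c)).op t = τ c := ht c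
    have h2 := hτ c y hyT hy'
    rw [← h1, Groth.Agent.Helper4.StalkExact.app_res] at h2
    exact h2
  · apply Groth.Agent.Helper4.TwistExt.eq_of_cover L' (g ⁻¹ᵁ V)
    intro x hx
    obtain ⟨c, hc⟩ := Opens.mem_iSup.1 (hcover hx)
    refine ⟨T c, hTV c, hc, ?_⟩
    have h1 : L'.presheaf.map (homOfLE (hTV c)).op t = τ c := ht c
    rw [h1]
    have h2 := (ht' c).res φ hirr (le_refl V) (hTV c)
    have h3 := (hτ c).res φ hirr (le_refl V) (le_refl (T c))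
    have h4 : L'.presheaf.map (homOfLE (le_refl (T c))).op (τ c) = τ c := by
      have : (homOfLE (le_refl (T c))).op = 𝟙 (op (T c)) := rfl
      rw [this, L'.presheaf.map_id]
      rfl
    rw [h4] at h3
    exact RelC.unique φ hirr hg hL' (c := c) (hTU c) (hTV c) h2 h3

include hφ hP hP' hL hL' in
/-- **the comparison map `O_P(n) ⟶ g_* O_{P'}(n)`** -/
theorem exists_theta :
    ∃ θ : L ⟶ (Scheme.Modules.pushforward g).obj L',
      ∀ c : Pr ψ, θ ≫ bC lam' c = aC φ hirr hg lam c := by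
  classical
  have key := existsUnique_img u φ hφ hirr hg hP hP' hL hL'
  let img : ∀ V : P.Opens, Γ(L, V) → Γ((Scheme.Modules.pushforward g).obj L', V) :=
    fun V s => (key V s).choose
  have himg : ∀ (V : P.Opens) (s : Γ(L, V)) (c : Pr ψ),
      (bC lam' (g := g) c).app V (img V s) = (aC φ hirr hg lam c).app V s := fun V s c =>
    (relC_iff φ hirr hg c V s (img V s)).2 ((key V s).choose_spec.1 c)
  have huniq : ∀ (V : P.Opens) (s : Γ(L, V)) (t : Γ((Scheme.Modules.pushforward g).obj L', V)),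
      (∀ c : Pr ψ, (bC lam' (g := g) c).app V t = (aC φ hirr hg lam c).app V s) → t = img V s :=
    fun V s t h => (key V s).choose_spec.2 t (fun c => (relC_iff φ hirr hg c V s t).1 (h c))
  let W : Unit → P.Opens := fun _ => ⊤
  let tV : ∀ V : GlueHom.Small W, Γ(L, V.1) →+ Γ((Scheme.Modules.pushforward g).obj L', V.1) :=
    fun V =>
      { toFun := img V.1
        map_zero' := (huniq _ _ _ (fun c => by rw [map_zero, map_zero])).symm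
        map_add' := fun s s' =>
          (huniq _ _ _ (fun c => by rw [map_add, map_add, himg, himg])).symm }
  have hnat : ∀ (V V' : GlueHom.Small W) (h : V'.1 ≤ V.1) (s : Γ(L, V.1)),
      ((Scheme.Modules.pushforward g).obj L').presheaf.map (homOfLE h).op (tV V s) =
        tV V' (L.presheaf.map (homOfLE h).op s) := by
    intro V V' h s
    apply huniq
    intro c
    rw [Groth.Agent.Helper4.StalkExact.app_res, Groth.Agent.Helper4.StalkExact.app_res]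
    exact congrArg _ (himg V.1 s c)
  have hlin : ∀ (V : GlueHom.Small W) (f : Γ(P, V.1)) (s : Γ(L, V.1)),
      tV V (f • s) = f • tV V s := by
    intro V f s
    symm
    apply huniq
    intro c
    rw [Scheme.Modules.Hom.app_smul, Scheme.Modules.Hom.app_smul]
    exact congrArg _ (himg V.1 s c)
  obtain ⟨θ, hθ⟩ := GlueHom.exists_glue (N := L) (L := (Scheme.Modules.pushforward g).obj L') W tV
    hnat hlin (by simp [W])
  refine ⟨θ, fun c => ?_⟩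
  apply Scheme.Modules.hom_ext
  intro V
  ext s
  change (bC lam' (g := g) c).app V (θ.app V s) = (aC φ hirr hg lam c).app V s
  rw [hθ ⟨V, (), le_top⟩ s]
  exact himg V s c

end Groth.Agent.Helper4.SN280
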