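import Mathlib

/-!
# Transport of `IsBaseChange` along isomorphisms of all the data
-/

set_option autoImplicit false
set_option linter.style.haveILetI false

namespace Groth.Agent.Helper4.SN281

universe u

theorem isBaseChange_of_equivs {S T N P S₀ T₀ N₀ P₀ : Type u}
    [CommRing S] [CommRing T] [Algebra S T] [AddCommGroup N] [Module S N] [AddCommGroup P]
    [Module T P] [Module S P] [IsScalarTower S T P]
    [CommRing S₀] [CommRing T₀] [Algebra S₀ T₀] [AddCommGroup N₀] [Module S₀ N₀] [AddCommGroup P₀]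
    [Module T₀ P₀] [Module S₀ P₀] [IsScalarTower S₀ T₀ P₀]
    (σ : S ≃+* S₀) (τ : T ≃+* T₀) (hστ : ∀ s, τ (algebraMap S T s) = algebraMap S₀ T₀ (σ s))
    (eN : N ≃+ N₀) (heN : ∀ (s : S) (n : N), eN (s • n) = σ s • eN n)
    (eP : P ≃+ P₀) (heP : ∀ (t : T) (p : P), eP (t • p) = τ t • eP p)
    (β : N →ₗ[S] P) (β₀ : N₀ →ₗ[S₀] P₀) (hβ : ∀ n, eP (β n) = β₀ (eN n))
    (h₀ : IsBaseChange T₀ β₀) : IsBaseChange T β := by
  apply IsBaseChange.of_lift_unique
  intro Q _ _ _ _ w
  letI : Module T₀ Q := Module.compHom Q (τ.symm : T₀ →+* T)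
  letI : Module S₀ Q := Module.compHom Q (σ.symm : S₀ →+* S)
  have hT₀ : ∀ (t₀ : T₀) (q : Q), t₀ • q = τ.symm t₀ • q := fun _ _ => rfl
  have hS₀ : ∀ (s₀ : S₀) (q : Q), s₀ • q = σ.symm s₀ • q := fun _ _ => rfl
  have hστ' : ∀ s₀, τ.symm (algebraMap S₀ T₀ s₀) = algebraMap S T (σ.symm s₀) := by
    intro s₀
    apply τ.injective
    rw [τ.apply_symm_apply, hστ, σ.apply_symm_apply]
  haveI : IsScalarTower S₀ T₀ Q := ⟨fun s₀ t₀ q => by
    rw [hT₀, hS₀, hT₀, Algebra.smul_def, map_mul, hστ', mul_smul, algebraMap_smul]⟩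
  have heN' : ∀ (s₀ : S₀) (n₀ : N₀), eN.symm (s₀ • n₀) = σ.symm s₀ • eN.symm n₀ := by
    intro s₀ n₀
    apply eN.injective
    rw [eN.apply_symm_apply, heN, σ.apply_symm_apply, eN.apply_symm_apply]
  have heP' : ∀ (t₀ : T₀) (p₀ : P₀), eP.symm (t₀ • p₀) = τ.symm t₀ • eP.symm p₀ := by
    intro t₀ p₀
    apply eP.injective
    rw [eP.apply_symm_apply, heP, τ.apply_symm_apply, eP.apply_symm_apply]
  let w₀ : N₀ →ₗ[S₀] Q :=
    { toFun := fun n₀ => w (eN.symm n₀)
      map_add' := fun a b => by rw [map_add, map_add]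
      map_smul' := fun s₀ n₀ => by
        rw [heN', map_smul]
        rfl }
  let w₀' : P₀ →ₗ[T₀] Q := h₀.lift w₀
  have hw₀' : ∀ n₀, w₀' (β₀ n₀) = w (eN.symm n₀) := fun n₀ => h₀.lift_eq w₀ n₀
  refine ⟨{ toFun := fun p => w₀' (eP p)
            map_add' := fun a b => by rw [map_add, map_add]
            map_smul' := fun t p => by
              rw [heP, map_smul, hT₀, τ.symm_apply_apply]
              rfl }, ?_, ?_⟩
  · ext n
    change w₀' (eP (β n)) = w n
    rw [hβ, hw₀', eN.symm_apply_apply]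
  · intro w'' hw''
    let w₀'' : P₀ →ₗ[T₀] Q :=
      { toFun := fun p₀ => w'' (eP.symm p₀)
        map_add' := fun a b => by rw [map_add, map_add]
        map_smul' := fun t₀ p₀ => by
          rw [heP', map_smul]
          rfl }
    have h1 : w₀'' = w₀' := by
      apply h₀.algHom_ext
      intro n₀
      change w'' (eP.symm (β₀ n₀)) = w₀' (β₀ n₀)
      rw [hw₀']
      have h2 := hβ (eN.symm n₀)
      rw [eN.apply_symm_apply] at h2
      rw [← h2, eP.symm_apply_apply]
      exact LinearMap.congr_fun hw'' (eN.symm n₀)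
    ext p
    have h3 := LinearMap.congr_fun h1 (eP p)
    change w'' (eP.symm (eP p)) = w₀' (eP p) at h3
    rw [eP.symm_apply_apply] at h3
    exact h3

end Groth.Agent.Helper4.SN281
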