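import Mathlib
import Groth.Prelude.Def_RelProj3
import Groth.Agent.Helper1.TR0
import Groth.Agent.Helper1.TR17
import Groth.Agent.Helper1.TR20
import Groth.Agent.Helper1.GM8
import Groth.Agent.Helper4.SN279
import Groth.Agent.Helper4.SN280
import Groth.Agent.Helper4.SN281a

/-!
# Sections of `O_P(n)` over the image of `D₊(b)` in a chart, as sections of `𝒮(U)(n)~`
-/

set_option autoImplicit false
set_option linter.unusedSectionVars false
set_option linter.style.haveILetI false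

namespace Groth.Agent.Helper4.SN281

open CategoryTheory CategoryTheory.Limits AlgebraicGeometry TopologicalSpace Opposite RelProj
open Groth.Agent.Helper1 Groth.Agent.Helper1.RP
open scoped HomogeneousIdeal

universe u

section algebra

theorem exists_isBaseChange_of_equivs {S T N P S₀ T₀ N₀ P₀ : Type u}
    [CommRing S] [CommRing T] [Algebra S T] [AddCommGroup N] [Module S N] [AddCommGroup P]
    [Module T P] [Module S P] [IsScalarTower S T P]
    [CommRing S₀] [CommRing T₀] [Algebra S₀ T₀] [AddCommGroup N₀] [Module S₀ N₀] [AddCommGroup P₀]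
    [Module T₀ P₀] [Module S₀ P₀] [IsScalarTower S₀ T₀ P₀]
    (σ : S ≃+* S₀) (τ : T ≃+* T₀) (hστ : ∀ s, τ (algebraMap S T s) = algebraMap S₀ T₀ (σ s))
    (eN : N ≃+ N₀) (heN : ∀ (s : S) (n : N), eN (s • n) = σ s • eN n)
    (eP : P ≃+ P₀) (heP : ∀ (t : T) (p : P), eP (t • p) = τ t • eP p)
    (β : N → P) (β₀ : N₀ →ₗ[S₀] P₀) (hβ : ∀ n, eP (β n) = β₀ (eN n))
    (h₀ : IsBaseChange T₀ β₀) :
    ∃ β' : N →ₗ[S] P, (∀ n, β' n = β n) ∧ IsBaseChange T β' := by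
  let β' : N →ₗ[S] P :=
    { toFun := β
      map_add' := fun a b => by
        apply eP.injective
        rw [hβ, map_add, map_add, map_add, hβ, hβ]
      map_smul' := fun s a => by
        apply eP.injective
        rw [RingHom.id_apply, hβ, heN, map_smul, ← algebraMap_smul T s (β a), heP, hστ,
          algebraMap_smul, hβ] }
  exact ⟨β', fun _ => rfl, isBaseChange_of_equivs σ τ hστ eN heN eP heP β' β₀ hβ h₀⟩

end algebra

section chart

variable {Y P : Scheme.{u}} {𝒮 : QCGrAlg Y} {p : P ⟶ Y}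
  {chart : ∀ (U : Y.Opens) (hU : IsAffineOpen U),
    (((p ⁻¹ᵁ U : P.Opens) : Scheme.{u}) ≅ Proj (𝒮.deg U hU))}
  {n : ℤ} {L : P.Modules}
  {lam : ∀ (U : Y.Opens) (hU : IsAffineOpen U),
    L ⟶ (Scheme.Modules.pushforward (emb p chart U hU)).obj (GrTwist.twist (𝒮.deg U hU) n)}
  (hL : IsRelTwist 𝒮 p chart n L lam)
  (U : Y.Opens) (hU : IsAffineOpen U) (b : 𝒮.presheaf.obj (op U))

/-- the image of `D₊(b)` in `P` -/
noncomputable abbrev Wb : P.Opens := (emb p chart U hU) ''ᵁ (Proj.basicOpen (𝒮.deg U hU) b)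

lemma Wb_le : Wb (p := p) (chart := chart) U hU b ≤ p ⁻¹ᵁ U := by
  rintro _ ⟨z, -, rfl⟩
  exact emb_mem p chart U hU z

lemma pre_Wb : emb p chart U hU ⁻¹ᵁ (Wb (p := p) (chart := chart) U hU b) =
    Proj.basicOpen (𝒮.deg U hU) b := Scheme.Hom.preimage_image_eq _ _

/-- functions on the image of `D₊(b)` are functions on `D₊(b)` -/
noncomputable def σW : Γ(P, Wb (p := p) (chart := chart) U hU b) ≃+*
    Γ(Proj (𝒮.deg U hU), Proj.basicOpen (𝒮.deg U hU) b) :=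
  ((emb p chart U hU).appIso (Proj.basicOpen (𝒮.deg U hU) b)).commRingCatIsoToRingEquiv

lemma σW_apply (s : Γ(P, Wb (p := p) (chart := chart) U hU b)) :
    σW (p := p) (chart := chart) U hU b s =
      ((emb p chart U hU).appLE (Wb (p := p) (chart := chart) U hU b)
        (Proj.basicOpen (𝒮.deg U hU) b) (pre_Wb U hU b).ge).hom s := by
  change (((emb p chart U hU).appIso (Proj.basicOpen (𝒮.deg U hU) b)).hom).hom s = _
  rw [Scheme.Hom.appIso_hom']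

/-- the sections of `O(n)` over the preimage of the image of `D₊(b)`, as sections of `𝒮(U)(n)~` over `D₊(b)` -/
noncomputable def e0 : Γ(GrTwist.twist (𝒮.deg U hU) n,
      emb p chart U hU ⁻¹ᵁ (Wb (p := p) (chart := chart) U hU b)) →+
    Γ(GrMod.tilde (𝒮.deg U hU) (𝒮.deg U hU) n, Proj.basicOpen (𝒮.deg U hU) b) :=
  (AddCommGrpCat.Hom.hom ((TR0.fwd (𝒮.deg U hU) n).app (Proj.basicOpen (𝒮.deg U hU) b))).comp
    (AddCommGrpCat.Hom.hom ((GrTwist.twist (𝒮.deg U hU) n).presheaf.map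
      (homOfLE (pre_Wb (p := p) (chart := chart) U hU b).ge).op))

lemma val_e0 (t : Γ(GrTwist.twist (𝒮.deg U hU) n,
      emb p chart U hU ⁻¹ᵁ (Wb (p := p) (chart := chart) U hU b)))
    (y : (Proj.basicOpen (𝒮.deg U hU) b : (Proj (𝒮.deg U hU)).Opens)) :
    GrMod.val (e0 (p := p) (chart := chart) (n := n) U hU b t) y =
      GrTwist.val t ⟨y.1, (pre_Wb (p := p) (chart := chart) U hU b).ge y.2⟩ := rfl

lemma e0_bijective : Function.Bijective (e0 (p := p) (chart := chart) (n := n) U hU b) := by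
  constructor
  · intro t t' h
    apply GT.sect_ext
    rintro ⟨y, hy⟩
    have hy' : y ∈ Proj.basicOpen (𝒮.deg U hU) b := (pre_Wb (p := p) (chart := chart) U hU b).le hy
    have := congrArg (fun z => GrMod.val z ⟨y, hy'⟩) h
    exact this
  · intro t₀
    refine ⟨(GrTwist.twist (𝒮.deg U hU) n).presheaf.map
      (homOfLE (pre_Wb (p := p) (chart := chart) U hU b).le).op
      ((TR0.bwd (𝒮.deg U hU) n).app (Proj.basicOpen (𝒮.deg U hU) b) t₀), ?_⟩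
    apply GM.sect_ext
    intro y
    rfl

lemma e0_smul (r : Γ(Proj (𝒮.deg U hU), emb p chart U hU ⁻¹ᵁ (Wb (p := p) (chart := chart) U hU b)))
    (t : Γ(GrTwist.twist (𝒮.deg U hU) n,
      emb p chart U hU ⁻¹ᵁ (Wb (p := p) (chart := chart) U hU b))) :
    e0 (p := p) (chart := chart) (n := n) U hU b (r • t) =
      ((Proj (𝒮.deg U hU)).presheaf.map
        (homOfLE (pre_Wb (p := p) (chart := chart) U hU b).ge).op).hom r •
      e0 (p := p) (chart := chart) (n := n) U hU b t := by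
  change (TR0.fwd (𝒮.deg U hU) n).app (Proj.basicOpen (𝒮.deg U hU) b)
    ((GrTwist.twist (𝒮.deg U hU) n).presheaf.map
      (homOfLE (pre_Wb (p := p) (chart := chart) U hU b).ge).op (r • t)) = _
  rw [Scheme.Modules.map_smul, Scheme.Modules.Hom.app_smul]
  rfl

include hL in
/-- the sections of `O_P(n)` over the image of `D₊(b)`, as sections of `𝒮(U)(n)~` over `D₊(b)` -/
noncomputable def eW : Γ(L, Wb (p := p) (chart := chart) U hU b) ≃+
    Γ(GrMod.tilde (𝒮.deg U hU) (𝒮.deg U hU) n, Proj.basicOpen (𝒮.deg U hU) b) :=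
  AddEquiv.ofBijective ((e0 (p := p) (chart := chart) (n := n) U hU b).comp
      (AddCommGrpCat.Hom.hom ((lam U hU).app (Wb (p := p) (chart := chart) U hU b))))
    ((e0_bijective U hU b).comp (hL.bijective U hU _ (Wb_le U hU b)))

lemma val_eW (m : Γ(L, Wb (p := p) (chart := chart) U hU b))
    (y : (Proj.basicOpen (𝒮.deg U hU) b : (Proj (𝒮.deg U hU)).Opens)) :
    GrMod.val (eW hL U hU b m) y =
      GrTwist.val (V := emb p chart U hU ⁻¹ᵁ (Wb (p := p) (chart := chart) U hU b))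
        ((lam U hU).app (Wb (p := p) (chart := chart) U hU b) m)
        ⟨y.1, (pre_Wb (p := p) (chart := chart) U hU b).ge y.2⟩ := rfl

lemma eW_smul (s : Γ(P, Wb (p := p) (chart := chart) U hU b))
    (m : Γ(L, Wb (p := p) (chart := chart) U hU b)) :
    eW hL U hU b (s • m) = σW (p := p) (chart := chart) U hU b s • eW hL U hU b m := by
  change e0 (p := p) (chart := chart) (n := n) U hU b
    ((lam U hU).app (Wb (p := p) (chart := chart) U hU b) (s • m)) = _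
  rw [Scheme.Modules.Hom.app_smul]
  rw [σW_apply]
  exact e0_smul U hU b ((emb p chart U hU).app _ s) _

end chart

section locMap

variable {A σA : Type u} [CommRing A] [SetLike σA A] [AddSubgroupClass σA A] {𝒜 : ℕ → σA}
  [GradedRing 𝒜]
variable {B σB : Type u} [CommRing B] [SetLike σB B] [AddSubgroupClass σB B] {ℬ : ℕ → σB}
  [GradedRing ℬ]

lemma locModMap_eq (Φ : 𝒜 →+*ᵍ ℬ) (hΦ : ℬ₊ ≤ (𝒜₊).map Φ) (y : ProjectiveSpectrum ℬ)
    (q : GrTwist.Loc 𝒜 (ProjectiveSpectrum.comap Φ hΦ y)) :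
    (GrMod.locModMap Φ hΦ (SN279.vφ Φ) y q : GrTwist.Loc ℬ y) = GrTwist.locMap Φ hΦ y q := by
  induction q using Localization.induction_on with
  | H q =>
  obtain ⟨a, s⟩ := q
  rw [GrTwist.locMap_mk]
  rfl

end locMap

section main

open Groth.Agent.Helper4.SN280

variable {Y Y' P P' : Scheme.{u}} {ψ : Y' ⟶ Y} {𝒮 : QCGrAlg Y} {𝒮' : QCGrAlg Y'}
variable (u : 𝒮.presheaf ⟶ ψ.base _* 𝒮'.presheaf)
  (φ : ∀ (U : Y.Opens) (hU : IsAffineOpen U) (U' : Y'.Opens) (hU' : IsAffineOpen U')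
    (_ : U' ≤ ψ ⁻¹ᵁ U), 𝒮.deg U hU →+*ᵍ 𝒮'.deg U' hU')
  (hφ : ∀ (U : Y.Opens) (hU : IsAffineOpen U) (U' : Y'.Opens) (hU' : IsAffineOpen U')
    (hle : U' ≤ ψ ⁻¹ᵁ U), (φ U hU U' hU' hle).toRingHom =
      ((u.app (op U) : 𝒮.presheaf.obj (op U) ⟶ 𝒮'.presheaf.obj (op (ψ ⁻¹ᵁ U))) ≫
        𝒮'.presheaf.map (homOfLE hle).op).hom)
  (hirr : ∀ (U : Y.Opens) (hU : IsAffineOpen U) (U' : Y'.Opens) (hU' : IsAffineOpen U')
    (hle : U' ≤ ψ ⁻¹ᵁ U), (𝒮'.deg U' hU')₊ ≤ ((𝒮.deg U hU)₊).map (φ U hU U' hU' hle))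
  {p : P ⟶ Y}
  {chart : ∀ (U : Y.Opens) (hU : IsAffineOpen U),
    (((p ⁻¹ᵁ U : P.Opens) : Scheme.{u}) ≅ Proj (𝒮.deg U hU))}
  {p' : P' ⟶ Y'}
  {chart' : ∀ (U' : Y'.Opens) (hU' : IsAffineOpen U'),
    (((p' ⁻¹ᵁ U' : P'.Opens) : Scheme.{u}) ≅ Proj (𝒮'.deg U' hU'))}
  {g : P' ⟶ P}
  (hg : ∀ (U : Y.Opens) (hU : IsAffineOpen U) (U' : Y'.Opens) (hU' : IsAffineOpen U')
    (hle : U' ≤ ψ ⁻¹ᵁ U), (p' ⁻¹ᵁ U').ι ≫ g =
      (chart' U' hU').hom ≫ Proj.map (φ U hU U' hU' hle) (hirr U hU U' hU' hle) ≫ emb p chart U hU)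
  {n : ℤ} {L : P.Modules}
  {lam : ∀ (U : Y.Opens) (hU : IsAffineOpen U),
    L ⟶ (Scheme.Modules.pushforward (emb p chart U hU)).obj (GrTwist.twist (𝒮.deg U hU) n)}
  {L' : P'.Modules}
  {lam' : ∀ (U' : Y'.Opens) (hU' : IsAffineOpen U'),
    L' ⟶ (Scheme.Modules.pushforward (emb p' chart' U' hU')).obj
      (GrTwist.twist (𝒮'.deg U' hU') n)}
  (hL : IsRelTwist 𝒮 p chart n L lam) (hL' : IsRelTwist 𝒮' p' chart' n L' lam')

include hg in
lemma Wb_le_preimage (c : Pr ψ) (b : 𝒮.presheaf.obj (op c.U)) :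
    Wb (p := p') (chart := chart') c.U' c.hU' (fc φ c b) ≤
      g ⁻¹ᵁ Wb (p := p) (chart := chart) c.U c.hU b := by
  rintro _ ⟨z, hz, rfl⟩
  change g.base ((emb p' chart' c.U' c.hU').base z) ∈
    (Wb (p := p) (chart := chart) c.U c.hU b : Set P)
  rw [emb_sq_apply φ hirr hg c z]
  exact ⟨_, hz, rfl⟩

lemma appLE_congr_hom {X Z : Scheme.{u}} {f f' : X ⟶ Z} (h : f = f') (V : Z.Opens) (V' : X.Opens)
    (e : V' ≤ f ⁻¹ᵁ V) : f.appLE V V' e = f'.appLE V V' (h ▸ e) := by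
  subst h
  rfl

include hg in
lemma σW_appLE (c : Pr ψ) (b : 𝒮.presheaf.obj (op c.U))
    (s : Γ(P, Wb (p := p) (chart := chart) c.U c.hU b)) :
    σW (p := p') (chart := chart') c.U' c.hU' (fc φ c b)
        ((g.appLE _ _ (Wb_le_preimage φ hirr hg c b)).hom s) =
      ((Proj.map (fc φ c) (hirr c.U c.hU c.U' c.hU' c.hle)).appLE
        (Proj.basicOpen (𝒮.deg c.U c.hU) b) (Proj.basicOpen (𝒮'.deg c.U' c.hU') (fc φ c b))
        (GMH.basicOpen_le (fc φ c) (hirr c.U c.hU c.U' c.hU' c.hle))).hom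
        (σW (p := p) (chart := chart) c.U c.hU b s) := by
  rw [σW_apply, σW_apply]
  change (g.appLE _ _ (Wb_le_preimage φ hirr hg c b) ≫ (emb p' chart' c.U' c.hU').appLE _ _ _).hom s =
    ((emb p chart c.U c.hU).appLE _ _ _ ≫ (Proj.map (fc φ c) _).appLE _ _ _).hom s
  rw [Scheme.Hom.appLE_comp_appLE, Scheme.Hom.appLE_comp_appLE,
    appLE_congr_hom (emb_sq φ hirr hg c)]

include hL hL' in
lemma eW_theta (θ : L ⟶ (Scheme.Modules.pushforward g).obj L')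
    (hθ : ∀ c : Pr ψ, θ ≫ bC lam' c = aC φ hirr hg lam c)
    (c : Pr ψ) (b : 𝒮.presheaf.obj (op c.U)) (m : Γ(L, Wb (p := p) (chart := chart) c.U c.hU b)) :
    eW hL' c.U' c.hU' (fc φ c b)
        (L'.presheaf.map (homOfLE (Wb_le_preimage φ hirr hg c b)).op
          (θ.app (Wb (p := p) (chart := chart) c.U c.hU b) m)) =
      GMH.secMap (𝒮.deg c.U c.hU) (𝒮'.deg c.U' c.hU') (fc φ c) (hirr c.U c.hU c.U' c.hU' c.hle)
        (SN279.vφ (fc φ c)) (fun _ _ hm => (fc φ c).map_mem hm) n (eW hL c.U c.hU b m) := by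
  apply GM.sect_ext
  intro y
  rw [val_eW, GMH.val_secMap, val_eW, Groth.Agent.Helper4.StalkExact.app_res]
  have h1 : (bC lam' (g := g) c).app (Wb (p := p) (chart := chart) c.U c.hU b)
      (θ.app (Wb (p := p) (chart := chart) c.U c.hU b) m) =
      (aC φ hirr hg lam c).app (Wb (p := p) (chart := chart) c.U c.hU b) m := by
    rw [← hθ c]
    rfl
  have h2 := (relC_iff φ hirr hg c _ m _).1 h1
  have hy1 : (emb p' chart' c.U' c.hU').base y.1 ∈
      g ⁻¹ᵁ Wb (p := p) (chart := chart) c.U c.hU b :=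
    Wb_le_preimage φ hirr hg c b ⟨y.1, y.2, rfl⟩
  have hy2 : (emb p chart c.U c.hU).base
      (ProjectiveSpectrum.comap (fc φ c) (hirr c.U c.hU c.U' c.hU' c.hle) y.1) ∈
      Wb (p := p) (chart := chart) c.U c.hU b :=
    ⟨_, GMH.basicOpen_le (fc φ c) (hirr c.U c.hU c.U' c.hU' c.hle) y.2, rfl⟩
  exact (h2 y.1 hy1 hy2).trans (locModMap_eq (fc φ c) (hirr c.U c.hU c.U' c.hU' c.hle) y.1 _).symm

include hφ in
theorem exists_isBaseChange_secMap_pair (c : Pr ψ)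
    (hpo : IsPushout (ψ.appLE c.U c.U' c.hle) (𝒮.str.app (op c.U)) (𝒮'.str.app (op c.U'))
      ((u.app (op c.U) : 𝒮.presheaf.obj (op c.U) ⟶ 𝒮'.presheaf.obj (op (ψ ⁻¹ᵁ c.U))) ≫
        𝒮'.presheaf.map (homOfLE c.hle).op))
    (n : ℤ) {e : ℕ} (he : 0 < e) {b : 𝒮.presheaf.obj (op c.U)} (hb : b ∈ 𝒮.deg c.U c.hU e) :
    letI := ((Proj.map (fc φ c) (hirr c.U c.hU c.U' c.hU' c.hle)).appLE
      (Proj.basicOpen (𝒮.deg c.U c.hU) b) (Proj.basicOpen (𝒮'.deg c.U' c.hU') (fc φ c b))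
      (GMH.basicOpen_le (fc φ c) (hirr c.U c.hU c.U' c.hU' c.hle))).hom.toAlgebra
    letI : Module Γ(Proj (𝒮.deg c.U c.hU), Proj.basicOpen (𝒮.deg c.U c.hU) b)
        Γ(GrMod.tilde (𝒮'.deg c.U' c.hU') (𝒮'.deg c.U' c.hU') n,
          Proj.basicOpen (𝒮'.deg c.U' c.hU') (fc φ c b)) :=
      Module.compHom _ ((Proj.map (fc φ c) (hirr c.U c.hU c.U' c.hU' c.hle)).appLE
        (Proj.basicOpen (𝒮.deg c.U c.hU) b) (Proj.basicOpen (𝒮'.deg c.U' c.hU') (fc φ c b))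
        (GMH.basicOpen_le (fc φ c) (hirr c.U c.hU c.U' c.hU' c.hle))).hom
    haveI : IsScalarTower Γ(Proj (𝒮.deg c.U c.hU), Proj.basicOpen (𝒮.deg c.U c.hU) b)
        Γ(Proj (𝒮'.deg c.U' c.hU'), Proj.basicOpen (𝒮'.deg c.U' c.hU') (fc φ c b))
        Γ(GrMod.tilde (𝒮'.deg c.U' c.hU') (𝒮'.deg c.U' c.hU') n,
          Proj.basicOpen (𝒮'.deg c.U' c.hU') (fc φ c b)) := IsScalarTower.of_compHom _ _ _
    ∃ β : Γ(GrMod.tilde (𝒮.deg c.U c.hU) (𝒮.deg c.U c.hU) n, Proj.basicOpen (𝒮.deg c.U c.hU) b)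
        →ₗ[Γ(Proj (𝒮.deg c.U c.hU), Proj.basicOpen (𝒮.deg c.U c.hU) b)]
        Γ(GrMod.tilde (𝒮'.deg c.U' c.hU') (𝒮'.deg c.U' c.hU') n,
          Proj.basicOpen (𝒮'.deg c.U' c.hU') (fc φ c b)),
      (∀ m, β m = GMH.secMap (𝒮.deg c.U c.hU) (𝒮'.deg c.U' c.hU') (fc φ c)
        (hirr c.U c.hU c.U' c.hU' c.hle) (SN279.vφ (fc φ c))
        (fun _ _ hm => (fc φ c).map_mem hm) n m) ∧
      IsBaseChange Γ(Proj (𝒮'.deg c.U' c.hU'), Proj.basicOpen (𝒮'.deg c.U' c.hU') (fc φ c b)) β := by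
  letI : Algebra Γ(Y, c.U) Γ(Y', c.U') := (ψ.appLE c.U c.U' c.hle).hom.toAlgebra
  letI : Algebra Γ(Y, c.U) (𝒮.presheaf.obj (op c.U)) := (𝒮.str.app (op c.U)).hom.toAlgebra
  letI : Algebra Γ(Y', c.U') (𝒮'.presheaf.obj (op c.U')) := (𝒮'.str.app (op c.U')).hom.toAlgebra
  letI : Algebra (𝒮.presheaf.obj (op c.U)) (𝒮'.presheaf.obj (op c.U')) :=
    ((u.app (op c.U) : 𝒮.presheaf.obj (op c.U) ⟶ 𝒮'.presheaf.obj (op (ψ ⁻¹ᵁ c.U))) ≫
      𝒮'.presheaf.map (homOfLE c.hle).op).hom.toAlgebra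
  letI : Algebra Γ(Y, c.U) (𝒮'.presheaf.obj (op c.U')) :=
    (ψ.appLE c.U c.U' c.hle ≫ 𝒮'.str.app (op c.U')).hom.toAlgebra
  haveI : IsScalarTower Γ(Y, c.U) Γ(Y', c.U') (𝒮'.presheaf.obj (op c.U')) :=
    IsScalarTower.of_algebraMap_eq (fun x => rfl)
  haveI : IsScalarTower Γ(Y, c.U) (𝒮.presheaf.obj (op c.U)) (𝒮'.presheaf.obj (op c.U')) :=
    IsScalarTower.of_algebraMap_eq (fun x => congrArg (fun f => f.hom x) hpo.w)
  haveI : Algebra.IsPushout Γ(Y, c.U) Γ(Y', c.U') (𝒮.presheaf.obj (op c.U))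
      (𝒮'.presheaf.obj (op c.U')) := CommRingCat.isPushout_iff_isPushout.mp hpo
  exact SN279.exists_isBaseChange_secMap (𝒮.deg c.U c.hU) (𝒮.str_mem c.U c.hU)
    (𝒮'.deg c.U' c.hU') (𝒮'.str_mem c.U' c.hU') (fc φ c) (fc_apply u φ hφ c)
    (hirr c.U c.hU c.U' c.hU' c.hle) n he hb

include hφ hL hL' in
theorem exists_isBaseChange_theta (θ : L ⟶ (Scheme.Modules.pushforward g).obj L')
    (hθ : ∀ c : Pr ψ, θ ≫ bC lam' c = aC φ hirr hg lam c) (c : Pr ψ)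
    (hpo : IsPushout (ψ.appLE c.U c.U' c.hle) (𝒮.str.app (op c.U)) (𝒮'.str.app (op c.U'))
      ((u.app (op c.U) : 𝒮.presheaf.obj (op c.U) ⟶ 𝒮'.presheaf.obj (op (ψ ⁻¹ᵁ c.U))) ≫
        𝒮'.presheaf.map (homOfLE c.hle).op))
    {e : ℕ} (he : 0 < e) {b : 𝒮.presheaf.obj (op c.U)} (hb : b ∈ 𝒮.deg c.U c.hU e) :
    letI := (g.appLE (Wb (p := p) (chart := chart) c.U c.hU b)
      (Wb (p := p') (chart := chart') c.U' c.hU' (fc φ c b))
      (Wb_le_preimage φ hirr hg c b)).hom.toAlgebra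
    letI : Module Γ(P, Wb (p := p) (chart := chart) c.U c.hU b)
        Γ(L', Wb (p := p') (chart := chart') c.U' c.hU' (fc φ c b)) :=
      Module.compHom _ (g.appLE (Wb (p := p) (chart := chart) c.U c.hU b)
        (Wb (p := p') (chart := chart') c.U' c.hU' (fc φ c b))
        (Wb_le_preimage φ hirr hg c b)).hom
    haveI : IsScalarTower Γ(P, Wb (p := p) (chart := chart) c.U c.hU b)
        Γ(P', Wb (p := p') (chart := chart') c.U' c.hU' (fc φ c b))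
        Γ(L', Wb (p := p') (chart := chart') c.U' c.hU' (fc φ c b)) :=
      IsScalarTower.of_compHom _ _ _
    ∃ β : Γ(L, Wb (p := p) (chart := chart) c.U c.hU b)
        →ₗ[Γ(P, Wb (p := p) (chart := chart) c.U c.hU b)]
        Γ(L', Wb (p := p') (chart := chart') c.U' c.hU' (fc φ c b)),
      (∀ m, β m = L'.presheaf.map (homOfLE (Wb_le_preimage φ hirr hg c b)).op
        (θ.app (Wb (p := p) (chart := chart) c.U c.hU b) m)) ∧
      IsBaseChange Γ(P', Wb (p := p') (chart := chart') c.U' c.hU' (fc φ c b)) β := by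
  letI := (g.appLE (Wb (p := p) (chart := chart) c.U c.hU b)
    (Wb (p := p') (chart := chart') c.U' c.hU' (fc φ c b))
    (Wb_le_preimage φ hirr hg c b)).hom.toAlgebra
  letI : Module Γ(P, Wb (p := p) (chart := chart) c.U c.hU b)
      Γ(L', Wb (p := p') (chart := chart') c.U' c.hU' (fc φ c b)) :=
    Module.compHom _ (g.appLE (Wb (p := p) (chart := chart) c.U c.hU b)
      (Wb (p := p') (chart := chart') c.U' c.hU' (fc φ c b))
      (Wb_le_preimage φ hirr hg c b)).hom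
  haveI : IsScalarTower Γ(P, Wb (p := p) (chart := chart) c.U c.hU b)
      Γ(P', Wb (p := p') (chart := chart') c.U' c.hU' (fc φ c b))
      Γ(L', Wb (p := p') (chart := chart') c.U' c.hU' (fc φ c b)) :=
    IsScalarTower.of_compHom _ _ _
  letI := ((Proj.map (fc φ c) (hirr c.U c.hU c.U' c.hU' c.hle)).appLE
    (Proj.basicOpen (𝒮.deg c.U c.hU) b) (Proj.basicOpen (𝒮'.deg c.U' c.hU') (fc φ c b))
    (GMH.basicOpen_le (fc φ c) (hirr c.U c.hU c.U' c.hU' c.hle))).hom.toAlgebra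
  letI : Module Γ(Proj (𝒮.deg c.U c.hU), Proj.basicOpen (𝒮.deg c.U c.hU) b)
      Γ(GrMod.tilde (𝒮'.deg c.U' c.hU') (𝒮'.deg c.U' c.hU') n,
        Proj.basicOpen (𝒮'.deg c.U' c.hU') (fc φ c b)) :=
    Module.compHom _ ((Proj.map (fc φ c) (hirr c.U c.hU c.U' c.hU' c.hle)).appLE
      (Proj.basicOpen (𝒮.deg c.U c.hU) b) (Proj.basicOpen (𝒮'.deg c.U' c.hU') (fc φ c b))
      (GMH.basicOpen_le (fc φ c) (hirr c.U c.hU c.U' c.hU' c.hle))).hom
  haveI : IsScalarTower Γ(Proj (𝒮.deg c.U c.hU), Proj.basicOpen (𝒮.deg c.U c.hU) b)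
      Γ(Proj (𝒮'.deg c.U' c.hU'), Proj.basicOpen (𝒮'.deg c.U' c.hU') (fc φ c b))
      Γ(GrMod.tilde (𝒮'.deg c.U' c.hU') (𝒮'.deg c.U' c.hU') n,
        Proj.basicOpen (𝒮'.deg c.U' c.hU') (fc φ c b)) := IsScalarTower.of_compHom _ _ _
  obtain ⟨β₀, hβ₀, hbc⟩ := exists_isBaseChange_secMap_pair u φ hφ hirr c hpo n he hb
  exact exists_isBaseChange_of_equivs (σW (p := p) (chart := chart) c.U c.hU b)
    (σW (p := p') (chart := chart') c.U' c.hU' (fc φ c b))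
    (fun s => σW_appLE φ hirr hg c b s)
    (eW hL c.U c.hU b) (eW_smul hL c.U c.hU b)
    (eW hL' c.U' c.hU' (fc φ c b)) (eW_smul hL' c.U' c.hU' (fc φ c b))
    (fun m => L'.presheaf.map (homOfLE (Wb_le_preimage φ hirr hg c b)).op
      (θ.app (Wb (p := p) (chart := chart) c.U c.hU b) m)) β₀
    (fun m => (eW_theta φ hirr hg hL hL' θ hθ c b m).trans (hβ₀ _).symm) hbc

include hφ hL hL' in
/-- the adjoint of the comparison map is an isomorphism -/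
theorem isIso_adjoint
    (hpo : ∀ (U : Y.Opens) (hU : IsAffineOpen U) (U' : Y'.Opens) (hU' : IsAffineOpen U')
      (hle : U' ≤ ψ ⁻¹ᵁ U),
      IsPushout (ψ.appLE U U' hle) (𝒮.str.app (op U)) (𝒮'.str.app (op U'))
        ((u.app (op U) : 𝒮.presheaf.obj (op U) ⟶ 𝒮'.presheaf.obj (op (ψ ⁻¹ᵁ U))) ≫
          𝒮'.presheaf.map (homOfLE hle).op))
    (θ : L ⟶ (Scheme.Modules.pushforward g).obj L')
    (hθ : ∀ c : Pr ψ, θ ≫ bC lam' c = aC φ hirr hg lam c) :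
    IsIso (((Scheme.Modules.pullbackPushforwardAdjunction g).homEquiv L L').symm θ) := by
  haveI := TRR.isQuasicoherent_of_isRelTwist hL
  haveI := TRR.isQuasicoherent_of_isRelTwist hL'
  apply PBIso.isIso_adjoint_of_isBaseChange
  intro x
  obtain ⟨_, ⟨U, hU : IsAffineOpen U, rfl⟩, hxU, -⟩ :=
    Y.isBasis_affineOpens.exists_subset_of_mem_open (Set.mem_univ (ψ.base (p'.base x)))
      isOpen_univ
  obtain ⟨_, ⟨U', hU' : IsAffineOpen U', rfl⟩, hxU', hle⟩ :=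
    Y'.isBasis_affineOpens.exists_subset_of_mem_open (show p'.base x ∈ (ψ ⁻¹ᵁ U : Y'.Opens) from hxU)
      (ψ ⁻¹ᵁ U).isOpen
  let c : Pr ψ := ⟨U, hU, U', hU', hle⟩
  have hxU'' : x ∈ p' ⁻¹ᵁ U' := hxU'
  set y : Proj (𝒮'.deg U' hU') := (chart' U' hU').hom ⟨x, hxU''⟩ with hy_def
  have hyx : (emb p' chart' U' hU') y = x := emb_chart_hom p' chart' U' hU' x hxU''
  obtain ⟨b, e, he, hb, hby⟩ : ∃ (b : 𝒮.presheaf.obj (op U)) (e : ℕ), 0 < e ∧ b ∈ 𝒮.deg U hU e ∧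
      fc φ c b ∉ (show ProjectiveSpectrum (𝒮'.deg U' hU') from y).asHomogeneousIdeal := by
    by_contra hcon
    push Not at hcon
    apply (ProjectiveSpectrum.comap (fc φ c) (hirr U hU U' hU' hle)
      (show ProjectiveSpectrum (𝒮'.deg U' hU') from y)).not_irrelevant_le
    rw [HomogeneousIdeal.irrelevant_le]
    intro i hi a ha
    exact hcon a i hi ha
  refine ⟨Wb (p := p) (chart := chart) U hU b, Wb (p := p') (chart := chart') U' hU' (fc φ c b),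
    Wb_le_preimage φ hirr hg c b,
    (Proj.isAffineOpen_basicOpen (𝒮.deg U hU) b hb he).image_of_isOpenImmersion _,
    (Proj.isAffineOpen_basicOpen (𝒮'.deg U' hU') (fc φ c b) ((fc φ c).map_mem hb)
      he).image_of_isOpenImmersion _, ⟨y, hby, hyx⟩, ?_⟩
  exact exists_isBaseChange_theta u φ hφ hirr hg hL hL' θ hθ c (hpo U hU U' hU' hle) he hb

include hφ hg hL hL' in
/-- **S8335**: `g^* O_P(n) ≅ O_{P'}(n)` -/
theorem main (hP : IsRelProj 𝒮 p chart) (hP' : IsRelProj 𝒮' p' chart')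
    (hpo : ∀ (U : Y.Opens) (hU : IsAffineOpen U) (U' : Y'.Opens) (hU' : IsAffineOpen U')
      (hle : U' ≤ ψ ⁻¹ᵁ U),
      IsPushout (ψ.appLE U U' hle) (𝒮.str.app (op U)) (𝒮'.str.app (op U'))
        ((u.app (op U) : 𝒮.presheaf.obj (op U) ⟶ 𝒮'.presheaf.obj (op (ψ ⁻¹ᵁ U))) ≫
          𝒮'.presheaf.map (homOfLE hle).op)) :
    Nonempty ((Scheme.Modules.pullback g).obj L ≅ L') := by
  obtain ⟨θ, hθ⟩ := exists_theta u φ hφ hirr hg hP hP' hL hL'
  haveI := isIso_adjoint u φ hφ hirr hg hL hL' hpo θ hθ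
  exact ⟨asIso (((Scheme.Modules.pullbackPushforwardAdjunction g).homEquiv L L').symm θ)⟩

end main

end Groth.Agent.Helper4.SN281
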