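import Mathlib
import Groth.Agent.Helper1.SY1

/-!
# The symmetric algebra commutes with base change (as a pushout of commutative rings)
-/

set_option autoImplicit false
set_option linter.unusedSectionVars false
set_option linter.style.haveILetI false

namespace Groth.Agent.Helper4.SN282

open CategoryTheory CategoryTheory.Limits Groth.Agent.Helper1.SY

universe u

variable {R R' M M' : Type u} [CommRing R] [CommRing R'] [AddCommGroup M] [Module R M]
  [AddCommGroup M'] [Module R' M'] [Algebra R R'] [Module R M'] [IsScalarTower R R' M']

lemma semilinear (r : M →ₗ[R] M') (a : R) (m : M) :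
    r.toAddMonoidHom (a • m) = algebraMap R R' a • r.toAddMonoidHom m := by
  change r (a • m) = algebraMap R R' a • r m
  rw [r.map_smul, algebraMap_smul R' a (r m)]

/-- the map `Sym_R M → Sym_{R'} M'` induced by an `R`-linear map `M → M'` -/
noncomputable def symMapLin (r : M →ₗ[R] M') : SymmetricAlgebra R M →+* SymmetricAlgebra R' M' :=
  symMap (algebraMap R R') r.toAddMonoidHom (semilinear r)

lemma symMapLin_ι (r : M →ₗ[R] M') (m : M) :
    symMapLin r (SymmetricAlgebra.ι R M m) = SymmetricAlgebra.ι R' M' (r m) :=
  symMap_ι _ _ _ m

lemma symMapLin_algebraMap (r : M →ₗ[R] M') (a : R) :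
    symMapLin r (algebraMap R (SymmetricAlgebra R M) a) =
      algebraMap R' (SymmetricAlgebra R' M') (algebraMap R R' a) :=
  symMap_algebraMap _ _ _ a


section desc

variable {T : Type u} [CommRing T] (r : M →ₗ[R] M') (hr : IsBaseChange R' r)
  (f : R' →+* T) (g : SymmetricAlgebra R M →+* T)
  (hfg : ∀ a : R, f (algebraMap R R' a) = g (algebraMap R (SymmetricAlgebra R M) a))

/-- the induced ring homomorphism out of `Sym_{R'} M'` -/
noncomputable def descRing : SymmetricAlgebra R' M' →+* T :=
  letI : Algebra R' T := f.toAlgebra
  letI : Module R T := Module.compHom T (algebraMap R R')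
  haveI : IsScalarTower R R' T := IsScalarTower.of_compHom R R' T
  let ℓ : M →ₗ[R] T :=
    { toFun := fun m => g (SymmetricAlgebra.ι R M m)
      map_add' := fun x y => by rw [map_add, map_add]
      map_smul' := fun a m => by
        rw [map_smul, Algebra.smul_def, map_mul, ← hfg]
        rfl }
  (SymmetricAlgebra.lift (hr.lift ℓ)).toRingHom

lemma descRing_algebraMap (b : R') :
    descRing r hr f g hfg (algebraMap R' (SymmetricAlgebra R' M') b) = f b := by
  letI : Algebra R' T := f.toAlgebra
  exact AlgHom.commutes _ b

lemma descRing_ι_r (m : M) :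
    descRing r hr f g hfg (SymmetricAlgebra.ι R' M' (r m)) = g (SymmetricAlgebra.ι R M m) := by
  letI : Algebra R' T := f.toAlgebra
  letI : Module R T := Module.compHom T (algebraMap R R')
  haveI : IsScalarTower R R' T := IsScalarTower.of_compHom R R' T
  unfold descRing
  refine (SymmetricAlgebra.lift_ι_apply _ _).trans ?_
  exact hr.lift_eq _ m

lemma descRing_symMapLin (x : SymmetricAlgebra R M) :
    descRing r hr f g hfg (symMapLin r x) = g x := by
  have : (descRing r hr f g hfg).comp (symMapLin r) = g := by
    refine sym_ringHom_ext (fun a => ?_) (fun m => ?_)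
    · rw [RingHom.comp_apply, symMapLin_algebraMap, descRing_algebraMap, hfg]
    · rw [RingHom.comp_apply, symMapLin_ι, descRing_ι_r]
  exact congrArg (fun k => k x) this

lemma descRing_unique (k : SymmetricAlgebra R' M' →+* T)
    (h1 : ∀ b : R', k (algebraMap R' (SymmetricAlgebra R' M') b) = f b)
    (h2 : ∀ x : SymmetricAlgebra R M, k (symMapLin r x) = g x) (y : SymmetricAlgebra R' M') :
    k y = descRing r hr f g hfg y := by
  letI : Algebra R' T := f.toAlgebra
  letI : Module R T := Module.compHom T (algebraMap R R')
  haveI : IsScalarTower R R' T := IsScalarTower.of_compHom R R' T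
  have : k = descRing r hr f g hfg := by
    refine sym_ringHom_ext (fun b => ?_) (fun m' => ?_)
    · rw [h1, descRing_algebraMap]
    · let κ₁ : M' →ₗ[R'] T :=
        { toFun := fun m' => k (SymmetricAlgebra.ι R' M' m')
          map_add' := fun x y => by rw [map_add, map_add]
          map_smul' := fun b m' => by
            rw [map_smul, Algebra.smul_def, map_mul, h1]
            rfl }
      let κ₂ : M' →ₗ[R'] T :=
        { toFun := fun m' => descRing r hr f g hfg (SymmetricAlgebra.ι R' M' m')
          map_add' := fun x y => by rw [map_add, map_add]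
          map_smul' := fun b m' => by
            rw [map_smul, Algebra.smul_def, map_mul, descRing_algebraMap]
            rfl }
      have hκ : κ₁ = κ₂ := by
        apply hr.algHom_ext
        intro m
        change k (SymmetricAlgebra.ι R' M' (r m)) =
          descRing r hr f g hfg (SymmetricAlgebra.ι R' M' (r m))
        rw [descRing_ι_r, ← symMapLin_ι, h2]
      exact LinearMap.congr_fun hκ m'
  exact congrArg (fun q => q y) this

/-- as a morphism of commutative rings -/
noncomputable def descHom {T : CommRingCat.{u}} (f : R' →+* T) (g : SymmetricAlgebra R M →+* T)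
    (hfg : ∀ a : R, f (algebraMap R R' a) = g (algebraMap R (SymmetricAlgebra R M) a)) :
    CommRingCat.of (SymmetricAlgebra R' M') ⟶ T :=
  CommRingCat.ofHom (descRing r hr f g hfg)

end desc

/-- **`Sym_{R'}(M ⊗_R R') = Sym_R(M) ⊗_R R'`** as a pushout square of commutative rings -/
theorem isPushout_symMapLin (r : M →ₗ[R] M') (hr : IsBaseChange R' r) :
    IsPushout (CommRingCat.ofHom (algebraMap R R'))
      (CommRingCat.ofHom (algebraMap R (SymmetricAlgebra R M)))
      (CommRingCat.ofHom (algebraMap R' (SymmetricAlgebra R' M')))
      (CommRingCat.ofHom (symMapLin r)) := by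
  have w : CommRingCat.ofHom (algebraMap R R') ≫
      CommRingCat.ofHom (algebraMap R' (SymmetricAlgebra R' M')) =
      CommRingCat.ofHom (algebraMap R (SymmetricAlgebra R M)) ≫
        CommRingCat.ofHom (symMapLin r) := by
    ext a
    exact (symMapLin_algebraMap r a).symm
  refine ⟨⟨w⟩, ⟨PushoutCocone.IsColimit.mk _ (fun s => descHom r hr s.inl.hom s.inr.hom
      (fun a => congrArg (fun k => k.hom a) s.condition)) (fun s => ?_) (fun s => ?_)
    (fun s m h1 h2 => ?_)⟩⟩
  · ext a
    exact descRing_algebraMap r hr s.inl.hom s.inr.hom
      (fun a => congrArg (fun k => k.hom a) s.condition) a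
  · ext x
    exact descRing_symMapLin r hr s.inl.hom s.inr.hom
      (fun a => congrArg (fun k => k.hom a) s.condition) x
  · ext x
    exact descRing_unique r hr s.inl.hom s.inr.hom
      (fun a => congrArg (fun k => k.hom a) s.condition) m.hom
      (fun a => congrArg (fun k => k.hom a) h1) (fun y => congrArg (fun k => k.hom y) h2) x

end Groth.Agent.Helper4.SN282
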