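import Mathlib
import Groth.Prelude.Def_RelProj4
import Groth.Agent.Helper1.SY15
import Groth.Agent.Helper4.StalkExact

/-!
# The comparison `Sym(E) ⟶ g_* B` attached to a module map `g^*E ⟶ B`, from data on affine opens
-/

set_option autoImplicit false
set_option linter.unusedSectionVars false
set_option linter.style.haveILetI false

namespace Groth.Agent.Helper4.SN284

open CategoryTheory CategoryTheory.Limits AlgebraicGeometry TopologicalSpace Opposite RelSpec
open Groth.Agent.Helper1.SY

universe u

noncomputable section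

section aff

variable {S : Scheme.{u}} (F : TopCat.Presheaf CommRingCat.{u} S.carrier)
  (G : TopCat.Presheaf CommRingCat.{u} S.carrier) (hG : G.IsSheaf)

/-- A family of ring homomorphisms `F(U) → G(U)` over the affine opens, natural for restrictions
between affine opens. -/
structure AffData where
  app : ∀ (U : S.Opens) (_ : IsAffineOpen U), F.obj (op U) ⟶ G.obj (op U)
  naturality : ∀ (U V : S.Opens) (hU : IsAffineOpen U) (hV : IsAffineOpen V) (i : V ≤ U),
    F.map (homOfLE i).op ≫ app V hV = app U hU ≫ G.map (homOfLE i).op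

variable {F G}

/-- the natural transformation on the affine site -/
def AffData.restrict (a : AffData F G) : (Scheme.AffineZariskiSite.toOpensFunctor S).op ⋙ F ⟶
    (Scheme.AffineZariskiSite.toOpensFunctor S).op ⋙ G where
  app U := a.app U.unop.1 U.unop.2
  naturality U V i := by
    change F.map (homOfLE (Scheme.AffineZariskiSite.toOpens_mono i.unop.le)).op ≫
        a.app V.unop.1 V.unop.2 =
      a.app U.unop.1 U.unop.2 ≫
        G.map (homOfLE (Scheme.AffineZariskiSite.toOpens_mono i.unop.le)).op
    exact a.naturality _ _ _ _ _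

include hG in
/-- the map of presheaves of rings extending the affine data -/
def AffData.toPresheafHom (a : AffData F G) : F ⟶ G :=
  Functor.IsCoverDense.restrictHomEquivHom (G := Scheme.AffineZariskiSite.toOpensFunctor S)
    (K := Opens.grothendieckTopology S) (ℱ := F)
    (ℱ' := (⟨G, hG⟩ : TopCat.Sheaf CommRingCat.{u} S.carrier)) a.restrict

theorem AffData.toPresheafHom_restrict (a : AffData F G) :
    (Scheme.AffineZariskiSite.toOpensFunctor S).op.whiskerLeft (a.toPresheafHom hG) = a.restrict :=
  (Functor.IsCoverDense.restrictHomEquivHom (G := Scheme.AffineZariskiSite.toOpensFunctor S)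
    (K := Opens.grothendieckTopology S) (ℱ := F)
    (ℱ' := (⟨G, hG⟩ : TopCat.Sheaf CommRingCat.{u} S.carrier))).symm_apply_apply _

theorem AffData.toPresheafHom_app (a : AffData F G) (U : S.Opens) (hU : IsAffineOpen U) :
    (a.toPresheafHom hG).app (op U) = a.app U hU :=
  NatTrans.congr_app (a.toPresheafHom_restrict hG) (op ⟨U, hU⟩)

include hG in
/-- Two maps of presheaves into a sheaf of rings that agree on affine opens are equal. -/
theorem presheafHom_ext_affine {f g : F ⟶ G}
    (h : ∀ (U : S.Opens) (_ : IsAffineOpen U), f.app (op U) = g.app (op U)) : f = g := by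
  apply (Functor.IsCoverDense.restrictHomEquivHom (G := Scheme.AffineZariskiSite.toOpensFunctor S)
    (K := Opens.grothendieckTopology S) (ℱ := F)
    (ℱ' := (⟨G, hG⟩ : TopCat.Sheaf CommRingCat.{u} S.carrier))).symm.injective
  ext U : 2
  exact h U.unop.1 U.unop.2

end aff

section main

variable {S S' : Scheme.{u}} (g : S' ⟶ S) (E : S.Modules) [E.IsQuasicoherent]
  {A : QCAlg S} {j : E ⟶ A.toModule} (hA : IsSymAlg E A j)
  (B : QCAlg S') (j' : (Scheme.Modules.pullback g).obj E ⟶ B.toModule)

/-- functions on `U` as elements of `B(g⁻¹U)` -/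
def sOf (U : S.Opens) : Γ(S, U) →+* B.presheaf.obj (op (g ⁻¹ᵁ U)) :=
  (g.app U ≫ B.str.app (op (g ⁻¹ᵁ U))).hom

/-- sections of `E` over `U` as elements of `B(g⁻¹U)` -/
def φOf (U : S.Opens) : Γ(E, U) →+ B.presheaf.obj (op (g ⁻¹ᵁ U)) :=
  AddMonoidHom.comp (M := Γ(E, U)) (N := Γ((Scheme.Modules.pullback g).obj E, g ⁻¹ᵁ U))
    (P := B.presheaf.obj (op (g ⁻¹ᵁ U)))
    (AddCommGrpCat.Hom.hom (j'.app (g ⁻¹ᵁ U)))
    (AddCommGrpCat.Hom.hom
      (((Scheme.Modules.pullbackPushforwardAdjunction g).unit.app E).app U))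

lemma φOf_smul (U : S.Opens) (c : Γ(S, U)) (m : Γ(E, U)) :
    φOf g E B j' U (c • m) = sOf g B U c * φOf g E B j' U m := by
  change (j'.app (g ⁻¹ᵁ U))
    (((Scheme.Modules.pullbackPushforwardAdjunction g).unit.app E).app U (c • m)) = _
  rw [Scheme.Modules.Hom.app_smul]
  exact Scheme.Modules.Hom.app_smul j' ((g.app U).hom c) _

lemma φOf_res {U V : S.Opens} (i : V ≤ U) (m : Γ(E, U)) :
    φOf g E B j' V (E.presheaf.map (homOfLE i).op m) =
      (B.presheaf.map (homOfLE (g.preimage_mono i)).op).hom (φOf g E B j' U m) := by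
  have h1 := Groth.Agent.Helper4.StalkExact.app_res
    ((Scheme.Modules.pullbackPushforwardAdjunction g).unit.app E) (homOfLE i) m
  have h2 := Groth.Agent.Helper4.StalkExact.app_res j' (homOfLE (g.preimage_mono i))
    (((Scheme.Modules.pullbackPushforwardAdjunction g).unit.app E).app U m)
  exact (congrArg (fun z : Γ((Scheme.Modules.pullback g).obj E, g ⁻¹ᵁ V) =>
    (j'.app (g ⁻¹ᵁ V)) z) h1).trans h2

lemma sOf_res {U V : S.Opens} (i : V ≤ U) (c : Γ(S, U)) :
    sOf g B V ((S.presheaf.map (homOfLE i).op).hom c) =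
      (B.presheaf.map (homOfLE (g.preimage_mono i)).op).hom (sOf g B U c) := by
  have h1 := congrArg (fun k => k.hom c) (g.naturality (homOfLE i).op)
  have h2 := congrArg (fun k => k.hom ((g.app U).hom c))
    (B.str.naturality (homOfLE (g.preimage_mono i)).op)
  exact (congrArg (B.str.app (op (g ⁻¹ᵁ V))).hom h1).trans h2

/-- the comparison over an affine open -/
def aff (U : S.Opens) (hU : IsAffineOpen U) :
    A.presheaf.obj (op U) →+* B.presheaf.obj (op (g ⁻¹ᵁ U)) :=
  secDesc hA U hU (sOf g B U) (φOf g E B j' U) (φOf_smul g E B j' U)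

lemma aff_str (U : S.Opens) (hU : IsAffineOpen U) (c : Γ(S, U)) :
    aff g E hA B j' U hU ((A.str.app (op U)).hom c) = sOf g B U c :=
  secDesc_str hA U hU _ _ _ c

lemma aff_j (U : S.Opens) (hU : IsAffineOpen U) (m : Γ(E, U)) :
    aff g E hA B j' U hU (j.app U m) = φOf g E B j' U m :=
  secDesc_j hA U hU _ _ _ m

lemma aff_res (U V : S.Opens) (hU : IsAffineOpen U) (hV : IsAffineOpen V) (i : V ≤ U) :
    (aff g E hA B j' V hV).comp (A.presheaf.map (homOfLE i).op).hom =
      (B.presheaf.map (homOfLE (g.preimage_mono i)).op).hom.comp (aff g E hA B j' U hU) := by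
  refine secHom_ext hA U hU (fun c => ?_) (fun m => ?_)
  · rw [RingHom.comp_apply, RingHom.comp_apply, aff_str]
    have h1 : (A.presheaf.map (homOfLE i).op).hom ((A.str.app (op U)).hom c) =
        (A.str.app (op V)).hom ((S.presheaf.map (homOfLE i).op).hom c) :=
      (congrArg (fun k => k.hom c) (A.str.naturality (homOfLE i).op)).symm
    rw [h1, aff_str, sOf_res]
  · rw [RingHom.comp_apply, RingHom.comp_apply, aff_j]
    have h1 : (A.presheaf.map (homOfLE i).op).hom (j.app U m) =
        j.app V (E.presheaf.map (homOfLE i).op m) :=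
      (Groth.Agent.Helper4.StalkExact.app_res j (homOfLE i) m).symm
    rw [h1, aff_j, φOf_res]

/-- the affine data -/
def affData : AffData A.presheaf (g.base _* B.presheaf) where
  app U hU := CommRingCat.ofHom (aff g E hA B j' U hU)
  naturality U V hU hV i := by
    ext x
    exact congrArg (fun k => k x) (aff_res g E hA B j' U V hU hV i)

/-- **the comparison `A ⟶ g_* B`** -/
def cmp : A.presheaf ⟶ g.base _* B.presheaf :=
  (affData g E hA B j').toPresheafHom (TopCat.Sheaf.pushforward_sheaf_of_sheaf g.base B.isSheaf)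

lemma cmp_app (U : S.Opens) (hU : IsAffineOpen U) :
    (cmp g E hA B j').app (op U) = CommRingCat.ofHom (aff g E hA B j' U hU) :=
  (affData g E hA B j').toPresheafHom_app _ U hU

lemma cmp_str_apply (U : S.Opens) (hU : IsAffineOpen U) (c : Γ(S, U)) :
    ((cmp g E hA B j').app (op U)).hom ((A.str.app (op U)).hom c) = sOf g B U c := by
  rw [cmp_app g E hA B j' U hU]
  exact aff_str g E hA B j' U hU c

lemma cmp_j_apply (U : S.Opens) (hU : IsAffineOpen U) (m : Γ(E, U)) :
    ((cmp g E hA B j').app (op U)).hom (j.app U m) =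
      (j'.app (g ⁻¹ᵁ U))
        (((Scheme.Modules.pullbackPushforwardAdjunction g).unit.app E).app U m) := by
  rw [cmp_app g E hA B j' U hU]
  exact aff_j g E hA B j' U hU m

theorem str_cmp : A.str ≫ cmp g E hA B j' =
    g.c ≫ (TopCat.Presheaf.pushforward CommRingCat.{u} g.base).map B.str := by
  apply presheafHom_ext_affine (TopCat.Sheaf.pushforward_sheaf_of_sheaf g.base B.isSheaf)
  intro U hU
  ext c
  exact cmp_str_apply g E hA B j' U hU c

end main

end

end Groth.Agent.Helper4.SN284
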