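import Mathlib
import Groth.Prelude.Def_RelProj4
import Groth.Agent.Helper1.SY12
import Groth.Agent.Helper1.SG6
import Groth.Agent.Helper1.PB6
import Groth.Agent.Lead.BCMap5
import Groth.Agent.Lead.StalkPull
import Groth.Agent.Helper4.SN282
import Groth.Agent.Helper4.SN284

/-!
# `Sym(g^*E) = g^* Sym(E)` as a graded morphism over `g` with pushout squares
-/

set_option autoImplicit false
set_option linter.unusedSectionVars false
set_option linter.style.haveILetI false

namespace Groth.Agent.Helper4.SN285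

open CategoryTheory CategoryTheory.Limits AlgebraicGeometry TopologicalSpace Opposite RelSpec RelProj
open Groth.Agent.Helper1.SY Groth.Agent.Helper1.SG Groth.Agent.Lead.BCMap
open Groth.Agent.Helper4.SN284

universe u

noncomputable section

section alg

variable {S S' : Scheme.{u}} (g : S' ⟶ S) (E : S.Modules) [E.IsQuasicoherent]
  {A : QCAlg S} {j : E ⟶ A.toModule} (hA : IsSymAlg E A j)
  {B : QCAlg S'} {j' : (Scheme.Modules.pullback g).obj E ⟶ B.toModule}

/-- the comparison over an affine pair -/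
abbrev cmpLE (U : S.Opens) (U' : S'.Opens) (hle : U' ≤ g ⁻¹ᵁ U) :
    A.presheaf.obj (op U) ⟶ B.presheaf.obj (op U') :=
  ((cmp g E hA B j').app (op U) : A.presheaf.obj (op U) ⟶ B.presheaf.obj (op (g ⁻¹ᵁ U))) ≫
    B.presheaf.map (homOfLE hle).op

/-- the map of symmetric algebras over an affine pair -/
abbrev sm (U : S.Opens) (U' : S'.Opens) (hle : U' ≤ g ⁻¹ᵁ U) :
    SymmetricAlgebra Γ(S, U) Γ(E, U) →+*
      SymmetricAlgebra Γ(S', U') Γ((Scheme.Modules.pullback g).obj E, U') :=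
  symMap (g.appLE U U' hle).hom (pbSec g E U U' hle) (pbSec_smul g E U U' hle)

lemma cmpLE_str (U : S.Opens) (hU : IsAffineOpen U) (U' : S'.Opens) (hle : U' ≤ g ⁻¹ᵁ U)
    (c : Γ(S, U)) :
    (cmpLE g E hA (B := B) (j' := j') U U' hle).hom ((A.str.app (op U)).hom c) =
      (B.str.app (op U')).hom ((g.appLE U U' hle).hom c) := by
  change (B.presheaf.map (homOfLE hle).op).hom
    (((cmp g E hA B j').app (op U)).hom ((A.str.app (op U)).hom c)) = _
  rw [cmp_str_apply g E hA B j' U hU c]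
  exact (congrArg (fun k => k.hom ((g.app U).hom c)) (B.str.naturality (homOfLE hle).op)).symm

lemma cmpLE_j (U : S.Opens) (hU : IsAffineOpen U) (U' : S'.Opens) (hle : U' ≤ g ⁻¹ᵁ U)
    (m : Γ(E, U)) :
    (cmpLE g E hA (B := B) (j' := j') U U' hle).hom (j.app U m) =
      j'.app U' (pbSec g E U U' hle m) := by
  change (B.presheaf.map (homOfLE hle).op).hom
    (((cmp g E hA B j').app (op U)).hom (j.app U m)) = _
  rw [cmp_j_apply g E hA B j' U hU m, pbSec_apply]
  exact (Groth.Agent.Helper4.StalkExact.app_res j' (homOfLE hle) _).symm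

lemma comp_symLift (U : S.Opens) (hU : IsAffineOpen U) (U' : S'.Opens) (hle : U' ≤ g ⁻¹ᵁ U) :
    (symLift B j' U').comp (sm g E U U' hle) =
      (cmpLE g E hA (B := B) (j' := j') U U' hle).hom.comp (symLift A j U) := by
  refine sym_ringHom_ext (fun a => ?_) (fun m => ?_)
  · rw [RingHom.comp_apply, RingHom.comp_apply, symMap_algebraMap, symLift_algebraMap,
      symLift_algebraMap, cmpLE_str g E hA U hU U' hle]
  · rw [RingHom.comp_apply, RingHom.comp_apply, symMap_ι, symLift_ι, symLift_ι,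
      cmpLE_j g E hA U hU U' hle]

variable (hB : IsSymAlg ((Scheme.Modules.pullback g).obj E) B j')

include hB in
/-- **the pushout squares** -/
theorem isPushout_cmpLE (U : S.Opens) (hU : IsAffineOpen U) (U' : S'.Opens)
    (hU' : IsAffineOpen U') (hle : U' ≤ g ⁻¹ᵁ U) :
    IsPushout (g.appLE U U' hle) (A.str.app (op U)) (B.str.app (op U'))
      (cmpLE g E hA (B := B) (j' := j') U U' hle) := by
  haveI : ((Scheme.Modules.pullback g).obj E).IsQuasicoherent :=
    Groth.Agent.Lead.StalkPull.isQuasicoherent_pullbackObj g E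
  letI := (g.appLE U U' hle).hom.toAlgebra
  letI : Module Γ(S, U) Γ((Scheme.Modules.pullback g).obj E, U') :=
    Module.compHom _ (g.appLE U U' hle).hom
  haveI : IsScalarTower Γ(S, U) Γ(S', U') Γ((Scheme.Modules.pullback g).obj E, U') :=
    IsScalarTower.of_compHom _ _ _
  obtain ⟨ρ, hρ, hbc⟩ := exists_isBaseChange_pbSec g E hU hU' hle
  have h0 := Groth.Agent.Helper4.SN282.isPushout_symMapLin ρ hbc
  have hsm : Groth.Agent.Helper4.SN282.symMapLin ρ = sm g E U U' hle := by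
    refine sym_ringHom_ext (fun a => ?_) (fun m => ?_)
    · rw [Groth.Agent.Helper4.SN282.symMapLin_algebraMap, symMap_algebraMap]
      rfl
    · rw [Groth.Agent.Helper4.SN282.symMapLin_ι, symMap_ι, hρ]
  let eA : CommRingCat.of (SymmetricAlgebra Γ(S, U) Γ(E, U)) ≅ A.presheaf.obj (op U) :=
    (RingEquiv.ofBijective (symLift A j U) (symLift_bijective hA U hU)).toCommRingCatIso
  let eB : CommRingCat.of (SymmetricAlgebra Γ(S', U') Γ((Scheme.Modules.pullback g).obj E, U')) ≅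
      B.presheaf.obj (op U') :=
    (RingEquiv.ofBijective (symLift B j' U') (symLift_bijective hB U' hU')).toCommRingCatIso
  refine IsPushout.of_iso h0 (Iso.refl _) (Iso.refl _) eA eB ?_ ?_ ?_ ?_
  · rfl
  · ext a
    exact symLift_algebraMap A j U a
  · ext a
    exact symLift_algebraMap B j' U' a
  · rw [hsm]
    apply CommRingCat.hom_ext
    exact comp_symLift g E hA U hU U' hle

end alg

section graded

variable {Y Y' : Scheme.{u}} (ψ : Y' ⟶ Y) (E : Y.Modules) [E.IsQuasicoherent]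
  {𝒮 : QCGrAlg Y} {j : E ⟶ 𝒮.toModule} (hj : IsGrSymAlg E 𝒮 j)
  {𝒮' : QCGrAlg Y'} {j' : (Scheme.Modules.pullback ψ).obj E ⟶ 𝒮'.toModule}
  (hj' : IsGrSymAlg ((Scheme.Modules.pullback ψ).obj E) 𝒮' j')

/-- the comparison `Sym(E) ⟶ ψ_* Sym(ψ^*E)` -/
def uOf : 𝒮.presheaf ⟶ ψ.base _* 𝒮'.presheaf := cmp ψ E hj.1 𝒮'.toQCAlg j'

theorem uOf_str : 𝒮.str ≫ uOf ψ E hj (j' := j') =
    ψ.c ≫ (TopCat.Presheaf.pushforward CommRingCat.{u} ψ.base).map 𝒮'.str :=
  str_cmp ψ E hj.1 𝒮'.toQCAlg j'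

include hj' in
theorem uOf_map_mem (U : Y.Opens) (hU : IsAffineOpen U) (U' : Y'.Opens) (hU' : IsAffineOpen U')
    (hle : U' ≤ ψ ⁻¹ᵁ U) {d : ℕ} {x : 𝒮.presheaf.obj (op U)} (hx : x ∈ 𝒮.deg U hU d) :
    (𝒮'.presheaf.map (homOfLE hle).op).hom (((uOf ψ E hj (j' := j')).app (op U)).hom x) ∈
      𝒮'.deg U' hU' d := by
  haveI : ((Scheme.Modules.pullback ψ).obj E).IsQuasicoherent :=
    Groth.Agent.Lead.StalkPull.isQuasicoherent_pullbackObj ψ E
  obtain ⟨x₀, hx₀, rfl⟩ := exists_of_mem_deg hj U hU hx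
  have h1 := congrArg (fun k => k x₀)
    (comp_symLift ψ E hj.1 (B := 𝒮'.toQCAlg) (j' := j') U hU U' hle)
  have h2 : symLift 𝒮'.toQCAlg j' U' (sm ψ E U U' hle x₀) ∈ 𝒮'.deg U' hU' d :=
    symLift_mem_deg hj' U' hU' (symMap_mem_symPow _ _ _ hx₀)
  have h3 : symLift 𝒮'.toQCAlg j' U' (sm ψ E U U' hle x₀) =
      (𝒮'.presheaf.map (homOfLE hle).op).hom
        (((uOf ψ E hj (j' := j')).app (op U)).hom (symLift 𝒮.toQCAlg j U x₀)) := h1
  rw [← h3]
  exact h2

/-- the graded `ψ`-morphism `Sym(E) → Sym(ψ^*E)` -/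
def qGr : QGrHom ψ 𝒮 𝒮' where
  toQHom := Groth.Agent.Helper1.PB.qHomOf ψ 𝒮 𝒮' (uOf ψ E hj (j' := j')) (uOf_str ψ E hj)
  map_mem U hU U' hU' hle _ _ hx := uOf_map_mem ψ E hj hj' U hU U' hU' hle hx

theorem isQBaseChange_qGr : IsQBaseChange (qGr ψ E hj hj').toQHom :=
  fun U hU U' hU' hle => isPushout_cmpLE ψ E hj.1 hj'.1 U hU U' hU' hle

end graded

end

end Groth.Agent.Helper4.SN285
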