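import Mathlib
import Groth.Prelude.Def_RelProj4
import Groth.Agent.Helper1.PB6
import Groth.Agent.Helper4.SN285
import Groth.Agent.Helper4.SN281b
import Groth.Agent.S12141

/-!
# Base change of a projective bundle, with its twisting sheaves
-/

set_option autoImplicit false
set_option linter.unusedSectionVars false
set_option linter.style.haveILetI false

namespace Groth.Agent.Helper4.SN286

open CategoryTheory CategoryTheory.Limits AlgebraicGeometry TopologicalSpace Opposite RelSpec RelProj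
open Groth.Agent.Helper1 Groth.Agent.Helper1.RP
open scoped HomogeneousIdeal

universe u

section span

variable {A σ : Type*} [CommRing A] [SetLike σ A] [AddSubgroupClass σ A] (𝒜 : ℕ → σ) [GradedRing 𝒜]

lemma irrelevant_le_span : (𝒜₊).toIdeal ≤
    Ideal.span (Set.range (fun i : Σ d : ℕ+, 𝒜 d => (i.2 : A))) := by
  classical
  intro z hz
  rw [← DirectSum.sum_support_decompose 𝒜 z]
  refine Ideal.sum_mem _ fun c hc ↦ if hc0 : c = 0 then ?_ else
    Ideal.subset_span ⟨⟨⟨c, Nat.pos_iff_ne_zero.mpr hc0⟩, _⟩, rfl⟩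
  subst hc0
  have h0 : ((DirectSum.decompose 𝒜 z 0 : 𝒜 0) : A) = 0 := by
    have := (HomogeneousIdeal.mem_irrelevant_iff 𝒜 z).mp hz
    rwa [GradedRing.proj_apply] at this
  rw [h0]
  exact Ideal.zero_mem _

end span

section translate

variable {S S' : Scheme.{u}} {g : S' ⟶ S} {𝒮 : QCGrAlg S} {𝒮' : QCGrAlg S'} (u : QGrHom g 𝒮 𝒮')
  {P P' : Scheme.{u}} {p : P ⟶ S}
  {chart : ∀ (U : S.Opens) (hU : IsAffineOpen U),
    (((p ⁻¹ᵁ U : P.Opens) : Scheme.{u}) ≅ Proj (𝒮.deg U hU))}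
  {p' : P' ⟶ S'}
  {chart' : ∀ (U' : S'.Opens) (hU' : IsAffineOpen U'),
    (((p' ⁻¹ᵁ U' : P'.Opens) : Scheme.{u}) ≅ Proj (𝒮'.deg U' hU'))}

/-- the standard chart equations give the chartwise `Proj.map` description -/
theorem map_form_of_isProjQMap {h : P' ⟶ P} (hh : IsProjQMap u p chart p' chart' h)
    (U : S.Opens) (hU : IsAffineOpen U) (U' : S'.Opens) (hU' : IsAffineOpen U')
    (hle : U' ≤ g ⁻¹ᵁ U)
    (hirr₀ : (𝒮'.deg U' hU')₊ ≤ ((𝒮.deg U hU)₊).map (u.gradedAt U hU U' hU' hle)) :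
    (p' ⁻¹ᵁ U').ι ≫ h =
      (chart' U' hU').hom ≫ Proj.map (u.gradedAt U hU U' hU' hle) hirr₀ ≫ emb p chart U hU := by
  have key : emb p' chart' U' hU' ≫ h =
      Proj.map (u.gradedAt U hU U' hU' hle) hirr₀ ≫ emb p chart U hU := by
    have hs : ∀ s : (Σ i : ℕ+, 𝒮.deg U hU i),
        Proj.awayι (𝒮'.deg U' hU') (u.gradedAt U hU U' hU' hle s.2)
          ((u.gradedAt U hU U' hU' hle).map_mem s.2.2) s.1.pos ≫ emb p' chart' U' hU' ≫ h =
        Proj.awayι (𝒮'.deg U' hU') (u.gradedAt U hU U' hU' hle s.2)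
          ((u.gradedAt U hU U' hU' hle).map_mem s.2.2) s.1.pos ≫
          Proj.map (u.gradedAt U hU U' hU' hle) hirr₀ ≫ emb p chart U hU := by
      intro s
      have h1 := hh.2 U hU U' hU' hle s.1 s.1.pos s.2 s.2.2
      have h2 := Proj.awayι_comp_map (u.gradedAt U hU U' hU' hle) hirr₀ s.1.pos s.2 s.2.2
      refine (Category.assoc _ _ _).symm.trans (h1.trans ?_)
      refine (Category.assoc _ _ _).symm.trans ?_
      rw [← h2]
      exact Category.assoc _ _ _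
    refine (Proj.mapAffineOpenCover (u.gradedAt U hU U' hU' hle) hirr₀).openCover.hom_ext _ _
      fun s => ?_
    exact hs s
  have hι : (p' ⁻¹ᵁ U').ι = (chart' U' hU').hom ≫ emb p' chart' U' hU' := by
    unfold emb
    rw [Iso.hom_inv_id_assoc]
  rw [hι, Category.assoc, key]

end translate

section bundle

variable {Y Y' : Scheme.{u}} (ψ : Y' ⟶ Y) (E : Y.Modules) [E.IsQuasicoherent]
  {𝒮 : QCGrAlg Y} {j : E ⟶ 𝒮.toModule} (hj : IsGrSymAlg E 𝒮 j)
  {𝒮' : QCGrAlg Y'} {j' : (Scheme.Modules.pullback ψ).obj E ⟶ 𝒮'.toModule}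
  (hj' : IsGrSymAlg ((Scheme.Modules.pullback ψ).obj E) 𝒮' j')
  {P P' : Scheme.{u}} {p : P ⟶ Y}
  {chart : ∀ (U : Y.Opens) (hU : IsAffineOpen U),
    (((p ⁻¹ᵁ U : P.Opens) : Scheme.{u}) ≅ Proj (𝒮.deg U hU))}
  (hP : IsRelProj 𝒮 p chart)
  {p' : P' ⟶ Y'}
  {chart' : ∀ (U' : Y'.Opens) (hU' : IsAffineOpen U'),
    (((p' ⁻¹ᵁ U' : P'.Opens) : Scheme.{u}) ≅ Proj (𝒮'.deg U' hU'))}
  (hP' : IsRelProj 𝒮' p' chart')

include hj hj' hP hP' in
/-- **`P(ψ^*E) = P(E) ×_Y Y'`, with `h^* O_{P(E)}(n) ≅ O_{P(ψ^*E)}(n)`** -/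
theorem exists_baseChange :
    ∃ h : P' ⟶ P, IsPullback h p' p ψ ∧
      ∀ (n : ℤ) (L : P.Modules)
        (lam : ∀ (U : Y.Opens) (hU : IsAffineOpen U),
          L ⟶ (Scheme.Modules.pushforward (emb p chart U hU)).obj
            (GrTwist.twist (𝒮.deg U hU) n))
        (_ : IsRelTwist 𝒮 p chart n L lam) (L' : P'.Modules)
        (lam' : ∀ (U' : Y'.Opens) (hU' : IsAffineOpen U'),
          L' ⟶ (Scheme.Modules.pushforward (emb p' chart' U' hU')).obj
            (GrTwist.twist (𝒮'.deg U' hU') n))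
        (_ : IsRelTwist 𝒮' p' chart' n L' lam'),
        Nonempty ((Scheme.Modules.pullback h).obj L ≅ L') := by
  have hu := Groth.Agent.Helper4.SN285.isQBaseChange_qGr ψ E hj hj'
  obtain ⟨⟨h, hh⟩, hpb⟩ := Groth.Agent.S12141.result ψ 𝒮 𝒮'
    (Groth.Agent.Helper4.SN285.qGr ψ E hj hj') hu p chart hP p' chart' hP'
  refine ⟨h, hpb h hh, fun n L lam hL L' lam' hL' => ?_⟩
  have hirr : ∀ (U : Y.Opens) (hU : IsAffineOpen U) (U' : Y'.Opens) (hU' : IsAffineOpen U')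
      (hle : U' ≤ ψ ⁻¹ᵁ U), (𝒮'.deg U' hU')₊ ≤ ((𝒮.deg U hU)₊).map
        ((Groth.Agent.Helper4.SN285.qGr ψ E hj hj').gradedAt U hU U' hU' hle) :=
    fun U hU U' hU' hle => PB.irrelevant_le_map (𝒮.deg U hU) (𝒮'.deg U' hU') _ _ _ _
      (PB.isPushout_gradedAt (Groth.Agent.Helper4.SN285.qGr ψ E hj hj') hu U hU U' hU' hle)
      (𝒮.str_mem U hU) (𝒮'.str_mem U' hU')
  exact Groth.Agent.Helper4.SN281.main (Groth.Agent.Helper4.SN285.uOf ψ E hj (j' := j'))
    (fun U hU U' hU' hle => (Groth.Agent.Helper4.SN285.qGr ψ E hj hj').gradedAt U hU U' hU' hle)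
    (fun _ _ _ _ _ => rfl) hirr
    (fun U hU U' hU' hle => map_form_of_isProjQMap (Groth.Agent.Helper4.SN285.qGr ψ E hj hj') hh
      U hU U' hU' hle (hirr U hU U' hU' hle)) hL hL' hP hP'
    (fun U hU U' hU' hle =>
      Groth.Agent.Helper4.SN285.isPushout_cmpLE ψ E hj.1 hj'.1 U hU U' hU' hle)

end bundle

end Groth.Agent.Helper4.SN286
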