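import Mathlib
import Groth.Prelude.Def_RelProj4
import Groth.Agent.Helper4.SN285

/-!
# The graded `g`-morphism `Sym(E) ⟶ g_* 𝒯` attached to a module map `g^*E ⟶ 𝒯` landing in degree one
-/

set_option autoImplicit false
set_option linter.unusedSectionVars false
set_option linter.style.haveILetI false

namespace Groth.Agent.Helper4.SN310

open CategoryTheory CategoryTheory.Limits AlgebraicGeometry TopologicalSpace Opposite RelSpec RelProj
open Groth.Agent.Helper1.SY Groth.Agent.Helper1.SG Groth.Agent.Lead.BCMap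
open Groth.Agent.Helper4.SN284 Groth.Agent.Helper4.SN285

universe u

noncomputable section

variable {Y X : Scheme.{u}} (g : X ⟶ Y) (E : Y.Modules) [E.IsQuasicoherent]
  {𝒮 : QCGrAlg Y} {j : E ⟶ 𝒮.toModule} (hj : IsGrSymAlg E 𝒮 j)
  {𝒯 : QCGrAlg X} (k : (Scheme.Modules.pullback g).obj E ⟶ 𝒯.toModule)
  (hk : ∀ (V : X.Opens) (hV : IsAffineOpen V) (m : Γ((Scheme.Modules.pullback g).obj E, V)),
    (k.app V m : 𝒯.presheaf.obj (op V)) ∈ 𝒯.deg V hV 1)

include hk in
/-- symmetric powers land in the graded pieces, for a map landing in degree one -/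
theorem symLift_mem_deg' (V : X.Opens) (hV : IsAffineOpen V) {n : ℕ}
    {x : SymmetricAlgebra Γ(X, V) Γ((Scheme.Modules.pullback g).obj E, V)}
    (hx : x ∈ symPow Γ(X, V) Γ((Scheme.Modules.pullback g).obj E, V) n) :
    symLift 𝒯.toQCAlg k V x ∈ 𝒯.deg V hV n := by
  unfold symPow at hx
  induction hx using Submodule.pow_induction_on_left' with
  | algebraMap c =>
    rw [symLift_algebraMap]
    exact 𝒯.str_mem V hV c
  | add x y i hx hy ihx ihy =>
    rw [map_add]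
    exact add_mem ihx ihy
  | mem_mul m hm i x hx ih =>
    obtain ⟨m, rfl⟩ := hm
    rw [map_mul, symLift_ι]
    have h1 : (show 𝒯.presheaf.obj (op V) from (k.app V) m) ∈ 𝒯.deg V hV 1 := hk V hV m
    have h2 := SetLike.mul_mem_graded h1 ih
    rwa [add_comm] at h2

/-- the comparison `Sym(E) ⟶ g_* 𝒯` -/
def uK : 𝒮.presheaf ⟶ g.base _* 𝒯.presheaf := cmp g E hj.1 𝒯.toQCAlg k

theorem uK_str : 𝒮.str ≫ uK g E hj k =
    g.c ≫ (TopCat.Presheaf.pushforward CommRingCat.{u} g.base).map 𝒯.str :=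
  str_cmp g E hj.1 𝒯.toQCAlg k

include hk in
theorem uK_map_mem (U : Y.Opens) (hU : IsAffineOpen U) (U' : X.Opens) (hU' : IsAffineOpen U')
    (hle : U' ≤ g ⁻¹ᵁ U) {d : ℕ} {x : 𝒮.presheaf.obj (op U)} (hx : x ∈ 𝒮.deg U hU d) :
    (𝒯.presheaf.map (homOfLE hle).op).hom (((uK g E hj k).app (op U)).hom x) ∈
      𝒯.deg U' hU' d := by
  obtain ⟨x₀, hx₀, rfl⟩ := exists_of_mem_deg hj U hU hx
  have h1 := congrArg (fun κ => κ x₀)
    (comp_symLift g E hj.1 (B := 𝒯.toQCAlg) (j' := k) U hU U' hle)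
  have h2 : symLift 𝒯.toQCAlg k U' (sm g E U U' hle x₀) ∈ 𝒯.deg U' hU' d :=
    symLift_mem_deg' g E k hk U' hU' (symMap_mem_symPow _ _ _ hx₀)
  have h3 : symLift 𝒯.toQCAlg k U' (sm g E U U' hle x₀) =
      (𝒯.presheaf.map (homOfLE hle).op).hom
        (((uK g E hj k).app (op U)).hom (symLift 𝒮.toQCAlg j U x₀)) := h1
  rw [← h3]
  exact h2

/-- the graded `g`-morphism `Sym(E) → 𝒯` -/
def qGrK : QGrHom g 𝒮 𝒯 where
  toQHom := Groth.Agent.Helper1.PB.qHomOf g 𝒮 𝒯 (uK g E hj k) (uK_str g E hj k)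
  map_mem U hU U' hU' hle _ _ hx := uK_map_mem g E hj k hk U hU U' hU' hle hx

/-- on `E` the graded morphism is `k` on inverse-image sections -/
theorem qGrK_j (U : Y.Opens) (hU : IsAffineOpen U) (U' : X.Opens) (hU' : IsAffineOpen U')
    (hle : U' ≤ g ⁻¹ᵁ U) (m : Γ(E, U)) :
    (qGrK g E hj k hk).gradedAt U hU U' hU' hle (j.app U m) = k.app U' (pbSec g E U U' hle m) :=
  cmpLE_j g E hj.1 (B := 𝒯.toQCAlg) (j' := k) U hU U' hle m

/-- on functions the graded morphism is the structure map -/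
theorem qGrK_str (U : Y.Opens) (hU : IsAffineOpen U) (U' : X.Opens) (hU' : IsAffineOpen U')
    (hle : U' ≤ g ⁻¹ᵁ U) (c : Γ(Y, U)) :
    (qGrK g E hj k hk).gradedAt U hU U' hU' hle ((𝒮.str.app (op U)).hom c) =
      (𝒯.str.app (op U')).hom ((g.appLE U U' hle).hom c) :=
  cmpLE_str g E hj.1 (B := 𝒯.toQCAlg) (j' := k) U hU U' hle c

end

end Groth.Agent.Helper4.SN310
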