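import Mathlib
import Groth.Prelude.Def_RelProj4
import Groth.Agent.Helper4.SN310
import Groth.Agent.Helper4.SN286
import Groth.Agent.Helper4.QcohEpi
import Groth.Agent.Helper1.TR24
import Groth.Agent.Helper1.RP23
import Groth.Agent.Helper1.PB4

/-!
# The morphism `P(L) ⟶ P(E)` over `g` attached to an epimorphism `g^*E ⟶ L`
-/

set_option autoImplicit false
set_option linter.unusedSectionVars false
set_option linter.style.haveILetI false

namespace Groth.Agent.Helper4.SN311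

open CategoryTheory CategoryTheory.Limits AlgebraicGeometry TopologicalSpace Opposite RelSpec RelProj
open Groth.Agent.Helper1.SY Groth.Agent.Helper1.SG Groth.Agent.Lead.BCMap
open Groth.Agent.Helper1 Groth.Agent.Helper1.RP
open Groth.Agent.Helper4.SN310
open scoped HomogeneousIdeal

universe u

noncomputable section

section general

variable {Y Y' : Scheme.{u}} {g : Y' ⟶ Y} {𝒮 : QCGrAlg Y} {𝒮' : QCGrAlg Y'}
  (u : QGrHom g 𝒮 𝒮') {P : Scheme.{u}} {p : P ⟶ Y}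
  {chart : ∀ (U : Y.Opens) (hU : IsAffineOpen U),
    (((p ⁻¹ᵁ U : P.Opens) : Scheme.{u}) ≅ Proj (𝒮.deg U hU))}
  {P' : Scheme.{u}} {p' : P' ⟶ Y'}
  {chart' : ∀ (U' : Y'.Opens) (hU' : IsAffineOpen U'),
    (((p' ⁻¹ᵁ U' : P'.Opens) : Scheme.{u}) ≅ Proj (𝒮'.deg U' hU'))}
  (hirr : ∀ (U : Y.Opens) (hU : IsAffineOpen U) (U' : Y'.Opens) (hU' : IsAffineOpen U')
    (hle : U' ≤ g ⁻¹ᵁ U), (𝒮'.deg U' hU')₊ ≤ ((𝒮.deg U hU)₊).map (u.gradedAt U hU U' hU' hle))

include hirr in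
/-- under the irrelevant-ideal condition `Proj(u)` is everywhere defined -/
theorem domQ_eq_top : domQ u p' chart' = ⊤ := by
  rw [_root_.eq_top_iff]
  intro x _
  obtain ⟨U, hU, U', hU', hle, hxU'⟩ := exists_pair (g := g) (p' x)
  have hx : x ∈ p' ⁻¹ᵁ U' := hxU'
  unfold RelProj.domQ
  refine Opens.mem_iSup.mpr ⟨⟨(⟨U, hU⟩, ⟨U', hU'⟩), hle⟩, ?_⟩
  refine ⟨(chart' U' hU').hom ⟨x, hx⟩, ?_, emb_chart_hom p' chart' U' hU' x hx⟩
  show (chart' U' hU').hom ⟨x, hx⟩ ∈ RelCone.domOpen (u.gradedAt U hU U' hU' hle)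
  rw [domOpen_eq_top_of_le _ (hirr U hU U' hU' hle)]
  trivial

include hirr in
/-- **existence of `Proj(u)`**, everywhere defined, lying over `g` -/
theorem exists_projQMap (hP : IsRelProj 𝒮 p chart) (hP' : IsRelProj 𝒮' p' chart') :
    ∃ h : P' ⟶ P, IsProjQMap u p chart p' chart' h ∧ h ≫ p = p' ≫ g ∧
      ∀ (U : Y.Opens) (hU : IsAffineOpen U) (U' : Y'.Opens) (hU' : IsAffineOpen U')
        (hle : U' ≤ g ⁻¹ᵁ U), (p' ⁻¹ᵁ U').ι ≫ h =
          (chart' U' hU').hom ≫ Proj.map (u.gradedAt U hU U' hU' hle) (hirr U hU U' hU' hle) ≫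
            emb p chart U hU := by
  have htop := domQ_eq_top u (p' := p') (chart' := chart') hirr
  obtain ⟨r, hr, -⟩ := existsUnique_projQMapOn (u := u) hP hP'
  have hι : (P'.isoOfEq htop ≪≫ P'.topIso).inv ≫ (RelProj.domQ u p' chart').ι = 𝟙 P' := by
    rw [Iso.trans_inv, Category.assoc, Scheme.isoOfEq_inv_ι, ← Scheme.topIso_hom,
      Iso.inv_hom_id]
  have hh : IsProjQMap u p chart p' chart' ((P'.isoOfEq htop ≪≫ P'.topIso).inv ≫ r) := by
    refine ⟨htop, ?_⟩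
    intro U hU U' hU' hle d hd f hf
    rw [← liftEmb_r hr U hU U' hU' hle hd f hf, ← Category.assoc]
    congr 1
    rw [← cancel_mono (RelProj.domQ u p' chart').ι, liftEmb_ι,
      Category.assoc, hι, Category.comp_id]
  refine ⟨_, hh, ?_, fun U hU U' hU' hle =>
    Groth.Agent.Helper4.SN286.map_form_of_isProjQMap u hh U hU U' hU' hle (hirr U hU U' hU' hle)⟩
  rw [Category.assoc, projQMapOn_comm hP hP' hr, ← Category.assoc, hι, Category.id_comp]

end general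

section epi

variable {Y X : Scheme.{u}} (g : X ⟶ Y) (E : Y.Modules) [E.IsQuasicoherent]
  {𝒮 : QCGrAlg Y} {j : E ⟶ 𝒮.toModule} (hj : IsGrSymAlg E 𝒮 j)
  {L : X.Modules} [L.IsQuasicoherent]
  {𝒮L : QCGrAlg X} {jL : L ⟶ 𝒮L.toModule} (hjL : IsGrSymAlg L 𝒮L jL)
  (s : (Scheme.Modules.pullback g).obj E ⟶ L)

include hjL in
lemma hk (V : X.Opens) (hV : IsAffineOpen V)
    (m : Γ((Scheme.Modules.pullback g).obj E, V)) :
    ((s ≫ jL).app V m : 𝒮L.presheaf.obj (op V)) ∈ 𝒮L.deg V hV 1 :=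
  hjL.2 V hV (s.app V m)

/-- the graded `g`-morphism `Sym(E) → Sym(L)` attached to `s : g^*E ⟶ L` -/
def uS : QGrHom g 𝒮 𝒮L := qGrK g E hj (s ≫ jL) (hk g E hjL s)

theorem uS_j (U : Y.Opens) (hU : IsAffineOpen U) (U' : X.Opens) (hU' : IsAffineOpen U')
    (hle : U' ≤ g ⁻¹ᵁ U) (m : Γ(E, U)) :
    (uS g E hj hjL s).gradedAt U hU U' hU' hle (j.app U m) =
      jL.app U' (s.app U' (pbSec g E U U' hle m)) :=
  qGrK_j g E hj (s ≫ jL) (hk g E hjL s) U hU U' hU' hle m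

theorem uS_str (U : Y.Opens) (hU : IsAffineOpen U) (U' : X.Opens) (hU' : IsAffineOpen U')
    (hle : U' ≤ g ⁻¹ᵁ U) (c : Γ(Y, U)) :
    (uS g E hj hjL s).gradedAt U hU U' hU' hle ((𝒮.str.app (op U)).hom c) =
      (𝒮L.str.app (op U')).hom ((g.appLE U U' hle).hom c) :=
  qGrK_str g E hj (s ≫ jL) (hk g E hjL s) U hU U' hU' hle c

variable [Epi s]

/-- **the irrelevant-ideal condition for an epimorphism** -/
theorem hirr (U : Y.Opens) (hU : IsAffineOpen U) (U' : X.Opens) (hU' : IsAffineOpen U')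
    (hle : U' ≤ g ⁻¹ᵁ U) :
    (𝒮L.deg U' hU')₊ ≤ ((𝒮.deg U hU)₊).map ((uS g E hj hjL s).gradedAt U hU U' hU' hle) := by
  haveI : ((Scheme.Modules.pullback g).obj E).IsQuasicoherent :=
    Groth.Agent.Lead.StalkPull.isQuasicoherent_pullbackObj g E
  intro b hb
  change b ∈ ((𝒮.deg U hU)₊).toIdeal.map ((uS g E hj hjL s).gradedAt U hU U' hU' hle)
  have h1 : b ∈ Ideal.span (Set.range (jR (A := 𝒮L.toQCAlg) jL U')) :=
    Groth.Agent.Helper1.SY.irrelevant_le_span_range_j hjL U' hU' hb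
  refine (Ideal.span_le.2 ?_) h1
  rintro _ ⟨l, rfl⟩
  obtain ⟨m, rfl⟩ := Groth.Agent.Helper4.QcohEpi.app_surjective_of_epi s hU' l
  letI := (g.appLE U U' hle).hom.toAlgebra
  letI : Module Γ(Y, U) Γ((Scheme.Modules.pullback g).obj E, U') :=
    Module.compHom _ (g.appLE U U' hle).hom
  haveI : IsScalarTower Γ(Y, U) Γ(X, U') Γ((Scheme.Modules.pullback g).obj E, U') :=
    IsScalarTower.of_compHom _ _ _
  obtain ⟨ρ, hρ, hbc⟩ := exists_isBaseChange_pbSec g E hU hU' hle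
  refine hbc.inductionOn m
    (motive := fun m => jR (A := 𝒮L.toQCAlg) jL U' (s.app U' m) ∈
      ((𝒮.deg U hU)₊).toIdeal.map ((uS g E hj hjL s).gradedAt U hU U' hU' hle)) ?_ ?_ ?_ ?_
  · rw [map_zero, map_zero]
    exact Ideal.zero_mem _
  · intro e
    rw [hρ]
    have h2 := uS_j g E hj hjL s U hU U' hU' hle e
    have h3 : jR (A := 𝒮L.toQCAlg) jL U' (s.app U' (pbSec g E U U' hle e)) =
        (uS g E hj hjL s).gradedAt U hU U' hU' hle (j.app U e) := h2.symm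
    rw [h3]
    exact Ideal.mem_map_of_mem _
      (HomogeneousIdeal.mem_irrelevant_of_mem _ Nat.one_pos (hj.2 U hU e))
  · intro c n hn
    rw [Scheme.Modules.Hom.app_smul, jR_smul]
    exact Ideal.mul_mem_left _ _ hn
  · intro n₁ n₂ h₁ h₂
    rw [map_add, map_add]
    exact Ideal.add_mem _ h₁ h₂

end epi

end

end Groth.Agent.Helper4.SN311
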