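import Mathlib
import Groth.Prelude.Def_RelProj3
import Groth.Agent.Helper4.SN280
import Groth.Agent.Helper1.TR23
import Groth.Agent.Helper1.RP19

/-!
# Local generators of `O_P(n)` and their images under the comparison map, over a change of base
-/

set_option autoImplicit false
set_option linter.unusedSectionVars false
set_option linter.style.haveILetI false

namespace Groth.Agent.Helper4.SN312

open CategoryTheory CategoryTheory.Limits AlgebraicGeometry TopologicalSpace Opposite RelProj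
open Groth.Agent.Helper1 Groth.Agent.Helper1.RP
open Groth.Agent.Helper4.SN280
open scoped HomogeneousIdeal

universe u

variable {Y Y' P P' : Scheme.{u}} {ψ : Y' ⟶ Y} {𝒮 : QCGrAlg Y} {𝒮' : QCGrAlg Y'}
  (φ : ∀ (U : Y.Opens) (hU : IsAffineOpen U) (U' : Y'.Opens) (hU' : IsAffineOpen U')
    (_ : U' ≤ ψ ⁻¹ᵁ U), 𝒮.deg U hU →+*ᵍ 𝒮'.deg U' hU')
  (hirr : ∀ (U : Y.Opens) (hU : IsAffineOpen U) (U' : Y'.Opens) (hU' : IsAffineOpen U')
    (hle : U' ≤ ψ ⁻¹ᵁ U), (𝒮'.deg U' hU')₊ ≤ ((𝒮.deg U hU)₊).map (φ U hU U' hU' hle))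
  {p : P ⟶ Y}
  {chart : ∀ (U : Y.Opens) (hU : IsAffineOpen U),
    (((p ⁻¹ᵁ U : P.Opens) : Scheme.{u}) ≅ Proj (𝒮.deg U hU))}
  {p' : P' ⟶ Y'}
  {chart' : ∀ (U' : Y'.Opens) (hU' : IsAffineOpen U'),
    (((p' ⁻¹ᵁ U' : P'.Opens) : Scheme.{u}) ≅ Proj (𝒮'.deg U' hU'))}
  {g : P' ⟶ P}
  (hg : ∀ (U : Y.Opens) (hU : IsAffineOpen U) (U' : Y'.Opens) (hU' : IsAffineOpen U')
    (hle : U' ≤ ψ ⁻¹ᵁ U), (p' ⁻¹ᵁ U').ι ≫ g =
      (chart' U' hU').hom ≫ Proj.map (φ U hU U' hU' hle) (hirr U hU U' hU' hle) ≫ emb p chart U hU)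
  {n : ℤ} {L : P.Modules}
  {lam : ∀ (U : Y.Opens) (hU : IsAffineOpen U),
    L ⟶ (Scheme.Modules.pushforward (emb p chart U hU)).obj (GrTwist.twist (𝒮.deg U hU) n)}
  {L' : P'.Modules}
  {lam' : ∀ (U' : Y'.Opens) (hU' : IsAffineOpen U'),
    L' ⟶ (Scheme.Modules.pushforward (emb p' chart' U' hU')).obj
      (GrTwist.twist (𝒮'.deg U' hU') n)}
  (hL : IsRelTwist 𝒮 p chart n L lam) (hL' : IsRelTwist 𝒮' p' chart' n L' lam')

include hg hL hL' in
/-- around every point of `P'`: a local generator of `O_P(n)` whose image generates `O_{P'}(n)` -/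
theorem exists_generators
    (hgen1 : ∀ (U : Y.Opens) (hU : IsAffineOpen U),
      ((𝒮.deg U hU)₊).toIdeal ≤ Ideal.span (𝒮.deg U hU 1 : Set (𝒮.presheaf.obj (op U))))
    (θ : L ⟶ (Scheme.Modules.pushforward g).obj L')
    (hθ : ∀ c : Pr ψ, θ ≫ bC lam' c = aC φ hirr hg lam c) (x : P') :
    ∃ (WA : P.Opens) (WB : P'.Opens) (e : WB ≤ g ⁻¹ᵁ WA), IsAffineOpen WA ∧ IsAffineOpen WB ∧
      x ∈ WB ∧ ∃ s : Γ(L, WA), Function.Bijective (fun c : Γ(P, WA) => c • s) ∧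
        Function.Bijective (fun c : Γ(P', WB) =>
          c • L'.presheaf.map (homOfLE e).op (θ.app WA s)) := by
  obtain ⟨U, hU, U', hU', hle, hxU'⟩ := exists_pair (g := ψ) (p' x)
  set c : Pr ψ := ⟨U, hU, U', hU', hle⟩ with hc
  have hxU'' : x ∈ p' ⁻¹ᵁ U' := hxU'
  set y : Proj (𝒮'.deg U' hU') := (chart' U' hU').hom ⟨x, hxU''⟩ with hy_def
  have hyx : (emb p' chart' U' hU') y = x := emb_chart_hom p' chart' U' hU' x hxU''
  set ψc := φ U hU U' hU' hle with hψc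
  -- a degree-one element not vanishing at `y`
  obtain ⟨f, hf, hfy⟩ : ∃ f ∈ 𝒮.deg U hU 1, ψc f ∉ y.asHomogeneousIdeal := by
    by_contra hcon
    push Not at hcon
    apply y.not_irrelevant_le
    refine (hirr U hU U' hU' hle).trans ?_
    intro b hb
    have hb' : b ∈ ((𝒮.deg U hU)₊).toIdeal.map ψc := hb
    have hle' : ((𝒮.deg U hU)₊).toIdeal.map ψc ≤ y.asHomogeneousIdeal.toIdeal := by
      rw [Ideal.map_le_iff_le_comap]
      refine (hgen1 U hU).trans ?_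
      rw [Ideal.span_le]
      intro a ha
      exact hcon a ha
    exact hle' hb'
  set DA : (Proj (𝒮.deg U hU)).Opens := Proj.basicOpen (𝒮.deg U hU) f with hDA
  set DB : (Proj (𝒮'.deg U' hU')).Opens := Proj.basicOpen (𝒮'.deg U' hU') (ψc f) with hDB
  set WA : P.Opens := (emb p chart U hU) ''ᵁ DA with hWA_def
  set WB : P'.Opens := (emb p' chart' U' hU') ''ᵁ DB with hWB_def
  have hWA : IsAffineOpen WA :=
    (Proj.isAffineOpen_basicOpen (𝒮.deg U hU) f hf Nat.one_pos).image_of_isOpenImmersion _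
  have hWB : IsAffineOpen WB :=
    (Proj.isAffineOpen_basicOpen (𝒮'.deg U' hU') (ψc f) (ψc.map_mem hf)
      Nat.one_pos).image_of_isOpenImmersion _
  have hWAU : WA ≤ p ⁻¹ᵁ U := by
    rintro _ ⟨z, -, rfl⟩
    exact emb_mem p chart U hU z
  have hWBU : WB ≤ p' ⁻¹ᵁ U' := by
    rintro _ ⟨z, -, rfl⟩
    exact emb_mem p' chart' U' hU' z
  have hpreA : emb p chart U hU ⁻¹ᵁ WA = DA := Scheme.Hom.preimage_image_eq _ _
  have hpreB : emb p' chart' U' hU' ⁻¹ᵁ WB = DB := Scheme.Hom.preimage_image_eq _ _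
  have e : WB ≤ g ⁻¹ᵁ WA := by
    rintro _ ⟨z, hz, rfl⟩
    change g.base ((emb p' chart' U' hU').base z) ∈ WA
    rw [emb_sq_apply φ hirr hg c z]
    refine ⟨_, ?_, rfl⟩
    exact hz
  have hxWB : x ∈ WB := ⟨y, hfy, hyx⟩
  -- the generators
  have ha : f ^ n.toNat ∈ 𝒮.deg U hU n.toNat := TRC.pow_mem_of_mem_one _ hf _
  have hb : f ^ (-n).toNat ∈ 𝒮.deg U hU (-n).toNat := TRC.pow_mem_of_mem_one _ hf _
  have ha' : ψc f ^ n.toNat ∈ 𝒮'.deg U' hU' n.toNat :=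
    TRC.pow_mem_of_mem_one _ (ψc.map_mem hf) _
  have hb' : ψc f ^ (-n).toNat ∈ 𝒮'.deg U' hU' (-n).toNat :=
    TRC.pow_mem_of_mem_one _ (ψc.map_mem hf) _
  have hij : ((n.toNat : ℕ) : ℤ) = ((-n).toNat : ℕ) + n := by omega
  have hnotA : ∀ (k : ℕ) (z : ProjectiveSpectrum.top (𝒮.deg U hU)),
      z ∈ emb p chart U hU ⁻¹ᵁ WA → f ^ k ∉ z.asHomogeneousIdeal := by
    intro k z hz hmem
    rw [hpreA] at hz
    exact hz (z.isPrime.mem_of_pow_mem _ hmem)
  have hnotB : ∀ (k : ℕ) (z : ProjectiveSpectrum.top (𝒮'.deg U' hU')),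
      z ∈ emb p' chart' U' hU' ⁻¹ᵁ WB → ψc f ^ k ∉ z.asHomogeneousIdeal := by
    intro k z hz hmem
    rw [hpreB] at hz
    exact hz (z.isPrime.mem_of_pow_mem _ hmem)
  obtain ⟨s, hs⟩ := (hL.bijective U hU WA hWAU).2
    (GT.fracSect n (f ^ n.toNat) ha (f ^ (-n).toNat) hb hij (emb p chart U hU ⁻¹ᵁ WA)
      (hnotA _))
  refine ⟨WA, WB, e, hWA, hWB, hxWB, s, ?_, ?_⟩
  · exact TRS.smul_bijective_of_fracSect hL U hU WA hWAU _ ha _ hb hij (hnotA _) (hnotA _) s hs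
  · refine TRS.smul_bijective_of_fracSect hL' U' hU' WB hWBU _ ha' _ hb' hij (hnotB _) (hnotB _)
      _ ?_
    rw [Groth.Agent.Helper4.StalkExact.app_res]
    apply GT.sect_ext
    rintro ⟨z, hz⟩
    have hzB : (emb p' chart' U' hU').base z ∈ g ⁻¹ᵁ WA := e hz
    have hzA : (emb p chart U hU).base
        (ProjectiveSpectrum.comap ψc (hirr U hU U' hU' hle) z) ∈ WA := by
      have h1 := emb_sq_apply φ hirr hg c z
      rw [← h1]
      exact hzB
    rw [GT.val_fracSect]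
    have hrel : RelC φ hirr lam lam' c WA (g ⁻¹ᵁ WA) s (θ.app WA s) := by
      apply (relC_iff φ hirr hg c WA s (θ.app WA s)).1
      have := congrArg (fun k => k.app WA s) (hθ c)
      exact this
    refine (hrel z hzB hzA).trans ?_
    rw [hs, GT.val_fracSect, GrTwist.locMap_mk]
    congr 1
    · exact map_pow ψc f _
    · exact Subtype.ext (map_pow ψc f _)

end Groth.Agent.Helper4.SN312
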