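import Mathlib
import Groth.Prelude.Def_RelProj3
import Groth.Agent.Helper1.SG5
import Groth.Agent.Helper1.PL3
import Groth.Agent.Helper1.CF3
import Groth.Agent.Helper4.QcohGlue
import Groth.Agent.Helper4.QcohLocal
import Groth.Agent.Helper4.Scalar

/-!
# For an invertible module `L`, the canonical map `L ⟶ p_* O_{P(L)}(1)` is an isomorphism
-/

set_option autoImplicit false
set_option linter.unusedSectionVars false
set_option linter.style.haveILetI false

namespace Groth.Agent.Helper4.SN313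

open CategoryTheory CategoryTheory.Limits AlgebraicGeometry TopologicalSpace Opposite RelProj
open Groth.Agent.Helper1 Groth.Agent.Helper1.RP Groth.Agent.Helper1.SY
open scoped HomogeneousIdeal

universe u

variable {X PL : Scheme.{u}} {L : X.Modules} [L.IsQuasicoherent] {𝒮L : QCGrAlg X}
  {jL : L ⟶ 𝒮L.toModule} (hjL : IsGrSymAlg L 𝒮L jL) {pL : PL ⟶ X}
  {chartL : ∀ (U : X.Opens) (hU : IsAffineOpen U),
    (((pL ⁻¹ᵁ U : PL.Opens) : Scheme.{u}) ≅ Proj (𝒮L.deg U hU))}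
  (hPL : IsRelProj 𝒮L pL chartL)
  {O1L : PL.Modules}
  {lamL : ∀ (U : X.Opens) (hU : IsAffineOpen U),
    O1L ⟶ (Scheme.Modules.pushforward (emb pL chartL U hU)).obj (GrTwist.twist (𝒮L.deg U hU) 1)}
  (hO1L : IsRelTwist 𝒮L pL chartL 1 O1L lamL)

include hjL hPL hO1L in
/-- over an affine open where `L` is free on `m`, the section `φ(m)` generates `O(1)` freely and
the canonical map is bijective -/
theorem app_bijective (hL : PicF.IsInvertible L)
    (φL : L ⟶ (Scheme.Modules.pushforward pL).obj O1L)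
    (hφL : ∀ (U : X.Opens) (hU : IsAffineOpen U) (e : Γ(L, U))
      (y : ↥(emb pL chartL U hU ⁻¹ᵁ (pL ⁻¹ᵁ U))),
      GrTwist.val (V := emb pL chartL U hU ⁻¹ᵁ (pL ⁻¹ᵁ U))
          ((lamL U hU).app (pL ⁻¹ᵁ U) ((φL.app U) e)) y =
        algebraMap (𝒮L.presheaf.obj (op U)) (GrTwist.Loc (𝒮L.deg U hU) y.1)
          ((jL.app U) e : 𝒮L.presheaf.obj (op U)))
    (V : X.Opens) (hV : IsAffineOpen V) (m : Γ(L, V))
    (hm : Function.Bijective (fun r : Γ(X, V) => r • m)) :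
    Function.Bijective (fun c : Γ(PL, pL ⁻¹ᵁ V) => c • (show Γ(O1L, pL ⁻¹ᵁ V) from φL.app V m)) ∧
      Function.Bijective (φL.app V) := by
  haveI : IsIso pL := Groth.Agent.Helper1.PL.isIso_relProj_of_isInvertible hL hjL pL chartL hPL
  have hbij := Groth.Agent.Helper1.PL.eval₂_bijective hjL.1 V hV m hm
  set gm : 𝒮L.presheaf.obj (op V) := jR (A := 𝒮L.toQCAlg) jL V m with hgm
  have hg1 : gm ∈ 𝒮L.deg V hV 1 := hjL.2 V hV m
  have htop : Proj.basicOpen (𝒮L.deg V hV) gm = ⊤ :=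
    Groth.Agent.Helper1.PL.basicOpen_eq_top (𝒮L.str.app (op V)).hom (𝒮L.str_mem V hV) gm hg1 hbij.2
  have h1mem : (1 : 𝒮L.presheaf.obj (op V)) ∈ 𝒮L.deg V hV 0 := SetLike.GradedOne.one_mem
  have hij : ((1 : ℕ) : ℤ) = ((0 : ℕ) : ℤ) + 1 := by norm_num
  have hWa : ∀ z : ProjectiveSpectrum.top (𝒮L.deg V hV),
      z ∈ emb pL chartL V hV ⁻¹ᵁ (pL ⁻¹ᵁ V) → gm ∉ z.asHomogeneousIdeal := by
    intro z _
    have hz : z ∈ Proj.basicOpen (𝒮L.deg V hV) gm := by rw [htop]; trivial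
    exact hz
  have hWb : ∀ z : ProjectiveSpectrum.top (𝒮L.deg V hV),
      z ∈ emb pL chartL V hV ⁻¹ᵁ (pL ⁻¹ᵁ V) →
      (1 : 𝒮L.presheaf.obj (op V)) ∉ z.asHomogeneousIdeal := by
    intro z _ h1
    exact z.isPrime.ne_top ((Ideal.eq_top_iff_one _).2 h1)
  have hfrac : (lamL V hV).app (pL ⁻¹ᵁ V) (φL.app V m) =
      GT.fracSect 1 gm hg1 1 h1mem hij (emb pL chartL V hV ⁻¹ᵁ (pL ⁻¹ᵁ V)) hWb := by
    apply GT.sect_ext
    rintro ⟨z, hz⟩
    rw [GT.val_fracSect]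
    refine (hφL V hV m ⟨z, hz⟩).trans ?_
    exact (Localization.mk_one_eq_algebraMap _).symm
  have hgen := TRS.smul_bijective_of_fracSect hO1L V hV (pL ⁻¹ᵁ V) le_rfl gm hg1 1 h1mem hij
    hWa hWb (φL.app V m) hfrac
  refine ⟨hgen, ?_⟩
  have hlin : ∀ c : Γ(X, V), φL.app V (c • m) =
      (pL.app V c) • (show Γ(O1L, pL ⁻¹ᵁ V) from φL.app V m) := by
    intro c
    rw [Scheme.Modules.Hom.app_smul]
    rfl
  have hpL : Function.Bijective (pL.app V) := ConcreteCategory.bijective_of_isIso _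
  have hcomp : (φL.app V : _ → _) ∘ (fun c : Γ(X, V) => c • m) =
      (fun c : Γ(PL, pL ⁻¹ᵁ V) => c • (show Γ(O1L, pL ⁻¹ᵁ V) from φL.app V m)) ∘ (pL.app V) := by
    funext c
    exact hlin c
  have h2 : Function.Bijective ((φL.app V : _ → _) ∘ (fun c : Γ(X, V) => c • m)) := by
    rw [hcomp]
    exact hgen.comp hpL
  exact (Function.Bijective.of_comp_iff (φL.app V) hm).1 h2

include hjL hPL hO1L in
/-- **for `L` invertible the canonical map `L ⟶ p_* O_{P(L)}(1)` is an isomorphism** -/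
theorem isIso_canonical (hL : PicF.IsInvertible L)
    (φL : L ⟶ (Scheme.Modules.pushforward pL).obj O1L)
    (hφL : ∀ (U : X.Opens) (hU : IsAffineOpen U) (e : Γ(L, U))
      (y : ↥(emb pL chartL U hU ⁻¹ᵁ (pL ⁻¹ᵁ U))),
      GrTwist.val (V := emb pL chartL U hU ⁻¹ᵁ (pL ⁻¹ᵁ U))
          ((lamL U hU).app (pL ⁻¹ᵁ U) ((φL.app U) e)) y =
        algebraMap (𝒮L.presheaf.obj (op U)) (GrTwist.Loc (𝒮L.deg U hU) y.1)
          ((jL.app U) e : 𝒮L.presheaf.obj (op U))) :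
    IsIso φL := by
  haveI : IsIso pL := Groth.Agent.Helper1.PL.isIso_relProj_of_isInvertible hL hjL pL chartL hPL
  haveI := TRR.isQuasicoherent_of_isRelTwist hO1L
  haveI : ((Scheme.Modules.pushforward pL).obj O1L).IsQuasicoherent :=
    Groth.Agent.Helper4.QcohGlue.isQuasicoherent_pushforward pL O1L
  apply Groth.Agent.Helper4.QcohLocal.isIso_of_app_bijective_of_affine_cover
  intro x
  obtain ⟨V, hV, m, hxV, hm⟩ := Groth.Agent.Helper1.PL.exists_affine_generator L hL x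
  exact ⟨V, hV, hxV, (app_bijective hjL hPL hO1L hL φL hφL V hV m hm).2⟩

end Groth.Agent.Helper4.SN313
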