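import Mathlib
import Groth.Agent.Helper4.SN313
import Groth.Agent.Helper4.SN312
import Groth.Agent.Helper4.SN311
import Groth.Agent.Helper1.PBIso
import Groth.Agent.Helper1.QH2

/-!
# The comparison map `O_{P(E)}(1) ⟶ r_* L` for the morphism `r : X ⟶ P(E)` attached to an
epimorphism `g^*E ⟶ L`: its adjoint is an isomorphism and it transposes the epimorphism
-/

set_option autoImplicit false
set_option linter.unusedSectionVars false
set_option linter.style.haveILetI false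

namespace Groth.Agent.Helper4.SN314

open CategoryTheory CategoryTheory.Limits AlgebraicGeometry TopologicalSpace Opposite RelProj
open Groth.Agent.Helper1 Groth.Agent.Helper1.RP
open Groth.Agent.Helper4.SN280
open scoped HomogeneousIdeal

universe u

noncomputable section

section A

variable {X PL P : Scheme.{u}} (pL : PL ⟶ X) [IsIso pL] {L : X.Modules} {O1L : PL.Modules}
  (φL : L ⟶ (Scheme.Modules.pushforward pL).obj O1L) [IsIso φL]
  (h : PL ⟶ P) {O1 : P.Modules} (θ : O1 ⟶ (Scheme.Modules.pushforward h).obj O1L)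

/-- the inverse of the canonical map, pushed forward along the inverse of `pL` -/
def ζ : O1L ⟶ (Scheme.Modules.pushforward (inv pL)).obj L :=
  (Scheme.Modules.pushforwardId PL).inv.app O1L ≫
    (Scheme.Modules.pushforwardCongr (IsIso.hom_inv_id pL).symm).hom.app O1L ≫
    (Scheme.Modules.pushforwardComp pL (inv pL)).inv.app O1L ≫
    (Scheme.Modules.pushforward (inv pL)).map (inv φL)

lemma preimage_le (W : PL.Opens) : pL ⁻¹ᵁ ((inv pL) ⁻¹ᵁ W) ≤ W := by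
  intro z hz
  have h1 : (inv pL).base (pL.base z) ∈ W := hz
  have h2 : (inv pL).base (pL.base z) = z := by
    rw [← Scheme.Hom.comp_apply, IsIso.hom_inv_id]
    rfl
  rwa [h2] at h1

lemma preimage_eq (W : PL.Opens) : pL ⁻¹ᵁ ((inv pL) ⁻¹ᵁ W) = W := by
  apply le_antisymm (preimage_le pL W)
  intro z hz
  have h2 : (inv pL).base (pL.base z) = z := by
    rw [← Scheme.Hom.comp_apply, IsIso.hom_inv_id]
    rfl
  change (inv pL).base (pL.base z) ∈ W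
  rwa [h2]

theorem ζ_spec (W : PL.Opens) (t : Γ(O1L, W)) :
    φL.app ((inv pL) ⁻¹ᵁ W) ((ζ pL φL).app W t) =
      O1L.presheaf.map (homOfLE (preimage_le pL W)).op t := by
  have h1 : (ζ pL φL).app W t = (inv φL).app ((inv pL) ⁻¹ᵁ W)
      (O1L.presheaf.map (homOfLE (preimage_le pL W)).op t) := by
    rfl
  rw [h1]
  have h2 := congrArg (fun k => k.app ((inv pL) ⁻¹ᵁ W)
    (O1L.presheaf.map (homOfLE (preimage_le pL W)).op t)) (IsIso.inv_hom_id φL)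
  exact h2

/-- the comparison map `O_P(1) ⟶ r_* L` for `r = pL⁻¹ ≫ h` -/
def θr : O1 ⟶ (Scheme.Modules.pushforward (inv pL ≫ h)).obj L :=
  θ ≫ (Scheme.Modules.pushforward h).map (ζ pL φL) ≫
    (Scheme.Modules.pushforwardComp (inv pL) h).hom.app L

theorem θr_spec (V : P.Opens) (s : Γ(O1, V)) :
    φL.app ((inv pL ≫ h) ⁻¹ᵁ V) ((θr pL φL h θ).app V s) =
      O1L.presheaf.map (homOfLE (preimage_le pL (h ⁻¹ᵁ V))).op (θ.app V s) :=
  ζ_spec pL φL (h ⁻¹ᵁ V) (θ.app V s)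

lemma app_bijective_of_isIso {Z : Scheme.{u}} {M N : Z.Modules} (f : M ⟶ N) [IsIso f]
    (U : Z.Opens) : Function.Bijective (f.app U) := by
  refine Function.bijective_iff_has_inverse.2 ⟨(inv f).app U, fun a => ?_, fun b => ?_⟩
  · exact congrArg (fun k => k.app U a) (IsIso.hom_inv_id f)
  · exact congrArg (fun k => k.app U b) (IsIso.inv_hom_id f)

lemma smul_bijective_congr {Z : Scheme.{u}} (M : Z.Modules) {W W' W₀ : Z.Opens} (hW : W' = W)
    (i : W ≤ W₀) (i' : W' ≤ W₀) (t : Γ(M, W₀))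
    (hb : Function.Bijective (fun c : Γ(Z, W) => c • M.presheaf.map (homOfLE i).op t)) :
    Function.Bijective (fun c : Γ(Z, W') => c • M.presheaf.map (homOfLE i').op t) := by
  subst hW
  exact hb

/-- restriction of `θr_spec` to a smaller open -/
theorem θr_spec_res (V : P.Opens) (s : Γ(O1, V)) (V' : X.Opens) (i : V' ≤ (inv pL ≫ h) ⁻¹ᵁ V) :
    φL.app V' (L.presheaf.map (homOfLE i).op ((θr pL φL h θ).app V s)) =
      O1L.presheaf.map (homOfLE (show pL ⁻¹ᵁ V' ≤ h ⁻¹ᵁ V from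
        (pL.preimage_mono i).trans (preimage_le pL (h ⁻¹ᵁ V)))).op (θ.app V s) := by
  have h1 := Groth.Agent.Helper4.StalkExact.app_res φL (homOfLE i)
    (show Γ(L, (inv pL ≫ h) ⁻¹ᵁ V) from (θr pL φL h θ).app V s)
  refine h1.trans ?_
  have h2 := θr_spec pL φL h θ V s
  refine (congrArg (((Scheme.Modules.pushforward pL).obj O1L).presheaf.map (homOfLE i).op)
    h2).trans ?_
  change (O1L.presheaf.map _ ≫ O1L.presheaf.map _) _ = _
  rw [← Functor.map_comp]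
  rfl

end A

section B

variable {Y X P PL : Scheme.{u}} {q : X ⟶ Y} {𝒮 : QCGrAlg Y} {𝒮L : QCGrAlg X}
  (φ : ∀ (U : Y.Opens) (hU : IsAffineOpen U) (U' : X.Opens) (hU' : IsAffineOpen U')
    (_ : U' ≤ q ⁻¹ᵁ U), 𝒮.deg U hU →+*ᵍ 𝒮L.deg U' hU')
  (hirr : ∀ (U : Y.Opens) (hU : IsAffineOpen U) (U' : X.Opens) (hU' : IsAffineOpen U')
    (hle : U' ≤ q ⁻¹ᵁ U), (𝒮L.deg U' hU')₊ ≤ ((𝒮.deg U hU)₊).map (φ U hU U' hU' hle))
  {p : P ⟶ Y}
  {chart : ∀ (U : Y.Opens) (hU : IsAffineOpen U),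
    (((p ⁻¹ᵁ U : P.Opens) : Scheme.{u}) ≅ Proj (𝒮.deg U hU))}
  {pL : PL ⟶ X}
  {chartL : ∀ (U' : X.Opens) (hU' : IsAffineOpen U'),
    (((pL ⁻¹ᵁ U' : PL.Opens) : Scheme.{u}) ≅ Proj (𝒮L.deg U' hU'))}
  {h : PL ⟶ P}
  (hg : ∀ (U : Y.Opens) (hU : IsAffineOpen U) (U' : X.Opens) (hU' : IsAffineOpen U')
    (hle : U' ≤ q ⁻¹ᵁ U), (pL ⁻¹ᵁ U').ι ≫ h =
      (chartL U' hU').hom ≫ Proj.map (φ U hU U' hU' hle) (hirr U hU U' hU' hle) ≫
        emb p chart U hU)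
  {O1 : P.Modules}
  {lam : ∀ (U : Y.Opens) (hU : IsAffineOpen U),
    O1 ⟶ (Scheme.Modules.pushforward (emb p chart U hU)).obj (GrTwist.twist (𝒮.deg U hU) 1)}
  {O1L : PL.Modules}
  {lamL : ∀ (U' : X.Opens) (hU' : IsAffineOpen U'),
    O1L ⟶ (Scheme.Modules.pushforward (emb pL chartL U' hU')).obj
      (GrTwist.twist (𝒮L.deg U' hU') 1)}
  (hO1 : IsRelTwist 𝒮 p chart 1 O1 lam) (hO1L : IsRelTwist 𝒮L pL chartL 1 O1L lamL)
  [IsIso pL] {L : X.Modules} [L.IsQuasicoherent]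
  (φL : L ⟶ (Scheme.Modules.pushforward pL).obj O1L) [IsIso φL]

include hg hO1 hO1L in
/-- **the adjoint `r^* O_P(1) ⟶ L` of the comparison map is an isomorphism** -/
theorem isIso_adjoint_θr
    (hgen1 : ∀ (U : Y.Opens) (hU : IsAffineOpen U),
      ((𝒮.deg U hU)₊).toIdeal ≤ Ideal.span (𝒮.deg U hU 1 : Set (𝒮.presheaf.obj (op U))))
    (θ : O1 ⟶ (Scheme.Modules.pushforward h).obj O1L)
    (hθ : ∀ c : Pr q, θ ≫ bC lamL c = aC φ hirr hg lam c) :
    IsIso (((Scheme.Modules.pullbackPushforwardAdjunction (inv pL ≫ h)).homEquiv O1 L).symm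
      (θr pL φL h θ)) := by
  haveI := TRR.isQuasicoherent_of_isRelTwist hO1
  apply PBIso.isIso_adjoint_of_generators
  intro x
  obtain ⟨WA, WB, e, hWA, hWB, hzWB, s₀, hs₀, hgenB⟩ :=
    Groth.Agent.Helper4.SN312.exists_generators φ hirr hg hO1 hO1L hgen1 θ hθ ((inv pL).base x)
  set V : X.Opens := (inv pL) ⁻¹ᵁ WB with hVdef
  have hV : IsAffineOpen V := hWB.preimage_of_isIso (inv pL)
  have hxV : x ∈ V := hzWB
  have eV : V ≤ (inv pL ≫ h) ⁻¹ᵁ WA := fun y hy => e hy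
  refine ⟨WA, V, eV, hWA, hV, hxV, s₀, hs₀, ?_⟩
  set ℓ : Γ(L, V) := L.presheaf.map (homOfLE eV).op ((θr pL φL h θ).app WA s₀) with hℓ
  have hφℓ : φL.app V ℓ = O1L.presheaf.map (homOfLE (show pL ⁻¹ᵁ V ≤ h ⁻¹ᵁ WA from
      (pL.preimage_mono eV).trans (preimage_le pL (h ⁻¹ᵁ WA)))).op (θ.app WA s₀) :=
    θr_spec_res pL φL h θ WA s₀ V eV
  have hWeq : pL ⁻¹ᵁ V = WB := preimage_eq pL WB
  have hgen' : Function.Bijective (fun c : Γ(PL, pL ⁻¹ᵁ V) =>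
      c • (show Γ(O1L, pL ⁻¹ᵁ V) from φL.app V ℓ)) := by
    rw [hφℓ]
    exact smul_bijective_congr O1L hWeq e _ (θ.app WA s₀) hgenB
  have hlin : ∀ c : Γ(X, V), φL.app V (c • ℓ) =
      (pL.app V c) • (show Γ(O1L, pL ⁻¹ᵁ V) from φL.app V ℓ) := by
    intro c
    rw [Scheme.Modules.Hom.app_smul]
    rfl
  have hpL : Function.Bijective (pL.app V) := ConcreteCategory.bijective_of_isIso _
  have hcomp : (φL.app V : _ → _) ∘ (fun c : Γ(X, V) => c • ℓ) =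
      (fun c : Γ(PL, pL ⁻¹ᵁ V) => c • (show Γ(O1L, pL ⁻¹ᵁ V) from φL.app V ℓ)) ∘ (pL.app V) := by
    funext c
    exact hlin c
  have h2 : Function.Bijective ((φL.app V : _ → _) ∘ (fun c : Γ(X, V) => c • ℓ)) := by
    rw [hcomp]
    exact hgen'.comp hpL
  exact (Function.Bijective.of_comp_iff' (app_bijective_of_isIso φL V) _).1 h2

end B

section C

variable {Y X P PL : Scheme.{u}} (q : X ⟶ Y) (E : Y.Modules) [E.IsQuasicoherent]
  {𝒮 : QCGrAlg Y} {j : E ⟶ 𝒮.toModule} (hj : IsGrSymAlg E 𝒮 j)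
  {L : X.Modules} [L.IsQuasicoherent]
  {𝒮L : QCGrAlg X} {jL : L ⟶ 𝒮L.toModule} (hjL : IsGrSymAlg L 𝒮L jL)
  (s : (Scheme.Modules.pullback q).obj E ⟶ L) [Epi s]
  {p : P ⟶ Y}
  {chart : ∀ (U : Y.Opens) (hU : IsAffineOpen U),
    (((p ⁻¹ᵁ U : P.Opens) : Scheme.{u}) ≅ Proj (𝒮.deg U hU))}
  {pL : PL ⟶ X}
  {chartL : ∀ (U' : X.Opens) (hU' : IsAffineOpen U'),
    (((pL ⁻¹ᵁ U' : PL.Opens) : Scheme.{u}) ≅ Proj (𝒮L.deg U' hU'))}
  {h : PL ⟶ P}
  (hg : ∀ (U : Y.Opens) (hU : IsAffineOpen U) (U' : X.Opens) (hU' : IsAffineOpen U')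
    (hle : U' ≤ q ⁻¹ᵁ U), (pL ⁻¹ᵁ U').ι ≫ h =
      (chartL U' hU').hom ≫ Proj.map ((Groth.Agent.Helper4.SN311.uS q E hj hjL s).gradedAt U hU U' hU' hle)
        (Groth.Agent.Helper4.SN311.hirr q E hj hjL s U hU U' hU' hle) ≫ emb p chart U hU)
  {O1 : P.Modules}
  {lam : ∀ (U : Y.Opens) (hU : IsAffineOpen U),
    O1 ⟶ (Scheme.Modules.pushforward (emb p chart U hU)).obj (GrTwist.twist (𝒮.deg U hU) 1)}
  {O1L : PL.Modules}
  {lamL : ∀ (U' : X.Opens) (hU' : IsAffineOpen U'),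
    O1L ⟶ (Scheme.Modules.pushforward (emb pL chartL U' hU')).obj
      (GrTwist.twist (𝒮L.deg U' hU') 1)}
  (hO1 : IsRelTwist 𝒮 p chart 1 O1 lam) (hO1L : IsRelTwist 𝒮L pL chartL 1 O1L lamL)
  [IsIso pL]
  (φE : E ⟶ (Scheme.Modules.pushforward p).obj O1)
  (hφE : ∀ (U : Y.Opens) (hU : IsAffineOpen U) (e : Γ(E, U))
    (y : ↥(emb p chart U hU ⁻¹ᵁ (p ⁻¹ᵁ U))),
    GrTwist.val (V := emb p chart U hU ⁻¹ᵁ (p ⁻¹ᵁ U))
        ((lam U hU).app (p ⁻¹ᵁ U) ((φE.app U) e)) y =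
      algebraMap (𝒮.presheaf.obj (op U)) (GrTwist.Loc (𝒮.deg U hU) y.1)
        ((j.app U) e : 𝒮.presheaf.obj (op U)))
  (φL : L ⟶ (Scheme.Modules.pushforward pL).obj O1L) [IsIso φL]
  (hφL : ∀ (U : X.Opens) (hU : IsAffineOpen U) (e : Γ(L, U))
    (y : ↥(emb pL chartL U hU ⁻¹ᵁ (pL ⁻¹ᵁ U))),
    GrTwist.val (V := emb pL chartL U hU ⁻¹ᵁ (pL ⁻¹ᵁ U))
        ((lamL U hU).app (pL ⁻¹ᵁ U) ((φL.app U) e)) y =
      algebraMap (𝒮L.presheaf.obj (op U)) (GrTwist.Loc (𝒮L.deg U hU) y.1)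
        ((jL.app U) e : 𝒮L.presheaf.obj (op U)))

include hg hO1L hφE hφL in
/-- **the comparison map transposes the given epimorphism** -/
theorem compat (hr : (inv pL ≫ h) ≫ p = q)
    (θ : O1 ⟶ (Scheme.Modules.pushforward h).obj O1L)
    (hθ : ∀ c : Pr q, θ ≫ bC lamL c =
      aC (fun U hU U' hU' hle => (Groth.Agent.Helper4.SN311.uS q E hj hjL s).gradedAt U hU U' hU' hle)
        (Groth.Agent.Helper4.SN311.hirr q E hj hjL s) hg lam c) :
    φE ≫ (Scheme.Modules.pushforward p).map (θr pL φL h θ) ≫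
        (Scheme.Modules.pushforwardComp (inv pL ≫ h) p).hom.app L ≫
        (Scheme.Modules.pushforwardCongr hr).hom.app L =
      (Scheme.Modules.pullbackPushforwardAdjunction q).homEquiv E L s := by
  apply Groth.Agent.Helper1.QH.modHom_ext_affine
  intro U hU
  ext e
  apply Groth.Agent.Helper1.QH.section_ext_affine L (q ⁻¹ᵁ U)
  intro U' hU' i
  -- the right hand side
  have hR : L.presheaf.map (homOfLE i).op
      (((Scheme.Modules.pullbackPushforwardAdjunction q).homEquiv E L s).app U e) =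
      s.app U' (Groth.Agent.Lead.BCMap.pbSec q E U U' i e) := by
    rw [Adjunction.homEquiv_unit]
    exact (Groth.Agent.Helper4.StalkExact.app_res s (homOfLE i) _).symm
  -- the left hand side
  have hle1 : U' ≤ (inv pL ≫ h) ⁻¹ᵁ (p ⁻¹ᵁ U) := by
    intro x hx
    have h1 : q.base x ∈ U := i hx
    rw [← hr] at h1
    exact h1
  have hL : L.presheaf.map (homOfLE i).op
      ((φE ≫ (Scheme.Modules.pushforward p).map (θr pL φL h θ) ≫
        (Scheme.Modules.pushforwardComp (inv pL ≫ h) p).hom.app L ≫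
        (Scheme.Modules.pushforwardCongr hr).hom.app L).app U e) =
      L.presheaf.map (homOfLE hle1).op ((θr pL φL h θ).app (p ⁻¹ᵁ U) (φE.app U e)) := by
    change (L.presheaf.map _ ≫ L.presheaf.map _) _ = _
    rw [← Functor.map_comp]
    rfl
  refine hL.trans (Eq.trans ?_ hR.symm)
  apply (app_bijective_of_isIso φL U').1
  rw [θr_spec_res pL φL h θ (p ⁻¹ᵁ U) (φE.app U e) U' hle1]
  apply (hO1L.bijective U' hU' (pL ⁻¹ᵁ U') le_rfl).1
  apply GT.sect_ext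
  rintro ⟨y, hy⟩
  rw [hφL U' hU' (s.app U' (Groth.Agent.Lead.BCMap.pbSec q E U U' i e)) ⟨y, hy⟩]
  rw [Groth.Agent.Helper4.StalkExact.app_res]
  set c : Pr q := ⟨U, hU, U', hU', i⟩ with hc
  have hyB : (emb pL chartL U' hU').base y ∈ h ⁻¹ᵁ (p ⁻¹ᵁ U) :=
    ((pL.preimage_mono hle1).trans (preimage_le pL (h ⁻¹ᵁ (p ⁻¹ᵁ U)))) hy
  have hyA : (emb p chart U hU).base (ProjectiveSpectrum.comap
      ((Groth.Agent.Helper4.SN311.uS q E hj hjL s).gradedAt U hU U' hU' i)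
      (Groth.Agent.Helper4.SN311.hirr q E hj hjL s U hU U' hU' i) y) ∈ p ⁻¹ᵁ U :=
    emb_mem p chart U hU _
  have hrel : RelC (fun U hU U' hU' hle =>
      (Groth.Agent.Helper4.SN311.uS q E hj hjL s).gradedAt U hU U' hU' hle)
      (Groth.Agent.Helper4.SN311.hirr q E hj hjL s) lam lamL c (p ⁻¹ᵁ U) (h ⁻¹ᵁ (p ⁻¹ᵁ U))
      (φE.app U e) (θ.app (p ⁻¹ᵁ U) (φE.app U e)) := by
    apply (relC_iff _ _ hg c (p ⁻¹ᵁ U) (φE.app U e) (θ.app (p ⁻¹ᵁ U) (φE.app U e))).1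
    exact congrArg (fun k => k.app (p ⁻¹ᵁ U) (φE.app U e)) (hθ c)
  refine (hrel y hyB hyA).trans ?_
  rw [hφE U hU e ⟨_, hyA⟩]
  have h3 := Groth.Agent.Helper4.SN311.uS_j q E hj hjL s U hU U' hU' i e
  rw [← h3]
  exact Localization.localRingHom_to_map _ _ _ _ _

end C

end

end Groth.Agent.Helper4.SN314
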