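import Mathlib
import Groth.Agent.Helper4.SN314
import Groth.Agent.Helper4.QAffSec
import Groth.Agent.Helper1.SG4
import Groth.Agent.Helper1.SG5
import Groth.Agent.Helper1.RP10
import Groth.Agent.Helper1.TR34
import Groth.Agent.Helper1.CF3
import Groth.Agent.Helper1.PL3
import Groth.Agent.Helper1.RPP9

/-!
# Existence in the universal property of `P(E)`: the morphism attached to an invertible quotient
of `g^*E`
-/

set_option autoImplicit false
set_option linter.unusedSectionVars false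
set_option linter.style.haveILetI false

namespace Groth.Agent.Helper4.SN315

open CategoryTheory CategoryTheory.Limits AlgebraicGeometry TopologicalSpace Opposite RelProj
open Groth.Agent.Helper1 Groth.Agent.Helper1.RP
open Groth.Agent.Helper4.SN280 Groth.Agent.Helper4.SN314
open scoped HomogeneousIdeal

universe u

noncomputable section

section mate

variable {C D : Type*} [Category C] [Category D] {L₁ L₂ : C ⥤ D} {R₁ R₂ : D ⥤ C}
  (adj₁ : L₁ ⊣ R₁) (adj₂ : L₂ ⊣ R₂)

/-- transposing after precomposing with a natural transformation of left adjoints -/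
theorem homEquiv_conjugate (α : L₂ ⟶ L₁) {c : C} {d : D} (f : L₁.obj c ⟶ d) :
    adj₂.homEquiv c d (α.app c ≫ f) =
      adj₁.homEquiv c d f ≫ (conjugateEquiv adj₁ adj₂ α).app d := by
  rw [Adjunction.homEquiv_unit, Adjunction.homEquiv_unit, Functor.map_comp, ← Category.assoc,
    ← unit_conjugateEquiv adj₁ adj₂ α c, Category.assoc, Category.assoc]
  congr 1
  exact ((conjugateEquiv adj₁ adj₂ α).naturality f).symm

end mate

section transpose

variable {X P Y : Scheme.{u}} (r : X ⟶ P) (p : P ⟶ Y)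

lemma pushforwardCongr_rfl_app (L : X.Modules) (f : X ⟶ Y) :
    (Scheme.Modules.pushforwardCongr (rfl : f = f)).hom.app L = 𝟙 _ := by
  apply Scheme.Modules.hom_ext
  intro U
  rw [Scheme.Modules.pushforwardCongr_hom_app_app]
  exact L.presheaf.map_id _

/-- **the transpose of the composite appearing in the universal property of `P(E)`** -/
theorem transpose_eq {g : X ⟶ Y} (hr : r ≫ p = g) (E : Y.Modules) (O1 : P.Modules) (L : X.Modules)
    (φ : E ⟶ (Scheme.Modules.pushforward p).obj O1)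
    (θ : O1 ⟶ (Scheme.Modules.pushforward r).obj L) :
    (Scheme.Modules.pullbackPushforwardAdjunction g).homEquiv E L
      ((Scheme.Modules.pullbackCongr hr).inv.app E ≫ (Scheme.Modules.pullbackComp r p).inv.app E ≫
        (Scheme.Modules.pullback r).map
          (((Scheme.Modules.pullbackPushforwardAdjunction p).homEquiv E O1).symm φ) ≫
        ((Scheme.Modules.pullbackPushforwardAdjunction r).homEquiv O1 L).symm θ) =
      φ ≫ (Scheme.Modules.pushforward p).map θ ≫
        (Scheme.Modules.pushforwardComp r p).hom.app L ≫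
        (Scheme.Modules.pushforwardCongr hr).hom.app L := by
  subst hr
  have h0 : (Scheme.Modules.pullbackCongr (rfl : r ≫ p = r ≫ p)).inv.app E = 𝟙 _ := rfl
  rw [h0, Category.id_comp, pushforwardCongr_rfl_app, Category.comp_id]
  have h1 := homEquiv_conjugate
    ((Scheme.Modules.pullbackPushforwardAdjunction p).comp
      (Scheme.Modules.pullbackPushforwardAdjunction r))
    (Scheme.Modules.pullbackPushforwardAdjunction (r ≫ p))
    (Scheme.Modules.pullbackComp r p).inv (c := E) (d := L)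
    ((Scheme.Modules.pullback r).map
          (((Scheme.Modules.pullbackPushforwardAdjunction p).homEquiv E O1).symm φ) ≫
        ((Scheme.Modules.pullbackPushforwardAdjunction r).homEquiv O1 L).symm θ)
  rw [Scheme.Modules.conjugateEquiv_pullbackComp_inv] at h1
  refine h1.trans ?_
  rw [← Category.assoc]
  congr 1
  rw [Adjunction.comp_homEquiv]
  change ((Scheme.Modules.pullbackPushforwardAdjunction p).homEquiv E _)
    (((Scheme.Modules.pullbackPushforwardAdjunction r).homEquiv _ L) _) = _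
  rw [Adjunction.homEquiv_naturality_left, Equiv.apply_symm_apply,
    Adjunction.homEquiv_naturality_right, Equiv.apply_symm_apply]

end transpose

section main

variable {Y X P PL : Scheme.{u}} (g : X ⟶ Y) (E : Y.Modules) [E.IsQuasicoherent]
  {𝒮 : QCGrAlg Y} {j : E ⟶ 𝒮.toModule} (hj : IsGrSymAlg E 𝒮 j)
  {p : P ⟶ Y}
  {chart : ∀ (U : Y.Opens) (hU : IsAffineOpen U),
    (((p ⁻¹ᵁ U : P.Opens) : Scheme.{u}) ≅ Proj (𝒮.deg U hU))}
  (hP : IsRelProj 𝒮 p chart)
  {O1 : P.Modules}
  {lam : ∀ (U : Y.Opens) (hU : IsAffineOpen U),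
    O1 ⟶ (Scheme.Modules.pushforward (emb p chart U hU)).obj (GrTwist.twist (𝒮.deg U hU) 1)}
  (hO1 : IsRelTwist 𝒮 p chart 1 O1 lam)
  (φE : E ⟶ (Scheme.Modules.pushforward p).obj O1)
  (hφE : ∀ (U : Y.Opens) (hU : IsAffineOpen U) (e : Γ(E, U))
    (y : ↥(emb p chart U hU ⁻¹ᵁ (p ⁻¹ᵁ U))),
    GrTwist.val (V := emb p chart U hU ⁻¹ᵁ (p ⁻¹ᵁ U))
        ((lam U hU).app (p ⁻¹ᵁ U) ((φE.app U) e)) y =
      algebraMap (𝒮.presheaf.obj (op U)) (GrTwist.Loc (𝒮.deg U hU) y.1)
        ((j.app U) e : 𝒮.presheaf.obj (op U)))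
  {L : X.Modules} [L.IsQuasicoherent] (hL : PicF.IsInvertible L)
  {𝒮L : QCGrAlg X} {jL : L ⟶ 𝒮L.toModule} (hjL : IsGrSymAlg L 𝒮L jL)
  {pL : PL ⟶ X}
  {chartL : ∀ (U' : X.Opens) (hU' : IsAffineOpen U'),
    (((pL ⁻¹ᵁ U' : PL.Opens) : Scheme.{u}) ≅ Proj (𝒮L.deg U' hU'))}
  (hPL : IsRelProj 𝒮L pL chartL) [IsIso pL]
  (s : (Scheme.Modules.pullback g).obj E ⟶ L) [Epi s]

include hj hP hO1 hφE hL hjL hPL in
/-- for the morphism `r = pL⁻¹ ≫ h`, `h = Proj(u_s)`: `r^* O_P(1) ≅ L`, compatibly with `s` -/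
theorem exists_tau {h : PL ⟶ P}
    (hg : ∀ (U : Y.Opens) (hU : IsAffineOpen U) (U' : X.Opens) (hU' : IsAffineOpen U')
      (hle : U' ≤ g ⁻¹ᵁ U), (pL ⁻¹ᵁ U').ι ≫ h =
        (chartL U' hU').hom ≫
          Proj.map ((Groth.Agent.Helper4.SN311.uS g E hj hjL s).gradedAt U hU U' hU' hle)
            (Groth.Agent.Helper4.SN311.hirr g E hj hjL s U hU U' hU' hle) ≫ emb p chart U hU)
    (hr : (inv pL ≫ h) ≫ p = g) :
    ∃ τ : (Scheme.Modules.pullback (inv pL ≫ h)).obj O1 ≅ L,
      (Scheme.Modules.pullbackCongr hr).inv.app E ≫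
        (Scheme.Modules.pullbackComp (inv pL ≫ h) p).inv.app E ≫
        (Scheme.Modules.pullback (inv pL ≫ h)).map
          (((Scheme.Modules.pullbackPushforwardAdjunction p).homEquiv E O1).symm φE) ≫
        τ.hom = s := by
  obtain ⟨O1L, lamL, hO1L⟩ := TRE.exists_isRelTwist 1 hPL
  set φL : L ⟶ (Scheme.Modules.pushforward pL).obj O1L := CF.can jL hjL.2 hPL hO1L with hφLdef
  have hφL := CF.val_can jL hjL.2 hPL hO1L
  haveI : IsIso φL := Groth.Agent.Helper4.SN313.isIso_canonical hjL hPL hO1L hL φL hφL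
  obtain ⟨θ, hθ⟩ := exists_theta (Groth.Agent.Helper4.SN310.uK g E hj (s ≫ jL))
    (fun U hU U' hU' hle => (Groth.Agent.Helper4.SN311.uS g E hj hjL s).gradedAt U hU U' hU' hle)
    (fun _ _ _ _ _ => rfl) (Groth.Agent.Helper4.SN311.hirr g E hj hjL s) hg hP hPL hO1 hO1L
  haveI := isIso_adjoint_θr
    (fun U hU U' hU' hle => (Groth.Agent.Helper4.SN311.uS g E hj hjL s).gradedAt U hU U' hU' hle)
    (Groth.Agent.Helper4.SN311.hirr g E hj hjL s) hg hO1 hO1L φL
    (fun U hU => RPP.irrelevant_le_span_one_of_isGrSymAlg hj U hU) θ hθ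
  refine ⟨asIso (((Scheme.Modules.pullbackPushforwardAdjunction (inv pL ≫ h)).homEquiv O1 L).symm
    (θr pL φL h θ)), ?_⟩
  apply ((Scheme.Modules.pullbackPushforwardAdjunction g).homEquiv E L).injective
  rw [asIso_hom, transpose_eq]
  exact compat g E hj hjL s hg hO1L φE hφE φL hφL hr θ hθ

include hj hP hO1 hφE in
/-- **existence in the universal property of `P(E)`** -/
theorem exists_hom_of_epi {L : X.Modules} (hL : PicF.IsInvertible L)
    (s : (Scheme.Modules.pullback g).obj E ⟶ L) [Epi s] :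
    ∃ (r : X ⟶ P) (hr : r ≫ p = g) (τ : (Scheme.Modules.pullback r).obj O1 ≅ L),
      (Scheme.Modules.pullbackCongr hr).inv.app E ≫ (Scheme.Modules.pullbackComp r p).inv.app E ≫
        (Scheme.Modules.pullback r).map
          (((Scheme.Modules.pullbackPushforwardAdjunction p).homEquiv E O1).symm φE) ≫
        τ.hom = s := by
  haveI hLq : L.IsQuasicoherent := Groth.Agent.Helper4.QAffSec.isQuasicoherent_of_isInvertible L hL
  obtain ⟨𝒮L, jL, hjL⟩ : ∃ (𝒮L : RelProj.QCGrAlg X) (jL : L ⟶ 𝒮L.toModule),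
      RelProj.IsGrSymAlg L 𝒮L jL :=
    ⟨_, _, SG.isGrSymAlg_grAlg (SY.isSymAlg_symAlg L)⟩
  obtain ⟨PL, pL, chartL, hPL⟩ := RP.exists_isRelProj 𝒮L
  haveI : IsIso pL := Groth.Agent.Helper1.PL.isIso_relProj_of_isInvertible hL hjL pL chartL hPL
  obtain ⟨h, -, hcomm, hg⟩ := Groth.Agent.Helper4.SN311.exists_projQMap
    (Groth.Agent.Helper4.SN311.uS g E hj hjL s) (Groth.Agent.Helper4.SN311.hirr g E hj hjL s)
    hP hPL
  have hr : (inv pL ≫ h) ≫ p = g := by
    rw [Category.assoc, hcomm, IsIso.inv_hom_id_assoc]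
  obtain ⟨τ, hτ⟩ := exists_tau g E hj hP hO1 φE hφE hL hjL hPL s hg hr
  exact ⟨inv pL ≫ h, hr, τ, hτ⟩

end main

end

end Groth.Agent.Helper4.SN315
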