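import Mathlib
import Groth.Agent.Helper4.SN315
import Groth.Agent.Helper1.ProjBC6
import Groth.Agent.Helper1.PUP8

/-!
# Pullback of sections along a composite
-/

set_option autoImplicit false
set_option linter.unusedSectionVars false
set_option linter.style.haveILetI false

namespace Groth.Agent.Helper4.SN338

open CategoryTheory CategoryTheory.Limits AlgebraicGeometry TopologicalSpace Opposite
open Groth.Agent.Helper4.PullSec Groth.Agent.Helper4.PullUnit Groth.Agent.Helper1.ProjBC
  Groth.Agent.Helper1.PUP

universe u

noncomputable section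

variable {X Y Z : Scheme.{u}} (a : X ⟶ Y) (b : Y ⟶ Z)

/-- `uu f = unit ≫ f_*(pullbackUnitIso f).hom` -/
theorem uu_eq (f : X ⟶ Y) :
    uu f = (Scheme.Modules.pullbackPushforwardAdjunction f).unit.app (Coh.structureModule Y) ≫
      (Scheme.Modules.pushforward f).map (pullbackUnitIso f).hom := by
  have h := adj_symm_uu f
  rw [Equiv.symm_apply_eq] at h
  rw [h, Adjunction.homEquiv_unit]

/-- a section followed by the unit is the unit section followed by the pulled back section -/
theorem pullSec_unit (f : X ⟶ Y) {N : Y.Modules} (s : Coh.structureModule Y ⟶ N) :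
    s ≫ (Scheme.Modules.pullbackPushforwardAdjunction f).unit.app N =
      uu f ≫ (Scheme.Modules.pushforward f).map (pullSec f s) := by
  unfold pullSec
  rw [uu_eq, Functor.map_comp, Category.assoc, ← Category.assoc
    ((Scheme.Modules.pushforward f).map (pullbackUnitIso f).hom), ← Functor.map_comp,
    Iso.hom_inv_id, CategoryTheory.Functor.map_id, Category.id_comp]
  exact ((Scheme.Modules.pullbackPushforwardAdjunction f).unit.naturality s)

theorem pullSec_map (f : X ⟶ Y) {N N' : Y.Modules} (s : Coh.structureModule Y ⟶ N) (φ : N ⟶ N') :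
    pullSec f (s ≫ φ) = pullSec f s ≫ (Scheme.Modules.pullback f).map φ := by
  unfold pullSec
  rw [Functor.map_comp, Category.assoc]

theorem uu_comp :
    uu b ≫ (Scheme.Modules.pushforward b).map (uu a) ≫
      (Scheme.Modules.pushforwardComp a b).hom.app (Coh.structureModule X) = uu (a ≫ b) := by
  apply hom_ext_of_sec
  have h1 : sec (uu (a ≫ b)) ⊤ = (1 : Γ(X, (a ≫ b) ⁻¹ᵁ ⊤)) := uu_app_one (a ≫ b) ⊤
  rw [h1]
  have h2 : sec (uu b ≫ (Scheme.Modules.pushforward b).map (uu a) ≫
      (Scheme.Modules.pushforwardComp a b).hom.app (Coh.structureModule X)) ⊤ =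
      ((Scheme.Modules.pushforwardComp a b).hom.app (Coh.structureModule X)).app ⊤
        (((Scheme.Modules.pushforward b).map (uu a)).app ⊤ ((uu b).app ⊤ (1 : Γ(Z, ⊤)))) := rfl
  rw [h2, uu_app_one b ⊤]
  have h3 : ((Scheme.Modules.pushforward b).map (uu a)).app ⊤ (1 : Γ(Y, b ⁻¹ᵁ ⊤)) =
      (uu a).app (b ⁻¹ᵁ ⊤) (1 : Γ(Y, b ⁻¹ᵁ ⊤)) := rfl
  rw [h3, uu_app_one a (b ⁻¹ᵁ ⊤)]
  rfl

/-- **pulling back a section along a composite** -/
theorem pullSec_comp {N : Z.Modules} (t : Coh.structureModule Z ⟶ N) :
    pullSec (a ≫ b) t ≫ (Scheme.Modules.pullbackComp a b).inv.app N = pullSec a (pullSec b t) := by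
  have key := pullSec_comp_adj (a ≫ b) t
    ((Scheme.Modules.pullbackPushforwardAdjunction (a ≫ b)).homEquiv N _
      ((Scheme.Modules.pullbackComp a b).inv.app N)) (pullSec a (pullSec b t)) ?_
  · rw [Equiv.symm_apply_apply] at key
    exact key
  · have h1 := Groth.Agent.Helper4.SN315.homEquiv_conjugate
      ((Scheme.Modules.pullbackPushforwardAdjunction b).comp
        (Scheme.Modules.pullbackPushforwardAdjunction a))
      (Scheme.Modules.pullbackPushforwardAdjunction (a ≫ b))
      (Scheme.Modules.pullbackComp a b).inv (c := N)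
      (d := (Scheme.Modules.pullback a).obj ((Scheme.Modules.pullback b).obj N)) (𝟙 _)
    rw [Scheme.Modules.conjugateEquiv_pullbackComp_inv, Category.comp_id] at h1
    have h4 : (((Scheme.Modules.pullbackPushforwardAdjunction b).comp
        (Scheme.Modules.pullbackPushforwardAdjunction a)).homEquiv N
          ((Scheme.Modules.pullback a).obj ((Scheme.Modules.pullback b).obj N)))
        (𝟙 ((Scheme.Modules.pullback b ⋙ Scheme.Modules.pullback a).obj N)) =
        (Scheme.Modules.pullbackPushforwardAdjunction b).unit.app N ≫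
          (Scheme.Modules.pushforward b).map
            ((Scheme.Modules.pullbackPushforwardAdjunction a).unit.app
              ((Scheme.Modules.pullback b).obj N)) := by
      rw [Adjunction.homEquiv_unit]
      erw [CategoryTheory.Functor.map_id, Category.comp_id]
    rw [h4] at h1
    refine (congrArg (fun k => t ≫ k) h1).trans ?_
    have h2 := pullSec_unit b t
    have h3 := pullSec_unit a (pullSec b t)
    change t ≫ ((Scheme.Modules.pullbackPushforwardAdjunction b).unit.app N ≫
          (Scheme.Modules.pushforward b).map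
            ((Scheme.Modules.pullbackPushforwardAdjunction a).unit.app
              ((Scheme.Modules.pullback b).obj N))) ≫ _ = _
    rw [← Category.assoc, ← Category.assoc, h2, Category.assoc, Category.assoc,
      ← Category.assoc ((Scheme.Modules.pushforward b).map (pullSec b t)), ← Functor.map_comp,
      h3, Functor.map_comp, ← uu_comp a b]
    simp only [Category.assoc]
    congr 2

end

end Groth.Agent.Helper4.SN338
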