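import Mathlib
import Groth.Prelude.Def_SGA6
import Groth.Agent.Helper2.KZ1
import Groth.Agent.Helper9.ResThm

/-!
# SN221: abstract `K₀` lemmas (Euler characteristic of an exact complex, finite sums,
passage to the union of an increasing chain of properties)
-/

set_option autoImplicit false
set_option linter.unusedSectionVars false
set_option linter.style.haveILetI false

universe v u

open CategoryTheory CategoryTheory.Limits ZeroObject

namespace Groth.Agent.Helper4.SN221

variable {C : Type u} [Category.{v} C] [Abelian C]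

attribute [local instance] Abelian.hasFiniteBiproducts

/-- the closure properties we need of an object property -/
structure Good (P : ObjectProperty C) : Prop where
  iso : ∀ {A B : C}, (A ≅ B) → P A → P B
  zero : ∀ {A : C}, IsZero A → P A
  biprod : ∀ {A B : C}, P A → P B → P (A ⊞ B)

section basics

variable {P : ObjectProperty C} (hP : Good P)
include hP

theorem clSub_iso {A B : C} (e : A ≅ B) (hA : P A) : KZero.clSub P A = KZero.clSub P B := by
  haveI : P.IsClosedUnderIsomorphisms := ⟨fun e h => hP.iso e h⟩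
  haveI : P.ContainsZero := ⟨⟨0, isZero_zero _, hP.zero (isZero_zero _)⟩⟩
  rw [Groth.Agent.Helper2.KZ1.clSub_eq _ _ hA, Groth.Agent.Helper2.KZ1.clSub_eq _ _ (hP.iso e hA)]
  exact Groth.Agent.Helper2.KZ1.cls_iso _ e _ _

theorem clSub_zero {A : C} (hA : IsZero A) : KZero.clSub P A = 0 := by
  rw [Groth.Agent.Helper2.KZ1.clSub_eq _ _ (hP.zero hA)]
  exact Groth.Agent.Helper2.KZ1.cls_zero _ _ hA _

theorem prop_biprod {A B : C} (hA : P A) (hB : P B) : P (A ⊞ B) :=
  hP.biprod hA hB

theorem clSub_biprod {A B : C} (hA : P A) (hB : P B) :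
    KZero.clSub P (A ⊞ B) = KZero.clSub P A + KZero.clSub P B :=
  Groth.Agent.Helper9.ResThm.clSub_add P _
    (ShortComplex.Splitting.ofHasBinaryBiproduct A B).shortExact hA (prop_biprod hP hA hB) hB

omit hP in
/-- splitting off the first summand of a finite biproduct -/
theorem nonempty_biproduct_fin_succ_iso {n : ℕ} (f : Fin (n + 1) → C) :
    Nonempty ((⨁ f) ≅ f 0 ⊞ ⨁ fun i : Fin n => f i.succ) := by
  let c₁ : Fan fun i : Fin n => f i.succ := (biproduct.bicone fun i : Fin n => f i.succ).toCone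
  have t₁ : IsLimit c₁ := biproduct.isLimit _
  let c₂ : BinaryFan (f 0) c₁.pt := (BinaryBiproduct.bicone (f 0) c₁.pt).toCone
  have t₂ : IsLimit c₂ := BinaryBiproduct.isLimit _ _
  have t := extendFanIsLimit f t₁ t₂
  exact ⟨(biproduct.isLimit f).conePointUniqueUpToIso t⟩

theorem biproduct_const (G : C) (hG : P G) : ∀ c : ℕ,
    P (⨁ fun _ : Fin c => G) ∧ KZero.clSub P (⨁ fun _ : Fin c => G) = c • KZero.clSub P G := by
  intro c
  induction c with
  | zero =>
    have hz : IsZero (⨁ fun _ : Fin 0 => G) := by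
      rw [IsZero.iff_id_eq_zero]
      apply biproduct.hom_ext
      intro j
      exact j.elim0
    exact ⟨hP.zero hz, by rw [clSub_zero hP hz, zero_smul]⟩
  | succ c ih =>
    obtain ⟨i⟩ := nonempty_biproduct_fin_succ_iso (fun _ : Fin (c + 1) => G)
    have h1 : P (G ⊞ ⨁ fun _ : Fin c => G) := prop_biprod hP hG ih.1
    refine ⟨hP.iso i.symm h1, ?_⟩
    rw [clSub_iso hP i (hP.iso i.symm h1)]
    have h2 := clSub_biprod hP hG ih.1
    rw [ih.2] at h2
    rw [succ_nsmul, add_comm]
    exact h2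

theorem sigma_const (G : C) (hG : P G) (c : ℕ) :
    P (∐ fun _ : Fin c => G) ∧ KZero.clSub P (∐ fun _ : Fin c => G) = c • KZero.clSub P G := by
  obtain ⟨h1, h2⟩ := biproduct_const hP G hG c
  have e : (⨁ fun _ : Fin c => G) ≅ ∐ fun _ : Fin c => G := biproduct.isoCoproduct _
  exact ⟨hP.iso e h1, by rw [← clSub_iso hP e h1, h2]⟩

/-- **the Euler characteristic of a finite exact complex vanishes**, in the form of a chain of
short exact sequences `0 → B (p+1) → M p → B p → 0` -/
theorem euler (B M : ℕ → C) (f : ∀ p, B (p + 1) ⟶ M p) (g : ∀ p, M p ⟶ B p)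
    (w : ∀ p, f p ≫ g p = 0) (hS : ∀ p, (ShortComplex.mk (f p) (g p) (w p)).ShortExact)
    (hB : ∀ p, P (B p)) (hM : ∀ p, P (M p)) (r : ℕ) (hr : IsZero (B r)) :
    ∑ p ∈ Finset.range r, (-1 : ℤ) ^ p • KZero.clSub P (M p) = KZero.clSub P (B 0) := by
  have key : ∀ r : ℕ, ∑ p ∈ Finset.range r, (-1 : ℤ) ^ p • KZero.clSub P (M p) =
      KZero.clSub P (B 0) - (-1 : ℤ) ^ r • KZero.clSub P (B r) := by
    intro r
    induction r with
    | zero => simp
    | succ r ih =>
      rw [Finset.sum_range_succ, ih]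
      have h1 := Groth.Agent.Helper9.ResThm.clSub_add P _ (hS r) (hB (r + 1)) (hM r) (hB r)
      simp only at h1
      rw [h1, pow_succ, smul_add]
      simp only [mul_neg, mul_one, neg_smul]
      abel
  rw [key r, clSub_zero hP hr, smul_zero, sub_zero]

end basics

section imageSES

variable (X : ℕ → C) (d : ∀ p, X (p + 1) ⟶ X p)

/-- the images of the differentials -/
noncomputable abbrev Bd (p : ℕ) : C := Abelian.image (d p)

noncomputable def fB (p : ℕ) : Bd X d (p + 1) ⟶ X (p + 1) := Abelian.image.ι (d (p + 1))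

noncomputable def gB (p : ℕ) : X (p + 1) ⟶ Bd X d p := Abelian.factorThruImage (d p)

instance (p : ℕ) : Mono (fB X d p) := inferInstanceAs (Mono (Abelian.image.ι (d (p + 1))))

instance (p : ℕ) : Epi (gB X d p) := inferInstanceAs (Epi (Abelian.factorThruImage (d p)))

theorem fac_fB (p : ℕ) : Abelian.factorThruImage (d (p + 1)) ≫ fB X d p = d (p + 1) :=
  Abelian.image.fac _

theorem gB_fac (p : ℕ) : gB X d p ≫ Abelian.image.ι (d p) = d p :=
  Abelian.image.fac _

variable (hd : ∀ p, d (p + 1) ≫ d p = 0)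
include hd

theorem fB_gB (p : ℕ) : fB X d p ≫ gB X d p = 0 := by
  have h1 : (fB X d p ≫ gB X d p) ≫ Abelian.image.ι (d p) = 0 ≫ Abelian.image.ι (d p) := by
    rw [Category.assoc, zero_comp, gB_fac]
    have h2 : Abelian.factorThruImage (d (p + 1)) ≫ fB X d p ≫ d p =
        Abelian.factorThruImage (d (p + 1)) ≫ 0 := by
      rw [← Category.assoc, fac_fB, hd, comp_zero]
    exact (cancel_epi _).1 h2
  exact (cancel_mono _).1 h1

theorem shortExact_B (hex : ∀ p, (ShortComplex.mk (d (p + 1)) (d p) (hd p)).Exact) (p : ℕ) :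
    (ShortComplex.mk (fB X d p) (gB X d p) (fB_gB X d hd p)).ShortExact := by
  have w2 : fB X d p ≫ d p = 0 := by
    have h2 : Abelian.factorThruImage (d (p + 1)) ≫ fB X d p ≫ d p =
        Abelian.factorThruImage (d (p + 1)) ≫ 0 := by
      rw [← Category.assoc, fac_fB, hd, comp_zero]
    exact (cancel_epi _).1 h2
  let S₁ := ShortComplex.mk (d (p + 1)) (d p) (hd p)
  let S₂ := ShortComplex.mk (fB X d p) (d p) w2
  let S₃ := ShortComplex.mk (fB X d p) (gB X d p) (fB_gB X d hd p)
  let φ : S₁ ⟶ S₂ :=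
    { τ₁ := Abelian.factorThruImage (d (p + 1))
      τ₂ := 𝟙 _
      τ₃ := 𝟙 _
      comm₁₂ := by
        show Abelian.factorThruImage (d (p + 1)) ≫ fB X d p = d (p + 1) ≫ 𝟙 _
        rw [fac_fB, Category.comp_id]
      comm₂₃ := by simp [S₁, S₂] }
  let ψ : S₃ ⟶ S₂ :=
    { τ₁ := 𝟙 _
      τ₂ := 𝟙 _
      τ₃ := Abelian.image.ι (d p)
      comm₁₂ := by simp [S₃, S₂]
      comm₂₃ := by
        show 𝟙 _ ≫ d p = gB X d p ≫ Abelian.image.ι (d p)
        rw [gB_fac, Category.id_comp] }
  haveI : Epi φ.τ₁ := by dsimp [φ]; infer_instance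
  haveI : IsIso φ.τ₂ := by dsimp [φ]; infer_instance
  haveI : Mono φ.τ₃ := by dsimp [φ]; infer_instance
  haveI : Epi ψ.τ₁ := by dsimp [ψ]; infer_instance
  haveI : IsIso ψ.τ₂ := by dsimp [ψ]; infer_instance
  haveI : Mono ψ.τ₃ := by dsimp [ψ]; infer_instance
  have h2 : S₂.Exact := (ShortComplex.exact_iff_of_epi_of_isIso_of_mono φ).1 (hex p)
  have h3 : S₃.Exact := (ShortComplex.exact_iff_of_epi_of_isIso_of_mono ψ).2 h2
  exact { exact := h3, mono_f := inferInstanceAs (Mono (fB X d p)),
          epi_g := inferInstanceAs (Epi (gB X d p)) }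

omit hd in
theorem isZero_Bd (p : ℕ) (h : IsZero (X (p + 1))) : IsZero (Bd X d p) :=
  IsZero.of_epi (Abelian.factorThruImage (d p)) h

omit hd in
/-- `B 0 ≅ X 0` when the last differential is an epimorphism -/
theorem nonempty_Bd_zero_iso [Epi (d 0)] : Nonempty (Bd X d 0 ≅ X 0) := by
  haveI : Epi (Abelian.image.ι (d 0)) := by
    have h : Abelian.factorThruImage (d 0) ≫ Abelian.image.ι (d 0) = d 0 := Abelian.image.fac _
    exact epi_of_epi_fac h
  haveI : IsIso (Abelian.image.ι (d 0)) := isIso_of_mono_of_epi _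
  exact ⟨asIso (Abelian.image.ι (d 0))⟩

end imageSES

section union

/-- the map of free abelian groups induced by an injective map is injective -/
theorem map_injective {α β : Type*} (f : α → β) (hf : Function.Injective f) :
    Function.Injective (FreeAbelianGroup.map f) := by
  have h1 : ∀ x : FreeAbelianGroup α, FreeAbelianGroup.toFinsupp (FreeAbelianGroup.map f x) =
      Finsupp.mapDomain f (FreeAbelianGroup.toFinsupp x) := by
    intro x
    have : (FreeAbelianGroup.toFinsupp.comp (FreeAbelianGroup.map f)) =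
        (Finsupp.mapDomain.addMonoidHom f).comp FreeAbelianGroup.toFinsupp := by
      apply FreeAbelianGroup.lift_ext
      intro a
      simp [FreeAbelianGroup.map_of_apply]
    exact DFunLike.congr_fun this x
  intro x y hxy
  have h2 := congrArg FreeAbelianGroup.toFinsupp hxy
  rw [h1, h1] at h2
  have h3 := Finsupp.mapDomain_injective hf h2
  exact (FreeAbelianGroup.equivFinsupp α).injective h3

/-- `mapSub` on generators -/
theorem mapSub_id_mk (P Q : ObjectProperty C) (h : ∀ X, P X → Q X) (X : C) (hX : P X) :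
    SGA6.mapSub (𝟭 C) P Q h (QuotientAddGroup.mk (FreeAbelianGroup.of ⟨X, hX⟩)) =
      QuotientAddGroup.mk (FreeAbelianGroup.of ⟨X, h X hX⟩) := by
  simp [SGA6.mapSub, SGA6.objMap, FreeAbelianGroup.map_of_apply]

theorem mapSub_id_clSub (P Q : ObjectProperty C) (h : ∀ X, P X → Q X) (X : C) (hX : P X) :
    SGA6.mapSub (𝟭 C) P Q h (KZero.clSub P X) = KZero.clSub Q X := by
  classical
  rw [KZero.clSub, KZero.clSub, dif_pos hX, dif_pos (h X hX)]
  exact mapSub_id_mk P Q h X hX

/-- homomorphisms out of `K0sub` agree if they agree on the classes of objects -/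
theorem hom_ext {P : ObjectProperty C} {G : Type*} [AddCommGroup G] (f g : KZero.K0sub P →+ G)
    (h : ∀ (X : C) (hX : P X), f (QuotientAddGroup.mk (FreeAbelianGroup.of ⟨X, hX⟩)) =
      g (QuotientAddGroup.mk (FreeAbelianGroup.of ⟨X, hX⟩))) : f = g := by
  apply QuotientAddGroup.addMonoidHom_ext
  apply FreeAbelianGroup.lift_ext
  rintro ⟨X, hX⟩
  exact h X hX

theorem mapSub_id_comp (P Q R : ObjectProperty C) (h : ∀ X, P X → Q X) (h' : ∀ X, Q X → R X)
    (x : KZero.K0sub P) :
    SGA6.mapSub (𝟭 C) Q R h' (SGA6.mapSub (𝟭 C) P Q h x) =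
      SGA6.mapSub (𝟭 C) P R (fun X hX => h' X (h X hX)) x := by
  have : (SGA6.mapSub (𝟭 C) Q R h').comp (SGA6.mapSub (𝟭 C) P Q h) =
      SGA6.mapSub (𝟭 C) P R (fun X hX => h' X (h X hX)) := by
    apply hom_ext
    intro X hX
    rw [AddMonoidHom.comp_apply, mapSub_id_mk, mapSub_id_mk, mapSub_id_mk]
  exact DFunLike.congr_fun this x

/-- every element of `K0sub` is a combination of classes: induction principle -/
theorem induction_on {P : ObjectProperty C} {motive : KZero.K0sub P → Prop}
    (x : KZero.K0sub P) (h0 : motive 0)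
    (hof : ∀ (X : C) (hX : P X), motive (QuotientAddGroup.mk (FreeAbelianGroup.of ⟨X, hX⟩)))
    (hneg : ∀ x, motive x → motive (-x)) (hadd : ∀ x y, motive x → motive y → motive (x + y)) :
    motive x := by
  induction x using QuotientAddGroup.induction_on with
  | H z =>
    induction z using FreeAbelianGroup.induction_on with
    | zero => exact h0
    | of a => exact hof a.1 a.2
    | neg a ih => exact hneg _ ih
    | add a b iha ihb => exact hadd _ _ iha ihb

variable (P : ℕ → ObjectProperty C) (Q : ObjectProperty C)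
  (hmono : ∀ m X, P m X → P (m + 1) X) (hQ : ∀ m X, P m X → Q X) (hex : ∀ X, Q X → ∃ m, P m X)

include hmono in
theorem prop_of_le {m m' : ℕ} (h : m ≤ m') (X : C) (hX : P m X) : P m' X := by
  induction h with
  | refl => exact hX
  | step _ ih => exact hmono _ X ih

include hmono in
/-- the transition maps to all later stages are bijective -/
theorem bijective_stage
    (hbij : ∀ m, Function.Bijective (SGA6.mapSub (𝟭 C) (P m) (P (m + 1)) (hmono m))) :
    ∀ m, Function.Bijective
      (SGA6.mapSub (𝟭 C) (P 0) (P m) (fun X hX => prop_of_le P hmono (Nat.zero_le m) X hX)) := by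
  intro m
  induction m with
  | zero =>
    have : SGA6.mapSub (𝟭 C) (P 0) (P 0)
        (fun X hX => prop_of_le P hmono (Nat.zero_le 0) X hX) = AddMonoidHom.id _ := by
      apply hom_ext
      intro X hX
      rw [mapSub_id_mk]
      rfl
    rw [this]
    exact Function.bijective_id
  | succ m ih =>
    have : ⇑(SGA6.mapSub (𝟭 C) (P 0) (P (m + 1))
        (fun X hX => prop_of_le P hmono (Nat.zero_le (m + 1)) X hX)) =
        ⇑(SGA6.mapSub (𝟭 C) (P m) (P (m + 1)) (hmono m)) ∘
          ⇑(SGA6.mapSub (𝟭 C) (P 0) (P m)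
            (fun X hX => prop_of_le P hmono (Nat.zero_le m) X hX)) := by
      funext x
      rw [Function.comp_apply]
      exact (mapSub_id_comp (P 0) (P m) (P (m + 1))
        (fun X hX => prop_of_le P hmono (Nat.zero_le m) X hX) (hmono m) x).symm
    rw [this]
    exact (hbij m).comp ih

include hmono hQ hex in
/-- relations at the union come from a finite stage -/
theorem exists_stage_of_mem_relSub (z : FreeAbelianGroup (Subtype Q)) (hz : z ∈ KZero.relSub Q) :
    ∃ (m : ℕ) (y : FreeAbelianGroup (Subtype (P m))), y ∈ KZero.relSub (P m) ∧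
      FreeAbelianGroup.map (SGA6.objMap (𝟭 C) (P m) Q (hQ m)) y = z := by
  -- pushing a relation to a later stage
  have push : ∀ (m m' : ℕ) (hmm : m ≤ m') (y : FreeAbelianGroup (Subtype (P m))),
      y ∈ KZero.relSub (P m) →
      ∃ y' : FreeAbelianGroup (Subtype (P m')), y' ∈ KZero.relSub (P m') ∧
        FreeAbelianGroup.map (SGA6.objMap (𝟭 C) (P m') Q (hQ m')) y' =
          FreeAbelianGroup.map (SGA6.objMap (𝟭 C) (P m) Q (hQ m)) y := by
    intro m m' hmm y hy
    refine ⟨FreeAbelianGroup.map (SGA6.objMap (𝟭 C) (P m) (P m')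
      (fun X hX => prop_of_le P hmono hmm X hX)) y,
      SGA6.relSub_le_comap (𝟭 C) (P m) (P m') _ hy, ?_⟩
    rw [← AddMonoidHom.comp_apply, ← FreeAbelianGroup.map_comp]
    rfl
  unfold KZero.relSub at hz
  induction hz using AddSubgroup.closure_induction with
  | mem x hx =>
    obtain ⟨S, h₁, h₂, h₃, hS, rfl⟩ := hx
    obtain ⟨m₁, hm₁⟩ := hex _ h₁
    obtain ⟨m₂, hm₂⟩ := hex _ h₂
    obtain ⟨m₃, hm₃⟩ := hex _ h₃
    let m := max m₁ (max m₂ m₃)
    have k₁ : P m S.X₁ := prop_of_le P hmono (le_max_left _ _) _ hm₁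
    have k₂ : P m S.X₂ :=
      prop_of_le P hmono ((le_max_left _ _).trans (le_max_right _ _)) _ hm₂
    have k₃ : P m S.X₃ :=
      prop_of_le P hmono ((le_max_right _ _).trans (le_max_right _ _)) _ hm₃
    refine ⟨m, FreeAbelianGroup.of ⟨S.X₂, k₂⟩ - FreeAbelianGroup.of ⟨S.X₁, k₁⟩ -
      FreeAbelianGroup.of ⟨S.X₃, k₃⟩, AddSubgroup.subset_closure ⟨S, k₁, k₂, k₃, hS, rfl⟩, ?_⟩
    simp [FreeAbelianGroup.map_of_apply, SGA6.objMap]
  | zero => exact ⟨0, 0, zero_mem _, map_zero _⟩
  | add a b _ _ iha ihb =>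
    obtain ⟨m₁, y₁, hy₁, e₁⟩ := iha
    obtain ⟨m₂, y₂, hy₂, e₂⟩ := ihb
    obtain ⟨y₁', hy₁', e₁'⟩ := push m₁ (max m₁ m₂) (le_max_left _ _) y₁ hy₁
    obtain ⟨y₂', hy₂', e₂'⟩ := push m₂ (max m₁ m₂) (le_max_right _ _) y₂ hy₂
    exact ⟨max m₁ m₂, y₁' + y₂', add_mem hy₁' hy₂', by rw [map_add, e₁', e₂', e₁, e₂]⟩
  | neg a _ iha =>
    obtain ⟨m, y, hy, e⟩ := iha
    exact ⟨m, -y, neg_mem hy, by rw [map_neg, e]⟩

include hmono hQ hex in
/-- **passage to the union**: if all the transition maps `K₀(P m) ⟶ K₀(P (m+1))` are bijective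
and `Q` is the union of the `P m`, then `K₀(P 0) ⟶ K₀(Q)` is bijective -/
theorem bijective_union
    (hbij : ∀ m, Function.Bijective (SGA6.mapSub (𝟭 C) (P m) (P (m + 1)) (hmono m))) :
    Function.Bijective (SGA6.mapSub (𝟭 C) (P 0) Q (hQ 0)) := by
  have hst := bijective_stage P hmono hbij
  have hcomp : ∀ (m : ℕ) (x : KZero.K0sub (P 0)),
      SGA6.mapSub (𝟭 C) (P m) Q (hQ m) (SGA6.mapSub (𝟭 C) (P 0) (P m)
        (fun X hX => prop_of_le P hmono (Nat.zero_le m) X hX) x) =
        SGA6.mapSub (𝟭 C) (P 0) Q (hQ 0) x := fun m x => mapSub_id_comp _ _ _ _ _ x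
  constructor
  · rw [injective_iff_map_eq_zero]
    intro x hx
    induction x using QuotientAddGroup.induction_on with
    | H xt =>
      have h1 : FreeAbelianGroup.map (SGA6.objMap (𝟭 C) (P 0) Q (hQ 0)) xt ∈ KZero.relSub Q := by
        have : SGA6.mapSub (𝟭 C) (P 0) Q (hQ 0) (QuotientAddGroup.mk xt) =
            QuotientAddGroup.mk (FreeAbelianGroup.map (SGA6.objMap (𝟭 C) (P 0) Q (hQ 0)) xt) := rfl
        rw [this] at hx
        exact (QuotientAddGroup.eq_zero_iff _).1 hx
      obtain ⟨m, y, hy, e⟩ := exists_stage_of_mem_relSub P Q hmono hQ hex _ h1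
      -- the generator map is injective
      have hinj : Function.Injective (FreeAbelianGroup.map (SGA6.objMap (𝟭 C) (P m) Q (hQ m))) := by
        apply map_injective
        rintro ⟨A, hA⟩ ⟨B, hB⟩ hAB
        have : A = B := congrArg Subtype.val hAB
        subst this
        rfl
      have h2 : FreeAbelianGroup.map (SGA6.objMap (𝟭 C) (P 0) (P m)
          (fun X hX => prop_of_le P hmono (Nat.zero_le m) X hX)) xt = y := by
        apply hinj
        rw [e, ← AddMonoidHom.comp_apply, ← FreeAbelianGroup.map_comp]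
        rfl
      have h3 : SGA6.mapSub (𝟭 C) (P 0) (P m)
          (fun X hX => prop_of_le P hmono (Nat.zero_le m) X hX) (QuotientAddGroup.mk xt) = 0 := by
        have : SGA6.mapSub (𝟭 C) (P 0) (P m)
            (fun X hX => prop_of_le P hmono (Nat.zero_le m) X hX) (QuotientAddGroup.mk xt) =
            QuotientAddGroup.mk (FreeAbelianGroup.map (SGA6.objMap (𝟭 C) (P 0) (P m)
              (fun X hX => prop_of_le P hmono (Nat.zero_le m) X hX)) xt) := rfl
        rw [this, h2]
        exact (QuotientAddGroup.eq_zero_iff _).2 hy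
      exact (injective_iff_map_eq_zero _).1 (hst m).1 _ h3
  · intro y
    induction y using induction_on with
    | h0 => exact ⟨0, map_zero _⟩
    | hof X hX =>
      obtain ⟨m, hm⟩ := hex X hX
      obtain ⟨x, hx⟩ := (hst m).2 (QuotientAddGroup.mk (FreeAbelianGroup.of ⟨X, hm⟩))
      refine ⟨x, ?_⟩
      rw [← hcomp m x, hx, mapSub_id_mk]
    | hneg x ih =>
      obtain ⟨a, ha⟩ := ih
      exact ⟨-a, by rw [map_neg, ha]⟩
    | hadd x y ihx ihy =>
      obtain ⟨a, ha⟩ := ihx
      obtain ⟨b, hb⟩ := ihy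
      exact ⟨a + b, by rw [map_add, ha, hb]⟩

end union

end Groth.Agent.Helper4.SN221
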