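import Mathlib
import Groth.Agent.Helper1.PUP8
import Groth.Agent.Helper1.Segre2

/-!
# Generic linear forms on projective space over an infinite field
-/

set_option autoImplicit false
set_option linter.style.haveILetI false

namespace Groth.Agent.Helper4.SN

open CategoryTheory Limits AlgebraicGeometry Opposite TopologicalSpace

universe u

section Avoid

variable (k : Type u) [Field k] (N : ℕ)

/-- the linear forms vanishing at a point of projective space -/
noncomputable def vanishSub (z : Proj (CohB1.polyGrading N k)) :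
    Submodule k (CohB1.polyGrading N k 1) where
  carrier := {ℓ | (ℓ : MvPolynomial (Fin (N + 1)) k) ∈ z.asHomogeneousIdeal}
  add_mem' := fun {a b} ha hb => z.asHomogeneousIdeal.toIdeal.add_mem ha hb
  zero_mem' := z.asHomogeneousIdeal.toIdeal.zero_mem
  smul_mem' := fun c a ha => by
    have h1 : ((c • a : CohB1.polyGrading N k 1) : MvPolynomial (Fin (N + 1)) k) =
        MvPolynomial.C c * (a : MvPolynomial (Fin (N + 1)) k) := by
      rw [Submodule.coe_smul, MvPolynomial.smul_eq_C_mul]
    show ((c • a : CohB1.polyGrading N k 1) : MvPolynomial (Fin (N + 1)) k) ∈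
      z.asHomogeneousIdeal.toIdeal
    rw [h1]
    exact z.asHomogeneousIdeal.toIdeal.mul_mem_left _ ha

theorem vanishSub_ne_top (z : Proj (CohB1.polyGrading N k)) : vanishSub k N z ≠ ⊤ := by
  intro h
  have hz : z ∈ (⊤ : (Proj (CohB1.polyGrading N k)).Opens) := trivial
  rw [← Groth.Agent.Helper1.Segre.iSup_basicOpen_X (R := k) N] at hz
  obtain ⟨i, hi⟩ := Opens.mem_iSup.1 hz
  have h1 : (⟨MvPolynomial.X i, Groth.Agent.Helper1.Segre.hX i⟩ : CohB1.polyGrading N k 1) ∈
      vanishSub k N z := by rw [h]; trivial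
  exact hi h1

/-- a linear form not vanishing at any of finitely many points -/
theorem exists_linearForm_avoiding [Infinite k] (S : Set (Proj (CohB1.polyGrading N k))) (hS : S.Finite) :
    ∃ ℓ : CohB1.polyGrading N k 1, ∀ z ∈ S,
      z ∈ Proj.basicOpen (CohB1.polyGrading N k) (ℓ : MvPolynomial (Fin (N + 1)) k) := by
  by_contra hcon
  push Not at hcon
  haveI : Finite S := hS
  have hcov : ⋃ z : S, ((vanishSub k N z.1 : Submodule k (CohB1.polyGrading N k 1)) :
      Set (CohB1.polyGrading N k 1)) = Set.univ := by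
    rw [Set.eq_univ_iff_forall]
    intro ℓ
    obtain ⟨z, hz, hzℓ⟩ := hcon ℓ
    rw [Set.mem_iUnion]
    refine ⟨⟨z, hz⟩, ?_⟩
    by_contra h
    exact hzℓ h
  obtain ⟨z, hz⟩ := Subspace.exists_eq_top_of_iUnion_eq_univ hcov
  exact vanishSub_ne_top k N z.1 hz

end Avoid

end Groth.Agent.Helper4.SN
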