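import Mathlib
import Groth.Agent.Helper4.SN136
import Groth.Agent.Lead.H0GeomC

/-!
# h¹ drop at rational points (S17807)
-/

set_option autoImplicit false
set_option linter.unusedSectionVars false
set_option linter.style.haveILetI false
universe u

open CategoryTheory CategoryTheory.Limits AlgebraicGeometry TopologicalSpace Opposite TensorProduct

namespace Groth.Agent.Helper4.SN

section RatDrop

open Groth.Agent.Helper4.StalkDict Groth.Agent.Helper4.NApx82 Groth.Agent.Lead.Ref1B

attribute [local instance] Curv2.resAlgebra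

variable (k : Type u) [Field k] {C : Scheme.{u}} [C.Over (Spec (CommRingCat.of k))]
  [IsIntegral C] [IsProper (C ↘ (Spec (CommRingCat.of k)))]

/-- the sections of a locally free module `E` of rank `r` with `h⁰(I_x ⊗ E) + r ≤ h⁰(E)` generate
the stalk at the closed point `x` -/
theorem span_germs_eq_top_of_h0_ideal_twist_of_resMap
    (r : ℕ) (E : C.Modules) (hE : FlatMod.IsFinLocFreeOfRank r E)
    (x : C) (hx : IsClosed ({x} : Set C))
    (hres : Function.Surjective (Curv2.resMap k C x))
    (hcount : Module.finrank k (Coh.HH C (CohB1.tensorMod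
      (ClSub.idealMod (Scheme.IdealSheafData.vanishingIdeal ⟨{x}, hx⟩)) E) 0) + r ≤
      Module.finrank k (Coh.HH C E 0)) :
    Submodule.span (C.presheaf.stalk x)
      (Set.range fun s : Coh.structureModule C ⟶ E => E.presheaf.germ ⊤ x trivial (sec1 E s)) =
      ⊤ := by
  haveI := Groth.Agent.Helper4.NApx82.isNoetherian_of_proper k C
  have hFLF := FinLocFree7.isFinLocFree_of_rank E hE
  have hcE : Coh.IsCoh E := Groth.Agent.Lead.PerfLib.isCoh_of_isFinLocFree hFLF
  haveI : E.IsQuasicoherent := hcE.1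
  have hcO : Coh.IsCoh (Coh.structureModule C) := Groth.Agent.Helper1.Dev.isCoh_structureModule C
  haveI : (Coh.structureModule C).IsQuasicoherent := hcO.1
  obtain ⟨b⟩ := nonempty_basis_stalk_of_rank E hE x
  haveI : Module.Finite (C.presheaf.stalk x) (E.presheaf.stalk x) := Module.Finite.of_basis b
  haveI : Module.Free (C.presheaf.stalk x) (E.presheaf.stalk x) := Module.Free.of_basis b
  have hrk : Module.finrank (C.presheaf.stalk x) (E.presheaf.stalk x) = r := by
    rw [Module.finrank_eq_card_basis b, Fintype.card_fin]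
  have hι : Function.Surjective
      ((IsLocalRing.residue (C.presheaf.stalk x)).comp (Curv2.stalkMap k C x)) :=
    hres
  have hlift := fun s hs => exists_lift_ideal_twist x hx E hFLF s hs
  obtain ⟨D, hD⟩ : ∃ D, D = Scheme.IdealSheafData.vanishingIdeal ⟨{x}, hx⟩ := ⟨_, rfl⟩
  rw [← hD] at hcount hlift
  -- coherence
  have hcQ : Coh.IsCoh (ClSub.quotMod D) := isCoh_quotMod D
  have hcI : Coh.IsCoh (ClSub.idealMod D) :=
    Groth.Agent.Lead.PerfLib.isCoh_kernel hcO hcQ _
  have hc₁ : Coh.IsCoh (CohB1.tensorMod (ClSub.idealMod D) E) :=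
    Groth.Agent.Lead.Ref1B.isCoh_tensorMod _ _ hcI hcE
  have hc₂ : Coh.IsCoh (CohB1.tensorMod (Coh.structureModule C) E) :=
    Groth.Agent.Lead.Ref1B.isCoh_tensorMod _ _ hcO hcE
  have hc₃ : Coh.IsCoh (CohB1.tensorMod (ClSub.quotMod D) E) :=
    Groth.Agent.Lead.Ref1B.isCoh_tensorMod _ _ hcQ hcE
  have hflat : ∀ y : C, Module.Flat (C.presheaf.stalk y) (E.presheaf.stalk y) := fun y => by
    haveI := FinLocFree2.free_stalk_of_isFinLocFree E hFLF y
    infer_instance
  have hS' := shortExact_map_tensorRightMod_of_flat (idealSC D) (idealSC_shortExact D) E hflat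
  haveI := hS'.mono_f
  -- the spaces of sections
  haveI : Module.Finite k (Coh.structureModule C ⟶ E) := finite_hom k _ _ hcO hcE
  haveI : Module.Finite k (Coh.structureModule C ⟶ CohB1.tensorMod (ClSub.idealMod D) E) :=
    finite_hom k _ _ hcO hc₁
  haveI : Module.Finite k (Coh.structureModule C ⟶
      CohB1.tensorMod (Coh.structureModule C) E) := finite_hom k _ _ hcO hc₂
  let Φ : (Coh.structureModule C ⟶ CohB1.tensorMod (ClSub.idealMod D) E) →ₗ[k]
      (Coh.structureModule C ⟶ CohB1.tensorMod (Coh.structureModule C) E) :=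
    { toFun := fun s' => s' ≫ (DCoh.tensorRightMod E).map (ClSub.idealModι D)
      map_add' := fun a b => Preadditive.add_comp _ _ _ _ _ _
      map_smul' := fun a s' => Linear.smul_comp _ _ _ a s' _ }
  let τ : (Coh.structureModule C ⟶ E) →ₗ[k]
      (Coh.structureModule C ⟶ CohB1.tensorMod (Coh.structureModule C) E) :=
    { toFun := fun s => SecTwist.tmulHom (𝟙 (Coh.structureModule C)) s
      map_add' := fun a b => tmulHom_add_right _ a b
      map_smul' := fun a s => tmulHom_smul_right k a _ s }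
  have hτ : Function.Injective τ := by
    rw [← LinearMap.ker_eq_bot, LinearMap.ker_eq_bot']
    intro s hs
    have hOF : FlatMod.IsFinLocFree (Coh.structureModule C) :=
      FinLocFree7.isFinLocFree_of_rank _
        (Groth.Agent.Helper4.QAffSec.isFinLocFreeOfRank_one_of_isInvertible _
          Groth.Agent.Helper4.TensorInv.isInvertible_structureModule)
    rcases tmulHom_eq_zero hOF hFLF (𝟙 (Coh.structureModule C)) s hs with h3 | h3
    · rw [← Category.id_comp s, h3, zero_comp]
    · exact h3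
  let K : Submodule k (Coh.structureModule C ⟶ E) := Submodule.comap τ (LinearMap.range Φ)
  have hKdim : Module.finrank k K ≤
      Module.finrank k (Coh.structureModule C ⟶ CohB1.tensorMod (ClSub.idealMod D) E) := by
    have h1 : Module.finrank k K ≤ Module.finrank k (LinearMap.range Φ) := by
      let ρ : K →ₗ[k] LinearMap.range Φ := (τ.comp K.subtype).codRestrict _ (fun s => s.2)
      apply LinearMap.finrank_le_finrank_of_injective (f := ρ)
      intro a b hab
      apply Subtype.ext
      apply hτ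
      exact congrArg Subtype.val hab
    exact h1.trans (LinearMap.finrank_range_le Φ)
  rw [finrank_hom_unit] at hKdim
  -- the germ map
  let e : (Coh.structureModule C ⟶ E) →+ E.presheaf.stalk x :=
    { toFun := fun s => E.presheaf.germ ⊤ x trivial (sec1 E s)
      map_zero' := by
        change E.presheaf.germ ⊤ x trivial (sec1 E 0) = 0
        have : sec1 E (0 : Coh.structureModule C ⟶ E) = 0 := rfl
        rw [this]
        exact map_zero _
      map_add' := fun s t => by
        change E.presheaf.germ ⊤ x trivial (sec1 E (s + t)) = _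
        rw [sec1_add]
        exact map_add _ _ _ }
  have he : ∀ (a : k) (s : Coh.structureModule C ⟶ E),
      e (a • s) = Curv2.stalkMap k C x a • e s := by
    intro a s
    exact (congrArg (E.presheaf.germ ⊤ x trivial) (sec1_smul k E a s)).trans
      (germ_smul E ⊤ x trivial _ _)
  have hK : ∀ s : Coh.structureModule C ⟶ E,
      e s ∈ (IsLocalRing.maximalIdeal (C.presheaf.stalk x)) •
        (⊤ : Submodule (C.presheaf.stalk x) (E.presheaf.stalk x)) → s ∈ K := by
    intro s hs
    obtain ⟨s', hs'⟩ := hlift s hs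
    exact ⟨s', hs'⟩
  have hdim' : Module.finrank k K + Module.finrank (C.presheaf.stalk x) (E.presheaf.stalk x) ≤
      Module.finrank k (Coh.structureModule C ⟶ E) := by
    rw [hrk, finrank_hom_unit]
    omega
  exact span_range_eq_top_of_codim (Curv2.stalkMap k C x) hι e he K hK hdim'


/-- if twisting down by the point `x` (with residue field `k`) drops `h⁰`, some section generates
the stalk at `x` -/
theorem exists_section_stalkLin_surjective_of_h0_lt (L : C.Modules) (hL : PicF.IsInvertible L)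
    (x : C) (hx : IsClosed ({x} : Set C))
    (hres : Function.Surjective (Curv2.resMap k C x))
    (hlt : Module.finrank k (Coh.HH C (CohB1.tensorMod
      (ClSub.idealMod (Scheme.IdealSheafData.vanishingIdeal ⟨{x}, hx⟩)) L) 0) <
      Module.finrank k (Coh.HH C L 0)) :
    ∃ s : Coh.structureModule C ⟶ L, Function.Surjective (stalkLin s x) := by
  have hL1 := Groth.Agent.Helper4.QAffSec.isFinLocFreeOfRank_one_of_isInvertible L hL
  have hspan := span_germs_eq_top_of_h0_ideal_twist_of_resMap k 1 L hL1 x hx hres (by omega)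
  obtain ⟨b⟩ := nonempty_basis_stalk_of_rank L hL1 x
  have hrepr : ∀ t : L.presheaf.stalk x, t = (b.repr t 0) • b 0 := by
    intro t
    conv_lhs => rw [← b.sum_repr t]
    rw [Fin.sum_univ_one]
  by_contra hcon
  push Not at hcon
  have hall : ∀ s : Coh.structureModule C ⟶ L,
      b.repr (L.presheaf.germ ⊤ x trivial (sec1 L s)) 0 ∈
        IsLocalRing.maximalIdeal (C.presheaf.stalk x) := by
    intro s
    by_contra hu
    rw [IsLocalRing.mem_maximalIdeal, mem_nonunits_iff, not_not] at hu
    apply hcon s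
    obtain ⟨g, hg⟩ : ∃ g : L.presheaf.stalk x, g = L.presheaf.germ ⊤ x trivial (sec1 L s) :=
      ⟨_, rfl⟩
    rw [← hg] at hu
    intro t
    obtain ⟨u, hu'⟩ := hu
    refine ⟨(b.repr t 0 * (↑u⁻¹ : C.presheaf.stalk x)) •
      Groth.Agent.Lead.Hartogs2.unitEquiv x 1, ?_⟩
    rw [map_smul, stalkLin_unitEquiv_one, ← hg, hrepr g, ← hu', smul_smul, mul_assoc,
      Units.inv_mul, mul_one]
    exact (hrepr t).symm
  let P : Submodule (C.presheaf.stalk x) (L.presheaf.stalk x) :=
    Submodule.comap ((Finsupp.lapply 0).comp b.repr.toLinearMap)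
      (IsLocalRing.maximalIdeal (C.presheaf.stalk x))
  have hle : Submodule.span (C.presheaf.stalk x)
      (Set.range fun s : Coh.structureModule C ⟶ L => L.presheaf.germ ⊤ x trivial (sec1 L s)) ≤
      P := by
    rw [Submodule.span_le]
    rintro _ ⟨s, rfl⟩
    exact hall s
  have hb : b 0 ∈ P := hle (hspan ▸ Submodule.mem_top)
  have h1 : (1 : C.presheaf.stalk x) ∈ IsLocalRing.maximalIdeal (C.presheaf.stalk x) := by
    have h2 : b.repr (b 0) 0 = 1 := by rw [b.repr_self]; simp
    rw [← h2]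
    exact hb
  exact (IsLocalRing.maximalIdeal.isMaximal _).ne_top
    ((Ideal.eq_top_iff_one _).mpr h1)


/-- transport of an `h⁰`-jump at the point `x` along a map which is surjective on the stalk at
`x` -/
theorem h0_lt_of_map (x : C) (hx : IsClosed ({x} : Set C))
    (hres : Function.Surjective (Curv2.resMap k C x))
    (N Nu N' Nu' : C.Modules) (hNu : PicF.IsInvertible Nu) (hNu' : PicF.IsInvertible Nu')
    (α : CohB1.tensorMod
      (ClSub.idealMod (Scheme.IdealSheafData.vanishingIdeal ⟨{x}, hx⟩)) Nu ≅ N)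
    (α' : CohB1.tensorMod
      (ClSub.idealMod (Scheme.IdealSheafData.vanishingIdeal ⟨{x}, hx⟩)) Nu' ≅ N')
    (ψ : Nu ⟶ Nu') (hψ : Function.Surjective (stalkLin ψ x))
    (hlt : Module.finrank k (Coh.HH C N 0) < Module.finrank k (Coh.HH C Nu 0)) :
    Module.finrank k (Coh.HH C N' 0) < Module.finrank k (Coh.HH C Nu' 0) := by
  have e1 := (Groth.Agent.Helper1.ProjTop.HHlinEquiv k (X := C) α 0).finrank_eq
  have e2 := (Groth.Agent.Helper1.ProjTop.HHlinEquiv k (X := C) α' 0).finrank_eq
  obtain ⟨s, hs⟩ := exists_section_stalkLin_surjective_of_h0_lt k Nu hNu x hx hres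
    (by rw [e1]; exact hlt)
  have hs' : Function.Surjective (stalkLin (s ≫ ψ) x) := by
    intro t
    obtain ⟨a, ha⟩ := hψ t
    obtain ⟨b, hb⟩ := hs a
    exact ⟨b, by rw [Groth.Agent.Lead.StalkNhd.stalkLin_comp, hb, ha]⟩
  have h3 := h0_idealTwist_lt k x hx Nu' hNu' (s ≫ ψ) hs'
  rw [e2] at h3
  exact h3


omit [IsIntegral C] [IsProper (C ↘ (Spec (CommRingCat.of k)))] [C.Over (Spec (CommRingCat.of k))] in
theorem stalkLin_tensorMap_surjective {M M' N N' : C.Modules} (φ : M ⟶ M') (ψ : N ⟶ N') (x : C)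
    (hφ : Function.Surjective (stalkLin φ x)) (hψ : Function.Surjective (stalkLin ψ x)) :
    Function.Surjective (stalkLin (KoszTw.tensorMap φ ψ) x) := by
  intro z
  obtain ⟨w, rfl⟩ := (stalkTensorEquiv M' N' x).surjective z
  induction w using TensorProduct.induction_on with
  | zero => exact ⟨0, by rw [map_zero, map_zero]⟩
  | tmul m n =>
    obtain ⟨a, rfl⟩ := hφ m
    obtain ⟨b, rfl⟩ := hψ n
    exact ⟨stalkTensorEquiv M N x (a ⊗ₜ b), stalkLin_tensorMap_tmul φ ψ x a b⟩
  | add u v hu hv =>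
    obtain ⟨a, ha⟩ := hu
    obtain ⟨b, hb⟩ := hv
    exact ⟨a + b, by rw [map_add, ha, hb, map_add]⟩

omit [IsIntegral C] [IsProper (C ↘ (Spec (CommRingCat.of k)))] [C.Over (Spec (CommRingCat.of k))] in
theorem stalkLin_id_surjective (E : C.Modules) (y : C) :
    Function.Surjective (stalkLin (𝟙 E) y) :=
  fun a => ⟨a, Groth.Agent.Helper1.Dev.stalkLin_id _ _ _⟩

omit [IsIntegral C] [IsProper (C ↘ (Spec (CommRingCat.of k)))] [C.Over (Spec (CommRingCat.of k))] in
theorem stalkLin_idealModι_surjective (x : C) (hx : IsClosed ({x} : Set C)) (y : C) (hy : y ≠ x) :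
    Function.Surjective (stalkLin (ClSub.idealModι
      (Scheme.IdealSheafData.vanishingIdeal ⟨{x}, hx⟩)) y) := by
  obtain ⟨D, hD⟩ : ∃ D, D = Scheme.IdealSheafData.vanishingIdeal ⟨{x}, hx⟩ := ⟨_, rfl⟩
  rw [← hD]
  have hS := idealSC_shortExact D
  haveI : Mono (idealSC D).f := hS.mono_f
  have hex := Groth.Agent.Helper4.StalkExact.stalkLin_exact (idealSC D) hS.exact y
  have hsupp : CohB1.support (ClSub.quotMod D) ⊆ ({x} : Set C) := by
    refine (support_quotMod_subset D).trans ?_
    rw [hD, Scheme.IdealSheafData.coe_support_vanishingIdeal]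
    exact subset_rfl
  have hsub : Subsingleton ((idealSC D).X₃.presheaf.stalk y) := by
    show Subsingleton ((ClSub.quotMod D).presheaf.stalk y)
    by_contra h
    exact hy (Set.mem_singleton_iff.1 (hsupp h))
  intro t
  exact (hex t).mp (hsub.elim _ _)

omit [IsProper (C ↘ (Spec (CommRingCat.of k)))] [C.Over (Spec (CommRingCat.of k))] in
theorem stalkLin_idealTwistι_surjective (x : C) (hx : IsClosed ({x} : Set C)) (E : C.Modules)
    (y : C) (hy : y ≠ x) :
    Function.Surjective (stalkLin (idealTwistι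
      (Scheme.IdealSheafData.vanishingIdeal ⟨{x}, hx⟩) E) y) := by
  unfold idealTwistι
  rw [KoszTw.tensorRightMod_map]
  have h1 := stalkLin_tensorMap_surjective
    (ClSub.idealModι (Scheme.IdealSheafData.vanishingIdeal ⟨{x}, hx⟩)) (𝟙 E) y
    (stalkLin_idealModι_surjective x hx y hy) (stalkLin_id_surjective E y)
  have h2 := (Groth.Agent.Helper1.Dev.stalkLin_bijective_of_isIso (unitorL E).hom y).2
  intro t
  obtain ⟨a, ha⟩ := h2 t
  obtain ⟨b, hb⟩ := h1 a
  exact ⟨b, (Groth.Agent.Lead.StalkNhd.stalkLin_comp _ _ y b).trans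
    ((congrArg (stalkLin (unitorL E).hom y) hb).trans ha)⟩

/-- `I ⊗ (A ⊗ J) ≅ A` when `J ⊗ I ≅ O` -/
noncomputable def twistUpIso (I J : C.Modules)
    (ε : CohB1.tensorMod J I ≅ Coh.structureModule C) (A : C.Modules) :
    CohB1.tensorMod I (CohB1.tensorMod A J) ≅ A :=
  Groth.Agent.Lead.Ref1B.braid I (CohB1.tensorMod A J) ≪≫
    (show CohB1.tensorMod (CohB1.tensorMod A J) I ≅ A from (twistTwistIso J I ε).app A)


/-- the rational points `x` at which `h⁰(L(x)) > h⁰(L)` -/
def NoDrop (L : C.Modules) (x : C) : Prop :=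
  ∃ hx : IsClosed ({x} : Set C), Function.Surjective (Curv2.resMap k C x) ∧
    Module.finrank k (C.residueField x) = 1 ∧
    ∃ J : C.Modules, PicF.IsInvertible J ∧
      Nonempty (CohB1.tensorMod J
        (ClSub.idealMod (Scheme.IdealSheafData.vanishingIdeal ⟨{x}, hx⟩)) ≅
          Coh.structureModule C) ∧
      Module.finrank k (Coh.HH C L 0) < Module.finrank k (Coh.HH C (CohB1.tensorMod L J) 0)

/-- adding finitely many `NoDrop` points -/
theorem exists_chain (hdim : topologicalKrullDim C = 1)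
    (hreg : ∀ x : C, IsRegularLocalRing (C.presheaf.stalk x))
    (L : C.Modules) (hL : PicF.IsInvertible L) (S : Finset C) (hS : ∀ x ∈ S, NoDrop k L x) :
    ∃ (T : C.Modules) (ψ : L ⟶ T), PicF.IsInvertible T ∧
      (∀ y : C, y ∉ S → Function.Surjective (stalkLin ψ y)) ∧
      Module.finrank k (Coh.HH C L 0) + S.card ≤ Module.finrank k (Coh.HH C T 0) ∧
      Curv2.deg k C T 1 = Curv2.deg k C L 1 + S.card := by
  classical
  induction S using Finset.induction_on with
  | empty =>
    refine ⟨L, 𝟙 L, hL, fun y _ => stalkLin_id_surjective L y, by simp, by simp⟩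
  | insert x S hxS ih =>
    obtain ⟨T, ψ, hT, hψ, hh0, hdeg⟩ := ih (fun y hy => hS y (Finset.mem_insert_of_mem hy))
    obtain ⟨hx, hres, hκ, J, hJ, ⟨ε⟩, hlt⟩ := hS x (Finset.mem_insert_self x S)
    haveI := hreg x
    obtain ⟨hI, hdI⟩ := ideal_point_of_normal k hdim x hx
      (Groth.Agent.Helper4.RegNormal.isIntegrallyClosed_of_isRegularLocalRing _)
    obtain ⟨D, hD⟩ : ∃ D, D = Scheme.IdealSheafData.vanishingIdeal ⟨{x}, hx⟩ := ⟨_, rfl⟩
    have hTJ := isInvertible_tensor T J hT hJ
    have hLJ := isInvertible_tensor L J hL hJ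
    have hψu : Function.Surjective (stalkLin (KoszTw.tensorMap ψ (𝟙 J)) x) :=
      stalkLin_tensorMap_surjective ψ (𝟙 J) x (hψ x hxS) (stalkLin_id_surjective J x)
    have hjump := h0_lt_of_map k x hx hres L (CohB1.tensorMod L J) T (CohB1.tensorMod T J)
      hLJ hTJ (twistUpIso _ J ε L) (twistUpIso _ J ε T) (KoszTw.tensorMap ψ (𝟙 J)) hψu hlt
    refine ⟨CohB1.tensorMod T J, ψ ≫ (twistUpIso _ J ε T).inv ≫
      idealTwistι (Scheme.IdealSheafData.vanishingIdeal ⟨{x}, hx⟩) (CohB1.tensorMod T J),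
      hTJ, ?_, ?_, ?_⟩
    · intro y hy
      rw [Finset.mem_insert, not_or] at hy
      have h1 := hψ y hy.2
      have h2 := (Groth.Agent.Helper1.Dev.stalkLin_bijective_of_isIso
        (twistUpIso _ J ε T).inv y).2
      have h3 := stalkLin_idealTwistι_surjective x hx (CohB1.tensorMod T J) y hy.1
      intro t
      obtain ⟨a, ha⟩ := h3 t
      obtain ⟨b, hb⟩ := h2 a
      obtain ⟨c, hc⟩ := h1 b
      refine ⟨c, ?_⟩
      rw [Groth.Agent.Lead.StalkNhd.stalkLin_comp, Groth.Agent.Lead.StalkNhd.stalkLin_comp, hc,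
        hb, ha]
    · rw [Finset.card_insert_of_notMem hxS]
      omega
    · rw [Finset.card_insert_of_notMem hxS, deg_tensor_inv_curve k hdim T J hT hJ, hdeg,
        deg_inverse k hdim.le _ J hI hJ ε, hdI, hκ]
      push_cast
      ring


/-- only finitely many rational points fail to drop `h¹` when `h¹(L) > 0` -/
theorem finite_noDrop (hdim : topologicalKrullDim C = 1)
    (hreg : ∀ x : C, IsRegularLocalRing (C.presheaf.stalk x))
    (h0 : Module.finrank k (Coh.HH C (Coh.structureModule C) 0) = 1)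
    (L : C.Modules) (hL : PicF.IsInvertible L)
    (hL1 : 0 < Module.finrank k (Coh.HH C L 1)) :
    {x : C | NoDrop k L x}.Finite := by
  haveI := Groth.Agent.Helper4.NApx82.isNoetherian_of_proper k C
  by_contra hinf
  have hinf' : {x : C | NoDrop k L x}.Infinite := hinf
  obtain ⟨S, hSsub, hScard⟩ := hinf'.exists_subset_card_eq
    ((2 * (Curv2.genus k C : ℤ) - 2 - Curv2.deg k C L 1).toNat + 1)
  obtain ⟨T, ψ, hT, -, hh0, hdeg⟩ := exists_chain k hdim hreg L hL S (fun x hx => hSsub hx)
  have hχT := chi_eq_h0_sub_h1 k hdim.le T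
  have hχL := chi_eq_h0_sub_h1 k hdim.le L
  unfold chi at hχT hχL
  have hdT : Curv2.deg k C T 1 = Curv2.euler k C T - Curv2.euler k C (Coh.structureModule C) := by
    unfold Curv2.deg
    push_cast
    ring
  have hdL : Curv2.deg k C L 1 = Curv2.euler k C L - Curv2.euler k C (Coh.structureModule C) := by
    unfold Curv2.deg
    push_cast
    ring
  have hpos : 0 < Module.finrank k (Coh.HH C T 1) := by
    have : (Module.finrank k (Coh.HH C L 1) : ℤ) ≤ (Module.finrank k (Coh.HH C T 1) : ℤ) := by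
      have h1 : (Module.finrank k (Coh.HH C L 0) : ℤ) + (S.card : ℤ) ≤
          (Module.finrank k (Coh.HH C T 0) : ℤ) := by exact_mod_cast hh0
      linarith
    omega
  have hnt : Nontrivial (Coh.HH C T 1) := Module.nontrivial_of_finrank_pos (R := k) hpos
  have hle := deg_le_of_h1_nontrivial k hdim h0 T hT hnt
  rw [hdeg, hScard] at hle
  push_cast at hle
  have := Int.self_le_toNat (2 * (Curv2.genus k C : ℤ) - 2 - Curv2.deg k C L 1)
  omega


/-- `h⁰(I_x ⊗ M) ≤ h⁰(M)` -/
theorem h0_idealTwist_le (x : C) (hx : IsClosed ({x} : Set C)) (M : C.Modules)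
    (hM : PicF.IsInvertible M)
    (hI : PicF.IsInvertible (ClSub.idealMod (Scheme.IdealSheafData.vanishingIdeal ⟨{x}, hx⟩))) :
    Module.finrank k (Coh.HH C (CohB1.tensorMod
      (ClSub.idealMod (Scheme.IdealSheafData.vanishingIdeal ⟨{x}, hx⟩)) M) 0) ≤
      Module.finrank k (Coh.HH C M 0) := by
  haveI := Groth.Agent.Helper4.NApx82.isNoetherian_of_proper k C
  obtain ⟨D, hD⟩ : ∃ D, D = Scheme.IdealSheafData.vanishingIdeal ⟨{x}, hx⟩ := ⟨_, rfl⟩
  rw [← hD] at hI ⊢
  have hO : PicF.IsInvertible (Coh.structureModule C) :=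
    Groth.Agent.Helper4.TensorInv.isInvertible_structureModule
  have hcO := Groth.Agent.Helper1.SerreFin.isCoh_of_isInvertible _ hO
  have hcM := Groth.Agent.Helper1.SerreFin.isCoh_of_isInvertible M hM
  have hIM := isInvertible_tensor (ClSub.idealMod D) M hI hM
  have hcIM := Groth.Agent.Helper1.SerreFin.isCoh_of_isInvertible _ hIM
  haveI hmono : Mono (idealTwistι D M) := mono_idealTwistι D M hM
  rw [← finrank_hom_unit k, ← finrank_hom_unit k]
  let Φ : (Coh.structureModule C ⟶ CohB1.tensorMod (ClSub.idealMod D) M) →ₗ[k]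
      (Coh.structureModule C ⟶ M) :=
    Linear.rightComp k (Coh.structureModule C) (idealTwistι D M)
  have hΦinj : Function.Injective Φ := fun a b h => (cancel_mono (idealTwistι D M)).1 h
  haveI : Module.Finite k (Coh.structureModule C ⟶ M) := finite_hom k _ _ hcO hcM
  haveI : Module.Finite k (Coh.structureModule C ⟶ CohB1.tensorMod (ClSub.idealMod D) M) :=
    finite_hom k _ _ hcO hcIM
  exact LinearMap.finrank_le_finrank_of_injective hΦinj

/-- `M ≅ L ⊗ J` when `M ⊗ I ≅ L` and `I ⊗ J ≅ O` -/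
noncomputable def isoOfTwist (I J : C.Modules)
    (ε : CohB1.tensorMod I J ≅ Coh.structureModule C) {M L : C.Modules}
    (e : CohB1.tensorMod M I ≅ L) : M ≅ CohB1.tensorMod L J :=
  (show M ≅ CohB1.tensorMod (CohB1.tensorMod M I) J from ((twistTwistIso I J ε).app M).symm) ≪≫
    (show (DCoh.tensorRightMod J).obj (CohB1.tensorMod M I) ≅ (DCoh.tensorRightMod J).obj L from
      (DCoh.tensorRightMod J).mapIso e)

/-- S17807 for an integral curve -/
theorem main17807 (hdim : topologicalKrullDim C = 1)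
    (hreg : ∀ x : C, IsRegularLocalRing (C.presheaf.stalk x))
    (h0 : Module.finrank k (Coh.HH C (Coh.structureModule C) 0) = 1)
    (L : C.Modules) (hL : PicF.IsInvertible L)
    (hL1 : 0 < Module.finrank k (Coh.HH C L 1)) :
    ∃ U : C.Opens, (U : Set ↥C).Nonempty ∧
      ∀ (σ : Spec (CommRingCat.of k) ⟶ C) (hσ : σ ≫ (C ↘ Spec (CommRingCat.of k)) = 𝟙 _)
        (M : C.Modules) (hM : PicF.IsInvertible M)
        (hML : Nonempty (CohB1.tensorMod M (ClSub.idealMod σ.ker) ≅ L)),
        ((∀ p, σ.base p ∈ U) →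
          Module.finrank k (Coh.HH C M 1) = Module.finrank k (Coh.HH C L 1) - 1) ∧
        ((∀ p, σ.base p ∉ U) →
          Module.finrank k (Coh.HH C M 1) = Module.finrank k (Coh.HH C L 1)) := by
  haveI := Groth.Agent.Helper4.NApx82.isNoetherian_of_proper k C
  have hfin := finite_noDrop k hdim hreg h0 L hL hL1
  have hcl : IsClosed {x : C | NoDrop k L x} := by
    rw [← Set.biUnion_of_singleton {x : C | NoDrop k L x}]
    exact hfin.isClosed_biUnion (fun x hx => hx.1)
  refine ⟨⟨{x : C | NoDrop k L x}ᶜ, hcl.isOpen_compl⟩, ⟨genericPoint C, ?_⟩, ?_⟩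
  · intro hnd
    exact ne_genericPoint_of_isClosed hdim _ hnd.1 rfl
  intro σ hσ M hM ⟨e⟩
  obtain ⟨x, hxdef⟩ : ∃ x : C, x = σ (IsLocalRing.closedPoint k) := ⟨_, rfl⟩
  have hx : IsClosed ({x} : Set C) := by rw [hxdef]; exact isClosed_of_section k σ hσ
  have hker : σ.ker = Scheme.IdealSheafData.vanishingIdeal ⟨{x}, hx⟩ := by
    subst hxdef
    exact ker_of_section k σ hσ
  have hres : Function.Surjective (Curv2.resMap k C x) := by
    rw [hxdef]; exact resMap_surjective_of_section k σ hσ
  have hκ : Module.finrank k (C.residueField x) = 1 := by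
    rw [hxdef]; exact finrank_residueField_of_section k σ hσ
  obtain ⟨e'⟩ : Nonempty (CohB1.tensorMod M
      (ClSub.idealMod (Scheme.IdealSheafData.vanishingIdeal ⟨{x}, hx⟩)) ≅ L) := by
    rw [← hker]; exact ⟨e⟩
  haveI := hreg x
  obtain ⟨hI, hdI⟩ := ideal_point_of_normal k hdim x hx
    (Groth.Agent.Helper4.RegNormal.isIntegrallyClosed_of_isRegularLocalRing _)
  have hle1 := h0_idealTwist_le k x hx M hM hI
  have hM1 := Groth.Agent.Helper4.QAffSec.isFinLocFreeOfRank_one_of_isInvertible M hM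
  have hle2 := h0_le_twist_point k x hx 1 M hM1
  obtain ⟨D, hD⟩ : ∃ D, D = Scheme.IdealSheafData.vanishingIdeal ⟨{x}, hx⟩ := ⟨_, rfl⟩
  rw [← hD] at e' hI hdI hle1 hle2
  have e1 := (Groth.Agent.Helper1.ProjTop.HHlinEquiv k (X := C)
    (Groth.Agent.Lead.Ref1B.braid (ClSub.idealMod D) M ≪≫ e') 0).finrank_eq
  have e2 := (Groth.Agent.Helper1.ProjTop.HHlinEquiv k (X := C) e' 0).finrank_eq
  rw [e1] at hle1
  rw [e2, hκ] at hle2
  -- degrees
  have hdeg : Curv2.deg k C L 1 = Curv2.deg k C M 1 - 1 := by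
    rw [← deg_iso k e' 1, deg_tensor_inv_curve k hdim M _ hM hI, hdI, hκ]
    push_cast
    ring
  have hχM := chi_eq_h0_sub_h1 k hdim.le M
  have hχL := chi_eq_h0_sub_h1 k hdim.le L
  unfold chi at hχM hχL
  have hdM : Curv2.deg k C M 1 = Curv2.euler k C M - Curv2.euler k C (Coh.structureModule C) := by
    unfold Curv2.deg
    push_cast
    ring
  have hdL : Curv2.deg k C L 1 = Curv2.euler k C L - Curv2.euler k C (Coh.structureModule C) := by
    unfold Curv2.deg
    push_cast
    ring
  have hrel : (Module.finrank k (Coh.HH C M 1) : ℤ) + (Module.finrank k (Coh.HH C L 0) : ℤ) + 1 =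
      (Module.finrank k (Coh.HH C L 1) : ℤ) + (Module.finrank k (Coh.HH C M 0) : ℤ) := by
    linarith
  have hxmem : ∀ p, σ.base p = x := by
    intro p
    rw [hxdef]
    have : p = IsLocalRing.closedPoint k := Subsingleton.elim (α := PrimeSpectrum k) _ _
    rw [this]
  constructor
  · intro hU
    have hxU := hU (IsLocalRing.closedPoint k)
    rw [hxmem] at hxU
    have hnd : ¬ NoDrop k L x := hxU
    obtain ⟨J, hJ, ⟨ε₁⟩, ⟨ε₂⟩⟩ := Groth.Agent.Lead.InvDual.exists_inverse (ClSub.idealMod D) hI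
    have e3 := (Groth.Agent.Helper1.ProjTop.HHlinEquiv k (X := C)
      (isoOfTwist (ClSub.idealMod D) J ε₂ e') 0).finrank_eq
    have hnlt : ¬ Module.finrank k (Coh.HH C L 0) <
        Module.finrank k (Coh.HH C (CohB1.tensorMod L J) 0) := by
      intro hlt
      apply hnd
      refine ⟨hx, hres, hκ, J, hJ, ⟨?_⟩, hlt⟩
      rw [← hD]
      exact ε₁
    rw [← e3] at hnlt
    omega
  · intro hU
    have hxU := hU (IsLocalRing.closedPoint k)
    rw [hxmem] at hxU
    have hnd : NoDrop k L x := not_not.mp hxU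
    obtain ⟨hx', -, -, J, hJ, ⟨ε⟩, hlt⟩ := hnd
    have ε' : CohB1.tensorMod (ClSub.idealMod D) J ≅ Coh.structureModule C := by
      rw [hD]
      exact Groth.Agent.Lead.Ref1B.braid _ J ≪≫ ε
    have e3 := (Groth.Agent.Helper1.ProjTop.HHlinEquiv k (X := C)
      (isoOfTwist (ClSub.idealMod D) J ε' e') 0).finrank_eq
    rw [← e3] at hlt
    omega


end RatDrop

end Groth.Agent.Helper4.SN
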