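import Mathlib
import Groth.Agent.Helper4.SN139
import Groth.Agent.Helper4.SN63

/-!
# Sections of tensor powers on integral proper schemes (S19807, S17587)
-/

set_option autoImplicit false
set_option linter.unusedSectionVars false
set_option linter.style.haveILetI false
universe u

open CategoryTheory CategoryTheory.Limits AlgebraicGeometry Opposite TopologicalSpace

namespace Groth.Agent.Helper4.SN

open Groth.Agent.Helper4.NApx82 Groth.Agent.Helper4.StalkDict Groth.Agent.Lead.Ref1B
  Groth.Agent.Lead.StalkNhd Groth.Agent.Helper4.TensorInv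

section Pow

variable {X : Scheme.{u}} [IsIntegral X]

/-- a morphism into an invertible module which is surjective at the generic point is nonzero -/
theorem ne_zero_of_stalkLin_surjective {A B : X.Modules} (hB : PicF.IsInvertible B) (φ : A ⟶ B)
    (h : Function.Surjective (stalkLin φ (genericPoint X))) : φ ≠ 0 := by
  rintro rfl
  have h1 := finrank_generic_of_isInvertible B hB
  haveI : Subsingleton (B.presheaf.stalk (genericPoint X)) := by
    refine ⟨fun a b => ?_⟩
    obtain ⟨a', rfl⟩ := h a
    obtain ⟨b', rfl⟩ := h b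
    have hz : ∀ t, stalkLin (0 : A ⟶ B) (genericPoint X) t = 0 := by
      intro t
      obtain ⟨V, hxV, m, rfl⟩ := TopCat.Presheaf.exists_germ_eq _ t
      rw [Groth.Agent.Helper4.StalkExact.stalkLin_germ]
      exact map_zero _
    rw [hz, hz]
  rw [Module.finrank_zero_of_subsingleton] at h1
  exact absurd h1 (by decide)

/-- the map `L^m ⟶ (L')^m` induced by `φ : L ⟶ L'` -/
noncomputable def powMap {L L' : X.Modules} (φ : L ⟶ L') :
    (m : ℕ) → (CohB1.tensorPow L m ⟶ CohB1.tensorPow L' m)
  | 0 => 𝟙 _
  | m + 1 => KoszTw.tensorMap (powMap φ m) φ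

theorem stalkLin_powMap_surjective {L L' : X.Modules} (φ : L ⟶ L') (x : X)
    (h : Function.Surjective (stalkLin φ x)) (m : ℕ) :
    Function.Surjective (stalkLin (powMap φ m) x) := by
  induction m with
  | zero => exact stalkLin_id_surjective _ x
  | succ m ih => exact stalkLin_tensorMap_surjective _ _ x ih h

variable (k : Type u) [Field k] [X.Over (Spec (CommRingCat.of k))]
  [IsProper (X ↘ (Spec (CommRingCat.of k)))]

/-- a monomorphism of coherent modules does not decrease `h⁰` -/
theorem finrank_h0_le_of_mono {A B : X.Modules} (hB : Coh.IsCoh B) (φ : A ⟶ B) [Mono φ] :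
    Module.finrank k (Coh.HH X A 0) ≤ Module.finrank k (Coh.HH X B 0) := by
  haveI := isNoetherian_of_proper k X
  have hcO : Coh.IsCoh (Coh.structureModule X) :=
    Groth.Agent.Helper1.SerreFin.isCoh_of_isInvertible _ isInvertible_structureModule
  haveI : Module.Finite k (Coh.structureModule X ⟶ B) := finite_hom k _ _ hcO hB
  rw [← finrank_hom_unit, ← finrank_hom_unit]
  let Φ : (Coh.structureModule X ⟶ A) →ₗ[k] (Coh.structureModule X ⟶ B) :=
    { toFun := fun s => s ≫ φ
      map_add' := fun a b => Preadditive.add_comp _ _ _ _ _ _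
      map_smul' := fun a s => Linear.smul_comp _ _ _ a s _ }
  apply LinearMap.finrank_le_finrank_of_injective (f := Φ)
  intro a b hab
  exact (cancel_mono φ).1 hab

/-- `h⁰(L^m) ≤ h⁰((L ⊗ E)^m)` when `E` has a nonzero section -/
theorem finrank_h0_tensorPow_le (L E : X.Modules) (hL : PicF.IsInvertible L)
    (hE : PicF.IsInvertible E) (s : Coh.structureModule X ⟶ E) (hs : s ≠ 0) (m : ℕ) :
    Module.finrank k (Coh.HH X (CohB1.tensorPow L m) 0) ≤
      Module.finrank k (Coh.HH X (CohB1.tensorPow (CohB1.tensorMod L E) m) 0) := by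
  have hO : PicF.IsInvertible (Coh.structureModule X) := isInvertible_structureModule
  have hLE := isInvertible_tensorMod hL hE
  let φ : L ⟶ CohB1.tensorMod L E :=
    (SecTwist.unitorR L).inv ≫ KoszTw.tensorMap (𝟙 L) s
  have hφ : Function.Surjective (stalkLin φ (genericPoint X)) := by
    have h1 := stalkLin_tensorMap_surjective (𝟙 L) s (genericPoint X)
      (stalkLin_id_surjective L _) (NApx81.stalkLin_surjective_genericPoint s hO hE hs)
    have h2 := (Groth.Agent.Helper1.Dev.stalkLin_bijective_of_isIso
      (SecTwist.unitorR L).inv (genericPoint X)).2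
    intro t
    obtain ⟨a, ha⟩ := h1 t
    obtain ⟨b, hb⟩ := h2 a
    exact ⟨b, (Groth.Agent.Lead.StalkNhd.stalkLin_comp _ _ _ b).trans
      ((congrArg _ hb).trans ha)⟩
  have hpow := stalkLin_powMap_surjective φ (genericPoint X) hφ m
  have hne := ne_zero_of_stalkLin_surjective (isInvertible_tensorPow hLE m) _ hpow
  haveI : Mono (powMap φ m) :=
    NApx81.mono_of_ne_zero _ (isInvertible_tensorPow hL m) (isInvertible_tensorPow hLE m) hne
  exact finrank_h0_le_of_mono k
    (Groth.Agent.Helper1.SerreFin.isCoh_of_isInvertible _ (isInvertible_tensorPow hLE m))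
    (powMap φ m)

end Pow

end Groth.Agent.Helper4.SN
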