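import Mathlib
import Groth.Agent.Helper4.SN152
import Groth.Agent.Helper4.SN91
import Groth.Agent.Helper4.SN26
import Groth.Agent.Helper4.SN58
import Groth.Agent.Helper1.TwistExact

/-!
# Growth of `h⁰(F ⊗ L^m)`: basic lemmas and the integral step
-/

set_option autoImplicit false
set_option linter.unusedSectionVars false
set_option linter.style.haveILetI false
universe u

open CategoryTheory CategoryTheory.Limits AlgebraicGeometry Opposite TopologicalSpace

namespace Groth.Agent.Helper4.SN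

open Groth.Agent.Helper4.NApx82 Groth.Agent.Helper4.StalkDict Groth.Agent.Lead.Ref1B
  Groth.Agent.Lead.StalkNhd Groth.Agent.Helper4.TensorInv Groth.Agent.Helper4.TensorAssoc
  Groth.Agent.Helper1.Dev

section Numeric

/-- a telescoping estimate -/
theorem telescope_bound (f : ℕ → ℕ) (m₀ : ℕ) (hm₀ : 1 ≤ m₀) (C r : ℕ)
    (h : ∀ m : ℕ, 1 ≤ m → f (m₀ + m) ≤ f m + C * m ^ r) :
    ∃ B : ℕ, ∀ m : ℕ, 1 ≤ m → f m ≤ B + C * m ^ (r + 1) := by
  refine ⟨(Finset.range (m₀ + 1)).sup f, ?_⟩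
  intro m
  induction m using Nat.strong_induction_on with
  | _ m ih =>
    intro hm
    by_cases hle : m ≤ m₀
    · have h1 : f m ≤ (Finset.range (m₀ + 1)).sup f :=
        Finset.le_sup (f := f) (Finset.mem_range.mpr (by omega))
      exact h1.trans (Nat.le_add_right _ _)
    · obtain ⟨a, rfl⟩ : ∃ a, m = m₀ + a := ⟨m - m₀, by omega⟩
      have ha : 1 ≤ a := by omega
      have h1 := h a ha
      have h2 := ih a (by omega) ha
      have h3 : a ^ (r + 1) + a ^ r ≤ (m₀ + a) ^ (r + 1) := by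
        have h4 : a ^ (r + 1) + a ^ r = (a + 1) * a ^ r := by ring
        rw [h4, pow_succ' (m₀ + a) r]
        exact Nat.mul_le_mul (by omega) (Nat.pow_le_pow_left (by omega) r)
      calc f (m₀ + a) ≤ f a + C * a ^ r := h1
        _ ≤ (Finset.range (m₀ + 1)).sup f + C * a ^ (r + 1) + C * a ^ r := by omega
        _ = (Finset.range (m₀ + 1)).sup f + C * (a ^ (r + 1) + a ^ r) := by ring
        _ ≤ (Finset.range (m₀ + 1)).sup f + C * (m₀ + a) ^ (r + 1) :=
          Nat.add_le_add_left (Nat.mul_le_mul_left C h3) _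

end Numeric

section Growth

variable (k : Type u) [Field k] {X : Scheme.{u}} [X.Over (Spec (CommRingCat.of k))]
  [IsProper (X ↘ (Spec (CommRingCat.of k)))]

/-- `h⁰(F ⊗ L^m) ≤ C m^r` for all `m ≥ 1` -/
def GrowthLE (L F : X.Modules) (r : ℕ) : Prop :=
  ∃ C : ℕ, ∀ m : ℕ, 1 ≤ m →
    Module.finrank k (Coh.HH X (CohB1.tensorMod F (CohB1.tensorPow L m)) 0) ≤ C * m ^ r

theorem finrank_h0_iso {F G : X.Modules} (e : F ≅ G) :
    Module.finrank k (Coh.HH X F 0) = Module.finrank k (Coh.HH X G 0) :=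
  (HHequivOfIso k e 0).finrank_eq

theorem growthLE_iso {L F G : X.Modules} (e : F ≅ G) {r : ℕ} (h : GrowthLE k L F r) :
    GrowthLE k L G r := by
  obtain ⟨C, hC⟩ := h
  refine ⟨C, fun m hm => ?_⟩
  rw [← finrank_h0_iso k (PicGrp.tensorModIso e (Iso.refl (CohB1.tensorPow L m)))]
  exact hC m hm

theorem growthLE_mono {L F : X.Modules} {r r' : ℕ} (hr : r ≤ r') (h : GrowthLE k L F r) :
    GrowthLE k L F r' := by
  obtain ⟨C, hC⟩ := h
  refine ⟨C, fun m hm => (hC m hm).trans (Nat.mul_le_mul_left C (Nat.pow_le_pow_right hm hr))⟩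

theorem finrank_h0_of_isZero {F : X.Modules} (hF : IsZero F) :
    Module.finrank k (Coh.HH X F 0) = 0 := by
  haveI := Groth.Agent.Lead.Thick.subsingleton_HH_of_isZero F hF 0
  exact Module.finrank_zero_of_subsingleton

theorem isZero_tensorMod_of_isZero {F : X.Modules} (hF : IsZero F) (B : X.Modules) :
    IsZero (CohB1.tensorMod F B) :=
  (DCoh.tensorRightMod B).map_isZero hF

theorem growthLE_zero {L F : X.Modules} (hF : IsZero F) (r : ℕ) : GrowthLE k L F r :=
  ⟨0, fun m _ => by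
    rw [finrank_h0_of_isZero k (isZero_tensorMod_of_isZero hF _)]; exact Nat.zero_le _⟩

/-- twisted subadditivity of `h⁰` -/
theorem finrank_h0_twist_le_add (S : ShortComplex X.Modules) (hS : S.ShortExact)
    (h₂ : Coh.IsCoh S.X₂) (h₃ : Coh.IsCoh S.X₃) (B : X.Modules) (hB : PicF.IsInvertible B) :
    Module.finrank k (Coh.HH X (CohB1.tensorMod S.X₂ B) 0) ≤
      Module.finrank k (Coh.HH X (CohB1.tensorMod S.X₁ B) 0) +
        Module.finrank k (Coh.HH X (CohB1.tensorMod S.X₃ B) 0) := by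
  have hcB := Groth.Agent.Helper1.SerreFin.isCoh_of_isInvertible B hB
  exact h0_le_add_of_shortExact k (S.map (DCoh.tensorRightMod B))
    (Groth.Agent.Helper1.TwistExact.shortExact_map_tensorRightMod hS B hB)
    (isCoh_tensorMod _ _ h₂ hcB) (isCoh_tensorMod _ _ h₃ hcB)

theorem growthLE_ext {L : X.Modules} (hL : PicF.IsInvertible L) (S : ShortComplex X.Modules)
    (hS : S.ShortExact) (h₂ : Coh.IsCoh S.X₂) (h₃ : Coh.IsCoh S.X₃) {r : ℕ}
    (k₁ : GrowthLE k L S.X₁ r) (k₃ : GrowthLE k L S.X₃ r) : GrowthLE k L S.X₂ r := by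
  obtain ⟨C₁, hC₁⟩ := k₁
  obtain ⟨C₃, hC₃⟩ := k₃
  refine ⟨C₁ + C₃, fun m hm => ?_⟩
  have h := finrank_h0_twist_le_add k S hS h₂ h₃ _ (isInvertible_tensorPow hL m)
  have h1 := hC₁ m hm
  have h3 := hC₃ m hm
  calc _ ≤ _ := h
    _ ≤ C₁ * m ^ r + C₃ * m ^ r := Nat.add_le_add h1 h3
    _ = (C₁ + C₃) * m ^ r := by ring

/-- twisting preserves the inequality of `h⁰` along a monomorphism -/
theorem finrank_h0_twist_le_of_mono {F G : X.Modules} (φ : F ⟶ G) [Mono φ] (hF : Coh.IsCoh F)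
    (hG : Coh.IsCoh G) (B : X.Modules) (hB : PicF.IsInvertible B) :
    Module.finrank k (Coh.HH X (CohB1.tensorMod F B) 0) ≤
      Module.finrank k (Coh.HH X (CohB1.tensorMod G B) 0) := by
  have hcB := Groth.Agent.Helper1.SerreFin.isCoh_of_isInvertible B hB
  have hS' := Groth.Agent.Helper1.TwistExact.shortExact_map_tensorRightMod
    (cokSC_shortExact φ) B hB
  haveI : Module.Finite k (Coh.HH X (CohB1.tensorMod G B) 0) :=
    Groth.Agent.S0002.result k X _ (isCoh_tensorMod _ _ hG hcB) 0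
  exact LinearMap.finrank_le_finrank_of_injective
    (Groth.Agent.Helper4.NApx80.injective_f_zero k _ hS')

theorem growthLE_of_mono {L : X.Modules} (hL : PicF.IsInvertible L) {F G : X.Modules}
    (φ : F ⟶ G) [Mono φ] (hF : Coh.IsCoh F) (hG : Coh.IsCoh G) {r : ℕ}
    (h : GrowthLE k L G r) : GrowthLE k L F r := by
  obtain ⟨C, hC⟩ := h
  exact ⟨C, fun m hm =>
    (finrank_h0_twist_le_of_mono k φ hF hG _ (isInvertible_tensorPow hL m)).trans (hC m hm)⟩

end Growth

section Integral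

variable (k : Type u) [Field k] {Z : Scheme.{u}} [Z.Over (Spec (CommRingCat.of k))]
  [IsProper (Z ↘ (Spec (CommRingCat.of k)))] [IsIntegral Z]

/-- the integral step: on an integral proper scheme the growth of `h⁰(L^m)` is controlled by
the growth of `h⁰(Q ⊗ L^m)` for coherent `Q` vanishing at the generic point -/
theorem growth_tensorPow_integral (L : Z.Modules) (hL : PicF.IsInvertible L) (r : ℕ)
    (hQ : ∀ Q : Z.Modules, Coh.IsCoh Q → Subsingleton (Q.presheaf.stalk (genericPoint Z)) →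
      ∃ C r' : ℕ, (C = 0 ∨ r' + 1 ≤ r) ∧ ∀ m : ℕ, 1 ≤ m →
        Module.finrank k (Coh.HH Z (CohB1.tensorMod Q (CohB1.tensorPow L m)) 0) ≤ C * m ^ r') :
    ∃ C : ℕ, ∀ m : ℕ, 1 ≤ m →
      Module.finrank k (Coh.HH Z (CohB1.tensorPow L m) 0) ≤ C * m ^ r := by
  by_cases hne : ∃ m₀ : ℕ, 1 ≤ m₀ ∧ Nontrivial (Coh.HH Z (CohB1.tensorPow L m₀) 0)
  · obtain ⟨m₀, hm₀, hnt⟩ := hne
    obtain ⟨s, hs⟩ := exists_section_of_nontrivial_H0 _ hnt
    have hO : PicF.IsInvertible (Coh.structureModule Z) := isInvertible_structureModule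
    have hLm₀ := isInvertible_tensorPow hL m₀
    haveI : Mono s := NApx81.mono_of_ne_zero s hO hLm₀ hs
    have hcO : Coh.IsCoh (Coh.structureModule Z) :=
      Groth.Agent.Helper1.SerreFin.isCoh_of_isInvertible _ hO
    have hcL : Coh.IsCoh (CohB1.tensorPow L m₀) :=
      Groth.Agent.Helper1.SerreFin.isCoh_of_isInvertible _ hLm₀
    have hcQ : Coh.IsCoh (cokernel s) := Groth.Agent.Lead.PerfLib.isCoh_cokernel hcO hcL s
    have hgen : Subsingleton ((cokernel s).presheaf.stalk (genericPoint Z)) :=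
      subsingleton_stalk_cokernel s _ (NApx81.stalkLin_surjective_genericPoint s hO hLm₀ hs)
    obtain ⟨C, r', hCr, hC⟩ := hQ _ hcQ hgen
    have key : ∀ m : ℕ, 1 ≤ m →
        Module.finrank k (Coh.HH Z (CohB1.tensorPow L (m₀ + m)) 0) ≤
          Module.finrank k (Coh.HH Z (CohB1.tensorPow L m) 0) + C * m ^ r' := by
      intro m hm
      have h := finrank_h0_twist_le_add k (cokSC s) (cokSC_shortExact s) hcL hcQ _
        (isInvertible_tensorPow hL m)
      have e1 : Module.finrank k (Coh.HH Z (CohB1.tensorMod (cokSC s).X₂ (CohB1.tensorPow L m)) 0) =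
          Module.finrank k (Coh.HH Z (CohB1.tensorPow L (m₀ + m)) 0) :=
        finrank_h0_iso k (powAddIso L hL m₀ m)
      have e2 : Module.finrank k (Coh.HH Z (CohB1.tensorMod (cokSC s).X₁ (CohB1.tensorPow L m)) 0) =
          Module.finrank k (Coh.HH Z (CohB1.tensorPow L m) 0) :=
        finrank_h0_iso k (unitorL (CohB1.tensorPow L m))
      rw [e1, e2] at h
      exact h.trans (Nat.add_le_add_left (hC m hm) _)
    obtain ⟨B, hB⟩ := telescope_bound
      (fun m => Module.finrank k (Coh.HH Z (CohB1.tensorPow L m) 0)) m₀ hm₀ C r' key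
    refine ⟨B + C, fun m hm => ?_⟩
    have h1 := hB m hm
    have hpos : 1 ≤ m ^ r := Nat.one_le_pow _ _ hm
    rcases hCr with rfl | hr
    · rw [zero_mul, add_zero] at h1
      rw [add_zero]
      exact h1.trans (Nat.le_mul_of_pos_right B hpos)
    · have h2 : m ^ (r' + 1) ≤ m ^ r := Nat.pow_le_pow_right hm hr
      calc _ ≤ B + C * m ^ (r' + 1) := h1
        _ ≤ B * m ^ r + C * m ^ r :=
          Nat.add_le_add (Nat.le_mul_of_pos_right B hpos) (Nat.mul_le_mul_left C h2)
        _ = (B + C) * m ^ r := by ring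
  · push Not at hne
    refine ⟨0, fun m hm => ?_⟩
    haveI := hne m hm
    rw [Module.finrank_zero_of_subsingleton]
    exact Nat.zero_le _

end Integral

end Groth.Agent.Helper4.SN
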