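import Mathlib
import Groth.Agent.Helper4.SN154
import Groth.Agent.Helper4.SN23
import Groth.Agent.Helper4.PullTensor
import Groth.Agent.Helper1.PF4
import Groth.Agent.Helper1.AffLin
import Groth.Agent.Helper1.Dev16

/-!
# Growth of `h⁰(F ⊗ L^m)`: the general bound `O(m^{dim Supp F})` on proper schemes
-/

set_option autoImplicit false
set_option linter.unusedSectionVars false
set_option linter.style.haveILetI false
universe u

open CategoryTheory CategoryTheory.Limits AlgebraicGeometry Opposite TopologicalSpace

namespace Groth.Agent.Helper4.SN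

open Groth.Agent.Helper4.NApx82 Groth.Agent.Helper4.StalkDict Groth.Agent.Lead.Ref1B
  Groth.Agent.Lead.StalkNhd Groth.Agent.Helper4.TensorInv Groth.Agent.Helper4.TensorAssoc
  Groth.Agent.Helper1.Dev Groth.Agent.Lead.PushStalk Groth.Agent.Lead.Thick

section Transfer

variable (k : Type u) [Field k] {X Z : Scheme.{u}} [X.Over (Spec (CommRingCat.of k))]
  [Z.Over (Spec (CommRingCat.of k))]

/-- `h⁰` of a twist of a pushforward along an affine morphism -/
theorem finrank_h0_push_twist (ι : Z ⟶ X) [IsAffineHom ι]
    (hι : ι ≫ (X ↘ Spec (CommRingCat.of k)) = Z ↘ Spec (CommRingCat.of k))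
    (E : Z.Modules) (hE : Coh.IsCoh E) (L : X.Modules) (hL : PicF.IsInvertible L) (m : ℕ) :
    Module.finrank k (Coh.HH X (CohB1.tensorMod ((Scheme.Modules.pushforward ι).obj E)
      (CohB1.tensorPow L m)) 0) =
    Module.finrank k (Coh.HH Z (CohB1.tensorMod E
      (CohB1.tensorPow ((Scheme.Modules.pullback ι).obj L) m)) 0) := by
  have hLm := isInvertible_tensorPow hL m
  have hpL : PicF.IsInvertible ((Scheme.Modules.pullback ι).obj L) :=
    Groth.Agent.Helper4.PullSec.isInvertible_pullback ι hL
  have hcoh : Coh.IsCoh (CohB1.tensorMod E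
      (CohB1.tensorPow ((Scheme.Modules.pullback ι).obj L) m)) :=
    isCoh_tensorMod _ _ hE (Groth.Agent.Helper1.SerreFin.isCoh_of_isInvertible _
      (isInvertible_tensorPow hpL m))
  haveI : Coh.IsQCoh (CohB1.tensorMod E
      (CohB1.tensorPow ((Scheme.Modules.pullback ι).obj L) m)) := hcoh.1
  obtain ⟨e⟩ := Groth.Agent.Helper1.AffLin.nonempty_HH_linearEquiv ι k hι
    (CohB1.tensorMod E (CohB1.tensorPow ((Scheme.Modules.pullback ι).obj L) m)) 0
  rw [e.finrank_eq]
  exact (HHequivOfIso k (Groth.Agent.Helper1.PF.projIso ι E (CohB1.tensorPow L m) hLm ≪≫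
    (Scheme.Modules.pushforward ι).mapIso (PicGrp.tensorModIso (Iso.refl E)
      (Groth.Agent.Helper4.PullTensor.pullPowIso ι hL m))) 0).finrank_eq

end Transfer

section Main

variable (k : Type u) [Field k] {X : Scheme.{u}} [X.Over (Spec (CommRingCat.of k))]
  [IsProper (X ↘ (Spec (CommRingCat.of k)))]

theorem isZero_of_dimLT_zero (F : X.Modules) (hF : Coh.IsCoh F)
    (h : DimLT (CohB1.support F) 0) : IsZero F := by
  apply isZero_of_support_eq_empty
  rw [Set.eq_empty_iff_forall_notMem]
  intro x hx
  have hcl : IsClosed (CohB1.support F) := Groth.Agent.S0020.result _ _ hF.2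
  have hsub : closure ({x} : Set X) ⊆ CohB1.support F :=
    closure_minimal (Set.singleton_subset_iff.mpr hx) hcl
  have := h ⟨closure {x}, isIrreducible_singleton.closure, isClosed_closure⟩ hsub
  exact absurd this (by simp)

/-- **the growth bound**: on a proper scheme over a field, `h⁰(F ⊗ L^m) = O(m^r)` for a coherent
module `F` with support of dimension `≤ r` and any invertible module `L` -/
theorem growthLE_of_dimLT (L : X.Modules) (hL : PicF.IsInvertible L) :
    ∀ (r : ℕ) (F : X.Modules), Coh.IsCoh F → DimLT (CohB1.support F) (r + 1) →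
      GrowthLE k L F r := by
  haveI := Groth.Agent.Helper4.NApx82.isNoetherian_of_proper k X
  intro r
  induction r using Nat.strong_induction_on with
  | _ r IH =>
    have hK : HalfClass (fun F : X.Modules =>
        DimLT (CohB1.support F) (r + 1) → GrowthLE k L F r) :=
      { iso := fun {M N} e h hd =>
          growthLE_iso k e (h (by rw [support_eq_of_iso e]; exact hd))
        zero := fun M hM _ => growthLE_zero k hM r
        ext := fun S hS h₁ h₂ h₃ k₁ k₃ hd => by
          have := hS.mono_f
          have := hS.epi_g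
          exact growthLE_ext k hL S hS h₂ h₃ (k₁ (hd.mono (support_subset_of_mono S.f)))
            (k₃ (hd.mono (support_subset_of_epi S.g))) }
    intro F hF
    refine hK.core ⊤ ?_ F hF (Set.subset_univ _)
    intro Y _ hirrY hB E hE
    set ι := (Scheme.IdealSheafData.vanishingIdeal Y).subschemeι with hι
    letI : (Scheme.IdealSheafData.vanishingIdeal Y).subscheme.Over (Spec (CommRingCat.of k)) :=
      ⟨ι ≫ (X ↘ Spec (CommRingCat.of k))⟩
    haveI : IsProper ((Scheme.IdealSheafData.vanishingIdeal Y).subscheme ↘
        Spec (CommRingCat.of k)) := by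
      show IsProper (ι ≫ (X ↘ Spec (CommRingCat.of k)))
      infer_instance
    haveI := isIntegral_subscheme Y hirrY
    haveI : IsNoetherian (Scheme.IdealSheafData.vanishingIdeal Y).subscheme :=
      isNoetherian_of_isClosedImmersion ι
    have hpL : PicF.IsInvertible ((Scheme.Modules.pullback ι).obj L) :=
      Groth.Agent.Helper4.PullSec.isInvertible_pullback ι hL
    have hrange : Set.range ι = (Y : Set X) := range_ι_vanishingIdeal Y
    have hsmall : ∀ E : (Scheme.IdealSheafData.vanishingIdeal Y).subscheme.Modules, Coh.IsCoh E →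
        Subsingleton (E.presheaf.stalk (genericPoint _)) →
        pushClass ι (fun F : X.Modules =>
          DimLT (CohB1.support F) (r + 1) → GrowthLE k L F r) E :=
      fun E hE hs => small_of_below Y hB _ E hE hs
    refine (pushClass_halfClass ι hK).integral_main ?_ hsmall E hE
    intro I' j hj hIq hdimI
    haveI := hj
    have hO := isCoh_structureModule (Scheme.IdealSheafData.vanishingIdeal Y).subscheme
    haveI : I'.IsQuasicoherent := hIq
    haveI : (Coh.structureModule
      (Scheme.IdealSheafData.vanishingIdeal Y).subscheme).IsQuasicoherent := hO.1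
    have hI' : Coh.IsCoh I' :=
      ⟨hIq, Groth.Agent.Helper4.QcohEpi.isFiniteType_of_mono j hO.2⟩
    have hcI := isCoh_push ι I' hI'
    have hsI : CohB1.support ((Scheme.Modules.pushforward ι).obj I') ⊆ (Y : Set X) := by
      rw [← hrange]
      exact support_push_subset ι I'
    have hclI : IsClosed (CohB1.support ((Scheme.Modules.pushforward ι).obj I')) :=
      Groth.Agent.S0020.result _ _ hcI.2
    by_cases hfull : CohB1.support ((Scheme.Modules.pushforward ι).obj I') = (Y : Set X)
    · rw [hfull] at hdimI
      -- reduce to the structure sheaf of the subscheme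
      haveI : Mono ((Scheme.Modules.pushforward ι).map j) := Functor.map_mono _ j
      refine growthLE_of_mono k hL ((Scheme.Modules.pushforward ι).map j) hcI
        (isCoh_push ι _ hO) ?_
      -- the bound on the integral subscheme
      have hQ : ∀ Q : (Scheme.IdealSheafData.vanishingIdeal Y).subscheme.Modules, Coh.IsCoh Q →
          Subsingleton (Q.presheaf.stalk (genericPoint _)) →
          ∃ C r' : ℕ, (C = 0 ∨ r' + 1 ≤ r) ∧ ∀ m : ℕ, 1 ≤ m →
            Module.finrank k (Coh.HH _ (CohB1.tensorMod Q
              (CohB1.tensorPow ((Scheme.Modules.pullback ι).obj L) m)) 0) ≤ C * m ^ r' := by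
        intro Q hQc hQs
        have hcQ := isCoh_push ι Q hQc
        have hsQ : CohB1.support ((Scheme.Modules.pushforward ι).obj Q) ⊆ (Y : Set X) := by
          rw [← hrange]
          exact support_push_subset ι Q
        have hnot : ι (genericPoint _) ∉ CohB1.support ((Scheme.Modules.pushforward ι).obj Q) := by
          intro hcon
          apply hcon
          exact (psHom_bijective ι Q ι.isClosedEmbedding.isInducing (genericPoint _)).1.subsingleton
        have hmem : ι (genericPoint _) ∈ (Y : Set X) := by
          rw [← hrange]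
          exact ⟨_, rfl⟩
        have hdQ : DimLT (CohB1.support ((Scheme.Modules.pushforward ι).obj Q)) r :=
          hdimI.of_lt hirrY Y.isClosed hsQ ⟨_, hmem, hnot⟩
        rcases Nat.eq_zero_or_pos r with hr0 | hrpos
        · refine ⟨0, 0, Or.inl rfl, fun m hm => ?_⟩
          rw [← finrank_h0_push_twist k ι rfl Q hQc L hL m]
          have hz : IsZero ((Scheme.Modules.pushforward ι).obj Q) :=
            isZero_of_dimLT_zero _ hcQ (hr0 ▸ hdQ)
          rw [finrank_h0_of_isZero k (isZero_tensorMod_of_isZero hz _)]
          exact Nat.zero_le _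
        · obtain ⟨r'', rfl⟩ : ∃ r'', r = r'' + 1 := ⟨r - 1, by omega⟩
          obtain ⟨C, hC⟩ := IH r'' (Nat.lt_succ_self _) _ hcQ hdQ
          refine ⟨C, r'', Or.inr le_rfl, fun m hm => ?_⟩
          rw [← finrank_h0_push_twist k ι rfl Q hQc L hL m]
          exact hC m hm
      obtain ⟨C, hC⟩ := growth_tensorPow_integral k ((Scheme.Modules.pullback ι).obj L) hpL r hQ
      refine ⟨C, fun m hm => ?_⟩
      rw [finrank_h0_push_twist k ι rfl _ hO L hL m,
        finrank_h0_iso k (unitorL (CohB1.tensorPow ((Scheme.Modules.pullback ι).obj L) m))]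
      exact hC m hm
    · let Y' : Closeds X := ⟨CohB1.support ((Scheme.Modules.pushforward ι).obj I'), hclI⟩
      have hY' : Y' < Y := lt_of_le_of_ne hsI
        (fun heq => hfull (congrArg (fun Z : Closeds X => (Z : Set X)) heq))
      exact hB Y' hY' _ hcI (le_refl _) hdimI

end Main

end Groth.Agent.Helper4.SN
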