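import Mathlib
import Groth.Agent.Helper4.SN152
import Groth.Agent.Helper4.AmpleEventual
import Groth.Agent.Lead.InvDualA

/-!
# Big invertible modules have exponent one (S17587)
-/

set_option autoImplicit false
set_option linter.unusedSectionVars false
set_option linter.style.haveILetI false
universe u

open CategoryTheory CategoryTheory.Limits AlgebraicGeometry Opposite TopologicalSpace

namespace Groth.Agent.Helper4.SN

open Groth.Agent.Helper4.NApx82 Groth.Agent.Helper4.StalkDict Groth.Agent.Lead.Ref1B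
  Groth.Agent.Lead.StalkNhd Groth.Agent.Helper4.TensorInv Groth.Agent.Helper4.TensorAssoc

section GS

variable {X : Scheme.{u}} [IsIntegral X]

/-- `M` has a global section generating the generic stalk -/
def GS (M : X.Modules) : Prop :=
  ∃ s : Coh.structureModule X ⟶ M, Function.Surjective (stalkLin s (genericPoint X))

theorem GS_unit : GS (Coh.structureModule X) := ⟨𝟙 _, stalkLin_id_surjective _ _⟩

theorem GS_comp {M M' : X.Modules} (h : GS M) (φ : M ⟶ M')
    (hφ : Function.Surjective (stalkLin φ (genericPoint X))) : GS M' := by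
  obtain ⟨s, hs⟩ := h
  refine ⟨s ≫ φ, fun t => ?_⟩
  obtain ⟨a, ha⟩ := hφ t
  obtain ⟨b, hb⟩ := hs a
  exact ⟨b, (Groth.Agent.Lead.StalkNhd.stalkLin_comp _ _ _ b).trans ((congrArg _ hb).trans ha)⟩

theorem GS_of_iso {M M' : X.Modules} (h : GS M) (e : M ≅ M') : GS M' :=
  GS_comp h e.hom (Groth.Agent.Helper1.Dev.stalkLin_bijective_of_isIso e.hom (genericPoint X)).2

theorem GS_tensor {M M' : X.Modules} (h : GS M) (h' : GS M') : GS (CohB1.tensorMod M M') := by
  obtain ⟨s, hs⟩ := h
  obtain ⟨t, ht⟩ := h'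
  have h1 : GS (CohB1.tensorMod (Coh.structureModule X) (Coh.structureModule X)) :=
    GS_of_iso GS_unit (SecTwist.unitorR (Coh.structureModule X)).symm
  exact GS_comp h1 (KoszTw.tensorMap s t) (stalkLin_tensorMap_surjective s t _ hs ht)

theorem GS_of_ne_zero {M : X.Modules} (hM : PicF.IsInvertible M)
    (s : Coh.structureModule X ⟶ M) (hs : s ≠ 0) : GS M :=
  ⟨s, NApx81.stalkLin_surjective_genericPoint s isInvertible_structureModule hM hs⟩

theorem GS_pow {M : X.Modules} (h : GS M) : ∀ n : ℕ, GS (CohB1.tensorPow M n)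
  | 0 => GS_unit
  | n + 1 => GS_tensor (GS_pow h n) h

theorem GS_of_isGloballyGenerated {M : X.Modules} (hM : PicF.IsInvertible M)
    (hg : Curv2.IsGloballyGenerated M) : GS M := by
  obtain ⟨t, ht⟩ := exists_section_ne_zero M hg ⟨genericPoint X, by
    intro hsub
    have h1 := finrank_generic_of_isInvertible M hM
    rw [Module.finrank_zero_of_subsingleton] at h1
    exact absurd h1 (by decide)⟩
  exact GS_of_ne_zero hM t ht

theorem nontrivial_h0_of_GS (k : Type u) [Field k] [X.Over (Spec (CommRingCat.of k))]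
    {M : X.Modules} (hM : PicF.IsInvertible M) (h : GS M) : Nontrivial (Coh.HH X M 0) := by
  obtain ⟨s, hs⟩ := h
  have hne := ne_zero_of_stalkLin_surjective hM s hs
  refine ⟨⟨evalH0 k M s, 0, fun h0 => hne ?_⟩⟩
  apply evalH0_injective k M
  rw [h0, map_zero]

/-- two consecutive exponents with generically generating sections give all large exponents -/
theorem GS_pow_of_consecutive {L : X.Modules} (hL : PicF.IsInvertible L) (m : ℕ) (hm : 0 < m)
    (h1 : GS (CohB1.tensorPow L m)) (h2 : GS (CohB1.tensorPow L (m + 1))) (N : ℕ)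
    (hN : m * m ≤ N) : GS (CohB1.tensorPow L N) := by
  -- N = m * a + (m+1) * b
  obtain ⟨a, b, hab⟩ : ∃ a b : ℕ, m * a + (m + 1) * b = N := by
    obtain ⟨q, r, hqr, hr⟩ : ∃ q r, N = m * q + r ∧ r < m :=
      ⟨N / m, N % m, (Nat.div_add_mod N m).symm, Nat.mod_lt _ hm⟩
    have h5 : m ≤ q := by
      by_contra hlt
      push Not at hlt
      have : m * q + m ≤ m * m := by
        have := Nat.mul_le_mul_left m (Nat.succ_le_of_lt hlt)
        rw [Nat.mul_succ] at this
        exact this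
      omega
    obtain ⟨c, hc⟩ := Nat.exists_eq_add_of_le (le_trans hr.le h5)
    refine ⟨c, r, ?_⟩
    rw [hqr, hc]; ring
  have ha := GS_of_iso (GS_pow h1 a) (powMulIso L hL m a)
  have hb := GS_of_iso (GS_pow h2 b) (powMulIso L hL (m + 1) b)
  have hab' := GS_of_iso (GS_tensor ha hb) (powAddIso L hL (m * a) ((m + 1) * b))
  exact GS_of_iso hab' (powCastIso L hab)

/-- S17587 -/
theorem main17587 (k : Type u) [Field k] (X : Scheme.{u}) [X.Over (Spec (CommRingCat.of k))]
    [IsIntegral X] (H : X.Modules) (hH : CohB1.IsAmple H)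
    (L : X.Modules) (hL : PicF.IsInvertible L)
    (hbig : ∀ A : X.Modules, CohB1.IsAmple A →
      ∃ (m : ℕ) (φ : A ⟶ CohB1.tensorPow L m), 0 < m ∧ Mono φ) :
    ∃ m₁ : ℕ, ∀ m : ℕ, m₁ ≤ m → Nontrivial (Coh.HH X (CohB1.tensorPow L m) 0) := by
  haveI : CompactSpace X := hH.2.1
  obtain ⟨J, hJ, ⟨ε₁⟩, -⟩ := Groth.Agent.Lead.InvDual.exists_inverse L hL
  obtain ⟨n₁, -, hn₁⟩ :=
    Groth.Agent.Helper4.AmpleEventual.exists_forall_isAmple_and_isGloballyGenerated H J hH hJ
  obtain ⟨n₂, -, hn₂⟩ :=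
    Groth.Agent.Helper4.AmpleEventual.exists_forall_isAmple_and_isGloballyGenerated H
      (Coh.structureModule X) hH isInvertible_structureModule
  obtain ⟨hA₁, hg₁⟩ := hn₁ (max n₁ n₂) (le_max_left _ _)
  obtain ⟨hA₂, hg₂⟩ := hn₂ (max n₁ n₂) (le_max_right _ _)
  have hHn : PicF.IsInvertible (CohB1.tensorPow H (max n₁ n₂)) := isInvertible_tensorPow hH.1 _
  obtain ⟨m, φ, hm, hφ⟩ := hbig _ hA₁
  have hLm : PicF.IsInvertible (CohB1.tensorPow L m) := isInvertible_tensorPow hL m
  have hGS₁ : GS (CohB1.tensorMod (CohB1.tensorPow H (max n₁ n₂)) J) :=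
    GS_of_isGloballyGenerated hA₁.1 hg₁
  have hφne : φ ≠ 0 := by
    obtain ⟨s, hs⟩ := hGS₁
    have hsne := ne_zero_of_stalkLin_surjective hA₁.1 s hs
    rintro rfl
    apply hsne
    apply (cancel_mono (0 : CohB1.tensorMod (CohB1.tensorPow H (max n₁ n₂)) J ⟶
      CohB1.tensorPow L m)).1
    rw [comp_zero, comp_zero]
  have hφs := NApx81.stalkLin_surjective_genericPoint φ hA₁.1 hLm hφne
  have h1 : GS (CohB1.tensorPow L m) := GS_comp hGS₁ φ hφs
  have hGS₂ : GS (CohB1.tensorMod (CohB1.tensorPow H (max n₁ n₂)) (Coh.structureModule X)) :=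
    GS_of_isGloballyGenerated hA₂.1 hg₂
  have hGS₃ : GS (CohB1.tensorMod (CohB1.tensorMod (CohB1.tensorPow H (max n₁ n₂)) J) L) :=
    GS_of_iso hGS₂ ((assocIso (CohB1.tensorPow H (max n₁ n₂)) J L hJ hL ≪≫
      PicGrp.tensorModIso (Iso.refl _) ε₁).symm)
  have h2 : GS (CohB1.tensorPow L (m + 1)) :=
    GS_comp hGS₃ (KoszTw.tensorMap φ (𝟙 L))
      (stalkLin_tensorMap_surjective φ (𝟙 L) _ hφs (stalkLin_id_surjective L _))
  refine ⟨m * m, fun N hN => ?_⟩
  exact nontrivial_h0_of_GS k (isInvertible_tensorPow hL N)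
    (GS_pow_of_consecutive hL m hm h1 h2 N hN)

end GS

end Groth.Agent.Helper4.SN
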