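import Mathlib
import Groth.Agent.Helper4.SN155
import Groth.Agent.Helper4.SN16

/-!
# Sections of twisted ideal sheaves of small subschemes for big invertible modules (S17277)
-/

set_option autoImplicit false
set_option linter.unusedSectionVars false
set_option linter.style.haveILetI false
universe u

open CategoryTheory CategoryTheory.Limits AlgebraicGeometry Opposite TopologicalSpace

namespace Groth.Agent.Helper4.SN

open Groth.Agent.Helper4.NApx82 Groth.Agent.Helper4.StalkDict Groth.Agent.Lead.Ref1B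
  Groth.Agent.Lead.StalkNhd Groth.Agent.Helper4.TensorInv Groth.Agent.Helper4.TensorAssoc
  Groth.Agent.Helper1.Dev

section Big

variable (k : Type u) [Field k] {X : Scheme.{u}} [X.Over (Spec (CommRingCat.of k))]
  [IsProper (X ↘ (Spec (CommRingCat.of k)))]

/-- a coherent module with support of dimension `< d` has `h⁰(Q ⊗ L^m) · m ≤ C m^d` -/
theorem growth_mul_le (L : X.Modules) (hL : PicF.IsInvertible L) (d : ℕ) (Q : X.Modules)
    (hQ : Coh.IsCoh Q) (hdim : DimLT (CohB1.support Q) d) :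
    ∃ C : ℕ, ∀ m : ℕ, 1 ≤ m →
      Module.finrank k (Coh.HH X (CohB1.tensorMod Q (CohB1.tensorPow L m)) 0) * m ≤ C * m ^ d := by
  rcases Nat.eq_zero_or_pos d with hd0 | hdpos
  · refine ⟨0, fun m _ => ?_⟩
    have hz : IsZero Q := isZero_of_dimLT_zero Q hQ (hd0 ▸ hdim)
    rw [finrank_h0_of_isZero k (isZero_tensorMod_of_isZero hz _)]
    simp
  · obtain ⟨d', rfl⟩ : ∃ d', d = d' + 1 := ⟨d - 1, by omega⟩
    obtain ⟨C, hC⟩ := growthLE_of_dimLT k L hL d' Q hQ hdim
    refine ⟨C, fun m hm => ?_⟩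
    calc _ ≤ C * m ^ d' * m := Nat.mul_le_mul_right m (hC m hm)
      _ = C * m ^ (d' + 1) := by ring

/-- S17277 -/
theorem main17277 (d : ℕ) (L : X.Modules) (hL : PicF.IsInvertible L)
    (hbig : ∃ c : ℝ, 0 < c ∧ ∀ᶠ n : ℕ in Filter.atTop,
      c * (n : ℝ) ^ d < (Module.finrank k (Coh.HH X (CohB1.tensorPow L n) 0) : ℝ))
    (Z : X.IdealSheafData) (hZ : topologicalKrullDim (Z.support : Set X) < d) :
    ∃ m : ℕ, 0 < m ∧
      Nontrivial (Coh.HH X (CohB1.tensorMod (ClSub.idealMod Z) (CohB1.tensorPow L m)) 0) := by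
  haveI := Groth.Agent.Helper4.NApx82.isNoetherian_of_proper k X
  obtain ⟨c, hc, hev⟩ := hbig
  have hQ : Coh.IsCoh (ClSub.quotMod Z) := isCoh_quotMod Z
  have hO : Coh.IsCoh (Coh.structureModule X) := isCoh_structureModule X
  have hdQ : DimLT (CohB1.support (ClSub.quotMod Z)) d :=
    (dimLT_of_krullDim_lt hZ).mono (support_quotMod_subset Z)
  obtain ⟨C, hC⟩ := growth_mul_le k L hL d _ hQ hdQ
  rw [Filter.eventually_atTop] at hev
  obtain ⟨N₀, hN₀⟩ := hev
  obtain ⟨N₁, hN₁⟩ := exists_nat_gt ((C : ℝ) / c)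
  set m := max (max N₀ N₁) 1 with hm
  have hm1 : 1 ≤ m := le_max_right _ _
  have hmN₀ : N₀ ≤ m := (le_max_left _ _).trans (le_max_left _ _)
  have hmN₁ : N₁ ≤ m := (le_max_right _ _).trans (le_max_left _ _)
  refine ⟨m, hm1, ?_⟩
  by_contra hnt
  rw [not_nontrivial_iff_subsingleton] at hnt
  have h0 : Module.finrank k (Coh.HH X (CohB1.tensorMod (ClSub.idealMod Z)
      (CohB1.tensorPow L m)) 0) = 0 := Module.finrank_zero_of_subsingleton
  have h1 := finrank_h0_twist_le_add k (idealSC Z) (idealSC_shortExact Z) hO hQ _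
    (isInvertible_tensorPow hL m)
  have e2 : Module.finrank k (Coh.HH X (CohB1.tensorMod (idealSC Z).X₂ (CohB1.tensorPow L m)) 0) =
      Module.finrank k (Coh.HH X (CohB1.tensorPow L m) 0) :=
    finrank_h0_iso k (unitorL (CohB1.tensorPow L m))
  have e1 : Module.finrank k (Coh.HH X (CohB1.tensorMod (idealSC Z).X₁ (CohB1.tensorPow L m)) 0) =
      0 := h0
  rw [e2, e1, zero_add] at h1
  have h2 := hN₀ m hmN₀
  have h3 := hC m hm1
  -- c m^d < h⁰(L^m) ≤ h⁰(Q ⊗ L^m), so c m^d m < C m^d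
  have hmpos : (0 : ℝ) < (m : ℝ) := by exact_mod_cast hm1
  have hmd : (0 : ℝ) < (m : ℝ) ^ d := pow_pos hmpos d
  have h4 : c * (m : ℝ) ^ d * m < (C : ℝ) * (m : ℝ) ^ d := by
    have h5 : (Module.finrank k (Coh.HH X (CohB1.tensorPow L m) 0) : ℝ) * m ≤
        (C : ℝ) * (m : ℝ) ^ d := by
      have h6 : Module.finrank k (Coh.HH X (CohB1.tensorPow L m) 0) * m ≤ C * m ^ d :=
        (Nat.mul_le_mul_right m h1).trans h3
      exact_mod_cast h6
    exact lt_of_lt_of_le (mul_lt_mul_of_pos_right h2 hmpos) h5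
  have h7 : c * (m : ℝ) < C := by
    have : c * (m : ℝ) * (m : ℝ) ^ d < (C : ℝ) * (m : ℝ) ^ d := by
      calc c * (m : ℝ) * (m : ℝ) ^ d = c * (m : ℝ) ^ d * m := by ring
        _ < _ := h4
    exact lt_of_mul_lt_mul_right this hmd.le
  have h8 : (C : ℝ) / c < m := lt_of_lt_of_le hN₁ (by exact_mod_cast hmN₁)
  rw [div_lt_iff₀ hc] at h8
  linarith

end Big

end Groth.Agent.Helper4.SN
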