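import Mathlib
import Groth.Agent.Helper4.SN156
import Groth.Agent.Helper4.SN153
import Groth.Agent.Helper4.SN25
import Groth.Agent.Helper4.InvOfTensor

/-!
# Characterisations of big invertible modules on projective varieties
(S17278, S17586, S16901, S19806)
-/

set_option autoImplicit false
set_option linter.unusedSectionVars false
set_option linter.style.haveILetI false
universe u

open CategoryTheory CategoryTheory.Limits AlgebraicGeometry Opposite TopologicalSpace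
open scoped ENNReal

namespace Groth.Agent.Helper4.SN

open Groth.Agent.Helper4.NApx82 Groth.Agent.Helper4.StalkDict Groth.Agent.Lead.Ref1B
  Groth.Agent.Lead.StalkNhd Groth.Agent.Helper4.TensorInv Groth.Agent.Helper4.TensorAssoc
  Groth.Agent.Helper1.Dev

section GSurj

variable {X : Scheme.{u}} [IsIntegral X]

/-- generically surjective morphisms -/
def GSurj {A B : X.Modules} (φ : A ⟶ B) : Prop :=
  Function.Surjective (stalkLin φ (genericPoint X))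

theorem GSurj.comp {A B C : X.Modules} {φ : A ⟶ B} {ψ : B ⟶ C} (h : GSurj φ) (h' : GSurj ψ) :
    GSurj (φ ≫ ψ) := by
  intro t
  obtain ⟨a, ha⟩ := h' t
  obtain ⟨b, hb⟩ := h a
  exact ⟨b, (Groth.Agent.Lead.StalkNhd.stalkLin_comp _ _ _ b).trans ((congrArg _ hb).trans ha)⟩

theorem GSurj.of_isIso {A B : X.Modules} (φ : A ⟶ B) [IsIso φ] : GSurj φ :=
  (Groth.Agent.Helper1.Dev.stalkLin_bijective_of_isIso φ (genericPoint X)).2

theorem GSurj.tensorMap {A B A' B' : X.Modules} {φ : A ⟶ B} {ψ : A' ⟶ B'} (h : GSurj φ)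
    (h' : GSurj ψ) : GSurj (KoszTw.tensorMap φ ψ) :=
  stalkLin_tensorMap_surjective φ ψ _ h h'

theorem GSurj.id (A : X.Modules) : GSurj (𝟙 A) := stalkLin_id_surjective A _

theorem GSurj.powMap {A B : X.Modules} {φ : A ⟶ B} (h : GSurj φ) (m : ℕ) :
    GSurj (powMap φ m) := stalkLin_powMap_surjective φ _ h m

theorem GSurj.ne_zero {A B : X.Modules} {φ : A ⟶ B} (h : GSurj φ) (hB : PicF.IsInvertible B) :
    φ ≠ 0 := ne_zero_of_stalkLin_surjective hB φ h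

theorem GSurj.mono {A B : X.Modules} {φ : A ⟶ B} (h : GSurj φ) (hA : PicF.IsInvertible A)
    (hB : PicF.IsInvertible B) : Mono φ :=
  NApx81.mono_of_ne_zero φ hA hB (h.ne_zero hB)

theorem GSurj.of_ne_zero {A B : X.Modules} {φ : A ⟶ B} (hA : PicF.IsInvertible A)
    (hB : PicF.IsInvertible B) (h : φ ≠ 0) : GSurj φ :=
  NApx81.stalkLin_surjective_genericPoint φ hA hB h

/-- a monomorphism out of an invertible module is nonzero -/
theorem ne_zero_of_mono {A B : X.Modules} (hA : PicF.IsInvertible A) (φ : A ⟶ B) [Mono φ] :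
    φ ≠ 0 := by
  rintro rfl
  have h1 : (𝟙 A) = 0 := by
    apply (cancel_mono (0 : A ⟶ B)).1
    rw [comp_zero, comp_zero]
  have h2 := (GSurj.id A).ne_zero hA
  exact h2 h1

theorem GSurj.of_mono {A B : X.Modules} (hA : PicF.IsInvertible A) (hB : PicF.IsInvertible B)
    (φ : A ⟶ B) [Mono φ] : GSurj φ :=
  GSurj.of_ne_zero hA hB (ne_zero_of_mono hA φ)

/-- from a generically generating section of `A' ⊗ M` to a map `A ⟶ M` -/
theorem exists_gsurj_of_GS {A A' M : X.Modules} (hA : PicF.IsInvertible A)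
    (hA' : PicF.IsInvertible A') (hM : PicF.IsInvertible M)
    (e : CohB1.tensorMod A' A ≅ Coh.structureModule X) (h : GS (CohB1.tensorMod A' M)) :
    ∃ φ : A ⟶ M, GSurj φ := by
  obtain ⟨s, hs⟩ := h
  refine ⟨(SecTwist.unitorR A).inv ≫ KoszTw.tensorMap (𝟙 A) s ≫
    (assocIso A A' M hA' hM).inv ≫
    (PicGrp.tensorModIso (braid A A' ≪≫ e) (Iso.refl M)).hom ≫ (unitorL M).hom, ?_⟩
  refine (GSurj.of_isIso _).comp (((GSurj.id A).tensorMap hs).comp
    ((GSurj.of_isIso _).comp ((GSurj.of_isIso _).comp (GSurj.of_isIso _))))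

/-- from a generically surjective map `A ⟶ M` to a section of `A' ⊗ M` -/
theorem GS_of_gsurj {A A' M : X.Modules}
    (e : CohB1.tensorMod A' A ≅ Coh.structureModule X) (φ : A ⟶ M) (h : GSurj φ) :
    GS (CohB1.tensorMod A' M) :=
  ⟨e.inv ≫ KoszTw.tensorMap (𝟙 A') φ, (GSurj.of_isIso _).comp ((GSurj.id A').tensorMap h)⟩

theorem GS_of_nontrivial {M : X.Modules} (hM : PicF.IsInvertible M)
    (h : Nontrivial (Coh.HH X M 0)) : GS M := by
  obtain ⟨s, hs⟩ := exists_section_of_nontrivial_H0 M h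
  exact GS_of_ne_zero hM s hs

end GSurj

section Numeric

theorem numeric_lower (d' : ℕ) (h : ℕ → ℕ) (c₀ C : ℚ) (hc : 0 < c₀)
    (hb : ∀ n : ℕ, |(h n : ℚ) - c₀ * (n : ℚ) ^ (d' + 1)| ≤ C * ((n : ℚ) + 1) ^ d') :
    ∃ a n₀ : ℕ, 0 < a ∧ ∀ n, n₀ ≤ n → n ^ (d' + 1) ≤ a * h n := by
  obtain ⟨n₀, hn₀⟩ := exists_nat_gt (2 * (max C 0 * 2 ^ d') / c₀)
  obtain ⟨a, ha⟩ := exists_nat_gt (2 / c₀)
  have ha0 : 0 < a := by
    have : (0 : ℚ) < a := lt_trans (by positivity) ha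
    exact_mod_cast this
  refine ⟨a, max n₀ 1, ha0, fun n hn => ?_⟩
  have hn1 : (1 : ℚ) ≤ n := by exact_mod_cast (le_max_right n₀ 1).trans hn
  have hnn₀ : (n₀ : ℚ) ≤ n := by exact_mod_cast (le_max_left n₀ 1).trans hn
  have hn0 : (0 : ℚ) ≤ n := by linarith
  have hpow : ((n : ℚ) + 1) ^ d' ≤ 2 ^ d' * (n : ℚ) ^ d' := by
    rw [← mul_pow]
    exact pow_le_pow_left₀ (by linarith) (by linarith) d'
  have hC : C * ((n : ℚ) + 1) ^ d' ≤ max C 0 * (2 ^ d' * (n : ℚ) ^ d') :=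
    mul_le_mul (le_max_left _ _) hpow (by positivity) (le_max_right _ _)
  have h1 := (abs_le.mp (hb n)).1
  have h2 : 2 * (max C 0 * 2 ^ d') < c₀ * n := by
    have := lt_of_lt_of_le hn₀ hnn₀
    rw [div_lt_iff₀ hc] at this
    linarith
  have hnd : (0 : ℚ) ≤ (n : ℚ) ^ d' := by positivity
  have h3 : max C 0 * (2 ^ d' * (n : ℚ) ^ d') ≤ c₀ / 2 * (n : ℚ) ^ (d' + 1) := by
    have : 2 * (max C 0 * 2 ^ d') * (n : ℚ) ^ d' ≤ c₀ * n * (n : ℚ) ^ d' :=
      mul_le_mul_of_nonneg_right h2.le hnd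
    rw [pow_succ]
    nlinarith
  have key : c₀ / 2 * (n : ℚ) ^ (d' + 1) ≤ h n := by linarith
  have hh0 : (0 : ℚ) ≤ h n := by positivity
  have hfin : ((n ^ (d' + 1) : ℕ) : ℚ) ≤ ((a * h n : ℕ) : ℚ) := by
    push_cast
    have h4 : (2 / c₀) * (h n : ℚ) ≤ a * h n := mul_le_mul_of_nonneg_right ha.le hh0
    have h5 : (n : ℚ) ^ (d' + 1) = 2 / c₀ * (c₀ / 2 * (n : ℚ) ^ (d' + 1)) := by
      field_simp
    have h6 : 2 / c₀ * (c₀ / 2 * (n : ℚ) ^ (d' + 1)) ≤ 2 / c₀ * (h n : ℚ) :=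
      mul_le_mul_of_nonneg_left key (by positivity)
    linarith
  exact_mod_cast hfin

theorem conv_real_lt (d : ℕ) (h : ℕ → ℕ)
    (H : ∃ c : ℝ, 0 < c ∧ ∀ᶠ n : ℕ in Filter.atTop, c * (n : ℝ) ^ d < (h n : ℝ)) :
    ∃ a : ℕ, ∃ᶠ m : ℕ in Filter.atTop, m ^ d ≤ a * h m := by
  obtain ⟨c, hc, hev⟩ := H
  obtain ⟨a, ha⟩ := exists_nat_gt (1 / c)
  refine ⟨a, Filter.Eventually.frequently (hev.mono fun n hn => ?_)⟩
  have h1 : (n : ℝ) ^ d ≤ (1 / c) * (h n : ℝ) := by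
    rw [div_mul_eq_mul_div, one_mul, le_div_iff₀ hc, mul_comm]
    exact hn.le
  have h2 : (1 / c) * (h n : ℝ) ≤ a * h n :=
    mul_le_mul_of_nonneg_right ha.le (by positivity)
  have : ((n ^ d : ℕ) : ℝ) ≤ ((a * h n : ℕ) : ℝ) := by
    push_cast
    linarith
  exact_mod_cast this

theorem conv_real_le (d : ℕ) (h : ℕ → ℕ)
    (H : ∃ C : ℝ, 0 < C ∧ ∃ m₁ : ℕ, ∀ m : ℕ, m₁ ≤ m → C * (m : ℝ) ^ d ≤ (h m : ℝ)) :
    ∃ a : ℕ, ∃ᶠ m : ℕ in Filter.atTop, m ^ d ≤ a * h m := by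
  obtain ⟨c, hc, m₁, hev⟩ := H
  obtain ⟨a, ha⟩ := exists_nat_gt (1 / c)
  refine ⟨a, Filter.Eventually.frequently
    ((Filter.eventually_ge_atTop m₁).mono fun n hn => ?_)⟩
  have h1 : (n : ℝ) ^ d ≤ (1 / c) * (h n : ℝ) := by
    rw [div_mul_eq_mul_div, one_mul, le_div_iff₀ hc, mul_comm]
    exact hev n hn
  have h2 : (1 / c) * (h n : ℝ) ≤ a * h n :=
    mul_le_mul_of_nonneg_right ha.le (by positivity)
  have : ((n ^ d : ℕ) : ℝ) ≤ ((a * h n : ℕ) : ℝ) := by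
    push_cast
    linarith
  exact_mod_cast this

theorem conv_to_real_le (d : ℕ) (h : ℕ → ℕ)
    (H : ∃ a n₁ : ℕ, 0 < a ∧ ∀ n, n₁ ≤ n → n ^ d ≤ a * h n) :
    ∃ C : ℝ, 0 < C ∧ ∃ m₁ : ℕ, ∀ m : ℕ, m₁ ≤ m → C * (m : ℝ) ^ d ≤ (h m : ℝ) := by
  obtain ⟨a, n₁, ha, hev⟩ := H
  have ha' : (0 : ℝ) < a := by exact_mod_cast ha
  refine ⟨1 / a, by positivity, n₁, fun m hm => ?_⟩
  have h1 : ((m ^ d : ℕ) : ℝ) ≤ ((a * h m : ℕ) : ℝ) := by exact_mod_cast hev m hm
  push_cast at h1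
  rw [div_mul_eq_mul_div, one_mul, div_le_iff₀ ha', mul_comm]
  exact h1

theorem conv_to_real_lt (d : ℕ) (h : ℕ → ℕ)
    (H : ∃ a n₁ : ℕ, 0 < a ∧ ∀ n, n₁ ≤ n → n ^ d ≤ a * h n) :
    ∃ c : ℝ, 0 < c ∧ ∀ᶠ n : ℕ in Filter.atTop, c * (n : ℝ) ^ d < (h n : ℝ) := by
  obtain ⟨C, hC, m₁, hev⟩ := conv_to_real_le d h H
  refine ⟨C / 2, by positivity, (Filter.eventually_ge_atTop (max m₁ 1)).mono fun n hn => ?_⟩
  have h1 := hev n ((le_max_left _ _).trans hn)
  have hn1 : (1 : ℝ) ≤ n := by exact_mod_cast (le_max_right m₁ 1).trans hn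
  have hpos : (0 : ℝ) < (n : ℝ) ^ d := by positivity
  have : C / 2 * (n : ℝ) ^ d < C * (n : ℝ) ^ d :=
    mul_lt_mul_of_pos_right (by linarith) hpos
  linarith

theorem conv_limsup (d : ℕ) (h : ℕ → ℕ)
    (H : 0 < Filter.limsup (fun m : ℕ => (h m : ℝ≥0∞) / (m : ℝ≥0∞) ^ d) Filter.atTop) :
    ∃ a : ℕ, ∃ᶠ m : ℕ in Filter.atTop, m ^ d ≤ a * h m := by
  obtain ⟨c, hc0, hc⟩ := exists_between H
  have hfr := Filter.frequently_lt_of_lt_limsup (by isBoundedDefault) hc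
  set c' := min c 1 with hc'
  have hc'0 : c' ≠ 0 := (lt_min hc0 one_pos).ne'
  obtain ⟨a, ha⟩ := ENNReal.exists_nat_mul_gt hc'0 ENNReal.one_ne_top
  refine ⟨a, (hfr.and_eventually (Filter.eventually_ge_atTop 1)).mono fun m hm => ?_⟩
  obtain ⟨hm1, hm2⟩ := hm
  have hmd0 : ((m : ℝ≥0∞) ^ d) ≠ 0 := by
    apply pow_ne_zero
    exact_mod_cast (by omega : m ≠ 0)
  have hmdT : ((m : ℝ≥0∞) ^ d) ≠ ⊤ := ENNReal.pow_ne_top (ENNReal.natCast_ne_top m)
  have h1 : c * (m : ℝ≥0∞) ^ d < (h m : ℝ≥0∞) :=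
    (ENNReal.lt_div_iff_mul_lt (Or.inl hmd0) (Or.inl hmdT)).mp hm1
  have h2 : ((m ^ d : ℕ) : ℝ≥0∞) ≤ ((a * h m : ℕ) : ℝ≥0∞) := by
    push_cast
    calc (m : ℝ≥0∞) ^ d = 1 * (m : ℝ≥0∞) ^ d := (one_mul _).symm
      _ ≤ (a * c') * (m : ℝ≥0∞) ^ d := mul_le_mul_left ha.le _
      _ = a * (c' * (m : ℝ≥0∞) ^ d) := mul_assoc _ _ _
      _ ≤ a * (c * (m : ℝ≥0∞) ^ d) := mul_le_mul_right (mul_le_mul_left (min_le_left _ _) _) _
      _ ≤ a * (h m : ℝ≥0∞) := mul_le_mul_right h1.le _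
  exact_mod_cast h2

theorem conv_to_liminf (d : ℕ) (h : ℕ → ℕ)
    (H : ∃ a n₁ : ℕ, 0 < a ∧ ∀ n, n₁ ≤ n → n ^ d ≤ a * h n) :
    0 < Filter.liminf (fun m : ℕ => (h m : ℝ≥0∞) / (m : ℝ≥0∞) ^ d) Filter.atTop := by
  obtain ⟨a, n₁, ha, hev⟩ := H
  have ha0 : (a : ℝ≥0∞) ≠ 0 := by exact_mod_cast ha.ne'
  have haT : (a : ℝ≥0∞) ≠ ⊤ := ENNReal.natCast_ne_top a
  have hpos : (0 : ℝ≥0∞) < (a : ℝ≥0∞)⁻¹ := ENNReal.inv_pos.mpr haT
  refine lt_of_lt_of_le hpos (Filter.le_liminf_of_le (by isBoundedDefault) ?_)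
  refine (Filter.eventually_ge_atTop (max n₁ 1)).mono fun m hm => ?_
  have hm1 : 1 ≤ m := (le_max_right _ _).trans hm
  have hmd0 : ((m : ℝ≥0∞) ^ d) ≠ 0 := by
    apply pow_ne_zero
    exact_mod_cast (by omega : m ≠ 0)
  have hmdT : ((m : ℝ≥0∞) ^ d) ≠ ⊤ := ENNReal.pow_ne_top (ENNReal.natCast_ne_top m)
  rw [ENNReal.le_div_iff_mul_le (Or.inl hmd0) (Or.inl hmdT)]
  have h2 : ((m ^ d : ℕ) : ℝ≥0∞) ≤ ((a * h m : ℕ) : ℝ≥0∞) := by
    exact_mod_cast hev m ((le_max_left _ _).trans hm)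
  push_cast at h2
  calc (a : ℝ≥0∞)⁻¹ * (m : ℝ≥0∞) ^ d ≤ (a : ℝ≥0∞)⁻¹ * (a * (h m : ℝ≥0∞)) :=
        mul_le_mul_right h2 _
    _ = (h m : ℝ≥0∞) := by
        rw [← mul_assoc, ENNReal.inv_mul_cancel ha0 haT, one_mul]

end Numeric

section Big

variable (k : Type u) [Field k] {X : Scheme.{u}} [X.Over (Spec (CommRingCat.of k))]
  [IsProper (X ↘ (Spec (CommRingCat.of k)))] [IsIntegral X]

/-- **(E)**: if `h⁰(L^m)` is frequently at least `m^d / a`, every nonzero `ψ : B' ⟶ O` from an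
invertible module has `H⁰(B' ⊗ L^m) ≠ 0` for some `m > 0` -/
theorem exists_nontrivial_of_frequently (d : ℕ) (hd : topologicalKrullDim X = d)
    (L : X.Modules) (hL : PicF.IsInvertible L) (a : ℕ)
    (hfreq : ∃ᶠ m : ℕ in Filter.atTop,
      m ^ d ≤ a * Module.finrank k (Coh.HH X (CohB1.tensorPow L m) 0))
    (B' : X.Modules) (hB' : PicF.IsInvertible B') (ψ : B' ⟶ Coh.structureModule X)
    (hψ : GSurj ψ) :
    ∃ m : ℕ, 0 < m ∧ Nontrivial (Coh.HH X (CohB1.tensorMod B' (CohB1.tensorPow L m)) 0) := by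
  haveI := Groth.Agent.Helper4.NApx82.isNoetherian_of_proper k X
  have hOi : PicF.IsInvertible (Coh.structureModule X) := isInvertible_structureModule
  have hO : Coh.IsCoh (Coh.structureModule X) := isCoh_structureModule X
  have hcB' : Coh.IsCoh B' := Groth.Agent.Helper1.SerreFin.isCoh_of_isInvertible _ hB'
  haveI : Mono ψ := hψ.mono hB' hOi
  have hQ : Coh.IsCoh (cokernel ψ) := Groth.Agent.Lead.PerfLib.isCoh_cokernel hcB' hO ψ
  have hgen : Subsingleton ((cokernel ψ).presheaf.stalk (genericPoint X)) :=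
    subsingleton_stalk_cokernel ψ _ hψ
  have hdX : DimLT (Set.univ : Set X) (d + 1) := dimLT_of_dim_le d hd.le _
  have hdQ : DimLT (CohB1.support (cokernel ψ)) d :=
    hdX.of_lt (IrreducibleSpace.isIrreducible_univ X) isClosed_univ (Set.subset_univ _)
      ⟨genericPoint X, Set.mem_univ _, fun hcon => hcon hgen⟩
  obtain ⟨C, hC⟩ := growth_mul_le k L hL d _ hQ hdQ
  obtain ⟨m, hm, hfm⟩ := (Filter.frequently_atTop.mp hfreq) (a * C + 1)
  have hm1 : 1 ≤ m := by omega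
  refine ⟨m, hm1, ?_⟩
  by_contra hnt
  rw [not_nontrivial_iff_subsingleton] at hnt
  have h0 : Module.finrank k (Coh.HH X (CohB1.tensorMod B'
      (CohB1.tensorPow L m)) 0) = 0 := Module.finrank_zero_of_subsingleton
  have h1 := finrank_h0_twist_le_add k (cokSC ψ) (cokSC_shortExact ψ) hO hQ _
    (isInvertible_tensorPow hL m)
  have e2 : Module.finrank k (Coh.HH X (CohB1.tensorMod (cokSC ψ).X₂ (CohB1.tensorPow L m)) 0) =
      Module.finrank k (Coh.HH X (CohB1.tensorPow L m) 0) :=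
    finrank_h0_iso k (unitorL (CohB1.tensorPow L m))
  have e1 : Module.finrank k (Coh.HH X (CohB1.tensorMod (cokSC ψ).X₁ (CohB1.tensorPow L m)) 0) =
      0 := h0
  rw [e2, e1, zero_add] at h1
  have h3 := hC m hm1
  -- m^d * m ≤ a h⁰(L^m) m ≤ a h⁰(Q ⊗ L^m) m ≤ a C m^d
  have h4 : m ^ d * m ≤ a * C * m ^ d := by
    calc m ^ d * m ≤ a * Module.finrank k (Coh.HH X (CohB1.tensorPow L m) 0) * m :=
          Nat.mul_le_mul_right m hfm
      _ ≤ a * Module.finrank k (Coh.HH X (CohB1.tensorMod (cokSC ψ).X₃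
            (CohB1.tensorPow L m)) 0) * m :=
          Nat.mul_le_mul_right m (Nat.mul_le_mul_left a h1)
      _ = a * (Module.finrank k (Coh.HH X (CohB1.tensorMod (cokSC ψ).X₃
            (CohB1.tensorPow L m)) 0) * m) := by ring
      _ ≤ a * (C * m ^ d) := Nat.mul_le_mul_left a h3
      _ = a * C * m ^ d := by ring
  have hmd : 0 < m ^ d := Nat.pow_pos hm1
  have h5 : m ≤ a * C := by
    have : m * m ^ d ≤ a * C * m ^ d := by rw [mul_comm]; exact h4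
    exact Nat.le_of_mul_le_mul_right this hmd
  omega

/-- **(E2)**: if `h⁰(L^m)` is frequently at least `m^d / a`, every invertible module embeds in a
positive power of `L` -/
theorem exists_gsurj_of_frequently (d : ℕ) (hd : topologicalKrullDim X = d)
    (H : X.Modules) (hH : CohB1.IsAmple H)
    (L : X.Modules) (hL : PicF.IsInvertible L) (a : ℕ)
    (hfreq : ∃ᶠ m : ℕ in Filter.atTop,
      m ^ d ≤ a * Module.finrank k (Coh.HH X (CohB1.tensorPow L m) 0))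
    (A : X.Modules) (hA : PicF.IsInvertible A) :
    ∃ (m : ℕ) (φ : A ⟶ CohB1.tensorPow L m), 0 < m ∧ GSurj φ := by
  haveI : CompactSpace X := hH.2.1
  have hOi : PicF.IsInvertible (Coh.structureModule X) := isInvertible_structureModule
  obtain ⟨A', hA', ⟨eA⟩, -⟩ := Groth.Agent.Lead.InvDual.exists_inverse A hA
  obtain ⟨n₁, -, hn₁⟩ :=
    Groth.Agent.Helper4.AmpleEventual.exists_forall_isAmple_and_isGloballyGenerated H A' hH hA'
  obtain ⟨n₂, -, hn₂⟩ :=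
    Groth.Agent.Helper4.AmpleEventual.exists_forall_isAmple_and_isGloballyGenerated H
      (Coh.structureModule X) hH hOi
  obtain ⟨hA₁, hg₁⟩ := hn₁ (max n₁ n₂) (le_max_left _ _)
  obtain ⟨hA₂, hg₂⟩ := hn₂ (max n₁ n₂) (le_max_right _ _)
  set B := CohB1.tensorPow H (max n₁ n₂) with hBdef
  have hB : PicF.IsInvertible B := isInvertible_tensorPow hH.1 _
  have hGS₁ : GS (CohB1.tensorMod B A') := GS_of_isGloballyGenerated hA₁.1 hg₁
  have hGS₂ : GS B :=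
    GS_of_iso (GS_of_isGloballyGenerated hA₂.1 hg₂) (SecTwist.unitorR B)
  obtain ⟨B', hB', ⟨eB⟩, -⟩ := Groth.Agent.Lead.InvDual.exists_inverse B hB
  -- the map `B' ⟶ O`
  obtain ⟨s, hs⟩ := hGS₂
  let ψ : B' ⟶ Coh.structureModule X :=
    (SecTwist.unitorR B').inv ≫ KoszTw.tensorMap (𝟙 B') s ≫ eB.hom
  have hψ : GSurj ψ :=
    (GSurj.of_isIso _).comp (((GSurj.id B').tensorMap hs).comp (GSurj.of_isIso _))
  obtain ⟨m, hm, hnt⟩ := exists_nontrivial_of_frequently k d hd L hL a hfreq B' hB' ψ hψ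
  have hLm := isInvertible_tensorPow hL m
  have hGS₃ : GS (CohB1.tensorMod B' (CohB1.tensorPow L m)) :=
    GS_of_nontrivial (isInvertible_tensorMod hB' hLm) hnt
  obtain ⟨φ₁, hφ₁⟩ := exists_gsurj_of_GS hB hB' hLm eB hGS₃
  obtain ⟨φ₂, hφ₂⟩ := exists_gsurj_of_GS hA hA' hB eA (GS_of_iso hGS₁ (braid B A'))
  exact ⟨m, φ₂ ≫ φ₁, hm, hφ₂.comp hφ₁⟩

/-- **(Lo)**: the sections of the powers of an ample module grow at least like `n^d` -/
theorem ample_lower (d : ℕ) (hd : topologicalKrullDim X = d) (A : X.Modules)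
    (hA : CohB1.IsAmple A) :
    ∃ a n₀ : ℕ, 0 < a ∧ ∀ n, n₀ ≤ n →
      n ^ d ≤ a * Module.finrank k (Coh.HH X (CohB1.tensorPow A n) 0) := by
  haveI := Groth.Agent.Helper4.NApx82.isNoetherian_of_proper k X
  haveI : CompactSpace X := hA.2.1
  have hOi : PicF.IsInvertible (Coh.structureModule X) := isInvertible_structureModule
  have hO : Coh.IsCoh (Coh.structureModule X) := isCoh_structureModule X
  rcases Nat.eq_zero_or_pos d with hd0 | hdpos
  · subst hd0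
    obtain ⟨n₂, -, hn₂⟩ :=
      Groth.Agent.Helper4.AmpleEventual.exists_forall_isAmple_and_isGloballyGenerated A
        (Coh.structureModule X) hA hOi
    refine ⟨1, n₂, Nat.one_pos, fun n hn => ?_⟩
    obtain ⟨hA₂, hg₂⟩ := hn₂ n hn
    have hAn := isInvertible_tensorPow hA.1 n
    have hGS : GS (CohB1.tensorPow A n) :=
      GS_of_iso (GS_of_isGloballyGenerated hA₂.1 hg₂) (SecTwist.unitorR _)
    haveI := nontrivial_h0_of_GS k hAn hGS
    haveI : Module.Finite k (Coh.HH X (CohB1.tensorPow A n) 0) :=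
      Groth.Agent.S0002.result k X _
        (Groth.Agent.Helper1.SerreFin.isCoh_of_isInvertible _ hAn) 0
    have : 0 < Module.finrank k (Coh.HH X (CohB1.tensorPow A n) 0) := Module.finrank_pos
    rw [pow_zero, one_mul]
    exact this
  · obtain ⟨d', rfl⟩ : ∃ d', d = d' + 1 := ⟨d - 1, by omega⟩
    have hsuppO : CohB1.support (Coh.structureModule X) = Set.univ := by
      rw [Set.eq_univ_iff_forall]
      exact fun x => Groth.Agent.Helper5.RedDense.mem_support_structureModule X x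
    have hdimO : topologicalKrullDim (CohB1.support (Coh.structureModule X)) =
        ((d' + 1 : ℕ) : WithBot ℕ∞) := by
      rw [hsuppO, ← hd]
      exact (Homeomorph.Set.univ X).isHomeomorph.topologicalKrullDim_eq
    obtain ⟨P, -, hP⟩ := main1528 k (Coh.structureModule X) hO (d' + 1) hdimO.le (d' + 1)
      (fun _ => A) (fun _ => hA.1)
    obtain ⟨hpos, C, hC⟩ := main7649 k (d' + 1) hd A hA P hP
    refine numeric_lower d'
      (fun n => Module.finrank k (Coh.HH X (CohB1.tensorPow A n) 0))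
      (MvPolynomial.coeff (Finsupp.equivFunOnFinite.symm fun _ : Fin (d' + 1) => 1) P /
        ((d' + 1).factorial : ℚ)) C (div_pos hpos (by positivity)) (fun n => ?_)
    have := hC n
    simpa using this

/-- **(M0)** -/
theorem finrank_h0_pow_le_of_gsurj {A L : X.Modules} (hA : PicF.IsInvertible A)
    (hL : PicF.IsInvertible L) (ν : ℕ) (φ : A ⟶ CohB1.tensorPow L ν) (hφ : GSurj φ) (j : ℕ) :
    Module.finrank k (Coh.HH X (CohB1.tensorPow A j) 0) ≤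
      Module.finrank k (Coh.HH X (CohB1.tensorPow L (ν * j)) 0) := by
  have hLν := isInvertible_tensorPow hL ν
  have hB := isInvertible_tensorPow hL (ν * j)
  have h1 : GSurj (powMap φ j ≫ (powMulIso L hL ν j).hom) :=
    (hφ.powMap j).comp (GSurj.of_isIso _)
  haveI := h1.mono (isInvertible_tensorPow hA j) hB
  exact finrank_h0_le_of_mono k (Groth.Agent.Helper1.SerreFin.isCoh_of_isInvertible _ hB)
    (powMap φ j ≫ (powMulIso L hL ν j).hom)

/-- **(M1)** -/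
theorem finrank_h0_pow_le_add {L : X.Modules} (hL : PicF.IsInvertible L) (m r : ℕ)
    (h : GS (CohB1.tensorPow L r)) :
    Module.finrank k (Coh.HH X (CohB1.tensorPow L m) 0) ≤
      Module.finrank k (Coh.HH X (CohB1.tensorPow L (m + r)) 0) := by
  obtain ⟨s, hs⟩ := h
  have hB := isInvertible_tensorPow hL (m + r)
  have h1 : GSurj ((SecTwist.unitorR (CohB1.tensorPow L m)).inv ≫
      KoszTw.tensorMap (𝟙 (CohB1.tensorPow L m)) s ≫ (powAddIso L hL m r).hom) :=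
    (GSurj.of_isIso _).comp (((GSurj.id _).tensorMap hs).comp (GSurj.of_isIso _))
  haveI := h1.mono (isInvertible_tensorPow hL m) hB
  exact finrank_h0_le_of_mono k (Groth.Agent.Helper1.SerreFin.isCoh_of_isInvertible _ hB)
    ((SecTwist.unitorR (CohB1.tensorPow L m)).inv ≫
      KoszTw.tensorMap (𝟙 (CohB1.tensorPow L m)) s ≫ (powAddIso L hL m r).hom)

/-- (iv) ⇒ (i) -/
theorem frequently_of_gsurj (d : ℕ) (hd : topologicalKrullDim X = d) (A : X.Modules)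
    (hA : CohB1.IsAmple A) (L : X.Modules) (hL : PicF.IsInvertible L) (ν : ℕ) (hν : 0 < ν)
    (φ : A ⟶ CohB1.tensorPow L ν) (hφ : GSurj φ) :
    ∃ a : ℕ, ∃ᶠ m : ℕ in Filter.atTop,
      m ^ d ≤ a * Module.finrank k (Coh.HH X (CohB1.tensorPow L m) 0) := by
  obtain ⟨a₀, n₀, -, h₀⟩ := ample_lower k d hd A hA
  refine ⟨ν ^ d * a₀, Filter.frequently_atTop.mpr fun N => ⟨ν * max n₀ N, ?_, ?_⟩⟩
  · calc N ≤ max n₀ N := le_max_right _ _
      _ ≤ ν * max n₀ N := Nat.le_mul_of_pos_left _ hν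
  · have h1 := h₀ (max n₀ N) (le_max_left _ _)
    have h2 := finrank_h0_pow_le_of_gsurj k hA.1 hL ν φ hφ (max n₀ N)
    calc (ν * max n₀ N) ^ d = ν ^ d * (max n₀ N) ^ d := mul_pow _ _ _
      _ ≤ ν ^ d * (a₀ * Module.finrank k (Coh.HH X (CohB1.tensorPow A (max n₀ N)) 0)) :=
        Nat.mul_le_mul_left _ h1
      _ ≤ ν ^ d * (a₀ * Module.finrank k (Coh.HH X (CohB1.tensorPow L (ν * max n₀ N)) 0)) :=
        Nat.mul_le_mul_left _ (Nat.mul_le_mul_left _ h2)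
      _ = _ := by ring

/-- (ii) ⇒ (iii) -/
theorem eventually_of_forall_ample (d : ℕ) (hd : topologicalKrullDim X = d) (H : X.Modules)
    (hH : CohB1.IsAmple H) (L : X.Modules) (hL : PicF.IsInvertible L)
    (hbig : ∀ A : X.Modules, CohB1.IsAmple A →
      ∃ (m : ℕ) (φ : A ⟶ CohB1.tensorPow L m), 0 < m ∧ Mono φ) :
    ∃ a n₁ : ℕ, 0 < a ∧ ∀ n, n₁ ≤ n →
      n ^ d ≤ a * Module.finrank k (Coh.HH X (CohB1.tensorPow L n) 0) := by
  obtain ⟨m₁, hm₁⟩ := main17587 k X H hH L hL hbig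
  obtain ⟨ν, φ, hν, hφm⟩ := hbig H hH
  have hφ : GSurj φ := GSurj.of_mono hH.1 (isInvertible_tensorPow hL ν) φ
  obtain ⟨a₀, j₀, ha₀, h₀⟩ := ample_lower k d hd H hH
  refine ⟨(2 * ν + m₁) ^ d * a₀, ν * (j₀ + 1) + m₁ + ν,
    Nat.mul_pos (Nat.pow_pos (by omega)) ha₀, fun n hn => ?_⟩
  -- n = ν j + r
  set j := (n - m₁) / ν with hj
  have hdm := Nat.div_add_mod (n - m₁) ν
  have hmod := Nat.mod_lt (n - m₁) hν
  rw [← hj] at hdm
  have hj₀ : j₀ + 1 ≤ j := by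
    rw [hj, Nat.le_div_iff_mul_le hν]
    have : ν * (j₀ + 1) ≤ n - m₁ := by omega
    rw [mul_comm]; exact this
  obtain ⟨r, hr⟩ : ∃ r, n = ν * j + r := ⟨n - ν * j, by
    have : ν * j ≤ n := by omega
    omega⟩
  have hr1 : m₁ ≤ r := by omega
  have hr2 : r < m₁ + ν := by omega
  have hGSr : GS (CohB1.tensorPow L r) :=
    GS_of_nontrivial (isInvertible_tensorPow hL r) (hm₁ r hr1)
  have h1 := h₀ j (by omega)
  have h2 := finrank_h0_pow_le_of_gsurj k hH.1 hL ν φ hφ j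
  have h3 := finrank_h0_pow_le_add k hL (ν * j) r hGSr
  rw [← hr] at h3
  have h4 : n ≤ (2 * ν + m₁) * j := by
    have hj1 : 1 ≤ j := by omega
    calc n = ν * j + r := hr
      _ ≤ ν * j + (m₁ + ν) := by omega
      _ ≤ ν * j + (m₁ + ν) * j := Nat.add_le_add_left (Nat.le_mul_of_pos_right _ hj1) _
      _ = (2 * ν + m₁) * j := by ring
  calc n ^ d ≤ ((2 * ν + m₁) * j) ^ d := Nat.pow_le_pow_left h4 d
    _ = (2 * ν + m₁) ^ d * j ^ d := mul_pow _ _ _
    _ ≤ (2 * ν + m₁) ^ d * (a₀ * Module.finrank k (Coh.HH X (CohB1.tensorPow L n) 0)) :=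
      Nat.mul_le_mul_left _ (h1.trans (Nat.mul_le_mul_left _ (h2.trans h3)))
    _ = _ := by ring

/-- (i) ⇒ (ii), in the monomorphism form -/
theorem forall_ample_of_frequently (d : ℕ) (hd : topologicalKrullDim X = d)
    (H : X.Modules) (hH : CohB1.IsAmple H)
    (L : X.Modules) (hL : PicF.IsInvertible L)
    (hfreq : ∃ a : ℕ, ∃ᶠ m : ℕ in Filter.atTop,
      m ^ d ≤ a * Module.finrank k (Coh.HH X (CohB1.tensorPow L m) 0))
    (A : X.Modules) (hA : PicF.IsInvertible A) :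
    ∃ (m : ℕ) (φ : A ⟶ CohB1.tensorPow L m), 0 < m ∧ Mono φ := by
  obtain ⟨a, ha⟩ := hfreq
  obtain ⟨m, φ, hm, hφ⟩ := exists_gsurj_of_frequently k d hd H hH L hL a ha A hA
  exact ⟨m, φ, hm, hφ.mono hA (isInvertible_tensorPow hL m)⟩

/-- S17586 -/
theorem main17586 (H : X.Modules) (hH : CohB1.IsAmple H)
    (n : ℕ) (hn : topologicalKrullDim X = n)
    (L : X.Modules) (hL : PicF.IsInvertible L) :
    (∀ A : X.Modules, CohB1.IsAmple A → ∃ (m : ℕ) (φ : A ⟶ CohB1.tensorPow L m), 0 < m ∧ Mono φ) ↔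
      ∃ C : ℝ, 0 < C ∧ ∃ m₁ : ℕ, ∀ m : ℕ, m₁ ≤ m →
        C * (m : ℝ) ^ n ≤ (Module.finrank k (Coh.HH X (CohB1.tensorPow L m) 0) : ℝ) := by
  constructor
  · intro hbig
    exact conv_to_real_le n _ (eventually_of_forall_ample k n hn H hH L hL hbig)
  · intro hC A hA
    exact forall_ample_of_frequently k n hn H hH L hL (conv_real_le n _ hC) A hA.1

/-- S17278 -/
theorem main17278 (A₀ : X.Modules) (hA₀ : CohB1.IsAmple A₀)
    (d : ℕ) (hdim : topologicalKrullDim X = d) (L : X.Modules) (hL : PicF.IsInvertible L) :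
    (∃ c : ℝ, 0 < c ∧ ∀ᶠ n : ℕ in Filter.atTop,
        c * (n : ℝ) ^ d < (Module.finrank k (Coh.HH X (CohB1.tensorPow L n) 0) : ℝ)) ↔
      ∀ (A A' : X.Modules), CohB1.IsAmple A → ClSub.IsInverseOf A' A →
        ∃ m : ℕ, 0 < m ∧ Nontrivial (Coh.HH X (CohB1.tensorMod A' (CohB1.tensorPow L m)) 0) := by
  constructor
  · intro hc A A' hA ⟨e⟩
    have hA' : PicF.IsInvertible A' :=
      Groth.Agent.Helper4.InvOfTensor.isInvertible_of_tensor_iso A' A e
    obtain ⟨a, ha⟩ := conv_real_lt d _ hc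
    obtain ⟨m, φ, hm, hφ⟩ := exists_gsurj_of_frequently k d hdim A₀ hA₀ L hL a ha A hA.1
    exact ⟨m, hm, nontrivial_h0_of_GS k
      (isInvertible_tensorMod hA' (isInvertible_tensorPow hL m)) (GS_of_gsurj e φ hφ)⟩
  · intro hsec
    apply conv_to_real_lt d
    apply eventually_of_forall_ample k d hdim A₀ hA₀ L hL
    intro A hA
    obtain ⟨A', hA', ⟨e⟩, -⟩ := Groth.Agent.Lead.InvDual.exists_inverse A hA.1
    obtain ⟨m, hm, hnt⟩ := hsec A A' hA ⟨e⟩
    have hLm := isInvertible_tensorPow hL m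
    obtain ⟨φ, hφ⟩ := exists_gsurj_of_GS hA.1 hA' hLm e
      (GS_of_nontrivial (isInvertible_tensorMod hA' hLm) hnt)
    exact ⟨m, φ, hm, hφ.mono hA.1 hLm⟩

/-- S16901 -/
theorem main16901 (n : ℕ) (hn : topologicalKrullDim X = n) (H : X.Modules) (hH : CohB1.IsAmple H)
    (L : X.Modules) (hL : PicF.IsInvertible L) :
    (∃ ν a : ℕ, 0 < ν ∧ 0 < a ∧ ∀ μ : ℕ, 1 ≤ μ →
        μ ^ n ≤ a * Module.finrank k (Coh.HH X (CohB1.tensorPow L (ν * μ)) 0)) ↔
      ∃ (ν : ℕ) (A : X.Modules) (φ : A ⟶ CohB1.tensorPow L ν), 0 < ν ∧ CohB1.IsAmple A ∧ Mono φ := by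
  constructor
  · rintro ⟨ν, a, hν, ha, hgr⟩
    have hLν := isInvertible_tensorPow hL ν
    have hfreq : ∃ᶠ m : ℕ in Filter.atTop,
        m ^ n ≤ a * Module.finrank k (Coh.HH X (CohB1.tensorPow (CohB1.tensorPow L ν) m) 0) := by
      refine Filter.Eventually.frequently ((Filter.eventually_ge_atTop 1).mono fun m hm => ?_)
      rw [finrank_h0_iso k (powMulIso L hL ν m)]
      exact hgr m hm
    obtain ⟨m, φ, hm, hφ⟩ := exists_gsurj_of_frequently k n hn H hH _ hLν a hfreq H hH.1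
    have hB := isInvertible_tensorPow hL (ν * m)
    have h1 : GSurj (φ ≫ (powMulIso L hL ν m).hom) := hφ.comp (GSurj.of_isIso _)
    exact ⟨ν * m, H, φ ≫ (powMulIso L hL ν m).hom, Nat.mul_pos hν hm, hH, h1.mono hH.1 hB⟩
  · rintro ⟨ν, A, φ, hν, hA, hφ⟩
    have hφg : GSurj φ := GSurj.of_mono hA.1 (isInvertible_tensorPow hL ν) φ
    have hfreq := frequently_of_gsurj k n hn A hA L hL ν hν φ hφg
    obtain ⟨a, n₁, ha, hev⟩ := eventually_of_forall_ample k n hn H hH L hL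
      (fun A' hA' => forall_ample_of_frequently k n hn H hH L hL hfreq A' hA'.1)
    refine ⟨max n₁ 1, a, lt_of_lt_of_le Nat.one_pos (le_max_right _ _), ha, fun μ hμ => ?_⟩
    have h1 : n₁ ≤ max n₁ 1 * μ :=
      (le_max_left n₁ 1).trans (Nat.le_mul_of_pos_right _ hμ)
    have h2 : μ ≤ max n₁ 1 * μ :=
      Nat.le_mul_of_pos_left _ (lt_of_lt_of_le Nat.one_pos (le_max_right _ _))
    exact (Nat.pow_le_pow_left h2 n).trans (hev _ h1)

/-- S19806 -/
theorem main19806 (hproj : ∃ A : X.Modules, CohB1.IsAmple A) (d : ℕ)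
    (hd : topologicalKrullDim X = d) (L : X.Modules) (hL : PicF.IsInvertible L) :
    0 < Filter.liminf (fun m : ℕ => (Module.finrank k (Coh.HH X (CohB1.tensorPow L m) 0) : ℝ≥0∞) /
        (m : ℝ≥0∞) ^ d) Filter.atTop ↔
      0 < Filter.limsup (fun m : ℕ => (Module.finrank k (Coh.HH X (CohB1.tensorPow L m) 0) : ℝ≥0∞) /
        (m : ℝ≥0∞) ^ d) Filter.atTop := by
  obtain ⟨H, hH⟩ := hproj
  constructor
  · intro h
    exact lt_of_lt_of_le h (Filter.liminf_le_limsup)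
  · intro h
    have hfreq := conv_limsup d _ h
    exact conv_to_liminf d _ (eventually_of_forall_ample k d hd H hH L hL
      (fun A' hA' => forall_ample_of_frequently k d hd H hH L hL hfreq A' hA'.1))

end Big

end Groth.Agent.Helper4.SN
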