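import Mathlib
import Groth.Agent.Helper4.SN157
import Groth.Agent.Helper4.SN32
import Groth.Agent.Helper4.NApx80

/-!
# Growth of all cohomology groups of multi-twists: basic lemmas
-/

set_option autoImplicit false
set_option linter.unusedSectionVars false
set_option linter.style.haveILetI false
universe u

open CategoryTheory CategoryTheory.Limits AlgebraicGeometry Opposite TopologicalSpace

namespace Groth.Agent.Helper4.SN

open Groth.Agent.Helper4.NApx82 Groth.Agent.Helper4.StalkDict Groth.Agent.Lead.Ref1B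
  Groth.Agent.Lead.StalkNhd Groth.Agent.Helper4.TensorInv Groth.Agent.Helper4.TensorAssoc
  Groth.Agent.Helper1.Dev

section LinAlg

theorem finrank_le_add_of_exact {K V₁ V₂ V₃ : Type*} [Field K] [AddCommGroup V₁] [Module K V₁]
    [AddCommGroup V₂] [Module K V₂] [AddCommGroup V₃] [Module K V₃]
    [Module.Finite K V₁] [Module.Finite K V₂] [Module.Finite K V₃]
    (f : V₁ →ₗ[K] V₂) (g : V₂ →ₗ[K] V₃) (h : Function.Exact f g) :
    Module.finrank K V₂ ≤ Module.finrank K V₁ + Module.finrank K V₃ := by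
  have h1 := LinearMap.finrank_range_add_finrank_ker g
  have h2 : LinearMap.ker g = LinearMap.range f := LinearMap.exact_iff.1 h
  have h3 : Module.finrank K (LinearMap.range f) ≤ Module.finrank K V₁ :=
    LinearMap.finrank_range_le f
  have h4 : Module.finrank K (LinearMap.range g) ≤ Module.finrank K V₃ := Submodule.finrank_le _
  rw [h2] at h1
  omega

end LinAlg

section Reach

variable {X : Scheme.{u}} {s : ℕ} (N : Fin s → X.Modules)

/-- `B` is obtained from the structure sheaf by tensoring `t` times with modules of the family -/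
inductive Reach : ℕ → X.Modules → Prop
  | base (B : X.Modules) (e : B ≅ Coh.structureModule X) : Reach 0 B
  | step (t : ℕ) (B' B : X.Modules) (j : Fin s) (h : Reach t B')
      (e : B ≅ CohB1.tensorMod B' (N j)) : Reach (t + 1) B

variable {N}

theorem Reach.isInvertible (hN : ∀ j, PicF.IsInvertible (N j)) {t : ℕ} {B : X.Modules}
    (h : Reach N t B) : PicF.IsInvertible B := by
  induction h with
  | base B e => exact Groth.Agent.Helper4.AmpleIso.isInvertible_of_iso e.symm isInvertible_structureModule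
  | step t B' B j _ e ih =>
    exact Groth.Agent.Helper4.AmpleIso.isInvertible_of_iso e.symm (isInvertible_tensorMod ih (hN j))

theorem Reach.of_iso {t : ℕ} {B B' : X.Modules} (h : Reach N t B) (e : B ≅ B') :
    Reach N t B' := by
  cases h with
  | base B e₀ => exact Reach.base _ (e.symm ≪≫ e₀)
  | step t B₀ B j h₀ e₀ => exact Reach.step t B₀ _ j h₀ (e.symm ≪≫ e₀)

theorem Reach.gen (j : Fin s) : Reach N 1 (N j) :=
  Reach.step 0 (Coh.structureModule X) (N j) j (Reach.base _ (Iso.refl _)) (unitorL (N j)).symm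

theorem Reach.tensor (hN : ∀ j, PicF.IsInvertible (N j)) {t t' : ℕ} {B B' : X.Modules}
    (h : Reach N t B) (h' : Reach N t' B') : Reach N (t + t') (CohB1.tensorMod B B') := by
  induction h' with
  | base B' e =>
    exact h.of_iso ((SecTwist.unitorR B).symm ≪≫ PicGrp.tensorModIso (Iso.refl B) e.symm)
  | step t' B'' B' j h'' e ih =>
    refine Reach.step (t + t') (CohB1.tensorMod B B'') _ j ih ?_
    exact PicGrp.tensorModIso (Iso.refl B) e ≪≫
      (assocIso B B'' (N j) (h''.isInvertible hN) (hN j)).symm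

theorem Reach.pow (hN : ∀ j, PicF.IsInvertible (N j)) {t : ℕ} {B : X.Modules}
    (h : Reach N t B) : ∀ m : ℕ, Reach N (t * m) (CohB1.tensorPow B m)
  | 0 => Reach.base _ (Iso.refl _)
  | m + 1 => by
    have := (Reach.pow hN h m).tensor hN h
    rw [Nat.mul_succ]
    exact this

theorem Reach.tensorPow_gen (j : Fin s) : ∀ m : ℕ, Reach N m (CohB1.tensorPow (N j) m)
  | 0 => Reach.base _ (Iso.refl _)
  | m + 1 => Reach.step m _ _ j (Reach.tensorPow_gen j m) (Iso.refl _)

theorem Reach.mono_zero {B : X.Modules} (h : Reach N 0 B) :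
    Nonempty (B ≅ Coh.structureModule X) := by
  cases h with
  | base B e => exact ⟨e⟩

end Reach

section GA

variable (k : Type u) [Field k] {X : Scheme.{u}} [X.Over (Spec (CommRingCat.of k))]
  [IsProper (X ↘ (Spec (CommRingCat.of k)))] {s : ℕ} (N : Fin s → X.Modules)

/-- all cohomology groups of `F ⊗ B` grow at most like `(t + 1)^r` along modules `B` reached in
`t` steps -/
def GA (F : X.Modules) (r : ℕ) : Prop :=
  ∀ i : ℕ, ∃ C : ℕ, ∀ (t : ℕ) (B : X.Modules), Reach N t B →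
    Module.finrank k (Coh.HH X (CohB1.tensorMod F B) i) ≤ C * (t + 1) ^ r

variable {N}

theorem finrank_hi_iso {F G : X.Modules} (e : F ≅ G) (i : ℕ) :
    Module.finrank k (Coh.HH X F i) = Module.finrank k (Coh.HH X G i) :=
  (HHequivOfIso k e i).finrank_eq

theorem GA_iso {F G : X.Modules} (e : F ≅ G) {r : ℕ} (h : GA k N F r) : GA k N G r := by
  intro i
  obtain ⟨C, hC⟩ := h i
  refine ⟨C, fun t B hB => ?_⟩
  rw [← finrank_hi_iso k (PicGrp.tensorModIso e (Iso.refl B)) i]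
  exact hC t B hB

theorem GA_mono {F : X.Modules} {r r' : ℕ} (hr : r ≤ r') (h : GA k N F r) : GA k N F r' := by
  intro i
  obtain ⟨C, hC⟩ := h i
  exact ⟨C, fun t B hB => (hC t B hB).trans
    (Nat.mul_le_mul_left C (Nat.pow_le_pow_right (Nat.succ_pos t) hr))⟩

theorem finrank_hi_of_isZero {F : X.Modules} (hF : IsZero F) (i : ℕ) :
    Module.finrank k (Coh.HH X F i) = 0 := by
  haveI := Groth.Agent.Lead.Thick.subsingleton_HH_of_isZero F hF i
  exact Module.finrank_zero_of_subsingleton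

theorem GA_zero {F : X.Modules} (hF : IsZero F) (r : ℕ) : GA k N F r :=
  fun i => ⟨0, fun t B _ => by
    rw [finrank_hi_of_isZero k (isZero_tensorMod_of_isZero hF _) i]; exact Nat.zero_le _⟩

/-- the three inequalities from the long exact sequence -/
theorem finrank_hi_mid_le (S : ShortComplex X.Modules) (hS : S.ShortExact)
    (h₁ : Coh.IsCoh S.X₁) (h₂ : Coh.IsCoh S.X₂) (h₃ : Coh.IsCoh S.X₃) (i : ℕ) :
    Module.finrank k (Coh.HH X S.X₂ i) ≤
      Module.finrank k (Coh.HH X S.X₁ i) + Module.finrank k (Coh.HH X S.X₃ i) := by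
  haveI : Module.Finite k (Coh.HH X S.X₁ i) := Groth.Agent.S0002.result k X _ h₁ i
  haveI : Module.Finite k (Coh.HH X S.X₂ i) := Groth.Agent.S0002.result k X _ h₂ i
  haveI : Module.Finite k (Coh.HH X S.X₃ i) := Groth.Agent.S0002.result k X _ h₃ i
  exact finrank_le_add_of_exact _ _ (Groth.Agent.Helper4.NApx80.exact_f_g k S hS i)

theorem finrank_hi_left_le (S : ShortComplex X.Modules) (hS : S.ShortExact)
    (h₁ : Coh.IsCoh S.X₁) (h₂ : Coh.IsCoh S.X₂) (h₃ : Coh.IsCoh S.X₃) (i : ℕ) :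
    Module.finrank k (Coh.HH X S.X₁ (i + 1)) ≤
      Module.finrank k (Coh.HH X S.X₃ i) + Module.finrank k (Coh.HH X S.X₂ (i + 1)) := by
  haveI : Module.Finite k (Coh.HH X S.X₁ (i + 1)) := Groth.Agent.S0002.result k X _ h₁ (i + 1)
  haveI : Module.Finite k (Coh.HH X S.X₂ (i + 1)) := Groth.Agent.S0002.result k X _ h₂ (i + 1)
  haveI : Module.Finite k (Coh.HH X S.X₃ i) := Groth.Agent.S0002.result k X _ h₃ i
  exact finrank_le_add_of_exact _ _ (Groth.Agent.Helper4.NApx80.exact_δ_f k S hS i)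

theorem finrank_hi_right_le (S : ShortComplex X.Modules) (hS : S.ShortExact)
    (h₁ : Coh.IsCoh S.X₁) (h₂ : Coh.IsCoh S.X₂) (h₃ : Coh.IsCoh S.X₃) (i : ℕ) :
    Module.finrank k (Coh.HH X S.X₃ i) ≤
      Module.finrank k (Coh.HH X S.X₂ i) + Module.finrank k (Coh.HH X S.X₁ (i + 1)) := by
  haveI : Module.Finite k (Coh.HH X S.X₁ (i + 1)) := Groth.Agent.S0002.result k X _ h₁ (i + 1)
  haveI : Module.Finite k (Coh.HH X S.X₂ i) := Groth.Agent.S0002.result k X _ h₂ i
  haveI : Module.Finite k (Coh.HH X S.X₃ i) := Groth.Agent.S0002.result k X _ h₃ i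
  exact finrank_le_add_of_exact _ _ (Groth.Agent.Helper1.HHLes.exact_g_δ k S hS i)

theorem finrank_h0_left_le (S : ShortComplex X.Modules) (hS : S.ShortExact)
    (h₂ : Coh.IsCoh S.X₂) :
    Module.finrank k (Coh.HH X S.X₁ 0) ≤ Module.finrank k (Coh.HH X S.X₂ 0) := by
  haveI : Module.Finite k (Coh.HH X S.X₂ 0) := Groth.Agent.S0002.result k X _ h₂ 0
  exact LinearMap.finrank_le_finrank_of_injective
    (Groth.Agent.Helper4.NApx80.injective_f_zero k S hS)

include k in
theorem isCoh_twist {F B : X.Modules} (hF : Coh.IsCoh F) (hB : PicF.IsInvertible B) :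
    Coh.IsCoh (CohB1.tensorMod F B) := by
  haveI := Groth.Agent.Helper4.NApx82.isNoetherian_of_proper k X
  exact isCoh_tensorMod _ _ hF (Groth.Agent.Helper1.SerreFin.isCoh_of_isInvertible B hB)

/-- twisted versions of the three inequalities -/
theorem finrank_hi_twist_mid_le (S : ShortComplex X.Modules) (hS : S.ShortExact)
    (h₁ : Coh.IsCoh S.X₁) (h₂ : Coh.IsCoh S.X₂) (h₃ : Coh.IsCoh S.X₃) (B : X.Modules)
    (hB : PicF.IsInvertible B) (i : ℕ) :
    Module.finrank k (Coh.HH X (CohB1.tensorMod S.X₂ B) i) ≤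
      Module.finrank k (Coh.HH X (CohB1.tensorMod S.X₁ B) i) +
        Module.finrank k (Coh.HH X (CohB1.tensorMod S.X₃ B) i) :=
  finrank_hi_mid_le k (S.map (DCoh.tensorRightMod B))
    (Groth.Agent.Helper1.TwistExact.shortExact_map_tensorRightMod hS B hB)
    (isCoh_twist k h₁ hB) (isCoh_twist k h₂ hB) (isCoh_twist k h₃ hB) i

theorem finrank_hi_twist_left_le (S : ShortComplex X.Modules) (hS : S.ShortExact)
    (h₁ : Coh.IsCoh S.X₁) (h₂ : Coh.IsCoh S.X₂) (h₃ : Coh.IsCoh S.X₃) (B : X.Modules)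
    (hB : PicF.IsInvertible B) (i : ℕ) :
    Module.finrank k (Coh.HH X (CohB1.tensorMod S.X₁ B) (i + 1)) ≤
      Module.finrank k (Coh.HH X (CohB1.tensorMod S.X₃ B) i) +
        Module.finrank k (Coh.HH X (CohB1.tensorMod S.X₂ B) (i + 1)) :=
  finrank_hi_left_le k (S.map (DCoh.tensorRightMod B))
    (Groth.Agent.Helper1.TwistExact.shortExact_map_tensorRightMod hS B hB)
    (isCoh_twist k h₁ hB) (isCoh_twist k h₂ hB) (isCoh_twist k h₃ hB) i

theorem finrank_hi_twist_right_le (S : ShortComplex X.Modules) (hS : S.ShortExact)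
    (h₁ : Coh.IsCoh S.X₁) (h₂ : Coh.IsCoh S.X₂) (h₃ : Coh.IsCoh S.X₃) (B : X.Modules)
    (hB : PicF.IsInvertible B) (i : ℕ) :
    Module.finrank k (Coh.HH X (CohB1.tensorMod S.X₃ B) i) ≤
      Module.finrank k (Coh.HH X (CohB1.tensorMod S.X₂ B) i) +
        Module.finrank k (Coh.HH X (CohB1.tensorMod S.X₁ B) (i + 1)) :=
  finrank_hi_right_le k (S.map (DCoh.tensorRightMod B))
    (Groth.Agent.Helper1.TwistExact.shortExact_map_tensorRightMod hS B hB)
    (isCoh_twist k h₁ hB) (isCoh_twist k h₂ hB) (isCoh_twist k h₃ hB) i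

theorem finrank_h0_twist_left_le (S : ShortComplex X.Modules) (hS : S.ShortExact)
    (h₂ : Coh.IsCoh S.X₂) (B : X.Modules) (hB : PicF.IsInvertible B) :
    Module.finrank k (Coh.HH X (CohB1.tensorMod S.X₁ B) 0) ≤
      Module.finrank k (Coh.HH X (CohB1.tensorMod S.X₂ B) 0) :=
  finrank_h0_left_le k (S.map (DCoh.tensorRightMod B))
    (Groth.Agent.Helper1.TwistExact.shortExact_map_tensorRightMod hS B hB)
    (isCoh_twist k h₂ hB)

theorem GA_ext (hN : ∀ j, PicF.IsInvertible (N j)) (S : ShortComplex X.Modules)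
    (hS : S.ShortExact) (h₁ : Coh.IsCoh S.X₁) (h₂ : Coh.IsCoh S.X₂) (h₃ : Coh.IsCoh S.X₃)
    {r : ℕ} (k₁ : GA k N S.X₁ r) (k₃ : GA k N S.X₃ r) : GA k N S.X₂ r := by
  intro i
  obtain ⟨C₁, hC₁⟩ := k₁ i
  obtain ⟨C₃, hC₃⟩ := k₃ i
  refine ⟨C₁ + C₃, fun t B hB => ?_⟩
  have h := finrank_hi_twist_mid_le k S hS h₁ h₂ h₃ B (hB.isInvertible hN) i
  calc _ ≤ _ := h
    _ ≤ C₁ * (t + 1) ^ r + C₃ * (t + 1) ^ r := Nat.add_le_add (hC₁ t B hB) (hC₃ t B hB)
    _ = _ := by ring

theorem GA_left (hN : ∀ j, PicF.IsInvertible (N j)) (S : ShortComplex X.Modules)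
    (hS : S.ShortExact) (h₁ : Coh.IsCoh S.X₁) (h₂ : Coh.IsCoh S.X₂) (h₃ : Coh.IsCoh S.X₃)
    {r : ℕ} (k₂ : GA k N S.X₂ r) (k₃ : GA k N S.X₃ r) : GA k N S.X₁ r := by
  intro i
  cases i with
  | zero =>
    obtain ⟨C₂, hC₂⟩ := k₂ 0
    exact ⟨C₂, fun t B hB =>
      (finrank_h0_twist_left_le k S hS h₂ B (hB.isInvertible hN)).trans (hC₂ t B hB)⟩
  | succ i =>
    obtain ⟨C₂, hC₂⟩ := k₂ (i + 1)
    obtain ⟨C₃, hC₃⟩ := k₃ i
    refine ⟨C₃ + C₂, fun t B hB => ?_⟩
    have h := finrank_hi_twist_left_le k S hS h₁ h₂ h₃ B (hB.isInvertible hN) i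
    calc _ ≤ _ := h
      _ ≤ C₃ * (t + 1) ^ r + C₂ * (t + 1) ^ r := Nat.add_le_add (hC₃ t B hB) (hC₂ t B hB)
      _ = _ := by ring

theorem GA_right (hN : ∀ j, PicF.IsInvertible (N j)) (S : ShortComplex X.Modules)
    (hS : S.ShortExact) (h₁ : Coh.IsCoh S.X₁) (h₂ : Coh.IsCoh S.X₂) (h₃ : Coh.IsCoh S.X₃)
    {r : ℕ} (k₁ : GA k N S.X₁ r) (k₂ : GA k N S.X₂ r) : GA k N S.X₃ r := by
  intro i
  obtain ⟨C₂, hC₂⟩ := k₂ i
  obtain ⟨C₁, hC₁⟩ := k₁ (i + 1)
  refine ⟨C₂ + C₁, fun t B hB => ?_⟩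
  have h := finrank_hi_twist_right_le k S hS h₁ h₂ h₃ B (hB.isInvertible hN) i
  calc _ ≤ _ := h
    _ ≤ C₂ * (t + 1) ^ r + C₁ * (t + 1) ^ r := Nat.add_le_add (hC₂ t B hB) (hC₁ t B hB)
    _ = _ := by ring

end GA

section Step

variable (k : Type u) [Field k] {Y : Scheme.{u}} [Y.Over (Spec (CommRingCat.of k))]
  [IsProper (Y ↘ (Spec (CommRingCat.of k)))] [IsIntegral Y]

/-- the step lemma: twisting an invertible module `G` by `N` changes the cohomology by at most
the cohomology of two fixed coherent modules vanishing at the generic point, twisted by `G` -/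
theorem step_lemma (N A₂ : Y.Modules) (hN : PicF.IsInvertible N) (hA₂ : PicF.IsInvertible A₂)
    (h₂ : GS A₂) (h₁ : GS (CohB1.tensorMod A₂ N)) :
    ∃ Q₁ Q₂ : Y.Modules, Coh.IsCoh Q₁ ∧ Coh.IsCoh Q₂ ∧
      genericPoint Y ∉ CohB1.support Q₁ ∧ genericPoint Y ∉ CohB1.support Q₂ ∧
      ∀ G : Y.Modules, PicF.IsInvertible G →
        (Module.finrank k (Coh.HH Y (CohB1.tensorMod G N) 0) ≤
          Module.finrank k (Coh.HH Y G 0) +
            Module.finrank k (Coh.HH Y (CohB1.tensorMod Q₁ G) 0)) ∧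
        ∀ i : ℕ, Module.finrank k (Coh.HH Y (CohB1.tensorMod G N) (i + 1)) ≤
          Module.finrank k (Coh.HH Y G (i + 1)) +
            Module.finrank k (Coh.HH Y (CohB1.tensorMod Q₁ G) (i + 1)) +
            Module.finrank k (Coh.HH Y (CohB1.tensorMod Q₂ G) i) := by
  haveI := Groth.Agent.Helper4.NApx82.isNoetherian_of_proper k Y
  have hOi : PicF.IsInvertible (Coh.structureModule Y) := isInvertible_structureModule
  have hO : Coh.IsCoh (Coh.structureModule Y) := isCoh_structureModule Y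
  have hA₁ := isInvertible_tensorMod hA₂ hN
  have hcA₁ := Groth.Agent.Helper1.SerreFin.isCoh_of_isInvertible _ hA₁
  have hcA₂ := Groth.Agent.Helper1.SerreFin.isCoh_of_isInvertible _ hA₂
  have hcN := Groth.Agent.Helper1.SerreFin.isCoh_of_isInvertible _ hN
  obtain ⟨s₁, hs₁⟩ := h₁
  obtain ⟨s₂, hs₂⟩ := h₂
  haveI : Mono s₁ := GSurj.mono hs₁ hOi hA₁
  haveI : Mono s₂ := GSurj.mono hs₂ hOi hA₂
  have hQ₁ : Coh.IsCoh (cokernel s₁) := Groth.Agent.Lead.PerfLib.isCoh_cokernel hO hcA₁ s₁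
  have hQ₂ : Coh.IsCoh (cokernel s₂) := Groth.Agent.Lead.PerfLib.isCoh_cokernel hO hcA₂ s₂
  have hg₁ : genericPoint Y ∉ CohB1.support (cokernel s₁) :=
    fun hcon => hcon (subsingleton_stalk_cokernel s₁ _ hs₁)
  have hg₂ : genericPoint Y ∉ CohB1.support (cokernel s₂) :=
    fun hcon => hcon (subsingleton_stalk_cokernel s₂ _ hs₂)
  refine ⟨cokernel s₁, CohB1.tensorMod (cokernel s₂) N, hQ₁,
    isCoh_tensorMod _ _ hQ₂ hcN, hg₁,
    fun hcon => hg₂ (support_tensorMod_subset_left _ _ hcon), fun G hG => ?_⟩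
  have hNG := isInvertible_tensorMod hN hG
  -- isomorphisms
  have e₁ : ∀ i, Module.finrank k (Coh.HH Y (CohB1.tensorMod (cokSC s₂).X₁
      (CohB1.tensorMod N G)) i) = Module.finrank k (Coh.HH Y (CohB1.tensorMod G N) i) :=
    fun i => finrank_hi_iso k (unitorL (CohB1.tensorMod N G) ≪≫ braid N G) i
  have e₂ : ∀ i, Module.finrank k (Coh.HH Y (CohB1.tensorMod (cokSC s₂).X₂
      (CohB1.tensorMod N G)) i) =
      Module.finrank k (Coh.HH Y (CohB1.tensorMod (cokSC s₁).X₂ G) i) :=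
    fun i => finrank_hi_iso k (assocIso A₂ N G hN hG).symm i
  have e₃ : ∀ i, Module.finrank k (Coh.HH Y (CohB1.tensorMod (cokSC s₂).X₃
      (CohB1.tensorMod N G)) i) =
      Module.finrank k (Coh.HH Y (CohB1.tensorMod (CohB1.tensorMod (cokernel s₂) N) G) i) :=
    fun i => finrank_hi_iso k (assocIso (cokernel s₂) N G hN hG).symm i
  have e₄ : ∀ i, Module.finrank k (Coh.HH Y (CohB1.tensorMod (cokSC s₁).X₁ G) i) =
      Module.finrank k (Coh.HH Y G i) :=
    fun i => finrank_hi_iso k (unitorL G) i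
  have ha := fun i => finrank_hi_twist_mid_le k (cokSC s₁) (cokSC_shortExact s₁) hO hcA₁ hQ₁ G hG i
  have hb0 := finrank_h0_twist_left_le k (cokSC s₂) (cokSC_shortExact s₂) hcA₂ _ hNG
  have hb := fun i => finrank_hi_twist_left_le k (cokSC s₂) (cokSC_shortExact s₂) hO hcA₂ hQ₂ _ hNG i
  constructor
  · have h1 := ha 0
    rw [e₄] at h1
    rw [e₁, e₂] at hb0
    exact hb0.trans h1
  · intro i
    have h1 := ha (i + 1)
    rw [e₄] at h1
    have h2 := hb i
    rw [e₁, e₂, e₃] at h2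
    change Module.finrank k (Coh.HH Y (CohB1.tensorMod (cokSC s₁).X₂ G) (i + 1)) ≤
      Module.finrank k (Coh.HH Y G (i + 1)) +
        Module.finrank k (Coh.HH Y (CohB1.tensorMod (cokernel s₁) G) (i + 1)) at h1
    omega

end Step

end Groth.Agent.Helper4.SN
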