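import Mathlib
import Groth.Agent.Helper4.SN162
import Groth.Agent.Helper4.SN155
import Groth.Agent.Helper4.PullAmple

/-!
# Growth of all cohomology groups of multi-twists: the general bound
-/

set_option autoImplicit false
set_option linter.unusedSectionVars false
set_option linter.style.haveILetI false
universe u

open CategoryTheory CategoryTheory.Limits AlgebraicGeometry Opposite TopologicalSpace

namespace Groth.Agent.Helper4.SN

open Groth.Agent.Helper4.NApx82 Groth.Agent.Helper4.StalkDict Groth.Agent.Lead.Ref1B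
  Groth.Agent.Lead.StalkNhd Groth.Agent.Helper4.TensorInv Groth.Agent.Helper4.TensorAssoc
  Groth.Agent.Helper1.Dev Groth.Agent.Lead.PushStalk Groth.Agent.Lead.Thick

section Transfer

variable (k : Type u) [Field k] {X Z : Scheme.{u}} [X.Over (Spec (CommRingCat.of k))]
  [Z.Over (Spec (CommRingCat.of k))]

/-- `hⁱ` of a twist of a pushforward along an affine morphism -/
theorem finrank_hi_push_twist (ι : Z ⟶ X) [IsAffineHom ι]
    (hι : ι ≫ (X ↘ Spec (CommRingCat.of k)) = Z ↘ Spec (CommRingCat.of k))
    (E : Z.Modules) (hE : Coh.IsCoh E) (B : X.Modules) (hB : PicF.IsInvertible B) (i : ℕ) :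
    Module.finrank k (Coh.HH X (CohB1.tensorMod ((Scheme.Modules.pushforward ι).obj E) B) i) =
    Module.finrank k (Coh.HH Z (CohB1.tensorMod E ((Scheme.Modules.pullback ι).obj B)) i) := by
  have hpB : PicF.IsInvertible ((Scheme.Modules.pullback ι).obj B) :=
    Groth.Agent.Helper4.PullSec.isInvertible_pullback ι hB
  have hcoh : Coh.IsCoh (CohB1.tensorMod E ((Scheme.Modules.pullback ι).obj B)) :=
    isCoh_tensorMod _ _ hE (Groth.Agent.Helper1.SerreFin.isCoh_of_isInvertible _ hpB)
  haveI : Coh.IsQCoh (CohB1.tensorMod E ((Scheme.Modules.pullback ι).obj B)) := hcoh.1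
  obtain ⟨e⟩ := Groth.Agent.Helper1.AffLin.nonempty_HH_linearEquiv ι k hι
    (CohB1.tensorMod E ((Scheme.Modules.pullback ι).obj B)) i
  rw [e.finrank_eq]
  exact (HHequivOfIso k (Groth.Agent.Helper1.PF.projIso ι E B hB) i).finrank_eq

end Transfer

section IntegralStep

variable (k : Type u) [Field k] {X Y : Scheme.{u}} [X.Over (Spec (CommRingCat.of k))]
  [IsProper (X ↘ (Spec (CommRingCat.of k)))]
  [Y.Over (Spec (CommRingCat.of k))] [IsProper (Y ↘ (Spec (CommRingCat.of k)))] [IsIntegral Y]
  {s : ℕ} {N : Fin s → X.Modules}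

/-- the integral step: the bound for the structure sheaf of an integral closed subscheme from
bounds (one degree less) for the modules vanishing at its generic point -/
theorem GA_push_structure (hN : ∀ j, PicF.IsInvertible (N j)) (H : X.Modules)
    (hH : CohB1.IsAmple H) (ι : Y ⟶ X) [IsAffineHom ι]
    (hι : ι ≫ (X ↘ Spec (CommRingCat.of k)) = Y ↘ Spec (CommRingCat.of k)) (r : ℕ)
    (hQ : ∀ Q : Y.Modules, Coh.IsCoh Q → genericPoint Y ∉ CohB1.support Q → ∀ i : ℕ,
      ∃ C : ℕ, (r = 0 → C = 0) ∧ ∀ (t : ℕ) (B : X.Modules), Reach N t B →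
        Module.finrank k (Coh.HH X (CohB1.tensorMod ((Scheme.Modules.pushforward ι).obj Q) B) i) ≤
          C * (t + 1) ^ (r - 1)) :
    GA k N ((Scheme.Modules.pushforward ι).obj (Coh.structureModule Y)) r := by
  haveI := Groth.Agent.Helper4.NApx82.isNoetherian_of_proper k Y
  have hOY : Coh.IsCoh (Coh.structureModule Y) := isCoh_structureModule Y
  have hOYi : PicF.IsInvertible (Coh.structureModule Y) := isInvertible_structureModule
  have hHY : CohB1.IsAmple ((Scheme.Modules.pullback ι).obj H) :=
    Groth.Agent.Helper4.PullAmple.isAmple_pullback_of_isAffineHom ι hH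
  haveI : CompactSpace Y := hHY.2.1
  have hN' : ∀ j, PicF.IsInvertible ((Scheme.Modules.pullback ι).obj (N j)) :=
    fun j => Groth.Agent.Helper4.PullSec.isInvertible_pullback ι (hN j)
  -- the step data for each `j`
  have hstep : ∀ j : Fin s, ∃ Q₁ Q₂ : Y.Modules, Coh.IsCoh Q₁ ∧ Coh.IsCoh Q₂ ∧
      genericPoint Y ∉ CohB1.support Q₁ ∧ genericPoint Y ∉ CohB1.support Q₂ ∧
      ∀ G : Y.Modules, PicF.IsInvertible G →
        (Module.finrank k (Coh.HH Y (CohB1.tensorMod G ((Scheme.Modules.pullback ι).obj (N j))) 0) ≤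
          Module.finrank k (Coh.HH Y G 0) +
            Module.finrank k (Coh.HH Y (CohB1.tensorMod Q₁ G) 0)) ∧
        ∀ i : ℕ, Module.finrank k (Coh.HH Y (CohB1.tensorMod G
            ((Scheme.Modules.pullback ι).obj (N j))) (i + 1)) ≤
          Module.finrank k (Coh.HH Y G (i + 1)) +
            Module.finrank k (Coh.HH Y (CohB1.tensorMod Q₁ G) (i + 1)) +
            Module.finrank k (Coh.HH Y (CohB1.tensorMod Q₂ G) i) := by
    intro j
    obtain ⟨n₁, -, hn₁⟩ :=
      Groth.Agent.Helper4.AmpleEventual.exists_forall_isAmple_and_isGloballyGenerated _ _ hHY (hN' j)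
    obtain ⟨n₂, -, hn₂⟩ :=
      Groth.Agent.Helper4.AmpleEventual.exists_forall_isAmple_and_isGloballyGenerated _ _ hHY hOYi
    obtain ⟨hA₁, hg₁⟩ := hn₁ (max n₁ n₂) (le_max_left _ _)
    obtain ⟨hA₂, hg₂⟩ := hn₂ (max n₁ n₂) (le_max_right _ _)
    have hA := isInvertible_tensorPow hHY.1 (max n₁ n₂)
    exact step_lemma k _ _ (hN' j) hA
      (GS_of_iso (GS_of_isGloballyGenerated hA₂.1 hg₂) (SecTwist.unitorR _))
      (GS_of_isGloballyGenerated hA₁.1 hg₁)
  choose Q₁ Q₂ hc₁ hc₂ hg₁ hg₂ hst using hstep
  intro i
  -- constants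
  have hC₁ := fun j => hQ (Q₁ j) (hc₁ j) (hg₁ j) i
  choose C₁ hC₁0 hC₁ using hC₁
  -- the inductive bound on `Y`
  have key : ∃ Ctot : ℕ, (r = 0 → Ctot = 0) ∧ ∀ (t : ℕ) (B : X.Modules), Reach N t B →
      Module.finrank k (Coh.HH Y ((Scheme.Modules.pullback ι).obj B) i) ≤
        Module.finrank k (Coh.HH Y (Coh.structureModule Y) i) + Ctot * t * (t + 1) ^ (r - 1) := by
    cases i with
    | zero =>
      refine ⟨∑ j, C₁ j, fun hr => Finset.sum_eq_zero fun j _ => hC₁0 j hr, ?_⟩
      intro t B hB
      induction hB with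
      | base B e =>
        rw [finrank_hi_iso k ((Scheme.Modules.pullback ι).mapIso e ≪≫
          Groth.Agent.Helper4.PullUnit.pullbackUnitIso ι) 0]
        exact Nat.le_add_right _ _
      | step t B' B j hB' e ih =>
        have hB'i := hB'.isInvertible hN
        have hG : PicF.IsInvertible ((Scheme.Modules.pullback ι).obj B') :=
          Groth.Agent.Helper4.PullSec.isInvertible_pullback ι hB'i
        have h1 := (hst j _ hG).1
        rw [finrank_hi_iso k ((Scheme.Modules.pullback ι).mapIso e ≪≫
          Groth.Agent.Helper4.PullTensor.pullTensorIso ι hB'i (hN j)) 0]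
        have h2 := hC₁ j t B' hB'
        rw [finrank_hi_push_twist k ι hι (Q₁ j) (hc₁ j) B' hB'i 0] at h2
        have h3 : C₁ j ≤ ∑ j, C₁ j := Finset.single_le_sum (f := C₁) (fun _ _ => Nat.zero_le _)
          (Finset.mem_univ j)
        have h4 : (t + 1) ^ (r - 1) ≤ (t + 1 + 1) ^ (r - 1) :=
          Nat.pow_le_pow_left (Nat.le_succ _) _
        calc _ ≤ _ := h1
          _ ≤ (Module.finrank k (Coh.HH Y (Coh.structureModule Y) 0) +
                (∑ j, C₁ j) * t * (t + 1) ^ (r - 1)) + (∑ j, C₁ j) * (t + 1) ^ (r - 1) :=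
              Nat.add_le_add ih (h2.trans (Nat.mul_le_mul_right _ h3))
          _ = Module.finrank k (Coh.HH Y (Coh.structureModule Y) 0) +
                (∑ j, C₁ j) * (t + 1) * (t + 1) ^ (r - 1) := by ring
          _ ≤ _ := Nat.add_le_add_left (Nat.mul_le_mul_left _ h4) _
    | succ i =>
      have hC₂ := fun j => hQ (Q₂ j) (hc₂ j) (hg₂ j) i
      choose C₂ hC₂0 hC₂ using hC₂
      refine ⟨∑ j, (C₁ j + C₂ j), fun hr => Finset.sum_eq_zero fun j _ => by
        rw [hC₁0 j hr, hC₂0 j hr, add_zero], ?_⟩
      intro t B hB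
      induction hB with
      | base B e =>
        rw [finrank_hi_iso k ((Scheme.Modules.pullback ι).mapIso e ≪≫
          Groth.Agent.Helper4.PullUnit.pullbackUnitIso ι) (i + 1)]
        exact Nat.le_add_right _ _
      | step t B' B j hB' e ih =>
        have hB'i := hB'.isInvertible hN
        have hG : PicF.IsInvertible ((Scheme.Modules.pullback ι).obj B') :=
          Groth.Agent.Helper4.PullSec.isInvertible_pullback ι hB'i
        have h1 := (hst j _ hG).2 i
        rw [finrank_hi_iso k ((Scheme.Modules.pullback ι).mapIso e ≪≫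
          Groth.Agent.Helper4.PullTensor.pullTensorIso ι hB'i (hN j)) (i + 1)]
        have h2 := hC₁ j t B' hB'
        rw [finrank_hi_push_twist k ι hι (Q₁ j) (hc₁ j) B' hB'i (i + 1)] at h2
        have h2' := hC₂ j t B' hB'
        rw [finrank_hi_push_twist k ι hι (Q₂ j) (hc₂ j) B' hB'i i] at h2'
        have h3 : C₁ j + C₂ j ≤ ∑ j, (C₁ j + C₂ j) :=
          Finset.single_le_sum (f := fun j => C₁ j + C₂ j) (fun _ _ => Nat.zero_le _)
            (Finset.mem_univ j)
        have h4 : (t + 1) ^ (r - 1) ≤ (t + 1 + 1) ^ (r - 1) :=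
          Nat.pow_le_pow_left (Nat.le_succ _) _
        have h5 : Module.finrank k (Coh.HH Y (CohB1.tensorMod (Q₁ j)
            ((Scheme.Modules.pullback ι).obj B')) (i + 1)) +
            Module.finrank k (Coh.HH Y (CohB1.tensorMod (Q₂ j)
            ((Scheme.Modules.pullback ι).obj B')) i) ≤
            (∑ j, (C₁ j + C₂ j)) * (t + 1) ^ (r - 1) := by
          calc _ ≤ C₁ j * (t + 1) ^ (r - 1) + C₂ j * (t + 1) ^ (r - 1) := Nat.add_le_add h2 h2'
            _ = (C₁ j + C₂ j) * (t + 1) ^ (r - 1) := by ring
            _ ≤ _ := Nat.mul_le_mul_right _ h3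
        calc _ ≤ _ := h1
          _ ≤ (Module.finrank k (Coh.HH Y (Coh.structureModule Y) (i + 1)) +
                (∑ j, (C₁ j + C₂ j)) * t * (t + 1) ^ (r - 1)) +
                (∑ j, (C₁ j + C₂ j)) * (t + 1) ^ (r - 1) := by
              rw [add_assoc]
              exact Nat.add_le_add ih h5
          _ = Module.finrank k (Coh.HH Y (Coh.structureModule Y) (i + 1)) +
                (∑ j, (C₁ j + C₂ j)) * (t + 1) * (t + 1) ^ (r - 1) := by ring
          _ ≤ _ := Nat.add_le_add_left (Nat.mul_le_mul_left _ h4) _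
  obtain ⟨Ctot, hC0, hC⟩ := key
  refine ⟨Module.finrank k (Coh.HH Y (Coh.structureModule Y) i) + Ctot, fun t B hB => ?_⟩
  have hBi := hB.isInvertible hN
  rw [finrank_hi_push_twist k ι hι _ hOY B hBi i,
    finrank_hi_iso k (unitorL ((Scheme.Modules.pullback ι).obj B)) i]
  refine (hC t B hB).trans ?_
  have hpos : 1 ≤ (t + 1) ^ r := Nat.one_le_pow _ _ (Nat.succ_pos t)
  rcases Nat.eq_zero_or_pos r with hr | hr
  · rw [hC0 hr]
    simp only [zero_mul, add_zero]
    exact Nat.le_mul_of_pos_right _ hpos
  · obtain ⟨r', rfl⟩ : ∃ r', r = r' + 1 := ⟨r - 1, by omega⟩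
    have h6 : Ctot * t * (t + 1) ^ (r' + 1 - 1) ≤ Ctot * (t + 1) ^ (r' + 1) := by
      rw [Nat.add_sub_cancel, pow_succ, mul_assoc]
      exact Nat.mul_le_mul_left _ (by rw [mul_comm]; exact Nat.mul_le_mul_left _ (Nat.le_succ t))
    calc _ ≤ Module.finrank k (Coh.HH Y (Coh.structureModule Y) i) * (t + 1) ^ (r' + 1) +
          Ctot * (t + 1) ^ (r' + 1) :=
        Nat.add_le_add (Nat.le_mul_of_pos_right _ hpos) h6
      _ = _ := by ring

end IntegralStep

section IdealStalk

variable {Z : Scheme.{u}} [IsIntegral Z]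

/-- the quotient of the structure sheaf of an integral scheme by a submodule which is nonzero at
the generic point vanishes at the generic point -/
theorem subsingleton_stalk_cokernel_of_ideal (I : Z.Modules) (j : I ⟶ Coh.structureModule Z)
    [Mono j] (hI : ¬ Subsingleton (I.presheaf.stalk (genericPoint Z))) :
    Subsingleton ((cokernel j).presheaf.stalk (genericPoint Z)) := by
  have hO : PicF.IsInvertible (Coh.structureModule Z) := isInvertible_structureModule
  have hinj := Groth.Agent.Helper4.StalkExact.stalkLin_injective j (genericPoint Z)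
  have h1 := finrank_generic_of_isInvertible (Coh.structureModule Z) hO
  letI : Field (Z.presheaf.stalk (genericPoint Z)) :=
    inferInstanceAs (Field Z.functionField)
  rw [not_subsingleton_iff_nontrivial] at hI
  obtain ⟨x, hx⟩ := exists_ne (0 : I.presheaf.stalk (genericPoint Z))
  have hu : stalkLin j (genericPoint Z) x ≠ 0 := by
    intro h0
    apply hx
    apply hinj
    rw [h0, map_zero]
  refine subsingleton_stalk_cokernel j _ (fun w => ?_)
  obtain ⟨c, hc⟩ := (finrank_eq_one_iff_of_nonzero' _ hu).mp h1 w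
  exact ⟨c • x, by rw [map_smul, hc]⟩

end IdealStalk

section Main

variable (k : Type u) [Field k] {X : Scheme.{u}} [X.Over (Spec (CommRingCat.of k))]
  [IsProper (X ↘ (Spec (CommRingCat.of k)))] {s : ℕ} {N : Fin s → X.Modules}

/-- **the growth bound in all degrees**: on a proper scheme over a field with an ample module,
`hⁱ(F ⊗ B) = O((t+1)^r)` along all `B` reached in `t` steps from the family `N`, for a coherent
module `F` with support of dimension `≤ r` -/
theorem GA_of_dimLT (hN : ∀ j, PicF.IsInvertible (N j)) (H : X.Modules) (hH : CohB1.IsAmple H) :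
    ∀ (r : ℕ) (F : X.Modules), Coh.IsCoh F → DimLT (CohB1.support F) (r + 1) →
      GA k N F r := by
  haveI := Groth.Agent.Helper4.NApx82.isNoetherian_of_proper k X
  intro r
  induction r using Nat.strong_induction_on with
  | _ r IH =>
    have hK : HalfClass (fun F : X.Modules =>
        DimLT (CohB1.support F) (r + 1) → GA k N F r) :=
      { iso := fun {M N'} e h hd =>
          GA_iso k e (h (by rw [support_eq_of_iso e]; exact hd))
        zero := fun M hM _ => GA_zero k hM r
        ext := fun S hS h₁ h₂ h₃ k₁ k₃ hd => by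
          have := hS.mono_f
          have := hS.epi_g
          exact GA_ext k hN S hS h₁ h₂ h₃ (k₁ (hd.mono (support_subset_of_mono S.f)))
            (k₃ (hd.mono (support_subset_of_epi S.g))) }
    intro F hF
    refine hK.core ⊤ ?_ F hF (Set.subset_univ _)
    intro Y _ hirrY hB E hE
    set ι := (Scheme.IdealSheafData.vanishingIdeal Y).subschemeι with hι
    letI : (Scheme.IdealSheafData.vanishingIdeal Y).subscheme.Over (Spec (CommRingCat.of k)) :=
      ⟨ι ≫ (X ↘ Spec (CommRingCat.of k))⟩
    haveI : IsProper ((Scheme.IdealSheafData.vanishingIdeal Y).subscheme ↘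
        Spec (CommRingCat.of k)) := by
      show IsProper (ι ≫ (X ↘ Spec (CommRingCat.of k)))
      infer_instance
    haveI := isIntegral_subscheme Y hirrY
    haveI : IsNoetherian (Scheme.IdealSheafData.vanishingIdeal Y).subscheme :=
      isNoetherian_of_isClosedImmersion ι
    have hrange : Set.range ι = (Y : Set X) := range_ι_vanishingIdeal Y
    have hsmall : ∀ E : (Scheme.IdealSheafData.vanishingIdeal Y).subscheme.Modules, Coh.IsCoh E →
        Subsingleton (E.presheaf.stalk (genericPoint _)) →
        pushClass ι (fun F : X.Modules =>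
          DimLT (CohB1.support F) (r + 1) → GA k N F r) E :=
      fun E hE hs => small_of_below Y hB _ E hE hs
    refine (pushClass_halfClass ι hK).integral_main ?_ hsmall E hE
    intro I' j hj hIq hdimI
    haveI := hj
    have hO := isCoh_structureModule (Scheme.IdealSheafData.vanishingIdeal Y).subscheme
    haveI : I'.IsQuasicoherent := hIq
    haveI : (Coh.structureModule
      (Scheme.IdealSheafData.vanishingIdeal Y).subscheme).IsQuasicoherent := hO.1
    have hI' : Coh.IsCoh I' :=
      ⟨hIq, Groth.Agent.Helper4.QcohEpi.isFiniteType_of_mono j hO.2⟩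
    have hcI := isCoh_push ι I' hI'
    have hsI : CohB1.support ((Scheme.Modules.pushforward ι).obj I') ⊆ (Y : Set X) := by
      rw [← hrange]
      exact support_push_subset ι I'
    have hclI : IsClosed (CohB1.support ((Scheme.Modules.pushforward ι).obj I')) :=
      Groth.Agent.S0020.result _ _ hcI.2
    have hmem : ι (genericPoint _) ∈ (Y : Set X) := by
      rw [← hrange]
      exact ⟨_, rfl⟩
    by_cases hfull : CohB1.support ((Scheme.Modules.pushforward ι).obj I') = (Y : Set X)
    · rw [hfull] at hdimI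
      -- the bounds for modules vanishing at the generic point
      have hdQ : ∀ Q : (Scheme.IdealSheafData.vanishingIdeal Y).subscheme.Modules, Coh.IsCoh Q →
          genericPoint _ ∉ CohB1.support Q →
          DimLT (CohB1.support ((Scheme.Modules.pushforward ι).obj Q)) r := by
        intro Q hQc hQs
        have hsQ : CohB1.support ((Scheme.Modules.pushforward ι).obj Q) ⊆ (Y : Set X) := by
          rw [← hrange]
          exact support_push_subset ι Q
        have hnot : ι (genericPoint _) ∉ CohB1.support ((Scheme.Modules.pushforward ι).obj Q) := by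
          intro hcon
          apply hcon
          have hs : Subsingleton (Q.presheaf.stalk (genericPoint _)) := not_not.mp hQs
          exact (psHom_bijective ι Q ι.isClosedEmbedding.isInducing (genericPoint _)).1.subsingleton
        exact hdimI.of_lt hirrY Y.isClosed hsQ ⟨_, hmem, hnot⟩
      have hQ : ∀ Q : (Scheme.IdealSheafData.vanishingIdeal Y).subscheme.Modules, Coh.IsCoh Q →
          genericPoint _ ∉ CohB1.support Q → ∀ i : ℕ,
          ∃ C : ℕ, (r = 0 → C = 0) ∧ ∀ (t : ℕ) (B : X.Modules), Reach N t B →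
            Module.finrank k (Coh.HH X (CohB1.tensorMod
              ((Scheme.Modules.pushforward ι).obj Q) B) i) ≤ C * (t + 1) ^ (r - 1) := by
        intro Q hQc hQs i
        have hcQ := isCoh_push ι Q hQc
        have hd := hdQ Q hQc hQs
        rcases Nat.eq_zero_or_pos r with hr0 | hrpos
        · refine ⟨0, fun _ => rfl, fun t B _ => ?_⟩
          have hz : IsZero ((Scheme.Modules.pushforward ι).obj Q) :=
            isZero_of_dimLT_zero _ hcQ (hr0 ▸ hd)
          rw [finrank_hi_of_isZero k (isZero_tensorMod_of_isZero hz _) i]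
          exact Nat.zero_le _
        · obtain ⟨r'', rfl⟩ : ∃ r'', r = r'' + 1 := ⟨r - 1, by omega⟩
          obtain ⟨C, hC⟩ := IH r'' (Nat.lt_succ_self _) _ hcQ hd i
          exact ⟨C, fun h => absurd h (Nat.succ_ne_zero _), fun t B hB => by
            rw [Nat.add_sub_cancel]; exact hC t B hB⟩
      have hOY : GA k N ((Scheme.Modules.pushforward ι).obj (Coh.structureModule _)) r :=
        GA_push_structure k hN H hH ι rfl r hQ
      -- pass to the ideal through the quotient
      have hcQj : Coh.IsCoh (cokernel j) := Groth.Agent.Lead.PerfLib.isCoh_cokernel hI' hO j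
      have hgen : genericPoint _ ∉ CohB1.support (cokernel j) := by
        intro hcon
        apply hcon
        apply subsingleton_stalk_cokernel_of_ideal I' j
        intro hs
        have h1 : ι (genericPoint _) ∈ CohB1.support ((Scheme.Modules.pushforward ι).obj I') := by
          rw [hfull]; exact hmem
        apply h1
        exact (psHom_bijective ι I' ι.isClosedEmbedding.isInducing (genericPoint _)).1.subsingleton
      have hdj := hdQ _ hcQj hgen
      have hQj : GA k N ((Scheme.Modules.pushforward ι).obj (cokernel j)) r := by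
        rcases Nat.eq_zero_or_pos r with hr0 | hrpos
        · exact GA_zero k (isZero_of_dimLT_zero _ (isCoh_push ι _ hcQj) (hr0 ▸ hdj)) r
        · obtain ⟨r'', rfl⟩ : ∃ r'', r = r'' + 1 := ⟨r - 1, by omega⟩
          exact GA_mono k (Nat.le_succ _)
            (IH r'' (Nat.lt_succ_self _) _ (isCoh_push ι _ hcQj) hdj)
      exact GA_left k hN ((cokSC j).map (Scheme.Modules.pushforward ι))
        (Groth.Agent.Helper1.ClTr.shortExact_push ι _ (cokSC_shortExact j))
        hcI (isCoh_push ι _ hO) (isCoh_push ι _ hcQj) hOY hQj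
    · let Y' : Closeds X := ⟨CohB1.support ((Scheme.Modules.pushforward ι).obj I'), hclI⟩
      have hY' : Y' < Y := lt_of_le_of_ne hsI
        (fun heq => hfull (congrArg (fun Z : Closeds X => (Z : Set X)) heq))
      exact hB Y' hY' _ hcI (le_refl _) hdimI

end Main

end Groth.Agent.Helper4.SN
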