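import Mathlib
import Groth.Agent.Helper4.SN163
import Groth.Prelude.Def_W4c5asymptcohfnACF

/-!
# Asymptotic cohomological functions and modules with small support (S17628, S17629)
-/

set_option autoImplicit false
set_option linter.unusedSectionVars false
set_option linter.style.haveILetI false
universe u

open CategoryTheory CategoryTheory.Limits AlgebraicGeometry Opposite TopologicalSpace

namespace Groth.Agent.Helper4.SN

open Groth.Agent.Helper4.NApx82 Groth.Agent.Helper4.StalkDict Groth.Agent.Lead.Ref1B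
  Groth.Agent.Lead.StalkNhd Groth.Agent.Helper4.TensorInv Groth.Agent.Helper4.TensorAssoc
  Groth.Agent.Helper1.Dev

section Numeric

theorem limsup_eq_of_abs_sub_le (u v : ℕ → ℝ) (hu : ∀ m, 0 ≤ u m) (hv : ∀ m, 0 ≤ v m)
    (h : ∀ ε : ℝ, 0 < ε → ∀ᶠ m in Filter.atTop, |u m - v m| ≤ ε) :
    Filter.limsup u Filter.atTop = Filter.limsup v Filter.atTop := by
  -- one-sided statement
  have key : ∀ (u v : ℕ → ℝ), (∀ m, 0 ≤ u m) → (∀ m, 0 ≤ v m) →
      (∀ ε : ℝ, 0 < ε → ∀ᶠ m in Filter.atTop, |u m - v m| ≤ ε) →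
      Filter.limsup v Filter.atTop ≤ Filter.limsup u Filter.atTop := by
    intro u v hu hv h
    rw [Filter.limsup_eq, Filter.limsup_eq]
    have hshift : ∀ a ∈ {a : ℝ | ∀ᶠ n in Filter.atTop, u n ≤ a}, ∀ ε : ℝ, 0 < ε →
        a + ε ∈ {a : ℝ | ∀ᶠ n in Filter.atTop, v n ≤ a} := by
      intro a ha ε hε
      filter_upwards [ha, h ε hε] with m h1 h2
      have := (abs_le.mp h2).1
      linarith
    have hshift' : ∀ a ∈ {a : ℝ | ∀ᶠ n in Filter.atTop, v n ≤ a}, ∀ ε : ℝ, 0 < ε →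
        a + ε ∈ {a : ℝ | ∀ᶠ n in Filter.atTop, u n ≤ a} := by
      intro a ha ε hε
      filter_upwards [ha, h ε hε] with m h1 h2
      have := (abs_le.mp h2).2
      linarith
    have hbdd : ∀ (w : ℕ → ℝ), (∀ m, 0 ≤ w m) →
        BddBelow {a : ℝ | ∀ᶠ n in Filter.atTop, w n ≤ a} := by
      intro w hw
      refine ⟨0, fun a ha => ?_⟩
      obtain ⟨m, hm⟩ := (ha : ∀ᶠ n in Filter.atTop, w n ≤ a).exists
      exact (hw m).trans hm
    by_cases hne : {a : ℝ | ∀ᶠ n in Filter.atTop, u n ≤ a}.Nonempty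
    · apply le_of_forall_pos_le_add
      intro ε hε
      rw [← sub_le_iff_le_add]
      apply le_csInf hne
      intro a ha
      rw [sub_le_iff_le_add]
      exact csInf_le (hbdd v hv) (hshift a ha ε hε)
    · have hne' : ¬ {a : ℝ | ∀ᶠ n in Filter.atTop, v n ≤ a}.Nonempty := by
        rintro ⟨b, hb⟩
        exact hne ⟨b + 1, hshift' b hb 1 one_pos⟩
      rw [Set.not_nonempty_iff_eq_empty] at hne hne'
      rw [hne, hne']
  refine le_antisymm (key v u hv hu (fun ε hε => ?_)) (key u v hu hv h)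
  filter_upwards [h ε hε] with m hm
  rwa [abs_sub_comm]

theorem limsup_le_of_eventually_le (u : ℕ → ℝ) (hu : ∀ m, 0 ≤ u m) (c : ℝ)
    (h : ∀ᶠ m in Filter.atTop, u m ≤ c) : Filter.limsup u Filter.atTop ≤ c := by
  rw [Filter.limsup_eq]
  refine csInf_le ⟨0, fun a ha => ?_⟩ h
  obtain ⟨m, hm⟩ := (ha : ∀ᶠ n in Filter.atTop, u n ≤ a).exists
  exact (hu m).trans hm

theorem eventually_abs_sub_le (n : ℕ) (b c : ℕ → ℕ) (C : ℕ) (hC0 : n = 0 → C = 0)
    (h : ∀ m, b m ≤ c m + C * (m + 1) ^ (n - 1) ∧ c m ≤ b m + C * (m + 1) ^ (n - 1)) :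
    ∀ ε : ℝ, 0 < ε → ∀ᶠ m : ℕ in Filter.atTop,
      |(b m : ℝ) * (n.factorial : ℝ) / (m : ℝ) ^ n -
        (c m : ℝ) * (n.factorial : ℝ) / (m : ℝ) ^ n| ≤ ε := by
  intro ε hε
  rcases Nat.eq_zero_or_pos n with hn | hn
  · have hC := hC0 hn
    refine Filter.Eventually.of_forall fun m => ?_
    have h1 := h m
    rw [hC, zero_mul, add_zero, add_zero] at h1
    have : b m = c m := le_antisymm h1.1 h1.2
    rw [this, sub_self, abs_zero]
    exact hε.le
  · obtain ⟨n', rfl⟩ : ∃ n', n = n' + 1 := ⟨n - 1, by omega⟩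
    obtain ⟨M, hM⟩ := exists_nat_gt ((C : ℝ) * 2 ^ n' * ((n' + 1).factorial : ℝ) / ε)
    filter_upwards [Filter.eventually_ge_atTop (max M 1)] with m hm
    have hm1 : (1 : ℝ) ≤ m := by exact_mod_cast (le_max_right M 1).trans hm
    have hmM : (M : ℝ) ≤ m := by exact_mod_cast (le_max_left M 1).trans hm
    have hmpos : (0 : ℝ) < m := by linarith
    have h1 := h m
    rw [Nat.add_sub_cancel] at h1
    have hbc : |(b m : ℝ) - (c m : ℝ)| ≤ (C : ℝ) * ((m : ℝ) + 1) ^ n' := by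
      rw [abs_le]
      have h11 : (b m : ℝ) ≤ (c m : ℝ) + (C : ℝ) * ((m : ℝ) + 1) ^ n' := by exact_mod_cast h1.1
      have h12 : (c m : ℝ) ≤ (b m : ℝ) + (C : ℝ) * ((m : ℝ) + 1) ^ n' := by exact_mod_cast h1.2
      constructor <;> linarith
    have hpow : ((m : ℝ) + 1) ^ n' ≤ 2 ^ n' * (m : ℝ) ^ n' := by
      rw [← mul_pow]
      exact pow_le_pow_left₀ (by linarith) (by linarith) n'
    have hfac : (0 : ℝ) ≤ ((n' + 1).factorial : ℝ) := by positivity
    have hmn : (0 : ℝ) < (m : ℝ) ^ (n' + 1) := by positivity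
    rw [← sub_div, ← sub_mul, abs_div, abs_mul, abs_of_pos hmn, abs_of_nonneg hfac,
      div_le_iff₀ hmn]
    have h2 : (C : ℝ) * 2 ^ n' * ((n' + 1).factorial : ℝ) < ε * m := by
      have := lt_of_lt_of_le hM hmM
      rwa [div_lt_iff₀ hε, mul_comm (m : ℝ)] at this
    calc |(b m : ℝ) - (c m : ℝ)| * ((n' + 1).factorial : ℝ)
        ≤ (C : ℝ) * (2 ^ n' * (m : ℝ) ^ n') * ((n' + 1).factorial : ℝ) := by
          apply mul_le_mul_of_nonneg_right _ hfac
          exact hbc.trans (mul_le_mul_of_nonneg_left hpow (by positivity))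
      _ = (C : ℝ) * 2 ^ n' * ((n' + 1).factorial : ℝ) * (m : ℝ) ^ n' := by ring
      _ ≤ ε * m * (m : ℝ) ^ n' := mul_le_mul_of_nonneg_right h2.le (by positivity)
      _ = ε * (m : ℝ) ^ (n' + 1) := by ring

end Numeric

section Asymp

variable (k : Type u) [Field k] {X : Scheme.{u}} [X.Over (Spec (CommRingCat.of k))]
  [IsProper (X ↘ (Spec (CommRingCat.of k)))]

/-- single-variable growth bound in all degrees, with the convention for dimension `< 0` -/
theorem exists_bound_of_krullDim_lt (hproj : ∃ A : X.Modules, CohB1.IsAmple A) (n : ℕ)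
    (A : X.Modules) (hA : Coh.IsCoh A)
    (hdim : topologicalKrullDim (CohB1.support A) < (n : WithBot ℕ∞))
    (L : X.Modules) (hL : PicF.IsInvertible L) (i : ℕ) :
    ∃ C : ℕ, (n = 0 → C = 0) ∧ ∀ m : ℕ,
      Module.finrank k (Coh.HH X (CohB1.tensorMod A (CohB1.tensorPow L m)) i) ≤
        C * (m + 1) ^ (n - 1) := by
  haveI := Groth.Agent.Helper4.NApx82.isNoetherian_of_proper k X
  obtain ⟨H, hH⟩ := hproj
  have hd : DimLT (CohB1.support A) n := dimLT_of_krullDim_lt hdim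
  rcases Nat.eq_zero_or_pos n with hn | hn
  · refine ⟨0, fun _ => rfl, fun m => ?_⟩
    have hz : IsZero A := isZero_of_dimLT_zero A hA (hn ▸ hd)
    rw [finrank_hi_of_isZero k (isZero_tensorMod_of_isZero hz _) i]
    exact Nat.zero_le _
  · obtain ⟨n', rfl⟩ : ∃ n', n = n' + 1 := ⟨n - 1, by omega⟩
    obtain ⟨C, hC⟩ := GA_of_dimLT k (N := fun _ : Fin 1 => L) (fun _ => hL) H hH n' A hA hd i
    refine ⟨C, fun h => absurd h (Nat.succ_ne_zero _), fun m => ?_⟩
    rw [Nat.add_sub_cancel]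
    exact hC m _ (Reach.tensorPow_gen (N := fun _ : Fin 1 => L) 0 m)

/-- S17628 -/
theorem main17628 (hproj : ∃ A : X.Modules, CohB1.IsAmple A)
    (n : ℕ) (S : ShortComplex X.Modules) (hS : S.ShortExact)
    (hA : Coh.IsCoh S.X₁) (hB : Coh.IsCoh S.X₂) (hC : Coh.IsCoh S.X₃)
    (hdim : topologicalKrullDim (CohB1.support S.X₁) < (n : WithBot ℕ∞))
    (L : X.Modules) (hL : PicF.IsInvertible L) (i : ℕ) :
    W4c5asymptcohfn.hhatF k X n i S.X₂ L = W4c5asymptcohfn.hhatF k X n i S.X₃ L := by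
  obtain ⟨C₁, hC₁0, hC₁⟩ := exists_bound_of_krullDim_lt k hproj n S.X₁ hA hdim L hL i
  obtain ⟨C₂, hC₂0, hC₂⟩ := exists_bound_of_krullDim_lt k hproj n S.X₁ hA hdim L hL (i + 1)
  unfold W4c5asymptcohfn.hhatF W4c5asymptcohfn.cohSeq
  refine limsup_eq_of_abs_sub_le _ _ (fun m => by positivity) (fun m => by positivity) ?_
  refine eventually_abs_sub_le n _ _ (C₁ + C₂) (fun h => by rw [hC₁0 h, hC₂0 h]) (fun m => ?_)
  have hLm := isInvertible_tensorPow hL m
  have h1 := finrank_hi_twist_mid_le k S hS hA hB hC _ hLm i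
  have h2 := finrank_hi_twist_right_le k S hS hA hB hC _ hLm i
  have h3 := hC₁ m
  have h4 := hC₂ m
  have h5 : (C₁ + C₂) * (m + 1) ^ (n - 1) = C₁ * (m + 1) ^ (n - 1) + C₂ * (m + 1) ^ (n - 1) := by
    ring
  constructor <;> omega

/-- S17629 -/
theorem main17629 (hproj : ∃ A : X.Modules, CohB1.IsAmple A)
    (n : ℕ) (S : ShortComplex X.Modules) (hS : S.ShortExact)
    (hA : Coh.IsCoh S.X₁) (hB : Coh.IsCoh S.X₂) (hC : Coh.IsCoh S.X₃)
    (hdim : topologicalKrullDim (CohB1.support S.X₃) < (n : WithBot ℕ∞))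
    (L : X.Modules) (hL : PicF.IsInvertible L) (i : ℕ) :
    W4c5asymptcohfn.hhatF k X n i S.X₁ L = W4c5asymptcohfn.hhatF k X n i S.X₂ L := by
  unfold W4c5asymptcohfn.hhatF W4c5asymptcohfn.cohSeq
  refine limsup_eq_of_abs_sub_le _ _ (fun m => by positivity) (fun m => by positivity) ?_
  cases i with
  | zero =>
    obtain ⟨C₁, hC₁0, hC₁⟩ := exists_bound_of_krullDim_lt k hproj n S.X₃ hC hdim L hL 0
    refine eventually_abs_sub_le n _ _ C₁ hC₁0 (fun m => ?_)
    have hLm := isInvertible_tensorPow hL m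
    have h1 := finrank_hi_twist_mid_le k S hS hA hB hC _ hLm 0
    have h2 := finrank_h0_twist_left_le k S hS hB _ hLm
    have h3 := hC₁ m
    constructor <;> omega
  | succ i =>
    obtain ⟨C₁, hC₁0, hC₁⟩ := exists_bound_of_krullDim_lt k hproj n S.X₃ hC hdim L hL (i + 1)
    obtain ⟨C₂, hC₂0, hC₂⟩ := exists_bound_of_krullDim_lt k hproj n S.X₃ hC hdim L hL i
    refine eventually_abs_sub_le n _ _ (C₁ + C₂) (fun h => by rw [hC₁0 h, hC₂0 h])
      (fun m => ?_)
    have hLm := isInvertible_tensorPow hL m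
    have h1 := finrank_hi_twist_mid_le k S hS hA hB hC _ hLm (i + 1)
    have h2 := finrank_hi_twist_left_le k S hS hA hB hC _ hLm i
    have h3 := hC₁ m
    have h4 := hC₂ m
    have h5 : (C₁ + C₂) * (m + 1) ^ (n - 1) =
        C₁ * (m + 1) ^ (n - 1) + C₂ * (m + 1) ^ (n - 1) := by ring
    constructor <;> omega

end Asymp

end Groth.Agent.Helper4.SN
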