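import Mathlib
import Groth.Agent.Helper4.SN164

/-!
# Two-sided step bound for the cohomology of twists on an integral projective scheme
-/

set_option autoImplicit false
set_option linter.unusedSectionVars false
set_option linter.style.haveILetI false
universe u

open CategoryTheory CategoryTheory.Limits AlgebraicGeometry Opposite TopologicalSpace

namespace Groth.Agent.Helper4.SN

open Groth.Agent.Helper4.NApx82 Groth.Agent.Helper4.StalkDict Groth.Agent.Lead.Ref1B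
  Groth.Agent.Lead.StalkNhd Groth.Agent.Helper4.TensorInv Groth.Agent.Helper4.TensorAssoc
  Groth.Agent.Helper1.Dev

section TS

variable (k : Type u) [Field k] {X : Scheme.{u}} [X.Over (Spec (CommRingCat.of k))]
  [IsProper (X ↘ (Spec (CommRingCat.of k)))] [IsIntegral X] {s : ℕ} {N : Fin s → X.Modules}

/-- bound for coherent modules vanishing at the generic point -/
theorem bound_small (hN : ∀ j, PicF.IsInvertible (N j)) (H : X.Modules) (hH : CohB1.IsAmple H)
    (n : ℕ) (hn : topologicalKrullDim X = n) (Q : X.Modules) (hQ : Coh.IsCoh Q)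
    (hg : genericPoint X ∉ CohB1.support Q) (i : ℕ) :
    ∃ C : ℕ, (n = 0 → C = 0) ∧ ∀ (t : ℕ) (G : X.Modules), Reach N t G →
      Module.finrank k (Coh.HH X (CohB1.tensorMod Q G) i) ≤ C * (t + 1) ^ (n - 1) := by
  haveI := Groth.Agent.Helper4.NApx82.isNoetherian_of_proper k X
  have hdX : DimLT (Set.univ : Set X) (n + 1) := dimLT_of_dim_le n hn.le _
  have hd : DimLT (CohB1.support Q) n :=
    hdX.of_lt (IrreducibleSpace.isIrreducible_univ X) isClosed_univ (Set.subset_univ _)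
      ⟨genericPoint X, Set.mem_univ _, hg⟩
  rcases Nat.eq_zero_or_pos n with hn0 | hnpos
  · refine ⟨0, fun _ => rfl, fun t G _ => ?_⟩
    have hz : IsZero Q := isZero_of_dimLT_zero Q hQ (hn0 ▸ hd)
    rw [finrank_hi_of_isZero k (isZero_tensorMod_of_isZero hz _) i]
    exact Nat.zero_le _
  · obtain ⟨n', rfl⟩ : ∃ n', n = n' + 1 := ⟨n - 1, by omega⟩
    obtain ⟨C, hC⟩ := GA_of_dimLT k hN H hH n' Q hQ hd i
    exact ⟨C, fun h => absurd h (Nat.succ_ne_zero _), fun t G hG => by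
      rw [Nat.add_sub_cancel]; exact hC t G hG⟩

/-- the step lemma in uniform form -/
theorem step_lemma' (P A₂ : X.Modules) (hP : PicF.IsInvertible P) (hA₂ : PicF.IsInvertible A₂)
    (h₂ : GS A₂) (h₁ : GS (CohB1.tensorMod A₂ P)) :
    ∃ Q₁ Q₂ : X.Modules, Coh.IsCoh Q₁ ∧ Coh.IsCoh Q₂ ∧
      genericPoint X ∉ CohB1.support Q₁ ∧ genericPoint X ∉ CohB1.support Q₂ ∧
      ∀ G : X.Modules, PicF.IsInvertible G → ∀ i : ℕ,
        Module.finrank k (Coh.HH X (CohB1.tensorMod G P) i) ≤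
          Module.finrank k (Coh.HH X G i) +
            Module.finrank k (Coh.HH X (CohB1.tensorMod Q₁ G) i) +
            Module.finrank k (Coh.HH X (CohB1.tensorMod Q₂ G) (i - 1)) := by
  obtain ⟨Q₁, Q₂, hc₁, hc₂, hg₁, hg₂, h⟩ := step_lemma k P A₂ hP hA₂ h₂ h₁
  refine ⟨Q₁, Q₂, hc₁, hc₂, hg₁, hg₂, fun G hG i => ?_⟩
  cases i with
  | zero => exact (h G hG).1.trans (Nat.le_add_right _ _)
  | succ i => exact (h G hG).2 i

/-- **two-sided step bound** -/
theorem twoSided_step (hN : ∀ j, PicF.IsInvertible (N j)) (H : X.Modules) (hH : CohB1.IsAmple H)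
    (n : ℕ) (hn : topologicalKrullDim X = n) (P P' : X.Modules) (hP : PicF.IsInvertible P)
    (hP' : PicF.IsInvertible P') (e : CohB1.tensorMod P P' ≅ Coh.structureModule X) (i : ℕ) :
    ∃ C' : ℕ, (n = 0 → C' = 0) ∧ ∀ (t : ℕ) (G : X.Modules), Reach N t G →
      Module.finrank k (Coh.HH X (CohB1.tensorMod G P) i) ≤
        Module.finrank k (Coh.HH X G i) + C' * (t + 1) ^ (n - 1) ∧
      Module.finrank k (Coh.HH X G i) ≤
        Module.finrank k (Coh.HH X (CohB1.tensorMod G P) i) + C' * (t + 1) ^ (n - 1) := by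
  haveI := Groth.Agent.Helper4.NApx82.isNoetherian_of_proper k X
  haveI : CompactSpace X := hH.2.1
  have hOi : PicF.IsInvertible (Coh.structureModule X) := isInvertible_structureModule
  obtain ⟨n₁, -, hn₁⟩ :=
    Groth.Agent.Helper4.AmpleEventual.exists_forall_isAmple_and_isGloballyGenerated _ _ hH hP
  obtain ⟨n₂, -, hn₂⟩ :=
    Groth.Agent.Helper4.AmpleEventual.exists_forall_isAmple_and_isGloballyGenerated _ _ hH hP'
  obtain ⟨n₃, -, hn₃⟩ :=
    Groth.Agent.Helper4.AmpleEventual.exists_forall_isAmple_and_isGloballyGenerated _ _ hH hOi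
  set a := max (max n₁ n₂) n₃ with ha
  obtain ⟨hA₁, hg₁⟩ := hn₁ a ((le_max_left _ _).trans (le_max_left _ _))
  obtain ⟨hA₂, hg₂⟩ := hn₂ a ((le_max_right _ _).trans (le_max_left _ _))
  obtain ⟨hA₃, hg₃⟩ := hn₃ a (le_max_right _ _)
  have hA := isInvertible_tensorPow hH.1 a
  have hGS : GS (CohB1.tensorPow H a) :=
    GS_of_iso (GS_of_isGloballyGenerated hA₃.1 hg₃) (SecTwist.unitorR _)
  obtain ⟨Q₁, Q₂, hc₁, hc₂, hq₁, hq₂, hstep⟩ := step_lemma' k P _ hP hA hGS
    (GS_of_isGloballyGenerated hA₁.1 hg₁)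
  obtain ⟨R₁, R₂, hd₁, hd₂, hr₁, hr₂, hstep'⟩ := step_lemma' k P' _ hP' hA hGS
    (GS_of_isGloballyGenerated hA₂.1 hg₂)
  have hcP := Groth.Agent.Helper1.SerreFin.isCoh_of_isInvertible _ hP
  obtain ⟨C₁, hC₁0, hC₁⟩ := bound_small k hN H hH n hn Q₁ hc₁ hq₁ i
  obtain ⟨C₂, hC₂0, hC₂⟩ := bound_small k hN H hH n hn Q₂ hc₂ hq₂ (i - 1)
  obtain ⟨D₁, hD₁0, hD₁⟩ := bound_small k hN H hH n hn (CohB1.tensorMod R₁ P)
    (isCoh_tensorMod _ _ hd₁ hcP) (fun h => hr₁ (support_tensorMod_subset_left _ _ h)) i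
  obtain ⟨D₂, hD₂0, hD₂⟩ := bound_small k hN H hH n hn (CohB1.tensorMod R₂ P)
    (isCoh_tensorMod _ _ hd₂ hcP) (fun h => hr₂ (support_tensorMod_subset_left _ _ h)) (i - 1)
  refine ⟨C₁ + C₂ + D₁ + D₂, fun h => by rw [hC₁0 h, hC₂0 h, hD₁0 h, hD₂0 h], fun t G hG => ?_⟩
  have hGi := hG.isInvertible hN
  have hGP := isInvertible_tensorMod hGi hP
  constructor
  · have h1 := hstep G hGi i
    have h2 := hC₁ t G hG
    have h3 := hC₂ t G hG
    have h4 : (C₁ + C₂ + D₁ + D₂) * (t + 1) ^ (n - 1) =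
        C₁ * (t + 1) ^ (n - 1) + C₂ * (t + 1) ^ (n - 1) + D₁ * (t + 1) ^ (n - 1) +
          D₂ * (t + 1) ^ (n - 1) := by ring
    omega
  · have h1 := hstep' (CohB1.tensorMod G P) hGP i
    -- (G ⊗ P) ⊗ P' ≅ G
    have e₁ : Module.finrank k (Coh.HH X (CohB1.tensorMod (CohB1.tensorMod G P) P') i) =
        Module.finrank k (Coh.HH X G i) :=
      finrank_hi_iso k (assocIso G P P' hP hP' ≪≫ PicGrp.tensorModIso (Iso.refl G) e ≪≫
        SecTwist.unitorR G) i
    -- R ⊗ (G ⊗ P) ≅ (R ⊗ P) ⊗ G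
    have e₂ : ∀ (R : X.Modules) (j : ℕ),
        Module.finrank k (Coh.HH X (CohB1.tensorMod R (CohB1.tensorMod G P)) j) =
        Module.finrank k (Coh.HH X (CohB1.tensorMod (CohB1.tensorMod R P) G) j) :=
      fun R j => finrank_hi_iso k (PicGrp.tensorModIso (Iso.refl R) (braid G P) ≪≫
        (assocIso R P G hP hGi).symm) j
    rw [e₁, e₂, e₂] at h1
    have h2 := hD₁ t G hG
    have h3 := hD₂ t G hG
    have h4 : (C₁ + C₂ + D₁ + D₂) * (t + 1) ^ (n - 1) =
        C₁ * (t + 1) ^ (n - 1) + C₂ * (t + 1) ^ (n - 1) + D₁ * (t + 1) ^ (n - 1) +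
          D₂ * (t + 1) ^ (n - 1) := by ring
    omega

end TS

end Groth.Agent.Helper4.SN
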