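import Mathlib
import Groth.Agent.Helper4.SN166

/-!
# Homogeneity of the asymptotic cohomological functions (S17621)
-/

set_option autoImplicit false
set_option linter.unusedSectionVars false
set_option linter.style.haveILetI false
universe u

open CategoryTheory CategoryTheory.Limits AlgebraicGeometry Opposite TopologicalSpace
open Pointwise

namespace Groth.Agent.Helper4.SN

open Groth.Agent.Helper4.NApx82 Groth.Agent.Helper4.StalkDict Groth.Agent.Lead.Ref1B
  Groth.Agent.Lead.StalkNhd Groth.Agent.Helper4.TensorInv Groth.Agent.Helper4.TensorAssoc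
  Groth.Agent.Helper1.Dev

section Numeric

theorem limsup_eq_of_interleave (u x : ℕ → ℝ) (hu : ∀ m, 0 ≤ u m) (hx : ∀ m, 0 ≤ x m)
    (h1 : ∀ b : ℝ, (∀ᶠ p in Filter.atTop, u p ≤ b) → ∀ᶠ m in Filter.atTop, x m ≤ b)
    (h2 : ∀ b ε : ℝ, 0 < ε → (∀ᶠ m in Filter.atTop, x m ≤ b) →
      ∀ᶠ p in Filter.atTop, u p ≤ b + ε) :
    Filter.limsup x Filter.atTop = Filter.limsup u Filter.atTop := by
  rw [Filter.limsup_eq, Filter.limsup_eq]
  have hbdd : ∀ (w : ℕ → ℝ), (∀ m, 0 ≤ w m) →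
      BddBelow {a : ℝ | ∀ᶠ n in Filter.atTop, w n ≤ a} := by
    intro w hw
    refine ⟨0, fun a ha => ?_⟩
    obtain ⟨m, hm⟩ := (ha : ∀ᶠ n in Filter.atTop, w n ≤ a).exists
    exact (hw m).trans hm
  by_cases hne : {a : ℝ | ∀ᶠ n in Filter.atTop, u n ≤ a}.Nonempty
  · have hne' : {a : ℝ | ∀ᶠ n in Filter.atTop, x n ≤ a}.Nonempty := by
      obtain ⟨b, hb⟩ := hne
      exact ⟨b, h1 b hb⟩
    apply le_antisymm
    · apply le_csInf hne
      intro b hb
      exact csInf_le (hbdd x hx) (h1 b hb)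
    · apply le_of_forall_pos_le_add
      intro ε hε
      rw [← sub_le_iff_le_add]
      apply le_csInf hne'
      intro b hb
      rw [sub_le_iff_le_add]
      exact csInf_le (hbdd u hu) (h2 b ε hε hb)
  · have hne' : ¬ {a : ℝ | ∀ᶠ n in Filter.atTop, x n ≤ a}.Nonempty := by
      rintro ⟨b, hb⟩
      exact hne ⟨b + 1, h2 b 1 one_pos hb⟩
    rw [Set.not_nonempty_iff_eq_empty] at hne hne'
    rw [hne, hne']

theorem limsup_const_mul_of_pos (x : ℕ → ℝ) (c : ℝ) (hc : 0 < c) :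
    Filter.limsup (fun m => c * x m) Filter.atTop = c * Filter.limsup x Filter.atTop := by
  rw [Filter.limsup_eq, Filter.limsup_eq]
  have hset : {a : ℝ | ∀ᶠ n in Filter.atTop, c * x n ≤ a} =
      c • {a : ℝ | ∀ᶠ n in Filter.atTop, x n ≤ a} := by
    ext b
    simp only [Set.mem_setOf_eq, Set.mem_smul_set, smul_eq_mul]
    constructor
    · intro hb
      refine ⟨b / c, ?_, by field_simp⟩
      filter_upwards [hb] with m hm
      rw [le_div_iff₀ hc, mul_comm]
      exact hm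
    · rintro ⟨b', hb', rfl⟩
      filter_upwards [hb'] with m hm
      exact mul_le_mul_of_nonneg_left hm hc.le
  rw [hset, Real.sInf_smul_of_nonneg hc.le, smul_eq_mul]

theorem telescope_two_sided (w : ℕ → ℕ) (C' e : ℕ)
    (hw : ∀ p, w (p + 1) ≤ w p + C' * (p + 1) ^ e ∧ w p ≤ w (p + 1) + C' * (p + 1) ^ e)
    (q d : ℕ) :
    w (q + d) ≤ w q + d * (C' * (q + d + 1) ^ e) ∧ w q ≤ w (q + d) + d * (C' * (q + d + 1) ^ e) := by
  induction d with
  | zero => simp
  | succ d ih =>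
    have h1 := hw (q + d)
    have h2 : C' * (q + d + 1) ^ e ≤ C' * (q + (d + 1) + 1) ^ e :=
      Nat.mul_le_mul_left _ (Nat.pow_le_pow_left (by omega) e)
    have h3 : d * (C' * (q + d + 1) ^ e) ≤ d * (C' * (q + (d + 1) + 1) ^ e) :=
      Nat.mul_le_mul_left _ h2
    have h4 : (d + 1) * (C' * (q + (d + 1) + 1) ^ e) =
        d * (C' * (q + (d + 1) + 1) ^ e) + C' * (q + (d + 1) + 1) ^ e := by ring
    have h5 : w (q + (d + 1)) = w (q + d + 1) := rfl
    rw [h4, h5]
    obtain ⟨ih1, ih2⟩ := ih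
    obtain ⟨h11, h12⟩ := h1
    generalize w (q + d + 1) = A at *
    generalize w (q + d) = B at *
    generalize w q = D at *
    generalize C' * (q + d + 1) ^ e = E at *
    generalize C' * (q + (d + 1) + 1) ^ e = F at *
    generalize d * E = G at *
    generalize d * F = K at *
    constructor <;> omega


theorem limsup_homogeneous (n a C' : ℕ) (ha : 1 ≤ a) (hC0 : n = 0 → C' = 0) (w : ℕ → ℕ)
    (hw : ∀ p, w (p + 1) ≤ w p + C' * (p + 1) ^ (n - 1) ∧
      w p ≤ w (p + 1) + C' * (p + 1) ^ (n - 1)) :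
    Filter.limsup (fun m : ℕ => (w (a * m) : ℝ) * (n.factorial : ℝ) / (m : ℝ) ^ n) Filter.atTop =
      (a : ℝ) ^ n * Filter.limsup (fun p : ℕ => (w p : ℝ) * (n.factorial : ℝ) / (p : ℝ) ^ n)
        Filter.atTop := by
  have hapos : (0 : ℝ) < (a : ℝ) ^ n := by
    have : (0 : ℝ) < a := by exact_mod_cast ha
    positivity
  have hA : (fun m : ℕ => (w (a * m) : ℝ) * (n.factorial : ℝ) / (m : ℝ) ^ n) =
      fun m : ℕ => (a : ℝ) ^ n *
        ((w (a * m) : ℝ) * (n.factorial : ℝ) / ((a * m : ℕ) : ℝ) ^ n) := by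
    funext m
    rw [Nat.cast_mul, mul_pow, ← mul_div_assoc, mul_div_mul_left _ _ hapos.ne']
  rw [hA, limsup_const_mul_of_pos _ _ hapos]
  congr 1
  refine limsup_eq_of_interleave
    (fun p : ℕ => (w p : ℝ) * (n.factorial : ℝ) / (p : ℝ) ^ n)
    (fun m : ℕ => (w (a * m) : ℝ) * (n.factorial : ℝ) / ((a * m : ℕ) : ℝ) ^ n)
    (fun m => by positivity) (fun m => by positivity) ?_ ?_
  · intro b hb
    rw [Filter.eventually_atTop] at hb ⊢
    obtain ⟨P₀, hP₀⟩ := hb
    refine ⟨P₀, fun m hm => hP₀ (a * m) (hm.trans (Nat.le_mul_of_pos_left m ha))⟩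
  · intro b ε hε hb
    rw [Filter.eventually_atTop] at hb
    obtain ⟨M₀, hM₀⟩ := hb
    have hdiff : ∀ p, w p ≤ w (a * (p / a)) + a * C' * (p + 1) ^ (n - 1) ∧
        w (a * (p / a)) ≤ w p + a * C' * (p + 1) ^ (n - 1) := by
      intro p
      have h1 := telescope_two_sided w C' (n - 1) hw (a * (p / a)) (p % a)
      rw [Nat.div_add_mod] at h1
      have h2 : p % a * (C' * (p + 1) ^ (n - 1)) ≤ a * C' * (p + 1) ^ (n - 1) := by
        rw [mul_assoc]
        exact Nat.mul_le_mul_right _ (Nat.mod_lt p ha).le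
      constructor <;> omega
    have hev := eventually_abs_sub_le n w (fun p => w (a * (p / a))) (a * C')
      (fun h => by rw [hC0 h, mul_zero]) hdiff ε hε
    filter_upwards [hev, Filter.eventually_ge_atTop (a * (M₀ + 1))] with p hp hpa
    have hm : M₀ + 1 ≤ p / a := by
      rw [Nat.le_div_iff_mul_le ha, mul_comm]; exact hpa
    have hM := hM₀ (p / a) (by omega)
    have hle : a * (p / a) ≤ p := Nat.mul_div_le p a
    have hpos : 1 ≤ a * (p / a) := Nat.mul_pos ha (by omega)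
    have hposR : (0 : ℝ) < ((a * (p / a) : ℕ) : ℝ) ^ n := by
      have : (0 : ℝ) < ((a * (p / a) : ℕ) : ℝ) := by exact_mod_cast hpos
      positivity
    have hpow : ((a * (p / a) : ℕ) : ℝ) ^ n ≤ (p : ℝ) ^ n :=
      pow_le_pow_left₀ (by positivity) (by exact_mod_cast hle) n
    have h3 : (w (a * (p / a)) : ℝ) * (n.factorial : ℝ) / (p : ℝ) ^ n ≤
        (w (a * (p / a)) : ℝ) * (n.factorial : ℝ) / ((a * (p / a) : ℕ) : ℝ) ^ n :=
      div_le_div_of_nonneg_left (by positivity) hposR hpow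
    have h4 := (abs_le.mp hp).2
    linarith

end Numeric

section Main

variable (k : Type u) [Field k] {X : Scheme.{u}} [X.Over (Spec (CommRingCat.of k))]
  [IsProper (X ↘ (Spec (CommRingCat.of k)))] [IsIntegral X]

/-- consecutive powers have close cohomology -/
theorem exists_step_bound_pow (hproj : ∃ A : X.Modules, CohB1.IsAmple A)
    (n : ℕ) (hn : topologicalKrullDim X = n) (L : X.Modules) (hL : PicF.IsInvertible L) (i : ℕ) :
    ∃ C' : ℕ, (n = 0 → C' = 0) ∧ ∀ p : ℕ,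
      Module.finrank k (Coh.HH X (CohB1.tensorPow L (p + 1)) i) ≤
        Module.finrank k (Coh.HH X (CohB1.tensorPow L p) i) + C' * (p + 1) ^ (n - 1) ∧
      Module.finrank k (Coh.HH X (CohB1.tensorPow L p) i) ≤
        Module.finrank k (Coh.HH X (CohB1.tensorPow L (p + 1)) i) + C' * (p + 1) ^ (n - 1) := by
  obtain ⟨H, hH⟩ := hproj
  obtain ⟨L', hL', -, ⟨e⟩⟩ := Groth.Agent.Lead.InvDual.exists_inverse L hL
  obtain ⟨C', hC0, hstep⟩ := twoSided_step k (N := fun _ : Fin 1 => L) (fun _ => hL) H hH n hn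
    L L' hL hL' e i
  exact ⟨C', hC0, fun p => hstep p _ (Reach.tensorPow_gen (N := fun _ : Fin 1 => L) 0 p)⟩

/-- S17621 -/
theorem main17621 (hproj : ∃ A : X.Modules, CohB1.IsAmple A)
    (n : ℕ) (hn : topologicalKrullDim X = n)
    (L : X.Modules) (hL : PicF.IsInvertible L) (a : ℕ) (ha : 1 ≤ a) (i : ℕ) :
    W4c5asymptcohfn.hhat k X n i (CohB1.tensorPow L a) =
      (a : ℝ) ^ n * W4c5asymptcohfn.hhat k X n i L := by
  obtain ⟨C', hC0, hstep⟩ := exists_step_bound_pow k hproj n hn L hL i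
  unfold W4c5asymptcohfn.hhat
  have h1 : (fun m : ℕ => (Module.finrank k (Coh.HH X
      (CohB1.tensorPow (CohB1.tensorPow L a) m) i) : ℝ) * (n.factorial : ℝ) / (m : ℝ) ^ n) =
      fun m : ℕ => ((fun p => Module.finrank k (Coh.HH X (CohB1.tensorPow L p) i)) (a * m) : ℝ) *
        (n.factorial : ℝ) / (m : ℝ) ^ n := by
    funext m
    rw [finrank_hi_iso k (powMulIso L hL a m) i]
  rw [h1]
  exact limsup_homogeneous n a C' ha hC0
    (fun p => Module.finrank k (Coh.HH X (CohB1.tensorPow L p) i)) hstep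

end Main

end Groth.Agent.Helper4.SN
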