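import Mathlib
import Groth.Agent.Helper4.SN167
import Groth.Agent.Helper4.SN58
import Groth.Agent.Helper4.SN50
import Groth.Agent.Helper4.EpiStalk
import Groth.Agent.Helper1.Dev25
import Groth.Agent.Helper1.Dev27
import Groth.Agent.Helper1.SerreFin1
import Groth.Agent.Lead.PerfLib5

/-!
# Asymptotic cohomology of a coherent module is its rank times that of the line bundle (S17627)
-/

set_option autoImplicit false
set_option linter.unusedSectionVars false
set_option linter.style.haveILetI false
universe u

open CategoryTheory CategoryTheory.Limits AlgebraicGeometry Opposite TopologicalSpace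

namespace Groth.Agent.Helper4.SN

open Groth.Agent.Helper4.NApx82 Groth.Agent.Helper4.StalkDict Groth.Agent.Lead.Ref1B
  Groth.Agent.Lead.StalkNhd Groth.Agent.Helper4.TensorInv Groth.Agent.Helper4.TensorAssoc
  Groth.Agent.Helper1.Dev

section Bicone

variable {X : Scheme.{u}}

theorem stalkLin_add {F G : X.Modules} (φ ψ : F ⟶ G) (x : X) (t : F.presheaf.stalk x) :
    stalkLin (φ + ψ) x t = stalkLin φ x t + stalkLin ψ x t := by
  obtain ⟨V, hxV, m, rfl⟩ := TopCat.Presheaf.exists_germ_eq _ t
  rw [Groth.Agent.Helper4.StalkExact.stalkLin_germ, Groth.Agent.Helper4.StalkExact.stalkLin_germ,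
    Groth.Agent.Helper4.StalkExact.stalkLin_germ, ← map_add]
  rfl

theorem stalkLin_sum {F G : X.Modules} {ι : Type*} (s : Finset ι) (φ : ι → (F ⟶ G)) (x : X)
    (t : F.presheaf.stalk x) :
    stalkLin (∑ j ∈ s, φ j) x t = ∑ j ∈ s, stalkLin (φ j) x t := by
  classical
  induction s using Finset.induction_on with
  | empty => rw [Finset.sum_empty, Finset.sum_empty]; exact stalkLin_zero x t
  | insert a s ha ih => rw [Finset.sum_insert ha, Finset.sum_insert ha, stalkLin_add, ih]

/-- the stalk of a module with a finite biproduct decomposition into copies of `I` -/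
noncomputable def stalkBiconeEquiv (r : ℕ) {E I : X.Modules} (ι : Fin r → (I ⟶ E))
    (π : Fin r → (E ⟶ I)) (h1 : ∀ j l, ι j ≫ π l = if j = l then 𝟙 I else 0)
    (h2 : ∑ j, π j ≫ ι j = 𝟙 E) (x : X) :
    E.presheaf.stalk x ≃ₗ[X.presheaf.stalk x] (Fin r → I.presheaf.stalk x) where
  toFun t := fun j => stalkLin (π j) x t
  map_add' a b := by funext j; simp
  map_smul' c a := by funext j; simp
  invFun y := ∑ j, stalkLin (ι j) x (y j)
  left_inv t := by
    simp only
    have : ∀ j, stalkLin (ι j) x (stalkLin (π j) x t) = stalkLin (π j ≫ ι j) x t :=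
      fun j => (stalkLin_comp _ _ x t).symm
    simp_rw [this]
    rw [← stalkLin_sum, h2]
    exact Groth.Agent.Helper1.Dev.stalkLin_id E x t
  right_inv y := by
    funext l
    simp only [map_sum]
    have : ∀ j, stalkLin (π l) x (stalkLin (ι j) x (y j)) = if j = l then y j else 0 := by
      intro j
      rw [← stalkLin_comp, h1]
      split_ifs with h
      · exact Groth.Agent.Helper1.Dev.stalkLin_id I x _
      · exact stalkLin_zero x _
    simp_rw [this]
    rw [Finset.sum_ite_eq' Finset.univ l]
    simp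

variable (k : Type u) [Field k] [X.Over (Spec (CommRingCat.of k))]

theorem HHlin_zero' {F G : X.Modules} (i : ℕ) : Canon.HHlin k (0 : F ⟶ G) i = 0 := by
  have h := HHlin_smul k (0 : k) (0 : F ⟶ G) i
  rw [zero_smul, zero_smul] at h
  exact h

theorem HHlin_sum {F G : X.Modules} {ι : Type*} (s : Finset ι) (φ : ι → (F ⟶ G)) (i : ℕ) :
    Canon.HHlin k (∑ j ∈ s, φ j) i = ∑ j ∈ s, Canon.HHlin k (φ j) i := by
  classical
  induction s using Finset.induction_on with
  | empty => rw [Finset.sum_empty, Finset.sum_empty]; exact HHlin_zero' k i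
  | insert a s ha ih => rw [Finset.sum_insert ha, Finset.sum_insert ha, HHlin_add, ih]

/-- the cohomology of a module with a finite biproduct decomposition into copies of `I` -/
noncomputable def hhBiconeEquiv (r : ℕ) {E I : X.Modules} (ι : Fin r → (I ⟶ E))
    (π : Fin r → (E ⟶ I)) (h1 : ∀ j l, ι j ≫ π l = if j = l then 𝟙 I else 0)
    (h2 : ∑ j, π j ≫ ι j = 𝟙 E) (i : ℕ) :
    Coh.HH X E i ≃ₗ[k] (Fin r → Coh.HH X I i) where
  toFun t := fun j => Canon.HHlin k (π j) i t
  map_add' a b := by funext j; simp
  map_smul' c a := by funext j; simp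
  invFun y := ∑ j, Canon.HHlin k (ι j) i (y j)
  left_inv t := by
    simp only
    have : ∀ j, Canon.HHlin k (ι j) i (Canon.HHlin k (π j) i t) =
        Canon.HHlin k (π j ≫ ι j) i t := fun j => by rw [HHlin_comp]; rfl
    simp_rw [this]
    rw [← LinearMap.sum_apply, ← HHlin_sum, h2, HHlin_id]
    rfl
  right_inv y := by
    funext l
    simp only [map_sum]
    have : ∀ j, Canon.HHlin k (π l) i (Canon.HHlin k (ι j) i (y j)) =
        if j = l then y j else 0 := by
      intro j
      have h3 : Canon.HHlin k (π l) i (Canon.HHlin k (ι j) i (y j)) =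
          Canon.HHlin k (ι j ≫ π l) i (y j) := by rw [HHlin_comp]; rfl
      rw [h3, h1]
      split_ifs with h
      · rw [HHlin_id]; rfl
      · rw [HHlin_zero']; rfl
    simp_rw [this]
    rw [Finset.sum_ite_eq' Finset.univ l]
    simp

end Bicone

section Coprod

variable {X : Scheme.{u}} (I : X.Modules) (r : ℕ)

/-- projections of a finite coproduct of copies of `I` -/
noncomputable def coprodπ (l : Fin r) : (∐ fun _ : Fin r => I) ⟶ I :=
  Sigma.desc (fun j => if j = l then 𝟙 I else 0)

theorem coprod_ι_π (j l : Fin r) :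
    Sigma.ι (fun _ : Fin r => I) j ≫ coprodπ I r l = if j = l then 𝟙 I else 0 := by
  unfold coprodπ
  rw [Sigma.ι_desc]

theorem coprod_total :
    ∑ j, coprodπ I r j ≫ Sigma.ι (fun _ : Fin r => I) j = 𝟙 _ := by
  apply Sigma.hom_ext
  intro l
  rw [Preadditive.comp_sum, Category.comp_id]
  have : ∀ j, Sigma.ι (fun _ : Fin r => I) l ≫ coprodπ I r j ≫ Sigma.ι (fun _ : Fin r => I) j =
      if j = l then Sigma.ι (fun _ : Fin r => I) l else 0 := by
    intro j
    rw [← Category.assoc, coprod_ι_π]
    by_cases h : l = j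
    · subst h
      simp
    · rw [if_neg h, if_neg (Ne.symm h), zero_comp]
  simp_rw [this]
  rw [Finset.sum_ite_eq' Finset.univ l]
  simp

end Coprod

section Main

variable (k : Type u) [Field k] {X : Scheme.{u}} [X.Over (Spec (CommRingCat.of k))]
  [IsProper (X ↘ (Spec (CommRingCat.of k)))] [IsIntegral X]

/-- twisted cohomology of a finite coproduct of copies of `I` -/
theorem finrank_hi_coprod_twist (I : X.Modules) (hI : Coh.IsCoh I) (r : ℕ) (G : X.Modules)
    (hG : PicF.IsInvertible G) (i : ℕ) :
    Module.finrank k (Coh.HH X (CohB1.tensorMod (∐ fun _ : Fin r => I) G) i) =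
      r * Module.finrank k (Coh.HH X (CohB1.tensorMod I G) i) := by
  haveI : Module.Finite k (Coh.HH X (CohB1.tensorMod I G) i) :=
    Groth.Agent.S0002.result k X _ (isCoh_twist k hI hG) i
  haveI : ∀ _ : Fin r, Module.Finite k (Coh.HH X ((DCoh.tensorRightMod G).obj I) i) :=
    fun _ => Groth.Agent.S0002.result k X _ (isCoh_twist k hI hG) i
  have e := hhBiconeEquiv k r
    (E := (DCoh.tensorRightMod G).obj (∐ fun _ : Fin r => I)) (I := (DCoh.tensorRightMod G).obj I)
    (fun j => (DCoh.tensorRightMod G).map (Sigma.ι (fun _ : Fin r => I) j))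
    (fun j => (DCoh.tensorRightMod G).map (coprodπ I r j))
    (fun j l => by
      rw [← Functor.map_comp, coprod_ι_π]
      split_ifs
      · exact CategoryTheory.Functor.map_id _ _
      · exact CategoryTheory.Functor.map_zero _ _ _)
    (by
      simp_rw [← Functor.map_comp]
      rw [← CategoryTheory.Functor.map_sum, coprod_total]
      exact CategoryTheory.Functor.map_id _ _) i
  have h := e.finrank_eq
  rw [Module.finrank_pi_fintype] at h
  simp only [Finset.sum_const, Finset.card_univ, Fintype.card_fin, smul_eq_mul] at h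
  exact h

/-- a short exact sequence whose quotient vanishes at the generic point -/
theorem hhatF_eq_of_generic_quotient (hproj : ∃ A : X.Modules, CohB1.IsAmple A)
    (n : ℕ) (hn : topologicalKrullDim X = n) (S : ShortComplex X.Modules) (hS : S.ShortExact)
    (hA : Coh.IsCoh S.X₁) (hB : Coh.IsCoh S.X₂) (hC : Coh.IsCoh S.X₃)
    (hg : genericPoint X ∉ CohB1.support S.X₃)
    (L : X.Modules) (hL : PicF.IsInvertible L) (i : ℕ) :
    W4c5asymptcohfn.hhatF k X n i S.X₁ L = W4c5asymptcohfn.hhatF k X n i S.X₂ L := by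
  obtain ⟨H, hH⟩ := hproj
  have hN : ∀ j : Fin 1, PicF.IsInvertible ((fun _ : Fin 1 => L) j) := fun _ => hL
  unfold W4c5asymptcohfn.hhatF W4c5asymptcohfn.cohSeq
  refine limsup_eq_of_abs_sub_le _ _ (fun m => by positivity) (fun m => by positivity) ?_
  cases i with
  | zero =>
    obtain ⟨C₁, hC₁0, hC₁⟩ := bound_small k hN H hH n hn S.X₃ hC hg 0
    refine eventually_abs_sub_le n _ _ C₁ hC₁0 (fun m => ?_)
    have hLm := isInvertible_tensorPow hL m
    have h1 := finrank_hi_twist_mid_le k S hS hA hB hC _ hLm 0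
    have h2 := finrank_h0_twist_left_le k S hS hB _ hLm
    have h3 := hC₁ m _ (Reach.tensorPow_gen (N := fun _ : Fin 1 => L) 0 m)
    constructor <;> omega
  | succ i =>
    obtain ⟨C₁, hC₁0, hC₁⟩ := bound_small k hN H hH n hn S.X₃ hC hg (i + 1)
    obtain ⟨C₂, hC₂0, hC₂⟩ := bound_small k hN H hH n hn S.X₃ hC hg i
    refine eventually_abs_sub_le n _ _ (C₁ + C₂) (fun h => by rw [hC₁0 h, hC₂0 h])
      (fun m => ?_)
    have hLm := isInvertible_tensorPow hL m
    have h1 := finrank_hi_twist_mid_le k S hS hA hB hC _ hLm (i + 1)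
    have h2 := finrank_hi_twist_left_le k S hS hA hB hC _ hLm i
    have h3 := hC₁ m _ (Reach.tensorPow_gen (N := fun _ : Fin 1 => L) 0 m)
    have h4 := hC₂ m _ (Reach.tensorPow_gen (N := fun _ : Fin 1 => L) 0 m)
    have h5 : (C₁ + C₂) * (m + 1) ^ (n - 1) =
        C₁ * (m + 1) ^ (n - 1) + C₂ * (m + 1) ^ (n - 1) := by ring
    constructor <;> omega

/-- the cokernel of a generically surjective map vanishes at the generic point -/
theorem genericPoint_notMem_support_cokernel {A B : X.Modules} (φ : A ⟶ B)
    (h : Function.Surjective (stalkLin φ (genericPoint X))) :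
    genericPoint X ∉ CohB1.support (cokernel φ) := by
  intro hmem
  apply hmem
  refine ⟨fun a b => ?_⟩
  have key : ∀ t : (cokernel φ).presheaf.stalk (genericPoint X), t = 0 := by
    intro t
    obtain ⟨b, rfl⟩ :=
      Groth.Agent.Helper4.EpiStalk.stalkLin_surjective_of_epi (cokernel.π φ) (genericPoint X) t
    obtain ⟨a, rfl⟩ := h b
    rw [← stalkLin_comp, cokernel.condition]
    exact stalkLin_zero _ a
  rw [key a, key b]

/-- the generic rank of a finite coproduct of copies of a nonzero ideal -/
theorem finrank_stalk_coprod_ideal (I : X.Modules) (ι : I ⟶ Coh.structureModule X)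
    (hb : Function.Bijective (stalkLin ι (genericPoint X))) (r : ℕ) :
    Module.finrank (X.presheaf.stalk (genericPoint X))
      ((∐ fun _ : Fin r => I).presheaf.stalk (genericPoint X)) = r := by
  letI : Field (X.presheaf.stalk (genericPoint X)) :=
    inferInstanceAs (Field X.functionField)
  have hO : Module.finrank (X.presheaf.stalk (genericPoint X))
      ((Coh.structureModule X).presheaf.stalk (genericPoint X)) = 1 := by
    rw [← isSimpleModule_iff_finrank_eq_one]
    exact isSimpleModule_stalk_structureModule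
  have e₃ := LinearEquiv.ofBijective (stalkLin ι (genericPoint X)) hb
  have hI1 : Module.finrank (X.presheaf.stalk (genericPoint X))
      (I.presheaf.stalk (genericPoint X)) = 1 := by
    rw [e₃.finrank_eq, hO]
  haveI : Module.Finite (X.presheaf.stalk (genericPoint X))
      (I.presheaf.stalk (genericPoint X)) :=
    Module.finite_of_finrank_pos (by rw [hI1]; exact one_pos)
  have e₂ := stalkBiconeEquiv r (fun j => Sigma.ι (fun _ : Fin r => I) j) (coprodπ I r)
    (coprod_ι_π I r) (coprod_total I r) (genericPoint X)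
  rw [e₂.finrank_eq, Module.finrank_pi_fintype]
  simp only [hI1, Finset.sum_const, Finset.card_univ, Fintype.card_fin, smul_eq_mul, mul_one]

/-- S17627 -/
theorem main17627 (hproj : ∃ A : X.Modules, CohB1.IsAmple A)
    (n : ℕ) (hn : topologicalKrullDim X = n)
    (F : X.Modules) (hF : Coh.IsCoh F) (r : ℕ)
    (hr : Module.finrank (X.presheaf.stalk (genericPoint X))
      (F.presheaf.stalk (genericPoint X)) = r)
    (L : X.Modules) (hL : PicF.IsInvertible L) (i : ℕ) :
    W4c5asymptcohfn.hhatF k X n i F L = (r : ℝ) * W4c5asymptcohfn.hhat k X n i L := by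
  haveI := Groth.Agent.Helper4.NApx82.isNoetherian_of_proper k X
  obtain ⟨r', I, ι, ψ, hI, hιm, hιb, hψm, hψb⟩ := exists_ideal_pow_mono F hF
  haveI := hιm
  haveI := hψm
  -- the rank
  have hrr : r' = r := by
    rw [← hr, ← (LinearEquiv.ofBijective (stalkLin ψ (genericPoint X)) hψb).finrank_eq]
    exact (finrank_stalk_coprod_ideal I ι hιb r').symm
  subst hrr
  have hO : Coh.IsCoh (Coh.structureModule X) := isCoh_structureModule X
  have hcop : Coh.IsCoh (∐ fun _ : Fin r' => I) :=
    Groth.Agent.Helper1.SerreFin.isCoh_sigma_fin _ (fun _ => hI)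
  -- step 1: `F` and the coproduct
  have h1 : W4c5asymptcohfn.hhatF k X n i (∐ fun _ : Fin r' => I) L =
      W4c5asymptcohfn.hhatF k X n i F L :=
    hhatF_eq_of_generic_quotient k hproj n hn (cokSC ψ) (cokSC_shortExact ψ) hcop hF
      (Groth.Agent.Lead.PerfLib.isCoh_cokernel hcop hF ψ)
      (genericPoint_notMem_support_cokernel ψ hψb.2) L hL i
  -- step 2: the ideal and the structure sheaf
  have h2 : W4c5asymptcohfn.hhatF k X n i I L =
      W4c5asymptcohfn.hhatF k X n i (Coh.structureModule X) L :=
    hhatF_eq_of_generic_quotient k hproj n hn (cokSC ι) (cokSC_shortExact ι) hI hO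
      (Groth.Agent.Lead.PerfLib.isCoh_cokernel hI hO ι)
      (genericPoint_notMem_support_cokernel ι hιb.2) L hL i
  -- step 3: the structure sheaf
  have h3 : W4c5asymptcohfn.hhatF k X n i (Coh.structureModule X) L =
      W4c5asymptcohfn.hhat k X n i L := by
    unfold W4c5asymptcohfn.hhatF W4c5asymptcohfn.cohSeq W4c5asymptcohfn.hhat
    congr 1
    funext m
    rw [finrank_hi_iso k (unitorL _) i]
  -- step 4: the coproduct
  have h4 : W4c5asymptcohfn.hhatF k X n i (∐ fun _ : Fin r' => I) L =
      (r' : ℝ) * W4c5asymptcohfn.hhatF k X n i I L := by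
    unfold W4c5asymptcohfn.hhatF
    have hseq : W4c5asymptcohfn.cohSeq k X n i (∐ fun _ : Fin r' => I) L =
        fun m => (r' : ℝ) * W4c5asymptcohfn.cohSeq k X n i I L m := by
      funext m
      unfold W4c5asymptcohfn.cohSeq
      rw [finrank_hi_coprod_twist k I hI r' _ (isInvertible_tensorPow hL m) i]
      push_cast
      ring
    rw [hseq]
    rcases Nat.eq_zero_or_pos r' with h0 | hpos
    · subst h0
      simp
    · exact limsup_const_mul_of_pos _ _ (by exact_mod_cast hpos)
  rw [← h1, h4, h2, h3]

end Main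

end Groth.Agent.Helper4.SN
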