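import Mathlib
import Groth.Agent.Helper4.SN176
import Groth.Agent.Helper1.AffLin

/-!
# The fibre over a maximal ideal: dimension and `H¹(O)`
-/

set_option autoImplicit false
set_option linter.style.haveILetI false

namespace Groth.Agent.Helper4.SN

open CategoryTheory Limits AlgebraicGeometry Opposite TopologicalSpace
open Groth.Agent.Helper1.Form Groth.Agent.Helper1.PicLoc

universe u

section FibreDim

theorem zeroLocus_eq_singleton_of_isMaximal {A : Type*} [CommRing A] (y : PrimeSpectrum A)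
    (h : y.asIdeal.IsMaximal) : PrimeSpectrum.zeroLocus (y.asIdeal : Set A) = {y} := by
  have hcl : IsClosed ({y} : Set (PrimeSpectrum A)) :=
    (PrimeSpectrum.isClosed_singleton_iff_isMaximal y).2 h
  have h1 := PrimeSpectrum.closure_singleton y
  rw [hcl.closure_eq] at h1
  exact h1.symm

variable {A : Type u} [CommRing A] {X : Scheme.{u}} (f : X ⟶ Spec (CommRingCat.of A))
  (m : Ideal A) [hm : m.IsMaximal]
  {X₀ : Scheme.{u}} {i : X₀ ⟶ X} {f₀ : X₀ ⟶ Spec (CommRingCat.of (A ⧸ m))}
  (hsq : IsPullback i f₀ f (Spec.map (CommRingCat.ofHom (Ideal.Quotient.mk m))))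

include hsq in
theorem isClosedImmersion_of_fibre : IsClosedImmersion i := by
  haveI : IsClosedImmersion (Spec.map (CommRingCat.ofHom (Ideal.Quotient.mk m))) :=
    IsClosedImmersion.spec_of_surjective _ Ideal.Quotient.mk_surjective
  exact Groth.Agent.Lead.ThickBC.isClosedImmersion_of_isPullback hsq

include hsq in
theorem range_fibre (y : ↥(Spec (CommRingCat.of A))) (hy : y.asIdeal = m) :
    Set.range i = f ⁻¹' {y} := by
  have key := zeroLocus_eq_singleton_of_isMaximal (A := A) y (hy ▸ hm)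
  rw [hy] at key
  rw [range_of_isPullback hsq, Groth.Agent.Helper1.HensCouple.range_specMap_mk, key]
  rfl

include hsq in
theorem dim_fibre_eq (y : ↥(Spec (CommRingCat.of A))) (hy : y.asIdeal = m) :
    topologicalKrullDim X₀ = topologicalKrullDim ↥(f.fiber y) := by
  haveI := isClosedImmersion_of_fibre f m hsq
  let e : X₀ ≃ₜ ↥(f.fiber y) :=
    (i.isEmbedding.toHomeomorph.trans (Homeomorph.setCongr (range_fibre f m hsq y hy))).trans
      (f.fiberHomeo y).symm
  exact IsHomeomorph.topologicalKrullDim_eq e e.isHomeomorph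

end FibreDim


section FibreH1

/-- cohomology of a pushforward along an affine morphism, as a bare equivalence -/
theorem nonempty_HH_equiv_push (A : Type u) [CommRing A] {X : Scheme.{u}}
    [X.Over (Spec (CommRingCat.of A))] {X₀ : Scheme.{u}} (i : X₀ ⟶ X) [IsAffineHom i]
    (G : X₀.Modules) [Coh.IsQCoh G] (q : ℕ) :
    Nonempty (Coh.HH X₀ G q ≃ Coh.HH X ((Scheme.Modules.pushforward i).obj G) q) := by
  letI : X₀.Over (Spec (CommRingCat.of A)) := ⟨i ≫ (X ↘ Spec (CommRingCat.of A))⟩
  obtain ⟨e⟩ := Groth.Agent.Helper1.AffLin.nonempty_HH_linearEquiv i A rfl G q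
  exact ⟨e.toEquiv⟩

variable (A : Type u) [CommRing A] {X : Scheme.{u}} [X.Over (Spec (CommRingCat.of A))]
  (m : Ideal A) [hm : m.IsMaximal]
  {X₀ : Scheme.{u}} {i : X₀ ⟶ X} {f₀ : X₀ ⟶ Spec (CommRingCat.of (A ⧸ m))}
  (hsq : IsPullback i f₀ (X ↘ Spec (CommRingCat.of A))
    (Spec.map (CommRingCat.ofHom (Ideal.Quotient.mk m))))

include hsq in
/-- `H^q(X₀, O) = 0` if `H^q(X, O) = 0` and `H^{q+1}` vanishes on coherent modules -/
theorem subsingleton_HH_fibre_structure [IsLocallyNoetherian X] (q : ℕ)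
    (h1 : Subsingleton (Coh.HH X (Coh.structureModule X) q))
    (hvan : ∀ G : X.Modules, Coh.IsCoh G → Subsingleton (Coh.HH X G (q + 1))) :
    Subsingleton (Coh.HH X₀ (Coh.structureModule X₀) q) := by
  haveI : IsClosedImmersion i := isClosedImmersion_of_fibre _ m hsq
  have hq := Groth.Agent.Helper1.QuotPush.isQuot_unitToPush m hsq
  haveI := hq.epi
  have hcO : Coh.IsCoh (Coh.structureModule X) := Groth.Agent.Helper1.Dev.isCoh_structureModule X
  have hcO₀ : Coh.IsCoh (Coh.structureModule X₀) :=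
    Groth.Agent.Helper1.Dev.isCoh_structureModule X₀
  haveI : Coh.IsQCoh (Coh.structureModule X₀) := hcO₀.1
  have hcP : Coh.IsCoh ((Scheme.Modules.pushforward i).obj (Coh.structureModule X₀)) :=
    Groth.Agent.Helper1.Dev.isCoh_push i _ hcO₀
  have hs := surjective_HHlin_of_epi A (Groth.Agent.Helper1.ZarIso.unitToPush i) q
    (hvan _ (Groth.Agent.Lead.PerfLib.isCoh_kernel hcO hcP _))
  haveI : Subsingleton (Coh.HH X ((Scheme.Modules.pushforward i).obj (Coh.structureModule X₀)) q) :=
    hs.subsingleton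
  obtain ⟨e⟩ := nonempty_HH_equiv_push A i (Coh.structureModule X₀) q
  exact e.subsingleton

include hsq in
/-- `H^q(X, L) = 𝔪 H^q(X, L)` if `H^q(X₀, L|_{X₀}) = 0` and `H^{q+1}` vanishes on coherent
modules -/
theorem mem_smul_top_of_fibre [IsNoetherianRing A] [IsLocallyNoetherian X] (L : X.Modules)
    (hL : Coh.IsCoh L) (q : ℕ)
    (h0 : Subsingleton (Coh.HH X₀ ((Scheme.Modules.pullback i).obj L) q))
    (hvan : ∀ G : X.Modules, Coh.IsCoh G → Subsingleton (Coh.HH X G (q + 1)))
    (x : Coh.HH X L q) : x ∈ m • (⊤ : Submodule A (Coh.HH X L q)) := by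
  haveI : IsClosedImmersion i := isClosedImmersion_of_fibre _ m hsq
  haveI : L.IsQuasicoherent := hL.1
  have hfg : m.FG := (isNoetherianRing_iff_ideal_fg A).1 inferInstance m
  obtain ⟨t, a, ha⟩ := Submodule.fg_iff_exists_fin_generating_family.1 hfg
  have hq2 := isQuot_unitN m hsq L
  have hcP : Coh.IsCoh ((Scheme.Modules.pullback i).obj L) :=
    Groth.Agent.Helper1.Dev.isCoh_pullback i L hL
  haveI : Coh.IsQCoh ((Scheme.Modules.pullback i).obj L) := hcP.1
  have hcN : Coh.IsCoh ((Scheme.Modules.pushforward i).obj ((Scheme.Modules.pullback i).obj L)) :=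
    Groth.Agent.Helper1.Dev.isCoh_push i _ hcP
  obtain ⟨e⟩ := nonempty_HH_equiv_push A i ((Scheme.Modules.pullback i).obj L) q
  have hNq : Subsingleton
      (Coh.HH X ((Scheme.Modules.pushforward i).obj ((Scheme.Modules.pullback i).obj L)) q) :=
    e.symm.subsingleton
  exact mem_smul_top_of_isQuot A a m ha hL hcN hq2 q hNq hvan x

end FibreH1

end Groth.Agent.Helper4.SN
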