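import Mathlib
import Groth.Agent.Helper4.SN177

/-!
# Transfer of relative nefness to the fibre over a maximal ideal
-/

set_option autoImplicit false
set_option linter.style.haveILetI false

namespace Groth.Agent.Helper4.SN

open CategoryTheory Limits AlgebraicGeometry Opposite TopologicalSpace

universe u

section DegIso

variable (k : Type u) [Field k] {C C' : Scheme.{u}} [C.Over (Spec (CommRingCat.of k))]
  [C'.Over (Spec (CommRingCat.of k))] [IsProper (C ↘ Spec (CommRingCat.of k))]

/-- degrees are invariant under isomorphisms of schemes over `k` -/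
theorem deg_pullback_of_isIso (e : C' ⟶ C) [IsIso e]
    (he : e ≫ (C ↘ Spec (CommRingCat.of k)) = C' ↘ Spec (CommRingCat.of k)) (n : ℕ)
    (E : C.Modules) (hE : FlatMod.IsFinLocFreeOfRank n E) :
    Curv2.deg k C' ((Scheme.Modules.pullback e).obj E) n = Curv2.deg k C E n := by
  haveI := isIso_unitToPush e
  rw [deg_pullback_eq_rkDefect k e he n E hE, deg_eq_rkDefect k n E]
  exact (rkDefect_iso k n E (asIso (ClSub.unitToPush e))).symm

end DegIso

section NefTransfer

variable {A : Type u} [CommRing A] {X : Scheme.{u}} (f : X ⟶ Spec (CommRingCat.of A))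
  [IsProper f] (m : Ideal A) [hm : m.IsMaximal]
  {X₀ : Scheme.{u}} {i : X₀ ⟶ X} {f₀ : X₀ ⟶ Spec (CommRingCat.of (A ⧸ m))}
  (hsq : IsPullback i f₀ f (Spec.map (CommRingCat.ofHom (Ideal.Quotient.mk m))))

include hsq in
theorem isProper_of_fibre : IsProper f₀ :=
  MorphismProperty.of_isPullback (P := @IsProper) hsq inferInstance

include hsq in
theorem nef_fibre (L : X.Modules) (hL : PicF.IsInvertible L)
    (hnef : ∀ (K : Type u) [Field K] (i' : A →+* K) (J : X.IdealSheafData)
      (t : J.subscheme ⟶ Spec (CommRingCat.of K)),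
      AlgebraicGeometry.IsIntegral J.subscheme → topologicalKrullDim ↥J.subscheme = 1 →
      t ≫ Spec.map (CommRingCat.ofHom i') = J.subschemeι ≫ f →
      0 ≤ @Curv2.deg K _ J.subscheme ⟨t⟩ ((Scheme.Modules.pullback J.subschemeι).obj L) 1)
    (J' : X₀.IdealSheafData) (hint : AlgebraicGeometry.IsIntegral J'.subscheme)
    (hdim : topologicalKrullDim ↥J'.subscheme = 1) :
    0 ≤ @Curv2.deg (A ⧸ m) (Ideal.Quotient.field m) J'.subscheme ⟨J'.subschemeι ≫ f₀⟩
      ((Scheme.Modules.pullback J'.subschemeι).obj ((Scheme.Modules.pullback i).obj L)) 1 := by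
  letI : Field (A ⧸ m) := Ideal.Quotient.field m
  haveI hci : IsClosedImmersion i := isClosedImmersion_of_fibre f m hsq
  haveI : IsProper f₀ := isProper_of_fibre f m hsq
  let h : J'.subscheme ⟶ X := J'.subschemeι ≫ i
  haveI : IsClosedImmersion h := inferInstance
  let J : X.IdealSheafData := h.ker
  let e : J'.subscheme ≅ J.subscheme := asIso h.toImage
  have he : e.hom ≫ J.subschemeι = h := h.toImage_imageι
  let t : J.subscheme ⟶ Spec (CommRingCat.of (A ⧸ m)) := e.inv ≫ J'.subschemeι ≫ f₀
  have hint' : AlgebraicGeometry.IsIntegral J.subscheme := by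
    haveI := hint
    haveI : Nonempty J.subscheme := ⟨e.hom (Nonempty.some inferInstance)⟩
    exact isIntegral_of_isOpenImmersion e.inv
  have hdim' : topologicalKrullDim ↥J.subscheme = 1 := by
    rw [← hdim]
    exact (IsHomeomorph.topologicalKrullDim_eq e.hom e.hom.homeomorph.isHomeomorph).symm
  have hcomp : t ≫ Spec.map (CommRingCat.ofHom (Ideal.Quotient.mk m)) = J.subschemeι ≫ f := by
    show (e.inv ≫ J'.subschemeι ≫ f₀) ≫ _ = _
    rw [Category.assoc, Category.assoc, ← hsq.w, ← Category.assoc J'.subschemeι]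
    show e.inv ≫ h ≫ f = _
    rw [← he, Category.assoc, Iso.inv_hom_id_assoc]
  have h0 := @hnef (A ⧸ m) (Ideal.Quotient.field m) (Ideal.Quotient.mk m) J t hint' hdim' hcomp
  letI : J.subscheme.Over (Spec (CommRingCat.of (A ⧸ m))) := ⟨t⟩
  letI : J'.subscheme.Over (Spec (CommRingCat.of (A ⧸ m))) := ⟨J'.subschemeι ≫ f₀⟩
  haveI : IsProper (J.subscheme ↘ Spec (CommRingCat.of (A ⧸ m))) := by
    show IsProper (e.inv ≫ J'.subschemeι ≫ f₀)
    infer_instance
  have hE : FlatMod.IsFinLocFreeOfRank 1 ((Scheme.Modules.pullback J.subschemeι).obj L) :=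
    Groth.Agent.Helper4.QAffSec.isFinLocFreeOfRank_one_of_isInvertible _
      (Groth.Agent.Helper4.PullSec.isInvertible_pullback J.subschemeι hL)
  have he' : e.hom ≫ (J.subscheme ↘ Spec (CommRingCat.of (A ⧸ m))) =
      J'.subscheme ↘ Spec (CommRingCat.of (A ⧸ m)) := by
    show e.hom ≫ e.inv ≫ J'.subschemeι ≫ f₀ = J'.subschemeι ≫ f₀
    rw [Iso.hom_inv_id_assoc]
  have key := deg_pullback_of_isIso (A ⧸ m) e.hom he' 1 _ hE
  let ε : (Scheme.Modules.pullback e.hom).obj ((Scheme.Modules.pullback J.subschemeι).obj L) ≅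
      (Scheme.Modules.pullback J'.subschemeι).obj ((Scheme.Modules.pullback i).obj L) :=
    (Scheme.Modules.pullbackComp e.hom J.subschemeι).app L ≪≫
      (Scheme.Modules.pullbackCongr he).app L ≪≫
      ((Scheme.Modules.pullbackComp J'.subschemeι i).app L).symm
  rw [← deg_iso (A ⧸ m) ε 1, key]
  exact h0

end NefTransfer

end Groth.Agent.Helper4.SN
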