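import Mathlib
import Groth.Agent.Helper4.SN178

/-!
# Relatively nef invertible modules on proper schemes with one-dimensional fibres and `H¹(O) = 0`
-/

set_option autoImplicit false
set_option linter.style.haveILetI false

namespace Groth.Agent.Helper4.SN

open CategoryTheory Limits AlgebraicGeometry Opposite TopologicalSpace
open Groth.Agent.Helper1.Form Groth.Agent.Helper1.PicLoc Groth.Agent.Helper4.PullSec

universe u

section Lift

variable (A : Type u) [CommRing A] [IsNoetherianRing A] {X : Scheme.{u}}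
  [X.Over (Spec (CommRingCat.of A))]
  (m : Ideal A) [hm : m.IsMaximal]
  {X₀ : Scheme.{u}} {i : X₀ ⟶ X} {f₀ : X₀ ⟶ Spec (CommRingCat.of (A ⧸ m))}
  (hsq : IsPullback i f₀ (X ↘ Spec (CommRingCat.of A))
    (Spec.map (CommRingCat.ofHom (Ideal.Quotient.mk m))))

include hsq in
/-- sections of `L|_{X₀}` lift to `X` when `H¹(X, L) = 0` and `H²` vanishes -/
theorem surjective_unitN_app_top_of_H1 [IsLocallyNoetherian X] (L : X.Modules)
    (hL : Coh.IsCoh L) (hL1 : Subsingleton (Coh.HH X L 1))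
    (hvan : ∀ G : X.Modules, Coh.IsCoh G → Subsingleton (Coh.HH X G 2)) :
    Function.Surjective ((unitN i L).app ⊤) := by
  haveI : IsClosedImmersion i := isClosedImmersion_of_fibre _ m hsq
  haveI : L.IsQuasicoherent := hL.1
  have hfg : m.FG := (isNoetherianRing_iff_ideal_fg A).1 inferInstance m
  obtain ⟨t, a, ha⟩ := Submodule.fg_iff_exists_fin_generating_family.1 hfg
  have hq2 := isQuot_unitN m hsq L
  haveI := hq2.epi
  obtain ⟨φ', hepi, -⟩ := exists_epi_kernel_of_isQuot a m ha hq2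
  haveI := hepi
  have hcP : Coh.IsCoh ((Scheme.Modules.pullback i).obj L) :=
    Groth.Agent.Helper1.Dev.isCoh_pullback i L hL
  have hcN : Coh.IsCoh ((Scheme.Modules.pushforward i).obj ((Scheme.Modules.pullback i).obj L)) :=
    Groth.Agent.Helper1.Dev.isCoh_push i _ hcP
  have hcS : Coh.IsCoh (∐ fun _ : Fin t => L) :=
    Groth.Agent.Helper1.SerreFin.isCoh_sigma_fin _ (fun _ => hL)
  have hcK : Coh.IsCoh (kernel (unitN i L)) := Groth.Agent.Lead.PerfLib.isCoh_kernel hL hcN _
  have hcK' : Coh.IsCoh (kernel φ') := Groth.Agent.Lead.PerfLib.isCoh_kernel hcS hcK φ'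
  have hS1 : Subsingleton (Coh.HH X (∐ fun _ : Fin t => L) 1) :=
    Groth.Agent.Helper1.SerreVan.subsingleton_HH_sigma _ 1 (fun _ => hL1)
  have hK1 : Subsingleton (Coh.HH X (kernel (unitN i L)) 1) :=
    (surjective_HHlin_of_epi A φ' 1 (hvan _ hcK')).subsingleton
  have hs := surjective_HHlin_of_epi A (unitN i L) 0 hK1
  rw [← Groth.Agent.Helper1.QuotPush.surjective_HAb_map_iff]
  exact hs

end Lift


section Main

variable (A : Type u) [CommRing A] [IsNoetherianRing A] (X : Scheme.{u})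
  (f : X ⟶ Spec (CommRingCat.of A)) [IsProper f]

/-- the fibrewise statement -/
theorem fibre_main19496
    (h1 : Subsingleton (Coh.HH X (Coh.structureModule X) 1))
    (hfib : ∀ y : ↥(Spec (CommRingCat.of A)), topologicalKrullDim ↥(f.fiber y) ≤ 1)
    (L : X.Modules) (hL : PicF.IsInvertible L)
    (hnef : ∀ (K : Type u) [Field K] (i' : A →+* K) (J : X.IdealSheafData)
      (t : J.subscheme ⟶ Spec (CommRingCat.of K)),
      AlgebraicGeometry.IsIntegral J.subscheme → topologicalKrullDim ↥J.subscheme = 1 →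
      t ≫ Spec.map (CommRingCat.ofHom i') = J.subschemeι ≫ f →
      0 ≤ @Curv2.deg K _ J.subscheme ⟨t⟩ ((Scheme.Modules.pullback J.subschemeι).obj L) 1)
    (m : Ideal A) [hm : m.IsMaximal]
    {X₀ : Scheme.{u}} {i : X₀ ⟶ X} {f₀ : X₀ ⟶ Spec (CommRingCat.of (A ⧸ m))}
    (hsq : IsPullback i f₀ f (Spec.map (CommRingCat.ofHom (Ideal.Quotient.mk m)))) :
    Subsingleton (Coh.HH X₀ ((Scheme.Modules.pullback i).obj L) 1) ∧
      Curv2.IsGloballyGenerated ((Scheme.Modules.pullback i).obj L) := by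
  letI : X.Over (Spec (CommRingCat.of A)) := ⟨f⟩
  haveI : IsLocallyNoetherian X := LocallyOfFiniteType.isLocallyNoetherian f
  have hvan : ∀ G : X.Modules, Coh.IsCoh G → Subsingleton (Coh.HH X G 2) := fun G hG =>
    subsingleton_HH_of_fibres A X f 1 hfib G hG 2 (by norm_num)
  letI : Field (A ⧸ m) := Ideal.Quotient.field m
  letI : X₀.Over (Spec (CommRingCat.of (A ⧸ m))) := ⟨f₀⟩
  haveI : IsProper (X₀ ↘ Spec (CommRingCat.of (A ⧸ m))) := isProper_of_fibre f m hsq
  let y : ↥(Spec (CommRingCat.of A)) := (⟨m, hm.isPrime⟩ : PrimeSpectrum A)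
  have hdim : topologicalKrullDim X₀ ≤ 1 := by
    rw [dim_fibre_eq f m hsq y rfl]
    exact hfib y
  have h1' : Subsingleton (Coh.HH X₀ (Coh.structureModule X₀) 1) :=
    subsingleton_HH_fibre_structure A m hsq 1 h1 hvan
  obtain ⟨h, hg⟩ := main16295_le' (A ⧸ m) hdim h1' ((Scheme.Modules.pullback i).obj L)
    (isInvertible_pullback i hL)
    (fun J' hint hd => nef_fibre f m hsq L hL hnef J' hint hd)
  exact ⟨h, hg⟩

/-- a nonempty closed subset of a scheme closed over `Spec A` contains a point over a maximal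
ideal -/
theorem exists_mem_over_maximal (D : Set X) (hD : IsClosed D) (hne : D.Nonempty) :
    ∃ (m : Ideal A) (_ : m.IsMaximal) (x : X), x ∈ D ∧
      ((f x : PrimeSpectrum A)).asIdeal = m := by
  have hcl : IsClosed ((f : X → ↥(Spec (CommRingCat.of A))) '' D) := f.isClosedMap D hD
  set Z : Set (PrimeSpectrum A) := (f : X → ↥(Spec (CommRingCat.of A))) '' D with hZ
  have hZne : Z.Nonempty := hne.image _
  have hZcl : IsClosed Z := hcl
  have hvZ : PrimeSpectrum.vanishingIdeal Z ≠ ⊤ := by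
    intro htop
    have h2 := PrimeSpectrum.zeroLocus_vanishingIdeal_eq_closure Z
    rw [htop, hZcl.closure_eq] at h2
    obtain ⟨z, hz⟩ := hZne
    rw [← h2] at hz
    simp at hz
  obtain ⟨m, hm, hle⟩ := Ideal.exists_le_maximal _ hvZ
  have hy : (⟨m, hm.isPrime⟩ : PrimeSpectrum A) ∈ Z := by
    rw [← hZcl.closure_eq, ← PrimeSpectrum.zeroLocus_vanishingIdeal_eq_closure]
    exact hle
  obtain ⟨x, hxD, hx⟩ := hy
  exact ⟨m, hm, x, hxD, congrArg PrimeSpectrum.asIdeal hx⟩

/-- **S19496** -/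
theorem main19496
    (h1 : Subsingleton (Coh.HH X (Coh.structureModule X) 1))
    (hfib : ∀ y : ↥(Spec (CommRingCat.of A)), topologicalKrullDim ↥(f.fiber y) ≤ 1)
    (L : X.Modules) (hL : PicF.IsInvertible L)
    (hnef : ∀ (K : Type u) [Field K] (i' : A →+* K) (J : X.IdealSheafData)
      (t : J.subscheme ⟶ Spec (CommRingCat.of K)),
      AlgebraicGeometry.IsIntegral J.subscheme → topologicalKrullDim ↥J.subscheme = 1 →
      t ≫ Spec.map (CommRingCat.ofHom i') = J.subschemeι ≫ f →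
      0 ≤ @Curv2.deg K _ J.subscheme ⟨t⟩ ((Scheme.Modules.pullback J.subschemeι).obj L) 1) :
    Curv2.IsGloballyGenerated L ∧ Subsingleton (Coh.HH X L 1) := by
  letI : X.Over (Spec (CommRingCat.of A)) := ⟨f⟩
  haveI : IsProper (X ↘ Spec (CommRingCat.of A)) := ‹IsProper f›
  haveI : IsLocallyNoetherian X := LocallyOfFiniteType.isLocallyNoetherian f
  have hcL : Coh.IsCoh L := Groth.Agent.Helper1.SerreFin.isCoh_of_isInvertible L hL
  have hvan : ∀ G : X.Modules, Coh.IsCoh G → Subsingleton (Coh.HH X G 2) := fun G hG =>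
    subsingleton_HH_of_fibres A X f 1 hfib G hG 2 (by norm_num)
  -- `H¹(X, L) = 0`
  haveI hfin : Module.Finite A (Coh.HH X L 1) := Groth.Agent.S0002.result A X L hcL 1
  have hL1 : Subsingleton (Coh.HH X L 1) := by
    apply subsingleton_of_forall_maximal_smul_top A (Coh.HH X L 1)
    intro m hm x _
    haveI := hm
    have hsq := IsPullback.of_hasPullback f (Spec.map (CommRingCat.ofHom (Ideal.Quotient.mk m)))
    obtain ⟨hv, -⟩ := fibre_main19496 A X f h1 hfib L hL hnef m hsq
    exact mem_smul_top_of_fibre A m hsq L hcL 1 hv hvan x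
  refine ⟨?_, hL1⟩
  -- global generation
  apply Groth.Agent.Helper4.AmpleEventual.isGloballyGenerated_of_genLocus_cover L
    (fun t : (Coh.structureModule X ⟶ L) => t)
  by_contra hcon
  push Not at hcon
  obtain ⟨x₁, hx₁⟩ := hcon
  let D : Set X := ⋂ t : (Coh.structureModule X ⟶ L), ((CohB1.genLocus L t : Set X))ᶜ
  have hD : IsClosed D := isClosed_iInter (fun t => (CohB1.genLocus L t).isOpen.isClosed_compl)
  have hne : D.Nonempty := ⟨x₁, Set.mem_iInter.2 (fun t => hx₁ t)⟩
  obtain ⟨m, hm, x, hxD, hxm⟩ := exists_mem_over_maximal A X f D hD hne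
  haveI := hm
  have hsq := IsPullback.of_hasPullback f (Spec.map (CommRingCat.ofHom (Ideal.Quotient.mk m)))
  obtain ⟨-, hg⟩ := fibre_main19496 A X f h1 hfib L hL hnef m hsq
  have hxr : x ∈ Set.range (pullback.fst f (Spec.map (CommRingCat.ofHom (Ideal.Quotient.mk m)))) := by
    rw [range_fibre f m hsq (f x) hxm]
    rfl
  obtain ⟨x₀, rfl⟩ := hxr
  obtain ⟨s₀, hs₀⟩ := Groth.Agent.Helper4.GGSec.exists_mem_genLocus_of_isGloballyGenerated _
    (isInvertible_pullback _ hL) hg x₀
  have hsurj := surjective_unitN_app_top_of_H1 A m hsq L hcL hL1 hvan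
  obtain ⟨s, hs⟩ := exists_pullSec_eq _ L hsurj s₀
  rw [← hs, genLocus_pullSec _ hL s] at hs₀
  exact (Set.mem_iInter.1 hxD s) hs₀

end Main

end Groth.Agent.Helper4.SN
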