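import Mathlib
import Groth.Agent.Helper4.SN179
import Groth.Agent.Helper4.SN172

/-!
# Multiplication by sections of an invertible module: symmetry
-/

set_option autoImplicit false
set_option linter.style.haveILetI false

namespace Groth.Agent.Helper4.SN

open CategoryTheory Limits AlgebraicGeometry Opposite TopologicalSpace
open Groth.Agent.Helper4.StalkDict Groth.Agent.Helper4.TensorLift

universe u

section MulS

variable {X : Scheme.{u}} {L : X.Modules}

/-- multiplication by a section `t` of `L`, as a morphism `N ⟶ N ⊗ L` -/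
noncomputable def mulS (t : Coh.structureModule X ⟶ L) (N : X.Modules) :
    N ⟶ CohB1.tensorMod N L :=
  (SecTwist.unitorR N).inv ≫ KoszTw.tensorMap (𝟙 N) t

theorem unitorR_inv_app (N : X.Modules) (U : X.Opens) (x : Γ(N, U)) :
    (SecTwist.unitorR N).inv.app U x =
      SecTwist.tmul N (Coh.structureModule X) U x (Groth.Agent.Helper4.GenLoc.one X U) := by
  have h := SecTwist.unitorR_tmul N U x (1 : X.ringCatSheaf.obj.obj (op U))
  rw [one_smul] at h
  have h2 : (SecTwist.unitorR N).inv.app U ((SecTwist.unitorR N).hom.app U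
      (SecTwist.tmul N (Coh.structureModule X) U x (Groth.Agent.Helper4.GenLoc.one X U))) =
      SecTwist.tmul N (Coh.structureModule X) U x (Groth.Agent.Helper4.GenLoc.one X U) := by
    have := congrArg (fun φ => (Scheme.Modules.Hom.app φ U)
      (SecTwist.tmul N (Coh.structureModule X) U x (Groth.Agent.Helper4.GenLoc.one X U)))
      (SecTwist.unitorR N).hom_inv_id
    exact this
  rw [← h2]
  congr 1
  exact h.symm

theorem mulS_app (t : Coh.structureModule X ⟶ L) (N : X.Modules) (U : X.Opens) (x : Γ(N, U)) :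
    (mulS t N).app U x = SecTwist.tmul N L U x (SecTwist.val t U) := by
  unfold mulS
  show (KoszTw.tensorMap (𝟙 N) t).app U ((SecTwist.unitorR N).inv.app U x) = _
  rw [unitorR_inv_app, KoszTw.tensorMap_tmul]
  rfl

end MulS


section Comm

open Groth.Agent.Helper4.TwistExt Groth.Agent.Helper4.QcqsMod

variable {X : Scheme.{u}} {L : X.Modules}

/-- `(n ⊗ a) ⊗ b = (n ⊗ b) ⊗ a` for sections `a`, `b` of an invertible module which are multiples
of a common section -/
theorem tmul_tmul_comm_of_smul (N : X.Modules) (V : X.Opens) (n : Γ(N, V)) (e : Γ(L, V))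
    (b b' : Γ(X, V)) :
    SecTwist.tmul (CohB1.tensorMod N L) L V (SecTwist.tmul N L V n (b • e)) (b' • e) =
      SecTwist.tmul (CohB1.tensorMod N L) L V (SecTwist.tmul N L V n (b' • e)) (b • e) := by
  have h1 : ∀ c c' : Γ(X, V),
      SecTwist.tmul (CohB1.tensorMod N L) L V (SecTwist.tmul N L V n (c • e)) (c' • e) =
        (c' * c) • (SecTwist.tmul (CohB1.tensorMod N L) L V (SecTwist.tmul N L V n e) e :
          Γ(CohB1.tensorMod (CohB1.tensorMod N L) L, V)) := by
    intro c c'
    have a1 : SecTwist.tmul N L V n (c • e) =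
        c • (SecTwist.tmul N L V n e : Γ(CohB1.tensorMod N L, V)) := tmul_smul_right N L V c n e
    have a2 := tmul_smul_right (CohB1.tensorMod N L) L V c' (SecTwist.tmul N L V n (c • e)) e
    have a3 := tmul_smul_left (CohB1.tensorMod N L) L V c (SecTwist.tmul N L V n e) e
    have a4 : SecTwist.tmul (CohB1.tensorMod N L) L V (SecTwist.tmul N L V n (c • e)) e =
        c • (SecTwist.tmul (CohB1.tensorMod N L) L V (SecTwist.tmul N L V n e) e :
          Γ(CohB1.tensorMod (CohB1.tensorMod N L) L, V)) :=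
      (congrArg (fun z => SecTwist.tmul (CohB1.tensorMod N L) L V z e) a1).trans a3
    exact a2.trans ((congrArg (fun z => c' • z) a4).trans (smul_smul c' c _))
  rw [h1 b b', h1 b' b, mul_comm]

/-- multiplications by two sections of an invertible module commute -/
theorem mulS_comm (hL : PicF.IsInvertible L) (s s' : Coh.structureModule X ⟶ L) (N : X.Modules) :
    mulS s N ≫ mulS s' (CohB1.tensorMod N L) = mulS s' N ≫ mulS s (CohB1.tensorMod N L) := by
  apply Scheme.Modules.hom_ext
  intro U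
  ext n
  show (mulS s' (CohB1.tensorMod N L)).app U ((mulS s N).app U n) =
    (mulS s (CohB1.tensorMod N L)).app U ((mulS s' N).app U n)
  rw [mulS_app, mulS_app, mulS_app, mulS_app]
  apply section_ext (CohB1.tensorMod (CohB1.tensorMod N L) L) U
  intro x hx
  obtain ⟨T, e, hxT, -, -, hall⟩ := Groth.Agent.Helper4.AmpleFinite.exists_chart_forall L hL x
  obtain ⟨b, hb, -⟩ := hall s
  obtain ⟨b', hb', -⟩ := hall s'
  have hV1 : U ⊓ T ≤ U := inf_le_left
  have hV2 : U ⊓ T ≤ T := inf_le_right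
  have hxV : x ∈ U ⊓ T := ⟨hx, hxT⟩
  rw [← germ_res (CohB1.tensorMod (CohB1.tensorMod N L) L) hV1 x hxV,
    ← germ_res (CohB1.tensorMod (CohB1.tensorMod N L) L) hV1 x hxV]
  congr 1
  rw [tmul_res, tmul_res, tmul_res, tmul_res, val_res, val_res]
  have e1 : SecTwist.val s (U ⊓ T) =
      X.presheaf.map (homOfLE hV2).op b • L.presheaf.map (homOfLE hV2).op e := by
    rw [← val_res s hV2, hb, Scheme.Modules.map_smul]
  have e2 : SecTwist.val s' (U ⊓ T) =
      X.presheaf.map (homOfLE hV2).op b' • L.presheaf.map (homOfLE hV2).op e := by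
    rw [← val_res s' hV2, hb', Scheme.Modules.map_smul]
  rw [e1, e2]
  exact tmul_tmul_comm_of_smul N (U ⊓ T) _ _ _ _

end Comm


section Kosz

open Groth.Agent.Lead.StalkNhd Groth.Agent.Helper1.Dev Groth.Agent.Helper1.HHSum
  Groth.Agent.Lead.Ref1B

variable {X : Scheme.{u}} {L : X.Modules}

theorem stalkLin_neg {F G : X.Modules} (φ : F ⟶ G) (x : X) (t : F.presheaf.stalk x) :
    stalkLin (-φ) x t = -stalkLin φ x t := by
  have h := stalkLin_add φ (-φ) x t
  rw [add_neg_cancel, stalkLin_zero] at h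
  exact eq_neg_of_add_eq_zero_right h.symm

theorem stalkLin_sub {F G : X.Modules} (φ ψ : F ⟶ G) (x : X) (t : F.presheaf.stalk x) :
    stalkLin (φ - ψ) x t = stalkLin φ x t - stalkLin ψ x t := by
  rw [sub_eq_add_neg, stalkLin_add, stalkLin_neg, ← sub_eq_add_neg]

/-- multiplication by a section is bijective on stalks over the generating locus -/
theorem stalkLin_mulS_bijective (t : Coh.structureModule X ⟶ L) (N : X.Modules) (x : X)
    (hx : x ∈ CohB1.genLocus L t) : Function.Bijective (stalkLin (mulS t N) x) := by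
  have h1 : Function.Bijective (stalkLin t x) :=
    stalkLin_bijective_of_isIso_restrict t _
      (Groth.Agent.Helper4.GenLocIso.isIso_restrict_genLocus L t) x hx
  have h2 : Function.Bijective (stalkLin (𝟙 N) x) := by
    constructor
    · intro a b hab
      rwa [stalkLin_id, stalkLin_id] at hab
    · intro a
      exact ⟨a, stalkLin_id _ _ _⟩
  have h3 : Function.Bijective (stalkLin (KoszTw.tensorMap (𝟙 N) t) x) :=
    bijective_stalkMapₗ_tensorMap (𝟙 N) t x h2 h1
  have h4 := stalkLin_bijective_of_isIso (SecTwist.unitorR N).inv x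
  have : stalkLin (mulS t N) x =
      (stalkLin (KoszTw.tensorMap (𝟙 N) t) x) ∘ (stalkLin (SecTwist.unitorR N).inv x) := by
    funext z
    unfold mulS
    rw [stalkLin_comp]
    rfl
  rw [this]
  exact h3.comp h4

variable {r : ℕ} (s : Fin r → (Coh.structureModule X ⟶ L)) (N : X.Modules)

/-- the multiplication map `∐_i N ⊗ L ⟶ (N ⊗ L) ⊗ L` -/
noncomputable def kP : (∐ fun _ : Fin r => CohB1.tensorMod N L) ⟶
    CohB1.tensorMod (CohB1.tensorMod N L) L :=
  Sigma.desc fun i => mulS (s i) (CohB1.tensorMod N L)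

/-- the Koszul map `∐_{(i,j)} N ⟶ ∐_i N ⊗ L` -/
noncomputable def kQ : (∐ fun _ : Fin r × Fin r => N) ⟶ ∐ fun _ : Fin r => CohB1.tensorMod N L :=
  Sigma.desc fun p => mulS (s p.2) N ≫ Sigma.ι (fun _ : Fin r => CohB1.tensorMod N L) p.1 -
    mulS (s p.1) N ≫ Sigma.ι (fun _ : Fin r => CohB1.tensorMod N L) p.2

theorem ι_kP (i : Fin r) : Sigma.ι (fun _ : Fin r => CohB1.tensorMod N L) i ≫ kP s N =
    mulS (s i) (CohB1.tensorMod N L) := by
  unfold kP
  rw [Sigma.ι_desc]

theorem ι_kQ (p : Fin r × Fin r) : Sigma.ι (fun _ : Fin r × Fin r => N) p ≫ kQ s N =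
    mulS (s p.2) N ≫ Sigma.ι (fun _ : Fin r => CohB1.tensorMod N L) p.1 -
      mulS (s p.1) N ≫ Sigma.ι (fun _ : Fin r => CohB1.tensorMod N L) p.2 := by
  unfold kQ
  rw [Sigma.ι_desc]

theorem kQ_kP (hL : PicF.IsInvertible L) : kQ s N ≫ kP s N = 0 := by
  apply Sigma.hom_ext
  intro p
  rw [← Category.assoc, ι_kQ, Preadditive.sub_comp, Category.assoc, Category.assoc, ι_kP, ι_kP,
    comp_zero, mulS_comm hL (s p.2) (s p.1) N, sub_self]

theorem epi_kP (hcov : ∀ x : X, ∃ i, x ∈ CohB1.genLocus L (s i)) : Epi (kP s N) := by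
  apply Groth.Agent.Helper4.QcohLocal.epi_of_stalkLin_surjective
  intro x z
  obtain ⟨l, hl⟩ := hcov x
  obtain ⟨y, hy⟩ := (stalkLin_mulS_bijective (s l) (CohB1.tensorMod N L) x hl).2 z
  refine ⟨stalkLin (Sigma.ι (fun _ : Fin r => CohB1.tensorMod N L) l) x y, ?_⟩
  rw [← stalkLin_comp, ι_kP]
  exact hy

/-- **exactness of the Koszul complex in the middle**: `∐_{(i,j)} N ⟶ ker(∐_i N ⊗ L ⟶ N ⊗ L ⊗ L)`
is an epimorphism -/
theorem epi_kernel_lift_kQ (hL : PicF.IsInvertible L)
    (hcov : ∀ x : X, ∃ i, x ∈ CohB1.genLocus L (s i)) :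
    Epi (kernel.lift (kP s N) (kQ s N) (kQ_kP s N hL)) := by
  classical
  apply Groth.Agent.Helper4.QcohLocal.epi_of_stalkLin_surjective
  intro x k
  obtain ⟨l, hl⟩ := hcov x
  -- the element of the stalk of `∐_i M`
  set z := stalkLin (kernel.ι (kP s N)) x k with hz
  have hPz : stalkLin (kP s N) x z = 0 := by
    rw [hz, ← stalkLin_comp, kernel.condition, stalkLin_zero]
  -- components
  obtain ⟨y, hzy⟩ : ∃ y : Fin r → (CohB1.tensorMod N L).presheaf.stalk x,
      z = ∑ i, stalkLin (Sigma.ι (fun _ : Fin r => CohB1.tensorMod N L) i) x (y i) := by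
    refine ⟨fun i => stalkLin (proj (fun _ : Fin r => CohB1.tensorMod N L) i) x z, ?_⟩
    have h1 := stalkLin_sum Finset.univ (fun i => proj (fun _ : Fin r => CohB1.tensorMod N L) i ≫
      Sigma.ι (fun _ : Fin r => CohB1.tensorMod N L) i) x z
    rw [sum_proj_ι, stalkLin_id] at h1
    refine h1.trans ?_
    refine Finset.sum_congr rfl (fun i _ => ?_)
    rw [stalkLin_comp]
  have hb := stalkLin_mulS_bijective (s l) N x hl
  choose x' hx' using fun i => hb.2 (y i)
  have hsum0 : ∑ i, stalkLin (mulS (s i) N) x (x' i) = 0 := by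
    apply (stalkLin_mulS_bijective (s l) (CohB1.tensorMod N L) x hl).1
    rw [map_zero, map_sum]
    have h2 : ∀ i, stalkLin (mulS (s l) (CohB1.tensorMod N L)) x (stalkLin (mulS (s i) N) x (x' i)) =
        stalkLin (kP s N) x (stalkLin (Sigma.ι (fun _ : Fin r => CohB1.tensorMod N L) i) x (y i)) := by
      intro i
      rw [← stalkLin_comp, mulS_comm hL (s i) (s l) N, stalkLin_comp, hx', ← stalkLin_comp, ι_kP]
    rw [Finset.sum_congr rfl (fun i _ => h2 i), ← map_sum, ← hzy, hPz]
  refine ⟨∑ i, stalkLin (Sigma.ι (fun _ : Fin r × Fin r => N) (i, l)) x (x' i), ?_⟩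
  apply Groth.Agent.Helper4.StalkExact.stalkLin_injective (kernel.ι (kP s N)) x
  rw [← stalkLin_comp, kernel.lift_ι, ← hz, map_sum]
  have h3 : ∀ i, stalkLin (kQ s N) x (stalkLin (Sigma.ι (fun _ : Fin r × Fin r => N) (i, l)) x (x' i)) =
      stalkLin (Sigma.ι (fun _ : Fin r => CohB1.tensorMod N L) i) x (y i) -
        stalkLin (Sigma.ι (fun _ : Fin r => CohB1.tensorMod N L) l) x
          (stalkLin (mulS (s i) N) x (x' i)) := by
    intro i
    rw [← stalkLin_comp, ι_kQ, stalkLin_sub, stalkLin_comp, stalkLin_comp, hx']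
  rw [Finset.sum_congr rfl (fun i _ => h3 i), Finset.sum_sub_distrib, ← hzy, ← map_sum, hsum0,
    map_zero, sub_zero]

end Kosz

end Groth.Agent.Helper4.SN
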