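import Mathlib
import Groth.Agent.Helper4.SN180

/-!
# Surjectivity of multiplication of sections (Koszul argument in cohomology)
-/

set_option autoImplicit false
set_option linter.style.haveILetI false

namespace Groth.Agent.Helper4.SN

open CategoryTheory Limits AlgebraicGeometry Opposite TopologicalSpace
open Groth.Agent.Helper1.HHSum Groth.Agent.Lead.LocLift

universe u

section Reindex

variable {X : Scheme.{u}}

/-- coherence of a finite coproduct of copies of a coherent module, any finite index type -/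
theorem isCoh_sigma_const {ι : Type} [Finite ι] (N : X.Modules) (hN : Coh.IsCoh N) :
    Coh.IsCoh (∐ fun _ : ι => N) := by
  obtain ⟨n, ⟨e⟩⟩ := Finite.exists_equiv_fin ι
  have h := Groth.Agent.Helper1.SerreFin.isCoh_sigma_fin (fun _ : Fin n => N) (fun _ => hN)
  exact Groth.Agent.Lead.PerfLib.isCoh_of_iso (Sigma.reindex e.symm (fun _ : ι => N)) h

theorem subsingleton_HH_sigma_const {ι : Type} [Finite ι] (N : X.Modules) (q : ℕ)
    (hN : Subsingleton (Coh.HH X N q)) : Subsingleton (Coh.HH X (∐ fun _ : ι => N) q) := by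
  obtain ⟨n, ⟨e⟩⟩ := Finite.exists_equiv_fin ι
  have h := Groth.Agent.Helper1.SerreVan.subsingleton_HH_sigma (fun _ : Fin n => N) q (fun _ => hN)
  have ε := (Hn X q).mapIso (Sigma.reindex e.symm (fun _ : ι => N))
  haveI : Subsingleton ↑((Hn X q).obj (∐ (fun _ : ι => N) ∘ ⇑e.symm)) := h
  exact (ε.addCommGroupIsoToAddEquiv.symm.toEquiv).subsingleton

end Reindex


section Mult

variable (R : Type u) [CommRing R] {X : Scheme.{u}} [X.Over (Spec (CommRingCat.of R))]
  [IsLocallyNoetherian X] {L : X.Modules} {r : ℕ} (s : Fin r → (Coh.structureModule X ⟶ L))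

include R in
/-- `H¹(N) = 0 ⇒ H¹(N ⊗ L) = 0` when `L` is generated by finitely many sections and `H²` vanishes -/
theorem subsingleton_H1_tensor (hL : PicF.IsInvertible L)
    (hcov : ∀ x : X, ∃ i, x ∈ CohB1.genLocus L (s i)) (N : X.Modules) (hN : Coh.IsCoh N)
    (hN1 : Subsingleton (Coh.HH X N 1))
    (hvan : ∀ G : X.Modules, Coh.IsCoh G → Subsingleton (Coh.HH X G 2)) :
    Subsingleton (Coh.HH X (CohB1.tensorMod N L) 1) := by
  have hcL : Coh.IsCoh L := Groth.Agent.Helper1.SerreFin.isCoh_of_isInvertible L hL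
  have hcM : Coh.IsCoh (CohB1.tensorMod N L) := Groth.Agent.Lead.Ref1B.isCoh_tensorMod _ _ hN hcL
  let P : (∐ fun _ : Fin r => N) ⟶ CohB1.tensorMod N L := Sigma.desc fun i => mulS (s i) N
  haveI : Epi P := by
    apply Groth.Agent.Helper4.QcohLocal.epi_of_stalkLin_surjective
    intro x z
    obtain ⟨l, hl⟩ := hcov x
    obtain ⟨y, hy⟩ := (stalkLin_mulS_bijective (s l) N x hl).2 z
    refine ⟨Groth.Agent.Helper4.StalkDict.stalkLin (Sigma.ι (fun _ : Fin r => N) l) x y, ?_⟩
    rw [← Groth.Agent.Lead.StalkNhd.stalkLin_comp, Sigma.ι_desc]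
    exact hy
  have hcS : Coh.IsCoh (∐ fun _ : Fin r => N) := isCoh_sigma_const N hN
  have hS1 : Subsingleton (Coh.HH X (∐ fun _ : Fin r => N) 1) :=
    subsingleton_HH_sigma_const N 1 hN1
  exact (surjective_HHlin_of_epi R P 1
    (hvan _ (Groth.Agent.Lead.PerfLib.isCoh_kernel hcS hcM P))).subsingleton

include R in
/-- **every global section of `(N ⊗ L) ⊗ L` is a sum of products `y_i ⊗ s_i`**, when `H¹(N) = 0`
and `H²` vanishes on coherent modules -/
theorem exists_sum_mulS (hL : PicF.IsInvertible L)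
    (hcov : ∀ x : X, ∃ i, x ∈ CohB1.genLocus L (s i)) (N : X.Modules) (hN : Coh.IsCoh N)
    (hN1 : Subsingleton (Coh.HH X N 1))
    (hvan : ∀ G : X.Modules, Coh.IsCoh G → Subsingleton (Coh.HH X G 2))
    (t : Coh.structureModule X ⟶ CohB1.tensorMod (CohB1.tensorMod N L) L) :
    ∃ y : Fin r → (Coh.structureModule X ⟶ CohB1.tensorMod N L),
      t = ∑ i, y i ≫ mulS (s i) (CohB1.tensorMod N L) := by
  have hcL : Coh.IsCoh L := Groth.Agent.Helper1.SerreFin.isCoh_of_isInvertible L hL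
  have hcM : Coh.IsCoh (CohB1.tensorMod N L) := Groth.Agent.Lead.Ref1B.isCoh_tensorMod _ _ hN hcL
  have hcML : Coh.IsCoh (CohB1.tensorMod (CohB1.tensorMod N L) L) :=
    Groth.Agent.Lead.Ref1B.isCoh_tensorMod _ _ hcM hcL
  haveI := epi_kP s N hcov
  haveI := epi_kernel_lift_kQ s N hL hcov
  have hcS2 : Coh.IsCoh (∐ fun _ : Fin r × Fin r => N) := isCoh_sigma_const N hN
  have hcS1 : Coh.IsCoh (∐ fun _ : Fin r => CohB1.tensorMod N L) := isCoh_sigma_const _ hcM
  have hcK : Coh.IsCoh (kernel (kP s N)) := Groth.Agent.Lead.PerfLib.isCoh_kernel hcS1 hcML _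
  have hS1 : Subsingleton (Coh.HH X (∐ fun _ : Fin r × Fin r => N) 1) :=
    subsingleton_HH_sigma_const N 1 hN1
  have hK1 : Subsingleton (Coh.HH X (kernel (kP s N)) 1) :=
    (surjective_HHlin_of_epi R (kernel.lift (kP s N) (kQ s N) (kQ_kP s N hL)) 1
      (hvan _ (Groth.Agent.Lead.PerfLib.isCoh_kernel hcS2 hcK _))).subsingleton
  have hs := surjective_HHlin_of_epi R (kP s N) 0 hK1
  have hs' : Function.Surjective ((kP s N).app ⊤) := by
    rw [← Groth.Agent.Helper1.QuotPush.surjective_HAb_map_iff]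
    exact hs
  obtain ⟨w, hw⟩ := hs' (t.app ⊤ (1 : Γ(X, ⊤)))
  let t' : Coh.structureModule X ⟶ ∐ fun _ : Fin r => CohB1.tensorMod N L := homOfTop _ w
  have ht' : t' ≫ kP s N = t := by
    apply hom_unit_ext
    show (kP s N).app ⊤ (t'.app ⊤ (1 : Γ(X, ⊤))) = _
    rw [homOfTop_app_one]
    exact hw
  refine ⟨fun i => t' ≫ proj (fun _ : Fin r => CohB1.tensorMod N L) i, ?_⟩
  calc t = (t' ≫ 𝟙 _) ≫ kP s N := by rw [Category.comp_id, ht']
    _ = (t' ≫ ∑ i, proj (fun _ : Fin r => CohB1.tensorMod N L) i ≫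
          Sigma.ι (fun _ : Fin r => CohB1.tensorMod N L) i) ≫ kP s N := by rw [sum_proj_ι]
    _ = _ := by
      rw [Preadditive.comp_sum, Preadditive.sum_comp]
      refine Finset.sum_congr rfl (fun i _ => ?_)
      rw [Category.assoc, Category.assoc, ι_kP, Category.assoc]

end Mult

end Groth.Agent.Helper4.SN
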