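import Mathlib
import Groth.Agent.Helper4.SN181
import Groth.Agent.Helper4.AmpleBasis
import Groth.Agent.Helper4.GGSec
import Groth.Agent.Helper4.SerreCrit

/-!
# Section formulas for the braiding and the left unitor; multiplication of sections, sectionwise
-/

set_option autoImplicit false
set_option linter.style.haveILetI false

namespace Groth.Agent.Helper4.SN

open CategoryTheory Limits AlgebraicGeometry Opposite TopologicalSpace MonoidalCategory
open Groth.Agent.Lead.LocLift
open scoped TensorProduct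

universe u

section Braid

variable {X : Scheme.{u}}

theorem braidIso_tmul (A B : X.Modules) (U : X.Opens) (a : Γ(A, U)) (b : Γ(B, U)) :
    (Groth.Agent.Helper4.AmpleBasis.braidIso A B).hom.app U (SecTwist.tmul A B U a b) =
      SecTwist.tmul B A U b a := by
  let adj := PresheafOfModules.sheafificationAdjunction.{u, u, u, u}
    (J := Opens.grothendieckTopology X) (𝟙 X.ringCatSheaf.obj)
  let φ : (CohB1.tensorPre A B : X.PresheafOfModules) ⟶ (CohB1.tensorPre B A : X.PresheafOfModules) :=
    (β_ (CohB1.toPMod A) (CohB1.toPMod B)).hom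
  let x : ↥((CohB1.tensorPre A B).obj (op U)) := a ⊗ₜ b
  have natU : ((adj.unit.app (CohB1.tensorPre B A : X.PresheafOfModules)).app (op U)).hom
      ((φ.app (op U)).hom x) =
      ((((CohB1.sheafifyMod X).map φ).val.app (op U)).hom
        (((adj.unit.app (CohB1.tensorPre A B : X.PresheafOfModules)).app (op U)).hom x)) :=
    congrArg (fun ψ => (PresheafOfModules.Hom.app ψ (op U)).hom x) (adj.unit.naturality φ)
  have hx : (φ.app (op U)).hom x = ((b ⊗ₜ a : ↥((CohB1.tensorPre B A).obj (op U)))) := by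
    rfl
  rw [hx] at natU
  exact natU.symm

theorem unitorL_tmul (A : X.Modules) (U : X.Opens) (c : Γ(X, U)) (a : Γ(A, U)) :
    (Groth.Agent.Helper4.AmpleBasis.unitorL A).hom.app U
      (SecTwist.tmul (Coh.structureModule X) A U c a) = c • a := by
  show (SecTwist.unitorR A).hom.app U ((Groth.Agent.Helper4.AmpleBasis.braidIso _ A).hom.app U
    (SecTwist.tmul (Coh.structureModule X) A U c a)) = _
  rw [braidIso_tmul]
  exact SecTwist.unitorR_tmul A U a c

end Braid

section Cover

variable {X : Scheme.{u}}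

/-- finitely many sections generating everywhere, from global generation on a quasi-compact
scheme -/
theorem exists_fin_cover [CompactSpace X] (L : X.Modules) (hL : PicF.IsInvertible L)
    (hg : Curv2.IsGloballyGenerated L) :
    ∃ (r : ℕ) (s : Fin r → (Coh.structureModule X ⟶ L)),
      ∀ x : X, ∃ i, x ∈ CohB1.genLocus L (s i) := by
  classical
  choose t ht using fun x : X =>
    Groth.Agent.Helper4.GGSec.exists_mem_genLocus_of_isGloballyGenerated L hL hg x
  obtain ⟨S, hS⟩ := CompactSpace.elim_nhds_subcover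
    (fun x => ((CohB1.genLocus L (t x) : X.Opens) : Set X))
    (fun x => (CohB1.genLocus L (t x)).isOpen.mem_nhds (ht x))
  refine ⟨S.card, fun i => t (S.equivFin.symm i).1, fun x => ?_⟩
  have hx : x ∈ ⋃ y ∈ S, ((CohB1.genLocus L (t y) : X.Opens) : Set X) := by
    rw [hS]; trivial
  obtain ⟨y, hyS, hxy⟩ := Set.mem_iUnion₂.mp hx
  refine ⟨S.equivFin ⟨y, hyS⟩, ?_⟩
  show x ∈ CohB1.genLocus L (t (S.equivFin.symm (S.equivFin ⟨y, hyS⟩)).1)
  rw [Equiv.symm_apply_apply]
  exact hxy

end Cover

section Mult2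

variable (R : Type u) [CommRing R] {X : Scheme.{u}} [X.Over (Spec (CommRingCat.of R))]
  [IsLocallyNoetherian X] {L : X.Modules} {r : ℕ} (s : Fin r → (Coh.structureModule X ⟶ L))

include R in
/-- `H¹(L^m) = 0 ⇒ H¹(L^j) = 0` for all `j ≥ m` -/
theorem subsingleton_H1_tensorPow (hL : PicF.IsInvertible L)
    (hcov : ∀ x : X, ∃ i, x ∈ CohB1.genLocus L (s i))
    (hvan : ∀ G : X.Modules, Coh.IsCoh G → Subsingleton (Coh.HH X G 2))
    (m : ℕ) (hm : Subsingleton (Coh.HH X (CohB1.tensorPow L m) 1)) (j : ℕ) (hj : m ≤ j) :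
    Subsingleton (Coh.HH X (CohB1.tensorPow L j) 1) := by
  induction j, hj using Nat.le_induction with
  | base => exact hm
  | succ j _ ih =>
    exact subsingleton_H1_tensor R s hL hcov (CohB1.tensorPow L j)
      (Groth.Agent.Helper1.SerreFin.isCoh_of_isInvertible _
        (Groth.Agent.Helper4.TensorInv.isInvertible_tensorPow hL j)) ih hvan

include R in
/-- multiplication of sections is surjective, sectionwise form -/
theorem exists_sum_tmul (hL : PicF.IsInvertible L)
    (hcov : ∀ x : X, ∃ i, x ∈ CohB1.genLocus L (s i)) (N : X.Modules) (hN : Coh.IsCoh N)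
    (hN1 : Subsingleton (Coh.HH X N 1))
    (hvan : ∀ G : X.Modules, Coh.IsCoh G → Subsingleton (Coh.HH X G 2))
    (z : Γ(CohB1.tensorMod (CohB1.tensorMod N L) L, ⊤)) :
    ∃ y : Fin r → Γ(CohB1.tensorMod N L, ⊤),
      z = ∑ i, SecTwist.tmul (CohB1.tensorMod N L) L ⊤ (y i) (SecTwist.val (s i) ⊤) := by
  obtain ⟨y, hy⟩ := exists_sum_mulS R s hL hcov N hN hN1 hvan
    (homOfTop (CohB1.tensorMod (CohB1.tensorMod N L) L) z)
  refine ⟨fun i => (y i).app ⊤ (1 : Γ(X, ⊤)), ?_⟩
  have h1 := congrArg (fun φ => (Scheme.Modules.Hom.app φ ⊤) (1 : Γ(X, ⊤))) hy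
  simp only at h1
  rw [homOfTop_app_one, Groth.Agent.Helper4.SerreCrit.sum_app] at h1
  rw [h1]
  refine Finset.sum_congr rfl (fun i _ => ?_)
  exact mulS_app (s i) (CohB1.tensorMod N L) ⊤ ((y i).app ⊤ (1 : Γ(X, ⊤)))

end Mult2

end Groth.Agent.Helper4.SN
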