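import Mathlib
import Groth.Agent.Helper4.SN182
import Groth.Agent.Helper1.VA8
import Groth.Agent.Helper4.NApx81
import Groth.Agent.Helper1.PUPg4

/-!
# Ratios of sections generate the coordinate rings of the charts when the section ring is
generated in degree one
-/

set_option autoImplicit false
set_option linter.style.haveILetI false

namespace Groth.Agent.Helper4.SN

open CategoryTheory Limits AlgebraicGeometry Opposite TopologicalSpace
open Groth.Agent.Helper4.GenLoc Groth.Agent.Helper1.PUP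

universe u

section Ratio

variable {X : Scheme.{u}} {L : X.Modules} {r : ℕ}
  (σ : Fin r → (Coh.structureModule X ⟶ L)) (α : Fin r)

/-- the restriction of the global section `z` of `L^n` to the chart of `σ α` is a multiple of
`(σ α)^n` with coefficient in `T'` -/
def InT (T' : Subring Γ(X, XE σ α)) (n : ℕ) (z : Γ(CohB1.tensorPow L n, ⊤)) : Prop :=
  ∃ c ∈ T', c • (SecTwist.pow (σ α) n (XE σ α) : Γ(CohB1.tensorPow L n, XE σ α)) =
    (CohB1.tensorPow L n).presheaf.map (homOfLE (le_top : XE σ α ≤ ⊤)).op z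

theorem inT_zero (T' : Subring Γ(X, XE σ α))
    (h1 : ∀ b : Γ(X, ⊤), X.presheaf.map (homOfLE (le_top : XE σ α ≤ ⊤)).op b ∈ T')
    (z : Γ(CohB1.tensorPow L 0, ⊤)) : InT σ α T' 0 z := by
  refine ⟨X.presheaf.map (homOfLE (le_top : XE σ α ≤ ⊤)).op (toFn z), h1 _, ?_⟩
  exact smul_one (XE σ α) _

theorem sum_res {M : X.Modules} {U V : X.Opens} (h : V ≤ U) {ι : Type*} (S : Finset ι)
    (g : ι → Γ(M, U)) :
    M.presheaf.map (homOfLE h).op (∑ i ∈ S, g i) = ∑ i ∈ S, M.presheaf.map (homOfLE h).op (g i) :=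
  map_sum (M.presheaf.map (homOfLE h).op).hom g S

theorem inT_step (T' : Subring Γ(X, XE σ α)) (h2 : ∀ k, ratio σ k α ∈ T') (n : ℕ)
    (y : Fin r → Γ(CohB1.tensorPow L n, ⊤)) (hy : ∀ i, InT σ α T' n (y i)) :
    InT σ α T' (n + 1)
      (∑ i, SecTwist.tmul (CohB1.tensorPow L n) L ⊤ (y i) (SecTwist.val (σ i) ⊤)) := by
  choose c hcT hc using hy
  refine ⟨∑ i, c i * ratio σ i α, Subring.sum_mem _ (fun i _ => Subring.mul_mem _ (hcT i) (h2 i)),
    ?_⟩
  have hres : (CohB1.tensorPow L (n + 1)).presheaf.map (homOfLE (le_top : XE σ α ≤ ⊤)).op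
      (∑ i, SecTwist.tmul (CohB1.tensorPow L n) L ⊤ (y i) (SecTwist.val (σ i) ⊤)) =
      ∑ i, (CohB1.tensorPow L (n + 1)).presheaf.map (homOfLE (le_top : XE σ α ≤ ⊤)).op
        (SecTwist.tmul (CohB1.tensorPow L n) L ⊤ (y i) (SecTwist.val (σ i) ⊤)) :=
    sum_res (M := CohB1.tensorPow L (n + 1)) _ _ _
  rw [hres, Finset.sum_smul]
  refine Finset.sum_congr rfl (fun i _ => ?_)
  have e1 : (CohB1.tensorPow L (n + 1)).presheaf.map (homOfLE (le_top : XE σ α ≤ ⊤)).op
      (SecTwist.tmul (CohB1.tensorPow L n) L ⊤ (y i) (SecTwist.val (σ i) ⊤)) =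
      SecTwist.tmul (CohB1.tensorPow L n) L (XE σ α)
        ((CohB1.tensorPow L n).presheaf.map (homOfLE (le_top : XE σ α ≤ ⊤)).op (y i))
        (sec (σ i) (XE σ α)) := by
    refine (SecTwist.map_tmul (CohB1.tensorPow L n) L (homOfLE (le_top : XE σ α ≤ ⊤)) (y i)
      (SecTwist.val (σ i) ⊤)).trans ?_
    congr 1
    exact sec_res (σ i) (le_top : XE σ α ≤ ⊤)
  rw [e1, ← hc i, ← ratio_spec σ i α]
  refine Eq.trans ?_ (Groth.Agent.Helper4.TensorLift.tmul_smul_left (CohB1.tensorPow L n) L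
    (XE σ α) (c i) (SecTwist.pow (σ α) n (XE σ α)) (ratio σ i α • sec (σ α) (XE σ α))).symm
  refine Eq.trans ?_ (congrArg (fun w => c i • w)
    (Groth.Agent.Helper4.TensorLift.tmul_smul_right (CohB1.tensorPow L n) L
      (XE σ α) (ratio σ i α) (SecTwist.pow (σ α) n (XE σ α)) (sec (σ α) (XE σ α))).symm)
  exact mul_smul _ _ _

theorem inT_all (T' : Subring Γ(X, XE σ α))
    (h1 : ∀ b : Γ(X, ⊤), X.presheaf.map (homOfLE (le_top : XE σ α ≤ ⊤)).op b ∈ T')
    (h2 : ∀ k, ratio σ k α ∈ T')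
    (hmul : ∀ (n : ℕ) (z : Γ(CohB1.tensorPow L (n + 1), ⊤)),
      ∃ y : Fin r → Γ(CohB1.tensorPow L n, ⊤),
        z = ∑ i, SecTwist.tmul (CohB1.tensorPow L n) L ⊤ (y i) (SecTwist.val (σ i) ⊤))
    (n : ℕ) (z : Γ(CohB1.tensorPow L n, ⊤)) : InT σ α T' n z := by
  induction n with
  | zero => exact inT_zero σ α T' h1 z
  | succ n ih =>
    obtain ⟨y, rfl⟩ := hmul n z
    exact inT_step σ α T' h2 n y (fun i => ih (y i))

theorem XE_le_genLocus_powHom (hL : PicF.IsInvertible L) (n : ℕ) :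
    XE σ α ≤ CohB1.genLocus (CohB1.tensorPow L (n + 1)) (SecTwist.powHom (σ α) (n + 1)) := by
  rw [Groth.Agent.Helper4.TensorAssoc.genLocus_powHom hL]
  exact le_refl _

theorem mem_of_inT [CompactSpace X] [QuasiSeparatedSpace X] (hL : PicF.IsInvertible L)
    (T' : Subring Γ(X, XE σ α))
    (hall : ∀ (n : ℕ) (z : Γ(CohB1.tensorPow L n, ⊤)), InT σ α T' n z) (b : Γ(X, XE σ α)) :
    b ∈ T' := by
  haveI : (Coh.structureModule X).IsQuasicoherent :=
    Groth.Agent.Helper4.QAffSec.isQuasicoherent_of_isInvertible _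
      Groth.Agent.Helper4.TensorInv.isInvertible_structureModule
  obtain ⟨N₀, hN₀⟩ := Groth.Agent.Helper4.TwistExtU.exists_forall_twist_extends L hL (σ α)
    (Coh.structureModule X) b
  obtain ⟨t', ht'⟩ := hN₀ (N₀ + 1) (Nat.le_succ _)
  obtain ⟨c, hcT, hc⟩ := hall (N₀ + 1)
    ((Groth.Agent.Helper4.AmpleBasis.unitorL (CohB1.tensorPow L (N₀ + 1))).hom.app ⊤ t')
  have hnat := Groth.Agent.Helper4.NApx81.app_map
    (Groth.Agent.Helper4.AmpleBasis.unitorL (CohB1.tensorPow L (N₀ + 1))).hom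
    (le_top : XE σ α ≤ ⊤) t'
  have hb : (Groth.Agent.Helper4.AmpleBasis.unitorL (CohB1.tensorPow L (N₀ + 1))).hom.app (XE σ α)
      ((CohB1.tensorMod (Coh.structureModule X) (CohB1.tensorPow L (N₀ + 1))).presheaf.map
        (homOfLE (le_top : XE σ α ≤ ⊤)).op t') =
      b • (SecTwist.pow (σ α) (N₀ + 1) (XE σ α) : Γ(CohB1.tensorPow L (N₀ + 1), XE σ α)) := by
    refine (congrArg (fun w => (Groth.Agent.Helper4.AmpleBasis.unitorL
      (CohB1.tensorPow L (N₀ + 1))).hom.app (XE σ α) w) ht').trans ?_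
    exact unitorL_tmul (CohB1.tensorPow L (N₀ + 1)) (XE σ α) b _
  have hcb : c • (SecTwist.pow (σ α) (N₀ + 1) (XE σ α) : Γ(CohB1.tensorPow L (N₀ + 1), XE σ α)) =
      b • (SecTwist.pow (σ α) (N₀ + 1) (XE σ α) : Γ(CohB1.tensorPow L (N₀ + 1), XE σ α)) :=
    hc.trans (hnat.symm.trans hb)
  have h0 : (c - b) • sec (SecTwist.powHom (σ α) (N₀ + 1)) (XE σ α) = 0 := by
    have hs : sec (SecTwist.powHom (σ α) (N₀ + 1)) (XE σ α) =
        SecTwist.pow (σ α) (N₀ + 1) (XE σ α) := SecTwist.val_powHom (σ α) (N₀ + 1) (XE σ α)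
    rw [hs, sub_smul]
    exact sub_eq_zero.mpr hcb
  have h3 := eq_zero_of_smul_sec (SecTwist.powHom (σ α) (N₀ + 1))
    (XE_le_genLocus_powHom σ α hL N₀) (c - b) h0
  rw [← sub_eq_zero.mp h3]
  exact hcT

end Ratio

section Gen

variable {X S : Scheme.{u}} (f : X ⟶ S) {L : X.Modules} {r : ℕ}
  (σ : Fin r → (Coh.structureModule X ⟶ L)) (α : Fin r)

theorem unitorL_inv_hom (M : X.Modules) (U : X.Opens)
    (x : Γ(CohB1.tensorMod (Coh.structureModule X) M, U)) :
    (Groth.Agent.Helper4.AmpleBasis.unitorL M).inv.app U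
      ((Groth.Agent.Helper4.AmpleBasis.unitorL M).hom.app U x) = x :=
  congrArg (fun φ => (Scheme.Modules.Hom.app φ U) x)
    (Groth.Agent.Helper4.AmpleBasis.unitorL M).hom_inv_id

/-- degree one: sections of `O ⊗ L` are combinations of the `1 ⊗ σ i` -/
theorem hmul_zero
    (hspan : ∀ z : Γ(L, ⊤), ∃ a : Fin r → Γ(S, ⊤), z = ∑ i, f.appTop.hom (a i) • sec (σ i) ⊤)
    (z : Γ(CohB1.tensorPow L 1, ⊤)) :
    ∃ y : Fin r → Γ(CohB1.tensorPow L 0, ⊤),
      z = ∑ i, SecTwist.tmul (CohB1.tensorPow L 0) L ⊤ (y i) (SecTwist.val (σ i) ⊤) := by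
  obtain ⟨a, ha⟩ := hspan ((Groth.Agent.Helper4.AmpleBasis.unitorL L).hom.app ⊤ z)
  refine ⟨fun i => (f.appTop.hom (a i) : Γ(X, ⊤)), ?_⟩
  have h2 : (Groth.Agent.Helper4.AmpleBasis.unitorL L).hom.app ⊤ z =
      (Groth.Agent.Helper4.AmpleBasis.unitorL L).hom.app ⊤
        (∑ i, SecTwist.tmul (Coh.structureModule X) L ⊤ (f.appTop.hom (a i) : Γ(X, ⊤))
          (SecTwist.val (σ i) ⊤)) := by
    rw [ha]
    refine Eq.trans ?_ (map_sum ((Groth.Agent.Helper4.AmpleBasis.unitorL L).hom.app ⊤).hom _ _).symm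
    refine Finset.sum_congr rfl (fun i _ => ?_)
    exact (unitorL_tmul L ⊤ _ _).symm
  exact (unitorL_inv_hom L ⊤ z).symm.trans ((congrArg
    (fun w => (Groth.Agent.Helper4.AmpleBasis.unitorL L).inv.app ⊤ w) h2).trans
      (unitorL_inv_hom L ⊤ _))

/-- **the coordinate ring of a chart is generated by the base ring and the ratios**, when the
sections span the global sections of `L` over the base ring and the section ring is generated in
degree one -/
theorem subring_eq_top_of_span [CompactSpace X] [QuasiSeparatedSpace X]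
    (hL : PicF.IsInvertible L)
    (hspan : ∀ z : Γ(L, ⊤), ∃ a : Fin r → Γ(S, ⊤), z = ∑ i, f.appTop.hom (a i) • sec (σ i) ⊤)
    (hmul : ∀ (n : ℕ) (z : Γ(CohB1.tensorPow L (n + 2), ⊤)),
      ∃ y : Fin r → Γ(CohB1.tensorPow L (n + 1), ⊤),
        z = ∑ i, SecTwist.tmul (CohB1.tensorPow L (n + 1)) L ⊤ (y i) (SecTwist.val (σ i) ⊤))
    (T : Subring Γ((XE σ α : Scheme.{u}), ⊤))
    (h1 : ∀ a, ((XE σ α).ι ≫ f).appTop.hom a ∈ T) (h2 : ∀ k, toTop (ratio σ k α) ∈ T) :
    T = ⊤ := by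
  classical
  set T' : Subring Γ(X, XE σ α) := T.comap (XE σ α).topIso.inv.hom with hT'
  have h2' : ∀ k, ratio σ k α ∈ T' := fun k => by
    rw [hT', Subring.mem_comap]
    exact h2 k
  have hA : ∀ a : Γ(S, ⊤),
      X.presheaf.map (homOfLE (le_top : XE σ α ≤ ⊤)).op (f.appTop.hom a) ∈ T' := fun a => by
    rw [hT', Subring.mem_comap]
    have h3 := Groth.Agent.Helper1.PUPg.toTop_res_top (U := XE σ α) (f.appTop.hom a)
    unfold toTop at h3
    rw [h3]
    have h4 := h1 a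
    rw [Scheme.Hom.comp_appTop] at h4
    exact h4
  have h1' : ∀ b : Γ(X, ⊤), X.presheaf.map (homOfLE (le_top : XE σ α ≤ ⊤)).op b ∈ T' := by
    intro b
    obtain ⟨a, ha⟩ := hspan (b • sec (σ α) ⊤)
    have hres := congrArg (L.presheaf.map (homOfLE (le_top : XE σ α ≤ ⊤)).op) ha
    rw [Scheme.Modules.map_smul, sec_res, sum_res (M := L)] at hres
    have hsum : ∑ i, L.presheaf.map (homOfLE (le_top : XE σ α ≤ ⊤)).op
        (f.appTop.hom (a i) • sec (σ i) ⊤) =
        (∑ i, X.presheaf.map (homOfLE (le_top : XE σ α ≤ ⊤)).op (f.appTop.hom (a i)) *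
          ratio σ i α) • sec (σ α) (XE σ α) := by
      rw [Finset.sum_smul]
      refine Finset.sum_congr rfl (fun i _ => ?_)
      rw [Scheme.Modules.map_smul, sec_res, mul_smul, ratio_spec]
    rw [hsum] at hres
    have h0 : (X.presheaf.map (homOfLE (le_top : XE σ α ≤ ⊤)).op b -
        ∑ i, X.presheaf.map (homOfLE (le_top : XE σ α ≤ ⊤)).op (f.appTop.hom (a i)) *
          ratio σ i α) • sec (σ α) (XE σ α) = 0 := by
      rw [sub_smul]
      exact sub_eq_zero.mpr hres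
    have h3 := eq_zero_of_smul_sec (σ α) (le_refl (XE σ α)) _ h0
    rw [sub_eq_zero.mp h3]
    exact Subring.sum_mem _ (fun i _ => Subring.mul_mem _ (hA (a i)) (h2' i))
  have hmul' : ∀ (n : ℕ) (z : Γ(CohB1.tensorPow L (n + 1), ⊤)),
      ∃ y : Fin r → Γ(CohB1.tensorPow L n, ⊤),
        z = ∑ i, SecTwist.tmul (CohB1.tensorPow L n) L ⊤ (y i) (SecTwist.val (σ i) ⊤) := by
    intro n z
    cases n with
    | zero => exact hmul_zero f σ hspan z
    | succ n => exact hmul n z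
  have hall := inT_all σ α T' h1' h2' hmul'
  have hmem := mem_of_inT σ α hL T' hall
  rw [eq_top_iff]
  intro x _
  have h4 : (XE σ α).topIso.hom.hom x ∈ T' := hmem _
  have h5 : (XE σ α).topIso.inv.hom ((XE σ α).topIso.hom.hom x) = x := by
    rw [← CommRingCat.comp_apply, Iso.hom_inv_id]
    rfl
  rw [hT', Subring.mem_comap, h5] at h4
  exact h4

end Gen

end Groth.Agent.Helper4.SN
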