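import Mathlib

set_option autoImplicit false
universe u
open CategoryTheory CategoryTheory.Limits AlgebraicGeometry Opposite TopologicalSpace

namespace Groth.Agent.Helper4.UCSpan

/-- in a locally ringed space, `1 - r` is invertible wherever `r` is not -/
theorem mem_basicOpen_one_sub {P : Scheme.{u}} {Ω : P.Opens} (r : Γ(P, Ω)) (w : P) (hw : w ∈ Ω)
    (h : w ∉ P.basicOpen r) : w ∈ P.basicOpen (1 - r) := by
  rw [Scheme.mem_basicOpen _ _ _ hw] at h ⊢
  rw [map_sub, map_one]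
  exact IsLocalRing.isUnit_one_sub_self_of_mem_nonunits _ h

/-- pulling back `1 - a b` along a map through which both factors are computed -/
theorem app_one_sub_eq_zero {Us P X Y : Scheme.{u}} (γ : Us ⟶ P) (pr : P ⟶ X) (p : P ⟶ Y)
    (j : Us ⟶ X) (g : Us ⟶ Y) (h1 : γ ≫ pr = j) (h2 : γ ≫ p = g) (W : X.Opens) (a : Γ(X, W))
    (β : Γ(Y, ⊤))
    (hab : j.app W a * Us.presheaf.map (homOfLE (le_top : j ⁻¹ᵁ W ≤ ⊤)).op (g.appTop β) = 1) :
    γ.app (pr ⁻¹ᵁ W) (1 - pr.app W a *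
      P.presheaf.map (homOfLE (le_top : pr ⁻¹ᵁ W ≤ ⊤)).op (p.appTop β)) = 0 := by
  subst h1 h2
  rw [map_sub, map_one, map_mul, sub_eq_zero]
  refine Eq.trans hab.symm ?_
  congr 1
  have := γ.naturality (homOfLE (le_top : pr ⁻¹ᵁ W ≤ ⊤)).op
  exact (congrArg (fun φ => φ.hom (p.appTop β)) this).symm

/-- the geometric core: if `X` is universally closed over an affine base, `j : Us ⟶ X` is a map
from a quasi-compact scheme and the global functions `b i` on `Us` are inverse on `j⁻¹ (W i)` to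
functions coming from an open cover `W i` of `X`, then the `b i` generate the unit ideal. -/
theorem span_eq_top_of_universallyClosed {X S Us : Scheme.{u}} (f : X ⟶ S) [IsAffine S]
    [UniversallyClosed f] [CompactSpace Us] (j : Us ⟶ X) {ι : Type*} (W : ι → X.Opens)
    (hW : ∀ x : X, ∃ i, x ∈ W i) (a : ∀ i, Γ(X, W i)) (b : ι → Γ(Us, ⊤))
    (hab : ∀ i, j.app (W i) (a i) *
      Us.presheaf.map (homOfLE (le_top : j ⁻¹ᵁ W i ≤ ⊤)).op (b i) = 1) :
    Ideal.span (Set.range b) = ⊤ := by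
  by_contra hne
  obtain ⟨𝔪, h𝔪, hle⟩ := Ideal.exists_le_maximal _ hne
  let Y : Scheme.{u} := Spec Γ(Us, ⊤)
  let g : Us ⟶ Y := Us.toSpecΓ
  let π : Y ⟶ S := Spec.map (j ≫ f).appTop ≫ S.isoSpec.inv
  have hgπ : g ≫ π = j ≫ f := by
    change Us.toSpecΓ ≫ Spec.map (j ≫ f).appTop ≫ S.isoSpec.inv = j ≫ f
    rw [← Scheme.toSpecΓ_naturality_assoc]
    change (j ≫ f) ≫ S.isoSpec.hom ≫ S.isoSpec.inv = j ≫ f
    rw [Iso.hom_inv_id, Category.comp_id]
  let pr : pullback f π ⟶ X := pullback.fst f π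
  let p : pullback f π ⟶ Y := pullback.snd f π
  let γ : Us ⟶ pullback f π := pullback.lift j g hgπ.symm
  have hγ1 : γ ≫ pr = j := pullback.lift_fst _ _ _
  have hγ2 : γ ≫ p = g := pullback.lift_snd _ _ _
  let y : Y := (⟨𝔪, h𝔪.isPrime⟩ : PrimeSpectrum Γ(Us, ⊤))
  have hdense : DenseRange g := g.denseRange
  have hy : y ∈ closure (Set.range g) := hdense y
  have hrange : Set.range g = p '' Set.range γ := by
    rw [← Set.range_comp]
    congr 1
    ext u
    rw [← hγ2]; rfl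
  rw [hrange] at hy
  obtain ⟨w, hw, hwy⟩ := p.isClosedMap.closure_image_subset _ hy
  obtain ⟨i, hi⟩ := hW (pr w)
  set β : Γ(Y, ⊤) := (Scheme.ΓSpecIso Γ(Us, ⊤)).inv (b i) with hβ
  have hgβ : g.appTop β = b i := by
    change Us.toSpecΓ.appTop ((Scheme.ΓSpecIso Γ(Us, ⊤)).inv (b i)) = b i
    rw [Scheme.toSpecΓ_appTop]
    exact Iso.inv_hom_id_apply (C := CommRingCat) _ _
  set r : Γ(pullback f π, pr ⁻¹ᵁ W i) := pr.app (W i) (a i) *
    (pullback f π).presheaf.map (homOfLE (le_top : pr ⁻¹ᵁ W i ≤ ⊤)).op (p.appTop β) with hr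
  have hwΩ : w ∈ pr ⁻¹ᵁ W i := hi
  have hnot : w ∉ (pullback f π).basicOpen r := by
    intro hcon
    rw [hr, Scheme.basicOpen_mul, Scheme.basicOpen_res] at hcon
    have h1 : w ∈ (pullback f π).basicOpen (p.appTop β) := hcon.2.2
    rw [← Scheme.preimage_basicOpen_top] at h1
    have h2 : y ∈ Y.basicOpen β := by rw [← hwy]; exact h1
    rw [hβ, basicOpen_eq_of_affine] at h2
    exact h2 (hle (Ideal.subset_span ⟨i, rfl⟩))
  have hmem := mem_basicOpen_one_sub r w hwΩ hnot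
  obtain ⟨_, hz, ⟨u, rfl⟩⟩ := mem_closure_iff.mp hw _ ((pullback f π).basicOpen (1 - r)).isOpen hmem
  have hu : u ∈ γ ⁻¹ᵁ (pullback f π).basicOpen (1 - r) := hz
  rw [Scheme.preimage_basicOpen, hr,
    app_one_sub_eq_zero γ pr p j g hγ1 hγ2 (W i) (a i) β (by rw [hgβ]; exact hab i),
    Scheme.basicOpen_zero] at hu
  exact hu

end Groth.Agent.Helper4.UCSpan
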