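import Groth.Agent.Helper4.SecRatio
import Groth.Agent.Helper4.UCSpan
import Groth.Agent.Helper4.TensorAssoc
import Mathlib

set_option autoImplicit false
universe u
open CategoryTheory CategoryTheory.Limits AlgebraicGeometry Opposite TopologicalSpace

namespace Groth.Agent.Helper4.UCAffine

open Groth.Agent.Helper4.GenLoc Groth.Agent.Helper4.GenLocIso Groth.Agent.Helper4.StalkExact
  Groth.Agent.Helper4.SecRatio Groth.Agent.Helper4.UCSpan Groth.Agent.Helper4.TensorAssoc
  Groth.Agent.Helper4.TensorInv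

variable {X : Scheme.{u}}

theorem presheaf_map_irrel {A B : X.Opens} (i i' : op A ⟶ op B) (r : Γ(X, A)) :
    X.presheaf.map i r = X.presheaf.map i' r := by
  have : i = i' := Subsingleton.elim _ _
  rw [this]

theorem presheaf_map_map {A B C : X.Opens} (i : op A ⟶ op B) (k : op B ⟶ op C)
    (l : op A ⟶ op C) (r : Γ(X, A)) :
    X.presheaf.map k (X.presheaf.map i r) = X.presheaf.map l r := by
  rw [← CommRingCat.comp_apply, ← Functor.map_comp]
  exact presheaf_map_irrel _ _ r

/-- over an affine base, the non-vanishing locus of a section of an ample module on a universally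
closed scheme is affine -/
theorem isAffineOpen_genLocus_of_universallyClosed {S : Scheme.{u}} (f : X ⟶ S) [IsAffine S]
    [UniversallyClosed f] (L : X.Modules) (hL : CohB1.IsAmple L)
    (s : Coh.structureModule X ⟶ L) : IsAffineOpen (CohB1.genLocus L s) := by
  obtain ⟨hLinv, hcpt, hamp⟩ := hL
  haveI := hcpt
  set U := CohB1.genLocus L s with hU
  haveI : IsAffineHom U.ι := isAffineHom_genLocus_ι L hLinv s
  haveI : CompactSpace (U : Scheme.{u}) := QuasiCompact.compactSpace_of_compactSpace U.ι
  choose n t hxt haff using hamp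
  let M : X → X.Modules := fun x => CohB1.tensorPow L (n x + 1)
  let σ : ∀ x, Coh.structureModule X ⟶ M x := fun x => SecTwist.powHom s (n x + 1)
  have hσ : ∀ x, CohB1.genLocus (M x) (σ x) = U := fun x => genLocus_powHom hLinv s (n x)
  let W : X → X.Opens := fun x => CohB1.genLocus (M x) (t x)
  let a : ∀ x, Γ(X, W x) := fun x => ratio (M x) (t x) (σ x)
  have hle : ∀ x, U.ι ''ᵁ ⊤ ≤ CohB1.genLocus (M x) (σ x) := fun x => by
    rw [hσ x, U.ι_image_top]
  let b : X → Γ((U : Scheme.{u}), ⊤) := fun x =>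
    X.presheaf.map (homOfLE (hle x)).op (ratio (M x) (σ x) (t x))
  have hspan : Ideal.span (Set.range b) = ⊤ := by
    refine span_eq_top_of_universallyClosed f U.ι W (fun x => ⟨x, hxt x⟩) a b ?_
    intro x
    have hT1 : U.ι ''ᵁ (U.ι ⁻¹ᵁ W x) ≤ CohB1.genLocus (M x) (σ x) := by
      rw [hσ x]; exact U.ι_image_le _
    have hT2 : U.ι ''ᵁ (U.ι ⁻¹ᵁ W x) ≤ CohB1.genLocus (M x) (t x) := by
      rintro _ ⟨y, hy, rfl⟩
      exact hy
    have key := ratio_mul_ratio (M x) (σ x) (t x) hT1 hT2
    refine Eq.trans ?_ key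
    congr 1
    exact presheaf_map_map (X := X) (homOfLE (hle x)).op
      (U.ι.opensFunctor.map (homOfLE (le_top : U.ι ⁻¹ᵁ W x ≤ ⊤))).op (homOfLE hT1).op _
  have : IsAffine (U : Scheme.{u}) := by
    refine isAffine_of_isAffineOpen_basicOpen (Set.range b) hspan ?_
    rintro _ ⟨x, rfl⟩
    have heq : (U : Scheme.{u}).basicOpen (b x) = U.ι ⁻¹ᵁ W x := by
      ext u
      refine Iff.trans (Scheme.Opens.mem_basicOpen_toScheme (U := U) (V := ⊤) (r := b x)) ?_
      change u.1 ∈ X.basicOpen (X.presheaf.map (homOfLE (hle x)).op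
        (ratio (M x) (σ x) (t x))) ↔ _
      rw [Scheme.basicOpen_res, basicOpen_ratio]
      constructor
      · intro h; exact h.2.2
      · intro h
        refine ⟨?_, ?_, h⟩
        · rw [U.ι_image_top]; exact u.2
        · rw [hσ x]; exact u.2
    rw [heq]
    exact (haff x).preimage U.ι
  exact this

end Groth.Agent.Helper4.UCAffine
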