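import Mathlib
import Groth.Agent.Helper4.SN183
import Groth.Agent.Helper4.SN69
import Groth.Agent.Helper4.UCAffine
import Groth.Agent.Helper4.AmpleFinite
import Groth.Agent.S19496

/-!
# An ample module on a scheme proper over a Noetherian ring with `H¹(O) = 0` and fibres of
dimension at most one: the charts of a spanning family of sections
-/

set_option autoImplicit false
set_option linter.style.haveILetI false

namespace Groth.Agent.Helper4.SN

open CategoryTheory Limits AlgebraicGeometry Opposite TopologicalSpace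
open Groth.Agent.Helper4.GenLoc Groth.Agent.Helper1.PUP

universe u

section GenSmul

variable {X : Scheme.{u}}

/-- a multiple of a section generates at most where the section does -/
theorem genLocus_le_of_smul {N : X.Modules} (hN : PicF.IsInvertible N)
    (σ τ : Coh.structureModule X ⟶ N) (g : Γ(X, ⊤)) (h : sec τ ⊤ = g • sec σ ⊤) :
    CohB1.genLocus N τ ≤ CohB1.genLocus N σ := by
  intro z hz
  obtain ⟨T, e, hzT, -, hfr, hall⟩ := Groth.Agent.Helper4.AmpleFinite.exists_chart_forall N hN z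
  obtain ⟨b, hb1, hb2⟩ := hall σ
  obtain ⟨b', hb1', hb2'⟩ := hall τ
  have h1 : sec τ T = X.presheaf.map (homOfLE (le_top : T ≤ ⊤)).op g • sec σ T := by
    rw [← sec_res τ (le_top : T ≤ ⊤), h, Scheme.Modules.map_smul, sec_res]
  have h2 : b' • e = (X.presheaf.map (homOfLE (le_top : T ≤ ⊤)).op g * b) • e := by
    rw [mul_smul]
    exact hb1'.symm.trans (h1.trans (congrArg (fun w => X.presheaf.map
      (homOfLE (le_top : T ≤ ⊤)).op g • w) hb1))
  have h3 := Groth.Agent.Helper4.AmpleFinite.frame_smul_cancel hfr _ _ h2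
  have h4 : z ∈ X.basicOpen b' := by rw [hb2']; exact ⟨hz, hzT⟩
  rw [h3, X.basicOpen_mul] at h4
  have h5 : z ∈ X.basicOpen b := h4.2
  rw [hb2] at h5
  exact h5.1

end GenSmul

section Nef

variable {A : Type u} [CommRing A] {X : Scheme.{u}} (f : X ⟶ Spec (CommRingCat.of A)) [IsProper f]

/-- an ample module is relatively nef -/
theorem nef_of_isAmple (L : X.Modules) (hL : CohB1.IsAmple L)
    (K : Type u) [Field K] (i' : A →+* K) (J : X.IdealSheafData)
    (t : J.subscheme ⟶ Spec (CommRingCat.of K))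
    (hint : AlgebraicGeometry.IsIntegral J.subscheme) (hd : topologicalKrullDim ↥J.subscheme = 1)
    (hcomm : t ≫ Spec.map (CommRingCat.ofHom i') = J.subschemeι ≫ f) :
    0 ≤ @Curv2.deg K _ J.subscheme ⟨t⟩ ((Scheme.Modules.pullback J.subschemeι).obj L) 1 := by
  letI : J.subscheme.Over (Spec (CommRingCat.of K)) := ⟨t⟩
  haveI : IsProper (t ≫ Spec.map (CommRingCat.ofHom i')) := by
    rw [hcomm]; infer_instance
  haveI : IsProper t := IsProper.of_comp t (Spec.map (CommRingCat.ofHom i'))
  haveI : IsProper (J.subscheme ↘ Spec (CommRingCat.of K)) := ‹IsProper t›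
  haveI := hint
  exact (deg_pos_of_isAmple K hd _ (Groth.Agent.Helper4.PullSec.isInvertible_pullback _ hL.1)
    (Groth.Agent.Helper4.PullAmple.isAmple_pullback_of_isAffineHom _ hL)).le

end Nef

section Core

variable (A : Type u) [CommRing A] [IsNoetherianRing A] (X : Scheme.{u})
  (f : X ⟶ Spec (CommRingCat.of A)) [IsProper f]

/-- **the charts of a spanning family of sections of an ample module** -/
theorem charts_of_span
    (h1 : Subsingleton (Coh.HH X (Coh.structureModule X) 1))
    (hfib : ∀ y : ↥(Spec (CommRingCat.of A)), topologicalKrullDim ↥(f.fiber y) ≤ 1)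
    (L : X.Modules) (hL : CohB1.IsAmple L) {r : ℕ}
    (σ : Fin r → (Coh.structureModule X ⟶ L))
    (hspan : ∀ z : Γ(L, ⊤), ∃ a : Fin r → Γ(Spec (CommRingCat.of A), ⊤),
      z = ∑ i, f.appTop.hom (a i) • sec (σ i) ⊤) :
    (⨆ e, XE σ e = ⊤) ∧ (∀ α, IsAffineOpen (XE σ α)) ∧
    (∀ α, ∀ T : Subring Γ((XE σ α : Scheme.{u}), ⊤),
      (∀ a, ((XE σ α).ι ≫ f).appTop.hom a ∈ T) → (∀ k, toTop (ratio σ k α) ∈ T) → T = ⊤) := by
  classical
  letI : X.Over (Spec (CommRingCat.of A)) := ⟨f⟩
  haveI : IsProper (X ↘ Spec (CommRingCat.of A)) := ‹IsProper f›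
  haveI : IsLocallyNoetherian X := LocallyOfFiniteType.isLocallyNoetherian f
  haveI : CompactSpace X := hL.2.1
  haveI : QuasiSeparatedSpace X := quasiSeparatedSpace_of_quasiSeparated f
  have hLi := hL.1
  have hvan : ∀ G : X.Modules, Coh.IsCoh G → Subsingleton (Coh.HH X G 2) := fun G hG =>
    subsingleton_HH_of_fibres A X f 1 hfib G hG 2 (by norm_num)
  obtain ⟨hgg, -⟩ := Groth.Agent.S19496.result A X f h1 hfib L hLi
    (fun K _ i' J t hint hd hcomm => nef_of_isAmple f L hL K i' J t hint hd hcomm)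
  -- the cover
  have hcov : ∀ x : X, ∃ i, x ∈ CohB1.genLocus L (σ i) := by
    intro x
    obtain ⟨t, ht⟩ :=
      Groth.Agent.Helper4.GGSec.exists_mem_genLocus_of_isGloballyGenerated L hLi hgg x
    obtain ⟨a, ha⟩ := hspan (sec t ⊤)
    by_contra hcon
    push Not at hcon
    let τ : Fin r → (Coh.structureModule X ⟶ L) := fun i =>
      Groth.Agent.Lead.LocLift.homOfTop L (f.appTop.hom (a i) • sec (σ i) ⊤)
    have hτ : ∀ i ∈ (Finset.univ : Finset (Fin r)), x ∉ CohB1.genLocus L (τ i) := by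
      intro i _ hx
      exact hcon i (genLocus_le_of_smul hLi (σ i) (τ i) (f.appTop.hom (a i))
        (sec_homOfTop _) hx)
    have hsum := Groth.Agent.Helper4.AmpleFinite.notMem_genLocus_sum hLi Finset.univ τ x hτ
    have ht' : t = ∑ i, τ i := by
      apply Groth.Agent.Lead.LocLift.hom_unit_ext
      rw [Groth.Agent.Helper4.SerreCrit.sum_app]
      refine Eq.trans (ha) ?_
      refine Finset.sum_congr rfl (fun i _ => ?_)
      exact (Groth.Agent.Lead.LocLift.homOfTop_app_one L _).symm
    rw [← ht'] at hsum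
    exact hsum ht
  have hH1 : ∀ n : ℕ, Subsingleton (Coh.HH X (CohB1.tensorPow L n) 1) := fun n =>
    subsingleton_H1_tensorPow A σ hLi hcov hvan 0 h1 n (Nat.zero_le n)
  have hmul : ∀ (n : ℕ) (z : Γ(CohB1.tensorPow L (n + 2), ⊤)),
      ∃ y : Fin r → Γ(CohB1.tensorPow L (n + 1), ⊤),
        z = ∑ i, SecTwist.tmul (CohB1.tensorPow L (n + 1)) L ⊤ (y i) (SecTwist.val (σ i) ⊤) :=
    fun n z => exists_sum_tmul A σ hLi hcov (CohB1.tensorPow L n)
      (Groth.Agent.Helper1.SerreFin.isCoh_of_isInvertible _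
        (Groth.Agent.Helper4.TensorInv.isInvertible_tensorPow hLi n)) (hH1 n) hvan z
  refine ⟨?_, fun α => ?_, fun α T hT1 hT2 => ?_⟩
  · rw [eq_top_iff]
    intro x _
    obtain ⟨i, hi⟩ := hcov x
    exact (le_iSup (fun e => XE σ e) i) hi
  · exact Groth.Agent.Helper4.UCAffine.isAffineOpen_genLocus_of_universallyClosed f L hL (σ α)
  · exact subring_eq_top_of_span f σ α hLi hspan hmul T hT1 hT2

end Core

end Groth.Agent.Helper4.SN
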