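import Mathlib
import Groth.Agent.Helper4.SN184
import Groth.Agent.Helper1.SV1
import Groth.Agent.Lead.ProperFinA
import Groth.Agent.S0002

/-!
# Ample modules are very ample in genus zero: spanning families and the immersion
-/

set_option autoImplicit false
set_option linter.style.haveILetI false

namespace Groth.Agent.Helper4.SN

open CategoryTheory Limits AlgebraicGeometry Opposite TopologicalSpace
open Groth.Agent.Helper4.GenLoc Groth.Agent.Helper1.PUP Groth.Agent.Helper1.VA
  Groth.Agent.Helper1.Segre Groth.Agent.Helper1.ProjMor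
open Groth.Agent.Helper1.Fin Groth.Agent.Helper1.SV

universe u

section FibDim

theorem dim_fiber_le {X Y : Scheme.{u}} (f : X ⟶ Y) (y : Y) :
    topologicalKrullDim ↥(f.fiber y) ≤ topologicalKrullDim X := by
  have h := IsHomeomorph.topologicalKrullDim_eq (f.fiberHomeo y) (f.fiberHomeo y).isHomeomorph
  rw [h]
  exact topologicalKrullDim_subspace_le X _

end FibDim

section Span

variable (A : Type u) [CommRing A] {X : Scheme.{u}} [X.Over (Spec (CommRingCat.of A))]

/-- the section attached to a class in `H⁰` -/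
noncomputable def secOfH0 (L : X.Modules) (x : Coh.HH X L 0) : Coh.structureModule X ⟶ L :=
  Groth.Agent.Lead.LocLift.homOfTop L (Groth.Agent.Lead.ProperFinA.h0Equiv L x)

/-- generators of `H⁰(X, L)` over `A` give a spanning family of sections -/
theorem span_of_generators (L : X.Modules) {n : ℕ} (s : Fin n → Coh.HH X L 0)
    (hs : Submodule.span A (Set.range s) = ⊤) (z : Γ(L, ⊤)) :
    ∃ a : Fin n → Γ(Spec (CommRingCat.of A), ⊤),
      z = ∑ i, (X ↘ Spec (CommRingCat.of A)).appTop.hom (a i) • sec (secOfH0 L (s i)) ⊤ := by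
  have hx : (Groth.Agent.Lead.ProperFinA.h0Equiv L).symm z ∈ Submodule.span A (Set.range s) := by
    rw [hs]; trivial
  obtain ⟨c, hc⟩ := (Submodule.mem_span_range_iff_exists_fun A).mp hx
  refine ⟨fun i => (Scheme.ΓSpecIso (CommRingCat.of A)).inv.hom (c i), ?_⟩
  have h1 : z = Groth.Agent.Lead.ProperFinA.h0Equiv L (∑ i, c i • s i) := by
    rw [hc]
    exact ((Groth.Agent.Lead.ProperFinA.h0Equiv L).apply_symm_apply z).symm
  rw [h1, map_sum]
  refine Finset.sum_congr rfl (fun i _ => ?_)
  have h2 : sec (secOfH0 L (s i)) ⊤ = Groth.Agent.Lead.ProperFinA.h0Equiv L (s i) :=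
    sec_homOfTop _
  rw [h2]
  exact Groth.Agent.Lead.ProperFinA.h0Equiv_smul L
    (Coh.toGlobal (X ↘ Spec (CommRingCat.of A)) (c i)) (s i)

end Span

section Imm

variable {X S : Scheme.{u}} (f : X ⟶ S) {M : X.Modules} {K : ℕ}
  (σ : Fin (K + 1) → (Coh.structureModule X ⟶ M)) (hcov : ⨆ e, XE σ e = ⊤)

include hcov in
/-- the chart criterion, with the dimension of the projective space made explicit -/
theorem exists_immersion_of_charts [IsAffine S]
    (haff : ∀ α, IsAffineOpen (XE σ α))
    (hgen : ∀ α, ∀ T : Subring Γ((XE σ α : Scheme.{u}), ⊤),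
      (∀ a, ((XE σ α).ι ≫ f).appTop.hom a ∈ T) → (∀ k, toTop (ratio σ k α) ∈ T) → T = ⊤) :
    ∃ i : X ⟶ CohB1.ProjSpaceOver K S, IsImmersion i ∧
      i ≫ CohB1.ProjSpaceOver.toBase K S = f ∧
      Nonempty (M ≅ (Scheme.Modules.pullback i).obj (Twist.twistOver K S 1)) := by
  refine ⟨iS f σ hcov, ?_, liftPSO_toBase _ _, ?_⟩
  · haveI : ∀ α : Fin (K + 1), IsImmersion (cl f σ hcov α) := fun α => by
      haveI := isClosedImmersion_cl f σ hcov α (haff α) (hgen α)
      infer_instance
    exact isImmersion_of_factor (iS f σ hcov) (fun α : Fin (K + 1) => XE σ α) hcov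
      (fun α => ZZ S K α)
      (fun α => om S K α) (fun α => cl f σ hcov α) (fun α => hfac f σ hcov α)
      (fun α => hpre f σ hcov α)
  · obtain ⟨τ, -⟩ := exists_iso_rr K qz σ hcov
    have h : iS f σ hcov ≫ prZ K S = rr' K qz σ hcov := liftPSO_prZ _ _
    exact ⟨τ.symm ≪≫ (Scheme.Modules.pullbackCongr h).symm.app _ ≪≫
      (Scheme.Modules.pullbackComp (iS f σ hcov) (prZ K S)).symm.app _⟩

end Imm

section Closed

variable (A : Type u) [CommRing A] {X : Scheme.{u}}
  (g : X ⟶ Spec (CommRingCat.of A)) [IsProper g] {M : X.Modules} {K : ℕ}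
  (σ : Fin (K + 1) → (Coh.structureModule X ⟶ M)) (hcov : ⨆ e, XE σ e = ⊤)

include hcov in
/-- for a proper scheme over an affine base the chart criterion gives a closed immersion into
projective space over the ring -/
theorem exists_closedImmersion_of_charts
    (haff : ∀ α, IsAffineOpen (XE σ α))
    (hgen : ∀ α, ∀ T : Subring Γ((XE σ α : Scheme.{u}), ⊤),
      (∀ a, ((XE σ α).ι ≫ g).appTop.hom a ∈ T) → (∀ k, toTop (ratio σ k α) ∈ T) → T = ⊤) :
    ∃ c : X ⟶ CohB1.ProjSpace K A, IsClosedImmersion c ∧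
      c ≫ CohB1.ProjSpace.toSpec K A = g ∧
      Nonempty ((Scheme.Modules.pullback c).obj (Twist.twistProjSpace K A 1) ≅ M) := by
  obtain ⟨i, himm, hi, ⟨φ⟩⟩ := exists_immersion_of_charts g σ hcov haff hgen
  haveI := himm
  haveI : IsProper (CohB1.ProjSpaceOver.toBase K (Spec (CommRingCat.of A))) :=
    Groth.Agent.Helper6.HProj.isProper_toBase K _
  haveI : IsProper (i ≫ CohB1.ProjSpaceOver.toBase K (Spec (CommRingCat.of A))) := by
    rw [hi]
    infer_instance
  haveI : IsProper i := IsProper.of_comp i (CohB1.ProjSpaceOver.toBase K (Spec (CommRingCat.of A)))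
  haveI : IsClosedImmersion i := IsClosedImmersion.of_isPreimmersion _ i.isClosedMap.isClosed_range
  haveI : IsClosedImmersion (i ≫ κκ A K) := IsClosedImmersion.comp i (κκ A K)
  refine ⟨i ≫ κκ A K, inferInstance, ?_, ?_⟩
  · rw [Category.assoc, κκ_toSpec]
    exact hi
  · exact ⟨((Scheme.Modules.pullbackComp i (κκ A K)).app (Twist.twistProjSpace K A 1)).symm ≪≫
      (Scheme.Modules.pullback i).mapIso (κκTwistIso A K 1) ≪≫ φ.symm⟩

end Closed

section Main

/-- generators of a finite module, at least one of them -/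
theorem exists_fin_succ_generators (A : Type u) [CommRing A] (M : Type u) [AddCommGroup M]
    [Module A M] [Module.Finite A M] :
    ∃ (n : ℕ) (s : Fin (n + 1) → M), Submodule.span A (Set.range s) = ⊤ := by
  obtain ⟨n, s, hs⟩ := Module.Finite.exists_fin (R := A) (M := M)
  refine ⟨n, Fin.cons 0 s, ?_⟩
  rw [eq_top_iff, ← hs]
  apply Submodule.span_mono
  rintro _ ⟨i, rfl⟩
  exact ⟨i.succ, by simp⟩

/-- **S19503**, for an ample module -/
theorem main19503 (A : Type u) [CommRing A] [IsNoetherianRing A] (X : Scheme.{u})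
    (f : X ⟶ Spec (CommRingCat.of A)) [IsProper f]
    (h1 : Subsingleton (Coh.HH X (Coh.structureModule X) 1))
    (hfib : ∀ y : ↥(Spec (CommRingCat.of A)), topologicalKrullDim ↥(f.fiber y) ≤ 1)
    (L : X.Modules) (hL : CohB1.IsAmple L) : RelAmple.IsRelVeryAmplePn f L := by
  letI : X.Over (Spec (CommRingCat.of A)) := ⟨f⟩
  haveI : IsProper (X ↘ Spec (CommRingCat.of A)) := ‹IsProper f›
  have hcL : Coh.IsCoh L := Groth.Agent.Helper1.SerreFin.isCoh_of_isInvertible L hL.1
  haveI : Module.Finite A (Coh.HH X L 0) := Groth.Agent.S0002.result A X L hcL 0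
  obtain ⟨n, s, hs⟩ := exists_fin_succ_generators A (Coh.HH X L 0)
  have hspan := span_of_generators A L s hs
  obtain ⟨hcov, haff, hgen⟩ := charts_of_span A X f h1 hfib L hL (fun i => secOfH0 L (s i)) hspan
  obtain ⟨i, himm, hi, hφ⟩ :=
    exists_immersion_of_charts f (fun i => secOfH0 L (s i)) hcov haff hgen
  exact ⟨n, i, himm, hi, hφ⟩

/-- **S16297**, with the number of sections left free -/
theorem main16297 (k : Type u) [Field k] (X : Scheme.{u}) [X.Over (Spec (CommRingCat.of k))]
    [IsProper (X ↘ (Spec (CommRingCat.of k)))] (hdim : topologicalKrullDim X = 1)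
    (h1 : Subsingleton (Coh.HH X (Coh.structureModule X) 1))
    (L : X.Modules) (hA : CohB1.IsAmple L) {n : ℕ} (s : Fin (n + 1) → Coh.HH X L 0)
    (hs : Submodule.span k (Set.range s) = ⊤) :
    ∃ i : X ⟶ CohB1.ProjSpace n k, IsClosedImmersion i ∧
      i ≫ CohB1.ProjSpace.toSpec n k = X ↘ (Spec (CommRingCat.of k)) ∧
      Nonempty ((Scheme.Modules.pullback i).obj (Twist.twistProjSpace n k 1) ≅ L) := by
  have hfib : ∀ y : ↥(Spec (CommRingCat.of k)),
      topologicalKrullDim ↥((X ↘ (Spec (CommRingCat.of k))).fiber y) ≤ 1 := fun y =>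
    (dim_fiber_le _ y).trans hdim.le
  have hspan := span_of_generators k L s hs
  obtain ⟨hcov, haff, hgen⟩ := charts_of_span k X (X ↘ (Spec (CommRingCat.of k))) h1 hfib L hA
    (fun i => secOfH0 L (s i)) hspan
  exact exists_closedImmersion_of_charts k (X ↘ (Spec (CommRingCat.of k)))
    (fun i => secOfH0 L (s i)) hcov haff hgen

end Main

end Groth.Agent.Helper4.SN
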