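import Mathlib
import Groth.Agent.Helper4.SN185

/-!
# The square of a globally generated ample module with `H¹ = 0` on a curve: the ratios of the
sections of `L²` generate the coordinate rings of the charts
-/

set_option autoImplicit false
set_option linter.style.haveILetI false

namespace Groth.Agent.Helper4.SN

open CategoryTheory Limits AlgebraicGeometry Opposite TopologicalSpace
open Groth.Agent.Helper4.GenLoc Groth.Agent.Helper1.PUP

universe u

section Ratio2

variable {X : Scheme.{u}} {L : X.Modules} {r : ℕ}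
  (s : Fin r → (Coh.structureModule X ⟶ L)) (α : Fin r) (V : X.Opens)

/-- over `V ⊆ X_{s α}`: the restriction of the global section `z` of `L^n` is a multiple of
`(s α)^n` with coefficient in `T'` -/
def InTV (T' : Subring Γ(X, V)) (n : ℕ) (z : Γ(CohB1.tensorPow L n, ⊤)) : Prop :=
  ∃ c ∈ T', c • (SecTwist.pow (s α) n V : Γ(CohB1.tensorPow L n, V)) =
    (CohB1.tensorPow L n).presheaf.map (homOfLE (le_top : V ≤ ⊤)).op z

/-- the odd levels: the coefficient times any ratio lies in `T'` -/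
def InTρ (ρ : Fin r → Γ(X, V)) (T' : Subring Γ(X, V)) (n : ℕ)
    (z : Γ(CohB1.tensorPow L n, ⊤)) : Prop :=
  ∃ e : Γ(X, V), (∀ j, e * ρ j ∈ T') ∧
    e • (SecTwist.pow (s α) n V : Γ(CohB1.tensorPow L n, V)) =
      (CohB1.tensorPow L n).presheaf.map (homOfLE (le_top : V ≤ ⊤)).op z

/-- the basic computation -/
theorem step_core (ρ : Fin r → Γ(X, V)) (hρ : ∀ l, ρ l • sec (s α) V = sec (s l) V) (n : ℕ)
    (y : Fin r → Γ(CohB1.tensorPow L n, ⊤)) (c : Fin r → Γ(X, V))
    (hc : ∀ i, c i • (SecTwist.pow (s α) n V : Γ(CohB1.tensorPow L n, V)) =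
      (CohB1.tensorPow L n).presheaf.map (homOfLE (le_top : V ≤ ⊤)).op (y i)) :
    (∑ i, c i * ρ i) •
        (SecTwist.pow (s α) (n + 1) V : Γ(CohB1.tensorPow L (n + 1), V)) =
      (CohB1.tensorPow L (n + 1)).presheaf.map (homOfLE (le_top : V ≤ ⊤)).op
        (∑ i, SecTwist.tmul (CohB1.tensorPow L n) L ⊤ (y i) (SecTwist.val (s i) ⊤)) := by
  have hres : (CohB1.tensorPow L (n + 1)).presheaf.map (homOfLE (le_top : V ≤ ⊤)).op
      (∑ i, SecTwist.tmul (CohB1.tensorPow L n) L ⊤ (y i) (SecTwist.val (s i) ⊤)) =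
      ∑ i, (CohB1.tensorPow L (n + 1)).presheaf.map (homOfLE (le_top : V ≤ ⊤)).op
        (SecTwist.tmul (CohB1.tensorPow L n) L ⊤ (y i) (SecTwist.val (s i) ⊤)) :=
    sum_res (M := CohB1.tensorPow L (n + 1)) _ _ _
  rw [hres, Finset.sum_smul]
  refine Finset.sum_congr rfl (fun i _ => ?_)
  have e1 : (CohB1.tensorPow L (n + 1)).presheaf.map (homOfLE (le_top : V ≤ ⊤)).op
      (SecTwist.tmul (CohB1.tensorPow L n) L ⊤ (y i) (SecTwist.val (s i) ⊤)) =
      SecTwist.tmul (CohB1.tensorPow L n) L V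
        ((CohB1.tensorPow L n).presheaf.map (homOfLE (le_top : V ≤ ⊤)).op (y i))
        (sec (s i) V) := by
    refine (SecTwist.map_tmul (CohB1.tensorPow L n) L (homOfLE (le_top : V ≤ ⊤)) (y i)
      (SecTwist.val (s i) ⊤)).trans ?_
    congr 1
    exact sec_res (s i) (le_top : V ≤ ⊤)
  rw [e1, ← hc i, ← hρ i]
  refine Eq.trans ?_ (Groth.Agent.Helper4.TensorLift.tmul_smul_left (CohB1.tensorPow L n) L
    V (c i) (SecTwist.pow (s α) n V) (ρ i • sec (s α) V)).symm
  refine Eq.trans ?_ (congrArg (fun w => c i • w)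
    (Groth.Agent.Helper4.TensorLift.tmul_smul_right (CohB1.tensorPow L n) L
      V (ρ i) (SecTwist.pow (s α) n V) (sec (s α) V)).symm)
  exact mul_smul _ _ _

theorem stepA (ρ : Fin r → Γ(X, V)) (hρ : ∀ l, ρ l • sec (s α) V = sec (s l) V)
    (T' : Subring Γ(X, V)) (hρρ : ∀ l j, ρ l * ρ j ∈ T') (n : ℕ)
    (y : Fin r → Γ(CohB1.tensorPow L n, ⊤)) (hy : ∀ i, InTV s α V T' n (y i)) :
    InTρ s α V ρ T' (n + 1)
      (∑ i, SecTwist.tmul (CohB1.tensorPow L n) L ⊤ (y i) (SecTwist.val (s i) ⊤)) := by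
  choose c hcT hc using hy
  refine ⟨∑ i, c i * ρ i, fun j => ?_, step_core s α V ρ hρ n y c hc⟩
  rw [Finset.sum_mul]
  refine Subring.sum_mem _ (fun i _ => ?_)
  rw [mul_assoc]
  exact Subring.mul_mem _ (hcT i) (hρρ i j)

theorem stepB (ρ : Fin r → Γ(X, V)) (hρ : ∀ l, ρ l • sec (s α) V = sec (s l) V)
    (T' : Subring Γ(X, V)) (n : ℕ)
    (w : Fin r → Γ(CohB1.tensorPow L n, ⊤)) (hw : ∀ i, InTρ s α V ρ T' n (w i)) :
    InTV s α V T' (n + 1)
      (∑ i, SecTwist.tmul (CohB1.tensorPow L n) L ⊤ (w i) (SecTwist.val (s i) ⊤)) := by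
  choose e heT he using hw
  exact ⟨∑ i, e i * ρ i, Subring.sum_mem _ (fun i _ => heT i i), step_core s α V ρ hρ n w e he⟩

/-- the even levels -/
def ev : ℕ → ℕ
  | 0 => 0
  | m + 1 => ev m + 2

theorem le_ev (m : ℕ) : m ≤ ev m := by
  induction m with
  | zero => exact le_rfl
  | succ m ih => show m + 1 ≤ ev m + 2; omega

theorem inTV_even (ρ : Fin r → Γ(X, V)) (hρ : ∀ l, ρ l • sec (s α) V = sec (s l) V)
    (T' : Subring Γ(X, V)) (hρρ : ∀ l j, ρ l * ρ j ∈ T')
    (h2 : ∀ z : Γ(CohB1.tensorPow L 2, ⊤), InTV s α V T' 2 z)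
    (hmul : ∀ (n : ℕ), 2 ≤ n → ∀ z : Γ(CohB1.tensorPow L (n + 1), ⊤),
      ∃ y : Fin r → Γ(CohB1.tensorPow L n, ⊤),
        z = ∑ i, SecTwist.tmul (CohB1.tensorPow L n) L ⊤ (y i) (SecTwist.val (s i) ⊤))
    (m : ℕ) (z : Γ(CohB1.tensorPow L (ev m + 2), ⊤)) : InTV s α V T' (ev m + 2) z := by
  induction m with
  | zero => exact h2 z
  | succ m ih =>
    obtain ⟨w, hw⟩ := hmul (ev m + 3) (by omega) z
    have hwρ : ∀ j, InTρ s α V ρ T' (ev m + 3) (w j) := by
      intro j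
      obtain ⟨y, hy⟩ := hmul (ev m + 2) (by omega) (w j)
      rw [hy]
      exact stepA s α V ρ hρ T' hρρ (ev m + 2) y (fun l => ih (y l))
    have h := stepB s α V ρ hρ T' (ev m + 3) w hwρ
    rw [hw]
    exact h

theorem tmul2_smul (N : X.Modules) (ρ1 ρ2 : Γ(X, V)) (p : Γ(N, V)) (a : Γ(L, V)) :
    SecTwist.tmul (CohB1.tensorMod N L) L V (SecTwist.tmul N L V p (ρ1 • a)) (ρ2 • a) =
      (ρ1 * ρ2) • (SecTwist.tmul (CohB1.tensorMod N L) L V (SecTwist.tmul N L V p a) a :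
        Γ(CohB1.tensorMod (CohB1.tensorMod N L) L, V)) := by
  have e1 : SecTwist.tmul N L V p (ρ1 • a) =
      ρ1 • (SecTwist.tmul N L V p a : Γ(CohB1.tensorMod N L, V)) :=
    Groth.Agent.Helper4.TensorLift.tmul_smul_right N L V ρ1 p a
  rw [e1]
  refine (Groth.Agent.Helper4.TensorLift.tmul_smul_right (CohB1.tensorMod N L) L V ρ2
    (ρ1 • (SecTwist.tmul N L V p a : Γ(CohB1.tensorMod N L, V))) a).trans ?_
  refine (congrArg (fun w => ρ2 • w)
    (Groth.Agent.Helper4.TensorLift.tmul_smul_left (CohB1.tensorMod N L) L V ρ1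
      (SecTwist.tmul N L V p a) a)).trans ?_
  rw [← mul_smul, mul_comm]

theorem le_genLocus_powHom_of_le (hL : PicF.IsInvertible L) (hV : V ≤ XE s α) (n : ℕ) :
    V ≤ CohB1.genLocus (CohB1.tensorPow L (n + 1)) (SecTwist.powHom (s α) (n + 1)) :=
  hV.trans (XE_le_genLocus_powHom s α hL n)

theorem ratio_mul_mem (hL : PicF.IsInvertible L) (hV : V ≤ XE s α)
    (ρ : Fin r → Γ(X, V)) (hρ : ∀ l, ρ l • sec (s α) V = sec (s l) V)
    (T' : Subring Γ(X, V))
    (h2 : ∀ z : Γ(CohB1.tensorPow L 2, ⊤), InTV s α V T' 2 z) (l j : Fin r) :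
    ρ l * ρ j ∈ T' := by
  let τ : Coh.structureModule X ⟶ CohB1.tensorPow L 2 :=
    SecTwist.tmulHom (SecTwist.tmulHom (𝟙 (Coh.structureModule X)) (s l)) (s j)
  obtain ⟨c, hcT, hc⟩ := h2 (SecTwist.val τ ⊤)
  have h3 : (CohB1.tensorPow L 2).presheaf.map (homOfLE (le_top : V ≤ ⊤)).op (SecTwist.val τ ⊤) =
      (ρ l * ρ j) • (SecTwist.pow (s α) 2 V : Γ(CohB1.tensorPow L 2, V)) := by
    refine (Groth.Agent.Helper4.TwistExt.val_res τ (le_top : V ≤ ⊤)).trans ?_
    refine (SecTwist.val_tmulHom _ (s j) V).trans ?_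
    refine (congrArg (fun w => SecTwist.tmul (CohB1.tensorPow L 1) L V w (SecTwist.val (s j) V))
      (SecTwist.val_tmulHom (𝟙 (Coh.structureModule X)) (s l) V)).trans ?_
    have hl : SecTwist.val (s l) V = ρ l • sec (s α) V := (hρ l).symm
    have hj : SecTwist.val (s j) V = ρ j • sec (s α) V := (hρ j).symm
    rw [hl, hj]
    exact tmul2_smul V (Coh.structureModule X) (ρ l) (ρ j) _ (sec (s α) V)
  have h0 : (c - ρ l * ρ j) • sec (SecTwist.powHom (s α) 2) V = 0 := by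
    have hs : sec (SecTwist.powHom (s α) 2) V = SecTwist.pow (s α) 2 V :=
      SecTwist.val_powHom (s α) 2 V
    rw [hs, sub_smul]
    exact sub_eq_zero.mpr (hc.trans h3)
  have h4 := eq_zero_of_smul_sec (SecTwist.powHom (s α) 2)
    (le_genLocus_powHom_of_le s α V hL hV 1) (c - ρ l * ρ j) h0
  rw [← sub_eq_zero.mp h4]
  exact hcT

theorem res_injective_of_le_le {V U : X.Opens} (h : U ≤ V) (h' : V ≤ U) :
    Function.Injective (X.presheaf.map (homOfLE h).op) := by
  obtain rfl : U = V := le_antisymm h h'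
  intro a b hab
  rw [Groth.Agent.Helper1.VA.res_self, Groth.Agent.Helper1.VA.res_self] at hab
  exact hab

theorem mem_of_inTV [CompactSpace X] [QuasiSeparatedSpace X] (hL : PicF.IsInvertible L)
    (hV : V ≤ XE s α) (hV' : XE s α ≤ V) (T' : Subring Γ(X, V))
    (hall : ∀ N₀ : ℕ, ∃ N, N₀ ≤ N ∧ 1 ≤ N ∧
      ∀ z : Γ(CohB1.tensorPow L N, ⊤), InTV s α V T' N z) (b : Γ(X, V)) :
    b ∈ T' := by
  haveI : (Coh.structureModule X).IsQuasicoherent :=
    Groth.Agent.Helper4.QAffSec.isQuasicoherent_of_isInvertible _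
      Groth.Agent.Helper4.TensorInv.isInvertible_structureModule
  obtain ⟨N₀, hN₀⟩ := Groth.Agent.Helper4.TwistExtU.exists_forall_twist_extends L hL (s α)
    (Coh.structureModule X) (X.presheaf.map (homOfLE hV').op b)
  obtain ⟨N, hN, hN1, hz⟩ := hall N₀
  obtain ⟨n, rfl⟩ : ∃ n, N = n + 1 := Nat.exists_eq_succ_of_ne_zero (by omega)
  obtain ⟨t', ht'⟩ := hN₀ (n + 1) hN
  obtain ⟨c, hcT, hc⟩ := hz
    ((Groth.Agent.Helper4.AmpleBasis.unitorL (CohB1.tensorPow L (n + 1))).hom.app ⊤ t')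
  -- restrict to `XE s α`
  have hcU := (Scheme.Modules.map_smul (CohB1.tensorPow L (n + 1)) (homOfLE hV') c
    (SecTwist.pow (s α) (n + 1) V : Γ(CohB1.tensorPow L (n + 1), V))).symm.trans
      (congrArg ((CohB1.tensorPow L (n + 1)).presheaf.map (homOfLE hV').op) hc)
  have hp : (CohB1.tensorPow L (n + 1)).presheaf.map (homOfLE hV').op
      (SecTwist.pow (s α) (n + 1) V) = SecTwist.pow (s α) (n + 1) (XE s α) :=
    SecTwist.map_pow (s α) (n + 1) (homOfLE hV')
  have hmm : (CohB1.tensorPow L (n + 1)).presheaf.map (homOfLE hV').op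
      ((CohB1.tensorPow L (n + 1)).presheaf.map (homOfLE (le_top : V ≤ ⊤)).op
        ((Groth.Agent.Helper4.AmpleBasis.unitorL (CohB1.tensorPow L (n + 1))).hom.app ⊤ t')) =
      (CohB1.tensorPow L (n + 1)).presheaf.map (homOfLE (le_top : XE s α ≤ ⊤)).op
        ((Groth.Agent.Helper4.AmpleBasis.unitorL (CohB1.tensorPow L (n + 1))).hom.app ⊤ t') := by
    rw [← ConcreteCategory.comp_apply, ← Functor.map_comp]
    rfl
  rw [hp, hmm] at hcU
  have hnat := Groth.Agent.Helper4.NApx81.app_map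
    (Groth.Agent.Helper4.AmpleBasis.unitorL (CohB1.tensorPow L (n + 1))).hom
    (le_top : XE s α ≤ ⊤) t'
  have hb : (Groth.Agent.Helper4.AmpleBasis.unitorL (CohB1.tensorPow L (n + 1))).hom.app (XE s α)
      ((CohB1.tensorMod (Coh.structureModule X) (CohB1.tensorPow L (n + 1))).presheaf.map
        (homOfLE (le_top : XE s α ≤ ⊤)).op t') =
      X.presheaf.map (homOfLE hV').op b •
        (SecTwist.pow (s α) (n + 1) (XE s α) : Γ(CohB1.tensorPow L (n + 1), XE s α)) := by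
    refine (congrArg (fun w => (Groth.Agent.Helper4.AmpleBasis.unitorL
      (CohB1.tensorPow L (n + 1))).hom.app (XE s α) w) ht').trans ?_
    exact unitorL_tmul (CohB1.tensorPow L (n + 1)) (XE s α) _ _
  have hcb := hcU.trans (hnat.symm.trans hb)
  have h0 : (X.presheaf.map (homOfLE hV').op c - X.presheaf.map (homOfLE hV').op b) •
      sec (SecTwist.powHom (s α) (n + 1)) (XE s α) = 0 := by
    have hs : sec (SecTwist.powHom (s α) (n + 1)) (XE s α) =
        SecTwist.pow (s α) (n + 1) (XE s α) := SecTwist.val_powHom (s α) (n + 1) (XE s α)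
    rw [hs, sub_smul]
    exact sub_eq_zero.mpr hcb
  have h3 := eq_zero_of_smul_sec (SecTwist.powHom (s α) (n + 1))
    (XE_le_genLocus_powHom s α hL n) _ h0
  have h4 : c = b := res_injective_of_le_le hV' hV (sub_eq_zero.mp h3)
  rw [← h4]
  exact hcT

end Ratio2

section Gen2

variable {X S : Scheme.{u}} (f : X ⟶ S) {L : X.Modules} {r : ℕ}
  (s : Fin r → (Coh.structureModule X ⟶ L)) (α : Fin r)
  {E : Type*} [Fintype E] (σ' : E → (Coh.structureModule X ⟶ CohB1.tensorPow L 2)) (α' : E)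

omit [Fintype E] in
theorem XE_eq_of_powHom (hL : PicF.IsInvertible L) (hα' : σ' α' = SecTwist.powHom (s α) 2) :
    XE σ' α' = XE s α := by
  unfold XE
  rw [hα']
  exact Groth.Agent.Helper4.TensorAssoc.genLocus_powHom hL (s α) 1

/-- **the coordinate ring of the chart of a square is generated by the base ring and the ratios of
the sections of `L²`** -/
theorem subring_eq_top_of_span2 [CompactSpace X] [QuasiSeparatedSpace X]
    (hL : PicF.IsInvertible L) (hα' : σ' α' = SecTwist.powHom (s α) 2)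
    (hspan : ∀ z : Γ(CohB1.tensorPow L 2, ⊤), ∃ a : E → Γ(S, ⊤),
      z = ∑ i, f.appTop.hom (a i) • sec (σ' i) ⊤)
    (hmul : ∀ (n : ℕ), 2 ≤ n → ∀ z : Γ(CohB1.tensorPow L (n + 1), ⊤),
      ∃ y : Fin r → Γ(CohB1.tensorPow L n, ⊤),
        z = ∑ i, SecTwist.tmul (CohB1.tensorPow L n) L ⊤ (y i) (SecTwist.val (s i) ⊤))
    (T : Subring Γ((XE σ' α' : Scheme.{u}), ⊤))
    (h1 : ∀ a, ((XE σ' α').ι ≫ f).appTop.hom a ∈ T) (h2 : ∀ k, toTop (ratio σ' k α') ∈ T) :
    T = ⊤ := by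
  classical
  have hVU := XE_eq_of_powHom s α σ' α' hL hα'
  have hV : XE σ' α' ≤ XE s α := hVU.le
  have hV' : XE s α ≤ XE σ' α' := hVU.ge
  set T' : Subring Γ(X, XE σ' α') := T.comap (XE σ' α').topIso.inv.hom with hT'
  have h2' : ∀ k, ratio σ' k α' ∈ T' := fun k => by
    rw [hT', Subring.mem_comap]
    exact h2 k
  have hA : ∀ a : Γ(S, ⊤),
      X.presheaf.map (homOfLE (le_top : XE σ' α' ≤ ⊤)).op (f.appTop.hom a) ∈ T' := fun a => by
    rw [hT', Subring.mem_comap]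
    have h3 := Groth.Agent.Helper1.PUPg.toTop_res_top (U := XE σ' α') (f.appTop.hom a)
    unfold toTop at h3
    rw [h3]
    have h4 := h1 a
    rw [Scheme.Hom.comp_appTop] at h4
    exact h4
  let ρ : Fin r → Γ(X, XE σ' α') := fun l => X.presheaf.map (homOfLE hV).op (ratio s l α)
  have hρ : ∀ l, ρ l • sec (s α) (XE σ' α') = sec (s l) (XE σ' α') := fun l =>
    ratio_res s l α hV
  have hpow : sec (σ' α') (XE σ' α') = SecTwist.pow (s α) 2 (XE σ' α') := by
    rw [hα']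
    exact SecTwist.val_powHom (s α) 2 (XE σ' α')
  have Ha2 : ∀ z : Γ(CohB1.tensorPow L 2, ⊤), InTV s α (XE σ' α') T' 2 z := by
    intro z
    obtain ⟨a, ha⟩ := hspan z
    refine ⟨∑ i, X.presheaf.map (homOfLE (le_top : XE σ' α' ≤ ⊤)).op (f.appTop.hom (a i)) *
      ratio σ' i α', Subring.sum_mem _ (fun i _ => Subring.mul_mem _ (hA (a i)) (h2' i)), ?_⟩
    have hres := congrArg
      ((CohB1.tensorPow L 2).presheaf.map (homOfLE (le_top : XE σ' α' ≤ ⊤)).op) ha
    rw [sum_res (M := CohB1.tensorPow L 2)] at hres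
    rw [hres, ← hpow, Finset.sum_smul]
    refine Finset.sum_congr rfl (fun i _ => ?_)
    rw [Scheme.Modules.map_smul, sec_res, mul_smul]
    exact congrArg (fun w => X.presheaf.map (homOfLE (le_top : XE σ' α' ≤ ⊤)).op
      (f.appTop.hom (a i)) • w) (ratio_spec σ' i α')
  have hρρ := ratio_mul_mem s α (XE σ' α') hL hV ρ hρ T' Ha2
  have hall : ∀ N₀ : ℕ, ∃ N, N₀ ≤ N ∧ 1 ≤ N ∧
      ∀ z : Γ(CohB1.tensorPow L N, ⊤), InTV s α (XE σ' α') T' N z := fun N₀ =>
    ⟨ev N₀ + 2, (le_ev N₀).trans (Nat.le_add_right _ _), by omega,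
      inTV_even s α (XE σ' α') ρ hρ T' hρρ Ha2 hmul N₀⟩
  have hmem := mem_of_inTV s α (XE σ' α') hL hV hV' T' hall
  rw [eq_top_iff]
  intro x _
  have h4 : (XE σ' α').topIso.hom.hom x ∈ T' := hmem _
  have h5 : (XE σ' α').topIso.inv.hom ((XE σ' α').topIso.hom.hom x) = x := by
    rw [← CommRingCat.comp_apply, Iso.hom_inv_id]
    rfl
  rw [hT', Subring.mem_comap, h5] at h4
  exact h4

end Gen2

section Main2

open Groth.Agent.Helper1.Fin Groth.Agent.Helper1.SV Groth.Agent.Helper1.VA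

/-- a very ample module on a scheme proper over an affine scheme: the closed immersion into the
projective space over the ring -/
theorem exists_closedImmersion_of_veryAmple (A : Type u) [CommRing A] {X : Scheme.{u}}
    (g : X ⟶ Spec (CommRingCat.of A)) [IsProper g] {M : X.Modules}
    (h : RelAmple.IsRelVeryAmplePn g M) :
    ∃ (n : ℕ) (c : X ⟶ CohB1.ProjSpace n A), IsClosedImmersion c ∧
      c ≫ CohB1.ProjSpace.toSpec n A = g ∧
      Nonempty ((Scheme.Modules.pullback c).obj (Twist.twistProjSpace n A 1) ≅ M) := by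
  obtain ⟨K, i, himm, hi, ⟨φ⟩⟩ := h
  have hi' : i ≫ CohB1.ProjSpaceOver.toBase K (Spec (CommRingCat.of A)) = g := hi
  haveI := himm
  haveI : IsProper (CohB1.ProjSpaceOver.toBase K (Spec (CommRingCat.of A))) :=
    Groth.Agent.Helper6.HProj.isProper_toBase K _
  haveI : IsProper (i ≫ CohB1.ProjSpaceOver.toBase K (Spec (CommRingCat.of A))) := by
    rw [hi']
    infer_instance
  haveI : IsProper i := IsProper.of_comp i (CohB1.ProjSpaceOver.toBase K (Spec (CommRingCat.of A)))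
  haveI : IsClosedImmersion i := IsClosedImmersion.of_isPreimmersion _ i.isClosedMap.isClosed_range
  haveI : IsClosedImmersion (i ≫ κκ A K) := IsClosedImmersion.comp i (κκ A K)
  refine ⟨K, i ≫ κκ A K, inferInstance, ?_, ?_⟩
  · rw [Category.assoc, κκ_toSpec]
    exact hi'
  · exact ⟨((Scheme.Modules.pullbackComp i (κκ A K)).app (Twist.twistProjSpace K A 1)).symm ≪≫
      (Scheme.Modules.pullback i).mapIso (κκTwistIso A K 1) ≪≫ φ.symm⟩

/-- **S6537** -/
theorem main6537 (k : Type u) [Field k] (X : Scheme.{u}) [X.Over (Spec (CommRingCat.of k))]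
    [IsProper (X ↘ (Spec (CommRingCat.of k)))] (hdim : topologicalKrullDim X = 1)
    (L : X.Modules) (hL : PicF.IsInvertible L)
    (hgg : Curv2.IsGloballyGenerated L) (h1 : Subsingleton (Coh.HH X L 1))
    (hample : CohB1.IsAmple L) :
    ∃ (n : ℕ) (i : X ⟶ CohB1.ProjSpace n k), IsClosedImmersion i ∧
      i ≫ CohB1.ProjSpace.toSpec n k = X ↘ (Spec (CommRingCat.of k)) ∧
      Nonempty ((Scheme.Modules.pullback i).obj (Twist.twistProjSpace n k 1) ≅
        CohB1.tensorPow L 2) := by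
  classical
  haveI := Groth.Agent.Helper4.NApx82.isNoetherian_of_proper k X
  haveI : QuasiSeparatedSpace X :=
    quasiSeparatedSpace_of_quasiSeparated (X ↘ (Spec (CommRingCat.of k)))
  obtain ⟨r, s, hcov⟩ := exists_fin_cover L hL hgg
  have hd : topologicalKrullDim X ≤ ((1 : ℕ) : WithBot ℕ∞) := by
    rw [hdim]; exact le_rfl
  have hvan : ∀ G : X.Modules, Coh.IsCoh G → Subsingleton (Coh.HH X G 2) := fun G _ =>
    subsingleton_HH_of_dim 1 hd G 2 (by norm_num)
  have h11 : Subsingleton (Coh.HH X (CohB1.tensorPow L 1) 1) :=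
    Groth.Agent.Helper1.SerreCrit.subsingleton_HH_of_iso
      (Groth.Agent.Helper4.AmpleBasis.unitorL L).symm 1 h1
  have hH1 : ∀ n : ℕ, 1 ≤ n → Subsingleton (Coh.HH X (CohB1.tensorPow L n) 1) := fun n hn =>
    subsingleton_H1_tensorPow k s hL hcov hvan 1 h11 n hn
  have hmul : ∀ (n : ℕ), 2 ≤ n → ∀ z : Γ(CohB1.tensorPow L (n + 1), ⊤),
      ∃ y : Fin r → Γ(CohB1.tensorPow L n, ⊤),
        z = ∑ i, SecTwist.tmul (CohB1.tensorPow L n) L ⊤ (y i) (SecTwist.val (s i) ⊤) := by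
    intro n hn z
    obtain ⟨m, rfl⟩ : ∃ m, n = m + 2 := ⟨n - 2, by omega⟩
    exact exists_sum_tmul k s hL hcov (CohB1.tensorPow L (m + 1))
      (Groth.Agent.Helper1.SerreFin.isCoh_of_isInvertible _
        (Groth.Agent.Helper4.TensorInv.isInvertible_tensorPow hL (m + 1)))
      (hH1 (m + 1) (by omega)) hvan z
  have hcM : Coh.IsCoh (CohB1.tensorPow L 2) :=
    Groth.Agent.Helper1.SerreFin.isCoh_of_isInvertible _
      (Groth.Agent.Helper4.TensorInv.isInvertible_tensorPow hL 2)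
  haveI : Module.Finite k (Coh.HH X (CohB1.tensorPow L 2) 0) :=
    Groth.Agent.S0002.result k X _ hcM 0
  obtain ⟨n, t, ht⟩ := exists_fin_succ_generators k (Coh.HH X (CohB1.tensorPow L 2) 0)
  have hspan0 := span_of_generators k (CohB1.tensorPow L 2) t ht
  let σ' : Fin (n + 1) ⊕ Fin r → (Coh.structureModule X ⟶ CohB1.tensorPow L 2) := fun e =>
    match e with
    | Sum.inl i => secOfH0 (CohB1.tensorPow L 2) (t i)
    | Sum.inr j => SecTwist.powHom (s j) 2
  have hspan : ∀ z : Γ(CohB1.tensorPow L 2, ⊤),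
      ∃ a : Fin (n + 1) ⊕ Fin r → Γ(Spec (CommRingCat.of k), ⊤),
        z = ∑ i, (X ↘ (Spec (CommRingCat.of k))).appTop.hom (a i) • sec (σ' i) ⊤ := by
    intro z
    obtain ⟨a, ha⟩ := hspan0 z
    refine ⟨fun e => match e with
      | Sum.inl i => a i
      | Sum.inr _ => 0, ?_⟩
    rw [Fintype.sum_sum_type]
    have h0 : ∑ j : Fin r, (X ↘ (Spec (CommRingCat.of k))).appTop.hom
        (0 : Γ(Spec (CommRingCat.of k), ⊤)) • sec (σ' (Sum.inr j)) ⊤ = 0 := by
      refine Finset.sum_eq_zero (fun j _ => ?_)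
      rw [map_zero, zero_smul]
    exact ha.trans (add_zero _).symm |>.trans (congrArg _ h0.symm)
  have hXE : ∀ j : Fin r, XE σ' (Sum.inr j) = XE s j := fun j =>
    XE_eq_of_powHom s j σ' (Sum.inr j) hL rfl
  have hva : RelAmple.IsRelVeryAmplePn (X ↘ (Spec (CommRingCat.of k))) (CohB1.tensorPow L 2) := by
    refine isRelVeryAmplePn_of_charts_finite (X ↘ (Spec (CommRingCat.of k))) σ'
      (Set.range (Sum.inr : Fin r → Fin (n + 1) ⊕ Fin r)) ?_ ?_ ?_
    · rw [eq_top_iff]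
      intro x _
      obtain ⟨j, hj⟩ := hcov x
      have hx : x ∈ XE σ' (Sum.inr j) := by rw [hXE j]; exact hj
      exact (le_iSup (fun α : (Set.range (Sum.inr : Fin r → Fin (n + 1) ⊕ Fin r)) => XE σ' α)
        ⟨Sum.inr j, ⟨j, rfl⟩⟩) hx
    · rintro ⟨_, ⟨j, rfl⟩⟩
      show IsAffineOpen (XE σ' (Sum.inr j))
      rw [hXE j]
      exact Groth.Agent.Helper4.UCAffine.isAffineOpen_genLocus_of_universallyClosed
        (X ↘ (Spec (CommRingCat.of k))) L hample (s j)
    · rintro ⟨_, ⟨j, rfl⟩⟩ T hT1 hT2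
      exact subring_eq_top_of_span2 (X ↘ (Spec (CommRingCat.of k))) s j σ' (Sum.inr j) hL rfl
        hspan hmul T hT1 hT2
  exact exists_closedImmersion_of_veryAmple k (X ↘ (Spec (CommRingCat.of k))) hva

end Main2

end Groth.Agent.Helper4.SN
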