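import Mathlib
import Groth.Agent.Helper4.SN186
import Groth.Agent.Helper4.SN62
import Groth.Agent.Helper4.SN64
import Groth.Agent.Helper4.SN59

/-!
# `L^{⊗3}` is globally generated for `L` with a regular section and `H¹(L) = 0` on a curve
-/

set_option autoImplicit false
set_option linter.unusedSectionVars false
set_option linter.style.haveILetI false

namespace Groth.Agent.Helper4.SN

open CategoryTheory Limits AlgebraicGeometry Opposite TopologicalSpace
open Groth.Agent.Helper4.NApx82 Groth.Agent.Helper4.StalkDict Groth.Agent.Helper4.TwistExt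
  Groth.Agent.Helper4.GenLoc

universe u

section Top

/-- in a Noetherian quasi-sober space, a closed subset all of whose points are closed is finite -/
theorem finite_of_isClosed_of_forall_isClosed {T : Type*} [TopologicalSpace T] [NoetherianSpace T]
    [QuasiSober T] (Z : Set T) (hZ : IsClosed Z) (hpt : ∀ z ∈ Z, IsClosed ({z} : Set T)) :
    Z.Finite := by
  obtain ⟨S, hSf, hSc, hSi, rfl⟩ := NoetherianSpace.exists_finite_set_isClosed_irreducible hZ
  apply Set.Finite.sUnion hSf
  intro t ht
  obtain ⟨z, hz⟩ := QuasiSober.sober (hSi t ht) (hSc t ht)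
  have hzt : z ∈ t := hz.mem
  have := hpt z ⟨t, ht, hzt⟩
  rw [← hz.def, this.closure_eq]
  exact Set.finite_singleton z

end Top

section Dense

variable {X : Scheme.{u}}

/-- the generating locus of a regular section of an invertible module is dense -/
theorem dense_genLocus_of_mono {L : X.Modules} (hL : PicF.IsInvertible L)
    (s : Coh.structureModule X ⟶ L) [Mono s] :
    Dense ((CohB1.genLocus L s : X.Opens) : Set X) := by
  intro x
  obtain ⟨T, e, hxT, hT, hfr, hall⟩ := Groth.Agent.Helper4.AmpleFinite.exists_chart_forall L hL x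
  obtain ⟨b, hb, hbo⟩ := hall s
  have hnzd : ∀ c : Γ(X, T), c * b = 0 → c = 0 := by
    intro c hc
    have h1 : s.app T (c • one X T) = s.app T 0 := by
      rw [Scheme.Modules.Hom.app_smul, map_zero]
      have h2 : s.app T (one X T) = SecTwist.val s T := rfl
      rw [h2, hb, smul_smul, hc, zero_smul]
    have h3 := Groth.Agent.Helper4.AffineDict.app_injective_of_mono s T h1
    have h4 := GenLoc.smul_one T c
    rw [h3] at h4
    exact h4.symm
  rw [mem_closure_iff]
  intro o ho hxo
  obtain ⟨g, hgo, hxg⟩ := hT.exists_basicOpen_le (V := ⟨o, ho⟩) ⟨x, hxo⟩ hxT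
  by_contra hemp
  have h0 : X.basicOpen (g * b) = ⊥ := by
    rw [Scheme.basicOpen_mul, hbo]
    ext y
    simp only [Opens.coe_inf, Opens.coe_bot, Set.mem_inter_iff, SetLike.mem_coe, Set.mem_empty_iff_false,
      iff_false, not_and]
    intro hyg hy _
    exact hemp ⟨y, hgo hyg, hy⟩
  obtain ⟨n, hn⟩ := (Scheme.isNilpotent_iff_basicOpen_eq_bot_of_isCompact hT.isCompact (g * b)).mpr h0
  have hg : ∀ m : ℕ, ∀ c : Γ(X, T), c * b ^ m = 0 → c = 0 := by
    intro m
    induction m with
    | zero => intro c hc; simpa using hc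
    | succ m ih =>
      intro c hc
      apply ih
      apply hnzd
      rw [mul_assoc, ← pow_succ]
      exact hc
  have hgn : g ^ n = 0 := hg n _ (by rw [← mul_pow]; exact hn)
  have hbot : X.basicOpen g = ⊥ :=
    (Scheme.isNilpotent_iff_basicOpen_eq_bot_of_isCompact hT.isCompact g).mp ⟨n, hgn⟩
  rw [hbot] at hxg
  exact hxg

end Dense

section Gen

variable {X : Scheme.{u}}

/-- exactness of `A ⟶ B ⟶ coker` on stalks, without assuming `Mono` -/
theorem exists_stalkLin_eq_of_cokernel_zero {A B : X.Modules} (φ : A ⟶ B) (y : X)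
    (m : B.presheaf.stalk y) (hm : stalkLin (cokernel.π φ) y m = 0) :
    ∃ a : A.presheaf.stalk y, stalkLin φ y a = m := by
  have hS := Groth.Agent.Helper1.Dev.imCokSC_shortExact φ
  haveI : Mono (Groth.Agent.Helper1.Dev.imCokSC φ).f := hS.mono_f
  obtain ⟨c, hc⟩ := (Groth.Agent.Helper4.StalkExact.stalkLin_exact _ hS.exact y m).1 hm
  obtain ⟨a, ha⟩ :=
    Groth.Agent.Helper4.EpiStalk.stalkLin_surjective_of_epi (Abelian.factorThruImage φ) y c
  refine ⟨a, ?_⟩
  have h1 : φ = Abelian.factorThruImage φ ≫ Abelian.image.ι φ := (Abelian.image.fac φ).symm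
  rw [h1, Groth.Agent.Lead.StalkNhd.stalkLin_comp, ha]
  exact hc

/-- a version of `exists_generating_section` for the cokernel of an arbitrary morphism into an
invertible module whose image lies in the maximal ideal times the stalk along the support of the
cokernel -/
theorem exists_generating_section' {N M : X.Modules} (hM : PicF.IsInvertible M) (φ : N ⟶ M)
    (hfin : (CohB1.support (cokernel φ)).Finite)
    (hpt : ∀ x ∈ CohB1.support (cokernel φ), IsClosed ({x} : Set X))
    (hmem : ∀ y ∈ CohB1.support (cokernel φ), ∀ z : N.presheaf.stalk y,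
      stalkLin φ y z ∈ (IsLocalRing.maximalIdeal (X.presheaf.stalk y)) •
        (⊤ : Submodule (X.presheaf.stalk y) (M.presheaf.stalk y)))
    (hlift : ∀ b : Coh.structureModule X ⟶ cokernel φ,
      ∃ a : Coh.structureModule X ⟶ M, a ≫ cokernel.π φ = b) :
    ∃ t : Coh.structureModule X ⟶ M, ∀ y ∈ CohB1.support (cokernel φ),
      Function.Surjective (stalkLin t y) := by
  have hch := fun x : X => Groth.Agent.Helper4.AmpleFinite.exists_chart_forall M hM x
  choose T e hxT _ hfr _ using hch
  obtain ⟨σ, hσ⟩ := exists_section_with_germs (cokernel φ) hfin hpt T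
    (fun x => (cokernel.π φ).app (T x) (e x)) (fun x _ => hxT x)
  obtain ⟨t, ht⟩ := hlift (Groth.Agent.Lead.IdealModDict.ofSection (cokernel φ) σ)
  refine ⟨t, fun y hy => ?_⟩
  have hq : (cokernel φ).presheaf.germ ⊤ y trivial ((cokernel.π φ).app ⊤ (sec1 M t)) =
      (cokernel φ).presheaf.germ (T y) y (hxT y) ((cokernel.π φ).app (T y) (e y)) := by
    rw [← hσ y hy]
    congr 1
    have h1 : (cokernel.π φ).app ⊤ (sec1 M t) = sec1 _ (t ≫ cokernel.π φ) := rfl
    rw [h1, ht]
    have h2 := Groth.Agent.Lead.IdealModDict.ofSection_app (cokernel φ) σ ⊤ 1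
    have h3 : (cokernel φ).presheaf.map (homOfLE (le_top : (⊤ : X.Opens) ≤ ⊤)).op σ = σ := by
      have : (homOfLE (le_top : (⊤ : X.Opens) ≤ ⊤)) = 𝟙 _ := Subsingleton.elim _ _
      rw [this, op_id, (cokernel φ).presheaf.map_id]
      rfl
    rw [h3, one_smul] at h2
    exact h2
  set ge := M.presheaf.germ (T y) y (hxT y) (e y) with hge
  set gt := M.presheaf.germ ⊤ y trivial (sec1 M t) with hgt
  have h1 : stalkLin (cokernel.π φ) y (gt - ge) = 0 := by
    have e1 := Groth.Agent.Helper4.StalkExact.stalkLin_germ (cokernel.π φ) y ⊤ trivial (sec1 M t)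
    have e2 := Groth.Agent.Helper4.StalkExact.stalkLin_germ (cokernel.π φ) y (T y) (hxT y) (e y)
    rw [map_sub, hgt, hge, e1, e2, hq, sub_self]
  obtain ⟨c, hc⟩ := exists_stalkLin_eq_of_cokernel_zero φ y _ h1
  have hc2 := hmem y hy c
  rw [hc] at hc2
  obtain ⟨r, hr, hre⟩ : ∃ r ∈ IsLocalRing.maximalIdeal (X.presheaf.stalk y), gt - ge = r • ge := by
    refine Submodule.smul_induction_on
      (p := fun x => ∃ r ∈ IsLocalRing.maximalIdeal (X.presheaf.stalk y), x = r • ge) hc2 ?_ ?_
    · intro r hr n _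
      obtain ⟨r', rfl⟩ := frame_span (hfr y) y (hxT y) n
      exact ⟨r * r', Ideal.mul_mem_right _ _ hr, smul_smul r r' ge⟩
    · rintro _ _ ⟨r1, h1, rfl⟩ ⟨r2, h2, rfl⟩
      exact ⟨r1 + r2, Ideal.add_mem _ h1 h2, (add_smul _ _ _).symm⟩
  have hgt' : gt = (1 + r) • ge := by
    rw [add_smul, one_smul, ← hre]
    abel
  have hunit : IsUnit (1 + r) := by
    have hsum : (1 + r) + (-r) = 1 := by ring
    rcases IsLocalRing.isUnit_or_isUnit_of_add_one hsum with h | h
    · exact h
    · exfalso
      rw [IsUnit.neg_iff] at h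
      exact (IsLocalRing.mem_maximalIdeal r).mp hr h
  exact stalkLin_surjective_of_unit (hfr y) y (hxT y) t _ hunit hgt'

end Gen

section Mem

variable {X : Scheme.{u}}

/-- the germ of a frame is a free generator of the stalk -/
theorem frame_germ_cancel {M : X.Modules} {T : X.Opens} {e : Γ(M, T)} (hf : IsFrame M T e) (y : X)
    (hyT : y ∈ T) (r : X.presheaf.stalk y) (h : r • M.presheaf.germ T y hyT e = 0) : r = 0 := by
  obtain ⟨V, hyV, r', rfl⟩ := TopCat.Presheaf.exists_germ_eq X.presheaf r
  have hy' : y ∈ V ⊓ T := ⟨hyV, hyT⟩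
  have e1 := Groth.Agent.Helper4.QcqsMod.germ_resO (inf_le_left : V ⊓ T ≤ V) y hy' r'
  have e2 := Groth.Agent.Helper4.QcqsMod.germ_res M (inf_le_right : V ⊓ T ≤ T) y hy' e
  rw [← e1, ← e2, ← germ_smul] at h
  have h0 : M.presheaf.germ (V ⊓ T) y hy' (0 : Γ(M, V ⊓ T)) = 0 := map_zero _
  obtain ⟨W, hyW, iU, iV, hW⟩ := TopCat.Presheaf.germ_eq M.presheaf y hy' hy' _ _ (h.trans h0.symm)
  have hWle : W ≤ V ⊓ T := leOfHom iU
  have h1 : M.presheaf.map (homOfLE hWle).op
      (X.presheaf.map (homOfLE (inf_le_left : V ⊓ T ≤ V)).op r' •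
        M.presheaf.map (homOfLE (inf_le_right : V ⊓ T ≤ T)).op e) = 0 := by
    have : iU = homOfLE hWle := Subsingleton.elim _ _
    rw [← this]
    refine hW.trans ?_
    exact map_zero _
  rw [Scheme.Modules.map_smul] at h1
  have h2 : M.presheaf.map (homOfLE hWle).op (M.presheaf.map (homOfLE (inf_le_right : V ⊓ T ≤ T)).op e) =
      M.presheaf.map (homOfLE (hWle.trans inf_le_right)).op e :=
    Groth.Agent.Helper4.QAffSec.res_res M _ _ e
  rw [h2] at h1
  have h3 := (hf W (hWle.trans inf_le_right)).2 _ h1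
  rw [← e1]
  have e3 := Groth.Agent.Helper4.QcqsMod.germ_resO hWle y hyW
    (X.presheaf.map (homOfLE (inf_le_left : V ⊓ T ≤ V)).op r')
  rw [← e3, h3, map_zero]

/-- a section of an invertible module which is surjective on the stalk at `y` generates at `y` -/
theorem mem_genLocus_of_stalkLin_surjective {M : X.Modules} (hM : PicF.IsInvertible M)
    (t : Coh.structureModule X ⟶ M) (y : X) (h : Function.Surjective (stalkLin t y)) :
    y ∈ CohB1.genLocus M t := by
  obtain ⟨T, e, hyT, hT, hfr, hall⟩ := Groth.Agent.Helper4.AmpleFinite.exists_chart_forall M hM y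
  obtain ⟨b, hb, hbo⟩ := hall t
  set ge := M.presheaf.germ T y hyT e with hge
  obtain ⟨c, hc⟩ := h ge
  obtain ⟨W, hyW, c', rfl⟩ := TopCat.Presheaf.exists_germ_eq (Coh.structureModule X).presheaf c
  rw [stalkLin_unit_germ t y W hyW c'] at hc
  have h1 : M.presheaf.germ ⊤ y trivial (sec1 M t) = X.presheaf.germ T y hyT b • ge := by
    have h2 : M.presheaf.germ ⊤ y trivial (sec1 M t) =
        M.presheaf.germ T y hyT (SecTwist.val t T) := by
      rw [← SecTwist.map_val t (homOfLE (le_top : T ≤ ⊤))]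
      exact (Groth.Agent.Helper4.QcqsMod.germ_res M (le_top : T ≤ ⊤) y hyT _).symm
    rw [h2, hb, germ_smul]
  rw [h1, smul_smul] at hc
  set c₀ := X.presheaf.germ W y hyW (toFn c') with hc₀
  set gb := X.presheaf.germ T y hyT b with hgb
  have h3 : c₀ * gb - 1 = 0 :=
    frame_germ_cancel hfr y hyT _ (by rw [sub_smul, hc, one_smul, sub_self])
  have hu : IsUnit gb :=
    isUnit_iff_exists_inv.mpr ⟨c₀, by rw [mul_comm]; exact sub_eq_zero.mp h3⟩
  have hmem : y ∈ X.basicOpen b := (Scheme.mem_basicOpen _ b y hyT).mpr hu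
  rw [hbo] at hmem
  exact hmem.1

end Mem

section Main

variable (k : Type u) [Field k] {X : Scheme.{u}} [X.Over (Spec (CommRingCat.of k))]
  [IsProper (X ↘ (Spec (CommRingCat.of k)))]

include k in
/-- points outside the generating locus of a regular section on a curve are closed, and there are
finitely many of them -/
theorem closed_finite_compl_genLocus (hdim : topologicalKrullDim X = 1) {L : X.Modules}
    (hL : PicF.IsInvertible L) (s : Coh.structureModule X ⟶ L) [Mono s] :
    (∀ x : X, x ∉ CohB1.genLocus L s → IsClosed ({x} : Set X)) ∧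
      {x : X | x ∉ CohB1.genLocus L s}.Finite := by
  haveI := isNoetherian_of_proper k X
  have hpt : ∀ x : X, x ∉ CohB1.genLocus L s → IsClosed ({x} : Set X) := fun x hx =>
    isClosed_singleton_of_notMem_dense hdim.le _ (CohB1.genLocus L s).isOpen
      (dense_genLocus_of_mono hL s) x hx
  refine ⟨hpt, ?_⟩
  apply finite_of_isClosed_of_forall_isClosed
  · exact (CohB1.genLocus L s).isOpen.isClosed_compl
  · intro z hz
    exact hpt z hz

/-- the support of the cokernel of multiplication by `s` lies outside the generating locus -/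
theorem notMem_genLocus_of_mem_support_cokernel_mulS {L : X.Modules}
    (s : Coh.structureModule X ⟶ L) (N : X.Modules) (x : X)
    (hx : x ∈ CohB1.support (cokernel (mulS s N))) : x ∉ CohB1.genLocus L s := by
  intro h
  exact hx (Groth.Agent.Lead.StalkNhd.subsingleton_stalk_cokernel (mulS s N) x
    (stalkLin_mulS_bijective s N x h).2)

theorem mulS_eq_mulT {L : X.Modules} (t : Coh.structureModule X ⟶ L) (N : X.Modules) :
    mulS t N = mulT t (Iso.refl (CohB1.tensorMod N L)) := by
  unfold mulS mulT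
  rw [Iso.refl_hom, Category.comp_id]

include k in
/-- `H¹(L^{⊗(n+1)}) = 0` for an invertible module `L` with a regular section and `H¹(L) = 0` on
a curve -/
theorem subsingleton_H1_tensorPow_of_regular (hdim : topologicalKrullDim X = 1) {L : X.Modules}
    (hL : PicF.IsInvertible L) (s : Coh.structureModule X ⟶ L) [Mono s]
    (h1 : Subsingleton (Coh.HH X L 1)) (n : ℕ) :
    Subsingleton (Coh.HH X (CohB1.tensorPow L (n + 1)) 1) := by
  haveI := isNoetherian_of_proper k X
  obtain ⟨hpt, -⟩ := closed_finite_compl_genLocus k hdim hL s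
  induction n with
  | zero =>
    exact Groth.Agent.Helper1.SerreCrit.subsingleton_HH_of_iso
      (Groth.Agent.Helper4.AmpleBasis.unitorL L).symm 1 h1
  | succ n ih =>
    have hsurj := HHlin_one_surjective_of_cokernel k hdim.le (mulS s (CohB1.tensorPow L (n + 1)))
      (Groth.Agent.Helper1.SerreFin.isCoh_of_isInvertible _
        (Groth.Agent.Helper4.TensorInv.isInvertible_tensorPow hL (n + 1)))
      (Groth.Agent.Helper1.SerreFin.isCoh_of_isInvertible _
        (Groth.Agent.Helper4.TensorInv.isInvertible_tensorPow hL (n + 1 + 1)))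
      (fun x hx => hpt x (notMem_genLocus_of_mem_support_cokernel_mulS s _ x hx))
    refine ⟨fun a b => ?_⟩
    obtain ⟨a', rfl⟩ := hsurj a
    obtain ⟨b', rfl⟩ := hsurj b
    rw [Subsingleton.elim a' b']

include k in
/-- sections of the cokernel lift when `H¹` of the source vanishes, on a curve -/
theorem exists_lift_cokernel_of_H1 [IsNoetherian X] (hdim : topologicalKrullDim X ≤ 1)
    {A B : X.Modules} (φ : A ⟶ B) (h1 : Subsingleton (Coh.HH X A 1))
    (b : Coh.structureModule X ⟶ cokernel φ) :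
    ∃ a : Coh.structureModule X ⟶ B, a ≫ cokernel.π φ = b := by
  haveI : Subsingleton (Coh.HH X (kernel φ) (1 + 1)) :=
    subsingleton_HH_of_dim 1 (by exact_mod_cast hdim) (kernel φ) 2 (by norm_num)
  have hS1 := Groth.Agent.Helper1.Dev.kerImSC_shortExact φ
  have hS2 := Groth.Agent.Helper1.Dev.imCokSC_shortExact φ
  have e1 := Groth.Agent.Helper1.HHLes.exact_g_δ k (Groth.Agent.Helper1.Dev.kerImSC φ) hS1 1
  have e2 := Groth.Agent.Helper1.HHLes.exact_g_δ k (Groth.Agent.Helper1.Dev.imCokSC φ) hS2 0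
  have him : ∀ z : Coh.HH X (Abelian.image φ) 1, z = 0 := by
    intro z
    obtain ⟨w, hw⟩ := (e1 z).1 (Subsingleton.elim _ _)
    rw [← hw, Subsingleton.elim w 0, map_zero]
  have hsurj : Function.Surjective (Canon.HHlin k (cokernel.π φ) 0) := by
    intro z
    obtain ⟨w, hw⟩ := (e2 z).1 ((him _).trans (him _).symm)
    exact ⟨w, hw⟩
  exact (surjective_HHlin_zero_iff k (cokernel.π φ)).1 hsurj b

end Main

section Main2

variable (k : Type u) [Field k] {X : Scheme.{u}} [X.Over (Spec (CommRingCat.of k))]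
  [IsProper (X ↘ (Spec (CommRingCat.of k)))]

/-- elements of `𝔪 • ⊤` are `𝔪`-multiples of the germ of a frame -/
theorem exists_smul_frame_of_mem {M : X.Modules} {T : X.Opens} {e : Γ(M, T)} (hf : IsFrame M T e)
    (y : X) (hyT : y ∈ T) (m : M.presheaf.stalk y)
    (hm : m ∈ (IsLocalRing.maximalIdeal (X.presheaf.stalk y)) •
      (⊤ : Submodule (X.presheaf.stalk y) (M.presheaf.stalk y))) :
    ∃ r ∈ IsLocalRing.maximalIdeal (X.presheaf.stalk y), m = r • M.presheaf.germ T y hyT e := by
  refine Submodule.smul_induction_on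
    (p := fun x => ∃ r ∈ IsLocalRing.maximalIdeal (X.presheaf.stalk y),
      x = r • M.presheaf.germ T y hyT e) hm ?_ ?_
  · intro r hr n _
    obtain ⟨r', rfl⟩ := frame_span hf y hyT n
    exact ⟨r * r', Ideal.mul_mem_right _ _ hr, smul_smul r r' _⟩
  · rintro _ _ ⟨r1, h1, rfl⟩ ⟨r2, h2, rfl⟩
    exact ⟨r1 + r2, Ideal.add_mem _ h1 h2, (add_smul _ _ _).symm⟩

include k in
/-- **`L^{⊗(n+2)}` is globally generated** for an invertible module `L` with a regular section and
`H¹(L) = 0` on a curve -/
theorem isGloballyGenerated_tensorPow_of_regular (hdim : topologicalKrullDim X = 1) {L : X.Modules}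
    (hL : PicF.IsInvertible L) (s : Coh.structureModule X ⟶ L) [Mono s]
    (h1 : Subsingleton (Coh.HH X L 1)) (n : ℕ) :
    Curv2.IsGloballyGenerated (CohB1.tensorPow L (n + 2)) := by
  classical
  haveI := isNoetherian_of_proper k X
  obtain ⟨hpt, hfin⟩ := closed_finite_compl_genLocus k hdim hL s
  have hN1 := subsingleton_H1_tensorPow_of_regular k hdim hL s h1 n
  have hM : PicF.IsInvertible (CohB1.tensorPow L (n + 2)) :=
    Groth.Agent.Helper4.TensorInv.isInvertible_tensorPow hL (n + 2)
  let φ : CohB1.tensorPow L (n + 1) ⟶ CohB1.tensorPow L (n + 2) :=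
    mulS s (CohB1.tensorPow L (n + 1))
  have hsupp : ∀ x ∈ CohB1.support (cokernel φ), x ∉ CohB1.genLocus L s := fun x hx =>
    notMem_genLocus_of_mem_support_cokernel_mulS s _ x hx
  have hmem : ∀ y : X, y ∉ CohB1.genLocus L s → ∀ z : (CohB1.tensorPow L (n + 1)).presheaf.stalk y,
      stalkLin φ y z ∈ (IsLocalRing.maximalIdeal (X.presheaf.stalk y)) •
        (⊤ : Submodule (X.presheaf.stalk y) ((CohB1.tensorPow L (n + 2)).presheaf.stalk y)) := by
    intro y hy z
    have h2 := stalkLin_mulT_mem hL s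
      (Iso.refl (CohB1.tensorMod (CohB1.tensorPow L (n + 1)) L)) y hy z
    rw [← mulS_eq_mulT] at h2
    exact h2
  obtain ⟨t, ht⟩ := exists_generating_section' hM φ (hfin.subset hsupp)
    (fun x hx => hpt x (hsupp x hx)) (fun y hy z => hmem y (hsupp y hy) z)
    (exists_lift_cokernel_of_H1 k hdim.le φ hN1)
  have hall : ∀ y : X, y ∉ CohB1.genLocus L s → y ∈ CohB1.support (cokernel φ) := by
    intro y hy hsub
    obtain ⟨T, e, hyT, -, hfr, -⟩ :=
      Groth.Agent.Helper4.AmpleFinite.exists_chart_forall (CohB1.tensorPow L (n + 2)) hM y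
    set ge := (CohB1.tensorPow L (n + 2)).presheaf.germ T y hyT e with hge
    haveI := hsub
    obtain ⟨a, ha⟩ := exists_stalkLin_eq_of_cokernel_zero φ y ge (Subsingleton.elim _ _)
    have h2 := hmem y hy a
    rw [ha] at h2
    obtain ⟨r, hr, hre⟩ := exists_smul_frame_of_mem hfr y hyT ge h2
    have h3 : (1 - r) • ge = 0 := by
      rw [sub_smul, one_smul, ← hre, sub_self]
    have h4 := frame_germ_cancel hfr y hyT _ h3
    have h5 : r = 1 := (sub_eq_zero.mp h4).symm
    rw [h5] at hr
    exact (IsLocalRing.mem_maximalIdeal _).mp hr isUnit_one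
  refine Groth.Agent.Helper4.AmpleEventual.isGloballyGenerated_of_genLocus_cover _
    (ι := ULift.{u} Bool) (fun i => if i.down then t else SecTwist.powHom s (n + 2)) ?_
  intro x
  by_cases hx : x ∈ CohB1.genLocus L s
  · refine ⟨⟨false⟩, ?_⟩
    have h2 : CohB1.genLocus (CohB1.tensorPow L (n + 2)) (SecTwist.powHom s (n + 2)) =
        CohB1.genLocus L s := Groth.Agent.Helper4.TensorAssoc.genLocus_powHom hL s (n + 1)
    simp only [Bool.false_eq_true, if_false]
    rw [h2]
    exact hx
  · refine ⟨⟨true⟩, ?_⟩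
    simp only [if_true]
    exact mem_genLocus_of_stalkLin_surjective hM t x (ht x (hall x hx))

/-- **S6536** -/
theorem main6536 (X : Scheme.{u}) [X.Over (Spec (CommRingCat.of k))]
    [IsProper (X ↘ (Spec (CommRingCat.of k)))] (hdim : topologicalKrullDim X = 1)
    (L : X.Modules) (hL : PicF.IsInvertible L)
    (hs : ∃ s : Coh.structureModule X ⟶ L, Mono s) (h1 : Subsingleton (Coh.HH X L 1))
    (hample : CohB1.IsAmple L) :
    ∃ (n : ℕ) (i : X ⟶ CohB1.ProjSpace n k), IsClosedImmersion i ∧
      i ≫ CohB1.ProjSpace.toSpec n k = X ↘ (Spec (CommRingCat.of k)) ∧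
      Nonempty ((Scheme.Modules.pullback i).obj (Twist.twistProjSpace n k 1) ≅
        CohB1.tensorPow L 6) := by
  obtain ⟨s, hs⟩ := hs
  haveI := hs
  have hgg := isGloballyGenerated_tensorPow_of_regular k hdim hL s h1 1
  have hH1 := subsingleton_H1_tensorPow_of_regular k hdim hL s h1 2
  have hA := Groth.Agent.Helper4.TensorAssoc.isAmple_tensorPow hL 3 (by norm_num) hample
  obtain ⟨n, i, hi, hcomp, ⟨e⟩⟩ := main6537 k X hdim (CohB1.tensorPow L 3)
    (Groth.Agent.Helper4.TensorInv.isInvertible_tensorPow hL 3) hgg hH1 hA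
  exact ⟨n, i, hi, hcomp, ⟨e ≪≫ Groth.Agent.Helper4.TensorAssoc.powMulIso L hL 3 2⟩⟩

end Main2

end Groth.Agent.Helper4.SN
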