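import Mathlib
import Groth.Agent.Helper4.SN187
import Groth.Agent.Helper4.SN62

/-!
# Dropping a twist lowers `h⁰` for modules without closed associated points
-/

set_option autoImplicit false
set_option linter.style.haveILetI false

namespace Groth.Agent.Helper4.SN

open CategoryTheory Limits AlgebraicGeometry Opposite TopologicalSpace TensorProduct
open Groth.Agent.Helper4.NApx82 Groth.Agent.Helper4.StalkDict Groth.Agent.Helper4.TwistExt
  Groth.Agent.Helper4.GenLoc Groth.Agent.Lead.Ref1B
  Groth.Agent.Helper9.SkyMod4 Groth.Agent.Helper9.SkyMod5 Groth.Agent.Helper9.StalkTensor8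

universe u

section StalkRatio

variable {X : Scheme.{u}} {L : X.Modules}

open Groth.Agent.Helper1.PUP in
theorem exists_stalkLin_eq_smul_gsec (y : X)
    (z : (Coh.structureModule X).presheaf.stalk y) :
    ∃ r : X.presheaf.stalk y, ∀ {M' : X.Modules} (s' : Coh.structureModule X ⟶ M'),
      stalkLin s' y z = r • gsec s' y := by
  obtain ⟨W, hyW, c, rfl⟩ := TopCat.Presheaf.exists_germ_eq (Coh.structureModule X).presheaf z
  exact ⟨X.presheaf.germ W y hyW (toFn c), fun s' => stalkLin_unit_germ s' y W hyW c⟩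

/-- the unit germ -/
theorem exists_unit_germ (y : X) :
    ∃ z : (Coh.structureModule X).presheaf.stalk y,
      ∀ {M' : X.Modules} (s' : Coh.structureModule X ⟶ M'), stalkLin s' y z = gsec s' y := by
  refine ⟨(Coh.structureModule X).presheaf.germ ⊤ y trivial (one X ⊤), fun s' => ?_⟩
  have h0 := stalkLin_unit_germ s' y ⊤ trivial (one X ⊤)
  have h1 : X.presheaf.germ ⊤ y trivial (toFn (one X ⊤)) = 1 := map_one _
  rw [h1, one_smul] at h0
  exact h0

/-- at a point where `t'` generates, every section is a multiple of `t'` on the stalk, and the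
multiplier is a nonunit at the points where `t` does not generate -/
theorem exists_stalk_ratio (hL : PicF.IsInvertible L) (t t' : Coh.structureModule X ⟶ L) (y : X)
    (hy' : y ∈ CohB1.genLocus L t') (hy : y ∉ CohB1.genLocus L t) :
    ∃ a ∈ IsLocalRing.maximalIdeal (X.presheaf.stalk y),
      ∀ z, stalkLin t y z = a • stalkLin t' y z := by
  have hbij : Function.Bijective (stalkLin t' y) :=
    Groth.Agent.Helper1.Dev.stalkLin_bijective_of_isIso_restrict t' _
      (Groth.Agent.Helper4.GenLocIso.isIso_restrict_genLocus L t') y hy'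
  obtain ⟨z1, hz1⟩ := exists_unit_germ (X := X) y
  obtain ⟨w, hw⟩ := hbij.2 (stalkLin t y z1)
  obtain ⟨a, ha⟩ := exists_stalkLin_eq_smul_gsec y w
  have hga : gsec t y = a • gsec t' y := by
    rw [← hz1 t, ← hw, ha t']
  have hall : ∀ z, stalkLin t y z = a • stalkLin t' y z := by
    intro z
    obtain ⟨r, hr⟩ := exists_stalkLin_eq_smul_gsec y z
    rw [hr t, hr t', hga, smul_smul, smul_smul, mul_comm]
  refine ⟨a, ?_, hall⟩
  rw [IsLocalRing.mem_maximalIdeal, mem_nonunits_iff]
  intro hu
  apply hy
  apply mem_genLocus_of_stalkLin_surjective hL t y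
  intro m
  obtain ⟨z, rfl⟩ := hbij.2 m
  obtain ⟨b, hb⟩ := hu.exists_left_inv
  refine ⟨b • z, ?_⟩
  rw [map_smul, hall z, smul_smul, hb, one_smul]

/-- the same relation after tensoring -/
theorem stalkLin_tensorMap_smul (t t' : Coh.structureModule X ⟶ L) (y : X)
    (a : X.presheaf.stalk y) (h : ∀ z, stalkLin t y z = a • stalkLin t' y z) (G : X.Modules)
    (w : (CohB1.tensorMod G (Coh.structureModule X)).presheaf.stalk y) :
    stalkLin (KoszTw.tensorMap (𝟙 G) t) y w = a • stalkLin (KoszTw.tensorMap (𝟙 G) t') y w := by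
  obtain ⟨w, rfl⟩ := (stalkTensorEquiv G (Coh.structureModule X) y).surjective w
  induction w using TensorProduct.induction_on with
  | zero => rw [map_zero, map_zero, map_zero, smul_zero]
  | tmul g n =>
    rw [stalkLin_tensorMap_tmul, stalkLin_tensorMap_tmul, h n, TensorProduct.tmul_smul, map_smul]
  | add w w' hw hw' =>
    rw [map_add, map_add, map_add, hw, hw', smul_add]

theorem stalkLin_mulS_smul (t t' : Coh.structureModule X ⟶ L) (y : X)
    (a : X.presheaf.stalk y) (h : ∀ z, stalkLin t y z = a • stalkLin t' y z) (G : X.Modules)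
    (z : G.presheaf.stalk y) :
    stalkLin (mulS t G) y z = a • stalkLin (mulS t' G) y z := by
  unfold mulS
  rw [Groth.Agent.Lead.StalkNhd.stalkLin_comp, Groth.Agent.Lead.StalkNhd.stalkLin_comp]
  exact stalkLin_tensorMap_smul t t' y a h G _

/-- **non-factorisation**: a section of `M ⊗ L` of the form `τ · t` vanishes at the points outside
of the generating locus of `t`, if `t` is a nonzerodivisor on its cokernel -/
theorem stalkLin_eq_zero_of_factor (hL : PicF.IsInvertible L) (t t' : Coh.structureModule X ⟶ L)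
    (y : X) (hy' : y ∈ CohB1.genLocus L t') (hy : y ∉ CohB1.genLocus L t) (M : X.Modules)
    (τ : Coh.structureModule X ⟶ M)
    (hmono : Mono (mulS t (cokernel (τ ≫ mulS t M))))
    (n : (Coh.structureModule X).presheaf.stalk y) :
    stalkLin (τ ≫ mulS t M) y n = 0 := by
  obtain ⟨a, ham, ha⟩ := exists_stalk_ratio hL t t' y hy' hy
  set s := τ ≫ mulS t M with hs
  set u := gsec s y with hu
  set m := stalkLin (mulS t' M) y (gsec τ y) with hm
  have hum : u = a • m := by
    rw [hu, hs, ← stalkLin_gsec, stalkLin_mulS_smul t t' y a ha M]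
  -- the image of `m` in the cokernel vanishes
  have hπu : stalkLin (cokernel.π s) y u = 0 := by
    rw [hu, stalkLin_gsec, cokernel.condition]
    unfold gsec
    have : Groth.Agent.Helper1.PUP.sec (0 : Coh.structureModule X ⟶ cokernel s) ⊤ = 0 := rfl
    rw [this, map_zero]
  have hπm : stalkLin (cokernel.π s) y m = 0 := by
    apply Groth.Agent.Helper4.StalkExact.stalkLin_injective (mulS t (cokernel s)) y
    rw [map_zero, stalkLin_mulS_smul t t' y a ha (cokernel s), ← map_smul, ← map_smul, ← hum, hπu,
      map_zero]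
  obtain ⟨b, hb⟩ := exists_stalkLin_eq_of_cokernel_zero s y m hπm
  obtain ⟨r, hr⟩ := exists_stalkLin_eq_smul_gsec y b
  have hmu : m = r • u := by rw [← hb, hr s]
  have h1 : (1 - a * r) • u = 0 := by
    rw [sub_smul, one_smul, mul_smul, ← hmu, ← hum, sub_self]
  have hunit : IsUnit (1 - a * r) := by
    have hmem : a * r ∈ IsLocalRing.maximalIdeal (X.presheaf.stalk y) :=
      Ideal.mul_mem_right _ _ ham
    by_contra hnu
    have h2 : 1 - a * r ∈ IsLocalRing.maximalIdeal (X.presheaf.stalk y) := by
      rw [IsLocalRing.mem_maximalIdeal, mem_nonunits_iff]; exact hnu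
    have h3 : (1 : X.presheaf.stalk y) ∈ IsLocalRing.maximalIdeal (X.presheaf.stalk y) := by
      have := Ideal.add_mem _ h2 hmem
      rwa [sub_add_cancel] at this
    exact (Ideal.ne_top_iff_one _).mp (IsLocalRing.maximalIdeal.isMaximal _).ne_top h3
  have hu0 : u = 0 := by
    obtain ⟨c, hc⟩ := hunit.exists_left_inv
    have := congrArg (fun v => c • v) h1
    simp only [smul_smul, hc, one_smul, smul_zero] at this
    exact this
  obtain ⟨r', hr'⟩ := exists_stalkLin_eq_smul_gsec y n
  rw [hr' s, ← hu, hu0, smul_zero]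

end StalkRatio

section Drop

variable (k : Type u) [Field k] {X : Scheme.{u}} [X.Over (Spec (CommRingCat.of k))]
  [IsProper (X ↘ (Spec (CommRingCat.of k)))]

include k in
/-- **dropping a twist lowers `h⁰`**: if `M ⊗ L` has no closed associated points and a nonzero
section, then `h⁰(M) + 1 ≤ h⁰(M ⊗ L)`, for an invertible module `L` with enough sections with
affine generating loci -/
theorem finrank_hom_drop {L : X.Modules} (hL : PicF.IsInvertible L)
    (havoid : ∀ S : Set X, S.Finite → ∃ t : Coh.structureModule X ⟶ L,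
      IsAffineOpen (CohB1.genLocus L t) ∧ ∀ z ∈ S, z ∈ CohB1.genLocus L t)
    (M : X.Modules) (hM : Coh.IsCoh M)
    (hass : ∀ x : X, Curv2.IsAssPoint (CohB1.tensorMod M L) x → ¬ IsClosed ({x} : Set X))
    (h0 : 1 ≤ Module.finrank k (Coh.structureModule X ⟶ CohB1.tensorMod M L)) :
    Module.finrank k (Coh.structureModule X ⟶ M) + 1 ≤
      Module.finrank k (Coh.structureModule X ⟶ CohB1.tensorMod M L) := by
  haveI := Groth.Agent.Helper4.NApx82.isNoetherian_of_proper k X
  have hcO : Coh.IsCoh (Coh.structureModule X) :=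
    Groth.Agent.Helper1.SerreFin.isCoh_of_isInvertible _
      Groth.Agent.Helper4.TensorInv.isInvertible_structureModule
  have hcL : Coh.IsCoh L := Groth.Agent.Helper1.SerreFin.isCoh_of_isInvertible _ hL
  have hN : Coh.IsCoh (CohB1.tensorMod M L) :=
    Groth.Agent.Lead.Ref1B.isCoh_tensorMod _ _ hM hcL
  haveI := finite_hom k _ _ hcO hM
  haveI := finite_hom k _ _ hcO hN
  -- a nonzero section
  obtain ⟨s, hs⟩ : ∃ s : Coh.structureModule X ⟶ CohB1.tensorMod M L, s ≠ 0 := by
    by_contra hcon
    push Not at hcon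
    haveI : Subsingleton (Coh.structureModule X ⟶ CohB1.tensorMod M L) :=
      ⟨fun a b => by rw [hcon a, hcon b]⟩
    have := Module.finrank_zero_of_subsingleton (R := k)
      (M := (Coh.structureModule X ⟶ CohB1.tensorMod M L))
    omega
  have hG : Coh.IsCoh (cokernel s) := Groth.Agent.Lead.PerfLib.isCoh_cokernel hcO hN s
  have hGL : Coh.IsCoh (CohB1.tensorMod (cokernel s) L) :=
    Groth.Agent.Lead.Ref1B.isCoh_tensorMod _ _ hG hcL
  have hfinM := Groth.Agent.Helper4.AssFin.finite_assPoints_of_isCompact M hM.1 hM.2 ⊤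
    isCompact_univ
  have hfinG := Groth.Agent.Helper4.AssFin.finite_assPoints_of_isCompact (cokernel s) hG.1 hG.2 ⊤
    isCompact_univ
  obtain ⟨t, haff, ht⟩ := havoid _ (hfinM.union hfinG)
  haveI := hM.1
  haveI := hN.1
  haveI := hG.1
  haveI := hGL.1
  haveI hmonoM : Mono (mulS t M) := by
    rw [mulS_eq_mulT]
    exact mono_mulT t _ (fun x hx => ht x (Or.inl ⟨trivial, hx⟩))
  have hmonoG : Mono (mulS t (cokernel s)) := by
    rw [mulS_eq_mulT]
    exact mono_mulT t _ (fun x hx => ht x (Or.inr ⟨trivial, hx⟩))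
  let P : (Coh.structureModule X ⟶ M) →ₗ[k] (Coh.structureModule X ⟶ CohB1.tensorMod M L) :=
    Linear.rightComp k (Coh.structureModule X) (mulS t M)
  have hPinj : Function.Injective P := fun a b hab => (cancel_mono (mulS t M)).mp hab
  have hs_not : s ∉ LinearMap.range P := by
    rintro ⟨τ, hτ⟩
    apply hs
    apply eq_zero_of_stalk_zero_off_affine k _ _ haff hass s
    intro y hy n
    obtain ⟨t', -, ht'⟩ := havoid {y} (Set.finite_singleton y)
    have hτ' : s = τ ≫ mulS t M := hτ.symm
    subst hτ'
    exact stalkLin_eq_zero_of_factor hL t t' y (ht' y rfl) hy M τ hmonoG n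
  have hlt : LinearMap.range P ≠ ⊤ := fun h => hs_not (h ▸ Submodule.mem_top)
  have h1 := Submodule.finrank_lt hlt
  have h2 : Module.finrank k (LinearMap.range P) = Module.finrank k (Coh.structureModule X ⟶ M) :=
    LinearMap.finrank_range_of_inj hPinj
  omega

include k in
/-- the same, as an inequality with truncated subtraction, also covering the case without
sections -/
theorem finrank_hom_drop' {L : X.Modules} (hL : PicF.IsInvertible L)
    (havoid : ∀ S : Set X, S.Finite → ∃ t : Coh.structureModule X ⟶ L,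
      IsAffineOpen (CohB1.genLocus L t) ∧ ∀ z ∈ S, z ∈ CohB1.genLocus L t)
    (M : X.Modules) (hM : Coh.IsCoh M)
    (hass : ∀ x : X, Curv2.IsAssPoint (CohB1.tensorMod M L) x → ¬ IsClosed ({x} : Set X)) :
    Module.finrank k (Coh.structureModule X ⟶ M) ≤
      Module.finrank k (Coh.structureModule X ⟶ CohB1.tensorMod M L) - 1 := by
  by_cases h0 : 1 ≤ Module.finrank k (Coh.structureModule X ⟶ CohB1.tensorMod M L)
  · have := finrank_hom_drop k hL havoid M hM hass h0
    omega
  · haveI := Groth.Agent.Helper4.NApx82.isNoetherian_of_proper k X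
    have hcO : Coh.IsCoh (Coh.structureModule X) :=
      Groth.Agent.Helper1.SerreFin.isCoh_of_isInvertible _
        Groth.Agent.Helper4.TensorInv.isInvertible_structureModule
    have hcL : Coh.IsCoh L := Groth.Agent.Helper1.SerreFin.isCoh_of_isInvertible _ hL
    have hN : Coh.IsCoh (CohB1.tensorMod M L) :=
      Groth.Agent.Lead.Ref1B.isCoh_tensorMod _ _ hM hcL
    haveI := finite_hom k _ _ hcO hM
    haveI := finite_hom k _ _ hcO hN
    have hfinM := Groth.Agent.Helper4.AssFin.finite_assPoints_of_isCompact M hM.1 hM.2 ⊤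
      isCompact_univ
    obtain ⟨t, -, ht⟩ := havoid _ hfinM
    haveI := hM.1
    haveI := hN.1
    haveI hmonoM : Mono (mulS t M) := by
      rw [mulS_eq_mulT]
      exact mono_mulT t _ (fun x hx => ht x ⟨trivial, hx⟩)
    let P : (Coh.structureModule X ⟶ M) →ₗ[k] (Coh.structureModule X ⟶ CohB1.tensorMod M L) :=
      Linear.rightComp k (Coh.structureModule X) (mulS t M)
    have hPinj : Function.Injective P := fun a b hab => (cancel_mono (mulS t M)).mp hab
    have := LinearMap.finrank_le_finrank_of_injective hPinj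
    omega

/-- `Hom(O, -)` of isomorphic modules -/
noncomputable def homUnitCongr {A B : X.Modules} (e : A ≅ B) :
    (Coh.structureModule X ⟶ A) ≃ₗ[k] (Coh.structureModule X ⟶ B) where
  toFun f := f ≫ e.hom
  invFun f := f ≫ e.inv
  map_add' f g := Preadditive.add_comp _ _ _ f g e.hom
  map_smul' c f := Linear.smul_comp _ _ _ c f e.hom
  left_inv f := by simp
  right_inv f := by simp

omit [IsProper (X ↘ (Spec (CommRingCat.of k)))] in
include k in
/-- `h⁰` of isomorphic modules -/
theorem finrank_HH_zero_of_iso {A B : X.Modules} (e : A ≅ B) :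
    Module.finrank k (Coh.HH X A 0) = Module.finrank k (Coh.HH X B 0) := by
  rw [← finrank_hom_unit k A, ← finrank_hom_unit k B]
  exact (homUnitCongr k e).finrank_eq

include k in
/-- **the drop of `h⁰`** in terms of cohomology: if `F' ⊗ L ≅ F''` and `F''` has no closed associated
points, then `h⁰(F') ≤ h⁰(F'') - 1` -/
theorem finrank_HH_drop {L : X.Modules} (hL : PicF.IsInvertible L)
    (havoid : ∀ S : Set X, S.Finite → ∃ t : Coh.structureModule X ⟶ L,
      IsAffineOpen (CohB1.genLocus L t) ∧ ∀ z ∈ S, z ∈ CohB1.genLocus L t)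
    (F' F'' : X.Modules) (e : CohB1.tensorMod F' L ≅ F'') (hF' : Coh.IsCoh F')
    (hass : ∀ x : X, Curv2.IsAssPoint F'' x → ¬ IsClosed ({x} : Set X)) :
    Module.finrank k (Coh.HH X F' 0) ≤ Module.finrank k (Coh.HH X F'' 0) - 1 := by
  have h := finrank_hom_drop' k hL havoid F' hF'
    (fun x hx => hass x (Groth.Agent.Helper4.AssExact.isAssPoint_of_mono e.hom x hx))
  rw [finrank_hom_unit k F', finrank_hom_unit k (CohB1.tensorMod F' L),
    finrank_HH_zero_of_iso k e] at h
  exact h

end Drop

end Groth.Agent.Helper4.SN
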