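import Mathlib
import Groth.Agent.Helper4.SN190
import Groth.Agent.Helper4.SN191
import Groth.Agent.Helper1.SerreVan
import Groth.Agent.Helper1.SerreFin3
import Groth.Agent.Helper1.TwistMul6
import Groth.Agent.Helper6.HProj

/-!
# `h⁰` of negative twists on projective space (S5638, S5639)
-/

set_option autoImplicit false
set_option linter.style.haveILetI false

namespace Groth.Agent.Helper4.SN

open CategoryTheory Limits AlgebraicGeometry Opposite TopologicalSpace
open Groth.Agent.Helper4.TensorAssoc Groth.Agent.Helper4.TensorInv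

universe u

section PN

variable (k : Type u) [Field k] (N : ℕ)

/-- on projective space over an infinite field, finitely many points are avoided by a
hyperplane -/
theorem havoid_projSpace [Infinite k] (S : Set (CohB1.ProjSpace N k)) (hS : S.Finite) :
    ∃ t : Coh.structureModule (CohB1.ProjSpace N k) ⟶ Twist.twistProjSpace N k ((1 : ℕ) : ℤ),
      IsAffineOpen (CohB1.genLocus (Twist.twistProjSpace N k ((1 : ℕ) : ℤ)) t) ∧
        ∀ z ∈ S, z ∈ CohB1.genLocus (Twist.twistProjSpace N k ((1 : ℕ) : ℤ)) t := by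
  obtain ⟨ℓ, hℓ⟩ := exists_linearForm_avoiding k N S hS
  refine ⟨Groth.Agent.Helper1.PUP.TT (CohB1.polyGrading N k) ℓ.1 ℓ.2, ?_, ?_⟩
  · have h := Groth.Agent.Helper1.PUP.genLocus_TT (CohB1.polyGrading N k)
      (Groth.Agent.Helper1.PUP.hcovP N) ℓ.1 ℓ.2
    have h2 : IsAffineOpen (Proj.basicOpen (CohB1.polyGrading N k)
        (ℓ : MvPolynomial (Fin (N + 1)) k)) :=
      Proj.isAffineOpen_basicOpen (CohB1.polyGrading N k) _ ℓ.2 Nat.one_pos
    rw [← h] at h2
    exact h2
  · intro z hz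
    have h := Groth.Agent.Helper1.PUP.genLocus_TT (CohB1.polyGrading N k)
      (Groth.Agent.Helper1.PUP.hcovP N) ℓ.1 ℓ.2
    have h2 := hℓ z hz
    rw [← h] at h2
    exact h2

/-- `O(d) ≅ O` for `d = 0` -/
theorem nonempty_twist_iso_of_eq_zero (d : ℤ) (hd : d = 0) :
    Nonempty (Twist.twistProjSpace N k d ≅ Coh.structureModule (CohB1.ProjSpace N k)) := by
  subst hd
  exact Groth.Agent.Helper1.TwistMul.nonempty_twist_zero_iso (CohB1.polyGrading N k)

/-- `(F ⊗ O(a)) ⊗ O(1) ≅ F ⊗ O(b)` for `b = a + 1` -/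
theorem nonempty_twist_step (F : (CohB1.ProjSpace N k).Modules) (a b : ℤ) (hb : b = a + ((1 : ℕ) : ℤ)) :
    Nonempty (CohB1.tensorMod (CohB1.tensorMod F (Twist.twistProjSpace N k a))
      (Twist.twistProjSpace N k ((1 : ℕ) : ℤ)) ≅ CohB1.tensorMod F (Twist.twistProjSpace N k b)) := by
  obtain ⟨e⟩ := Groth.Agent.Helper1.TwistMul.nonempty_twist_tensor_twist_iso
    (CohB1.polyGrading N k) (Groth.Agent.Helper1.PUP.hcovP N) a ((1 : ℕ) : ℤ) b hb
  exact ⟨assocIso F (Twist.twistProjSpace N k a) (Twist.twistProjSpace N k ((1 : ℕ) : ℤ))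
      (Groth.Agent.Helper1.SerreVan.isInvertible_twist N k a)
      (Groth.Agent.Helper1.SerreVan.isInvertible_twist N k _) ≪≫
    PicGrp.tensorModIso (Iso.refl F) e⟩

/-- `F ⊗ O(d) ≅ F` for `d = 0` -/
theorem nonempty_tensor_twist_zero (F : (CohB1.ProjSpace N k).Modules) (d : ℤ) (hd : d = 0) :
    Nonempty (CohB1.tensorMod F (Twist.twistProjSpace N k d) ≅ F) := by
  obtain ⟨e⟩ := nonempty_twist_iso_of_eq_zero k N d hd
  exact ⟨PicGrp.tensorModIso (Iso.refl F) e ≪≫ SecTwist.unitorR F⟩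

end PN

section Main

variable (k : Type u) [Field k] [IsAlgClosed k] (N : ℕ)

/-- the drop of `h⁰` on projective space -/
theorem finrank_HH_drop_projSpace (F' F'' : (CohB1.ProjSpace N k).Modules)
    (e : CohB1.tensorMod F' (Twist.twistProjSpace N k ((1 : ℕ) : ℤ)) ≅ F'') (hF' : Coh.IsCoh F')
    (hass : ∀ x : ↥(CohB1.ProjSpace N k), Curv2.IsAssPoint F'' x →
      ¬ IsClosed ({x} : Set ↥(CohB1.ProjSpace N k))) :
    Module.finrank k (Coh.HH (CohB1.ProjSpace N k) F' 0) ≤
      Module.finrank k (Coh.HH (CohB1.ProjSpace N k) F'' 0) - 1 := by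
  haveI : IsProper ((CohB1.ProjSpace N k) ↘ (Spec (CommRingCat.of k))) :=
    Groth.Agent.Helper6.HProj.isProper_toSpec N k
  haveI : Infinite k := IsAlgClosed.instInfinite
  exact finrank_HH_drop k (Groth.Agent.Helper1.SerreVan.isInvertible_twist N k _)
    (havoid_projSpace k N) F' F'' e hF' hass

/-- **S5638** -/
theorem main5638 (F : (CohB1.ProjSpace N k).Modules) (hF : Coh.IsCoh F)
    (hass : ∀ x : ↥(CohB1.ProjSpace N k), Curv2.IsAssPoint F x →
      ¬ IsClosed ({x} : Set ↥(CohB1.ProjSpace N k)))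
    (h0 : 1 ≤ Module.finrank k (Coh.HH (CohB1.ProjSpace N k) F 0)) :
    Module.finrank k (Coh.HH (CohB1.ProjSpace N k)
      (CohB1.tensorMod F (Twist.twistProjSpace N k (-1))) 0) + 1 ≤
      Module.finrank k (Coh.HH (CohB1.ProjSpace N k) F 0) := by
  haveI : IsNoetherianRing k := inferInstance
  have hcL : ∀ d, Coh.IsCoh (Twist.twistProjSpace N k d) := fun d =>
    Groth.Agent.Helper1.SerreFin.isCoh_of_isInvertible _
      (Groth.Agent.Helper1.SerreVan.isInvertible_twist N k d)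
  obtain ⟨e1⟩ := nonempty_twist_step k N F (-1) 0 (by norm_num)
  obtain ⟨e2⟩ := nonempty_tensor_twist_zero k N F 0 rfl
  have h := finrank_HH_drop_projSpace k N (CohB1.tensorMod F (Twist.twistProjSpace N k (-1))) F
    (e1 ≪≫ e2) (Groth.Agent.Lead.Ref1B.isCoh_tensorMod _ _ hF (hcL _)) hass
  omega

/-- **S5639** -/
theorem main5639 (F : (CohB1.ProjSpace N k).Modules) (hF : Coh.IsCoh F)
    (hass : ∀ x : ↥(CohB1.ProjSpace N k), Curv2.IsAssPoint F x →
      ¬ IsClosed ({x} : Set ↥(CohB1.ProjSpace N k)))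
    (n : ℕ) (hn : Module.finrank k (Coh.HH (CohB1.ProjSpace N k) F 0) ≤ n) :
    Subsingleton (Coh.HH (CohB1.ProjSpace N k)
      (CohB1.tensorMod F (Twist.twistProjSpace N k (-(n : ℤ)))) 0) := by
  haveI : IsProper ((CohB1.ProjSpace N k) ↘ (Spec (CommRingCat.of k))) :=
    Groth.Agent.Helper6.HProj.isProper_toSpec N k
  have hinv : ∀ d, PicF.IsInvertible (Twist.twistProjSpace N k d) := fun d =>
    Groth.Agent.Helper1.SerreVan.isInvertible_twist N k d
  have hcL : ∀ d, Coh.IsCoh (Twist.twistProjSpace N k d) := fun d =>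
    Groth.Agent.Helper1.SerreFin.isCoh_of_isInvertible _ (hinv d)
  have hcF : ∀ d, Coh.IsCoh (CohB1.tensorMod F (Twist.twistProjSpace N k d)) := fun d =>
    Groth.Agent.Lead.Ref1B.isCoh_tensorMod _ _ hF (hcL d)
  have hassF : ∀ d (x : ↥(CohB1.ProjSpace N k)),
      Curv2.IsAssPoint (CohB1.tensorMod F (Twist.twistProjSpace N k d)) x →
        ¬ IsClosed ({x} : Set ↥(CohB1.ProjSpace N k)) := by
    intro d x hx
    have h1 := Groth.Agent.Helper4.AssExact.isAssPoint_of_mono (Groth.Agent.Lead.Ref1B.braid _ _).hom x hx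
    exact hass x (isAssPoint_of_tensor_invertible _ _ (hinv d) x h1)
  have key : ∀ m : ℕ, Module.finrank k (Coh.HH (CohB1.ProjSpace N k)
      (CohB1.tensorMod F (Twist.twistProjSpace N k (-(m : ℤ)))) 0) ≤
      Module.finrank k (Coh.HH (CohB1.ProjSpace N k) F 0) - m := by
    intro m
    induction m with
    | zero =>
      obtain ⟨e⟩ := nonempty_tensor_twist_zero k N F (-((0 : ℕ) : ℤ)) (by simp)
      rw [finrank_HH_zero_of_iso k e]
      omega
    | succ m ih =>
      obtain ⟨e⟩ := nonempty_twist_step k N F (-((m + 1 : ℕ) : ℤ)) (-(m : ℤ))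
        (by push_cast; ring)
      have h := finrank_HH_drop_projSpace k N _ _ e (hcF _) (hassF _)
      omega
  have h0 : Module.finrank k (Coh.HH (CohB1.ProjSpace N k)
      (CohB1.tensorMod F (Twist.twistProjSpace N k (-(n : ℤ)))) 0) = 0 := by
    have := key n
    omega
  haveI : Module.Finite k (Coh.HH (CohB1.ProjSpace N k)
      (CohB1.tensorMod F (Twist.twistProjSpace N k (-(n : ℤ)))) 0) :=
    Groth.Agent.Helper1.SerreFin.finite_HH N k _ (hcF _) 0
  exact Module.finrank_zero_iff.mp h0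

end Main

end Groth.Agent.Helper4.SN
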