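import Mathlib
import Groth.Prelude.Def_CxOX
import Groth.Agent.Helper4.SuppLib

/-! Local criteria (on an open cover) for morphisms of `O_X`-modules. -/

set_option autoImplicit false
universe u

open CategoryTheory CategoryTheory.Limits AlgebraicGeometry Opposite
attribute [local instance] HasDerivedCategory.standard

namespace Groth.Agent.Helper4.ModLocal

open Groth.Agent.Helper4.SuppLib

variable {X : Scheme.{u}} {ι : Type*} (V : ι → X.Opens) (hV : ∀ x : X, ∃ i, x ∈ V i)

include hV in
theorem isZero_of_restrict_cover (M : X.Modules)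
    (h : ∀ i, IsZero ((Scheme.Modules.restrictFunctor (V i).ι).obj M)) : IsZero M := by
  apply isZero_of_stalks
  intro x
  obtain ⟨i, hi⟩ := hV x
  have h1 := subsingleton_stalk_of_isZero _ (h i) ⟨x, hi⟩
  exact (subsingleton_stalk_restrict_iff (V i).ι M ⟨x, hi⟩).1 h1

include hV in
theorem epi_of_restrict_cover {M N : X.Modules} (φ : M ⟶ N)
    (h : ∀ i, Epi ((Scheme.Modules.restrictFunctor (V i).ι).map φ)) : Epi φ := by
  apply Preadditive.epi_of_isZero_cokernel
  apply isZero_of_restrict_cover V hV
  intro i
  haveI := h i
  exact IsZero.of_iso (isZero_cokernel_of_epi _)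
    (PreservesCokernel.iso (Scheme.Modules.restrictFunctor (V i).ι) φ)

include hV in
theorem mono_of_restrict_cover {M N : X.Modules} (φ : M ⟶ N)
    (h : ∀ i, Mono ((Scheme.Modules.restrictFunctor (V i).ι).map φ)) : Mono φ := by
  apply Preadditive.mono_of_isZero_kernel
  apply isZero_of_restrict_cover V hV
  intro i
  haveI := h i
  exact IsZero.of_iso (isZero_kernel_of_mono _)
    (PreservesKernel.iso (Scheme.Modules.restrictFunctor (V i).ι) φ)

include hV in
theorem isIso_of_restrict_cover {M N : X.Modules} (φ : M ⟶ N)
    (h : ∀ i, IsIso ((Scheme.Modules.restrictFunctor (V i).ι).map φ)) : IsIso φ := by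
  haveI := mono_of_restrict_cover V hV φ (fun i => by haveI := h i; infer_instance)
  haveI := epi_of_restrict_cover V hV φ (fun i => by haveI := h i; infer_instance)
  exact isIso_of_mono_of_epi φ

end Groth.Agent.Helper4.ModLocal
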