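import Mathlib
import Groth.Agent.Helper1.ProjQc5
import Groth.Agent.Helper1.KzGGPn

set_option autoImplicit false
set_option linter.unusedSectionVars false
set_option linter.style.haveILetI false

/-!
# SN206: every quasi-coherent module on `Proj 𝒜` (irrelevant ideal generated by finitely many
degree one elements) is `M~` for the graded module `M = Γ_*(F)`; consequences on `P^n_R`:
the Koszul vanishing criterion and Castelnuovo–Mumford regularity for quasi-coherent modules.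
-/

namespace Groth.Agent.Helper4.SN206

open CategoryTheory Limits AlgebraicGeometry TopologicalSpace Opposite MvPolynomial
open Groth.Agent.Helper1 Groth.Agent.Helper1.ProjQc

universe u

section tilde

variable {R A : Type u} [CommRing R] [CommRing A] [Algebra R A] (𝒜 : ℕ → Submodule R A)
  [GradedAlgebra 𝒜]

/-- the quasi-coherent version of `S3551`: no finiteness -/
theorem exists_tilde_iso_of_isQCoh
    (s : Finset A) (hs1 : ∀ f ∈ s, f ∈ 𝒜 1)
    (hs : (HomogeneousIdeal.irrelevant 𝒜).toIdeal = Ideal.span (s : Set A))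
    (F : (Proj 𝒜).Modules) (hF : Coh.IsQCoh F) :
    ∃ (N : Type u) (_ : AddCommGroup N) (_ : Module R N) (_ : Module A N) (_ : IsScalarTower R A N)
      (𝒩 : ℕ → Submodule R N) (_ : DirectSum.Decomposition 𝒩) (_ : SetLike.GradedSMul 𝒜 𝒩),
      Nonempty (GrTilde.tilde 𝒜 𝒩 0 ≅ F) := by
  classical
  haveI : F.IsQuasicoherent := hF
  let N : Submodule A (KK 𝒜 s F hs1) := Msub 𝒜 s hs1 F
  have hhom : ∀ x ∈ N, ∀ i, (DirectSum.decompose (gK 𝒜 s hs1 F) x i : KK 𝒜 s F hs1) ∈ N :=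
    fun x hx i => Msub_homogeneous x hx i
  letI : DirectSum.Decomposition (SubGr.gr (gK 𝒜 s hs1 F) N) :=
    SubGr.decomposition (gK 𝒜 s hs1 F) N hhom
  let Z := rlz 𝒜 s hs1 F N le_rfl
  have hiso : IsIso (φ Z hs) := by
    apply isIso_φ Z hs
    · intro f n x hx h0
      obtain ⟨k, hk⟩ := cond1 f n x.1 x.2 hx h0
      exact ⟨k, Subtype.ext hk⟩
    · intro f t
      obtain ⟨n, P, hPM, hPn, hPt⟩ := cond2 (hs1 := hs1) f t
      exact ⟨n, ⟨P, hPM⟩, hPn, hPt⟩
  exact ⟨N, inferInstance, inferInstance, inferInstance, inferInstance,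
    SubGr.gr (gK 𝒜 s hs1 F) N, inferInstance, inferInstance, ⟨asIso (φ Z hs)⟩⟩

end tilde

section Pn

open Groth.Agent.Helper1.KzMain Groth.Agent.Helper1.ProjTop Groth.Agent.Helper1.SerreFin
  Groth.Agent.Helper1.KzPn Groth.Agent.Helper1.KzReg Groth.Agent.Helper1.KzMult
  Groth.Agent.Helper1.KzMultPn

variable (n : ℕ) (R : Type u) [CommRing R]

/-- a quasi-coherent module on `P^n_R` and all its twists are `M(s)~` for a graded module `M` -/
theorem exists_tilde_iso (F : (CohB1.ProjSpace n R).Modules) (hF : Coh.IsQCoh F) :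
    ∃ (N : Type u) (_ : AddCommGroup N) (_ : Module R N)
      (_ : Module (MvPolynomial (Fin (n + 1)) R) N)
      (_ : IsScalarTower R (MvPolynomial (Fin (n + 1)) R) N)
      (𝒩 : ℕ → Submodule R N) (_ : DirectSum.Decomposition 𝒩)
      (_ : SetLike.GradedSMul (CohB1.polyGrading n R) 𝒩),
      ∀ s : ℤ, Nonempty (CohB1.tensorMod F (Twist.twistProjSpace n R s) ≅
        GrTilde.tilde (CohB1.polyGrading n R) 𝒩 s) := by
  classical
  let s : Finset (MvPolynomial (Fin (n + 1)) R) :=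
    Finset.univ.image (fun j : Fin (n + 1) => (X j : MvPolynomial (Fin (n + 1)) R))
  have hs1 : ∀ f ∈ s, f ∈ CohB1.polyGrading n R 1 := by
    intro f hf
    obtain ⟨j, -, rfl⟩ := Finset.mem_image.1 hf
    exact X_mem n R j
  have hs : (HomogeneousIdeal.irrelevant (CohB1.polyGrading n R)).toIdeal =
      Ideal.span (s : Set (MvPolynomial (Fin (n + 1)) R)) := by
    have := Groth.Agent.Helper1.ProjVanish.irrelevant_eq_span_of_adjoin (CohB1.polyGrading n R)
      (fun j : Fin (n + 1) => (X j : MvPolynomial (Fin (n + 1)) R)) (X_mem n R)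
      (MvPolynomial.adjoin_range_X)
    rw [this]
    congr 1
    ext f
    simp [s]
  obtain ⟨N, i1, i2, i3, i4, 𝒩, i5, i6, ⟨e⟩⟩ :=
    exists_tilde_iso_of_isQCoh (CohB1.polyGrading n R) s hs1 hs F hF
  refine ⟨N, i1, i2, i3, i4, 𝒩, i5, i6, fun t => ?_⟩
  obtain ⟨e2⟩ := Groth.Agent.Helper1.TwistMul.nonempty_tensor_twist_iso
    (CohB1.polyGrading n R) 𝒩 (hcov_poly n R) 0 t t (by ring)
  exact ⟨PicGrp.tensorModIso e.symm (Iso.refl _) ≪≫ e2⟩

/-- **the Koszul vanishing criterion** on `P^n_R` for quasi-coherent modules -/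
theorem subsingleton_HH_of_koszul (F : (CohB1.ProjSpace n R).Modules) (hF : Coh.IsQCoh F)
    (s : ℤ) (i : ℕ)
    (hvan : ∀ p : ℕ, p < n + 1 → Subsingleton (Coh.HH (CohB1.ProjSpace n R)
      (CohB1.tensorMod F (Twist.twistProjSpace n R (s - ((p + 1 : ℕ) : ℤ)))) (i + p))) :
    Subsingleton (Coh.HH (CohB1.ProjSpace n R)
      (CohB1.tensorMod F (Twist.twistProjSpace n R s)) i) := by
  obtain ⟨N, i1, i2, i3, i4, 𝒩, i5, i6, he⟩ := exists_tilde_iso n R F hF
  obtain ⟨e⟩ := he s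
  haveI : Subsingleton (Coh.HH (CohB1.ProjSpace n R)
      (GrTilde.tilde (CohB1.polyGrading n R) 𝒩 s) i) := by
    apply subsingleton_HH_tilde (CohB1.polyGrading n R) 𝒩 (xs n R) (xs_mem n R) (n + 1)
      (xs_cov n R) R s i
    intro p hp
    obtain ⟨e'⟩ := he (s - ((p + 1 : ℕ) : ℤ))
    haveI := hvan p hp
    exact (HHlinEquiv R (X := CohB1.ProjSpace n R) e' (i + p)).symm.toEquiv.subsingleton
  exact (HHlinEquiv R (X := CohB1.ProjSpace n R) e i).toEquiv.subsingleton

/-- twists of quasi-coherent modules are quasi-coherent -/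
theorem isQCoh_twist (F : (CohB1.ProjSpace n R).Modules) (hF : Coh.IsQCoh F) (d : ℤ) :
    Coh.IsQCoh (CohB1.tensorMod F (Twist.twistProjSpace n R d)) := by
  have hB := isCoh_twist n R d
  haveI : F.IsQuasicoherent := hF
  haveI : (Twist.twistProjSpace n R d).IsQuasicoherent := hB.1
  exact Groth.Agent.Lead.QcohTensor.isQuasicoherent_tensorMod F _

/-- **`m`-regular implies `(m+1)`-regular**, quasi-coherent version -/
theorem isReg_succ (F : (CohB1.ProjSpace n R).Modules) (hF : Coh.IsQCoh F) (m : ℤ)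
    (h : IsReg n R F m) : IsReg n R F (m + 1) := by
  intro i hi
  apply subsingleton_HH_of_koszul n R F hF (m + 1 - i) i
  intro p _
  have e : m + 1 - (i : ℤ) - ((p + 1 : ℕ) : ℤ) = m - ((i + p : ℕ) : ℤ) := by
    push_cast; ring
  rw [e]
  exact h (i + p) (by omega)

theorem isReg_add (F : (CohB1.ProjSpace n R).Modules) (hF : Coh.IsQCoh F) (m : ℤ)
    (h : IsReg n R F m) (k : ℕ) : IsReg n R F (m + k) := by
  induction k with
  | zero => simpa using h
  | succ k ih =>
    have := isReg_succ n R F hF _ ih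
    have e : m + ((k + 1 : ℕ) : ℤ) = m + (k : ℤ) + 1 := by push_cast; ring
    rw [e]
    exact this

/-- **regularity propagates**: `H^i(F(r)) = 0` for `i ≥ 1`, `r ≥ m - i` -/
theorem subsingleton_HH_of_isReg (F : (CohB1.ProjSpace n R).Modules) (hF : Coh.IsQCoh F) (m : ℤ)
    (h : IsReg n R F m) (i : ℕ) (hi : 1 ≤ i) (r : ℤ) (hr : m - i ≤ r) :
    Subsingleton (Coh.HH (CohB1.ProjSpace n R)
      (CohB1.tensorMod F (Twist.twistProjSpace n R r)) i) := by
  obtain ⟨k, hk⟩ : ∃ k : ℕ, r = m - i + k := ⟨(r - (m - i)).toNat, by omega⟩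
  have h1 := isReg_add n R F hF m h k i hi
  have e : m + (k : ℤ) - (i : ℤ) = r := by rw [hk]; ring
  rw [e] at h1
  exact h1

theorem mem_S_of_isReg (F : (CohB1.ProjSpace n R).Modules) (hF : Coh.IsQCoh F) (m : ℤ)
    (h : IsReg n R F m)
    {N : Type u} [AddCommGroup N] [Module R N] [Module (MvPolynomial (Fin (n + 1)) R) N]
    [IsScalarTower R (MvPolynomial (Fin (n + 1)) R) N]
    (𝒩 : ℕ → Submodule R N) [DirectSum.Decomposition 𝒩]
    [SetLike.GradedSMul (CohB1.polyGrading n R) 𝒩]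
    (he : ∀ s : ℤ, Nonempty (CohB1.tensorMod F (Twist.twistProjSpace n R s) ≅
        GrTilde.tilde (CohB1.polyGrading n R) 𝒩 s))
    (d : ℤ) (hd : m ≤ d) (e : ℕ) (s : ℤ) (hs : s = d + e)
    (t : Γ(GrTilde.tilde (CohB1.polyGrading n R) 𝒩 s, ⊤)) :
    t ∈ S (CohB1.polyGrading n R) 𝒩 s d e := by
  apply mem_S (CohB1.polyGrading n R) 𝒩 (xs n R) (xs_mem n R) (n + 1) (xs_cov n R) R d e s hs
  intro e' _ p _
  obtain ⟨e1⟩ := he (d + e' + 1 - ((p + 2 : ℕ) : ℤ))
  obtain ⟨k', hk'⟩ : ∃ k' : ℕ, d + e' = m + k' := ⟨(d + e' - m).toNat, by omega⟩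
  have h1 := isReg_add n R F hF m h k' (p + 1) (by omega)
  have e2 : m + (k' : ℤ) - ((p + 1 : ℕ) : ℤ) = d + e' + 1 - ((p + 2 : ℕ) : ℤ) := by
    rw [← hk']; push_cast; ring
  rw [e2] at h1
  exact (HHlinEquiv R (X := CohB1.ProjSpace n R) e1 (p + 1)).symm.toEquiv.subsingleton

/-- **Mumford: an `m`-regular quasi-coherent module has `F(d)` globally generated for `d ≥ m`** -/
theorem isGloballyGenerated_of_isReg (F : (CohB1.ProjSpace n R).Modules) (hF : Coh.IsQCoh F)
    (m d : ℤ) (hd : m ≤ d) (h : IsReg n R F m) :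
    Curv2.IsGloballyGenerated (CohB1.tensorMod F (Twist.twistProjSpace n R d)) := by
  obtain ⟨N, i1, i2, i3, i4, 𝒩, i5, i6, he⟩ := exists_tilde_iso n R F hF
  obtain ⟨eF⟩ := he d
  refine Groth.Agent.Helper4.CounitEpi.isGloballyGenerated_of_iso eF.symm ?_
  apply isGloballyGenerated_tilde (CohB1.polyGrading n R) 𝒩 d
  intro e s hs t
  exact mem_S_of_isReg n R F hF m h 𝒩 he d hd e s hs t

end Pn

end Groth.Agent.Helper4.SN206
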