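import Mathlib
import Groth.Agent.Helper4.SN206
import Groth.Agent.Helper1.ClTr2
import Groth.Agent.Helper4.QcohGlue

set_option autoImplicit false
set_option linter.unusedSectionVars false
set_option linter.style.haveILetI false

/-!
# SN207: Mumford's theorem for a quasi-coherent module on a scheme affine over `P^n_R`
(no Noetherian hypothesis, no finiteness)
-/

namespace Groth.Agent.Helper4.SN207

open CategoryTheory Limits AlgebraicGeometry TopologicalSpace Opposite
open Groth.Agent.Helper1.ClTr Groth.Agent.Helper1.KzReg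

universe u

variable (n : ℕ) (R : Type u) [CommRing R] {X : Scheme.{u}} (i : X ⟶ CohB1.ProjSpace n R)

theorem isQCoh_push [IsAffineHom i] (F : X.Modules) (hF : Coh.IsQCoh F) :
    Coh.IsQCoh ((Coh.push i).obj F) := by
  haveI : F.IsQuasicoherent := hF
  exact Groth.Agent.Helper4.QcohGlue.isQuasicoherent_pushforward i F

/-- **Mumford's theorem on a scheme affine over `P^n_R`**, quasi-coherent version -/
theorem isRegX_and_gg [IsAffineHom i] (F : X.Modules)
    (hF : Coh.IsQCoh F) (m : ℤ) (h : IsRegX n R i F m) (n' : ℤ) (hn' : m ≤ n') :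
    IsRegX n R i F n' ∧ Curv2.IsGloballyGenerated (tw n R i F n') := by
  have hG := isQCoh_push n R i F hF
  have hreg : IsReg n R ((Coh.push i).obj F) m := (isRegX_iff n R i F hF m).1 h
  constructor
  · rw [isRegX_iff n R i F hF n']
    obtain ⟨k, rfl⟩ : ∃ k : ℕ, n' = m + k := ⟨(n' - m).toNat, by omega⟩
    exact Groth.Agent.Helper4.SN206.isReg_add n R _ hG m hreg k
  · apply isGloballyGenerated_of_push n R i _ (isQCoh_tw n R i F hF n')
    have hgg := Groth.Agent.Helper4.SN206.isGloballyGenerated_of_isReg n R _ hG m n' hn' hreg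
    exact Groth.Agent.Helper4.CounitEpi.isGloballyGenerated_of_iso (pushTwIso n R i F n').symm hgg

/-- vanishing of `H^q(X, F(r))` for `q ≥ 1`, `r ≥ m - q` -/
theorem subsingleton_HH_tw [IsAffineHom i] (F : X.Modules)
    (hF : Coh.IsQCoh F) (m : ℤ) (h : IsRegX n R i F m) (q : ℕ) (hq : 1 ≤ q) (r : ℤ)
    (hr : m - q ≤ r) : Subsingleton (Coh.HH X (tw n R i F r) q) := by
  have h1 := (isRegX_and_gg n R i F hF m h (r + q) (by omega)).1 q hq
  have e : r + (q : ℤ) - (q : ℤ) = r := by ring
  rw [e] at h1
  exact h1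

end Groth.Agent.Helper4.SN207
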