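import Mathlib
import Groth.Agent.Helper4.SN207
import Groth.Agent.Helper4.SN208
import Groth.Agent.Helper1.RegSh3
import Groth.Agent.Helper1.BaseChart15
import Groth.Agent.Helper1.Fin3
import Groth.Agent.Helper1.HHonHU
import Groth.Agent.Helper4.CounitGG
import Groth.Agent.Helper4.TensorRes

set_option autoImplicit false
set_option linter.unusedSectionVars false
set_option linter.style.haveILetI false

/-!
# SN209: relative Castelnuovo–Mumford regularity on `P^n_T` for quasi-coherent modules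
-/

namespace Groth.Agent.Helper4.SN209

open CategoryTheory Limits AlgebraicGeometry TopologicalSpace Opposite
open Groth.Agent.Helper1.ClTr Groth.Agent.Helper4.SN208

universe u

section bridge

variable {X Y : Scheme.{u}} (f : X ⟶ Y)

/-- the underlying abelian sheaf functor reflects zero objects -/
theorem isZero_of_isZero_toAb (N : Y.Modules) (h : IsZero (Coh.toAb N)) : IsZero N := by
  rw [IsZero.iff_id_eq_zero]
  apply (SheafOfModules.toSheaf Y.ringCatSheaf).map_injective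
  have h1 := (IsZero.iff_id_eq_zero _).1 h
  refine ((SheafOfModules.toSheaf Y.ringCatSheaf).map_id N).trans (h1.trans ?_)
  exact ((SheafOfModules.toSheaf Y.ringCatSheaf).map_zero N N).symm

/-- `R^j f_*(M_ab) = 0` implies `H^j(f⁻¹V, M) = 0` for `V` affine -/
theorem subsingleton_HHon_of_isZero_RpushAb [QuasiCompact f] [QuasiSeparated f]
    (M : X.Modules) (hM : Coh.IsQCoh M) (j : ℕ)
    (h : IsZero ((Coh.RpushAb f j).obj (Coh.toAb M))) (V : Y.Opens) (hV : IsAffineOpen V) :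
    Subsingleton (Coh.HHon X M (f ⁻¹ᵁ V) j) := by
  haveI := Groth.Agent.Helper4.SchAdj.isGrothendieckAbelian_modules X
  haveI : HasInjectiveResolutions X.Modules := inferInstance
  haveI : IsAffine (V : Scheme.{u}) := hV
  haveI : Coh.IsQCoh M := hM
  have h1 : IsZero ((Coh.Rpush f j).obj M) := by
    apply isZero_of_isZero_toAb
    exact h.of_iso ((Groth.Agent.Helper1.RpCmpNat.iso f j).app M)
  exact Groth.Agent.Helper1.BaseChart.subsingleton_HH_of_isZero_Rpush f V M j h1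

/-- `H^{q+1}(f⁻¹V, M) = 0` for all affine `V` implies `R^{q+1} f_*(M_ab) = 0` -/
theorem isZero_RpushAb_of_subsingleton_HHon [QuasiCompact f] [IsSeparated f]
    (M : X.Modules) (hM : Coh.IsQCoh M) (q : ℕ)
    (h : ∀ V : Y.Opens, IsAffineOpen V → Subsingleton (Coh.HHon X M (f ⁻¹ᵁ V) (q + 1))) :
    IsZero ((Coh.RpushAb f (q + 1)).obj (Coh.toAb M)) := by
  haveI : M.IsQuasicoherent := hM
  apply Groth.Agent.Helper1.Fin.isZero_RpushAb_of_cover f M {V | IsAffineOpen V}
    (fun V hV => hV) ?_ q ?_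
  · intro x
    obtain ⟨V, hV, hxV, -⟩ := Opens.isBasis_iff_nbhd.1 Y.isBasis_affineOpens
      (show x ∈ (⊤ : Y.Opens) from trivial)
    exact ⟨V, hV, hxV⟩
  · intro V hV
    obtain ⟨e'⟩ := Groth.Agent.Helper1.HHonHU.nonempty_HHon_HU X M (f ⁻¹ᵁ V) (q + 1)
    haveI := h V hV
    exact e'.symm.toEquiv.subsingleton

end bridge

section main

variable (r : ℕ) (Y : Scheme.{u})

theorem isQCoh_twF (F : (KRR.PY r Y).Modules) (hF : Coh.IsQCoh F) (d : ℤ) :
    Coh.IsQCoh (KRR.twF r Y d F) := by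
  haveI : F.IsQuasicoherent := hF
  haveI : (Twist.twistOver r Y d).IsQuasicoherent :=
    Groth.Agent.Helper4.QAffSec.isQuasicoherent_of_isInvertible _
      (Groth.Agent.Helper1.FlatTw.isInvertible_twistOver r Y d)
  exact Groth.Agent.Lead.QcohTensor.isQuasicoherent_tensorMod (Twist.twistOver r Y d) F

variable {Y} {V : Y.Opens} (hV : IsAffineOpen V)

/-- on the chart over `V`, `F(d)` is the twist of `F|` by the pullback of `O(d)` from
`P^r_{Γ(Y, V)}` -/
theorem nonempty_restrict_twF_iso (F : (KRR.PY r Y).Modules) (d : ℤ) :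
    Nonempty ((KRR.twF r Y d F).restrict (XV r V).ι ≅
      tw r Γ(Y, V) (iV r hV) (F.restrict (XV r V).ι) d) := by
  obtain ⟨e⟩ := nonempty_iV_twist_iso r hV d
  have e1 : (KRR.twF r Y d F).restrict (XV r V).ι ≅
      CohB1.tensorMod ((Twist.twistOver r Y d).restrict (XV r V).ι) (F.restrict (XV r V).ι) :=
    (Groth.Agent.Helper4.TensorRes.resIso (XV r V).ι (Twist.twistOver r Y d) F).symm
  exact ⟨e1 ≪≫ Groth.Agent.Lead.Ref1B.braid _ _ ≪≫ PicGrp.tensorModIso (Iso.refl _) e.symm⟩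

theorem isQCoh_restrict (F : (KRR.PY r Y).Modules) (hF : Coh.IsQCoh F) :
    Coh.IsQCoh (F.restrict (XV r V).ι) := by
  haveI : F.IsQuasicoherent := hF
  exact inferInstanceAs (F.restrict (XV r V).ι).IsQuasicoherent

/-- the chartwise form of relative regularity -/
theorem isRegX_of_isRegSheaf (F : (KRR.PY r Y).Modules) (hF : Coh.IsQCoh F)
    (hreg : KRR.IsRegSheaf r Y F) :
    IsRegX r Γ(Y, V) (iV r hV) (F.restrict (XV r V).ι) 0 := by
  intro q hq
  haveI : IsProper (KRR.pr r Y) := Groth.Agent.Helper6.HProj.isProper_toBase r Y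
  have h1 := subsingleton_HHon_of_isZero_RpushAb (KRR.pr r Y) _ (isQCoh_twF r Y F hF (-(q : ℤ))) q
    (hreg q hq) V hV
  obtain ⟨e⟩ := nonempty_restrict_twF_iso r hV F (-(q : ℤ))
  have e0 : (0 : ℤ) - (q : ℤ) = -(q : ℤ) := by ring
  rw [e0]
  exact Groth.Agent.Helper1.SerreCrit.subsingleton_HH_of_iso e q h1

/-- **vanishing of the higher direct images of the twists of a regular module** -/
theorem isZero_RpushAb_twF (F : (KRR.PY r Y).Modules) (hF : Coh.IsQCoh F)
    (hreg : KRR.IsRegSheaf r Y F) (i : ℕ) (hi : 1 ≤ i) (d : ℤ) (hd : -(i : ℤ) ≤ d) :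
    IsZero ((Coh.RpushAb (KRR.pr r Y) i).obj (Coh.toAb (KRR.twF r Y d F))) := by
  haveI : IsProper (KRR.pr r Y) := Groth.Agent.Helper6.HProj.isProper_toBase r Y
  obtain ⟨q, rfl⟩ : ∃ q, i = q + 1 := ⟨i - 1, by omega⟩
  apply isZero_RpushAb_of_subsingleton_HHon (KRR.pr r Y) _ (isQCoh_twF r Y F hF d) q
  intro V hV
  have hX := isRegX_of_isRegSheaf r hV F hF hreg
  have h2 := Groth.Agent.Helper4.SN207.subsingleton_HH_tw r Γ(Y, V) (iV r hV)
    (F.restrict (XV r V).ι) (isQCoh_restrict r F hF) 0 hX (q + 1) (by omega) d (by omega)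
  obtain ⟨e⟩ := nonempty_restrict_twF_iso r hV F d
  exact Groth.Agent.Helper1.SerreCrit.subsingleton_HH_of_iso e.symm (q + 1) h2

/-- **S19428**: the twists `F(m)`, `m ≥ 0`, of a regular quasi-coherent module are regular -/
theorem isRegSheaf_twF (F : (KRR.PY r Y).Modules) (hF : Coh.IsQCoh F)
    (hreg : KRR.IsRegSheaf r Y F) (m : ℕ) : KRR.IsRegSheaf r Y (KRR.twF r Y (m : ℤ) F) := by
  intro i hi
  obtain ⟨e⟩ := Groth.Agent.Helper1.RegSh.nonempty_twF_twF r Y (-(i : ℤ)) (m : ℤ)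
    ((m : ℤ) - (i : ℤ)) (by ring) F
  exact Groth.Agent.Helper1.RegSh.isZero_Rpush_of_iso r Y e.symm i
    (isZero_RpushAb_twF r F hF hreg i hi _ (by omega))

/-- `R^i p_* F = 0` for `i ≥ 1` and `F` regular -/
theorem isZero_RpushAb_of_isRegSheaf (F : (KRR.PY r Y).Modules) (hF : Coh.IsQCoh F)
    (hreg : KRR.IsRegSheaf r Y F) (i : ℕ) (hi : 1 ≤ i) :
    IsZero ((Coh.RpushAb (KRR.pr r Y) i).obj (Coh.toAb F)) := by
  obtain ⟨e₀⟩ := Groth.Agent.Helper1.RegSh.nonempty_twistOver_zero r Y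
  have e : KRR.twF r Y 0 F ≅ F :=
    PicGrp.tensorModIso e₀ (Iso.refl F) ≪≫ Groth.Agent.Helper4.AmpleBasis.unitorL F
  exact Groth.Agent.Helper1.RegSh.isZero_Rpush_of_iso r Y e i
    (isZero_RpushAb_twF r F hF hreg i hi 0 (by omega))

include hV in
/-- `F|` is globally generated over the preimage of every affine open -/
theorem isGloballyGenerated_restrict (F : (KRR.PY r Y).Modules) (hF : Coh.IsQCoh F)
    (hreg : KRR.IsRegSheaf r Y F) :
    Curv2.IsGloballyGenerated (F.restrict (XV r V).ι) := by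
  have hX := isRegX_of_isRegSheaf r hV F hF hreg
  have hgg := (Groth.Agent.Helper4.SN207.isRegX_and_gg r Γ(Y, V) (iV r hV)
    (F.restrict (XV r V).ι) (isQCoh_restrict r F hF) 0 hX 0 le_rfl).2
  obtain ⟨e0⟩ := Groth.Agent.Helper1.KzLin.tw_zero r Γ(Y, V)
  have e : tw r Γ(Y, V) (iV r hV) (F.restrict (XV r V).ι) 0 ≅ F.restrict (XV r V).ι :=
    PicGrp.tensorModIso (Iso.refl _) ((Scheme.Modules.pullback (iV r hV)).mapIso e0 ≪≫
      Groth.Agent.Helper4.PullUnit.pullbackUnitIso _) ≪≫ SecTwist.unitorR _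
  exact Groth.Agent.Helper4.CounitEpi.isGloballyGenerated_of_iso e hgg

/-- **S19429**: the counit `p^* p_* F ⟶ F` is an epimorphism for `F` regular -/
theorem epi_counit (F : (KRR.PY r Y).Modules) (hF : Coh.IsQCoh F)
    (hreg : KRR.IsRegSheaf r Y F) :
    Epi ((Scheme.Modules.pullbackPushforwardAdjunction (KRR.pr r Y)).counit.app F) := by
  apply Groth.Agent.Helper4.CounitGG.epi_counit_of_cover (KRR.pr r Y) F
    (fun V : Y.affineOpens => V.1)
  · intro x
    obtain ⟨V, hV, hxV, -⟩ := Opens.isBasis_iff_nbhd.1 Y.isBasis_affineOpens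
      (show (KRR.pr r Y) x ∈ (⊤ : Y.Opens) from trivial)
    exact ⟨⟨V, hV⟩, hxV⟩
  · intro V
    exact isGloballyGenerated_restrict r V.2 F hF hreg

end main

end Groth.Agent.Helper4.SN209
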