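import Mathlib
import Groth.Agent.Helper4.SN209
import Groth.Agent.S2390
import Groth.Agent.S2427
import Groth.Agent.Lead.PerfLib11
import Groth.Agent.Lead.PerfLib5
import Groth.Agent.Helper3.ProjSmooth

set_option autoImplicit false
set_option linter.unusedSectionVars false
set_option linter.style.haveILetI false

/-!
# SN210: the direct image of a regular finite locally free module on `P^n_Y` is finite locally free
-/

namespace Groth.Agent.Helper4.SN210

open CategoryTheory Limits AlgebraicGeometry TopologicalSpace Opposite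

universe u

variable (r : ℕ) (Y : Scheme.{u})

instance flat_pr : Flat (KRR.pr r Y) := by
  haveI := Groth.Agent.Helper3.ProjSmooth.smooth_toSpec r (ULift.{u} ℤ)
  haveI : Flat (CohB1.ProjSpace.toSpec r (ULift.{u} ℤ)) := inferInstance
  exact inferInstanceAs (Flat (pullback.snd (CohB1.ProjSpace.toSpec r (ULift.{u} ℤ))
    (specULiftZIsTerminal.from Y)))

/-- vanishing of the module-valued higher direct images from that of the abelian ones -/
theorem isZero_Rpush_of_isZero_RpushAb {X S : Scheme.{u}} (f : X ⟶ S)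
    [HasInjectiveResolutions X.Modules] (M : X.Modules) (i : ℕ)
    (h : IsZero ((Coh.RpushAb f i).obj (Coh.toAb M))) : IsZero ((Coh.Rpush f i).obj M) := by
  apply Groth.Agent.Helper4.SN209.isZero_of_isZero_toAb
  exact h.of_iso ((Groth.Agent.Helper1.RpCmpNat.iso f i).app M)

/-- **S3756** -/
theorem isFinLocFree_push [IsLocallyNoetherian Y] (F : (KRR.PY r Y).Modules)
    (hF : FlatMod.IsFinLocFree F) (hreg : KRR.IsRegSheaf r Y F) :
    FlatMod.IsFinLocFree ((Scheme.Modules.pushforward (KRR.pr r Y)).obj F) := by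
  haveI := Groth.Agent.Helper4.SchAdj.isGrothendieckAbelian_modules (KRR.PY r Y)
  haveI : HasInjectiveResolutions (KRR.PY r Y).Modules := inferInstance
  haveI : IsProper (KRR.pr r Y) := Groth.Agent.Helper6.HProj.isProper_toBase r Y
  have hcoh : Coh.IsCoh F := Groth.Agent.Lead.PerfLib.isCoh_of_isFinLocFree hF
  have hfl : FlatMod.IsFlatOver (KRR.pr r Y) F :=
    Groth.Agent.Lead.PerfLib.isFlatOver_of_isFinLocFree (KRR.pr r Y) hF
  have hR : ∀ i : ℕ, 0 < i → IsZero ((Coh.Rpush (KRR.pr r Y) i).obj F) := fun i hi =>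
    isZero_Rpush_of_isZero_RpushAb (KRR.pr r Y) F i
      (Groth.Agent.Helper4.SN209.isZero_RpushAb_of_isRegSheaf r F hcoh.1 hreg i hi)
  obtain ⟨-, h2⟩ := Groth.Agent.S2390.result (KRR.pr r Y) F hcoh hfl hR
  intro y
  obtain ⟨U, hyU, ⟨e⟩⟩ := h2 y
  exact ⟨U, _, hyU, ⟨e⟩⟩

/-- **S3757** -/
theorem exists_isFinLocFree_push_twF [IsNoetherian Y] (F : (KRR.PY r Y).Modules)
    (hF : FlatMod.IsFinLocFree F) :
    ∃ m₀ : ℕ, ∀ m : ℕ, m₀ ≤ m →
      FlatMod.IsFinLocFree ((Scheme.Modules.pushforward (KRR.pr r Y)).obj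
        (KRR.twF r Y (m : ℤ) F)) := by
  have hcoh : Coh.IsCoh F := Groth.Agent.Lead.PerfLib.isCoh_of_isFinLocFree hF
  have hfl : FlatMod.IsFlatOver (KRR.pr r Y) F :=
    Groth.Agent.Lead.PerfLib.isFlatOver_of_isFinLocFree (KRR.pr r Y) hF
  have hfl' : FlatMod.IsFlatOver (𝟙 (CohB1.ProjSpaceOver r Y) ≫ CohB1.ProjSpaceOver.toBase r Y) F := by
    rw [Category.id_comp]
    exact hfl
  obtain ⟨n₀, hn₀⟩ := (Groth.Agent.S2427.result r (𝟙 (CohB1.ProjSpaceOver r Y)) F hcoh).1 hfl'
  refine ⟨n₀.toNat, fun m hm => ?_⟩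
  have h1 := hn₀ (m : ℤ) (by omega)
  rw [Category.id_comp] at h1
  have e : CohB1.tensorMod F ((Scheme.Modules.pullback (𝟙 (CohB1.ProjSpaceOver r Y))).obj
      (Twist.twistOver r Y (m : ℤ))) ≅ KRR.twF r Y (m : ℤ) F :=
    PicGrp.tensorModIso (Iso.refl F)
      ((Scheme.Modules.pullbackId (CohB1.ProjSpaceOver r Y)).app (Twist.twistOver r Y (m : ℤ))) ≪≫
      Groth.Agent.Lead.Ref1B.braid _ _
  exact Groth.Agent.Helper1.FlatTw.isFinLocFree_of_iso
    ((Scheme.Modules.pushforward (KRR.pr r Y)).mapIso e) h1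

end Groth.Agent.Helper4.SN210
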