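import Mathlib
import Groth.Agent.Helper4.SN209
import Groth.Agent.Helper1.DualSh3
import Groth.Agent.Helper3.FlatPullEx
import Groth.Agent.Helper4.QuasiAffineGG
import Groth.Agent.Helper4.QcohLimits
import Groth.Agent.Lead.QProjVanA
import Groth.Agent.Helper9.TensorAdj
import Groth.Agent.Helper3.ProjSmooth

set_option autoImplicit false
set_option linter.unusedSectionVars false
set_option linter.style.haveILetI false

/-!
# SN211: `R^q p_*(p^* G ⊗ O(d)) = 0` for `q ≥ 1`, `d ≥ -n`, `G` quasi-coherent on `Y`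
(`p : P^n_Y ⟶ Y`, any scheme `Y`), and the regularity of `(p^* G)(1)`.
-/

namespace Groth.Agent.Helper4.SN211

open CategoryTheory Limits AlgebraicGeometry TopologicalSpace Opposite
open Groth.Agent.Helper1.ClTr Groth.Agent.Helper4.SN208

universe u

section general

variable {X : Scheme.{u}}

/-- cohomology of a coproduct vanishes when that of the summands does -/
theorem subsingleton_HH_sigma [CompactSpace X] [QuasiSeparatedSpace X] (q : ℕ) {J : Type u}
    (E : J → X.Modules) (h : ∀ j, Subsingleton (Coh.HH X (E j) q)) :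
    Subsingleton (Coh.HH X (∐ E) q) := by
  have h1 := Groth.Agent.Helper1.DualSh.closure_eq_top q E
  have h2 : AddSubgroup.closure {x : Coh.HH X (∐ E) q | ∃ (j : J) (y : Coh.HH X (E j) q),
      x = Sheaf.H.map ((SheafOfModules.toSheaf X.ringCatSheaf).map (Sigma.ι E j)) q y} = ⊥ := by
    rw [AddSubgroup.closure_eq_bot_iff]
    rintro x ⟨j, y, rfl⟩
    haveI := h j
    rw [Subsingleton.elim y 0, map_zero]
    rfl
  rw [h2] at h1
  refine ⟨fun a b => ?_⟩
  have ha : a ∈ (⊥ : AddSubgroup (Coh.HH X (∐ E) q)) := h1 ▸ AddSubgroup.mem_top a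
  have hb : b ∈ (⊥ : AddSubgroup (Coh.HH X (∐ E) q)) := h1 ▸ AddSubgroup.mem_top b
  rw [AddSubgroup.mem_bot] at ha hb
  rw [ha, hb]

end general

section chart

variable (r : ℕ) {Y : Scheme.{u}} {V : Y.Opens} (hV : IsAffineOpen V)

/-- the restriction of `O(d)` to the chart -/
noncomputable abbrev LV (V : Y.Opens) (d : ℤ) :
    ((XV r V : (CohB1.ProjSpaceOver r Y).Opens) : Scheme.{u}).Modules :=
  (Twist.twistOver r Y d).restrict (XV r V).ι

/-- the projection of the chart -/
noncomputable abbrev qV (V : Y.Opens) :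
    ((XV r V : (CohB1.ProjSpaceOver r Y).Opens) : Scheme.{u}) ⟶ (V : Scheme.{u}) :=
  KRR.pr r Y ∣_ V

instance isProper_qV : IsProper (qV r V) := by
  haveI : IsProper (KRR.pr r Y) := Groth.Agent.Helper6.HProj.isProper_toBase r Y
  exact inferInstanceAs (IsProper (KRR.pr r Y ∣_ V))

instance flat_qV : Flat (qV r V) := by
  haveI : Flat (KRR.pr r Y) := by
    haveI := Groth.Agent.Helper3.ProjSmooth.smooth_toSpec r (ULift.{u} ℤ)
    haveI : Flat (CohB1.ProjSpace.toSpec r (ULift.{u} ℤ)) := inferInstance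
    exact inferInstanceAs (Flat (pullback.snd (CohB1.ProjSpace.toSpec r (ULift.{u} ℤ))
      (specULiftZIsTerminal.from Y)))
  exact inferInstanceAs (Flat (KRR.pr r Y ∣_ V))

include hV in
theorem compactSpace_XV : CompactSpace ((XV r V : (CohB1.ProjSpaceOver r Y).Opens) : Scheme.{u}) := by
  haveI : IsAffine (V : Scheme.{u}) := hV
  exact QuasiCompact.compactSpace_of_compactSpace (qV r V)

include hV in
theorem quasiSeparatedSpace_XV :
    QuasiSeparatedSpace ((XV r V : (CohB1.ProjSpaceOver r Y).Opens) : Scheme.{u}) := by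
  haveI : IsAffine (V : Scheme.{u}) := hV
  exact quasiSeparatedSpace_of_quasiSeparated (qV r V)

theorem isInvertible_LV (d : ℤ) : PicF.IsInvertible (LV r V d) := by
  have h := Groth.Agent.Helper4.PullSec.isInvertible_pullback (XV r V).ι
    (Groth.Agent.Helper1.FlatTw.isInvertible_twistOver r Y d)
  intro x
  obtain ⟨U, hxU, ⟨ε⟩⟩ := h x
  exact ⟨U, hxU, ⟨(Scheme.Modules.restrictFunctor U.ι).mapIso
    ((Scheme.Modules.restrictFunctorIsoPullback (XV r V).ι).app (Twist.twistOver r Y d)) ≪≫ ε⟩⟩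

include hV in
/-- the cohomology of `O(d)` over a chart -/
theorem subsingleton_HH_LV (d : ℤ) (j : ℕ) (hj : 1 ≤ j) (hd : -(r : ℤ) ≤ d) :
    Subsingleton (Coh.HH _ (LV r V d) j) := by
  have h0 : ¬ ((j = 0 ∧ 0 ≤ d) ∨ (j = r ∧ d ≤ -((r : ℤ) + 1))) := by
    rintro (⟨h, -⟩ | ⟨-, h⟩) <;> omega
  have h1 := Groth.Agent.Helper1.PSB.subsingleton_HU_of_affine r hV d j
    (Groth.Agent.Helper1.PSB.subsingleton_HH r _ d j h0)
  obtain ⟨e'⟩ := Groth.Agent.Helper1.HHonHU.nonempty_HHon_HU (CohB1.ProjSpaceOver r Y)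
    (Twist.twistOver r Y d) (XV r V) j
  exact e'.toEquiv.subsingleton

include hV in
/-- vanishing above the dimension on a chart -/
theorem subsingleton_HH_gt (M : ((XV r V : (CohB1.ProjSpaceOver r Y).Opens) : Scheme.{u}).Modules)
    (hM : Coh.IsQCoh M) (j : ℕ) (hj : r < j) : Subsingleton (Coh.HH _ M j) := by
  haveI : Coh.IsQCoh M := hM
  obtain ⟨e⟩ := Groth.Agent.S0012.result (iV r hV) M j
  haveI : Coh.IsQCoh ((Coh.push (iV r hV)).obj M) :=
    Groth.Agent.Helper4.SN207.isQCoh_push r Γ(Y, V) (iV r hV) M hM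
  haveI := Groth.Agent.S0022.result r Γ(Y, V) ((Coh.push (iV r hV)).obj M) j hj
  exact e.toEquiv.subsingleton

end chart

section induction

variable (r : ℕ) {Y : Scheme.{u}} {V : Y.Opens} (hV : IsAffineOpen V)

/-- the functor `N ↦ q^* N ⊗ O(d)|` -/
noncomputable abbrev Φ (V : Y.Opens) (d : ℤ) : (V : Scheme.{u}).Modules ⥤
    ((XV r V : (CohB1.ProjSpaceOver r Y).Opens) : Scheme.{u}).Modules :=
  Scheme.Modules.pullback (qV r V) ⋙ DCoh.tensorRightMod (LV r V d)

theorem isQCoh_Φ (d : ℤ) (N : (V : Scheme.{u}).Modules) (hN : Coh.IsQCoh N) :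
    Coh.IsQCoh ((Φ r V d).obj N) := by
  haveI : N.IsQuasicoherent := hN
  haveI : ((Scheme.Modules.pullback (qV r V)).obj N).IsQuasicoherent :=
    Groth.Agent.Lead.StalkPull.isQuasicoherent_pullbackObj (qV r V) N
  haveI : (LV r V d).IsQuasicoherent :=
    Groth.Agent.Helper4.QAffSec.isQuasicoherent_of_isInvertible _ (isInvertible_LV r d)
  exact Groth.Agent.Lead.QcohTensor.isQuasicoherent_tensorMod
    ((Scheme.Modules.pullback (qV r V)).obj N) (LV r V d)

/-- `Φ` preserves short exact sequences -/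
theorem shortExact_map_Φ (d : ℤ) {S : ShortComplex (V : Scheme.{u}).Modules}
    (hS : S.ShortExact) : (S.map (Φ r V d)).ShortExact := by
  haveI : PreservesFiniteLimits (Scheme.Modules.pullback (qV r V)) :=
    Groth.Agent.Helper3.FlatPullEx.preservesFiniteLimits_pullback (qV r V)
  haveI : (Scheme.Modules.pullback (qV r V)).Additive :=
    (Scheme.Modules.pullbackPushforwardAdjunction (qV r V)).left_adjoint_additive
  haveI : PreservesFiniteColimits (Scheme.Modules.pullback (qV r V)) :=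
    haveI : PreservesColimitsOfSize.{0, 0} (Scheme.Modules.pullback (qV r V)) :=
      (Scheme.Modules.pullbackPushforwardAdjunction (qV r V)).leftAdjoint_preservesColimits
    PreservesColimitsOfSize.preservesFiniteColimits _
  have h1 : (S.map (Scheme.Modules.pullback (qV r V))).ShortExact :=
    hS.map_of_exact (Scheme.Modules.pullback (qV r V))
  exact Groth.Agent.Helper1.TwistExact.shortExact_map_tensorRightMod h1 (LV r V d)
    (isInvertible_LV r d)

/-- `Φ` of a free module is a coproduct of copies of `O(d)|` -/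
noncomputable def ΦFreeIso (d : ℤ) (I : Type u) :
    (Φ r V d).obj (SheafOfModules.free I : (V : Scheme.{u}).Modules) ≅ ∐ fun _ : I => LV r V d :=
  haveI : PreservesColimitsOfSize.{u, u} (DCoh.tensorRightMod (LV r V d)) :=
    Groth.Agent.Helper9.TensorAdj.preservesColimits_TN
      (O := ((XV r V : (CohB1.ProjSpaceOver r Y).Opens) : Scheme.{u}).sheaf) (LV r V d)
  (DCoh.tensorRightMod (LV r V d)).mapIso
      (SheafOfModules.pullbackObjFreeIso (qV r V).toRingCatSheafHom I) ≪≫
    PreservesCoproduct.iso (DCoh.tensorRightMod (LV r V d))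
      (fun _ : I => Coh.structureModule _) ≪≫
    Sigma.mapIso (fun _ => Groth.Agent.Helper4.AmpleBasis.unitorL (LV r V d))

include hV in
/-- **the key vanishing on a chart**, by descending induction on the degree -/
theorem subsingleton_HH_Φ : ∀ (k j : ℕ), 1 ≤ j → r + 1 ≤ j + k →
    ∀ (N : (V : Scheme.{u}).Modules) (_ : Coh.IsQCoh N) (d : ℤ) (_ : -(r : ℤ) ≤ d),
      Subsingleton (Coh.HH _ ((Φ r V d).obj N) j) := by
  intro k
  induction k with
  | zero =>
    intro j _ hjk N hN d _
    exact subsingleton_HH_gt r hV _ (isQCoh_Φ r d N hN) j (by omega)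
  | succ k ih =>
    intro j hj hjk N hN d hd
    haveI : IsAffine (V : Scheme.{u}) := hV
    haveI : N.IsQuasicoherent := hN
    haveI := compactSpace_XV r hV
    haveI := quasiSeparatedSpace_XV r hV
    obtain ⟨I, π, hπ⟩ := Groth.Agent.Helper4.QuasiAffineGG.isGloballyGenerated_of_isOpenImmersion_Spec
      (V : Scheme.{u}).isoSpec.hom N
    haveI : (SheafOfModules.free I : (V : Scheme.{u}).Modules).IsQuasicoherent := inferInstance
    have hK : Coh.IsQCoh (kernel π) := Groth.Agent.Helper4.QcohLimits.isQuasicoherent_kernel π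
    let S : ShortComplex (V : Scheme.{u}).Modules := ShortComplex.mk (kernel.ι π) π (kernel.condition π)
    have hS : S.ShortExact :=
      { exact := ShortComplex.exact_of_f_is_kernel _ (kernelIsKernel π)
        mono_f := inferInstanceAs (Mono (kernel.ι π))
        epi_g := hπ }
    have hS' := shortExact_map_Φ r d hS
    have h2 : Subsingleton (Coh.HH _ ((Φ r V d).obj (SheafOfModules.free I)) j) := by
      have h3 : Subsingleton (Coh.HH _ (∐ fun _ : I => LV r V d) j) :=
        subsingleton_HH_sigma j _ (fun _ => subsingleton_HH_LV r hV d j hj hd)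
      exact Groth.Agent.Helper1.SerreCrit.subsingleton_HH_of_iso (ΦFreeIso r d I).symm j h3
    have h1 : Subsingleton (Coh.HH _ ((Φ r V d).obj (kernel π)) (j + 1)) :=
      ih (j + 1) (by omega) (by omega) (kernel π) hK d hd
    exact Groth.Agent.Lead.QProjVan.subsingleton_HH_right (S.map (Φ r V d)) hS' j h2 h1

end induction

section global

variable (r : ℕ) (Y : Scheme.{u})

theorem isQCoh_pullback (G : Y.Modules) (hG : Coh.IsQCoh G) :
    Coh.IsQCoh ((Scheme.Modules.pullback (KRR.pr r Y)).obj G) := by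
  haveI : G.IsQuasicoherent := hG
  exact Groth.Agent.Lead.StalkPull.isQuasicoherent_pullbackObj (KRR.pr r Y) G

/-- on a chart, `(p^* G)(d)` is `Φ(G|_V)` -/
noncomputable def restrictTwFPullIso {V : Y.Opens} (G : Y.Modules) (d : ℤ) :
    (KRR.twF r Y d ((Scheme.Modules.pullback (KRR.pr r Y)).obj G)).restrict (XV r V).ι ≅
      (Φ r V d).obj (G.restrict V.ι) :=
  (Groth.Agent.Helper4.TensorRes.resIso (XV r V).ι (Twist.twistOver r Y d)
      ((Scheme.Modules.pullback (KRR.pr r Y)).obj G)).symm ≪≫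
    Groth.Agent.Lead.Ref1B.braid _ _ ≪≫
    PicGrp.tensorModIso (Groth.Agent.Helper4.PullSec.resPullIso (KRR.pr r Y) V G) (Iso.refl _)

/-- **Theorem A**: `R^q p_*((p^* G)(d)) = 0` for `q ≥ 1`, `d ≥ -r` -/
theorem isZero_RpushAb_twF_pullback (G : Y.Modules) (hG : Coh.IsQCoh G) (q : ℕ) (hq : 1 ≤ q)
    (d : ℤ) (hd : -(r : ℤ) ≤ d) :
    IsZero ((Coh.RpushAb (KRR.pr r Y) q).obj
      (Coh.toAb (KRR.twF r Y d ((Scheme.Modules.pullback (KRR.pr r Y)).obj G)))) := by
  haveI : IsProper (KRR.pr r Y) := Groth.Agent.Helper6.HProj.isProper_toBase r Y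
  obtain ⟨q', rfl⟩ : ∃ q', q = q' + 1 := ⟨q - 1, by omega⟩
  apply Groth.Agent.Helper4.SN209.isZero_RpushAb_of_subsingleton_HHon (KRR.pr r Y) _
    (Groth.Agent.Helper4.SN209.isQCoh_twF r Y _ (isQCoh_pullback r Y G hG) d) q'
  intro V hV
  haveI : G.IsQuasicoherent := hG
  have hGV : Coh.IsQCoh (G.restrict V.ι) := inferInstanceAs (G.restrict V.ι).IsQuasicoherent
  have h := subsingleton_HH_Φ r hV r (q' + 1) (by omega) (by omega) (G.restrict V.ι) hGV d hd
  exact Groth.Agent.Helper1.SerreCrit.subsingleton_HH_of_iso (restrictTwFPullIso r Y G d).symm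
    (q' + 1) h

/-- vanishing above the relative dimension -/
theorem isZero_RpushAb_of_gt (M : (KRR.PY r Y).Modules) (hM : Coh.IsQCoh M) (q : ℕ) (hq : r < q) :
    IsZero ((Coh.RpushAb (KRR.pr r Y) q).obj (Coh.toAb M)) := by
  haveI : IsProper (KRR.pr r Y) := Groth.Agent.Helper6.HProj.isProper_toBase r Y
  obtain ⟨q', rfl⟩ : ∃ q', q = q' + 1 := ⟨q - 1, by omega⟩
  apply Groth.Agent.Helper4.SN209.isZero_RpushAb_of_subsingleton_HHon (KRR.pr r Y) _ hM q'
  intro V hV
  exact subsingleton_HH_gt r hV _ (Groth.Agent.Helper4.SN209.isQCoh_restrict r M hM) (q' + 1) hq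

/-- `(p^* G)(1)` is regular -/
theorem isRegSheaf_twF_one_pullback (G : Y.Modules) (hG : Coh.IsQCoh G) :
    KRR.IsRegSheaf r Y (KRR.twF r Y 1 ((Scheme.Modules.pullback (KRR.pr r Y)).obj G)) := by
  apply Groth.Agent.Helper1.RegSh.isRegSheaf_twF_one_of
  intro i hi
  rw [Groth.Agent.Helper1.RegSh.isZero_RT_iff]
  by_cases h : r < i
  · exact isZero_RpushAb_of_gt r Y _
      (Groth.Agent.Helper4.SN209.isQCoh_twF r Y _ (isQCoh_pullback r Y G hG) _) i h
  · exact isZero_RpushAb_twF_pullback r Y G hG i hi _ (by omega)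

/-- a general form of the kernel statement -/
theorem isRegSheaf_twF_one_kernel {G : Y.Modules} (hG : Coh.IsQCoh G)
    {F : (KRR.PY r Y).Modules} (ε : (Scheme.Modules.pullback (KRR.pr r Y)).obj G ⟶ F)
    (hepi : Epi ε) (hreg : KRR.IsRegSheaf r Y F)
    (hsplit : Epi ((Scheme.Modules.pushforward (KRR.pr r Y)).map ε)) :
    KRR.IsRegSheaf r Y (KRR.twF r Y 1 (kernel ε)) := by
  have hS : (ShortComplex.mk (kernel.ι ε) ε (kernel.condition ε)).ShortExact :=
    { exact := ShortComplex.exact_of_f_is_kernel _ (kernelIsKernel ε)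
      mono_f := inferInstanceAs (Mono (kernel.ι ε))
      epi_g := hepi }
  have h₂ : KRR.IsRegSheaf r Y (KRR.twF r Y 1
      (ShortComplex.mk (kernel.ι ε) ε (kernel.condition ε)).X₂) :=
    isRegSheaf_twF_one_pullback r Y G hG
  have h₃ : KRR.IsRegSheaf r Y (ShortComplex.mk (kernel.ι ε) ε (kernel.condition ε)).X₃ := hreg
  have h₄ : Epi ((Scheme.Modules.pushforward (KRR.pr r Y)).map
      (ShortComplex.mk (kernel.ι ε) ε (kernel.condition ε)).g) := hsplit
  exact Groth.Agent.Helper1.RegSh.isRegSheaf_twF_one_X₁ r Y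
    (S := ShortComplex.mk (kernel.ι ε) ε (kernel.condition ε)) hS h₂ h₃ h₄

/-- **S3755** (quasi-coherent version): the kernel `Z` of the counit `p^* p_* F ⟶ F` of a regular
quasi-coherent module has `Z(1)` regular -/
theorem isRegSheaf_twF_one_kernel_counit (F : (KRR.PY r Y).Modules) (hF : Coh.IsQCoh F)
    (hreg : KRR.IsRegSheaf r Y F) :
    KRR.IsRegSheaf r Y (KRR.twF r Y 1
      (kernel ((Scheme.Modules.pullbackPushforwardAdjunction (KRR.pr r Y)).counit.app F))) := by
  haveI : IsProper (KRR.pr r Y) := Groth.Agent.Helper6.HProj.isProper_toBase r Y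
  haveI : F.IsQuasicoherent := hF
  have hepi := Groth.Agent.Helper4.SN209.epi_counit r F hF hreg
  have hG : Coh.IsQCoh ((Scheme.Modules.pushforward (KRR.pr r Y)).obj F) :=
    Groth.Agent.Helper4.QcohGlue.isQuasicoherent_pushforward (KRR.pr r Y) F
  have hsplit : Epi ((Scheme.Modules.pushforward (KRR.pr r Y)).map
      ((Scheme.Modules.pullbackPushforwardAdjunction (KRR.pr r Y)).counit.app F)) := by
    have h := (Scheme.Modules.pullbackPushforwardAdjunction (KRR.pr r Y)).right_triangle_components F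
    haveI : IsSplitEpi ((Scheme.Modules.pushforward (KRR.pr r Y)).map
      ((Scheme.Modules.pullbackPushforwardAdjunction (KRR.pr r Y)).counit.app F)) :=
      IsSplitEpi.mk' ⟨_, h⟩
    infer_instance
  exact isRegSheaf_twF_one_kernel r Y hG _ hepi hreg hsplit

end global

end Groth.Agent.Helper4.SN211
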