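import Mathlib
import Groth.Agent.Helper4.SN210
import Groth.Agent.S2385
import Groth.Agent.Helper4.ModLocal
import Groth.Agent.Helper1.FlatTw1
import Groth.Agent.Lead.Ref1B

set_option autoImplicit false
set_option linter.unusedSectionVars false
set_option linter.style.haveILetI false

/-!
# SN212: fibrewise `m`-regularity of a flat coherent module on `P^n_S` gives relative regularity,
local freeness of the direct images of the twists `Q(d)`, `d ≥ m`, vanishing of the higher direct
images and surjectivity of the counit.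
-/

namespace Groth.Agent.Helper4.SN212

open CategoryTheory Limits AlgebraicGeometry TopologicalSpace Opposite

universe u

variable (n : ℕ) (S : Scheme.{u})

/-- regularity is invariant under isomorphism -/
theorem isRegSheaf_of_iso {F G : (KRR.PY n S).Modules} (e : F ≅ G) (h : KRR.IsRegSheaf n S F) :
    KRR.IsRegSheaf n S G := by
  intro i hi
  have e' : KRR.twF n S (-(i : ℤ)) F ≅ KRR.twF n S (-(i : ℤ)) G :=
    ((DCoh.tensorBi (X := KRR.PY n S)).obj (Twist.twistOver n S (-(i : ℤ)))).mapIso e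
  exact Groth.Agent.Helper1.RegSh.isZero_Rpush_of_iso n S e' i (h i hi)

/-- the right twist is isomorphic to the left twist -/
noncomputable def twIso (Q : (KRR.PY n S).Modules) (d : ℤ) :
    CohB1.tensorMod Q (Twist.twistOver n S d) ≅ KRR.twF n S d Q :=
  Groth.Agent.Lead.Ref1B.braid _ _

/-- epimorphy of the counit is invariant under isomorphism -/
theorem epi_counit_of_iso {X Y : Scheme.{u}} (f : X ⟶ Y) {F G : X.Modules} (e : F ≅ G)
    (h : Epi ((Scheme.Modules.pullbackPushforwardAdjunction f).counit.app F)) :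
    Epi ((Scheme.Modules.pullbackPushforwardAdjunction f).counit.app G) := by
  have hnat := (Scheme.Modules.pullbackPushforwardAdjunction f).counit.naturality e.hom
  have h1 : (Scheme.Modules.pullbackPushforwardAdjunction f).counit.app G =
      (Scheme.Modules.pushforward f ⋙ Scheme.Modules.pullback f).map e.inv ≫
        (Scheme.Modules.pullbackPushforwardAdjunction f).counit.app F ≫ e.hom := by
    have hnat' : (Scheme.Modules.pushforward f ⋙ Scheme.Modules.pullback f).map e.hom ≫
        (Scheme.Modules.pullbackPushforwardAdjunction f).counit.app G =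
      (Scheme.Modules.pullbackPushforwardAdjunction f).counit.app F ≫ e.hom := hnat
    rw [← hnat', ← Category.assoc, ← Functor.map_comp, e.inv_hom_id]
    rw [CategoryTheory.Functor.map_id, Category.id_comp]
  rw [h1]
  haveI := h
  infer_instance

/-- **fibrewise vanishing gives the vanishing of the higher direct image** -/
theorem isZero_Rpush_of_fiberH [IsLocallyNoetherian S] (G : (KRR.PY n S).Modules)
    (hG : Coh.IsCoh G) (hfl : FlatMod.IsFlatOver (KRR.pr n S) G) (i : ℕ)
    (h : ∀ s : S, Subsingleton (CohIII.fiberH (KRR.pr n S) G s i)) :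
    IsZero ((Coh.RpushAb (KRR.pr n S) i).obj (Coh.toAb G)) := by
  haveI := Groth.Agent.Helper4.SchAdj.isGrothendieckAbelian_modules (KRR.PY n S)
  haveI : HasInjectiveResolutions (KRR.PY n S).Modules := inferInstance
  haveI : IsProper (KRR.pr n S) := Groth.Agent.Helper6.HProj.isProper_toBase n S
  have hloc : ∀ s : S, ∃ U : S.Opens, s ∈ U ∧
      IsZero (((Coh.Rpush (KRR.pr n S) i).obj G).restrict U.ι) :=
    fun s => Groth.Agent.S2385.result (KRR.pr n S) G hG hfl s i (h s)
  choose U hsU hU using hloc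
  have hz : IsZero ((Coh.Rpush (KRR.pr n S) i).obj G) :=
    Groth.Agent.Helper4.ModLocal.isZero_of_restrict_cover U (fun s => ⟨s, hsU s⟩) _ hU
  exact ((SheafOfModules.toSheaf S.ringCatSheaf).map_isZero hz).of_iso
    ((Groth.Agent.Helper1.RpCmpNat.iso (KRR.pr n S) i).app G).symm

/-- **S16625** -/
theorem main [IsNoetherian S]
    (Q : (CohB1.ProjSpaceOver n S).Modules) (hQ : Coh.IsCoh Q)
    (hflat : FlatMod.IsFlatOver (CohB1.ProjSpaceOver.toBase n S) Q) (m : ℤ)
    (hreg : ∀ (s : S) (i : ℕ), 1 ≤ i →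
      Subsingleton (CohIII.fiberH (KRR.pr n S) (CohB1.tensorMod Q (Twist.twistOver n S (m - i))) s i))
    (d : ℤ) (hd : m ≤ d) :
    FlatMod.IsFinLocFree ((Coh.push (CohB1.ProjSpaceOver.toBase n S)).obj
        (CohB1.tensorMod Q (Twist.twistOver n S d))) ∧
      (∀ i : ℕ, 1 ≤ i → IsZero ((Coh.RpushAb (CohB1.ProjSpaceOver.toBase n S) i).obj
        (Coh.toAb (CohB1.tensorMod Q (Twist.twistOver n S d))))) ∧
      Epi ((Scheme.Modules.pullbackPushforwardAdjunction (CohB1.ProjSpaceOver.toBase n S)).counit.app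
        (CohB1.tensorMod Q (Twist.twistOver n S d))) := by
  haveI := Groth.Agent.Helper4.SchAdj.isGrothendieckAbelian_modules (KRR.PY n S)
  haveI : HasInjectiveResolutions (KRR.PY n S).Modules := inferInstance
  haveI : IsProper (KRR.pr n S) := Groth.Agent.Helper6.HProj.isProper_toBase n S
  have hinv : ∀ e : ℤ, PicF.IsInvertible (Twist.twistOver n S e) :=
    Groth.Agent.Helper1.FlatTw.isInvertible_twistOver n S
  have hcoh : ∀ e : ℤ, Coh.IsCoh (CohB1.tensorMod Q (Twist.twistOver n S e)) := fun e =>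
    Groth.Agent.Lead.Ref1B.isCoh_tensorMod Q _ hQ
      (Groth.Agent.Helper1.SerreFin.isCoh_of_isInvertible _ (hinv e))
  have hfl : ∀ e : ℤ, FlatMod.IsFlatOver (KRR.pr n S) (CohB1.tensorMod Q (Twist.twistOver n S e)) :=
    fun e => (Groth.Agent.Helper1.FlatTw.isFlatOver_tensor_iff (KRR.pr n S) Q _ (hinv e)).2 hflat
  -- `Q(m)` is regular
  have hW : KRR.IsRegSheaf n S (KRR.twF n S m Q) := by
    intro i hi
    obtain ⟨e⟩ := Groth.Agent.Helper1.RegSh.nonempty_twF_twF n S (-(i : ℤ)) m (m - (i : ℤ))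
      (by ring) Q
    have h1 := isZero_Rpush_of_fiberH n S _ (hcoh (m - i)) (hfl (m - i)) i
      (fun s => hreg s i hi)
    exact Groth.Agent.Helper1.RegSh.isZero_Rpush_of_iso n S (twIso n S Q (m - i) ≪≫ e.symm) i h1
  -- `Q(d)` is regular
  obtain ⟨k, hk⟩ : ∃ k : ℕ, d = m + k := ⟨(d - m).toNat, by omega⟩
  have hWd : KRR.IsRegSheaf n S (CohB1.tensorMod Q (Twist.twistOver n S d)) := by
    have h1 := Groth.Agent.Helper4.SN209.isRegSheaf_twF n (KRR.twF n S m Q)
      (Groth.Agent.Helper4.SN209.isQCoh_twF n S Q hQ.1 m) hW k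
    obtain ⟨e⟩ := Groth.Agent.Helper1.RegSh.nonempty_twF_twF n S (k : ℤ) m d (by omega) Q
    exact isRegSheaf_of_iso n S (e ≪≫ (twIso n S Q d).symm) h1
  have h2 : ∀ i : ℕ, 1 ≤ i → IsZero ((Coh.RpushAb (CohB1.ProjSpaceOver.toBase n S) i).obj
      (Coh.toAb (CohB1.tensorMod Q (Twist.twistOver n S d)))) := fun i hi =>
    Groth.Agent.Helper4.SN209.isZero_RpushAb_of_isRegSheaf n _ (hcoh d).1 hWd i hi
  refine ⟨?_, h2, Groth.Agent.Helper4.SN209.epi_counit n _ (hcoh d).1 hWd⟩
  have hR : ∀ i : ℕ, 0 < i → IsZero ((Coh.Rpush (KRR.pr n S) i).obj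
      (CohB1.tensorMod Q (Twist.twistOver n S d))) := fun i hi =>
    Groth.Agent.Helper4.SN210.isZero_Rpush_of_isZero_RpushAb (KRR.pr n S) _ i (h2 i hi)
  obtain ⟨-, h3⟩ := Groth.Agent.S2390.result (KRR.pr n S) _ (hcoh d) (hfl d) hR
  intro y
  obtain ⟨U, hyU, ⟨e⟩⟩ := h3 y
  exact ⟨U, _, hyU, ⟨e⟩⟩

end Groth.Agent.Helper4.SN212
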