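import Mathlib
import Groth.Agent.Helper4.SN213
import Groth.Agent.Helper4.SN212
import Groth.Agent.Helper6.ZCl2
import Groth.Agent.Helper2.KZ1
import Groth.Agent.Helper4.FinLocFree6
import Groth.Agent.Lead.PerfLib

set_option autoImplicit false
set_option linter.unusedSectionVars false
set_option linter.style.haveILetI false

/-!
# SN214: `p_* O = O` for `p : P^r_Y ⟶ Y`, and consequences
-/

namespace Groth.Agent.Helper4.SN214

open CategoryTheory Limits AlgebraicGeometry TopologicalSpace Opposite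

universe u

section pushO

variable (r : ℕ) (Y : Scheme.{u})

/-- the structure map `O_Y ⟶ p_* O_P` -/
noncomputable abbrev toPushO : Coh.structureModule Y ⟶
    (Scheme.Modules.pushforward (KRR.pr r Y)).obj (Coh.structureModule (KRR.PY r Y)) :=
  SheafOfModules.unitToPushforwardObjUnit (KRR.pr r Y).toRingCatSheafHom

instance isIso_toPushO : IsIso (toPushO r Y) := by
  apply Groth.Agent.Helper6.ZCl2.isIso_of_bijective_basis (toPushO r Y) Y.isBasis_affineOpens
  intro V hV
  haveI := Groth.Agent.Helper4.SN213.isIso_app_toBase r (Y := Y) (V := V) hV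
  exact ConcreteCategory.bijective_of_isIso ((CohB1.ProjSpaceOver.toBase r Y).app V)

/-- `p_* O_P ≅ O_Y` -/
noncomputable def pushOIso :
    (Scheme.Modules.pushforward (KRR.pr r Y)).obj (Coh.structureModule (KRR.PY r Y)) ≅
      Coh.structureModule Y :=
  (asIso (toPushO r Y)).symm

/-- `O_P` is regular -/
theorem isRegSheaf_structureModule :
    KRR.IsRegSheaf r Y (Coh.structureModule (KRR.PY r Y)) := by
  intro i hi
  have h0 : ¬ ((i = 0 ∧ 0 ≤ -(i : ℤ)) ∨ (i = r ∧ -(i : ℤ) ≤ -((r : ℤ) + 1))) := by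
    rintro (⟨h, -⟩ | ⟨h1, h2⟩) <;> omega
  have h1 := Groth.Agent.Helper1.PSB.isZero_RpushAb_twistOver r Y i (-(i : ℤ)) h0
  exact Groth.Agent.Helper1.RegSh.isZero_Rpush_of_iso r Y
    (SecTwist.unitorR (Twist.twistOver r Y (-(i : ℤ)))).symm i h1

open ZeroObject in
/-- the class in `K₀` of vector bundles only depends on the isomorphism class -/
theorem cl_eq_of_iso {X : Scheme.{u}} {M N : X.Modules} (e : M ≅ N) : KRR.cl X M = KRR.cl X N := by
  haveI : (KRR.vbP X).IsClosedUnderIsomorphisms :=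
    ⟨fun e h => Groth.Agent.Helper1.FlatTw.isFinLocFree_of_iso e h⟩
  haveI : (KRR.vbP X).ContainsZero :=
    ⟨⟨0, isZero_zero _, Groth.Agent.Lead.PerfLib.isFinLocFree_of_isZero (isZero_zero _)⟩⟩
  by_cases h : KRR.vbP X M
  · have h' : KRR.vbP X N := ObjectProperty.prop_of_iso _ e h
    show KZero.clSub (KRR.vbP X) M = KZero.clSub (KRR.vbP X) N
    rw [Groth.Agent.Helper2.KZ1.clSub_eq _ _ h, Groth.Agent.Helper2.KZ1.clSub_eq _ _ h']
    exact Groth.Agent.Helper2.KZ1.cls_iso _ e h h'
  · have h' : ¬ KRR.vbP X N := fun hN => h (ObjectProperty.prop_of_iso _ e.symm hN)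
    show KZero.clSub (KRR.vbP X) M = KZero.clSub (KRR.vbP X) N
    unfold KZero.clSub
    rw [dif_neg h, dif_neg h']

/-- **S3759** -/
theorem main3759 {KP KY : Type*} [CommRing KP] [CommRing KY]
    (φP : SGA6.Kvb (KRR.PY r Y) →+ KP) (φY : SGA6.Kvb Y →+ KY)
    (h1 : φY (KRR.cl Y (Coh.structureModule Y)) = 1)
    (g : KP →+ KY) (hg : KRR.IsPushPr r Y φP φY g) :
    g (φP (KRR.cl (KRR.PY r Y) (Coh.structureModule (KRR.PY r Y)))) = 1 := by
  rw [hg _ Groth.Agent.Helper4.FinLocFree6.isFinLocFree_unit (isRegSheaf_structureModule r Y),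
    cl_eq_of_iso (pushOIso r Y), h1]

end pushO

end Groth.Agent.Helper4.SN214
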