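import Mathlib
import Groth.Agent.Helper4.SN214
import Groth.Agent.Helper4.SN211
import Groth.Agent.Helper4.PullMate
import Groth.Agent.Helper1.GamEx1
import Groth.Agent.Helper1.DualSh3
import Groth.Agent.Helper4.QcohGlue

set_option autoImplicit false
set_option linter.unusedSectionVars false
set_option linter.style.haveILetI false

/-!
# SN215: the unit `G ⟶ p_* p^* G` is surjective on affine opens, for `p : P^r_Y ⟶ Y`, `G` qcoh
-/

namespace Groth.Agent.Helper4.SN215

open CategoryTheory Limits AlgebraicGeometry TopologicalSpace Opposite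

universe u

section general

variable {X : Scheme.{u}}

/-- the global sections of a coproduct are generated by those of the summands -/
theorem closure_sections_sigma [CompactSpace X] [QuasiSeparatedSpace X] {J : Type u}
    (E : J → X.Modules) :
    AddSubgroup.closure {x : Γ(∐ E, ⊤) | ∃ (j : J) (y : Γ(E j, ⊤)),
      x = (Sigma.ι E j).app ⊤ y} = ⊤ := by
  have h1 := Groth.Agent.Helper1.DualSh.closure_eq_top (X := X) 0 E
  let e := Sheaf.H.equiv₀ (Coh.toAb (∐ E)) (isTerminalTop (α := X.Opens))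
  rw [eq_top_iff]
  intro x _
  have hx : e.symm x ∈ (⊤ : AddSubgroup (Coh.HH X (∐ E) 0)) := trivial
  rw [← h1] at hx
  have key : ∀ z : Coh.HH X (∐ E) 0,
      z ∈ AddSubgroup.closure {x : Coh.HH X (∐ E) 0 | ∃ (j : J) (y : Coh.HH X (E j) 0),
        x = Sheaf.H.map ((SheafOfModules.toSheaf X.ringCatSheaf).map (Sigma.ι E j)) 0 y} →
      e z ∈ AddSubgroup.closure {x : Γ(∐ E, ⊤) | ∃ (j : J) (y : Γ(E j, ⊤)),
        x = (Sigma.ι E j).app ⊤ y} := by
    intro z hz
    induction hz using AddSubgroup.closure_induction with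
    | mem z hz =>
      obtain ⟨j, y, rfl⟩ := hz
      apply AddSubgroup.subset_closure
      refine ⟨j, Sheaf.H.equiv₀ (Coh.toAb (E j)) (isTerminalTop (α := X.Opens)) y, ?_⟩
      exact (Sheaf.H.equiv₀_naturality (isTerminalTop (α := X.Opens))
        ((SheafOfModules.toSheaf X.ringCatSheaf).map (Sigma.ι E j)) y).symm
    | zero => rw [map_zero]; exact AddSubgroup.zero_mem _
    | add a b _ _ ha hb => rw [map_add]; exact AddSubgroup.add_mem _ ha hb
    | neg a _ ha => rw [map_neg]; exact AddSubgroup.neg_mem _ ha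
  have := key _ hx
  rwa [AddEquiv.apply_symm_apply] at this

/-- restriction between equal opens is bijective -/
theorem bijective_map_of_eq (M : X.Modules) {U U' : X.Opens} (h : U' = U) :
    Function.Bijective (M.presheaf.map (homOfLE (le_of_eq h)).op) := by
  subst h
  have : (homOfLE (le_of_eq (rfl : U' = U'))).op = 𝟙 (op U') := rfl
  rw [this, CategoryTheory.Functor.map_id]
  exact Function.bijective_id

end general

section unit

variable {X S : Scheme.{u}} (q : X ⟶ S)

/-- the unit of `q^* ⊣ q_*` is surjective on global sections -/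
def UnitSurj (N : S.Modules) : Prop :=
  Function.Surjective (((Scheme.Modules.pullbackPushforwardAdjunction q).unit.app N).app ⊤)

theorem unit_naturality_app {N N' : S.Modules} (φ : N ⟶ N') (U : S.Opens) (n : Γ(N, U)) :
    ((Scheme.Modules.pullbackPushforwardAdjunction q).unit.app N').app U (φ.app U n) =
      ((Scheme.Modules.pullback q).map φ).app (q ⁻¹ᵁ U)
        (((Scheme.Modules.pullbackPushforwardAdjunction q).unit.app N).app U n) :=
  congrArg (fun ψ => (Scheme.Modules.Hom.app ψ U) n)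
    ((Scheme.Modules.pullbackPushforwardAdjunction q).unit.naturality φ)

theorem unitSurj_of_epi {N' N : S.Modules} (π : N' ⟶ N) (h' : UnitSurj q N')
    (hπ : Function.Surjective (((Scheme.Modules.pullback q).map π).app ⊤)) : UnitSurj q N := by
  intro m
  obtain ⟨m', rfl⟩ := hπ m
  obtain ⟨n', rfl⟩ := h' m'
  exact ⟨π.app ⊤ n', unit_naturality_app q π ⊤ n'⟩

theorem unitSurj_sigma [CompactSpace X] [QuasiSeparatedSpace X] {J : Type u}
    (E : J → S.Modules) (h : ∀ j, UnitSurj q (E j)) : UnitSurj q (∐ E) := by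
  haveI : PreservesColimitsOfSize.{u, u} (Scheme.Modules.pullback q) :=
    (Scheme.Modules.pullbackPushforwardAdjunction q).leftAdjoint_preservesColimits
  let c := PreservesCoproduct.iso (Scheme.Modules.pullback q) E
  -- the range of the unit as a subgroup
  let R : AddSubgroup Γ((Scheme.Modules.pullback q).obj (∐ E), ⊤) :=
    (AddMonoidHom.range
      (((Scheme.Modules.pullbackPushforwardAdjunction q).unit.app (∐ E)).app ⊤).hom)
  have key : ∀ z : Γ(∐ fun j => (Scheme.Modules.pullback q).obj (E j), ⊤),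
      z ∈ AddSubgroup.closure {x : Γ(∐ fun j => (Scheme.Modules.pullback q).obj (E j), ⊤) |
        ∃ (j : J) (y : Γ((Scheme.Modules.pullback q).obj (E j), ⊤)),
          x = (Sigma.ι (fun j => (Scheme.Modules.pullback q).obj (E j)) j).app ⊤ y} →
      c.inv.app ⊤ z ∈ R := by
    intro z hz
    induction hz using AddSubgroup.closure_induction with
    | mem z hz =>
      obtain ⟨j, y, rfl⟩ := hz
      obtain ⟨n, rfl⟩ := h j y
      refine ⟨(Sigma.ι E j).app ⊤ n, ?_⟩
      refine (unit_naturality_app q (Sigma.ι E j) ⊤ n).trans ?_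
      have h1 : Sigma.ι (fun j => (Scheme.Modules.pullback q).obj (E j)) j ≫ c.inv =
          (Scheme.Modules.pullback q).map (Sigma.ι E j) :=
        ι_comp_sigmaComparison (Scheme.Modules.pullback q) E j
      rw [← h1]
      rfl
    | zero => rw [map_zero]; exact AddSubgroup.zero_mem _
    | add a b _ _ ha hb => rw [map_add]; exact AddSubgroup.add_mem _ ha hb
    | neg a _ ha => rw [map_neg]; exact AddSubgroup.neg_mem _ ha
  intro m
  have hm : c.hom.app ⊤ m ∈ (⊤ : AddSubgroup _) := trivial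
  rw [← closure_sections_sigma (fun j => (Scheme.Modules.pullback q).obj (E j))] at hm
  have h2 := key _ hm
  have h3 : c.inv.app ⊤ (c.hom.app ⊤ m) = m :=
    Groth.Agent.Helper4.TensorGen.iso_inv_hom_app c _ _
  rw [h3] at h2
  obtain ⟨n, hn⟩ := h2
  exact ⟨n, hn⟩

open Groth.Agent.Helper4.PullUnit in
theorem unitSurj_structure (hq : Function.Surjective q.appTop) :
    UnitSurj q (Coh.structureModule S) := by
  haveI : (SheafOfModules.pushforward.{u} q.toRingCatSheafHom).IsRightAdjoint :=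
    (inferInstance : (Scheme.Modules.pushforward q).IsRightAdjoint)
  have h1 : (Scheme.Modules.pullbackPushforwardAdjunction q).unit.app (Coh.structureModule S) ≫
      (Scheme.Modules.pushforward q).map (pullbackUnitIso q).hom =
      SheafOfModules.unitToPushforwardObjUnit q.toRingCatSheafHom :=
    ((Scheme.Modules.pullbackPushforwardAdjunction q).homEquiv_unit _ _ _).symm.trans
      (SheafOfModules.pullbackPushforwardAdjunction_homEquiv_pullbackObjUnitToUnit _)
  intro m
  obtain ⟨a, ha⟩ := hq ((pullbackUnitIso q).hom.app ⊤ m)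
  refine ⟨a, ?_⟩
  have h2 : (pullbackUnitIso q).hom.app ⊤
      (((Scheme.Modules.pullbackPushforwardAdjunction q).unit.app (Coh.structureModule S)).app ⊤ a) =
      q.appTop a :=
    congrArg (fun φ => (Scheme.Modules.Hom.app φ ⊤) a) h1
  have h3 := congrArg ((pullbackUnitIso q).inv.app ⊤) (h2.trans ha)
  rwa [Groth.Agent.Helper4.TensorGen.iso_inv_hom_app, Groth.Agent.Helper4.TensorGen.iso_inv_hom_app]
    at h3

end unit

section chart

open Groth.Agent.Helper4.SN208 Groth.Agent.Helper4.SN211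

variable (r : ℕ) {Y : Scheme.{u}} {V : Y.Opens} (hV : IsAffineOpen V)

/-- `O(0)| ≅ O` on a chart -/
theorem nonempty_LV_zero : Nonempty (LV r V 0 ≅ Coh.structureModule _) := by
  obtain ⟨e⟩ := Groth.Agent.Helper1.RegSh.nonempty_twistOver_zero r Y
  exact ⟨(Scheme.Modules.restrictFunctor (XV r V).ι).mapIso e ≪≫
    Scheme.Modules.restrictUnitIso (XV r V).ι⟩

include hV in
/-- `H^1(p⁻¹V, q^* N) = 0` -/
theorem subsingleton_HH_pullback_one (N : (V : Scheme.{u}).Modules) (hN : Coh.IsQCoh N) :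
    Subsingleton (Coh.HH _ ((Scheme.Modules.pullback (qV r V)).obj N) 1) := by
  have h := subsingleton_HH_Φ r hV r 1 le_rfl (by omega) N hN 0 (by omega)
  obtain ⟨e0⟩ := nonempty_LV_zero r (V := V)
  exact Groth.Agent.Helper1.SerreCrit.subsingleton_HH_of_iso
    (PicGrp.tensorModIso (Iso.refl ((Scheme.Modules.pullback (qV r V)).obj N)) e0 ≪≫
      SecTwist.unitorR _) 1 h

include hV in
/-- **the unit is surjective on global sections over a chart** -/
theorem unitSurj_chart (N : (V : Scheme.{u}).Modules) (hN : Coh.IsQCoh N) :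
    UnitSurj (qV r V) N := by
  haveI : IsAffine (V : Scheme.{u}) := hV
  haveI : N.IsQuasicoherent := hN
  haveI := compactSpace_XV r hV
  haveI := quasiSeparatedSpace_XV r hV
  obtain ⟨I, π, hπ⟩ := Groth.Agent.Helper4.QuasiAffineGG.isGloballyGenerated_of_isOpenImmersion_Spec
    (V : Scheme.{u}).isoSpec.hom N
  haveI : Epi π := hπ
  haveI : (SheafOfModules.free I : (V : Scheme.{u}).Modules).IsQuasicoherent := inferInstance
  have hK : Coh.IsQCoh (kernel π) := Groth.Agent.Helper4.QcohLimits.isQuasicoherent_kernel π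
  have hq : Function.Surjective (qV r V).appTop := by
    haveI := Groth.Agent.Helper4.SN213.isIso_appTop_restrict r hV
    exact (ConcreteCategory.bijective_of_isIso (qV r V).appTop).2
  have hfree : UnitSurj (qV r V) (SheafOfModules.free I : (V : Scheme.{u}).Modules) :=
    unitSurj_sigma (qV r V) _ (fun _ => unitSurj_structure (qV r V) hq)
  apply unitSurj_of_epi (qV r V) π hfree
  haveI : PreservesFiniteLimits (Scheme.Modules.pullback (qV r V)) :=
    Groth.Agent.Helper3.FlatPullEx.preservesFiniteLimits_pullback (qV r V)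
  haveI : Epi ((Scheme.Modules.pullback (qV r V)).map π) := by
    haveI : (Scheme.Modules.pullback (qV r V)).PreservesEpimorphisms :=
      Functor.preservesEpimorphisms_of_adjunction
        (Scheme.Modules.pullbackPushforwardAdjunction (qV r V))
    exact @Functor.map_epi _ _ _ _ (Scheme.Modules.pullback (qV r V)) _ _ _ π hπ
  letI : ((XV r V : (CohB1.ProjSpaceOver r Y).Opens) : Scheme.{u}).Over
      (Spec (CommRingCat.of Γ(Y, V))) := ⟨qV r V ≫ hV.isoSpec.hom⟩
  apply Groth.Agent.Helper1.GamEx.surjective_app_top_of_epi Γ(Y, V)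
  exact Groth.Agent.Helper1.SerreCrit.subsingleton_HH_of_iso
    (PreservesKernel.iso (Scheme.Modules.pullback (qV r V)) π) 1
    (subsingleton_HH_pullback_one r hV (kernel π) hK)

end chart

section global

open Groth.Agent.Helper4.SN208 Groth.Agent.Helper4.SN211 Groth.Agent.Helper4.PullMate

theorem surjective_unit_app_of_eq_top {X S : Scheme.{u}} (q : X ⟶ S) (N : S.Modules)
    (h : UnitSurj q N) (U : S.Opens) (hU : U = ⊤) :
    Function.Surjective (((Scheme.Modules.pullbackPushforwardAdjunction q).unit.app N).app U) := by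
  subst hU
  exact h

variable (r : ℕ) (Y : Scheme.{u})

/-- **the unit `G ⟶ p_* p^* G` is surjective on the sections over affine opens** -/
theorem surjective_unit_app (G : Y.Modules) (hG : Coh.IsQCoh G) (V : Y.Opens)
    (hV : IsAffineOpen V) :
    Function.Surjective
      (((Scheme.Modules.pullbackPushforwardAdjunction (KRR.pr r Y)).unit.app G).app V) := by
  intro t
  haveI : G.IsQuasicoherent := hG
  have hGV : Coh.IsQCoh (G.restrict V.ι) := inferInstanceAs (G.restrict V.ι).IsQuasicoherent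
  have e1 : V.ι ⁻¹ᵁ V = ⊤ := Scheme.Opens.ι_preimage_self V
  have e2 : V.ι ''ᵁ (V.ι ⁻¹ᵁ V) = V := by rw [e1]; simp
  have e3 : (KRR.pr r Y ⁻¹ᵁ V).ι ''ᵁ ((KRR.pr r Y ∣_ V) ⁻¹ᵁ (V.ι ⁻¹ᵁ V)) = KRR.pr r Y ⁻¹ᵁ V := by
    rw [e1]; simp
  have hle := image_le (KRR.pr r Y ⁻¹ᵁ V).ι V.ι (KRR.pr r Y) (KRR.pr r Y ∣_ V)
    (morphismRestrict_ι (KRR.pr r Y) V).symm V
  have hb3 := bijective_map_of_eq ((Scheme.Modules.pullback (KRR.pr r Y)).obj G) e3
  have hb2 := bijective_map_of_eq G e2
  set t' := ((Scheme.Modules.pullback (KRR.pr r Y)).obj G).presheaf.map (homOfLE hle).op t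
    with ht'
  set β₀ := β (KRR.pr r Y ⁻¹ᵁ V).ι V.ι (KRR.pr r Y) (KRR.pr r Y ∣_ V)
    (morphismRestrict_ι (KRR.pr r Y) V).symm with hβ₀
  set s := (β₀.inv.app G).app ((KRR.pr r Y ∣_ V) ⁻¹ᵁ (V.ι ⁻¹ᵁ V)) t' with hs
  obtain ⟨n, hn⟩ := surjective_unit_app_of_eq_top (qV r V) _
    (unitSurj_chart r hV (G.restrict V.ι) hGV) (V.ι ⁻¹ᵁ V) e1 s
  obtain ⟨m, hm⟩ := hb2.2 n
  refine ⟨m, ?_⟩
  apply hb3.1
  have hc := compat (KRR.pr r Y ⁻¹ᵁ V).ι V.ι (KRR.pr r Y) (KRR.pr r Y ∣_ V)
    (morphismRestrict_ι (KRR.pr r Y) V).symm G V m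
  refine hc.symm.trans ?_
  have h4 : G.presheaf.map (homOfLE (V.ι.image_preimage_le V)).op m = n := hm
  rw [h4]
  refine (congrArg _ hn).trans ?_
  exact Groth.Agent.Helper4.TensorGen.iso_hom_inv_app (β₀.app G) _ t'

/-- a module whose sections over a basis vanish is zero -/
theorem isZero_of_subsingleton_basis {X : Scheme.{u}} (M : X.Modules) {B : Set X.Opens}
    (hB : Opens.IsBasis B) (h : ∀ V ∈ B, Subsingleton Γ(M, V)) : IsZero M := by
  haveI : Mono (0 : M ⟶ M) :=
    Groth.Agent.Helper6.ZCl2.mono_of_injective_basis (0 : M ⟶ M) hB (fun V hV a b _ => by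
      haveI := h V hV
      exact Subsingleton.elim a b)
  exact IsZero.of_mono_zero M M

theorem isQCoh_push (W : (KRR.PY r Y).Modules) (hW : Coh.IsQCoh W) :
    Coh.IsQCoh ((Scheme.Modules.pushforward (KRR.pr r Y)).obj W) := by
  haveI : W.IsQuasicoherent := hW
  haveI : IsProper (KRR.pr r Y) := Groth.Agent.Helper6.HProj.isProper_toBase r Y
  exact Groth.Agent.Helper4.QcohGlue.isQuasicoherent_pushforward (KRR.pr r Y) W

/-- **`p_*` of the kernel of the counit `p^* p_* W ⟶ W` vanishes** -/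
theorem isZero_push_kernel_counit (W : (KRR.PY r Y).Modules) (hW : Coh.IsQCoh W) :
    IsZero ((Scheme.Modules.pushforward (KRR.pr r Y)).obj
      (kernel ((Scheme.Modules.pullbackPushforwardAdjunction (KRR.pr r Y)).counit.app W))) := by
  apply isZero_of_subsingleton_basis _ Y.isBasis_affineOpens
  intro V hV
  set adj := Scheme.Modules.pullbackPushforwardAdjunction (KRR.pr r Y) with hadj
  set ε := adj.counit.app W with hε
  have hinj : Function.Injective ((kernel.ι ε).app (KRR.pr r Y ⁻¹ᵁ V)) :=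
    Groth.Agent.Helper6.ZCl2.injective_app_of_mono (kernel.ι ε) _
  have key : ∀ x : Γ(kernel ε, KRR.pr r Y ⁻¹ᵁ V), (kernel.ι ε).app (KRR.pr r Y ⁻¹ᵁ V) x = 0 := by
    intro x
    obtain ⟨t, ht⟩ := surjective_unit_app r Y _ (isQCoh_push r Y W hW) V hV
      ((kernel.ι ε).app (KRR.pr r Y ⁻¹ᵁ V) x)
    have h1 : ε.app (KRR.pr r Y ⁻¹ᵁ V) ((kernel.ι ε).app (KRR.pr r Y ⁻¹ᵁ V) x) = 0 :=
      (congrArg (fun φ => (Scheme.Modules.Hom.app φ (KRR.pr r Y ⁻¹ᵁ V)) x)
        (kernel.condition ε)).trans rfl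
    have h2 : ε.app (KRR.pr r Y ⁻¹ᵁ V) ((adj.unit.app _).app V t) = t :=
      congrArg (fun φ => (Scheme.Modules.Hom.app φ V) t) (adj.right_triangle_components W)
    rw [← ht] at h1
    rw [h2] at h1
    rw [← ht, h1]
    exact map_zero _
  exact ⟨fun a b => hinj ((key a).trans (key b).symm)⟩

end global

section bridge

/-- `R^0 f_*(M_ab) = 0` when `f_* M = 0` -/
theorem isZero_RpushAb_zero {X Y : Scheme.{u}} (f : X ⟶ Y) (M : X.Modules)
    (h : IsZero ((Scheme.Modules.pushforward f).obj M)) :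
    IsZero ((Coh.RpushAb f 0).obj (Coh.toAb M)) := by
  haveI := Groth.Agent.Helper4.SchAdj.isGrothendieckAbelian_modules X
  haveI : HasInjectiveResolutions X.Modules := inferInstance
  haveI : PreservesLimitsOfSize.{u, u} (Scheme.Modules.pushforward f) :=
    (Scheme.Modules.pullbackPushforwardAdjunction f).rightAdjoint_preservesLimits
  haveI : PreservesFiniteLimits (Scheme.Modules.pushforward f) :=
    PreservesLimitsOfSize.preservesFiniteLimits _
  have e1 := (Groth.Agent.Helper1.RpCmpNat.iso f 0).app M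
  have e2 : (Coh.Rpush f 0).obj M ≅ (Scheme.Modules.pushforward f).obj M :=
    (Functor.rightDerivedZeroIsoSelf (Scheme.Modules.pushforward f)).app M
  have h1 : IsZero ((Coh.Rpush f 0).obj M) := h.of_iso e2
  have h2 : IsZero ((SheafOfModules.toSheaf Y.ringCatSheaf).obj ((Coh.Rpush f 0).obj M)) :=
    Functor.map_isZero (SheafOfModules.toSheaf Y.ringCatSheaf) h1
  exact h2.of_iso e1.symm

end bridge

section A0

open Groth.Agent.Helper4.SN208 Groth.Agent.Helper4.SN211

variable (r : ℕ) {Y : Scheme.{u}} {V : Y.Opens} (hV : IsAffineOpen V)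

include hV in
/-- `H^0(p⁻¹V, O(d)) = 0` for `-r ≤ d < 0` -/
theorem subsingleton_HH_LV_zero (d : ℤ) (hd : -(r : ℤ) ≤ d) (hd' : d < 0) :
    Subsingleton (Coh.HH _ (LV r V d) 0) := by
  have h0 : ¬ (((0 : ℕ) = 0 ∧ 0 ≤ d) ∨ ((0 : ℕ) = r ∧ d ≤ -((r : ℤ) + 1))) := by
    rintro (⟨-, h⟩ | ⟨h, -⟩)
    · omega
    · subst h; simp at hd; omega
  have h1 := Groth.Agent.Helper1.PSB.subsingleton_HU_of_affine r hV d 0
    (Groth.Agent.Helper1.PSB.subsingleton_HH r _ d 0 h0)
  obtain ⟨e'⟩ := Groth.Agent.Helper1.HHonHU.nonempty_HHon_HU (CohB1.ProjSpaceOver r Y)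
    (Twist.twistOver r Y d) (XV r V) 0
  exact e'.toEquiv.subsingleton

include hV in
/-- `H^0(p⁻¹V, q^* N ⊗ O(d)) = 0` for `-r ≤ d < 0` -/
theorem subsingleton_HH_Φ_zero (N : (V : Scheme.{u}).Modules) (hN : Coh.IsQCoh N) (d : ℤ)
    (hd : -(r : ℤ) ≤ d) (hd' : d < 0) : Subsingleton (Coh.HH _ ((Φ r V d).obj N) 0) := by
  haveI : IsAffine (V : Scheme.{u}) := hV
  haveI : N.IsQuasicoherent := hN
  haveI := compactSpace_XV r hV
  haveI := quasiSeparatedSpace_XV r hV
  obtain ⟨I, π, hπ⟩ := Groth.Agent.Helper4.QuasiAffineGG.isGloballyGenerated_of_isOpenImmersion_Spec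
    (V : Scheme.{u}).isoSpec.hom N
  haveI : (SheafOfModules.free I : (V : Scheme.{u}).Modules).IsQuasicoherent := inferInstance
  have hK : Coh.IsQCoh (kernel π) := Groth.Agent.Helper4.QcohLimits.isQuasicoherent_kernel π
  let S : ShortComplex (V : Scheme.{u}).Modules := ShortComplex.mk (kernel.ι π) π (kernel.condition π)
  have hS : S.ShortExact :=
    { exact := ShortComplex.exact_of_f_is_kernel _ (kernelIsKernel π)
      mono_f := inferInstanceAs (Mono (kernel.ι π))
      epi_g := hπ }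
  have hS' := shortExact_map_Φ r d hS
  have h2 : Subsingleton (Coh.HH _ ((Φ r V d).obj (SheafOfModules.free I)) 0) := by
    have h3 : Subsingleton (Coh.HH _ (∐ fun _ : I => LV r V d) 0) :=
      subsingleton_HH_sigma 0 _ (fun _ => subsingleton_HH_LV_zero r hV d hd hd')
    exact Groth.Agent.Helper1.SerreCrit.subsingleton_HH_of_iso (ΦFreeIso r d I).symm 0 h3
  have h1 : Subsingleton (Coh.HH _ ((Φ r V d).obj (kernel π)) (0 + 1)) :=
    subsingleton_HH_Φ r hV r 1 le_rfl (by omega) (kernel π) hK d hd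
  exact Groth.Agent.Lead.QProjVan.subsingleton_HH_right (S.map (Φ r V d)) hS' 0 h2 h1

/-- sections over an open, from `H^0` of the restriction -/
theorem subsingleton_sections_of_HHon {X : Scheme.{u}} (M : X.Modules) (U : X.Opens)
    (h : Subsingleton (Coh.HHon X M U 0)) : Subsingleton Γ(M, U) := by
  let e := Sheaf.H.equiv₀ (Coh.toAb (M.restrict U.ι)) (isTerminalTop (α := (U : Scheme.{u}).Opens))
  have h1 : Subsingleton Γ(M.restrict U.ι, ⊤) := e.symm.toEquiv.subsingleton
  have h2 : Subsingleton (M.presheaf.obj (op (U.ι ''ᵁ ⊤))) := h1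
  have e1 : U.ι ''ᵁ ⊤ = U := by simp
  have hb := bijective_map_of_eq M e1
  exact @Function.Injective.subsingleton _ _ _ hb.1 h2

variable (Y) in
/-- **`p_*((p^* G)(d)) = 0` for `-r ≤ d < 0`** -/
theorem isZero_push_twF_pullback (G : Y.Modules) (hG : Coh.IsQCoh G) (d : ℤ)
    (hd : -(r : ℤ) ≤ d) (hd' : d < 0) :
    IsZero ((Scheme.Modules.pushforward (KRR.pr r Y)).obj
      (KRR.twF r Y d ((Scheme.Modules.pullback (KRR.pr r Y)).obj G))) := by
  apply isZero_of_subsingleton_basis _ Y.isBasis_affineOpens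
  intro V hV
  haveI : G.IsQuasicoherent := hG
  have hGV : Coh.IsQCoh (G.restrict V.ι) := inferInstanceAs (G.restrict V.ι).IsQuasicoherent
  have h := subsingleton_HH_Φ_zero r hV (G.restrict V.ι) hGV d hd hd'
  exact subsingleton_sections_of_HHon _ (XV r V)
    (Groth.Agent.Helper1.SerreCrit.subsingleton_HH_of_iso (restrictTwFPullIso r Y G d).symm 0 h)

end A0

end Groth.Agent.Helper4.SN215
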