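import Mathlib
import Groth.Agent.Helper4.SN215
import Groth.Agent.Helper9.ResThmCx

set_option autoImplicit false
set_option linter.unusedSectionVars false
set_option linter.style.haveILetI false

/-!
# SN216: Quillen's resolution of a regular quasi-coherent module on `P^n_T`
-/

namespace Groth.Agent.Helper4.SN216

open CategoryTheory Limits AlgebraicGeometry TopologicalSpace Opposite
open Groth.Agent.Helper1.RegSh

universe u

section bridge

/-- `f_* M = 0` when `R^0 f_*(M_ab) = 0` -/
theorem isZero_push_of_isZero_RpushAb_zero {X Y : Scheme.{u}} (f : X ⟶ Y) (M : X.Modules)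
    (h : IsZero ((Coh.RpushAb f 0).obj (Coh.toAb M))) :
    IsZero ((Scheme.Modules.pushforward f).obj M) := by
  haveI := Groth.Agent.Helper4.SchAdj.isGrothendieckAbelian_modules X
  haveI : HasInjectiveResolutions X.Modules := inferInstance
  haveI : PreservesLimitsOfSize.{u, u} (Scheme.Modules.pushforward f) :=
    (Scheme.Modules.pullbackPushforwardAdjunction f).rightAdjoint_preservesLimits
  haveI : PreservesFiniteLimits (Scheme.Modules.pushforward f) :=
    PreservesLimitsOfSize.preservesFiniteLimits _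
  have e1 := (Groth.Agent.Helper1.RpCmpNat.iso f 0).app M
  have e2 : (Coh.Rpush f 0).obj M ≅ (Scheme.Modules.pushforward f).obj M :=
    (Functor.rightDerivedZeroIsoSelf (Scheme.Modules.pushforward f)).app M
  have h1 : IsZero ((Coh.Rpush f 0).obj M) :=
    Groth.Agent.Helper4.SN209.isZero_of_isZero_toAb _ (h.of_iso e1)
  exact h1.of_iso e2.symm

end bridge

variable (n : ℕ) (T : Scheme.{u})

section vanishing

/-- all `R^q p_*(F(d))`, `q ≥ 0`, vanish -/
def AllZ (d : ℤ) (F : (KRR.PY n T).Modules) : Prop :=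
  ∀ q : ℕ, IsZero ((Coh.RpushAb (KRR.pr n T) q).obj (Coh.toAb (KRR.twF n T d F)))

/-- functoriality of the twist -/
noncomputable def twFIso (d : ℤ) {F G : (KRR.PY n T).Modules} (e : F ≅ G) :
    KRR.twF n T d F ≅ KRR.twF n T d G :=
  ((DCoh.tensorBi (X := KRR.PY n T)).obj (Twist.twistOver n T d)).mapIso e

theorem allZ_of_iso {F G : (KRR.PY n T).Modules} (e : F ≅ G) (d : ℤ) (h : AllZ n T d F) :
    AllZ n T d G :=
  fun q => isZero_Rpush_of_iso n T (twFIso n T d e) q (h q)

theorem allZ_shift (a b c : ℤ) (hc : c = a + b) (F : (KRR.PY n T).Modules)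
    (h : AllZ n T c F) : AllZ n T a (KRR.twF n T b F) := by
  intro q
  obtain ⟨e⟩ := nonempty_twF_twF n T a b c hc F
  exact isZero_Rpush_of_iso n T e.symm q (h q)

theorem allZ_pullback (G : T.Modules) (hG : Coh.IsQCoh G) (d : ℤ) (hd : -(n : ℤ) ≤ d)
    (hd' : d < 0) : AllZ n T d ((Scheme.Modules.pullback (KRR.pr n T)).obj G) := by
  intro q
  rcases Nat.eq_zero_or_pos q with rfl | hq
  · exact Groth.Agent.Helper4.SN215.isZero_RpushAb_zero _ _
      (Groth.Agent.Helper4.SN215.isZero_push_twF_pullback n T G hG d hd hd')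
  · exact Groth.Agent.Helper4.SN211.isZero_RpushAb_twF_pullback n T G hG q hq d hd

theorem allZ_X₁ {S : ShortComplex (KRR.PY n T).Modules} (hS : S.ShortExact) (d : ℤ)
    (h₂ : AllZ n T d S.X₂) (h₃ : AllZ n T d S.X₃) : AllZ n T d S.X₁ := by
  intro q
  rcases Nat.eq_zero_or_pos q with rfl | hq
  · have z₂ := isZero_push_of_isZero_RpushAb_zero (KRR.pr n T) _ (h₂ 0)
    have hL : PicF.IsInvertible (Twist.twistOver n T d) :=
      Groth.Agent.Helper1.FlatTw.isInvertible_twistOver n T d
    have h1 := shortExact_map_tensorBi hS _ hL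
    haveI : Mono (((DCoh.tensorBi (X := KRR.PY n T)).obj (Twist.twistOver n T d)).map S.f) :=
      h1.mono_f
    haveI : (Scheme.Modules.pushforward (KRR.pr n T)).PreservesMonomorphisms :=
      Functor.preservesMonomorphisms_of_adjunction
        (Scheme.Modules.pullbackPushforwardAdjunction (KRR.pr n T))
    have hm : Mono ((Scheme.Modules.pushforward (KRR.pr n T)).map
        (((DCoh.tensorBi (X := KRR.PY n T)).obj (Twist.twistOver n T d)).map S.f)) :=
      Functor.map_mono _ _
    apply Groth.Agent.Helper4.SN215.isZero_RpushAb_zero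
    exact @IsZero.of_mono _ _ _ _ _ ((Scheme.Modules.pushforward (KRR.pr n T)).map
        (((DCoh.tensorBi (X := KRR.PY n T)).obj (Twist.twistOver n T d)).map S.f)) hm z₂
  · obtain ⟨q', rfl⟩ : ∃ q', q = q' + 1 := ⟨q - 1, by omega⟩
    obtain ⟨δ, w₁, w₂, hex₁, hex₂⟩ := hasLES_RT n T hS d q'
    have z₃ : IsZero ((RT n T d q').obj S.X₃) := h₃ q'
    have z₂ : IsZero ((RT n T d (q' + 1)).obj S.X₂) := h₂ (q' + 1)
    exact hex₂.isZero_of_both_zeros (z₃.eq_of_src _ _) (z₂.eq_of_tgt _ _)

end vanishing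

section recursion

/-- the counit `p^* p_* W ⟶ W` -/
noncomputable abbrev εW (W : (KRR.PY n T).Modules) :
    (Scheme.Modules.pullback (KRR.pr n T)).obj ((Scheme.Modules.pushforward (KRR.pr n T)).obj W) ⟶ W :=
  (Scheme.Modules.pullbackPushforwardAdjunction (KRR.pr n T)).counit.app W

/-- the next module in Quillen's recursion: `Z(1)` with `Z = ker(p^* p_* W ⟶ W)` -/
noncomputable def nextW (W : (KRR.PY n T).Modules) : (KRR.PY n T).Modules :=
  KRR.twF n T 1 (kernel (εW n T W))

theorem isQCoh_pullPush (W : (KRR.PY n T).Modules) (hW : Coh.IsQCoh W) :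
    Coh.IsQCoh ((Scheme.Modules.pullback (KRR.pr n T)).obj
      ((Scheme.Modules.pushforward (KRR.pr n T)).obj W)) :=
  Groth.Agent.Helper4.SN211.isQCoh_pullback n T _ (Groth.Agent.Helper4.SN215.isQCoh_push n T W hW)

theorem isQCoh_kernel (W : (KRR.PY n T).Modules) (hW : Coh.IsQCoh W) :
    Coh.IsQCoh (kernel (εW n T W)) := by
  haveI : W.IsQuasicoherent := hW
  haveI : ((Scheme.Modules.pullback (KRR.pr n T)).obj
      ((Scheme.Modules.pushforward (KRR.pr n T)).obj W)).IsQuasicoherent := isQCoh_pullPush n T W hW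
  exact Groth.Agent.Helper4.QcohLimits.isQuasicoherent_kernel (εW n T W)

theorem isQCoh_nextW (W : (KRR.PY n T).Modules) (hW : Coh.IsQCoh W) :
    Coh.IsQCoh (nextW n T W) :=
  Groth.Agent.Helper4.SN209.isQCoh_twF n T _ (isQCoh_kernel n T W hW) 1

theorem isRegSheaf_nextW (W : (KRR.PY n T).Modules) (hW : Coh.IsQCoh W)
    (hreg : KRR.IsRegSheaf n T W) : KRR.IsRegSheaf n T (nextW n T W) :=
  Groth.Agent.Helper4.SN211.isRegSheaf_twF_one_kernel_counit n T W hW hreg

/-- the short exact sequence `0 ⟶ Z ⟶ p^* p_* W ⟶ W ⟶ 0` -/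
theorem shortExact_counit (W : (KRR.PY n T).Modules) (hW : Coh.IsQCoh W)
    (hreg : KRR.IsRegSheaf n T W) :
    (ShortComplex.mk (kernel.ι (εW n T W)) (εW n T W) (kernel.condition _)).ShortExact :=
  { exact := ShortComplex.exact_of_f_is_kernel _ (kernelIsKernel (εW n T W))
    mono_f := inferInstanceAs (Mono (kernel.ι (εW n T W)))
    epi_g := Groth.Agent.Helper4.SN209.epi_counit n W hW hreg }

/-- `F(0) ≅ F` -/
theorem nonempty_twF_zero (F : (KRR.PY n T).Modules) : Nonempty (KRR.twF n T 0 F ≅ F) := by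
  obtain ⟨e₀⟩ := nonempty_twistOver_zero n T
  exact ⟨PicGrp.tensorModIso e₀ (Iso.refl F) ≪≫ Groth.Agent.Helper4.AmpleBasis.unitorL F⟩

theorem allZ_nextW (W : (KRR.PY n T).Modules) (hW : Coh.IsQCoh W)
    (hreg : KRR.IsRegSheaf n T W) : AllZ n T (-1) (nextW n T W) := by
  intro q
  rcases Nat.eq_zero_or_pos q with rfl | hq
  · apply Groth.Agent.Helper4.SN215.isZero_RpushAb_zero
    obtain ⟨e⟩ := nonempty_twF_twF n T (-1) 1 0 (by ring) (kernel (εW n T W))
    obtain ⟨e'⟩ := nonempty_twF_zero n T (kernel (εW n T W))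
    exact (Groth.Agent.Helper4.SN215.isZero_push_kernel_counit n T W hW).of_iso
      ((Scheme.Modules.pushforward (KRR.pr n T)).mapIso (e ≪≫ e'))
  · exact Groth.Agent.Helper4.SN209.isZero_RpushAb_twF n _ (isQCoh_nextW n T W hW)
      (isRegSheaf_nextW n T W hW hreg) q hq (-1) (by omega)

theorem allZ_step (W : (KRR.PY n T).Modules) (hW : Coh.IsQCoh W)
    (hreg : KRR.IsRegSheaf n T W) (j : ℕ) (hj : 1 ≤ j) (hjn : j ≤ n)
    (h : AllZ n T (-(j : ℤ)) W) : AllZ n T (-((j + 1 : ℕ) : ℤ)) (nextW n T W) := by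
  have hS := shortExact_counit n T W hW hreg
  have h₂ : AllZ n T (-(j : ℤ))
      ((Scheme.Modules.pullback (KRR.pr n T)).obj ((Scheme.Modules.pushforward (KRR.pr n T)).obj W)) :=
    allZ_pullback n T _ (Groth.Agent.Helper4.SN215.isQCoh_push n T W hW) _ (by omega) (by omega)
  have h₁ : AllZ n T (-(j : ℤ)) (kernel (εW n T W)) := allZ_X₁ n T hS _ h₂ h
  exact allZ_shift n T _ 1 _ (by push_cast; ring) _ h₁

/-- regular quasi-coherent modules -/
structure RQ where
  /-- the module -/
  W : (KRR.PY n T).Modules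
  qc : Coh.IsQCoh W
  reg : KRR.IsRegSheaf n T W

/-- one step of the recursion -/
noncomputable def RQ.next (x : RQ n T) : RQ n T :=
  ⟨nextW n T x.W, isQCoh_nextW n T x.W x.qc, isRegSheaf_nextW n T x.W x.qc x.reg⟩

/-- the sequence `W_k` -/
noncomputable def seq (x : RQ n T) : ℕ → RQ n T
  | 0 => x
  | k + 1 => RQ.next n T (seq x k)

theorem allZ_seq (x : RQ n T) : ∀ j : ℕ, 1 ≤ j → j ≤ n + 1 → ∀ k : ℕ, j ≤ k →
    AllZ n T (-(j : ℤ)) (seq n T x k).W := by
  intro j hj
  induction j, hj using Nat.le_induction with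
  | base =>
    intro _ k hk
    obtain ⟨k', rfl⟩ : ∃ k', k = k' + 1 := ⟨k - 1, by omega⟩
    exact allZ_nextW n T (seq n T x k').W (seq n T x k').qc (seq n T x k').reg
  | succ j hj ih =>
    intro hjn k hk
    obtain ⟨k', rfl⟩ : ∃ k', k = k' + 1 := ⟨k - 1, by omega⟩
    exact allZ_step n T (seq n T x k').W (seq n T x k').qc (seq n T x k').reg j hj (by omega)
      (ih (by omega) k' (by omega))

theorem isZero_twF {F : (KRR.PY n T).Modules} (h : IsZero F) (d : ℤ) :
    IsZero (KRR.twF n T d F) :=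
  Functor.map_isZero ((DCoh.tensorBi (X := KRR.PY n T)).obj (Twist.twistOver n T d)) h

theorem isZero_pullback {G : T.Modules} (h : IsZero G) :
    IsZero ((Scheme.Modules.pullback (KRR.pr n T)).obj G) := by
  haveI : (Scheme.Modules.pullback (KRR.pr n T)).Additive :=
    (Scheme.Modules.pullbackPushforwardAdjunction (KRR.pr n T)).left_adjoint_additive
  exact Functor.map_isZero (Scheme.Modules.pullback (KRR.pr n T)) h

theorem isZero_push {W : (KRR.PY n T).Modules} (h : IsZero W) :
    IsZero ((Scheme.Modules.pushforward (KRR.pr n T)).obj W) := by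
  haveI : (Scheme.Modules.pushforward (KRR.pr n T)).Additive :=
    (Scheme.Modules.pullbackPushforwardAdjunction (KRR.pr n T)).right_adjoint_additive
  exact Functor.map_isZero (Scheme.Modules.pushforward (KRR.pr n T)) h

/-- a quasi-coherent module all of whose twists by `-1, …, -(n+1)` have no relative cohomology
is zero -/
theorem isZero_of_allZ (W : (KRR.PY n T).Modules) (hW : Coh.IsQCoh W)
    (h : ∀ j : ℕ, 1 ≤ j → j ≤ n + 1 → AllZ n T (-(j : ℤ)) W) : IsZero W := by
  have hM : Coh.IsQCoh (KRR.twF n T (-1) W) := Groth.Agent.Helper4.SN209.isQCoh_twF n T W hW (-1)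
  have hreg : KRR.IsRegSheaf n T (KRR.twF n T (-1) W) := by
    intro i hi
    by_cases hin : n < i
    · exact Groth.Agent.Helper4.SN211.isZero_RpushAb_of_gt n T _
        (Groth.Agent.Helper4.SN209.isQCoh_twF n T _ hM _) i hin
    · obtain ⟨e⟩ := nonempty_twF_twF n T (-(i : ℤ)) (-1) (-((i + 1 : ℕ) : ℤ))
        (by push_cast; ring) W
      exact isZero_Rpush_of_iso n T e.symm i (h (i + 1) (by omega) (by omega) i)
  have hp : IsZero ((Scheme.Modules.pushforward (KRR.pr n T)).obj (KRR.twF n T (-1) W)) := by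
    apply isZero_push_of_isZero_RpushAb_zero
    have := h 1 le_rfl (by omega) 0
    simpa using this
  haveI := Groth.Agent.Helper4.SN209.epi_counit n _ hM hreg
  have hMz : IsZero (KRR.twF n T (-1) W) :=
    IsZero.of_epi (εW n T (KRR.twF n T (-1) W)) (isZero_pullback n T hp)
  obtain ⟨e1⟩ := nonempty_twF_twF n T 1 (-1) 0 (by ring) W
  obtain ⟨e0⟩ := nonempty_twF_zero n T W
  exact (isZero_twF n T hMz 1).of_iso (e0.symm ≪≫ e1.symm)

theorem isZero_seq_succ (x : RQ n T) : IsZero (seq n T x (n + 1)).W :=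
  isZero_of_allZ n T _ (seq n T x (n + 1)).qc
    (fun j hj hjn => allZ_seq n T x j hj hjn (n + 1) hjn)

theorem isZero_nextW {W : (KRR.PY n T).Modules} (h : IsZero W) : IsZero (nextW n T W) := by
  apply isZero_twF
  exact IsZero.of_mono (kernel.ι (εW n T W)) (isZero_pullback n T (isZero_push n T h))

theorem isZero_seq_of_gt (x : RQ n T) : ∀ k : ℕ, n + 1 ≤ k → IsZero (seq n T x k).W := by
  intro k hk
  induction k, hk using Nat.le_induction with
  | base => exact isZero_seq_succ n T x
  | succ k _ ih => exact isZero_nextW n T ih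

end recursion

section res

open Groth.Agent.Helper9.ResThm

variable {C : Type*} [Category C] [Abelian C] {P₀ : ObjectProperty C} {A : C}

/-- the augmentation of a resolution, as a morphism of complexes -/
noncomputable def resπ (R : Res P₀ A) : R.L ⟶ (ChainComplex.single₀ C).obj A :=
  (ChainComplex.toSingle₀Equiv R.L A).symm ⟨R.ε, R.w⟩

theorem resπ_f_zero (R : Res P₀ A) : (resπ R).f 0 = R.ε :=
  ChainComplex.toSingle₀Equiv_symm_apply_f_zero _ _

theorem quasiIso_resπ (R : Res P₀ A) : QuasiIso (resπ R) := by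
  refine ⟨fun i => ?_⟩
  cases i with
  | zero =>
    rw [ChainComplex.quasiIsoAt₀_iff, ShortComplex.quasiIso_iff_of_zeros']
    · haveI := R.epi
      refine (ShortComplex.exact_and_epi_g_iff_of_iso ?_).2 ⟨R.ex0, R.epi⟩
      exact ShortComplex.isoMk (Iso.refl _) (Iso.refl _) (Iso.refl _)
        ((Category.id_comp _).trans (Category.comp_id _).symm)
        (by
          simp only [resπ_f_zero, HomologicalComplex.shortComplexFunctor'_map_τ₂, Iso.refl_hom]
          exact (Category.id_comp _).trans (Category.comp_id _).symm)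
    · exact R.L.shape _ _ (by simp)
    · rfl
    · rfl
  | succ i =>
    rw [quasiIsoAt_iff_exactAt']
    · exact R.exactAt (i + 1) (by omega)
    · exact ChainComplex.exactAt_succ_single_obj _ _

/-- changing the target of a resolution along an isomorphism -/
noncomputable def resOfIso {A' : C} (R : Res P₀ A) (e : A ≅ A') : Res P₀ A' where
  L := R.L
  hP := R.hP
  hex := R.hex
  ε := R.ε ≫ e.hom
  epi := by haveI := R.epi; infer_instance
  w := by rw [← Category.assoc, R.w, zero_comp]
  ex0 := exact_comp_mono R.w R.ex0 e.hom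

end res

section main

open Groth.Agent.Helper9.ResThm

variable (x : RQ n T)

/-- twisting by `O(-k)` -/
noncomputable abbrev Fk (k : ℕ) : (KRR.PY n T).Modules ⥤ (KRR.PY n T).Modules :=
  (DCoh.tensorBi (X := KRR.PY n T)).obj (Twist.twistOver n T (-(k : ℤ)))

/-- the twisted counit sequence: the `k`-th cycle module -/
noncomputable def Kk (k : ℕ) : (KRR.PY n T).Modules := (Fk n T k).obj (seq n T x k).W

/-- the `k`-th term of the resolution -/
noncomputable def Lk (k : ℕ) : (KRR.PY n T).Modules :=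
  (Fk n T k).obj ((Scheme.Modules.pullback (KRR.pr n T)).obj
    ((Scheme.Modules.pushforward (KRR.pr n T)).obj (seq n T x k).W))

/-- the twisted counit -/
noncomputable def pk (k : ℕ) : Lk n T x k ⟶ Kk n T x k :=
  (Fk n T k).map (εW n T (seq n T x k).W)

/-- the identification `W_{k+1}(-(k+1)) ≅ Z_k(-k)` -/
noncomputable def ek (k : ℕ) : Kk n T x (k + 1) ≅
    (Fk n T k).obj (kernel (εW n T (seq n T x k).W)) :=
  (nonempty_twF_twF n T (-((k + 1 : ℕ) : ℤ)) 1 (-(k : ℤ)) (by push_cast; ring)
    (kernel (εW n T (seq n T x k).W))).some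

/-- the inclusion of the next cycle module -/
noncomputable def jk (k : ℕ) : Kk n T x (k + 1) ⟶ Lk n T x k :=
  (ek n T x k).hom ≫ (Fk n T k).map (kernel.ι (εW n T (seq n T x k).W))

theorem shortExact_tw (k : ℕ) :
    ((ShortComplex.mk (kernel.ι (εW n T (seq n T x k).W)) (εW n T (seq n T x k).W)
      (kernel.condition _)).map (Fk n T k)).ShortExact :=
  shortExact_map_tensorBi
    (shortExact_counit n T (seq n T x k).W (seq n T x k).qc (seq n T x k).reg) _
    (Groth.Agent.Helper1.FlatTw.isInvertible_twistOver n T _)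

theorem jk_pk (k : ℕ) : jk n T x k ≫ pk n T x k = 0 := by
  have h : (Fk n T k).map (kernel.ι (εW n T (seq n T x k).W)) ≫
      (Fk n T k).map (εW n T (seq n T x k).W) = 0 := by
    rw [← Functor.map_comp, kernel.condition, Functor.map_zero]
  exact (Category.assoc _ _ _).trans
    ((congrArg (fun t => (ek n T x k).hom ≫ t) h).trans comp_zero)

theorem exact_jk_pk (k : ℕ) : (ShortComplex.mk (jk n T x k) (pk n T x k) (jk_pk n T x k)).Exact :=
  exact_epi_comp _ (shortExact_tw n T x k).exact (ek n T x k).hom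

instance mono_jk (k : ℕ) : Mono (jk n T x k) := by
  have h : Mono ((Fk n T k).map (kernel.ι (εW n T (seq n T x k).W))) :=
    (shortExact_tw n T x k).mono_f
  exact @mono_comp _ _ _ _ _ (ek n T x k).hom _ _ h

instance epi_pk (k : ℕ) : Epi (pk n T x k) := (shortExact_tw n T x k).epi_g

/-- Quillen's resolution, with augmentation to `W_0(0)` -/
noncomputable def quillenRes₀ : Res (fun _ : (KRR.PY n T).Modules => True) (Kk n T x 0) :=
  Res.ofData (Kk n T x) (Lk n T x) (pk n T x) (jk n T x) (jk_pk n T x) (exact_jk_pk n T x)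
    (fun k => mono_jk n T x k) (fun k => epi_pk n T x k) (fun _ => trivial)

/-- `W_0(0) ≅ W_0` -/
noncomputable def e₀ : Kk n T x 0 ≅ x.W :=
  (nonempty_twF_twF n T (-((0 : ℕ) : ℤ)) 0 0 (by simp) x.W).some.symm ≪≫
    twFIso n T _ (nonempty_twF_zero n T x.W).some ≪≫ by
      have h : (-((0 : ℕ) : ℤ)) = 0 := by simp
      rw [h]
      exact (nonempty_twF_zero n T x.W).some

/-- Quillen's resolution -/
noncomputable def quillenRes : Res (fun _ : (KRR.PY n T).Modules => True) x.W :=
  resOfIso (quillenRes₀ n T x) (e₀ n T x)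

/-- **S20013**: Quillen's resolution of a regular quasi-coherent module -/
theorem main20013 (F : (KRR.PY n T).Modules) (hF : Coh.IsQCoh F) (hreg : KRR.IsRegSheaf n T F) :
    ∃ (Tm : ℕ → T.Modules) (L : ChainComplex (KRR.PY n T).Modules ℕ)
      (π : L ⟶ (ChainComplex.single₀ (KRR.PY n T).Modules).obj F),
      (∀ i, Coh.IsQCoh (Tm i)) ∧
      (∀ i, i ≤ n → Nonempty (L.X i ≅
        KRR.twF n T (-(i : ℤ)) ((Scheme.Modules.pullback (KRR.pr n T)).obj (Tm i)))) ∧
      (∀ i, n < i → IsZero (L.X i)) ∧ QuasiIso π := by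
  let x : RQ n T := ⟨F, hF, hreg⟩
  refine ⟨fun i => (Scheme.Modules.pushforward (KRR.pr n T)).obj (seq n T x i).W,
    (quillenRes n T x).L, resπ (quillenRes n T x), ?_, ?_, ?_, quasiIso_resπ _⟩
  · intro i
    exact Groth.Agent.Helper4.SN215.isQCoh_push n T _ (seq n T x i).qc
  · intro i _
    exact ⟨Iso.refl _⟩
  · intro i hi
    show IsZero (Lk n T x i)
    exact isZero_twF n T (isZero_pullback n T (isZero_push n T
      (isZero_seq_of_gt n T x i (by omega)))) _

end main

end Groth.Agent.Helper4.SN216
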