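import Mathlib
import Groth.Agent.Helper3.FlatPullEx
import Groth.Agent.Helper4.FlatQuotPure

set_option autoImplicit false
set_option linter.unusedSectionVars false
set_option linter.style.haveILetI false

/-!
# SN219: the unit of `f^* ⊣ f_*` is a split monomorphism when `f` has a section;
pullbacks preserve short exact sequences with flat cokernel
-/

namespace Groth.Agent.Helper4.SN219

open CategoryTheory Limits AlgebraicGeometry TopologicalSpace Opposite
open Groth.Agent.Helper9.SkyMod2 Groth.Agent.Helper9.SkyMod4 Groth.Agent.Helper9.SkyMod5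

universe u

section unit

variable {X Y : Scheme.{u}} (f : X ⟶ Y) (s : Y ⟶ X) (hs : s ≫ f = 𝟙 Y)

include hs in
/-- the unit `G ⟶ f_* f^* G` is a monomorphism when `f` has a section -/
theorem mono_unit_of_section (G : Y.Modules) :
    Mono ((Scheme.Modules.pullbackPushforwardAdjunction f).unit.app G) := by
  let adjf := Scheme.Modules.pullbackPushforwardAdjunction f
  let adjs := Scheme.Modules.pullbackPushforwardAdjunction s
  let adj := adjf.comp adjs
  have eL : Scheme.Modules.pullback f ⋙ Scheme.Modules.pullback s ≅ 𝟭 _ :=
    Scheme.Modules.pullbackComp s f ≪≫ Scheme.Modules.pullbackCongr hs ≪≫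
      Scheme.Modules.pullbackId Y
  haveI : (Scheme.Modules.pullback f ⋙ Scheme.Modules.pullback s).IsEquivalence :=
    Functor.isEquivalence_of_iso eL.symm
  haveI : IsIso (adj.unit.app G) := inferInstance
  have h : adj.unit.app G = adjf.unit.app G ≫
      (Scheme.Modules.pushforward f).map (adjs.unit.app ((Scheme.Modules.pullback f).obj G)) :=
    Adjunction.comp_unit_app adjf adjs G
  exact mono_of_mono_fac h.symm

end unit

section flat

variable {X Y : Scheme.{u}} (f : X ⟶ Y)

/-- the pullback of a monomorphism with flat cokernel is a monomorphism -/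
theorem mono_pullback_of_isFlat {S : ShortComplex Y.Modules} (hS : S.ShortExact)
    (hfl : FlatMod.IsFlat S.X₃) : Mono ((Scheme.Modules.pullback f).map S.f) := by
  apply Groth.Agent.Helper3.FlatPullEx.mono_of_stalks
  intro x
  have hnat := (pullStalkIso x f).hom.naturality S.f
  have hT : (S.map (St (f.base x))).ShortExact := hS.map_of_exact (St (f.base x))
  haveI : Module.Flat (Y.presheaf.stalk (f.base x)) (S.X₃.presheaf.stalk (f.base x)) :=
    hfl (f.base x)
  -- injectivity after extension of scalars
  have hm2 : Mono ((St (f.base x) ⋙ ext x f).map S.f) := by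
    rw [Functor.comp_map]
    rw [ModuleCat.mono_iff_injective]
    have key : ∀ (Q : Type u) [AddCommGroup Q] [Module (Y.presheaf.stalk (f.base x)) Q],
        Function.Injective (LinearMap.lTensor Q ((St (f.base x)).map S.f).hom) := by
      intro Q _ _
      set T := S.map (St (f.base x)) with hTdef
      have hsurj : Function.Surjective T.g.hom := (ModuleCat.epi_iff_surjective T.g).1 hT.epi_g
      have hinj : Function.Injective T.f.hom := (ModuleCat.mono_iff_injective T.f).1 hT.mono_f
      have hex : LinearMap.range T.f.hom = LinearMap.ker T.g.hom :=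
        (ShortComplex.moduleCat_exact_iff_range_eq_ker T).1 hT.exact
      haveI : Module.Flat (Y.presheaf.stalk (f.base x)) T.X₃ := this
      have h1 := Groth.Agent.Helper4.FlatQuotPure.ker_lTensor_injective T.g.hom hsurj Q
      let e : T.X₁ ≃ₗ[Y.presheaf.stalk (f.base x)] LinearMap.ker T.g.hom :=
        (LinearEquiv.ofInjective T.f.hom hinj).trans (LinearEquiv.ofEq _ _ hex)
      have h2 : T.f.hom = (LinearMap.ker T.g.hom).subtype ∘ₗ e.toLinearMap := by
        ext a
        rfl
      show Function.Injective (LinearMap.lTensor Q T.f.hom)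
      rw [h2, LinearMap.lTensor_comp]
      exact h1.comp (e.lTensor Q).injective
    exact key ((ModuleCat.restrictScalars (f.stalkMap x).hom).obj (ModuleCat.of _ _))
  have hiso : IsIso ((pullStalkIso x f).hom.app S.X₁) := ((pullStalkIso x f).app S.X₁).isIso_hom
  have hm1 : Mono ((pullStalkIso x f).hom.app S.X₁) := @IsIso.mono_of_iso _ _ _ _ _ hiso
  have h3 : Mono ((pullStalkIso x f).hom.app S.X₁ ≫ (St (f.base x) ⋙ ext x f).map S.f) :=
    @mono_comp _ _ _ _ _ _ hm1 _ hm2
  rw [← hnat] at h3
  exact mono_of_mono ((Scheme.Modules.pullback f ⋙ St x).map S.f)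
    ((pullStalkIso x f).hom.app S.X₂)

/-- pullbacks preserve short exact sequences with flat cokernel -/
theorem shortExact_map_pullback {S : ShortComplex Y.Modules} (hS : S.ShortExact)
    (hfl : FlatMod.IsFlat S.X₃) : (S.map (Scheme.Modules.pullback f)).ShortExact := by
  haveI : (Scheme.Modules.pullback f).Additive :=
    (Scheme.Modules.pullbackPushforwardAdjunction f).left_adjoint_additive
  haveI : PreservesFiniteColimits (Scheme.Modules.pullback f) :=
    haveI : PreservesColimitsOfSize.{0, 0} (Scheme.Modules.pullback f) :=
      (Scheme.Modules.pullbackPushforwardAdjunction f).leftAdjoint_preservesColimits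
    PreservesColimitsOfSize.preservesFiniteColimits _
  have h1 := ((Scheme.Modules.pullback f).preservesFiniteColimits_iff_forall_exact_map_and_epi).1
    inferInstance S hS
  have hm : Mono (S.map (Scheme.Modules.pullback f)).f := mono_pullback_of_isFlat f hS hfl
  have he : Epi (S.map (Scheme.Modules.pullback f)).g := h1.2
  exact ShortComplex.ShortExact.mk' h1.1 hm he

end flat

end Groth.Agent.Helper4.SN219
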