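import Mathlib
import Groth.Agent.Helper4.SN219
import Groth.Agent.Helper4.SN216
import Groth.Agent.Helper4.SN210
import Groth.Agent.Helper8.WCPt
import Groth.Agent.Lead.IntNumBC
import Groth.Agent.Lead.PerfLib7
import Groth.Agent.Lead.FlatLib1
import Groth.Agent.Helper9.Lpull5
import Groth.Agent.Helper9.FlfTensor1
import Groth.Agent.Lead.ParaFLib

set_option autoImplicit false
set_option linter.unusedSectionVars false
set_option linter.style.haveILetI false

/-!
# SN220: base change for the direct image of a regular finite locally free module on `P^n_Y`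
-/

namespace Groth.Agent.Helper4.SN220

open CategoryTheory Limits AlgebraicGeometry TopologicalSpace Opposite
open Groth.Agent.Helper1.RegSh Groth.Agent.Helper4.SN216

universe u

section unit

variable (n : ℕ) (Y : Scheme.{u})

/-- the unit `G ⟶ p_* p^* G` is an isomorphism for quasi-coherent `G` -/
theorem isIso_unit (G : Y.Modules) (hG : Coh.IsQCoh G) :
    IsIso ((Scheme.Modules.pullbackPushforwardAdjunction (KRR.pr n Y)).unit.app G) := by
  haveI := Groth.Agent.Helper4.SN219.mono_unit_of_section (KRR.pr n Y)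
    (Groth.Agent.Helper8.WCPt.sec n Y) (Groth.Agent.Helper8.WCPt.sec_toBase n Y) G
  apply Groth.Agent.Helper6.ZCl2.isIso_of_bijective_basis _ Y.isBasis_affineOpens
  intro V hV
  exact ⟨Groth.Agent.Helper6.ZCl2.injective_app_of_mono _ V,
    Groth.Agent.Helper4.SN215.surjective_unit_app n Y G hG V hV⟩

end unit

section zero

variable (n : ℕ) (T : Scheme.{u})

theorem isZero_RT_of_isZero {F : (KRR.PY n T).Modules} (h : IsZero F) (d : ℤ) (q : ℕ) :
    IsZero ((Coh.RpushAb (KRR.pr n T) q).obj (Coh.toAb (KRR.twF n T d F))) := by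
  have h1 : IsZero (KRR.twF n T d F) := isZero_twF n T h d
  have h2 : IsZero (Coh.toAb (KRR.twF n T d F)) :=
    (SheafOfModules.toSheaf (KRR.PY n T).ringCatSheaf).map_isZero h1
  exact (Coh.RpushAb (KRR.pr n T) q).map_isZero h2

theorem isRegSheaf_of_isZero {F : (KRR.PY n T).Modules} (h : IsZero F) : KRR.IsRegSheaf n T F :=
  fun i _ => isZero_RT_of_isZero n T h _ i

theorem allZ_of_isZero {F : (KRR.PY n T).Modules} (h : IsZero F) (d : ℤ) : AllZ n T d F :=
  fun q => isZero_RT_of_isZero n T h d q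

/-- `AllZ` of a twist, backwards -/
theorem allZ_unshift (a b c : ℤ) (hc : c = a + b) (F : (KRR.PY n T).Modules)
    (h : AllZ n T a (KRR.twF n T b F)) : AllZ n T c F := by
  intro q
  obtain ⟨e⟩ := nonempty_twF_twF n T a b c hc F
  exact isZero_Rpush_of_iso n T e q (h q)

theorem allZ_X₃ {S : ShortComplex (KRR.PY n T).Modules} (hS : S.ShortExact) (d : ℤ)
    (h₁ : AllZ n T d S.X₁) (h₂ : AllZ n T d S.X₂) : AllZ n T d S.X₃ := by
  intro q
  obtain ⟨δ, w₁, w₂, hex₁, -⟩ := hasLES_RT n T hS d q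
  have z₂ : IsZero ((RT n T d q).obj S.X₂) := h₂ q
  have z₁ : IsZero ((RT n T d (q + 1)).obj S.X₁) := h₁ (q + 1)
  exact hex₁.isZero_of_both_zeros (z₂.eq_of_src _ _) (z₁.eq_of_tgt _ _)

/-- the pullback of a quasi-coherent module from the base is regular -/
theorem isRegSheaf_pullback (G : T.Modules) (hG : Coh.IsQCoh G) :
    KRR.IsRegSheaf n T ((Scheme.Modules.pullback (KRR.pr n T)).obj G) := by
  intro i hi
  by_cases h : n < i
  · exact Groth.Agent.Helper4.SN211.isZero_RpushAb_of_gt n T _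
      (Groth.Agent.Helper4.SN209.isQCoh_twF n T _
        (Groth.Agent.Helper4.SN211.isQCoh_pullback n T G hG) _) i h
  · exact Groth.Agent.Helper4.SN211.isZero_RpushAb_twF_pullback n T G hG i hi _ (by omega)

end zero

section flf

variable (n : ℕ) (Y : Scheme.{u}) [IsLocallyNoetherian Y]

theorem isFinLocFree_twF (F : (KRR.PY n Y).Modules) (hF : FlatMod.IsFinLocFree F) (d : ℤ) :
    FlatMod.IsFinLocFree (KRR.twF n Y d F) :=
  Groth.Agent.Helper9.FlfTensor1.isFinLocFree_tensor _ _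
    (Groth.Agent.Lead.ParaFLib.isFinLocFree_of_isInvertible _
      (Groth.Agent.Helper1.FlatTw.isInvertible_twistOver n Y d)) hF

theorem isQCoh_of_isFinLocFree {X : Scheme.{u}} {F : X.Modules} (hF : FlatMod.IsFinLocFree F) :
    Coh.IsQCoh F := (Groth.Agent.Lead.PerfLib.isCoh_of_isFinLocFree hF).1

theorem isFinLocFree_pullPush (W : (KRR.PY n Y).Modules) (hW : FlatMod.IsFinLocFree W)
    (hreg : KRR.IsRegSheaf n Y W) :
    FlatMod.IsFinLocFree ((Scheme.Modules.pullback (KRR.pr n Y)).obj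
      ((Scheme.Modules.pushforward (KRR.pr n Y)).obj W)) :=
  Groth.Agent.Helper9.Lpull5.isFinLocFree_pullback _ _
    (Groth.Agent.Helper4.SN210.isFinLocFree_push n Y W hW hreg)

theorem isFinLocFree_kernel (W : (KRR.PY n Y).Modules) (hW : FlatMod.IsFinLocFree W)
    (hreg : KRR.IsRegSheaf n Y W) : FlatMod.IsFinLocFree (kernel (εW n Y W)) := by
  haveI : Epi (εW n Y W) :=
    Groth.Agent.Helper4.SN209.epi_counit n W (isQCoh_of_isFinLocFree hW) hreg
  exact Groth.Agent.Lead.PerfLib.isFinLocFree_kernel_of_epi (εW n Y W)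
    (isFinLocFree_pullPush n Y W hW hreg) hW

theorem isFinLocFree_nextW (W : (KRR.PY n Y).Modules) (hW : FlatMod.IsFinLocFree W)
    (hreg : KRR.IsRegSheaf n Y W) : FlatMod.IsFinLocFree (nextW n Y W) :=
  isFinLocFree_twF n Y _ (isFinLocFree_kernel n Y W hW hreg) 1

theorem isFinLocFree_seq (x : RQ n Y) (hx : FlatMod.IsFinLocFree x.W) :
    ∀ k : ℕ, FlatMod.IsFinLocFree (seq n Y x k).W
  | 0 => hx
  | k + 1 => isFinLocFree_nextW n Y _ (isFinLocFree_seq x hx k) (seq n Y x k).reg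

end flf

section psi

variable (n : ℕ) {Y Y₁ : Scheme.{u}} (φ : Y₁ ⟶ Y)

local notation "ψ" => KRR.projSpaceMap n φ

theorem projSpaceMap_fst :
    KRR.projSpaceMap n φ ≫ pullback.fst (CohB1.ProjSpace.toSpec n (ULift.{u} ℤ))
      (specULiftZIsTerminal.from Y) =
    pullback.fst (CohB1.ProjSpace.toSpec n (ULift.{u} ℤ)) (specULiftZIsTerminal.from Y₁) := by
  unfold KRR.projSpaceMap
  exact (pullback.lift_fst _ _ _).trans (Category.comp_id _)

/-- `ψ^* O(d) ≅ O(d)` -/
noncomputable def pullTwistOverIso (d : ℤ) :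
    (Scheme.Modules.pullback ψ).obj (Twist.twistOver n Y d) ≅ Twist.twistOver n Y₁ d :=
  (Scheme.Modules.pullbackComp ψ _).app (Twist.twistProjSpace n (ULift.{u} ℤ) d) ≪≫
    (Scheme.Modules.pullbackCongr (projSpaceMap_fst n φ)).app _

/-- `ψ^*(M(d)) ≅ (ψ^* M)(d)` -/
noncomputable def pullTwFIso (d : ℤ) (M : (KRR.PY n Y).Modules) :
    (Scheme.Modules.pullback ψ).obj (KRR.twF n Y d M) ≅
      KRR.twF n Y₁ d ((Scheme.Modules.pullback ψ).obj M) :=
  Groth.Agent.Lead.IntNumBC.pullTensorIso ψ (Twist.twistOver n Y d) M ≪≫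
    PicGrp.tensorModIso (pullTwistOverIso n φ d) (Iso.refl _)

variable (hsq : KRR.projSpaceMap n φ ≫ KRR.pr n Y = KRR.pr n Y₁ ≫ φ)

/-- `p₁^* φ^* G ≅ ψ^* p^* G` -/
noncomputable def cIso (G : Y.Modules) :
    (Scheme.Modules.pullback (KRR.pr n Y₁)).obj ((Scheme.Modules.pullback φ).obj G) ≅
      (Scheme.Modules.pullback ψ).obj ((Scheme.Modules.pullback (KRR.pr n Y)).obj G) :=
  (Scheme.Modules.pullbackComp (KRR.pr n Y₁) φ).app G ≪≫
    (Scheme.Modules.pullbackCongr hsq.symm).app G ≪≫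
    ((Scheme.Modules.pullbackComp ψ (KRR.pr n Y)).app G).symm

end psi

section descent

variable (n : ℕ) {Y Y₁ : Scheme.{u}} [IsLocallyNoetherian Y] (φ : Y₁ ⟶ Y)
  (hsq : KRR.projSpaceMap n φ ≫ KRR.pr n Y = KRR.pr n Y₁ ≫ φ)
  (x : RQ n Y) (hx : FlatMod.IsFinLocFree x.W)

local notation "ψ" => KRR.projSpaceMap n φ

/-- the pulled-back modules `V_k = ψ^* W_k` -/
noncomputable abbrev Vk (k : ℕ) : (KRR.PY n Y₁).Modules :=
  (Scheme.Modules.pullback ψ).obj (seq n Y x k).W

/-- the counit sequence of `W_k` -/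
noncomputable abbrev Sk (k : ℕ) : ShortComplex (KRR.PY n Y).Modules :=
  ShortComplex.mk (kernel.ι (εW n Y (seq n Y x k).W)) (εW n Y (seq n Y x k).W)
    (kernel.condition _)

include hx in
theorem shortExact_Sk_pull (k : ℕ) :
    ((Sk n x k).map (Scheme.Modules.pullback ψ)).ShortExact :=
  Groth.Agent.Helper4.SN219.shortExact_map_pullback ψ
    (shortExact_counit n Y _ (seq n Y x k).qc (seq n Y x k).reg)
    (Groth.Agent.Lead.FlatLib.isFlat_of_isFinLocFree (isFinLocFree_seq n Y x hx k))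

/-- `φ^* p_* W_k` -/
noncomputable abbrev Gk (k : ℕ) : Y₁.Modules :=
  (Scheme.Modules.pullback φ).obj ((Scheme.Modules.pushforward (KRR.pr n Y)).obj (seq n Y x k).W)

theorem isQCoh_Gk (k : ℕ) : Coh.IsQCoh (Gk n φ x k) := by
  haveI : ((Scheme.Modules.pushforward (KRR.pr n Y)).obj (seq n Y x k).W).IsQuasicoherent :=
    Groth.Agent.Helper4.SN215.isQCoh_push n Y _ (seq n Y x k).qc
  exact Groth.Agent.Lead.StalkPull.isQuasicoherent_pullbackObj φ _

/-- `V_{k+1} ≅ (ψ^* Z_k)(1)` -/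
noncomputable def e1 (k : ℕ) : Vk n φ x (k + 1) ≅
    KRR.twF n Y₁ 1 ((Scheme.Modules.pullback ψ).obj (kernel (εW n Y (seq n Y x k).W))) :=
  pullTwFIso n φ 1 (kernel (εW n Y (seq n Y x k).W))

/-- the inductive statement: `V_k` is regular and all `R^q p₁_*(V_k(-j))`, `1 ≤ j ≤ k`, vanish -/
def Pk (k : ℕ) : Prop :=
  KRR.IsRegSheaf n Y₁ (Vk n φ x k) ∧
    ∀ j : ℕ, 1 ≤ j → j ≤ k → AllZ n Y₁ (-(j : ℤ)) (Vk n φ x k)

include hsq hx in
theorem pk_step (k : ℕ) (hk : k ≤ n) (ih : Pk n φ x (k + 1)) : Pk n φ x k := by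
  have hS' := shortExact_Sk_pull n φ x hx k
  have hG := isQCoh_Gk n φ x k
  let c := cIso n φ hsq ((Scheme.Modules.pushforward (KRR.pr n Y)).obj (seq n Y x k).W)
  refine ⟨?_, fun j hj hjk => ?_⟩
  · have hr₂ : KRR.IsRegSheaf n Y₁ ((Sk n x k).map (Scheme.Modules.pullback ψ)).X₂ :=
      Groth.Agent.Helper4.SN212.isRegSheaf_of_iso n Y₁ c (isRegSheaf_pullback n Y₁ _ hG)
    have hr₁ : KRR.IsRegSheaf n Y₁
        (KRR.twF n Y₁ 1 ((Sk n x k).map (Scheme.Modules.pullback ψ)).X₁) :=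
      Groth.Agent.Helper4.SN212.isRegSheaf_of_iso n Y₁ (e1 n φ x k) ih.1
    show KRR.IsRegSheaf n Y₁ ((Sk n x k).map (Scheme.Modules.pullback ψ)).X₃
    exact isRegSheaf_X₃ n Y₁ hS' hr₂ hr₁
  · have h₂ : AllZ n Y₁ (-(j : ℤ)) ((Sk n x k).map (Scheme.Modules.pullback ψ)).X₂ :=
      allZ_of_iso n Y₁ c _ (allZ_pullback n Y₁ _ hG _ (by omega) (by omega))
    have h₁ : AllZ n Y₁ (-(j : ℤ)) ((Sk n x k).map (Scheme.Modules.pullback ψ)).X₁ :=
      allZ_unshift n Y₁ (-((j + 1 : ℕ) : ℤ)) 1 (-(j : ℤ)) (by push_cast; ring) _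
        (allZ_of_iso n Y₁ (e1 n φ x k) _ (ih.2 (j + 1) (by omega) (by omega)))
    show AllZ n Y₁ (-(j : ℤ)) ((Sk n x k).map (Scheme.Modules.pullback ψ)).X₃
    exact allZ_X₃ n Y₁ hS' _ h₁ h₂

include hsq hx in
theorem pk_descend (m : ℕ) : ∀ k : ℕ, k + m = n + 1 → Pk n φ x k := by
  induction m with
  | zero =>
    intro k h
    obtain rfl : k = n + 1 := by omega
    have hz : IsZero (Vk n φ x (n + 1)) :=
      (Scheme.Modules.pullback ψ).map_isZero (isZero_seq_succ n Y x)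
    exact ⟨isRegSheaf_of_isZero n Y₁ hz, fun j _ _ => allZ_of_isZero n Y₁ hz _⟩
  | succ m ih =>
    intro k h
    exact pk_step n φ hsq x hx k (by omega) (ih (k + 1) (by omega))

include hsq hx in
theorem pk_all (k : ℕ) (hk : k ≤ n + 1) : Pk n φ x k :=
  pk_descend n φ hsq x hx (n + 1 - k) k (by omega)

end descent

section iso

/-- for a short exact sequence whose kernel has vanishing `f_*` and `R^1 f_*`, `f_*` of the
epimorphism is an isomorphism -/
theorem isIso_push_of_vanishing {X Y : Scheme.{u}} (f : X ⟶ Y)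
    [HasInjectiveResolutions X.Modules]
    {S : ShortComplex X.Modules} (hS : S.ShortExact)
    (h0 : IsZero ((Scheme.Modules.pushforward f).obj S.X₁))
    (h1 : IsZero ((Coh.Rpush f 1).obj S.X₁)) :
    IsIso ((Scheme.Modules.pushforward f).map S.g) := by
  haveI : PreservesLimitsOfSize.{u, u} (Scheme.Modules.pushforward f) :=
    (Scheme.Modules.pullbackPushforwardAdjunction f).rightAdjoint_preservesLimits
  haveI : PreservesFiniteLimits (Scheme.Modules.pushforward f) :=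
    PreservesLimitsOfSize.preservesFiniteLimits _
  have hL := ((Scheme.Modules.pushforward f).preservesFiniteLimits_iff_forall_exact_map_and_mono).1
    ‹PreservesFiniteLimits (Scheme.Modules.pushforward f)› S hS
  have hm : Mono ((Scheme.Modules.pushforward f).map S.g) := hL.1.mono_g (h0.eq_of_src _ _)
  obtain ⟨δ, w₁, w₂, hex₁, -⟩ := Groth.Agent.Helper1.Horseshoe.hasLES_rightDerived
    (F := Scheme.Modules.pushforward f) S hS 0
  have he0 : Epi (((Scheme.Modules.pushforward f).rightDerived 0).map S.g) :=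
    hex₁.epi_f (h1.eq_of_tgt _ _)
  let e := Functor.rightDerivedZeroIsoSelf (Scheme.Modules.pushforward f)
  have hnat := e.hom.naturality S.g
  have he : Epi ((Scheme.Modules.pushforward f).map S.g) := by
    have h : (Scheme.Modules.pushforward f).map S.g =
        e.inv.app S.X₂ ≫ ((Scheme.Modules.pushforward f).rightDerived 0).map S.g ≫
          e.hom.app S.X₃ := by
      rw [hnat, Iso.inv_hom_id_app_assoc]
    rw [h]
    infer_instance
  exact isIso_of_mono_of_epi _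

end iso

section main

variable (n : ℕ) {Y Y₁ : Scheme.{u}} [IsLocallyNoetherian Y] (φ : Y₁ ⟶ Y)
  (hsq : KRR.projSpaceMap n φ ≫ KRR.pr n Y = KRR.pr n Y₁ ≫ φ)

local notation "ψ" => KRR.projSpaceMap n φ

theorem bcMap_eq (F : (KRR.PY n Y).Modules) :
    KRR.bcMap n φ hsq F =
      (Scheme.Modules.pullbackPushforwardAdjunction (KRR.pr n Y₁)).unit.app _ ≫
        (Scheme.Modules.pushforward (KRR.pr n Y₁)).map
          ((cIso n φ hsq ((Scheme.Modules.pushforward (KRR.pr n Y)).obj F)).hom ≫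
            (Scheme.Modules.pullback ψ).map (εW n Y F)) := by
  unfold KRR.bcMap
  rw [Adjunction.homEquiv_unit]
  congr 2

/-- **S3770** -/
theorem main3770 (F : (KRR.PY n Y).Modules) (hF : FlatMod.IsFinLocFree F)
    (hreg : KRR.IsRegSheaf n Y F) :
    KRR.IsRegSheaf n Y₁ ((Scheme.Modules.pullback ψ).obj F) ∧ IsIso (KRR.bcMap n φ hsq F) := by
  let x : RQ n Y := ⟨F, isQCoh_of_isFinLocFree hF, hreg⟩
  have hx : FlatMod.IsFinLocFree x.W := hF
  have h0 := pk_all n φ hsq x hx 0 (by omega)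
  have h1 := pk_all n φ hsq x hx 1 (by omega)
  refine ⟨h0.1, ?_⟩
  haveI := Groth.Agent.Helper4.SchAdj.isGrothendieckAbelian_modules (KRR.PY n Y₁)
  haveI : HasInjectiveResolutions (KRR.PY n Y₁).Modules := inferInstance
  have hS' := shortExact_Sk_pull n φ x hx 0
  have hA : AllZ n Y₁ 0 ((Sk n x 0).map (Scheme.Modules.pullback ψ)).X₁ :=
    allZ_unshift n Y₁ (-((1 : ℕ) : ℤ)) 1 0 (by simp) _
      (allZ_of_iso n Y₁ (e1 n φ x 0) _ (h1.2 1 le_rfl le_rfl))
  obtain ⟨e0⟩ := nonempty_twF_zero n Y₁ ((Sk n x 0).map (Scheme.Modules.pullback ψ)).X₁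
  have hz0 := isZero_Rpush_of_iso n Y₁ e0 0 (hA 0)
  have hz1 := isZero_Rpush_of_iso n Y₁ e0 1 (hA 1)
  have hp0 := isZero_push_of_isZero_RpushAb_zero (KRR.pr n Y₁) _ hz0
  have hp1 := Groth.Agent.Helper4.SN210.isZero_Rpush_of_isZero_RpushAb (KRR.pr n Y₁) _ 1 hz1
  have hiso : IsIso ((Scheme.Modules.pushforward (KRR.pr n Y₁)).map
      ((Scheme.Modules.pullback ψ).map (εW n Y F))) :=
    isIso_push_of_vanishing (KRR.pr n Y₁) hS' hp0 hp1
  have hη := isIso_unit n Y₁ (Gk n φ x 0) (isQCoh_Gk n φ x 0)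
  rw [bcMap_eq, Functor.map_comp]
  have hc : IsIso ((Scheme.Modules.pushforward (KRR.pr n Y₁)).map
      (cIso n φ hsq ((Scheme.Modules.pushforward (KRR.pr n Y)).obj F)).hom) := inferInstance
  exact @IsIso.comp_isIso' _ _ _ _ _ _ _ hη (@IsIso.comp_isIso' _ _ _ _ _ _ _ hc hiso)

end main

end Groth.Agent.Helper4.SN220
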