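import Mathlib
import Groth.Agent.Lead.PicSemiA
import Groth.Agent.Helper4.TwistExt
import Groth.Agent.Helper4.QAffSec

set_option autoImplicit false
set_option linter.unusedSectionVars false
set_option linter.unusedVariables false
set_option linter.style.haveILetI false

/-!
# An invertible module on an affine open with trivial Picard group has a frame
-/

namespace Groth.Agent.Helper4.SN198

open CategoryTheory CategoryTheory.Limits AlgebraicGeometry TopologicalSpace Opposite
open Scheme.Modules Groth.Agent.Helper4.FinLocFree Groth.Agent.Helper4 Groth.Agent.Helper4.TwistExt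

universe u

variable {X : Scheme.{u}}

theorem exists_isFrame_of_eq (L : X.Modules) {V V' : X.Opens} (h : V = V')
    (H : ∃ e : Γ(L, V), IsFrame L V e) : ∃ e : Γ(L, V'), IsFrame L V' e := by
  subst h; exact H

theorem exists_isFrame_of_affine (L : X.Modules) (hL : PicF.IsInvertible L) {U : X.Opens}
    (hU : IsAffineOpen U) [Subsingleton (CommRing.Pic Γ(X, U))] :
    ∃ e : Γ(L, U), IsFrame L U e := by
  haveI : L.IsQuasicoherent := Groth.Agent.Helper4.FinLocFree4.isQuasicoherent_of_isFinLocFree _
    (Groth.Agent.Lead.ParaFLib.isFinLocFree_of_isInvertible L hL)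
  let R : CommRingCat.{u} := Γ(X, U)
  let N : (Spec R).Modules := L.restrict hU.fromSpec
  have hN : PicF.IsInvertible N := Groth.Agent.Helper4.QAffSec.isInvertible_restrict hU.fromSpec hL
  haveI : N.IsQuasicoherent := inferInstance
  let M := moduleSpecΓFunctor.obj N
  let i : tilde M ≅ N := Groth.Agent.Lead.BCMap.tildeΓIso N
  have hM : PicF.IsInvertible (tilde M) := Groth.Agent.Lead.ParaFLib.isInvertible_of_iso i.symm hN
  haveI := Groth.Agent.Lead.PicSemi.invertible_sections R M hM
  haveI : Subsingleton (CommRing.Pic R) := ‹Subsingleton (CommRing.Pic Γ(X, U))›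
  haveI hfree : Module.Free R M := inferInstance
  obtain ⟨l⟩ := Module.Invertible.free_iff_linearEquiv.mp hfree
  let s : Γ(L, U) ≃ₗ[Γ(X, U)] M := SecDict.sectionsEquiv hU L
  let b : Module.Basis (Fin 1) Γ(X, U) Γ(L, U) := Module.Basis.ofRepr
    (s ≪≫ₗ l ≪≫ₗ (Finsupp.uniqueLinearEquiv Γ(X, U) Γ(X, U) (0 : Fin 1)).symm)
  obtain ⟨j⟩ := (isFreeAlong_ι_iff_basis hU L).mpr ⟨b⟩
  let ε : L.restrict U.ι ≅ Coh.structureModule (↑U) :=
    j ≪≫ Limits.coproductUniqueIso (fun _ : Fin 1 => Coh.structureModule (↑U))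
  exact exists_isFrame_of_eq L (Scheme.Opens.ι_image_top U) ⟨_, isFrame_of_triv L U ε⟩

end Groth.Agent.Helper4.SN198
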