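import Mathlib
import Groth.Prelude.Def_CohB1
import Groth.Agent.Helper3.ProjSmooth

set_option autoImplicit false
set_option linter.unusedSectionVars false
set_option linter.unusedVariables false

/-!
# Ring theory for `Pic (P^n_R)`, `R` a UFD

* `subsingleton_pic_of_retract`: a retract of a ring with trivial Picard group has trivial Picard
  group.
* `subsingleton_pic_away`: `Pic ((R[x]_{x_i})_0) = 0` for `R` a UFD.
* `exists_eq_C_mul_of_mul_eq`: divisors of `x_i^N x_j^M` in `R[x]`, `R` a domain.
* `laurent_independent`: Laurent monomials are independent in `Frac R[x]`.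
-/

namespace Groth.Agent.Helper4.SN196

open MvPolynomial

universe u

theorem subsingleton_pic_of_retract {A B : Type u} [CommRing A] [CommRing B] (ι : A →+* B)
    (ρ : B →+* A) (h : ∀ a, ρ (ι a) = a) [Subsingleton (CommRing.Pic B)] :
    Subsingleton (CommRing.Pic A) := by
  have hid : ρ.comp ι = RingHom.id A := RingHom.ext h
  have key : ∀ M : CommRing.Pic A, M = 1 := by
    intro M
    have h1 : CommRing.Pic.mapRingHom (ρ.comp ι) M = M := by
      rw [hid]; exact CommRing.Pic.mapRingHom_id_apply
    rw [← CommRing.Pic.mapRingHom_mapRingHom,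
      Subsingleton.elim (CommRing.Pic.mapRingHom ι M) 1, map_one] at h1
    exact h1.symm
  exact ⟨fun M N => by rw [key M, key N]⟩

variable (n : ℕ) (R : Type u) [CommRing R]

theorem subsingleton_pic_away [IsDomain R] [UniqueFactorizationMonoid R] (i : Fin (n + 1)) :
    Subsingleton (CommRing.Pic (HomogeneousLocalization.Away (CohB1.polyGrading n R)
      (X i : MvPolynomial (Fin (n + 1)) R))) := by
  haveI : IsDomain (Localization.Away (X i : MvPolynomial (Fin (n + 1)) R)) :=
    IsLocalization.isDomain_localization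
      (powers_le_nonZeroDivisors_of_noZeroDivisors (X_ne_zero i))
  haveI : UniqueFactorizationMonoid (Localization.Away (X i : MvPolynomial (Fin (n + 1)) R)) :=
    inferInstance
  haveI : Subsingleton (CommRing.Pic (Localization.Away (X i : MvPolynomial (Fin (n + 1)) R))) :=
    inferInstance
  exact subsingleton_pic_of_retract
    (algebraMap (HomogeneousLocalization.Away (CohB1.polyGrading n R)
      (X i : MvPolynomial (Fin (n + 1)) R)) (Localization.Away (X i : MvPolynomial (Fin (n + 1)) R)))
    (Groth.Agent.Helper3.ProjSmooth.rho n R i)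
    (fun a => Groth.Agent.Helper3.ProjSmooth.rho_val n R i a)

section Divisors
variable {σ : Type*} {R}

/-- divisors of `x_i^N * x_j^M` are monomials with unit coefficient -/
theorem exists_eq_C_mul_of_mul_eq [IsDomain R] (i j : σ) :
    ∀ (N M : ℕ) (a b : MvPolynomial σ R), a * b = X i ^ N * X j ^ M →
      ∃ (c : R) (p q : ℕ), IsUnit c ∧ a = C c * X i ^ p * X j ^ q := by
  intro N
  induction N with
  | zero =>
    intro M
    induction M with
    | zero =>
      intro a b hab
      rw [pow_zero, pow_zero, mul_one] at hab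
      have ha : IsUnit a := IsUnit.of_mul_eq_one b hab
      obtain ⟨r, hr, rfl⟩ := (MvPolynomial.isUnit_iff_eq_C_of_isReduced).mp ha
      exact ⟨r, 0, 0, hr, by simp⟩
    | succ M ih =>
      intro a b hab
      rw [pow_zero, one_mul] at hab
      have hdvd : X j ∣ a * b := ⟨X j ^ M, by rw [hab, pow_succ, mul_comm]⟩
      rcases (X_prime (R := R) (i := j)).dvd_or_dvd hdvd with ⟨a', rfl⟩ | ⟨b', rfl⟩
      · have h1 : a' * b = X i ^ 0 * X j ^ M := by
          rw [pow_zero, one_mul]
          have h2 : X j * (a' * b) = X j * X j ^ M := by rw [← mul_assoc, hab, pow_succ, mul_comm]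
          exact mul_left_cancel₀ (X_ne_zero j) h2
        obtain ⟨c, p, q, hc, rfl⟩ := ih a' b h1
        exact ⟨c, p, q + 1, hc, by ring⟩
      · have h1 : a * b' = X i ^ 0 * X j ^ M := by
          rw [pow_zero, one_mul]
          have h2 : X j * (a * b') = X j * X j ^ M := by
            rw [show X j * (a * b') = a * (X j * b') by ring, hab, pow_succ, mul_comm]
          exact mul_left_cancel₀ (X_ne_zero j) h2
        exact ih a b' h1
  | succ N ih =>
    intro M a b hab
    have hdvd : X i ∣ a * b := ⟨X i ^ N * X j ^ M, by rw [hab, pow_succ]; ring⟩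
    rcases (X_prime (R := R) (i := i)).dvd_or_dvd hdvd with ⟨a', rfl⟩ | ⟨b', rfl⟩
    · have h1 : a' * b = X i ^ N * X j ^ M := by
        have h2 : X i * (a' * b) = X i * (X i ^ N * X j ^ M) := by
          rw [← mul_assoc, hab, pow_succ]; ring
        exact mul_left_cancel₀ (X_ne_zero i) h2
      obtain ⟨c, p, q, hc, rfl⟩ := ih M a' b h1
      exact ⟨c, p + 1, q, hc, by ring⟩
    · have h1 : a * b' = X i ^ N * X j ^ M := by
        have h2 : X i * (a * b') = X i * (X i ^ N * X j ^ M) := by
          rw [show X i * (a * b') = a * (X i * b') by ring, hab, pow_succ]; ring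
        exact mul_left_cancel₀ (X_ne_zero i) h2
      exact ih M a b' h1

end Divisors

section Laurent
variable {σ : Type*} [Fintype σ] {R} [IsDomain R]

/-- the variable `x_l` in the fraction field -/
noncomputable def xx (l : σ) : FractionRing (MvPolynomial σ R) :=
  algebraMap (MvPolynomial σ R) (FractionRing (MvPolynomial σ R)) (X l)

theorem xx_ne_zero (l : σ) : (xx l : FractionRing (MvPolynomial σ R)) ≠ 0 := by
  unfold xx
  intro h
  rw [← map_zero (algebraMap (MvPolynomial σ R) (FractionRing (MvPolynomial σ R)))] at h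
  exact X_ne_zero l (IsFractionRing.injective _ _ h)

/-- Laurent monomials -/
noncomputable def mon (v : σ → ℤ) : FractionRing (MvPolynomial σ R) := ∏ l, xx l ^ v l

theorem mon_zero : (mon (0 : σ → ℤ) : FractionRing (MvPolynomial σ R)) = 1 := by
  simp [mon]

theorem mon_add (v w : σ → ℤ) :
    (mon (v + w) : FractionRing (MvPolynomial σ R)) = mon v * mon w := by
  unfold mon
  rw [← Finset.prod_mul_distrib]
  refine Finset.prod_congr rfl fun l _ => ?_
  rw [Pi.add_apply, zpow_add₀ (xx_ne_zero l)]

theorem mon_ne_zero (v : σ → ℤ) : (mon v : FractionRing (MvPolynomial σ R)) ≠ 0 := by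
  unfold mon
  exact Finset.prod_ne_zero_iff.mpr fun l _ => zpow_ne_zero _ (xx_ne_zero l)

theorem mon_neg (v : σ → ℤ) :
    (mon (-v) : FractionRing (MvPolynomial σ R)) = (mon v)⁻¹ := by
  have h := mon_add (R := R) v (-v)
  rw [add_neg_cancel, mon_zero] at h
  exact (eq_inv_of_mul_eq_one_right h.symm)

theorem mon_sub (v w : σ → ℤ) :
    (mon (v - w) : FractionRing (MvPolynomial σ R)) = mon v / mon w := by
  rw [sub_eq_add_neg, mon_add, mon_neg, div_eq_mul_inv]

theorem mon_zsmul (e : ℤ) (v : σ → ℤ) :
    (mon (e • v) : FractionRing (MvPolynomial σ R)) = mon v ^ e := by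
  unfold mon
  rw [← Finset.prod_zpow]
  refine Finset.prod_congr rfl fun l _ => ?_
  rw [Pi.smul_apply, smul_eq_mul, mul_comm, zpow_mul]

theorem mon_single [DecidableEq σ] (i : σ) (e : ℤ) :
    (mon (Pi.single i e) : FractionRing (MvPolynomial σ R)) = xx i ^ e := by
  unfold mon
  rw [Finset.prod_eq_single i]
  · rw [Pi.single_eq_same]
  · intro l _ hl
    rw [Pi.single_eq_of_ne hl, zpow_zero]
  · intro h; exact absurd (Finset.mem_univ i) h

theorem mon_natCast (m : σ → ℕ) :
    (mon (fun l => (m l : ℤ)) : FractionRing (MvPolynomial σ R)) =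
      algebraMap (MvPolynomial σ R) (FractionRing (MvPolynomial σ R)) (∏ l, X l ^ m l) := by
  unfold mon xx
  rw [map_prod]
  refine Finset.prod_congr rfl fun l _ => ?_
  rw [zpow_natCast, map_pow]

theorem C_mul_prod_eq_monomial (c : R) (m : σ → ℕ) :
    (C c * ∏ l, X l ^ m l : MvPolynomial σ R) = monomial (Finsupp.equivFunOnFinite.symm m) c := by
  rw [MvPolynomial.monomial_eq, Finsupp.prod_fintype _ _ (fun _ => pow_zero _)]
  rfl

/-- Laurent monomials with nonzero coefficients are independent -/
theorem laurent_independent (c c' : R) (hc : c ≠ 0) (v w : σ → ℤ)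
    (h : algebraMap (MvPolynomial σ R) (FractionRing (MvPolynomial σ R)) (C c) * mon v =
      algebraMap (MvPolynomial σ R) (FractionRing (MvPolynomial σ R)) (C c') * mon w) :
    v = w ∧ c = c' := by
  let p : σ → ℕ := fun l => (v l).toNat + (-w l).toNat
  let q : σ → ℕ := fun l => (w l).toNat + (-v l).toNat
  let z : σ → ℤ := fun l => ((-v l).toNat : ℤ) + ((-w l).toNat : ℤ)
  have hp : v + z = fun l => (p l : ℤ) := by
    funext l
    simp only [Pi.add_apply, z, p]
    push_cast
    omega
  have hq : w + z = fun l => (q l : ℤ) := by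
    funext l
    simp only [Pi.add_apply, z, q]
    push_cast
    omega
  have h1 := congrArg (fun t => t * (mon z : FractionRing (MvPolynomial σ R))) h
  simp only [mul_assoc] at h1
  rw [← mon_add, ← mon_add, hp, hq, mon_natCast, mon_natCast, ← map_mul, ← map_mul] at h1
  have h2 := IsFractionRing.injective (MvPolynomial σ R) (FractionRing (MvPolynomial σ R)) h1
  rw [C_mul_prod_eq_monomial, C_mul_prod_eq_monomial, MvPolynomial.monomial_eq_monomial_iff] at h2
  rcases h2 with ⟨h3, h4⟩ | ⟨h3, -⟩
  · refine ⟨?_, h4⟩
    funext l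
    have h5 := congrArg (fun f => f l) (Finsupp.equivFunOnFinite.symm.injective h3)
    simp only [p, q] at h5
    omega
  · exact absurd h3 hc

end Laurent

end Groth.Agent.Helper4.SN196
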