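import Mathlib
import Groth.Prelude.Def_CohB1
import Groth.Agent.Helper1.ProjO
import Groth.Agent.Helper1.RP12
import Groth.Agent.Helper4.SN196

set_option autoImplicit false
set_option linter.unusedSectionVars false
set_option linter.unusedVariables false

/-!
# Generic values of functions on `P^n_R`, `R` a domain
-/

namespace Groth.Agent.Helper4.SN197

open CategoryTheory AlgebraicGeometry TopologicalSpace Opposite MvPolynomial
open Groth.Agent.Helper1.GrT Groth.Agent.Helper1.ProjO Groth.Agent.Helper4.SN196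

universe u

section General
variable {R₀ A : Type u} [CommRing R₀] [CommRing A] [Algebra R₀ A] (𝒜 : ℕ → Submodule R₀ A)
  [GradedAlgebra 𝒜]

theorem notMem_of_mem_basicOpen_pow {f : A} (k : ℕ) (y : ProjectiveSpectrum.top 𝒜)
    (hy : y ∈ Proj.basicOpen 𝒜 f) : f ^ k ∉ y.asHomogeneousIdeal := by
  intro h
  have h1 : f ∈ y.asHomogeneousIdeal.toIdeal := y.isPrime.mem_of_pow_mem k h
  exact ((Proj.mem_basicOpen 𝒜 f y).mp hy) h1

/-- every function on `D₊(f)` is a fraction `a / f^k` -/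
theorem exists_frO_eq {f : A} {m : ℕ} (f_deg : f ∈ 𝒜 m) (hm : 0 < m)
    (s : Γ(Proj 𝒜, Proj.basicOpen 𝒜 f)) :
    ∃ (k : ℕ) (a : A) (ha : a ∈ 𝒜 (k • m)),
      s = frO 𝒜 (Proj.basicOpen 𝒜 f) a (f ^ k) ha (SetLike.pow_mem_graded k f_deg)
        (fun y hy => notMem_of_mem_basicOpen_pow 𝒜 k y hy) := by
  let iso := Proj.basicOpenIsoAway 𝒜 f f_deg hm
  obtain ⟨k, a, ha, hz⟩ := HomogeneousLocalization.Away.mk_surjective 𝒜 f_deg (iso.inv.hom s)
  refine ⟨k, a, ha, ?_⟩
  have h1 : s = (Proj.awayToSection 𝒜 f).hom (iso.inv.hom s) := by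
    have : iso.inv ≫ iso.hom = 𝟙 _ := iso.inv_hom_id
    have h2 := congrArg (fun φ => φ.hom s) this
    simp only [CommRingCat.hom_comp, RingHom.comp_apply, CommRingCat.hom_id, RingHom.id_apply] at h2
    exact h2.symm
  rw [h1, ← hz]
  apply O_ext
  intro y hy
  rw [evO_frO, evO_apply]
  rfl

end General

variable (n : ℕ) (R : Type u) [CommRing R] [IsDomain R]

local notation "𝒜" => CohB1.polyGrading n R
local notation "AA" => MvPolynomial (Fin (n + 1)) R
local notation "KK" => FractionRing (MvPolynomial (Fin (n + 1)) R)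

theorem X_mem (i : Fin (n + 1)) : (X i : AA) ∈ 𝒜 1 := MvPolynomial.isHomogeneous_X R i

theorem irrelevant_ne_bot : (HomogeneousIdeal.irrelevant 𝒜).toIdeal ≠ ⊥ := by
  intro h
  have h1 : (X 0 : AA) ∈ (HomogeneousIdeal.irrelevant 𝒜).toIdeal := by
    show (X 0 : AA) ∈ HomogeneousIdeal.irrelevant 𝒜
    rw [HomogeneousIdeal.mem_irrelevant_iff]
    rw [GradedRing.proj_apply, DirectSum.decompose_of_mem_ne 𝒜 (X_mem n R 0) one_ne_zero]
  rw [h] at h1
  exact X_ne_zero (0 : Fin (n + 1)) h1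

instance isIntegral_proj : IsIntegral (Proj 𝒜) :=
  Groth.Agent.Helper1.RP.isIntegral_proj 𝒜 (irrelevant_ne_bot n R)

/-- the generic point of `P^n_R` -/
noncomputable def gen : ProjectiveSpectrum 𝒜 where
  asHomogeneousIdeal := ⊥
  isPrime := by
    rw [HomogeneousIdeal.toIdeal_bot]
    exact Ideal.isPrime_bot
  not_irrelevant_le := by
    intro h
    apply irrelevant_ne_bot n R
    rw [le_bot_iff.mp h, HomogeneousIdeal.toIdeal_bot]

theorem notMem_gen {f : AA} (hf : f ≠ 0) : f ∉ (gen n R).asHomogeneousIdeal := by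
  intro h
  exact hf h

/-- the generic point as a point of the scheme -/
noncomputable def genP : Proj 𝒜 := gen n R

theorem genP_mem_basicOpen {f : AA} (hf : f ≠ 0) : genP n R ∈ Proj.basicOpen 𝒜 f := by
  rw [Proj.mem_basicOpen]
  exact notMem_gen n R hf

theorem isUnit_algebraMap_of_notMem (y : (gen n R).asHomogeneousIdeal.toIdeal.primeCompl) :
    IsUnit (algebraMap AA KK (y : AA)) := by
  have hy : (y : AA) ≠ 0 := fun h => y.2 (by rw [h]; exact Submodule.zero_mem _)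
  exact IsUnit.mk0 _ (fun h => hy (IsFractionRing.injective AA KK (by rw [h, map_zero])))

/-- `A_ξ → Frac A` -/
noncomputable def kap : Twist.Loc 𝒜 (gen n R) →+* KK :=
  IsLocalization.lift (M := (gen n R).asHomogeneousIdeal.toIdeal.primeCompl)
    (g := algebraMap AA KK) (isUnit_algebraMap_of_notMem n R)

theorem kap_mkO (a b : AA) (hb : b ∉ (gen n R).asHomogeneousIdeal) :
    kap n R (mkO (gen n R) a b hb) = algebraMap AA KK a / algebraMap AA KK b := by
  unfold kap mkO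
  rw [Localization.mk_eq_mk', IsLocalization.lift_mk'_spec]
  have hb0 : algebraMap AA KK b ≠ 0 :=
    (isUnit_algebraMap_of_notMem n R ⟨b, hb⟩).ne_zero
  field_simp

theorem kap_injective : Function.Injective (kap n R) := by
  rw [injective_iff_map_eq_zero]
  intro z hz
  induction z using Localization.induction_on with
  | H z =>
  obtain ⟨a, b⟩ := z
  have h1 : kap n R (mkO (gen n R) a b.1 b.2) = 0 := hz
  rw [kap_mkO] at h1
  have hb0 : algebraMap AA KK (b : AA) ≠ 0 :=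
    (isUnit_algebraMap_of_notMem n R b).ne_zero
  have h2 : algebraMap AA KK a = 0 := by
    rcases div_eq_zero_iff.mp h1 with h | h
    · exact h
    · exact absurd h hb0
  have h3 : a = 0 := IsFractionRing.injective AA KK (by rw [h2, map_zero])
  rw [h3]
  exact Localization.mk_zero _

/-- the generic value of a function -/
noncomputable def gv (W : (Proj 𝒜).Opens) (hW : genP n R ∈ W) : Γ(Proj 𝒜, W) →+* KK :=
  (kap n R).comp ((algebraMap (Twist.A0 𝒜 (gen n R)) (Twist.Loc 𝒜 (gen n R))).comp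
    (evO 𝒜 W (genP n R) hW))

theorem gv_apply (W : (Proj 𝒜).Opens) (hW : genP n R ∈ W) (c : Γ(Proj 𝒜, W)) :
    gv n R W hW c = kap n R (evO 𝒜 W (genP n R) hW c).val := rfl

theorem gv_res {W W' : (Proj 𝒜).Opens} (h : W' ≤ W) (hW' : genP n R ∈ W') (c : Γ(Proj 𝒜, W)) :
    gv n R W' hW' ((Proj 𝒜).presheaf.map (homOfLE h).op c) = gv n R W (h hW') c := by
  rw [gv_apply, gv_apply, evO_res]

theorem gv_frO (W : (Proj 𝒜).Opens) (hW : genP n R ∈ W) {i : ℕ} (a b : AA) (ha : a ∈ 𝒜 i)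
    (hb : b ∈ 𝒜 i) (hWb : ∀ y : ProjectiveSpectrum.top 𝒜, y ∈ W → b ∉ y.asHomogeneousIdeal) :
    gv n R W hW (frO 𝒜 W a b ha hb hWb) = algebraMap AA KK a / algebraMap AA KK b := by
  rw [gv_apply, evO_frO]
  exact kap_mkO n R a b _

theorem gv_injective (W : (Proj 𝒜).Opens) (hW : genP n R ∈ W) :
    Function.Injective (gv n R W hW) := by
  have h1 : Function.Injective (evO 𝒜 W (genP n R) hW) := by
    unfold evO
    intro a b hab
    have := (Proj.stalkIso' 𝒜 (genP n R)).injective hab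
    exact germ_injective_of_isIntegral (Proj 𝒜) (genP n R) hW this
  intro a b hab
  apply h1
  apply HomogeneousLocalization.val_injective
  exact kap_injective n R hab

theorem XX_mem (i j : Fin (n + 1)) : (X i * X j : AA) ∈ 𝒜 2 :=
  SetLike.mul_mem_graded (X_mem n R i) (X_mem n R j)

theorem XX_ne_zero (i j : Fin (n + 1)) : (X i * X j : AA) ≠ 0 :=
  mul_ne_zero (X_ne_zero i) (X_ne_zero j)

theorem algebraMap_ne_zero {a : AA} (ha : a ≠ 0) : algebraMap AA KK a ≠ 0 :=
  fun h => ha (IsFractionRing.injective AA KK (by rw [h, map_zero]))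

/-- the structure of the units of `Γ(D₊(x_i x_j), O)` -/
theorem unit_structure (i j : Fin (n + 1)) (W : (Proj 𝒜).Opens)
    (hW : Proj.basicOpen 𝒜 (X i * X j : AA) ≤ W) (hgen : genP n R ∈ W)
    (η : Γ(Proj 𝒜, W)) (hη : IsUnit η) :
    ∃ (c : R) (e : ℤ), IsUnit c ∧
      gv n R W hgen η = algebraMap AA KK (C c) * (xx i / xx j) ^ e := by
  classical
  obtain ⟨η', hη'⟩ := hη.exists_right_inv
  have hgD : genP n R ∈ Proj.basicOpen 𝒜 (X i * X j : AA) :=
    genP_mem_basicOpen n R (XX_ne_zero n R i j)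
  obtain ⟨k, a, ha, h1⟩ := exists_frO_eq 𝒜 (XX_mem n R i j) (by norm_num)
    ((Proj 𝒜).presheaf.map (homOfLE hW).op η)
  obtain ⟨l, b, hb, h2⟩ := exists_frO_eq 𝒜 (XX_mem n R i j) (by norm_num)
    ((Proj 𝒜).presheaf.map (homOfLE hW).op η')
  have e1 := gv_res n R hW hgD η
  have e2 := gv_res n R hW hgD η'
  rw [h1, gv_frO] at e1
  rw [h2, gv_frO] at e2
  have e3 : gv n R W hgen η * gv n R W hgen η' = 1 := by rw [← map_mul, hη', map_one]
  rw [← e1, ← e2] at e3
  have hf0 : algebraMap AA KK ((X i * X j : AA) ^ k) ≠ 0 :=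
    algebraMap_ne_zero n R (pow_ne_zero _ (XX_ne_zero n R i j))
  have hf0' : algebraMap AA KK ((X i * X j : AA) ^ l) ≠ 0 :=
    algebraMap_ne_zero n R (pow_ne_zero _ (XX_ne_zero n R i j))
  have e4 : a * b = X i ^ (k + l) * X j ^ (k + l) := by
    apply IsFractionRing.injective AA KK
    rw [← mul_pow, pow_add, map_mul, map_mul]
    field_simp at e3
    rw [e3]
  obtain ⟨c, p, q, hc, rfl⟩ := exists_eq_C_mul_of_mul_eq i j (k + l) (k + l) a b e4
  refine ⟨c, (p : ℤ) - k, hc, ?_⟩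
  have hc0 : c ≠ 0 := hc.ne_zero
  have hne : (C c * X i ^ p * X j ^ q : AA) ≠ 0 :=
    mul_ne_zero (mul_ne_zero (by rwa [Ne, C_eq_zero]) (pow_ne_zero _ (X_ne_zero i)))
      (pow_ne_zero _ (X_ne_zero j))
  have hdeg : k • 2 = 0 + p + q := by
    have hh : (C c * X i ^ p * X j ^ q : AA).IsHomogeneous (0 + p + q) :=
      ((isHomogeneous_C _ c).mul (isHomogeneous_X_pow i p)).mul (isHomogeneous_X_pow j q)
    exact IsHomogeneous.inj_right ha hh hne
  rw [← e1]
  have hxi : (xx i : KK) ≠ 0 := xx_ne_zero i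
  have hxj : (xx j : KK) ≠ 0 := xx_ne_zero j
  have hq : (q : ℤ) = (k : ℤ) - ((p : ℤ) - k) := by
    have : (k • 2 : ℕ) = 0 + p + q := hdeg
    simp only [smul_eq_mul] at this
    omega
  have hp : (p : ℤ) = (k : ℤ) + ((p : ℤ) - k) := by ring
  have h5 : algebraMap AA KK (C c * X i ^ p * X j ^ q) =
      algebraMap AA KK (C c) * (xx i ^ (k : ℤ) * xx i ^ ((p : ℤ) - k)) *
        (xx j ^ (k : ℤ) / xx j ^ ((p : ℤ) - k)) := by
    rw [map_mul, map_mul, map_pow, map_pow, ← zpow_add₀ hxi, ← zpow_sub₀ hxj, ← hp, ← hq,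
      zpow_natCast, zpow_natCast]
    rfl
  have h6 : algebraMap AA KK ((X i * X j : AA) ^ k) = xx i ^ (k : ℤ) * xx j ^ (k : ℤ) := by
    rw [map_pow, map_mul, mul_pow, zpow_natCast, zpow_natCast]
    rfl
  rw [h5, h6, div_zpow]
  have hz1 : (xx i : KK) ^ (k : ℤ) ≠ 0 := zpow_ne_zero _ hxi
  have hz2 : (xx j : KK) ^ (k : ℤ) ≠ 0 := zpow_ne_zero _ hxj
  have hz3 : (xx j : KK) ^ ((p : ℤ) - k) ≠ 0 := zpow_ne_zero _ hxj
  field_simp

end Groth.Agent.Helper4.SN197
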