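import Mathlib
import Groth.Prelude.Def_CohB1
import Groth.Agent.Helper1.TwistMul4
import Groth.Agent.Helper4.SN197

set_option autoImplicit false
set_option linter.unusedSectionVars false
set_option linter.unusedVariables false

/-!
# The standard frames of `O(d)` on `P^n_R` and their generic values
-/

namespace Groth.Agent.Helper4.SN199

open CategoryTheory AlgebraicGeometry TopologicalSpace Opposite MvPolynomial
open Groth.Agent.Helper1.GrT Groth.Agent.Helper1.ProjO Groth.Agent.Helper1.TwistMul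
open Groth.Agent.Helper4.SN196 Groth.Agent.Helper4.SN197

universe u

variable (n : ℕ) (R : Type u) [CommRing R] [IsDomain R]

local notation "𝒢" => CohB1.polyGrading n R
local notation "AA" => MvPolynomial (Fin (n + 1)) R
local notation "KK" => FractionRing (MvPolynomial (Fin (n + 1)) R)

/-- the generic value of a section of `A(d)~` -/
noncomputable def gvT (d : ℤ) (W : (Proj 𝒢).Opens) (hW : genP n R ∈ W)
    (s : Γ(GrTilde.tilde 𝒢 𝒢 d, W)) : KK :=
  kap n R (toLoc 𝒢 (gen n R) (val (𝒜 := 𝒢) (ℳ := 𝒢) (n := d) (U := W) s (gen n R) hW))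

theorem gvT_smul (d : ℤ) (W : (Proj 𝒢).Opens) (hW : genP n R ∈ W) (c : Γ(Proj 𝒢, W))
    (s : Γ(GrTilde.tilde 𝒢 𝒢 d, W)) :
    gvT n R d W hW (c • s) = gv n R W hW c * gvT n R d W hW s := by
  unfold gvT
  rw [gv_apply, ← map_mul]
  congr 1
  refine (congrArg (toLoc 𝒢 (gen n R)) (val_smul 𝒢 𝒢 d W c s (genP n R) hW)).trans ?_
  exact toLoc_smul 𝒢 (gen n R) _ _

theorem gvT_res (d : ℤ) {W W' : (Proj 𝒢).Opens} (h : W' ≤ W) (hW' : genP n R ∈ W')
    (s : Γ(GrTilde.tilde 𝒢 𝒢 d, W)) :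
    gvT n R d W' hW' ((GrTilde.tilde 𝒢 𝒢 d).presheaf.map (homOfLE h).op s) =
      gvT n R d W (h hW') s := rfl

theorem Xpow_mem (i : Fin (n + 1)) (p : ℕ) : (X i ^ p : AA) ∈ 𝒢 p :=
  isHomogeneous_X_pow i p

/-- the standard invertible section `x_i^p / x_i^q` of `A(d)~` over `D₊(x_i)`, `d = p - q` -/
noncomputable def stdPair (d : ℤ) (i : Fin (n + 1)) (p q : ℕ) (hpq : (p : ℤ) = q + d) :
    InvPair 𝒢 d (Proj.basicOpen 𝒢 (X i : AA)) :=
  InvPair.ofFrac 𝒢 d _ (X i ^ p) (X i ^ q) (Xpow_mem n R i p) (Xpow_mem n R i q) hpq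
    (fun y hy => notMem_of_mem_basicOpen_pow 𝒢 p y hy)
    (fun y hy => notMem_of_mem_basicOpen_pow 𝒢 q y hy)

theorem gvT_stdPair (d : ℤ) (i : Fin (n + 1)) (p q : ℕ) (hpq : (p : ℤ) = q + d)
    (hW : genP n R ∈ Proj.basicOpen 𝒢 (X i : AA)) :
    gvT n R d _ hW (stdPair n R d i p q hpq).eΓ = xx i ^ d := by
  have h1 : gvT n R d _ hW (stdPair n R d i p q hpq).eΓ =
      kap n R (mkO (gen n R) (X i ^ p) (X i ^ q)
        (notMem_of_mem_basicOpen_pow 𝒢 q (gen n R) hW)) := rfl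
  rw [h1, kap_mkO, map_pow, map_pow]
  have hx : (xx i : KK) ≠ 0 := xx_ne_zero i
  have h2 : d = (p : ℤ) - q := by omega
  rw [h2, zpow_sub₀ hx, zpow_natCast, zpow_natCast]
  rfl

end Groth.Agent.Helper4.SN199
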