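import Mathlib
import Groth.Agent.Helper4.TwistExt
import Groth.Agent.Helper4.QcohExt

set_option autoImplicit false
set_option linter.unusedSectionVars false
set_option linter.unusedVariables false

/-!
# Coordinates with respect to a frame
-/

namespace Groth.Agent.Helper4.SN200

open CategoryTheory CategoryTheory.Limits AlgebraicGeometry TopologicalSpace Opposite
open Groth.Agent.Helper4.TwistExt

universe u

variable {X : Scheme.{u}}

theorem map_map (L : X.Modules) {T V W : X.Opens} (h1 : V ≤ T) (h2 : W ≤ V) (m : Γ(L, T)) :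
    L.presheaf.map (homOfLE h2).op (L.presheaf.map (homOfLE h1).op m) =
      L.presheaf.map (homOfLE (h2.trans h1)).op m := by
  rw [← ConcreteCategory.comp_apply, ← Functor.map_comp]
  rfl

theorem mapO_map {T V W : X.Opens} (h1 : V ≤ T) (h2 : W ≤ V) (r : Γ(X, T)) :
    X.presheaf.map (homOfLE h2).op (X.presheaf.map (homOfLE h1).op r) =
      X.presheaf.map (homOfLE (h2.trans h1)).op r := by
  rw [← ConcreteCategory.comp_apply, ← Functor.map_comp]
  rfl

theorem bijective_of_isFrame (L : X.Modules) (T : X.Opens) (e : Γ(L, T))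
    (h : IsFrame L T e) (V : X.Opens) (hV : V ≤ T) :
    Function.Bijective (fun r : Γ(X, V) => r • L.presheaf.map (homOfLE hV).op e) := by
  obtain ⟨h1, h2⟩ := h V hV
  constructor
  · intro r r' hrr
    have : (r - r') • L.presheaf.map (homOfLE hV).op e = 0 := by
      rw [sub_smul]; exact sub_eq_zero.mpr hrr
    exact sub_eq_zero.mp (h2 _ this)
  · intro m
    obtain ⟨r, hr⟩ := h1 m
    exact ⟨r, hr.symm⟩

theorem isFrame_of_bijective (L : X.Modules) (T : X.Opens) (e : Γ(L, T))
    (h : ∀ (V : X.Opens) (hV : V ≤ T),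
      Function.Bijective (fun r : Γ(X, V) => r • L.presheaf.map (homOfLE hV).op e)) :
    IsFrame L T e := by
  intro V hV
  obtain ⟨h1, h2⟩ := h V hV
  refine ⟨fun m => ?_, fun r hr => ?_⟩
  · obtain ⟨r, hr⟩ := h2 m
    exact ⟨r, hr.symm⟩
  · apply h1
    show r • _ = (0 : Γ(X, V)) • _
    rw [hr, zero_smul]

section Coord
variable {L : X.Modules} {T : X.Opens} {e : Γ(L, T)} (he : IsFrame L T e)

/-- the coordinate of a section with respect to a frame -/
noncomputable def coord {W : X.Opens} (hW : W ≤ T) (m : Γ(L, W)) : Γ(X, W) :=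
  Classical.choose ((he W hW).1 m)

theorem coord_spec {W : X.Opens} (hW : W ≤ T) (m : Γ(L, W)) :
    m = coord he hW m • L.presheaf.map (homOfLE hW).op e :=
  Classical.choose_spec ((he W hW).1 m)

theorem coord_unique {W : X.Opens} (hW : W ≤ T) (m : Γ(L, W)) (r : Γ(X, W))
    (h : m = r • L.presheaf.map (homOfLE hW).op e) : r = coord he hW m := by
  exact (bijective_of_isFrame L T e he W hW).1 (h.symm.trans (coord_spec he hW m))

theorem coord_smul {W : X.Opens} (hW : W ≤ T) (r : Γ(X, W)) (m : Γ(L, W)) :
    coord he hW (r • m) = r * coord he hW m := by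
  symm
  apply coord_unique
  rw [mul_smul, ← coord_spec]

theorem coord_res {W W' : X.Opens} (hW : W ≤ T) (h : W' ≤ W) (m : Γ(L, W)) :
    coord he (h.trans hW) (L.presheaf.map (homOfLE h).op m) =
      X.presheaf.map (homOfLE h).op (coord he hW m) := by
  symm
  apply coord_unique
  have h1 := congrArg (L.presheaf.map (homOfLE h).op) (coord_spec he hW m)
  rw [Groth.Agent.Helper4.QcohExt.res_smul, map_map] at h1
  exact h1

theorem coord_self {W : X.Opens} (hW : W ≤ T) :
    coord he hW (L.presheaf.map (homOfLE hW).op e) = 1 := by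
  symm
  apply coord_unique
  rw [one_smul]

end Coord

end Groth.Agent.Helper4.SN200
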