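import Mathlib
import Groth.Agent.Helper4.SN196

set_option autoImplicit false
set_option linter.unusedSectionVars false
set_option linter.unusedVariables false

/-!
# Cocycles of Laurent monomials are coboundaries of twists
-/

namespace Groth.Agent.Helper4.SN201

open MvPolynomial Groth.Agent.Helper4.SN196

universe u

variable {n : ℕ} {R : Type u} [CommRing R] [IsDomain R]

local notation "AA" => MvPolynomial (Fin (n + 1)) R
local notation "KK" => FractionRing (MvPolynomial (Fin (n + 1)) R)

/-- the exponent vector of `x_a / x_b` -/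
def dv (a b : Fin (n + 1)) : Fin (n + 1) → ℤ := Pi.single a 1 - Pi.single b 1

theorem div_zpow_eq_mon (a b : Fin (n + 1)) (e : ℤ) :
    ((xx a / xx b) ^ e : KK) = mon (e • dv a b) := by
  rw [mon_zsmul, dv, mon_sub, mon_single, mon_single, zpow_one, zpow_one]

theorem algebraMap_C_ne_zero {c : R} (hc : c ≠ 0) : algebraMap AA KK (C c) ≠ 0 := by
  intro h
  have := IsFractionRing.injective AA KK (h.trans (map_zero _).symm)
  exact hc (C_eq_zero.mp this)

theorem exists_twist_cocycle (g : Fin (n + 1) → Fin (n + 1) → KK)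
    (hcoc : ∀ i j k, g i k = g i j * g j k) (hone : ∀ i, g i i = 1)
    (hstr : ∀ i j, ∃ (c : R) (e : ℤ), IsUnit c ∧
      g i j = algebraMap AA KK (C c) * (xx i / xx j) ^ e) :
    ∃ (d : ℤ) (c : Fin (n + 1) → Rˣ), ∀ i j,
      (xx i / xx j) ^ d * algebraMap AA KK (C (c i : R)) =
        algebraMap AA KK (C (c j : R)) * g i j := by
  classical
  choose cc ee hcu hg using hstr
  let o : Fin (n + 1) := 0
  have key : ∀ i j, i ≠ o → j ≠ o → i ≠ j → ee i o = ee j o := by
    intro i j hi hj hij
    have h1 := hcoc i j o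
    rw [hg i o, hg i j, hg j o, div_zpow_eq_mon, div_zpow_eq_mon, div_zpow_eq_mon] at h1
    have h2 : algebraMap AA KK (C (cc i o)) * mon (ee i o • dv i o) =
        algebraMap AA KK (C (cc i j * cc j o)) * mon (ee i j • dv i j + ee j o • dv j o) := by
      rw [h1, mon_add, C_mul, map_mul]; ring
    obtain ⟨h3, -⟩ := laurent_independent _ _ (hcu i o).ne_zero _ _ h2
    have h4 := congrFun h3 o
    simp only [dv, Pi.add_apply, Pi.smul_apply, Pi.sub_apply, smul_eq_mul,
      Pi.single_eq_same, Pi.single_eq_of_ne (Ne.symm hi), Pi.single_eq_of_ne (Ne.symm hj)] at h4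
    linarith
  let d : ℤ := if h : ∃ i : Fin (n + 1), i ≠ o then ee (Classical.choose h) o else 0
  have hd : ∀ i, i ≠ o → ee i o = d := by
    intro i hi
    have h : ∃ i : Fin (n + 1), i ≠ o := ⟨i, hi⟩
    have hd' : d = ee (Classical.choose h) o := dif_pos h
    rw [hd']
    by_cases h1 : i = Classical.choose h
    · rw [← h1]
    · exact key i _ hi (Classical.choose_spec h) h1
  have hgo : ∀ i, g i o = algebraMap AA KK (C (cc i o)) * (xx i / xx o) ^ d := by
    intro i
    by_cases hi : i = o
    · rw [hi]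
      have h1 := hg o o
      rw [div_self (xx_ne_zero o), one_zpow] at h1 ⊢
      exact h1
    · rw [hg i o, hd i hi]
  refine ⟨d, fun i => (hcu i o).unit, fun i j => ?_⟩
  have h1 := hcoc i j o
  rw [hgo i, hgo j] at h1
  have hcj : algebraMap AA KK (C (cc j o)) ≠ 0 := algebraMap_C_ne_zero (hcu j o).ne_zero
  have hxi : (xx i : KK) ^ d ≠ 0 := zpow_ne_zero _ (xx_ne_zero i)
  have hxj : (xx j : KK) ^ d ≠ 0 := zpow_ne_zero _ (xx_ne_zero j)
  have hxo : (xx o : KK) ^ d ≠ 0 := zpow_ne_zero _ (xx_ne_zero o)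
  rw [div_zpow, div_zpow] at h1
  rw [div_zpow]
  simp only [IsUnit.unit_spec]
  have h2 : g i j = (algebraMap AA KK (C (cc i o)) * (xx i ^ d / xx o ^ d)) /
      (algebraMap AA KK (C (cc j o)) * (xx j ^ d / xx o ^ d)) := by
    rw [h1]
    field_simp
  rw [h2]
  field_simp

end Groth.Agent.Helper4.SN201
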