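import Mathlib
import Groth.Agent.S10964
import Groth.Agent.Helper1.TwistIso
import Groth.Agent.Helper3.ProjSmooth
import Groth.Agent.Helper4.SN198
import Groth.Agent.Helper4.SN199
import Groth.Agent.Helper4.SN200
import Groth.Agent.Helper4.SN201

set_option autoImplicit false
set_option linter.unusedSectionVars false
set_option linter.unusedVariables false
set_option linter.style.haveILetI false

/-!
# Invertible modules on `P^n_R`, `R` a UFD, are twists
-/

namespace Groth.Agent.Helper4.SN202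

open CategoryTheory AlgebraicGeometry TopologicalSpace Opposite MvPolynomial
open Groth.Agent.Helper1.GrT Groth.Agent.Helper1.ProjO Groth.Agent.Helper1.TwistMul
open Groth.Agent.Helper4.SN196 Groth.Agent.Helper4.SN197 Groth.Agent.Helper4.SN198
  Groth.Agent.Helper4.SN199 Groth.Agent.Helper4.SN200 Groth.Agent.Helper4.SN201
  Groth.Agent.Helper4.TwistExt

universe u

variable (n : ℕ) (R : Type u) [CommRing R] [IsDomain R]

local notation "𝒢" => CohB1.polyGrading n R
local notation "AA" => MvPolynomial (Fin (n + 1)) R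
local notation "KK" => FractionRing (MvPolynomial (Fin (n + 1)) R)

/-- the standard open cover, indexed in universe `u` -/
noncomputable def UU (k : ULift.{u} (Fin (n + 1))) : (Proj 𝒢).Opens := Proj.basicOpen 𝒢 (X k.down : AA)

theorem iSup_UU : iSup (UU n R) = ⊤ := by
  have h := Proj.iSup_basicOpen_eq_top 𝒢 (fun i : Fin (n + 1) => (X i : AA))
    (Groth.Agent.Helper3.ProjSmooth.irrelevant_le_span n R)
  rw [eq_top_iff] at h ⊢
  intro x hx
  obtain ⟨i, hi⟩ := Opens.mem_iSup.mp (h hx)
  exact Opens.mem_iSup.mpr ⟨⟨i⟩, hi⟩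

theorem genP_mem_UU (k : ULift.{u} (Fin (n + 1))) : genP n R ∈ UU n R k :=
  genP_mem_basicOpen n R (X_ne_zero _)

theorem genP_mem_inf (i j : ULift.{u} (Fin (n + 1))) : genP n R ∈ UU n R i ⊓ UU n R j :=
  ⟨genP_mem_UU n R i, genP_mem_UU n R j⟩

theorem basicOpen_mul_le (i j : ULift.{u} (Fin (n + 1))) :
    Proj.basicOpen 𝒢 (X i.down * X j.down : AA) ≤ UU n R i ⊓ UU n R j :=
  (Proj.basicOpen_mul 𝒢 _ _).le

theorem isAffineOpen_UU (k : ULift.{u} (Fin (n + 1))) : IsAffineOpen (UU n R k) :=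
  Proj.isAffineOpen_basicOpen 𝒢 (X k.down : AA) (X_mem n R k.down) one_pos

theorem subsingleton_pic_UU [UniqueFactorizationMonoid R] (k : ULift.{u} (Fin (n + 1))) :
    Subsingleton (CommRing.Pic Γ(Proj 𝒢, UU n R k)) := by
  let iso := Proj.basicOpenIsoAway 𝒢 (X k.down : AA) (X_mem n R k.down) one_pos
  haveI := subsingleton_pic_away n R k.down
  refine subsingleton_pic_of_retract iso.inv.hom iso.hom.hom (fun a => ?_)
  have : iso.inv ≫ iso.hom = 𝟙 _ := iso.inv_hom_id
  have h2 := congrArg (fun φ => φ.hom a) this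
  simp only [CommRingCat.hom_comp, RingHom.comp_apply, CommRingCat.hom_id, RingHom.id_apply] at h2
  exact h2

section Const

/-- constant functions -/
noncomputable def constO (c : R) (W : (Proj 𝒢).Opens) : Γ(Proj 𝒢, W) :=
  frO 𝒢 W (C c) 1 (isHomogeneous_C _ c) (isHomogeneous_one _ _)
    (fun y _ h => y.isPrime.ne_top ((Ideal.eq_top_iff_one _).mpr h))

theorem constO_mul (c c' : R) (W : (Proj 𝒢).Opens) :
    constO n R c W * constO n R c' W = constO n R (c * c') W := by
  unfold constO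
  rw [frO_mul]
  apply frO_eq_of
  rw [C_mul]
  ring

theorem constO_one (W : (Proj 𝒢).Opens) : constO n R 1 W = 1 := by
  unfold constO
  have : (C (1 : R) : AA) = 1 := C_1
  simp only [this]
  exact frO_self 𝒢 W 1 _ _

theorem gv_constO (c : R) (W : (Proj 𝒢).Opens) (hW : genP n R ∈ W) :
    gv n R W hW (constO n R c W) = algebraMap AA KK (C c) := by
  unfold constO
  rw [gv_frO, map_one, div_one]

/-- constant units -/
noncomputable def constUnit (c : Rˣ) (W : (Proj 𝒢).Opens) : (Γ(Proj 𝒢, W))ˣ where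
  val := constO n R c W
  inv := constO n R (↑c⁻¹ : R) W
  val_inv := by rw [constO_mul, Units.mul_inv, constO_one]
  inv_val := by rw [constO_mul, Units.inv_mul, constO_one]

end Const

section Cocycle
variable {n R}
variable {L : Scheme.Modules (Proj (CohB1.polyGrading n R))} (t : ∀ k, Γ(L, UU n R k)) (ht : ∀ k, IsFrame L (UU n R k) (t k))

/-- the transition functions of a family of frames -/
noncomputable def eta (i j : ULift.{u} (Fin (n + 1))) : Γ(Proj 𝒢, UU n R i ⊓ UU n R j) :=
  coord (ht j) inf_le_right (L.presheaf.map (homOfLE inf_le_left).op (t i))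

theorem eta_spec (i j : ULift.{u} (Fin (n + 1))) :
    L.presheaf.map (homOfLE (inf_le_left : UU n R i ⊓ UU n R j ≤ UU n R i)).op (t i) =
      eta t ht i j • L.presheaf.map (homOfLE (inf_le_right : UU n R i ⊓ UU n R j ≤ UU n R j)).op
        (t j) :=
  coord_spec (ht j) inf_le_right _

/-- the generic values of the transition functions -/
noncomputable def gK (i j : ULift.{u} (Fin (n + 1))) : KK :=
  gv n R (UU n R i ⊓ UU n R j) (genP_mem_inf n R i j) (eta t ht i j)

theorem gK_eq (a b : ULift.{u} (Fin (n + 1))) (W : (Proj 𝒢).Opens)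
    (h : W ≤ UU n R a ⊓ UU n R b) (hξ : genP n R ∈ W) :
    gv n R W hξ (coord (ht b) (h.trans inf_le_right)
      (L.presheaf.map (homOfLE (h.trans inf_le_left)).op (t a))) = gK t ht a b := by
  have h1 := coord_res (ht b) (inf_le_right : UU n R a ⊓ UU n R b ≤ UU n R b) h
    (L.presheaf.map (homOfLE inf_le_left).op (t a))
  rw [map_map] at h1
  rw [h1, gv_res]
  rfl

theorem gK_one (i : ULift.{u} (Fin (n + 1))) : gK t ht i i = 1 := by
  unfold gK eta
  have h1 := coord_self (ht i) (inf_le_right : UU n R i ⊓ UU n R i ≤ UU n R i)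
  have h2 : coord (ht i) (inf_le_right : UU n R i ⊓ UU n R i ≤ UU n R i)
      (L.presheaf.map (homOfLE (inf_le_left : UU n R i ⊓ UU n R i ≤ UU n R i)).op (t i)) = 1 := h1
  rw [h2, map_one]

theorem gK_coc (i j k : ULift.{u} (Fin (n + 1))) : gK t ht i k = gK t ht i j * gK t ht j k := by
  let W : (Proj 𝒢).Opens := UU n R i ⊓ UU n R j ⊓ UU n R k
  have hξ : genP n R ∈ W := ⟨genP_mem_inf n R i j, genP_mem_UU n R k⟩
  have hWi : W ≤ UU n R i := inf_le_left.trans inf_le_left
  have hWj : W ≤ UU n R j := inf_le_left.trans inf_le_right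
  have hWk : W ≤ UU n R k := inf_le_right
  have hik : W ≤ UU n R i ⊓ UU n R k := le_inf hWi hWk
  have hij : W ≤ UU n R i ⊓ UU n R j := le_inf hWi hWj
  have hjk : W ≤ UU n R j ⊓ UU n R k := le_inf hWj hWk
  have e1 := gK_eq t ht i k W hik hξ
  have e2 := gK_eq t ht i j W hij hξ
  have e3 := gK_eq t ht j k W hjk hξ
  rw [← e1, ← e2, ← e3, ← map_mul]
  congr 1
  have h1 := coord_spec (ht j) hWj (L.presheaf.map (homOfLE hWi).op (t i))
  have h2 := congrArg (coord (ht k) hWk) h1
  rw [coord_smul] at h2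
  exact h2

theorem isUnit_eta (i j : ULift.{u} (Fin (n + 1))) : IsUnit (eta t ht i j) := by
  have hle : UU n R i ⊓ UU n R j ≤ UU n R j ⊓ UU n R i := (inf_comm _ _).le
  refine IsUnit.of_mul_eq_one ((Proj 𝒢).presheaf.map (homOfLE hle).op (eta t ht j i)) ?_
  apply gv_injective n R _ (genP_mem_inf n R i j)
  rw [map_mul, map_one, gv_res]
  have h1 : gK t ht i i = gK t ht i j * gK t ht j i := gK_coc t ht i j i
  rw [gK_one] at h1
  exact h1.symm

theorem gK_structure (i j : ULift.{u} (Fin (n + 1))) :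
    ∃ (c : R) (e : ℤ), IsUnit c ∧
      gK t ht i j = algebraMap AA KK (C c) * (xx i.down / xx j.down) ^ e :=
  unit_structure n R i.down j.down (UU n R i ⊓ UU n R j) (basicOpen_mul_le n R i j)
    (genP_mem_inf n R i j) (eta t ht i j) (isUnit_eta t ht i j)

end Cocycle

section Main

/-- the standard frames of `A(d)~` -/
noncomputable def sT (d : ℤ) (k : ULift.{u} (Fin (n + 1))) :
    Γ(GrTilde.tilde 𝒢 𝒢 d, UU n R k) :=
  (stdPair n R d k.down d.toNat (-d).toNat (by omega)).eΓ

theorem isFrame_sT (d : ℤ) (k : ULift.{u} (Fin (n + 1))) :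
    IsFrame (GrTilde.tilde 𝒢 𝒢 d) (UU n R k) (sT n R d k) := by
  apply isFrame_of_bijective
  intro V hV
  exact ((stdPair n R d k.down d.toNat (-d).toNat (by omega)).res hV).smul_bijective

theorem gK_sT (d : ℤ) (i j : ULift.{u} (Fin (n + 1))) :
    gK (sT n R d) (isFrame_sT n R d) i j = (xx i.down / xx j.down) ^ d := by
  have h1 := eta_spec (sT n R d) (isFrame_sT n R d) i j
  have h2 := congrArg (gvT n R d (UU n R i ⊓ UU n R j) (genP_mem_inf n R i j)) h1
  rw [gvT_smul, gvT_res, gvT_res] at h2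
  have h3 : gvT n R d (UU n R i) (genP_mem_UU n R i) (sT n R d i) = xx i.down ^ d :=
    gvT_stdPair n R d i.down _ _ _ _
  have h4 : gvT n R d (UU n R j) (genP_mem_UU n R j) (sT n R d j) = xx j.down ^ d :=
    gvT_stdPair n R d j.down _ _ _ _
  have h5 : xx i.down ^ d = gK (sT n R d) (isFrame_sT n R d) i j * xx j.down ^ d := by
    rw [← h3, ← h4]; exact h2
  have hxj : (xx j.down : KK) ^ d ≠ 0 := zpow_ne_zero _ (xx_ne_zero _)
  rw [div_zpow, h5]
  field_simp

variable [UniqueFactorizationMonoid R]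

theorem exists_frames (L : Scheme.Modules (Proj (CohB1.polyGrading n R)))
    (hL : PicF.IsInvertible L) :
    ∃ t : ∀ k, Γ(L, UU n R k), ∀ k, IsFrame L (UU n R k) (t k) := by
  have h : ∀ k, ∃ e : Γ(L, UU n R k), IsFrame L (UU n R k) e := fun k => by
    haveI := subsingleton_pic_UU n R k
    exact exists_isFrame_of_affine L hL (isAffineOpen_UU n R k)
  choose t ht using h
  exact ⟨t, ht⟩

theorem exists_iso_tilde (L : Scheme.Modules (Proj (CohB1.polyGrading n R)))
    (hL : PicF.IsInvertible L) :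
    ∃ d : ℤ, Nonempty (L ≅ GrTilde.tilde 𝒢 𝒢 d) := by
  obtain ⟨t, ht⟩ := exists_frames n R L hL
  obtain ⟨d, c, hc⟩ := exists_twist_cocycle (fun i j => gK t ht ⟨i⟩ ⟨j⟩)
    (fun i j k => gK_coc t ht ⟨i⟩ ⟨j⟩ ⟨k⟩) (fun i => gK_one t ht ⟨i⟩)
    (fun i j => gK_structure t ht ⟨i⟩ ⟨j⟩)
  refine ⟨d, ?_⟩
  refine (Groth.Agent.S10964.result (Proj 𝒢) (UU n R) (iSup_UU n R) L (GrTilde.tilde 𝒢 𝒢 d) t
    (sT n R d)
    (fun k V h => bijective_of_isFrame L _ _ (ht k) V h)
    (fun k V h => bijective_of_isFrame _ _ _ (isFrame_sT n R d k) V h)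
    (eta t ht) (eta (sT n R d) (isFrame_sT n R d)) (eta_spec t ht)
    (eta_spec (sT n R d) (isFrame_sT n R d))).mpr ?_
  refine ⟨fun k => constUnit n R (c k.down) (UU n R k), fun i j => ?_⟩
  apply gv_injective n R _ (genP_mem_inf n R i j)
  rw [map_mul, map_mul, gv_res, gv_res]
  show gK (sT n R d) (isFrame_sT n R d) i j *
      gv n R (UU n R i) (genP_mem_UU n R i) (constO n R (c i.down) (UU n R i)) =
    gv n R (UU n R j) (genP_mem_UU n R j) (constO n R (c j.down) (UU n R j)) * gK t ht i j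
  rw [gK_sT, gv_constO, gv_constO]
  exact hc i.down j.down

end Main

end Groth.Agent.Helper4.SN202
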