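import Mathlib
import Groth.Agent.Helper4.SN202

set_option autoImplicit false
set_option linter.unusedSectionVars false
set_option linter.unusedVariables false
set_option linter.style.haveILetI false

/-!
# `O(d) ≅ O(d')` on `P^n_R`, `n ≥ 1`, forces `d = d'`
-/

namespace Groth.Agent.Helper4.SN203

open CategoryTheory AlgebraicGeometry TopologicalSpace Opposite MvPolynomial
open Groth.Agent.Helper1.GrT Groth.Agent.Helper1.ProjO Groth.Agent.Helper1.TwistMul
open Groth.Agent.Helper4.SN196 Groth.Agent.Helper4.SN197 Groth.Agent.Helper4.SN198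
  Groth.Agent.Helper4.SN199 Groth.Agent.Helper4.SN200 Groth.Agent.Helper4.SN201
  Groth.Agent.Helper4.SN202 Groth.Agent.Helper4.TwistExt

universe u

variable (n : ℕ) (R : Type u) [CommRing R] [IsDomain R]

local notation "𝒢" => CohB1.polyGrading n R
local notation "AA" => MvPolynomial (Fin (n + 1)) R
local notation "KK" => FractionRing (MvPolynomial (Fin (n + 1)) R)

theorem gv_unit_UU (k : ULift.{u} (Fin (n + 1))) (w : (Γ(Proj 𝒢, UU n R k))ˣ) :
    ∃ c : R, IsUnit c ∧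
      gv n R (UU n R k) (genP_mem_UU n R k) (w : Γ(Proj 𝒢, UU n R k)) = algebraMap AA KK (C c) := by
  have hle : Proj.basicOpen 𝒢 (X k.down * X k.down : AA) ≤ UU n R k :=
    (basicOpen_mul_le n R k k).trans inf_le_left
  obtain ⟨c, e, hc, h⟩ := unit_structure n R k.down k.down (UU n R k) hle (genP_mem_UU n R k)
    (w : Γ(Proj 𝒢, UU n R k)) w.isUnit
  refine ⟨c, hc, ?_⟩
  rw [h, div_self (xx_ne_zero _), one_zpow, mul_one]

theorem twist_iso_unique (hn : 1 ≤ n) (d d' : ℤ)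
    (e : GrTilde.tilde 𝒢 𝒢 d ≅ GrTilde.tilde 𝒢 𝒢 d') : d = d' := by
  obtain ⟨w, hw⟩ := (Groth.Agent.S10964.result (Proj 𝒢) (UU n R) (iSup_UU n R)
    (GrTilde.tilde 𝒢 𝒢 d) (GrTilde.tilde 𝒢 𝒢 d') (sT n R d) (sT n R d')
    (fun k V h => bijective_of_isFrame _ _ _ (isFrame_sT n R d k) V h)
    (fun k V h => bijective_of_isFrame _ _ _ (isFrame_sT n R d' k) V h)
    (eta (sT n R d) (isFrame_sT n R d)) (eta (sT n R d') (isFrame_sT n R d'))
    (eta_spec (sT n R d) (isFrame_sT n R d))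
    (eta_spec (sT n R d') (isFrame_sT n R d'))).mp ⟨e⟩
  let i : ULift.{u} (Fin (n + 1)) := ⟨0⟩
  let j : ULift.{u} (Fin (n + 1)) := ⟨Fin.last n⟩
  have hij : (0 : Fin (n + 1)) ≠ Fin.last n := by
    intro h
    have := congrArg Fin.val h
    simp at this
    omega
  have h1 := congrArg (gv n R (UU n R i ⊓ UU n R j) (genP_mem_inf n R i j)) (hw i j)
  rw [map_mul, map_mul, gv_res, gv_res] at h1
  obtain ⟨ci, hci, hi⟩ := gv_unit_UU n R i (w i)
  obtain ⟨cj, hcj, hj⟩ := gv_unit_UU n R j (w j)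
  have h2 : gK (sT n R d') (isFrame_sT n R d') i j *
      gv n R (UU n R i) (genP_mem_UU n R i) ((w i : Γ(Proj 𝒢, UU n R i))) =
    gv n R (UU n R j) (genP_mem_UU n R j) ((w j : Γ(Proj 𝒢, UU n R j))) *
      gK (sT n R d) (isFrame_sT n R d) i j := h1
  rw [gK_sT, gK_sT, hi, hj, div_zpow_eq_mon, div_zpow_eq_mon] at h2
  have h3 : algebraMap AA KK (C ci) * mon (d' • dv (0 : Fin (n + 1)) (Fin.last n)) =
      algebraMap AA KK (C cj) * mon (d • dv (0 : Fin (n + 1)) (Fin.last n)) := by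
    rw [mul_comm]; exact h2
  obtain ⟨h4, -⟩ := laurent_independent _ _ hci.ne_zero _ _ h3
  have h5 := congrFun h4 (0 : Fin (n + 1))
  simp only [dv, Pi.smul_apply, Pi.sub_apply, smul_eq_mul, Pi.single_eq_same,
    Pi.single_eq_of_ne hij, sub_zero, mul_one] at h5
  exact h5.symm

end Groth.Agent.Helper4.SN203
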