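import Mathlib
import Groth.Agent.Helper4.SN213
import Groth.Agent.Helper4.SN208
import Groth.Agent.S1697
import Groth.Agent.S10960
import Groth.Agent.Helper4.SN214
import Groth.Agent.S0012

set_option autoImplicit false
set_option linter.unusedSectionVars false
set_option linter.style.haveILetI false

/-!
# SN238: the fibre of `P^r_Y ⟶ Y` at a point `y` is `P^r_{κ(y)}`, compatibly with the twists
-/

namespace Groth.Agent.Helper4.SN238

open CategoryTheory Limits AlgebraicGeometry TopologicalSpace Opposite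
open Groth.Agent.Helper1.ProjBC Groth.Agent.Helper1.PSB Groth.Agent.Helper4.SN208

universe u

variable (r : ℕ) (Y : Scheme.{u}) (y : Y)

/-- the residue field as a type -/
abbrev κ : Type u := Y.residueField y

/-- the ring map `ℤ → κ(y)` -/
noncomputable abbrev φκ : ULift.{u} ℤ →+* κ Y y :=
  (Int.castRingHom (κ Y y)).comp (ULift.ringEquiv : ULift.{u} ℤ ≃+* ℤ).toRingHom

/-- the projection -/
noncomputable abbrev ff : CohB1.ProjSpaceOver r Y ⟶ Y := CohB1.ProjSpaceOver.toBase r Y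

theorem isPullback_fiber :
    IsPullback ((ff r Y).fiberι y ≫ prZ r Y) ((ff r Y).fiberToSpecResidueField y)
      (CohB1.ProjSpace.toSpec r (ULift.{u} ℤ)) (Spec.map (CommRingCat.ofHom (φκ Y y))) := by
  have h1 : IsPullback ((ff r Y).fiberι y) ((ff r Y).fiberToSpecResidueField y) (ff r Y)
      (Y.fromSpecResidueField y) := IsPullback.of_hasPullback _ _
  have h2 : IsPullback (prZ r Y) (ff r Y)
      (CohB1.ProjSpace.toSpec r (ULift.{u} ℤ)) (specULiftZIsTerminal.from Y) :=
    IsPullback.of_hasPullback _ _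
  have h3 := h1.paste_horiz h2
  have h4 : Y.fromSpecResidueField y ≫ specULiftZIsTerminal.from Y =
      Spec.map (CommRingCat.ofHom (φκ Y y)) := specULiftZIsTerminal.hom_ext _ _
  rw [h4] at h3
  exact h3

/-- the fibre is `P^r_{κ(y)}` -/
noncomputable def θ : (ff r Y).fiber y ≅ CohB1.ProjSpace r (κ Y y) :=
  (isPullback_fiber r Y y).isoIsPullback _ _ (Groth.Agent.Helper4.SN213.isPullback_γγ (φκ Y y) r)

theorem θ_hom_γγ : (θ r Y y).hom ≫ γγ (φκ Y y) r = (ff r Y).fiberι y ≫ prZ r Y :=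
  IsPullback.isoIsPullback_hom_fst _ _ _ _

theorem θ_hom_toSpec : (θ r Y y).hom ≫ CohB1.ProjSpace.toSpec r (κ Y y) =
    (ff r Y).fiberToSpecResidueField y :=
  IsPullback.isoIsPullback_hom_snd _ _ _ _

/-- `O(d)` on the fibre -/
theorem nonempty_fiberMod_twist_iso (d : ℤ) :
    Nonempty ((Scheme.Modules.pullback (θ r Y y).hom).obj (Twist.twistProjSpace r (κ Y y) d) ≅
      CohIII.fiberMod (ff r Y) (Twist.twistOver r Y d) y) := by
  obtain ⟨e⟩ := nonempty_pull_twist (φκ Y y) r (θ r Y y).hom ((ff r Y).fiberι y ≫ prZ r Y)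
    (θ_hom_γγ r Y y) d
  exact ⟨e ≪≫ ((Scheme.Modules.pullbackComp ((ff r Y).fiberι y) (prZ r Y)).app _).symm⟩

/-- transport of a module on the fibre to `P^r_κ` and back -/
noncomputable def backIso (M : ((ff r Y).fiber y).Modules) :
    (Scheme.Modules.pullback (θ r Y y).hom).obj ((Scheme.Modules.pullback (θ r Y y).inv).obj M) ≅ M :=
  (Scheme.Modules.pullbackComp (θ r Y y).hom (θ r Y y).inv).app M ≪≫
    (Scheme.Modules.pullbackCongr (θ r Y y).hom_inv_id).app M ≪≫
    (Scheme.Modules.pullbackId _).app M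

/-- transport of a module on `P^r_κ` to the fibre and back -/
noncomputable def backIso' (M : (CohB1.ProjSpace r (κ Y y)).Modules) :
    (Scheme.Modules.pullback (θ r Y y).inv).obj ((Scheme.Modules.pullback (θ r Y y).hom).obj M) ≅ M :=
  (Scheme.Modules.pullbackComp (θ r Y y).inv (θ r Y y).hom).app M ≪≫
    (Scheme.Modules.pullbackCongr (θ r Y y).inv_hom_id).app M ≪≫
    (Scheme.Modules.pullbackId _).app M

/-- every invertible module on `P^r_Y` restricts on the fibre to some `O(d)` -/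
theorem exists_fiberMod_iso (L : (CohB1.ProjSpaceOver r Y).Modules) (hL : PicF.IsInvertible L) :
    ∃ d : ℤ, Nonempty (CohIII.fiberMod (ff r Y) L y ≅
      CohIII.fiberMod (ff r Y) (Twist.twistOver r Y d) y) := by
  have h1 : PicF.IsInvertible (CohIII.fiberMod (ff r Y) L y) :=
    Groth.Agent.Helper4.PullSec.isInvertible_pullback _ hL
  have h2 : PicF.IsInvertible ((Scheme.Modules.pullback (θ r Y y).inv).obj
      (CohIII.fiberMod (ff r Y) L y)) :=
    Groth.Agent.Helper4.PullSec.isInvertible_pullback _ h1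
  obtain ⟨d, ⟨e⟩⟩ := Groth.Agent.S1697.result (κ Y y) r _ h2
  obtain ⟨e'⟩ := nonempty_fiberMod_twist_iso r Y y d
  exact ⟨d, ⟨(backIso r Y y _).symm ≪≫ (Scheme.Modules.pullback (θ r Y y).hom).mapIso e ≪≫ e'⟩⟩

/-- the degree on the fibre is unique when `r ≥ 1` -/
theorem fiberMod_twist_unique (hr : 1 ≤ r) (d d' : ℤ)
    (e : CohIII.fiberMod (ff r Y) (Twist.twistOver r Y d) y ≅
      CohIII.fiberMod (ff r Y) (Twist.twistOver r Y d') y) : d = d' := by
  obtain ⟨e1⟩ := nonempty_fiberMod_twist_iso r Y y d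
  obtain ⟨e2⟩ := nonempty_fiberMod_twist_iso r Y y d'
  have e3 : Twist.twistProjSpace r (κ Y y) d ≅ Twist.twistProjSpace r (κ Y y) d' :=
    (backIso' r Y y _).symm ≪≫
      (Scheme.Modules.pullback (θ r Y y).inv).mapIso (e1 ≪≫ e ≪≫ e2.symm) ≪≫ backIso' r Y y _
  obtain ⟨d₀, -, hu⟩ := Groth.Agent.S10960.result (κ Y y) r hr (Twist.twistProjSpace r (κ Y y) d)
    (Groth.Agent.Helper1.SerreVan.isInvertible_twist r (κ Y y) d)
  rw [hu d ⟨Iso.refl _⟩, hu d' ⟨e3⟩]

/-- `θ_* O ≅ O` -/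
noncomputable def pushθIso :
    (Scheme.Modules.pushforward (θ r Y y).hom).obj (Coh.structureModule ((ff r Y).fiber y)) ≅
      Coh.structureModule (CohB1.ProjSpace r (κ Y y)) := by
  haveI : IsIso (SheafOfModules.unitToPushforwardObjUnit (θ r Y y).hom.toRingCatSheafHom) := by
    apply Groth.Agent.Helper6.ZCl2.isIso_of_bijective_basis _
      (B := Set.univ) (Opens.isBasis_iff_nbhd.2 (fun {U x} hx => ⟨U, trivial, hx, le_rfl⟩))
    intro V _
    exact ConcreteCategory.bijective_of_isIso ((θ r Y y).hom.app V)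
  exact (asIso (SheafOfModules.unitToPushforwardObjUnit (θ r Y y).hom.toRingCatSheafHom)).symm

/-- cohomology of the structure sheaf of the fibre vanishes in degree one -/
theorem subsingleton_HH_fiber_one :
    Subsingleton (Coh.HH ((ff r Y).fiber y) (Coh.structureModule ((ff r Y).fiber y)) 1) := by
  haveI : IsAffineHom (θ r Y y).hom := inferInstance
  haveI : Coh.IsQCoh (Coh.structureModule ((ff r Y).fiber y)) :=
    inferInstanceAs (SheafOfModules.unit ((ff r Y).fiber y).ringCatSheaf).IsQuasicoherent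
  obtain ⟨e⟩ := Groth.Agent.S0012.result (θ r Y y).hom (Coh.structureModule ((ff r Y).fiber y)) 1
  obtain ⟨e0⟩ := Groth.Agent.Helper1.KzLin.tw_zero r (κ Y y)
  have h0 : ¬ (((1 : ℕ) = 0 ∧ 0 ≤ (0 : ℤ)) ∨ ((1 : ℕ) = r ∧ (0 : ℤ) ≤ -((r : ℤ) + 1))) := by
    rintro (⟨h, -⟩ | ⟨-, h⟩) <;> omega
  have h1 := Groth.Agent.Helper1.PSB.subsingleton_HH r (κ Y y) 0 1 h0
  have h2 : Subsingleton (Coh.HH (CohB1.ProjSpace r (κ Y y))
      ((Coh.push (θ r Y y).hom).obj (Coh.structureModule ((ff r Y).fiber y))) 1) :=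
    Groth.Agent.Helper1.SerreCrit.subsingleton_HH_of_iso (e0 ≪≫ (pushθIso r Y y).symm) 1 h1
  exact e.toEquiv.subsingleton

end Groth.Agent.Helper4.SN238
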