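import Mathlib
import Groth.Agent.Helper4.SN238
import Groth.Agent.S2388
import Groth.Agent.Helper1.RegSh3
import Groth.Agent.Helper4.SN210

set_option autoImplicit false
set_option linter.unusedSectionVars false
set_option linter.style.haveILetI false

/-!
# SN239: spreading out the degree of an invertible module on `P^r_Y` from a fibre
-/

namespace Groth.Agent.Helper4.SN239

open CategoryTheory Limits AlgebraicGeometry TopologicalSpace Opposite
open Groth.Agent.Helper4.SN238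

universe u

variable (r : ℕ) (Y : Scheme.{u})

theorem hinv (n : ℤ) : PicF.IsInvertible (Twist.twistOver r Y n) :=
  Groth.Agent.Helper1.FlatTw.isInvertible_twistOver r Y n

/-- `O(n) ⊗ O(-n) ≅ O` -/
theorem nonempty_twist_neg (n : ℤ) :
    Nonempty (CohB1.tensorMod (Twist.twistOver r Y n) (Twist.twistOver r Y (-n)) ≅
      Coh.structureModule (CohB1.ProjSpaceOver r Y)) := by
  obtain ⟨e⟩ := Groth.Agent.Helper1.RegSh.nonempty_twistOver_mul r Y n (-n) 0 (by ring)
  obtain ⟨e0⟩ := Groth.Agent.Helper1.RegSh.nonempty_twistOver_zero r Y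
  exact ⟨e ≪≫ e0⟩

/-- `L ⊗ O(-n)` is trivial on the fibre when `L_y ≅ O(n)_y` -/
theorem nonempty_fiberTriv (y : Y) (L : (CohB1.ProjSpaceOver r Y).Modules)
    (hL : PicF.IsInvertible L) (n : ℤ)
    (e : CohIII.fiberMod (ff r Y) L y ≅ CohIII.fiberMod (ff r Y) (Twist.twistOver r Y n) y) :
    Nonempty (CohIII.fiberMod (ff r Y) (CohB1.tensorMod L (Twist.twistOver r Y (-n))) y ≅
      Coh.structureModule ((ff r Y).fiber y)) := by
  obtain ⟨e1⟩ := nonempty_twist_neg r Y n
  exact ⟨Groth.Agent.Helper4.PullTensor.pullTensorIso ((ff r Y).fiberι y) hL (hinv r Y (-n)) ≪≫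
    PicGrp.tensorModIso e (Iso.refl _) ≪≫
    (Groth.Agent.Helper4.PullTensor.pullTensorIso ((ff r Y).fiberι y) (hinv r Y n)
      (hinv r Y (-n))).symm ≪≫
    (Scheme.Modules.pullback ((ff r Y).fiberι y)).mapIso e1 ≪≫
    Groth.Agent.Helper4.PullUnit.pullbackUnitIso _⟩

/-- the fibre over a point of `U` factors through `f⁻¹U` -/
noncomputable def fiberLift (U : Y.Opens) (y : Y) (hy : y ∈ U) :
    (ff r Y).fiber y ⟶ ((ff r Y ⁻¹ᵁ U : (CohB1.ProjSpaceOver r Y).Opens) : Scheme.{u}) :=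
  IsOpenImmersion.lift (ff r Y ⁻¹ᵁ U).ι ((ff r Y).fiberι y) (by
    rw [Scheme.Hom.range_fiberι, Scheme.Opens.range_ι]
    intro x hx
    have : (ff r Y) x = y := hx
    show (ff r Y) x ∈ U
    rw [this]
    exact hy)

theorem fiberLift_ι (U : Y.Opens) (y : Y) (hy : y ∈ U) :
    fiberLift r Y U y hy ≫ (ff r Y ⁻¹ᵁ U).ι = (ff r Y).fiberι y :=
  IsOpenImmersion.lift_fac _ _ _

/-- the restriction to the fibre through `f⁻¹U` -/
noncomputable def fiberModRestrictIso (U : Y.Opens) (y : Y) (hy : y ∈ U)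
    (M : (CohB1.ProjSpaceOver r Y).Modules) :
    CohIII.fiberMod (ff r Y) M y ≅
      (Scheme.Modules.pullback (fiberLift r Y U y hy)).obj (M.restrict (ff r Y ⁻¹ᵁ U).ι) :=
  (Scheme.Modules.pullbackCongr (fiberLift_ι r Y U y hy)).symm.app M ≪≫
    ((Scheme.Modules.pullbackComp (fiberLift r Y U y hy) (ff r Y ⁻¹ᵁ U).ι).app M).symm ≪≫
    (Scheme.Modules.pullback (fiberLift r Y U y hy)).mapIso
      ((Scheme.Modules.restrictFunctorIsoPullback (ff r Y ⁻¹ᵁ U).ι).app M).symm

/-- an isomorphism over `f⁻¹U` induces isomorphisms on all fibres over `U` -/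
theorem nonempty_fiberMod_iso_of_restrict (U : Y.Opens) (y : Y) (hy : y ∈ U)
    (M N : (CohB1.ProjSpaceOver r Y).Modules)
    (e : M.restrict (ff r Y ⁻¹ᵁ U).ι ≅ N.restrict (ff r Y ⁻¹ᵁ U).ι) :
    Nonempty (CohIII.fiberMod (ff r Y) M y ≅ CohIII.fiberMod (ff r Y) N y) :=
  ⟨fiberModRestrictIso r Y U y hy M ≪≫
    (Scheme.Modules.pullback (fiberLift r Y U y hy)).mapIso e ≪≫
    (fiberModRestrictIso r Y U y hy N).symm⟩

variable [IsLocallyNoetherian Y]

/-- the set of points where `L` has degree `n` on the fibre is open -/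
theorem isOpen_degree (L : (CohB1.ProjSpaceOver r Y).Modules) (hL : PicF.IsInvertible L) (n : ℤ) :
    IsOpen {y : Y | Nonempty (CohIII.fiberMod (ff r Y) L y ≅
      CohIII.fiberMod (ff r Y) (Twist.twistOver r Y n) y)} := by
  haveI : IsProper (ff r Y) := Groth.Agent.Helper6.HProj.isProper_toBase r Y
  haveI : Flat (ff r Y) := Groth.Agent.Helper4.SN210.flat_pr r Y
  rw [isOpen_iff_forall_mem_open]
  intro y hy
  obtain ⟨U, hyU, ⟨e⟩⟩ := Groth.Agent.S2388.result (ff r Y) y (subsingleton_HH_fiber_one r Y y)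
    L (Twist.twistOver r Y n) hL (hinv r Y n) hy
  refine ⟨U, ?_, U.isOpen, hyU⟩
  intro y' hy'
  exact nonempty_fiberMod_iso_of_restrict r Y U y' hy' _ _ e

end Groth.Agent.Helper4.SN239
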