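import Mathlib
import Groth.Agent.Helper4.SN239
import Groth.Agent.Helper1.Segre2
import Groth.Agent.Helper1.TwistAmple
import Groth.Agent.Helper4.GenLocIso

set_option autoImplicit false
set_option linter.unusedSectionVars false
set_option linter.style.haveILetI false

/-!
# SN240: the degree of an invertible module on `P^r_Y` is constant for connected `Y`
-/

namespace Groth.Agent.Helper4.SN240

open CategoryTheory Limits AlgebraicGeometry TopologicalSpace Opposite
open Groth.Agent.Helper4.SN238 Groth.Agent.Helper4.SN239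

universe u

section zero

variable (R : Type u) [CommRing R]

/-- on `P^0_R` all the twists of nonnegative degree are trivial -/
theorem nonempty_twist_zero_nat (d : ℕ) :
    Nonempty (Twist.twistProjSpace 0 R (d : ℤ) ≅ Coh.structureModule (CohB1.ProjSpace 0 R)) := by
  have hX : (MvPolynomial.X 0 : MvPolynomial (Fin (0 + 1)) R) ^ d ∈ CohB1.polyGrading 0 R d := by
    have := SetLike.pow_mem_graded d (Groth.Agent.Helper1.Segre.hX (R := R) (k := 0) 0)
    simpa using this
  have htop : Proj.basicOpen (CohB1.polyGrading 0 R)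
      ((MvPolynomial.X 0 : MvPolynomial (Fin (0 + 1)) R) ^ d) = ⊤ := by
    have h1 := Groth.Agent.Helper1.Segre.iSup_basicOpen_X (R := R) 0
    have h2 : Proj.basicOpen (CohB1.polyGrading 0 R)
        (MvPolynomial.X 0 : MvPolynomial (Fin (0 + 1)) R) = ⊤ := by
      rw [← h1]
      apply le_antisymm
      · exact le_iSup (fun i : Fin (0 + 1) => Proj.basicOpen (CohB1.polyGrading 0 R)
          (MvPolynomial.X i : MvPolynomial (Fin (0 + 1)) R)) 0
      · apply iSup_le
        intro i
        have hi : i = 0 := Fin.ext (by omega)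
        rw [hi]
    rcases Nat.eq_zero_or_pos d with hd | hd
    · subst hd
      rw [pow_zero]
      exact Proj.basicOpen_one _
    · rw [Proj.basicOpen_pow _ _ d hd, h2]
  have hg := Groth.Agent.Helper1.TwistMul.genLocus_secHom (CohB1.polyGrading 0 R)
    (Groth.Agent.Helper1.PUP.hcovP 0 (R := R)) d _ hX
  rw [htop] at hg
  haveI := Groth.Agent.Helper4.GenLocIso.isIso_of_genLocus_eq_top _ _ hg
  exact ⟨Groth.Agent.Helper1.TwistIso.twistIsoTilde (CohB1.polyGrading 0 R) (d : ℤ) ≪≫
    (asIso (Groth.Agent.Helper1.TwistMul.secHom (CohB1.polyGrading 0 R) d _ hX)).symm⟩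

/-- on `P^0_R` all the twists are trivial -/
theorem nonempty_twist_zero (d : ℤ) :
    Nonempty (Twist.twistProjSpace 0 R d ≅ Coh.structureModule (CohB1.ProjSpace 0 R)) := by
  rcases Int.le_total 0 d with hd | hd
  · obtain ⟨k, rfl⟩ := Int.eq_ofNat_of_zero_le hd
    exact nonempty_twist_zero_nat R k
  · obtain ⟨k, hk⟩ := Int.eq_ofNat_of_zero_le (Int.neg_nonneg_of_nonpos hd)
    obtain ⟨e1⟩ := nonempty_twist_zero_nat R k
    obtain ⟨e⟩ := Groth.Agent.Helper1.TwistMul.nonempty_twist_tensor_twist_iso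
      (CohB1.polyGrading 0 R) (Groth.Agent.Helper1.PUP.hcovP 0 (R := R)) d (k : ℤ) 0 (by omega)
    obtain ⟨e0⟩ := Groth.Agent.Helper1.KzLin.tw_zero 0 R
    exact ⟨(SecTwist.unitorR _).symm ≪≫ PicGrp.tensorModIso (Iso.refl _) e1.symm ≪≫ e ≪≫ e0⟩

end zero

section const

variable (r : ℕ) (Y : Scheme.{u})

/-- for `r = 0` all the twists are trivial -/
theorem nonempty_twistOver_zero_iso (d : ℤ) :
    Nonempty (Twist.twistOver 0 Y d ≅ Coh.structureModule (CohB1.ProjSpaceOver 0 Y)) := by
  obtain ⟨e⟩ := nonempty_twist_zero (ULift.{u} ℤ) d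
  exact ⟨(Scheme.Modules.pullback _).mapIso e ≪≫ Groth.Agent.Helper4.PullUnit.pullbackUnitIso _⟩

variable [IsLocallyNoetherian Y] [ConnectedSpace Y]

/-- **the degree on the fibres is constant** -/
theorem exists_degree (L : (CohB1.ProjSpaceOver r Y).Modules) (hL : PicF.IsInvertible L) :
    ∃ n : ℤ, ∀ y : Y, Nonempty (CohIII.fiberMod (ff r Y) L y ≅
      CohIII.fiberMod (ff r Y) (Twist.twistOver r Y n) y) := by
  rcases Nat.eq_zero_or_pos r with hr | hr
  · subst hr
    refine ⟨0, fun y => ?_⟩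
    obtain ⟨d, ⟨e⟩⟩ := exists_fiberMod_iso 0 Y y L hL
    obtain ⟨e1⟩ := nonempty_twistOver_zero_iso Y d
    obtain ⟨e2⟩ := nonempty_twistOver_zero_iso Y 0
    exact ⟨e ≪≫ (Scheme.Modules.pullback ((ff 0 Y).fiberι y)).mapIso (e1 ≪≫ e2.symm)⟩
  · obtain ⟨y₀⟩ : Nonempty Y := inferInstance
    obtain ⟨n, hn⟩ := exists_fiberMod_iso r Y y₀ L hL
    refine ⟨n, ?_⟩
    have hA := isOpen_degree r Y L hL
    have hcl : IsClosed {y : Y | Nonempty (CohIII.fiberMod (ff r Y) L y ≅
        CohIII.fiberMod (ff r Y) (Twist.twistOver r Y n) y)} := by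
      rw [← isOpen_compl_iff]
      have h1 : {y : Y | Nonempty (CohIII.fiberMod (ff r Y) L y ≅
          CohIII.fiberMod (ff r Y) (Twist.twistOver r Y n) y)}ᶜ =
          ⋃ d ∈ {d : ℤ | d ≠ n}, {y : Y | Nonempty (CohIII.fiberMod (ff r Y) L y ≅
            CohIII.fiberMod (ff r Y) (Twist.twistOver r Y d) y)} := by
        ext y
        simp only [Set.mem_compl_iff, Set.mem_setOf_eq, Set.mem_iUnion, exists_prop]
        constructor
        · intro hy
          obtain ⟨d, hd⟩ := exists_fiberMod_iso r Y y L hL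
          refine ⟨d, ?_, hd⟩
          rintro rfl
          exact hy hd
        · rintro ⟨d, hdn, ⟨e⟩⟩ ⟨e'⟩
          exact hdn (fiberMod_twist_unique r Y y hr d n (e.symm ≪≫ e'))
      rw [h1]
      exact isOpen_biUnion (fun d _ => hA d)
    have h2 := IsClopen.eq_univ ⟨hcl, hA n⟩ ⟨y₀, hn⟩
    intro y
    have : y ∈ {y : Y | Nonempty (CohIII.fiberMod (ff r Y) L y ≅
        CohIII.fiberMod (ff r Y) (Twist.twistOver r Y n) y)} := h2 ▸ Set.mem_univ y
    exact this

end const

end Groth.Agent.Helper4.SN240
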