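import Mathlib
import Groth.Agent.Helper4.SN200
import Groth.Agent.Helper4.EpiStalk
import Groth.Agent.Helper6.ZCl2

set_option autoImplicit false
set_option linter.unusedSectionVars false
set_option linter.style.haveILetI false

/-!
# SN242: an epimorphism between invertible modules is an isomorphism
-/

namespace Groth.Agent.Helper4.SN242

open CategoryTheory Limits AlgebraicGeometry TopologicalSpace Opposite
open Groth.Agent.Helper4.TwistExt Groth.Agent.Helper4.SN200

universe u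

variable {X : Scheme.{u}}

theorem exists_frame (L : X.Modules) (hL : PicF.IsInvertible L) (x : X) :
    ∃ (T : X.Opens) (e : Γ(L, T)), x ∈ T ∧ IsFrame L T e := by
  obtain ⟨U, hxU, ⟨ε⟩⟩ := hL x
  refine ⟨U.ι ''ᵁ ⊤, _, ?_, isFrame_of_triv L U ε⟩
  rw [Scheme.Opens.ι_image_top]
  exact hxU

theorem app_res {A B : X.Modules} (φ : A ⟶ B) {V W : X.Opens} (h : W ≤ V) (s : Γ(A, V)) :
    φ.app W (A.presheaf.map (homOfLE h).op s) = B.presheaf.map (homOfLE h).op (φ.app V s) :=
  Groth.Agent.Helper4.StalkExact.app_res φ (homOfLE h) s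

/-- **an epimorphism between invertible modules is an isomorphism** -/
theorem isIso_of_epi {A B : X.Modules} (φ : A ⟶ B) [Epi φ] (hA : PicF.IsInvertible A)
    (hB : PicF.IsInvertible B) : IsIso φ := by
  have hbasis : Opens.IsBasis
      {V : X.Opens | ∀ V' : X.Opens, V' ≤ V → Function.Bijective (φ.app V')} := by
    rw [Opens.isBasis_iff_nbhd]
    intro T x hxT
    obtain ⟨T₁, eA, hx1, heA⟩ := exists_frame A hA x
    obtain ⟨T₂, eB, hx2, heB⟩ := exists_frame B hB x
    have hxV₀ : x ∈ T ⊓ T₁ ⊓ T₂ := ⟨⟨hxT, hx1⟩, hx2⟩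
    have h1 : T ⊓ T₁ ⊓ T₂ ≤ T₁ := inf_le_left.trans inf_le_right
    have h2 : T ⊓ T₁ ⊓ T₂ ≤ T₂ := inf_le_right
    obtain ⟨W, hWV, hxW, s, hs⟩ := Groth.Agent.Helper4.EpiStalk.exists_local_lift_of_epi φ
      (T ⊓ T₁ ⊓ T₂) (B.presheaf.map (homOfLE h2).op eB) x hxV₀
    refine ⟨W, ?_, hxW, hWV.trans (inf_le_left.trans inf_le_left)⟩
    intro V' hV'
    have hV1 : V' ≤ T₁ := (hV'.trans hWV).trans h1
    have hV2 : V' ≤ T₂ := (hV'.trans hWV).trans h2
    -- the restricted frames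
    obtain ⟨eA', heA'⟩ : ∃ eA', eA' = A.presheaf.map (homOfLE hV1).op eA := ⟨_, rfl⟩
    obtain ⟨eB', heB'⟩ : ∃ eB', eB' = B.presheaf.map (homOfLE hV2).op eB := ⟨_, rfl⟩
    obtain ⟨a, ha⟩ : ∃ a : Γ(X, V'), φ.app V' eA' = a • eB' :=
      ⟨coord heB hV2 (φ.app V' eA'), heB' ▸ coord_spec heB hV2 _⟩
    obtain ⟨b, hb⟩ : ∃ b : Γ(X, V'), A.presheaf.map (homOfLE hV').op s = b • eA' :=
      ⟨coord heA hV1 _, heA' ▸ coord_spec heA hV1 _⟩
    have hs' : φ.app V' (A.presheaf.map (homOfLE hV').op s) = eB' := by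
      rw [app_res, hs, map_map, map_map, heB']
    have hinjB := (bijective_of_isFrame B T₂ eB heB V' hV2).1
    have hba : b * a = 1 := by
      apply hinjB
      show (b * a) • B.presheaf.map (homOfLE hV2).op eB = (1 : Γ(X, V')) •
        B.presheaf.map (homOfLE hV2).op eB
      rw [← heB', one_smul, mul_smul, ← ha, ← Scheme.Modules.Hom.app_smul, ← hb, hs']
    have hφ : ∀ c : Γ(X, V'), φ.app V' (c • eA') = (c * a) • eB' := by
      intro c
      rw [Scheme.Modules.Hom.app_smul, ha, mul_smul]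
    constructor
    · intro u u' huu'
      obtain ⟨c, hc⟩ : ∃ c : Γ(X, V'), u = c • eA' :=
        ⟨coord heA hV1 u, heA' ▸ coord_spec heA hV1 u⟩
      obtain ⟨c', hc'⟩ : ∃ c' : Γ(X, V'), u' = c' • eA' :=
        ⟨coord heA hV1 u', heA' ▸ coord_spec heA hV1 u'⟩
      rw [hc, hc', hφ, hφ, heB'] at huu'
      have h3 : c * a = c' * a := hinjB huu'
      have h4 : c = c' := by
        calc c = c * a * b := by rw [mul_assoc, mul_comm a b, hba, mul_one]
          _ = c' * a * b := by rw [h3]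
          _ = c' := by rw [mul_assoc, mul_comm a b, hba, mul_one]
      rw [hc, hc', h4]
    · intro v
      obtain ⟨c, hc⟩ : ∃ c : Γ(X, V'), v = c • eB' :=
        ⟨coord heB hV2 v, heB' ▸ coord_spec heB hV2 v⟩
      refine ⟨(c * b) • eA', ?_⟩
      rw [hφ, hc, mul_assoc, hba, mul_one]
  apply Groth.Agent.Helper6.ZCl2.isIso_of_bijective_basis φ hbasis
  intro V hV
  exact hV V le_rfl

end Groth.Agent.Helper4.SN242
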