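import Mathlib
import Groth.Agent.Helper4.SN240
import Groth.Agent.Helper4.OpenBC
import Groth.Agent.Helper4.SN214
import Groth.Agent.Helper4.SN242
import Groth.Agent.Helper1.TwistExact

set_option autoImplicit false
set_option linter.unusedSectionVars false
set_option linter.style.haveILetI false

/-!
# SN241: a fibrewise trivial invertible module on `P^r_Y` is pulled back from `Y`
-/

namespace Groth.Agent.Helper4.SN241

open CategoryTheory Limits AlgebraicGeometry TopologicalSpace Opposite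
open Groth.Agent.Helper4.SN238 Groth.Agent.Helper4.SN239

universe u

variable (r : ℕ) (Y : Scheme.{u}) [IsLocallyNoetherian Y]
variable (M : (CohB1.ProjSpaceOver r Y).Modules) (hM : PicF.IsInvertible M)
  (htriv : ∀ y : Y, Nonempty (CohIII.fiberMod (ff r Y) M y ≅
    Coh.structureModule ((ff r Y).fiber y)))

include hM htriv in
/-- local triviality over the base -/
theorem exists_nhd_triv (y : Y) : ∃ U : Y.Opens, y ∈ U ∧
    Nonempty (M.restrict (ff r Y ⁻¹ᵁ U).ι ≅
      Coh.structureModule ((ff r Y ⁻¹ᵁ U : (CohB1.ProjSpaceOver r Y).Opens) : Scheme.{u})) := by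
  haveI : IsProper (ff r Y) := Groth.Agent.Helper6.HProj.isProper_toBase r Y
  haveI : Flat (ff r Y) := Groth.Agent.Helper4.SN210.flat_pr r Y
  obtain ⟨e₀⟩ := htriv y
  exact Groth.Agent.Helper1.PicSpread.exists_nhd_trivial (ff r Y) y
    (subsingleton_HH_fiber_one r Y y) M hM e₀

/-- the restriction of `p_* M` to `U` when `M` is trivial over `p⁻¹U` -/
noncomputable def pushRestrictIso (U : Y.Opens)
    (ν : M.restrict (ff r Y ⁻¹ᵁ U).ι ≅
      Coh.structureModule ((ff r Y ⁻¹ᵁ U : (CohB1.ProjSpaceOver r Y).Opens) : Scheme.{u})) :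
    ((Scheme.Modules.pushforward (ff r Y)).obj M).restrict U.ι ≅
      Coh.structureModule (U : Scheme.{u}) :=
  (Groth.Agent.Helper4.OpenBC.iso (ff r Y) U).app M ≪≫
    (Scheme.Modules.pushforward (ff r Y ∣_ U)).mapIso
      (ν ≪≫ (Scheme.Modules.restrictUnitIso (ff r Y ⁻¹ᵁ U).ι).symm) ≪≫
    ((Groth.Agent.Helper4.OpenBC.iso (ff r Y) U).app
      (Coh.structureModule (CohB1.ProjSpaceOver r Y))).symm ≪≫
    (Scheme.Modules.restrictFunctor U.ι).mapIso (Groth.Agent.Helper4.SN214.pushOIso r Y) ≪≫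
    Scheme.Modules.restrictUnitIso U.ι

include hM htriv in
/-- `p_* M` is invertible -/
theorem isInvertible_push :
    PicF.IsInvertible ((Scheme.Modules.pushforward (ff r Y)).obj M) := by
  intro y
  obtain ⟨U, hyU, ⟨ν⟩⟩ := exists_nhd_triv r Y M hM htriv y
  exact ⟨U, hyU, ⟨pushRestrictIso r Y M U ν⟩⟩

section counit

open Groth.Agent.Helper4.TwistExt Groth.Agent.Helper4.SN200

variable {X S : Scheme.{u}} (q : X ⟶ S)

/-- the triangle identity on sections -/
theorem counit_app_unit_app (M : X.Modules) (U : S.Opens) (m : Γ(M, q ⁻¹ᵁ U)) :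
    ((Scheme.Modules.pullbackPushforwardAdjunction q).counit.app M).app (q ⁻¹ᵁ U)
      (((Scheme.Modules.pullbackPushforwardAdjunction q).unit.app
        ((Scheme.Modules.pushforward q).obj M)).app U m) = m :=
  congrArg (fun ψ => (Scheme.Modules.Hom.app ψ U) m)
    ((Scheme.Modules.pullbackPushforwardAdjunction q).right_triangle_components M)

/-- the counit is an epimorphism for a module which is trivial locally over the base -/
theorem epi_counit_of_local_triv (M : X.Modules)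
    (h : ∀ x : X, ∃ U : S.Opens, q x ∈ U ∧ Nonempty (M.restrict (q ⁻¹ᵁ U).ι ≅
      Coh.structureModule ((q ⁻¹ᵁ U : X.Opens) : Scheme.{u}))) :
    Epi ((Scheme.Modules.pullbackPushforwardAdjunction q).counit.app M) := by
  apply Groth.Agent.Helper1.TwistExact.epi_of_local_lift
  intro T t x hx
  obtain ⟨U, hxU, ⟨ν⟩⟩ := h x
  obtain ⟨e, hfr⟩ : ∃ e, IsFrame M ((q ⁻¹ᵁ U).ι ''ᵁ ⊤) e := ⟨_, isFrame_of_triv M _ ν⟩
  have htop : (q ⁻¹ᵁ U).ι ''ᵁ ⊤ = q ⁻¹ᵁ U := Scheme.Opens.ι_image_top _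
  obtain ⟨m, hm⟩ : ∃ m : Γ(M, q ⁻¹ᵁ U), m = M.presheaf.map (homOfLE (le_of_eq htop.symm)).op e :=
    ⟨_, rfl⟩
  obtain ⟨s₀, hs₀⟩ : ∃ s₀ : Γ((Scheme.Modules.pullback q).obj ((Scheme.Modules.pushforward q).obj M),
      q ⁻¹ᵁ U), ((Scheme.Modules.pullbackPushforwardAdjunction q).counit.app M).app (q ⁻¹ᵁ U) s₀ = m :=
    ⟨_, counit_app_unit_app q M U m⟩
  have hV1 : T ⊓ q ⁻¹ᵁ U ≤ (q ⁻¹ᵁ U).ι ''ᵁ ⊤ := inf_le_right.trans (le_of_eq htop.symm)
  refine ⟨T ⊓ q ⁻¹ᵁ U, inf_le_left, ⟨hx, hxU⟩, ?_⟩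
  have hc := coord_spec hfr hV1 (M.presheaf.map (homOfLE (inf_le_left : T ⊓ q ⁻¹ᵁ U ≤ T)).op t)
  refine ⟨coord hfr hV1 (M.presheaf.map (homOfLE (inf_le_left : T ⊓ q ⁻¹ᵁ U ≤ T)).op t) •
    ((Scheme.Modules.pullback q).obj ((Scheme.Modules.pushforward q).obj M)).presheaf.map
      (homOfLE (inf_le_right : T ⊓ q ⁻¹ᵁ U ≤ q ⁻¹ᵁ U)).op s₀, ?_⟩
  have h1 : ((Scheme.Modules.pullbackPushforwardAdjunction q).counit.app M).app (T ⊓ q ⁻¹ᵁ U)
      (((Scheme.Modules.pullback q).obj ((Scheme.Modules.pushforward q).obj M)).presheaf.map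
        (homOfLE (inf_le_right : T ⊓ q ⁻¹ᵁ U ≤ q ⁻¹ᵁ U)).op s₀) =
      M.presheaf.map (homOfLE hV1).op e := by
    refine (Groth.Agent.Helper4.SN242.app_res
      ((Scheme.Modules.pullbackPushforwardAdjunction q).counit.app M)
      (inf_le_right : T ⊓ q ⁻¹ᵁ U ≤ q ⁻¹ᵁ U) s₀).trans ?_
    refine (congrArg _ (hs₀.trans hm)).trans ?_
    exact map_map M _ _ e
  refine (Scheme.Modules.Hom.app_smul _ _ _).trans ?_
  exact (congrArg (fun z => coord hfr hV1
    (M.presheaf.map (homOfLE (inf_le_left : T ⊓ q ⁻¹ᵁ U ≤ T)).op t) • z) h1).trans hc.symm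

end counit

include hM htriv in
/-- **the counit `p^* p_* M ⟶ M` is an isomorphism** -/
theorem isIso_counit :
    IsIso ((Scheme.Modules.pullbackPushforwardAdjunction (ff r Y)).counit.app M) := by
  haveI : Epi ((Scheme.Modules.pullbackPushforwardAdjunction (ff r Y)).counit.app M) := by
    apply epi_counit_of_local_triv
    intro x
    exact exists_nhd_triv r Y M hM htriv ((ff r Y) x)
  exact Groth.Agent.Helper4.SN242.isIso_of_epi _
    (Groth.Agent.Helper4.PullSec.isInvertible_pullback _ (isInvertible_push r Y M hM htriv)) hM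

end Groth.Agent.Helper4.SN241
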