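import Mathlib
import Groth.Agent.Helper4.SN241
import Groth.Agent.Helper4.SN220

set_option autoImplicit false
set_option linter.unusedSectionVars false
set_option linter.style.haveILetI false

/-!
# SN243: `Pic(P^r_Y) = Pic(Y) × ℤ` for a connected Noetherian scheme `Y`
-/

namespace Groth.Agent.Helper4.SN243

open CategoryTheory Limits AlgebraicGeometry TopologicalSpace Opposite
open Groth.Agent.Helper4.SN238 Groth.Agent.Helper4.SN239 Groth.Agent.Helper4.SN240
  Groth.Agent.Helper4.SN241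

universe u

section general

/-- an invertible module on a one-point scheme is trivial -/
theorem nonempty_iso_unit_of_subsingleton {Z : Scheme.{u}} [Subsingleton Z] [Nonempty Z]
    (K : Z.Modules) (hK : PicF.IsInvertible K) : Nonempty (K ≅ Coh.structureModule Z) := by
  obtain ⟨x⟩ := ‹Nonempty Z›
  obtain ⟨U, hxU, ⟨ε⟩⟩ := hK x
  have hU : U = ⊤ := by
    rw [eq_top_iff]
    intro z _
    rw [Subsingleton.elim z x]
    exact hxU
  subst hU
  have e1 : K ≅ (Scheme.Modules.pullback Z.topIso.inv).obj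
      ((Scheme.Modules.pullback (⊤ : Z.Opens).ι).obj K) :=
    ((Scheme.Modules.pullbackId Z).app K).symm ≪≫
      (Scheme.Modules.pullbackCongr (Scheme.toIso_inv_ι Z)).symm.app K ≪≫
      ((Scheme.Modules.pullbackComp Z.topIso.inv (⊤ : Z.Opens).ι).app K).symm
  exact ⟨e1 ≪≫ (Scheme.Modules.pullback Z.topIso.inv).mapIso
      (((Scheme.Modules.restrictFunctorIsoPullback (⊤ : Z.Opens).ι).app K).symm ≪≫ ε) ≪≫
    Groth.Agent.Helper4.PullUnit.pullbackUnitIso _⟩

end general

variable (r : ℕ) (Y : Scheme.{u})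

/-- the pullback of an invertible module from the base is trivial on the fibres -/
theorem nonempty_fiberMod_pullback (y : Y) (L' : Y.Modules) (hL' : PicF.IsInvertible L') :
    Nonempty (CohIII.fiberMod (ff r Y) ((Scheme.Modules.pullback (ff r Y)).obj L') y ≅
      Coh.structureModule ((ff r Y).fiber y)) := by
  have hK : PicF.IsInvertible ((Scheme.Modules.pullback (Y.fromSpecResidueField y)).obj L') :=
    Groth.Agent.Helper4.PullSec.isInvertible_pullback _ hL'
  haveI : Subsingleton ↥(Spec (Y.residueField y)) :=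
    inferInstanceAs (Subsingleton (PrimeSpectrum (Y.residueField y)))
  haveI : Nonempty ↥(Spec (Y.residueField y)) :=
    inferInstanceAs (Nonempty (PrimeSpectrum (Y.residueField y)))
  obtain ⟨e⟩ := nonempty_iso_unit_of_subsingleton _ hK
  exact ⟨(Scheme.Modules.pullbackComp ((ff r Y).fiberι y) (ff r Y)).app L' ≪≫
    (Scheme.Modules.pullbackCongr ((ff r Y).fiber_fac y)).app L' ≪≫
    ((Scheme.Modules.pullbackComp ((ff r Y).fiberToSpecResidueField y)
      (Y.fromSpecResidueField y)).app L').symm ≪≫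
    (Scheme.Modules.pullback ((ff r Y).fiberToSpecResidueField y)).mapIso e ≪≫
    Groth.Agent.Helper4.PullUnit.pullbackUnitIso _⟩

/-- the fibre of `p^* L' ⊗ O(n)` -/
theorem nonempty_fiberMod_desc (y : Y) (L' : Y.Modules) (hL' : PicF.IsInvertible L') (n : ℤ) :
    Nonempty (CohIII.fiberMod (ff r Y)
        (CohB1.tensorMod ((Scheme.Modules.pullback (ff r Y)).obj L') (Twist.twistOver r Y n)) y ≅
      CohIII.fiberMod (ff r Y) (Twist.twistOver r Y n) y) := by
  obtain ⟨e⟩ := nonempty_fiberMod_pullback r Y y L' hL'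
  exact ⟨Groth.Agent.Helper4.PullTensor.pullTensorIso ((ff r Y).fiberι y)
      (Groth.Agent.Helper4.PullSec.isInvertible_pullback _ hL') (hinv r Y n) ≪≫
    PicGrp.tensorModIso e (Iso.refl _) ≪≫ Groth.Agent.Helper4.AmpleBasis.unitorL _⟩

/-- cancelling the twist -/
theorem nonempty_cancel (A : (CohB1.ProjSpaceOver r Y).Modules) (n : ℤ) :
    Nonempty (CohB1.tensorMod (CohB1.tensorMod A (Twist.twistOver r Y n))
      (Twist.twistOver r Y (-n)) ≅ A) := by
  obtain ⟨e1⟩ := nonempty_twist_neg r Y n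
  exact ⟨Groth.Agent.Lead.Ref1B.assoc _ _ _ ≪≫ PicGrp.tensorModIso (Iso.refl A) e1 ≪≫
    SecTwist.unitorR A⟩

/-- **uniqueness** -/
theorem unique_desc [Nonempty Y] (hr : 1 ≤ r) (L₁ L₂ : Y.Modules) (n₁ n₂ : ℤ)
    (h₁ : PicF.IsInvertible L₁) (h₂ : PicF.IsInvertible L₂)
    (e : CohB1.tensorMod ((Scheme.Modules.pullback (ff r Y)).obj L₁) (Twist.twistOver r Y n₁) ≅
      CohB1.tensorMod ((Scheme.Modules.pullback (ff r Y)).obj L₂) (Twist.twistOver r Y n₂)) :
    n₁ = n₂ ∧ Nonempty (L₁ ≅ L₂) := by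
  obtain ⟨y⟩ := ‹Nonempty Y›
  obtain ⟨a1⟩ := nonempty_fiberMod_desc r Y y L₁ h₁ n₁
  obtain ⟨a2⟩ := nonempty_fiberMod_desc r Y y L₂ h₂ n₂
  have hn : n₁ = n₂ := fiberMod_twist_unique r Y y hr n₁ n₂
    (a1.symm ≪≫ (Scheme.Modules.pullback ((ff r Y).fiberι y)).mapIso e ≪≫ a2)
  subst hn
  refine ⟨rfl, ?_⟩
  obtain ⟨c1⟩ := nonempty_cancel r Y ((Scheme.Modules.pullback (ff r Y)).obj L₁) n₁
  obtain ⟨c2⟩ := nonempty_cancel r Y ((Scheme.Modules.pullback (ff r Y)).obj L₂) n₁
  have e' : (Scheme.Modules.pullback (ff r Y)).obj L₁ ≅ (Scheme.Modules.pullback (ff r Y)).obj L₂ :=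
    c1.symm ≪≫ PicGrp.tensorModIso e (Iso.refl _) ≪≫ c2
  haveI := Groth.Agent.Helper4.SN220.isIso_unit r Y L₁
    (Groth.Agent.Helper1.SerreFin.isCoh_of_isInvertible L₁ h₁).1
  haveI := Groth.Agent.Helper4.SN220.isIso_unit r Y L₂
    (Groth.Agent.Helper1.SerreFin.isCoh_of_isInvertible L₂ h₂).1
  exact ⟨asIso ((Scheme.Modules.pullbackPushforwardAdjunction (KRR.pr r Y)).unit.app L₁) ≪≫
    (Scheme.Modules.pushforward (ff r Y)).mapIso e' ≪≫
    (asIso ((Scheme.Modules.pullbackPushforwardAdjunction (KRR.pr r Y)).unit.app L₂)).symm⟩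

/-- **existence** -/
theorem exists_desc [IsLocallyNoetherian Y] [ConnectedSpace Y]
    (L : (CohB1.ProjSpaceOver r Y).Modules) (hL : PicF.IsInvertible L) :
    ∃ (L' : Y.Modules) (n : ℤ), PicF.IsInvertible L' ∧
      Nonempty (L ≅ CohB1.tensorMod ((Scheme.Modules.pullback (ff r Y)).obj L')
        (Twist.twistOver r Y n)) := by
  obtain ⟨n, hn⟩ := exists_degree r Y L hL
  have hM : PicF.IsInvertible (CohB1.tensorMod L (Twist.twistOver r Y (-n))) :=
    Groth.Agent.Helper4.TensorInv.isInvertible_tensorMod hL (hinv r Y (-n))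
  have htriv : ∀ y : Y, Nonempty (CohIII.fiberMod (ff r Y)
      (CohB1.tensorMod L (Twist.twistOver r Y (-n))) y ≅
      Coh.structureModule ((ff r Y).fiber y)) := fun y => by
    obtain ⟨e⟩ := hn y
    exact nonempty_fiberTriv r Y y L hL n e
  haveI := isIso_counit r Y _ hM htriv
  refine ⟨(Scheme.Modules.pushforward (ff r Y)).obj (CohB1.tensorMod L (Twist.twistOver r Y (-n))),
    n, isInvertible_push r Y _ hM htriv, ?_⟩
  obtain ⟨c⟩ := nonempty_cancel r Y L (-n)
  have c' : CohB1.tensorMod (CohB1.tensorMod L (Twist.twistOver r Y (-n)))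
      (Twist.twistOver r Y n) ≅ L := by
    have h := c
    rw [neg_neg] at h
    exact h
  exact ⟨c'.symm ≪≫ PicGrp.tensorModIso
    (asIso ((Scheme.Modules.pullbackPushforwardAdjunction (ff r Y)).counit.app
      (CohB1.tensorMod L (Twist.twistOver r Y (-n))))).symm (Iso.refl _)⟩

end Groth.Agent.Helper4.SN243
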