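import Groth.Agent.Helper4.FTIdealSheaf
import Groth.Agent.Helper4.IdealTwist
import Groth.Agent.Helper4.RelIdealTwist
import Groth.Agent.Helper4.TwistLocal
import Groth.Prelude.Def_BlowUp2
import Groth.Prelude.Def_FlatMod2
import Groth.Prelude.Def_ClSub2
import Mathlib

set_option autoImplicit false
universe u
open CategoryTheory CategoryTheory.Limits AlgebraicGeometry Opposite TopologicalSpace

namespace Groth.Agent.Helper4.IdealModProps

open Groth.Agent.Helper4.GenLoc Groth.Agent.Helper4.GGSec Groth.Agent.Helper4.AmpleIso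
  Groth.Agent.Helper4.StalkExact Groth.Agent.Helper4.QAffSec Groth.Agent.Helper4.TensorInv

variable {X : Scheme.{u}}

/-- the module `idealMod I` of an ideal sheaf with support `Uᶜ` is `O` over `U` and its sections
vanish off `U`. -/
theorem idealMod_props (U : X.Opens) (I : X.IdealSheafData)
    (hsupp : (I.support : Set X) = (U : Set X)ᶜ) :
    (∀ V : X.Opens, V ≤ U → Function.Bijective ((ClSub.idealModι I).app V)) ∧
      (∀ (D : X.Opens) (m : Γ(ClSub.idealMod I, D)),
        X.basicOpen (toFn ((ClSub.idealModι I).app D m)) ≤ U) := by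
  let φ := ClSub.toSubscheme I
  have hex : (ShortComplex.mk (kernel.ι φ) φ (kernel.condition φ)).Exact :=
    ShortComplex.exact_of_f_is_kernel _ (kernelIsKernel φ)
  refine ⟨?_, ?_⟩
  · intro V hV
    refine ⟨AffineDict.app_injective_of_mono (kernel.ι φ) V, ?_⟩
    intro r
    have hempty : I.subschemeι ⁻¹ᵁ V = ⊥ := by
      ext z
      simp only [Opens.coe_bot, Set.mem_empty_iff_false, iff_false]
      intro hz
      have h1 : I.subschemeι z ∈ (I.support : Set X) := by
        rw [← Scheme.IdealSheafData.range_subschemeι]; exact ⟨z, rfl⟩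
      rw [hsupp] at h1
      exact h1 (hV hz)
    have hzero : φ.app V r = 0 := by
      have : Subsingleton Γ(I.subscheme, I.subschemeι ⁻¹ᵁ V) := by rw [hempty]; infer_instance
      exact Subsingleton.elim (α := Γ(I.subscheme, I.subschemeι ⁻¹ᵁ V)) _ _
    exact (app_exact _ hex V r).mp hzero
  · intro D m y hy
    by_contra hyU
    have hyZ : y ∈ (I.support : Set X) := by rw [hsupp]; exact hyU
    rw [← Scheme.IdealSheafData.range_subschemeι] at hyZ
    obtain ⟨z, rfl⟩ := hyZ
    have h0 : φ.app D ((kernel.ι φ).app D m) = 0 := by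
      change ((kernel.ι φ) ≫ φ).app D m = 0
      rw [kernel.condition]; rfl
    have h1 : I.subschemeι.app D (toFn ((kernel.ι φ).app D m)) = 0 := h0
    have h2 : z ∈ I.subschemeι ⁻¹ᵁ X.basicOpen (toFn ((kernel.ι φ).app D m)) := hy
    rw [Scheme.preimage_basicOpen, h1, Scheme.basicOpen_zero] at h2
    exact h2

/-- a quotient of a finite free module is globally generated -/
theorem isGloballyGenerated_of_epi_freeMod {F : X.Modules} (k : ℕ)
    (p : FlatMod.freeMod X k ⟶ F) [Epi p] : Curv2.IsGloballyGenerated F := by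
  let p' : (SheafOfModules.free (ULift.{u} (Fin k)) : X.Modules) ⟶ F :=
    Sigma.desc (fun i : ULift.{u} (Fin k) =>
      Sigma.ι (fun _ : Fin k => Coh.structureModule X) i.down ≫ p)
  let q : FlatMod.freeMod X k ⟶ (SheafOfModules.free (ULift.{u} (Fin k)) : X.Modules) :=
    Sigma.desc (fun j : Fin k =>
      Sigma.ι (fun _ : ULift.{u} (Fin k) => Coh.structureModule X) (ULift.up j))
  have hq : q ≫ p' = p := by
    apply Sigma.hom_ext
    intro j
    simp only [q, p', colimit.ι_desc_assoc, Cofan.mk_pt, Cofan.mk_ι_app]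
    exact Sigma.ι_desc _ _
  haveI : Epi (q ≫ p') := by rw [hq]; infer_instance
  exact ⟨ULift.{u} (Fin k), p', epi_of_epi q p'⟩

/-- S2326 -/
theorem isAmple_of_ideal_twist_quotient [CompactSpace X] [X.IsSeparated] (L : X.Modules)
    (hL : PicF.IsInvertible L)
    (h : ∀ I : X.IdealSheafData, BlowUp.IsFiniteTypeIdeal I →
      ∃ (n k : ℕ) (p : FlatMod.freeMod X k ⟶
        CohB1.tensorMod (ClSub.idealMod I) (CohB1.tensorPow L (n + 1))), 0 < k ∧ Epi p) :
    CohB1.IsAmple L := by
  refine ⟨hL, inferInstance, fun x => ?_⟩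
  obtain ⟨U, hxU, hU, hε⟩ := Groth.Agent.Helper4.TwistLocal.exists_affine_triv L hL x
  obtain ⟨I, hI, hsupp⟩ :=
    Groth.Agent.Helper4.FTIdealSheaf.exists_ft_idealSheafData U hU.isCompact
  obtain ⟨n, k, p, -, hp⟩ := h I hI
  haveI := hp
  obtain ⟨hbij, hvan⟩ := idealMod_props U I hsupp
  obtain ⟨εB⟩ := Groth.Agent.Helper4.RelIdealTwist.isTrivAlong_tensorPow U hε (n + 1)
  obtain ⟨s, hxs, hs⟩ :=
    Groth.Agent.Helper4.IdealTwist.exists_section_of_isGloballyGenerated_ideal_twist
      (CohB1.tensorPow L (n + 1)) (isInvertible_tensorPow hL (n + 1)) U hU εB x hxU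
      (ClSub.idealMod I) (ClSub.idealModι I) hbij hvan
      (isGloballyGenerated_of_epi_freeMod k p)
  exact ⟨n, s, hxs, hs⟩

end Groth.Agent.Helper4.IdealModProps
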