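import Mathlib
import Groth.Prelude.Def_CurvBase
import Groth.Prelude.Def_FlatMod2

set_option autoImplicit false
universe u
open CategoryTheory CategoryTheory.Limits AlgebraicGeometry

namespace Groth.Agent.Helper4.AssSpec

variable (A : CommRingCat.{u}) (M : ModuleCat.{u} A)

set_option backward.isDefEq.respectTransparency false

noncomputable instance algStalk (q : PrimeSpectrum.Top A) : Algebra A ((Spec A).presheaf.stalk q) :=
  inferInstanceAs (Algebra A ((structurePresheafInCommRingCat A).stalk q))

instance isLocStalk (q : PrimeSpectrum.Top A) :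
    IsLocalization.AtPrime ((Spec A).presheaf.stalk q) q.asIdeal :=
  inferInstanceAs (IsLocalization.AtPrime ((structurePresheafInCommRingCat A).stalk q) q.asIdeal)

noncomputable instance modStalk' (q : PrimeSpectrum.Top A) :
    Module ((Spec A).presheaf.stalk q) ((tilde M).presheaf.stalk q) :=
  FlatMod.moduleStalk (X := Spec A) (tilde M) q

instance towerStalk (q : PrimeSpectrum.Top A) :
    IsScalarTower A ((Spec A).presheaf.stalk q) ((tilde M).presheaf.stalk q) :=
  inferInstanceAs (IsScalarTower A ((structurePresheafInCommRingCat A).stalk q)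
      ↑(TopCat.Presheaf.stalk (moduleStructurePresheaf A M).presheaf q))

instance localStalk (q : PrimeSpectrum.Top A) : IsLocalRing ((Spec A).presheaf.stalk q) :=
  inferInstanceAs (IsLocalRing ((Spec A).presheaf.stalk (show ↥(Spec A) from q)))

theorem under_max (q : PrimeSpectrum.Top A) :
    Ideal.comap (algebraMap A ((Spec A).presheaf.stalk q))
      (IsLocalRing.maximalIdeal ((Spec A).presheaf.stalk q)) = q.asIdeal :=
  IsLocalization.AtPrime.under_maximalIdeal _ q.asIdeal

theorem assPoint_of_mem (q : PrimeSpectrum.Top A) (h : q.asIdeal ∈ associatedPrimes A M) :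
    Curv2.IsAssPoint (tilde M) (show ↥(Spec A) from q) := by
  have := Module.associatedPrimes.mem_associatedPrimes_of_comap_mem_associatedPrimes_of_isLocalizedModule
    (R := A) (R' := (Spec A).presheaf.stalk q) q.asIdeal.primeCompl (tilde.toStalk M q).hom
    (IsLocalRing.maximalIdeal ((Spec A).presheaf.stalk q))
    (by rw [under_max]; exact h)
  exact this

theorem mem_of_assPoint (q : PrimeSpectrum.Top A) (hfg : q.asIdeal.FG)
    (h : Curv2.IsAssPoint (tilde M) (show ↥(Spec A) from q)) : q.asIdeal ∈ associatedPrimes A M := by
  have := Module.associatedPrimes.comap_mem_associatedPrimes_of_mem_associatedPrimes_of_isLocalizedModule_of_fg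
    (R := A) (R' := (Spec A).presheaf.stalk q) q.asIdeal.primeCompl (tilde.toStalk M q).hom
    (IsLocalRing.maximalIdeal ((Spec A).presheaf.stalk q)) h
    (by rw [under_max]; exact hfg)
  rw [under_max] at this
  exact this

end Groth.Agent.Helper4.AssSpec
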