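import Mathlib

/-!
# Closure of the image of a quasi-compact morphism

For a quasi-compact morphism `f : X ⟶ S`, the closure of the image of `f` is the set of
specialisations of points of the image.
-/

universe u

namespace Groth.Agent.Helper4

open AlgebraicGeometry CategoryTheory

theorem primeSpectrum_exists_specializes_of_mem_closure_range {A B : Type*} [CommRing A]
    [CommRing B] (φ : A →+* B) (p : PrimeSpectrum A)
    (hp : p ∈ closure (Set.range (PrimeSpectrum.comap φ))) :
    ∃ q : PrimeSpectrum B, PrimeSpectrum.comap φ q ⤳ p := by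
  rw [PrimeSpectrum.closure_range_comap, PrimeSpectrum.mem_zeroLocus] at hp
  obtain ⟨p0, hp0, hle⟩ := Ideal.exists_minimalPrimes_le (J := p.asIdeal) hp
  obtain ⟨q, hq, -, hcomap⟩ := Ideal.exists_comap_eq_of_mem_minimalPrimes (I := ⊥) φ p0 (by
    simpa [RingHom.ker] using hp0)
  refine ⟨⟨q, hq⟩, ?_⟩
  rw [← PrimeSpectrum.le_iff_specializes]
  show (PrimeSpectrum.comap φ ⟨q, hq⟩).asIdeal ≤ p.asIdeal
  simpa [hcomap] using hle

theorem exists_specializes_of_mem_closure_range {X S : Scheme.{u}} (f : X ⟶ S) [QuasiCompact f]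
    (s : S) (hs : s ∈ closure (Set.range f.base)) : ∃ x : X, f.base x ⤳ s := by
  obtain ⟨_, ⟨U, hU : IsAffineOpen U, rfl⟩, hsU, -⟩ :=
    S.isBasis_affineOpens.exists_subset_of_mem_open (Set.mem_univ s) isOpen_univ
  have hcomp : IsCompact ((f ⁻¹ᵁ U : X.Opens) : Set X) :=
    QuasiCompact.isCompact_preimage (f := f) _ U.2 hU.isCompact
  obtain ⟨R, g, hg⟩ := isCompact_iff_exists.mp hcomp
  -- the range of `g ≫ f` is `range f ∩ U`
  have hrange : Set.range (g ≫ f).base = Set.range f.base ∩ U := by
    ext y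
    constructor
    · rintro ⟨z, rfl⟩
      refine ⟨⟨g.base z, by simp⟩, ?_⟩
      have : g.base z ∈ ((f ⁻¹ᵁ U : X.Opens) : Set X) := hg ▸ Set.mem_range_self z
      simpa using this
    · rintro ⟨⟨x, rfl⟩, hxU⟩
      have : x ∈ Set.range g.base := by
        have h2 : x ∈ ((f ⁻¹ᵁ U : X.Opens) : Set X) := hxU
        rw [← hg] at h2
        exact h2
      obtain ⟨z, rfl⟩ := this
      exact ⟨z, by simp⟩
  have hsub : Set.range (g ≫ f).base ⊆ Set.range hU.fromSpec.base := by
    rw [hrange, hU.range_fromSpec]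
    exact Set.inter_subset_right
  let h : Spec R ⟶ Spec Γ(S, U) := IsOpenImmersion.lift hU.fromSpec (g ≫ f) hsub
  have hfac : h ≫ hU.fromSpec = g ≫ f := IsOpenImmersion.lift_fac _ _ _
  obtain ⟨φ, hφ⟩ := Spec.homEquiv.symm.surjective h
  -- `s` comes from a point `s'` of `Spec Γ(S, U)`
  have hs' : s ∈ Set.range hU.fromSpec.base := by rw [hU.range_fromSpec]; exact hsU
  obtain ⟨s', rfl⟩ := hs'
  have hemb : Topology.IsOpenEmbedding hU.fromSpec.base := hU.fromSpec.isOpenEmbedding
  have hcl : s' ∈ closure (Set.range h.base) := by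
    rw [hemb.isInducing.closure_eq_preimage_closure_image, Set.mem_preimage, ← Set.range_comp]
    have h3 : (hU.fromSpec.base ∘ h.base) = (g ≫ f).base := by
      rw [← hfac]; rfl
    rw [h3, hrange]
    have hUo : IsOpen (U : Set S) := U.2
    have := hUo.inter_closure (t := Set.range f.base) ⟨hsU, hs⟩
    rwa [Set.inter_comm] at this
  have hcl' : s' ∈ closure (Set.range (PrimeSpectrum.comap φ.hom)) := by
    rw [← hφ] at hcl
    exact hcl
  obtain ⟨q, hq⟩ := primeSpectrum_exists_specializes_of_mem_closure_range φ.hom s' hcl'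
  refine ⟨g.base q, ?_⟩
  have h4 : f.base (g.base q) = hU.fromSpec.base (h.base q) := by
    have : (g ≫ f).base q = (h ≫ hU.fromSpec).base q := by rw [hfac]
    exact this
  rw [h4]
  apply Specializes.map _ hU.fromSpec.continuous
  rw [← hφ]
  exact hq

theorem mem_closure_range_iff_of_quasiCompact {X S : Scheme.{u}} (f : X ⟶ S) [QuasiCompact f]
    (s : S) : s ∈ closure (Set.range f.base) ↔ ∃ x : X, f.base x ⤳ s := by
  refine ⟨exists_specializes_of_mem_closure_range f s, ?_⟩
  rintro ⟨x, hx⟩
  exact closure_mono (Set.singleton_subset_iff.mpr (Set.mem_range_self x)) hx.mem_closure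

end Groth.Agent.Helper4
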