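import Mathlib
import Groth.Prelude.Def_CxOX
import Groth.Agent.Helper9.SkyMod5
import Groth.Agent.Helper4.ExtZeroStalk

/-! For an injective `O_X`-module `J` and an open immersion `ι`, the unit `J ⟶ ι_* ι^* J` is a
split epimorphism. -/

set_option autoImplicit false
universe u

open CategoryTheory CategoryTheory.Limits AlgebraicGeometry Opposite

namespace Groth.Agent.Helper4.Flasque

open Groth.Agent.Helper4.SuppLib Groth.Agent.Helper4.ExtZeroStalk

variable {T X : Scheme.{u}} (ι : T ⟶ X) [IsOpenImmersion ι]

theorem isIso_restrict_counit (M : X.Modules) :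
    IsIso ((Scheme.Modules.restrictFunctor ι).map ((CxOX.extZeroAdj ι).counit.app M)) := by
  have h := (CxOX.extZeroAdj ι).right_triangle_components M
  haveI : IsIso ((CxOX.extZeroAdj ι).unit.app ((Scheme.Modules.restrictFunctor ι).obj M)) :=
    inferInstance
  rw [IsIso.eq_inv_of_hom_inv_id h]
  infer_instance

/-- `ι_! ι^* M ⟶ M` is a monomorphism -/
instance mono_counit (M : X.Modules) : Mono ((CxOX.extZeroAdj ι).counit.app M) := by
  apply Preadditive.mono_of_isZero_kernel
  apply isZero_of_stalks
  intro x
  by_cases hx : x ∈ Set.range ι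
  · obtain ⟨y, rfl⟩ := hx
    haveI := isIso_restrict_counit ι M
    have hz : IsZero ((Scheme.Modules.restrictFunctor ι).obj
        (kernel ((CxOX.extZeroAdj ι).counit.app M))) :=
      IsZero.of_iso (isZero_kernel_of_mono _)
        (PreservesKernel.iso (Scheme.Modules.restrictFunctor ι) _)
    exact (subsingleton_stalk_restrict_iff ι _ y).1 (subsingleton_stalk_of_isZero _ hz y)
  · have hmono : Mono ((Groth.Agent.Helper9.SkyMod4.St x).map
        (kernel.ι ((CxOX.extZeroAdj ι).counit.app M))) := inferInstance
    rw [ModuleCat.mono_iff_injective] at hmono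
    have hsub : Subsingleton ↑((Groth.Agent.Helper9.SkyMod4.St x).obj
        ((Scheme.Modules.restrictFunctor ι ⋙ CxOX.extZero ι).obj M)) :=
      subsingleton_stalk_extZero ι ((Scheme.Modules.restrictFunctor ι).obj M) x hx
    exact @Function.Injective.subsingleton _ _ _ hmono hsub

/-- the unit `J ⟶ ι_* ι^* J` is a split epimorphism for `J` injective -/
theorem exists_section (J : X.Modules) [Injective J] :
    ∃ s : (Scheme.Modules.pushforward ι).obj ((Scheme.Modules.restrictFunctor ι).obj J) ⟶ J,
      s ≫ (Scheme.Modules.restrictAdjunction ι).unit.app J = 𝟙 _ := by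
  let adj₁ := CxOX.extZeroAdj ι
  let adj₂ := Scheme.Modules.restrictAdjunction ι
  let M := (Scheme.Modules.pushforward ι).obj ((Scheme.Modules.restrictFunctor ι).obj J)
  let c : (Scheme.Modules.restrictFunctor ι).obj M ⟶ (Scheme.Modules.restrictFunctor ι).obj J :=
    adj₂.counit.app _
  let ψ : (CxOX.extZero ι).obj ((Scheme.Modules.restrictFunctor ι).obj M) ⟶ J :=
    (adj₁.homEquiv _ _).symm c
  let s : M ⟶ J := Injective.factorThru ψ (adj₁.counit.app M)
  have hs : adj₁.counit.app M ≫ s = ψ := Injective.comp_factorThru ψ _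
  refine ⟨s, ?_⟩
  -- `ι^* s = c`
  have hψ : adj₁.unit.app _ ≫ (Scheme.Modules.restrictFunctor ι).map ψ = c := by
    have := (adj₁.homEquiv _ _).apply_symm_apply c
    rwa [Adjunction.homEquiv_unit] at this
  have hsc : (Scheme.Modules.restrictFunctor ι).map s = c := by
    have h1 := adj₁.right_triangle_components M
    calc (Scheme.Modules.restrictFunctor ι).map s
        = (adj₁.unit.app _ ≫ (Scheme.Modules.restrictFunctor ι).map (adj₁.counit.app M)) ≫
            (Scheme.Modules.restrictFunctor ι).map s := by rw [h1]; exact (Category.id_comp _).symm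
      _ = adj₁.unit.app _ ≫ (Scheme.Modules.restrictFunctor ι).map ψ := by
          rw [Category.assoc, ← Functor.map_comp, hs]
      _ = c := hψ
  apply (adj₂.homEquiv _ _).symm.injective
  rw [Adjunction.homEquiv_counit, Adjunction.homEquiv_counit, Functor.map_comp, hsc,
    CategoryTheory.Functor.map_id, Category.id_comp, Category.assoc]
  have h2 := adj₂.left_triangle_components J
  rw [h2, Category.comp_id]

end Groth.Agent.Helper4.Flasque
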