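import Mathlib
import Groth.Prelude.Def_CxOX
import Groth.Prelude.Def_LocCohZ
import Groth.Agent.Helper1.FunLES
import Groth.Agent.Helper1.DeltaComp
import Groth.Agent.Helper4.Flasque
import Groth.Agent.Helper4.SchAdj
import Groth.Agent.Helper4.QcohLimits
import Groth.Agent.Helper4.QcohGlue

/-! Local cohomology sheaves of `O_Y`-modules: the long exact sequence relating `ℋ^q_Z` and
`R^q j_*`, and quasi-coherence (conditional on quasi-coherence of `R^q j_*`). -/

set_option autoImplicit false
universe u

open CategoryTheory CategoryTheory.Limits AlgebraicGeometry Opposite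

namespace Groth.Agent.Helper4.HZshQc

open Groth.Agent.Helper4.SuppLib Groth.Agent.Helper4.ExtZeroStalk Groth.Agent.Helper1

variable {U Y : Scheme.{u}} (j : U ⟶ Y) [IsOpenImmersion j]

/-- `j_!` preserves monomorphisms -/
instance preservesMonomorphisms_extZero : (CxOX.extZero j).PreservesMonomorphisms where
  preserves {M N} f hf := by
    apply Preadditive.mono_of_isZero_kernel
    apply isZero_of_stalks
    intro x
    by_cases hx : x ∈ Set.range j
    · obtain ⟨y, rfl⟩ := hx
      have hz : IsZero ((Scheme.Modules.restrictFunctor j).obj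
          (kernel ((CxOX.extZero j).map f))) := by
        refine IsZero.of_iso ?_ (PreservesKernel.iso (Scheme.Modules.restrictFunctor j) _)
        haveI : Mono ((Scheme.Modules.restrictFunctor j).map ((CxOX.extZero j).map f)) := by
          have hnat := (unitIso j).hom.naturality f
          have : (Scheme.Modules.restrictFunctor j).map ((CxOX.extZero j).map f) =
              (unitIso j).inv.app M ≫ f ≫ (unitIso j).hom.app N := by
            rw [← cancel_epi ((unitIso j).hom.app M)]
            simp only [Iso.hom_inv_id_app_assoc]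
            exact hnat.symm
          rw [this]
          infer_instance
        exact isZero_kernel_of_mono _
      exact (subsingleton_stalk_restrict_iff j _ y).1 (subsingleton_stalk_of_isZero _ hz y)
    · have hmono : Mono ((Groth.Agent.Helper9.SkyMod4.St x).map
          (kernel.ι ((CxOX.extZero j).map f))) := inferInstance
      rw [ModuleCat.mono_iff_injective] at hmono
      have hsub : Subsingleton ↑((Groth.Agent.Helper9.SkyMod4.St x).obj
          ((CxOX.extZero j).obj M)) :=
        subsingleton_stalk_extZero j M x hx
      exact @Function.Injective.subsingleton _ _ _ hmono hsub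

/-- restriction to an open preserves injectives -/
theorem injective_restrict (J : Y.Modules) [Injective J] :
    Injective ((Scheme.Modules.restrictFunctor j).obj J) :=
  Injective.injective_of_adjoint (CxOX.extZeroAdj j) J

/-- the unit `𝟭 ⟶ j^* ⋙ j_*` -/
noncomputable abbrev β : 𝟭 Y.Modules ⟶
    Scheme.Modules.restrictFunctor j ⋙ Scheme.Modules.pushforward j :=
  (Scheme.Modules.restrictAdjunction j).unit

lemma w : CxOX.gammaZι j ≫ β j = 0 := by
  ext F : 2
  exact kernel.condition ((β j).app F)

lemma shortExact_of_injective (I : Y.Modules) [Injective I] :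
    (FunLES.sc (CxOX.gammaZι j) (β j) (w j) I).ShortExact := by
  obtain ⟨s, hs⟩ := Flasque.exists_section j I
  exact
    { exact := ShortComplex.exact_of_f_is_kernel _ (kernelIsKernel ((β j).app I))
      mono_f := by
        change Mono (kernel.ι ((β j).app I))
        infer_instance
      epi_g := by
        change Epi ((Scheme.Modules.restrictAdjunction j).unit.app I)
        exact epi_of_epi_fac hs }

instance : PreservesFiniteLimits (Scheme.Modules.restrictFunctor j ⋙ Scheme.Modules.pushforward j) :=
  comp_preservesFiniteLimits _ _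

variable [HasInjectiveResolutions Y.Modules]

lemma isZero_id (n : ℕ) (F : Y.Modules) : IsZero (((𝟭 Y.Modules).rightDerived (n + 1)).obj F) :=
  FunLES.isZero_rightDerived_of_exact n F

/-- degree zero -/
theorem nonempty_iso_zero (M : Y.Modules) :
    Nonempty (((DCoh.gammaZ j).rightDerived 0).obj M ≅ kernel ((β j).app M)) := by
  obtain ⟨w₂, e₂⟩ := FunLES.les₂ (CxOX.gammaZι j) (β j) (w j)
    (fun I _ => shortExact_of_injective j I) 0 M
  haveI := FunLES.mono₀ (CxOX.gammaZι j) (β j) (w j) (fun I _ => shortExact_of_injective j I) M
  let G := 𝟭 Y.Modules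
  let H := Scheme.Modules.restrictFunctor j ⋙ Scheme.Modules.pushforward j
  have hnat := FunLES.toRightDerivedZero_naturality (β j) M
  haveI : IsIso (G.toRightDerivedZero.app M) := inferInstance
  haveI : IsIso (H.toRightDerivedZero.app M) := inferInstance
  let e1 : ((DCoh.gammaZ j).rightDerived 0).obj M ≅
      kernel ((NatTrans.rightDerived (β j) 0).app M) :=
    IsLimit.conePointUniqueUpToIso e₂.fIsKernel (limit.isLimit _)
  let e2 : kernel ((β j).app M) ≅ kernel ((NatTrans.rightDerived (β j) 0).app M) :=
    kernel.mapIso _ _ (asIso (G.toRightDerivedZero.app M)) (asIso (H.toRightDerivedZero.app M))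
      hnat
  exact ⟨e1 ≪≫ e2.symm⟩

/-- degree one -/
theorem nonempty_iso_one (M : Y.Modules) :
    Nonempty (((DCoh.gammaZ j).rightDerived 1).obj M ≅ cokernel ((β j).app M)) := by
  obtain ⟨e⟩ := FunLES.nonempty_iso_cokernel (CxOX.gammaZι j) (β j) (w j)
    (fun I _ => shortExact_of_injective j I) (isZero_id 0)
  exact ⟨e.app M ≪≫ PreservesCokernel.iso ((evaluation _ _).obj M) (β j)⟩

variable [HasInjectiveResolutions U.Modules]

/-- higher degrees -/
theorem nonempty_iso_succ (k : ℕ) (M : Y.Modules) :
    Nonempty (((DCoh.gammaZ j).rightDerived (k + 2)).obj M ≅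
      ((Scheme.Modules.pushforward j).rightDerived (k + 1)).obj
        ((Scheme.Modules.restrictFunctor j).obj M)) := by
  have e1 := FunLES.isoOfIsZero (CxOX.gammaZι j) (β j) (w j)
    (fun I _ => shortExact_of_injective j I) (k + 1) (isZero_id k) (isZero_id (k + 1))
  haveI : EnoughInjectives Y.Modules := by
    haveI := SchAdj.isGrothendieckAbelian_modules Y
    infer_instance
  obtain ⟨e2⟩ := DeltaFun.nonempty_iso_rightDerived_comp
    (Scheme.Modules.restrictFunctor j)
    (fun S hS => DeltaFun.shortExact_map_of_exact _ S hS)
    (Scheme.Modules.pushforward j)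
    (Scheme.Modules.restrictFunctor j ⋙ Scheme.Modules.pushforward j) (Iso.refl _) (by
      intro I _ n
      haveI := injective_restrict j I
      exact Functor.isZero_rightDerived_obj_injective_succ _ _ _) (k + 1)
  exact ⟨(e1.symm ≪≫ e2).app M⟩

/-- quasi-coherence of the local cohomology sheaves, given quasi-coherence of `R^p j_*` -/
theorem isQuasicoherent_rightDerived_gammaZ [QuasiCompact j]
    (hR : ∀ (N : U.Modules), N.IsQuasicoherent → ∀ p : ℕ,
      (((Scheme.Modules.pushforward j).rightDerived p).obj N).IsQuasicoherent)
    (M : Y.Modules) (hM : M.IsQuasicoherent) (q : ℕ) :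
    (((DCoh.gammaZ j).rightDerived q).obj M).IsQuasicoherent := by
  haveI := hM
  haveI hjM : ((Scheme.Modules.restrictFunctor j).obj M).IsQuasicoherent :=
    Scheme.Modules.isQuasicoherent_restrictFunctor j M
  haveI hpush : ((Scheme.Modules.pushforward j).obj
      ((Scheme.Modules.restrictFunctor j).obj M)).IsQuasicoherent :=
    QcohGlue.isQuasicoherent_pushforward j _
  match q with
  | 0 =>
    obtain ⟨e⟩ := nonempty_iso_zero j M
    haveI : (kernel ((β j).app M)).IsQuasicoherent :=
      @QcohLimits.isQuasicoherent_kernel _ _ _ ((β j).app M) hM hpush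
    exact QcohLimits.isQuasicoherent_of_iso e.symm
  | 1 =>
    obtain ⟨e⟩ := nonempty_iso_one j M
    haveI : (cokernel ((β j).app M)).IsQuasicoherent :=
      @QcohLimits.isQuasicoherent_cokernel _ _ _ ((β j).app M) hM hpush
    exact QcohLimits.isQuasicoherent_of_iso e.symm
  | k + 2 =>
    obtain ⟨e⟩ := nonempty_iso_succ j k M
    haveI := hR _ hjM (k + 1)
    exact QcohLimits.isQuasicoherent_of_iso e.symm

end Groth.Agent.Helper4.HZshQc
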