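import Mathlib
import Groth.Agent.Helper4.SN77
import Groth.Agent.Helper4.GenTwistMain
import Groth.Agent.Helper4.AmpleIso

/-!
# Ample iff strictly nef and semiample
-/

set_option autoImplicit false
set_option linter.style.haveILetI false

namespace Groth.Agent.Helper4.SN

open CategoryTheory Limits AlgebraicGeometry Opposite TopologicalSpace
open Groth.Agent.Helper4.NApx82 Groth.Agent.Helper4.StalkDict Groth.Agent.Helper4.TensorInv
  Groth.Agent.Helper1.Dev

universe u

variable (k : Type u) [Field k] {X : Scheme.{u}} [X.Over (Spec (CommRingCat.of k))]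
  [IsProper (X ↘ (Spec (CommRingCat.of k)))]

/-- semiample and positive degree on all integral curves implies ample -/
theorem isAmple_of_semiample_of_degOn_pos (L : X.Modules) (hL : PicF.IsInvertible L) (m : ℕ)
    (hgg : Curv2.IsGloballyGenerated (CohB1.tensorPow L (m + 1)))
    (h : ∀ C : X.IdealSheafData, IsIntegral C.subscheme →
      topologicalKrullDim (C.support : Set X) = 1 → 0 < degOn k C L) : CohB1.IsAmple L := by
  haveI := isNoetherian_of_proper k X
  have hM : PicF.IsInvertible (CohB1.tensorPow L (m + 1)) := isInvertible_tensorPow hL (m + 1)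
  obtain ⟨n, σ, hcov⟩ := exists_sections_cover _ hM hgg
  obtain ⟨r, hr, ⟨τ⟩⟩ := exists_to_projSpace_of_cover n (X ↘ Spec (CommRingCat.of k)) σ hcov
  haveI hfin : IsFinite r := by
    apply isFinite_of_degOn_ne_zero k n r hr _ τ
    intro C hCi hCd
    haveI := hCi
    rw [degOn_tensorPow k C hCd L hL (m + 1)]
    have h1 := h C hCi hCd
    have h2 : (0 : ℤ) < ((m + 1 : ℕ) : ℤ) := by exact_mod_cast Nat.succ_pos m
    exact (mul_pos h2 h1).ne'
  haveI : CompactSpace (Proj (CohB1.polyGrading n k)) := Groth.Agent.Helper1.VA.compactSpace_proj k n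
  have hamp1 : CohB1.IsAmple (Twist.twist (CohB1.polyGrading n k) ((1 : ℕ) : ℤ)) :=
    Groth.Agent.Helper1.TwistMul.isAmple_twist (CohB1.polyGrading n k)
      (Groth.Agent.Helper1.PUP.hcovP n) 1 one_pos
  have hamp2 := Groth.Agent.Helper4.PullAmple.isAmple_pullback_of_isAffineHom r hamp1
  have hamp3 := Groth.Agent.Helper4.AmpleIso.isAmple_of_iso τ hamp2
  exact Groth.Agent.Helper4.TensorAssoc.isAmple_of_tensorPow hL (m + 1) (Nat.succ_pos m) hamp3

/-- **S16710** -/
theorem main16710 (L : X.Modules) (hL : PicF.IsInvertible L) :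
    CohB1.IsAmple L ↔
      ((∀ C : X.IdealSheafData, IsIntegral C.subscheme →
          topologicalKrullDim (C.support : Set X) = 1 →
            0 < Curv2.euler k X (CohB1.tensorMod (ClSub.quotMod C) L) -
              Curv2.euler k X (ClSub.quotMod C)) ∧
        ∃ m : ℕ, Curv2.IsGloballyGenerated (CohB1.tensorPow L (m + 1))) := by
  haveI := isNoetherian_of_proper k X
  constructor
  · intro hamp
    refine ⟨fun C hCi hCd => ?_, ?_⟩
    · haveI := hCi
      rw [euler_diff_eq_degOn k C L hL]
      have hd : topologicalKrullDim C.subscheme = 1 := by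
        rw [dim_subscheme]
        exact hCd
      exact (isAmple_pullback_iff_degOn_pos k C hd L hL).mp
        (Groth.Agent.Helper4.PullAmple.isAmple_pullback_of_isAffineHom _ hamp)
    · have hO := isCoh_structureModule X
      haveI : (Coh.structureModule X).IsQuasicoherent := hO.1
      obtain ⟨n₀, hn₀⟩ := Groth.Agent.Helper4.GenTwistMain.exists_forall_isGloballyGenerated_twist
        hamp (Coh.structureModule X) hO.2
      refine ⟨n₀, ?_⟩
      exact Groth.Agent.Helper4.CounitEpi.isGloballyGenerated_of_iso
        (Groth.Agent.Helper4.AmpleBasis.unitorL _) (hn₀ (n₀ + 1) (Nat.le_succ n₀))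
  · rintro ⟨h1, m, hgg⟩
    apply isAmple_of_semiample_of_degOn_pos k L hL m hgg
    intro C hCi hCd
    rw [← euler_diff_eq_degOn k C L hL]
    exact h1 C hCi hCd

include k in
/-- **S11369** -/
theorem main11369 (L : X.Modules) (hL : PicF.IsInvertible L)
    (hgen : Curv2.IsGloballyGenerated L)
    (hcurves : ∀ C : X.IdealSheafData, IsIntegral C.subscheme →
      topologicalKrullDim (C.support : Set X) = 1 →
        CohB1.IsAmple ((Scheme.Modules.pullback C.subschemeι).obj L)) :
    CohB1.IsAmple L := by
  apply isAmple_of_semiample_of_degOn_pos k L hL 0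
  · exact Groth.Agent.Helper4.CounitEpi.isGloballyGenerated_of_iso
      (Groth.Agent.Helper4.AmpleBasis.unitorL L).symm hgen
  · intro C hCi hCd
    haveI := hCi
    have hd : topologicalKrullDim C.subscheme = 1 := by
      rw [dim_subscheme]
      exact hCd
    exact (isAmple_pullback_iff_degOn_pos k C hd L hL).mp (hcurves C hCi hCd)

end Groth.Agent.Helper4.SN
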