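import Mathlib
import Groth.Agent.Helper1.EtRed

/-!
# Geometric reducedness: tensor products of reduced algebras with separably generated fields
-/

set_option autoImplicit false
universe u v w w'

namespace Groth.Agent.Helper4.GeomRed

open TensorProduct

/-- `Frac(k[x]) ⊗ C` is reduced for reduced `C` -/
theorem isReduced_fractionRing_mvPolynomial_tensor (k : Type u) [Field k] (ι : Type w)
    (C : Type v) [CommRing C] [Algebra k C] [IsReduced C] :
    IsReduced (FractionRing (MvPolynomial ι k) ⊗[k] C) := by
  let P := MvPolynomial ι k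
  let Q := FractionRing P
  have h1 : IsReduced (P ⊗[k] C) := by
    let e : P ⊗[k] C ≃ₐ[k] MvPolynomial ι C :=
      (Algebra.TensorProduct.comm k P C).trans
        ((MvPolynomial.algebraTensorAlgEquiv k C).restrictScalars k)
    exact isReduced_of_injective e.toRingHom e.injective
  letI : Algebra (P ⊗[k] C) (Q ⊗[k] C) :=
    (Algebra.TensorProduct.map (IsScalarTower.toAlgHom k P Q) (AlgHom.id k C)).toRingHom.toAlgebra
  haveI : IsScalarTower P (P ⊗[k] C) (Q ⊗[k] C) := IsScalarTower.of_algebraMap_eq (fun x => by
    change algebraMap P (Q ⊗[k] C) x =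
      Algebra.TensorProduct.map (IsScalarTower.toAlgHom k P Q) (AlgHom.id k C) (x ⊗ₜ 1)
    rw [Algebra.TensorProduct.map_tmul]
    rfl)
  haveI := IsLocalization.tensorProduct_tensorProduct k C (nonZeroDivisors P) Q (by
    ext c
    change Algebra.TensorProduct.map (IsScalarTower.toAlgHom k P Q) (AlgHom.id k C) (1 ⊗ₜ c) = 1 ⊗ₜ c
    simp)
  exact isReduced_localizationPreserves (Algebra.algebraMapSubmonoid (P ⊗[k] C) (nonZeroDivisors P))
    (Q ⊗[k] C) h1

/-- a separable algebraic extension `K/F`: if `F ⊗ C` is reduced then `K ⊗ C` is reduced -/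
theorem isReduced_tensor_of_tower {k : Type u} {F K : Type v} [Field k] [Field F] [Field K]
    [Algebra k F] [Algebra F K] [Algebra k K] [IsScalarTower k F K] [Algebra.IsSeparable F K]
    (C : Type w) [CommRing C] [Algebra k C] (hD : IsReduced (F ⊗[k] C)) : IsReduced (K ⊗[k] C) := by
  haveI : Algebra.IsAlgebraic F K := Algebra.IsSeparable.isAlgebraic F K
  have h2 : IsReduced ((F ⊗[k] C) ⊗[F] K) := by
    apply IsReduced.tensorProduct_of_flat_of_forall_fg
    intro B hB
    letI : Field B := (Subalgebra.isField_of_algebraic B).toField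
    haveI : Algebra.IsSeparable F B := Algebra.IsSeparable.of_algHom F K B.val
    haveI : Algebra.FormallyEtale F B := Algebra.FormallyEtale.of_isSeparable F B
    haveI : Algebra.FiniteType F B := (Subalgebra.fg_iff_finiteType B).mp hB
    haveI : Algebra.FinitePresentation F B :=
      Algebra.FinitePresentation.of_finiteType.mp inferInstance
    haveI : Algebra.Etale F B := ⟨inferInstance, inferInstance⟩
    exact Groth.Agent.Helper1.EtRed.isReduced_of_etale (F ⊗[k] C) ((F ⊗[k] C) ⊗[F] B)
  let g : K ⊗[k] C ≃+* (F ⊗[k] C) ⊗[F] K :=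
    ((Algebra.TensorProduct.cancelBaseChange k F F K C).symm.toRingEquiv).trans
      (Algebra.TensorProduct.comm F K (F ⊗[k] C)).toRingEquiv
  exact isReduced_of_injective (g : K ⊗[k] C →+* (F ⊗[k] C) ⊗[F] K) g.injective

/-- Lemma A': a separably generated field extension tensored with a reduced algebra is reduced -/
theorem isReduced_tensor_of_sepGen {k : Type u} {K : Type v} [Field k] [Field K] [Algebra k K]
    {ι : Type w} (x : ι → K) (hx : AlgebraicIndependent k x)
    [Algebra.IsSeparable (IntermediateField.adjoin k (Set.range x)) K]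
    (C : Type w') [CommRing C] [Algebra k C] [IsReduced C] : IsReduced (K ⊗[k] C) := by
  let F := IntermediateField.adjoin k (Set.range x)
  let e : FractionRing (MvPolynomial ι k) ≃ₐ[k] F := hx.aevalEquivField
  have hD : IsReduced (F ⊗[k] C) := by
    haveI := isReduced_fractionRing_mvPolynomial_tensor k ι C
    let e' : F ⊗[k] C ≃ₐ[k] FractionRing (MvPolynomial ι k) ⊗[k] C :=
      Algebra.TensorProduct.congr e.symm AlgEquiv.refl
    exact isReduced_of_injective e'.toRingHom e'.injective
  exact isReduced_tensor_of_tower (F := F) C hD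

end Groth.Agent.Helper4.GeomRed
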