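import Mathlib
import Groth.Agent.Helper4.GeomRed

/-!
# Reduced algebras over perfect fields are geometrically reduced; geometric reducedness and
arbitrary field extensions
-/

set_option autoImplicit false
universe u v w

namespace Groth.Agent.Helper4.GeomRed

open TensorProduct

/-- Lemma B: over a perfect field a reduced algebra stays reduced after any field extension -/
theorem isReduced_tensor_of_perfectField {k : Type u} [Field k] [PerfectField k]
    (Ω : Type v) [Field Ω] [Algebra k Ω] (C : Type w) [CommRing C] [Algebra k C] [IsReduced C] :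
    IsReduced (C ⊗[k] Ω) := by
  classical
  apply IsReduced.tensorProduct_of_flat_of_forall_fg
  intro B hB
  obtain ⟨s, hs⟩ := hB
  let KB := IntermediateField.adjoin k (s : Set Ω)
  haveI : Algebra.EssFiniteType k KB := by
    rw [IntermediateField.essFiniteType_iff]
    exact ⟨s, rfl⟩
  obtain ⟨t, ht, H⟩ := exists_isTranscendenceBasis_and_isSeparable_of_perfectField k KB
  haveI : Algebra.IsSeparable (↥(IntermediateField.adjoin k (Set.range ((↑) : t → KB)))) KB := by
    convert! H <;> simp
  have h1 : IsReduced (KB ⊗[k] C) := isReduced_tensor_of_sepGen ((↑) : t → KB) ht.1 C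
  have hle : B ≤ KB.toSubalgebra := by
    rw [← hs]
    exact IntermediateField.algebra_adjoin_le_adjoin k _
  let j : B →ₐ[k] KB := Subalgebra.inclusion hle
  have hj : Function.Injective j := Subalgebra.inclusion_injective hle
  let g : C ⊗[k] B →ₐ[k] KB ⊗[k] C :=
    (Algebra.TensorProduct.comm k C KB).toAlgHom.comp (Algebra.TensorProduct.map (AlgHom.id k C) j)
  have hg : Function.Injective g := by
    refine (Algebra.TensorProduct.comm k C KB).injective.comp ?_
    exact Module.Flat.lTensor_preserves_injective_linearMap (M := C) j.toLinearMap hj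
  exact isReduced_of_injective g.toRingHom hg

/-- if `F` is a perfect intermediate field and `F ⊗ S` is reduced, then so is `Ω ⊗ S` -/
theorem isReduced_of_perfect_tower {k : Type u} {F : Type v} {Ω : Type w} [Field k] [Field F]
    [PerfectField F] [Field Ω] [Algebra k F] [Algebra F Ω] [Algebra k Ω] [IsScalarTower k F Ω]
    (S : Type w) [CommRing S] [Algebra k S] (hT : IsReduced (F ⊗[k] S)) : IsReduced (Ω ⊗[k] S) := by
  have h1 : IsReduced ((F ⊗[k] S) ⊗[F] Ω) := isReduced_tensor_of_perfectField Ω (F ⊗[k] S)
  let e1 : Ω ⊗[k] S ≃+* (F ⊗[k] S) ⊗[F] Ω :=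
    ((Algebra.TensorProduct.cancelBaseChange k F F Ω S).symm.toRingEquiv).trans
      (Algebra.TensorProduct.comm F Ω (F ⊗[k] S)).toRingEquiv
  exact isReduced_of_injective (e1 : Ω ⊗[k] S →+* (F ⊗[k] S) ⊗[F] Ω) e1.injective

/-- geometric reducedness implies reducedness after any field extension -/
theorem isReduced_tensor_of_isGeometricallyReduced {k : Type u} [Field k] (S : Type v) [CommRing S]
    [Algebra k S] [Algebra.IsGeometricallyReduced k S] (K : Type v) [Field K] [Algebra k K] :
    IsReduced (K ⊗[k] S) := by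
  let kb := AlgebraicClosure k
  let Ω := AlgebraicClosure K
  let φ : kb →ₐ[k] Ω := IsAlgClosed.lift
  letI : Algebra kb Ω := φ.toRingHom.toAlgebra
  haveI : IsScalarTower k kb Ω := IsScalarTower.of_algebraMap_eq (fun x => (φ.commutes x).symm)
  haveI hT : IsReduced (kb ⊗[k] S) := (Algebra.isGeometricallyReduced_field_iff k S).mp inferInstance
  have h1 : IsReduced ((kb ⊗[k] S) ⊗[kb] Ω) := isReduced_tensor_of_perfectField Ω (kb ⊗[k] S)
  let e1 : Ω ⊗[k] S ≃+* (kb ⊗[k] S) ⊗[kb] Ω :=
    ((Algebra.TensorProduct.cancelBaseChange k kb kb Ω S).symm.toRingEquiv).trans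
      (Algebra.TensorProduct.comm kb Ω (kb ⊗[k] S)).toRingEquiv
  let j : K ⊗[k] S →ₐ[k] Ω ⊗[k] S :=
    Algebra.TensorProduct.map (IsScalarTower.toAlgHom k K Ω) (AlgHom.id k S)
  have hj : Function.Injective j :=
    Module.Flat.rTensor_preserves_injective_linearMap (M := S) (IsScalarTower.toAlgHom k K Ω).toLinearMap
      (algebraMap K Ω).injective
  haveI : IsReduced (Ω ⊗[k] S) :=
    isReduced_of_injective (e1 : Ω ⊗[k] S →+* (kb ⊗[k] S) ⊗[kb] Ω) e1.injective
  exact isReduced_of_injective j.toRingHom hj

end Groth.Agent.Helper4.GeomRed
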