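import Mathlib
import Groth.Agent.Helper4.SN139
import Groth.Agent.Helper3.SepClosedEq

/-!
# Twisting down by rational points over a separably closed field (S19880)
-/

set_option autoImplicit false
set_option linter.unusedSectionVars false
set_option linter.style.haveILetI false
universe u

open CategoryTheory CategoryTheory.Limits AlgebraicGeometry TopologicalSpace Opposite TensorProduct

namespace Groth.Agent.Helper4.SN

section SepRat

open Groth.Agent.Helper4.StalkDict Groth.Agent.Helper4.NApx82 Groth.Agent.Lead.Ref1B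

attribute [local instance] Curv2.resAlgebra

variable (k : Type u) [Field k] {C : Scheme.{u}} [C.Over (Spec (CommRingCat.of k))]
  [IsIntegral C] [IsProper (C ↘ (Spec (CommRingCat.of k)))]

include k in
/-- a nonzero section of an invertible module generates the stalks on a nonempty open -/
theorem exists_open_stalkLin_surjective (L : C.Modules) (hL : PicF.IsInvertible L)
    (s : Coh.structureModule C ⟶ L) (hs : s ≠ 0) :
    ∃ U : C.Opens, (U : Set C).Nonempty ∧ ∀ y ∈ U, Function.Surjective (stalkLin s y) := by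
  haveI := Groth.Agent.Helper4.NApx82.isNoetherian_of_proper k C
  have hO : PicF.IsInvertible (Coh.structureModule C) :=
    Groth.Agent.Helper4.TensorInv.isInvertible_structureModule
  have hcO := Groth.Agent.Helper1.SerreFin.isCoh_of_isInvertible _ hO
  have hcL := Groth.Agent.Helper1.SerreFin.isCoh_of_isInvertible L hL
  haveI hm : Mono s := Groth.Agent.Helper4.NApx81.mono_of_ne_zero s hO hL hs
  have hgen := Groth.Agent.Helper4.NApx81.stalkLin_surjective_genericPoint s hO hL hs
  have hcQ := Groth.Agent.Lead.PerfLib.isCoh_cokernel hcO hcL s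
  obtain ⟨U, hηU, hU⟩ := Groth.Agent.Lead.StalkNhd.exists_nhd_subsingleton (cokernel s) hcQ.2
    (genericPoint C) (Groth.Agent.Lead.StalkNhd.subsingleton_stalk_cokernel s _ hgen)
  refine ⟨U, ⟨_, hηU⟩, fun x hxU => ?_⟩
  have hex : (ShortComplex.mk s (cokernel.π s) (cokernel.condition s)).Exact :=
    ShortComplex.exact_of_g_is_cokernel _ (cokernelIsCokernel s)
  haveI : Mono (ShortComplex.mk s (cokernel.π s) (cokernel.condition s)).f := hm
  have h2 := Groth.Agent.Helper4.StalkExact.stalkLin_exact _ hex x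
  intro t
  haveI := hU x hxU
  exact (h2 t).mp (Subsingleton.elim _ _)

omit [IsIntegral C] [IsProper (C ↘ (Spec (CommRingCat.of k)))] in
/-- rational points are dense on a smooth scheme over a separably closed field -/
theorem exists_rational_point_mem [IsSepClosed k] [Smooth (C ↘ (Spec (CommRingCat.of k)))]
    (U : C.Opens) (hU : (U : Set C).Nonempty) :
    ∃ σ : Spec (CommRingCat.of k) ⟶ C, σ ≫ (C ↘ Spec (CommRingCat.of k)) = 𝟙 _ ∧
      σ (IsLocalRing.closedPoint k) ∈ U := by
  haveI : GeometricallyReduced (C ↘ Spec (CommRingCat.of k)) :=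
    Groth.Agent.Helper2.SmoothRegSch.geometricallyReduced_of_smooth k _ _
  obtain ⟨y, hy, hyU⟩ := Groth.Agent.Helper3.SepClosedEq.exists_point_mem k k
    (C ↘ Spec (CommRingCat.of k)) U hU
  refine ⟨y, ?_, hyU⟩
  rw [hy]
  have : algebraMap k k = RingHom.id k := rfl
  rw [this]
  exact Spec.map_id _

/-- over a separably closed field, an invertible module with a section can be twisted down by a
rational point dropping `h⁰` by exactly one -/
theorem exists_rational_twist_down [IsSepClosed k] [Smooth (C ↘ (Spec (CommRingCat.of k)))]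
    (hdim : topologicalKrullDim C = 1)
    (L : C.Modules) (hL : PicF.IsInvertible L) (h0 : 0 < Module.finrank k (Coh.HH C L 0)) :
    ∃ σ : Spec (CommRingCat.of k) ⟶ C, σ ≫ (C ↘ Spec (CommRingCat.of k)) = 𝟙 _ ∧
      PicF.IsInvertible (CohB1.tensorMod L (ClSub.idealMod σ.ker)) ∧
      Module.finrank k (Coh.HH C (CohB1.tensorMod L (ClSub.idealMod σ.ker)) 0) + 1 =
        Module.finrank k (Coh.HH C L 0) := by
  haveI := Groth.Agent.Helper4.NApx82.isNoetherian_of_proper k C
  have hnt : Nontrivial (Coh.HH C L 0) := Module.nontrivial_of_finrank_pos (R := k) h0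
  obtain ⟨s, hs⟩ := exists_section_of_nontrivial_H0 L hnt
  obtain ⟨U, hUne, hU⟩ := exists_open_stalkLin_surjective k L hL s hs
  obtain ⟨σ, hσ, hσU⟩ := exists_rational_point_mem k U hUne
  refine ⟨σ, hσ, ?_⟩
  obtain ⟨x, hxdef⟩ : ∃ x : C, x = σ (IsLocalRing.closedPoint k) := ⟨_, rfl⟩
  have hx : IsClosed ({x} : Set C) := by rw [hxdef]; exact isClosed_of_section k σ hσ
  have hker : σ.ker = Scheme.IdealSheafData.vanishingIdeal ⟨{x}, hx⟩ := by
    subst hxdef
    exact ker_of_section k σ hσ
  have hκ : Module.finrank k (C.residueField x) = 1 := by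
    rw [hxdef]; exact finrank_residueField_of_section k σ hσ
  have hsx : Function.Surjective (stalkLin s x) := by rw [hxdef]; exact hU _ hσU
  haveI := Groth.Agent.Helper4.SN.regular_of_smooth k x
  obtain ⟨hI, -⟩ := ideal_point_of_normal k hdim x hx
    (Groth.Agent.Helper4.RegNormal.isIntegrallyClosed_of_isRegularLocalRing _)
  have hlt := h0_idealTwist_lt k x hx L hL s hsx
  have hL1 := Groth.Agent.Helper4.QAffSec.isFinLocFreeOfRank_one_of_isInvertible L hL
  have hle := h0_le_twist_point k x hx 1 L hL1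
  rw [hker]
  obtain ⟨D, hD⟩ : ∃ D, D = Scheme.IdealSheafData.vanishingIdeal ⟨{x}, hx⟩ := ⟨_, rfl⟩
  rw [← hD] at hI hlt hle ⊢
  have e1 := (Groth.Agent.Helper1.ProjTop.HHlinEquiv k (X := C)
    (Groth.Agent.Lead.Ref1B.braid (ClSub.idealMod D) L) 0).finrank_eq
  rw [e1] at hlt
  rw [hκ] at hle
  exact ⟨isInvertible_tensor L _ hL hI, by omega⟩


/-- over a separably closed field, `n ≤ h⁰(L)` rational points can be chosen dropping `h⁰` by
exactly `n` -/
theorem exists_rational_points_twist [IsSepClosed k] [Smooth (C ↘ (Spec (CommRingCat.of k)))]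
    (hdim : topologicalKrullDim C = 1) :
    ∀ (n : ℕ) (L : C.Modules), PicF.IsInvertible L → n ≤ Module.finrank k (Coh.HH C L 0) →
      ∃ σ : Fin n → (Spec (CommRingCat.of k) ⟶ C),
        (∀ t, σ t ≫ (C ↘ Spec (CommRingCat.of k)) = 𝟙 _) ∧
        Module.finrank k (Coh.HH C (CohB1.tensorMod L (FGA.tensorList
          (List.ofFn fun t : Fin n => ClSub.idealMod (σ t).ker))) 0) + n =
          Module.finrank k (Coh.HH C L 0) := by
  intro n
  induction n with
  | zero =>
    intro L hL _
    refine ⟨fun t => t.elim0, fun t => t.elim0, ?_⟩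
    rw [List.ofFn_zero]
    have e1 := (Groth.Agent.Helper1.ProjTop.HHlinEquiv k (X := C) (SecTwist.unitorR L) 0).finrank_eq
    exact e1
  | succ n ih =>
    intro L hL hn
    obtain ⟨σ₀, hσ₀, hL', h0'⟩ := exists_rational_twist_down k hdim L hL (by omega)
    obtain ⟨σ', hσ', h0''⟩ := ih (CohB1.tensorMod L (ClSub.idealMod σ₀.ker)) hL' (by omega)
    refine ⟨Fin.cons σ₀ σ', ?_, ?_⟩
    · intro t
      refine Fin.cases ?_ (fun i => ?_) t
      · rw [Fin.cons_zero]; exact hσ₀
      · rw [Fin.cons_succ]; exact hσ' i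
    · rw [List.ofFn_succ]
      change Module.finrank k (Coh.HH C (CohB1.tensorMod L (FGA.tensorList
        (ClSub.idealMod σ₀.ker :: List.ofFn fun t : Fin n => ClSub.idealMod (σ' t).ker))) 0) +
          (n + 1) = Module.finrank k (Coh.HH C L 0)
      have e1 := (Groth.Agent.Helper1.ProjTop.HHlinEquiv k (X := C)
        (Groth.Agent.Lead.Ref1B.assoc L (ClSub.idealMod σ₀.ker) (FGA.tensorList
          (List.ofFn fun t : Fin n => ClSub.idealMod (σ' t).ker))) 0).finrank_eq
      have e2 : FGA.tensorList (ClSub.idealMod σ₀.ker ::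
          List.ofFn fun t : Fin n => ClSub.idealMod (σ' t).ker) =
          CohB1.tensorMod (ClSub.idealMod σ₀.ker) (FGA.tensorList
            (List.ofFn fun t : Fin n => ClSub.idealMod (σ' t).ker)) := rfl
      rw [e2, ← e1]
      omega


/-- S19880 for an integral curve -/
theorem main19880 [IsSepClosed k] [Smooth (C ↘ (Spec (CommRingCat.of k)))]
    (hdim : topologicalKrullDim C = 1)
    (h0O : Module.finrank k (Coh.HH C (Coh.structureModule C) 0) = 1)
    (g : ℕ) (hg : Curv2.genus k C = g) (r : ℕ) (hr : 2 * g < r)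
    (L : C.Modules) (hL : PicF.IsInvertible L) (hLdeg : Curv2.deg k C L 1 = (r : ℤ)) :
    ∃ σ : Fin (r - g) → (Spec (CommRingCat.of k) ⟶ C),
      (∀ t, σ t ≫ (C ↘ Spec (CommRingCat.of k)) = 𝟙 _) ∧
      Module.finrank k (Coh.HH C (CohB1.tensorMod L (FGA.tensorList
        (List.ofFn fun t : Fin (r - g) => ClSub.idealMod (σ t).ker))) 0) = 1 := by
  haveI := Groth.Agent.Helper4.NApx82.isNoetherian_of_proper k C
  have h1 : Subsingleton (Coh.HH C L 1) := by
    by_contra hns
    rw [not_subsingleton_iff_nontrivial] at hns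
    have hle := deg_le_of_h1_nontrivial k hdim h0O L hL hns
    rw [hLdeg, hg] at hle
    omega
  have h10 : Module.finrank k (Coh.HH C L 1) = 0 := Module.finrank_zero_of_subsingleton
  have hχL := chi_eq_h0_sub_h1 k hdim.le L
  have hχO := chi_eq_h0_sub_h1 k hdim.le (Coh.structureModule C)
  unfold chi at hχL hχO
  have hdL : Curv2.deg k C L 1 = Curv2.euler k C L - Curv2.euler k C (Coh.structureModule C) := by
    unfold Curv2.deg
    push_cast
    ring
  have hgen : (Module.finrank k (Coh.HH C (Coh.structureModule C) 1) : ℤ) = g := by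
    rw [← hg]; rfl
  have hh0 : (Module.finrank k (Coh.HH C L 0) : ℤ) = (r : ℤ) + 1 - g := by
    rw [h10] at hχL
    rw [h0O] at hχO
    push_cast at hχL hχO
    linarith
  obtain ⟨σ, hσ, hcount⟩ := exists_rational_points_twist k hdim (r - g) L hL (by omega)
  refine ⟨σ, hσ, ?_⟩
  omega


end SepRat

end Groth.Agent.Helper4.SN
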