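import Mathlib
import Groth.Agent.Helper4.SN140
import Groth.Agent.Helper5.DimBC2
import Groth.Agent.Lead.BCFieldC
import Groth.Agent.Lead.H0GeomC

/-!
# Base change of a smooth proper curve to a field extension (towards S6487)
-/

set_option autoImplicit false
set_option linter.unusedSectionVars false
set_option linter.style.haveILetI false
universe u

open CategoryTheory CategoryTheory.Limits AlgebraicGeometry TopologicalSpace Opposite TensorProduct

namespace Groth.Agent.Helper4.SN

section BCcurve

open Groth.Agent.Helper4.StalkDict Groth.Agent.Helper4.NApx82 Groth.Agent.Lead.Ref1B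

attribute [local instance] Curv2.resAlgebra

section H0

variable (k : Type u) [Field k] {C : Scheme.{u}} [C.Over (Spec (CommRingCat.of k))]
  [IsIntegral C] [IsProper (C ↘ (Spec (CommRingCat.of k)))]

/-- an integral proper curve with a rational point at which it is regular has `h⁰(O) = 1` -/
theorem h0_unit_eq_one_of_section (hdim : topologicalKrullDim C = 1)
    (σ : Spec (CommRingCat.of k) ⟶ C) (hσ : σ ≫ (C ↘ Spec (CommRingCat.of k)) = 𝟙 _)
    (hreg : IsRegularLocalRing (C.presheaf.stalk (σ (IsLocalRing.closedPoint k)))) :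
    Module.finrank k (Coh.HH C (Coh.structureModule C) 0) = 1 := by
  haveI := Groth.Agent.Helper4.NApx82.isNoetherian_of_proper k C
  obtain ⟨x, hxdef⟩ : ∃ x : C, x = σ (IsLocalRing.closedPoint k) := ⟨_, rfl⟩
  have hx : IsClosed ({x} : Set C) := by rw [hxdef]; exact isClosed_of_section k σ hσ
  have hκ : Module.finrank k (C.residueField x) = 1 := by
    rw [hxdef]; exact finrank_residueField_of_section k σ hσ
  haveI : IsRegularLocalRing (C.presheaf.stalk x) := by rw [hxdef]; exact hreg
  obtain ⟨hI, hdI⟩ := ideal_point_of_normal k hdim x hx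
    (Groth.Agent.Helper4.RegNormal.isIntegrallyClosed_of_isRegularLocalRing _)
  obtain ⟨D, hD⟩ : ∃ D, D = Scheme.IdealSheafData.vanishingIdeal ⟨{x}, hx⟩ := ⟨_, rfl⟩
  rw [← hD] at hI hdI
  obtain ⟨J, hJ, ⟨ε₁⟩, ⟨ε₂⟩⟩ := Groth.Agent.Lead.InvDual.exists_inverse (ClSub.idealMod D) hI
  have hdJ : Curv2.deg k C J 1 = 1 := by
    rw [deg_inverse k hdim.le _ J hI hJ ε₁, hdI, hκ]
    norm_num
  haveI := mono_idealTwistι D J hJ
  have hs : ε₂.inv ≫ idealTwistι D J ≠ 0 := by
    intro h
    exact not_isZero_of_isInvertible _ TensorInv.isInvertible_structureModule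
      (IsZero.of_mono_eq_zero _ h)
  exact h0_unit_eq_one_of_deg_one k hdim J hJ hdJ _ hs

end H0

variable (k : Type u) [Field k] {X : Scheme.{u}} [X.Over (Spec (CommRingCat.of k))]
  (K : Type u) [Field K] [Algebra k K] {Y : Scheme.{u}} [Y.Over (Spec (CommRingCat.of K))]
  (g : Y ⟶ X)
  (hpb : IsPullback g (Y ↘ Spec (CommRingCat.of K)) (X ↘ Spec (CommRingCat.of k))
    (Spec.map (CommRingCat.ofHom (algebraMap k K))))

include hpb in
theorem isProper_bc [IsProper (X ↘ Spec (CommRingCat.of k))] :
    IsProper (Y ↘ Spec (CommRingCat.of K)) :=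
  MorphismProperty.of_isPullback hpb inferInstance

include hpb in
theorem smooth_bc [Smooth (X ↘ Spec (CommRingCat.of k))] :
    Smooth (Y ↘ Spec (CommRingCat.of K)) :=
  MorphismProperty.of_isPullback hpb inferInstance

include hpb in
theorem flat_bc : Flat g := by
  haveI : Flat (Spec.map (CommRingCat.ofHom (algebraMap k K))) := by
    rw [HasRingHomProperty.Spec_iff (P := @Flat)]
    show RingHom.Flat (algebraMap k K)
    rw [RingHom.flat_algebraMap_iff]
    infer_instance
  exact MorphismProperty.of_isPullback hpb.flip inferInstance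

include hpb in
theorem dim_bc [LocallyOfFiniteType (X ↘ Spec (CommRingCat.of k))] :
    topologicalKrullDim Y = topologicalKrullDim X := by
  rw [IsHomeomorph.topologicalKrullDim_eq _ hpb.isoPullback.hom.homeomorph.isHomeomorph]
  exact Groth.Agent.Helper5.DimBC.dim_pullback_field k K (algebraMap k K)
    (X ↘ Spec (CommRingCat.of k))

section K1

variable (k : Type u) [Field k] {C : Scheme.{u}} [C.Over (Spec (CommRingCat.of k))]
  [IsIntegral C] [IsProper (C ↘ (Spec (CommRingCat.of k)))]

omit [IsIntegral C] [IsProper (C ↘ (Spec (CommRingCat.of k)))] [C.Over (Spec (CommRingCat.of k))] in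
/-- stalk-surjectivity of `a ⊗ N` gives stalk-surjectivity of `a` -/
theorem stalkLin_surjective_of_tensor {A B : C.Modules} (N : C.Modules) (hN : PicF.IsInvertible N)
    (a : A ⟶ B) (y : C)
    (h : Function.Surjective (stalkLin ((DCoh.tensorRightMod N).map a) y)) :
    Function.Surjective (stalkLin a y) := by
  obtain ⟨N', hN', -, ⟨ε⟩⟩ := Groth.Agent.Lead.InvDual.exists_inverse N hN
  have hnat := (twistTwistIso N N' ε).hom.naturality a
  have h1 : Function.Surjective (stalkLin ((DCoh.tensorRightMod N').map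
      ((DCoh.tensorRightMod N).map a)) y) := by
    rw [KoszTw.tensorRightMod_map]
    exact stalkLin_tensorMap_surjective _ (𝟙 N') y h (stalkLin_id_surjective N' y)
  have h2 := (Groth.Agent.Helper1.Dev.stalkLin_bijective_of_isIso
    ((twistTwistIso N N' ε).hom.app B) y).2
  intro t
  obtain ⟨b, hb⟩ := h2 t
  obtain ⟨c, hc⟩ := h1 b
  refine ⟨stalkLin ((twistTwistIso N N' ε).hom.app A) y c, ?_⟩
  have e1 := Groth.Agent.Lead.StalkNhd.stalkLin_comp ((twistTwistIso N N' ε).hom.app A) a y c
  have e2 := Groth.Agent.Lead.StalkNhd.stalkLin_comp ((DCoh.tensorRightMod N').map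
      ((DCoh.tensorRightMod N).map a)) ((twistTwistIso N N' ε).hom.app B) y c
  rw [← e1]
  have e3 : stalkLin ((twistTwistIso N N' ε).hom.app A ≫ a) y c =
      stalkLin ((DCoh.tensorRightMod N').map ((DCoh.tensorRightMod N).map a) ≫
        (twistTwistIso N N' ε).hom.app B) y c := by
    congr 2
    exact hnat.symm
  rw [e3, e2, hc, hb]

/-- if the section `s` of `N` generates at a point where `a : A → O` is not surjective, then `s`
does not come from `A ⊗ N`, so `h⁰(A ⊗ N) < h⁰(N)` -/
theorem h0_twist_lt_of_section (A N : C.Modules) (hA : PicF.IsInvertible A)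
    (hN : PicF.IsInvertible N) (a : A ⟶ Coh.structureModule C) (ha : a ≠ 0)
    (s : Coh.structureModule C ⟶ N) (y : C)
    (hay : ¬ Function.Surjective (stalkLin a y)) (hsy : Function.Surjective (stalkLin s y)) :
    Module.finrank k (Coh.HH C (CohB1.tensorMod A N) 0) < Module.finrank k (Coh.HH C N 0) := by
  haveI := Groth.Agent.Helper4.NApx82.isNoetherian_of_proper k C
  have hO : PicF.IsInvertible (Coh.structureModule C) :=
    Groth.Agent.Helper4.TensorInv.isInvertible_structureModule
  have hcO := Groth.Agent.Helper1.SerreFin.isCoh_of_isInvertible _ hO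
  have hcN := Groth.Agent.Helper1.SerreFin.isCoh_of_isInvertible N hN
  have hAN := isInvertible_tensor A N hA hN
  have hcAN := Groth.Agent.Helper1.SerreFin.isCoh_of_isInvertible _ hAN
  haveI : Mono a := Groth.Agent.Helper4.NApx81.mono_of_ne_zero a hA hO ha
  haveI hm1 : Mono ((DCoh.tensorRightMod N).map a) := by
    rw [KoszTw.tensorRightMod_map]
    exact Groth.Agent.Helper4.H1Twist.mono_tensorMap a N hN
  obtain ⟨aN, haN⟩ : ∃ aN : CohB1.tensorMod A N ⟶ N,
      aN = (DCoh.tensorRightMod N).map a ≫ (unitorL N).hom := ⟨_, rfl⟩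
  haveI : Mono aN := by
    rw [haN]
    have h2 : Mono (unitorL N).hom := inferInstance
    exact @mono_comp _ _ _ _ _ _ hm1 _ h2
  rw [← finrank_hom_unit k, ← finrank_hom_unit k]
  let Φ : (Coh.structureModule C ⟶ CohB1.tensorMod A N) →ₗ[k] (Coh.structureModule C ⟶ N) :=
    Linear.rightComp k (Coh.structureModule C) aN
  have hΦinj : Function.Injective Φ := fun p q h => (cancel_mono aN).1 h
  haveI : Module.Finite k (Coh.structureModule C ⟶ N) := finite_hom k _ _ hcO hcN
  haveI : Module.Finite k (Coh.structureModule C ⟶ CohB1.tensorMod A N) :=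
    finite_hom k _ _ hcO hcAN
  have hs : s ∉ LinearMap.range Φ := by
    rintro ⟨s', hs'⟩
    apply hay
    apply stalkLin_surjective_of_tensor N hN a y
    have h1 : Function.Surjective (stalkLin aN y) := by
      intro t
      obtain ⟨b, hb⟩ := hsy t
      refine ⟨stalkLin s' y b, ?_⟩
      rw [← Groth.Agent.Lead.StalkNhd.stalkLin_comp]
      have : s' ≫ aN = s := hs'
      rw [this, hb]
    have h2 := (Groth.Agent.Helper1.Dev.stalkLin_bijective_of_isIso (unitorL N).inv y).2
    intro t
    obtain ⟨b, hb⟩ := h1 (stalkLin (unitorL N).hom y t)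
    refine ⟨b, ?_⟩
    have h3 := (Groth.Agent.Helper1.Dev.stalkLin_bijective_of_isIso (unitorL N).hom y).1
    apply h3
    rw [← hb, haN]
    exact (Groth.Agent.Lead.StalkNhd.stalkLin_comp _ _ y b).symm
  rw [← LinearMap.finrank_range_of_inj hΦinj]
  apply Submodule.finrank_lt
  intro h
  exact hs (h ▸ Submodule.mem_top)

/-- exact count for the twist by `a : A → O` with `deg A = -1` -/
theorem h0_h1_twist_of_section (hdim : topologicalKrullDim C = 1)
    (A N : C.Modules) (hA : PicF.IsInvertible A)
    (hN : PicF.IsInvertible N) (hdA : Curv2.deg k C A 1 = -1)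
    (a : A ⟶ Coh.structureModule C) (ha : a ≠ 0)
    (s : Coh.structureModule C ⟶ N) (y : C)
    (hay : ¬ Function.Surjective (stalkLin a y)) (hsy : Function.Surjective (stalkLin s y)) :
    Module.finrank k (Coh.HH C (CohB1.tensorMod A N) 0) + 1 = Module.finrank k (Coh.HH C N 0) ∧
      Module.finrank k (Coh.HH C (CohB1.tensorMod A N) 1) = Module.finrank k (Coh.HH C N 1) := by
  haveI := Groth.Agent.Helper4.NApx82.isNoetherian_of_proper k C
  have hlt := h0_twist_lt_of_section k A N hA hN a ha s y hay hsy
  have hO : PicF.IsInvertible (Coh.structureModule C) :=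
    Groth.Agent.Helper4.TensorInv.isInvertible_structureModule
  have hcN := Groth.Agent.Helper1.SerreFin.isCoh_of_isInvertible N hN
  have hAN := isInvertible_tensor A N hA hN
  have hcAN := Groth.Agent.Helper1.SerreFin.isCoh_of_isInvertible _ hAN
  haveI : Mono a := Groth.Agent.Helper4.NApx81.mono_of_ne_zero a hA hO ha
  haveI hm1 : Mono ((DCoh.tensorRightMod N).map a) := by
    rw [KoszTw.tensorRightMod_map]
    exact Groth.Agent.Helper4.H1Twist.mono_tensorMap a N hN
  obtain ⟨aN, haN⟩ : ∃ aN : CohB1.tensorMod A N ⟶ N,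
      aN = (DCoh.tensorRightMod N).map a ≫ (unitorL N).hom := ⟨_, rfl⟩
  haveI hmaN : Mono aN := by
    rw [haN]
    have h2 : Mono (unitorL N).hom := inferInstance
    exact @mono_comp _ _ _ _ _ _ hm1 _ h2
  have haN0 : aN ≠ 0 := by
    intro h
    exact not_isZero_of_isInvertible _ hAN (IsZero.of_mono_eq_zero aN h)
  have hgen := Groth.Agent.Helper4.NApx81.stalkLin_surjective_genericPoint aN hAN hN haN0
  have hsurj := HHlin_one_surjective_of_generic_surj k hdim _ N hcAN hcN aN hgen
  haveI : Module.Finite k (Coh.HH C (CohB1.tensorMod A N) 1) :=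
    Groth.Agent.S0002.result k C _ hcAN 1
  have h1le := LinearMap.finrank_le_finrank_of_surjective hsurj
  have hdeg := deg_tensor_inv_curve k hdim A N hA hN
  have hχ1 := chi_eq_h0_sub_h1 k hdim.le (CohB1.tensorMod A N)
  have hχ2 := chi_eq_h0_sub_h1 k hdim.le N
  unfold chi at hχ1 hχ2
  have hd1 : Curv2.deg k C (CohB1.tensorMod A N) 1 =
      Curv2.euler k C (CohB1.tensorMod A N) - Curv2.euler k C (Coh.structureModule C) := by
    unfold Curv2.deg
    push_cast
    ring
  have hd2 : Curv2.deg k C N 1 = Curv2.euler k C N - Curv2.euler k C (Coh.structureModule C) := by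
    unfold Curv2.deg
    push_cast
    ring
  have hrel : (Module.finrank k (Coh.HH C (CohB1.tensorMod A N) 0) : ℤ) -
      (Module.finrank k (Coh.HH C (CohB1.tensorMod A N) 1) : ℤ) + 1 =
      (Module.finrank k (Coh.HH C N 0) : ℤ) - (Module.finrank k (Coh.HH C N 1) : ℤ) := by
    linarith
  constructor <;> omega


end K1


end BCcurve

end Groth.Agent.Helper4.SN
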