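import Mathlib
import Groth.Agent.Helper4.SN141

/-!
# `O_T → f_{T,*} O_{X_T}` is an isomorphism when `Γ(X, O_X) = k` (towards S6463)
-/

set_option autoImplicit false
set_option linter.unusedSectionVars false
set_option linter.style.haveILetI false
universe u

open CategoryTheory CategoryTheory.Limits AlgebraicGeometry TopologicalSpace Opposite TensorProduct

namespace Groth.Agent.Helper4.SN

section BCGlobal

/-- every scheme over a field is flat over it -/
theorem flat_of_field (k : Type u) [Field k] {T : Scheme.{u}} (t : T ⟶ Spec (CommRingCat.of k)) :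
    Flat t := by
  rw [IsZariskiLocalAtSource.iff_of_openCover (P := @Flat) T.affineCover]
  intro i
  obtain ⟨φ, hφ⟩ := Spec.map_surjective (T.affineCover.f i ≫ t)
  have h : Flat (Spec.map φ) := by
    rw [HasRingHomProperty.Spec_iff (P := @Flat)]
    algebraize [φ.hom]
    show Module.Flat k _
    infer_instance
  rw [hφ] at h
  exact h

variable (k : Type u) [Field k] {X : Scheme.{u}} (f : X ⟶ Spec (CommRingCat.of k))
  [QuasiCompact f] [QuasiSeparated f]

theorem isIso_app_snd_of_isIso_appTop (hf : IsIso f.appTop) {T : Scheme.{u}}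
    (t : T ⟶ Spec (CommRingCat.of k)) (U : T.Opens) (hU : IsAffineOpen U) :
    IsIso ((pullback.snd f t).app U) := by
  haveI : Flat t := flat_of_field k t
  have H : IsPullback (pullback.fst f t) (pullback.snd f t) f t := IsPullback.of_hasPullback f t
  haveI : CompactSpace X := QuasiCompact.compactSpace_of_compactSpace f
  haveI : QuasiSeparatedSpace X := quasiSeparatedSpace_of_quasiSeparated f
  have hUST : U ≤ t ⁻¹ᵁ (⊤ : (Spec (CommRingCat.of k)).Opens) := fun _ _ => trivial
  have hUSX : (⊤ : X.Opens) ≤ f ⁻¹ᵁ (⊤ : (Spec (CommRingCat.of k)).Opens) := fun _ _ => trivial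
  have hUY : (pullback.snd f t) ⁻¹ᵁ U =
      (pullback.fst f t) ⁻¹ᵁ (⊤ : X.Opens) ⊓ (pullback.snd f t) ⁻¹ᵁ U := by
    simp
  have h1 := isIso_pushoutSection_of_isQuasiSeparated_of_flat_right H hUST hUSX hUY
    (isAffineOpen_top _) hU isCompact_univ (isQuasiSeparated_univ)
  haveI : IsIso (f.appLE ⊤ ⊤ hUSX) := by
    have : f.appLE ⊤ ⊤ hUSX = f.appTop := by
      simp [Scheme.Hom.appTop, Scheme.Hom.appLE]
    rw [this]
    exact hf
  have h2 : pushout.inr (f.appLE ⊤ ⊤ hUSX) (t.appLE ⊤ U hUST) ≫ pushoutSection H hUST hUSX hUY =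
      (pullback.snd f t).appLE U ((pullback.snd f t) ⁻¹ᵁ U) (by simp) :=
    pushout.inr_desc _ _ _
  rw [← Scheme.Hom.appLE_eq_app, ← h2]
  infer_instance

theorem isIso_c_snd_of_isIso_appTop (hf : IsIso f.appTop) {T : Scheme.{u}}
    (t : T ⟶ Spec (CommRingCat.of k)) : IsIso (pullback.snd f t).c := by
  let φ : T.sheaf ⟶ (TopCat.Sheaf.pushforward CommRingCat (pullback.snd f t).base).obj
      (pullback f t).sheaf := ⟨(pullback.snd f t).c⟩
  have hB : Opens.IsBasis (Set.range (fun U : T.affineOpens => (U : T.Opens))) := by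
    rw [Subtype.range_coe]
    exact T.isBasis_affineOpens
  have hφ : IsIso φ := TopCat.Sheaf.isIso_iff_isIso_basis hB
    (fun U => isIso_app_snd_of_isIso_appTop k f hf t U.1 U.2)
  exact @ObjectProperty.instIsIsoHomFullSubcategory _ _ _ _ _ φ hφ

/-- `h⁰(O_X) = 1` means `k → Γ(X, O_X)` is an isomorphism -/
theorem isIso_appTop_of_h0 {X : Scheme.{u}} (f : X ⟶ Spec (CommRingCat.of k))
    (h : letI : X.Over (Spec (CommRingCat.of k)) := ⟨f⟩
      Module.finrank k (Coh.HH X (Coh.structureModule X) 0) = 1) : IsIso f.appTop := by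
  letI : X.Over (Spec (CommRingCat.of k)) := ⟨f⟩
  letI := (f.appTop.hom.comp (Scheme.ΓSpecIso (CommRingCat.of k)).inv.hom).toAlgebra
  let e : Coh.HH X (Coh.structureModule X) 0 ≃ₗ[k] Γ(X, ⊤) :=
    { (Groth.Agent.Lead.ProperFinA.h0Equiv (Coh.structureModule X)) with
      map_smul' := by
        intro a x
        change Groth.Agent.Lead.ProperFinA.h0Equiv (Coh.structureModule X)
          (Coh.toGlobal f a • x) = _
        rw [Groth.Agent.Lead.ProperFinA.h0Equiv_smul]
        rfl }
  have h1 : Module.finrank k Γ(X, ⊤) = 1 := by rw [← e.finrank_eq]; exact h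
  have h2 := Algebra.finrank_eq_one_iff_bijective_algebraMap.mp h1
  have h3 : IsIso ((Scheme.ΓSpecIso (CommRingCat.of k)).inv ≫ f.appTop) := by
    rw [ConcreteCategory.isIso_iff_bijective]
    exact h2
  have : f.appTop = (Scheme.ΓSpecIso (CommRingCat.of k)).hom ≫
      ((Scheme.ΓSpecIso (CommRingCat.of k)).inv ≫ f.appTop) := by simp
  rw [this]
  infer_instance

/-- S6463 in `Over` form -/
theorem main6463 {X : Scheme.{u}} [X.Over (Spec (CommRingCat.of k))] [IsIntegral X]
    [IsProper (X ↘ Spec (CommRingCat.of k))] [Smooth (X ↘ Spec (CommRingCat.of k))]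
    (hdim : topologicalKrullDim X = 1)
    (σ : Spec (CommRingCat.of k) ⟶ X) (hσ : σ ≫ (X ↘ Spec (CommRingCat.of k)) = 𝟙 _)
    {T : Scheme.{u}} (t : T ⟶ Spec (CommRingCat.of k)) :
    IsIso (pullback.snd (X ↘ Spec (CommRingCat.of k)) t).c := by
  have h0 := h0_unit_eq_one_of_section k hdim σ hσ (regular_of_smooth k _)
  haveI : QuasiCompact (X ↘ Spec (CommRingCat.of k)) := inferInstance
  haveI : QuasiSeparated (X ↘ Spec (CommRingCat.of k)) := inferInstance
  exact isIso_c_snd_of_isIso_appTop k (X ↘ Spec (CommRingCat.of k))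
    (isIso_appTop_of_h0 k _ h0) t

end BCGlobal

end Groth.Agent.Helper4.SN
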