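import Groth.Prelude.Def_AlgSp
import Mathlib

set_option autoImplicit false
universe u v₁ u₁
open CategoryTheory CategoryTheory.Limits AlgebraicGeometry Opposite

namespace Groth.Agent.Helper4.AlgSpPB

section general
variable {C : Type u₁} [Category.{v₁} C]

/-- If `f₂` is mono, then `g` is a base change of `g ≫ f₂` along `f₂`. -/
theorem isPullback_of_mono {A B D : C} (g : A ⟶ B) (f₂ : B ⟶ D)
    [Mono f₂] : IsPullback (𝟙 A) g (g ≫ f₂) f₂ := by
  refine ⟨⟨by simp⟩, ⟨PullbackCone.IsLimit.mk _ (fun c => c.fst) ?_ ?_ ?_⟩⟩
  · intro c; simp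
  · intro c
    rw [← cancel_mono f₂, Category.assoc, c.condition]
  · intro c m h1 _
    simpa using h1

variable [HasPullbacks C]

/-- cancellation for diagonal properties -/
theorem diagonal_of_comp (Q : MorphismProperty C) [Q.IsStableUnderBaseChange]
    {X Y Z : C} (g : X ⟶ Y) (h : Y ⟶ Z) (hgh : Q.diagonal (g ≫ h)) : Q.diagonal g := by
  have hQ : Q (pullback.diagonal (g ≫ h)) := hgh
  rw [pullback.diagonal_comp] at hQ
  have : Mono ((pullbackDiagonalMapIdIso g g h).inv ≫ pullback.snd (pullback.diagonal h)
      (pullback.map (g ≫ h) (g ≫ h) h h g g (𝟙 _) (Category.comp_id _) (Category.comp_id _))) := by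
    infer_instance
  exact Q.of_isPullback (isPullback_of_mono (pullback.diagonal g) _) hQ

end general

open AlgSp
variable {S : Scheme.{u}}

theorem representable_diag_iff (X : Sp S) :
    Representable (Limits.diag X) ↔
      (Representable (S := S)).diagonal (terminal.from X) := by
  have h : Limits.diag X = pullback.diagonal (terminal.from X) ≫ (prodIsoPullback X X).inv := by
    apply Limits.prod.hom_ext
    · rw [Category.assoc, prodIsoPullback_inv_fst, pullback.diagonal_fst]
      exact prod.lift_fst _ _
    · rw [Category.assoc, prodIsoPullback_inv_snd, pullback.diagonal_snd]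
      exact prod.lift_snd _ _
  rw [h]
  exact MorphismProperty.cancel_right_of_respectsIso (Representable (S := S)) _ _

/-- The diagonal of a fibre product of sheaves with representable diagonals is representable. -/
theorem representable_diag_of_isPullback {H X Y P : Sp S} (hX : Representable (Limits.diag X))
    (hY : Representable (Limits.diag Y)) (f : X ⟶ H) (g : Y ⟶ H)
    (fst : P ⟶ X) (snd : P ⟶ Y) (h : IsPullback fst snd f g) :
    Representable (Limits.diag P) := by
  rw [representable_diag_iff] at hX hY ⊢
  have e : terminal.from Y = g ≫ terminal.from H := Subsingleton.elim _ _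
  rw [e] at hY
  have hg : (Representable (S := S)).diagonal g := diagonal_of_comp _ g _ hY
  have hfst : (Representable (S := S)).diagonal fst := MorphismProperty.of_isPullback h.flip hg
  have e2 : terminal.from P = fst ≫ terminal.from X := Subsingleton.elim _ _
  rw [e2]
  exact MorphismProperty.comp_mem _ _ _ hfst hX

/-- Fibre products of algebraic spaces over a sheaf with representable diagonal are algebraic
spaces. -/
theorem isAlgSpace_of_isPullback {H X Y P : Sp S} (hH : Representable (Limits.diag H))
    (hX : IsAlgSpace X) (hY : IsAlgSpace Y) (f : X ⟶ H) (g : Y ⟶ H)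
    (fst : P ⟶ X) (snd : P ⟶ Y) (h : IsPullback fst snd f g) : IsAlgSpace P where
  diag := representable_diag_of_isPullback hX.diag hY.diag f g fst snd h
  atlas := by
    obtain ⟨U, pU, hUe, hUs⟩ := hX.atlas
    obtain ⟨V, pV, hVe, hVs⟩ := hY.atlas
    have hrep : Representable (pU ≫ f) := Functor.relativelyRepresentable.of_diag hH (pU ≫ f)
    let W := hrep.pullback (pV ≫ g)
    let wU : W ⟶ U := hrep.fst' (pV ≫ g)
    let wV : W ⟶ V := hrep.snd (pV ≫ g)
    have hW : IsPullback ((yon S).map wU) ((yon S).map wV) (pU ≫ f) (pV ≫ g) :=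
      hrep.isPullback' _
    -- Q = P ×_Y h_V
    let Q : Sp S := pullback snd pV
    have hQ : IsPullback (pullback.fst snd pV) (pullback.snd snd pV) snd pV :=
      IsPullback.of_hasPullback _ _
    -- Q is also X ×_H h_V
    have hQ' : IsPullback (pullback.fst snd pV ≫ fst) (pullback.snd snd pV) f (pV ≫ g) :=
      hQ.paste_horiz h
    -- the map W → Q
    have hcomm : ((yon S).map wU ≫ pU) ≫ f = (yon S).map wV ≫ pV ≫ g := by
      rw [Category.assoc]; exact hW.w
    let r : (yon S).obj W ⟶ Q := hQ'.lift ((yon S).map wU ≫ pU) ((yon S).map wV) hcomm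
    have hr1 : r ≫ pullback.fst snd pV ≫ fst = (yon S).map wU ≫ pU := hQ'.lift_fst _ _ _
    have hr2 : r ≫ pullback.snd snd pV = (yon S).map wV := hQ'.lift_snd _ _ _
    -- r is a base change of pU
    have hr : IsPullback r ((yon S).map wU) (pullback.fst snd pV ≫ fst) pU := by
      refine IsPullback.of_right ?_ hr1 hQ'.flip
      rw [hr2]; exact hW.flip
    have inst1 : (RepWith (S := S) @Etale).IsStableUnderBaseChange :=
      repWith_isStableUnderBaseChange (S := S) @Etale
    have inst2 : (RepWith (S := S) @Surjective).IsStableUnderBaseChange :=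
      repWith_isStableUnderBaseChange (S := S) @Surjective
    have i1 : (RepWith (S := S) @Etale).IsStableUnderComposition :=
      (repWith_isMultiplicative (S := S) @Etale).toIsStableUnderComposition
    have i2 : (RepWith (S := S) @Surjective).IsStableUnderComposition :=
      (repWith_isMultiplicative (S := S) @Surjective).toIsStableUnderComposition
    refine ⟨W, r ≫ pullback.fst snd pV, ?_, ?_⟩
    · exact MorphismProperty.comp_mem _ _ _ (MorphismProperty.of_isPullback hr.flip hUe)
        (MorphismProperty.of_isPullback hQ.flip hVe)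
    · exact MorphismProperty.comp_mem _ _ _ (MorphismProperty.of_isPullback hr.flip hUs)
        (MorphismProperty.of_isPullback hQ.flip hVs)

end Groth.Agent.Helper4.AlgSpPB
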