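import Groth.Prelude.Def_AlgSp4
import Mathlib

set_option autoImplicit false
universe u
open CategoryTheory CategoryTheory.Limits AlgebraicGeometry Opposite

namespace Groth.Agent.Helper4.AlgSpPts

open AlgSp

variable {S : Scheme.{u}}

/-- Sections of a pullback of sheaves. -/
theorem exists_section_of_isPullback {P X Y Y' : Sp S} {fst : P ⟶ X} {snd : P ⟶ Y'} {f : X ⟶ Y}
    {g : Y' ⟶ Y} (sq : IsPullback fst snd f g) (T : Over S) (x : X.obj.obj (op T))
    (y : Y'.obj.obj (op T)) (h : f.hom.app _ x = g.hom.app _ y) :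
    ∃ p : P.obj.obj (op T), fst.hom.app _ p = x ∧ snd.hom.app _ p = y := by
  let x' : (yon S).obj T ⟶ X := (J S).uliftYonedaEquiv.symm x
  let y' : (yon S).obj T ⟶ Y' := (J S).uliftYonedaEquiv.symm y
  have hxy : x' ≫ f = y' ≫ g := by
    apply (J S).uliftYonedaEquiv.injective
    rw [GrothendieckTopology.uliftYonedaEquiv_comp, GrothendieckTopology.uliftYonedaEquiv_comp]
    simpa [x', y'] using h
  refine ⟨(J S).uliftYonedaEquiv (sq.lift x' y' hxy), ?_, ?_⟩
  · rw [← GrothendieckTopology.uliftYonedaEquiv_comp, sq.lift_fst]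
    simp [x']
  · rw [← GrothendieckTopology.uliftYonedaEquiv_comp, sq.lift_snd]
    simp [y']

/-- Field points of a pullback. -/
theorem exists_fieldPt_of_isPullback {P X Y Y' : Sp S} {fst : P ⟶ X} {snd : P ⟶ Y'} {f : X ⟶ Y}
    {g : Y' ⟶ Y} (sq : IsPullback fst snd f g) (x : FieldPt X) (y : FieldPt Y')
    (h : FieldPt.Rel (x.map f) (y.map g)) :
    ∃ p : FieldPt P, FieldPt.Rel (p.map fst) x ∧ FieldPt.Rel (p.map snd) y := by
  obtain ⟨Ω, _, w, a, b, hab⟩ := h
  have hab' : f.hom.app _ (X.obj.map a.op x.val) = g.hom.app _ (Y'.obj.map b.op y.val) := by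
    have h1 := NatTrans.naturality_apply f.hom a.op x.val
    have h2 := NatTrans.naturality_apply g.hom b.op y.val
    rw [h1, h2]
    exact hab
  obtain ⟨p, hp1, hp2⟩ := exists_section_of_isPullback sq (Over.mk w) _ _ hab'
  refine ⟨⟨Ω, w, p⟩, ⟨Ω, inferInstance, w, 𝟙 _, a, ?_⟩, ⟨Ω, inferInstance, w, 𝟙 _, b, ?_⟩⟩
  · change X.obj.map (𝟙 _).op (fst.hom.app _ p) = _
    rw [hp1]; simp; rfl
  · change Y'.obj.map (𝟙 _).op (snd.hom.app _ p) = _
    rw [hp2]; simp; rfl

/-- The base change of a morphism surjective on points is surjective on points. -/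
theorem isSurjectiveMor_of_isPullback {P X Y Y' : Sp S} {fst : P ⟶ X} {snd : P ⟶ Y'} {f : X ⟶ Y}
    {g : Y' ⟶ Y} (sq : IsPullback fst snd f g) (hf : IsSurjectiveMor f) : IsSurjectiveMor snd := by
  intro y
  induction y using Points.ind with
  | h y =>
    obtain ⟨x, hx⟩ := hf (Points.map g (Points.mk y))
    induction x using Points.ind with
    | h x =>
      rw [Points.map_mk, Points.map_mk, Points.mk_eq_mk_iff] at hx
      obtain ⟨p, -, hp⟩ := exists_fieldPt_of_isPullback sq x y hx
      exact ⟨Points.mk p, by rw [Points.map_mk]; exact Points.sound hp⟩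

end Groth.Agent.Helper4.AlgSpPts

namespace Groth.Agent.Helper4.AlgSpPts

open AlgSp CategoryTheory CategoryTheory.Limits AlgebraicGeometry Opposite

variable {S : Scheme.{u}}

theorem isSurjectiveMor_of_repWith {X Y : Sp S} (f : X ⟶ Y) (hf : RepWith @Surjective f) :
    IsSurjectiveMor f := by
  intro y
  induction y using Points.ind with
  | h y =>
    let ξ : (yon S).obj y.pt ⟶ Y := (J S).uliftYonedaEquiv.symm y.val
    have hf' := hf.rep
    let V := hf'.pullback ξ
    let fst : (yon S).obj V ⟶ X := hf'.fst ξ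
    let snd : V ⟶ y.pt := hf'.snd ξ
    have hpb : IsPullback fst ((yon S).map snd) f ξ := hf'.isPullback ξ
    have hs : Surjective snd.left := hf.property _ _ _ hpb
    obtain ⟨v, -⟩ := hs.surj (IsLocalRing.closedPoint y.K)
    refine ⟨Points.ofPt fst v, ?_⟩
    rw [Points.map_ofPt]
    apply Points.sound
    refine ⟨V.left.residueField v, inferInstance, V.left.fromSpecResidueField v ≫ V.hom, 𝟙 _,
      Over.homMk (V.left.fromSpecResidueField v ≫ snd.left)
        (by rw [Category.assoc]; congr 1; exact Over.w snd), ?_⟩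
    rw [hpb.w]
    change Y.obj.map (𝟙 _).op (ξ.hom.app _ (((yon S).map snd).hom.app _ _)) = _
    rw [op_id, Y.obj.map_id]
    exact GrothendieckTopology.uliftYonedaEquiv_symm_app_apply.{u + 1} (J S) (F := Y) y.val _ _

end Groth.Agent.Helper4.AlgSpPts

namespace Groth.Agent.Helper4.AlgSpPts

open AlgSp CategoryTheory CategoryTheory.Limits AlgebraicGeometry Opposite

variable {S : Scheme.{u}}

theorem repWith_surjective_of_isSurjectiveMor {X Y : Sp S} (f : X ⟶ Y) (hf : Representable f)
    (hs : IsSurjectiveMor f) : RepWith @Surjective f := by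
  refine ⟨hf, ?_⟩
  intro T V ξ fst snd sq
  show Surjective snd.left
  refine ⟨fun t => ?_⟩
  let y₀ : FieldPt ((yon S).obj T) := FieldPt.ofPt (𝟙 _) t
  obtain ⟨x, hx⟩ := hs (Points.mk (y₀.map ξ))
  induction x using Points.ind with
  | h x =>
    rw [Points.map_mk, Points.mk_eq_mk_iff] at hx
    obtain ⟨p, -, hp⟩ := exists_fieldPt_of_isPullback sq x y₀ hx
    have h1 : Points.toScheme T (Points.mk (p.map ((yon S).map snd))) =
        Points.toScheme T (Points.mk y₀) := by rw [Points.sound hp]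
    have h2 : Points.toScheme T (Points.mk y₀) = t := Points.toScheme_ofScheme T t
    rw [h2] at h1
    refine ⟨p.val.down.left (IsLocalRing.closedPoint p.K), ?_⟩
    rw [← h1]
    rfl

end Groth.Agent.Helper4.AlgSpPts
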