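import Groth.Prelude.Def_AlgSp4
import Groth.Agent.Helper4.AlgSpPts
import Groth.Agent.Helper4.AlgSpPB
import Mathlib

set_option autoImplicit false
universe u
open CategoryTheory CategoryTheory.Limits AlgebraicGeometry Opposite

namespace Groth.Agent.Helper4.AlgSpPtsDesc

open AlgSp

variable {S : Scheme.{u}}

/-- Points of a fibre product surject onto the fibre product of points. -/
theorem exists_point_of_isPullback {P X Y Y' : Sp S} {fst : P ⟶ X} {snd : P ⟶ Y'} {f : X ⟶ Y}
    {g : Y' ⟶ Y} (sq : IsPullback fst snd f g) (x : Points X) (y : Points Y')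
    (h : Points.map f x = Points.map g y) :
    ∃ p : Points P, Points.map fst p = x ∧ Points.map snd p = y := by
  induction x using Points.ind with
  | h x =>
    induction y using Points.ind with
    | h y =>
      rw [Points.map_mk, Points.map_mk, Points.mk_eq_mk_iff] at h
      obtain ⟨p, hp1, hp2⟩ := Groth.Agent.Helper4.AlgSpPts.exists_fieldPt_of_isPullback sq x y h
      exact ⟨Points.mk p, Points.sound hp1, Points.sound hp2⟩

theorem ofPt_yon_map_comp {F : Sp S} {T T' : Over S} (e : T ⟶ T') (g : (yon S).obj T' ⟶ F)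
    (t : ↥T.left) : Points.ofPt ((yon S).map e ≫ g) t = Points.ofPt g (e.left t) := by
  rw [Points.ofPt_eq_map_ofScheme, Points.map_comp]
  have := Points.map_yon_map_apply e t
  change Points.map ((yon S).map e) (Points.ofScheme T t) = Points.ofScheme T' (e.left t) at this
  rw [this, ← Points.ofPt_eq_map_ofScheme]

/-- A representable étale surjective map induces a "quotient map" on points (open sets can be
tested after pulling back). -/
theorem isOpen_of_isOpen_preimage {W W' : Sp S} (q : W' ⟶ W) (hqe : RepWith @Etale q)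
    (hqs : RepWith @Surjective q) (A : Set (Points W)) (hA : IsOpen (Points.map q ⁻¹' A)) :
    IsOpen A := by
  rw [Points.isOpen_iff]
  intro T g
  have hq := hqe.rep
  have hpb : IsPullback (hq.fst g) ((yon S).map (hq.snd g)) q g := hq.isPullback g
  have he : Etale (hq.snd g).left := hqe.property _ _ _ hpb
  have hs : Surjective (hq.snd g).left := hqs.property _ _ _ hpb
  have h1 : (hq.snd g).left ⁻¹' (Points.ofPt g ⁻¹' A) =
      Points.ofPt (hq.fst g) ⁻¹' (Points.map q ⁻¹' A) := by
    ext t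
    simp only [Set.mem_preimage]
    rw [Points.map_ofPt, hpb.w, ofPt_yon_map_comp]
  have h2 : IsOpen ((hq.snd g).left ⁻¹' (Points.ofPt g ⁻¹' A)) := by
    rw [h1]
    exact hA.preimage (Points.continuous_ofPt _)
  have h3 : Points.ofPt g ⁻¹' A = (hq.snd g).left '' ((hq.snd g).left ⁻¹' (Points.ofPt g ⁻¹' A)) :=
    (Set.image_preimage_eq _ hs.surj).symm
  rw [h3]
  exact (hq.snd g).left.isOpenMap _ h2

end Groth.Agent.Helper4.AlgSpPtsDesc

namespace Groth.Agent.Helper4.AlgSpPtsDesc

open AlgSp CategoryTheory CategoryTheory.Limits AlgebraicGeometry Opposite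

variable {S : Scheme.{u}}

/-- The setup for descending a universal property along a base change `p : V ⟶ Y`. -/
theorem descent_setup {X Y V P : Sp S} {f : X ⟶ Y} {p : V ⟶ Y} {fst : P ⟶ X} {snd : P ⟶ V}
    (sq : IsPullback fst snd f p) {W W' : Sp S} {g : W ⟶ Y} {a : W' ⟶ X} {b : W' ⟶ W}
    (sq' : IsPullback a b f g) :
    ∃ (W₁ W₁' : Sp S) (q : W₁ ⟶ W) (r : W₁ ⟶ V) (q' : W₁' ⟶ W') (b₁ : W₁' ⟶ W₁) (m : W₁' ⟶ P),
      IsPullback q r g p ∧ IsPullback q' b₁ b q ∧ IsPullback m b₁ snd r := by
  have h1 : IsPullback (pullback.fst g p) (pullback.snd g p) g p := IsPullback.of_hasPullback g p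
  have h2 : IsPullback (pullback.fst b (pullback.fst g p)) (pullback.snd b (pullback.fst g p)) b
      (pullback.fst g p) := IsPullback.of_hasPullback _ _
  -- big square: W₁' → W' → X over W₁ → W → Y
  have hbig : IsPullback (pullback.fst b (pullback.fst g p) ≫ a)
      (pullback.snd b (pullback.fst g p)) f (pullback.fst g p ≫ g) := h2.paste_horiz sq'
  have hcomm : (pullback.fst b (pullback.fst g p) ≫ a) ≫ f =
      (pullback.snd b (pullback.fst g p) ≫ pullback.snd g p) ≫ p := by
    rw [hbig.w, Category.assoc, h1.w]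
  refine ⟨_, _, pullback.fst g p, pullback.snd g p, pullback.fst b (pullback.fst g p),
    pullback.snd b (pullback.fst g p), sq.lift _ _ hcomm, h1, h2, ?_⟩
  refine IsPullback.of_right ?_ (sq.lift_snd _ _ hcomm) sq
  rw [sq.lift_fst, ← h1.w]
  exact hbig

/-- Set-theoretic core: images commute with base change on points. -/
theorem preimage_image_eq {W W' W₁ W₁' : Sp S} {b : W' ⟶ W} {q : W₁ ⟶ W} {q' : W₁' ⟶ W'}
    {b₁ : W₁' ⟶ W₁} (h : IsPullback q' b₁ b q) (U : Set (Points W')) :
    Points.map q ⁻¹' (Points.map b '' U) = Points.map b₁ '' (Points.map q' ⁻¹' U) := by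
  ext w
  constructor
  · rintro ⟨u, hu, huw⟩
    obtain ⟨w', hw1, hw2⟩ := exists_point_of_isPullback h u w huw
    exact ⟨w', by simpa [hw1] using hu, hw2⟩
  · rintro ⟨w', hw', rfl⟩
    refine ⟨Points.map q' w', hw', ?_⟩
    rw [← Points.map_comp, ← Points.map_comp, h.w]

theorem univOpen_descend {X Y : Sp S} (hY : Representable (Limits.diag Y)) {V : Over S}
    {P : Sp S} {f : X ⟶ Y} {p : (yon S).obj V ⟶ Y} (hpe : RepWith @Etale p)
    (hps : RepWith @Surjective p) {fst : P ⟶ X} {snd : P ⟶ (yon S).obj V}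
    (sq : IsPullback fst snd f p) (h : IsUnivOpenMor snd) : IsUnivOpenMor f := by
  intro W W' hW g a b sq'
  obtain ⟨W₁, W₁', q, r, q', b₁, m, h1, h2, h3⟩ := descent_setup sq sq'
  have hW₁ : IsAlgSpace W₁ := Groth.Agent.Helper4.AlgSpPB.isAlgSpace_of_isPullback hY hW
    (IsAlgSpace.yon_obj V) g p q r h1
  have hb₁ : IsOpenMap (Points.map b₁) := h hW₁ r m b₁ h3
  have i1 := repWith_isStableUnderBaseChange (S := S) @Etale
  have i2 := repWith_isStableUnderBaseChange (S := S) @Surjective
  have hqe : RepWith @Etale q := MorphismProperty.of_isPullback h1.flip hpe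
  have hqs : RepWith @Surjective q := MorphismProperty.of_isPullback h1.flip hps
  intro U hU
  apply isOpen_of_isOpen_preimage q hqe hqs
  rw [preimage_image_eq h2]
  exact hb₁ _ (hU.preimage (Points.continuous_map q'))

theorem univClosed_descend {X Y : Sp S} (hY : Representable (Limits.diag Y)) {V : Over S}
    {P : Sp S} {f : X ⟶ Y} {p : (yon S).obj V ⟶ Y} (hpe : RepWith @Etale p)
    (hps : RepWith @Surjective p) {fst : P ⟶ X} {snd : P ⟶ (yon S).obj V}
    (sq : IsPullback fst snd f p) (h : IsUnivClosedMor snd) : IsUnivClosedMor f := by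
  intro W W' hW g a b sq'
  obtain ⟨W₁, W₁', q, r, q', b₁, m, h1, h2, h3⟩ := descent_setup sq sq'
  have hW₁ : IsAlgSpace W₁ := Groth.Agent.Helper4.AlgSpPB.isAlgSpace_of_isPullback hY hW
    (IsAlgSpace.yon_obj V) g p q r h1
  have hb₁ : IsClosedMap (Points.map b₁) := h hW₁ r m b₁ h3
  have i1 := repWith_isStableUnderBaseChange (S := S) @Etale
  have i2 := repWith_isStableUnderBaseChange (S := S) @Surjective
  have hqe : RepWith @Etale q := MorphismProperty.of_isPullback h1.flip hpe
  have hqs : RepWith @Surjective q := MorphismProperty.of_isPullback h1.flip hps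
  intro C hC
  rw [← isOpen_compl_iff]
  apply isOpen_of_isOpen_preimage q hqe hqs
  rw [Set.preimage_compl, preimage_image_eq h2, isOpen_compl_iff]
  exact hb₁ _ (hC.preimage (Points.continuous_map q'))

theorem univInjective_descend {X Y : Sp S} (hY : Representable (Limits.diag Y)) {V : Over S}
    {P : Sp S} {f : X ⟶ Y} {p : (yon S).obj V ⟶ Y} (hps : IsSurjectiveMor p)
    {fst : P ⟶ X} {snd : P ⟶ (yon S).obj V}
    (sq : IsPullback fst snd f p) (h : IsUnivInjectiveMor snd) : IsUnivInjectiveMor f := by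
  intro W W' hW g a b sq'
  obtain ⟨W₁, W₁', q, r, q', b₁, m, h1, h2, h3⟩ := descent_setup sq sq'
  have hW₁ : IsAlgSpace W₁ := Groth.Agent.Helper4.AlgSpPB.isAlgSpace_of_isPullback hY hW
    (IsAlgSpace.yon_obj V) g p q r h1
  have hb₁ : Function.Injective (Points.map b₁) := h hW₁ r m b₁ h3
  have hq : IsSurjectiveMor q :=
    Groth.Agent.Helper4.AlgSpPts.isSurjectiveMor_of_isPullback h1.flip hps
  intro u₁ u₂ hu
  obtain ⟨w, hw⟩ := hq (Points.map b u₁)
  obtain ⟨w₁, hw11, hw12⟩ := exists_point_of_isPullback h2 u₁ w hw.symm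
  obtain ⟨w₂, hw21, hw22⟩ := exists_point_of_isPullback h2 u₂ w (hu ▸ hw.symm)
  have : w₁ = w₂ := hb₁ (hw12.trans hw22.symm)
  rw [← hw11, ← hw21, this]

end Groth.Agent.Helper4.AlgSpPtsDesc

namespace Groth.Agent.Helper4.AlgSpPtsDesc

open AlgSp CategoryTheory CategoryTheory.Limits AlgebraicGeometry Opposite

variable {S : Scheme.{u}}

/-- An affine open of `U`, as an object over `S`. -/
noncomputable abbrev affOver (U : Over S) (V : U.left.affineOpens) : Over S :=
  Over.mk (V.1.ι ≫ U.hom)

/-- The inclusion of an affine open, over `S`. -/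
noncomputable abbrev affι (U : Over S) (V : U.left.affineOpens) : affOver U V ⟶ U :=
  Over.homMk V.1.ι rfl

/-- Openness in the points of `h_U` can be tested on affine opens of `U`. -/
theorem isOpen_points_yon_of_affine (U : Over S) (B : Set (Points ((yon S).obj U)))
    (h : ∀ V : U.left.affineOpens, IsOpen (Points.map ((yon S).map (affι U V)) ⁻¹' B)) :
    IsOpen B := by
  rw [← (Points.schemeHomeo U).isOpen_preimage]
  have hcov : TopologicalSpace.IsOpenCover (fun V : U.left.affineOpens => (V.1 : U.left.Opens)) :=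
    iSup_affineOpens_eq_top U.left
  rw [hcov.isOpen_iff_coe_preimage]
  intro V
  have h1 := (h V).preimage (Points.schemeHomeo (affOver U V)).continuous
  have h2 : (Points.schemeHomeo (affOver U V)) ⁻¹' (Points.map ((yon S).map (affι U V)) ⁻¹' B) =
      (fun t : ↥(affOver U V).left => (affι U V).left t) ⁻¹' (Points.schemeHomeo U ⁻¹' B) := by
    ext t
    simp only [Set.mem_preimage]
    rw [Points.map_yon_map_apply]
  rw [h2] at h1
  exact h1

end Groth.Agent.Helper4.AlgSpPtsDesc

namespace Groth.Agent.Helper4.AlgSpPtsDesc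

open AlgSp CategoryTheory CategoryTheory.Limits AlgebraicGeometry Opposite

variable {S : Scheme.{u}}

theorem univOpen_of_affine {X Y : Sp S} (f : X ⟶ Y)
    (h : ∀ (Z : Over S), IsAffine Z.left → ∀ (g : (yon S).obj Z ⟶ Y) (P : Sp S)
      (fst : P ⟶ X) (snd : P ⟶ (yon S).obj Z), IsPullback fst snd f g →
      IsOpenMap (Points.map snd)) : IsUnivOpenMor f := by
  intro W W' hW g a b sq'
  obtain ⟨U, q, hqe, hqs⟩ := hW.atlas
  intro O hO
  apply isOpen_of_isOpen_preimage q hqe hqs
  apply isOpen_points_yon_of_affine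
  intro V
  have hpb : IsPullback (pullback.fst b ((yon S).map (affι U V) ≫ q))
      (pullback.snd b ((yon S).map (affι U V) ≫ q)) b ((yon S).map (affι U V) ≫ q) :=
    IsPullback.of_hasPullback _ _
  have hcomp : Points.map ((yon S).map (affι U V)) ⁻¹' (Points.map q ⁻¹' (Points.map b '' O)) =
      Points.map ((yon S).map (affι U V) ≫ q) ⁻¹' (Points.map b '' O) := by
    ext t
    simp only [Set.mem_preimage, Points.map_comp]
  rw [hcomp, preimage_image_eq hpb]
  have hbig := hpb.paste_horiz sq'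
  exact h (affOver U V) V.2 _ _ _ _ hbig _ (hO.preimage (Points.continuous_map _))

theorem univClosed_of_affine {X Y : Sp S} (f : X ⟶ Y)
    (h : ∀ (Z : Over S), IsAffine Z.left → ∀ (g : (yon S).obj Z ⟶ Y) (P : Sp S)
      (fst : P ⟶ X) (snd : P ⟶ (yon S).obj Z), IsPullback fst snd f g →
      IsClosedMap (Points.map snd)) : IsUnivClosedMor f := by
  intro W W' hW g a b sq'
  obtain ⟨U, q, hqe, hqs⟩ := hW.atlas
  intro C hC
  rw [← isOpen_compl_iff]
  apply isOpen_of_isOpen_preimage q hqe hqs
  apply isOpen_points_yon_of_affine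
  intro V
  have hpb : IsPullback (pullback.fst b ((yon S).map (affι U V) ≫ q))
      (pullback.snd b ((yon S).map (affι U V) ≫ q)) b ((yon S).map (affι U V) ≫ q) :=
    IsPullback.of_hasPullback _ _
  have hcomp : Points.map ((yon S).map (affι U V)) ⁻¹' (Points.map q ⁻¹' (Points.map b '' C)ᶜ) =
      (Points.map ((yon S).map (affι U V) ≫ q) ⁻¹' (Points.map b '' C))ᶜ := by
    ext t
    simp only [Set.mem_preimage, Points.map_comp, Set.mem_compl_iff]
  rw [hcomp, preimage_image_eq hpb, isOpen_compl_iff]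
  have hbig := hpb.paste_horiz sq'
  exact h (affOver U V) V.2 _ _ _ _ hbig _ (hC.preimage (Points.continuous_map _))

end Groth.Agent.Helper4.AlgSpPtsDesc

namespace Groth.Agent.Helper4.AlgSpPtsDesc

open AlgSp CategoryTheory CategoryTheory.Limits AlgebraicGeometry Opposite

variable {S : Scheme.{u}}

theorem isOpenMap_points_map_iso {F G : Sp S} (φ : F ≅ G) : IsOpenMap (Points.map φ.hom) := by
  intro O hO
  have : Points.map φ.hom '' O = Points.map φ.inv ⁻¹' O := by
    ext x
    constructor
    · rintro ⟨y, hy, rfl⟩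
      simpa [← Points.map_comp] using hy
    · intro hx
      exact ⟨Points.map φ.inv x, hx, by simp [← Points.map_comp]⟩
  rw [this]
  exact hO.preimage (Points.continuous_map _)

theorem isClosedMap_points_map_iso {F G : Sp S} (φ : F ≅ G) : IsClosedMap (Points.map φ.hom) := by
  intro O hO
  have : Points.map φ.hom '' O = Points.map φ.inv ⁻¹' O := by
    ext x
    constructor
    · rintro ⟨y, hy, rfl⟩
      simpa [← Points.map_comp] using hy
    · intro hx
      exact ⟨Points.map φ.inv x, hx, by simp [← Points.map_comp]⟩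
  rw [this]
  exact hO.preimage (Points.continuous_map _)

theorem isOpenMap_points_yon_map_iff {T T' : Over S} (φ : T ⟶ T') :
    IsOpenMap (Points.map ((yon S).map φ)) ↔ IsOpenMap (fun t => φ.left t) := by
  rw [Points.map_yon_map_eq]
  constructor
  · intro h
    have h2 := ((Points.schemeHomeo T').symm.isOpenMap.comp h).comp (Points.schemeHomeo T).isOpenMap
    convert h2 using 1
    ext t
    simp
  · intro h
    exact ((Points.schemeHomeo T').isOpenMap.comp h).comp (Points.schemeHomeo T).symm.isOpenMap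

theorem isClosedMap_points_yon_map_iff {T T' : Over S} (φ : T ⟶ T') :
    IsClosedMap (Points.map ((yon S).map φ)) ↔ IsClosedMap (fun t => φ.left t) := by
  rw [Points.map_yon_map_eq]
  constructor
  · intro h
    have h2 := ((Points.schemeHomeo T').symm.isClosedMap.comp h).comp
      (Points.schemeHomeo T).isClosedMap
    convert h2 using 1
    ext t
    simp
  · intro h
    exact ((Points.schemeHomeo T').isClosedMap.comp h).comp (Points.schemeHomeo T).symm.isClosedMap

/-- Lifting a pullback square of schemes over `e.left` to `Over S` and to sheaves. -/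
theorem lift_square {X Y : Sp S} {f : X ⟶ Y} {T E : Over S} {ξ : (yon S).obj T ⟶ Y}
    {c : (yon S).obj E ⟶ X} {e : E ⟶ T} (sq : IsPullback c ((yon S).map e) f ξ)
    {X' Y' : Scheme.{u}} (i₁ : X' ⟶ E.left) (i₂ : Y' ⟶ T.left) (f' : X' ⟶ Y')
    (hpb : IsPullback f' i₁ i₂ e.left) :
    ∃ (X'o Y'o : Over S) (f'o : X'o ⟶ Y'o) (g : (yon S).obj Y'o ⟶ Y)
      (a : (yon S).obj X'o ⟶ X), X'o.left = X' ∧ Y'o.left = Y' ∧ HEq f'o.left f' ∧
        IsPullback a ((yon S).map f'o) f g := by
  have hw : f' ≫ i₂ ≫ T.hom = i₁ ≫ E.hom := by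
    rw [← Category.assoc, hpb.w, Category.assoc, CategoryTheory.Over.w]
  let Y'o : Over S := Over.mk (i₂ ≫ T.hom)
  let X'o : Over S := Over.mk (i₁ ≫ E.hom)
  let f'o : X'o ⟶ Y'o := Over.homMk f' hw
  let i₁o : X'o ⟶ E := Over.homMk i₁ rfl
  let i₂o : Y'o ⟶ T := Over.homMk i₂ rfl
  have hO : IsPullback i₁o f'o e i₂o :=
    IsPullback.of_map (Over.forget S) (by ext; exact hpb.w.symm) hpb.flip
  exact ⟨X'o, Y'o, f'o, (yon S).map i₂o ≫ ξ, (yon S).map i₁o ≫ c, rfl, rfl, HEq.rfl,
    (hO.map (yon S)).paste_horiz sq⟩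

theorem repWith_univOpen_of_isUnivOpenMor {X Y : Sp S} (f : X ⟶ Y) (hf : Representable f)
    (h : IsUnivOpenMor f) : RepWith @UniversallyOpen f := by
  refine ⟨hf, ?_⟩
  intro T E ξ c e sq
  refine ⟨?_⟩
  intro X' Y' i₁ i₂ f' hpb
  obtain ⟨X'o, Y'o, f'o, g, a, rfl, rfl, hf', hsq⟩ := lift_square sq i₁ i₂ f' hpb
  obtain rfl := eq_of_heq hf'
  have := h (IsAlgSpace.yon_obj Y'o) g a _ hsq
  exact (isOpenMap_points_yon_map_iff f'o).1 this

theorem repWith_univClosed_of_isUnivClosedMor {X Y : Sp S} (f : X ⟶ Y) (hf : Representable f)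
    (h : IsUnivClosedMor f) : RepWith @UniversallyClosed f := by
  refine ⟨hf, ?_⟩
  intro T E ξ c e sq
  refine ⟨?_⟩
  intro X' Y' i₁ i₂ f' hpb
  obtain ⟨X'o, Y'o, f'o, g, a, rfl, rfl, hf', hsq⟩ := lift_square sq i₁ i₂ f' hpb
  obtain rfl := eq_of_heq hf'
  have := h (IsAlgSpace.yon_obj Y'o) g a _ hsq
  exact (isClosedMap_points_yon_map_iff f'o).1 this

theorem isUnivOpenMor_of_repWith {X Y : Sp S} (f : X ⟶ Y) (hf : RepWith @UniversallyOpen f) :
    IsUnivOpenMor f := by
  apply univOpen_of_affine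
  intro Z _ g P fst snd sq
  have hr := hf.rep
  have hpb : IsPullback (hr.fst g) ((yon S).map (hr.snd g)) f g := hr.isPullback g
  have huo : UniversallyOpen (hr.snd g).left := hf.property _ _ _ hpb
  let φ : P ≅ (yon S).obj (hr.pullback g) := sq.isoIsPullback _ _ hpb
  have hφ : φ.hom ≫ (yon S).map (hr.snd g) = snd := sq.isoIsPullback_hom_snd _ _ hpb
  have h1 : IsOpenMap (Points.map ((yon S).map (hr.snd g))) :=
    (isOpenMap_points_yon_map_iff _).2 (hr.snd g).left.isOpenMap
  have h2 := h1.comp (isOpenMap_points_map_iso φ)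
  convert h2 using 1
  ext x
  simp [← hφ, Points.map_comp]

theorem isUnivClosedMor_of_repWith {X Y : Sp S} (f : X ⟶ Y) (hf : RepWith @UniversallyClosed f) :
    IsUnivClosedMor f := by
  apply univClosed_of_affine
  intro Z _ g P fst snd sq
  have hr := hf.rep
  have hpb : IsPullback (hr.fst g) ((yon S).map (hr.snd g)) f g := hr.isPullback g
  have huo : UniversallyClosed (hr.snd g).left := hf.property _ _ _ hpb
  let φ : P ≅ (yon S).obj (hr.pullback g) := sq.isoIsPullback _ _ hpb
  have hφ : φ.hom ≫ (yon S).map (hr.snd g) = snd := sq.isoIsPullback_hom_snd _ _ hpb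
  have h1 : IsClosedMap (Points.map ((yon S).map (hr.snd g))) :=
    (isClosedMap_points_yon_map_iff _).2 (hr.snd g).left.isClosedMap
  have h2 := h1.comp (isClosedMap_points_map_iso φ)
  convert h2 using 1
  ext x
  simp [← hφ, Points.map_comp]

end Groth.Agent.Helper4.AlgSpPtsDesc
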