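import Groth.Prelude.Def_AlgSp4
import Groth.Agent.Helper4.AlgSpPtsDesc
import Mathlib

set_option autoImplicit false
universe u
open CategoryTheory CategoryTheory.Limits AlgebraicGeometry Opposite

namespace Groth.Agent.Helper4.AlgSpSrc

open AlgSp Groth.Agent.Helper4.AlgSpPtsDesc

variable {S : Scheme.{u}}

/-- If `u ≫ f` is universally open and `u` is representable surjective, then `f` is
universally open. -/
theorem univOpen_of_precomp_surjective {X' X Y : Sp S} (u : X' ⟶ X) (f : X ⟶ Y)
    (hu : RepWith @Surjective u) (h : IsUnivOpenMor (u ≫ f)) : IsUnivOpenMor f := by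
  intro W W' hW g a b sq
  have hpb : IsPullback (pullback.fst u a) (pullback.snd u a) u a := IsPullback.of_hasPullback _ _
  have i2 := repWith_isStableUnderBaseChange (S := S) @Surjective
  have hq : RepWith @Surjective (pullback.snd u a) := MorphismProperty.of_isPullback hpb hu
  have hqs : Function.Surjective (Points.map (pullback.snd u a)) :=
    Groth.Agent.Helper4.AlgSpPts.isSurjectiveMor_of_repWith _ hq
  have hbig : IsPullback (pullback.fst u a) (pullback.snd u a ≫ b) (u ≫ f) g :=
    hpb.paste_vert sq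
  have hopen : IsOpenMap (Points.map (pullback.snd u a ≫ b)) := h hW g _ _ hbig
  intro O hO
  have : Points.map b '' O =
      Points.map (pullback.snd u a ≫ b) '' (Points.map (pullback.snd u a) ⁻¹' O) := by
    ext w
    constructor
    · rintro ⟨x, hx, rfl⟩
      obtain ⟨y, rfl⟩ := hqs x
      exact ⟨y, hx, Points.map_comp _ _ _⟩
    · rintro ⟨y, hy, rfl⟩
      exact ⟨_, hy, (Points.map_comp _ _ _).symm⟩
  rw [this]
  exact hopen _ (hO.preimage (Points.continuous_map _))

/-- Monotonicity of `RepWith`. -/
theorem repWith_mono {P Q : MorphismProperty Scheme.{u}}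
    (hPQ : ∀ {A B : Scheme.{u}} (g : A ⟶ B), P g → Q g) {F G : Sp S} {f : F ⟶ G}
    (hf : RepWith P f) : RepWith Q f := by
  refine MorphismProperty.relative_monotone ?_ _ hf
  intro A B g hg
  exact hPQ g.left hg

/-- Composition of `RepWith`. -/
theorem repWith_comp (P : MorphismProperty Scheme.{u}) [P.IsStableUnderBaseChange]
    [P.IsMultiplicative] {F G H : Sp S} {f : F ⟶ G} {g : G ⟶ H}
    (hf : RepWith P f) (hg : RepWith P g) : RepWith P (f ≫ g) := by
  have := (repWith_isMultiplicative (S := S) P).toIsStableUnderComposition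
  exact MorphismProperty.comp_mem _ f g hf hg

/-- Composition for `UnivSp Q`. -/
theorem univSp_comp (Q : MorphismProperty (Sp S))
    (hQ : ∀ {A B C : Sp S} (f : A ⟶ B) (g : B ⟶ C), Q f → Q g → Q (f ≫ g))
    {A B C : Sp S} (hB : IsAlgSpace B) (hC : Representable (Limits.diag C))
    (f : A ⟶ B) (g : B ⟶ C) (hf : UnivSp Q f) (hg : UnivSp Q g) : UnivSp Q (f ≫ g) := by
  intro W W' hW k a b sq
  have hbot : IsPullback (pullback.fst g k) (pullback.snd g k) g k := IsPullback.of_hasPullback _ _
  have hW₁ : IsAlgSpace (pullback g k) :=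
    Groth.Agent.Helper4.AlgSpPB.isAlgSpace_of_isPullback hC hB hW g k _ _ hbot
  have hcomm : (a ≫ f) ≫ g = b ≫ k := by rw [Category.assoc]; exact sq.w
  have hb : b = pullback.lift (a ≫ f) b hcomm ≫ pullback.snd g k := (pullback.lift_snd _ _ _).symm
  have sq' : IsPullback a (pullback.lift (a ≫ f) b hcomm ≫ pullback.snd g k) (f ≫ g) k := by
    rw [← hb]; exact sq
  have htop : IsPullback a (pullback.lift (a ≫ f) b hcomm) f (pullback.fst g k) :=
    IsPullback.of_bot sq' (pullback.lift_fst _ _ _).symm hbot
  have h1 : Q (pullback.lift (a ≫ f) b hcomm) := hf hW₁ _ _ _ htop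
  have h2 : Q (pullback.snd g k) := hg hW _ _ _ hbot
  rw [hb]
  exact hQ _ _ h1 h2

theorem isUnivOpenMor_comp {A B C : Sp S} (hB : IsAlgSpace B)
    (hC : Representable (Limits.diag C))
    (f : A ⟶ B) (g : B ⟶ C) (hf : IsUnivOpenMor f) (hg : IsUnivOpenMor g) :
    IsUnivOpenMor (f ≫ g) := by
  refine univSp_comp IsOpenMor ?_ hB hC f g hf hg
  intro A B C f g h1 h2
  have : Points.map (f ≫ g) = Points.map g ∘ Points.map f := by
    funext x; exact Points.map_comp f g x
  change IsOpenMap (Points.map (f ≫ g))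
  rw [this]
  exact IsOpenMap.comp h2 h1

theorem isUnivClosedMor_comp {A B C : Sp S} (hB : IsAlgSpace B)
    (hC : Representable (Limits.diag C))
    (f : A ⟶ B) (g : B ⟶ C) (hf : IsUnivClosedMor f) (hg : IsUnivClosedMor g) :
    IsUnivClosedMor (f ≫ g) := by
  refine univSp_comp IsClosedMor ?_ hB hC f g hf hg
  intro A B C f g h1 h2
  have : Points.map (f ≫ g) = Points.map g ∘ Points.map f := by
    funext x; exact Points.map_comp f g x
  change IsClosedMap (Points.map (f ≫ g))
  rw [this]
  exact IsClosedMap.comp h2 h1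

theorem isUnivInjectiveMor_comp {A B C : Sp S} (hB : IsAlgSpace B)
    (hC : Representable (Limits.diag C))
    (f : A ⟶ B) (g : B ⟶ C) (hf : IsUnivInjectiveMor f) (hg : IsUnivInjectiveMor g) :
    IsUnivInjectiveMor (f ≫ g) := by
  refine univSp_comp (fun _ _ f => Function.Injective (Points.map f)) ?_ hB hC f g hf hg
  intro A B C f g h1 h2
  have : Points.map (f ≫ g) = Points.map g ∘ Points.map f := by
    funext x; exact Points.map_comp f g x
  change Function.Injective (Points.map (f ≫ g))
  rw [this]
  exact Function.Injective.comp h2 h1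

end Groth.Agent.Helper4.AlgSpSrc
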