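import Groth.Prelude.Def_AlgSp
import Mathlib

set_option autoImplicit false
universe u
open CategoryTheory CategoryTheory.Limits AlgebraicGeometry Opposite

namespace Groth.Agent.Helper4.AlgSpBasic

open AlgSp

variable {S : Scheme.{u}}

/-- Morphisms of fppf sheaves can be tested on maps from representables. -/
theorem hom_ext_yon {F G : Sp S} {a b : F ⟶ G}
    (h : ∀ (U : Over S) (s : (yon S).obj U ⟶ F), s ≫ a = s ≫ b) : a = b := by
  apply Sheaf.hom_ext
  apply NatTrans.ext
  funext ⟨U⟩
  ext x
  have := h U ((J S).uliftYonedaEquiv.symm x)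
  have h2 := congrArg (J S).uliftYonedaEquiv this
  rw [GrothendieckTopology.uliftYonedaEquiv_comp, GrothendieckTopology.uliftYonedaEquiv_comp,
    Equiv.apply_symm_apply] at h2
  exact h2

/-- mono can be tested on representables. -/
theorem mono_of_yon {F G : Sp S} (f : F ⟶ G)
    (h : ∀ (U : Over S) (a b : (yon S).obj U ⟶ F), a ≫ f = b ≫ f → a = b) : Mono f :=
  ⟨fun a b hab => hom_ext_yon fun U s => h U _ _ (by simp only [Category.assoc, hab])⟩

/-- A morphism representable by monomorphisms (in `Over S`) is a monomorphism. -/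
theorem mono_of_relative_mono {F G : Sp S} (f : F ⟶ G)
    (hf : (MorphismProperty.monomorphisms (Over S)).relative (yon S) f) : Mono f := by
  apply mono_of_yon
  intro U a b h
  suffices hf.rep.lift (g := a ≫ f) a (𝟙 U) (by simp) =
      hf.rep.lift b (𝟙 U) (by simp [← h]) by
    simpa using (yon S).congr_map this =≫ (hf.rep.fst (a ≫ f))
  have : Mono (hf.rep.snd (a ≫ f)) := hf.property_snd (a ≫ f)
  simp only [← cancel_mono (hf.rep.snd (a ≫ f)), Functor.relativelyRepresentable.lift_snd]

/-- If `P` implies mono for schemes, `RepWith P f` implies `Mono f`. -/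
theorem mono_of_repWith {P : MorphismProperty Scheme.{u}}
    (hP : ∀ {X Y : Scheme.{u}} (g : X ⟶ Y), P g → Mono g) {F G : Sp S} (f : F ⟶ G)
    (hf : RepWith P f) : Mono f := by
  apply mono_of_relative_mono
  refine MorphismProperty.relative_monotone ?_ _ hf
  intro X Y g hg
  have : Mono g.left := hP _ hg
  exact (Over.forget S).mono_of_mono_map this

end Groth.Agent.Helper4.AlgSpBasic

namespace Groth.Agent.Helper4.AlgSpBasic

open AlgSp CategoryTheory CategoryTheory.Limits AlgebraicGeometry Opposite

variable {S : Scheme.{u}}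

/-- The sieve generated by a flat, lfp, surjective morphism is fppf-covering. -/
theorem generate_singleton_mem_J {T' T : Over S} (t : T' ⟶ T) [Flat t.left]
    [LocallyOfFinitePresentation t.left] [Surjective t.left] :
    Sieve.generate (Presieve.singleton t) ∈ (J S) T := by
  rw [GrothendieckTopology.mem_over_iff]
  refine GrothendieckTopology.superset_covering _ ?_
    (Precoverage.generate_mem_toGrothendieck t.left.singleton_mem_fppfPrecoverage)
  rw [Sieve.generate_le_iff]
  rintro _ _ ⟨⟩
  rw [Sieve.overEquiv_iff]
  exact ⟨T', Over.homMk (𝟙 _) (by simp), t, Presieve.singleton.mk, by ext; simp⟩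

/-- `h_t` is "epi" for fppf covers `t`. -/
theorem yon_map_cancel {T' T : Over S} (t : T' ⟶ T) [Flat t.left]
    [LocallyOfFinitePresentation t.left] [Surjective t.left] {F : Sp S}
    (a b : (yon S).obj T ⟶ F) (h : (yon S).map t ≫ a = (yon S).map t ≫ b) : a = b := by
  apply (J S).uliftYonedaEquiv.injective
  have hsep : Presieve.IsSeparatedFor F.obj (Presieve.singleton t) :=
    (((isSheaf_iff_isSheaf_of_type _ _).1 F.property).isSheafFor _
      (generate_singleton_mem_J t)).isSeparatedFor
  apply hsep.ext
  rintro _ _ ⟨⟩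
  rw [GrothendieckTopology.uliftYonedaEquiv_naturality,
    GrothendieckTopology.uliftYonedaEquiv_naturality, h]

end Groth.Agent.Helper4.AlgSpBasic
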