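import Groth.Prelude.Def_AlgSp4
import Groth.Agent.Helper4.AlgSpBasic
import Groth.Agent.Helper4.AlgSpPB
import Groth.Agent.Helper4.AlgSpSrc
import Mathlib

/-! The open subspace of an algebraic space given by the image of an étale map from a scheme. -/

set_option autoImplicit false
universe u
open CategoryTheory CategoryTheory.Limits AlgebraicGeometry Opposite MorphismProperty

namespace Groth.Agent.Helper4.AlgSpOpenImage

open AlgSp

variable {S : Scheme.{u}}

set_option backward.isDefEq.respectTransparency.types false in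
/-- fppf covering sieves are jointly surjective. -/
theorem exists_mem_range_of_mem_J {T : Over S} (R : Sieve T) (hR : R ∈ J S T) (t : T.left) :
    ∃ (T' : Over S) (g : T' ⟶ T), R g ∧ t ∈ Set.range g.left.base := by
  rw [J_eq, GrothendieckTopology.mem_over_iff] at hR
  have i0 : MorphismProperty.ContainsIdentities
      (@LocallyOfFinitePresentation : MorphismProperty Scheme.{u}) := ⟨fun X => inferInstance⟩
  have i1 : (Scheme.fppfPrecoverage.{u}).HasIsos := by
    unfold Scheme.fppfPrecoverage
    infer_instance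
  obtain ⟨R', hR', hle⟩ :=
    (Precoverage.mem_toGrothendieck_iff_of_isStableUnderComposition
      (J := Scheme.fppfPrecoverage)).1 hR
  have hjs : R' ∈ Scheme.jointlySurjectivePrecoverage T.left := hR'.1
  rw [Scheme.jointlySurjectivePrecoverage,
    Presieve.mem_comap_jointlySurjectivePrecoverage_iff] at hjs
  obtain ⟨Y, g, hg, y, hy⟩ := hjs t
  have h1 : (Sieve.overEquiv T R) g := hle _ _ hg
  rw [Sieve.overEquiv_iff] at h1
  exact ⟨_, _, h1, ⟨y, hy⟩⟩

end Groth.Agent.Helper4.AlgSpOpenImage

namespace Groth.Agent.Helper4.AlgSpOpenImage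

open AlgSp

variable {S : Scheme.{u}}

/-- Sections of a monomorphism of sheaves are injective. -/
theorem injective_app_of_mono {G' G : Sp S} (m : G' ⟶ G) [Mono m] (U : (Over S)ᵒᵖ) :
    Function.Injective (m.hom.app U) := by
  have h1 : Mono m.hom := (Sheaf.Hom.mono_iff_presheaf_mono _ _ m).1 inferInstance
  have h2 : Mono (m.hom.app U) := (NatTrans.mono_iff_mono_app m.hom).1 h1 U
  exact (mono_iff_injective _).1 h2

/-- A morphism of sheaves factors through a monomorphism as soon as all its restrictions to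
representables do. -/
theorem exists_lift_of_mono {G' G Z : Sp S} (m : G' ⟶ G) [Mono m] (z : Z ⟶ G)
    (h : ∀ (U : Over S) (s : (yon S).obj U ⟶ Z), ∃ t : (yon S).obj U ⟶ G', t ≫ m = s ≫ z) :
    ∃ l : Z ⟶ G', l ≫ m = z := by
  have key : ∀ (U : (Over S)ᵒᵖ) (x : Z.obj.obj U),
      ∃ y : G'.obj.obj U, m.hom.app U y = z.hom.app U x := by
    intro U x
    obtain ⟨t, ht⟩ := h U.unop ((J S).uliftYonedaEquiv.symm x)
    refine ⟨(J S).uliftYonedaEquiv t, ?_⟩
    have := congrArg (J S).uliftYonedaEquiv ht
    rw [GrothendieckTopology.uliftYonedaEquiv_comp, GrothendieckTopology.uliftYonedaEquiv_comp,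
      Equiv.apply_symm_apply] at this
    exact this
  choose y hy using key
  refine ⟨⟨{ app := fun U => TypeCat.ofHom (y U), naturality := ?_ }⟩, ?_⟩
  · intro U V f
    ext x
    apply injective_app_of_mono m V
    have h1 := ConcreteCategory.congr_hom (m.hom.naturality f) (y U x)
    have h2 := ConcreteCategory.congr_hom (z.hom.naturality f) x
    simp only [types_comp_apply] at h1 h2 ⊢
    show m.hom.app V (y V (Z.obj.map f x)) = m.hom.app V (G'.obj.map f (y U x))
    rw [h1, hy, hy, h2]
  · apply Sheaf.hom_ext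
    apply NatTrans.ext
    funext U
    ext x
    exact hy U x

end Groth.Agent.Helper4.AlgSpOpenImage

namespace Groth.Agent.Helper4.AlgSpOpenImage

open AlgSp

variable {S : Scheme.{u}}

section Image

variable {X : Sp S} {W : Over S} (a : (yon S).obj W ⟶ X)

/-- The image subsheaf of `a`. -/
noncomputable def img : Sp S := Sheaf.image a

/-- The inclusion of the image. -/
noncomputable def imgι : img a ⟶ X := Sheaf.imageι a

/-- The corestriction to the image. -/
noncomputable def toImg : (yon S).obj W ⟶ img a := Sheaf.toImage a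

instance : Mono (imgι a) := by
  unfold imgι
  exact (sheafToPresheaf (J S) _).mono_of_mono_map
    (show Mono (Subfunctor.ι ((Subfunctor.range a.hom).sheafify (J S))) from inferInstance)

theorem toImg_ι : toImg a ≫ imgι a = a := Sheaf.toImage_ι a

/-- Local lifting: any map from a representable to the image lifts to `W` locally, around any point. -/
theorem local_lift {U : Over S} (σ : (yon S).obj U ⟶ img a) (u : U.left) :
    ∃ (U' : Over S) (g' : U' ⟶ U) (y : (yon S).obj U' ⟶ (yon S).obj W),
      u ∈ Set.range g'.left.base ∧ y ≫ toImg a = (yon S).map g' ≫ σ := by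
  let x := (J S).uliftYonedaEquiv σ
  have hx : (Subfunctor.range a.hom).sieveOfSection x.1 ∈ J S U := x.2
  obtain ⟨U', g', hg', hu⟩ := exists_mem_range_of_mem_J _ hx u
  obtain ⟨w, hw⟩ := hg'
  refine ⟨U', g', (J S).uliftYonedaEquiv.symm w, hu, ?_⟩
  rw [← cancel_mono (imgι a), Category.assoc, toImg_ι, Category.assoc]
  apply (J S).uliftYonedaEquiv.injective
  rw [GrothendieckTopology.uliftYonedaEquiv_comp, Equiv.apply_symm_apply, hw,
    ← GrothendieckTopology.uliftYonedaEquiv_naturality]
  rfl

end Image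

end Groth.Agent.Helper4.AlgSpOpenImage

namespace Groth.Agent.Helper4.AlgSpOpenImage

open AlgSp

variable {S : Scheme.{u}}

/-- The diagonal of a subobject is a base change of the diagonal. -/
theorem isPullback_diag_of_mono {X' X : Sp S} (j : X' ⟶ X) [Mono j] :
    IsPullback j (Limits.diag X') (Limits.diag X) (Limits.prod.map j j) := by
  have hw : j ≫ Limits.diag X = Limits.diag X' ≫ Limits.prod.map j j := by
    apply Limits.prod.hom_ext
    · simp [Limits.diag]
    · simp [Limits.diag]
  refine ⟨⟨hw⟩, ⟨PullbackCone.IsLimit.mk _ (fun c => c.snd ≫ Limits.prod.fst)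
    ?_ ?_ ?_⟩⟩
  · intro c
    have h1 := c.condition =≫ Limits.prod.fst
    simp only [Category.assoc, Limits.prod.map_fst, Limits.diag, Limits.prod.lift_fst,
      Category.comp_id] at h1
    rw [Category.assoc]
    exact h1.symm
  · intro c
    have h1 := c.condition =≫ Limits.prod.fst
    have h2 := c.condition =≫ Limits.prod.snd
    simp only [Category.assoc, Limits.prod.map_fst, Limits.prod.map_snd, Limits.diag,
      Limits.prod.lift_fst, Limits.prod.lift_snd, Category.comp_id] at h1 h2
    have h3 : c.snd ≫ Limits.prod.fst = c.snd ≫ Limits.prod.snd := by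
      rw [← cancel_mono j, Category.assoc, Category.assoc, ← h1, ← h2]
    apply Limits.prod.hom_ext
    · rw [Category.assoc]
      show (c.snd ≫ Limits.prod.fst) ≫ Limits.prod.lift (𝟙 X') (𝟙 X') ≫ Limits.prod.fst = _
      rw [Limits.prod.lift_fst, Category.comp_id]
    · rw [Category.assoc]
      show (c.snd ≫ Limits.prod.fst) ≫ Limits.prod.lift (𝟙 X') (𝟙 X') ≫ Limits.prod.snd = _
      rw [Limits.prod.lift_snd, Category.comp_id, h3]
  · intro c m _ h2
    rw [← h2, Category.assoc]
    show m = m ≫ Limits.prod.lift (𝟙 X') (𝟙 X') ≫ Limits.prod.fst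
    rw [Limits.prod.lift_fst, Category.comp_id]

section Image

variable {X : Sp S} {W : Over S} (a : (yon S).obj W ⟶ X)

theorem toImg_etale (ha : RepWith @Etale a) : RepWith @Etale (toImg a) := by
  have sq : IsPullback (𝟙 _) (toImg a) (toImg a ≫ imgι a) (imgι a) :=
    Groth.Agent.Helper4.AlgSpPB.isPullback_of_mono (toImg a) (imgι a)
  rw [toImg_ι] at sq
  have i1 := repWith_isStableUnderBaseChange (S := S) @Etale
  exact MorphismProperty.of_isPullback sq ha

theorem toImg_surjective (ha : RepWith @Etale a) : RepWith @Surjective (toImg a) := by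
  refine ⟨(toImg_etale a ha).rep, ?_⟩
  intro T V ξ fst snd sq
  show Surjective snd.left
  refine ⟨fun t => ?_⟩
  obtain ⟨U', g', y, hu, hy⟩ := local_lift a ξ t
  obtain ⟨l, hl⟩ := (yon S).map_surjective (sq.lift y ((yon S).map g') hy)
  have hl2 : l ≫ snd = g' := by
    apply (yon S).map_injective
    rw [Functor.map_comp, hl, sq.lift_snd]
  obtain ⟨u', rfl⟩ := hu
  exact ⟨l.left u', by rw [← hl2]; rfl⟩

theorem isAlgSpace_img (hX : Representable (Limits.diag X)) (ha : RepWith @Etale a) :
    IsAlgSpace (img a) where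
  diag := MorphismProperty.of_isPullback (isPullback_diag_of_mono (imgι a)) hX
  atlas := ⟨W, toImg a, toImg_etale a ha, toImg_surjective a ha⟩

end Image

end Groth.Agent.Helper4.AlgSpOpenImage

namespace Groth.Agent.Helper4.AlgSpOpenImage

open AlgSp

variable {S : Scheme.{u}}

/-- `yon` of a monomorphism is a monomorphism. -/
theorem mono_yon_map {A B : Over S} (f : A ⟶ B) [Mono f] : Mono ((yon S).map f) := by
  apply Groth.Agent.Helper4.AlgSpBasic.mono_of_yon
  intro U p q h
  obtain ⟨p₀, rfl⟩ := (yon S).map_surjective p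
  obtain ⟨q₀, rfl⟩ := (yon S).map_surjective q
  rw [← Functor.map_comp, ← Functor.map_comp] at h
  have := (yon S).map_injective h
  rw [cancel_mono] at this
  rw [this]

/-- A morphism of schemes over `S` whose image lies in an open factors through it. -/
theorem exists_factor_opens {U T : Over S} (O : T.left.Opens) (g : U ⟶ T)
    (h : ∀ u : U.left, g.left u ∈ O) :
    ∃ g₀ : U ⟶ Over.mk (O.ι ≫ T.hom), g₀ ≫ (Over.homMk O.ι rfl : Over.mk (O.ι ≫ T.hom) ⟶ T) = g := by
  have hr : Set.range g.left.base ⊆ Set.range O.ι.base := by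
    rw [Scheme.Opens.range_ι]
    rintro _ ⟨u, rfl⟩
    exact h u
  refine ⟨Over.homMk (IsOpenImmersion.lift O.ι g.left hr) ?_, ?_⟩
  · show IsOpenImmersion.lift O.ι g.left hr ≫ O.ι ≫ T.hom = U.hom
    rw [← Category.assoc, IsOpenImmersion.lift_fac]
    exact Over.w g
  · ext
    show IsOpenImmersion.lift O.ι g.left hr ≫ O.ι = g.left
    exact IsOpenImmersion.lift_fac _ _ _

end Groth.Agent.Helper4.AlgSpOpenImage

namespace Groth.Agent.Helper4.AlgSpOpenImage

open AlgSp

variable {S : Scheme.{u}}

section Image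

variable {X : Sp S} {W : Over S} (a : (yon S).obj W ⟶ X)

/-- Key pullback square: the base change of the image along `ξ : h_T ⟶ X` is the open image of
`W ×_X T ⟶ T`. -/
theorem exists_open_pullback (ha : RepWith @Etale a) {T : Over S} (ξ : (yon S).obj T ⟶ X) :
    ∃ (O : T.left.Opens) (fstO : (yon S).obj (Over.mk (O.ι ≫ T.hom)) ⟶ img a),
      IsPullback fstO ((yon S).map (Over.homMk O.ι rfl : Over.mk (O.ι ≫ T.hom) ⟶ T))
        (imgι a) ξ := by
  have har := ha.rep
  have hpb : IsPullback (har.fst ξ) ((yon S).map (har.snd ξ)) a ξ := har.isPullback ξ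
  have hse : Etale (har.snd ξ).left := ha.property _ _ _ hpb
  generalize har.fst ξ = fstV at hpb
  generalize har.snd ξ = sndV at hpb hse
  let O : T.left.Opens := ⟨Set.range sndV.left.base, sndV.left.isOpenMap.isOpen_range⟩
  let ι' : Over.mk (O.ι ≫ T.hom) ⟶ T := Over.homMk O.ι rfl
  have hmono : Mono ι' := by
    have : Mono ((Over.forget S).map ι') := by
      show Mono O.ι
      infer_instance
    exact (Over.forget S).mono_of_mono_map this
  have hmono' : Mono ((yon S).map ι') := mono_yon_map ι'
  -- corestriction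
  obtain ⟨c, hc⟩ := exists_factor_opens O sndV (fun v => ⟨v, rfl⟩)
  have hce : Etale c.left := by
    have h1 : Etale (c.left ≫ O.ι) := by
      have : c.left ≫ O.ι = sndV.left := by
        rw [← hc]; rfl
      rw [this]; exact hse
    exact MorphismProperty.of_postcomp (W := @Etale) (W' := @Etale) c.left O.ι inferInstance h1
  have hcs : Surjective c.left := by
    refine ⟨fun o => ?_⟩
    obtain ⟨v, hv⟩ : (O.ι o) ∈ Set.range sndV.left.base := o.2
    refine ⟨v, ?_⟩
    apply O.ι.isOpenEmbedding.injective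
    rw [← hv, ← hc]
    rfl
  -- the section of the image over `O`
  let x : X.obj.obj (op (Over.mk (O.ι ≫ T.hom))) := (J S).uliftYonedaEquiv ((yon S).map ι' ≫ ξ)
  have hxc : (Subfunctor.range a.hom).sieveOfSection x c := by
    refine ⟨(J S).uliftYonedaEquiv fstV, ?_⟩
    show a.hom.app _ ((J S).uliftYonedaEquiv fstV) = X.obj.map c.op x
    rw [← GrothendieckTopology.uliftYonedaEquiv_comp, hpb.w,
      GrothendieckTopology.uliftYonedaEquiv_naturality, ← Category.assoc, ← Functor.map_comp, hc]
  have hx : (Subfunctor.range a.hom).sieveOfSection x ∈ J S (Over.mk (O.ι ≫ T.hom)) := by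
    refine GrothendieckTopology.superset_covering _ ?_
      (Groth.Agent.Helper4.AlgSpBasic.generate_singleton_mem_J c)
    rw [Sieve.generate_le_iff]
    rintro _ _ ⟨⟩
    exact hxc
  let fstO : (yon S).obj (Over.mk (O.ι ≫ T.hom)) ⟶ img a :=
    (J S).uliftYonedaEquiv.symm ⟨x, hx⟩
  have hw : fstO ≫ imgι a = (yon S).map ι' ≫ ξ := by
    apply (J S).uliftYonedaEquiv.injective
    rw [GrothendieckTopology.uliftYonedaEquiv_comp, Equiv.apply_symm_apply]
    rfl
  refine ⟨O, fstO, ⟨⟨hw⟩, ⟨?_⟩⟩⟩
  -- the lift
  have hlift : ∀ c' : PullbackCone (imgι a) ξ, ∃ l : c'.pt ⟶ (yon S).obj (Over.mk (O.ι ≫ T.hom)),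
      l ≫ (yon S).map ι' = c'.snd := by
    intro c'
    refine exists_lift_of_mono ((yon S).map ι') c'.snd fun U s => ?_
    obtain ⟨g, hg⟩ := (yon S).map_surjective (s ≫ c'.snd)
    have hrange : ∀ u : U.left, g.left u ∈ O := by
      intro u
      obtain ⟨U', g', y, ⟨u', hu'⟩, hy⟩ := local_lift a (s ≫ c'.fst) u
      have h1 : y ≫ a = (yon S).map (g' ≫ g) ≫ ξ := by
        rw [← toImg_ι a, ← Category.assoc, hy, Category.assoc, Category.assoc, c'.condition,
          Functor.map_comp, hg, Category.assoc, Category.assoc]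
      obtain ⟨l₀, hl₀⟩ := (yon S).map_surjective (hpb.lift y ((yon S).map (g' ≫ g)) h1)
      have h2 : l₀ ≫ sndV = g' ≫ g := by
        apply (yon S).map_injective
        rw [Functor.map_comp, hl₀, hpb.lift_snd]
      refine ⟨l₀.left u', ?_⟩
      rw [← hu']
      show (l₀ ≫ sndV).left u' = (g' ≫ g).left u'
      rw [h2]
    obtain ⟨g₀, hg₀⟩ := exists_factor_opens O g hrange
    exact ⟨(yon S).map g₀, by rw [← Functor.map_comp, hg₀, hg]⟩
  choose l hl using hlift
  refine PullbackCone.IsLimit.mk _ l ?_ hl ?_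
  · intro c'
    rw [← cancel_mono (imgι a), Category.assoc, hw, ← Category.assoc, hl, c'.condition]
  · intro c' m _ h2
    rw [← cancel_mono ((yon S).map ι'), h2, hl]

theorem imgι_isOpenImmersion (ha : RepWith @Etale a) : RepWith @IsOpenImmersion (imgι a) := by
  refine MorphismProperty.relative.of_exists fun T ξ => ?_
  obtain ⟨O, fstO, sq⟩ := exists_open_pullback a ha ξ
  exact ⟨_, fstO, _, sq, (inferInstance : IsOpenImmersion O.ι)⟩

end Image

end Groth.Agent.Helper4.AlgSpOpenImage
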