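import Groth.Prelude.Def_AlgSp4
import Groth.Agent.Helper4.AlgSpPB
import Mathlib

set_option autoImplicit false
universe u
open CategoryTheory CategoryTheory.Limits AlgebraicGeometry Opposite

namespace Groth.Agent.Helper4.AlgSpQC

open AlgSp

variable {S : Scheme.{u}}

/-- A morphism representable by quasi-compact morphisms is quasi-compact in the sense of
algebraic spaces. -/
theorem isQuasiCompactMor_of_repWith {X Y : Sp S} (f : X ⟶ Y) (hf : RepWith @QuasiCompact f) :
    IsQuasiCompactMor f := by
  intro Z Z' _ hqc g fst snd sq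
  obtain ⟨U, p, hpe, hps, hU⟩ := hqc
  have hf' := hf.rep
  let W := hf'.pullback (p ≫ g)
  let w : (yon S).obj W ⟶ X := hf'.fst (p ≫ g)
  let q : W ⟶ U := hf'.snd (p ≫ g)
  have hpb : IsPullback w ((yon S).map q) f (p ≫ g) := hf'.isPullback (p ≫ g)
  have hq : QuasiCompact q.left := hf.property (p ≫ g) _ _ hpb
  have hcomm : w ≫ f = ((yon S).map q ≫ p) ≫ g := by rw [Category.assoc]; exact hpb.w
  let r : (yon S).obj W ⟶ Z' := sq.lift w ((yon S).map q ≫ p) hcomm
  have hr1 : r ≫ fst = w := sq.lift_fst _ _ _
  have hr2 : r ≫ snd = (yon S).map q ≫ p := sq.lift_snd _ _ _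
  have hleft : IsPullback r ((yon S).map q) snd p := by
    refine IsPullback.of_right ?_ hr2 sq
    rw [hr1]; exact hpb
  have inst1 : (RepWith (S := S) @Etale).IsStableUnderBaseChange :=
    repWith_isStableUnderBaseChange (S := S) @Etale
  have inst2 : (RepWith (S := S) @Surjective).IsStableUnderBaseChange :=
    repWith_isStableUnderBaseChange (S := S) @Surjective
  refine ⟨W, r, MorphismProperty.of_isPullback hleft.flip hpe,
    MorphismProperty.of_isPullback hleft.flip hps, ?_⟩
  have : CompactSpace U.left := hU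
  exact QuasiCompact.compactSpace_of_compactSpace q.left

end Groth.Agent.Helper4.AlgSpQC

namespace Groth.Agent.Helper4.AlgSpQC

open AlgSp CategoryTheory CategoryTheory.Limits AlgebraicGeometry

variable {S : Scheme.{u}}

set_option backward.isDefEq.respectTransparency.types false in
theorem repWith_of_isQuasiCompactMor {X Y : Sp S} (f : X ⟶ Y) (hf : Representable f)
    (h : IsQuasiCompactMor f) : RepWith @QuasiCompact f := by
  refine ⟨hf, ?_⟩
  intro T V ξ fst snd sq
  show QuasiCompact snd.left
  rw [IsZariskiLocalAtTarget.iff_of_iSup_eq_top (P := @QuasiCompact) _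
    (iSup_affineOpens_eq_top T.left)]
  intro U
  have : IsAffine U.1 := U.2
  rw [HasAffineProperty.iff_of_isAffine (P := @QuasiCompact)]
  let TU : Over S := Over.mk (U.1.ι ≫ T.hom)
  let VU : Over S := Over.mk ((snd.left ⁻¹ᵁ U.1).ι ≫ V.hom)
  let ιT : TU ⟶ T := Over.homMk U.1.ι rfl
  let ιV : VU ⟶ V := Over.homMk (snd.left ⁻¹ᵁ U.1).ι rfl
  have hres : (snd.left ⁻¹ᵁ U.1).ι ≫ snd.left = (snd.left ∣_ U.1) ≫ U.1.ι :=
    (isPullback_morphismRestrict snd.left U.1).w.symm
  let sU : VU ⟶ TU := Over.homMk (snd.left ∣_ U.1) (by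
    show (snd.left ∣_ U.1) ≫ U.1.ι ≫ T.hom = (snd.left ⁻¹ᵁ U.1).ι ≫ V.hom
    rw [← Category.assoc, ← hres, Category.assoc, Over.w])
  have hpbS : IsPullback ιV sU snd ιT :=
    IsPullback.of_map (Over.forget S) (by ext; exact hres)
      (isPullback_morphismRestrict snd.left U.1).flip
  have hpb : IsPullback ((yon S).map ιV ≫ fst) ((yon S).map sU) f ((yon S).map ιT ≫ ξ) :=
    (hpbS.map (yon S)).paste_horiz sq
  have hc : CompactSpace TU.left := by
    show CompactSpace U.1
    infer_instance
  obtain ⟨W, p, -, hps, hW⟩ := h (IsAlgSpace.yon_obj TU)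
    ⟨TU, 𝟙 _, repWith_id _ _, repWith_id _ _, hc⟩ _ _ _ hpb
  obtain ⟨p, rfl⟩ := (yon S).map_surjective p
  have hsurj : Surjective p.left := (repWith_yon_map_iff _ _).1 hps
  have : CompactSpace W.left := hW
  have hs : Function.Surjective p.left := hsurj.surj
  show CompactSpace VU.left
  exact ⟨by rw [← Set.range_eq_univ.2 hs]; exact isCompact_range p.left.continuous⟩

end Groth.Agent.Helper4.AlgSpQC

namespace Groth.Agent.Helper4.AlgSpQC

open AlgSp CategoryTheory CategoryTheory.Limits AlgebraicGeometry

variable {S : Scheme.{u}}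

set_option backward.isDefEq.respectTransparency.types false in
/-- A quasi-compact sheaf has an affine étale surjective chart. -/
theorem exists_affine_chart {Z : Sp S} (hZ : IsQuasiCompactSp Z) :
    ∃ (U : Over S) (p : (yon S).obj U ⟶ Z), RepWith @Etale p ∧ RepWith @Surjective p ∧
      IsAffine U.left := by
  obtain ⟨U, p, hpe, hps, hU⟩ := hZ
  have : CompactSpace U.left := hU
  let 𝒰 : U.left.OpenCover := U.left.affineCover.finiteSubcover
  have : Finite 𝒰.I₀ := by dsimp [𝒰]; infer_instance
  let c : (∐ 𝒰.X) ⟶ U.left := Sigma.desc 𝒰.f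
  have hce : Etale c := IsZariskiLocalAtSource.sigmaDesc (P := @Etale) (fun i => inferInstance)
  have hcs : Surjective c := inferInstance
  let U' : Over S := Over.mk (c ≫ U.hom)
  let c' : U' ⟶ U := Over.homMk c rfl
  have i1 : (RepWith (S := S) @Etale).IsStableUnderComposition :=
    (repWith_isMultiplicative (S := S) @Etale).toIsStableUnderComposition
  have i2 : (RepWith (S := S) @Surjective).IsStableUnderComposition :=
    (repWith_isMultiplicative (S := S) @Surjective).toIsStableUnderComposition
  refine ⟨U', (yon S).map c' ≫ p, ?_, ?_, ?_⟩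
  · exact MorphismProperty.comp_mem _ _ _ ((repWith_yon_map_iff _ _).2 hce) hpe
  · exact MorphismProperty.comp_mem _ _ _ ((repWith_yon_map_iff _ _).2 hcs) hps
  · show IsAffine (∐ 𝒰.X)
    infer_instance

set_option backward.isDefEq.respectTransparency.types false in
theorem isQuasiCompactMor_iff_affine {X Y : Sp S} (f : X ⟶ Y) :
    IsQuasiCompactMor f ↔
      ∀ (Z : Over S), IsAffine Z.left → ∀ (g : (yon S).obj Z ⟶ Y) (P : Sp S)
        (fst : P ⟶ X) (snd : P ⟶ (yon S).obj Z), IsPullback fst snd f g →
        IsQuasiCompactSp P := by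
  constructor
  · intro h Z hZ g P fst snd sq
    have : IsAffine Z.left := hZ
    have hc : CompactSpace Z.left := inferInstance
    exact h (IsAlgSpace.yon_obj Z) ⟨Z, 𝟙 _, repWith_id _ _, repWith_id _ _, hc⟩ g fst snd sq
  · intro h Z Z' _ hqc g fst snd sq
    obtain ⟨U, p, hpe, hps, hU⟩ := exists_affine_chart hqc
    -- P' = h_U ×_Z Z'
    let P' : Sp S := pullback p snd
    have hpb1 : IsPullback (pullback.fst p snd) (pullback.snd p snd) p snd :=
      IsPullback.of_hasPullback p snd
    have hpb2 : IsPullback (pullback.snd p snd ≫ fst) (pullback.fst p snd) f (p ≫ g) :=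
      hpb1.flip.paste_horiz sq
    obtain ⟨W, r, hre, hrs, hW⟩ := h U hU (p ≫ g) P' _ _ hpb2
    have inst1 : (RepWith (S := S) @Etale).IsStableUnderBaseChange :=
      repWith_isStableUnderBaseChange (S := S) @Etale
    have inst2 : (RepWith (S := S) @Surjective).IsStableUnderBaseChange :=
      repWith_isStableUnderBaseChange (S := S) @Surjective
    have i1 : (RepWith (S := S) @Etale).IsStableUnderComposition :=
      (repWith_isMultiplicative (S := S) @Etale).toIsStableUnderComposition
    have i2 : (RepWith (S := S) @Surjective).IsStableUnderComposition :=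
      (repWith_isMultiplicative (S := S) @Surjective).toIsStableUnderComposition
    refine ⟨W, r ≫ pullback.snd p snd, ?_, ?_, hW⟩
    · exact MorphismProperty.comp_mem _ _ _ hre (MorphismProperty.of_isPullback hpb1 hpe)
    · exact MorphismProperty.comp_mem _ _ _ hrs (MorphismProperty.of_isPullback hpb1 hps)

end Groth.Agent.Helper4.AlgSpQC

namespace Groth.Agent.Helper4.AlgSpQC

open AlgSp CategoryTheory CategoryTheory.Limits AlgebraicGeometry

variable {S : Scheme.{u}}

/-- quasi-compact morphisms are stable under base change. -/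
theorem isQuasiCompactMor_of_isPullback {X Y X' Y' : Sp S} {f : X ⟶ Y} {g : Y' ⟶ Y}
    {fst : X' ⟶ X} {f' : X' ⟶ Y'} (sq : IsPullback fst f' f g) (hf : IsQuasiCompactMor f) :
    IsQuasiCompactMor f' := by
  intro Z Z' hZ hqc c a b sq'
  exact hf hZ hqc (c ≫ g) (a ≫ fst) b (sq'.paste_horiz sq)

end Groth.Agent.Helper4.AlgSpQC

namespace Groth.Agent.Helper4.AlgSpQC

open AlgSp CategoryTheory CategoryTheory.Limits AlgebraicGeometry

variable {S : Scheme.{u}}

/-- quasi-compact morphisms are stable under composition (middle object an algebraic space,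
target with representable diagonal). -/
theorem isQuasiCompactMor_comp {A B C : Sp S} (hB : IsAlgSpace B)
    (hC : Representable (Limits.diag C)) (f : A ⟶ B) (g : B ⟶ C)
    (hf : IsQuasiCompactMor f) (hg : IsQuasiCompactMor g) : IsQuasiCompactMor (f ≫ g) := by
  intro Z Z' hZ hqc c a b sq
  have hW : IsPullback (pullback.fst g c) (pullback.snd g c) g c := IsPullback.of_hasPullback g c
  have hWalg : IsAlgSpace (pullback g c) :=
    Groth.Agent.Helper4.AlgSpPB.isAlgSpace_of_isPullback hC hB hZ g c _ _ hW
  have hWqc : IsQuasiCompactSp (pullback g c) := hg hZ hqc c _ _ hW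
  let r : Z' ⟶ pullback g c := hW.lift (a ≫ f) b (by rw [Category.assoc]; exact sq.w)
  have hr1 : r ≫ pullback.fst g c = a ≫ f := hW.lift_fst _ _ _
  have hr2 : r ≫ pullback.snd g c = b := hW.lift_snd _ _ _
  have : IsPullback a r f (pullback.fst g c) := by
    refine IsPullback.of_bot ?_ hr1.symm hW
    rw [hr2]; exact sq
  exact hf hWalg hWqc (pullback.fst g c) a r this

end Groth.Agent.Helper4.AlgSpQC
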