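import Groth.Prelude.Def_AlgSp4
import Groth.Agent.Helper4.AlgSpSrc
import Groth.Agent.Helper4.AlgSpQC
import Mathlib

set_option autoImplicit false
universe u
open CategoryTheory CategoryTheory.Limits AlgebraicGeometry Opposite

namespace Groth.Agent.Helper4.AlgSpQC2

open AlgSp Groth.Agent.Helper4.AlgSpPtsDesc

variable {S : Scheme.{u}}

/-- An open subscheme of `V`, as an object over `S`. -/
noncomputable abbrev opOver (V : Over S) (W : V.left.Opens) : Over S :=
  Over.mk (W.ι ≫ V.hom)

/-- The inclusion of an open subscheme, over `S`. -/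
noncomputable abbrev opι (V : Over S) (W : V.left.Opens) : opOver V W ⟶ V :=
  Over.homMk W.ι rfl

theorem ofPt_eq_map_schemeHomeo {F : Sp S} {T : Over S} (g : (yon S).obj T ⟶ F) (t : ↥T.left) :
    Points.map g (Points.schemeHomeo T t) = Points.ofPt g t :=
  (Points.ofPt_eq_map_ofScheme g t).symm

/-- The target of a surjective morphism from a quasi-compact sheaf to an algebraic space is
quasi-compact. -/
theorem isQuasiCompactSp_of_surjective {X Y : Sp S} (hY : IsAlgSpace Y) (f : X ⟶ Y)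
    (hf : IsSurjectiveMor f) (hX : IsQuasiCompactSp X) : IsQuasiCompactSp Y := by
  obtain ⟨U, u, hue, hus, hUc⟩ := hX
  obtain ⟨V, v, hve, hvs⟩ := hY.atlas
  have hUc' : CompactSpace U.left := hUc
  have hgs : Function.Surjective (Points.map (u ≫ f)) := by
    intro y
    obtain ⟨x, rfl⟩ := hf y
    obtain ⟨t, rfl⟩ := Groth.Agent.Helper4.AlgSpPts.isSurjectiveMor_of_repWith u hus x
    exact ⟨t, Points.map_comp _ _ _⟩
  have hr := hve.rep
  have hpb : IsPullback (hr.fst (u ≫ f)) ((yon S).map (hr.snd (u ≫ f))) v (u ≫ f) :=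
    hr.isPullback _
  obtain ⟨c, hc⟩ := (yon S).map_surjective (hr.fst (u ≫ f))
  rw [← hc] at hpb
  have hee : Etale (hr.snd (u ≫ f)).left := hve.property _ _ _ hpb
  have hes : Surjective (hr.snd (u ≫ f)).left := hvs.property _ _ _ hpb
  generalize hr.snd (u ≫ f) = e at hpb hee hes
  -- the open cover of `U`
  let O : V.left.affineOpens → Set ↥U.left := fun W => e.left '' (c.left ⁻¹' (W.1 : Set ↥V.left))
  have hO : ∀ W, IsOpen (O W) := fun W =>
    e.left.isOpenMap _ (W.1.2.preimage c.left.continuous)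
  have hcov : (Set.univ : Set ↥U.left) ⊆ ⋃ W, O W := by
    intro t _
    obtain ⟨s, rfl⟩ := hes.surj t
    have : c.left s ∈ (⊤ : V.left.Opens) := trivial
    rw [← iSup_affineOpens_eq_top V.left] at this
    obtain ⟨W, hW⟩ := TopologicalSpace.Opens.mem_iSup.1 this
    exact Set.mem_iUnion.2 ⟨W, s, hW, rfl⟩
  obtain ⟨I, hI⟩ := isCompact_univ.elim_finite_subcover O hO hcov
  let V' : V.left.Opens := ⨆ W ∈ I, W.1
  have hV'c : IsCompact (V' : Set ↥V.left) := by
    have : (V' : Set ↥V.left) = ⋃ W ∈ I, (W.1 : Set ↥V.left) := by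
      simp [V']
    rw [this]
    exact I.isCompact_biUnion (fun W _ => W.2.isCompact)
  have hV'cs : CompactSpace ↥(opOver V V').left := isCompact_iff_compactSpace.1 hV'c
  have hv'e : RepWith @Etale ((yon S).map (opι V V') ≫ v) :=
    Groth.Agent.Helper4.AlgSpSrc.repWith_comp _
      ((repWith_yon_map_iff _ _).2 (by
        show Etale V'.ι
        infer_instance)) hve
  refine ⟨opOver V V', (yon S).map (opι V V') ≫ v, hv'e, ?_, hV'cs⟩
  apply Groth.Agent.Helper4.AlgSpPts.repWith_surjective_of_isSurjectiveMor _ hv'e.rep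
  intro y
  obtain ⟨x, rfl⟩ := hgs y
  obtain ⟨t, rfl⟩ := (Points.schemeHomeo U).surjective x
  obtain ⟨W, hW⟩ := Set.mem_iUnion.1 (hI (Set.mem_univ t))
  obtain ⟨hWI, s, hs, rfl⟩ := Set.mem_iUnion.1 hW
  have hmem : c.left s ∈ V' := by
    apply TopologicalSpace.Opens.mem_iSup.2
    refine ⟨W, ?_⟩
    apply TopologicalSpace.Opens.mem_iSup.2
    exact ⟨hWI, hs⟩
  refine ⟨Points.schemeHomeo _ (⟨c.left s, hmem⟩ : ↥V'), ?_⟩
  rw [ofPt_eq_map_schemeHomeo, ofPt_eq_map_schemeHomeo, ofPt_yon_map_comp,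
    ← ofPt_yon_map_comp e, ← hpb.w, ofPt_yon_map_comp]
  rfl

theorem isOpenMor_of_isUnivOpenMor {X Y : Sp S} (hY : IsAlgSpace Y) (f : X ⟶ Y)
    (h : IsUnivOpenMor f) : IsOpenMap (Points.map f) :=
  h hY (𝟙 Y) (𝟙 X) f IsPullback.of_id_fst

theorem isOpenMor_of_repWith_etale {X Y : Sp S} (hY : IsAlgSpace Y) (f : X ⟶ Y)
    (h : RepWith @Etale f) : IsOpenMap (Points.map f) :=
  isOpenMor_of_isUnivOpenMor hY f
    (isUnivOpenMor_of_repWith f (Groth.Agent.Helper4.AlgSpSrc.repWith_mono (fun g hg => by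
        have : Etale g := hg
        infer_instance) h))

theorem isQuasiCompactSp_yon (W : Over S) [CompactSpace W.left] :
    IsQuasiCompactSp ((yon S).obj W) :=
  ⟨W, 𝟙 _, repWith_id _ _, repWith_id _ _, inferInstance⟩

/-- An algebraic space with an open surjective map to a quasi-compact scheme has a
quasi-compact étale chart surjecting onto the scheme. -/
theorem exists_compact_chart_of_open_surjective {Z' : Sp S} (hZ' : IsAlgSpace Z') (Z : Over S)
    [CompactSpace Z.left] (b : Z' ⟶ (yon S).obj Z) (hbo : IsOpenMap (Points.map b))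
    (hbs : Function.Surjective (Points.map b)) :
    ∃ (W : Over S) (w : (yon S).obj W ⟶ Z'), CompactSpace W.left ∧ RepWith @Etale w ∧
      Function.Surjective (Points.map (w ≫ b)) := by
  obtain ⟨W₀, w₀, hwe, hws⟩ := hZ'.atlas
  have hwo : IsOpenMap (Points.map w₀) := isOpenMor_of_repWith_etale hZ' w₀ hwe
  have hwsurj : Function.Surjective (Points.map w₀) :=
    Groth.Agent.Helper4.AlgSpPts.isSurjectiveMor_of_repWith w₀ hws
  let φ : ↥W₀.left → Points ((yon S).obj Z) := fun t => Points.ofPt (w₀ ≫ b) t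
  have hφ : φ = Points.map b ∘ Points.map w₀ ∘ Points.schemeHomeo W₀ := by
    funext t
    simp only [φ, Function.comp_apply]
    rw [ofPt_eq_map_schemeHomeo, Points.map_ofPt]
  have hφo : IsOpenMap φ := by
    rw [hφ]
    exact hbo.comp (hwo.comp (Points.schemeHomeo W₀).isOpenMap)
  have hφs : Function.Surjective φ := by
    rw [hφ]
    exact hbs.comp (hwsurj.comp (Points.schemeHomeo W₀).surjective)
  have hcZ : CompactSpace (Points ((yon S).obj Z)) := (Points.schemeHomeo Z).compactSpace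
  let O : W₀.left.affineOpens → Set (Points ((yon S).obj Z)) := fun W => φ '' (W.1 : Set ↥W₀.left)
  have hO : ∀ W, IsOpen (O W) := fun W => hφo _ W.1.2
  have hcov : (Set.univ : Set (Points ((yon S).obj Z))) ⊆ ⋃ W, O W := by
    intro y _
    obtain ⟨t, rfl⟩ := hφs y
    have : t ∈ (⊤ : W₀.left.Opens) := trivial
    rw [← iSup_affineOpens_eq_top W₀.left] at this
    obtain ⟨W, hW⟩ := TopologicalSpace.Opens.mem_iSup.1 this
    exact Set.mem_iUnion.2 ⟨W, t, hW, rfl⟩
  obtain ⟨I, hI⟩ := isCompact_univ.elim_finite_subcover O hO hcov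
  let V' : W₀.left.Opens := ⨆ W ∈ I, W.1
  have hV'c : IsCompact (V' : Set ↥W₀.left) := by
    have : (V' : Set ↥W₀.left) = ⋃ W ∈ I, (W.1 : Set ↥W₀.left) := by
      simp [V']
    rw [this]
    exact I.isCompact_biUnion (fun W _ => W.2.isCompact)
  have hV'cs : CompactSpace ↥(opOver W₀ V').left := isCompact_iff_compactSpace.1 hV'c
  have hv'e : RepWith @Etale ((yon S).map (opι W₀ V') ≫ w₀) :=
    Groth.Agent.Helper4.AlgSpSrc.repWith_comp _
      ((repWith_yon_map_iff _ _).2 (by
        show Etale V'.ι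
        infer_instance)) hwe
  refine ⟨opOver W₀ V', (yon S).map (opι W₀ V') ≫ w₀, hV'cs, hv'e, ?_⟩
  intro y
  obtain ⟨W, hW⟩ := Set.mem_iUnion.1 (hI (Set.mem_univ y))
  obtain ⟨hWI, t, ht, rfl⟩ := Set.mem_iUnion.1 hW
  have hmem : t ∈ V' := by
    apply TopologicalSpace.Opens.mem_iSup.2
    refine ⟨W, ?_⟩
    apply TopologicalSpace.Opens.mem_iSup.2
    exact ⟨hWI, ht⟩
  refine ⟨Points.schemeHomeo _ (⟨t, hmem⟩ : ↥V'), ?_⟩
  rw [ofPt_eq_map_schemeHomeo, Category.assoc, ofPt_yon_map_comp]
  rfl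

/-- Quasi-compactness descends along a universally open surjective base change. -/
theorem isQuasiCompactMor_descend {X Y Y' X' : Sp S} (hX : IsAlgSpace X) (hY : IsAlgSpace Y)
    (hY' : IsAlgSpace Y')
    (f : X ⟶ Y) (g : Y' ⟶ Y) (fst : X' ⟶ X) (f' : X' ⟶ Y') (sq : IsPullback fst f' f g)
    (hg : IsUnivOpenMor g) (hgs : IsSurjectiveMor g) (hf' : IsQuasiCompactMor f') :
    IsQuasiCompactMor f := by
  rw [Groth.Agent.Helper4.AlgSpQC.isQuasiCompactMor_iff_affine]
  intro Z hZaff k P a b sqP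
  have : IsAffine Z.left := hZaff
  have hZ'pb : IsPullback (pullback.fst k g) (pullback.snd k g) k g := IsPullback.of_hasPullback _ _
  have hZ' : IsAlgSpace (pullback k g) :=
    Groth.Agent.Helper4.AlgSpPB.isAlgSpace_of_isPullback hY.diag (IsAlgSpace.yon_obj Z) hY' _ _ _ _
      hZ'pb
  have hp1o : IsOpenMap (Points.map (pullback.fst k g)) :=
    hg (IsAlgSpace.yon_obj Z) k _ _ hZ'pb.flip
  have hp1s : Function.Surjective (Points.map (pullback.fst k g)) :=
    Groth.Agent.Helper4.AlgSpPts.isSurjectiveMor_of_isPullback hZ'pb.flip hgs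
  obtain ⟨W, w, hWc, hwe, hws⟩ :=
    exists_compact_chart_of_open_surjective hZ' Z (pullback.fst k g) hp1o hp1s
  have hP'pb : IsPullback (pullback.fst b (w ≫ pullback.fst k g))
      (pullback.snd b (w ≫ pullback.fst k g)) b (w ≫ pullback.fst k g) :=
    IsPullback.of_hasPullback _ _
  have hq1s : IsSurjectiveMor (pullback.fst b (w ≫ pullback.fst k g)) :=
    Groth.Agent.Helper4.AlgSpPts.isSurjectiveMor_of_isPullback hP'pb.flip hws
  have hbig : IsPullback (pullback.fst b (w ≫ pullback.fst k g) ≫ a)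
      (pullback.snd b (w ≫ pullback.fst k g)) f ((w ≫ pullback.fst k g) ≫ k) :=
    hP'pb.paste_horiz sqP
  have hk : (w ≫ pullback.fst k g) ≫ k = (w ≫ pullback.snd k g) ≫ g := by
    rw [Category.assoc, Category.assoc, hZ'pb.w]
  rw [hk] at hbig
  have hcomm : (pullback.fst b (w ≫ pullback.fst k g) ≫ a) ≫ f =
      (pullback.snd b (w ≫ pullback.fst k g) ≫ (w ≫ pullback.snd k g)) ≫ g := by
    rw [hbig.w]; simp only [Category.assoc]
  have hbig' : IsPullback (sq.lift _ _ hcomm ≫ fst)
      (pullback.snd b (w ≫ pullback.fst k g)) f ((w ≫ pullback.snd k g) ≫ g) := by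
    rw [sq.lift_fst]; exact hbig
  have hsm : IsPullback (sq.lift _ _ hcomm) (pullback.snd b (w ≫ pullback.fst k g)) f'
      (w ≫ pullback.snd k g) :=
    IsPullback.of_right hbig' (sq.lift_snd _ _ hcomm) sq
  have hP'qc : IsQuasiCompactSp (pullback b (w ≫ pullback.fst k g)) :=
    hf' (IsAlgSpace.yon_obj W) (isQuasiCompactSp_yon W) _ _ _ hsm
  have hP : IsAlgSpace P :=
    Groth.Agent.Helper4.AlgSpPB.isAlgSpace_of_isPullback hY.diag hX (IsAlgSpace.yon_obj Z) _ _ _ _
      sqP
  exact isQuasiCompactSp_of_surjective hP _ hq1s hP'qc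

/-- The space of points of a quasi-compact sheaf is compact. -/
theorem compactSpace_points_of_isQuasiCompactSp {P : Sp S} (hP : IsQuasiCompactSp P) :
    CompactSpace (Points P) := by
  obtain ⟨T, r, hre, hrs, hTc⟩ := hP
  have hTc' : CompactSpace T.left := hTc
  have hsurj : Function.Surjective (Points.map r) :=
    Groth.Agent.Helper4.AlgSpPts.isSurjectiveMor_of_repWith r hrs
  have : (Set.univ : Set (Points P)) = Set.range (Points.map r ∘ Points.schemeHomeo T) := by
    rw [Set.range_comp, (Points.schemeHomeo T).surjective.range_eq, Set.image_univ,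
      hsurj.range_eq]
  refine ⟨?_⟩
  rw [this]
  exact isCompact_range ((Points.continuous_map r).comp (Points.schemeHomeo T).continuous)

/-- A quasi-compact morphism pulls back quasi-compact opens to quasi-compact subsets. -/
theorem isCompact_preimage_of_isQuasiCompactMor {X Y : Sp S} (hY : IsAlgSpace Y) (f : X ⟶ Y)
    (hf : IsQuasiCompactMor f) (V : Set (Points Y)) (hV : IsOpen V) (hVc : IsCompact V) :
    IsCompact (Points.map f ⁻¹' V) := by
  obtain ⟨W, v, hve, hvs⟩ := hY.atlas
  have hvo : IsOpenMap (Points.map v) := isOpenMor_of_repWith_etale hY v hve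
  have hvsurj : Function.Surjective (Points.map v) :=
    Groth.Agent.Helper4.AlgSpPts.isSurjectiveMor_of_repWith v hvs
  let φ : ↥W.left → Points Y := fun t => Points.ofPt v t
  have hφ : φ = Points.map v ∘ Points.schemeHomeo W := by
    funext t
    simp only [φ, Function.comp_apply]
    rw [ofPt_eq_map_schemeHomeo]
  have hφo : IsOpenMap φ := by
    rw [hφ]
    exact hvo.comp (Points.schemeHomeo W).isOpenMap
  have hφs : Function.Surjective φ := by
    rw [hφ]
    exact hvsurj.comp (Points.schemeHomeo W).surjective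
  have hφc : Continuous φ := Points.continuous_ofPt v
  let A : W.left.Opens := ⟨φ ⁻¹' V, hV.preimage hφc⟩
  let ι : {U : W.left.affineOpens // U.1 ≤ A} → Set (Points Y) :=
    fun U => φ '' (U.1.1 : Set ↥W.left)
  have hO : ∀ U, IsOpen (ι U) := fun U => hφo _ U.1.1.2
  have hcov : V ⊆ ⋃ U, ι U := by
    intro y hy
    obtain ⟨t, rfl⟩ := hφs y
    have htA : t ∈ A := hy
    obtain ⟨U, hU, htU, hUA⟩ :=
      (TopologicalSpace.Opens.isBasis_iff_nbhd.1 W.left.isBasis_affineOpens) htA
    exact Set.mem_iUnion.2 ⟨⟨⟨U, hU⟩, hUA⟩, t, htU, rfl⟩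
  obtain ⟨I, hI⟩ := hVc.elim_finite_subcover ι hO hcov
  let V' : W.left.Opens := ⨆ U ∈ I, U.1.1
  have hV'c : IsCompact (V' : Set ↥W.left) := by
    have : (V' : Set ↥W.left) = ⋃ U ∈ I, (U.1.1 : Set ↥W.left) := by
      simp [V']
    rw [this]
    exact I.isCompact_biUnion (fun U _ => U.1.2.isCompact)
  have hV'A : V' ≤ A := by
    apply iSup_le
    intro U
    apply iSup_le
    intro _
    exact U.2
  have hV'cs : CompactSpace ↥(opOver W V').left := isCompact_iff_compactSpace.1 hV'c
  have hpb : IsPullback (pullback.fst f ((yon S).map (opι W V') ≫ v))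
      (pullback.snd f ((yon S).map (opι W V') ≫ v)) f ((yon S).map (opι W V') ≫ v) :=
    IsPullback.of_hasPullback _ _
  have hPqc : IsQuasiCompactSp (pullback f ((yon S).map (opι W V') ≫ v)) :=
    hf (IsAlgSpace.yon_obj _) (isQuasiCompactSp_yon _) _ _ _ hpb
  have hPc := compactSpace_points_of_isQuasiCompactSp hPqc
  have himg : Points.map f ⁻¹' V =
      Set.range (Points.map (pullback.fst f ((yon S).map (opι W V') ≫ v))) := by
    ext x
    constructor
    · intro hx
      obtain ⟨U, hU⟩ := Set.mem_iUnion.1 (hI hx)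
      obtain ⟨hUI, t, ht, htx⟩ := Set.mem_iUnion.1 hU
      have hmem : t ∈ V' := by
        apply TopologicalSpace.Opens.mem_iSup.2
        refine ⟨U, ?_⟩
        apply TopologicalSpace.Opens.mem_iSup.2
        exact ⟨hUI, ht⟩
      have h1 : Points.map f x = Points.map ((yon S).map (opι W V') ≫ v)
          (Points.schemeHomeo _ (⟨t, hmem⟩ : ↥V')) := by
        rw [ofPt_eq_map_schemeHomeo, ofPt_yon_map_comp]
        exact htx.symm
      obtain ⟨p, hp1, -⟩ := exists_point_of_isPullback hpb x _ h1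
      exact ⟨p, hp1⟩
    · rintro ⟨p, rfl⟩
      show Points.map f (Points.map _ p) ∈ V
      rw [← Points.map_comp, hpb.w, Points.map_comp]
      obtain ⟨s, hs⟩ := (Points.schemeHomeo _).surjective
        (Points.map (pullback.snd f ((yon S).map (opι W V') ≫ v)) p)
      rw [← hs, ofPt_eq_map_schemeHomeo, ofPt_yon_map_comp]
      exact hV'A s.2
  rw [himg]
  exact isCompact_range (Points.continuous_map _)

end Groth.Agent.Helper4.AlgSpQC2
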