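import Groth.Prelude.Def_AlgSp3
import Mathlib

set_option autoImplicit false
universe u
open CategoryTheory CategoryTheory.Limits AlgebraicGeometry Opposite

namespace Groth.Agent.Helper4.AlgSpLocP

open AlgSp

variable {S : Scheme.{u}}

/-- Cancellation: if `a : h_U ⟶ X` and `w : h_W ⟶ X` are representable étale and `g : U ⟶ W`
satisfies `h_g ≫ w = a`, then `g` is étale. -/
theorem etale_of_comp {X : Sp S} {U W : Over S} (a : (yon S).obj U ⟶ X) (w : (yon S).obj W ⟶ X)
    (g : U ⟶ W) (ha : RepWith @Etale a) (hw : RepWith @Etale w) (hg : (yon S).map g ≫ w = a) :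
    Etale g.left := by
  -- T = h_W ×_X h_U
  have hw' := hw.rep
  let T := hw'.pullback a
  let t : T ⟶ W := hw'.fst' a
  let s : T ⟶ U := hw'.snd a
  have hpb : IsPullback ((yon S).map t) ((yon S).map s) w a := hw'.isPullback' a
  have hs : Etale s.left := hw.property a _ _ hpb
  have ht : Etale t.left := ha.property w _ _ hpb.flip
  let σ : U ⟶ T := hw'.lift' g (𝟙 U) (by simpa using hg)
  have hσ1 : σ ≫ t = g := hw'.lift'_fst _ _ _
  have hσ2 : σ ≫ s = 𝟙 U := hw'.lift'_snd _ _ _
  have hσ : Etale σ.left := by
    refine MorphismProperty.of_postcomp (W := @Etale) (W' := @Etale) σ.left s.left hs ?_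
    have : σ.left ≫ s.left = 𝟙 U.left := by
      rw [← Over.comp_left, hσ2]; rfl
    rw [this]
    infer_instance
  have : g.left = σ.left ≫ t.left := by rw [← Over.comp_left, hσ1]
  rw [this]
  infer_instance

/-- If `f` is representable with property `Q`, and `P` contains `Q`, étale morphisms, and is
stable under composition, then `f` has `P` étale-locally on source and target. -/
theorem locP_of_repWith (P Q : MorphismProperty Scheme.{u}) [P.IsStableUnderComposition]
    (hQP : ∀ {A B : Scheme.{u}} (g : A ⟶ B), Q g → P g)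
    (hEP : ∀ {A B : Scheme.{u}} (g : A ⟶ B), Etale g → P g)
    {X Y : Sp S} (f : X ⟶ Y) (hf : RepWith Q f) : LocP P f := by
  intro U V a b h ha hb comm
  have hf' := hf.rep
  -- W = h_V ×_Y X
  let W := hf'.pullback b
  let w : (yon S).obj W ⟶ X := hf'.fst b
  let q : W ⟶ V := hf'.snd b
  have hpb : IsPullback w ((yon S).map q) f b := hf'.isPullback b
  have hq : Q q.left := hf.property b _ _ hpb
  have inst : (RepWith (S := S) @Etale).IsStableUnderBaseChange :=
    repWith_isStableUnderBaseChange (S := S) @Etale
  have hw : RepWith @Etale w := MorphismProperty.of_isPullback hpb.flip hb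
  let g : U ⟶ W := hf'.lift a h comm
  have hg1 : (yon S).map g ≫ w = a := hf'.lift_fst _ _ _
  have hg2 : g ≫ q = h := hf'.lift_snd _ _ _
  have hge : Etale g.left := etale_of_comp a w g ha hw hg1
  have : h.left = g.left ≫ q.left := by rw [← Over.comp_left, hg2]
  rw [this]
  exact P.comp_mem _ _ (hEP _ hge) (hQP _ hq)

end Groth.Agent.Helper4.AlgSpLocP
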