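import Groth.Prelude.Def_AlgSp4
import Groth.Agent.Helper4.AlgSpSrc
import Mathlib

set_option autoImplicit false
universe u
open CategoryTheory CategoryTheory.Limits AlgebraicGeometry Opposite MorphismProperty

namespace Groth.Agent.Helper4.AlgSpLocP2

open AlgSp

variable {S : Scheme.{u}}

/-- Data of the base change of a chart diagram along a representable étale surjective
`p : h_{V₀} ⟶ Y`. -/
theorem chart_base_change {X Y : Sp S} (f : X ⟶ Y) {V₀ : Over S} (p : (yon S).obj V₀ ⟶ Y)
    (hp : RepWith @Etale p) (hps : RepWith @Surjective p)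
    {U V : Over S} (a : (yon S).obj U ⟶ X) (b : (yon S).obj V ⟶ Y) (h : U ⟶ V)
    (comm : a ≫ f = (yon S).map h ≫ b) :
    ∃ (U' V' : Over S) (e : V' ⟶ V) (d : V' ⟶ V₀) (pfst : U' ⟶ U) (psnd : U' ⟶ V'),
      Etale e.left ∧ Surjective e.left ∧
      IsPullback ((yon S).map d) ((yon S).map e) p b ∧
      IsPullback psnd.left pfst.left e.left h.left ∧
      IsPullback ((yon S).map psnd) ((yon S).map pfst) ((yon S).map e) ((yon S).map h) ∧
      IsPullback ((yon S).map psnd ≫ (yon S).map d) ((yon S).map pfst) p (a ≫ f) := by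
  have hr := hp.rep
  have hpb : IsPullback (hr.fst b) ((yon S).map (hr.snd b)) p b := hr.isPullback b
  obtain ⟨d, hd⟩ := (yon S).map_surjective (hr.fst b)
  rw [← hd] at hpb
  have hee : Etale (hr.snd b).left := hp.property _ _ _ hpb
  have hes : Surjective (hr.snd b).left := hps.property _ _ _ hpb
  generalize hr.snd b = e at hpb hee hes
  have hU' : IsPullback (pullback.fst h e) (pullback.snd h e) h e := IsPullback.of_hasPullback _ _
  have h1 : IsPullback (pullback.snd h e).left (pullback.fst h e).left e.left h.left :=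
    hU'.flip.map (Over.forget S)
  have h2 : IsPullback ((yon S).map (pullback.snd h e)) ((yon S).map (pullback.fst h e))
      ((yon S).map e) ((yon S).map h) := hU'.flip.map (yon S)
  refine ⟨_, _, e, d, pullback.fst h e, pullback.snd h e, hee, hes, hpb, h1, h2, ?_⟩
  rw [comm]
  exact h2.paste_horiz hpb

/-- `LocP P` descends along a surjective étale base change from a scheme, for `P` satisfying
fppf descent on the target. -/
theorem locP_of_target_cover (P : MorphismProperty Scheme.{u})
    [P.DescendsAlong (@Surjective ⊓ @Flat ⊓ @LocallyOfFinitePresentation)]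
    {X Y : Sp S} (f : X ⟶ Y) {V₀ : Over S} (p : (yon S).obj V₀ ⟶ Y)
    (hp : RepWith @Etale p) (hps : RepWith @Surjective p)
    {P₀ : Sp S} (fst : P₀ ⟶ X) (snd : P₀ ⟶ (yon S).obj V₀) (sq : IsPullback fst snd f p)
    (hl : LocP P snd) : LocP P f := by
  intro U V a b h ha hb comm
  obtain ⟨U', V', e, d, pfst, psnd, hee, hes, hpb, h1, h2, hbig⟩ :=
    chart_base_change f p hp hps a b h comm
  have hde : Etale d.left := hb.property _ _ _ hpb.flip
  have hcomm : ((yon S).map pfst ≫ a) ≫ f = ((yon S).map psnd ≫ (yon S).map d) ≫ p := by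
    rw [Category.assoc]; exact hbig.w.symm
  have hbig' : IsPullback (sq.lift _ _ hcomm ≫ snd) ((yon S).map pfst) p (a ≫ f) := by
    rw [sq.lift_snd]; exact hbig
  have hm : IsPullback (sq.lift _ _ hcomm) ((yon S).map pfst) fst a :=
    IsPullback.of_right hbig' (sq.lift_fst _ _ hcomm) sq.flip
  have i1 := repWith_isStableUnderBaseChange (S := S) @Etale
  have hme : RepWith @Etale (sq.lift _ _ hcomm) := MorphismProperty.of_isPullback hm.flip ha
  have hPs : P psnd.left :=
    hl (sq.lift _ _ hcomm) ((yon S).map d) psnd hme ((repWith_yon_map_iff _ _).2 hde)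
      (sq.lift_snd _ _ hcomm)
  exact of_isPullback_of_descendsAlong (P := P)
    (Q := (@Surjective ⊓ @Flat ⊓ @LocallyOfFinitePresentation)) h1
    ⟨⟨hes, inferInstance⟩, inferInstance⟩ hPs

/-- A chart diagram for `f` built from an étale surjective chart of the source and an
étale surjective chart of the target. -/
theorem exists_chart {X Y : Sp S} (f : X ⟶ Y) {U V : Over S} (u : (yon S).obj U ⟶ X)
    (hue : RepWith @Etale u) (hus : RepWith @Surjective u) (v : (yon S).obj V ⟶ Y)
    (hve : RepWith @Etale v) (hvs : RepWith @Surjective v) :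
    ∃ (E : Over S) (e : E ⟶ U) (c : E ⟶ V), Etale e.left ∧ Surjective e.left ∧
      RepWith @Etale ((yon S).map e ≫ u) ∧ RepWith @Surjective ((yon S).map e ≫ u) ∧
      ((yon S).map e ≫ u) ≫ f = (yon S).map c ≫ v ∧
      IsPullback ((yon S).map c) ((yon S).map e) v (u ≫ f) := by
  have hr := hve.rep
  have hpb : IsPullback (hr.fst (u ≫ f)) ((yon S).map (hr.snd (u ≫ f))) v (u ≫ f) :=
    hr.isPullback _
  obtain ⟨c, hc⟩ := (yon S).map_surjective (hr.fst (u ≫ f))
  rw [← hc] at hpb
  have hee : Etale (hr.snd (u ≫ f)).left := hve.property _ _ _ hpb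
  have hes : Surjective (hr.snd (u ≫ f)).left := hvs.property _ _ _ hpb
  generalize hr.snd (u ≫ f) = e at hpb hee hes
  refine ⟨_, e, c, hee, hes,
    Groth.Agent.Helper4.AlgSpSrc.repWith_comp _ ((repWith_yon_map_iff _ _).2 hee) hue,
    Groth.Agent.Helper4.AlgSpSrc.repWith_comp _ ((repWith_yon_map_iff _ _).2 hes) hus, ?_, hpb⟩
  rw [Category.assoc]; exact hpb.w.symm

end Groth.Agent.Helper4.AlgSpLocP2
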