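import Mathlib

set_option autoImplicit false
universe u
open TensorProduct AlgebraicGeometry CategoryTheory CategoryTheory.Limits

namespace Groth.Agent.Helper4.EtaleSD

/-- The image of `Spec (S ⊗[R] T) → Spec S` is the preimage of the image of `Spec T → Spec R`. -/
theorem range_comap_tensorProduct (R S T : Type u) [CommRing R] [CommRing S] [CommRing T]
    [Algebra R S] [Algebra R T] :
    Set.range (PrimeSpectrum.comap (algebraMap S (S ⊗[R] T))) =
      PrimeSpectrum.comap (algebraMap R S) ⁻¹' Set.range (PrimeSpectrum.comap (algebraMap R T)) := by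
  have h := Scheme.Pullback.range_fst (Spec.map (CommRingCat.ofHom (algebraMap R S)))
    (Spec.map (CommRingCat.ofHom (algebraMap R T)))
  have h2 := pullbackSpecIso_inv_fst' R S T
  have h3 : Set.range (Spec.map (CommRingCat.ofHom (algebraMap S (S ⊗[R] T)))) =
      Set.range (pullback.fst (Spec.map (CommRingCat.ofHom (algebraMap R S)))
        (Spec.map (CommRingCat.ofHom (algebraMap R T)))) := by
    rw [← h2]
    simp only [Scheme.Hom.comp_base, TopCat.hom_comp, ContinuousMap.coe_comp]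
    rw [Set.range_comp, Set.range_eq_univ.2, Set.image_univ]
    exact (pullbackSpecIso R S T).inv.homeomorph.surjective
  rw [h] at h3
  exact h3

/-- Enlarging a finitely generated subalgebra so that the base change of a flat finitely
presented algebra becomes faithfully flat. -/
theorem exists_fg_subalgebra_faithfullyFlat
    (A₀ A C₀ : Type u) [CommRing A₀] [CommRing A] [CommRing C₀] [Algebra A₀ A] [Algebra A₀ C₀]
    [Module.Flat A₀ C₀] [Algebra.FinitePresentation A₀ C₀]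
    (hsurj : Function.Surjective (PrimeSpectrum.comap (algebraMap A (A ⊗[A₀] C₀))))
    (A' : Subalgebra A₀ A) (hA' : A'.FG) :
    ∃ A₁ : Subalgebra A₀ A, A' ≤ A₁ ∧ A₁.FG ∧ Module.FaithfullyFlat A₁ (A₁ ⊗[A₀] C₀) := by
  classical
  set D : Set (PrimeSpectrum A₀) := Set.range (PrimeSpectrum.comap (algebraMap A₀ C₀)) with hD
  have hDo : IsOpen D :=
    (PrimeSpectrum.isOpenMap_comap_of_hasGoingDown_of_finitePresentation (R := A₀) (S := C₀)).isOpen_range
  have hAD : ∀ 𝔭 : PrimeSpectrum A, PrimeSpectrum.comap (algebraMap A₀ A) 𝔭 ∈ D := by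
    intro 𝔭
    have : 𝔭 ∈ Set.range (PrimeSpectrum.comap (algebraMap A (A ⊗[A₀] C₀))) := hsurj 𝔭
    rw [range_comap_tensorProduct] at this
    exact this
  set J : Ideal A₀ := PrimeSpectrum.vanishingIdeal Dᶜ with hJ
  have hzl : PrimeSpectrum.zeroLocus (J : Set A₀) = Dᶜ := by
    rw [hJ, PrimeSpectrum.zeroLocus_vanishingIdeal_eq_closure, hDo.isClosed_compl.closure_eq]
  have hJtop : J.map (algebraMap A₀ A) = ⊤ := by
    by_contra hne
    obtain ⟨𝔪, h𝔪, hle⟩ := Ideal.exists_le_maximal _ hne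
    have h1 := hAD ⟨𝔪, h𝔪.isPrime⟩
    have h2 : PrimeSpectrum.comap (algebraMap A₀ A) ⟨𝔪, h𝔪.isPrime⟩ ∈
        PrimeSpectrum.zeroLocus (J : Set A₀) := by
      rw [PrimeSpectrum.mem_zeroLocus]
      exact Ideal.map_le_iff_le_comap.1 hle
    rw [hzl] at h2
    exact h2 h1
  -- extract finitely many coefficients
  have h1mem : (1 : A) ∈ Ideal.span ((algebraMap A₀ A) '' (J : Set A₀)) := by
    have : J.map (algebraMap A₀ A) = Ideal.span ((algebraMap A₀ A) '' (J : Set A₀)) := rfl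
    rw [← this, hJtop]
    trivial
  obtain ⟨c, t, hts, -, hsum⟩ := Submodule.mem_span_iff_exists_finset_subset.1 h1mem
  have hpre : ∀ a, a ∈ t → ∃ j, j ∈ J ∧ algebraMap A₀ A j = a := fun a ha => hts ha
  choose! j hj using hpre
  let A₁ : Subalgebra A₀ A := A' ⊔ Algebra.adjoin A₀ ((t.image c : Finset A) : Set A)
  have hA₁fg : A₁.FG := Subalgebra.FG.sup hA' (Subalgebra.fg_adjoin_finset _)
  have hcmem : ∀ a ∈ t, c a ∈ A₁ := fun a ha =>
    (le_sup_right : Algebra.adjoin A₀ ((t.image c : Finset A) : Set A) ≤ A₁)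
      (Algebra.subset_adjoin (Finset.mem_coe.2 (Finset.mem_image_of_mem c ha)))
  let c' : A → A₁ := fun a => if h : c a ∈ A₁ then ⟨c a, h⟩ else 0
  have hc' : ∀ a ∈ t, (c' a : A) = c a := fun a ha => by
    simp only [c', dif_pos (hcmem a ha)]
  have hx : (∑ a ∈ t, c' a * algebraMap A₀ A₁ (j a)) ∈ J.map (algebraMap A₀ A₁) :=
    Ideal.sum_mem _ fun a ha => Ideal.mul_mem_left _ _ (Ideal.mem_map_of_mem _ (hj a ha).1)
  have hx1 : (∑ a ∈ t, c' a * algebraMap A₀ A₁ (j a)) = 1 := by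
    apply Subtype.val_injective
    have : ((∑ a ∈ t, c' a * algebraMap A₀ A₁ (j a) : A₁) : A) =
        ∑ a ∈ t, (c' a : A) * algebraMap A₀ A (j a) := by
      rw [← Subalgebra.coe_val, map_sum]
      rfl
    rw [this]
    refine Eq.trans ?_ hsum
    refine Finset.sum_congr rfl fun a ha => ?_
    rw [hc' a ha, (hj a ha).2, smul_eq_mul]
  have hJtop₁ : J.map (algebraMap A₀ A₁) = ⊤ := by
    rw [Ideal.eq_top_iff_one, ← hx1]
    exact hx
  refine ⟨A₁, le_sup_left, hA₁fg, ?_⟩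
  apply Module.FaithfullyFlat.of_comap_surjective
  intro 𝔭
  have : 𝔭 ∈ Set.range (PrimeSpectrum.comap (algebraMap A₁ (A₁ ⊗[A₀] C₀))) := by
    rw [range_comap_tensorProduct]
    show PrimeSpectrum.comap (algebraMap A₀ A₁) 𝔭 ∈ D
    by_contra hnot
    have h2 : PrimeSpectrum.comap (algebraMap A₀ A₁) 𝔭 ∈ PrimeSpectrum.zeroLocus (J : Set A₀) := by
      rw [hzl]; exact hnot
    rw [PrimeSpectrum.mem_zeroLocus] at h2
    have h3 : J.map (algebraMap A₀ A₁) ≤ 𝔭.asIdeal := Ideal.map_le_iff_le_comap.2 h2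
    rw [hJtop₁] at h3
    exact 𝔭.isPrime.ne_top (top_le_iff.1 h3)
  exact this

set_option synthInstance.maxHeartbeats 400000 in
set_option maxHeartbeats 1000000 in
/-- Finite type descends along a faithfully flat étale map on the source side. -/
theorem finiteType_of_etale_faithfullyFlat (R B B' : Type u) [CommRing R] [CommRing B]
    [CommRing B'] [Algebra R B] [Algebra B B'] [Algebra R B'] [IsScalarTower R B B']
    [Algebra.Etale B B'] [Module.FaithfullyFlat B B'] [Algebra.FiniteType R B'] :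
    Algebra.FiniteType R B := by
  classical
  obtain ⟨B₀, B'₀, _, _, hB₀, hét, ⟨φ⟩⟩ := Algebra.Etale.exists_subalgebra_fg R B B'
  have hsurj : Function.Surjective (PrimeSpectrum.comap (algebraMap B (B ⊗[B₀] B'₀))) := by
    intro 𝔭
    obtain ⟨𝔮, h𝔮⟩ := PrimeSpectrum.comap_surjective_of_faithfullyFlat (A := B) (B := B') 𝔭
    refine ⟨PrimeSpectrum.comap φ.symm.toAlgHom.toRingHom 𝔮, ?_⟩
    rw [← h𝔮, ← PrimeSpectrum.comap_comp_apply]
    congr 1
    ext b
    exact φ.symm.commutes b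
  obtain ⟨s, hs⟩ := (Algebra.FiniteType.out : (⊤ : Subalgebra R B').FG)
  have hdec : ∀ x : B ⊗[B₀] B'₀, ∃ S : Finset (B × B'₀), x = S.sum fun i => i.1 ⊗ₜ[B₀] i.2 :=
    TensorProduct.exists_finset
  choose Sx hSx using hdec
  let G : Finset B := s.biUnion fun b' => (Sx (φ b')).image Prod.fst
  let A' : Subalgebra B₀ B := Algebra.adjoin B₀ (G : Set B)
  obtain ⟨A₁, hA'le, hA₁fg, hff⟩ := exists_fg_subalgebra_faithfullyFlat B₀ B B'₀ hsurj A'
    (Subalgebra.fg_adjoin_finset _)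
  let ι₁ : A₁ ⊗[B₀] B'₀ →ₐ[B₀] B ⊗[B₀] B'₀ :=
    Algebra.TensorProduct.map A₁.val (AlgHom.id B₀ B'₀)
  have hι₁ : Function.Surjective ι₁ := by
    have hmem : ∀ b' ∈ s, φ b' ∈ ι₁.range := by
      intro b' hb'
      rw [hSx (φ b')]
      refine Subalgebra.sum_mem _ fun i hi => ?_
      have hi1 : i.1 ∈ A₁ := hA'le (Algebra.subset_adjoin (Finset.mem_coe.2
        (Finset.mem_biUnion.2 ⟨b', hb', Finset.mem_image_of_mem _ hi⟩)))
      refine ⟨(⟨i.1, hi1⟩ : A₁) ⊗ₜ i.2, ?_⟩
      show (Algebra.TensorProduct.map A₁.val (AlgHom.id B₀ B'₀)) _ = _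
      rw [Algebra.TensorProduct.map_tmul]
      rfl
    have htop : (⊤ : Subalgebra R (B ⊗[B₀] B'₀)) ≤ ι₁.range.restrictScalars R := by
      have h1 : (⊤ : Subalgebra R (B ⊗[B₀] B'₀)) =
          (⊤ : Subalgebra R B').map (φ.restrictScalars R).toAlgHom := by
        rw [Algebra.map_top]
        exact ((AlgHom.range_eq_top _).2 (φ.restrictScalars R).surjective).symm
      rw [h1, ← hs, AlgHom.map_adjoin]
      apply Algebra.adjoin_le
      rintro _ ⟨b', hb', rfl⟩
      exact hmem b' hb'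
    intro x
    exact htop (Algebra.mem_top : x ∈ ⊤)
  have hval : Function.Surjective (algebraMap A₁ B) := by
    apply Module.FaithfullyFlat.surjective_of_tensorProduct (R := A₁) (S := A₁ ⊗[B₀] B'₀) (T := B)
    let ψ' : (A₁ ⊗[B₀] B'₀) ⊗[A₁] B ≃ₐ[A₁] B ⊗[B₀] B'₀ :=
      (Algebra.TensorProduct.comm A₁ (A₁ ⊗[B₀] B'₀) B).trans
        (Algebra.TensorProduct.cancelBaseChange B₀ A₁ A₁ B B'₀)
    have key : ∀ c₁ : A₁ ⊗[B₀] B'₀, ψ' (c₁ ⊗ₜ 1) = ι₁ c₁ := by
      intro c₁
      induction c₁ using TensorProduct.induction_on with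
      | zero => rw [TensorProduct.zero_tmul, map_zero, map_zero]
      | tmul a c =>
        show (Algebra.TensorProduct.cancelBaseChange B₀ A₁ A₁ B B'₀)
          ((Algebra.TensorProduct.comm A₁ (A₁ ⊗[B₀] B'₀) B) ((a ⊗ₜ[B₀] c) ⊗ₜ[A₁] (1 : B))) = _
        rw [Algebra.TensorProduct.comm_tmul, Algebra.TensorProduct.cancelBaseChange_tmul]
        show _ = (Algebra.TensorProduct.map A₁.val (AlgHom.id B₀ B'₀)) (a ⊗ₜ[B₀] c)
        rw [Algebra.TensorProduct.map_tmul]
        simp [Algebra.smul_def]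
      | add x y hx hy => rw [TensorProduct.add_tmul, map_add, map_add, hx, hy]
    intro y
    obtain ⟨c₁, hc₁⟩ := hι₁ (ψ' y)
    refine ⟨c₁, ?_⟩
    apply ψ'.injective
    rw [← hc₁, ← key]
    rfl
  have hA₁top : A₁ = ⊤ := by
    rw [eq_top_iff]
    intro b _
    obtain ⟨a, rfl⟩ := hval b
    exact a.2
  have hft : Algebra.FiniteType B₀ B := ⟨hA₁top ▸ hA₁fg⟩
  have hft₀ : Algebra.FiniteType R B₀ := (Subalgebra.fg_iff_finiteType B₀).1 hB₀
  exact Algebra.FiniteType.trans hft₀ hft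

end Groth.Agent.Helper4.EtaleSD
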