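import Mathlib
import Groth.Agent.Helper4.EtaleSD
import Groth.Agent.Helper4.EtaleLift

/-! Finite presentation descends along étale faithfully flat maps on the source. -/

namespace Groth.Agent.Helper4.EtaleSD2

open TensorProduct

universe u

/-- If `B₁` is flat and finitely presented over `A₁`, `J` is an ideal of `A₁` whose extension to
`B₁` is finitely generated, and every prime containing `J` is in the image of `Spec B₁`, then `J` is
finitely generated. -/
theorem ideal_fg_of_flat_cover {A₁ B₁ : Type u} [CommRing A₁] [CommRing B₁] [Algebra A₁ B₁]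
    [Module.Flat A₁ B₁] [Algebra.FinitePresentation A₁ B₁] (J : Ideal A₁)
    (hfg : (J.map (algebraMap A₁ B₁)).FG)
    (hrange : ∀ 𝔭 : PrimeSpectrum A₁, J ≤ 𝔭.asIdeal →
      𝔭 ∈ Set.range (PrimeSpectrum.comap (algebraMap A₁ B₁))) :
    J.FG := by
  classical
  -- Step 1: a f.g. subideal with the same extension
  obtain ⟨J₁, hJ₁fg, hJ₁J, hJ₁map⟩ : ∃ J₁ : Ideal A₁, J₁.FG ∧ J₁ ≤ J ∧
      J.map (algebraMap A₁ B₁) ≤ J₁.map (algebraMap A₁ B₁) := by
    rw [Ideal.map, Ideal.span] at hfg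
    obtain ⟨s', hs', hspan⟩ := (Submodule.fg_span_iff_fg_span_finset_subset _).mp hfg
    choose x hxJ hx using fun y : s' => hs' y.2
    refine ⟨Ideal.span (Set.range x), ?_, ?_, ?_⟩
    · exact ⟨Finset.univ.image x, by simp⟩
    · rw [Ideal.span_le]
      rintro _ ⟨y, rfl⟩
      exact hxJ y
    · rw [Ideal.map, Ideal.span, hspan, Submodule.span_le]
      intro y hy
      have : y = algebraMap A₁ B₁ (x ⟨y, hy⟩) := (hx ⟨y, hy⟩).symm
      rw [this]
      exact Ideal.mem_map_of_mem _ (Ideal.subset_span ⟨_, rfl⟩)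
  -- Step 2: the open image
  set U : Set (PrimeSpectrum A₁) := Set.range (PrimeSpectrum.comap (algebraMap A₁ B₁)) with hU
  have hUo : IsOpen U :=
    (PrimeSpectrum.isOpenMap_comap_of_hasGoingDown_of_finitePresentation
      (R := A₁) (S := B₁)).isOpen_range
  set K : Ideal A₁ := PrimeSpectrum.vanishingIdeal Uᶜ with hK
  have hKz : PrimeSpectrum.zeroLocus (K : Set A₁) = Uᶜ := by
    rw [hK, PrimeSpectrum.zeroLocus_vanishingIdeal_eq_closure, hUo.isClosed_compl.closure_eq]
  have htop : K ⊔ J = ⊤ := by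
    by_contra hne
    obtain ⟨𝔪, h𝔪, hle⟩ := Ideal.exists_le_maximal _ hne
    have h1 : (⟨𝔪, h𝔪.isPrime⟩ : PrimeSpectrum A₁) ∈ U := hrange _ (le_sup_right.trans hle)
    have h2 : (⟨𝔪, h𝔪.isPrime⟩ : PrimeSpectrum A₁) ∈ Uᶜ := by
      rw [← hKz, PrimeSpectrum.mem_zeroLocus]
      exact fun a ha => hle (Ideal.mem_sup_left ha)
    exact h2 h1
  obtain ⟨k, hk, i, hi, hki⟩ := Submodule.mem_sup.mp (htop ▸ Submodule.mem_top : (1 : A₁) ∈ K ⊔ J)
  -- Step 3
  set J₂ : Ideal A₁ := J₁ ⊔ Ideal.span {i} with hJ₂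
  have hJ₂fg : J₂.FG := Submodule.FG.sup hJ₁fg (Submodule.fg_span_singleton i)
  have hJ₂J : J₂ ≤ J := sup_le hJ₁J ((Ideal.span_singleton_le_iff_mem _).mpr hi)
  have hiJ₂ : i ∈ J₂ := Ideal.mem_sup_right (Ideal.mem_span_singleton_self i)
  suffices hle : J ≤ J₂ by
    rw [le_antisymm hle hJ₂J]
    exact hJ₂fg
  haveI : Module.FaithfullyFlat (A₁ ⧸ J₂) ((A₁ ⧸ J₂) ⊗[A₁] B₁) := by
    apply Module.FaithfullyFlat.of_comap_surjective
    intro 𝔭₃
    have hr := EtaleSD.range_comap_tensorProduct A₁ (A₁ ⧸ J₂) B₁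
    rw [← Set.mem_range, hr, Set.mem_preimage]
    by_contra hnot
    have h2 : PrimeSpectrum.comap (algebraMap A₁ (A₁ ⧸ J₂)) 𝔭₃ ∈ Uᶜ := hnot
    rw [← hKz, PrimeSpectrum.mem_zeroLocus] at h2
    have hk' : k ∈ (PrimeSpectrum.comap (algebraMap A₁ (A₁ ⧸ J₂)) 𝔭₃).asIdeal := h2 hk
    have hi' : i ∈ (PrimeSpectrum.comap (algebraMap A₁ (A₁ ⧸ J₂)) 𝔭₃).asIdeal := by
      simp only [PrimeSpectrum.comap_asIdeal, Ideal.mem_comap]
      have : algebraMap A₁ (A₁ ⧸ J₂) i = 0 := Ideal.Quotient.eq_zero_iff_mem.mpr hiJ₂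
      rw [this]
      exact Ideal.zero_mem _
    have h1 : (1 : A₁) ∈ (PrimeSpectrum.comap (algebraMap A₁ (A₁ ⧸ J₂)) 𝔭₃).asIdeal := by
      rw [← hki]
      exact Ideal.add_mem _ hk' hi'
    exact (PrimeSpectrum.comap (algebraMap A₁ (A₁ ⧸ J₂)) 𝔭₃).isPrime.ne_top
      ((Ideal.eq_top_iff_one _).mpr h1)
  have hinj : Function.Injective (algebraMap (A₁ ⧸ J₂) ((A₁ ⧸ J₂) ⊗[A₁] B₁)) :=
    FaithfulSMul.algebraMap_injective _ _
  have hzero : ∀ y ∈ J₂.map (algebraMap A₁ B₁), (1 : A₁ ⧸ J₂) ⊗ₜ[A₁] y = 0 := by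
    intro y hy
    rw [Ideal.map, Ideal.span] at hy
    induction hy using Submodule.span_induction with
    | mem y hy =>
      obtain ⟨j, hj, rfl⟩ := hy
      rw [Algebra.algebraMap_eq_smul_one, TensorProduct.tmul_smul, TensorProduct.smul_tmul',
        Algebra.smul_def, mul_one]
      have : algebraMap A₁ (A₁ ⧸ J₂) j = 0 := Ideal.Quotient.eq_zero_iff_mem.mpr hj
      rw [this, TensorProduct.zero_tmul]
    | zero => exact TensorProduct.tmul_zero _ _
    | add y z _ _ hy hz => rw [TensorProduct.tmul_add, hy, hz, add_zero]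
    | smul b y _ hy =>
      have : (1 : A₁ ⧸ J₂) ⊗ₜ[A₁] (b • y) = ((1 : A₁ ⧸ J₂) ⊗ₜ[A₁] b) * ((1 : A₁ ⧸ J₂) ⊗ₜ[A₁] y) := by
        rw [Algebra.TensorProduct.tmul_mul_tmul, one_mul, smul_eq_mul]
      rw [this, hy, mul_zero]
  intro x hx
  rw [← Ideal.Quotient.eq_zero_iff_mem]
  apply hinj
  rw [map_zero, Algebra.TensorProduct.algebraMap_apply, Algebra.algebraMap_self, RingHom.id_apply]
  have h1 : (Ideal.Quotient.mk J₂ x) ⊗ₜ[A₁] (1 : B₁) =
      (1 : A₁ ⧸ J₂) ⊗ₜ[A₁] (algebraMap A₁ B₁ x) := by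
    rw [Algebra.algebraMap_eq_smul_one x, TensorProduct.tmul_smul, TensorProduct.smul_tmul',
      Algebra.smul_def, mul_one]
    rfl
  rw [h1]
  apply hzero
  exact Ideal.map_mono le_sup_left (hJ₁map (Ideal.mem_map_of_mem _ hx))


/-- Quotient form: if `B` is étale and faithfully flat over `P/I`, with `P` and `B` finitely
presented over `R`, then `I` is finitely generated. -/
theorem ideal_fg_of_etale_faithfullyFlat_quotient (R P : Type u) [CommRing R] [CommRing P]
    [Algebra R P] [Algebra.FinitePresentation R P] (I : Ideal P) (B : Type u) [CommRing B]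
    [Algebra (P ⧸ I) B] [Algebra.Etale (P ⧸ I) B] [Module.FaithfullyFlat (P ⧸ I) B]
    [Algebra R B] [IsScalarTower R (P ⧸ I) B] [Algebra.FinitePresentation R B] : I.FG := by
  classical
  obtain ⟨S, _, _, hS, ⟨e⟩⟩ := EtaleLift.exists_etale_lift P I B
  letI : Algebra P B := ((algebraMap (P ⧸ I) B).comp (Ideal.Quotient.mk I)).toAlgebra
  haveI : IsScalarTower P (P ⧸ I) B := IsScalarTower.of_algebraMap_eq fun _ => rfl
  haveI : IsScalarTower R P B := IsScalarTower.of_algebraMap_eq fun r => by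
    rw [IsScalarTower.algebraMap_apply R (P ⧸ I) B, IsScalarTower.algebraMap_apply P (P ⧸ I) B]
    rfl
  haveI : Algebra.FinitePresentation P B :=
    Algebra.FinitePresentation.of_restrict_scalars_finitePresentation R P B
  let ψ : S →ₐ[P] B := (e.toAlgHom.restrictScalars P).comp
    (Algebra.TensorProduct.includeRight (R := P) (A := P ⧸ I) (B := S))
  have hψapply : ∀ s : S, ψ s = e ((1 : P ⧸ I) ⊗ₜ[P] s) := fun s => rfl
  have hψsurj : Function.Surjective ψ := by
    intro b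
    obtain ⟨z, rfl⟩ := e.surjective b
    have hz : ∃ s : S, z = (1 : P ⧸ I) ⊗ₜ[P] s := by
      induction z using TensorProduct.induction_on with
      | zero => exact ⟨0, (TensorProduct.tmul_zero _ _).symm⟩
      | tmul a s =>
        obtain ⟨p, rfl⟩ := Ideal.Quotient.mk_surjective a
        refine ⟨p • s, ?_⟩
        rw [TensorProduct.tmul_smul, TensorProduct.smul_tmul', Algebra.smul_def, mul_one]
        rfl
      | add z₁ z₂ h₁ h₂ =>
        obtain ⟨s₁, rfl⟩ := h₁
        obtain ⟨s₂, rfl⟩ := h₂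
        exact ⟨s₁ + s₂, (TensorProduct.tmul_add _ _ _).symm⟩
    obtain ⟨s, rfl⟩ := hz
    exact ⟨s, rfl⟩
  haveI : Algebra.FinitePresentation P S := inferInstance
  have hkerfg : (RingHom.ker ψ.toRingHom).FG :=
    Algebra.FinitePresentation.ker_fG_of_surjective ψ hψsurj
  have hker : RingHom.ker ψ.toRingHom = I.map (algebraMap P S) := by
    apply le_antisymm
    · intro s hs
      have h0 : ψ s = 0 := hs
      rw [hψapply] at h0
      have h1 : (1 : P ⧸ I) ⊗ₜ[P] s = 0 := by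
        rw [← map_zero e] at h0
        exact e.injective h0
      have h2 := congrArg (TensorProduct.quotTensorEquivQuotSMul S I) h1
      rw [map_zero, ← map_one (Ideal.Quotient.mk I),
        TensorProduct.quotTensorEquivQuotSMul_mk_tmul, one_smul,
        Submodule.Quotient.mk_eq_zero, Ideal.smul_top_eq_map] at h2
      exact h2
    · rw [Ideal.map_le_iff_le_comap]
      intro x hx
      rw [Ideal.mem_comap]
      show ψ (algebraMap P S x) = 0
      rw [AlgHom.commutes, IsScalarTower.algebraMap_apply P (P ⧸ I) B]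
      have : algebraMap P (P ⧸ I) x = 0 := Ideal.Quotient.eq_zero_iff_mem.mpr hx
      rw [this, map_zero]
  rw [hker] at hkerfg
  refine ideal_fg_of_flat_cover I hkerfg ?_
  intro 𝔭 h𝔭
  have h1 : 𝔭 ∈ Set.range (PrimeSpectrum.comap (Ideal.Quotient.mk I)) := by
    rw [range_comap_of_surjective _ _ Ideal.Quotient.mk_surjective]
    rw [PrimeSpectrum.mem_zeroLocus, Ideal.mk_ker]
    exact h𝔭
  obtain ⟨𝔭', rfl⟩ := h1
  obtain ⟨𝔮, rfl⟩ := PrimeSpectrum.comap_surjective_of_faithfullyFlat (A := P ⧸ I) (B := B) 𝔭'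
  refine ⟨PrimeSpectrum.comap ψ.toRingHom 𝔮, ?_⟩
  rw [← PrimeSpectrum.comap_comp_apply, ← PrimeSpectrum.comap_comp_apply]
  congr 1
  apply RingHom.ext
  intro x
  show ψ (algebraMap P S x) = algebraMap (P ⧸ I) B (Ideal.Quotient.mk I x)
  rw [AlgHom.commutes]
  rfl

/-- Finite presentation descends along étale faithfully flat maps on the source. -/
theorem finitePresentation_of_etale_faithfullyFlat (R A B : Type u) [CommRing R] [CommRing A]
    [CommRing B] [Algebra R A] [Algebra A B] [Algebra R B] [IsScalarTower R A B]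
    [Algebra.Etale A B] [Module.FaithfullyFlat A B] [Algebra.FinitePresentation R B] :
    Algebra.FinitePresentation R A := by
  classical
  haveI : Algebra.FiniteType R A := EtaleSD.finiteType_of_etale_faithfullyFlat R A B
  obtain ⟨n, f, hf⟩ := Algebra.FiniteType.iff_quotient_mvPolynomial''.mp
    (inferInstance : Algebra.FiniteType R A)
  set I : Ideal (MvPolynomial (Fin n) R) := RingHom.ker f.toRingHom with hI
  let eA : (MvPolynomial (Fin n) R ⧸ I) ≃ₐ[R] A := Ideal.quotientKerAlgEquivOfSurjective hf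
  letI : Algebra (MvPolynomial (Fin n) R ⧸ I) B :=
    ((algebraMap A B).comp (eA : (MvPolynomial (Fin n) R ⧸ I) →+* A)).toAlgebra
  have hmap : algebraMap (MvPolynomial (Fin n) R ⧸ I) B =
      (algebraMap A B).comp (eA : (MvPolynomial (Fin n) R ⧸ I) →+* A) := rfl
  have hst : ∀ r : R, algebraMap R B r = algebraMap (MvPolynomial (Fin n) R ⧸ I) B
      (algebraMap R (MvPolynomial (Fin n) R ⧸ I) r) := fun r => by
    show algebraMap R B r = algebraMap A B (eA (algebraMap R (MvPolynomial (Fin n) R ⧸ I) r))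
    rw [eA.commutes r, ← IsScalarTower.algebraMap_apply R A B]
  haveI : IsScalarTower R (MvPolynomial (Fin n) R ⧸ I) B := IsScalarTower.of_algebraMap_eq hst
  haveI : Algebra.Etale (MvPolynomial (Fin n) R ⧸ I) B := by
    rw [← RingHom.etale_algebraMap, hmap]
    have h1 : (algebraMap A B).Etale := RingHom.etale_algebraMap.mpr inferInstance
    exact RingHom.Etale.respectsIso.2 _ eA.toRingEquiv h1
  haveI : Module.FaithfullyFlat (MvPolynomial (Fin n) R ⧸ I) B := by
    apply Module.FaithfullyFlat.of_comap_surjective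
    intro 𝔭
    obtain ⟨𝔮, h𝔮⟩ := PrimeSpectrum.comap_surjective_of_faithfullyFlat (A := A) (B := B)
      (PrimeSpectrum.comap (eA.symm : A →+* (MvPolynomial (Fin n) R ⧸ I)) 𝔭)
    refine ⟨𝔮, ?_⟩
    rw [hmap, PrimeSpectrum.comap_comp_apply, h𝔮, ← PrimeSpectrum.comap_comp_apply]
    have : (eA.symm : A →+* (MvPolynomial (Fin n) R ⧸ I)).comp
        (eA : (MvPolynomial (Fin n) R ⧸ I) →+* A) = RingHom.id _ := by
      apply RingHom.ext
      intro x
      simp
    rw [this]
    rfl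
  have hIfg : I.FG :=
    ideal_fg_of_etale_faithfullyFlat_quotient R (MvPolynomial (Fin n) R) I B
  exact Algebra.FinitePresentation.of_surjective hf hIfg

end Groth.Agent.Helper4.EtaleSD2
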