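import Mathlib
import Groth.Agent.Helper4.EtaleSD2

/-! Unramified / smooth / étale descend along étale faithfully flat maps on the source. -/

namespace Groth.Agent.Helper4.EtaleSD3

open TensorProduct KaehlerDifferential

universe u

variable (R A B : Type u) [CommRing R] [CommRing A] [CommRing B]
  [Algebra R A] [Algebra A B] [Algebra R B] [IsScalarTower R A B]

theorem formallyUnramified_of_formallyEtale_faithfullyFlat [Algebra.FormallyEtale A B]
    [Module.FaithfullyFlat A B] [Algebra.FormallyUnramified R B] :
    Algebra.FormallyUnramified R A := by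
  constructor
  have : Subsingleton (B ⊗[A] Ω[A⁄R]) :=
    (KaehlerDifferential.tensorKaehlerEquivOfFormallyEtale R A B).subsingleton
  exact Module.FaithfullyFlat.lTensor_reflects_triviality A B _

theorem projective_kaehler_of_etale_faithfullyFlat [Algebra.FormallyEtale A B]
    [Module.FaithfullyFlat A B] [Algebra.FinitePresentation R A]
    [Module.Projective B Ω[B⁄R]] : Module.Projective A Ω[A⁄R] := by
  have : Module.Flat B (B ⊗[A] Ω[A⁄R]) :=
    .of_linearEquiv (KaehlerDifferential.tensorKaehlerEquivOfFormallyEtale R A B)
  have : Module.Flat A Ω[A⁄R] := Module.Flat.of_flat_tensorProduct _ _ B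
  exact Module.Flat.projective_of_finitePresentation


set_option backward.isDefEq.respectTransparency false in
/-- `B ⊗[A] H¹(L_{A/R}) ≃ H¹(L_{B/R})` for `B` étale over `A`. -/
theorem nonempty_tensorH1Cotangent_of_etale [Algebra.Etale A B] :
    Nonempty (B ⊗[A] Algebra.H1Cotangent R A ≃ₗ[B] Algebra.H1Cotangent R B) := by
  classical
  letI P : Algebra.Extension R A := (Algebra.Generators.self R A).toExtension
  letI algPB : Algebra P.Ring B := ((algebraMap A B).comp (algebraMap P.Ring A)).toAlgebra
  haveI : IsScalarTower P.Ring A B := .of_algebraMap_eq' rfl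
  obtain ⟨S, _, _, ψ, hS, hψs, hψk⟩ :=
    EtaleLift.exists_etale_lift' P.Ring A B P.algebraMap_surjective
  letI : Algebra R S := ((algebraMap P.Ring S).comp (algebraMap R P.Ring)).toAlgebra
  haveI : IsScalarTower R P.Ring S := .of_algebraMap_eq' rfl
  haveI : IsScalarTower R P.Ring B := .to₁₂₄ R P.Ring A B
  letI fQ : S →ₐ[R] B := ψ.restrictScalars R
  letI Q : Algebra.Extension R B := .ofSurjective fQ hψs
  letI f : P.Hom Q :=
  { toRingHom := algebraMap P.Ring S
    toRingHom_algebraMap x := (IsScalarTower.algebraMap_apply R P.Ring S _).symm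
    algebraMap_toRingHom x := ψ.commutes x }
  haveI : Algebra.FormallySmooth R P.Ring :=
    inferInstanceAs (Algebra.FormallySmooth R (MvPolynomial _ _))
  haveI : Algebra.FormallySmooth R Q.Ring := .comp R P.Ring S
  haveI : Module.Flat A B := inferInstance
  letI : Algebra P.Ring Q.Ring := (inferInstance : Algebra P.Ring S)
  refine ⟨Algebra.Extension.tensorH1CotangentOfFormallyEtale f rfl ?_ ?_ ≪≫ₗ
      Algebra.Extension.equivH1CotangentOfFormallySmooth _⟩
  · exact RingHom.formallyEtale_algebraMap.mpr (inferInstance : Algebra.FormallyEtale P.Ring S)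
  · haveI : Module.Flat P.Ring Q.Ring := (inferInstance : Module.Flat P.Ring S)
    have hval : ∀ z : Q.Ring ⊗[P.Ring] P.ker,
        (LinearMap.liftBaseChange Q.Ring (f.mapKer rfl) z).1 =
          TensorProduct.rid P.Ring Q.Ring ((P.ker.subtype).lTensor Q.Ring z) := by
      intro z
      induction z using TensorProduct.induction_on with
      | zero => simp only [map_zero]; rfl
      | tmul s x =>
        simp only [LinearMap.liftBaseChange_tmul, LinearMap.lTensor_tmul, Submodule.subtype_apply,
          TensorProduct.rid_tmul]
        rw [Algebra.smul_def, mul_comm]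
        rfl
      | add z₁ z₂ h₁ h₂ =>
        rw [map_add, map_add, map_add, ← h₁, ← h₂]
        rfl
    constructor
    · rw [injective_iff_map_eq_zero]
      intro z hz
      have h1 : TensorProduct.rid P.Ring Q.Ring ((P.ker.subtype).lTensor Q.Ring z) = 0 := by
        rw [← hval, hz]
        rfl
      have h2 : (P.ker.subtype).lTensor Q.Ring z = 0 := by
        rw [← map_zero (TensorProduct.rid P.Ring Q.Ring)] at h1
        exact (TensorProduct.rid P.Ring Q.Ring).injective h1
      have hinj : Function.Injective ((P.ker.subtype).lTensor Q.Ring) :=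
        Module.Flat.lTensor_preserves_injective_linearMap _ (Submodule.injective_subtype _)
      rw [← map_zero ((P.ker.subtype).lTensor Q.Ring)] at h2
      exact hinj h2
    · rintro ⟨y, hy⟩
      have hy' : y ∈ P.ker.map (algebraMap P.Ring Q.Ring) := by
        have : RingHom.ker ψ.toRingHom = P.ker.map (algebraMap P.Ring Q.Ring) := hψk
        rw [← this]
        exact hy
      have key : ∀ y ∈ P.ker.map (algebraMap P.Ring Q.Ring), ∃ z : Q.Ring ⊗[P.Ring] P.ker,
          (LinearMap.liftBaseChange Q.Ring (f.mapKer rfl) z).1 = y := by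
        intro y hy
        rw [Ideal.map, Ideal.span] at hy
        induction hy using Submodule.span_induction with
        | mem y hy =>
          obtain ⟨x, hx, rfl⟩ := hy
          refine ⟨(1 : Q.Ring) ⊗ₜ[P.Ring] (⟨x, hx⟩ : P.ker), ?_⟩
          rw [hval]
          simp only [LinearMap.lTensor_tmul, Submodule.subtype_apply, TensorProduct.rid_tmul]
          rw [Algebra.smul_def, mul_one]
        | zero => exact ⟨0, by simp only [map_zero]; rfl⟩
        | add y₁ y₂ _ _ h₁ h₂ =>
          obtain ⟨z₁, h₁⟩ := h₁
          obtain ⟨z₂, h₂⟩ := h₂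
          refine ⟨z₁ + z₂, ?_⟩
          rw [map_add, ← h₁, ← h₂]
          rfl
        | smul s y _ h =>
          obtain ⟨z, h⟩ := h
          refine ⟨s • z, ?_⟩
          rw [map_smul, ← h]
          rfl
      obtain ⟨z, hz⟩ := key y hy'
      exact ⟨z, Subtype.ext hz⟩


theorem smooth_of_etale_faithfullyFlat [Algebra.Etale A B] [Module.FaithfullyFlat A B]
    [Algebra.Smooth R B] : Algebra.Smooth R A := by
  haveI : Algebra.FinitePresentation R A :=
    EtaleSD2.finitePresentation_of_etale_faithfullyFlat R A B
  refine ⟨?_, inferInstance⟩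
  rw [Algebra.formallySmooth_iff]
  constructor
  · exact projective_kaehler_of_etale_faithfullyFlat R A B
  · obtain ⟨e⟩ := nonempty_tensorH1Cotangent_of_etale R A B
    have : Subsingleton (B ⊗[A] Algebra.H1Cotangent R A) := e.subsingleton
    exact Module.FaithfullyFlat.lTensor_reflects_triviality A B _

theorem etale_of_etale_faithfullyFlat [Algebra.Etale A B] [Module.FaithfullyFlat A B]
    [Algebra.Etale R B] : Algebra.Etale R A := by
  rw [Algebra.Etale.iff_formallyUnramified_and_smooth]
  exact ⟨formallyUnramified_of_formallyEtale_faithfullyFlat R A B,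
    smooth_of_etale_faithfullyFlat R A B⟩

end Groth.Agent.Helper4.EtaleSD3
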