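import Mathlib

set_option autoImplicit false
universe u
open CategoryTheory CategoryTheory.Limits AlgebraicGeometry Opposite TopologicalSpace Topology

namespace Groth.Agent.Helper4.SchLQF

theorem isDiscrete_of_preimage {X X' : Type*} [TopologicalSpace X] [TopologicalSpace X']
    (π : X' → X) (hπ : IsOpenMap π) (hs : Function.Surjective π) (F : Set X)
    (h : IsDiscrete (π ⁻¹' F)) : IsDiscrete F := by
  refine .of_nhdsWithin fun x hx => ?_
  obtain ⟨x', rfl⟩ := hs x
  obtain ⟨O, hO, hOF⟩ := isOpen_inter_eq_singleton_of_mem_discrete h (x := x') hx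
  rw [Filter.le_pure_iff, mem_nhdsWithin]
  have hx' : x' ∈ O ∩ π ⁻¹' F := by rw [hOF]; rfl
  refine ⟨π '' O, hπ O hO, ⟨x', hx'.1, rfl⟩, ?_⟩
  rintro y ⟨⟨o, ho, rfl⟩, hy⟩
  have : o ∈ O ∩ π ⁻¹' F := ⟨ho, hy⟩
  rw [hOF] at this
  rw [Set.mem_singleton_iff.1 this]
  rfl

theorem locallyQuasiFinite_of_etale {X Y : Scheme.{u}} (f : X ⟶ Y) [hf : Etale f] :
    LocallyQuasiFinite f := by
  rw [HasRingHomProperty.iff_appLE (P := @LocallyQuasiFinite)]
  intro U V e
  have h := HasRingHomProperty.appLE (P := @Etale) f hf U V e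
  algebraize [(f.appLE U V e).hom]
  show Algebra.QuasiFinite _ _
  infer_instance

theorem locallyQuasiFinite_of_comp_surjective_open {X' X Y : Scheme.{u}} (π : X' ⟶ X)
    (f : X ⟶ Y) [LocallyOfFiniteType f] (hπo : IsOpenMap π) (hπs : Function.Surjective π)
    [LocallyQuasiFinite (π ≫ f)] : LocallyQuasiFinite f := by
  rw [locallyQuasiFinite_iff_isDiscrete_preimage_singleton]
  intro y
  have H := (π ≫ f).isDiscrete_preimage_singleton y
  apply isDiscrete_of_preimage π hπo hπs
  convert H using 1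
  ext x
  simp

end Groth.Agent.Helper4.SchLQF
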