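import Groth.Agent.Helper4.EtaleSD
import Mathlib

set_option autoImplicit false
universe u
open TensorProduct AlgebraicGeometry CategoryTheory CategoryTheory.Limits

namespace Groth.Agent.Helper4.SchemeSD

/-- Reduction of étale descent on the source to the case of affine schemes. -/
theorem sd_of_affine (P : MorphismProperty Scheme.{u}) [IsZariskiLocalAtSource P]
    [IsZariskiLocalAtTarget P] [P.RespectsRight @IsOpenImmersion]
    (hAff : ∀ {A B C : Scheme.{u}} [IsAffine A] [IsAffine B] [IsAffine C] (e : A ⟶ B)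
      (h : B ⟶ C), Etale e → Surjective e → P (e ≫ h) → P h)
    {A B C : Scheme.{u}} (e : A ⟶ B) (h : B ⟶ C) [Etale e] [Surjective e] (hP : P (e ≫ h)) :
    P h := by
  rw [IsZariskiLocalAtSource.iff_exists_resLE (P := P)]
  intro b
  obtain ⟨a, rfl⟩ := e.surjective b
  -- affine neighbourhoods
  obtain ⟨U, hU, hbU, -⟩ := TopologicalSpace.Opens.isBasis_iff_nbhd.mp C.isBasis_affineOpens
    (TopologicalSpace.Opens.mem_top (h (e a)))
  obtain ⟨V₁, hV₁, hbV₁, hV₁U⟩ := TopologicalSpace.Opens.isBasis_iff_nbhd.mp B.isBasis_affineOpens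
    (show e a ∈ h ⁻¹ᵁ U from hbU)
  obtain ⟨W₁, hW₁, haW₁, hW₁V₁⟩ := TopologicalSpace.Opens.isBasis_iff_nbhd.mp A.isBasis_affineOpens
    (show a ∈ e ⁻¹ᵁ V₁ from hbV₁)
  -- the image of W₁ is open
  let O : B.Opens := ⟨e '' (W₁ : Set A), e.isOpenMap _ W₁.2⟩
  have hbO : e a ∈ O := ⟨a, haW₁, rfl⟩
  obtain ⟨g, hgle, hbg⟩ := hV₁.exists_basicOpen_le (V := O) ⟨e a, hbO⟩ hbV₁
  have hVaff : IsAffineOpen (B.basicOpen g) := hV₁.basicOpen g
  have hWaff : IsAffineOpen (A.basicOpen (e.appLE V₁ W₁ hW₁V₁ g)) := hW₁.basicOpen _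
  have hWmem : ∀ x, x ∈ A.basicOpen (e.appLE V₁ W₁ hW₁V₁ g) ↔ x ∈ W₁ ∧ e x ∈ B.basicOpen g := by
    intro x
    simp [Scheme.Hom.appLE, ← Scheme.preimage_basicOpen]
  have hVU : B.basicOpen g ≤ h ⁻¹ᵁ U := (B.basicOpen_le g).trans hV₁U
  have hWV : A.basicOpen (e.appLE V₁ W₁ hW₁V₁ g) ≤ e ⁻¹ᵁ (B.basicOpen g) := fun x hx =>
    ((hWmem x).1 hx).2
  have i1 : IsAffine (B.basicOpen g : Scheme.{u}) := hVaff
  have i2 : IsAffine (A.basicOpen (e.appLE V₁ W₁ hW₁V₁ g) : Scheme.{u}) := hWaff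
  have i3 : IsAffine ((U : C.Opens) : Scheme.{u}) := hU
  have hsurj : Surjective (e.resLE (B.basicOpen g) (A.basicOpen (e.appLE V₁ W₁ hW₁V₁ g)) hWV) := by
    refine ⟨fun v => ?_⟩
    obtain ⟨w, hw, hwv⟩ := hgle v.2
    have hwW : w ∈ A.basicOpen (e.appLE V₁ W₁ hW₁V₁ g) := (hWmem w).2 ⟨hw, by rw [hwv]; exact v.2⟩
    refine ⟨⟨w, hwW⟩, ?_⟩
    apply Subtype.ext
    rw [Scheme.Hom.coe_resLE_apply]
    exact hwv
  have hPres : P (e.resLE (B.basicOpen g) (A.basicOpen (e.appLE V₁ W₁ hW₁V₁ g)) hWV ≫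
      h.resLE U (B.basicOpen g) hVU) := by
    rw [Scheme.Hom.resLE_comp_resLE]
    exact IsZariskiLocalAtSource.resLE _ hP
  exact ⟨U, B.basicOpen g, hbg, hVU, hAff _ _ inferInstance hsurj hPres⟩

end Groth.Agent.Helper4.SchemeSD

namespace Groth.Agent.Helper4.SchemeSD

/-- Étale descent on the source for a property induced by a ring hom property satisfying the
corresponding ring-theoretic descent. -/
theorem sd_of_ringHom (P : MorphismProperty Scheme.{u})
    {Q : ∀ {R S : Type u} [CommRing R] [CommRing S], (R →+* S) → Prop}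
    [HasRingHomProperty P Q] [P.RespectsRight @IsOpenImmersion]
    (hQ : ∀ {R B B' : Type u} [CommRing R] [CommRing B] [CommRing B'] (f : R →+* B)
      (g : B →+* B'), g.Etale → g.FaithfullyFlat → Q (g.comp f) → Q f)
    {A B C : Scheme.{u}} (e : A ⟶ B) (h : B ⟶ C) [Etale e] [Surjective e] (hP : P (e ≫ h)) :
    P h := by
  refine sd_of_affine P ?_ e h hP
  intro A B C _ _ _ e h he hes hP
  rw [HasRingHomProperty.iff_of_isAffine (P := P)] at hP ⊢
  have h1 : Q (e.appTop.hom.comp h.appTop.hom) := by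
    have : (e ≫ h).appTop.hom = e.appTop.hom.comp h.appTop.hom := by
      rw [Scheme.Hom.comp_appTop]; rfl
    rw [← this]; exact hP
  have h2 : e.appTop.hom.Etale := HasRingHomProperty.appTop (P := @Etale) e he
  have h3 : e.appTop.hom.FaithfullyFlat :=
    (Flat.flat_and_surjective_iff_faithfullyFlat_of_isAffine e).1 ⟨inferInstance, hes⟩
  exact hQ _ _ h2 h3 h1

/-- Ring-hom form of finite type descent. -/
theorem ringHom_finiteType_of_comp {R B B' : Type u} [CommRing R] [CommRing B] [CommRing B']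
    (f : R →+* B) (g : B →+* B') (hg : g.Etale) (hgf : g.FaithfullyFlat)
    (h : (g.comp f).FiniteType) : f.FiniteType := by
  algebraize [f, g, g.comp f]
  exact Groth.Agent.Helper4.EtaleSD.finiteType_of_etale_faithfullyFlat R B B'

/-- Locally of finite type descends along étale surjections on the source. -/
theorem locallyOfFiniteType_of_comp_etale_surjective {A B C : Scheme.{u}} (e : A ⟶ B) (h : B ⟶ C)
    [Etale e] [Surjective e] [LocallyOfFiniteType (e ≫ h)] : LocallyOfFiniteType h := by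
  have : MorphismProperty.RespectsRight @LocallyOfFiniteType @IsOpenImmersion :=
    ⟨fun i hi f hf => by
      have : IsOpenImmersion i := hi
      have : LocallyOfFiniteType f := hf
      show LocallyOfFiniteType (f ≫ i)
      infer_instance⟩
  exact sd_of_ringHom @LocallyOfFiniteType
    (fun f g hg hgf h => ringHom_finiteType_of_comp f g hg hgf h) e h inferInstance

end Groth.Agent.Helper4.SchemeSD
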