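import Mathlib
import Groth.Agent.Helper4.SchemeSD
import Groth.Agent.Helper4.EtaleSD3
import Groth.Agent.Helper4.SchLQF
import Groth.Agent.Helper4.AlgSpLocPBC

/-! Étale source descent for the standard classes of morphisms of schemes. -/

namespace Groth.Agent.Helper4.SchemeSD

open AlgebraicGeometry CategoryTheory

universe u

theorem ringHom_finitePresentation_of_comp {R B B' : Type u} [CommRing R] [CommRing B]
    [CommRing B'] (f : R →+* B) (g : B →+* B') (hg : g.Etale) (hgf : g.FaithfullyFlat)
    (h : (g.comp f).FinitePresentation) : f.FinitePresentation := by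
  algebraize [f, g, g.comp f]
  exact Groth.Agent.Helper4.EtaleSD2.finitePresentation_of_etale_faithfullyFlat R B B'

theorem ringHom_smooth_of_comp {R B B' : Type u} [CommRing R] [CommRing B]
    [CommRing B'] (f : R →+* B) (g : B →+* B') (hg : g.Etale) (hgf : g.FaithfullyFlat)
    (h : (g.comp f).Smooth) : f.Smooth := by
  algebraize [f, g, g.comp f]
  exact Groth.Agent.Helper4.EtaleSD3.smooth_of_etale_faithfullyFlat R B B'

theorem ringHom_etale_of_comp {R B B' : Type u} [CommRing R] [CommRing B]
    [CommRing B'] (f : R →+* B) (g : B →+* B') (hg : g.Etale) (hgf : g.FaithfullyFlat)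
    (h : (g.comp f).Etale) : f.Etale := by
  algebraize [f, g, g.comp f]
  exact Groth.Agent.Helper4.EtaleSD3.etale_of_etale_faithfullyFlat R B B'

theorem ringHom_formallyUnramified_of_comp {R B B' : Type u} [CommRing R] [CommRing B]
    [CommRing B'] (f : R →+* B) (g : B →+* B') (hg : g.Etale) (hgf : g.FaithfullyFlat)
    (h : (g.comp f).FormallyUnramified) : f.FormallyUnramified := by
  algebraize [f, g, g.comp f]
  exact Groth.Agent.Helper4.EtaleSD3.formallyUnramified_of_formallyEtale_faithfullyFlat R B B'


theorem respectsRight_of_comp (P : MorphismProperty Scheme.{u}) [P.IsStableUnderComposition]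
    (h : ∀ {A B : Scheme.{u}} (i : A ⟶ B), IsOpenImmersion i → P i) :
    P.RespectsRight @IsOpenImmersion :=
  ⟨fun i hi f hf => P.comp_mem f i hf (h i hi)⟩

theorem locallyOfFinitePresentation_of_comp_etale_surjective {A B C : Scheme.{u}} (e : A ⟶ B)
    (h : B ⟶ C) [Etale e] [Surjective e] [LocallyOfFinitePresentation (e ≫ h)] :
    LocallyOfFinitePresentation h := by
  have := respectsRight_of_comp @LocallyOfFinitePresentation (fun i hi => by
    have : IsOpenImmersion i := hi
    infer_instance)
  exact sd_of_ringHom @LocallyOfFinitePresentation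
    (fun f g hg hgf h => ringHom_finitePresentation_of_comp f g hg hgf h) e h inferInstance

theorem smooth_of_comp_etale_surjective {A B C : Scheme.{u}} (e : A ⟶ B)
    (h : B ⟶ C) [Etale e] [Surjective e] [Smooth (e ≫ h)] : Smooth h := by
  have := respectsRight_of_comp @Smooth (fun i hi => by
    have : IsOpenImmersion i := hi
    infer_instance)
  exact sd_of_ringHom @Smooth
    (fun f g hg hgf h => ringHom_smooth_of_comp f g hg hgf h) e h inferInstance

theorem etale_of_comp_etale_surjective {A B C : Scheme.{u}} (e : A ⟶ B)
    (h : B ⟶ C) [Etale e] [Surjective e] [Etale (e ≫ h)] : Etale h := by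
  have := respectsRight_of_comp @Etale (fun i hi => by
    have : IsOpenImmersion i := hi
    infer_instance)
  exact sd_of_ringHom @Etale
    (fun f g hg hgf h => ringHom_etale_of_comp f g hg hgf h) e h inferInstance

theorem formallyUnramified_of_comp_etale_surjective {A B C : Scheme.{u}} (e : A ⟶ B)
    (h : B ⟶ C) [Etale e] [Surjective e] [FormallyUnramified (e ≫ h)] : FormallyUnramified h := by
  have := respectsRight_of_comp @FormallyUnramified (fun i hi => by
    have : IsOpenImmersion i := hi
    infer_instance)
  exact sd_of_ringHom @FormallyUnramified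
    (fun f g hg hgf h => ringHom_formallyUnramified_of_comp f g hg hgf h) e h inferInstance

theorem flat_of_comp_etale_surjective {A B C : Scheme.{u}} (e : A ⟶ B)
    (h : B ⟶ C) [Etale e] [Surjective e] [Flat (e ≫ h)] : Flat h :=
  Groth.Agent.Helper4.AlgSpLocPBC.flat_of_comp_surjective_flat e h

theorem locallyQuasiFinite_of_comp_etale_surjective {A B C : Scheme.{u}} (e : A ⟶ B)
    (h : B ⟶ C) [Etale e] [Surjective e] [LocallyOfFiniteType h] [LocallyQuasiFinite (e ≫ h)] :
    LocallyQuasiFinite h :=
  Groth.Agent.Helper4.SchLQF.locallyQuasiFinite_of_comp_surjective_open e h e.isOpenMap e.surjective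


/-- Descent along (possibly large) étale covering families, from descent along single étale
surjections. -/
theorem of_forall_comp_etale_family (P : MorphismProperty Scheme.{u}) [IsZariskiLocalAtSource P]
    (hSD : ∀ {A B C : Scheme.{u}} (e : A ⟶ B) (h : B ⟶ C), Etale e → Surjective e →
      P (e ≫ h) → P h)
    {X Y : Scheme.{u}} (f : X ⟶ Y)
    (hcov : ∀ x : X, ∃ (U : Scheme.{u}) (g : U ⟶ X), Etale g ∧ x ∈ Set.range g.base ∧
      P (g ≫ f)) : P f := by
  choose U g hg hx hP using hcov
  have hopen : ∀ x, IsOpen (Set.range (g x).base) := fun x =>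
    have := hg x
    (g x).isOpenMap.isOpen_range
  let V : X → X.Opens := fun x => ⟨Set.range (g x).base, hopen x⟩
  refine IsZariskiLocalAtSource.of_iSup_eq_top V ?_ fun x => ?_
  · rw [eq_top_iff]
    intro x _
    rw [TopologicalSpace.Opens.mem_iSup]
    exact ⟨x, hx x⟩
  · have hsub : Set.range (g x).base ⊆ Set.range (V x).ι.base := by
      rw [Scheme.Opens.range_ι]
      exact subset_rfl
    let g' : U x ⟶ (V x : Scheme.{u}) := IsOpenImmersion.lift (V x).ι (g x) hsub
    have hfac : g' ≫ (V x).ι = g x := IsOpenImmersion.lift_fac _ _ _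
    have hg' : Etale g' := by
      have h1 : Etale (g' ≫ (V x).ι) := by rw [hfac]; exact hg x
      exact MorphismProperty.of_postcomp (W := @Etale) (W' := @Etale) g' (V x).ι
        inferInstance h1
    have hs' : Surjective g' := by
      constructor
      intro v
      have hv : (V x).ι.base v ∈ Set.range (g x).base := by
        have := v.2
        exact this
      obtain ⟨u, hu⟩ := hv
      refine ⟨u, ?_⟩
      apply (V x).ι.isOpenEmbedding.injective
      rw [← Scheme.Hom.comp_apply, hfac]
      exact hu
    refine hSD g' ((V x).ι ≫ f) hg' hs' ?_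
    rw [← Category.assoc, hfac]
    exact hP x

end Groth.Agent.Helper4.SchemeSD
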