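import Mathlib
import Groth.Agent.Helper4.SchemeSD2

/-! The seven "listed" classes of morphisms of schemes are good for étale-local arguments. -/

namespace Groth.Agent.Helper4.SDClasses

open AlgebraicGeometry CategoryTheory

universe u

/-- Package of properties of a class `P` used in étale-local arguments on algebraic spaces. -/
structure Good (P : MorphismProperty Scheme.{u}) : Prop where
  bc : P.IsStableUnderBaseChange
  comp : P.IsStableUnderComposition
  zls : IsZariskiLocalAtSource P
  zlt : IsZariskiLocalAtTarget P
  etale_le : ∀ {A B : Scheme.{u}} (g : A ⟶ B), Etale g → P g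
  sd : ∀ {A B C : Scheme.{u}} (e : A ⟶ B) (h : B ⟶ C), Etale e → Surjective e →
    P (e ≫ h) → P h

set_option backward.isDefEq.respectTransparency.types false in
theorem good_lft : Good (@LocallyOfFiniteType : MorphismProperty Scheme.{u}) where
  bc := inferInstance
  comp := inferInstance
  zls := inferInstance
  zlt := inferInstance
  etale_le := fun g hg => inferInstance
  sd := fun e h he hs hP => Groth.Agent.Helper4.SchemeSD.locallyOfFiniteType_of_comp_etale_surjective e h

set_option backward.isDefEq.respectTransparency.types false in
theorem good_lfp : Good (@LocallyOfFinitePresentation : MorphismProperty Scheme.{u}) where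
  bc := inferInstance
  comp := inferInstance
  zls := inferInstance
  zlt := inferInstance
  etale_le := fun g hg => inferInstance
  sd := fun e h he hs hP => Groth.Agent.Helper4.SchemeSD.locallyOfFinitePresentation_of_comp_etale_surjective e h

set_option backward.isDefEq.respectTransparency.types false in
theorem good_flat : Good (@Flat : MorphismProperty Scheme.{u}) where
  bc := inferInstance
  comp := inferInstance
  zls := inferInstance
  zlt := inferInstance
  etale_le := fun g hg => inferInstance
  sd := fun e h he hs hP => Groth.Agent.Helper4.SchemeSD.flat_of_comp_etale_surjective e h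

set_option backward.isDefEq.respectTransparency.types false in
theorem good_smooth : Good (@Smooth : MorphismProperty Scheme.{u}) where
  bc := inferInstance
  comp := inferInstance
  zls := inferInstance
  zlt := inferInstance
  etale_le := fun g hg => inferInstance
  sd := fun e h he hs hP => Groth.Agent.Helper4.SchemeSD.smooth_of_comp_etale_surjective e h

set_option backward.isDefEq.respectTransparency.types false in
theorem good_etale : Good (@Etale : MorphismProperty Scheme.{u}) where
  bc := inferInstance
  comp := inferInstance
  zls := inferInstance
  zlt := inferInstance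
  etale_le := fun g hg => hg
  sd := fun e h he hs hP => Groth.Agent.Helper4.SchemeSD.etale_of_comp_etale_surjective e h

set_option backward.isDefEq.respectTransparency.types false in
theorem good_lqf :
    Good ((@LocallyQuasiFinite ⊓ @LocallyOfFiniteType : MorphismProperty Scheme.{u})) where
  bc := inferInstance
  comp := inferInstance
  zls := inferInstance
  zlt := inferInstance
  etale_le := fun g hg => ⟨Groth.Agent.Helper4.SchLQF.locallyQuasiFinite_of_etale g, inferInstance⟩
  sd := fun e h he hs hP => by
    have h1 : LocallyQuasiFinite (e ≫ h) := hP.1
    have h2 : LocallyOfFiniteType (e ≫ h) := hP.2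
    have h3 : LocallyOfFiniteType h :=
      Groth.Agent.Helper4.SchemeSD.locallyOfFiniteType_of_comp_etale_surjective e h
    exact ⟨Groth.Agent.Helper4.SchemeSD.locallyQuasiFinite_of_comp_etale_surjective e h, h3⟩

set_option backward.isDefEq.respectTransparency.types false in
theorem good_unram :
    Good ((@LocallyOfFiniteType ⊓ @FormallyUnramified : MorphismProperty Scheme.{u})) where
  bc := inferInstance
  comp := inferInstance
  zls := inferInstance
  zlt := inferInstance
  etale_le := fun g hg => ⟨inferInstance, inferInstance⟩
  sd := fun e h he hs hP => by
    have h1 : LocallyOfFiniteType (e ≫ h) := hP.1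
    have h2 : FormallyUnramified (e ≫ h) := hP.2
    exact ⟨Groth.Agent.Helper4.SchemeSD.locallyOfFiniteType_of_comp_etale_surjective e h,
      Groth.Agent.Helper4.SchemeSD.formallyUnramified_of_comp_etale_surjective e h⟩

/-- The seven listed classes are good. -/
theorem good_of_listed (P : MorphismProperty Scheme.{u})
    (hP : P = @LocallyOfFiniteType ∨ P = @LocallyOfFinitePresentation ∨ P = @Flat ∨ P = @Smooth ∨
      P = @Etale ∨
      (∀ ⦃A B : Scheme.{u}⦄ (g : A ⟶ B), P g ↔ (LocallyQuasiFinite g ∧ LocallyOfFiniteType g)) ∨
      (∀ ⦃A B : Scheme.{u}⦄ (g : A ⟶ B), P g ↔ (LocallyOfFiniteType g ∧ FormallyUnramified g))) :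
    Good P := by
  rcases hP with rfl | rfl | rfl | rfl | rfl | h | h
  · exact good_lft
  · exact good_lfp
  · exact good_flat
  · exact good_smooth
  · exact good_etale
  · have : P = (@LocallyQuasiFinite ⊓ @LocallyOfFiniteType : MorphismProperty Scheme.{u}) := by
      ext A B g
      exact h g
    rw [this]; exact good_lqf
  · have : P = (@LocallyOfFiniteType ⊓ @FormallyUnramified : MorphismProperty Scheme.{u}) := by
      ext A B g
      exact h g
    rw [this]; exact good_unram

open CategoryTheory.Limits in
set_option backward.isDefEq.respectTransparency false in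
/-- Cancellation: if `s ≫ g` has `P` and `g` is étale then `s` has `P`. -/
theorem Good.of_postcomp {P : MorphismProperty Scheme.{u}} (hG : Good P) {A B C : Scheme.{u}}
    (s : A ⟶ B) (g : B ⟶ C) (hg : Etale g) (hsg : P (s ≫ g)) : P s := by
  have := hG.bc
  have := hG.comp
  set gr : A ⟶ pullback (s ≫ g) g := pullback.lift (𝟙 A) s (by simp)
  have : s = gr ≫ pullback.snd _ _ := by simp [gr]
  rw [this]
  apply P.comp_mem
  · exact P.of_isPullback (pullback_lift_diagonal_isPullback s g)
      (hG.etale_le _ (inferInstanceAs <| Etale (pullback.diagonal g)))
  · exact P.pullback_snd _ _ hsg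

end Groth.Agent.Helper4.SDClasses
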