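import Groth.Prelude.Def_AlgSp4
import Groth.Agent.Helper4.SDClasses
import Groth.Agent.Helper4.AlgSpSrc
import Mathlib

set_option autoImplicit false
universe u
open CategoryTheory CategoryTheory.Limits AlgebraicGeometry Opposite MorphismProperty

namespace Groth.Agent.Helper4.AlgSpLocPComp

open AlgSp Groth.Agent.Helper4.AlgSpLocP2 Groth.Agent.Helper4.SDClasses

variable {S : Scheme.{u}}

/-- `LocP P` is stable under composition for good `P`. -/
theorem locP_comp (P : MorphismProperty Scheme.{u}) (hG : Good P)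
    {X Y Z : Sp S} (hY : IsAlgSpace Y) (f : X ⟶ Y) (g : Y ⟶ Z)
    (hf : LocP P f) (hg : LocP P g) : LocP P (f ≫ g) := by
  have := hG.bc
  have := hG.comp
  intro U W a b h ha hb comm
  obtain ⟨V₀, y₀, hy₀e, hy₀s⟩ := hY.atlas
  -- V' = h_W ×_Z h_{V₀}
  have hbr := hb.rep
  have hpbV : IsPullback (hbr.fst (y₀ ≫ g)) ((yon S).map (hbr.snd (y₀ ≫ g))) b (y₀ ≫ g) :=
    hbr.isPullback _
  obtain ⟨c, hc⟩ := (yon S).map_surjective (hbr.fst (y₀ ≫ g))
  rw [← hc] at hpbV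
  have hee : Etale (hbr.snd (y₀ ≫ g)).left := hb.property _ _ _ hpbV
  generalize hbr.snd (y₀ ≫ g) = e at hpbV hee
  have hey₀ : RepWith @Etale ((yon S).map e ≫ y₀) :=
    Groth.Agent.Helper4.AlgSpSrc.repWith_comp _ ((repWith_yon_map_iff _ _).2 hee) hy₀e
  have hPc : P c.left := hg ((yon S).map e ≫ y₀) b c hey₀ hb
    (by rw [Category.assoc]; exact hpbV.w.symm)
  -- U₁ = h_{V₀} ×_Y h_U
  have hr := hy₀e.rep
  have hpbU : IsPullback (hr.fst (a ≫ f)) ((yon S).map (hr.snd (a ≫ f))) y₀ (a ≫ f) :=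
    hr.isPullback _
  obtain ⟨r₂, hr₂⟩ := (yon S).map_surjective (hr.fst (a ≫ f))
  rw [← hr₂] at hpbU
  have hr₁e : Etale (hr.snd (a ≫ f)).left := hy₀e.property _ _ _ hpbU
  have hr₁s : Surjective (hr.snd (a ≫ f)).left := hy₀s.property _ _ _ hpbU
  generalize hr.snd (a ≫ f) = r₁ at hpbU hr₁e hr₁s
  have hw : (yon S).map (r₁ ≫ h) ≫ b = (yon S).map r₂ ≫ (y₀ ≫ g) := by
    rw [Functor.map_comp, Category.assoc, ← comm, ← Category.assoc ((yon S).map r₂),
      hpbU.w]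
    simp
  obtain ⟨s, hs⟩ := (yon S).map_surjective (hpbV.lift _ _ hw)
  have hs1 : (yon S).map s ≫ (yon S).map c = (yon S).map (r₁ ≫ h) := by
    rw [hs]; exact hpbV.lift_fst _ _ hw
  have hs2 : (yon S).map s ≫ (yon S).map e = (yon S).map r₂ := by
    rw [hs]; exact hpbV.lift_snd _ _ hw
  have hr₁a : RepWith @Etale ((yon S).map r₁ ≫ a) :=
    Groth.Agent.Helper4.AlgSpSrc.repWith_comp _ ((repWith_yon_map_iff _ _).2 hr₁e) ha
  have hPs : P s.left := hf ((yon S).map r₁ ≫ a) ((yon S).map e ≫ y₀) s hr₁a hey₀ (by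
    rw [Category.assoc, ← hpbU.w, ← Category.assoc, hs2])
  have heq : r₁ ≫ h = s ≫ c := by
    apply (yon S).map_injective
    rw [← hs1, Functor.map_comp]
  have hP : P (r₁ ≫ h).left := by
    rw [heq]
    show P (s.left ≫ c.left)
    exact P.comp_mem _ _ hPs hPc
  exact hG.sd r₁.left h.left hr₁e hr₁s hP

end Groth.Agent.Helper4.AlgSpLocPComp
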