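import Groth.Prelude.Def_AlgSp4
import Groth.Prelude.Def_AlgSpDec
import Groth.Agent.Helper4.SDClasses
import Groth.Agent.Helper4.AlgSpSrc
import Groth.Agent.Helper4.AlgSpPtsDesc
import Mathlib

set_option autoImplicit false
universe u
open CategoryTheory CategoryTheory.Limits AlgebraicGeometry Opposite MorphismProperty

namespace Groth.Agent.Helper4.AlgSpLocPFam

open AlgSp Groth.Agent.Helper4.AlgSpLocP2 Groth.Agent.Helper4.SDClasses

variable {S : Scheme.{u}}

/-- Points of a pullback square of representable sheaves over a sheaf. -/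
theorem exists_point_of_isPullback_yon {X : Sp S} {U U' U'' : Over S}
    (a : (yon S).obj U ⟶ X) (a' : (yon S).obj U' ⟶ X) (p₁ : U'' ⟶ U) (p₂ : U'' ⟶ U')
    (sq : IsPullback ((yon S).map p₁) ((yon S).map p₂) a a') (u : U.left) (u' : U'.left)
    (h : Points.ofPt a u = Points.ofPt a' u') :
    ∃ u'' : U''.left, p₁.left u'' = u ∧ p₂.left u'' = u' := by
  have h' : Points.map a (Points.schemeHomeo U u) = Points.map a' (Points.schemeHomeo U' u') := by
    rw [Points.ofPt_eq_map_ofScheme, Points.ofPt_eq_map_ofScheme] at h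
    exact h
  obtain ⟨p, hp1, hp2⟩ :=
    Groth.Agent.Helper4.AlgSpPtsDesc.exists_point_of_isPullback sq _ _ h'
  obtain ⟨u'', rfl⟩ := (Points.schemeHomeo U'').surjective p
  rw [Points.map_yon_map_apply] at hp1 hp2
  exact ⟨u'', (Points.schemeHomeo U).injective hp1, (Points.schemeHomeo U').injective hp2⟩

/-- Comparison of two chart diagrams: if the first has top arrow in `P`, then the second has top arrow
in `P` after precomposition with the étale projection from the fibre product of the source charts. -/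
theorem chart_compare (P : MorphismProperty Scheme.{u}) (hG : Good P)
    {X Y : Sp S} (f : X ⟶ Y) {U V : Over S} (a : (yon S).obj U ⟶ X)
    (b : (yon S).obj V ⟶ Y) (h : U ⟶ V) (ha : RepWith @Etale a)
    (hb : RepWith @Etale b) (comm : a ≫ f = (yon S).map h ≫ b) (hh : P h.left)
    {U' V' : Over S} (a' : (yon S).obj U' ⟶ X) (b' : (yon S).obj V' ⟶ Y) (h' : U' ⟶ V')
    (ha' : RepWith @Etale a') (hb' : RepWith @Etale b')
    (comm' : a' ≫ f = (yon S).map h' ≫ b') :
    ∃ (U'' : Over S) (p₁ : U'' ⟶ U) (p₂ : U'' ⟶ U'),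
      IsPullback ((yon S).map p₁) ((yon S).map p₂) a a' ∧ Etale p₂.left ∧
      P (p₂ ≫ h').left := by
  have := hG.bc
  have := hG.comp
  have har := ha.rep
  have hpbU : IsPullback (har.fst a') ((yon S).map (har.snd a')) a a' := har.isPullback a'
  obtain ⟨p₁, hp₁⟩ := (yon S).map_surjective (har.fst a')
  rw [← hp₁] at hpbU
  have hp₂e : Etale (har.snd a').left := ha.property _ _ _ hpbU
  have hp₁e : Etale p₁.left := ha'.property _ _ _ hpbU.flip
  generalize har.snd a' = p₂ at hpbU hp₂e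
  have hbr := hb.rep
  have hpbV : IsPullback (hbr.fst b') ((yon S).map (hbr.snd b')) b b' := hbr.isPullback b'
  obtain ⟨q₁, hq₁⟩ := (yon S).map_surjective (hbr.fst b')
  rw [← hq₁] at hpbV
  have hq₂e : Etale (hbr.snd b').left := hb.property _ _ _ hpbV
  have hq₁e : Etale q₁.left := hb'.property _ _ _ hpbV.flip
  generalize hbr.snd b' = q₂ at hpbV hq₂e
  have hw : (yon S).map (p₁ ≫ h) ≫ b = (yon S).map (p₂ ≫ h') ≫ b' := by
    rw [Functor.map_comp, Category.assoc, ← comm, ← Category.assoc, hpbU.w, Category.assoc,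
      comm', Functor.map_comp, Category.assoc]
  obtain ⟨s, hs⟩ := (yon S).map_surjective (hpbV.lift _ _ hw)
  have hs1 : s ≫ q₁ = p₁ ≫ h := by
    apply (yon S).map_injective
    rw [Functor.map_comp, hs]; exact hpbV.lift_fst _ _ hw
  have hs2 : s ≫ q₂ = p₂ ≫ h' := by
    apply (yon S).map_injective
    rw [Functor.map_comp, hs]; exact hpbV.lift_snd _ _ hw
  have hPs : P s.left := by
    refine hG.of_postcomp s.left q₁.left hq₁e ?_
    rw [← Over.comp_left, hs1]
    show P (p₁.left ≫ h.left)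
    exact P.comp_mem _ _ (hG.etale_le _ hp₁e) hh
  have hP2 : P (p₂ ≫ h').left := by
    rw [← hs2]
    show P (s.left ≫ q₂.left)
    exact P.comp_mem _ _ hPs (hG.etale_le _ hq₂e)
  exact ⟨_, p₁, p₂, hpbU, hp₂e, hP2⟩

/-- A family of chart diagrams with top arrows in `P` whose source charts cover all points
suffices for `LocP P`, for good `P`. -/
theorem locP_of_chart_family (P : MorphismProperty Scheme.{u}) (hG : Good P)
    {X Y : Sp S} (f : X ⟶ Y)
    (H : ∀ x : Points X, ∃ (U V : Over S) (a : (yon S).obj U ⟶ X) (b : (yon S).obj V ⟶ Y)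
      (h : U ⟶ V) (u : U.left), RepWith @Etale a ∧ RepWith @Etale b ∧
      a ≫ f = (yon S).map h ≫ b ∧ Points.ofPt a u = x ∧ P h.left) :
    LocP P f := by
  have := hG.zls
  intro U' V' a' b' h' ha' hb' comm'
  refine Groth.Agent.Helper4.SchemeSD.of_forall_comp_etale_family P hG.sd h'.left ?_
  intro u'
  obtain ⟨U, V, a, b, h, u, ha, hb, comm, hu, hh⟩ := H (Points.ofPt a' u')
  obtain ⟨U'', p₁, p₂, sq, hp₂e, hP2⟩ :=
    chart_compare P hG f a b h ha hb comm hh a' b' h' ha' hb' comm'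
  obtain ⟨u'', -, hu''⟩ := exists_point_of_isPullback_yon a a' p₁ p₂ sq u u' hu
  exact ⟨U''.left, p₂.left, hp₂e, ⟨u'', hu''⟩, hP2⟩

end Groth.Agent.Helper4.AlgSpLocPFam

namespace Groth.Agent.Helper4.AlgSpLocPFam

open AlgSp Groth.Agent.Helper4.AlgSpLocP2 Groth.Agent.Helper4.SDClasses

variable {S : Scheme.{u}}

/-- `LocP P` implies the neighbourhood form of "`P` at `x`" at every point. -/
theorem hasAtMor_nbhd_of_locP (P : MorphismProperty Scheme.{u}) (hG : Good P)
    {X Y : Sp S} (hX : IsAlgSpace X) (hY : IsAlgSpace Y) (f : X ⟶ Y) (hf : LocP P f)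
    (x : Points X) :
    HasAtMor (fun U _ h u => ∃ W : U.Opens, u ∈ W ∧ P (W.ι ≫ h)) f x := by
  have := hG.comp
  obtain ⟨U₀, a₀, ha₀e, ha₀s⟩ := hX.atlas
  obtain ⟨V₀, b₀, hb₀e, hb₀s⟩ := hY.atlas
  obtain ⟨E, e, c, hee, hes, hxe, hxs, hcomm, -⟩ :=
    exists_chart f a₀ ha₀e ha₀s b₀ hb₀e hb₀s
  obtain ⟨p, hp⟩ := Groth.Agent.Helper4.AlgSpPts.isSurjectiveMor_of_repWith _ hxs x
  obtain ⟨u, rfl⟩ := (Points.schemeHomeo E).surjective p
  refine ⟨E, V₀, _, b₀, c, u, hxe, hb₀e, hcomm, ?_, ⊤, trivial, ?_⟩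
  · rw [Points.ofPt_eq_map_ofScheme]; exact hp
  · exact P.comp_mem _ _ (hG.etale_le _ inferInstance) (hf _ _ _ hxe hb₀e hcomm)

/-- The neighbourhood form of "`P` at `x`" at every point implies `LocP P`. -/
theorem locP_of_forall_hasAtMor_nbhd (P : MorphismProperty Scheme.{u}) (hG : Good P)
    {X Y : Sp S} (f : X ⟶ Y)
    (H : ∀ x : Points X, HasAtMor (fun U _ h u => ∃ W : U.Opens, u ∈ W ∧ P (W.ι ≫ h)) f x) :
    LocP P f := by
  refine locP_of_chart_family P hG f fun x => ?_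
  obtain ⟨U, V, a, b, h, u, ha, hb, comm, hu, W, huW, hPW⟩ := H x
  let UW : Over S := Over.mk (W.ι ≫ U.hom)
  let ι' : UW ⟶ U := Over.homMk W.ι rfl
  have hι : RepWith @Etale ((yon S).map ι') :=
    (repWith_yon_map_iff _ _).2 (inferInstanceAs (Etale W.ι))
  refine ⟨UW, V, (yon S).map ι' ≫ a, b, ι' ≫ h, ⟨u, huW⟩,
    Groth.Agent.Helper4.AlgSpSrc.repWith_comp _ hι ha, hb, ?_, ?_, hPW⟩
  · rw [Category.assoc, comm, Functor.map_comp, Category.assoc]
  · rw [Groth.Agent.Helper4.AlgSpPtsDesc.ofPt_yon_map_comp]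
    exact hu

end Groth.Agent.Helper4.AlgSpLocPFam
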