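import Mathlib
import Groth.Agent.Helper4.GenLocIso
import Groth.Prelude.Def_ClSub2

set_option autoImplicit false
open CategoryTheory Limits AlgebraicGeometry TopologicalSpace Opposite
universe u

namespace Groth.Agent.Helper4.SecTriv

open Groth.Agent.Helper4.GenLoc Groth.Agent.Helper4.GenLocIso Groth.Agent.Helper4.AmpleIso
  Groth.Agent.Helper4.TensorGen Groth.Agent.Helper4.AmpleLocal

variable {X : Scheme.{u}}

theorem genLocus_ne_bot [IsReduced X] (L : X.Modules) (hL : PicF.IsInvertible L)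
    (s : Coh.structureModule X ⟶ L) (hs : s ≠ 0) : CohB1.genLocus L s ≠ ⊥ :=
  fun h => hs (eq_zero_of_genLocus_eq_bot L hL s h)

/-- S1652 core -/
theorem nonempty_iso_unit_of_inverse_pair [IsIntegral X]
    (hfield : IsField (Γ(X, ⊤) : Type u))
    (L M : X.Modules) (hL : PicF.IsInvertible L) (hM : PicF.IsInvertible M)
    (hLM : ClSub.IsInverseOf L M)
    (s : Coh.structureModule X ⟶ L) (hs : s ≠ 0) (t : Coh.structureModule X ⟶ M) (ht : t ≠ 0) :
    Nonempty (L ≅ Coh.structureModule X) := by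
  obtain ⟨e⟩ := hLM
  let σ : Coh.structureModule X ⟶ Coh.structureModule X := SecTwist.tmulHom s t ≫ e.hom
  have hσ : CohB1.genLocus _ σ = CohB1.genLocus L s ⊓ CohB1.genLocus M t := by
    rw [genLocus_comp_iso, genLocus_tmulHom _ _ hL hM]
  rw [genLocus_unit] at hσ
  by_cases ha : fn σ = 0
  · exfalso
    rw [ha, Scheme.basicOpen_zero] at hσ
    have h1 := genLocus_ne_bot L hL s hs
    have h2 := genLocus_ne_bot M hM t ht
    have h1' : (CohB1.genLocus L s : Set X).Nonempty := by
      rw [Set.nonempty_iff_ne_empty]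
      intro h; apply h1; ext x; simp [h]
    have h2' : (CohB1.genLocus M t : Set X).Nonempty := by
      rw [Set.nonempty_iff_ne_empty]
      intro h; apply h2; ext x; simp [h]
    obtain ⟨x, hx1, hx2⟩ := nonempty_preirreducible_inter (CohB1.genLocus L s).isOpen
      (CohB1.genLocus M t).isOpen h1' h2'
    have : x ∈ (⊥ : X.Opens) := hσ ▸ (⟨hx1, hx2⟩ : x ∈ CohB1.genLocus L s ⊓ CohB1.genLocus M t)
    exact this
  · have hu : IsUnit (fn σ) := by
      letI := hfield.toField
      exact isUnit_iff_ne_zero.mpr ha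
    have htop : CohB1.genLocus L s = ⊤ := by
      rw [Scheme.basicOpen_of_isUnit X hu] at hσ
      exact top_le_iff.mp (hσ ▸ inf_le_left)
    haveI := isIso_of_genLocus_eq_top L s htop
    exact ⟨(asIso s).symm⟩

open Groth.Agent.Helper4.StalkExact

theorem eq_zero_of_comp_eq_zero [IsIntegral X] (L : X.Modules) (hL : PicF.IsInvertible L)
    (s : Coh.structureModule X ⟶ L) (hs : s ≠ 0) (t : L ⟶ Coh.structureModule X)
    (h : s ≫ t = 0) : t = 0 := by
  have hG := genLocus_ne_bot L hL s hs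
  have hbij := (isIso_restrict_iff s _).mp (isIso_restrict_genLocus L s)
  have hGne : (CohB1.genLocus L s : Set X).Nonempty := by
    rw [Set.nonempty_iff_ne_empty]
    intro h'; apply hG; ext x; simp [h']
  apply Scheme.Modules.hom_ext
  intro U
  ext m
  by_cases hU : (U : Set X).Nonempty
  · obtain ⟨x, hx1, hx2⟩ := nonempty_preirreducible_inter U.isOpen
      (CohB1.genLocus L s).isOpen hU hGne
    haveI : Nonempty (U ⊓ CohB1.genLocus L s : X.Opens) := ⟨⟨x, hx1, hx2⟩⟩
    apply map_injective_of_isIntegral X (homOfLE (inf_le_left : U ⊓ CohB1.genLocus L s ≤ U))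
    have e1 := app_res t (homOfLE (inf_le_left : U ⊓ CohB1.genLocus L s ≤ U)) m
    have e2 := app_res (0 : L ⟶ Coh.structureModule X)
      (homOfLE (inf_le_left : U ⊓ CohB1.genLocus L s ≤ U)) m
    refine e1.symm.trans (Eq.trans ?_ e2)
    obtain ⟨r, hr⟩ := (hbij (U ⊓ CohB1.genLocus L s) inf_le_right).2
      (L.presheaf.map (homOfLE (inf_le_left : U ⊓ CohB1.genLocus L s ≤ U)).op m)
    rw [← hr]
    change (s ≫ t).app _ r = (s ≫ (0 : L ⟶ Coh.structureModule X)).app _ r
    rw [h, comp_zero]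
  · have hUb : U = ⊥ := by
      ext x
      simp only [Opens.coe_bot, Set.mem_empty_iff_false, iff_false]
      intro hx
      exact hU ⟨x, hx⟩
    subst hUb
    exact Subsingleton.elim (α := Γ(X, ⊥)) _ _

theorem fn_comp (f g : Coh.structureModule X ⟶ Coh.structureModule X) :
    fn (f ≫ g) = fn f * fn g := by
  have h := app_apply g ⊤ (f.app ⊤ (one X ⊤))
  have h1 : X.presheaf.map (homOfLE (le_top : (⊤ : X.Opens) ≤ ⊤)).op (fn g) = fn g := by
    change X.presheaf.map (𝟙 _) (fn g) = fn g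
    rw [X.presheaf.map_id]; rfl
  rw [h1] at h
  exact h

theorem fn_id : fn (𝟙 (Coh.structureModule X)) = 1 := rfl

theorem isUnit_fn_of_isIso (φ : Coh.structureModule X ⟶ Coh.structureModule X) [IsIso φ] :
    IsUnit (fn φ) := by
  refine isUnit_iff_exists_inv.mpr ⟨fn (inv φ), ?_⟩
  rw [← fn_comp, IsIso.hom_inv_id, fn_id]

theorem genLocus_eq_top_of_isIso_comp (L : X.Modules) (hL : PicF.IsInvertible L)
    (s : Coh.structureModule X ⟶ L) (t : L ⟶ Coh.structureModule X) (h : IsIso (s ≫ t)) :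
    CohB1.genLocus L s = ⊤ := by
  apply top_le_iff.mp
  intro x _
  obtain ⟨W, hxW, -, ⟨ε⟩⟩ := TwistLocal.exists_affine_triv L hL x
  let R := Scheme.Modules.restrictFunctor W.ι
  let t' : Coh.structureModule (W : Scheme.{u}) ⟶ Coh.structureModule (W : Scheme.{u}) :=
    ε.inv ≫ R.map t ≫ (Scheme.Modules.restrictUnitIso W.ι).hom
  have hcomp : endo L s W ε ≫ t' =
      (Scheme.Modules.restrictUnitIso W.ι).inv ≫ R.map (s ≫ t) ≫
        (Scheme.Modules.restrictUnitIso W.ι).hom := by
    unfold endo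
    simp only [t', R, Category.assoc, Iso.hom_inv_id_assoc, Functor.map_comp]
  haveI : IsIso (R.map (s ≫ t)) := inferInstance
  haveI : IsIso (endo L s W ε ≫ t') := by rw [hcomp]; infer_instance
  have hu := isUnit_fn_of_isIso (endo L s W ε ≫ t')
  rw [fn_comp] at hu
  have hu1 : IsUnit (fn (endo L s W ε)) := isUnit_of_mul_isUnit_left hu
  have hx : x ∈ CohB1.genLocus L s ⊓ W := by
    rw [genLocus_inf_eq L s W ε, Scheme.basicOpen_of_isUnit _ hu1]
    exact ⟨⟨x, hxW⟩, trivial, rfl⟩
  exact hx.1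

/-- S14808 -/
theorem nonempty_iso_unit_of_section_cosection [IsIntegral X]
    (hfield : IsField (Γ(X, ⊤) : Type u)) (L : X.Modules) (hL : PicF.IsInvertible L)
    (s : Coh.structureModule X ⟶ L) (hs : s ≠ 0) (t : L ⟶ Coh.structureModule X) (ht : t ≠ 0) :
    Nonempty (L ≅ Coh.structureModule X) := by
  by_cases ha : fn (s ≫ t) = 0
  · exfalso
    apply ht
    apply eq_zero_of_comp_eq_zero L hL s hs t
    rw [Scalar.eq_scalar (s ≫ t), ha]
    apply Scheme.Modules.hom_ext
    intro U
    ext m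
    change Scalar.res 0 U • m = 0
    have : Scalar.res (0 : Γ(X, ⊤)) U = 0 := map_zero _
    rw [this, zero_smul]
  · have hu : IsUnit (fn (s ≫ t)) := by
      letI := hfield.toField
      exact isUnit_iff_ne_zero.mpr ha
    have hiso : IsIso (s ≫ t) := by
      rw [Scalar.eq_scalar (s ≫ t)]
      exact isIso_scalar_of_isUnit _ hu _
    have htop := genLocus_eq_top_of_isIso_comp L hL s t hiso
    haveI := isIso_of_genLocus_eq_top L s htop
    exact ⟨(asIso s).symm⟩

theorem id_unit_ne_zero [Nonempty X] : (𝟙 (Coh.structureModule X)) ≠ 0 := by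
  intro h
  have h1 : fn (𝟙 (Coh.structureModule X)) = fn (0 : Coh.structureModule X ⟶ Coh.structureModule X) :=
    congrArg fn h
  have h2 : fn (0 : Coh.structureModule X ⟶ Coh.structureModule X) = 0 := rfl
  rw [fn_id, h2] at h1
  haveI : Nonempty (⊤ : X.Opens) := ⟨⟨Classical.arbitrary X, trivial⟩⟩
  haveI : Nontrivial Γ(X, ⊤) := Scheme.component_nontrivial X ⊤
  exact one_ne_zero h1

/-- S7805 -/
theorem trivial_iff_section_cosection (k : Type u) [Field k] (p : X ⟶ Spec (CommRingCat.of k))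
    [IsProper p] [IsIntegral X] (L : X.Modules) (hL : PicF.IsInvertible L) :
    Nonempty (L ≅ Coh.structureModule X) ↔
      (∃ s : Coh.structureModule X ⟶ L, s ≠ 0) ∧ (∃ t : L ⟶ Coh.structureModule X, t ≠ 0) := by
  constructor
  · rintro ⟨e⟩
    refine ⟨⟨e.inv, fun h => ?_⟩, ⟨e.hom, fun h => ?_⟩⟩
    · apply id_unit_ne_zero (X := X)
      rw [← e.inv_hom_id, h, zero_comp]
    · apply id_unit_ne_zero (X := X)
      rw [← e.inv_hom_id, h, comp_zero]
  · rintro ⟨⟨s, hs⟩, ⟨t, ht⟩⟩
    exact nonempty_iso_unit_of_section_cosection (isField_of_universallyClosed k p) L hL s hs t ht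

end Groth.Agent.Helper4.SecTriv
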