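import Mathlib
import Groth.Prelude.Def_AffAlg
import Groth.Agent.S3583

universe u

open CategoryTheory CategoryTheory.Limits AlgebraicGeometry TopologicalSpace Opposite
open Scheme.AffineZariskiSite

namespace Groth.Agent.Helper4.AffUP

variable {X Y S : Scheme.{u}} (f : X ⟶ S) [IsAffineHom f] (g : Y ⟶ S)

theorem isAffineOpen_preimage (U : S.AffineZariskiSite) : IsAffineOpen (f ⁻¹ᵁ U.1) :=
  IsAffineHom.isAffine_preimage _ U.2

variable (ω : AffAlg.alg f ⟶ AffAlg.alg g)

/-- the local piece of the morphism attached to an algebra homomorphism -/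
noncomputable def piece (U : S.AffineZariskiSite) : (g ⁻¹ᵁ U.1 : Scheme.{u}) ⟶ X :=
  (g ⁻¹ᵁ U.1).toSpecΓ ≫ Spec.map (ω.app (op U.1)) ≫ (isAffineOpen_preimage f U).fromSpec

theorem piece_comp {U V : S.AffineZariskiSite} (i : U ⟶ V) :
    Y.homOfLE (g.preimage_mono (toOpens_mono i.1.1)) ≫ piece f g ω V = piece f g ω U := by
  unfold piece
  rw [← Scheme.Opens.toSpecΓ_SpecMap_presheaf_map_assoc, ← Spec.map_comp_assoc]
  have hnat := ω.naturality (homOfLE (toOpens_mono i.1.1)).op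
  have h2 : ω.app (op V.1) ≫ Y.presheaf.map (homOfLE (g.preimage_mono (toOpens_mono i.1.1))).op =
      X.presheaf.map (homOfLE (f.preimage_mono (toOpens_mono i.1.1))).op ≫ ω.app (op U.1) := hnat.symm
  rw [h2, Spec.map_comp_assoc,
    (isAffineOpen_preimage f V).map_fromSpec (isAffineOpen_preimage f U)]

set_option backward.defeqAttrib.useBackward true in
set_option backward.isDefEq.respectTransparency false in
/-- The morphism attached to an algebra homomorphism -/
noncomputable def ofAlgHom : Y ⟶ X :=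
  Scheme.OpenCover.glueMorphismsOfLocallyDirected
    ((directedCover S).pullback₁ g)
    (fun U ↦ (pullbackRestrictIsoRestrict g _).hom ≫ piece f g ω U)
    fun {U V : S.AffineZariskiSite} i ↦ by
  have : (pullbackRestrictIsoRestrict g U.1).inv ≫
      Scheme.Cover.trans ((directedCover S).pullback₁ g) i ≫
      (pullbackRestrictIsoRestrict g V.1).hom = Y.homOfLE
        (g.preimage_mono (toOpens_mono i.1.1)) := by
    rw [← cancel_mono (Scheme.Opens.ι _)]
    simp +instances [Scheme.Cover.trans, Scheme.Cover.locallyDirectedPullbackCover]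
  rw [← Iso.inv_comp_eq, reassoc_of% this, piece_comp f g ω i]

set_option backward.isDefEq.respectTransparency.types false in
set_option backward.defeqAttrib.useBackward true in
theorem ι_ofAlgHom (U : S.AffineZariskiSite) :
    (g ⁻¹ᵁ U.1).ι ≫ ofAlgHom f g ω = piece f g ω U := by
  rw [← cancel_epi (pullbackRestrictIsoRestrict g U.1).hom, ← Category.assoc]
  trans ((directedCover S).pullback₁ g).f U ≫ ofAlgHom f g ω
  · congr 1; simp
  delta ofAlgHom
  generalize_proofs
  rename_i H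
  exact Scheme.OpenCover.map_glueMorphismsOfLocallyDirected _ _ H _

theorem le_preimage_of_comp_eq (h : Y ⟶ X) (w : h ≫ f = g) (U : S.Opens) :
    g ⁻¹ᵁ U ≤ h ⁻¹ᵁ (f ⁻¹ᵁ U) := by
  subst w; exact le_rfl

theorem algHom_app' (h : Y ⟶ X) (w : h ≫ f = g) (U : S.Opens) :
    (AffAlg.algHom f g h w).app (op U) =
      h.appLE (f ⁻¹ᵁ U) (g ⁻¹ᵁ U) (le_preimage_of_comp_eq f g h w U) := by
  subst w
  rw [Groth.Agent.S3583.algHom_app]
  exact (Scheme.Hom.appLE_eq_app h).symm

/-- any morphism over `S` is locally given by its algebra homomorphism -/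
theorem ι_comp_eq_piece (h : Y ⟶ X) (w : h ≫ f = g) (U : S.AffineZariskiSite) :
    (g ⁻¹ᵁ U.1).ι ≫ h = piece f g (AffAlg.algHom f g h w) U := by
  unfold piece
  rw [algHom_app', Scheme.Opens.toSpecΓ_SpecMap_appLE_assoc, IsAffineOpen.toSpecΓ_fromSpec,
    Scheme.Hom.resLE_comp_ι]

theorem toSpecΓ_SpecMap_injective (W : Y.Opens) {R : CommRingCat.{u}} (φ ψ : R ⟶ Γ(Y, W))
    (h : W.toSpecΓ ≫ Spec.map φ = W.toSpecΓ ≫ Spec.map ψ) : φ = ψ := by
  have h1 := congrArg Scheme.Hom.appTop h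
  simp only [Scheme.Hom.comp_appTop, Scheme.Opens.toSpecΓ_appTop] at h1
  rw [← Category.assoc, ← Category.assoc, Scheme.ΓSpecIso_naturality,
    Scheme.ΓSpecIso_naturality, Category.assoc, Category.assoc, cancel_epi] at h1
  exact (cancel_mono _).mp h1

/-- the cover of `Y` by preimages of affine opens of `S` -/
noncomputable def preimageCover : Y.OpenCover :=
  Y.openCoverOfIsOpenCover _ (.comap (iSup_affineOpens_eq_top S) g.base.1)

set_option backward.isDefEq.respectTransparency false in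
theorem ofAlgHom_comp (hω : f.c ≫ ω = g.c) : ofAlgHom f g ω ≫ f = g := by
  refine Scheme.Cover.hom_ext (preimageCover g) _ _ fun U ↦ ?_
  change (g ⁻¹ᵁ U.1).ι ≫ ofAlgHom f g ω ≫ f = (g ⁻¹ᵁ U.1).ι ≫ g
  rw [← Category.assoc, ι_ofAlgHom f g ω ⟨U.1, U.2⟩]
  unfold piece
  simp only [Category.assoc]
  rw [← IsAffineOpen.SpecMap_appLE_fromSpec f (U.2 : IsAffineOpen U.1)
    (isAffineOpen_preimage f ⟨U.1, U.2⟩) le_rfl, ← Spec.map_comp_assoc]
  have h1 : f.appLE U.1 (f ⁻¹ᵁ U.1) le_rfl ≫ ω.app (op U.1) = g.app U.1 := by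
    rw [Scheme.Hom.appLE_eq_app]
    exact NatTrans.congr_app hω (op U.1)
  rw [h1]
  simp

theorem hom_ext (h h' : Y ⟶ X) (w : h ≫ f = g) (w' : h' ≫ f = g)
    (e : AffAlg.algHom f g h w = AffAlg.algHom f g h' w') : h = h' := by
  refine Scheme.Cover.hom_ext (preimageCover g) _ _ fun U ↦ ?_
  change (g ⁻¹ᵁ U.1).ι ≫ h = (g ⁻¹ᵁ U.1).ι ≫ h'
  rw [ι_comp_eq_piece f g h w ⟨U.1, U.2⟩, ι_comp_eq_piece f g h' w' ⟨U.1, U.2⟩, e]

theorem algHom_ofAlgHom (hω : f.c ≫ ω = g.c) :
    AffAlg.algHom f g (ofAlgHom f g ω) (ofAlgHom_comp f g ω hω) = ω := by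
  apply (Functor.IsCoverDense.restrictHomEquivHom (G := Scheme.AffineZariskiSite.toOpensFunctor S)
    (K := Opens.grothendieckTopology S) (ℱ := AffAlg.alg f)
    (ℱ' := (⟨AffAlg.alg g, TopCat.Sheaf.pushforward_sheaf_of_sheaf _ Y.sheaf.property⟩ :
      TopCat.Sheaf CommRingCat.{u} S.carrier))).symm.injective
  ext U : 2
  change (AffAlg.algHom f g (ofAlgHom f g ω) (ofAlgHom_comp f g ω hω)).app (op U.unop.1) =
    ω.app (op U.unop.1)
  have h1 := ι_comp_eq_piece f g (ofAlgHom f g ω) (ofAlgHom_comp f g ω hω) U.unop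
  rw [ι_ofAlgHom] at h1
  unfold piece at h1
  have h2 : ((g ⁻¹ᵁ U.unop.1).toSpecΓ ≫ Spec.map (ω.app (op U.unop.1))) ≫
        (isAffineOpen_preimage f U.unop).fromSpec =
      ((g ⁻¹ᵁ U.unop.1).toSpecΓ ≫ Spec.map ((AffAlg.algHom f g (ofAlgHom f g ω)
        (ofAlgHom_comp f g ω hω)).app (op U.unop.1))) ≫
        (isAffineOpen_preimage f U.unop).fromSpec := by
    simpa only [Category.assoc] using h1
  have h3 := (cancel_mono (isAffineOpen_preimage f U.unop).fromSpec).mp h2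
  exact (toSpecΓ_SpecMap_injective (g ⁻¹ᵁ U.unop.1) _ _ h3).symm

theorem algOf_bijective : Function.Bijective (AffAlg.algOf f g) := by
  constructor
  · rintro ⟨h, w⟩ ⟨h', w'⟩ e
    have e' : AffAlg.algHom f g h w = AffAlg.algHom f g h' w' := congrArg Subtype.val e
    exact Subtype.ext (hom_ext f g h h' w w' e')
  · rintro ⟨ω, hω⟩
    exact ⟨⟨ofAlgHom f g ω, ofAlgHom_comp f g ω hω⟩, Subtype.ext (algHom_ofAlgHom f g ω hω)⟩

end Groth.Agent.Helper4.AffUP
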