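import Mathlib
import Groth.Prelude.Def_RelSpec

universe u

open CategoryTheory CategoryTheory.Limits AlgebraicGeometry TopologicalSpace Opposite

namespace Groth.Agent.Helper4.RelSpecIso

variable {S : Scheme.{u}} (A : RelSpec.QCAlg S)

theorem isIso_appLE_of_eq_opensRange {X Y : Scheme.{u}} (f : X ⟶ Y) [IsOpenImmersion f]
    (W : Y.Opens) (hW : W = f.opensRange) (e : (⊤ : X.Opens) ≤ f ⁻¹ᵁ W) :
    IsIso (f.appLE W ⊤ e) := by
  subst hW
  have h := Scheme.Hom.appLE_appIso_inv f e
  have hle : f.opensRange ≤ f ''ᵁ ⊤ := by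
    rw [Scheme.Hom.image_top_eq_opensRange]
  have h2 : IsIso (Y.presheaf.map (homOfLE <| (f.image_mono e).trans
          (f.image_preimage_eq_opensRange_inf f.opensRange ▸ inf_le_right)).op) := by
    refine ⟨Y.presheaf.map (homOfLE hle).op, ?_, ?_⟩ <;>
    · rw [← Functor.map_comp, ← Y.presheaf.map_id]; rfl
  rw [← h] at h2
  exact IsIso.of_isIso_comp_right _ (f.appIso ⊤).inv

theorem isIso_gammaAff (U : S.Opens) (hU : IsAffineOpen U) : IsIso (A.gammaAff U hU) := by
  have := isIso_appLE_of_eq_opensRange (A.ι U hU) (A.π ⁻¹ᵁ U) (A.π_preimage U hU)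
    (A.top_le_preimage U hU)
  unfold RelSpec.QCAlg.gammaAff
  infer_instance

theorem isIso_gammaMap : IsIso A.gammaMap := by
  let ℱ : Sheaf (Opens.grothendieckTopology S) CommRingCat.{u} :=
    ⟨A.π.base _* A.spec.presheaf, TopCat.Sheaf.pushforward_sheaf_of_sheaf _ A.spec.sheaf.property⟩
  let ℱ' : Sheaf (Opens.grothendieckTopology S) CommRingCat.{u} := ⟨A.presheaf, A.isSheaf⟩
  let α : ℱ ⟶ ℱ' := ⟨A.gammaMap⟩
  have h1 : IsIso (Functor.whiskerLeft (Scheme.AffineZariskiSite.toOpensFunctor S).op α.hom) := by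
    change IsIso ((Scheme.AffineZariskiSite.toOpensFunctor S).op.whiskerLeft A.gammaMap)
    rw [A.gammaMap_restrict]
    have : ∀ U, IsIso (A.gammaRestrict.app U) := fun U => isIso_gammaAff A U.unop.1 U.unop.2
    exact NatIso.isIso_of_isIso_app _
  have h2 : IsIso α :=
    Functor.IsCoverDense.iso_of_restrict_iso (G := Scheme.AffineZariskiSite.toOpensFunctor S) α h1
  exact (inferInstance : IsIso ((sheafToPresheaf _ _).map α))

end Groth.Agent.Helper4.RelSpecIso
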