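import Mathlib

/-!
# Elementwise criteria for `R_p` being an integrally closed domain
-/

set_option autoImplicit false

namespace Groth.Agent.Helper4.NormalLocal

open Polynomial

variable {R : Type*} [CommRing R] (p : Ideal R) [p.IsPrime]

/-- `R_p` has no zero divisors, in terms of `R`. -/
def DProp : Prop :=
  ∀ a b : R, (∃ u, u ∉ p ∧ u * (a * b) = 0) → (∃ u, u ∉ p ∧ u * a = 0) ∨ (∃ u, u ∉ p ∧ u * b = 0)

/-- `R_p` is integrally closed, in terms of `R`. -/
def NProp : Prop :=
  ∀ (a b : R) (P : R[X]), P.Monic → (∀ u, u ∉ p → u * b ≠ 0) →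
    (∃ u, u ∉ p ∧ u * (P.scaleRoots b).eval a = 0) → ∃ u z, u ∉ p ∧ u * a = b * z

local notation "L" => Localization.AtPrime p
local notation "K" => FractionRing (Localization.AtPrime p)

theorem algMap_eq_zero_iff (a : R) : algebraMap R L a = 0 ↔ ∃ u, u ∉ p ∧ u * a = 0 := by
  rw [IsLocalization.map_eq_zero_iff p.primeCompl]
  constructor
  · rintro ⟨m, hm⟩
    exact ⟨m.1, m.2, hm⟩
  · rintro ⟨u, hu, h⟩
    exact ⟨⟨u, hu⟩, h⟩

theorem isUnit_map {u : R} (hu : u ∉ p) : IsUnit (algebraMap R L u) :=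
  IsLocalization.map_units L (⟨u, hu⟩ : p.primeCompl)

theorem dProp_of_isDomain [IsDomain L] : DProp p := by
  intro a b ⟨u, hu, h⟩
  have h1 : algebraMap R L a * algebraMap R L b = 0 := by
    have h2 : algebraMap R L u * (algebraMap R L a * algebraMap R L b) = 0 := by
      rw [← map_mul, ← map_mul, h, map_zero]
    exact (isUnit_map p hu).mul_right_eq_zero.mp h2
  rcases mul_eq_zero.mp h1 with h3 | h3
  · exact Or.inl ((algMap_eq_zero_iff p a).mp h3)
  · exact Or.inr ((algMap_eq_zero_iff p b).mp h3)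

theorem isDomain_of_dProp (h : DProp p) : IsDomain L := by
  haveI : NoZeroDivisors L := by
    refine ⟨fun {x y} hxy => ?_⟩
    obtain ⟨a, s, rfl⟩ := IsLocalization.exists_mk'_eq p.primeCompl x
    obtain ⟨b, t, rfl⟩ := IsLocalization.exists_mk'_eq p.primeCompl y
    rw [← IsLocalization.mk'_mul, IsLocalization.mk'_eq_zero_iff] at hxy
    obtain ⟨m, hm⟩ := hxy
    rcases h a b ⟨m.1, m.2, hm⟩ with ⟨u, hu, hua⟩ | ⟨u, hu, hub⟩
    · left
      rw [IsLocalization.mk'_eq_zero_iff]
      exact ⟨⟨u, hu⟩, hua⟩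
    · right
      rw [IsLocalization.mk'_eq_zero_iff]
      exact ⟨⟨u, hu⟩, hub⟩
  exact NoZeroDivisors.to_isDomain L

theorem nProp_of_isIntegrallyClosed [IsDomain L] [IsIntegrallyClosed L] : NProp p := by
  intro a b P hP hb ⟨u, hu, hE⟩
  let ι : R →+* K := algebraMap R K
  have hι : ∀ r, ι r = algebraMap L K (algebraMap R L r) := IsScalarTower.algebraMap_apply R L K
  have hbL : algebraMap R L b ≠ 0 := by
    intro h0
    obtain ⟨v, hv, hvb⟩ := (algMap_eq_zero_iff p b).mp h0
    exact hb v hv hvb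
  have hbK : ι b ≠ 0 := by
    intro h0
    exact hbL ((_root_.map_eq_zero_iff (algebraMap L K) (IsFractionRing.injective L K)).mp h0)
  -- the evaluation vanishes in `L`, hence in `K`
  have hE0 : algebraMap R L ((P.scaleRoots b).eval a) = 0 := by
    have h2 : algebraMap R L u * algebraMap R L ((P.scaleRoots b).eval a) = 0 := by
      rw [← map_mul, hE, map_zero]
    exact (isUnit_map p hu).mul_right_eq_zero.mp h2
  have hE1 : eval₂ ι (ι a) (P.scaleRoots b) = 0 := by
    rw [Polynomial.eval₂_at_apply, hι, hE0, map_zero]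
  have hx : eval₂ ι (ι a / ι b) P = 0 := by
    have h3 := Polynomial.scaleRoots_eval₂_mul (p := P) ι (ι a / ι b) b
    rw [mul_div_cancel₀ _ hbK, hE1] at h3
    exact (mul_eq_zero.mp h3.symm).resolve_left (pow_ne_zero _ hbK)
  have hint : IsIntegral L (ι a / ι b) := by
    refine ⟨P.map (algebraMap R L), hP.map _, ?_⟩
    rw [Polynomial.eval₂_map]
    exact hx
  obtain ⟨z, hz⟩ := (isIntegrallyClosed_iff K).mp inferInstance hint
  obtain ⟨c, w, rfl⟩ := IsLocalization.exists_mk'_eq p.primeCompl z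
  -- algebraMap a * algebraMap w = algebraMap b * algebraMap c in L
  have h4 : algebraMap R L a = algebraMap R L b * IsLocalization.mk' L c w := by
    apply IsFractionRing.injective L K
    rw [map_mul, hz]
    show ι a = ι b * (ι a / ι b)
    rw [mul_div_cancel₀ _ hbK]
  have h5 : algebraMap R L (w.1 * a) = algebraMap R L (b * c) := by
    rw [map_mul, map_mul, h4, mul_comm (algebraMap R L w.1), mul_assoc,
      IsLocalization.mk'_spec]
  obtain ⟨v, hv⟩ := (IsLocalization.eq_iff_exists p.primeCompl L).mp h5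
  refine ⟨v.1 * w.1, v.1 * c, p.primeCompl.mul_mem v.2 w.2, ?_⟩
  rw [mul_assoc, hv]
  ring

theorem isIntegrallyClosed_of_nProp [IsDomain L] (hN : NProp p) : IsIntegrallyClosed L := by
  let ι : R →+* K := algebraMap R K
  have hι : ∀ r, ι r = algebraMap L K (algebraMap R L r) := IsScalarTower.algebraMap_apply R L K
  rw [isIntegrallyClosed_iff K]
  intro x hx
  -- clear denominators in the integrality equation
  obtain ⟨m, hm⟩ := IsIntegral.exists_multiple_integral_of_isLocalization p.primeCompl x hx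
  obtain ⟨P, hP, hPx⟩ := hm
  -- write `x` as a fraction of images of elements of `R`
  obtain ⟨a', b', hb', rfl⟩ := IsFractionRing.div_surjective (A := L) x
  obtain ⟨a, s, rfl⟩ := IsLocalization.exists_mk'_eq p.primeCompl a'
  obtain ⟨b, t, rfl⟩ := IsLocalization.exists_mk'_eq p.primeCompl b'
  have hsK : ι s.1 ≠ 0 := by
    intro h0
    have := (_root_.map_eq_zero_iff (algebraMap L K) (IsFractionRing.injective L K)).mp h0
    exact (isUnit_map p s.2).ne_zero this
  have htK : ι t.1 ≠ 0 := by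
    intro h0
    have := (_root_.map_eq_zero_iff (algebraMap L K) (IsFractionRing.injective L K)).mp h0
    exact (isUnit_map p t.2).ne_zero this
  have hbL : algebraMap R L b ≠ 0 := by
    intro h0
    apply nonZeroDivisors.ne_zero hb'
    rw [IsLocalization.mk'_eq_zero_iff]
    obtain ⟨v, hv, hvb⟩ := (algMap_eq_zero_iff p b).mp h0
    exact ⟨⟨v, hv⟩, hvb⟩
  have hbK : ι b ≠ 0 := by
    intro h0
    exact hbL ((_root_.map_eq_zero_iff (algebraMap L K) (IsFractionRing.injective L K)).mp h0)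
  have hmkA : algebraMap L K (IsLocalization.mk' L a s) = ι a / ι s.1 := by
    rw [eq_div_iff hsK]
    show algebraMap L K (IsLocalization.mk' L a s) * algebraMap L K (algebraMap R L s.1) = _
    rw [← map_mul, IsLocalization.mk'_spec]
    rfl
  have hmkB : algebraMap L K (IsLocalization.mk' L b t) = ι b / ι t.1 := by
    rw [eq_div_iff htK]
    show algebraMap L K (IsLocalization.mk' L b t) * algebraMap L K (algebraMap R L t.1) = _
    rw [← map_mul, IsLocalization.mk'_spec]
    rfl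
  -- x = ι (a t) / ι (b s)
  have hxeq : algebraMap L K (IsLocalization.mk' L a s) / algebraMap L K (IsLocalization.mk' L b t)
      = ι (a * t.1) / ι (b * s.1) := by
    rw [hmkA, hmkB, map_mul, map_mul, div_div_div_eq, mul_comm (ι s.1)]
  rw [hxeq] at hPx ⊢
  -- the relation in `R`
  have hbsK : ι (b * s.1) ≠ 0 := by rw [map_mul]; exact mul_ne_zero hbK hsK
  have hE1 : eval₂ ι (ι (m.1 * (a * t.1))) (P.scaleRoots (b * s.1)) = 0 := by
    have h3 := Polynomial.scaleRoots_eval₂_mul (p := P) ι (ι (m.1 * (a * t.1)) / ι (b * s.1))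
      (b * s.1)
    rw [mul_div_cancel₀ _ hbsK] at h3
    rw [h3]
    have h4 : eval₂ ι (ι (m.1 * (a * t.1)) / ι (b * s.1)) P = 0 := by
      have h5 : m • (ι (a * t.1) / ι (b * s.1)) = ι (m.1 * (a * t.1)) / ι (b * s.1) := by
        rw [Submonoid.smul_def, Algebra.smul_def, map_mul (f := ι) m.1, mul_div_assoc]
      rw [← h5]
      exact hPx
    rw [h4, mul_zero]
  have hE0 : algebraMap R L ((P.scaleRoots (b * s.1)).eval (m.1 * (a * t.1))) = 0 := by
    apply IsFractionRing.injective L K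
    rw [map_zero]
    rw [Polynomial.eval₂_at_apply, hι] at hE1
    exact hE1
  obtain ⟨u, hu, huE⟩ := (algMap_eq_zero_iff p _).mp hE0
  have hbs : ∀ v, v ∉ p → v * (b * s.1) ≠ 0 := by
    intro v hv h0
    have : ι (v * (b * s.1)) = 0 := by rw [h0, map_zero]
    rw [map_mul] at this
    rcases mul_eq_zero.mp this with h6 | h6
    · have := (_root_.map_eq_zero_iff (algebraMap L K) (IsFractionRing.injective L K)).mp h6
      exact (isUnit_map p hv).ne_zero this
    · exact hbsK h6
  obtain ⟨w, z, hw, hwz⟩ := hN (m.1 * (a * t.1)) (b * s.1) P hP hbs ⟨u, hu, huE⟩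
  -- x = ι z / ι (w m)
  have hwm : w * m.1 ∉ p := fun h => (Ideal.IsPrime.mem_or_mem ‹p.IsPrime› h).elim hw m.2
  refine ⟨IsLocalization.mk' L z (⟨w * m.1, hwm⟩ : p.primeCompl), ?_⟩
  have hwmK : ι (w * m.1) ≠ 0 := by
    intro h0
    have := (_root_.map_eq_zero_iff (algebraMap L K) (IsFractionRing.injective L K)).mp h0
    exact (isUnit_map p hwm).ne_zero this
  have hmkZ : algebraMap L K (IsLocalization.mk' L z (⟨w * m.1, hwm⟩ : p.primeCompl)) = ι z / ι (w * m.1) := by
    rw [eq_div_iff hwmK]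
    show algebraMap L K (IsLocalization.mk' L z (⟨w * m.1, hwm⟩ : p.primeCompl)) *
      algebraMap L K (algebraMap R L (w * m.1)) = _
    rw [← map_mul, IsLocalization.mk'_spec (M := p.primeCompl) L z (⟨w * m.1, hwm⟩ : p.primeCompl)]
    rfl
  rw [hmkZ, div_eq_div_iff hwmK hbsK, ← map_mul, ← map_mul]
  congr 1
  calc z * (b * s.1) = b * s.1 * z := by ring
    _ = w * (m.1 * (a * t.1)) := hwz.symm
    _ = a * t.1 * (w * m.1) := by ring

section DirectLimit

variable {ι : Type*} [Preorder ι] [Nonempty ι] [IsDirected ι (· ≤ ·)] (G : ι → Type*)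
  [∀ i, CommRing (G i)] (f : ∀ i j, i ≤ j → G i →+* G j) [DirectedSystem G fun i j h => f i j h]

local notation "RR" => Ring.DirectLimit G fun i j h => f i j h
local notation "φ" => Ring.DirectLimit.of G (fun i j h => f i j h)

theorem exists_of₃ (a b c : RR) : ∃ (i : ι) (a' b' c' : G i), φ i a' = a ∧ φ i b' = b ∧ φ i c' = c := by
  obtain ⟨i, a', rfl⟩ := Ring.DirectLimit.exists_of a
  obtain ⟨j, b', rfl⟩ := Ring.DirectLimit.exists_of b
  obtain ⟨k, c', rfl⟩ := Ring.DirectLimit.exists_of c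
  obtain ⟨l, hil, hjl⟩ := exists_ge_ge i j
  obtain ⟨m, hlm, hkm⟩ := exists_ge_ge l k
  exact ⟨m, f i m (hil.trans hlm) a', f j m (hjl.trans hlm) b', f k m hkm c',
    Ring.DirectLimit.of_f _ _, Ring.DirectLimit.of_f _ _, Ring.DirectLimit.of_f _ _⟩

theorem dProp_directLimit (p : Ideal RR) [p.IsPrime] (h : ∀ i, DProp (p.comap (φ i))) :
    DProp p := by
  intro a b ⟨u, hu, hE⟩
  obtain ⟨k, a', b', u', rfl, rfl, rfl⟩ := exists_of₃ G f a b u
  rw [← map_mul, ← map_mul] at hE
  obtain ⟨l, hkl, hl⟩ := Ring.DirectLimit.of.zero_exact hE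
  rw [map_mul, map_mul] at hl
  have hu'' : f k l hkl u' ∉ p.comap (φ l) := by
    rw [Ideal.mem_comap, Ring.DirectLimit.of_f]
    exact hu
  rcases h l (f k l hkl a') (f k l hkl b') ⟨_, hu'', hl⟩ with ⟨v, hv, hva⟩ | ⟨v, hv, hvb⟩
  · left
    refine ⟨φ l v, hv, ?_⟩
    rw [← Ring.DirectLimit.of_f hkl a', ← map_mul, hva, map_zero]
  · right
    refine ⟨φ l v, hv, ?_⟩
    rw [← Ring.DirectLimit.of_f hkl b', ← map_mul, hvb, map_zero]

theorem nProp_directLimit (p : Ideal RR) [p.IsPrime] (h : ∀ i, NProp (p.comap (φ i))) :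
    NProp p := by
  intro a b P hP hb ⟨u, hu, hE⟩
  haveI hnt : Nontrivial RR :=
    ⟨⟨0, 1, fun h01 => (‹p.IsPrime›.ne_top) (by
      rw [Ideal.eq_top_iff_one, ← h01]; exact p.zero_mem)⟩⟩
  obtain ⟨i, a₀, b₀, u₀, rfl, rfl, rfl⟩ := exists_of₃ G f a b u
  obtain ⟨j, P₀, hP₀⟩ := Ring.DirectLimit.Polynomial.exists_of P
  obtain ⟨k, hik, hjk⟩ := exists_ge_ge i j
  have hlifts : P ∈ Polynomial.lifts (φ k) := by
    rw [Polynomial.mem_lifts]
    refine ⟨P₀.map (f j k hjk), ?_⟩
    rw [Polynomial.map_map, ← hP₀]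
    congr 1
    ext x
    exact Ring.DirectLimit.of_f hjk x
  obtain ⟨P', hP', -, hP'm⟩ := Polynomial.lifts_and_degree_eq_and_monic hlifts hP
  subst hP'
  -- everything at stage `k`
  have hk1 : φ k (f i k hik u₀ * ((P'.scaleRoots (f i k hik b₀)).eval (f i k hik a₀))) = 0 := by
    rw [map_mul, ← Polynomial.eval_map_apply, Polynomial.map_scaleRoots _ _ _
      (by rw [hP'm.leadingCoeff, map_one]; exact one_ne_zero),
      Ring.DirectLimit.of_f, Ring.DirectLimit.of_f, Ring.DirectLimit.of_f]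
    exact hE
  obtain ⟨l, hkl, hl⟩ := Ring.DirectLimit.of.zero_exact hk1
  have hpl : (p.comap (φ l)).IsPrime := inferInstance
  haveI hntl : Nontrivial (G l) :=
    ⟨⟨0, 1, fun h01 => hpl.ne_top (by
      rw [Ideal.eq_top_iff_one, ← h01]; exact (p.comap (φ l)).zero_mem)⟩⟩
  have hil : i ≤ l := hik.trans hkl
  have hl' : f i l hil u₀ * ((P'.map (f k l hkl)).scaleRoots (f i l hil b₀)).eval (f i l hil a₀)
      = 0 := by
    rw [map_mul, ← Polynomial.eval_map_apply, Polynomial.map_scaleRoots _ _ _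
      (by rw [hP'm.leadingCoeff, map_one]; exact one_ne_zero)] at hl
    have e1 : ∀ x : G i, f k l hkl (f i k hik x) = f i l hil x := fun x =>
      DirectedSystem.map_map (f := fun i j h => f i j h) hik hkl x
    rw [e1, e1, e1] at hl
    exact hl
  have hu'' : f i l hil u₀ ∉ p.comap (φ l) := by
    rw [Ideal.mem_comap, Ring.DirectLimit.of_f]
    exact hu
  have hb'' : ∀ v, v ∉ p.comap (φ l) → v * f i l hil b₀ ≠ 0 := by
    intro v hv h0
    apply hb (φ l v) hv
    rw [← Ring.DirectLimit.of_f hil b₀, ← map_mul, h0, map_zero]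
  obtain ⟨v, z, hv, hvz⟩ := h l (f i l hil a₀) (f i l hil b₀) (P'.map (f k l hkl))
    (hP'm.map _) hb'' ⟨_, hu'', hl'⟩
  refine ⟨φ l v, φ l z, hv, ?_⟩
  rw [← Ring.DirectLimit.of_f hil a₀, ← Ring.DirectLimit.of_f hil b₀, ← map_mul, hvz, map_mul]

end DirectLimit

end Groth.Agent.Helper4.NormalLocal
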