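import Groth.Agent.Helper4.GeomRedPt
import Groth.Agent.S4628
import Mathlib

set_option autoImplicit false
universe u
open CategoryTheory CategoryTheory.Limits AlgebraicGeometry Opposite TensorProduct

namespace Groth.Agent.Helper4.GeomRedPt2
open Groth.Agent.Helper4.GeomRedPt
open Groth.Agent.Helper5.GeomRed Groth.Agent.Helper5.StalkRed

variable {k : Type u} [Field k]

theorem redOver_Spec' (R : CommRingCat.{u}) (ψ : k →+* R)
    (hR : letI := ψ.toAlgebra; Algebra.IsGeometricallyReduced k R) (r : ↥(Spec R))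
    (K : Type u) [Field K] [Algebra k K] : RedOver (Spec.map (CommRingCat.ofHom ψ)) r K := by
  letI := ψ.toAlgebra
  exact redOver_Spec_of_isGeometricallyReduced R r K

/-- Geometric reducedness at a point passes to generizations. -/
theorem geomReducedAt_of_specializes {X : Scheme.{u}} (f : X ⟶ Spec (CommRingCat.of k)) (x x' : X)
    (hs : x' ⤳ x) (h : FBase.IsGeomReducedAt f x) : FBase.IsGeomReducedAt f x' := by
  obtain ⟨φ, hφ⟩ := Spec.map_surjective (X.fromSpecStalk x ≫ f)
  obtain ⟨ψ, rfl⟩ : ∃ ψ : k →+* X.presheaf.stalk x, φ = CommRingCat.ofHom ψ := ⟨φ.hom, rfl⟩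
  have hR := (geomReducedAt_iff_stalk f x ψ hφ).mp h
  haveI : Flat (X.fromSpecStalk x) := flat_fromSpecStalk X x
  have hmem : x' ∈ Set.range (X.fromSpecStalk x) := by
    rw [Scheme.range_fromSpecStalk]; exact hs
  obtain ⟨r, hr⟩ := hmem
  rw [geomReducedAt_iff_redOver]
  intro K _ _
  have h1 : RedOver (Spec.map (CommRingCat.ofHom ψ)) r K := redOver_Spec' _ ψ hR r K
  rw [hφ] at h1
  have h2 := redOver_of_comp_flat f (X.fromSpecStalk x) r K h1
  rwa [hr] at h2

theorem geometricallyReduced_SpecMap' (R : CommRingCat.{u}) (ψ : k →+* R)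
    (hR : letI := ψ.toAlgebra; Algebra.IsGeometricallyReduced k R) :
    GeometricallyReduced (Spec.map (CommRingCat.ofHom ψ)) := by
  letI := ψ.toAlgebra
  exact Groth.Agent.S2536.geometricallyReduced_SpecMap (k := k) R

/-- If `X` is geometrically reduced at `x` and `Y` is reduced, the local rings of `X ×_k Y` at
points over `x` are reduced. -/
theorem isReduced_stalk_prod_of_geomReducedAt {X Y : Scheme.{u}}
    (fX : X ⟶ Spec (CommRingCat.of k)) (fY : Y ⟶ Spec (CommRingCat.of k))
    [AlgebraicGeometry.IsReduced Y] (x : X) (hx : FBase.IsGeomReducedAt fX x)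
    (z : ↥(pullback fX fY)) (hz : (pullback.fst fX fY) z = x) :
    _root_.IsReduced ((pullback fX fY).presheaf.stalk z) := by
  obtain ⟨φ, hφ⟩ := Spec.map_surjective (X.fromSpecStalk x ≫ fX)
  obtain ⟨ψ, rfl⟩ : ∃ ψ : k →+* X.presheaf.stalk x, φ = CommRingCat.ofHom ψ := ⟨φ.hom, rfl⟩
  have hR := (geomReducedAt_iff_stalk fX x ψ hφ).mp hx
  haveI : Flat (X.fromSpecStalk x) := flat_fromSpecStalk X x
  haveI hgr : GeometricallyReduced (Spec.map (CommRingCat.ofHom ψ)) :=
    geometricallyReduced_SpecMap' _ ψ hR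
  have hred : AlgebraicGeometry.IsReduced (pullback (Spec.map (CommRingCat.ofHom ψ)) fY) :=
    Groth.Agent.S4628.result (Spec.map (CommRingCat.ofHom ψ)) fY
  rw [hφ] at hred
  exact isReduced_stalk_pullback_of_flat fX fY (X.fromSpecStalk x)
    (IsLocalRing.closedPoint (X.presheaf.stalk x)) (fun y _ => inferInstance) z
    (hz.trans Scheme.fromSpecStalk_closedPoint.symm)

end Groth.Agent.Helper4.GeomRedPt2
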