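import Mathlib
import Groth.Agent.Helper2.SepTensorReg

set_option autoImplicit false
universe u
open CategoryTheory CategoryTheory.Limits AlgebraicGeometry Opposite

namespace Groth.Agent.Helper4.SmReg

/-- a scheme smooth over a field is locally noetherian with regular local rings -/
theorem regular_of_smooth_field (k : Type u) [Field k] {W : Scheme.{u}}
    (f : W ⟶ Spec (CommRingCat.of k)) [Smooth f] :
    IsLocallyNoetherian W ∧ ∀ w : ↥W, IsRegularLocalRing ↥(W.presheaf.stalk w) := by
  haveI : IsLocallyNoetherian W := LocallyOfFiniteType.isLocallyNoetherian f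
  refine ⟨inferInstance, fun w => ?_⟩
  obtain ⟨A, hA, hw, -⟩ := exists_isAffineOpen_mem_and_subset (x := w) (U := (⊤ : W.Opens)) trivial
  have h1 : (f.appLE ⊤ A le_top).hom.Smooth :=
    HasRingHomProperty.appLE (P := @Smooth) f inferInstance ⟨⊤, isAffineOpen_top _⟩ ⟨A, hA⟩ _
  let φ : k →+* Γ(W, A) := ((Scheme.ΓSpecIso (CommRingCat.of k)).inv ≫ f.appLE ⊤ A le_top).hom
  have h2 : φ.Smooth := by
    have := RingHom.Smooth.respectsIso.{u}
    exact this.2 _ (Scheme.ΓSpecIso (CommRingCat.of k)).symm.commRingCatIsoToRingEquiv h1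
  algebraize [φ]
  haveI : Algebra.Smooth k Γ(W, A) := h2
  haveI : IsRegularRing Γ(W, A) :=
    Groth.Agent.Helper2.SepTensorReg.isRegularRing_of_formallySmooth k Γ(W, A)
  letI : Algebra Γ(W, A) (W.presheaf.stalk w) :=
    TopCat.Presheaf.algebra_section_stalk W.presheaf ⟨w, hw⟩
  haveI : IsLocalization.AtPrime (W.presheaf.stalk w) (hA.primeIdealOf ⟨w, hw⟩).asIdeal :=
    hA.isLocalization_stalk ⟨w, hw⟩
  haveI : IsRegularLocalRing (Localization.AtPrime (hA.primeIdealOf ⟨w, hw⟩).asIdeal) :=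
    inferInstance
  exact IsRegularLocalRing.of_ringEquiv
    (IsLocalization.algEquiv (hA.primeIdealOf ⟨w, hw⟩).asIdeal.primeCompl
      (Localization.AtPrime (hA.primeIdealOf ⟨w, hw⟩).asIdeal) (W.presheaf.stalk w)).toRingEquiv

end Groth.Agent.Helper4.SmReg
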