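import Mathlib
import Groth.Prelude.Def_RelSpec
import Groth.Agent.Helper4.SubExt3
import Groth.Agent.Helper4.SubSum
import Groth.Agent.Helper4.FinLocFree5

set_option autoImplicit false
universe u
open CategoryTheory CategoryTheory.Limits AlgebraicGeometry TopologicalSpace Opposite

namespace Groth.Agent.Helper4.QCAlgGen
open Groth.Agent.Helper4.StalkDict Groth.Agent.Helper4 Groth.Agent.Helper4.QcqsMod

variable {X : Scheme.{u}} (B : RelSpec.QCAlg X)

/-- sections of `B.toModule` are the sections of `B` -/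
abbrev toB {U : X.Opens} (m : Γ(B.toModule, U)) : B.presheaf.obj (op U) := m

abbrev ofB {U : X.Opens} (b : B.presheaf.obj (op U)) : Γ(B.toModule, U) := b

theorem smul_def {U : X.Opens} (r : Γ(X, U)) (m : Γ(B.toModule, U)) :
    r • m = ofB B ((B.str.app (op U)).hom r * toB B m) := rfl

theorem map_def {U V : X.Opens} (i : op U ⟶ op V) (m : Γ(B.toModule, U)) :
    B.toModule.presheaf.map i m = ofB B ((B.presheaf.map i).hom (toB B m)) := rfl

theorem str_res {U V : X.Opens} (i : op U ⟶ op V) (r : Γ(X, U)) :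
    (B.presheaf.map i).hom ((B.str.app (op U)).hom r) =
      (B.str.app (op V)).hom ((X.presheaf.map i).hom r) := by
  have h := congrArg (fun ψ => ψ.hom r) (B.str.naturality i)
  simpa using h.symm

theorem isLocalizingOn_toModule {U : X.Opens} (hU : IsAffineOpen U) :
    IsLocalizingOn B.toModule U := by
  constructor
  · intro f m hm
    letI := (B.presheaf.map (homOfLE (X.basicOpen_le f)).op).hom.toAlgebra
    haveI : IsLocalization.Away ((B.str.app (op U)).hom f)
        (B.presheaf.obj (op (X.basicOpen f))) := B.isQC U hU f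
    have h0 : algebraMap (B.presheaf.obj (op U)) (B.presheaf.obj (op (X.basicOpen f)))
        (toB B m) = 0 := hm
    obtain ⟨⟨c, n, rfl⟩, hc⟩ := (IsLocalization.map_eq_zero_iff
      (Submonoid.powers ((B.str.app (op U)).hom f)) _ _).mp h0
    refine ⟨n, ?_⟩
    rw [smul_def, map_pow]
    exact hc
  · intro f t
    letI := (B.presheaf.map (homOfLE (X.basicOpen_le f)).op).hom.toAlgebra
    haveI : IsLocalization.Away ((B.str.app (op U)).hom f)
        (B.presheaf.obj (op (X.basicOpen f))) := B.isQC U hU f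
    obtain ⟨⟨m, ⟨c, n, rfl⟩⟩, hm⟩ := IsLocalization.surj
      (Submonoid.powers ((B.str.app (op U)).hom f)) (toB B t)
    refine ⟨n, ofB B m, ?_⟩
    rw [smul_def, map_def]
    have h1 : algebraMap (B.presheaf.obj (op U)) (B.presheaf.obj (op (X.basicOpen f)))
        (((B.str.app (op U)).hom f) ^ n) =
        (B.str.app (op (X.basicOpen f))).hom
          ((X.presheaf.map (homOfLE (X.basicOpen_le f)).op).hom (f ^ n)) := by
      rw [← map_pow]
      exact str_res B _ _
    change ofB B (_ * toB B t) = ofB B (algebraMap _ _ m)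
    rw [← hm, ← h1, mul_comm]

instance isQuasicoherent_toModule : B.toModule.IsQuasicoherent := by
  apply QcohGlue.isQuasicoherent_of_isLocalizingOn
  intro x
  obtain ⟨U, hU, hx⟩ := QcohLimits.exists_affine_nhd x
  exact ⟨U, hU, hx, isLocalizingOn_toModule B hU⟩

section Gen

variable {E : X.Modules} (j : E ⟶ B.toModule)

/-- the image of a section of `E` in `B` -/
noncomputable abbrev jB (T : X.Opens) (e : E.val.obj (op T)) : B.presheaf.obj (op T) :=
  (j.val.app (op T)).hom e

/-- the subring of `B(T)` generated by the functions and the sections of `E` -/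
noncomputable def Gen (T : X.Opens) : Subring (B.presheaf.obj (op T)) :=
  Subring.closure (Set.range (B.str.app (op T)).hom ∪ Set.range (jB B j T))

theorem str_mem_Gen (T : X.Opens) (r : Γ(X, T)) : (B.str.app (op T)).hom r ∈ Gen B j T :=
  Subring.subset_closure (Or.inl ⟨r, rfl⟩)

theorem jB_mem_Gen (T : X.Opens) (e : E.val.obj (op T)) : jB B j T e ∈ Gen B j T :=
  Subring.subset_closure (Or.inr ⟨e, rfl⟩)

theorem jB_res {T T' : X.Opens} (i : op T ⟶ op T') (e : E.val.obj (op T)) :
    (B.presheaf.map i).hom (jB B j T e) = jB B j T' (E.val.map i e) :=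
  (PresheafOfModules.naturality_apply j.val i e).symm

theorem jB_smul (T : X.Opens) (r : Γ(X, T)) (e : E.val.obj (op T)) :
    jB B j T ((show X.ringCatSheaf.obj.obj (op T) from r) • e) =
      (B.str.app (op T)).hom r * jB B j T e :=
  ((j.val.app (op T)).hom.map_smul _ e)

theorem res_mem_Gen {T T' : X.Opens} (i : op T ⟶ op T') (b : B.presheaf.obj (op T))
    (hb : b ∈ Gen B j T) : (B.presheaf.map i).hom b ∈ Gen B j T' := by
  have hle : Gen B j T ≤ (Gen B j T').comap (B.presheaf.map i).hom := by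
    apply Subring.closure_le.mpr
    rintro _ (⟨r, rfl⟩ | ⟨e, rfl⟩)
    · change (B.presheaf.map i).hom ((B.str.app (op T)).hom r) ∈ Gen B j T'
      rw [str_res]
      exact str_mem_Gen B j T' _
    · change (B.presheaf.map i).hom (jB B j T e) ∈ Gen B j T'
      rw [jB_res]
      exact jB_mem_Gen B j T' _
  exact hle hb

end Gen

section Gen2

variable {E : X.Modules} (j : E ⟶ B.toModule)

/-- claim A: generation passes to basic opens -/
theorem Gen_basicOpen_eq_top {U : X.Opens} (hU : IsAffineOpen U) (hG : Gen B j U = ⊤)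
    (g : Γ(X, U)) : Gen B j (X.basicOpen g) = ⊤ := by
  rw [eq_top_iff]
  intro b _
  letI := (B.presheaf.map (homOfLE (X.basicOpen_le g)).op).hom.toAlgebra
  haveI : IsLocalization.Away ((B.str.app (op U)).hom g)
      (B.presheaf.obj (op (X.basicOpen g))) := B.isQC U hU g
  obtain ⟨⟨b', ⟨c, n, rfl⟩⟩, hb'⟩ := IsLocalization.surj
    (Submonoid.powers ((B.str.app (op U)).hom g)) b
  -- the restriction of `g` is a unit
  have hunit : IsUnit ((X.presheaf.map (homOfLE (X.basicOpen_le g)).op).hom g) :=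
    RingedSpace.isUnit_res_basicOpen _ g
  obtain ⟨u, hu⟩ := hunit
  have h1 : algebraMap (B.presheaf.obj (op U)) (B.presheaf.obj (op (X.basicOpen g)))
      ((B.str.app (op U)).hom g) = (B.str.app (op (X.basicOpen g))).hom (u : Γ(X, X.basicOpen g)) := by
    rw [hu]
    exact str_res B _ _
  have h2 : (B.str.app (op (X.basicOpen g))).hom (u : Γ(X, X.basicOpen g)) *
      (B.str.app (op (X.basicOpen g))).hom ((u⁻¹ : (Γ(X, X.basicOpen g))ˣ) : Γ(X, X.basicOpen g)) = 1 := by
    rw [← map_mul, Units.mul_inv, map_one]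
  have h3 : b = algebraMap (B.presheaf.obj (op U)) (B.presheaf.obj (op (X.basicOpen g))) b' *
      ((B.str.app (op (X.basicOpen g))).hom
        ((u⁻¹ : (Γ(X, X.basicOpen g))ˣ) : Γ(X, X.basicOpen g))) ^ n := by
    rw [← hb']
    simp only [map_pow, h1]
    rw [mul_assoc, ← mul_pow, h2, one_pow, mul_one]
  rw [h3]
  refine Subring.mul_mem _ ?_ (Subring.pow_mem _ (str_mem_Gen B j _ _) n)
  exact res_mem_Gen B j (homOfLE (X.basicOpen_le g)).op b' (by rw [hG]; trivial)

end Gen2

section Gen3

variable {E : X.Modules} (j : E ⟶ B.toModule)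

set_option maxHeartbeats 800000 in
/-- claim B: generation over a basic open gives generation up to a power of `f` -/
theorem exists_pow_mul_mem_Gen [E.IsQuasicoherent] {U : X.Opens} (hU : IsAffineOpen U)
    (f : Γ(X, U)) (hG : Gen B j (X.basicOpen f) = ⊤) (b : B.presheaf.obj (op U)) :
    ∃ n : ℕ, (B.str.app (op U)).hom f ^ n * b ∈ Gen B j U := by
  let D := X.basicOpen f
  let i : op U ⟶ op D := (homOfLE (X.basicOpen_le f)).op
  let res : B.presheaf.obj (op U) →+* B.presheaf.obj (op D) := (B.presheaf.map i).hom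
  let sf : B.presheaf.obj (op U) := (B.str.app (op U)).hom f
  let φ : B.presheaf.obj (op D) := res sf
  have hφ : φ = (B.str.app (op D)).hom ((X.presheaf.map i).hom f) := str_res B i f
  have key : ∀ z ∈ Gen B j D, ∃ n : ℕ, ∃ s ∈ Gen B j U, φ ^ n * z = res s := by
    intro z hz
    induction hz using Subring.closure_induction with
    | mem x hx =>
      rcases hx with ⟨c, rfl⟩ | ⟨e, rfl⟩
      · letI := (X.presheaf.map i).hom.toAlgebra
        haveI : IsLocalization.Away f Γ(X, D) := hU.isLocalization_basicOpen f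
        obtain ⟨⟨γ, ⟨_, n, rfl⟩⟩, hγ⟩ := IsLocalization.surj (Submonoid.powers f) c
        refine ⟨n, (B.str.app (op U)).hom γ, str_mem_Gen B j U γ, ?_⟩
        have h1 : res ((B.str.app (op U)).hom γ) =
            (B.str.app (op D)).hom ((X.presheaf.map i).hom γ) := str_res B i γ
        rw [h1, hφ, ← map_pow, ← map_mul]
        congr 1
        have h2 : c * (X.presheaf.map i).hom (f ^ n) = (X.presheaf.map i).hom γ := hγ
        rw [← h2, map_pow, mul_comm]
      · obtain ⟨n, m, hm⟩ := (isLocalizingOn_of_isAffineOpen E hU).surj f e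
        refine ⟨n, jB B j U m, jB_mem_Gen B j U m, ?_⟩
        have h1 : res (jB B j U m) = jB B j D (E.val.map i m) := jB_res B j i m
        have h2 : jB B j D (E.val.map i m) =
            (B.str.app (op D)).hom ((X.presheaf.map i).hom (f ^ n)) * jB B j D e := by
          rw [← jB_smul]
          exact congrArg (jB B j D) hm.symm
        rw [h1, h2, hφ, map_pow, map_pow]
    | zero => exact ⟨0, 0, Subring.zero_mem _, by simp⟩
    | one => exact ⟨0, 1, Subring.one_mem _, by simp⟩
    | add x y hx hy ihx ihy =>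
      obtain ⟨n₁, s₁, hs₁, h₁⟩ := ihx
      obtain ⟨n₂, s₂, hs₂, h₂⟩ := ihy
      refine ⟨n₁ + n₂, sf ^ n₂ * s₁ + sf ^ n₁ * s₂, ?_, ?_⟩
      · exact Subring.add_mem _
          (Subring.mul_mem _ (Subring.pow_mem _ (str_mem_Gen B j U f) _) hs₁)
          (Subring.mul_mem _ (Subring.pow_mem _ (str_mem_Gen B j U f) _) hs₂)
      · rw [map_add, map_mul, map_mul, map_pow, map_pow, ← h₁, ← h₂]
        ring
    | neg x hx ihx =>
      obtain ⟨n, s, hs, h⟩ := ihx
      exact ⟨n, -s, Subring.neg_mem _ hs, by rw [map_neg, ← h]; ring⟩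
    | mul x y hx hy ihx ihy =>
      obtain ⟨n₁, s₁, hs₁, h₁⟩ := ihx
      obtain ⟨n₂, s₂, hs₂, h₂⟩ := ihy
      refine ⟨n₁ + n₂, s₁ * s₂, Subring.mul_mem _ hs₁ hs₂, ?_⟩
      rw [map_mul, ← h₁, ← h₂]
      ring
  obtain ⟨n, s, hs, hns⟩ := key (res b) (by rw [hG]; trivial)
  letI := res.toAlgebra
  haveI : IsLocalization.Away sf (B.presheaf.obj (op D)) := B.isQC U hU f
  have h0 : algebraMap (B.presheaf.obj (op U)) (B.presheaf.obj (op D)) (sf ^ n * b - s) = 0 := by
    change res (sf ^ n * b - s) = 0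
    rw [map_sub, map_mul, map_pow, hns, sub_self]
  obtain ⟨⟨c, m, rfl⟩, hc⟩ := (IsLocalization.map_eq_zero_iff (Submonoid.powers sf) _ _).mp h0
  refine ⟨m + n, ?_⟩
  have h1 : sf ^ (m + n) * b = sf ^ m * s := by
    have : sf ^ m * (sf ^ n * b - s) = 0 := hc
    rw [pow_add, mul_assoc]
    linear_combination this
  rw [h1]
  exact Subring.mul_mem _ (Subring.pow_mem _ (str_mem_Gen B j U f) _) hs

end Gen3

section Gen4

variable {E : X.Modules} (j : E ⟶ B.toModule)

/-- generation is local on an affine open -/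
theorem Gen_eq_top_of_local {U : X.Opens} (hU : IsAffineOpen U)
    (h : ∀ x ∈ U, ∃ f : Γ(X, U), x ∈ X.basicOpen f ∧
      ∀ b : B.presheaf.obj (op U), ∃ n : ℕ, (B.str.app (op U)).hom f ^ n * b ∈ Gen B j U) :
    Gen B j U = ⊤ := by
  rw [eq_top_iff]
  intro b _
  let I : Ideal Γ(X, U) :=
    { carrier := {r | (B.str.app (op U)).hom r * b ∈ Gen B j U}
      add_mem' := by
        intro r r' hr hr'
        change (B.str.app (op U)).hom (r + r') * b ∈ Gen B j U
        rw [map_add, add_mul]
        exact Subring.add_mem _ hr hr'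
      zero_mem' := by
        change (B.str.app (op U)).hom 0 * b ∈ Gen B j U
        rw [map_zero, zero_mul]
        exact Subring.zero_mem _
      smul_mem' := by
        intro c r hr
        change (B.str.app (op U)).hom (c * r) * b ∈ Gen B j U
        rw [map_mul, mul_assoc]
        exact Subring.mul_mem _ (str_mem_Gen B j U c) hr }
  have hI : I = ⊤ := by
    by_contra hne
    obtain ⟨m, hm, hIm⟩ := Ideal.exists_le_maximal I hne
    obtain ⟨y, hy, hyP⟩ := FinLocFree5.exists_point_of_prime hU ⟨m, hm.isPrime⟩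
    obtain ⟨f, hyf, hf⟩ := h y hy
    obtain ⟨n, hn⟩ := hf b
    have hfn : f ^ n ∈ I := by
      change (B.str.app (op U)).hom (f ^ n) * b ∈ Gen B j U
      rw [map_pow]
      exact hn
    have hfm : f ∈ m := hm.isPrime.mem_of_pow_mem n (hIm hfn)
    have := (mem_basicOpen_iff_notMem_primeIdealOf hU y hy f).mp hyf
    rw [hyP] at this
    exact this hfm
  have h1 : (1 : Γ(X, U)) ∈ I := by rw [hI]; trivial
  have h2 : (B.str.app (op U)).hom 1 * b ∈ Gen B j U := h1
  rwa [map_one, one_mul] at h2

end Gen4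

section Main

set_option maxHeartbeats 800000 in
/-- a quasi-coherent algebra of finite type on a qcqs scheme is generated by a quasi-coherent
submodule of finite type -/
theorem exists_generating_submodule [CompactSpace X] [QuasiSeparatedSpace X]
    (hB : ∀ U : X.affineOpens, (B.str.app (op (U : X.Opens))).hom.FiniteType) :
    ∃ (E : X.Modules) (j : E ⟶ B.toModule), Mono j ∧ E.IsQuasicoherent ∧
      SheafOfModules.IsFiniteType (R := X.ringCatSheaf) E ∧
      ∀ U : X.affineOpens, Gen B j U.1 = ⊤ := by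
  classical
  obtain ⟨s, hs, htop⟩ := isCompact_iff_finite_and_eq_biUnion_affineOpens.mp
    (show IsCompact ((⊤ : X.Opens) : Set X) from isCompact_univ)
  have hgen : ∀ W : X.affineOpens, ∃ t : Finset (B.presheaf.obj (op W.1)),
      Subring.closure (Set.range (B.str.app (op W.1)).hom ∪ (t : Set _)) = ⊤ := by
    intro W
    letI := (B.str.app (op W.1)).hom.toAlgebra
    have hft : Algebra.FiniteType Γ(X, W.1) (B.presheaf.obj (op W.1)) := hB W
    obtain ⟨t, ht⟩ := hft.out
    refine ⟨t, ?_⟩
    have h1 := Algebra.adjoin_eq_ring_closure (R := Γ(X, W.1)) (t : Set (B.presheaf.obj (op W.1)))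
    rw [ht] at h1
    exact h1.symm.trans rfl
  choose t ht using hgen
  haveI : Fintype s := hs.fintype
  let ι := Σ W : s, {b // b ∈ t W.1}
  let Uι : ι → X.Opens := fun a => a.1.1.1
  let sι : ∀ a : ι, B.toModule.val.obj (op (Uι a)) := fun a => a.2.1
  obtain ⟨E, j, hm, hq, hft, hsec⟩ := SubSum.exists_submodule_through_sections B.toModule Uι
    (fun a => a.1.1.2.isCompact) sι Finset.univ
  haveI := hq
  refine ⟨E, j, hm, hq, hft, ?_⟩
  have hW : ∀ W : X.affineOpens, W ∈ s → Gen B j W.1 = ⊤ := by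
    intro W hWs
    rw [eq_top_iff, ← ht W]
    apply Subring.closure_mono
    apply Set.union_subset_union_right
    intro b hb
    obtain ⟨g, hg⟩ := hsec ⟨⟨W, hWs⟩, ⟨b, hb⟩⟩ (Finset.mem_univ _)
    exact ⟨g, hg⟩
  intro U
  apply Gen_eq_top_of_local B j U.2
  intro x hxU
  have hx : x ∈ (⨆ i ∈ s, (i : X.Opens) : X.Opens) := by rw [← htop]; trivial
  obtain ⟨W, hxW⟩ := Opens.mem_iSup.mp hx
  obtain ⟨hWs, hxW⟩ := Opens.mem_iSup.mp hxW
  obtain ⟨f, g, hfg, hxf⟩ := exists_basicOpen_le_affine_inter U.2 W.2 x ⟨hxU, hxW⟩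
  refine ⟨f, hxf, ?_⟩
  apply exists_pow_mul_mem_Gen B j U.2 f
  rw [hfg]
  exact Gen_basicOpen_eq_top B j W.2 (hW W hWs) g

end Main

end Groth.Agent.Helper4.QCAlgGen
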