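import Mathlib
import Groth.Agent.Helper4.SN156
import Groth.Agent.Helper4.SN32
import Groth.Agent.Helper4.NApx80
import Groth.Agent.Helper1.SV1
import Groth.Prelude.Def_W4c2seshadriposJets

/-!
# Vanishing of `H^i(m_x^a ⊗ L^m)` for `i > 1` (S15254)
-/

set_option autoImplicit false
set_option linter.unusedSectionVars false
set_option linter.style.haveILetI false
universe u

open CategoryTheory CategoryTheory.Limits AlgebraicGeometry Opposite TopologicalSpace

namespace Groth.Agent.Helper4.SN

open Groth.Agent.Helper4.NApx82 Groth.Agent.Helper4.StalkDict Groth.Agent.Lead.Ref1B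
  Groth.Agent.Lead.StalkNhd Groth.Agent.Helper4.TensorInv Groth.Agent.Helper4.TensorAssoc
  Groth.Agent.Helper1.Dev

section Point

/-- a closed point has dimension zero -/
theorem dimLT_singleton {T : Type*} [TopologicalSpace T] (x : T) : DimLT ({x} : Set T) 1 := by
  intro S hS
  have hmin : IsMin S := by
    intro S' hS'
    have h1 : (S' : Set T) ⊆ {x} := (show (S' : Set T) ⊆ S from hS').trans hS
    obtain ⟨y, hy⟩ := S'.isIrreducible.nonempty
    have hyx : y = x := h1 hy
    intro z hz
    have hzx : z = x := hS hz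
    rw [hzx, ← hyx]
    exact hy
  have h0 : Order.height S = 0 := Order.height_eq_zero.mpr hmin
  rw [h0]
  exact_mod_cast Nat.one_pos

/-- S15254 -/
theorem main15254 (k : Type u) [Field k] (X : Scheme.{u})
    [X.Over (Spec (CommRingCat.of k))] [IsProper (X ↘ (Spec (CommRingCat.of k)))]
    (x : X) (hx : IsClosed ({x} : Set X)) (L : X.Modules) (hL : CohB1.IsAmple L) :
    ∃ m₀ : ℕ, ∀ m : ℕ, m₀ ≤ m → ∀ i : ℕ, 1 < i → ∀ a : ℕ,
      Subsingleton (Coh.HH X (CohB1.tensorMod (ClSub.idealMod ((W4c2seshadripos.pointIdeal x hx) ^ a))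
        (CohB1.tensorPow L m)) i) := by
  haveI := Groth.Agent.Helper4.NApx82.isNoetherian_of_proper k X
  have hO : Coh.IsCoh (Coh.structureModule X) := isCoh_structureModule X
  obtain ⟨m₀, hm₀⟩ := Groth.Agent.Helper1.SV.serre_vanishing k (X ↘ Spec (CommRingCat.of k)) hL
    (Coh.structureModule X) hO
  refine ⟨m₀, fun m hm i hi a => ?_⟩
  set Z := (W4c2seshadripos.pointIdeal x hx) ^ a with hZ
  have hLm := isInvertible_tensorPow hL.1 m
  have hcLm := Groth.Agent.Helper1.SerreFin.isCoh_of_isInvertible _ hLm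
  have hS' := Groth.Agent.Helper1.TwistExact.shortExact_map_tensorRightMod
    (idealSC_shortExact Z) (CohB1.tensorPow L m) hLm
  obtain ⟨j, rfl⟩ : ∃ j, i = j + 1 := ⟨i - 1, by omega⟩
  have hj : 1 ≤ j := by omega
  -- the quotient is supported at the point
  have hQ : Coh.IsCoh (ClSub.quotMod Z) := isCoh_quotMod Z
  have hQL : Coh.IsCoh (CohB1.tensorMod (ClSub.quotMod Z) (CohB1.tensorPow L m)) :=
    isCoh_tensorMod _ _ hQ hcLm
  have hsuppZ : (Z.support : Set X) ⊆ {x} := by
    rcases Nat.eq_zero_or_pos a with ha | ha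
    · rw [hZ, ha, pow_zero]
      simp
    · have h1 : Z.support = (W4c2seshadripos.pointIdeal x hx).support :=
        Scheme.IdealSheafData.support_pow _ a (by omega)
      rw [h1]
      unfold W4c2seshadripos.pointIdeal
      rw [Scheme.IdealSheafData.coe_support_vanishingIdeal]
      rfl
  have hsupp : CohB1.support (CohB1.tensorMod (ClSub.quotMod Z) (CohB1.tensorPow L m)) ⊆ {x} :=
    (Groth.Agent.Helper4.SN.support_tensorMod_subset_left _ _).trans
      ((support_quotMod_subset Z).trans hsuppZ)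
  have h3 : Subsingleton (Coh.HH X (CohB1.tensorMod (ClSub.quotMod Z) (CohB1.tensorPow L m)) j) :=
    subsingleton_HH_of_dimLT_support _ (Groth.Agent.S0020.result _ _ hQL.2) 1
      ((dimLT_singleton x).mono hsupp) j hj
  have h2 : Subsingleton (Coh.HH X (CohB1.tensorMod (Coh.structureModule X)
      (CohB1.tensorPow L m)) (j + 1)) := hm₀ m hm (j + 1) (by omega)
  have hex := Groth.Agent.Helper4.NApx80.exact_δ_f k _ hS' j
  have h3' : Subsingleton (Coh.HH X ((idealSC Z).map
      (DCoh.tensorRightMod (CohB1.tensorPow L m))).X₃ j) := h3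
  have h2' : Subsingleton (Coh.HH X ((idealSC Z).map
      (DCoh.tensorRightMod (CohB1.tensorPow L m))).X₂ (j + 1)) := h2
  have key : ∀ z : Coh.HH X ((idealSC Z).map
      (DCoh.tensorRightMod (CohB1.tensorPow L m))).X₁ (j + 1), z = 0 := by
    intro z
    obtain ⟨w, hw⟩ := (hex z).1 (Subsingleton.elim _ _)
    rw [← hw, Subsingleton.elim w 0, map_zero]
  exact ⟨fun u v => (key u).trans (key v).symm⟩

end Point

end Groth.Agent.Helper4.SN
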