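import Mathlib
import Groth.Agent.Helper4.SN161
import Groth.Agent.Helper4.IdealModProps
import Groth.Agent.Helper1.QH2
import Groth.Agent.Lead.PerfLib5

/-!
# The inclusion `idealMod I ⟶ idealMod J` for `I ≤ J`, and nonvanishing of `H¹(m_x^{a+1} ⊗ L^m)`
-/

set_option autoImplicit false
set_option linter.style.haveILetI false

namespace Groth.Agent.Helper4.SN

open CategoryTheory Limits AlgebraicGeometry Opposite TopologicalSpace
open Groth.Agent.Lead.LocLift Groth.Agent.Helper4.GenLoc

universe u

section IdealLE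

variable {X : Scheme.{u}} {I J : X.IdealSheafData}

theorem idealModι_comp_toSubscheme_of_le (h : I ≤ J) :
    ClSub.idealModι I ≫ ClSub.toSubscheme J = 0 := by
  apply Groth.Agent.Helper1.QH.modHom_ext_affine
  intro U hU
  ext m
  have h0 : (ClSub.toSubscheme I).app U ((kernel.ι (ClSub.toSubscheme I)).app U m) = 0 := by
    change ((kernel.ι (ClSub.toSubscheme I)) ≫ ClSub.toSubscheme I).app U m = 0
    rw [kernel.condition]; rfl
  have h1 : I.subschemeι.app U (toFn ((ClSub.idealModι I).app U m)) = 0 := h0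
  have h2 : toFn ((ClSub.idealModι I).app U m) ∈ I.ideal ⟨U, hU⟩ := by
    rw [← Scheme.IdealSheafData.ker_subschemeι_app I ⟨U, hU⟩]
    exact h1
  have h3 : toFn ((ClSub.idealModι I).app U m) ∈ J.ideal ⟨U, hU⟩ := h ⟨U, hU⟩ h2
  rw [← Scheme.IdealSheafData.ker_subschemeι_app J ⟨U, hU⟩] at h3
  exact h3

/-- the inclusion `idealMod I ⟶ idealMod J` for `I ≤ J` -/
noncomputable def idealModLE (h : I ≤ J) : ClSub.idealMod I ⟶ ClSub.idealMod J :=
  kernel.lift (ClSub.toSubscheme J) (ClSub.idealModι I) (idealModι_comp_toSubscheme_of_le h)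

theorem idealModLE_ι (h : I ≤ J) : idealModLE h ≫ ClSub.idealModι J = ClSub.idealModι I :=
  kernel.lift_ι _ _ _

instance mono_idealModLE (h : I ≤ J) : Mono (idealModLE h) := by
  haveI : Mono (ClSub.idealModι I) := inferInstanceAs (Mono (kernel.ι _))
  haveI : Mono (idealModLE h ≫ ClSub.idealModι J) := by rw [idealModLE_ι]; infer_instance
  exact mono_of_mono (idealModLE h) (ClSub.idealModι J)

/-- off the support of `I`, the inclusion is bijective on sections -/
theorem idealModLE_app_bijective (h : I ≤ J) (V : X.Opens)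
    (hV : (V : Set X) ⊆ (I.support : Set X)ᶜ) :
    Function.Bijective ((idealModLE h).app V) := by
  have hIJ : (J.support : Set X) ⊆ (I.support : Set X) :=
    Scheme.IdealSheafData.support_antitone h
  have h1 := (Groth.Agent.Helper4.IdealModProps.idealMod_props I.support.compl I
    (by simp)).1 V (by intro y hy; exact hV hy)
  have h2 := (Groth.Agent.Helper4.IdealModProps.idealMod_props J.support.compl J
    (by simp)).1 V (by intro y hy; exact fun hy' => hV hy (hIJ hy'))
  have h3 : (ClSub.idealModι J).app V ∘ (idealModLE h).app V = (ClSub.idealModι I).app V := by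
    funext m
    change (idealModLE h ≫ ClSub.idealModι J).app V m = _
    rw [idealModLE_ι]
  constructor
  · have : Function.Injective ((ClSub.idealModι J).app V ∘ (idealModLE h).app V) := by
      rw [h3]; exact h1.1
    exact this.of_comp
  · intro t
    obtain ⟨m, hm⟩ := h1.2 ((ClSub.idealModι J).app V t)
    refine ⟨m, h2.1 ?_⟩
    rw [← hm, ← h3]
    rfl

/-- the cokernel of the inclusion is supported on the support of `I` -/
theorem support_cokernel_idealModLE_subset (h : I ≤ J) :
    CohB1.support (cokernel (idealModLE h)) ⊆ (I.support : Set X) := by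
  intro y hy
  by_contra hyI
  apply hy
  apply Groth.Agent.Lead.StalkNhd.subsingleton_stalk_cokernel
  intro t
  obtain ⟨V, hyV, m, rfl⟩ := TopCat.Presheaf.exists_germ_eq (ClSub.idealMod J).presheaf t
  let W : X.Opens := V ⊓ I.support.compl
  have hyW : y ∈ W := ⟨hyV, hyI⟩
  have hWV : W ≤ V := inf_le_left
  obtain ⟨m', hm'⟩ := (idealModLE_app_bijective h W (fun z hz => hz.2)).2
    ((ClSub.idealMod J).presheaf.map (homOfLE hWV).op m)
  refine ⟨(ClSub.idealMod I).presheaf.germ W y hyW m', ?_⟩
  rw [Groth.Agent.Helper4.StalkExact.stalkLin_germ, hm']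
  exact TopCat.Presheaf.germ_res_apply _ (homOfLE hWV) y hyW m

end IdealLE

section Main

open Groth.Agent.Helper4.NApx82 Groth.Agent.Helper4.StalkDict Groth.Agent.Lead.Ref1B
  Groth.Agent.Lead.StalkNhd Groth.Agent.Helper4.TensorInv Groth.Agent.Helper4.TensorAssoc
  Groth.Agent.Helper1.Dev

theorem pow_succ_le_pow {X : Scheme.{u}} (P : X.IdealSheafData) (a : ℕ) : P ^ (a + 1) ≤ P ^ a := by
  intro U
  rw [Scheme.IdealSheafData.ideal_pow, Scheme.IdealSheafData.ideal_pow]
  exact Ideal.pow_le_pow_right (Nat.le_succ a)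

/-- S15255 -/
theorem main15255 (k : Type u) [Field k] (X : Scheme.{u})
    [X.Over (Spec (CommRingCat.of k))] [IsProper (X ↘ (Spec (CommRingCat.of k)))]
    (x : X) (hx : IsClosed ({x} : Set X)) (L : X.Modules) (hL : PicF.IsInvertible L)
    (a m : ℕ)
    (h : Nontrivial (Coh.HH X (CohB1.tensorMod (ClSub.idealMod ((W4c2seshadripos.pointIdeal x hx) ^ a))
      (CohB1.tensorPow L m)) 1)) :
    Nontrivial (Coh.HH X (CohB1.tensorMod (ClSub.idealMod ((W4c2seshadripos.pointIdeal x hx) ^ (a + 1)))
      (CohB1.tensorPow L m)) 1) := by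
  haveI := Groth.Agent.Helper4.NApx82.isNoetherian_of_proper k X
  set P := W4c2seshadripos.pointIdeal x hx with hP
  have hle : P ^ (a + 1) ≤ P ^ a := pow_succ_le_pow P a
  have hO : Coh.IsCoh (Coh.structureModule X) := isCoh_structureModule X
  have hLm := isInvertible_tensorPow hL m
  have hcLm := Groth.Agent.Helper1.SerreFin.isCoh_of_isInvertible _ hLm
  have hcI : ∀ Z : X.IdealSheafData, Coh.IsCoh (ClSub.idealMod Z) := fun Z =>
    Groth.Agent.Lead.PerfLib.isCoh_kernel hO (isCoh_quotMod Z) _
  let S : ShortComplex X.Modules :=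
    ShortComplex.mk (idealModLE hle) (cokernel.π (idealModLE hle)) (cokernel.condition _)
  have hS : S.ShortExact :=
    { exact := ShortComplex.exact_of_g_is_cokernel _ (cokernelIsCokernel _)
      mono_f := mono_idealModLE hle
      epi_g := inferInstanceAs (Epi (cokernel.π _)) }
  have hS' := Groth.Agent.Helper1.TwistExact.shortExact_map_tensorRightMod hS
    (CohB1.tensorPow L m) hLm
  have hQ : Coh.IsCoh (cokernel (idealModLE hle)) :=
    Groth.Agent.Lead.PerfLib.isCoh_cokernel (hcI _) (hcI _) _
  have hQL : Coh.IsCoh (CohB1.tensorMod (cokernel (idealModLE hle)) (CohB1.tensorPow L m)) :=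
    isCoh_tensorMod _ _ hQ hcLm
  have hsuppZ : ((P ^ (a + 1)).support : Set X) ⊆ {x} := by
    rw [Scheme.IdealSheafData.support_pow_succ, hP]
    unfold W4c2seshadripos.pointIdeal
    rw [Scheme.IdealSheafData.coe_support_vanishingIdeal]
    rfl
  have hsupp : CohB1.support (CohB1.tensorMod (cokernel (idealModLE hle)) (CohB1.tensorPow L m)) ⊆
      {x} :=
    (Groth.Agent.Helper4.SN.support_tensorMod_subset_left _ _).trans
      ((support_cokernel_idealModLE_subset hle).trans hsuppZ)
  have h3 : Subsingleton (Coh.HH X (CohB1.tensorMod (cokernel (idealModLE hle))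
      (CohB1.tensorPow L m)) 1) :=
    subsingleton_HH_of_dimLT_support _ (Groth.Agent.S0020.result _ _ hQL.2) 1
      ((dimLT_singleton x).mono hsupp) 1 le_rfl
  have hex := Groth.Agent.Helper4.NApx80.exact_f_g k _ hS' 1
  have h3' : Subsingleton (Coh.HH X (S.map (DCoh.tensorRightMod (CohB1.tensorPow L m))).X₃ 1) := h3
  have hsurj : Function.Surjective
      (Canon.HHlin k (S.map (DCoh.tensorRightMod (CohB1.tensorPow L m))).f 1) := by
    intro z
    exact (hex z).1 (Subsingleton.elim _ _)
  haveI h' : Nontrivial (Coh.HH X (S.map (DCoh.tensorRightMod (CohB1.tensorPow L m))).X₂ 1) := h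
  exact hsurj.nontrivial

end Main

end Groth.Agent.Helper4.SN
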