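import Mathlib

/-!
# Abstract graded prime avoidance (helper4)

A family of "homogeneous primes" is given as predicates on homogeneous elements; we find a
homogeneous element of positive degree avoiding all of them.
-/

set_option autoImplicit false
universe u v

namespace Groth.Agent.Helper4.SymGrB

/-- homogeneous elements `Hg m` of a commutative ring together with finitely many "homogeneous
prime" predicates `Pr i m` on them -/
structure Setup (B : Type u) [CommRing B] (ι : Type v) where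
  Hg : ℕ → AddSubgroup B
  Pr : ι → ℕ → B → Prop
  one_mem : (1 : B) ∈ Hg 0
  mul_mem : ∀ (m m' : ℕ) (x y : B), x ∈ Hg m → y ∈ Hg m' → x * y ∈ Hg (m + m')
  P_one : ∀ i, ¬ Pr i 0 1
  P_add : ∀ (i : ι) (m : ℕ) (x y : B), x ∈ Hg m → y ∈ Hg m → Pr i m x → Pr i m y → Pr i m (x + y)
  P_neg : ∀ (i : ι) (m : ℕ) (x : B), x ∈ Hg m → Pr i m x → Pr i m (-x)
  P_mul : ∀ (i : ι) (m m' : ℕ) (x y : B), x ∈ Hg m → y ∈ Hg m' →
    (Pr i (m + m') (x * y) ↔ Pr i m x ∨ Pr i m' y)

namespace Setup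

variable {B : Type u} [CommRing B] {ι : Type v} (S : Setup B ι)

theorem pow_mem {m : ℕ} {y : B} (hy : y ∈ S.Hg m) (a : ℕ) : y ^ a ∈ S.Hg (a * m) := by
  induction a with
  | zero => rw [pow_zero, Nat.zero_mul]; exact S.one_mem
  | succ a ih => rw [pow_succ, Nat.succ_mul]; exact S.mul_mem _ _ _ _ ih hy

theorem P_pow (i : ι) {m : ℕ} {y : B} (hy : y ∈ S.Hg m) {a : ℕ} (ha : 0 < a) :
    S.Pr i (a * m) (y ^ a) ↔ S.Pr i m y := by
  induction a, ha using Nat.le_induction with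
  | base => rw [pow_one, Nat.one_mul]
  | succ a ha ih =>
    rw [pow_succ, Nat.succ_mul, S.P_mul i _ _ _ _ (S.pow_mem hy a) hy, ih]
    exact or_self_iff

theorem prod_mem {κ : Type*} [DecidableEq κ] (t : Finset κ) (m : κ → ℕ) (f : κ → B)
    (hf : ∀ j ∈ t, f j ∈ S.Hg (m j)) : ∏ j ∈ t, f j ∈ S.Hg (∑ j ∈ t, m j) := by
  induction t using Finset.induction_on with
  | empty => rw [Finset.prod_empty, Finset.sum_empty]; exact S.one_mem
  | insert a t ha ih =>
    rw [Finset.prod_insert ha, Finset.sum_insert ha]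
    exact S.mul_mem _ _ _ _ (hf a (Finset.mem_insert_self a t))
      (ih fun j hj => hf j (Finset.mem_insert_of_mem hj))

theorem P_prod (i : ι) {κ : Type*} [DecidableEq κ] (t : Finset κ) (m : κ → ℕ) (f : κ → B)
    (hf : ∀ j ∈ t, f j ∈ S.Hg (m j)) :
    S.Pr i (∑ j ∈ t, m j) (∏ j ∈ t, f j) ↔ ∃ j ∈ t, S.Pr i (m j) (f j) := by
  induction t using Finset.induction_on with
  | empty =>
    rw [Finset.prod_empty, Finset.sum_empty]
    exact ⟨fun h => absurd h (S.P_one i), fun ⟨j, hj, _⟩ => absurd hj (Finset.notMem_empty j)⟩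
  | insert a t ha ih =>
    rw [Finset.prod_insert ha, Finset.sum_insert ha,
      S.P_mul i _ _ _ _ (hf a (Finset.mem_insert_self a t))
        (S.prod_mem t m f fun j hj => hf j (Finset.mem_insert_of_mem hj)),
      ih fun j hj => hf j (Finset.mem_insert_of_mem hj)]
    constructor
    · rintro (h | ⟨j, hj, h⟩)
      · exact ⟨a, Finset.mem_insert_self a t, h⟩
      · exact ⟨j, Finset.mem_insert_of_mem hj, h⟩
    · rintro ⟨j, hj, h⟩
      rcases Finset.mem_insert.1 hj with rfl | hj'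
      · exact Or.inl h
      · exact Or.inr ⟨j, hj', h⟩

theorem not_P_add (i : ι) {m : ℕ} {u v : B} (hu : u ∈ S.Hg m) (hv : v ∈ S.Hg m)
    (hPu : S.Pr i m u) (hPv : ¬ S.Pr i m v) : ¬ S.Pr i m (u + v) := by
  intro h
  apply hPv
  have h2 := S.P_add i m (u + v) (-u) (add_mem hu hv) (neg_mem hu) h (S.P_neg i m u hu hPu)
  rwa [add_neg_cancel_comm] at h2

theorem not_P_add' (i : ι) {m : ℕ} {u v : B} (hu : u ∈ S.Hg m) (hv : v ∈ S.Hg m)
    (hPu : ¬ S.Pr i m u) (hPv : S.Pr i m v) : ¬ S.Pr i m (u + v) := by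
  rw [add_comm]
  exact S.not_P_add i hv hu hPv hPu

/-- **Graded prime avoidance.** -/
theorem exists_avoid [DecidableEq ι] (s : Finset ι) :
    (∀ i ∈ s, ∃ m, 0 < m ∧ ∃ y ∈ S.Hg m, ¬ S.Pr i m y) →
    ∃ m, 0 < m ∧ ∃ f ∈ S.Hg m, ∀ i ∈ s, ¬ S.Pr i m f := by
  induction s using Finset.strongInduction with
  | H s ih =>
    intro hwit
    rcases s.eq_empty_or_nonempty with rfl | hne
    · exact ⟨1, one_pos, 0, zero_mem _, fun i hi => absurd hi (Finset.notMem_empty i)⟩
    have h1 : ∀ i ∈ s, ∃ m, 0 < m ∧ ∃ f ∈ S.Hg m, ∀ j ∈ s.erase i, ¬ S.Pr j m f :=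
      fun i hi => ih (s.erase i) (Finset.erase_ssubset hi)
        (fun j hj => hwit j (Finset.mem_of_mem_erase hj))
    by_cases hgood : ∃ i ∈ s, ∃ m, 0 < m ∧ ∃ f ∈ S.Hg m,
        (∀ j ∈ s.erase i, ¬ S.Pr j m f) ∧ ¬ S.Pr i m f
    · obtain ⟨i, hi, m, hm, f, hf, hav, hfi⟩ := hgood
      refine ⟨m, hm, f, hf, fun j hj => ?_⟩
      by_cases hji : j = i
      · rw [hji]; exact hfi
      · exact hav j (Finset.mem_erase.2 ⟨hji, hj⟩)
    · have hgood' : ∀ i ∈ s, ∀ m, 0 < m → ∀ f ∈ S.Hg m,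
          (∀ j ∈ s.erase i, ¬ S.Pr j m f) → S.Pr i m f := by
        intro i hi m hm f hf hav
        by_contra hcon
        exact hgood ⟨i, hi, m, hm, f, hf, hav, hcon⟩
      choose! m hm f hf hav using h1
      have hbad : ∀ i ∈ s, S.Pr i (m i) (f i) :=
        fun i hi => hgood' i hi (m i) (hm i hi) (f i) (hf i hi) (hav i hi)
      obtain ⟨i₀, hi₀⟩ := hne
      rcases (s.erase i₀).eq_empty_or_nonempty with hs' | hs'ne
      · obtain ⟨m0, hm0, y, hy, hPy⟩ := hwit i₀ hi₀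
        refine ⟨m0, hm0, y, hy, fun j hj => ?_⟩
        have hj0 : j = i₀ := by
          by_contra h
          have h2 : j ∈ s.erase i₀ := Finset.mem_erase.2 ⟨h, hj⟩
          rw [hs'] at h2
          exact absurd h2 (Finset.notMem_empty j)
        rw [hj0]; exact hPy
      · have hMpos : 0 < ∑ j ∈ s.erase i₀, m j :=
          Finset.sum_pos (fun j hj => hm j (Finset.mem_of_mem_erase hj)) hs'ne
        have hv0 : ∏ j ∈ s.erase i₀, f j ∈ S.Hg (∑ j ∈ s.erase i₀, m j) :=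
          S.prod_mem _ m f fun j hj => hf j (Finset.mem_of_mem_erase hj)
        have hu : f i₀ ^ (∑ j ∈ s.erase i₀, m j) ∈ S.Hg ((∑ j ∈ s.erase i₀, m j) * m i₀) :=
          S.pow_mem (hf i₀ hi₀) _
        have hv : (∏ j ∈ s.erase i₀, f j) ^ (m i₀) ∈ S.Hg ((∑ j ∈ s.erase i₀, m j) * m i₀) := by
          rw [Nat.mul_comm]
          exact S.pow_mem hv0 _
        refine ⟨(∑ j ∈ s.erase i₀, m j) * m i₀, Nat.mul_pos hMpos (hm i₀ hi₀),
          f i₀ ^ (∑ j ∈ s.erase i₀, m j) + (∏ j ∈ s.erase i₀, f j) ^ (m i₀),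
          add_mem hu hv, fun j hj => ?_⟩
        by_cases hji : j = i₀
        · rw [hji]
          apply S.not_P_add i₀ hu hv
          · exact (S.P_pow i₀ (hf i₀ hi₀) hMpos).2 (hbad i₀ hi₀)
          · rw [Nat.mul_comm, S.P_pow i₀ hv0 (hm i₀ hi₀),
              S.P_prod i₀ _ m f fun j hj => hf j (Finset.mem_of_mem_erase hj)]
            rintro ⟨j', hj', hP⟩
            have hj's : j' ∈ s := Finset.mem_of_mem_erase hj'
            have hne' : i₀ ≠ j' := fun h => (Finset.mem_erase.1 hj').1 h.symm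
            exact hav j' hj's i₀ (Finset.mem_erase.2 ⟨hne', hi₀⟩) hP
        · have hjs' : j ∈ s.erase i₀ := Finset.mem_erase.2 ⟨hji, hj⟩
          apply S.not_P_add' j hu hv
          · rw [S.P_pow j (hf i₀ hi₀) hMpos]
            exact hav i₀ hi₀ j hjs'
          · rw [Nat.mul_comm, S.P_pow j hv0 (hm i₀ hi₀),
              S.P_prod j _ m f fun j hj => hf j (Finset.mem_of_mem_erase hj)]
            exact ⟨j, hjs', hbad j hj⟩

end Setup

end Groth.Agent.Helper4.SymGrB
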