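import Mathlib
import Groth.Agent.Lead.RegLocal
import Groth.Agent.Helper1.QuasiReg

/-! A regular local ring has a quasi-regular system of parameters generating the maximal ideal. -/

set_option autoImplicit false
universe u

namespace Groth.Agent.Helper4.RegSop

open IsLocalRing

/-- "regular sequence" in the elementary form used by `Helper1.QuasiReg`. -/
def RegSeq {R : Type u} [CommRing R] {r : ℕ} (f : Fin r → R) : Prop :=
  ∀ i : Fin r, ∀ y, f i * y ∈ Ideal.span (f '' {j | j < i}) → y ∈ Ideal.span (f '' {j | j < i})

theorem exists_regSeq : ∀ (d : ℕ) (R : Type u) [CommRing R] [IsRegularLocalRing R],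
    (maximalIdeal R).spanFinrank = d →
    ∃ f : Fin d → R, Ideal.span (Set.range f) = maximalIdeal R ∧ RegSeq f := by
  intro d
  induction d with
  | zero =>
    intro R _ _ h
    have hbot : maximalIdeal R = ⊥ :=
      (Submodule.spanFinrank_eq_zero_iff_eq_bot (maximalIdeal R).fg_of_isNoetherianRing).mp h
    refine ⟨Fin.elim0, ?_, fun i => i.elim0⟩
    rw [hbot, Set.range_eq_empty, Ideal.span_empty]
  | succ d ih =>
    intro R _ _ h
    have hreg : (maximalIdeal R).spanFinrank = ringKrullDim R :=
      IsRegularLocalRing.spanFinrank_maximalIdeal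
    have hdim : ¬ ringKrullDim R ≤ 0 := by
      rw [← hreg, h]
      intro hle
      have : ((d + 1 : ℕ) : WithBot ℕ∞) ≤ ((0 : ℕ) : WithBot ℕ∞) := hle
      have h' : d + 1 ≤ 0 := by exact_mod_cast this
      omega
    obtain ⟨x, hxm, hx2, -⟩ := Groth.Agent.Lead.RegLocal.exists_mem_notMem_sq_minimalPrimes hdim
    obtain ⟨hR', -, hl, hspan⟩ := Groth.Agent.Lead.RegLocal.quotient_isRegularLocalRing hxm hx2
    haveI : IsDomain R := Groth.Agent.Lead.RegLocal.isDomain_of_isRegularLocalRing R
    have hd : (maximalIdeal (R ⧸ Ideal.span {x})).spanFinrank = d := by omega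
    obtain ⟨f', hf', hreg'⟩ := ih (R ⧸ Ideal.span {x}) hd
    let mk := Ideal.Quotient.mk (Ideal.span {x})
    have hmk : Function.Surjective mk := Ideal.Quotient.mk_surjective
    choose g hg using fun i => hmk (f' i)
    have hx0 : x ≠ 0 := by
      rintro rfl
      exact hx2 (Ideal.zero_mem _)
    have hker : RingHom.ker mk = Ideal.span {x} := Ideal.mk_ker
    -- the key identity for spans
    have key : ∀ (T : Set (Fin d)),
        Ideal.span (insert x (g '' T)) = Ideal.comap mk (Ideal.span (f' '' T)) := by
      intro T
      have h1 : f' '' T = mk '' (g '' T) := by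
        rw [Set.image_image]
        exact Set.image_congr fun i _ => (hg i).symm
      rw [h1, ← Ideal.map_span, Ideal.comap_map_of_surjective mk hmk, Ideal.span_insert,
        ← RingHom.ker_eq_comap_bot, hker, sup_comm]
    have hmax : Ideal.comap mk (maximalIdeal (R ⧸ Ideal.span {x})) = maximalIdeal R := by
      haveI : IsLocalHom mk := IsLocalHom.of_surjective mk hmk
      ext z
      simp only [Ideal.mem_comap, mem_maximalIdeal, mem_nonunits_iff]
      exact not_congr (isUnit_map_iff mk z)
    refine ⟨Fin.cons x g, ?_, ?_⟩
    · have hr : Set.range (Fin.cons x g : Fin (d + 1) → R) = insert x (g '' Set.univ) := by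
        rw [Fin.range_cons, Set.image_univ]
      rw [hr, key, Set.image_univ, hf', hmax]
    · intro i
      refine Fin.cases ?_ (fun i' => ?_) i
      · intro y hy
        have hempty : (Fin.cons x g : Fin (d + 1) → R) '' {j | j < 0} = ∅ := by
          rw [Set.image_eq_empty]
          ext j; simp
        rw [hempty, Ideal.span_empty, Ideal.mem_bot] at hy ⊢
        simpa [hx0] using hy
      · intro y hy
        have himg : (Fin.cons x g : Fin (d + 1) → R) '' {j | j < i'.succ} =
            insert x (g '' {j | j < i'}) := by
          ext z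
          constructor
          · rintro ⟨j, hj, rfl⟩
            revert hj
            refine Fin.cases ?_ (fun j' => ?_) j
            · intro _; left; simp
            · intro hj
              right
              exact ⟨j', by simpa using hj, by simp⟩
          · rintro (rfl | ⟨j', hj', rfl⟩)
            · exact ⟨0, by simp [Fin.succ_pos], by simp⟩
            · exact ⟨j'.succ, by simpa using hj', by simp⟩
        rw [himg, key] at hy ⊢
        rw [Ideal.mem_comap] at hy ⊢
        rw [Fin.cons_succ, map_mul, hg] at hy
        exact hreg' i' _ hy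

theorem exists_quasiRegular (R : Type u) [CommRing R] [IsRegularLocalRing R] (d : ℕ)
    (hd : ringKrullDim R = d) :
    ∃ f : Fin d → R, Ideal.span (Set.range f) = maximalIdeal R ∧ CAlgX.IsQuasiRegular f := by
  have hreg : ((maximalIdeal R).spanFinrank : WithBot ℕ∞) = ringKrullDim R :=
    IsRegularLocalRing.spanFinrank_maximalIdeal
  have h : (maximalIdeal R).spanFinrank = d := by
    rw [hd] at hreg
    exact_mod_cast hreg
  obtain ⟨f, hf, hr⟩ := exists_regSeq d R h
  exact ⟨f, hf, Groth.Agent.Helper1.QuasiReg.isQuasiRegular_of_regular d f hr⟩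

end Groth.Agent.Helper4.RegSop
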