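import Mathlib
import Groth.Agent.Helper4.PullTensor
import Groth.Agent.Helper4.TwistExt

/-!
# Frames of the tensor powers of an invertible module
-/

set_option autoImplicit false
set_option linter.unusedSectionVars false
set_option linter.style.haveILetI false

namespace Groth.Agent.Helper4.SN346

open CategoryTheory CategoryTheory.Limits AlgebraicGeometry TopologicalSpace Opposite
open Groth.Agent.Helper4.GenLoc Groth.Agent.Helper4.TensorInv Groth.Agent.Helper4.TensorGen
  Groth.Agent.Helper4.TwistLocal Groth.Agent.Helper4.TwistExt Groth.Agent.Helper4.PullMate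
  Groth.Agent.Helper4.PullTensor

universe u

variable {X : Scheme.{u}}

noncomputable section

/-- the iterated trivialization of the tensor powers -/
def powTriv (L : X.Modules) (U : X.Opens)
    (ε : L.restrict U.ι ≅ Coh.structureModule (U : Scheme.{u})) :
    ∀ n : ℕ, (CohB1.tensorPow L n).restrict U.ι ≅ Coh.structureModule (U : Scheme.{u})
  | 0 => Scheme.Modules.restrictUnitIso U.ι
  | n + 1 => tensorTriv (CohB1.tensorPow L n) L U (powTriv L U ε n) ε

theorem frameSec_powTriv (L : X.Modules) (U : X.Opens)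
    (ε : L.restrict U.ι ≅ Coh.structureModule (U : Scheme.{u})) (n : ℕ) :
    frameSec U (CohB1.tensorPow L n) (powTriv L U ε n) =
      ePow L (U.ι ''ᵁ ⊤) (frameSec U L ε) n := by
  induction n with
  | zero => exact restrictUnitIso_inv_one U.ι ⊤
  | succ n ih =>
    change frameSec U (CohB1.tensorMod (CohB1.tensorPow L n) L)
      (tensorTriv (CohB1.tensorPow L n) L U (powTriv L U ε n) ε) = _
    rw [frameSec_tensorTriv, ih]
    rfl

theorem isFrame_ePow (L : X.Modules) (U : X.Opens)
    (ε : L.restrict U.ι ≅ Coh.structureModule (U : Scheme.{u})) (n : ℕ) :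
    IsFrame (CohB1.tensorPow L n) (U.ι ''ᵁ ⊤) (ePow L (U.ι ''ᵁ ⊤) (frameSec U L ε) n) := by
  rw [← frameSec_powTriv]
  exact isFrame_of_triv _ U (powTriv L U ε n)

/-- around every point of an open `W` there is an affine open `T ⊆ W` carrying a frame of `L`
all of whose tensor powers are frames -/
theorem exists_frames (L : X.Modules) (hL : PicF.IsInvertible L) (W : X.Opens) (x : X)
    (hx : x ∈ W) :
    ∃ (T : X.Opens) (e : Γ(L, T)), x ∈ T ∧ T ≤ W ∧ IsAffineOpen T ∧ IsFrame L T e ∧
      ∀ n, IsFrame (CohB1.tensorPow L n) T (ePow L T e n) := by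
  obtain ⟨U, hxU, hU⟩ := hL x
  obtain ⟨T, hT, hxT, hTU⟩ := exists_isAffineOpen_mem_and_subset (X := X) (x := x) (U := U ⊓ W)
    ⟨hxU, hx⟩
  obtain ⟨ε⟩ : IsTrivAlong L T.ι := IsTrivAlong.of_le (hTU.trans inf_le_left) hU
  have hTT : T.ι ''ᵁ ⊤ = T := Scheme.Opens.ι_image_top T
  have key : ∀ (T' : X.Opens) (_ : T.ι ''ᵁ ⊤ = T'), ∃ (e : Γ(L, T')), IsFrame L T' e ∧
      ∀ n, IsFrame (CohB1.tensorPow L n) T' (ePow L T' e n) := by
    intro T' h
    subst h
    exact ⟨frameSec T L ε, isFrame_of_triv L T ε, fun n => isFrame_ePow L T ε n⟩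
  obtain ⟨e, h1, h2⟩ := key T hTT
  exact ⟨T, e, hxT, hTU.trans inf_le_right, hT, h1, h2⟩

end

end Groth.Agent.Helper4.SN346
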