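import Mathlib
import Groth.Prelude.Def_RelProj4
import Groth.Agent.Helper4.SN346
import Groth.Agent.Lead.LocLift
import Groth.Agent.Helper1.SY17

/-!
# The multiplication maps `L^{⊗n} ⟶ A` attached to a module map `j : L ⟶ A` into an algebra
-/

set_option autoImplicit false
set_option linter.unusedSectionVars false
set_option linter.style.haveILetI false

namespace Groth.Agent.Helper4.SN347

open CategoryTheory CategoryTheory.Limits AlgebraicGeometry TopologicalSpace Opposite RelSpec
open Groth.Agent.Helper4.GenLoc Groth.Agent.Helper4.TensorLift Groth.Agent.Helper4.TwistLocal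
  Groth.Agent.Helper1.SY

universe u

variable {X : Scheme.{u}}

noncomputable section

/-- a morphism out of the structure module is determined by the image of `1` -/
theorem unit_app (N : X.Modules) (τ : Coh.structureModule X ⟶ N) (V : X.Opens) (r : Γ(X, V)) :
    τ.app V r = r • N.presheaf.map (homOfLE (le_top : V ≤ ⊤)).op (τ.app ⊤ (one X ⊤)) := by
  have h1 := StalkExact.app_res τ (homOfLE (le_top : V ≤ ⊤)) (one X ⊤)
  have h2 : (Coh.structureModule X).presheaf.map (homOfLE (le_top : V ≤ ⊤)).op (one X ⊤) =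
      one X V := map_one (X.presheaf.map (homOfLE (le_top : V ≤ ⊤)).op).hom
  rw [h2] at h1
  rw [← h1, ← Scheme.Modules.Hom.app_smul]
  congr 1
  exact (mul_one r).symm

variable (A : QCAlg X)

/-- sections of the module `A`, as elements of the ring -/
abbrev toR {V : X.Opens} (x : Γ(A.toModule, V)) : A.presheaf.obj (op V) := x

/-- elements of the ring, as sections of the module -/
abbrev ofR {V : X.Opens} (x : A.presheaf.obj (op V)) : Γ(A.toModule, V) := x

theorem smul_eq {V : X.Opens} (r : Γ(X, V)) (x : Γ(A.toModule, V)) :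
    r • x = ofR A ((A.str.app (op V)).hom r * toR A x) := rfl

theorem map_eq {V V' : X.Opens} (i : V' ⟶ V) (x : Γ(A.toModule, V)) :
    A.toModule.presheaf.map i.op x = ofR A ((A.presheaf.map i.op).hom (toR A x)) := rfl

/-- the bilinear family `(m, l) ↦ φ(m) · j(l)` -/
def stepBil {M L : X.Modules} (φ : M ⟶ A.toModule) (j : L ⟶ A.toModule) :
    Bil M L A.toModule where
  f V m l := ofR A (toR A (φ.app V m) * toR A (j.app V l))
  add_left V m m' n := by
    change toR A (φ.app V (m + m')) * toR A (j.app V n) =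
      toR A (φ.app V m) * toR A (j.app V n) + toR A (φ.app V m') * toR A (j.app V n)
    rw [map_add]
    exact add_mul (toR A (φ.app V m)) (toR A (φ.app V m')) (toR A (j.app V n))
  add_right V m n n' := by
    change toR A (φ.app V m) * toR A (j.app V (n + n')) =
      toR A (φ.app V m) * toR A (j.app V n) + toR A (φ.app V m) * toR A (j.app V n')
    rw [map_add]
    exact mul_add (toR A (φ.app V m)) (toR A (j.app V n)) (toR A (j.app V n'))
  smul_left V r m n := by
    change toR A (φ.app V (r • m)) * toR A (j.app V n) =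
      (A.str.app (op V)).hom r * (toR A (φ.app V m) * toR A (j.app V n))
    rw [Scheme.Modules.Hom.app_smul]
    exact mul_assoc ((A.str.app (op V)).hom r) (toR A (φ.app V m)) (toR A (j.app V n))
  smul_right V r m n := by
    change toR A (φ.app V m) * toR A (j.app V (r • n)) =
      (A.str.app (op V)).hom r * (toR A (φ.app V m) * toR A (j.app V n))
    rw [Scheme.Modules.Hom.app_smul]
    exact mul_left_comm (toR A (φ.app V m)) ((A.str.app (op V)).hom r) (toR A (j.app V n))
  map {V V'} i m n := by
    rw [StalkExact.app_res, StalkExact.app_res]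
    exact map_mul (A.presheaf.map i.op).hom (toR A (φ.app V m)) (toR A (j.app V n))

/-- the unit `O_X ⟶ A` -/
def unitHom : Coh.structureModule X ⟶ A.toModule :=
  Groth.Agent.Lead.LocLift.homOfTop A.toModule (ofR A 1)

theorem unitHom_app (V : X.Opens) (r : Γ(X, V)) :
    toR A ((unitHom A).app V r) = (A.str.app (op V)).hom r := by
  rw [unit_app A.toModule (unitHom A) V r]
  have h1 : (unitHom A).app ⊤ (one X ⊤) = ofR A 1 :=
    Groth.Agent.Lead.LocLift.homOfTop_app_one A.toModule (ofR A 1)
  rw [h1]
  change (A.str.app (op V)).hom r * (A.presheaf.map (homOfLE (le_top : V ≤ ⊤)).op).hom 1 = _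
  rw [map_one, mul_one]

/-- the multiplication maps `L^{⊗n} ⟶ A` -/
def μ {L : X.Modules} (j : L ⟶ A.toModule) : ∀ n : ℕ, CohB1.tensorPow L n ⟶ A.toModule
  | 0 => unitHom A
  | n + 1 => (stepBil A (μ j n) j).lift

theorem μ_zero {L : X.Modules} (j : L ⟶ A.toModule) (V : X.Opens) (r : Γ(X, V)) :
    toR A ((μ A j 0).app V r) = (A.str.app (op V)).hom r :=
  unitHom_app A V r

theorem μ_succ_tmul {L : X.Modules} (j : L ⟶ A.toModule) (n : ℕ) (V : X.Opens)
    (x : Γ(CohB1.tensorPow L n, V)) (l : Γ(L, V)) :
    toR A ((μ A j (n + 1)).app V (SecTwist.tmul (CohB1.tensorPow L n) L V x l)) =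
      toR A ((μ A j n).app V x) * jR j V l :=
  (stepBil A (μ A j n) j).lift_tmul V x l

theorem μ_ePow {L : X.Modules} (j : L ⟶ A.toModule) (n : ℕ) (V : X.Opens) (e : Γ(L, V)) :
    toR A ((μ A j n).app V (ePow L V e n)) = (jR j V e) ^ n := by
  induction n with
  | zero =>
    rw [pow_zero]
    exact (μ_zero A j V 1).trans (map_one _)
  | succ n ih =>
    change toR A ((μ A j (n + 1)).app V
      (SecTwist.tmul (CohB1.tensorPow L n) L V (ePow L V e n) e)) = _
    rw [μ_succ_tmul, ih, pow_succ]

theorem μ_smul {L : X.Modules} (j : L ⟶ A.toModule) (n : ℕ) (V : X.Opens) (r : Γ(X, V))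
    (x : Γ(CohB1.tensorPow L n, V)) :
    toR A ((μ A j n).app V (r • x)) = (A.str.app (op V)).hom r * toR A ((μ A j n).app V x) := by
  rw [Scheme.Modules.Hom.app_smul]
  rfl

theorem μ_res {L : X.Modules} (j : L ⟶ A.toModule) (n : ℕ) {V V' : X.Opens} (i : V' ≤ V)
    (x : Γ(CohB1.tensorPow L n, V)) :
    toR A ((μ A j n).app V' ((CohB1.tensorPow L n).presheaf.map (homOfLE i).op x)) =
      (A.presheaf.map (homOfLE i).op).hom (toR A ((μ A j n).app V x)) := by
  rw [StalkExact.app_res]
  rfl

end

end Groth.Agent.Helper4.SN347
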