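import Mathlib
import Groth.Prelude.Def_RelProj4
import Groth.Agent.Helper4.SN347
import Groth.Agent.Helper1.SG9
import Groth.Agent.Helper1.PT7
import Groth.Agent.Helper4.QcohLocal

/-!
# The bridge between the tensor powers of an invertible module and the graded pieces of its
symmetric algebra
-/

set_option autoImplicit false
set_option linter.unusedSectionVars false
set_option linter.style.haveILetI false

namespace Groth.Agent.Helper4.SN348

open CategoryTheory CategoryTheory.Limits AlgebraicGeometry TopologicalSpace Opposite RelSpec RelProj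
open Groth.Agent.Helper4.GenLoc Groth.Agent.Helper4.TensorLift Groth.Agent.Helper4.TwistLocal
  Groth.Agent.Helper4.TwistExt Groth.Agent.Helper1.SY Groth.Agent.Helper1.PL
  Groth.Agent.Helper4.SN346 Groth.Agent.Helper4.SN347 Groth.Agent.Helper1.SG

universe u

variable {X : Scheme.{u}}

noncomputable section

variable {L : X.Modules} [L.IsQuasicoherent] {𝒮L : QCGrAlg X} {j : L ⟶ 𝒮L.toModule}
  (hj : IsGrSymAlg L 𝒮L j)

/-- the frame of helper1 attached to a frame in the strong sense -/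
def frameOf {T : X.Opens} {e : Γ(L, T)} (he : IsFrame L T e) (V : X.Opens) (hVT : V ≤ T) :
    Frame L V where
  e := L.presheaf.map (homOfLE hVT).op e
  bij := by
    constructor
    · intro r r' h
      have h1 : (r - r') • L.presheaf.map (homOfLE hVT).op e = 0 := by
        rw [sub_smul]; exact sub_eq_zero.mpr h
      exact sub_eq_zero.mp ((he V hVT).2 _ h1)
    · intro m
      obtain ⟨r, hr⟩ := (he V hVT).1 m
      exact ⟨r, hr.symm⟩

theorem frameOf_t {T : X.Opens} {e : Γ(L, T)} (he : IsFrame L T e) (V : X.Opens) (hVT : V ≤ T) :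
    (frameOf he V hVT).t j = jR j V (L.presheaf.map (homOfLE hVT).op e) := rfl

include hj in
/-- on a framed affine open the multiplication map lands in degree `n` -/
theorem μ_eq_of_frame {T : X.Opens} {e : Γ(L, T)} (he : IsFrame L T e) (n : ℕ)
    (hen : IsFrame (CohB1.tensorPow L n) T (ePow L T e n))
    (V : X.Opens) (hVT : V ≤ T) (x : Γ(CohB1.tensorPow L n, V)) :
    ∃ a : Γ(X, V), x = a • ePow L V (L.presheaf.map (homOfLE hVT).op e) n ∧
      toR 𝒮L.toQCAlg ((μ 𝒮L.toQCAlg j n).app V x) =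
        (𝒮L.str.app (op V)).hom a * ((frameOf he V hVT).t j) ^ n := by
  obtain ⟨a, ha⟩ := (hen V hVT).1 x
  rw [ePow_res] at ha
  refine ⟨a, ha, ?_⟩
  rw [ha, μ_smul, μ_ePow]
  rfl

include hj in
theorem μ_mem_of_frame {T : X.Opens} {e : Γ(L, T)} (he : IsFrame L T e) (n : ℕ)
    (hen : IsFrame (CohB1.tensorPow L n) T (ePow L T e n))
    (V : X.Opens) (hV : IsAffineOpen V) (hVT : V ≤ T) (x : Γ(CohB1.tensorPow L n, V)) :
    toR 𝒮L.toQCAlg ((μ 𝒮L.toQCAlg j n).app V x) ∈ 𝒮L.deg V hV n := by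
  obtain ⟨a, -, h2⟩ := μ_eq_of_frame hj he n hen V hVT x
  rw [h2]
  exact (frameOf he V hVT).term_mem hj hV a n

include hj in
theorem μ_injective_of_frame {T : X.Opens} {e : Γ(L, T)} (he : IsFrame L T e) (n : ℕ)
    (hen : IsFrame (CohB1.tensorPow L n) T (ePow L T e n))
    (V : X.Opens) (hV : IsAffineOpen V) (hVT : V ≤ T) :
    Function.Injective ((μ 𝒮L.toQCAlg j n).app V) := by
  intro x y hxy
  obtain ⟨a, h1, h2⟩ := μ_eq_of_frame hj he n hen V hVT x
  obtain ⟨b, h3, h4⟩ := μ_eq_of_frame hj he n hen V hVT y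
  have h5 : toR 𝒮L.toQCAlg ((μ 𝒮L.toQCAlg j n).app V x) =
      toR 𝒮L.toQCAlg ((μ 𝒮L.toQCAlg j n).app V y) := congrArg (toR 𝒮L.toQCAlg) hxy
  rw [h2, h4] at h5
  have h6 := (frameOf he V hVT).eq_of_eq hj hV h5
  rw [h1, h3, h6]

include hj in
theorem μ_surj_of_frame {T : X.Opens} {e : Γ(L, T)} (he : IsFrame L T e) (n : ℕ)
    (V : X.Opens) (hV : IsAffineOpen V) (hVT : V ≤ T) (y : 𝒮L.presheaf.obj (op V))
    (hy : y ∈ 𝒮L.deg V hV n) :
    ∃ x : Γ(CohB1.tensorPow L n, V), toR 𝒮L.toQCAlg ((μ 𝒮L.toQCAlg j n).app V x) = y := by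
  obtain ⟨a, ha⟩ := (frameOf he V hVT).exists_eq hj hV hy
  refine ⟨a • ePow L V (L.presheaf.map (homOfLE hVT).op e) n, ?_⟩
  rw [μ_smul, μ_ePow, ha]
  rfl

variable (hL : PicF.IsInvertible L)

include hj hL in
theorem μ_comp (n : ℕ) : μ 𝒮L.toQCAlg j n ≫ (𝟙 𝒮L.toModule - projHom 𝒮L n) = 0 := by
  haveI : (CohB1.tensorPow L n).IsQuasicoherent :=
    Groth.Agent.Helper4.QAffSec.isQuasicoherent_of_isInvertible _
      (Groth.Agent.Helper4.TensorInv.isInvertible_tensorPow hL n)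
  apply Groth.Agent.Helper4.QcohLocal.eq_zero_of_app_eq_zero_of_affine_cover
  intro x
  obtain ⟨T, e, hxT, -, hT, he, hen⟩ := exists_frames L hL ⊤ x trivial
  refine ⟨T, hT, hxT, fun m => ?_⟩
  have h1 := μ_mem_of_frame hj he n (hen n) T hT le_rfl m
  change toR 𝒮L.toQCAlg ((μ 𝒮L.toQCAlg j n).app T m) -
    (show 𝒮L.presheaf.obj (op T) from (projHom 𝒮L n).app T ((μ 𝒮L.toQCAlg j n).app T m)) = 0
  rw [projHom_app 𝒮L n T hT, projAt_of_mem 𝒮L n T hT h1, sub_self]

/-- the comparison map onto the degree-`n` part -/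
def β (n : ℕ) : CohB1.tensorPow L n ⟶ degMod 𝒮L n :=
  kernel.lift _ (μ 𝒮L.toQCAlg j n) (μ_comp hj hL n)

theorem β_degι (n : ℕ) : β hj hL n ≫ degι 𝒮L n = μ 𝒮L.toQCAlg j n :=
  kernel.lift_ι _ _ _

theorem β_degι_app (n : ℕ) (V : X.Opens) (x : Γ(CohB1.tensorPow L n, V)) :
    (degι 𝒮L n).app V ((β hj hL n).app V x) = (μ 𝒮L.toQCAlg j n).app V x := by
  rw [← β_degι hj hL n]
  rfl

instance isIso_β (n : ℕ) : IsIso (β hj hL n) := by
  haveI : (CohB1.tensorPow L n).IsQuasicoherent :=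
    Groth.Agent.Helper4.QAffSec.isQuasicoherent_of_isInvertible _
      (Groth.Agent.Helper4.TensorInv.isInvertible_tensorPow hL n)
  apply Groth.Agent.Helper4.QcohLocal.isIso_of_app_bijective_of_affine_cover
  intro x
  obtain ⟨T, e, hxT, -, hT, he, hen⟩ := exists_frames L hL ⊤ x trivial
  refine ⟨T, hT, hxT, ?_, ?_⟩
  · intro a b hab
    apply μ_injective_of_frame hj he n (hen n) T hT le_rfl
    rw [← β_degι_app hj hL, ← β_degι_app hj hL, hab]
  · intro y
    obtain ⟨x', hx'⟩ := μ_surj_of_frame hj he n T hT le_rfl _ (degι_mem 𝒮L n T hT y)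
    refine ⟨x', ?_⟩
    apply degι_app_injective 𝒮L n T
    rw [β_degι_app]
    exact hx'

include hj hL in
theorem μ_injective (n : ℕ) (W : X.Opens) : Function.Injective ((μ 𝒮L.toQCAlg j n).app W) := by
  intro a b hab
  rw [← β_degι_app hj hL, ← β_degι_app hj hL] at hab
  have h1 := degι_app_injective 𝒮L n W hab
  haveI : Mono (β hj hL n) := inferInstance
  exact Groth.Agent.Helper4.AffineDict.app_injective_of_mono (β hj hL n) W h1

include hj hL in
theorem μ_mem (n : ℕ) (V : X.Opens) (hV : IsAffineOpen V) (x : Γ(CohB1.tensorPow L n, V)) :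
    toR 𝒮L.toQCAlg ((μ 𝒮L.toQCAlg j n).app V x) ∈ 𝒮L.deg V hV n := by
  rw [← β_degι_app hj hL]
  exact degι_mem 𝒮L n V hV _

include hj hL in
/-- a section of `𝒮L` over an arbitrary open which is homogeneous of degree `n` on the affine
opens comes from a unique section of `L^{⊗n}` -/
theorem exists_of_homog (n : ℕ) (W : X.Opens) (σ : 𝒮L.presheaf.obj (op W))
    (hσ : ∀ (V : X.Opens) (hV : IsAffineOpen V) (i : V ≤ W),
      (𝒮L.presheaf.map (homOfLE i).op).hom σ ∈ 𝒮L.deg V hV n) :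
    ∃ t : Γ(CohB1.tensorPow L n, W), toR 𝒮L.toQCAlg ((μ 𝒮L.toQCAlg j n).app W t) = σ := by
  let K : ShortComplex X.Modules :=
    ShortComplex.mk (degι 𝒮L n) (𝟙 𝒮L.toModule - projHom 𝒮L n) (degι_comp 𝒮L n)
  have hK : K.Exact := ShortComplex.exact_of_f_is_kernel _ (kernelIsKernel _)
  haveI : Mono K.f := mono_degι 𝒮L n
  have h1 : (𝟙 𝒮L.toModule - projHom 𝒮L n).app W (ofR 𝒮L.toQCAlg σ) = 0 := by
    refine Groth.Agent.Helper1.QH.section_ext_affine 𝒮L.toModule W _ _ (fun V hV i => ?_)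
    rw [← StalkExact.app_res, map_zero]
    change (show 𝒮L.presheaf.obj (op V) from (𝒮L.presheaf.map (homOfLE i).op).hom σ) -
      (show 𝒮L.presheaf.obj (op V) from
        (projHom 𝒮L n).app V (ofR 𝒮L.toQCAlg ((𝒮L.presheaf.map (homOfLE i).op).hom σ))) = 0
    rw [projHom_app 𝒮L n V hV, projAt_of_mem 𝒮L n V hV (hσ V hV i), sub_self]
  obtain ⟨y, hy⟩ := (Groth.Agent.Helper4.StalkExact.app_exact K hK W (ofR 𝒮L.toQCAlg σ)).1 h1
  refine ⟨(inv (β hj hL n)).app W y, ?_⟩
  rw [← β_degι_app hj hL]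
  have h2 : (β hj hL n).app W ((inv (β hj hL n)).app W y) = y := by
    have := congrArg (fun φ => (Scheme.Modules.Hom.app φ W) y) (IsIso.inv_hom_id (β hj hL n))
    exact this
  rw [h2]
  exact hy

end

end Groth.Agent.Helper4.SN348
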