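import Mathlib
import Groth.Prelude.Def_RelProj4
import Groth.Agent.Helper4.SN348
import Groth.Agent.Helper1.IM13
import Groth.Agent.Helper4.GenLocIso

/-!
# The generating locus of a section of `L^{⊗n}` over an open is the open `X_σ` of the
corresponding homogeneous section of the symmetric algebra
-/

set_option autoImplicit false
set_option linter.unusedSectionVars false
set_option linter.style.haveILetI false

namespace Groth.Agent.Helper4.SN349

open CategoryTheory CategoryTheory.Limits AlgebraicGeometry TopologicalSpace Opposite RelSpec RelProj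
open Groth.Agent.Helper4.GenLoc Groth.Agent.Helper4.TensorLift Groth.Agent.Helper4.TwistLocal
  Groth.Agent.Helper4.TwistExt Groth.Agent.Helper1.SY Groth.Agent.Helper1.PL
  Groth.Agent.Helper4.SN346 Groth.Agent.Helper4.SN347 Groth.Agent.Helper4.SN348
  Groth.Agent.Helper1.SG Groth.Agent.Helper1

universe u

variable {X : Scheme.{u}}

noncomputable section

variable {L : X.Modules} [L.IsQuasicoherent] {𝒮L : QCGrAlg X} {j : L ⟶ 𝒮L.toModule}
  (hj : IsGrSymAlg L 𝒮L j) (hL : PicF.IsInvertible L)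

/-- the family of homogeneous sections attached to a section of `L^{⊗n}` over an open -/
def secFam (n : ℕ) (W : X.Opens) (t : Γ(CohB1.tensorPow L n, W)) : PT.Fam 𝒮L W n where
  w V _ hT := (𝒮L.presheaf.map (homOfLE hT).op).hom (toR 𝒮L.toQCAlg ((μ 𝒮L.toQCAlg j n).app W t))
  mem V hV hT := by
    rw [← μ_res]
    exact μ_mem hj hL n V hV _
  res {V V'} hV hV' i hT := by
    rw [← CommRingCat.comp_apply, ← Functor.map_comp]
    rfl

theorem secFam_w (n : ℕ) (W : X.Opens) (t : Γ(CohB1.tensorPow L n, W)) (V : X.Opens)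
    (hV : IsAffineOpen V) (hT : V ≤ W) :
    (secFam hj hL n W t).w V hV hT =
      toR 𝒮L.toQCAlg ((μ 𝒮L.toQCAlg j n).app V
        ((CohB1.tensorPow L n).presheaf.map (homOfLE hT).op t)) :=
  (μ_res 𝒮L.toQCAlg j n hT t).symm

section crit

variable {T : X.Opens} {e : Γ(L, T)} (he : IsFrame L T e) (n : ℕ)
  (hen : IsFrame (CohB1.tensorPow L n) T (ePow L T e n))
  (x : Γ(CohB1.tensorPow L n, T)) (a : Γ(X, T)) (hxa : x = a • ePow L T e n)

include hen hxa in
theorem bijective_of_isUnit (ha : IsUnit a) (V : X.Opens) (hV : V ≤ T) :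
    Function.Bijective (fun r : Γ(X, V) =>
      r • (CohB1.tensorPow L n).presheaf.map (homOfLE hV).op x) := by
  set g := (CohB1.tensorPow L n).presheaf.map (homOfLE hV).op (ePow L T e n) with hg
  set a' := X.presheaf.map (homOfLE hV).op a with ha'
  have hu : IsUnit a' := ha.map (X.presheaf.map (homOfLE hV).op).hom
  have hres : (CohB1.tensorPow L n).presheaf.map (homOfLE hV).op x = a' • g := by
    rw [hxa, Scheme.Modules.map_smul]
  obtain ⟨b, hb⟩ := isUnit_iff_exists_inv.mp hu
  constructor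
  · intro r r' h
    have h1 : ((r - r') * a') • g = 0 := by
      have h2 : r • (a' • g) = r' • (a' • g) := by
        rw [← hres]; exact h
      rw [sub_mul, sub_smul, mul_smul, mul_smul, h2, sub_self]
    have h3 := (hen V hV).2 _ h1
    have h4 : (r - r') * a' * b = 0 := by rw [h3, zero_mul]
    rw [mul_assoc, hb, mul_one] at h4
    exact sub_eq_zero.mp h4
  · intro m
    obtain ⟨c, hc⟩ := (hen V hV).1 m
    refine ⟨c * b, ?_⟩
    change (c * b) • (CohB1.tensorPow L n).presheaf.map (homOfLE hV).op x = m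
    rw [hres, smul_smul, mul_assoc, mul_comm b a', hb, mul_one, hc]

include hen hxa in
theorem isUnit_of_exists (h : ∃ r : Γ(X, T), r • x = ePow L T e n) : IsUnit a := by
  obtain ⟨r, hr⟩ := h
  have h0 : (CohB1.tensorPow L n).presheaf.map (homOfLE (le_refl T)).op (ePow L T e n) =
      ePow L T e n := Groth.Agent.Helper4.QAffSec.res_self _ _ _
  have h1 : (r * a - 1) • (CohB1.tensorPow L n).presheaf.map (homOfLE (le_refl T)).op
      (ePow L T e n) = 0 := by
    rw [h0, sub_smul, mul_smul, ← hxa, hr, one_smul, sub_self]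
  have h2 := (hen T le_rfl).2 _ h1
  exact isUnit_iff_exists_inv'.mpr ⟨r, sub_eq_zero.mp h2⟩

include hj he in
theorem isGenAt_iff (hT : IsAffineOpen T) (W : X.Opens) (hTW : T ≤ W)
    (t : Γ(CohB1.tensorPow L n, W))
    (hta : (CohB1.tensorPow L n).presheaf.map (homOfLE hTW).op t = a • ePow L T e n) :
    PT.IsGenAt (secFam hj hL n W t) T hT hTW ↔ IsUnit a := by
  have hid : L.presheaf.map (homOfLE (le_refl T)).op e = e :=
    Groth.Agent.Helper4.QAffSec.res_self _ _ _
  have hFt : (frameOf he T le_rfl).t j = jR j T e := by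
    rw [frameOf_t, hid]
  have hw : (secFam hj hL n W t).w T hT hTW =
      (𝒮L.str.app (op T)).hom a * ((frameOf he T le_rfl).t j) ^ n := by
    rw [secFam_w, hta, μ_smul, μ_ePow, hFt]
  constructor
  · intro h
    exact PT.isUnit_of_isGenAt _ hj hT hTW (frameOf he T le_rfl) h a hw
  · intro ha b hb
    obtain ⟨a', ha'⟩ := isUnit_iff_exists_inv.mp ha
    obtain ⟨c, hc⟩ := (frameOf he T le_rfl).exists_eq hj hT hb
    rw [hw, hc]
    refine Ideal.mem_span_singleton'.mpr ⟨(𝒮L.str.app (op T)).hom (c * a'), ?_⟩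
    rw [← mul_assoc, ← map_mul, mul_assoc c a' a, mul_comm a' a, ha', mul_one]

end crit

section D

variable (n : ℕ) (W : X.Opens) (t : Γ(CohB1.tensorPow L n, W))

/-- the section `t`, over the open subscheme `W` -/
def tTop : Γ((CohB1.tensorPow L n).restrict W.ι, ⊤) :=
  (CohB1.tensorPow L n).presheaf.map (homOfLE (Scheme.Opens.ι_image_top W).le).op t

/-- the morphism `O_W ⟶ L^{⊗n}|_W` named by `t` -/
def τ : Coh.structureModule (W : Scheme.{u}) ⟶ (CohB1.tensorPow L n).restrict W.ι :=
  Groth.Agent.Lead.LocLift.homOfTop _ (tTop n W t)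

theorem image_le (V' : (W : Scheme.{u}).Opens) : W.ι ''ᵁ V' ≤ W := by
  rintro _ ⟨y, _, rfl⟩
  exact y.2

theorem τ_app (V' : (W : Scheme.{u}).Opens) (r : Γ((W : Scheme.{u}), V')) :
    (τ n W t).app V' r = ((W.ι.appIso V').inv r) •
      (CohB1.tensorPow L n).presheaf.map (homOfLE (image_le W V')).op t := by
  rw [unit_app _ (τ n W t) V' r]
  have h1 : (τ n W t).app ⊤ (one (W : Scheme.{u}) ⊤) = tTop n W t :=
    Groth.Agent.Lead.LocLift.homOfTop_app_one _ (tTop n W t)
  rw [h1, Groth.Agent.Helper4.TensorRes.restrict_smul]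
  congr 1
  exact Groth.Agent.Helper4.QAffSec.res_res (CohB1.tensorPow L n) _ _ t

theorem τ_app_bijective_iff (V' : (W : Scheme.{u}).Opens) :
    Function.Bijective ((τ n W t).app V') ↔
      Function.Bijective (fun r : Γ(X, W.ι ''ᵁ V') =>
        r • (CohB1.tensorPow L n).presheaf.map (homOfLE (image_le W V')).op t) := by
  have hb : Function.Bijective (W.ι.appIso V').inv :=
    ConcreteCategory.bijective_of_isIso (W.ι.appIso V').inv
  have h1 : ⇑((τ n W t).app V') = (fun r : Γ(X, W.ι ''ᵁ V') =>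
      r • (CohB1.tensorPow L n).presheaf.map (homOfLE (image_le W V')).op t) ∘
      ⇑(W.ι.appIso V').inv := by
    funext r
    exact τ_app n W t V' r
  rw [h1]
  exact Function.Bijective.of_comp_iff _ hb

theorem le_genLocus_iff {Z : Scheme.{u}} (N : Z.Modules) (σ : Coh.structureModule Z ⟶ N)
    (U' : Z.Opens) :
    U' ≤ CohB1.genLocus N σ ↔ ∀ V' : Z.Opens, V' ≤ U' → Function.Bijective (σ.app V') := by
  constructor
  · intro h V' hV'
    haveI := Groth.Agent.Helper4.GenLocIso.isIso_restrict_genLocus N σ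
    exact (isIso_restrict_iff σ (CohB1.genLocus N σ)).mp inferInstance V' (hV'.trans h)
  · intro h
    apply le_sSup
    change IsIso _
    rw [isIso_restrict_iff]
    exact h

include hj hL in
/-- **the generating locus of `t` is the open `X_σ` of the corresponding homogeneous section** -/
theorem image_genLocus :
    W.ι ''ᵁ (CohB1.genLocus _ (τ n W t)) = PT.Xw (secFam hj hL n W t) := by
  apply le_antisymm
  · rintro _ ⟨y, hy, rfl⟩
    obtain ⟨T, e, hxT, hTG, hT, he, hen⟩ := exists_frames L hL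
      (W.ι ''ᵁ (CohB1.genLocus _ (τ n W t))) (W.ι y) ⟨y, hy, rfl⟩
    have hTW : T ≤ W := hTG.trans (image_le W _)
    have hV' : W.ι ⁻¹ᵁ T ≤ CohB1.genLocus _ (τ n W t) := by
      intro z hz
      obtain ⟨z', hz', hzz⟩ := hTG hz
      have : z' = z := W.ι.isOpenEmbedding.injective hzz
      exact this ▸ hz'
    have hb := (τ_app_bijective_iff n W t (W.ι ⁻¹ᵁ T)).mp
      ((le_genLocus_iff _ (τ n W t) _).mp hV' _ le_rfl)
    have hEq : W.ι ''ᵁ (W.ι ⁻¹ᵁ T) = T := image_preimage_of_le' W hTW
    have key : ∀ (V'' : X.Opens) (_ : V'' = T) (hle : V'' ≤ W),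
        Function.Bijective (fun r : Γ(X, V'') =>
          r • (CohB1.tensorPow L n).presheaf.map (homOfLE hle).op t) →
        ∃ r : Γ(X, T), r • (CohB1.tensorPow L n).presheaf.map (homOfLE hTW).op t =
          ePow L T e n := by
      intro V'' h hle hbij
      subst h
      exact hbij.2 _
    obtain ⟨r, hr⟩ := key _ hEq (image_le W _) hb
    obtain ⟨a, ha⟩ := (hen n T le_rfl).1
      ((CohB1.tensorPow L n).presheaf.map (homOfLE hTW).op t)
    rw [Groth.Agent.Helper4.QAffSec.res_self] at ha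
    have hu : IsUnit a := isUnit_of_exists n (hen n) _ a ha ⟨r, hr⟩
    have hgen := (isGenAt_iff hj hL he n a hT W hTW t ha).mpr hu
    exact Opens.mem_iSup.mpr ⟨⟨⟨⟨T, hT⟩, hTW⟩, hgen⟩, hxT⟩
  · intro x hx
    obtain ⟨V, hxV⟩ := Opens.mem_iSup.mp hx
    obtain ⟨T, e, hxT, hTV, hT, he, hen⟩ := exists_frames L hL V.1.1.1 x hxV
    have hTW : T ≤ W := hTV.trans V.1.2
    have hTX : T ≤ PT.Xw (secFam hj hL n W t) :=
      hTV.trans (le_iSup (fun V : {V : {V : X.affineOpens // V.1 ≤ W} //
        PT.IsGenAt (secFam hj hL n W t) V.1.1 V.1.2 V.2} => (V.1.1.1 : X.Opens)) V)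
    have hgen := IM.isGenAt_of_le_Xw (secFam hj hL n W t) hT hTW hTX
    obtain ⟨a, ha⟩ := (hen n T le_rfl).1
      ((CohB1.tensorPow L n).presheaf.map (homOfLE hTW).op t)
    rw [Groth.Agent.Helper4.QAffSec.res_self] at ha
    have hu : IsUnit a := (isGenAt_iff hj hL he n a hT W hTW t ha).mp hgen
    have hU' : W.ι ⁻¹ᵁ T ≤ CohB1.genLocus _ (τ n W t) := by
      rw [le_genLocus_iff]
      intro V' hV'
      rw [τ_app_bijective_iff]
      have hle : W.ι ''ᵁ V' ≤ T := by
        rintro _ ⟨z, hz, rfl⟩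
        exact hV' hz
      have h1 := bijective_of_isUnit n (hen n) _ a ha hu (W.ι ''ᵁ V') hle
      have h2 : (CohB1.tensorPow L n).presheaf.map (homOfLE hle).op
          ((CohB1.tensorPow L n).presheaf.map (homOfLE hTW).op t) =
          (CohB1.tensorPow L n).presheaf.map (homOfLE (image_le W V')).op t :=
        Groth.Agent.Helper4.QAffSec.res_res (CohB1.tensorPow L n) _ _ t
      rw [h2] at h1
      exact h1
    exact ⟨⟨x, hTW hxT⟩, hU' (show (⟨x, hTW hxT⟩ : W) ∈ W.ι ⁻¹ᵁ T from hxT), rfl⟩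

end D

end

end Groth.Agent.Helper4.SN349
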