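import Mathlib
import Groth.Prelude.Def_RelProj4
import Groth.Agent.Helper4.SN349
import Groth.Agent.Helper4.AmpleRestrict

/-!
# Ampleness of `L` on an open, in terms of homogeneous sections of its symmetric algebra
-/

set_option autoImplicit false
set_option linter.unusedSectionVars false
set_option linter.style.haveILetI false

namespace Groth.Agent.Helper4.SN350

open CategoryTheory CategoryTheory.Limits AlgebraicGeometry TopologicalSpace Opposite RelSpec RelProj
open Groth.Agent.Helper4.GenLoc Groth.Agent.Helper4.TensorLift Groth.Agent.Helper4.TwistLocal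
  Groth.Agent.Helper4.TwistExt Groth.Agent.Helper1.SY Groth.Agent.Helper1.PL
  Groth.Agent.Helper4.SN346 Groth.Agent.Helper4.SN347 Groth.Agent.Helper4.SN348
  Groth.Agent.Helper4.SN349 Groth.Agent.Helper4.AmpleIso Groth.Agent.Helper4.AmpleRestrict
  Groth.Agent.Helper1.SG Groth.Agent.Helper1

universe u

variable {X : Scheme.{u}}

noncomputable section

variable {L : X.Modules} [L.IsQuasicoherent] {𝒮L : QCGrAlg X} {j : L ⟶ 𝒮L.toModule}
  (hj : IsGrSymAlg L 𝒮L j) (hL : PicF.IsInvertible L)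

theorem fam_ext {W : X.Opens} {n : ℕ} (w w' : PT.Fam 𝒮L W n)
    (h : ∀ (V : X.Opens) (hV : IsAffineOpen V) (hT : V ≤ W), w.w V hV hT = w'.w V hV hT) :
    w = w' := by
  cases w
  cases w'
  congr
  funext V hV hT
  exact h V hV hT

include hj hL in
/-- a family restricting a section is the family of a section of the tensor power -/
theorem exists_secFam_eq {W : X.Opens} {n : ℕ} (w : PT.Fam 𝒮L W n)
    (σ : 𝒮L.presheaf.obj (op W))
    (hσ : ∀ (V : X.Opens) (hV : IsAffineOpen V) (hT : V ≤ W),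
      w.w V hV hT = (𝒮L.presheaf.map (homOfLE hT).op).hom σ) :
    ∃ t : Γ(CohB1.tensorPow L n, W), secFam hj hL n W t = w := by
  obtain ⟨t, ht⟩ := exists_of_homog hj hL n W σ (fun V hV i => by
    rw [← hσ V hV i]; exact w.mem V hV i)
  refine ⟨t, fam_ext _ _ (fun V hV hT => ?_)⟩
  rw [hσ V hV hT, ← ht]
  rfl

include hj hL in
/-- **ampleness on an open from a covering family of affine opens `X_σ`** -/
theorem isAmple_restrict_of_family (W : X.Opens) (hW : IsCompact (W : Set X))
    (h : ∀ x ∈ W, ∃ (m : ℕ) (w : PT.Fam 𝒮L W (m + 1)) (σ : 𝒮L.presheaf.obj (op W)),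
      (∀ (V : X.Opens) (hV : IsAffineOpen V) (hT : V ≤ W),
        w.w V hV hT = (𝒮L.presheaf.map (homOfLE hT).op).hom σ) ∧
      x ∈ PT.Xw w ∧ IsAffineOpen (PT.Xw w)) :
    CohB1.IsAmple (L.restrict W.ι) := by
  refine ⟨Groth.Agent.Helper4.QAffSec.isInvertible_restrict W.ι hL,
    isCompact_iff_compactSpace.mp hW, fun y => ?_⟩
  obtain ⟨m, w, σ, hσ, hx, haff⟩ := h y.1 y.2
  obtain ⟨t, rfl⟩ := exists_secFam_eq hj hL w σ hσ
  rw [← image_genLocus hj hL (m + 1) W t] at hx haff
  have e := genLocus_comp_iso (resPowIso W.ι L (m + 1)).symm (τ (m + 1) W t)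
  rw [Iso.symm_hom] at e
  refine ⟨m, τ (m + 1) W t ≫ (resPowIso W.ι L (m + 1)).inv, ?_, ?_⟩
  · rw [e]
    obtain ⟨z, hz, hzy⟩ := hx
    have : z = y := W.ι.isOpenEmbedding.injective hzy
    exact this ▸ hz
  · rw [e]
    exact W.ι.isAffineOpen_iff_of_isOpenImmersion.mp haff

end

end Groth.Agent.Helper4.SN350
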