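import Mathlib
import Groth.Prelude.Def_RelProj2
import Groth.Prelude.Def_CohB1
import Groth.Agent.Helper1.SG9
import Groth.Agent.Helper1.SG6
import Groth.Agent.Helper4.SecDict
import Groth.Agent.Helper4.FTGlue

/-!
# Finite type of the degree-one part: dictionary lemmas
-/

set_option autoImplicit false
set_option linter.unusedSectionVars false

namespace Groth.Agent.Helper4.SN298

open CategoryTheory AlgebraicGeometry TopologicalSpace Opposite RelSpec RelProj
open Groth.Agent.Helper1.SY Groth.Agent.Helper1.SG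

universe u

/-- reindexing a finite linear combination over the image of the index set -/
theorem exists_sum_image {α B Γ : Type*} [DecidableEq B] [CommRing B] [CommRing Γ]
    (str : Γ →+* B) (s : Finset α) (g : α → B) (c : α → Γ) :
    ∃ c' : B → Γ, ∑ a ∈ s, str (c a) * g a = ∑ t ∈ s.image g, str (c' t) * t := by
  classical
  refine ⟨fun t => ∑ a ∈ s with g a = t, c a, ?_⟩
  symm
  apply Finset.sum_image'
  intro i _
  rw [map_sum, Finset.sum_mul]
  refine Finset.sum_congr rfl fun j hj => ?_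
  rw [(Finset.mem_filter.mp hj).2]

variable {S : Scheme.{u}}

section transfer

variable {𝒜 ℬ : QCGrAlg S} (φ : 𝒜.toQCAlg ⟶ ℬ.toQCAlg) (hφ : IsGradedHom φ)
  (hdeg : ∀ (U : S.Opens) (hU : IsAffineOpen U) (d : ℕ), ∀ y ∈ ℬ.deg U hU d,
    ∃ x ∈ 𝒜.deg U hU d, (φ.hom.app (op U)).hom x = y)
  (hsurj : ∀ (U : S.Opens), IsAffineOpen U → Function.Surjective (φ.hom.app (op U)).hom)

include hφ hsurj in
theorem isGenDegOne_of_surjective (h : 𝒜.IsGenDegOne) : ℬ.IsGenDegOne := by
  intro U hU
  rw [eq_top_iff]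
  rintro y -
  obtain ⟨x, rfl⟩ := hsurj U hU y
  have hx : x ∈ Subring.closure
      ((𝒜.deg U hU 0 : Set (𝒜.presheaf.obj (op U))) ∪ (𝒜.deg U hU 1 : Set _)) := by
    rw [h U hU]; trivial
  induction hx using Subring.closure_induction with
  | mem x hx =>
    apply Subring.subset_closure
    rcases hx with hx | hx
    · exact Or.inl (hφ U hU 0 x hx)
    · exact Or.inr (hφ U hU 1 x hx)
  | zero => rw [map_zero]; exact Subring.zero_mem _
  | one => rw [map_one]; exact Subring.one_mem _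
  | add x y _ _ hx hy => rw [map_add]; exact Subring.add_mem _ hx hy
  | neg x _ hx => rw [map_neg]; exact Subring.neg_mem _ hx
  | mul x y _ _ hx hy => rw [map_mul]; exact Subring.mul_mem _ hx hy

include hφ hdeg in
theorem isFTDeg_of_surjective (d : ℕ) (h : 𝒜.IsFTDeg d) : ℬ.IsFTDeg d := by
  classical
  intro U hU
  obtain ⟨T, hT, hspan⟩ := h U hU
  refine ⟨T.image (φ.hom.app (op U)).hom, ?_, ?_⟩
  · intro y hy
    obtain ⟨t, ht, rfl⟩ := Finset.mem_image.mp (Finset.mem_coe.mp hy)
    exact hφ U hU d t (hT (Finset.mem_coe.mpr ht))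
  · intro y hy
    obtain ⟨x, hx, rfl⟩ := hdeg U hU d y hy
    obtain ⟨c, hc⟩ := hspan x hx
    have hstr : ∀ r : Γ(S, U), (φ.hom.app (op U)).hom ((𝒜.str.app (op U)).hom r) =
        (ℬ.str.app (op U)).hom r := fun r => by
      have := congrArg (fun k => k.app (op U)) φ.comm
      exact congrArg (fun k => k.hom r) this
    obtain ⟨c', hc'⟩ := exists_sum_image (ℬ.str.app (op U)).hom T (φ.hom.app (op U)).hom c
    refine ⟨c', ?_⟩
    rw [← hc', hc, map_sum]
    refine Finset.sum_congr rfl fun t _ => ?_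
    rw [map_mul, hstr]

end transfer


section degMod

variable (𝒮 : QCGrAlg S)

/-- the degree-one part of an algebra with `𝒮_1` of finite type is a module of finite type -/
theorem isFT_degMod (d : ℕ) (hft : 𝒮.IsFTDeg d) : CohB1.IsFT (degMod 𝒮 d) := by
  classical
  apply Groth.Agent.Helper4.FTGlue.isFiniteType_of_finite_sections (degMod 𝒮 d)
  intro x
  obtain ⟨_, ⟨U, hU, rfl⟩, hxU, -⟩ :=
    S.isBasis_affineOpens.exists_subset_of_mem_open (Set.mem_univ x) isOpen_univ
  refine ⟨U, hU, hxU, ?_⟩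
  obtain ⟨T, hT, hspan⟩ := hft U hU
  letI : Algebra Γ(S, U) (𝒮.presheaf.obj (op U)) := (𝒮.str.app (op U)).hom.toAlgebra
  let L := linOf 𝒮.toQCAlg (degι 𝒮 d) U
  have hLinj : Function.Injective L := degι_app_injective 𝒮 d U
  have hex : ∀ t : 𝒮.presheaf.obj (op U), ∃ m : Γ(degMod 𝒮 d, U), t ∈ 𝒮.deg U hU d → L m = t := by
    intro t
    by_cases ht : t ∈ 𝒮.deg U hU d
    · obtain ⟨m, hm⟩ := exists_of_mem_deg' 𝒮 d U hU ht
      exact ⟨m, fun _ => hm⟩
    · exact ⟨0, fun h => absurd h ht⟩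
  choose g hg using hex
  refine Module.finite_def.mpr ⟨T.image g, ?_⟩
  rw [eq_top_iff]
  rintro m -
  obtain ⟨c, hc⟩ := hspan (L m) (degι_mem 𝒮 d U hU m)
  have hm : m = ∑ t ∈ T, c t • g t := by
    apply hLinj
    rw [hc, map_sum]
    refine Finset.sum_congr rfl fun t ht => ?_
    rw [map_smul, hg t (hT (Finset.mem_coe.mpr ht))]
    rfl
  rw [hm]
  refine Submodule.sum_mem _ fun t ht => Submodule.smul_mem _ _ (Submodule.subset_span ?_)
  exact Finset.mem_coe.mpr (Finset.mem_image_of_mem g ht)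

end degMod

section sym

variable {E : S.Modules} [E.IsQuasicoherent] {𝒯 : QCGrAlg S} {j : E ⟶ 𝒯.toModule}

/-- the graded symmetric algebra of a module of finite type has degree-one part of finite type -/
theorem isFTDeg_one_of_isFT (hE : CohB1.IsFT E) (hj : IsGrSymAlg E 𝒯 j) : 𝒯.IsFTDeg 1 := by
  classical
  intro U hU
  haveI : Module.Finite Γ(S, U) Γ(E, U) :=
    Groth.Agent.Helper4.SecDict.finite_sections hU E inferInstance hE
  obtain ⟨s, hs⟩ := Module.finite_def.mp this
  letI : Algebra Γ(S, U) (𝒯.presheaf.obj (op U)) := (𝒯.str.app (op U)).hom.toAlgebra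
  let L := linOf 𝒯.toQCAlg j U
  refine ⟨s.image L, ?_, ?_⟩
  · intro y hy
    obtain ⟨m, _, rfl⟩ := Finset.mem_image.mp (Finset.mem_coe.mp hy)
    exact hj.2 U hU m
  · intro x hx
    obtain ⟨y, hy, rfl⟩ := exists_of_mem_deg hj U hU hx
    have hy' : y ∈ LinearMap.range (SymmetricAlgebra.ι Γ(S, U) Γ(E, U)) := by
      simpa only [symPow, pow_one] using hy
    obtain ⟨m, rfl⟩ := hy'
    rw [symLift_ι]
    have hm : m ∈ Submodule.span Γ(S, U) (s : Set Γ(E, U)) := by rw [hs]; trivial
    obtain ⟨c, hc⟩ := Submodule.mem_span_finset'.mp hm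
    obtain ⟨c', hc'⟩ := exists_sum_image (𝒯.str.app (op U)).hom s L
      (fun a => if h : a ∈ s then c ⟨a, h⟩ else 0)
    refine ⟨c', ?_⟩
    rw [← hc']
    change L m = _
    rw [← hc, map_sum, ← Finset.sum_attach s (fun a => (𝒯.str.app (op U)).hom
      (if h : a ∈ s then c ⟨a, h⟩ else 0) * L a)]
    refine Finset.sum_congr rfl fun a _ => ?_
    rw [map_smul, dif_pos a.2]
    rfl

end sym

end Groth.Agent.Helper4.SN298
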