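import Mathlib
import Groth.Prelude.Def_RelProj4
import Groth.Agent.Helper4.SN311

/-!
# Composites of graded `q`-morphisms with graded homomorphisms; `Proj(u)` with its restriction
to `G(u)` exposed
-/

set_option autoImplicit false
set_option linter.unusedSectionVars false
set_option linter.style.haveILetI false

namespace Groth.Agent.Helper4.SN321

open CategoryTheory CategoryTheory.Limits AlgebraicGeometry TopologicalSpace Opposite RelSpec RelProj
open Groth.Agent.Helper1 Groth.Agent.Helper1.RP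
open scoped HomogeneousIdeal

universe u

noncomputable section

section comp

variable {Y X : Scheme.{u}} {q : X ⟶ Y} {𝒮 𝒯 : QCGrAlg Y} {𝒮L : QCGrAlg X}
  (u : QGrHom q 𝒮 𝒮L) (v : 𝒯.toQCAlg ⟶ 𝒮.toQCAlg) (hv : IsGradedHom v)

/-- the composite of a graded `q`-morphism with a graded homomorphism on the base -/
def compV : QGrHom q 𝒯 𝒮L where
  toQHom :=
    { app := fun U => v.hom.app (op U) ≫ u.app U
      naturality := by
        intro U V i
        rw [Category.assoc, u.naturality i, ← Category.assoc, ← Category.assoc]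
        congr 1
        exact (v.hom.naturality (homOfLE i).op).symm
      str_app := by
        intro U
        have h1 : 𝒯.str.app (op U) ≫ v.hom.app (op U) = 𝒮.str.app (op U) :=
          congrArg (fun k => k.app (op U)) v.comm
        rw [← Category.assoc, h1]
        exact u.str_app U }
  map_mem U hU U' hU' hle d x hx := u.map_mem U hU U' hU' hle (hv U hU d x hx)

theorem compV_app (U : Y.Opens) : (compV u v hv).app U = v.hom.app (op U) ≫ u.app U := rfl

theorem compV_gradedAt (U : Y.Opens) (hU : IsAffineOpen U) (U' : X.Opens) (hU' : IsAffineOpen U')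
    (hle : U' ≤ q ⁻¹ᵁ U) (x : 𝒯.presheaf.obj (op U)) :
    (compV u v hv).gradedAt U hU U' hU' hle x =
      u.gradedAt U hU U' hU' hle ((v.hom.app (op U)).hom x) := rfl

end comp

section projmap

variable {A B σ τ : Type u} [CommRing A] [CommRing B] [SetLike σ A] [SetLike τ B]
  [AddSubgroupClass σ A] [AddSubgroupClass τ B]
  {𝒜 : ℕ → σ} {ℬ : ℕ → τ} [GradedRing 𝒜] [GradedRing ℬ]

theorem projMap_congr {f f' : 𝒜 →+*ᵍ ℬ} (h : f = f') (hf : (ℬ)₊ ≤ ((𝒜)₊).map f)
    (hf' : (ℬ)₊ ≤ ((𝒜)₊).map f') : Proj.map f hf = Proj.map f' hf' := by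
  subst h
  rfl

end projmap

section general

variable {Y Y' : Scheme.{u}} {g : Y' ⟶ Y} {𝒮 : QCGrAlg Y} {𝒮' : QCGrAlg Y'}
  (u : QGrHom g 𝒮 𝒮') {P : Scheme.{u}} {p : P ⟶ Y}
  {chart : ∀ (U : Y.Opens) (hU : IsAffineOpen U),
    (((p ⁻¹ᵁ U : P.Opens) : Scheme.{u}) ≅ Proj (𝒮.deg U hU))}
  {P' : Scheme.{u}} {p' : P' ⟶ Y'}
  {chart' : ∀ (U' : Y'.Opens) (hU' : IsAffineOpen U'),
    (((p' ⁻¹ᵁ U' : P'.Opens) : Scheme.{u}) ≅ Proj (𝒮'.deg U' hU'))}
  (hirr : ∀ (U : Y.Opens) (hU : IsAffineOpen U) (U' : Y'.Opens) (hU' : IsAffineOpen U')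
    (hle : U' ≤ g ⁻¹ᵁ U), (𝒮'.deg U' hU')₊ ≤ ((𝒮.deg U hU)₊).map (u.gradedAt U hU U' hU' hle))

include hirr in
/-- **`Proj(u)`, everywhere defined, together with any of its incarnations on `G(u)`** -/
theorem projQMapOn_eq (hP : IsRelProj 𝒮 p chart) (hP' : IsRelProj 𝒮' p' chart')
    (r : ((RelProj.domQ u p' chart' : P'.Opens) : Scheme.{u}) ⟶ P)
    (hr : IsProjQMapOn u p chart p' chart' (RelProj.domQ u p' chart') r) :
    ∃ h : P' ⟶ P, (RelProj.domQ u p' chart').ι ≫ h = r ∧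
      IsProjQMap u p chart p' chart' h ∧ h ≫ p = p' ≫ g ∧
      ∀ (U : Y.Opens) (hU : IsAffineOpen U) (U' : Y'.Opens) (hU' : IsAffineOpen U')
        (hle : U' ≤ g ⁻¹ᵁ U), (p' ⁻¹ᵁ U').ι ≫ h =
          (chart' U' hU').hom ≫ Proj.map (u.gradedAt U hU U' hU' hle) (hirr U hU U' hU' hle) ≫
            emb p chart U hU := by
  have htop := Groth.Agent.Helper4.SN311.domQ_eq_top u (p' := p') (chart' := chart') hirr
  have hι : (P'.isoOfEq htop ≪≫ P'.topIso).inv ≫ (RelProj.domQ u p' chart').ι = 𝟙 P' := by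
    rw [Iso.trans_inv, Category.assoc, Scheme.isoOfEq_inv_ι, ← Scheme.topIso_hom,
      Iso.inv_hom_id]
  have hι' : (RelProj.domQ u p' chart').ι = (P'.isoOfEq htop ≪≫ P'.topIso).hom := by
    rw [Iso.trans_hom, Scheme.topIso_hom, Scheme.isoOfEq_hom_ι]
  have hh : IsProjQMap u p chart p' chart' ((P'.isoOfEq htop ≪≫ P'.topIso).inv ≫ r) := by
    refine ⟨htop, ?_⟩
    intro U hU U' hU' hle d hd f hf
    rw [← liftEmb_r hr U hU U' hU' hle hd f hf, ← Category.assoc]
    congr 1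
    rw [← cancel_mono (RelProj.domQ u p' chart').ι, liftEmb_ι,
      Category.assoc, hι, Category.comp_id]
  refine ⟨_, ?_, hh, ?_, fun U hU U' hU' hle =>
    Groth.Agent.Helper4.SN286.map_form_of_isProjQMap u hh U hU U' hU' hle (hirr U hU U' hU' hle)⟩
  · rw [hι', Iso.hom_inv_id_assoc]
  · rw [Category.assoc, projQMapOn_comm hP hP' hr, ← Category.assoc, hι, Category.id_comp]

end general

end

end Groth.Agent.Helper4.SN321
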