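import Mathlib
import Groth.Agent.Lead.BCMap5
import Groth.Agent.Lead.BCMap11
import Groth.Agent.Lead.StalkPull
import Groth.Agent.Helper4.QcohLocal

/-!
# If the adjoint of `κ : F ⟶ f_* G` is an isomorphism, free generators go to free generators
-/

set_option autoImplicit false
set_option linter.style.haveILetI false

namespace Groth.Agent.Helper4.SN317

open CategoryTheory CategoryTheory.Limits AlgebraicGeometry TopologicalSpace Opposite

universe u

variable {X Y : Scheme.{u}} (f : X ⟶ Y) {F : Y.Modules} {G : X.Modules}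
  [F.IsQuasicoherent] (κ : F ⟶ (Scheme.Modules.pushforward f).obj G)

lemma app_bijective_of_isIso {Z : Scheme.{u}} {M N : Z.Modules} (φ : M ⟶ N) [IsIso φ]
    (U : Z.Opens) : Function.Bijective (φ.app U) := by
  refine Function.bijective_iff_has_inverse.2 ⟨(inv φ).app U, fun a => ?_, fun b => ?_⟩
  · exact congrArg (fun k => k.app U a) (IsIso.hom_inv_id φ)
  · exact congrArg (fun k => k.app U b) (IsIso.inv_hom_id φ)

theorem generator_of_isIso_adjoint
    [IsIso (((Scheme.Modules.pullbackPushforwardAdjunction f).homEquiv F G).symm κ)]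
    {U : Y.Opens} {V : X.Opens} (e : V ≤ f ⁻¹ᵁ U) (hU : IsAffineOpen U) (hV : IsAffineOpen V)
    (s : Γ(F, U)) (hs : Function.Bijective (fun c : Γ(Y, U) => c • s)) :
    Function.Bijective (fun c : Γ(X, V) =>
      c • G.presheaf.map (homOfLE e).op (κ.app U s)) := by
  set ν := ((Scheme.Modules.pullbackPushforwardAdjunction f).homEquiv F G).symm κ with hν
  letI := (f.appLE U V e).hom.toAlgebra
  letI : Module Γ(Y, U) Γ((Scheme.Modules.pullback f).obj F, V) :=
    Module.compHom _ (f.appLE U V e).hom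
  haveI : IsScalarTower Γ(Y, U) Γ(X, V) Γ((Scheme.Modules.pullback f).obj F, V) :=
    IsScalarTower.of_compHom _ _ _
  obtain ⟨ρ, hρ, hb⟩ := Groth.Agent.Lead.BCMap.exists_isBaseChange_pbSec f F hU hV e
  have hkey : ∀ m, ν.app V (ρ m) = G.presheaf.map (homOfLE e).op (κ.app U m) := by
    intro m
    rw [hρ, ← Groth.Agent.Lead.BCMap.homEquiv_app f F ν U V e m, hν, Equiv.apply_symm_apply]
  let e₀ : Γ(Y, U) ≃ₗ[Γ(Y, U)] Γ(F, U) :=
    LinearEquiv.ofBijective (LinearMap.toSpanSingleton Γ(Y, U) Γ(F, U) s) hs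
  have hβ := Groth.Agent.Lead.BCMap.bijective_of_two_isBaseChange (R := Γ(Y, U)) (R' := Γ(X, V))
    (Algebra.linearMap Γ(Y, U) Γ(X, V)) (IsBaseChange.linearMap _ _) ρ hb e₀
    (LinearMap.toSpanSingleton Γ(X, V) _ (ρ s)) (fun c => by
      change (algebraMap Γ(Y, U) Γ(X, V) c) • ρ s = ρ (c • s)
      rw [map_smul, algebraMap_smul])
  have hcomp : (ν.app V : _ → _) ∘ (LinearMap.toSpanSingleton Γ(X, V) _ (ρ s)) =
      fun c : Γ(X, V) => c • G.presheaf.map (homOfLE e).op (κ.app U s) := by
    funext c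
    simp only [Function.comp_apply, LinearMap.toSpanSingleton_apply]
    rw [Scheme.Modules.Hom.app_smul, hkey]
  rw [← hcomp]
  exact (app_bijective_of_isIso ν V).comp hβ

end Groth.Agent.Helper4.SN317
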