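import Mathlib
import Groth.Prelude.Def_GrTwist
import Groth.Agent.Helper1.GT1

/-!
# Functions on `Proj` as families of degree-zero fractions: evaluation, units, fractions `a / f`
-/

set_option autoImplicit false
set_option linter.unusedSectionVars false

namespace Groth.Agent.Helper4.SN316

open CategoryTheory AlgebraicGeometry TopologicalSpace Opposite
open scoped HomogeneousIdeal

universe u

variable {A σ : Type u} [CommRing A] [SetLike σ A] [AddSubgroupClass σ A] {𝒜 : ℕ → σ} [GradedRing 𝒜]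

/-- the value of a function at a point, in the degree-zero homogeneous localization -/
def ev {W : (Proj 𝒜).Opens} (c : Γ(Proj 𝒜, W)) (y : W) : GrTwist.A0 𝒜 y.1 :=
  (c : GrTwist.O (𝒜 := 𝒜) (op W)).1 y

lemma ev_mul {W : (Proj 𝒜).Opens} (c d : Γ(Proj 𝒜, W)) (y : W) : ev (c * d) y = ev c y * ev d y :=
  rfl

lemma ev_one {W : (Proj 𝒜).Opens} (y : W) : ev (1 : Γ(Proj 𝒜, W)) y = 1 := rfl

lemma ev_res {U W : (Proj 𝒜).Opens} (h : W ≤ U) (c : Γ(Proj 𝒜, U)) (y : W) :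
    ev ((Proj 𝒜).presheaf.map (homOfLE h).op c) y = ev c ⟨y.1, h y.2⟩ := rfl

lemma ext_ev {W : (Proj 𝒜).Opens} (c d : Γ(Proj 𝒜, W)) (h : ∀ y : W, ev c y = ev d y) : c = d :=
  Subtype.ext (funext h)

lemma isUnit_ev {W : (Proj 𝒜).Opens} (c : Γ(Proj 𝒜, W)) (hc : IsUnit c) (y : W) :
    IsUnit (ev c y) := by
  obtain ⟨u, rfl⟩ := hc
  refine ⟨⟨ev (u : Γ(Proj 𝒜, W)) y, ev ((u⁻¹ : (Γ(Proj 𝒜, W))ˣ) : Γ(Proj 𝒜, W)) y, ?_, ?_⟩, rfl⟩
  · rw [← ev_mul, Units.mul_inv, ev_one]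
  · rw [← ev_mul, Units.inv_mul, ev_one]

lemma val_smul (n : ℤ) (W : (Proj 𝒜).Opens) (c : Γ(Proj 𝒜, W)) (s : Γ(GrTwist.twist 𝒜 n, W))
    (y : W) : GrTwist.val (c • s) y = (ev c y).val * GrTwist.val s y :=
  GrTwist.coe_smul_val n y.1 _ _

/-- a degree-zero fraction at `y` which is a unit has numerator outside `y` -/
lemma notMem_of_isUnit (y : ProjectiveSpectrum 𝒜) (q : GrTwist.A0 𝒜 y) (hq : IsUnit q)
    (a b : A) (hb : b ∉ y.asHomogeneousIdeal)
    (hval : q.val = Localization.mk a ⟨b, hb⟩) : a ∉ y.asHomogeneousIdeal := by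
  have h1 : IsUnit q.val := by
    have := hq.map (algebraMap (GrTwist.A0 𝒜 y) (GrTwist.Loc 𝒜 y))
    rwa [HomogeneousLocalization.algebraMap_apply] at this
  rw [hval, Localization.mk_eq_mk'] at h1
  exact (IsLocalization.AtPrime.isUnit_mk'_iff (GrTwist.Loc 𝒜 y) y.asHomogeneousIdeal.toIdeal
    a ⟨b, hb⟩).1 h1

section away

variable {f : A} {d : ℕ} (hf : f ∈ 𝒜 d)

/-- the value of the function attached to an element of `A_(f)` -/
lemma ev_awayToSection (z : HomogeneousLocalization.Away 𝒜 f) (y : Proj.basicOpen 𝒜 f) :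
    ev ((Proj.awayToSection 𝒜 f).hom z) y =
      HomogeneousLocalization.mapId 𝒜 (Submonoid.powers_le.mpr y.2) z := rfl

lemma val_mapId_mk (y : ProjectiveSpectrum 𝒜) (hy : f ∉ y.asHomogeneousIdeal) (n : ℕ) (a : A)
    (ha : a ∈ 𝒜 (n • d)) :
    (HomogeneousLocalization.mapId 𝒜 (Submonoid.powers_le.mpr hy)
      (HomogeneousLocalization.Away.mk 𝒜 hf n a ha) :
        GrTwist.A0 𝒜 y).val =
      Localization.mk a (⟨f ^ n, fun h => hy (y.isPrime.mem_of_pow_mem _ h)⟩ :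
        y.asHomogeneousIdeal.toIdeal.primeCompl) := by
  rfl

end away

end Groth.Agent.Helper4.SN316
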