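import Mathlib
import Groth.Prelude.Def_RelProj2
import Groth.Agent.Helper1.SG6
import Groth.Agent.Helper1.SY15
import Groth.Agent.Helper1.RP15
import Groth.Agent.Helper1.TR23
import Groth.Agent.Helper1.TR24
import Groth.Agent.Helper1.CF1
import Groth.Agent.Helper4.SN316

set_option autoImplicit false
set_option linter.unusedSectionVars false
set_option linter.style.haveILetI false

open CategoryTheory CategoryTheory.Limits AlgebraicGeometry TopologicalSpace Opposite RelSpec RelProj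
open Groth.Agent.Helper1 Groth.Agent.Helper1.RP Groth.Agent.Helper1.SY Groth.Agent.Helper1.SG
open HomogeneousLocalization
open scoped HomogeneousIdeal

universe u

namespace Groth.Agent.Helper4.SN318

namespace AwayExt


variable {Y : Scheme.{u}} {E : Y.Modules} [E.IsQuasicoherent] {𝒮 : QCGrAlg Y}
  {j : E ⟶ 𝒮.toModule} (hj : IsGrSymAlg E 𝒮 j) (U : Y.Opens) (hU : IsAffineOpen U)
  {f : 𝒮.presheaf.obj (op U)} (hf : f ∈ 𝒮.deg U hU 1)

lemma mem0 (c : Γ(Y, U)) : (𝒮.str.app (op U)).hom c ∈ 𝒮.deg U hU (0 • 1) := 𝒮.str_mem U hU c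

include hj in
lemma mem1 (m : Γ(E, U)) : (j.app U m : 𝒮.presheaf.obj (op U)) ∈ 𝒮.deg U hU (1 • 1) := hj.2 U hU m

include hj in
theorem away_ringHom_ext {T : Type*} [Semiring T]
    (α α' : Away (𝒮.deg U hU) f →+* T)
    (h0 : ∀ c : Γ(Y, U), α (Away.mk _ hf 0 ((𝒮.str.app (op U)).hom c) (mem0 U hU c)) =
      α' (Away.mk _ hf 0 ((𝒮.str.app (op U)).hom c) (mem0 U hU c)))
    (h1 : ∀ m : Γ(E, U), α (Away.mk _ hf 1 (j.app U m) (mem1 hj U hU m)) =
      α' (Away.mk _ hf 1 (j.app U m) (mem1 hj U hU m))) : α = α' := by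
  have claim : ∀ (n : ℕ) (x : SymmetricAlgebra Γ(Y, U) Γ(E, U))
      (_ : x ∈ symPow Γ(Y, U) Γ(E, U) n)
      (hmem : symLift 𝒮.toQCAlg j U x ∈ 𝒮.deg U hU (n • 1)),
      α (Away.mk _ hf n (symLift 𝒮.toQCAlg j U x) hmem) =
        α' (Away.mk _ hf n (symLift 𝒮.toQCAlg j U x) hmem) := by
    intro n x hx
    unfold symPow at hx
    induction hx using Submodule.pow_induction_on_left' with
    | algebraMap c =>
      intro hmem
      have e1 : Away.mk _ hf 0 (symLift 𝒮.toQCAlg j U (algebraMap _ _ c)) hmem =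
          Away.mk _ hf 0 ((𝒮.str.app (op U)).hom c) (mem0 U hU c) := by
        apply HomogeneousLocalization.val_injective
        rw [Away.val_mk, Away.val_mk, symLift_algebraMap]
      rw [e1]
      exact h0 c
    | add x y i hx hy ihx ihy =>
      intro hmem
      have hxm : symLift 𝒮.toQCAlg j U x ∈ 𝒮.deg U hU (i • 1) := by
        have := symLift_mem_deg hj U hU (x := x) (n := i) hx
        simpa using this
      have hym : symLift 𝒮.toQCAlg j U y ∈ 𝒮.deg U hU (i • 1) := by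
        have := symLift_mem_deg hj U hU (x := y) (n := i) hy
        simpa using this
      have e1 : Away.mk _ hf i (symLift 𝒮.toQCAlg j U (x + y)) hmem =
          Away.mk _ hf i (symLift 𝒮.toQCAlg j U x) hxm +
            Away.mk _ hf i (symLift 𝒮.toQCAlg j U y) hym := by
        apply HomogeneousLocalization.val_injective
        rw [HomogeneousLocalization.val_add, Away.val_mk, Away.val_mk, Away.val_mk, map_add,
          Localization.add_mk_self]
      rw [e1, map_add, map_add, ihx hxm, ihy hym]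
    | mem_mul m hm i x hx ih =>
      intro hmem
      obtain ⟨m, rfl⟩ := hm
      have hxm : symLift 𝒮.toQCAlg j U x ∈ 𝒮.deg U hU (i • 1) := by
        have := symLift_mem_deg hj U hU (x := x) (n := i) hx
        simpa using this
      have e1 : Away.mk _ hf (i + 1) (symLift 𝒮.toQCAlg j U (SymmetricAlgebra.ι _ _ m * x)) hmem =
          Away.mk _ hf 1 (j.app U m) (mem1 hj U hU m) *
            Away.mk _ hf i (symLift 𝒮.toQCAlg j U x) hxm := by
        apply HomogeneousLocalization.val_injective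
        rw [HomogeneousLocalization.val_mul, Away.val_mk, Away.val_mk, Away.val_mk, map_mul,
          symLift_ι, Localization.mk_mul]
        congr 1
        apply Subtype.ext
        change f ^ (i + 1) = f ^ 1 * f ^ i
        rw [pow_one, pow_succ']
      rw [e1, map_mul, map_mul, ih hxm, h1 m]
  ext z
  obtain ⟨n, a, ha, rfl⟩ := Away.mk_surjective (𝒜 := 𝒮.deg U hU) hf z
  have ha' : a ∈ 𝒮.deg U hU n := by simpa using ha
  obtain ⟨x, hx, rfl⟩ := exists_of_mem_deg hj U hU ha'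
  exact claim n x hx ha

end AwayExt

noncomputable section

variable {Y P : Scheme.{u}} {𝒮 : QCGrAlg Y} (p : P ⟶ Y)
  (chart : ∀ (U : Y.Opens) (hU : IsAffineOpen U),
    (((p ⁻¹ᵁ U : P.Opens) : Scheme.{u}) ≅ Proj (𝒮.deg U hU)))
  (U : Y.Opens) (hU : IsAffineOpen U) (f : 𝒮.presheaf.obj (op U))

/-- the standard open `D₊(f)` of the chart over `U`, as an open of `P` -/
def Wf : P.Opens := emb p chart U hU ''ᵁ Proj.basicOpen (𝒮.deg U hU) f

lemma Wf_le : Wf p chart U hU f ≤ p ⁻¹ᵁ U := by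
  rintro _ ⟨z, -, rfl⟩
  exact emb_mem p chart U hU z

lemma pre_Wf : emb p chart U hU ⁻¹ᵁ Wf p chart U hU f = Proj.basicOpen (𝒮.deg U hU) f :=
  Scheme.Hom.preimage_image_eq _ _

lemma isAffineOpen_Wf {d : ℕ} (hf : f ∈ 𝒮.deg U hU d) (hd : 0 < d) :
    IsAffineOpen (Wf p chart U hU f) :=
  (Proj.isAffineOpen_basicOpen (𝒮.deg U hU) f hf hd).image_of_isOpenImmersion _

instance isIso_emb_app : IsIso ((emb p chart U hU).app (Wf p chart U hU f)) :=
  Scheme.Hom.isIso_app (emb p chart U hU) _ (by rw [opensRange_emb]; exact Wf_le p chart U hU f)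

/-- the function on `W_f` attached to an element of `𝒮(U)_(f)` -/
def Qf : Away (𝒮.deg U hU) f →+* Γ(P, Wf p chart U hU f) :=
  (inv ((emb p chart U hU).app (Wf p chart U hU f))).hom.comp
    (((Proj (𝒮.deg U hU)).presheaf.map
      (homOfLE (le_of_eq (pre_Wf p chart U hU f))).op).hom.comp
      (Proj.awayToSection (𝒮.deg U hU) f).hom)

lemma emb_app_Qf (z : Away (𝒮.deg U hU) f) :
    ((emb p chart U hU).app (Wf p chart U hU f)).hom (Qf p chart U hU f z) =
      ((Proj (𝒮.deg U hU)).presheaf.map (homOfLE (le_of_eq (pre_Wf p chart U hU f))).op).hom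
        ((Proj.awayToSection (𝒮.deg U hU) f).hom z) := by
  change ((inv ((emb p chart U hU).app (Wf p chart U hU f))) ≫
    ((emb p chart U hU).app (Wf p chart U hU f))).hom _ = _
  rw [IsIso.inv_hom_id]
  rfl

lemma notMem_of_mem_pre {y : Proj (𝒮.deg U hU)}
    (hy : y ∈ emb p chart U hU ⁻¹ᵁ Wf p chart U hU f) : f ∉ y.asHomogeneousIdeal := by
  rw [pre_Wf] at hy
  exact hy

lemma ev_Qf (z : Away (𝒮.deg U hU) f) (y : ↥(emb p chart U hU ⁻¹ᵁ Wf p chart U hU f)) :
    Groth.Agent.Helper4.SN316.ev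
      (((emb p chart U hU).app (Wf p chart U hU f)).hom (Qf p chart U hU f z)) y =
      HomogeneousLocalization.mapId (𝒮.deg U hU)
        (Submonoid.powers_le.mpr (notMem_of_mem_pre p chart U hU f y.2)) z := by
  rw [emb_app_Qf]
  rfl

lemma Qf_surjective {d : ℕ} (hf : f ∈ 𝒮.deg U hU d) (hd : 0 < d) :
    Function.Surjective (Qf p chart U hU f) := by
  intro q
  set s := ((emb p chart U hU).app (Wf p chart U hU f)).hom q with hs
  set s' := ((Proj (𝒮.deg U hU)).presheaf.map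
    (homOfLE (le_of_eq (pre_Wf p chart U hU f).symm)).op).hom s with hs'
  refine ⟨(Proj.basicOpenIsoAway (𝒮.deg U hU) f hf hd).inv.hom s', ?_⟩
  have h1 : (Proj.awayToSection (𝒮.deg U hU) f).hom
      ((Proj.basicOpenIsoAway (𝒮.deg U hU) f hf hd).inv.hom s') = s' := by
    have := congrArg (fun k => k.hom s') (Proj.basicOpenIsoAway (𝒮.deg U hU) f hf hd).inv_hom_id
    rw [Proj.basicOpenIsoAway_hom] at this
    exact this
  have h2 : ((Proj (𝒮.deg U hU)).presheaf.map
      (homOfLE (le_of_eq (pre_Wf p chart U hU f))).op).hom s' = s := by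
    rw [hs']
    change ((Proj (𝒮.deg U hU)).presheaf.map _ ≫ (Proj (𝒮.deg U hU)).presheaf.map _).hom s = s
    rw [← Functor.map_comp]
    exact congrArg (fun k => k.hom s) ((Proj (𝒮.deg U hU)).presheaf.map_id _)
  change (inv ((emb p chart U hU).app (Wf p chart U hU f))).hom
    (((Proj (𝒮.deg U hU)).presheaf.map (homOfLE (le_of_eq (pre_Wf p chart U hU f))).op).hom
      ((Proj.awayToSection (𝒮.deg U hU) f).hom _)) = q
  rw [h1, h2, hs]
  change (((emb p chart U hU).app (Wf p chart U hU f)) ≫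
    inv ((emb p chart U hU).app (Wf p chart U hU f))).hom q = q
  rw [IsIso.hom_inv_id]
  rfl


section more

variable {Y P : Scheme.{u}} {𝒮 : QCGrAlg Y} {p : P ⟶ Y}
  {chart : ∀ (U : Y.Opens) (hU : IsAffineOpen U),
    (((p ⁻¹ᵁ U : P.Opens) : Scheme.{u}) ≅ Proj (𝒮.deg U hU))}
  (hP : IsRelProj 𝒮 p chart)
  (U : Y.Opens) (hU : IsAffineOpen U) {f : 𝒮.presheaf.obj (op U)} (hf : f ∈ 𝒮.deg U hU 1)

lemma emb_app_res {W W' : P.Opens} (i : W ≤ W') (x : Γ(P, W')) :
    ((emb p chart U hU).app W).hom ((P.presheaf.map (homOfLE i).op).hom x) =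
      ((Proj (𝒮.deg U hU)).presheaf.map
        (homOfLE ((emb p chart U hU).preimage_mono i)).op).hom
        (((emb p chart U hU).app W').hom x) := by
  have := congrArg (fun k => k.hom x) ((emb p chart U hU).naturality (homOfLE i).op)
  exact this

lemma mem0 (c : Γ(Y, U)) : (𝒮.str.app (op U)).hom c ∈ 𝒮.deg U hU (0 • 1) := 𝒮.str_mem U hU c

include hP in
/-- the functions coming from the base -/
theorem Qf_str (c : Γ(Y, U)) :
    Qf p chart U hU f (Away.mk _ hf 0 ((𝒮.str.app (op U)).hom c) (mem0 U hU c)) =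
      (p.appLE U (Wf p chart U hU f) (Wf_le p chart U hU f)).hom c := by
  have hinj : Function.Injective ((emb p chart U hU).app (Wf p chart U hU f)).hom :=
    (ConcreteCategory.bijective_of_isIso ((emb p chart U hU).app (Wf p chart U hU f))).1
  apply hinj
  apply Groth.Agent.Helper4.SN316.ext_ev
  intro y
  rw [ev_Qf]
  have h1 : (p.appLE U (Wf p chart U hU f) (Wf_le p chart U hU f)).hom c =
      (P.presheaf.map (homOfLE (Wf_le p chart U hU f)).op).hom ((p.app U).hom c) := rfl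
  rw [h1, emb_app_res, Groth.Agent.Helper4.SN316.ev_res]
  apply HomogeneousLocalization.val_injective
  have h2 := CF.val_emb_p hP U hU c
    ⟨y.1, (emb p chart U hU).preimage_mono (Wf_le p chart U hU f) y.2⟩
  refine Eq.trans ?_ h2.symm
  rw [Groth.Agent.Helper4.SN316.val_mapId_mk hf y.1 (notMem_of_mem_pre p chart U hU f y.2)]
  congr 1
  exact Subtype.ext (pow_zero f)

end more

section bundle

variable {Y P : Scheme.{u}} {E : Y.Modules} [E.IsQuasicoherent] {𝒮 : QCGrAlg Y}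
  {j : E ⟶ 𝒮.toModule} (hj : IsGrSymAlg E 𝒮 j) {p : P ⟶ Y}
  {chart : ∀ (U : Y.Opens) (hU : IsAffineOpen U),
    (((p ⁻¹ᵁ U : P.Opens) : Scheme.{u}) ≅ Proj (𝒮.deg U hU))}
  (hP : IsRelProj 𝒮 p chart)
  {O1 : P.Modules}
  {lam : ∀ (U : Y.Opens) (hU : IsAffineOpen U),
    O1 ⟶ (Scheme.Modules.pushforward (emb p chart U hU)).obj (GrTwist.twist (𝒮.deg U hU) 1)}
  (hO1 : IsRelTwist 𝒮 p chart 1 O1 lam)
  (φE : E ⟶ (Scheme.Modules.pushforward p).obj O1)
  (hφE : ∀ (U : Y.Opens) (hU : IsAffineOpen U) (e : Γ(E, U))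
    (y : ↥(emb p chart U hU ⁻¹ᵁ (p ⁻¹ᵁ U))),
    GrTwist.val (V := emb p chart U hU ⁻¹ᵁ (p ⁻¹ᵁ U))
        ((lam U hU).app (p ⁻¹ᵁ U) ((φE.app U) e)) y =
      algebraMap (𝒮.presheaf.obj (op U)) (GrTwist.Loc (𝒮.deg U hU) y.1)
        ((j.app U) e : 𝒮.presheaf.obj (op U)))
  (U : Y.Opens) (hU : IsAffineOpen U)

include hj in
lemma mem1 (m : Γ(E, U)) : (j.app U m : 𝒮.presheaf.obj (op U)) ∈ 𝒮.deg U hU (1 • 1) := hj.2 U hU m

variable (p chart) in
/-- the section `φ(m)` restricted to `W_f` -/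
def φres (f : 𝒮.presheaf.obj (op U)) (m : Γ(E, U)) : Γ(O1, Wf p chart U hU f) :=
  O1.presheaf.map (homOfLE (Wf_le p chart U hU f)).op (φE.app U m)

include hφE in
lemma val_lam_φres (f : 𝒮.presheaf.obj (op U)) (m : Γ(E, U))
    (y : ↥(emb p chart U hU ⁻¹ᵁ Wf p chart U hU f)) :
    GrTwist.val ((lam U hU).app (Wf p chart U hU f) (φres p chart φE U hU f m)) y =
      algebraMap (𝒮.presheaf.obj (op U)) (GrTwist.Loc (𝒮.deg U hU) y.1)
        ((j.app U) m : 𝒮.presheaf.obj (op U)) := by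
  unfold φres
  rw [Groth.Agent.Helper4.StalkExact.app_res]
  exact hφE U hU m ⟨y.1, (emb p chart U hU).preimage_mono (Wf_le p chart U hU f) y.2⟩

include hj hO1 hφE in
/-- **`φ(m) = (j m / j e₀) • φ(e₀)` on `W_{j e₀}`** -/
theorem phi_smul (e₀ m : Γ(E, U)) :
    φres p chart φE U hU (j.app U e₀) m =
      Qf p chart U hU (j.app U e₀) (Away.mk _ (hj.2 U hU e₀) 1 (j.app U m) (mem1 hj U hU m)) •
        φres p chart φE U hU (j.app U e₀) e₀ := by
  apply (hO1.bijective U hU (Wf p chart U hU (j.app U e₀)) (Wf_le p chart U hU _)).1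
  rw [Scheme.Modules.Hom.app_smul]
  apply GT.sect_ext
  intro y
  rw [val_lam_φres φE hφE U hU]
  have h1 : GrTwist.val (V := emb p chart U hU ⁻¹ᵁ Wf p chart U hU (j.app U e₀))
      (Qf p chart U hU (j.app U e₀)
          (Away.mk _ (hj.2 U hU e₀) 1 (j.app U m) (mem1 hj U hU m)) •
        (lam U hU).app (Wf p chart U hU (j.app U e₀)) (φres p chart φE U hU (j.app U e₀) e₀)) y =
      (Groth.Agent.Helper4.SN316.ev (((emb p chart U hU).app (Wf p chart U hU (j.app U e₀))).hom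
        (Qf p chart U hU (j.app U e₀)
          (Away.mk _ (hj.2 U hU e₀) 1 (j.app U m) (mem1 hj U hU m)))) y).val *
      GrTwist.val ((lam U hU).app (Wf p chart U hU (j.app U e₀))
        (φres p chart φE U hU (j.app U e₀) e₀)) y :=
    Groth.Agent.Helper4.SN316.val_smul 1 _ _ _ y
  rw [h1, ev_Qf, val_lam_φres φE hφE U hU]
  have h2 := Groth.Agent.Helper4.SN316.val_mapId_mk (A := 𝒮.presheaf.obj (op U)) (𝒜 := 𝒮.deg U hU)
    (f := (j.app U e₀ : 𝒮.presheaf.obj (op U))) (mem1 hj U hU e₀) y.1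
      (notMem_of_mem_pre p chart U hU _ y.2) 1 (j.app U m : 𝒮.presheaf.obj (op U)) (mem1 hj U hU m)
  rw [h2,
    ← Localization.mk_one_eq_algebraMap, ← Localization.mk_one_eq_algebraMap, Localization.mk_mul,
    Localization.mk_eq_mk_iff, Localization.r_iff_exists]
  refine ⟨1, ?_⟩
  simp only [OneMemClass.coe_one, one_mul, pow_one, mul_one]
  ring

include hj hO1 hφE in
/-- **`φ(e₀)` is a free generator of `O(1)` on `W_{j e₀}`** -/
theorem gen_phi (e₀ : Γ(E, U)) :
    Function.Bijective (fun c : Γ(P, Wf p chart U hU (j.app U e₀)) =>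
      c • φres p chart φE U hU (j.app U e₀) e₀) := by
  have h1mem : (1 : 𝒮.presheaf.obj (op U)) ∈ 𝒮.deg U hU 0 := SetLike.GradedOne.one_mem
  have hij : ((1 : ℕ) : ℤ) = ((0 : ℕ) : ℤ) + 1 := by norm_num
  have hWa : ∀ z : ProjectiveSpectrum.top (𝒮.deg U hU),
      z ∈ emb p chart U hU ⁻¹ᵁ Wf p chart U hU (j.app U e₀) →
      (j.app U e₀ : 𝒮.presheaf.obj (op U)) ∉ z.asHomogeneousIdeal :=
    fun z hz => notMem_of_mem_pre p chart U hU _ hz
  have hWb : ∀ z : ProjectiveSpectrum.top (𝒮.deg U hU),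
      z ∈ emb p chart U hU ⁻¹ᵁ Wf p chart U hU (j.app U e₀) →
      (1 : 𝒮.presheaf.obj (op U)) ∉ z.asHomogeneousIdeal := by
    intro z _ h1
    exact z.isPrime.ne_top ((Ideal.eq_top_iff_one _).2 h1)
  refine TRS.smul_bijective_of_fracSect hO1 U hU _ (Wf_le p chart U hU _)
    (j.app U e₀ : 𝒮.presheaf.obj (op U)) (hj.2 U hU e₀) 1 h1mem hij hWa hWb _ ?_
  apply GT.sect_ext
  rintro ⟨z, hz⟩
  rw [GT.val_fracSect, val_lam_φres φE hφE U hU]
  exact (Localization.mk_one_eq_algebraMap _).symm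

include hj in
/-- the opens `W_{j e₀}` cover `p⁻¹ U` -/
theorem exists_mem_Wf (z : P) (hz : z ∈ p ⁻¹ᵁ U) :
    ∃ e₀ : Γ(E, U), z ∈ Wf p chart U hU (j.app U e₀) := by
  set y : Proj (𝒮.deg U hU) := (chart U hU).hom ⟨z, hz⟩ with hy_def
  have hyz : (emb p chart U hU) y = z := emb_chart_hom p chart U hU z hz
  by_contra hcon
  push Not at hcon
  apply y.not_irrelevant_le
  intro b hb
  have h1 : Ideal.span (Set.range (jR (A := 𝒮.toQCAlg) j U)) ≤ y.asHomogeneousIdeal.toIdeal := by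
    rw [Ideal.span_le]
    rintro _ ⟨m', rfl⟩
    by_contra hm'
    exact hcon m' ⟨y, hm', hyz⟩
  exact h1 (irrelevant_le_span_range_j hj U hU hb)

end bundle

section L5

variable {Y P : Scheme.{u}} {𝒮 : QCGrAlg Y} {p : P ⟶ Y}
  {chart : ∀ (U : Y.Opens) (hU : IsAffineOpen U),
    (((p ⁻¹ᵁ U : P.Opens) : Scheme.{u}) ≅ Proj (𝒮.deg U hU))}
  (U : Y.Opens) (hU : IsAffineOpen U) {f a : 𝒮.presheaf.obj (op U)} (hf : f ∈ 𝒮.deg U hU 1)
  (ha : a ∈ 𝒮.deg U hU (1 • 1))

/-- where the function `a / f` on `W_f` is invertible, `a` does not vanish -/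
theorem mem_Wf_of_mem_basicOpen (z : P)
    (hz : z ∈ P.basicOpen (Qf p chart U hU f (Away.mk _ hf 1 a ha))) :
    z ∈ Wf p chart U hU a := by
  set q := Qf p chart U hU f (Away.mk _ hf 1 a ha) with hq
  have hzW : z ∈ Wf p chart U hU f := P.basicOpen_le q hz
  obtain ⟨y, hy, rfl⟩ := hzW
  refine ⟨y, ?_, rfl⟩
  have hu : IsUnit ((P.presheaf.map (homOfLE (P.basicOpen_le q)).op).hom q) :=
    RingedSpace.isUnit_res_basicOpen P.toRingedSpace q
  have hu2 := hu.map ((emb p chart U hU).app (P.basicOpen q)).hom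
  rw [emb_app_res] at hu2
  have hy' : y ∈ emb p chart U hU ⁻¹ᵁ (P.basicOpen q) := hz
  have hu3 := Groth.Agent.Helper4.SN316.isUnit_ev _ hu2 ⟨y, hy'⟩
  rw [Groth.Agent.Helper4.SN316.ev_res, ev_Qf] at hu3
  have hy2 : f ∉ y.asHomogeneousIdeal := hy
  have hy3 : f ^ 1 ∉ y.asHomogeneousIdeal := by rwa [pow_one]
  exact Groth.Agent.Helper4.SN316.notMem_of_isUnit y _ hu3 a (f ^ 1) hy3
    (Groth.Agent.Helper4.SN316.val_mapId_mk hf y hy2 1 a ha)

end L5

section ext

variable {Y P : Scheme.{u}} {E : Y.Modules} [E.IsQuasicoherent] {𝒮 : QCGrAlg Y}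
  {j : E ⟶ 𝒮.toModule} (hj : IsGrSymAlg E 𝒮 j) {p : P ⟶ Y}
  {chart : ∀ (U : Y.Opens) (hU : IsAffineOpen U),
    (((p ⁻¹ᵁ U : P.Opens) : Scheme.{u}) ≅ Proj (𝒮.deg U hU))}
  (hP : IsRelProj 𝒮 p chart)
  (U : Y.Opens) (hU : IsAffineOpen U) {f : 𝒮.presheaf.obj (op U)} (hf : f ∈ 𝒮.deg U hU 1)

include hj hP in
/-- ring homomorphisms out of `Γ(P, W_f)` are determined by their values on the functions from
the base and on the fractions `j m / f` -/
theorem ringHom_ext_Wf {T : Type*} [Semiring T]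
    (α α' : Γ(P, Wf p chart U hU f) →+* T)
    (h0 : ∀ c : Γ(Y, U), α ((p.appLE U (Wf p chart U hU f) (Wf_le p chart U hU f)).hom c) =
      α' ((p.appLE U (Wf p chart U hU f) (Wf_le p chart U hU f)).hom c))
    (h1 : ∀ m : Γ(E, U),
      α (Qf p chart U hU f (Away.mk _ hf 1 (j.app U m) (AwayExt.mem1 hj U hU m))) =
      α' (Qf p chart U hU f (Away.mk _ hf 1 (j.app U m) (AwayExt.mem1 hj U hU m)))) :
    α = α' := by
  have key : α.comp (Qf p chart U hU f) = α'.comp (Qf p chart U hU f) := by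
    apply AwayExt.away_ringHom_ext hj U hU hf
    · intro c
      simp only [RingHom.comp_apply]
      rw [Qf_str hP U hU hf c]
      exact h0 c
    · intro m
      exact h1 m
  ext q
  obtain ⟨z, rfl⟩ := Qf_surjective p chart U hU f hf Nat.one_pos q
  exact RingHom.congr_fun key z

end ext

end

end Groth.Agent.Helper4.SN318
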