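import Mathlib
import Groth.Prelude.Def_RelProj2
import Groth.Agent.Helper4.SN317
import Groth.Agent.Helper4.SN318
import Groth.Agent.Helper4.Scalar
import Groth.Agent.Helper4.StalkExact

/-!
# Uniqueness in the universal property of `P(E)`: lemmas on the source
-/

set_option autoImplicit false
set_option linter.unusedSectionVars false
set_option linter.style.haveILetI false

open CategoryTheory CategoryTheory.Limits AlgebraicGeometry TopologicalSpace Opposite RelSpec RelProj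
open Groth.Agent.Helper1 Groth.Agent.Helper1.RP Groth.Agent.Helper1.SY Groth.Agent.Helper1.SG
open HomogeneousLocalization
open scoped HomogeneousIdeal

universe u

namespace Groth.Agent.Helper4.SN319

open Groth.Agent.Helper4.SN318

noncomputable section

variable {Y P X : Scheme.{u}} {E : Y.Modules} [E.IsQuasicoherent] {𝒮 : QCGrAlg Y}
  {j : E ⟶ 𝒮.toModule} (hj : IsGrSymAlg E 𝒮 j) {p : P ⟶ Y}
  {chart : ∀ (U : Y.Opens) (hU : IsAffineOpen U),
    (((p ⁻¹ᵁ U : P.Opens) : Scheme.{u}) ≅ Proj (𝒮.deg U hU))}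
  (hP : IsRelProj 𝒮 p chart)
  {O1 : P.Modules}
  {lam : ∀ (U : Y.Opens) (hU : IsAffineOpen U),
    O1 ⟶ (Scheme.Modules.pushforward (emb p chart U hU)).obj (GrTwist.twist (𝒮.deg U hU) 1)}
  (hO1 : IsRelTwist 𝒮 p chart 1 O1 lam)
  (φE : E ⟶ (Scheme.Modules.pushforward p).obj O1)
  (hφE : ∀ (U : Y.Opens) (hU : IsAffineOpen U) (e : Γ(E, U))
    (y : ↥(emb p chart U hU ⁻¹ᵁ (p ⁻¹ᵁ U))),
    GrTwist.val (V := emb p chart U hU ⁻¹ᵁ (p ⁻¹ᵁ U))
        ((lam U hU).app (p ⁻¹ᵁ U) ((φE.app U) e)) y =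
      algebraMap (𝒮.presheaf.obj (op U)) (GrTwist.Loc (𝒮.deg U hU) y.1)
        ((j.app U) e : 𝒮.presheaf.obj (op U)))
  {g : X ⟶ Y} {L : X.Modules} (r : X ⟶ P) (hr : r ≫ p = g)
  (θ : O1 ⟶ (Scheme.Modules.pushforward r).obj L)
  (U : Y.Opens) (hU : IsAffineOpen U)

/-- the transpose `E ⟶ g_* L` of the pair `(r, θ)` -/
def T : E ⟶ (Scheme.Modules.pushforward g).obj L :=
  φE ≫ (Scheme.Modules.pushforward p).map θ ≫ (Scheme.Modules.pushforwardComp r p).hom.app L ≫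
    (Scheme.Modules.pushforwardCongr hr).hom.app L

include hr in
lemma le_g {f : 𝒮.presheaf.obj (op U)} {V : X.Opens} (hV : V ≤ r ⁻¹ᵁ Wf p chart U hU f) :
    V ≤ g ⁻¹ᵁ U := by
  subst hr
  intro x hx
  exact Wf_le p chart U hU f (hV hx)

/-- (X1) the restriction of `T(m)` to an open of `r⁻¹ W_f` -/
theorem T_res (f : 𝒮.presheaf.obj (op U)) (m : Γ(E, U)) (V : X.Opens)
    (hV : V ≤ r ⁻¹ᵁ Wf p chart U hU f) :
    L.presheaf.map (homOfLE (le_g r hr U hU hV)).op ((T φE r hr θ).app U m) =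
      L.presheaf.map (homOfLE hV).op
        (θ.app (Wf p chart U hU f) (φres p chart φE U hU f m)) := by
  subst hr
  unfold φres
  rw [Groth.Agent.Helper4.StalkExact.app_res θ]
  have h1 : (T φE r rfl θ).app U m =
      L.presheaf.map (eqToHom (rfl : (r ≫ p) ⁻¹ᵁ U = (r ≫ p) ⁻¹ᵁ U)).op
        (θ.app (p ⁻¹ᵁ U) (φE.app U m)) := rfl
  rw [h1]
  change (L.presheaf.map _ ≫ L.presheaf.map _) _ = (L.presheaf.map _ ≫ L.presheaf.map _) _
  rw [← Functor.map_comp, ← Functor.map_comp]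
  rfl

include hj hO1 hφE in
/-- (X2) `T(e₀)` is a free generator on affine opens of `r⁻¹ W_{j e₀}` -/
theorem T_gen [IsIso (((Scheme.Modules.pullbackPushforwardAdjunction r).homEquiv O1 L).symm θ)]
    (e₀ : Γ(E, U)) (V : X.Opens) (hVa : IsAffineOpen V)
    (hV : V ≤ r ⁻¹ᵁ Wf p chart U hU (j.app U e₀)) :
    Function.Bijective (fun c : Γ(X, V) =>
      c • L.presheaf.map (homOfLE (le_g r hr U hU hV)).op ((T φE r hr θ).app U e₀)) := by
  haveI := TRR.isQuasicoherent_of_isRelTwist hO1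
  rw [T_res φE r hr θ U hU _ e₀ V hV]
  exact Groth.Agent.Helper4.SN317.generator_of_isIso_adjoint r θ hV
    (isAffineOpen_Wf p chart U hU _ (hj.2 U hU e₀) Nat.one_pos) hVa _
    (gen_phi hj hO1 φE hφE U hU e₀)

include hj hO1 hφE in
/-- (X3) `T(m) = r^♯(j m / j e₀) • T(e₀)` on opens of `r⁻¹ W_{j e₀}` -/
theorem T_smul (e₀ m : Γ(E, U)) (V : X.Opens)
    (hV : V ≤ r ⁻¹ᵁ Wf p chart U hU (j.app U e₀)) :
    L.presheaf.map (homOfLE (le_g r hr U hU hV)).op ((T φE r hr θ).app U m) =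
      (r.appLE (Wf p chart U hU (j.app U e₀)) V hV).hom
        (Qf p chart U hU (j.app U e₀)
          (Away.mk _ (hj.2 U hU e₀) 1 (j.app U m) (AwayExt.mem1 hj U hU m))) •
      L.presheaf.map (homOfLE (le_g r hr U hU hV)).op ((T φE r hr θ).app U e₀) := by
  rw [T_res φE r hr θ U hU _ m V hV, T_res φE r hr θ U hU _ e₀ V hV,
    phi_smul hj hO1 φE hφE U hU e₀ m, Scheme.Modules.Hom.app_smul,
    Groth.Agent.Helper4.Scalar.pushforward_smul, Scheme.Modules.map_smul]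
  rfl

/-- (X4) functions from the base -/
theorem appLE_str (f : 𝒮.presheaf.obj (op U)) (V : X.Opens)
    (hV : V ≤ r ⁻¹ᵁ Wf p chart U hU f) (c : Γ(Y, U)) :
    (r.appLE (Wf p chart U hU f) V hV).hom
        ((p.appLE U (Wf p chart U hU f) (Wf_le p chart U hU f)).hom c) =
      (g.appLE U V (le_g r hr U hU hV)).hom c := by
  subst hr
  have := congrArg (fun k => k.hom c)
    (Scheme.Hom.appLE_comp_appLE r p U (Wf p chart U hU f) V (Wf_le p chart U hU f) hV)
  exact this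

end

end Groth.Agent.Helper4.SN319
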