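import Mathlib
import Groth.Prelude.Def_RelProj2
import Groth.Agent.Helper4.SN319

/-!
# Uniqueness in the universal property of `P(E)`
-/

set_option autoImplicit false
set_option linter.unusedSectionVars false
set_option linter.style.haveILetI false

open CategoryTheory CategoryTheory.Limits AlgebraicGeometry TopologicalSpace Opposite RelSpec RelProj
open Groth.Agent.Helper1 Groth.Agent.Helper1.RP Groth.Agent.Helper1.SY Groth.Agent.Helper1.SG
open HomogeneousLocalization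
open scoped HomogeneousIdeal

universe u

namespace Groth.Agent.Helper4.SN320

open Groth.Agent.Helper4.SN318 Groth.Agent.Helper4.SN319

noncomputable section

section general

variable {X P : Scheme.{u}}

lemma ι_comp_eq (r r' : X ⟶ P) {W : P.Opens} (hW : IsAffineOpen W) (V : X.Opens)
    (e : V ≤ r ⁻¹ᵁ W) (e' : V ≤ r' ⁻¹ᵁ W) (h : r.appLE W V e = r'.appLE W V e') :
    V.ι ≫ r = V.ι ≫ r' := by
  haveI : IsAffine W := hW
  have h1 : r.resLE W V e = r'.resLE W V e' := by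
    apply ext_of_isAffine
    change (r.resLE W V e).app ⊤ = (r'.resLE W V e').app ⊤
    rw [Scheme.Hom.resLE_app_top, Scheme.Hom.resLE_app_top, h]
  rw [← Scheme.Hom.resLE_comp_ι r e, ← Scheme.Hom.resLE_comp_ι r' e', h1]

lemma hom_ext_local (r r' : X ⟶ P)
    (h : ∀ x : X, ∃ V : X.Opens, x ∈ V ∧ V.ι ≫ r = V.ι ≫ r') : r = r' := by
  choose V hxV hV using h
  have hcov : TopologicalSpace.IsOpenCover V := by
    refine TopologicalSpace.IsOpenCover.mk (eq_top_iff.mpr ?_)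
    intro x _
    exact TopologicalSpace.Opens.mem_iSup.mpr ⟨x, hxV x⟩
  apply (X.openCoverOfIsOpenCover _ hcov).hom_ext
  intro x
  exact hV x

end general

variable {Y P X : Scheme.{u}} {E : Y.Modules} [E.IsQuasicoherent] {𝒮 : QCGrAlg Y}
  {j : E ⟶ 𝒮.toModule} (hj : IsGrSymAlg E 𝒮 j) {p : P ⟶ Y}
  {chart : ∀ (U : Y.Opens) (hU : IsAffineOpen U),
    (((p ⁻¹ᵁ U : P.Opens) : Scheme.{u}) ≅ Proj (𝒮.deg U hU))}
  (hP : IsRelProj 𝒮 p chart)
  {O1 : P.Modules}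
  {lam : ∀ (U : Y.Opens) (hU : IsAffineOpen U),
    O1 ⟶ (Scheme.Modules.pushforward (emb p chart U hU)).obj (GrTwist.twist (𝒮.deg U hU) 1)}
  (hO1 : IsRelTwist 𝒮 p chart 1 O1 lam)
  (φE : E ⟶ (Scheme.Modules.pushforward p).obj O1)
  (hφE : ∀ (U : Y.Opens) (hU : IsAffineOpen U) (e : Γ(E, U))
    (y : ↥(emb p chart U hU ⁻¹ᵁ (p ⁻¹ᵁ U))),
    GrTwist.val (V := emb p chart U hU ⁻¹ᵁ (p ⁻¹ᵁ U))
        ((lam U hU).app (p ⁻¹ᵁ U) ((φE.app U) e)) y =
      algebraMap (𝒮.presheaf.obj (op U)) (GrTwist.Loc (𝒮.deg U hU) y.1)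
        ((j.app U) e : 𝒮.presheaf.obj (op U)))
  {g : X ⟶ Y} {L : X.Modules} (r r' : X ⟶ P) (hr : r ≫ p = g) (hr' : r' ≫ p = g)
  (θ : O1 ⟶ (Scheme.Modules.pushforward r).obj L)
  (θ' : O1 ⟶ (Scheme.Modules.pushforward r').obj L)
  [IsIso (((Scheme.Modules.pullbackPushforwardAdjunction r).homEquiv O1 L).symm θ)]
  [IsIso (((Scheme.Modules.pullbackPushforwardAdjunction r').homEquiv O1 L).symm θ')]
  (hT : T φE r hr θ = T φE r' hr' θ')
  (U : Y.Opens) (hU : IsAffineOpen U)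

include hj hO1 hφE hT in
/-- Step A: the two morphisms send a point into the same standard opens -/
theorem mem_Wf_of_mem (x : X) (e₀ : Γ(E, U)) (hx : r x ∈ Wf p chart U hU (j.app U e₀)) :
    r' x ∈ Wf p chart U hU (j.app U e₀) := by
  have hgx : r' x ∈ p ⁻¹ᵁ U := by
    have h1 : r x ∈ p ⁻¹ᵁ U := Wf_le p chart U hU _ hx
    have h2 : p (r x) = p (r' x) := by
      rw [← Scheme.Hom.comp_apply, ← Scheme.Hom.comp_apply, hr, hr']
    change p (r' x) ∈ U
    rw [← h2]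
    exact h1
  obtain ⟨e'', he''⟩ := exists_mem_Wf hj U hU (r' x) hgx
  have hxW : x ∈ r ⁻¹ᵁ Wf p chart U hU (j.app U e₀) ⊓ r' ⁻¹ᵁ Wf p chart U hU (j.app U e'') :=
    ⟨hx, he''⟩
  obtain ⟨V, hVa, hxV, hVW⟩ := exists_isAffineOpen_mem_and_subset hxW
  have hV : V ≤ r ⁻¹ᵁ Wf p chart U hU (j.app U e₀) := fun y hy => (hVW hy).1
  have hV' : V ≤ r' ⁻¹ᵁ Wf p chart U hU (j.app U e'') := fun y hy => (hVW hy).2
  have hg0 := T_gen hj hO1 φE hφE r hr θ U hU e₀ V hVa hV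
  have hg'' := T_gen hj hO1 φE hφE r' hr' θ' U hU e'' V hVa hV'
  have hs := T_smul hj hO1 φE hφE r' hr' θ' U hU e'' e₀ V hV'
  rw [← hT] at hg'' hs
  obtain ⟨d, hd⟩ := hg0.2
    (L.presheaf.map (homOfLE (le_g r hr U hU hV)).op ((T φE r hr θ).app U e''))
  simp only at hd
  set c := (r'.appLE (Wf p chart U hU (j.app U e'')) V hV').hom
    (Qf p chart U hU (j.app U e'')
      (Away.mk _ (hj.2 U hU e'') 1 (j.app U e₀) (AwayExt.mem1 hj U hU e₀))) with hc
  have hdc : d * c = 1 := by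
    apply hg''.1
    simp only
    rw [mul_smul, one_smul]
    refine Eq.trans ?_ hd
    congr 1
    exact hs.symm
  have hcu : IsUnit c := ⟨⟨c, d, by rw [mul_comm]; exact hdc, hdc⟩, rfl⟩
  have hxb : x ∈ X.basicOpen c := by
    rw [Scheme.basicOpen_of_isUnit X hcu]
    exact hxV
  have hc' : c = (X.presheaf.map (homOfLE hV').op).hom
      ((r'.app (Wf p chart U hU (j.app U e''))).hom
        (Qf p chart U hU (j.app U e'')
          (Away.mk _ (hj.2 U hU e'') 1 (j.app U e₀) (AwayExt.mem1 hj U hU e₀)))) := rfl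
  rw [hc', Scheme.basicOpen_res, ← Scheme.preimage_basicOpen] at hxb
  exact mem_Wf_of_mem_basicOpen U hU (hj.2 U hU e'') (AwayExt.mem1 hj U hU e₀) (r' x) hxb.2

include hj hP hO1 hφE hT in
/-- Steps B and C: the two morphisms agree on an affine open mapped into the same `W_f` -/
theorem ι_comp_eq_of_le (e₀ : Γ(E, U)) (V : X.Opens) (hVa : IsAffineOpen V)
    (hV : V ≤ r ⁻¹ᵁ Wf p chart U hU (j.app U e₀))
    (hV' : V ≤ r' ⁻¹ᵁ Wf p chart U hU (j.app U e₀)) :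
    V.ι ≫ r = V.ι ≫ r' := by
  apply ι_comp_eq r r' (isAffineOpen_Wf p chart U hU _ (hj.2 U hU e₀) Nat.one_pos) V hV hV'
  apply CommRingCat.hom_ext
  apply ringHom_ext_Wf hj hP U hU (hj.2 U hU e₀)
  · intro c
    rw [appLE_str r hr U hU _ V hV c, appLE_str r' hr' U hU _ V hV' c]
  · intro m
    have hg0 := T_gen hj hO1 φE hφE r hr θ U hU e₀ V hVa hV
    have h1 := T_smul hj hO1 φE hφE r hr θ U hU e₀ m V hV
    have h2 := T_smul hj hO1 φE hφE r' hr' θ' U hU e₀ m V hV'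
    rw [← hT] at h2
    apply hg0.1
    simp only
    exact h1.symm.trans h2

include hj hP hO1 hφE hT in
/-- **uniqueness in the universal property of `P(E)`** -/
theorem unique : r = r' := by
  apply hom_ext_local
  intro x
  obtain ⟨U, hU, hxU⟩ : ∃ U : Y.Opens, IsAffineOpen U ∧ g x ∈ U := by
    obtain ⟨W, hWa, hxW, -⟩ :=
      exists_isAffineOpen_mem_and_subset (show g x ∈ (⊤ : Y.Opens) from trivial)
    exact ⟨W, hWa, hxW⟩
  have hrx : r x ∈ p ⁻¹ᵁ U := by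
    change p (r x) ∈ U
    rw [← Scheme.Hom.comp_apply, hr]
    exact hxU
  obtain ⟨e₀, he₀⟩ := exists_mem_Wf hj U hU (r x) hrx
  have he₀' := mem_Wf_of_mem hj hO1 φE hφE r r' hr hr' θ θ' hT U hU x e₀ he₀
  obtain ⟨V, hVa, hxV, hVW⟩ := exists_isAffineOpen_mem_and_subset
    (show x ∈ r ⁻¹ᵁ Wf p chart U hU (j.app U e₀) ⊓ r' ⁻¹ᵁ Wf p chart U hU (j.app U e₀) from
      ⟨he₀, he₀'⟩)
  exact ⟨V, hxV, ι_comp_eq_of_le hj hP hO1 φE hφE r r' hr hr' θ θ' hT U hU e₀ V hVa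
    (fun y hy => (hVW hy).1) (fun y hy => (hVW hy).2)⟩

end

end Groth.Agent.Helper4.SN320
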