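import Mathlib
import Groth.Prelude.Def_RelProj4
import Groth.Agent.Helper4.SN315
import Groth.Agent.Helper4.SN321
import Groth.Agent.S5733

/-!
# The morphism `r_{L,ψ}` attached to an epimorphism `s : q^*E ⟶ L` is the one of the universal
property of `P(E)`
-/

set_option autoImplicit false
set_option linter.unusedSectionVars false
set_option linter.style.haveILetI false

namespace Groth.Agent.Helper4.SN322

open CategoryTheory CategoryTheory.Limits AlgebraicGeometry TopologicalSpace Opposite RelSpec RelProj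
open Groth.Agent.Helper1 Groth.Agent.Helper1.RP Groth.Agent.Lead.BCMap
open scoped HomogeneousIdeal

universe u

noncomputable section

variable {Y X P PL : Scheme.{u}} (g : X ⟶ Y) (E : Y.Modules) [E.IsQuasicoherent]
  {𝒮 : QCGrAlg Y} {j : E ⟶ 𝒮.toModule} (hj : IsGrSymAlg E 𝒮 j)
  {p : P ⟶ Y}
  {chart : ∀ (U : Y.Opens) (hU : IsAffineOpen U),
    (((p ⁻¹ᵁ U : P.Opens) : Scheme.{u}) ≅ Proj (𝒮.deg U hU))}
  (hP : IsRelProj 𝒮 p chart)
  {O1 : P.Modules}
  {lam : ∀ (U : Y.Opens) (hU : IsAffineOpen U),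
    O1 ⟶ (Scheme.Modules.pushforward (emb p chart U hU)).obj (GrTwist.twist (𝒮.deg U hU) 1)}
  (hO1 : IsRelTwist 𝒮 p chart 1 O1 lam)
  (φE : E ⟶ (Scheme.Modules.pushforward p).obj O1)
  (hφE : ∀ (U : Y.Opens) (hU : IsAffineOpen U) (e : Γ(E, U))
    (y : ↥(emb p chart U hU ⁻¹ᵁ (p ⁻¹ᵁ U))),
    GrTwist.val (V := emb p chart U hU ⁻¹ᵁ (p ⁻¹ᵁ U))
        ((lam U hU).app (p ⁻¹ᵁ U) ((φE.app U) e)) y =
      algebraMap (𝒮.presheaf.obj (op U)) (GrTwist.Loc (𝒮.deg U hU) y.1)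
        ((j.app U) e : 𝒮.presheaf.obj (op U)))
  {L : X.Modules} [L.IsQuasicoherent] (hL : PicF.IsInvertible L)
  {𝒮L : QCGrAlg X} {jL : L ⟶ 𝒮L.toModule} (hjL : IsGrSymAlg L 𝒮L jL)
  {pL : PL ⟶ X}
  {chartL : ∀ (U' : X.Opens) (hU' : IsAffineOpen U'),
    (((pL ⁻¹ᵁ U' : PL.Opens) : Scheme.{u}) ≅ Proj (𝒮L.deg U' hU'))}
  (hPL : IsRelProj 𝒮L pL chartL) [IsIso pL]
  (s : (Scheme.Modules.pullback g).obj E ⟶ L) [Epi s]
  (u₀ : QGrHom g 𝒮 𝒮L)
  (hu₀ : ∀ (U : Y.Opens) (hU : IsAffineOpen U) (U' : X.Opens) (hU' : IsAffineOpen U')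
    (hle : U' ≤ g ⁻¹ᵁ U) (m : Γ(E, U)),
    u₀.gradedAt U hU U' hU' hle (j.app U m) = jL.app U' (s.app U' (pbSec g E U U' hle m)))

include hj hu₀ in
/-- a graded `g`-morphism acting as `s` on `E` agrees with `uS` on affine pairs -/
theorem gradedAt_eq (U : Y.Opens) (hU : IsAffineOpen U) (U' : X.Opens) (hU' : IsAffineOpen U')
    (hle : U' ≤ g ⁻¹ᵁ U) :
    u₀.gradedAt U hU U' hU' hle =
      (Groth.Agent.Helper4.SN311.uS g E hj hjL s).gradedAt U hU U' hU' hle := by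
  have key : (u₀.gradedAt U hU U' hU' hle).toRingHom =
      ((Groth.Agent.Helper4.SN311.uS g E hj hjL s).gradedAt U hU U' hU' hle).toRingHom := by
    refine Groth.Agent.Helper1.SY.secHom_ext hj.1 U hU (fun c => ?_) (fun m => ?_)
    · have h1 := congrArg (fun k => k.hom c) (u₀.str_appLE U U' hle)
      have h2 := Groth.Agent.Helper4.SN311.uS_str g E hj hjL s U hU U' hU' hle c
      exact h1.trans h2.symm
    · exact (hu₀ U hU U' hU' hle m).trans
        (Groth.Agent.Helper4.SN311.uS_j g E hj hjL s U hU U' hU' hle m).symm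
  exact GradedRingHom.ext (fun x => RingHom.congr_fun key x)

include hj hjL hu₀ in
theorem hirr₀ (U : Y.Opens) (hU : IsAffineOpen U) (U' : X.Opens) (hU' : IsAffineOpen U')
    (hle : U' ≤ g ⁻¹ᵁ U) :
    (𝒮L.deg U' hU')₊ ≤ ((𝒮.deg U hU)₊).map (u₀.gradedAt U hU U' hU' hle) := by
  rw [gradedAt_eq g E hj hjL s u₀ hu₀ U hU U' hU' hle]
  exact Groth.Agent.Helper4.SN311.hirr g E hj hjL s U hU U' hU' hle

include hj hP hO1 hφE hL hjL hPL hu₀ in
/-- **`r_{L,ψ}` for `ψ` induced by `s` is everywhere defined and is the morphism of the universal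
property of `P(E)`** -/
theorem projQMapOn_eq_of_epi
    (r₀ : ((RelProj.domQ u₀ pL chartL : PL.Opens) : Scheme.{u}) ⟶ P)
    (hr₀ : IsProjQMapOn u₀ p chart pL chartL (RelProj.domQ u₀ pL chartL) r₀)
    (r : X ⟶ P) (hr : r ≫ p = g) (τ : (Scheme.Modules.pullback r).obj O1 ≅ L)
    (hτ : (Scheme.Modules.pullbackCongr hr).inv.app E ≫
      (Scheme.Modules.pullbackComp r p).inv.app E ≫
      (Scheme.Modules.pullback r).map
        (((Scheme.Modules.pullbackPushforwardAdjunction p).homEquiv E O1).symm φE) ≫ τ.hom = s) :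
    RelProj.domQ u₀ pL chartL = ⊤ ∧ r₀ = (RelProj.domQ u₀ pL chartL).ι ≫ pL ≫ r := by
  have hirr := hirr₀ g E hj hjL s u₀ hu₀
  refine ⟨Groth.Agent.Helper4.SN311.domQ_eq_top u₀ hirr, ?_⟩
  obtain ⟨h, hιh, -, hcomm, hg⟩ :=
    Groth.Agent.Helper4.SN321.projQMapOn_eq u₀ hirr hP hPL r₀ hr₀
  have hg' : ∀ (U : Y.Opens) (hU : IsAffineOpen U) (U' : X.Opens) (hU' : IsAffineOpen U')
      (hle : U' ≤ g ⁻¹ᵁ U), (pL ⁻¹ᵁ U').ι ≫ h =
        (chartL U' hU').hom ≫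
          Proj.map ((Groth.Agent.Helper4.SN311.uS g E hj hjL s).gradedAt U hU U' hU' hle)
            (Groth.Agent.Helper4.SN311.hirr g E hj hjL s U hU U' hU' hle) ≫ emb p chart U hU := by
    intro U hU U' hU' hle
    rw [hg U hU U' hU' hle,
      Groth.Agent.Helper4.SN321.projMap_congr (gradedAt_eq g E hj hjL s u₀ hu₀ U hU U' hU' hle)
        (hirr U hU U' hU' hle) (Groth.Agent.Helper4.SN311.hirr g E hj hjL s U hU U' hU' hle)]
  have hr' : (inv pL ≫ h) ≫ p = g := by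
    rw [Category.assoc, hcomm, IsIso.inv_hom_id_assoc]
  obtain ⟨τ', hτ'⟩ := Groth.Agent.Helper4.SN315.exists_tau g E hj hP hO1 φE hφE hL hjL hPL s hg' hr'
  have huniq := (Groth.Agent.S5733.result E (inferInstance : E.IsQuasicoherent) 𝒮 j hj p chart hP O1
    lam hO1 φE hφE g L hL s inferInstance).unique ⟨hr', τ', hτ'⟩ ⟨hr, τ, hτ⟩
  rw [← hιh, ← huniq, IsIso.hom_inv_id_assoc]

end

end Groth.Agent.Helper4.SN322
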