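import Mathlib
import Groth.Prelude.Def_RelProj4
import Groth.Agent.Helper4.SN322
import Groth.Agent.Helper1.CF3
import Groth.Agent.Helper1.SG7
import Groth.Agent.Helper1.PL3
import Groth.Agent.S12153

/-!
# A very ample `L` makes `r_{L,σ} : X → P(q_* L)` an everywhere defined immersion
-/

set_option autoImplicit false
set_option linter.unusedSectionVars false
set_option linter.style.haveILetI false

namespace Groth.Agent.Helper4.SN323

open CategoryTheory CategoryTheory.Limits AlgebraicGeometry TopologicalSpace Opposite RelSpec RelProj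
open Groth.Agent.Helper1 Groth.Agent.Helper1.RP Groth.Agent.Lead.BCMap
open scoped HomogeneousIdeal

universe u

noncomputable section

section general

variable {Y X P₀ : Scheme.{u}} {q : X ⟶ Y} {E₀ : Y.Modules} [E₀.IsQuasicoherent]
  {𝒮₀ : QCGrAlg Y} {j₀ : E₀ ⟶ 𝒮₀.toModule} (hj₀ : IsGrSymAlg E₀ 𝒮₀ j₀)
  {L : X.Modules}
  {𝒮L : QCGrAlg X} {jL : L ⟶ 𝒮L.toModule}
  [((Scheme.Modules.pushforward q).obj L).IsQuasicoherent]
  {𝒜 : QCGrAlg Y} {jE : (Scheme.Modules.pushforward q).obj L ⟶ 𝒜.toModule}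
  (h𝒜 : IsGrSymAlg ((Scheme.Modules.pushforward q).obj L) 𝒜 jE)
  (u : QGrHom q 𝒜 𝒮L)
  (hu : ∀ (U : Y.Opens) (x : Γ((Scheme.Modules.pushforward q).obj L, U)),
    (u.app U).hom ((jE.app U) x) = (jL.app (q ⁻¹ᵁ U)) x)
  (s : (Scheme.Modules.pullback q).obj E₀ ⟶ L)
  (ψ : 𝒮₀.toQCAlg ⟶ 𝒜.toQCAlg)
  (hψ : j₀ ≫ QCAlg.Hom.toModuleMap ψ =
    ((Scheme.Modules.pullbackPushforwardAdjunction q).homEquiv E₀ L s) ≫ jE)
  (hψg : IsGradedHom ψ)

include hu hψ in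
/-- the composite `Sym(E₀) → Sym(q_* L) → q_* Sym(L)` acts as `s` on `E₀` -/
theorem compV_j (U : Y.Opens) (hU : IsAffineOpen U) (U' : X.Opens) (hU' : IsAffineOpen U')
    (hle : U' ≤ q ⁻¹ᵁ U) (m : Γ(E₀, U)) :
    (Groth.Agent.Helper4.SN321.compV u ψ hψg).gradedAt U hU U' hU' hle (j₀.app U m) =
      jL.app U' (s.app U' (pbSec q E₀ U U' hle m)) := by
  rw [Groth.Agent.Helper4.SN321.compV_gradedAt]
  have h1 : (ψ.hom.app (op U)).hom (j₀.app U m) =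
      jE.app U (((Scheme.Modules.pullbackPushforwardAdjunction q).homEquiv E₀ L s).app U m) :=
    congrArg (fun k => k.app U m) hψ
  rw [h1]
  change (𝒮L.presheaf.map (homOfLE hle).op).hom ((u.app U).hom (jE.app U _)) = _
  rw [hu U, ← homEquiv_app q E₀ s U U' hle m]
  exact (Groth.Agent.Helper4.StalkExact.app_res jL (homOfLE hle) _).symm

end general

section main

variable {X Y P PL : Scheme.{u}} (q : X ⟶ Y)
  (L : X.Modules) (hL : PicF.IsInvertible L) [L.IsQuasicoherent]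
  {𝒮L : QCGrAlg X} {jL : L ⟶ 𝒮L.toModule} (hjL : IsGrSymAlg L 𝒮L jL)
  {pL : PL ⟶ X}
  {chartL : ∀ (U : X.Opens) (hU : IsAffineOpen U),
    (((pL ⁻¹ᵁ U : PL.Opens) : Scheme.{u}) ≅ Proj (𝒮L.deg U hU))}
  (hPL : IsRelProj 𝒮L pL chartL)
  [((Scheme.Modules.pushforward q).obj L).IsQuasicoherent]
  {𝒜 : QCGrAlg Y} {jE : (Scheme.Modules.pushforward q).obj L ⟶ 𝒜.toModule}
  (h𝒜 : IsGrSymAlg ((Scheme.Modules.pushforward q).obj L) 𝒜 jE)
  (u : QGrHom q 𝒜 𝒮L)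
  (hu : ∀ (U : Y.Opens) (x : Γ((Scheme.Modules.pushforward q).obj L, U)),
    (u.app U).hom ((jE.app U) x) = (jL.app (q ⁻¹ᵁ U)) x)
  {p : P ⟶ Y}
  {chart : ∀ (U : Y.Opens) (hU : IsAffineOpen U),
    (((p ⁻¹ᵁ U : P.Opens) : Scheme.{u}) ≅ Proj (𝒜.deg U hU))}
  (hP : IsRelProj 𝒜 p chart)
  (r : ((RelProj.domQ u pL chartL : PL.Opens) : Scheme.{u}) ⟶ P)
  (hr : IsProjQMapOn u p chart pL chartL (RelProj.domQ u pL chartL) r)

include hL hjL hPL h𝒜 hu hP hr in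
/-- **a very ample `L` makes `r_{L,σ}` an everywhere defined immersion** -/
theorem main (h : IsRelVeryAmple q L) :
    RelProj.domQ u pL chartL = ⊤ ∧ IsImmersion r := by
  obtain ⟨E₀, hE₀, 𝒮₀, j₀, hj₀, P₀, p₀, chart₀, hP₀, O1, lam, hO1, i, himm, hip, ⟨e⟩⟩ := h
  haveI : E₀.IsQuasicoherent := hE₀
  haveI := himm
  haveI : IsIso pL := Groth.Agent.Helper1.PL.isIso_relProj_of_isInvertible hL hjL pL chartL hPL
  set φ₀ := CF.can j₀ hj₀.2 hP₀ hO1 with hφ₀def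
  have hφ₀ := CF.val_can j₀ hj₀.2 hP₀ hO1
  haveI hepa : Epi (((Scheme.Modules.pullbackPushforwardAdjunction p₀).homEquiv E₀ O1).symm φ₀) :=
    TRS.epi_adjoint_canonical hj₀ hO1 φ₀ hφ₀
  haveI : Epi ((Scheme.Modules.pullback i).map
      (((Scheme.Modules.pullbackPushforwardAdjunction p₀).homEquiv E₀ O1).symm φ₀)) :=
    @Functor.map_epi _ _ _ _ (Scheme.Modules.pullback i) _ _ _ _ hepa
  set s : (Scheme.Modules.pullback q).obj E₀ ⟶ L :=
    (Scheme.Modules.pullbackCongr hip).inv.app E₀ ≫ (Scheme.Modules.pullbackComp i p₀).inv.app E₀ ≫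
      (Scheme.Modules.pullback i).map
        (((Scheme.Modules.pullbackPushforwardAdjunction p₀).homEquiv E₀ O1).symm φ₀) ≫ e.symm.hom
    with hs
  haveI : Epi s := by
    rw [hs]
    infer_instance
  obtain ⟨ψ, hψ⟩ := SG.exists_symHom (𝒮F := 𝒜) (jF := jE) hj₀
    ((Scheme.Modules.pullbackPushforwardAdjunction q).homEquiv E₀ L s)
  have hψg := SG.isGradedHom_symHom hj₀ h𝒜 _ ψ hψ
  set u' := Groth.Agent.Helper4.SN321.compV u ψ hψg with hu'
  have hu'j := compV_j u hu s ψ hψ hψg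
  obtain ⟨r', hr', -⟩ := existsUnique_projQMapOn (u := u') hP₀ hPL
  obtain ⟨hdom, hr'eq⟩ := Groth.Agent.Helper4.SN322.projQMapOn_eq_of_epi q E₀ hj₀ hP₀ hO1 φ₀ hφ₀ hL
    hjL hPL s u' hu'j r' hr' i hip e.symm rfl
  have himm' : IsImmersion r' := by
    rw [hr'eq]
    infer_instance
  exact Groth.Agent.S12153.result q L hL (inferInstance : L.IsQuasicoherent) 𝒜 𝒮L jL hjL u p chart
    hP pL chartL hPL r hr 𝒮₀ ψ hψg u' (fun _ => rfl) p₀ chart₀ hP₀ r' hr' hdom himm'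

end main

end

end Groth.Agent.Helper4.SN323
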