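import Mathlib

/-!
# The degree-zero retraction `A_f → A_(f)` and purity of `A_(f) → A_f`
-/

set_option autoImplicit false

namespace Groth.Agent.Helper4.SN289

open HomogeneousLocalization DirectSum

variable {A : Type*} [CommRing A] (𝒜 : ℕ → AddSubgroup A) [GradedRing 𝒜]
variable {f : A} {e : ℕ} (hf : f ∈ 𝒜 e)

/-- `f ^ k` as an element of the powers of `f` -/
abbrev pw (f : A) (k : ℕ) : Submonoid.powers f := ⟨f ^ k, by use k⟩

/-- the fraction `a_{ke} / f^k` -/
noncomputable def rhoAux (a : A) (k : ℕ) : Away 𝒜 f :=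
  Away.mk 𝒜 hf k (decompose 𝒜 a (k • e) : A) (SetLike.coe_mem _)

theorem val_rhoAux (a : A) (k : ℕ) :
    (rhoAux 𝒜 hf a k).val = Localization.mk (decompose 𝒜 a (k • e) : A) (pw f k) := rfl

include hf in
theorem decompose_pow_mul (n k : ℕ) (a : A) :
    (decompose 𝒜 (f ^ n * a) ((n + k) • e) : A) = f ^ n * (decompose 𝒜 a (k • e) : A) := by
  have h : f ^ n ∈ 𝒜 (n • e) := SetLike.pow_mem_graded n hf
  rw [add_smul]
  exact DirectSum.coe_decompose_mul_add_of_left_mem 𝒜 h

theorem rhoAux_eq {a a' : A} {k k' n : ℕ} (h : f ^ n * (f ^ k' * a) = f ^ n * (f ^ k * a')) :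
    rhoAux 𝒜 hf a k = rhoAux 𝒜 hf a' k' := by
  apply val_injective
  rw [val_rhoAux, val_rhoAux, Localization.mk_eq_mk_iff, Localization.r_iff_exists]
  refine ⟨pw f n, ?_⟩
  simp only
  have h1 := decompose_pow_mul 𝒜 hf (n + k') k a
  have h2 := decompose_pow_mul 𝒜 hf (n + k) k' a'
  have e1 : f ^ (n + k') * a = f ^ n * (f ^ k' * a) := by ring
  have e2 : f ^ (n + k) * a' = f ^ n * (f ^ k * a') := by ring
  rw [e1] at h1
  rw [e2, ← h] at h2
  have e3 : (n + k' + k) • e = (n + k + k') • e := by ring_nf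
  rw [e3] at h1
  rw [h1] at h2
  calc f ^ n * (f ^ k' * (decompose 𝒜 a (k • e) : A)) = f ^ (n + k') * (decompose 𝒜 a (k • e) : A) := by ring
    _ = f ^ (n + k) * (decompose 𝒜 a' (k' • e) : A) := h2
    _ = f ^ n * (f ^ k * (decompose 𝒜 a' (k' • e) : A)) := by ring


/-- exponent of an element of the powers of `f` -/
noncomputable def expo (b : Submonoid.powers f) : ℕ :=
  ((Submonoid.mem_powers_iff _ _).mp b.2).choose

theorem pow_expo (b : Submonoid.powers f) : f ^ expo b = (b : A) :=
  ((Submonoid.mem_powers_iff _ _).mp b.2).choose_spec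

/-- the degree-zero part of an element of `A_f` -/
noncomputable def rho (z : Localization.Away f) : Away 𝒜 f :=
  Localization.liftOn z (fun a b => rhoAux 𝒜 hf a (expo b)) (by
    intro a c b d h
    rw [Localization.r_iff_exists] at h
    obtain ⟨t, ht⟩ := h
    apply rhoAux_eq 𝒜 hf (n := expo t)
    rw [pow_expo, pow_expo, pow_expo]
    exact ht)

theorem rho_mk (a : A) (k : ℕ) : rho 𝒜 hf (Localization.mk a (pw f k)) = rhoAux 𝒜 hf a k := by
  change rhoAux 𝒜 hf a (expo (pw f k)) = _
  apply rhoAux_eq 𝒜 hf (n := 0)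
  rw [pow_expo]

theorem rho_add (z z' : Localization.Away f) :
    rho 𝒜 hf (z + z') = rho 𝒜 hf z + rho 𝒜 hf z' := by
  induction z using Localization.induction_on with | _ y => ?_
  induction z' using Localization.induction_on with | _ y' => ?_
  obtain ⟨a, ⟨_, k, rfl⟩⟩ := y
  obtain ⟨a', ⟨_, k', rfl⟩⟩ := y'
  change rho 𝒜 hf (Localization.mk a (pw f k) + Localization.mk a' (pw f k')) =
    rho 𝒜 hf (Localization.mk a (pw f k)) + rho 𝒜 hf (Localization.mk a' (pw f k'))
  have hb : pw f k * pw f k' = pw f (k + k') := Subtype.ext (pow_add f k k').symm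
  rw [Localization.add_mk, hb, rho_mk, rho_mk, rho_mk]
  apply val_injective
  rw [val_add, val_rhoAux, val_rhoAux, val_rhoAux, Localization.add_mk, hb]
  congr 1
  change (decompose 𝒜 (f ^ k * a' + f ^ k' * a) ((k + k') • e) : A) =
    f ^ k * (decompose 𝒜 a' (k' • e) : A) + f ^ k' * (decompose 𝒜 a (k • e) : A)
  rw [decompose_add, DirectSum.add_apply, AddMemClass.coe_add, decompose_pow_mul 𝒜 hf k k' a']
  have e3 : (k + k') • e = (k' + k) • e := by rw [add_comm]
  rw [e3, decompose_pow_mul 𝒜 hf k' k a]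

theorem rho_zero : rho 𝒜 hf 0 = 0 := by
  have h := rho_add 𝒜 hf 0 0
  rw [add_zero] at h
  exact left_eq_add.mp h

/-- `rho` as an additive map -/
noncomputable def rhoHom : Localization.Away f →+ Away 𝒜 f where
  toFun := rho 𝒜 hf
  map_zero' := rho_zero 𝒜 hf
  map_add' := rho_add 𝒜 hf

theorem rho_val_mul (x : Away 𝒜 f) (z : Localization.Away f) :
    rho 𝒜 hf (x.val * z) = x * rho 𝒜 hf z := by
  obtain ⟨m, p, hp, rfl⟩ := Away.mk_surjective 𝒜 hf x
  induction z using Localization.induction_on with | _ y => ?_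
  obtain ⟨a, ⟨_, k, rfl⟩⟩ := y
  change rho 𝒜 hf ((Away.mk 𝒜 hf m p hp).val * Localization.mk a (pw f k)) =
    Away.mk 𝒜 hf m p hp * rho 𝒜 hf (Localization.mk a (pw f k))
  have hb : pw f m * pw f k = pw f (m + k) := Subtype.ext (pow_add f m k).symm
  rw [Away.val_mk, Localization.mk_mul]
  change rho 𝒜 hf (Localization.mk (p * a) (pw f m * pw f k)) = _
  rw [hb, rho_mk, rho_mk]
  apply val_injective
  rw [val_mul, val_rhoAux, val_rhoAux, Away.val_mk, Localization.mk_mul]
  change _ = Localization.mk (p * (decompose 𝒜 a (k • e) : A)) (pw f m * pw f k)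
  rw [hb]
  congr 1
  rw [add_smul]
  exact DirectSum.coe_decompose_mul_add_of_left_mem 𝒜 hp

theorem rho_one : rho 𝒜 hf 1 = 1 := by
  have h : (1 : Localization.Away f) = Localization.mk 1 (pw f 0) := by
    rw [← Localization.mk_one]
    congr 1
    exact Subtype.ext (pow_zero f).symm
  rw [h, rho_mk]
  apply val_injective
  rw [val_rhoAux, val_one, ← Localization.mk_one]
  congr 1
  · rw [zero_smul]
    exact DirectSum.decompose_of_mem_same 𝒜 SetLike.GradedOne.one_mem
  · exact Subtype.ext (pow_zero f)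

theorem rho_val (x : Away 𝒜 f) : rho 𝒜 hf x.val = x := by
  have h := rho_val_mul 𝒜 hf x 1
  rwa [mul_one, rho_one, mul_one] at h

include hf in
/-- `A_(f) → A_f` is pure: an ideal of `A_(f)` is the contraction of its extension. -/
theorem comap_map_val (J : Ideal (Away 𝒜 f)) :
    (J.map (algebraMap (Away 𝒜 f) (Localization.Away f))).comap
      (algebraMap (Away 𝒜 f) (Localization.Away f)) = J := by
  refine le_antisymm ?_ Ideal.le_comap_map
  intro x hx
  rw [Ideal.mem_comap] at hx
  have key : ∀ y ∈ J.map (algebraMap (Away 𝒜 f) (Localization.Away f)),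
      ∀ z : Localization.Away f, rho 𝒜 hf (z * y) ∈ J := by
    intro y hy
    refine Submodule.span_induction ?_ ?_ ?_ ?_ hy
    · rintro _ ⟨j, hj, rfl⟩ z
      rw [mul_comm]
      change rho 𝒜 hf (j.val * z) ∈ J
      rw [rho_val_mul]
      exact J.mul_mem_right _ hj
    · intro z
      rw [mul_zero, rho_zero]
      exact J.zero_mem
    · intro y y' _ _ h1 h2 z
      rw [mul_add, rho_add]
      exact J.add_mem (h1 z) (h2 z)
    · intro c y _ h1 z
      rw [smul_eq_mul, ← mul_assoc]
      exact h1 (z * c)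
  have := key _ hx 1
  rw [one_mul] at this
  change rho 𝒜 hf x.val ∈ J at this
  rwa [rho_val] at this

end Groth.Agent.Helper4.SN289
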