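import Mathlib
import Groth.Agent.Helper4.SN289

/-!
# The saturated ideal of a compatible family of ideals on the standard opens of `Proj`
-/

set_option autoImplicit false

namespace Groth.Agent.Helper4.SN290

open HomogeneousLocalization

section general

variable {R S T : Type*} [CommRing R] [CommRing S] [CommRing T] [Algebra R S] [Algebra R T]
  [Algebra S T] [IsScalarTower R S T]

/-- If `S = R_x` and `T = R_{xy}` then `T = S_y`. -/
theorem away_of_mul (x y : R) [IsLocalization.Away x S] [IsLocalization.Away (x * y) T] :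
    IsLocalization.Away (algebraMap R S y) T := by
  have hux : IsUnit (algebraMap R S x) := IsLocalization.Away.algebraMap_isUnit x
  refine IsLocalization.Away.mk _ ?_ ?_ ?_
  · rw [← IsScalarTower.algebraMap_apply]
    exact IsLocalization.Away.isUnit_of_dvd (x := x * y) ⟨x, mul_comm x y⟩
  · intro t
    obtain ⟨n, a, ha⟩ := IsLocalization.Away.surj (x * y) t
    obtain ⟨u, hu⟩ := hux
    refine ⟨n, algebraMap R S a * ((u⁻¹ : Sˣ) : S) ^ n, ?_⟩
    have h1 : algebraMap S T (algebraMap R S x) * algebraMap S T ((u⁻¹ : Sˣ) : S) = 1 := by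
      rw [← map_mul, ← hu, Units.mul_inv, map_one]
    have h2 : algebraMap R T (x * y) =
        algebraMap S T (algebraMap R S x) * algebraMap S T (algebraMap R S y) := by
      rw [IsScalarTower.algebraMap_apply R S T, map_mul, map_mul]
    have h3 : algebraMap S T (algebraMap R S a) = t * algebraMap R T (x * y) ^ n := by
      rw [ha, ← IsScalarTower.algebraMap_apply]
    rw [map_mul, map_pow, h3, h2]
    calc t * algebraMap S T (algebraMap R S y) ^ n
        = t * algebraMap S T (algebraMap R S y) ^ n *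
          (algebraMap S T (algebraMap R S x) * algebraMap S T ((u⁻¹ : Sˣ) : S)) ^ n := by
          rw [h1, one_pow, mul_one]
      _ = _ := by ring
  · intro a b hab
    obtain ⟨k, a₀, ha⟩ := IsLocalization.Away.surj x a
    obtain ⟨k', b₀, hb⟩ := IsLocalization.Away.surj x b
    have h2 : algebraMap R T (a₀ * x ^ k') = algebraMap R T (b₀ * x ^ k) := by
      rw [IsScalarTower.algebraMap_apply R S T, IsScalarTower.algebraMap_apply R S T
        (b₀ * x ^ k), map_mul (algebraMap R S), map_mul (algebraMap R S), ← ha, ← hb,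
        map_pow (algebraMap R S), map_pow (algebraMap R S)]
      simp only [map_mul, map_pow, hab]
      ring
    obtain ⟨n, hn⟩ := IsLocalization.Away.exists_of_eq (x * y) h2
    refine ⟨n, ?_⟩
    have h3 := congrArg (algebraMap R S) hn
    simp only [map_mul, map_pow] at h3
    rw [← ha, ← hb] at h3
    have hu2 : IsUnit (algebraMap R S x ^ (n + k + k')) := hux.pow _
    apply hu2.mul_left_cancel
    calc algebraMap R S x ^ (n + k + k') * (algebraMap R S y ^ n * a)
        = (algebraMap R S x * algebraMap R S y) ^ n *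
            (a * algebraMap R S x ^ k * algebraMap R S x ^ k') := by ring
      _ = (algebraMap R S x * algebraMap R S y) ^ n *
            (b * algebraMap R S x ^ k' * algebraMap R S x ^ k) := h3
      _ = _ := by ring

end general


variable {A : Type*} [CommRing A] (𝒜 : ℕ → AddSubgroup A) [GradedRing 𝒜]
variable (J : ∀ (g : A) (m : ℕ), 0 < m → g ∈ 𝒜 m → Ideal (Away 𝒜 g))

/-- the extension of `J g` to the full localization `A_g` -/
def K (g : A) (m : ℕ) (hm : 0 < m) (hg : g ∈ 𝒜 m) : Ideal (Localization.Away g) :=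
  (J g m hm hg).map (algebraMap (Away 𝒜 g) (Localization.Away g))

/-- the family is compatible with passing to smaller standard opens -/
def Compat : Prop :=
  ∀ (g : A) (m : ℕ) (hm : 0 < m) (hg : g ∈ 𝒜 m) (g' : A) (m' : ℕ) (hg' : g' ∈ 𝒜 m') (x : A)
    (hx : x = g * g'),
    J x (m + m') (Nat.add_pos_left hm m') (hx ▸ SetLike.mul_mem_graded hg hg') =
      (J g m hm hg).map (awayMap 𝒜 hg' hx)

/-- the canonical map `A_g → A_x` for `x = g * g'` -/
noncomputable def tau {g g' x : A} (hx : x = g * g') : Localization.Away g →+* Localization.Away x :=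
  Localization.awayLift (algebraMap A (Localization.Away x)) g
    (isUnit_of_dvd_unit (map_dvd _ ⟨_, hx⟩) (IsLocalization.Away.algebraMap_isUnit x))

theorem tau_algebraMap {g g' x : A} (hx : x = g * g') (a : A) :
    tau hx (algebraMap A (Localization.Away g) a) = algebraMap A (Localization.Away x) a :=
  IsLocalization.Away.lift_eq g
    (isUnit_of_dvd_unit (map_dvd _ ⟨_, hx⟩) (IsLocalization.Away.algebraMap_isUnit x)) a

theorem tau_val {g g' x : A} {m' : ℕ} (hg' : g' ∈ 𝒜 m') (hx : x = g * g') (y : Away 𝒜 g) :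
    tau hx y.val = (awayMap 𝒜 hg' hx y).val :=
  (val_awayMap 𝒜 hg' hx y).symm

variable {𝒜 J}

theorem K_mul (hJ : Compat 𝒜 J) {g : A} {m : ℕ} (hm : 0 < m) (hg : g ∈ 𝒜 m) {g' : A} {m' : ℕ}
    (hg' : g' ∈ 𝒜 m') {x : A} (hx : x = g * g') :
    K 𝒜 J x (m + m') (Nat.add_pos_left hm m') (hx ▸ SetLike.mul_mem_graded hg hg') =
      (K 𝒜 J g m hm hg).map (tau hx) := by
  unfold K
  rw [hJ g m hm hg g' m' hg' x hx, Ideal.map_map, Ideal.map_map]
  congr 1
  ext y
  exact (tau_val 𝒜 hg' hx y).symm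

/-- (T): membership passes to smaller standard opens -/
theorem mem_K_mul (hJ : Compat 𝒜 J) {g : A} {m : ℕ} (hm : 0 < m) (hg : g ∈ 𝒜 m) {g' : A}
    {m' : ℕ} (hg' : g' ∈ 𝒜 m') {x : A} (hx : x = g * g') {a : A}
    (ha : algebraMap A (Localization.Away g) a ∈ K 𝒜 J g m hm hg) :
    algebraMap A (Localization.Away x) a ∈
      K 𝒜 J x (m + m') (Nat.add_pos_left hm m') (hx ▸ SetLike.mul_mem_graded hg hg') := by
  rw [K_mul hJ hm hg hg' hx, ← tau_algebraMap hx a]
  exact Ideal.mem_map_of_mem _ ha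

/-- (D): membership on a smaller standard open descends after multiplying by a power -/
theorem exists_pow_mul_mem_K (hJ : Compat 𝒜 J) {g : A} {m : ℕ} (hm : 0 < m) (hg : g ∈ 𝒜 m)
    {g' : A} {m' : ℕ} (hg' : g' ∈ 𝒜 m') {x : A} (hx : x = g * g') {a : A}
    (ha : algebraMap A (Localization.Away x) a ∈
      K 𝒜 J x (m + m') (Nat.add_pos_left hm m') (hx ▸ SetLike.mul_mem_graded hg hg')) :
    ∃ n : ℕ, algebraMap A (Localization.Away g) (g' ^ n * a) ∈ K 𝒜 J g m hm hg := by
  letI : Algebra (Localization.Away g) (Localization.Away x) := (tau hx).toAlgebra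
  haveI : IsScalarTower A (Localization.Away g) (Localization.Away x) :=
    IsScalarTower.of_algebraMap_eq fun a => (tau_algebraMap hx a).symm
  haveI : IsLocalization.Away (g * g') (Localization.Away x) := hx ▸ inferInstance
  haveI : IsLocalization.Away (algebraMap A (Localization.Away g) g') (Localization.Away x) :=
    away_of_mul g g'
  rw [K_mul hJ hm hg hg' hx, ← tau_algebraMap hx a] at ha
  obtain ⟨_, ⟨n, rfl⟩, hn⟩ := (IsLocalization.algebraMap_mem_map_algebraMap_iff
    (Submonoid.powers (algebraMap A (Localization.Away g) g')) (Localization.Away x) _ _).mp ha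
  refine ⟨n, ?_⟩
  rwa [map_mul, map_pow]


theorem K_congr {g : A} {m m' : ℕ} (h : m = m') (hm : 0 < m) (hg : g ∈ 𝒜 m) (hm' : 0 < m')
    (hg' : g ∈ 𝒜 m') : K 𝒜 J g m hm hg = K 𝒜 J g m' hm' hg' := by
  subst h; rfl

variable (𝒜 J) in
/-- the ideal of elements vanishing on the punctured cone over the closed subscheme -/
def preSat : Ideal A :=
  ⨅ (g : A) (m : ℕ) (hm : 0 < m) (hg : g ∈ 𝒜 m),
    (K 𝒜 J g m hm hg).comap (algebraMap A (Localization.Away g))

theorem mem_preSat {a : A} : a ∈ preSat 𝒜 J ↔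
    ∀ (g : A) (m : ℕ) (hm : 0 < m) (hg : g ∈ 𝒜 m),
      algebraMap A (Localization.Away g) a ∈ K 𝒜 J g m hm hg := by
  simp only [preSat, Ideal.mem_iInf, Ideal.mem_comap]

variable (𝒜 J) in
/-- the saturated homogeneous ideal -/
def sat : HomogeneousIdeal 𝒜 := (preSat 𝒜 J).homogeneousCore 𝒜

theorem sat_le : (sat 𝒜 J).toIdeal ≤ preSat 𝒜 J := Ideal.toIdeal_homogeneousCore_le 𝒜 _

theorem mem_sat_of_mem {a : A} {k : ℕ} (ha : a ∈ 𝒜 k) (h : a ∈ preSat 𝒜 J) :
    a ∈ (sat 𝒜 J).toIdeal :=
  Ideal.mem_homogeneousCore_of_homogeneous_of_mem ⟨k, ha⟩ h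

section cover

variable {ι : Type*} [Fintype ι] (t : ι → A) (d : ι → ℕ) (hd : ∀ i, 0 < d i)
  (ht : ∀ i, t i ∈ 𝒜 (d i))
  (hcov : ∀ (g : A) (m : ℕ), 0 < m → g ∈ 𝒜 m → g ∈ (Ideal.span (Set.range t)).radical)

omit [GradedRing 𝒜] [Fintype ι] in
include hcov in
theorem span_eq_top {g : A} {m : ℕ} (hm : 0 < m) (hg : g ∈ 𝒜 m) :
    Ideal.span (Set.range fun i => algebraMap A (Localization.Away g) (t i)) = ⊤ := by
  obtain ⟨k, hk⟩ := hcov g m hm hg
  have h1 : algebraMap A (Localization.Away g) (g ^ k) ∈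
      (Ideal.span (Set.range t)).map (algebraMap A (Localization.Away g)) :=
    Ideal.mem_map_of_mem _ hk
  rw [Ideal.map_span, ← Set.range_comp] at h1
  refine Ideal.eq_top_of_isUnit_mem _ h1 ?_
  rw [map_pow]
  exact (IsLocalization.Away.algebraMap_isUnit g).pow k

include hcov in
/-- (L*): membership may be tested on a finite cover -/
theorem mem_preSat_of_cover (hJ : Compat 𝒜 J) {a : A}
    (ha : ∀ i, algebraMap A (Localization.Away (t i)) a ∈ K 𝒜 J (t i) (d i) (hd i) (ht i)) :
    a ∈ preSat 𝒜 J := by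
  classical
  rw [mem_preSat]
  intro g m hm hg
  have h1 : ∀ i, ∃ n : ℕ, algebraMap A (Localization.Away g) (t i ^ n * a) ∈ K 𝒜 J g m hm hg := by
    intro i
    have h2 := mem_K_mul hJ (hd i) (ht i) hg (x := g * t i) (mul_comm _ _) (ha i)
    rw [K_congr (add_comm (d i) m) _ _ (Nat.add_pos_left hm _)
      (SetLike.mul_mem_graded hg (ht i))] at h2
    exact exists_pow_mul_mem_K hJ hm hg (ht i) rfl h2
  choose n hn using h1
  let N := Finset.univ.sup n
  have h3 : ∀ i, algebraMap A (Localization.Away g) (t i) ^ N *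
      algebraMap A (Localization.Away g) a ∈ K 𝒜 J g m hm hg := by
    intro i
    have hle : n i ≤ N := Finset.le_sup (Finset.mem_univ i)
    have := (K 𝒜 J g m hm hg).mul_mem_left
      (algebraMap A (Localization.Away g) (t i) ^ (N - n i)) (hn i)
    rw [map_mul, map_pow, ← mul_assoc, ← pow_add, Nat.sub_add_cancel hle] at this
    exact this
  have h4 := Ideal.span_pow_eq_top _ (span_eq_top t hcov hm hg) N
  have h5 : (1 : Localization.Away g) ∈ Ideal.span ((fun x => x ^ N) ''
      Set.range fun i => algebraMap A (Localization.Away g) (t i)) := by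
    rw [h4]; exact Submodule.mem_top
  have key : ∀ y ∈ Ideal.span ((fun x => x ^ N) ''
      Set.range fun i => algebraMap A (Localization.Away g) (t i)),
      y * algebraMap A (Localization.Away g) a ∈ K 𝒜 J g m hm hg := by
    intro y hy
    refine Submodule.span_induction ?_ ?_ ?_ ?_ hy
    · rintro _ ⟨_, ⟨i, rfl⟩, rfl⟩
      exact h3 i
    · rw [zero_mul]; exact Ideal.zero_mem _
    · intro y y' _ _ h6 h7
      rw [add_mul]; exact Ideal.add_mem _ h6 h7
    · intro c y _ h6
      rw [smul_eq_mul, mul_assoc]; exact Ideal.mul_mem_left _ _ h6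
  have := key 1 h5
  rwa [one_mul] at this

theorem algebraMap_eq_pow_mul_val {f : A} {e : ℕ} (hf : f ∈ 𝒜 e) (k : ℕ) (a : A)
    (ha : a ∈ 𝒜 (k • e)) :
    algebraMap A (Localization.Away f) a =
      algebraMap A (Localization.Away f) f ^ k * (Away.mk 𝒜 hf k a ha).val := by
  rw [Away.val_mk, Localization.mk_eq_mk', ← map_pow]
  exact (IsLocalization.mk'_spec' _ _ _).symm

theorem val_eq_mul_algebraMap {f : A} {e : ℕ} (hf : f ∈ 𝒜 e) (k : ℕ) (a : A)
    (ha : a ∈ 𝒜 (k • e)) :
    (Away.mk 𝒜 hf k a ha).val =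
      Localization.mk 1 (Groth.Agent.Helper4.SN289.pw f k) *
        algebraMap A (Localization.Away f) a := by
  rw [Away.val_mk, ← Localization.mk_one_eq_algebraMap, Localization.mk_mul, one_mul, mul_one]

/-- (A) -/
theorem mk_mem_of_mem_sat {f : A} {e : ℕ} (he : 0 < e) (hf : f ∈ 𝒜 e) (k : ℕ) (a : A)
    (ha : a ∈ 𝒜 (k • e)) (h : a ∈ (sat 𝒜 J).toIdeal) :
    Away.mk 𝒜 hf k a ha ∈ J f e he hf := by
  have h1 := mem_preSat.mp (sat_le h) f e he hf
  have h2 : (Away.mk 𝒜 hf k a ha).val ∈ K 𝒜 J f e he hf := by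
    rw [val_eq_mul_algebraMap]
    exact Ideal.mul_mem_left _ _ h1
  have h3 : Away.mk 𝒜 hf k a ha ∈ ((J f e he hf).map
      (algebraMap (Away 𝒜 f) (Localization.Away f))).comap
      (algebraMap (Away 𝒜 f) (Localization.Away f)) := h2
  rwa [Groth.Agent.Helper4.SN289.comap_map_val 𝒜 hf] at h3

include hd ht hcov in
/-- (B) -/
theorem exists_pow_mul_mem_sat (hJ : Compat 𝒜 J) {f : A} {e : ℕ} (he : 0 < e) (hf : f ∈ 𝒜 e)
    (k : ℕ) (a : A) (ha : a ∈ 𝒜 (k • e)) (h : Away.mk 𝒜 hf k a ha ∈ J f e he hf) :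
    ∃ n : ℕ, f ^ n * a ∈ (sat 𝒜 J).toIdeal := by
  classical
  have h1 : algebraMap A (Localization.Away f) a ∈ K 𝒜 J f e he hf := by
    rw [algebraMap_eq_pow_mul_val hf k a ha]
    exact Ideal.mul_mem_left _ _ (Ideal.mem_map_of_mem _ h)
  have h2 : ∀ i, ∃ n : ℕ, algebraMap A (Localization.Away (t i)) (f ^ n * a) ∈
      K 𝒜 J (t i) (d i) (hd i) (ht i) := by
    intro i
    have h3 := mem_K_mul hJ he hf (ht i) (x := t i * f) (mul_comm _ _) h1
    rw [K_congr (add_comm e (d i)) _ _ (Nat.add_pos_left (hd i) _)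
      (SetLike.mul_mem_graded (ht i) hf)] at h3
    exact exists_pow_mul_mem_K hJ (hd i) (ht i) hf rfl h3
  choose n hn using h2
  let N := Finset.univ.sup n
  refine ⟨N, ?_⟩
  have hdeg : f ^ N * a ∈ 𝒜 (N • e + k • e) :=
    SetLike.mul_mem_graded (SetLike.pow_mem_graded N hf) ha
  refine mem_sat_of_mem hdeg (mem_preSat_of_cover t d hd ht hcov hJ fun i => ?_)
  have hle : n i ≤ N := Finset.le_sup (Finset.mem_univ i)
  have := (K 𝒜 J (t i) (d i) (hd i) (ht i)).mul_mem_left
    (algebraMap A (Localization.Away (t i)) (f ^ (N - n i))) (hn i)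
  rwa [← map_mul, ← mul_assoc, ← pow_add, Nat.sub_add_cancel hle] at this

end cover

end Groth.Agent.Helper4.SN290
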