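import Mathlib
import Groth.Agent.Helper4.SN290

/-!
# The quotient of a graded ring by a homogeneous ideal, as a graded ring
-/

set_option autoImplicit false

namespace Groth.Agent.Helper4.SN291

open HomogeneousLocalization DirectSum

variable {A : Type*} [CommRing A] (𝒜 : ℕ → AddSubgroup A) [GradedRing 𝒜] (I : HomogeneousIdeal 𝒜)

/-- the grading of the quotient -/
def quotDeg (d : ℕ) : AddSubgroup (A ⧸ I.toIdeal) :=
  (𝒜 d).map (Ideal.Quotient.mk I.toIdeal).toAddMonoidHom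

theorem mk_mem_quotDeg {d : ℕ} {a : A} (ha : a ∈ 𝒜 d) :
    Ideal.Quotient.mk I.toIdeal a ∈ quotDeg 𝒜 I d := ⟨a, ha, rfl⟩

theorem exists_of_mem_quotDeg {d : ℕ} {y : A ⧸ I.toIdeal} (hy : y ∈ quotDeg 𝒜 I d) :
    ∃ a ∈ 𝒜 d, Ideal.Quotient.mk I.toIdeal a = y := hy

instance gradedMonoid_quotDeg : SetLike.GradedMonoid (quotDeg 𝒜 I) where
  one_mem := ⟨1, SetLike.GradedOne.one_mem, map_one (Ideal.Quotient.mk I.toIdeal)⟩
  mul_mem := by
    rintro i j _ _ ⟨a, ha, rfl⟩ ⟨b, hb, rfl⟩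
    exact ⟨a * b, SetLike.GradedMul.mul_mem ha hb, map_mul (Ideal.Quotient.mk I.toIdeal) _ _⟩

/-- the piecewise maps -/
def pieceHom (i : ℕ) : 𝒜 i →+ quotDeg 𝒜 I i where
  toFun a := ⟨Ideal.Quotient.mk I.toIdeal a, mk_mem_quotDeg 𝒜 I a.2⟩
  map_zero' := Subtype.ext (by simp)
  map_add' a b := Subtype.ext (by simp)

theorem coe_map_pieceHom (x : ⨁ i, 𝒜 i) :
    DirectSum.coeAddMonoidHom (quotDeg 𝒜 I) (DirectSum.map (pieceHom 𝒜 I) x) =
      Ideal.Quotient.mk I.toIdeal (DirectSum.coeAddMonoidHom 𝒜 x) := by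
  induction x using DirectSum.induction_on with
  | zero => simp
  | of i a =>
    rw [DirectSum.map_of, DirectSum.coeAddMonoidHom_of, DirectSum.coeAddMonoidHom_of]
    rfl
  | add x y hx hy => rw [map_add, map_add, hx, hy, map_add, map_add]

/-- the decomposition before passing to the quotient -/
def preDecomp : A →+ ⨁ i, quotDeg 𝒜 I i :=
  (DirectSum.map (pieceHom 𝒜 I)).comp (DirectSum.decomposeAddEquiv 𝒜).toAddMonoidHom

theorem preDecomp_apply (a : A) :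
    preDecomp 𝒜 I a = DirectSum.map (pieceHom 𝒜 I) (DirectSum.decompose 𝒜 a) := rfl

theorem preDecomp_eq_zero {a : A} (ha : a ∈ I.toIdeal) : preDecomp 𝒜 I a = 0 := by
  rw [preDecomp_apply]
  ext i
  rw [DirectSum.map_apply, DirectSum.zero_apply]
  change Ideal.Quotient.mk I.toIdeal (DirectSum.decompose 𝒜 a i : A) = 0
  rw [Ideal.Quotient.eq_zero_iff_mem]
  exact I.isHomogeneous i ha

/-- the decomposition map of the quotient grading -/
def decompHom : A ⧸ I.toIdeal →+ ⨁ i, quotDeg 𝒜 I i :=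
  QuotientAddGroup.lift I.toIdeal.toAddSubgroup (preDecomp 𝒜 I)
    (fun _ ha => preDecomp_eq_zero 𝒜 I ha)

theorem decompHom_mk (a : A) :
    decompHom 𝒜 I (Ideal.Quotient.mk I.toIdeal a) = preDecomp 𝒜 I a := rfl

instance decomposition_quotDeg : DirectSum.Decomposition (quotDeg 𝒜 I) :=
  DirectSum.Decomposition.ofAddHom (quotDeg 𝒜 I) (decompHom 𝒜 I)
    (by
      ext b
      obtain ⟨a, rfl⟩ := Ideal.Quotient.mk_surjective b
      change DirectSum.coeAddMonoidHom (quotDeg 𝒜 I) (decompHom 𝒜 I (Ideal.Quotient.mk _ a)) = _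
      rw [decompHom_mk, preDecomp_apply, coe_map_pieceHom]
      have : DirectSum.coeAddMonoidHom 𝒜 (DirectSum.decompose 𝒜 a) = a :=
        (DirectSum.decompose 𝒜).left_inv a
      rw [this]
      rfl)
    (by
      refine DirectSum.addHom_ext fun i y => ?_
      obtain ⟨y, hy⟩ := y
      obtain ⟨a, ha, rfl⟩ := exists_of_mem_quotDeg 𝒜 I hy
      change decompHom 𝒜 I (DirectSum.coeAddMonoidHom (quotDeg 𝒜 I)
        (DirectSum.of _ i ⟨Ideal.Quotient.mk _ a, hy⟩)) = DirectSum.of _ i ⟨_, hy⟩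
      rw [DirectSum.coeAddMonoidHom_of]
      change decompHom 𝒜 I (Ideal.Quotient.mk _ a) = _
      rw [decompHom_mk, preDecomp_apply, DirectSum.decompose_of_mem 𝒜 ha, DirectSum.map_of]
      rfl)

instance gradedRing_quotDeg : GradedRing (quotDeg 𝒜 I) where

/-- the quotient map as a graded ring homomorphism -/
def quotHom : 𝒜 →+*ᵍ quotDeg 𝒜 I :=
  { Ideal.Quotient.mk I.toIdeal with map_mem := fun hx => mk_mem_quotDeg 𝒜 I hx }

@[simp] theorem quotHom_apply (a : A) : quotHom 𝒜 I a = Ideal.Quotient.mk I.toIdeal a := rfl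


theorem map_quotHom_mk_eq_zero_iff {f : A} {e : ℕ} (hf : f ∈ 𝒜 e) (k : ℕ) (a : A)
    (ha : a ∈ 𝒜 (k • e)) :
    Away.map (quotHom 𝒜 I) f (Away.mk 𝒜 hf k a ha) = 0 ↔ ∃ n : ℕ, f ^ n * a ∈ I.toIdeal := by
  rw [Away.map_mk, HomogeneousLocalization.ext_iff_val, val_zero, Away.val_mk,
    Localization.mk_eq_mk', IsLocalization.mk'_eq_zero_iff]
  constructor
  · rintro ⟨⟨_, n, rfl⟩, hn⟩
    refine ⟨n, ?_⟩
    rw [← Ideal.Quotient.eq_zero_iff_mem, map_mul, map_pow]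
    exact hn
  · rintro ⟨n, hn⟩
    refine ⟨⟨_, n, rfl⟩, ?_⟩
    rw [← Ideal.Quotient.eq_zero_iff_mem, map_mul, map_pow] at hn
    exact hn

theorem mk_pow_mul {f : A} {e : ℕ} (hf : f ∈ 𝒜 e) (k n : ℕ) (a : A) (ha : a ∈ 𝒜 (k • e))
    (ha' : f ^ n * a ∈ 𝒜 ((n + k) • e)) :
    Away.mk 𝒜 hf (n + k) (f ^ n * a) ha' = Away.mk 𝒜 hf k a ha := by
  apply val_injective
  rw [Away.val_mk, Away.val_mk, Localization.mk_eq_mk_iff, Localization.r_iff_exists]
  refine ⟨1, ?_⟩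
  simp only [OneMemClass.coe_one, one_mul]
  ring

section general

variable {B : Type*} [CommRing B] {ℬ : ℕ → AddSubgroup B} [GradedRing ℬ] (π : 𝒜 →+*ᵍ ℬ)
  (I' : Ideal A) (hπ : ∀ x : A, π x = 0 ↔ x ∈ I')

include hπ in
theorem map_mk_eq_zero_iff {f : A} {e : ℕ} (hf : f ∈ 𝒜 e) (k : ℕ) (a : A)
    (ha : a ∈ 𝒜 (k • e)) :
    Away.map π f (Away.mk 𝒜 hf k a ha) = 0 ↔ ∃ n : ℕ, f ^ n * a ∈ I' := by
  rw [Away.map_mk, HomogeneousLocalization.ext_iff_val, val_zero, Away.val_mk,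
    Localization.mk_eq_mk', IsLocalization.mk'_eq_zero_iff]
  constructor
  · rintro ⟨⟨_, n, rfl⟩, hn⟩
    refine ⟨n, ?_⟩
    rw [← hπ, map_mul, map_pow]
    exact hn
  · rintro ⟨n, hn⟩
    refine ⟨⟨_, n, rfl⟩, ?_⟩
    rw [← hπ, map_mul, map_pow] at hn
    exact hn

end general

section main

open Groth.Agent.Helper4.SN290

variable {𝒜}
variable {J : ∀ (g : A) (m : ℕ), 0 < m → g ∈ 𝒜 m → Ideal (Away 𝒜 g)}
  {ι : Type*} [Fintype ι] (t : ι → A) (d : ι → ℕ) (hd : ∀ i, 0 < d i)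
  (ht : ∀ i, t i ∈ 𝒜 (d i))
  (hcov : ∀ (g : A) (m : ℕ), 0 < m → g ∈ 𝒜 m → g ∈ (Ideal.span (Set.range t)).radical)

include hd ht hcov in
/-- The saturated ideal cuts out the given family: the kernel of `A_(f) → (A/I)_(f)` is `J f`. -/
theorem ker_map_quotHom_sat (hJ : Compat 𝒜 J) {f : A} {e : ℕ} (he : 0 < e) (hf : f ∈ 𝒜 e) :
    RingHom.ker (Away.map (quotHom 𝒜 (sat 𝒜 J)) f) = J f e he hf := by
  ext x
  obtain ⟨k, a, ha, rfl⟩ := Away.mk_surjective 𝒜 hf x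
  rw [RingHom.mem_ker, map_quotHom_mk_eq_zero_iff]
  constructor
  · rintro ⟨n, hn⟩
    have ha' : f ^ n * a ∈ 𝒜 ((n + k) • e) := by
      rw [add_smul]
      exact SetLike.mul_mem_graded (SetLike.pow_mem_graded n hf) ha
    have := mk_mem_of_mem_sat he hf (n + k) (f ^ n * a) ha' hn
    rwa [mk_pow_mul 𝒜 hf k n a ha ha'] at this
  · intro h
    exact exists_pow_mul_mem_sat t d hd ht hcov hJ he hf k a ha h

include hd ht hcov in
/-- The same for any graded homomorphism whose kernel is the saturated ideal. -/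
theorem ker_map_of_ker_eq_sat {B : Type*} [CommRing B] {ℬ : ℕ → AddSubgroup B} [GradedRing ℬ]
    (π : 𝒜 →+*ᵍ ℬ) (hπ : ∀ x : A, π x = 0 ↔ x ∈ (sat 𝒜 J).toIdeal)
    (hJ : Compat 𝒜 J) {f : A} {e : ℕ} (he : 0 < e) (hf : f ∈ 𝒜 e) :
    RingHom.ker (Away.map π f) = J f e he hf := by
  ext x
  obtain ⟨k, a, ha, rfl⟩ := Away.mk_surjective 𝒜 hf x
  rw [RingHom.mem_ker, map_mk_eq_zero_iff 𝒜 π _ hπ]
  constructor
  · rintro ⟨n, hn⟩
    have ha' : f ^ n * a ∈ 𝒜 ((n + k) • e) := by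
      rw [add_smul]
      exact SetLike.mul_mem_graded (SetLike.pow_mem_graded n hf) ha
    have := mk_mem_of_mem_sat he hf (n + k) (f ^ n * a) ha' hn
    rwa [mk_pow_mul 𝒜 hf k n a ha ha'] at this
  · intro h
    exact exists_pow_mul_mem_sat t d hd ht hcov hJ he hf k a ha h

end main

end Groth.Agent.Helper4.SN291
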