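import Mathlib
import Groth.Agent.Helper4.SN291

/-!
# The saturated ideal and localization at a degree-zero element
-/

set_option autoImplicit false
set_option linter.unusedSectionVars false

namespace Groth.Agent.Helper4.SN292

open HomogeneousLocalization DirectSum Groth.Agent.Helper4.SN290 Groth.Agent.Helper4.SN291

variable {A A' : Type*} [CommRing A] [CommRing A'] {𝒜 : ℕ → AddSubgroup A} [GradedRing 𝒜]
  {𝒜' : ℕ → AddSubgroup A'} [GradedRing 𝒜'] (ψ : 𝒜 →+*ᵍ 𝒜')

omit [GradedRing 𝒜] [GradedRing 𝒜'] in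
theorem powers_le (g : A) :
    Submonoid.powers g ≤ (Submonoid.powers (ψ g)).comap ψ.toRingHom := by
  rintro _ ⟨n, rfl⟩
  exact ⟨n, by simp⟩

/-- the map `A_g → A'_{ψ g}` -/
noncomputable def nu (g : A) : Localization.Away g →+* Localization.Away (ψ g) :=
  IsLocalization.map (Localization.Away (ψ g)) ψ.toRingHom (powers_le ψ g)

theorem nu_algebraMap (g a : A) :
    nu ψ g (algebraMap A (Localization.Away g) a) = algebraMap A' (Localization.Away (ψ g)) (ψ a) :=
  IsLocalization.map_eq (powers_le ψ g) a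

theorem nu_mk (g a : A) (s : Submonoid.powers g) :
    nu ψ g (Localization.mk a s) = Localization.mk (ψ a) ⟨ψ s, powers_le ψ g s.2⟩ := by
  rw [Localization.mk_eq_mk', Localization.mk_eq_mk']
  exact IsLocalization.map_mk' (powers_le ψ g) a s

theorem nu_val (g : A) (y : Away 𝒜 g) : nu ψ g y.val = (Away.map ψ g y).val := by
  obtain ⟨c, rfl⟩ := HomogeneousLocalization.mk_surjective y
  rw [val_mk, nu_mk]
  rfl

variable (J : ∀ (g : A) (m : ℕ), 0 < m → g ∈ 𝒜 m → Ideal (Away 𝒜 g))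
  (J' : ∀ (g : A') (m : ℕ), 0 < m → g ∈ 𝒜' m → Ideal (Away 𝒜' g))

/-- the two families correspond along `ψ` -/
def CompatMap : Prop :=
  ∀ (g : A) (m : ℕ) (hm : 0 < m) (hg : g ∈ 𝒜 m),
    J' (ψ g) m hm (ψ.map_mem hg) = (J g m hm hg).map (Away.map ψ g)

variable {ψ J J'}

theorem K_map (hψ : CompatMap ψ J J') {g : A} {m : ℕ} (hm : 0 < m) (hg : g ∈ 𝒜 m) :
    K 𝒜' J' (ψ g) m hm (ψ.map_mem hg) = (K 𝒜 J g m hm hg).map (nu ψ g) := by
  unfold K
  rw [hψ g m hm hg, Ideal.map_map, Ideal.map_map]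
  congr 1
  ext y
  exact (nu_val ψ g y).symm


section cover

variable {ι : Type*} [Fintype ι] (t : ι → A) (d : ι → ℕ) (hd : ∀ i, 0 < d i)
  (ht : ∀ i, t i ∈ 𝒜 (d i))
  (hcov : ∀ (g : A) (m : ℕ), 0 < m → g ∈ 𝒜 m → g ∈ (Ideal.span (Set.range t)).radical)
  (r : A) (hr : r ∈ 𝒜 0)
  (hloc : @IsLocalization.Away A _ r A' _ ψ.toRingHom.toAlgebra)

omit [Fintype ι] in
include hcov hr hloc in
/-- the image of a cover is a cover -/
theorem cover_map (g' : A') (m : ℕ) (hm : 0 < m) (hg' : g' ∈ 𝒜' m) :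
    g' ∈ (Ideal.span (Set.range fun i => ψ (t i))).radical := by
  letI : Algebra A A' := ψ.toRingHom.toAlgebra
  haveI := hloc
  obtain ⟨n, a, ha⟩ := IsLocalization.Away.surj r g'
  change g' * ψ r ^ n = ψ a at ha
  have hdeg : g' * ψ r ^ n ∈ 𝒜' m := by
    have := SetLike.mul_mem_graded hg' (SetLike.pow_mem_graded n (ψ.map_mem hr))
    simpa using this
  have h1 : ψ (decompose 𝒜 a m : A) = g' * ψ r ^ n := by
    rw [GradedRingHom.map_directSumDecompose, ← ha, DirectSum.decompose_of_mem_same 𝒜' hdeg]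
  obtain ⟨k, hk⟩ := hcov (decompose 𝒜 a m : A) m hm (SetLike.coe_mem _)
  have h2 : ψ ((decompose 𝒜 a m : A) ^ k) ∈
      (Ideal.span (Set.range t)).map ψ.toRingHom := Ideal.mem_map_of_mem _ hk
  rw [Ideal.map_span, ← Set.range_comp, map_pow, h1, mul_pow] at h2
  have hu : IsUnit ((ψ r ^ n) ^ k) :=
    ((IsLocalization.Away.algebraMap_isUnit (S := A') r).pow n).pow k
  refine ⟨k, ?_⟩
  obtain ⟨u, hu⟩ := hu
  have := Ideal.mul_mem_right ((u⁻¹ : A'ˣ) : A') _ h2
  rwa [← hu, mul_assoc, Units.mul_inv, mul_one] at this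

include hd ht hcov hr hloc in
/-- (R1) -/
theorem map_mem_preSat (hJ' : Compat 𝒜' J') (hψ : CompatMap ψ J J') {a : A}
    (ha : a ∈ preSat 𝒜 J) : ψ a ∈ preSat 𝒜' J' := by
  refine mem_preSat_of_cover (fun i => ψ (t i)) d hd (fun i => ψ.map_mem (ht i))
    (cover_map t hcov r hr hloc) hJ' fun i => ?_
  rw [K_map hψ (hd i) (ht i), ← nu_algebraMap]
  exact Ideal.mem_map_of_mem _ (mem_preSat.mp ha _ _ _ _)

include hd ht hcov hloc in
/-- (R2) -/
theorem exists_pow_mul_mem_preSat (hJ : Compat 𝒜 J) (hψ : CompatMap ψ J J') {a : A}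
    (ha : ψ a ∈ preSat 𝒜' J') : ∃ n : ℕ, r ^ n * a ∈ preSat 𝒜 J := by
  classical
  have h1 : ∀ i, ∃ n : ℕ, algebraMap A (Localization.Away (t i)) (r ^ n * a) ∈
      K 𝒜 J (t i) (d i) (hd i) (ht i) := by
    intro i
    letI : Algebra A A' := ψ.toRingHom.toAlgebra
    haveI := hloc
    letI : Algebra (Localization.Away (t i)) (Localization.Away (ψ (t i))) :=
      (nu ψ (t i)).toAlgebra
    haveI : IsScalarTower A (Localization.Away (t i)) (Localization.Away (ψ (t i))) :=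
      IsScalarTower.of_algebraMap_eq fun x => by
        rw [IsScalarTower.algebraMap_apply A A' (Localization.Away (ψ (t i)))]
        exact (nu_algebraMap ψ (t i) x).symm
    haveI : IsLocalization.Away (algebraMap A A' (t i)) (Localization.Away (ψ (t i))) :=
      (inferInstance : IsLocalization.Away (ψ (t i)) (Localization.Away (ψ (t i))))
    haveI : IsLocalization.Away (algebraMap A (Localization.Away (t i)) r)
        (Localization.Away (ψ (t i))) :=
      IsLocalization.Away.commutes (Localization.Away (t i)) A' (Localization.Away (ψ (t i)))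
        (t i) r
    have h2 := mem_preSat.mp ha (ψ (t i)) (d i) (hd i) (ψ.map_mem (ht i))
    rw [K_map hψ (hd i) (ht i), ← nu_algebraMap] at h2
    obtain ⟨_, ⟨n, rfl⟩, hn⟩ := (IsLocalization.algebraMap_mem_map_algebraMap_iff
      (Submonoid.powers (algebraMap A (Localization.Away (t i)) r))
      (Localization.Away (ψ (t i))) _ _).mp h2
    refine ⟨n, ?_⟩
    rwa [map_mul, map_pow]
  choose n hn using h1
  let N := Finset.univ.sup n
  refine ⟨N, mem_preSat_of_cover t d hd ht hcov hJ fun i => ?_⟩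
  have hle : n i ≤ N := Finset.le_sup (Finset.mem_univ i)
  have := (K 𝒜 J (t i) (d i) (hd i) (ht i)).mul_mem_left
    (algebraMap A (Localization.Away (t i)) (r ^ (N - n i))) (hn i)
  rwa [← map_mul, ← mul_assoc, ← pow_add, Nat.sub_add_cancel hle] at this

include hd ht hcov hr hloc in
theorem map_mem_sat (hJ' : Compat 𝒜' J') (hψ : CompatMap ψ J J') {a : A}
    (ha : a ∈ (sat 𝒜 J).toIdeal) : ψ a ∈ (sat 𝒜' J').toIdeal := by
  classical
  rw [← DirectSum.sum_support_decompose 𝒜 a, map_sum]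
  refine Ideal.sum_mem _ fun c _ => ?_
  have h1 : (decompose 𝒜 a c : A) ∈ (sat 𝒜 J).toIdeal := (sat 𝒜 J).isHomogeneous c ha
  exact mem_sat_of_mem (ψ.map_mem (SetLike.coe_mem _))
    (map_mem_preSat t d hd ht hcov r hr hloc hJ' hψ (sat_le h1))

include hd ht hcov hr hloc in
theorem exists_pow_mul_mem_sat_of_map (hJ : Compat 𝒜 J) (hψ : CompatMap ψ J J') {a : A}
    (ha : ψ a ∈ (sat 𝒜' J').toIdeal) : ∃ n : ℕ, r ^ n * a ∈ (sat 𝒜 J).toIdeal := by
  classical
  have h1 : ∀ c : ℕ, ∃ n : ℕ, r ^ n * (decompose 𝒜 a c : A) ∈ preSat 𝒜 J := by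
    intro c
    have h2 : ψ (decompose 𝒜 a c : A) ∈ (sat 𝒜' J').toIdeal := by
      rw [GradedRingHom.map_directSumDecompose]
      exact (sat 𝒜' J').isHomogeneous c ha
    exact exists_pow_mul_mem_preSat t d hd ht hcov r hloc hJ hψ (sat_le h2)
  choose n hn using h1
  let N := (DFinsupp.support (decompose 𝒜 a)).sup n
  refine ⟨N, ?_⟩
  rw [← DirectSum.sum_support_decompose 𝒜 a, Finset.mul_sum]
  refine Ideal.sum_mem _ fun c hc => ?_
  have hle : n c ≤ N := Finset.le_sup hc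
  have hdeg : r ^ N * (decompose 𝒜 a c : A) ∈ 𝒜 (N • 0 + c) :=
    SetLike.mul_mem_graded (SetLike.pow_mem_graded N hr) (SetLike.coe_mem _)
  refine mem_sat_of_mem hdeg ?_
  have := (preSat 𝒜 J).mul_mem_left (r ^ (N - n c)) (hn c)
  rwa [← mul_assoc, ← pow_add, Nat.sub_add_cancel hle] at this

end cover

section quot

variable {R R' : Type*} [CommRing R] [CommRing R'] (φ : R →+* R') (I : Ideal R) (I' : Ideal R')
  (r : R) (hloc : @IsLocalization.Away R _ r R' _ φ.toAlgebra)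
  (h1 : I ≤ I'.comap φ) (h2 : ∀ a : R, φ a ∈ I' → ∃ n : ℕ, r ^ n * a ∈ I)

include hloc h2 in
/-- a quotient of a localization is the localization of the quotient -/
theorem isLocalization_quotientMap :
    @IsLocalization.Away (R ⧸ I) _ (Ideal.Quotient.mk I r) (R' ⧸ I') _
      (Ideal.quotientMap I' φ h1).toAlgebra := by
  letI : Algebra R R' := φ.toAlgebra
  haveI := hloc
  letI : Algebra (R ⧸ I) (R' ⧸ I') := (Ideal.quotientMap I' φ h1).toAlgebra
  have hmk : ∀ a : R, algebraMap (R ⧸ I) (R' ⧸ I') (Ideal.Quotient.mk I a) =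
      Ideal.Quotient.mk I' (φ a) := fun a => Ideal.quotientMap_mk
  refine IsLocalization.Away.mk _ ?_ ?_ ?_
  · rw [hmk]
    exact (IsLocalization.Away.algebraMap_isUnit (S := R') r).map (Ideal.Quotient.mk I')
  · intro b'
    obtain ⟨a', rfl⟩ := Ideal.Quotient.mk_surjective b'
    obtain ⟨n, a, ha⟩ := IsLocalization.Away.surj r a'
    refine ⟨n, Ideal.Quotient.mk I a, ?_⟩
    rw [hmk, hmk, ← map_pow, ← map_mul]
    exact congrArg _ ha
  · intro a b hab
    obtain ⟨a, rfl⟩ := Ideal.Quotient.mk_surjective a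
    obtain ⟨b, rfl⟩ := Ideal.Quotient.mk_surjective b
    rw [hmk, hmk, Ideal.Quotient.eq, ← map_sub] at hab
    obtain ⟨n, hn⟩ := h2 _ hab
    refine ⟨n, ?_⟩
    rw [← map_pow, ← map_mul, ← map_mul, Ideal.Quotient.eq, ← mul_sub]
    exact hn

end quot

end Groth.Agent.Helper4.SN292
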