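import Mathlib

/-!
# The ideal of an ideal sheaf on an affine chart
-/

set_option autoImplicit false
set_option linter.unusedSectionVars false

namespace Groth.Agent.Helper4.SN293

open CategoryTheory AlgebraicGeometry TopologicalSpace Opposite

universe u

variable {P : Scheme.{u}} {R : CommRingCat.{u}} (j : Spec R ⟶ P) [IsOpenImmersion j]

/-- the identification of the functions on the image of an affine chart -/
noncomputable def tauJ : Γ(P, j.opensRange) ⟶ R :=
  j.appLE j.opensRange ⊤ (by rw [Scheme.Hom.opensRange]; exact fun x _ => ⟨x, rfl⟩) ≫ (Scheme.ΓSpecIso R).hom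

instance isIso_tauJ : IsIso (tauJ j) := by
  unfold tauJ
  have : IsIso (j.appLE j.opensRange ⊤
      (by rw [Scheme.Hom.opensRange]; exact fun x _ => ⟨x, rfl⟩)) := by
    rw [Scheme.Hom.appLE]
    have h1 : IsIso (j.app j.opensRange) := Scheme.Hom.isIso_app j _ le_rfl
    have h2 : IsIso ((Spec R).presheaf.map (homOfLE (show (⊤ : (Spec R).Opens) ≤ j ⁻¹ᵁ j.opensRange
        from by rw [Scheme.Hom.opensRange]; exact fun x _ => ⟨x, rfl⟩)).op) := by
      have e : j ⁻¹ᵁ j.opensRange = ⊤ := by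
        ext x; simp [Scheme.Hom.opensRange]
      have : IsIso (homOfLE (show (⊤ : (Spec R).Opens) ≤ j ⁻¹ᵁ j.opensRange
        from by rw [Scheme.Hom.opensRange]; exact fun x _ => ⟨x, rfl⟩)) :=
        ⟨⟨homOfLE le_top, Subsingleton.elim _ _, Subsingleton.elim _ _⟩⟩
      infer_instance
    infer_instance
  infer_instance

variable (K : P.IdealSheafData)

/-- the ideal of `K` on the affine chart `j` -/
noncomputable def idealOf : Ideal R :=
  (K.ideal ⟨j.opensRange, isAffineOpen_opensRange j⟩).map (tauJ j).hom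

theorem mem_idealOf {x : R} :
    x ∈ idealOf j K ↔ (inv (tauJ j)).hom x ∈ K.ideal ⟨j.opensRange, isAffineOpen_opensRange j⟩ := by
  have hsurj : Function.Surjective (tauJ j).hom := fun y => ⟨(inv (tauJ j)).hom y, by
    have := congrArg (fun k => k.hom y) (IsIso.inv_hom_id (tauJ j))
    exact this⟩
  unfold idealOf
  rw [Ideal.mem_map_iff_of_surjective _ hsurj]
  constructor
  · rintro ⟨y, hy, rfl⟩
    have := congrArg (fun k => k.hom y) (IsIso.hom_inv_id (tauJ j))
    change (inv (tauJ j)).hom ((tauJ j).hom y) = y at this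
    rwa [this]
  · intro h
    refine ⟨_, h, ?_⟩
    have := congrArg (fun k => k.hom x) (IsIso.inv_hom_id (tauJ j))
    exact this


theorem ideal_eq_of_idealOf_eq (K₁ K₂ : P.IdealSheafData) (h : idealOf j K₁ = idealOf j K₂) :
    K₁.ideal ⟨j.opensRange, isAffineOpen_opensRange j⟩ =
      K₂.ideal ⟨j.opensRange, isAffineOpen_opensRange j⟩ := by
  ext y
  have h4 : (inv (tauJ j)).hom ((tauJ j).hom y) = y := by
    have := congrArg (fun k => k.hom y) (IsIso.hom_inv_id (tauJ j))
    exact this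
  have h1 := mem_idealOf j K₁ (x := (tauJ j).hom y)
  have h2 := mem_idealOf j K₂ (x := (tauJ j).hom y)
  rw [h4] at h1 h2
  rw [← h1, ← h2, h]

section functorial

variable {R₁ R₂ : CommRingCat.{u}} (j₁ : Spec R₁ ⟶ P) [IsOpenImmersion j₁] (j₂ : Spec R₂ ⟶ P)
  [IsOpenImmersion j₂] (φ : R₁ ⟶ R₂) (hφ : Spec.map φ ≫ j₁ = j₂)

include hφ in
theorem opensRange_le : j₂.opensRange ≤ j₁.opensRange := by
  rintro _ ⟨x, rfl⟩
  refine ⟨(Spec.map φ) x, ?_⟩
  have := congrArg (fun f : Spec R₂ ⟶ P => f x) hφ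
  exact this

include hφ in
theorem map_tauJ :
    P.presheaf.map (homOfLE (opensRange_le j₁ j₂ φ hφ)).op ≫ tauJ j₂ = tauJ j₁ ≫ φ := by
  unfold tauJ
  rw [← Category.assoc, Scheme.Hom.map_appLE]
  have h1 : j₂.appLE j₁.opensRange ⊤
      ((by rw [Scheme.Hom.opensRange]; exact fun x _ => ⟨x, rfl⟩ :
        (⊤ : (Spec R₂).Opens) ≤ j₂ ⁻¹ᵁ j₂.opensRange).trans
          (j₂.preimage_mono (opensRange_le j₁ j₂ φ hφ))) =
      j₁.appLE j₁.opensRange ⊤ (by rw [Scheme.Hom.opensRange]; exact fun x _ => ⟨x, rfl⟩) ≫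
        (Spec.map φ).appLE ⊤ ⊤ le_top := by
    rw [Scheme.Hom.appLE_comp_appLE]
    subst hφ
    rfl
  rw [h1, Category.assoc, Category.assoc]
  congr 1
  have h2 : (Spec.map φ).appLE ⊤ ⊤ le_top = (Spec.map φ).appTop := by
    simp [Scheme.Hom.appLE, Scheme.Hom.appTop]
  rw [h2, Scheme.ΓSpecIso_naturality]

include hφ in
/-- (F): the ideals on two charts related by a ring map -/
theorem idealOf_eq_map : idealOf j₂ K = (idealOf j₁ K).map φ.hom := by
  unfold idealOf
  have h := K.map_ideal' (U := ⟨j₂.opensRange, isAffineOpen_opensRange j₂⟩)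
    (V := ⟨j₁.opensRange, isAffineOpen_opensRange j₁⟩) (homOfLE (opensRange_le j₁ j₂ φ hφ)).op
  rw [← h, Ideal.map_map, Ideal.map_map, ← CommRingCat.hom_comp, ← CommRingCat.hom_comp,
    map_tauJ j₁ j₂ φ hφ]

end functorial


section ker

variable {Y : Scheme.{u}} (h : Y ⟶ P) [QuasiCompact h] {R R' : CommRingCat.{u}}
  (j : Spec R ⟶ P) [IsOpenImmersion j] (j' : Spec R' ⟶ Y) [IsOpenImmersion j'] (θ : R ⟶ R')
  (hcomm : j' ≫ h = Spec.map θ ≫ j) (hpre : h ⁻¹ᵁ j.opensRange = j'.opensRange)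

theorem appLE_congr {X Z : Scheme.{u}} {f g : X ⟶ Z} (e : f = g) (U : Z.Opens) (V : X.Opens)
    (hle : V ≤ f ⁻¹ᵁ U) : f.appLE U V hle = g.appLE U V (e ▸ hle) := by
  subst e; rfl

include hcomm hpre in
theorem app_tauJ :
    h.app j.opensRange ≫ Y.presheaf.map (eqToHom hpre.symm).op ≫ tauJ j' = tauJ j ≫ θ := by
  unfold tauJ
  have h0 : (⊤ : (Spec R').Opens) ≤ j' ⁻¹ᵁ j'.opensRange := by
    rw [Scheme.Hom.opensRange]; exact fun x _ => ⟨x, rfl⟩
  have h1 : h.app j.opensRange ≫ Y.presheaf.map (eqToHom hpre.symm).op =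
      h.appLE j.opensRange j'.opensRange hpre.ge := by
    rw [Scheme.Hom.appLE]
    congr 1
  rw [← Category.assoc, h1, ← Category.assoc, Scheme.Hom.appLE_comp_appLE,
    appLE_congr hcomm]
  have h2 : (Spec.map θ ≫ j).appLE j.opensRange ⊤
      (hcomm ▸ (h0.trans (j'.preimage_mono hpre.ge))) =
      j.appLE j.opensRange ⊤ (by rw [Scheme.Hom.opensRange]; exact fun x _ => ⟨x, rfl⟩) ≫
        (Spec.map θ).appLE ⊤ ⊤ le_top := by
    rw [Scheme.Hom.appLE_comp_appLE]
  rw [h2, Category.assoc, Category.assoc]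
  congr 1
  have h3 : (Spec.map θ).appLE ⊤ ⊤ le_top = (Spec.map θ).appTop := by
    simp [Scheme.Hom.appLE, Scheme.Hom.appTop]
  rw [h3, Scheme.ΓSpecIso_naturality]

include hcomm hpre in
/-- (G): the ideal of the kernel of `h` on a chart over which `h` is `Spec θ` -/
theorem idealOf_ker : idealOf j h.ker = RingHom.ker θ.hom := by
  ext x
  rw [mem_idealOf, Scheme.Hom.ker_apply, RingHom.mem_ker, RingHom.mem_ker]
  have hinj : Function.Injective (Y.presheaf.map (eqToHom hpre.symm).op ≫ tauJ j').hom :=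
    (ConcreteCategory.bijective_of_isIso _).1
  have key := congrArg (fun k => k.hom ((inv (tauJ j)).hom x)) (app_tauJ h j j' θ hcomm hpre)
  have h4 : (tauJ j).hom ((inv (tauJ j)).hom x) = x := by
    have := congrArg (fun k => k.hom x) (IsIso.inv_hom_id (tauJ j))
    exact this
  change (Y.presheaf.map (eqToHom hpre.symm).op ≫ tauJ j').hom
    ((h.app j.opensRange).hom ((inv (tauJ j)).hom x)) = θ.hom ((tauJ j).hom ((inv (tauJ j)).hom x))
    at key
  rw [h4] at key
  rw [← key]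
  constructor
  · intro h5
    rw [h5, map_zero]
  · intro h5
    exact hinj (h5.trans (map_zero _).symm)

end ker

end Groth.Agent.Helper4.SN293
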