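import Mathlib

/-!
# A finite cover of a quasi-compact `Proj` by standard opens, in radical form
-/

set_option autoImplicit false

namespace Groth.Agent.Helper4.SN294

open AlgebraicGeometry HomogeneousIdeal
open scoped HomogeneousIdeal

universe u

variable {A : Type u} [CommRing A] (𝒜 : ℕ → AddSubgroup A) [GradedRing 𝒜]

lemma irrelevant_le_span : (𝒜₊).toIdeal ≤
    Ideal.span (Set.range (fun i : Σ d : ℕ+, 𝒜 d => (i.2 : A))) := by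
  classical
  intro z hz
  rw [← DirectSum.sum_support_decompose 𝒜 z]
  refine Ideal.sum_mem _ fun c hc ↦ if hc0 : c = 0 then ?_ else
    Ideal.subset_span ⟨⟨⟨c, Nat.pos_iff_ne_zero.mpr hc0⟩, _⟩, rfl⟩
  subst hc0
  have h0 : ((DirectSum.decompose 𝒜 z 0 : 𝒜 0) : A) = 0 := by
    have := (HomogeneousIdeal.mem_irrelevant_iff 𝒜 z).mp hz
    rwa [GradedRing.proj_apply] at this
  rw [h0]
  exact Ideal.zero_mem _

theorem exists_finite_cover [CompactSpace (Proj 𝒜)] :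
    ∃ (ι : Type u) (_ : Fintype ι) (t : ι → A) (d : ι → ℕ), (∀ i, 0 < d i) ∧
      (∀ i, t i ∈ 𝒜 (d i)) ∧
      ∀ (g : A) (m : ℕ), 0 < m → g ∈ 𝒜 m → g ∈ (Ideal.span (Set.range t)).radical := by
  classical
  have hcov := Proj.iSup_basicOpen_eq_top (𝒜 := 𝒜) (fun i : Σ d : ℕ+, 𝒜 d => (i.2 : A))
    (irrelevant_le_span 𝒜)
  obtain ⟨s, hs⟩ := isCompact_univ.elim_finite_subcover
    (fun i : Σ d : ℕ+, 𝒜 d => ((Proj.basicOpen 𝒜 (i.2 : A) : (Proj 𝒜).Opens) : Set (Proj 𝒜)))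
    (fun i => (Proj.basicOpen 𝒜 (i.2 : A)).2)
    (by
      intro x _
      have : x ∈ (⨆ i : Σ d : ℕ+, 𝒜 d, Proj.basicOpen 𝒜 (i.2 : A)) := by
        rw [hcov]; trivial
      obtain ⟨i, hi⟩ := TopologicalSpace.Opens.mem_iSup.mp this
      exact Set.mem_iUnion.mpr ⟨i, hi⟩)
  refine ⟨↥s, inferInstance, fun i => (i.1.2 : A), fun i => (i.1.1 : ℕ), fun i => i.1.1.pos,
    fun i => i.1.2.2, ?_⟩
  intro g m hm hg
  rw [Ideal.radical_eq_sInf, Ideal.mem_sInf]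
  rintro 𝔭 ⟨hle, h𝔭⟩
  by_contra hg𝔭
  have hq : ((𝔭.homogeneousCore 𝒜).toIdeal).IsPrime := h𝔭.homogeneousCore
  have hgq : g ∉ (𝔭.homogeneousCore 𝒜).toIdeal :=
    fun h => hg𝔭 (Ideal.toIdeal_homogeneousCore_le 𝒜 𝔭 h)
  let x : ProjectiveSpectrum 𝒜 := ⟨𝔭.homogeneousCore 𝒜, hq, fun hirr =>
    hgq (hirr (HomogeneousIdeal.mem_irrelevant_of_mem 𝒜 hm hg))⟩
  have hx := hs (Set.mem_univ (x : Proj 𝒜))
  obtain ⟨i, hi⟩ := Set.mem_iUnion.mp hx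
  obtain ⟨his, hi⟩ := Set.mem_iUnion.mp hi
  have h1 : (i.2 : A) ∉ (𝔭.homogeneousCore 𝒜).toIdeal := hi
  apply h1
  refine Ideal.mem_homogeneousCore_of_homogeneous_of_mem ⟨_, i.2.2⟩ (hle ?_)
  exact Ideal.subset_span ⟨⟨i, his⟩, rfl⟩

end Groth.Agent.Helper4.SN294
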