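import Mathlib
import Groth.Prelude.Def_RelProj2
import Groth.Agent.Helper4.SN292
import Groth.Agent.Helper4.SN293
import Groth.Agent.Helper4.SN294

/-!
# The saturated ideals of a closed subscheme of a relative homogeneous spectrum
-/

set_option autoImplicit false
set_option linter.unusedSectionVars false

namespace Groth.Agent.Helper4.SN295

open CategoryTheory AlgebraicGeometry TopologicalSpace Opposite RelSpec RelProj HomogeneousLocalization
open Groth.Agent.Helper4.SN290 Groth.Agent.Helper4.SN291 Groth.Agent.Helper4.SN292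
  Groth.Agent.Helper4.SN293

universe u

variable {S P : Scheme.{u}} (𝒜 : QCGrAlg S) (p : P ⟶ S)
  (chart : ∀ (U : S.Opens) (hU : IsAffineOpen U),
    (((p ⁻¹ᵁ U : P.Opens) : Scheme.{u}) ≅ Proj (𝒜.deg U hU)))
  (K : P.IdealSheafData)

/-- the standard chart `Spec 𝒜(U)_(g) ⟶ P` -/
noncomputable def stdChart (U : S.Opens) (hU : IsAffineOpen U) (g : 𝒜.presheaf.obj (op U)) (m : ℕ)
    (hm : 0 < m) (hg : g ∈ 𝒜.deg U hU m) :
    Spec (CommRingCat.of (Away (𝒜.deg U hU) g)) ⟶ P :=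
  Proj.awayι (𝒜.deg U hU) g hg hm ≫ emb p chart U hU

instance (U : S.Opens) (hU : IsAffineOpen U) (g : 𝒜.presheaf.obj (op U)) (m : ℕ)
    (hm : 0 < m) (hg : g ∈ 𝒜.deg U hU m) : IsOpenImmersion (stdChart 𝒜 p chart U hU g m hm hg) := by
  unfold stdChart; infer_instance

/-- the ideals of `K` on the standard charts over `U` -/
noncomputable def Jrel (U : S.Opens) (hU : IsAffineOpen U) :
    ∀ (g : 𝒜.presheaf.obj (op U)) (m : ℕ), 0 < m → g ∈ 𝒜.deg U hU m →
      Ideal (Away (𝒜.deg U hU) g) :=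
  fun g m hm hg => idealOf (stdChart 𝒜 p chart U hU g m hm hg) K

theorem compat_Jrel (U : S.Opens) (hU : IsAffineOpen U) :
    Compat (𝒜.deg U hU) (Jrel 𝒜 p chart K U hU) := by
  intro g m hm hg g' m' hg' x hx
  unfold Jrel
  refine idealOf_eq_map K (stdChart 𝒜 p chart U hU g m hm hg) _
    (CommRingCat.ofHom (awayMap (𝒜.deg U hU) hg' hx)) ?_
  unfold stdChart
  rw [← Category.assoc, Proj.SpecMap_awayMap_awayι]

variable {𝒜 p chart}

theorem compatMap_Jrel (hP : IsRelProj 𝒜 p chart) (U : S.Opens) (hU : IsAffineOpen U) (r : Γ(S, U)) :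
    CompatMap (𝒜.res hU (hU.basicOpen r) (S.basicOpen_le r)) (Jrel 𝒜 p chart K U hU)
      (Jrel 𝒜 p chart K (S.basicOpen r) (hU.basicOpen r)) := by
  intro g m hm hg
  unfold Jrel
  refine idealOf_eq_map K (stdChart 𝒜 p chart U hU g m hm hg) _
    (CommRingCat.ofHom (Away.map (𝒜.res hU (hU.basicOpen r) (S.basicOpen_le r)) g)) ?_
  unfold stdChart
  rw [← map_res_emb hP U hU r, ← Category.assoc,
    ← Proj.awayι_comp_map (𝒜.res hU (hU.basicOpen r) (S.basicOpen_le r))
      (𝒜.irrelevant_le_map U hU r) hm g hg, Category.assoc]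


include chart in
variable (𝒜 p chart) in
theorem compactSpace_proj [QuasiCompact p] (U : S.Opens) (hU : IsAffineOpen U) :
    CompactSpace (Proj (𝒜.deg U hU)) := by
  have h1 : IsCompact ((p ⁻¹ᵁ U : P.Opens) : Set P) :=
    QuasiCompact.isCompact_preimage (f := p) _ U.2 hU.isCompact
  have h2 : CompactSpace ((p ⁻¹ᵁ U : P.Opens) : Scheme.{u}) :=
    isCompact_iff_compactSpace.mp h1
  exact (chart U hU).hom.homeomorph.compactSpace

variable (𝒜 p chart) in
/-- the saturated ideal over the affine open `U` -/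
@[reducible] noncomputable def satI (U : S.Opens) (hU : IsAffineOpen U) : Ideal (𝒜.presheaf.obj (op U)) :=
  (sat (𝒜.deg U hU) (Jrel 𝒜 p chart K U hU)).toIdeal

theorem isHomogeneous_satI (U : S.Opens) (hU : IsAffineOpen U) :
    (satI 𝒜 p chart K U hU).IsHomogeneous (𝒜.deg U hU) :=
  (sat (𝒜.deg U hU) (Jrel 𝒜 p chart K U hU)).isHomogeneous

theorem isLocalization_res (U : S.Opens) (hU : IsAffineOpen U) (r : Γ(S, U)) :
    @IsLocalization.Away _ _ ((𝒜.str.app (op U)).hom r) (𝒜.presheaf.obj (op (S.basicOpen r))) _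
      (𝒜.res hU (hU.basicOpen r) (S.basicOpen_le r)).toRingHom.toAlgebra :=
  𝒜.isQC U hU r

theorem res_mem_satI [QuasiCompact p] (hP : IsRelProj 𝒜 p chart) (U : S.Opens)
    (hU : IsAffineOpen U) (r : Γ(S, U)) {a : 𝒜.presheaf.obj (op U)}
    (ha : a ∈ satI 𝒜 p chart K U hU) :
    (𝒜.presheaf.map (homOfLE (S.basicOpen_le r)).op).hom a ∈
      satI 𝒜 p chart K (S.basicOpen r) (hU.basicOpen r) := by
  haveI := compactSpace_proj 𝒜 p chart U hU
  obtain ⟨ι, _, t, d, hd, ht, hcov⟩ := Groth.Agent.Helper4.SN294.exists_finite_cover (𝒜.deg U hU)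
  exact map_mem_sat (ψ := 𝒜.res hU (hU.basicOpen r) (S.basicOpen_le r)) t d hd ht hcov
    ((𝒜.str.app (op U)).hom r) (𝒜.str_mem U hU r) (isLocalization_res U hU r)
    (compat_Jrel 𝒜 p chart K _ _) (compatMap_Jrel K hP U hU r) ha

theorem exists_pow_mul_mem_satI [QuasiCompact p] (hP : IsRelProj 𝒜 p chart) (U : S.Opens)
    (hU : IsAffineOpen U) (r : Γ(S, U)) {a : 𝒜.presheaf.obj (op U)}
    (ha : (𝒜.presheaf.map (homOfLE (S.basicOpen_le r)).op).hom a ∈
      satI 𝒜 p chart K (S.basicOpen r) (hU.basicOpen r)) :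
    ∃ n : ℕ, (𝒜.str.app (op U)).hom r ^ n * a ∈ satI 𝒜 p chart K U hU := by
  haveI := compactSpace_proj 𝒜 p chart U hU
  obtain ⟨ι, _, t, d, hd, ht, hcov⟩ := Groth.Agent.Helper4.SN294.exists_finite_cover (𝒜.deg U hU)
  exact exists_pow_mul_mem_sat_of_map (ψ := 𝒜.res hU (hU.basicOpen r) (S.basicOpen_le r)) t d hd ht
    hcov ((𝒜.str.app (op U)).hom r) (𝒜.str_mem U hU r) (isLocalization_res U hU r)
    (compat_Jrel 𝒜 p chart K _ _) (compatMap_Jrel K hP U hU r) ha

end Groth.Agent.Helper4.SN295
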