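import Mathlib
import Groth.Agent.Helper1.AQ2
import Groth.Agent.Helper1.QH4
import Groth.Agent.Helper1.SG2
import Groth.Agent.Helper4.SN295

/-!
# The graded quotient algebra of a closed subscheme of a relative homogeneous spectrum
-/

set_option autoImplicit false
set_option linter.unusedSectionVars false

namespace Groth.Agent.Helper4.SN296

open CategoryTheory AlgebraicGeometry TopologicalSpace Opposite RelSpec RelProj HomogeneousLocalization
open Groth.Agent.Helper4.SN290 Groth.Agent.Helper4.SN291 Groth.Agent.Helper4.SN292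
  Groth.Agent.Helper4.SN293 Groth.Agent.Helper4.SN295 Groth.Agent.Helper1.AQ Groth.Agent.Helper1.QH

universe u

noncomputable section

variable {S P : Scheme.{u}} {𝒜 : QCGrAlg S} {p : P ⟶ S}
  {chart : ∀ (U : S.Opens) (hU : IsAffineOpen U),
    (((p ⁻¹ᵁ U : P.Opens) : Scheme.{u}) ≅ Proj (𝒜.deg U hU))}
  (hP : IsRelProj 𝒜 p chart) [QuasiCompact p] (K : P.IdealSheafData)

include hP in
theorem satI_le_comap (U V : S.AffineZariskiSite) (i : V ≤ U) :
    satI 𝒜 p chart K U.1 U.2 ≤ (satI 𝒜 p chart K V.1 V.2).comap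
      (𝒜.presheaf.map (homOfLE (Scheme.AffineZariskiSite.toOpens_mono i)).op).hom := by
  obtain ⟨r, hr⟩ := i
  obtain rfl : U.basicOpen r = V := Subtype.ext hr
  intro a ha
  exact res_mem_satI K hP U.1 U.2 r ha

/-- the quotient rings on the affine site -/
def qF : S.AffineZariskiSiteᵒᵖ ⥤ CommRingCat.{u} where
  obj U := CommRingCat.of (𝒜.presheaf.obj (op U.unop.1) ⧸ satI 𝒜 p chart K U.unop.1 U.unop.2)
  map {U V} i := CommRingCat.ofHom (Ideal.quotientMap (satI 𝒜 p chart K V.unop.1 V.unop.2)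
    (𝒜.presheaf.map (homOfLE (Scheme.AffineZariskiSite.toOpens_mono i.unop.le)).op).hom
    (satI_le_comap hP K U.unop V.unop i.unop.le))
  map_id U := by
    ext a
    change Ideal.Quotient.mk (satI 𝒜 p chart K U.unop.1 U.unop.2)
      ((𝒜.presheaf.map (homOfLE (Scheme.AffineZariskiSite.toOpens_mono
        (𝟙 U : U ⟶ U).unop.le)).op).hom a) = Ideal.Quotient.mk _ a
    congr 1
    have : (homOfLE (Scheme.AffineZariskiSite.toOpens_mono (𝟙 U : U ⟶ U).unop.le)).op =
      𝟙 (op U.unop.1) := rfl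
    rw [this, 𝒜.presheaf.map_id]
    rfl
  map_comp {U V W} i k := by
    ext a
    change Ideal.Quotient.mk (satI 𝒜 p chart K W.unop.1 W.unop.2)
      ((𝒜.presheaf.map (homOfLE (Scheme.AffineZariskiSite.toOpens_mono
        (i ≫ k).unop.le)).op).hom a) =
      Ideal.Quotient.mk (satI 𝒜 p chart K W.unop.1 W.unop.2)
      ((𝒜.presheaf.map (homOfLE (Scheme.AffineZariskiSite.toOpens_mono k.unop.le)).op).hom
        ((𝒜.presheaf.map (homOfLE (Scheme.AffineZariskiSite.toOpens_mono i.unop.le)).op).hom a))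
    congr 1
    have : (homOfLE (Scheme.AffineZariskiSite.toOpens_mono (i ≫ k).unop.le)).op =
      (homOfLE (Scheme.AffineZariskiSite.toOpens_mono i.unop.le)).op ≫
        (homOfLE (Scheme.AffineZariskiSite.toOpens_mono k.unop.le)).op := rfl
    rw [this, 𝒜.presheaf.map_comp]
    rfl

/-- the structure map of the quotient rings -/
def qα : (Scheme.AffineZariskiSite.toOpensFunctor S).op ⋙ S.presheaf ⟶ qF hP K where
  app U := 𝒜.str.app (op U.unop.1) ≫
    CommRingCat.ofHom (Ideal.Quotient.mk (satI 𝒜 p chart K U.unop.1 U.unop.2))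
  naturality {U V} i := by
    ext c
    change Ideal.Quotient.mk (satI 𝒜 p chart K V.unop.1 V.unop.2)
      ((𝒜.str.app (op V.unop.1)).hom ((S.presheaf.map
        (homOfLE (Scheme.AffineZariskiSite.toOpens_mono i.unop.le)).op).hom c)) =
      Ideal.Quotient.mk (satI 𝒜 p chart K V.unop.1 V.unop.2)
      ((𝒜.presheaf.map (homOfLE (Scheme.AffineZariskiSite.toOpens_mono i.unop.le)).op).hom
        ((𝒜.str.app (op U.unop.1)).hom c))
    congr 1
    exact congrArg (fun k => k.hom c)
      (𝒜.str.naturality (homOfLE (Scheme.AffineZariskiSite.toOpens_mono i.unop.le)).op)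

theorem qα_coequifibered : (qα hP K).Coequifibered := by
  rw [Scheme.AffineZariskiSite.coequifibered_iff_forall_isLocalizationAway]
  intro U f
  exact isLocalization_quotientMap
    (𝒜.presheaf.map (homOfLE (S.basicOpen_le f)).op).hom
    (satI 𝒜 p chart K U.1 U.2) (satI 𝒜 p chart K (S.basicOpen f) (U.2.basicOpen f))
    ((𝒜.str.app (op U.1)).hom f) (𝒜.isQC U.1 U.2 f)
    (satI_le_comap hP K U (U.basicOpen f) (U.basicOpen_le f))
    (fun a ha => exists_pow_mul_mem_satI K hP U.1 U.2 f ha)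

/-- the quotient algebra -/
def qAlg : QCAlg S := Groth.Agent.Helper1.AQ.alg (qα_coequifibered hP K)

variable (U : S.Opens) (hU : IsAffineOpen U)

/-- sections of the quotient algebra over an affine open -/
def qSec : 𝒜.presheaf.obj (op U) ⧸ satI 𝒜 p chart K U hU →+* (qAlg hP K).presheaf.obj (op U) :=
  (inv (gammaAff (qα_coequifibered hP K) U hU)).hom

/-- sections of the quotient algebra over an affine open, inverse direction -/
def qSecInv : (qAlg hP K).presheaf.obj (op U) →+* 𝒜.presheaf.obj (op U) ⧸ satI 𝒜 p chart K U hU :=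
  (gammaAff (qα_coequifibered hP K) U hU).hom

theorem qSecInv_qSec (x : 𝒜.presheaf.obj (op U) ⧸ satI 𝒜 p chart K U hU) :
    qSecInv hP K U hU (qSec hP K U hU x) = x := by
  have := congrArg (fun k => k.hom x)
    (IsIso.inv_hom_id (gammaAff (qα_coequifibered hP K) U hU))
  exact this

theorem qSec_qSecInv (y : (qAlg hP K).presheaf.obj (op U)) :
    qSec hP K U hU (qSecInv hP K U hU y) = y := by
  have := congrArg (fun k => k.hom y)
    (IsIso.hom_inv_id (gammaAff (qα_coequifibered hP K) U hU))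
  exact this

/-- the section isomorphism -/
def qSecEquiv : (𝒜.presheaf.obj (op U) ⧸ satI 𝒜 p chart K U hU) ≃+* (qAlg hP K).presheaf.obj (op U) :=
  RingEquiv.ofRingHom (qSec hP K U hU) (qSecInv hP K U hU)
    (RingHom.ext (qSec_qSecInv hP K U hU)) (RingHom.ext (qSecInv_qSec hP K U hU))

theorem qSecInv_str (c : Γ(S, U)) :
    qSecInv hP K U hU (((qAlg hP K).str.app (op U)).hom c) =
      Ideal.Quotient.mk _ ((𝒜.str.app (op U)).hom c) := by
  have := congrArg (fun k => k.hom c) (π_app_gammaAff (qα_coequifibered hP K) U hU)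
  exact this

theorem qSecInv_res (r : Γ(S, U)) (y : (qAlg hP K).presheaf.obj (op U)) :
    qSecInv hP K (S.basicOpen r) (hU.basicOpen r)
        (((qAlg hP K).presheaf.map (homOfLE (S.basicOpen_le r)).op).hom y) =
      Ideal.quotientMap (satI 𝒜 p chart K (S.basicOpen r) (hU.basicOpen r))
        (𝒜.presheaf.map (homOfLE (S.basicOpen_le r)).op).hom
        (satI_le_comap hP K (aff U hU) ((aff U hU).basicOpen r) ((aff U hU).basicOpen_le r))
        (qSecInv hP K U hU y) := by
  have := congrArg (fun k => k.hom y) (gammaAff_naturality (qα_coequifibered hP K)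
    (homOfLE ((aff U hU).basicOpen_le r)))
  exact this

theorem qSec_res (r : Γ(S, U)) (a : 𝒜.presheaf.obj (op U)) :
    ((qAlg hP K).presheaf.map (homOfLE (S.basicOpen_le r)).op).hom
        (qSec hP K U hU (Ideal.Quotient.mk _ a)) =
      qSec hP K (S.basicOpen r) (hU.basicOpen r)
        (Ideal.Quotient.mk _ ((𝒜.presheaf.map (homOfLE (S.basicOpen_le r)).op).hom a)) := by
  have h := qSecInv_res hP K U hU r (qSec hP K U hU (Ideal.Quotient.mk _ a))
  rw [qSecInv_qSec, Ideal.quotientMap_mk] at h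
  rw [← h, qSec_qSecInv]

/-- the quotient homomorphism, on affine opens -/
def qHomAff : AffHomB 𝒜.toQCAlg (qAlg hP K) where
  app U hU := CommRingCat.ofHom ((qSec hP K U hU).comp (Ideal.Quotient.mk _))
  naturality U hU r := by
    ext a
    exact (qSec_res hP K U hU r a).symm
  str U hU := by
    ext c
    change qSec hP K U hU (Ideal.Quotient.mk _ ((𝒜.str.app (op U)).hom c)) =
      ((qAlg hP K).str.app (op U)).hom c
    rw [← qSecInv_str, qSec_qSecInv]

/-- the quotient homomorphism -/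
def qHom : 𝒜.toQCAlg ⟶ qAlg hP K := (qHomAff hP K).toHom

theorem qHom_app (a : 𝒜.presheaf.obj (op U)) :
    ((qHom hP K).hom.app (op U)).hom a = qSec hP K U hU (Ideal.Quotient.mk _ a) := by
  rw [qHom, AffHomB.toHom_app _ U hU]
  rfl

include hU in
theorem qHom_surjective : Function.Surjective ((qHom hP K).hom.app (op U)).hom := by
  intro y
  obtain ⟨a, ha⟩ := Ideal.Quotient.mk_surjective (qSecInv hP K U hU y)
  refine ⟨a, ?_⟩
  rw [qHom_app hP K U hU, ha, qSec_qSecInv]

theorem qHom_eq_zero_iff (a : 𝒜.presheaf.obj (op U)) :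
    ((qHom hP K).hom.app (op U)).hom a = 0 ↔ a ∈ satI 𝒜 p chart K U hU := by
  rw [qHom_app hP K U hU, ← Ideal.Quotient.eq_zero_iff_mem]
  constructor
  · intro h
    have := congrArg (qSecInv hP K U hU) h
    rwa [qSecInv_qSec, map_zero] at this
  · intro h
    rw [h, map_zero]

/-- the grading of the quotient algebra -/
def qDeg (d : ℕ) : AddSubgroup ((qAlg hP K).presheaf.obj (op U)) :=
  Groth.Agent.Helper1.SG.mapDeg
    (quotDeg (𝒜.deg U hU) (sat (𝒜.deg U hU) (Jrel 𝒜 p chart K U hU))) (qSecEquiv hP K U hU) d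

theorem mem_qDeg_iff {d : ℕ} {x : (qAlg hP K).presheaf.obj (op U)} :
    x ∈ qDeg hP K U hU d ↔ ∃ a ∈ 𝒜.deg U hU d, ((qHom hP K).hom.app (op U)).hom a = x := by
  constructor
  · intro hx
    obtain ⟨a, ha, h⟩ := exists_of_mem_quotDeg _ _
      ((Groth.Agent.Helper1.SG.mem_mapDeg _ _).mp hx)
    refine ⟨a, ha, ?_⟩
    rw [qHom_app hP K U hU, h]
    exact (qSecEquiv hP K U hU).apply_symm_apply x
  · rintro ⟨a, ha, rfl⟩
    rw [qHom_app hP K U hU]
    exact Groth.Agent.Helper1.SG.apply_mem_mapDeg _ (qSecEquiv hP K U hU)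
      (mk_mem_quotDeg _ _ ha)

/-- the graded quotient algebra -/
def qGrAlg : QCGrAlg S where
  toQCAlg := qAlg hP K
  deg U hU d := qDeg hP K U hU d
  graded U hU := Groth.Agent.Helper1.SG.gradedRing_mapDeg _ _
  map_mem := by
    intro U V hU hV i d x hx
    obtain ⟨a, ha, rfl⟩ := (mem_qDeg_iff hP K U hU).mp hx
    refine (mem_qDeg_iff hP K V hV).mpr
      ⟨(𝒜.presheaf.map (homOfLE i).op).hom a, 𝒜.map_mem hU hV i ha, ?_⟩
    exact congrArg (fun k => k.hom a) ((qHom hP K).hom.naturality (homOfLE i).op)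
  str_mem := by
    intro U hU r
    refine (mem_qDeg_iff hP K U hU).mpr ⟨(𝒜.str.app (op U)).hom r, 𝒜.str_mem U hU r, ?_⟩
    have := congrArg (fun k => k.app (op U)) (qHom hP K).comm
    exact congrArg (fun k => k.hom r) this

theorem isGradedHom_qHom : IsGradedHom (𝒜 := 𝒜) (ℬ := qGrAlg hP K) (qHom hP K) :=
  fun U hU _ x hx => (mem_qDeg_iff hP K U hU).mpr ⟨x, hx, rfl⟩

end

end Groth.Agent.Helper4.SN296
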