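import Mathlib
import Groth.Agent.Helper1.RP16
import Groth.Agent.Helper1.RP15
import Groth.Agent.Helper1.RP23
import Groth.Agent.Helper4.SN296
import Groth.Agent.S8258
import Groth.Agent.S12165

/-!
# A closed subscheme of a quasi-compact relative Proj is the Proj of a graded quotient
-/

set_option autoImplicit false
set_option linter.unusedSectionVars false

namespace Groth.Agent.Helper4.SN297

open CategoryTheory AlgebraicGeometry TopologicalSpace Opposite RelSpec RelProj HomogeneousLocalization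
open Groth.Agent.Helper4.SN290 Groth.Agent.Helper4.SN291 Groth.Agent.Helper4.SN292
  Groth.Agent.Helper4.SN293 Groth.Agent.Helper4.SN295 Groth.Agent.Helper4.SN296
  Groth.Agent.Helper1.RP

universe u

variable {S P Z : Scheme.{u}} {𝒜 : QCGrAlg S} {p : P ⟶ S}
  {chart : ∀ (U : S.Opens) (hU : IsAffineOpen U),
    (((p ⁻¹ᵁ U : P.Opens) : Scheme.{u}) ≅ Proj (𝒜.deg U hU))}

/-- the index type of the standard charts of `P` -/
structure CIdx (𝒜 : QCGrAlg S) where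
  U : S.Opens
  hU : IsAffineOpen U
  d : ℕ
  hd : 0 < d
  f : 𝒜.presheaf.obj (op U)
  hf : f ∈ 𝒜.deg U hU d

section abstract

variable (hP : IsRelProj 𝒜 p chart) [QuasiCompact p] (i : Z ⟶ P) [IsClosedImmersion i]
  {ℬ : QCGrAlg S} (φ : 𝒜.toQCAlg ⟶ ℬ.toQCAlg) (hφ : IsGradedHom φ)
  (hdeg : ∀ (U : S.Opens) (hU : IsAffineOpen U) (d : ℕ), ∀ y ∈ ℬ.deg U hU d,
    ∃ x ∈ 𝒜.deg U hU d, (φ.hom.app (op U)).hom x = y)
  (hkerφ : ∀ (U : S.Opens) (hU : IsAffineOpen U) (x : 𝒜.presheaf.obj (op U)),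
    (φ.hom.app (op U)).hom x = 0 ↔ x ∈ satI 𝒜 p chart i.ker U hU)
  {PB : Scheme.{u}} {pB : PB ⟶ S} {chartB : ∀ (U : S.Opens) (hU : IsAffineOpen U),
    (((pB ⁻¹ᵁ U : PB.Opens) : Scheme.{u}) ≅ Proj (ℬ.deg U hU))} (hB : IsRelProj ℬ pB chartB)

include hdeg in
theorem hdom_of (U : S.Opens) (hU : IsAffineOpen U) :
    RelCone.domOpen (ψU φ hφ U hU) = ⊤ :=
  domOpen_eq_top_of_TN (ψU φ hφ U hU) 0 fun k _ y hy => by
    obtain ⟨x, hx, hxy⟩ := hdeg U hU k y hy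
    exact ⟨x, hx, (ψU_apply φ hφ U hU x).trans hxy⟩

include hP hB hdeg in
theorem exists_projQMap : ∃ h : PB ⟶ P, IsProjQMap (QGrHom.ofHom φ hφ) p chart pB chartB h := by
  have htop : RelProj.domQ (QGrHom.ofHom φ hφ) pB chartB = ⊤ :=
    domQ_eq_top_of_domOpen (hdom_of φ hφ hdeg)
  obtain ⟨r, hr, -⟩ := existsUnique_projQMapOn (u := QGrHom.ofHom φ hφ) hP hB
  have hι : (PB.isoOfEq htop ≪≫ PB.topIso).inv ≫
      (RelProj.domQ (QGrHom.ofHom φ hφ) pB chartB).ι = 𝟙 PB := by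
    rw [Iso.trans_inv, Category.assoc, Scheme.isoOfEq_inv_ι, ← Scheme.topIso_hom,
      Iso.inv_hom_id]
  refine ⟨(PB.isoOfEq htop ≪≫ PB.topIso).inv ≫ r, htop, ?_⟩
  intro U hU U' hU' hle d hd f hf
  rw [← liftEmb_r hr U hU U' hU' hle hd f hf, ← Category.assoc]
  congr 1
  rw [← cancel_mono (RelProj.domQ (QGrHom.ofHom φ hφ) pB chartB).ι, liftEmb_ι,
    Category.assoc, hι, Category.comp_id]

include hP hB hdeg hkerφ in
theorem idealOf_ker_projQMap {h : PB ⟶ P} [QuasiCompact h]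
    (hh : IsProjQMap (QGrHom.ofHom φ hφ) p chart pB chartB h)
    (U : S.Opens) (hU : IsAffineOpen U) (d : ℕ) (hd : 0 < d) (f : 𝒜.presheaf.obj (op U))
    (hf : f ∈ 𝒜.deg U hU d) :
    idealOf (stdChart 𝒜 p chart U hU f d hd hf) h.ker =
      idealOf (stdChart 𝒜 p chart U hU f d hd hf) i.ker := by
  have h1 : idealOf (stdChart 𝒜 p chart U hU f d hd hf) h.ker =
      RingHom.ker (CommRingCat.ofHom (Away.map (ψU φ hφ U hU) f)).hom :=
    idealOf_ker h (stdChart 𝒜 p chart U hU f d hd hf)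
      (chartAt φ hφ pB chartB U hU hd f hf) _
      (hh.2 U hU U hU le_rfl d hd f hf)
      (projQMap_preimage hP hB (hdom_of φ hφ hdeg) h hh U hU hd f hf)
  rw [h1]
  haveI := compactSpace_proj 𝒜 p chart U hU
  obtain ⟨ι, _, t, dd, hdd, ht, hcov⟩ :=
    Groth.Agent.Helper4.SN294.exists_finite_cover (𝒜.deg U hU)
  exact ker_map_of_ker_eq_sat t dd hdd ht hcov (ψU φ hφ U hU)
    (fun x => by
      rw [ψU_apply]
      exact hkerφ U hU x)
    (compat_Jrel 𝒜 p chart i.ker U hU) hd hf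

include hP hB hdeg hkerφ in
theorem ker_projQMap {h : PB ⟶ P} [QuasiCompact h]
    (hh : IsProjQMap (QGrHom.ofHom φ hφ) p chart pB chartB h) : h.ker = i.ker := by
  refine Scheme.IdealSheafData.ext_of_iSup_eq_top
    (fun c : CIdx 𝒜 => ⟨(stdChart 𝒜 p chart c.U c.hU c.f c.d c.hd c.hf).opensRange,
      isAffineOpen_opensRange _⟩) ?_ ?_
  · rw [_root_.eq_top_iff]
    intro x _
    obtain ⟨U, hU, d, hd, f, hf, y, hy⟩ := exists_chart_PA (pA := p) (chartA := chart) x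
    exact Opens.mem_iSup.mpr ⟨⟨U, hU, d, hd, f, hf⟩, y, hy⟩
  · rintro ⟨U, hU, d, hd, f, hf⟩
    exact ideal_eq_of_idealOf_eq _ _ _
      (idealOf_ker_projQMap hP i φ hφ hdeg hkerφ hB hh U hU d hd f hf)

include hP hdeg hkerφ in
theorem main_of :
    ∃ (PB : Scheme.{u})
      (pB : PB ⟶ S) (chartB : ∀ (U : S.Opens) (hU : IsAffineOpen U),
        (((pB ⁻¹ᵁ U : PB.Opens) : Scheme.{u}) ≅ Proj (ℬ.deg U hU)))
      (h : PB ⟶ P) (e : PB ≅ Z),
        IsRelProj ℬ pB chartB ∧ IsProjQMap (QGrHom.ofHom φ hφ) p chart pB chartB h ∧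
        e.hom ≫ i = h := by
  obtain ⟨PB, pB, chartB, hB⟩ := Groth.Agent.S8258.result ℬ
  obtain ⟨h, hh⟩ := exists_projQMap hP φ hφ hdeg hB
  haveI : IsClosedImmersion h :=
    (Groth.Agent.S12165.result 𝒜 ℬ φ hφ ⟨0, fun k _ U hU y hy => hdeg U hU k y hy⟩
      p chart hP pB chartB hB).2 h hh
  have hker : h.ker = i.ker := ker_projQMap hP i φ hφ hdeg hkerφ hB hh
  haveI : IsIso (IsClosedImmersion.lift i h hker.symm.le) :=
    IsClosedImmersion.isIso_lift i h hker.symm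
  exact ⟨PB, pB, chartB, h, asIso (IsClosedImmersion.lift i h hker.symm.le), hB, hh,
    IsClosedImmersion.lift_fac i h _⟩

end abstract

theorem main (hP : IsRelProj 𝒜 p chart) [QuasiCompact p] (i : Z ⟶ P) [IsClosedImmersion i] :
    ∃ (ℬ : QCGrAlg S) (φ : 𝒜.toQCAlg ⟶ ℬ.toQCAlg) (hφ : IsGradedHom φ) (PB : Scheme.{u})
      (pB : PB ⟶ S) (chartB : ∀ (U : S.Opens) (hU : IsAffineOpen U),
        (((pB ⁻¹ᵁ U : PB.Opens) : Scheme.{u}) ≅ Proj (ℬ.deg U hU)))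
      (h : PB ⟶ P) (e : PB ≅ Z),
      (∀ (U : S.Opens) (hU : IsAffineOpen U) (d : ℕ), ∀ y ∈ ℬ.deg U hU d,
        ∃ x ∈ 𝒜.deg U hU d, (φ.hom.app (op U)).hom x = y) ∧
      (∀ (U : S.Opens), IsAffineOpen U → Function.Surjective (φ.hom.app (op U)).hom) ∧
        IsRelProj ℬ pB chartB ∧ IsProjQMap (QGrHom.ofHom φ hφ) p chart pB chartB h ∧
        e.hom ≫ i = h := by
  have hdeg : ∀ (U : S.Opens) (hU : IsAffineOpen U) (d : ℕ), ∀ y ∈ (qGrAlg hP i.ker).deg U hU d,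
      ∃ x ∈ 𝒜.deg U hU d, ((qHom hP i.ker).hom.app (op U)).hom x = y :=
    fun U hU d y hy => (mem_qDeg_iff hP i.ker U hU).mp hy
  obtain ⟨PB, pB, chartB, h, e, hB, hh, he⟩ := main_of (ℬ := qGrAlg hP i.ker) hP i
    (qHom hP i.ker) (isGradedHom_qHom hP i.ker) hdeg
    (fun U hU x => qHom_eq_zero_iff hP i.ker U hU x)
  exact ⟨qGrAlg hP i.ker, qHom hP i.ker, isGradedHom_qHom hP i.ker, PB, pB, chartB, h, e, hdeg,
    fun U hU => qHom_surjective hP i.ker U hU, hB, hh, he⟩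

end Groth.Agent.Helper4.SN297
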