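import Mathlib
import Groth.Prelude.Def_RelProj4
import Groth.Agent.Helper4.SN323
import Groth.Agent.Helper4.SN298
import Groth.Agent.Helper4.QcohGlue
import Groth.Agent.Helper4.QAffSec
import Groth.Agent.Helper1.RPP3
import Groth.Agent.Helper1.SG6
import Groth.Agent.Helper1.RP10
import Groth.Agent.S5729

/-!
# The canonical graded morphism `Sym(q_* L) → q_* Sym(L)`; a proper morphism with a very ample
sheaf whose direct image is of finite type is projective
-/

set_option autoImplicit false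
set_option linter.unusedSectionVars false
set_option linter.style.haveILetI false

namespace Groth.Agent.Helper4.SN324

open CategoryTheory CategoryTheory.Limits AlgebraicGeometry TopologicalSpace Opposite RelSpec RelProj
open Groth.Agent.Helper1 Groth.Agent.Helper1.RP Groth.Agent.Lead.BCMap
open scoped HomogeneousIdeal

universe u

noncomputable section

section canonical

variable {X Y : Scheme.{u}} (q : X ⟶ Y) (L : X.Modules) [L.IsQuasicoherent]
  [((Scheme.Modules.pushforward q).obj L).IsQuasicoherent]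
  {𝒜 : QCGrAlg Y} {jE : (Scheme.Modules.pushforward q).obj L ⟶ 𝒜.toModule}
  (h𝒜 : IsGrSymAlg ((Scheme.Modules.pushforward q).obj L) 𝒜 jE)
  {𝒮L : QCGrAlg X} {jL : L ⟶ 𝒮L.toModule} (hjL : IsGrSymAlg L 𝒮L jL)

/-- the canonical `σ : q^* q_* L ⟶ L` -/
abbrev σ : (Scheme.Modules.pullback q).obj ((Scheme.Modules.pushforward q).obj L) ⟶ L :=
  (Scheme.Modules.pullbackPushforwardAdjunction q).counit.app L

/-- the canonical graded `q`-morphism `Sym(q_* L) → q_* Sym(L)` -/
def uσ : QGrHom q 𝒜 𝒮L :=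
  Groth.Agent.Helper4.SN311.uS q ((Scheme.Modules.pushforward q).obj L) h𝒜 hjL (σ q L)

theorem uσ_j_affine (U : Y.Opens) (hU : IsAffineOpen U)
    (x : Γ((Scheme.Modules.pushforward q).obj L, U)) :
    ((uσ q L h𝒜 hjL).app U).hom ((jE.app U) x) = (jL.app (q ⁻¹ᵁ U)) x := by
  have h1 := Groth.Agent.Helper4.SN284.cmp_j_apply q ((Scheme.Modules.pushforward q).obj L) h𝒜.1
    𝒮L.toQCAlg (σ q L ≫ jL) U hU x
  refine h1.trans ?_
  have h2 : (σ q L).app (q ⁻¹ᵁ U)
      (((Scheme.Modules.pullbackPushforwardAdjunction q).unit.app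
        ((Scheme.Modules.pushforward q).obj L)).app U x) = x := by
    have h3 := (Scheme.Modules.pullbackPushforwardAdjunction q).right_triangle_components L
    exact congrArg (fun k => k.app U x) h3
  exact congrArg (jL.app (q ⁻¹ᵁ U)) h2

theorem uσ_j (U : Y.Opens) (x : Γ((Scheme.Modules.pushforward q).obj L, U)) :
    ((uσ q L h𝒜 hjL).app U).hom ((jE.app U) x) = (jL.app (q ⁻¹ᵁ U)) x := by
  let ι := {V : Y.affineOpens // (V : Y.Opens) ≤ U}
  refine TopCat.Sheaf.eq_of_locally_eq'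
    (⟨𝒮L.toModule.presheaf, 𝒮L.toModule.isSheaf⟩ : TopCat.Sheaf Ab X)
    (fun V : ι => q ⁻¹ᵁ (V.1 : Y.Opens)) (q ⁻¹ᵁ U) (fun V => homOfLE (q.preimage_mono V.2)) ?_
    (show Γ(𝒮L.toModule, q ⁻¹ᵁ U) from ((uσ q L h𝒜 hjL).app U).hom ((jE.app U) x))
    ((jL.app (q ⁻¹ᵁ U)) x) ?_
  · intro y hy
    obtain ⟨_, ⟨V, hV : IsAffineOpen V, rfl⟩, hyV, hVU⟩ :=
      Y.isBasis_affineOpens.exists_subset_of_mem_open (show q y ∈ U from hy) U.2
    exact Opens.mem_iSup.mpr ⟨⟨⟨V, hV⟩, hVU⟩, hyV⟩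
  · rintro ⟨⟨V, hV⟩, hVU⟩
    have h1 := congrArg (fun k => k.hom ((jE.app U) x)) ((uσ q L h𝒜 hjL).naturality hVU)
    have h2 := Groth.Agent.Helper4.StalkExact.app_res jE (homOfLE hVU) x
    have h3 := uσ_j_affine q L h𝒜 hjL V hV
      (((Scheme.Modules.pushforward q).obj L).presheaf.map (homOfLE hVU).op x)
    have h4 := Groth.Agent.Helper4.StalkExact.app_res jL (homOfLE (q.preimage_mono hVU)) x
    refine Eq.trans ?_ (h3.trans h4)
    refine Eq.trans h1 ?_
    exact congrArg ((uσ q L h𝒜 hjL).app V).hom h2.symm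

end canonical

section proper

variable {X Y : Scheme.{u}}

/-- **a proper morphism carrying a very ample sheaf with direct image of finite type is
projective** -/
theorem isProjective_of_isProper (f : X ⟶ Y) [IsProper f]
    (L : X.Modules) (hL : PicF.IsInvertible L) (hva : IsRelVeryAmple f L)
    (hft : CohB1.IsFT ((Scheme.Modules.pushforward f).obj L)) : IsProjective f := by
  haveI : L.IsQuasicoherent := Groth.Agent.Helper4.QAffSec.isQuasicoherent_of_isInvertible L hL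
  haveI : ((Scheme.Modules.pushforward f).obj L).IsQuasicoherent :=
    Groth.Agent.Helper4.QcohGlue.isQuasicoherent_pushforward f L
  obtain ⟨𝒮L, jL, hjL⟩ : ∃ (𝒮L : QCGrAlg X) (jL : L ⟶ 𝒮L.toModule), IsGrSymAlg L 𝒮L jL :=
    ⟨_, _, SG.isGrSymAlg_grAlg (SY.isSymAlg_symAlg L)⟩
  obtain ⟨PL, pL, chartL, hPL⟩ := RP.exists_isRelProj 𝒮L
  obtain ⟨𝒜, jE, h𝒜⟩ : ∃ (𝒜 : QCGrAlg Y)
      (jE : (Scheme.Modules.pushforward f).obj L ⟶ 𝒜.toModule),
      IsGrSymAlg ((Scheme.Modules.pushforward f).obj L) 𝒜 jE :=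
    ⟨_, _, SG.isGrSymAlg_grAlg (SY.isSymAlg_symAlg _)⟩
  obtain ⟨P, p, chart, hP⟩ := RP.exists_isRelProj 𝒜
  haveI : IsIso pL := Groth.Agent.Helper1.PL.isIso_relProj_of_isInvertible hL hjL pL chartL hPL
  set u := uσ f L h𝒜 hjL with hu
  obtain ⟨r, hr, -⟩ := existsUnique_projQMapOn (u := u) hP hPL
  obtain ⟨hdom, himm⟩ := Groth.Agent.Helper4.SN323.main f L hL hjL hPL h𝒜 u
    (uσ_j f L h𝒜 hjL) hP r hr hva
  haveI := himm
  set i : X ⟶ P := inv pL ≫ (PL.isoOfEq hdom ≪≫ PL.topIso).inv ≫ r with hi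
  have hι : (PL.isoOfEq hdom ≪≫ PL.topIso).inv ≫ (RelProj.domQ u pL chartL).ι = 𝟙 PL := by
    rw [Iso.trans_inv, Category.assoc, Scheme.isoOfEq_inv_ι, ← Scheme.topIso_hom,
      Iso.inv_hom_id]
  have hip : i ≫ p = f := by
    rw [hi, Category.assoc, Category.assoc, projQMapOn_comm hP hPL hr, ← Category.assoc _ _ (pL ≫ f),
      hι, Category.id_comp, IsIso.inv_hom_id_assoc]
  haveI : IsImmersion i := by
    rw [hi]
    infer_instance
  haveI : IsProper p := RPP.isProper_of_isRelProj 𝒜 (SG.isGenDegOne h𝒜)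
    (Groth.Agent.Helper4.SN298.isFTDeg_one_of_isFT hft h𝒜) p chart hP
  haveI : IsProper (i ≫ p) := by
    rw [hip]
    infer_instance
  haveI : IsProper i := IsProper.of_comp i p
  haveI : IsClosedImmersion i :=
    IsClosedImmersion.of_isPreimmersion i (i.isClosedMap.isClosed_range)
  exact (Groth.Agent.S5729.result f).mpr ⟨_, 𝒜, jE, P, p, chart, i, inferInstance, hft, h𝒜, hP,
    inferInstance, hip⟩

end proper

end

end Groth.Agent.Helper4.SN324
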