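import Mathlib
import Groth.Prelude.Def_RelProj4
import Groth.Agent.Helper1.IM13

/-!
# Finite lifting data for the immersion `r_{L,ψ}`: it stays an everywhere defined immersion for
every graded algebra mapping to the given one through which finitely many sections lift
-/

set_option autoImplicit false
set_option linter.unusedSectionVars false
set_option linter.style.haveILetI false

namespace Groth.Agent.Helper4.SN325

open CategoryTheory CategoryTheory.Limits AlgebraicGeometry TopologicalSpace Opposite RelSpec RelProj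
open Groth.Agent.Helper1 Groth.Agent.Helper1.RP
open scoped HomogeneousIdeal

universe u

noncomputable section

variable {X Y : Scheme.{u}} {q : X ⟶ Y} {𝒮 : QCGrAlg Y} {𝒮L : QCGrAlg X}
  (u : QGrHom q 𝒮 𝒮L)
  {P : Scheme.{u}} {p : P ⟶ Y}
  {chart : ∀ (U : Y.Opens) (hU : IsAffineOpen U),
    (((p ⁻¹ᵁ U : P.Opens) : Scheme.{u}) ≅ Proj (𝒮.deg U hU))}
  {PL : Scheme.{u}} {pL : PL ⟶ X}
  {chartL : ∀ (U : X.Opens) (hU : IsAffineOpen U),
    (((pL ⁻¹ᵁ U : PL.Opens) : Scheme.{u}) ≅ Proj (𝒮L.deg U hU))}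
  {L : X.Modules} [L.IsQuasicoherent] {j : L ⟶ 𝒮L.toModule} (hj : IsGrSymAlg L 𝒮L j)

include hj in
/-- **finite lifting data** -/
theorem exists_liftData (hL : PicF.IsInvertible L) (hP : IsRelProj 𝒮 p chart)
    (hPL : IsRelProj 𝒮L pL chartL)
    {r : ((domQ u pL chartL : PL.Opens) : Scheme.{u}) ⟶ P}
    (hr : IsProjQMapOn u p chart pL chartL (domQ u pL chartL) r)
    [CompactSpace X] [LocallyOfFiniteType q]
    (hdom : domQ u pL chartL = ⊤) [IsImmersion r] :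
    ∃ (J : Type u) (_ : Finite J) (UJ : J → Y.Opens) (hUJ : ∀ a, IsAffineOpen (UJ a))
      (d : J → ℕ) (x : ∀ a, 𝒮.presheaf.obj (op (UJ a)))
      (_ : ∀ a, x a ∈ 𝒮.deg (UJ a) (hUJ a) (d a)),
      ∀ (𝒯 : QCGrAlg Y) (v : 𝒯.toQCAlg ⟶ 𝒮.toQCAlg) (_ : IsGradedHom v)
        (u' : QGrHom q 𝒯 𝒮L) (_ : ∀ U : Y.Opens, u'.app U = v.hom.app (op U) ≫ u.app U),
        (∀ a, ∃ y, y ∈ 𝒯.deg (UJ a) (hUJ a) (d a) ∧ (v.hom.app (op (UJ a))).hom y = x a) →
        ∀ {P' : Scheme.{u}} (p' : P' ⟶ Y)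
          (chart' : ∀ (U : Y.Opens) (hU : IsAffineOpen U),
            (((p' ⁻¹ᵁ U : P'.Opens) : Scheme.{u}) ≅ Proj (𝒯.deg U hU)))
          (_ : IsRelProj 𝒯 p' chart')
          (r' : ((domQ u' pL chartL : PL.Opens) : Scheme.{u}) ⟶ P')
          (_ : IsProjQMapOn u' p' chart' pL chartL (domQ u' pL chartL) r'),
          domQ u' pL chartL = ⊤ ∧ IsImmersion r' := by
  obtain ⟨κ, hκ, U, hU, n, hn, s, hs, hcov, hV, hG⟩ :=
    Groth.Agent.Helper1.IM.exists_finite_family u hj hL hP hPL hr hdom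
  haveI := hκ
  choose G hGadj hGfrac using hG
  have hw : ∀ (a : Σ k : κ, {τ // τ ∈ G k}), ∃ (m : ℕ) (_ : 0 < m)
      (s' : 𝒮.presheaf.obj (op (U a.1))) (_ : s' ∈ 𝒮.deg (U a.1) (hU a.1) (m * n a.1)),
      (𝒮L.str.app (op _)).hom a.2.1 *
        ((u.appLE (U a.1) _ (Groth.Agent.Helper1.PT.Xw_le _)).hom (s a.1)) ^ m =
        (u.appLE (U a.1) _ (Groth.Agent.Helper1.PT.Xw_le _)).hom s' :=
    fun a => hGfrac a.1 a.2.1 a.2.2
  choose m hm s' hs' he using hw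
  refine ⟨κ ⊕ (Σ k : κ, {τ // τ ∈ G k}), inferInstance,
    Sum.elim U (fun a => U a.1), ?_, Sum.elim n (fun a => m a * n a.1), ?_, ?_, ?_⟩
  · rintro (k | a)
    · exact hU k
    · exact hU a.1
  · rintro (k | a)
    · exact s k
    · exact s' a
  · rintro (k | a)
    · exact hs k
    · exact hs' a
  intro 𝒯 v hv u' hu' hlift P' p' chart' hP' r' hr'
  have h₁ : ∀ k, ∃ y, y ∈ 𝒯.deg (U k) (hU k) (n k) ∧ (v.hom.app (op (U k))).hom y = s k :=
    fun k => hlift (Sum.inl k)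
  have h₂ : ∀ a : Σ k : κ, {τ // τ ∈ G k}, ∃ y, y ∈ 𝒯.deg (U a.1) (hU a.1) (m a * n a.1) ∧
      (v.hom.app (op (U a.1))).hom y = s' a := fun a => hlift (Sum.inr a)
  choose tk htk htks using h₁
  have hXw : ∀ k, Groth.Agent.Helper1.PT.Xw
      (Groth.Agent.Helper1.PT.famOf u' (U k) (hU k) (tk k) (htk k)) =
      Groth.Agent.Helper1.PT.Xw (Groth.Agent.Helper1.PT.famOf u (U k) (hU k) (s k) (hs k)) :=
    fun k => Groth.Agent.Helper1.IM.Xw_famOf_comp_eq u (U k) (hU k) (s k) (hs k) v u'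
      hu' (tk k) (htk k) (htks k)
  have claim : ∀ (k : κ) (V : X.Opens)
      (_ : V = Groth.Agent.Helper1.PT.Xw
        (Groth.Agent.Helper1.PT.famOf u (U k) (hU k) (s k) (hs k)))
      (hT : V ≤ q ⁻¹ᵁ U k) (τ : Γ(X, V)),
      Groth.Agent.Helper1.IM.IsFrac u' (U k) (hU k) (n k) (tk k) V hT τ := by
    intro k V hVV hT τ
    subst hVV
    have hadj := hGadj k
    refine Groth.Agent.Helper1.IM.isFrac_of_adjoin u' (U k) (hU k) (tk k) (htk k) _ hT
      (G k : Set _) ?_ ?_ τ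
    · exact hadj
    intro τ' hτ'
    obtain ⟨t', ht', ht's⟩ := h₂ ⟨k, τ', hτ'⟩
    apply Groth.Agent.Helper1.IM.isFrac_comp u (U k) (hU k) _ hT v u' hu' (tk k) τ'
    refine ⟨m ⟨k, τ', hτ'⟩, hm ⟨k, τ', hτ'⟩, t', ht', ?_⟩
    rw [htks k, ht's]
    exact he ⟨k, τ', hτ'⟩
  refine Groth.Agent.Helper1.IM.isImmersion_of_family u' hj hL hP' hPL hr'
    U hU n hn tk htk ?_ ?_ ?_
  · intro x
    obtain ⟨k, hk⟩ := hcov x
    exact ⟨k, by rw [hXw k]; exact hk⟩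
  · intro k
    rw [hXw k]; exact hV k
  · intro k τ
    exact claim k _ (hXw k) _ τ

end

end Groth.Agent.Helper4.SN325
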