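import Mathlib
import Groth.Prelude.Def_RelProj2
import Groth.Agent.Helper1.SG7
import Groth.Agent.Helper1.SY15

/-!
# Lifting homogeneous sections of `Sym(F)` to `Sym(E)` for a submodule `E` containing finitely
many prescribed sections
-/

set_option autoImplicit false
set_option linter.unusedSectionVars false
set_option linter.style.haveILetI false

namespace Groth.Agent.Helper4.SN326

open CategoryTheory CategoryTheory.Limits AlgebraicGeometry TopologicalSpace Opposite RelSpec RelProj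
open Groth.Agent.Helper1 Groth.Agent.Helper1.SY Groth.Agent.Helper1.SG
open scoped HomogeneousIdeal

universe u

noncomputable section

variable {Y : Scheme.{u}} {F : Y.Modules} [F.IsQuasicoherent] {𝒯F : QCGrAlg Y}
  {jF : F ⟶ 𝒯F.toModule} (hjF : IsGrSymAlg F 𝒯F jF) (U : Y.Opens) (hU : IsAffineOpen U)

variable (jF) in
/-- the lifting property of an element of `Sym(F(U))` -/
def Lifts (n : ℕ) (x : 𝒯F.presheaf.obj (op U)) : Prop :=
  ∃ T : Finset Γ(F, U), ∀ (E : Y.Modules) (ι : E ⟶ F) (𝒯E : QCGrAlg Y) (jE : E ⟶ 𝒯E.toModule)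
    (_ : ∀ (V : Y.Opens) (hV : IsAffineOpen V) (e : Γ(E, V)),
      (jE.app V e : 𝒯E.presheaf.obj (op V)) ∈ 𝒯E.deg V hV 1)
    (ψ : 𝒯E.toQCAlg ⟶ 𝒯F.toQCAlg) (_ : jE ≫ QCAlg.Hom.toModuleMap ψ = ι ≫ jF),
    (∀ m ∈ T, ∃ e : Γ(E, U), ι.app U e = m) →
    ∃ y, y ∈ 𝒯E.deg U hU n ∧ (ψ.hom.app (op U)).hom y = x

include hjF in
/-- **every homogeneous section of `Sym(F)` over an affine open lifts to `Sym(E)` as soon as `E`
contains finitely many sections of `F`** -/
theorem lifts_of_mem_deg {n : ℕ} {x : 𝒯F.presheaf.obj (op U)} (hx : x ∈ 𝒯F.deg U hU n) :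
    Lifts jF U hU n x := by
  classical
  obtain ⟨a, ha, rfl⟩ := exists_of_mem_deg hjF U hU hx
  clear hx
  unfold symPow at ha
  induction ha using Submodule.pow_induction_on_left' with
  | algebraMap c =>
    refine ⟨∅, fun E ι 𝒯E jE _ ψ _ _ => ⟨(𝒯E.str.app (op U)).hom c, 𝒯E.str_mem U hU c, ?_⟩⟩
    rw [symLift_algebraMap]
    have h1 : 𝒯E.str.app (op U) ≫ ψ.hom.app (op U) = 𝒯F.str.app (op U) :=
      congrArg (fun k => k.app (op U)) ψ.comm
    exact congrArg (fun k => k.hom c) h1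
  | add a b i ha hb iha ihb =>
    obtain ⟨Ta, hTa⟩ := iha
    obtain ⟨Tb, hTb⟩ := ihb
    refine ⟨Ta ∪ Tb, fun E ι 𝒯E jE hjE ψ hψ hT => ?_⟩
    obtain ⟨ya, hya, hya'⟩ := hTa E ι 𝒯E jE hjE ψ hψ
      (fun m hm => hT m (Finset.mem_union_left _ hm))
    obtain ⟨yb, hyb, hyb'⟩ := hTb E ι 𝒯E jE hjE ψ hψ
      (fun m hm => hT m (Finset.mem_union_right _ hm))
    refine ⟨ya + yb, add_mem hya hyb, ?_⟩
    rw [map_add, map_add, hya', hyb']
  | mem_mul m hm i a ha ih =>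
    obtain ⟨m₀, rfl⟩ := hm
    obtain ⟨Ta, hTa⟩ := ih
    refine ⟨insert m₀ Ta, fun E ι 𝒯E jE hjE ψ hψ hT => ?_⟩
    obtain ⟨ya, hya, hya'⟩ := hTa E ι 𝒯E jE hjE ψ hψ
      (fun m hm => hT m (Finset.mem_insert_of_mem hm))
    obtain ⟨e, he⟩ := hT m₀ (Finset.mem_insert_self _ _)
    refine ⟨(show 𝒯E.presheaf.obj (op U) from jE.app U e) * ya, ?_, ?_⟩
    · have h1 : (show 𝒯E.presheaf.obj (op U) from jE.app U e) ∈ 𝒯E.deg U hU 1 := hjE U hU e
      have h2 := SetLike.mul_mem_graded h1 hya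
      rw [add_comm] at h2
      exact h2
    · rw [map_mul, map_mul, hya', symLift_ι, ← he]
      congr 1
      exact congrArg (fun k => k.app U e) hψ

end

end Groth.Agent.Helper4.SN326
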