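import Mathlib
import Groth.Prelude.Def_RelProj4
import Groth.Agent.Helper4.SN321
import Groth.Agent.Helper4.SN325
import Groth.Agent.Helper4.SN326
import Groth.Agent.Helper4.SubSum
import Groth.Agent.Helper4.AffineDict
import Groth.Agent.Helper1.SG4
import Groth.Agent.Helper1.SY11
import Groth.Agent.Helper1.RP10
import Groth.Agent.Helper1.RP23
import Groth.Agent.S12153

/-!
# `r_{L,φ}` is an immersion iff it is one for a quasi-coherent submodule of finite type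
-/

set_option autoImplicit false
set_option linter.unusedSectionVars false
set_option linter.style.haveILetI false

namespace Groth.Agent.Helper4.SN327

open CategoryTheory CategoryTheory.Limits AlgebraicGeometry TopologicalSpace Opposite RelSpec RelProj
open Groth.Agent.Helper1 Groth.Agent.Helper1.RP
open scoped HomogeneousIdeal

universe u

noncomputable section

section ext

variable {X Y : Scheme.{u}} {q : X ⟶ Y} {A : QCAlg Y} {B : QCAlg X}

/-- two families of maps `A(U) → B(q⁻¹U)`, compatible with restrictions, which agree over affine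
opens agree everywhere -/
theorem app_ext_affine
    (f g : ∀ U : Y.Opens, A.presheaf.obj (op U) ⟶ B.presheaf.obj (op (q ⁻¹ᵁ U)))
    (hf : ∀ {U V : Y.Opens} (i : V ≤ U),
      f U ≫ B.presheaf.map (homOfLE (q.preimage_mono i)).op = A.presheaf.map (homOfLE i).op ≫ f V)
    (hg : ∀ {U V : Y.Opens} (i : V ≤ U),
      g U ≫ B.presheaf.map (homOfLE (q.preimage_mono i)).op = A.presheaf.map (homOfLE i).op ≫ g V)
    (h : ∀ (U : Y.Opens), IsAffineOpen U → f U = g U) (U : Y.Opens) : f U = g U := by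
  ext x
  let ι := {V : Y.affineOpens // (V : Y.Opens) ≤ U}
  refine TopCat.Sheaf.eq_of_locally_eq'
    (⟨B.toModule.presheaf, B.toModule.isSheaf⟩ : TopCat.Sheaf Ab X)
    (fun V : ι => q ⁻¹ᵁ (V.1 : Y.Opens)) (q ⁻¹ᵁ U) (fun V => homOfLE (q.preimage_mono V.2)) ?_
    (show Γ(B.toModule, q ⁻¹ᵁ U) from (f U).hom x) ((g U).hom x) ?_
  · intro y hy
    obtain ⟨_, ⟨V, hV : IsAffineOpen V, rfl⟩, hyV, hVU⟩ :=
      Y.isBasis_affineOpens.exists_subset_of_mem_open (show q y ∈ U from hy) U.2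
    exact Opens.mem_iSup.mpr ⟨⟨⟨V, hV⟩, hVU⟩, hyV⟩
  · rintro ⟨⟨V, hV⟩, hVU⟩
    have h1 := congrArg (fun k => k.hom x) (hf hVU)
    have h2 := congrArg (fun k => k.hom x) (hg hVU)
    refine h1.trans (Eq.trans ?_ h2.symm)
    rw [h V hV]

end ext

variable {X Y P PL : Scheme.{u}} (q : X ⟶ Y)
  {L : X.Modules} [L.IsQuasicoherent] (hL : PicF.IsInvertible L)
  {𝒮L : QCGrAlg X} {jL : L ⟶ 𝒮L.toModule} (hjL : IsGrSymAlg L 𝒮L jL)
  {pL : PL ⟶ X}
  {chartL : ∀ (U : X.Opens) (hU : IsAffineOpen U),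
    (((pL ⁻¹ᵁ U : PL.Opens) : Scheme.{u}) ≅ Proj (𝒮L.deg U hU))}
  (hPL : IsRelProj 𝒮L pL chartL)
  {F : Y.Modules} [F.IsQuasicoherent] {𝒯 : QCGrAlg Y} {jF : F ⟶ 𝒯.toModule}
  (h𝒯 : IsGrSymAlg F 𝒯 jF) (u : QGrHom q 𝒯 𝒮L)
  {p : P ⟶ Y}
  {chart : ∀ (U : Y.Opens) (hU : IsAffineOpen U),
    (((p ⁻¹ᵁ U : P.Opens) : Scheme.{u}) ≅ Proj (𝒯.deg U hU))}
  (hP : IsRelProj 𝒯 p chart)
  (r : ((RelProj.domQ u pL chartL : PL.Opens) : Scheme.{u}) ⟶ P)
  (hr : IsProjQMapOn u p chart pL chartL (RelProj.domQ u pL chartL) r)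

/-- the conclusion of the finite type reduction -/
def Concl : Prop :=
  ∃ (E : Y.Modules) (_ : Coh.IsQCoh E) (_ : CohB1.IsFT E) (ι : E ⟶ F)
    (_ : ∀ U : Y.Opens, Function.Injective (ι.app U))
    (𝒯' : RelProj.QCGrAlg Y) (jE : E ⟶ 𝒯'.toModule) (_ : RelProj.IsGrSymAlg E 𝒯' jE)
    (u' : RelProj.QGrHom q 𝒯' 𝒮L)
    (_ : ∀ (U : Y.Opens) (x : Γ(E, U)),
      (u'.app U).hom ((jE.app U) x) = (u.app U).hom ((jF.app U) ((ι.app U) x))),
    (∀ x : X, ∃ (U : Y.Opens) (hU : IsAffineOpen U) (e : Γ(E, U)) (V : X.Opens)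
        (hV : IsAffineOpen V) (hVU : V ≤ q ⁻¹ᵁ U), x ∈ V ∧
          ((𝒮L.deg V hV 1 : AddSubgroup (𝒮L.presheaf.obj (op V))) :
              Set (𝒮L.presheaf.obj (op V))) ⊆
          (Ideal.span {(u'.appLE U V hVU).hom ((jE.app U) e)} : Set (𝒮L.presheaf.obj (op V)))) ∧
    ∀ (P' : Scheme.{u}) (p' : P' ⟶ Y)
        (chart' : ∀ (U : Y.Opens) (hU : IsAffineOpen U),
          (((p' ⁻¹ᵁ U : P'.Opens) : Scheme.{u}) ≅ Proj (𝒯'.deg U hU)))
        (_ : RelProj.IsRelProj 𝒯' p' chart')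
        (r' : ((RelProj.domQ u' pL chartL : PL.Opens) : Scheme.{u}) ⟶ P')
        (_ : RelProj.IsProjQMapOn u' p' chart' pL chartL (RelProj.domQ u' pL chartL) r'),
      RelProj.domQ u' pL chartL = ⊤ ∧ IsImmersion r'

include hL hjL hPL h𝒯 hP hr in
/-- the easy direction -/
theorem isImmersion_of_concl (h : Concl q (jF := jF) u (pL := pL) (chartL := chartL)) :
    RelProj.domQ u pL chartL = ⊤ ∧ IsImmersion r := by
  obtain ⟨E, hEq, -, ι, -, 𝒯', jE, hjE, u', hu'j, -, H⟩ := h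
  haveI : E.IsQuasicoherent := hEq
  obtain ⟨ψ, hψ⟩ := SG.exists_symHom (𝒮F := 𝒯) (jF := jF) hjE ι
  have hψg := SG.isGradedHom_symHom hjE h𝒯 ι ψ hψ
  have hu' : ∀ U : Y.Opens, u'.app U = ψ.hom.app (op U) ≫ u.app U := by
    apply app_ext_affine (q := q) (A := 𝒯'.toQCAlg) (B := 𝒮L.toQCAlg) (fun U => u'.app U)
      (fun U => ψ.hom.app (op U) ≫ u.app U)
    · intro U V i
      exact u'.naturality i
    · intro U V i
      exact (Groth.Agent.Helper4.SN321.compV u ψ hψg).naturality i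
    · intro U hU
      apply CommRingCat.hom_ext
      refine Groth.Agent.Helper1.SY.secHom_ext hjE.1 U hU (fun c => ?_) (fun m => ?_)
      · have h1 := congrArg (fun k => k.hom c) (u'.str_app U)
        have h2 := congrArg (fun k => k.hom c)
          ((Groth.Agent.Helper4.SN321.compV u ψ hψg).str_app U)
        exact h1.trans h2.symm
      · refine (hu'j U m).trans ?_
        have h1 : (ψ.hom.app (op U)).hom (jE.app U m) = jF.app U (ι.app U m) :=
          congrArg (fun k => k.app U m) hψ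
        change _ = (u.app U).hom ((ψ.hom.app (op U)).hom (jE.app U m))
        rw [h1]
  obtain ⟨P', p', chart', hP'⟩ := RP.exists_isRelProj 𝒯'
  obtain ⟨r', hr', -⟩ := existsUnique_projQMapOn (u := u') hP' hPL
  obtain ⟨hdom', himm'⟩ := H P' p' chart' hP' r' hr'
  exact Groth.Agent.S12153.result q L hL (inferInstance : L.IsQuasicoherent) 𝒯 𝒮L jL hjL u p chart
    hP pL chartL hPL r hr 𝒯' ψ hψg u' hu' p' chart' hP' r' hr' hdom' himm'

include hL hjL hPL h𝒯 hP hr in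
/-- **the finite type reduction** -/
theorem concl_of_isImmersion [CompactSpace Y] [QuasiSeparatedSpace Y] [QuasiCompact q]
    [LocallyOfFiniteType q]
    (hsurj : ∀ x : X, ∃ (U : Y.Opens) (hU : IsAffineOpen U) (e : Γ(F, U)) (V : X.Opens)
        (hV : IsAffineOpen V) (hVU : V ≤ q ⁻¹ᵁ U), x ∈ V ∧
          ((𝒮L.deg V hV 1 : AddSubgroup (𝒮L.presheaf.obj (op V))) :
              Set (𝒮L.presheaf.obj (op V))) ⊆
          (Ideal.span {(u.appLE U V hVU).hom ((jF.app U) e)} : Set (𝒮L.presheaf.obj (op V))))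
    [IsImmersion r] : Concl q (jF := jF) u (pL := pL) (chartL := chartL) := by
  classical
  haveI : CompactSpace X := QuasiCompact.compactSpace_of_compactSpace q
  -- `r` is everywhere defined
  have hdom : RelProj.domQ u pL chartL = ⊤ := by
    apply Groth.Agent.Helper1.IM.domQ_eq_top_of_cover u hjL hL hPL
    intro x
    obtain ⟨U, hU, e, V, hV, hVU, hxV, hgen⟩ := hsurj x
    refine ⟨U, hU, 1, Nat.one_pos, jF.app U e, h𝒯.2 U hU e, ?_⟩
    exact Opens.mem_iSup.mpr ⟨⟨⟨⟨V, hV⟩, hVU⟩, fun b hb => hgen hb⟩, hxV⟩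
  -- the finite lifting data
  obtain ⟨J, hJ, UJ, hUJ, d, x, hx, H⟩ :=
    Groth.Agent.Helper4.SN325.exists_liftData u hjL hL hP hPL hr hdom
  haveI := hJ
  haveI : Fintype J := Fintype.ofFinite J
  have hTs := fun a : J => Groth.Agent.Helper4.SN326.lifts_of_mem_deg h𝒯 (UJ a) (hUJ a) (hx a)
  choose T hT using hTs
  -- a finite subcover for the surjectivity
  choose U₀ hU₀ e₀ V₀ hV₀ hVU₀ hxV₀ hgen₀ using hsurj
  obtain ⟨Fin, hFin⟩ := isCompact_univ.elim_finite_subcover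
    (fun x : X => ((V₀ x : X.Opens) : Set X)) (fun x => (V₀ x).2)
    (fun x _ => Set.mem_iUnion.mpr ⟨x, hxV₀ x⟩)
  -- the submodule through all the sections
  let I := (Σ a : J, {m // m ∈ T a}) ⊕ {x // x ∈ Fin}
  let UI : I → Y.Opens := Sum.elim (fun a => UJ a.1) (fun x => U₀ x.1)
  have hUI : ∀ a, IsCompact ((UI a : Y.Opens) : Set Y) := by
    rintro (a | x)
    · exact (hUJ a.1).isCompact
    · exact (hU₀ x.1).isCompact
  let sI : ∀ a : I, F.val.obj (op (UI a)) := fun a =>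
    match a with
    | Sum.inl a => a.2.1
    | Sum.inr x => e₀ x.1
  obtain ⟨E, ι, hmono, hEq, hEft, hsec⟩ :=
    Groth.Agent.Helper4.SubSum.exists_submodule_through_sections F UI hUI sI Finset.univ
  haveI := hmono
  haveI : E.IsQuasicoherent := hEq
  obtain ⟨𝒯', jE, hjE⟩ : ∃ (𝒯' : QCGrAlg Y) (jE : E ⟶ 𝒯'.toModule), IsGrSymAlg E 𝒯' jE :=
    ⟨_, _, SG.isGrSymAlg_grAlg (SY.isSymAlg_symAlg E)⟩
  obtain ⟨ψ, hψ⟩ := SG.exists_symHom (𝒮F := 𝒯) (jF := jF) hjE ι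
  have hψg := SG.isGradedHom_symHom hjE h𝒯 ι ψ hψ
  have hψj : ∀ (U : Y.Opens) (m : Γ(E, U)),
      (ψ.hom.app (op U)).hom (jE.app U m) = jF.app U (ι.app U m) :=
    fun U m => congrArg (fun k => k.app U m) hψ
  refine ⟨E, hEq, hEft, ι, fun U => Groth.Agent.Helper4.AffineDict.app_injective_of_mono ι U,
    𝒯', jE, hjE, Groth.Agent.Helper4.SN321.compV u ψ hψg, ?_, ?_, ?_⟩
  · intro U m
    change (u.app U).hom ((ψ.hom.app (op U)).hom (jE.app U m)) = _
    rw [hψj]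
  · intro x
    have hx' := hFin (Set.mem_univ x)
    simp only [Set.mem_iUnion] at hx'
    obtain ⟨x₀, hx₀, hxV⟩ := hx'
    obtain ⟨g, hg⟩ := hsec (Sum.inr ⟨x₀, hx₀⟩) (Finset.mem_univ _)
    refine ⟨U₀ x₀, hU₀ x₀, g, V₀ x₀, hV₀ x₀, hVU₀ x₀, hxV, ?_⟩
    have h1 : ((Groth.Agent.Helper4.SN321.compV u ψ hψg).appLE (U₀ x₀) (V₀ x₀) (hVU₀ x₀)).hom
        (jE.app (U₀ x₀) g) = (u.appLE (U₀ x₀) (V₀ x₀) (hVU₀ x₀)).hom (jF.app (U₀ x₀) (e₀ x₀)) := by
      change (u.appLE (U₀ x₀) (V₀ x₀) (hVU₀ x₀)).hom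
        ((ψ.hom.app (op (U₀ x₀))).hom (jE.app (U₀ x₀) g)) = _
      rw [hψj]
      congr 2
    rw [h1]
    exact hgen₀ x₀
  · intro P' p' chart' hP' r' hr'
    refine H 𝒯' ψ hψg _ (fun _ => rfl) ?_ p' chart' hP' r' hr'
    intro a
    refine hT a E ι 𝒯' jE hjE.2 ψ hψ ?_
    intro m hm
    obtain ⟨g, hg⟩ := hsec (Sum.inl ⟨a, m, hm⟩) (Finset.mem_univ _)
    exact ⟨g, hg⟩

end

end Groth.Agent.Helper4.SN327
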