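import Mathlib
import Groth.Prelude.Def_RelProj4
import Groth.Agent.Helper4.SN311
import Groth.Agent.Helper4.StalkDict
import Groth.Agent.Helper1.FC5
import Groth.Agent.Helper1.PT8

/-!
# An epimorphism `q^*E ⟶ L` onto an invertible module: locally a section of `E` generates `L`
-/

set_option autoImplicit false
set_option linter.unusedSectionVars false
set_option linter.style.haveILetI false

namespace Groth.Agent.Helper4.SN328

open CategoryTheory CategoryTheory.Limits AlgebraicGeometry TopologicalSpace Opposite RelSpec RelProj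
open Groth.Agent.Helper1 Groth.Agent.Helper1.RP Groth.Agent.Lead.BCMap Groth.Agent.Helper1.SY
open scoped HomogeneousIdeal

universe u

noncomputable section

variable {Y X : Scheme.{u}} (q : X ⟶ Y) (E : Y.Modules) [E.IsQuasicoherent]
  {𝒮 : QCGrAlg Y} {j : E ⟶ 𝒮.toModule} (hj : IsGrSymAlg E 𝒮 j)
  {L : X.Modules} [L.IsQuasicoherent] (hL : PicF.IsInvertible L)
  {𝒮L : QCGrAlg X} {jL : L ⟶ 𝒮L.toModule} (hjL : IsGrSymAlg L 𝒮L jL)
  (s : (Scheme.Modules.pullback q).obj E ⟶ L) [Epi s]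

include hL in
/-- near every point some section of `E` over an affine open of the base generates `L`: its
image is an invertible function times a frame -/
theorem exists_section_gen (x : X) :
    ∃ (U : Y.Opens) (_ : IsAffineOpen U) (e : Γ(E, U)) (V : X.Opens) (hV : IsAffineOpen V)
      (hVU : V ≤ q ⁻¹ᵁ U) (F : PL.Frame L V) (a : Γ(X, V)),
      x ∈ X.basicOpen a ∧ s.app V (pbSec q E U V hVU e) = a • F.e := by
  haveI : ((Scheme.Modules.pullback q).obj E).IsQuasicoherent :=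
    Groth.Agent.Lead.StalkPull.isQuasicoherent_pullbackObj q E
  obtain ⟨U, hU, hxU⟩ : ∃ U : Y.Opens, IsAffineOpen U ∧ q x ∈ U := by
    obtain ⟨W, hWa, hxW, -⟩ :=
      exists_isAffineOpen_mem_and_subset (show q x ∈ (⊤ : Y.Opens) from trivial)
    exact ⟨W, hWa, hxW⟩
  obtain ⟨V, hV, l, hxV, hVU, hl⟩ :=
    Groth.Agent.Helper1.FC.exists_affine_generator_le L hL (q ⁻¹ᵁ U) x hxU
  by_contra hcon
  push Not at hcon
  set 𝔭 := (hV.primeIdealOf ⟨x, hxV⟩).asIdeal with h𝔭
  -- every section of `q^*E` over `V` goes into `𝔭 • l`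
  letI := (q.appLE U V hVU).hom.toAlgebra
  letI : Module Γ(Y, U) Γ((Scheme.Modules.pullback q).obj E, V) :=
    Module.compHom _ (q.appLE U V hVU).hom
  haveI : IsScalarTower Γ(Y, U) Γ(X, V) Γ((Scheme.Modules.pullback q).obj E, V) :=
    IsScalarTower.of_compHom _ _ _
  obtain ⟨ρ, hρ, hbc⟩ := exists_isBaseChange_pbSec q E hU hV hVU
  have key : ∀ m : Γ((Scheme.Modules.pullback q).obj E, V), ∃ a ∈ 𝔭, s.app V m = a • l := by
    intro m
    refine hbc.inductionOn m
      (motive := fun m => ∃ a ∈ 𝔭, s.app V m = a • l) ?_ ?_ ?_ ?_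
    · exact ⟨0, 𝔭.zero_mem, by rw [map_zero, zero_smul]⟩
    · intro e
      obtain ⟨a, ha⟩ := hl.2 (s.app V (pbSec q E U V hVU e))
      refine ⟨a, ?_, by rw [hρ]; exact ha.symm⟩
      by_contra hnot
      have hxa : x ∈ X.basicOpen a :=
        (Groth.Agent.Helper4.StalkDict.mem_basicOpen_iff_notMem_primeIdealOf hV x hxV a).mpr hnot
      exact hcon U hU e V hV hVU ⟨l, hl⟩ a hxa ha.symm
    · rintro c m ⟨a, ha, hm⟩
      refine ⟨c * a, 𝔭.mul_mem_left c ha, ?_⟩
      rw [Scheme.Modules.Hom.app_smul, hm, mul_smul]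
    · rintro m m' ⟨a, ha, hm⟩ ⟨a', ha', hm'⟩
      refine ⟨a + a', 𝔭.add_mem ha ha', ?_⟩
      rw [map_add, hm, hm', add_smul]
  obtain ⟨m, hm⟩ := Groth.Agent.Helper4.QcohEpi.app_surjective_of_epi s hV l
  obtain ⟨a, ha, hma⟩ := key m
  have h1 : (fun r : Γ(X, V) => r • l) a = (fun r : Γ(X, V) => r • l) 1 := by
    simp only [one_smul]
    rw [← hma, hm]
  have h2 : a = 1 := hl.1 h1
  rw [h2] at ha
  exact (hV.primeIdealOf ⟨x, hxV⟩).isPrime.ne_top ((Ideal.eq_top_iff_one _).2 ha)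

include hj hjL hL in
/-- **the degree-one surjectivity condition for a graded morphism acting as `s` on `E`** -/
theorem exists_gen_of_epi (u₀ : QGrHom q 𝒮 𝒮L)
    (hu₀ : ∀ (U : Y.Opens) (hU : IsAffineOpen U) (U' : X.Opens) (hU' : IsAffineOpen U')
      (hle : U' ≤ q ⁻¹ᵁ U) (m : Γ(E, U)),
      u₀.gradedAt U hU U' hU' hle (j.app U m) = jL.app U' (s.app U' (pbSec q E U U' hle m)))
    (x : X) :
    ∃ (U : Y.Opens) (hU : IsAffineOpen U) (e : Γ(E, U)) (V : X.Opens) (hV : IsAffineOpen V)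
      (hVU : V ≤ q ⁻¹ᵁ U), x ∈ V ∧
        ((𝒮L.deg V hV 1 : AddSubgroup (𝒮L.presheaf.obj (op V))) :
            Set (𝒮L.presheaf.obj (op V))) ⊆
        (Ideal.span {(u₀.appLE U V hVU).hom ((j.app U) e)} : Set (𝒮L.presheaf.obj (op V))) := by
  obtain ⟨U, hU, e, V, hV, hVU, F, a, hxa, hsa⟩ := exists_section_gen q E hL s x
  have hdeg : (j.app U e : 𝒮.presheaf.obj (op U)) ∈ 𝒮.deg U hU 1 := hj.2 U hU e
  have hgen := PT.isGenAt_basicOpen_of_frame (PT.famOf u₀ U hU (j.app U e) hdeg) hjL hV hVU F a ?_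
  · exact ⟨U, hU, e, X.basicOpen a, hV.basicOpen a, (X.basicOpen_le a).trans hVU, hxa,
      fun b hb => hgen b hb⟩
  · change (u₀.appLE U V hVU).hom (j.app U e) = _
    rw [pow_one]
    have h1 := hu₀ U hU V hV hVU e
    rw [hsa] at h1
    refine h1.trans ?_
    exact jR_smul (A := 𝒮L.toQCAlg) jL V a F.e

end

end Groth.Agent.Helper4.SN328
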