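import Mathlib
import Groth.Prelude.Def_RelProj4
import Groth.Agent.Helper4.SN324
import Groth.Agent.Helper4.SN327
import Groth.Agent.Helper4.SN328
import Groth.Agent.Helper4.QcohLocal
import Groth.Agent.Helper1.IM2
import Groth.Agent.Helper1.TR34
import Groth.Agent.S8259

/-!
# Very ample sheaves over a quasi-compact quasi-separated base: the module of the definition can
be taken of finite type
-/

set_option autoImplicit false
set_option linter.unusedSectionVars false
set_option linter.style.haveILetI false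

namespace Groth.Agent.Helper4.SN329

open CategoryTheory CategoryTheory.Limits AlgebraicGeometry TopologicalSpace Opposite RelSpec RelProj
open Groth.Agent.Helper1 Groth.Agent.Helper1.RP Groth.Agent.Lead.BCMap Groth.Agent.Helper1.SY
open scoped HomogeneousIdeal

universe u

noncomputable section

section basic

variable {X Y : Scheme.{u}} (q : X ⟶ Y) (L : X.Modules)

/-- a morphism carrying a relatively very ample module is separated -/
theorem isSeparated_of_isRelVeryAmple (h : IsRelVeryAmple q L) : IsSeparated q := by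
  obtain ⟨E₀, hE₀, 𝒮₀, j₀, hj₀, P₀, p₀, chart₀, hP₀, O1, lam, hO1, i, himm, hip, -⟩ := h
  haveI := himm
  haveI : IsSeparated p₀ := Groth.Agent.S8259.result 𝒮₀ p₀ chart₀ hP₀
  rw [← hip]
  infer_instance

/-- a relatively very ample module is a quotient of the inverse image of a quasi-coherent
module on the base -/
theorem exists_epi_of_isRelVeryAmple (h : IsRelVeryAmple q L) :
    ∃ (E₀ : Y.Modules) (_ : E₀.IsQuasicoherent) (s : (Scheme.Modules.pullback q).obj E₀ ⟶ L),
      Epi s := by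
  obtain ⟨E₀, hE₀, 𝒮₀, j₀, hj₀, P₀, p₀, chart₀, hP₀, O1, lam, hO1, i, himm, hip, ⟨e⟩⟩ := h
  haveI : E₀.IsQuasicoherent := hE₀
  set φ₀ := CF.can j₀ hj₀.2 hP₀ hO1 with hφ₀def
  have hφ₀ := CF.val_can j₀ hj₀.2 hP₀ hO1
  haveI hepa : Epi (((Scheme.Modules.pullbackPushforwardAdjunction p₀).homEquiv E₀ O1).symm φ₀) :=
    TRS.epi_adjoint_canonical hj₀ hO1 φ₀ hφ₀
  haveI : Epi ((Scheme.Modules.pullback i).map
      (((Scheme.Modules.pullbackPushforwardAdjunction p₀).homEquiv E₀ O1).symm φ₀)) :=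
    @Functor.map_epi _ _ _ _ (Scheme.Modules.pullback i) _ _ _ _ hepa
  refine ⟨E₀, hE₀, (Scheme.Modules.pullbackCongr hip).inv.app E₀ ≫
    (Scheme.Modules.pullbackComp i p₀).inv.app E₀ ≫ (Scheme.Modules.pullback i).map
        (((Scheme.Modules.pullbackPushforwardAdjunction p₀).homEquiv E₀ O1).symm φ₀) ≫ e.symm.hom,
    inferInstance⟩

/-- for a relatively very ample module the canonical `q^* q_* L ⟶ L` is an epimorphism -/
theorem epi_counit_of_isRelVeryAmple (h : IsRelVeryAmple q L) :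
    Epi ((Scheme.Modules.pullbackPushforwardAdjunction q).counit.app L) := by
  obtain ⟨E₀, -, s, hs⟩ := exists_epi_of_isRelVeryAmple q L h
  have h1 : s = (Scheme.Modules.pullback q).map
      ((Scheme.Modules.pullbackPushforwardAdjunction q).homEquiv E₀ L s) ≫
      (Scheme.Modules.pullbackPushforwardAdjunction q).counit.app L := by
    have h2 := Adjunction.homEquiv_counit (adj := Scheme.Modules.pullbackPushforwardAdjunction q)
      (X := E₀) (Y := L) (g := (Scheme.Modules.pullbackPushforwardAdjunction q).homEquiv E₀ L s)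
    rw [Equiv.symm_apply_apply] at h2
    exact h2
  haveI : Epi ((Scheme.Modules.pullback q).map
      ((Scheme.Modules.pullbackPushforwardAdjunction q).homEquiv E₀ L s) ≫
      (Scheme.Modules.pullbackPushforwardAdjunction q).counit.app L) := by
    rw [← h1]
    exact hs
  exact epi_of_epi ((Scheme.Modules.pullback q).map
      ((Scheme.Modules.pullbackPushforwardAdjunction q).homEquiv E₀ L s)) _

end basic

section gen

variable {X Y : Scheme.{u}} (q : X ⟶ Y) {L : X.Modules} [L.IsQuasicoherent]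
  (hL : PicF.IsInvertible L)
  {𝒮L : QCGrAlg X} {jL : L ⟶ 𝒮L.toModule} (hjL : IsGrSymAlg L 𝒮L jL)
  {E : Y.Modules} [E.IsQuasicoherent] {𝒯' : QCGrAlg Y} {jE : E ⟶ 𝒯'.toModule}
  (hjE : IsGrSymAlg E 𝒯' jE)
  (ι : E ⟶ (Scheme.Modules.pushforward q).obj L) (u' : QGrHom q 𝒯' 𝒮L)
  (hu' : ∀ (U : Y.Opens) (x : Γ(E, U)),
    (u'.app U).hom ((jE.app U) x) = (jL.app (q ⁻¹ᵁ U)) ((ι.app U) x))

include hu' in
/-- `u'` acts on `E` as the adjoint of `ι` -/
theorem gradedAt_j (U : Y.Opens) (hU : IsAffineOpen U) (U' : X.Opens) (hU' : IsAffineOpen U')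
    (hle : U' ≤ q ⁻¹ᵁ U) (m : Γ(E, U)) :
    u'.gradedAt U hU U' hU' hle (jE.app U m) =
      jL.app U' ((((Scheme.Modules.pullbackPushforwardAdjunction q).homEquiv E L).symm ι).app U'
        (pbSec q E U U' hle m)) := by
  change (𝒮L.presheaf.map (homOfLE hle).op).hom ((u'.app U).hom (jE.app U m)) = _
  rw [hu' U m, ← homEquiv_app q E _ U U' hle m, Equiv.apply_symm_apply]
  exact (Groth.Agent.Helper4.StalkExact.app_res jL (homOfLE hle) _).symm

include hL hjL hjE hu' in
/-- **local generation in degree one makes the adjoint of `ι` an epimorphism** -/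
theorem epi_of_gen
    (hsurj : ∀ x : X, ∃ (U : Y.Opens) (hU : IsAffineOpen U) (e : Γ(E, U)) (V : X.Opens)
        (hV : IsAffineOpen V) (hVU : V ≤ q ⁻¹ᵁ U), x ∈ V ∧
          ((𝒮L.deg V hV 1 : AddSubgroup (𝒮L.presheaf.obj (op V))) :
              Set (𝒮L.presheaf.obj (op V))) ⊆
          (Ideal.span {(u'.appLE U V hVU).hom ((jE.app U) e)} : Set (𝒮L.presheaf.obj (op V)))) :
    Epi (((Scheme.Modules.pullbackPushforwardAdjunction q).homEquiv E L).symm ι) := by
  set s' := ((Scheme.Modules.pullbackPushforwardAdjunction q).homEquiv E L).symm ι with hs'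
  apply Groth.Agent.Helper4.QcohLocal.epi_of_app_surjective_of_affine_cover
  intro x
  obtain ⟨U, hU, e, V, hV, hVU, hxV, hgen⟩ := hsurj x
  have hdeg : (jE.app U e : 𝒯'.presheaf.obj (op U)) ∈ 𝒯'.deg U hU 1 := hjE.2 U hU e
  set w := PT.famOf u' U hU (jE.app U e) hdeg with hw
  have hxw : x ∈ PT.Xw w :=
    Opens.mem_iSup.mpr ⟨⟨⟨⟨V, hV⟩, hVU⟩, fun b hb => hgen hb⟩, hxV⟩
  obtain ⟨V', hV', l', hxV', hV'le, hl'⟩ :=
    Groth.Agent.Helper1.FC.exists_affine_generator_le L hL (PT.Xw w) x hxw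
  have hT' : V' ≤ q ⁻¹ᵁ U := hV'le.trans (PT.Xw_le w)
  have hg' := Groth.Agent.Helper1.IM.isGenAt_of_le_Xw w hV' hT' hV'le
  obtain ⟨a, ha⟩ := hl'.2 (s'.app V' (pbSec q E U V' hT' e))
  simp only at ha
  have ha' : w.w V' hV' hT' = (𝒮L.str.app (op V')).hom a * ((⟨l', hl'⟩ : PL.Frame L V').t jL) ^ 1 := by
    rw [pow_one]
    have h1 := gradedAt_j q ι u' hu' U hU V' hV' hT' e
    refine h1.trans ?_
    rw [← hs', ← ha]
    exact jR_smul (A := 𝒮L.toQCAlg) jL V' a l'
  have hau : IsUnit a := PT.isUnit_of_isGenAt w hjL hV' hT' ⟨l', hl'⟩ hg' a ha'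
  refine ⟨V', hV', hxV', ?_⟩
  intro l''
  obtain ⟨c, hc⟩ := hl'.2 l''
  simp only at hc
  obtain ⟨b, hb⟩ := hau.exists_left_inv
  refine ⟨(c * b) • pbSec q E U V' hT' e, ?_⟩
  rw [Scheme.Modules.Hom.app_smul, ← ha, ← mul_smul, mul_assoc, hb, mul_one]
  exact hc

end gen

end

end Groth.Agent.Helper4.SN329
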