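import Mathlib
import Groth.Prelude.Def_RelProj4
import Groth.Agent.Helper4.SN329

/-!
# Very ample sheaves over a quasi-compact quasi-separated base: main statements
-/

set_option autoImplicit false
set_option linter.unusedSectionVars false
set_option linter.style.haveILetI false

namespace Groth.Agent.Helper4.SN330

open CategoryTheory CategoryTheory.Limits AlgebraicGeometry TopologicalSpace Opposite RelSpec RelProj
open Groth.Agent.Helper1 Groth.Agent.Helper1.RP Groth.Agent.Lead.BCMap Groth.Agent.Helper1.SY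
open Groth.Agent.Helper4.SN329
open scoped HomogeneousIdeal

universe u

noncomputable section

variable {X Y : Scheme.{u}} (q : X ⟶ Y) [QuasiCompact q] [LocallyOfFiniteType q]
  (L : X.Modules) (hL : PicF.IsInvertible L) [L.IsQuasicoherent]

section a

variable {PL : Scheme.{u}}
  {𝒮L : QCGrAlg X} {jL : L ⟶ 𝒮L.toModule} (hjL : IsGrSymAlg L 𝒮L jL)
  {pL : PL ⟶ X}
  {chartL : ∀ (U : X.Opens) (hU : IsAffineOpen U),
    (((pL ⁻¹ᵁ U : PL.Opens) : Scheme.{u}) ≅ Proj (𝒮L.deg U hU))}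
  (hPL : IsRelProj 𝒮L pL chartL)

include hL hjL hPL in
/-- **the finite type submodule of `q_* L` giving an immersion** -/
theorem main688 [CompactSpace Y] [QuasiSeparatedSpace Y] (h : IsRelVeryAmple q L) :
    ∃ (E : Y.Modules) (_ : Coh.IsQCoh E) (_ : CohB1.IsFT E)
      (ι : E ⟶ (Scheme.Modules.pushforward q).obj L)
      (_ : ∀ U : Y.Opens, Function.Injective (ι.app U))
      (𝒯 : RelProj.QCGrAlg Y) (jE : E ⟶ 𝒯.toModule) (_ : RelProj.IsGrSymAlg E 𝒯 jE)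
      (u : RelProj.QGrHom q 𝒯 𝒮L)
      (_ : ∀ (U : Y.Opens) (x : Γ(E, U)),
        (u.app U).hom ((jE.app U) x) = (jL.app (q ⁻¹ᵁ U)) ((ι.app U) x)),
      (∀ x : X, ∃ (U : Y.Opens) (hU : IsAffineOpen U) (e : Γ(E, U)) (V : X.Opens)
          (hV : IsAffineOpen V) (hVU : V ≤ q ⁻¹ᵁ U), x ∈ V ∧
            ((𝒮L.deg V hV 1 : AddSubgroup (𝒮L.presheaf.obj (op V))) :
                Set (𝒮L.presheaf.obj (op V))) ⊆
              (Ideal.span {(u.appLE U V hVU).hom ((jE.app U) e)} :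
                Set (𝒮L.presheaf.obj (op V)))) ∧
      ∀ (P : Scheme.{u}) (p : P ⟶ Y)
          (chart : ∀ (U : Y.Opens) (hU : IsAffineOpen U),
            (((p ⁻¹ᵁ U : P.Opens) : Scheme.{u}) ≅ Proj (𝒯.deg U hU)))
          (_ : RelProj.IsRelProj 𝒯 p chart)
          (r : ((RelProj.domQ u pL chartL : PL.Opens) : Scheme.{u}) ⟶ P)
          (_ : RelProj.IsProjQMapOn u p chart pL chartL (RelProj.domQ u pL chartL) r),
        RelProj.domQ u pL chartL = ⊤ ∧ IsImmersion r := by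
  haveI := isSeparated_of_isRelVeryAmple q L h
  haveI : ((Scheme.Modules.pushforward q).obj L).IsQuasicoherent :=
    Groth.Agent.Helper4.QcohGlue.isQuasicoherent_pushforward q L
  obtain ⟨𝒜, jF, h𝒜⟩ : ∃ (𝒜 : QCGrAlg Y)
      (jF : (Scheme.Modules.pushforward q).obj L ⟶ 𝒜.toModule),
      IsGrSymAlg ((Scheme.Modules.pushforward q).obj L) 𝒜 jF :=
    ⟨_, _, SG.isGrSymAlg_grAlg (SY.isSymAlg_symAlg _)⟩
  obtain ⟨P, p, chart, hP⟩ := RP.exists_isRelProj 𝒜
  set u := Groth.Agent.Helper4.SN324.uσ q L h𝒜 hjL with hu_def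
  have hu := Groth.Agent.Helper4.SN324.uσ_j q L h𝒜 hjL
  obtain ⟨r, hr, -⟩ := existsUnique_projQMapOn (u := u) hP hPL
  obtain ⟨hdom, himm⟩ := Groth.Agent.Helper4.SN323.main q L hL hjL hPL h𝒜 u hu hP r hr h
  haveI := himm
  haveI := epi_counit_of_isRelVeryAmple q L h
  have hsurj := Groth.Agent.Helper4.SN328.exists_gen_of_epi q
    ((Scheme.Modules.pushforward q).obj L) h𝒜 hL hjL (Groth.Agent.Helper4.SN324.σ q L) u
    (fun U hU U' hU' hle m => Groth.Agent.Helper4.SN311.uS_j q _ h𝒜 hjL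
      (Groth.Agent.Helper4.SN324.σ q L) U hU U' hU' hle m)
  obtain ⟨E, hEq, hEft, ι, hinj, 𝒯', jE, hjE, u', hu'j, hsurj', H⟩ :=
    Groth.Agent.Helper4.SN327.concl_of_isImmersion q hL hjL hPL h𝒜 u hP r hr hsurj
  exact ⟨E, hEq, hEft, ι, hinj, 𝒯', jE, hjE, u', fun U x => (hu'j U x).trans (hu U _), hsurj', H⟩

end a

lemma isIso_ι_of_eq_top {Z : Scheme.{u}} (W : Z.Opens) (h : W = ⊤) : IsIso W.ι := by
  subst h
  rw [← Scheme.topIso_hom]
  infer_instance

include hL in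
/-- **the module of the definition of a very ample sheaf can be taken of finite type** -/
theorem main486 [CompactSpace Y] [QuasiSeparatedSpace Y] (h : IsRelVeryAmple q L) :
    ∃ (E : Y.Modules) (𝒯 : RelProj.QCGrAlg Y) (j : E ⟶ 𝒯.toModule) (P : Scheme.{u}) (p : P ⟶ Y)
      (chart : ∀ (U : Y.Opens) (hU : IsAffineOpen U),
        ((p ⁻¹ᵁ U : P.Opens) : Scheme.{u}) ≅ Proj (𝒯.deg U hU))
      (O1 : P.Modules)
      (lam : ∀ (U : Y.Opens) (hU : IsAffineOpen U),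
        O1 ⟶ (Scheme.Modules.pushforward (RelProj.emb p chart U hU)).obj
          (GrTwist.twist (𝒯.deg U hU) 1))
      (i : X ⟶ P),
      Coh.IsQCoh E ∧ CohB1.IsFT E ∧ RelProj.IsGrSymAlg E 𝒯 j ∧ RelProj.IsRelProj 𝒯 p chart ∧
        RelProj.IsRelTwist 𝒯 p chart 1 O1 lam ∧ IsImmersion i ∧ i ≫ p = q ∧
        Nonempty (L ≅ (Scheme.Modules.pullback i).obj O1) := by
  obtain ⟨𝒮L, jL, hjL⟩ : ∃ (𝒮L : QCGrAlg X) (jL : L ⟶ 𝒮L.toModule), IsGrSymAlg L 𝒮L jL :=
    ⟨_, _, SG.isGrSymAlg_grAlg (SY.isSymAlg_symAlg L)⟩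
  obtain ⟨PL, pL, chartL, hPL⟩ := RP.exists_isRelProj 𝒮L
  haveI : IsIso pL := Groth.Agent.Helper1.PL.isIso_relProj_of_isInvertible hL hjL pL chartL hPL
  obtain ⟨E, hEq, hEft, ι, -, 𝒯', jE, hjE, u', hu'j, hsurj', H⟩ := main688 q L hL hjL hPL h
  haveI : E.IsQuasicoherent := hEq
  obtain ⟨P', p', chart', hP'⟩ := RP.exists_isRelProj 𝒯'
  obtain ⟨O1, lam, hO1⟩ := TRE.exists_isRelTwist 1 hP'
  obtain ⟨r', hr', -⟩ := existsUnique_projQMapOn (u := u') hP' hPL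
  obtain ⟨hdom', himm'⟩ := H P' p' chart' hP' r' hr'
  haveI := himm'
  set s' := ((Scheme.Modules.pullbackPushforwardAdjunction q).homEquiv E L).symm ι with hs'
  haveI : Epi s' := epi_of_gen q hL hjL hjE ι u' hu'j hsurj'
  have hu₀ := gradedAt_j q ι u' hu'j
  have hirr := Groth.Agent.Helper4.SN322.hirr₀ q E hjE hjL s' u' hu₀
  obtain ⟨h', hιh, -, hcomm, hg⟩ :=
    Groth.Agent.Helper4.SN321.projQMapOn_eq u' hirr hP' hPL r' hr'
  have hg' : ∀ (U : Y.Opens) (hU : IsAffineOpen U) (U' : X.Opens) (hU' : IsAffineOpen U')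
      (hle : U' ≤ q ⁻¹ᵁ U), (pL ⁻¹ᵁ U').ι ≫ h' =
        (chartL U' hU').hom ≫
          Proj.map ((Groth.Agent.Helper4.SN311.uS q E hjE hjL s').gradedAt U hU U' hU' hle)
            (Groth.Agent.Helper4.SN311.hirr q E hjE hjL s' U hU U' hU' hle) ≫
              emb p' chart' U hU := by
    intro U hU U' hU' hle
    rw [hg U hU U' hU' hle,
      Groth.Agent.Helper4.SN321.projMap_congr
        (Groth.Agent.Helper4.SN322.gradedAt_eq q E hjE hjL s' u' hu₀ U hU U' hU' hle)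
        (hirr U hU U' hU' hle) (Groth.Agent.Helper4.SN311.hirr q E hjE hjL s' U hU U' hU' hle)]
  have hr'' : (inv pL ≫ h') ≫ p' = q := by
    rw [Category.assoc, hcomm, IsIso.inv_hom_id_assoc]
  set φE := CF.can jE hjE.2 hP' hO1 with hφEdef
  have hφE := CF.val_can jE hjE.2 hP' hO1
  obtain ⟨τ, -⟩ := Groth.Agent.Helper4.SN315.exists_tau q E hjE hP' hO1 φE hφE hL hjL hPL s' hg' hr''
  haveI := isIso_ι_of_eq_top _ hdom'
  have hh' : h' = inv (RelProj.domQ u' pL chartL).ι ≫ r' := by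
    rw [← hιh, IsIso.inv_hom_id_assoc]
  haveI : IsImmersion h' := by
    rw [hh']
    infer_instance
  exact ⟨E, 𝒯', jE, P', p', chart', O1, lam, inv pL ≫ h', hEq, hEft, hjE, hP', hO1,
    inferInstance, hr'', ⟨τ.symm⟩⟩

end

end Groth.Agent.Helper4.SN330
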