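import Mathlib
import Groth.Prelude.Def_RelProj4
import Groth.Agent.Helper4.SN330
import Groth.Agent.Helper1.IM13

/-!
# The converse bridge (an everywhere defined immersion `r_{L,φ}` makes `L` very ample) and the
pointwise necessity of the immersion criterion
-/

set_option autoImplicit false
set_option linter.unusedSectionVars false
set_option linter.style.haveILetI false

namespace Groth.Agent.Helper4.SN334

open CategoryTheory CategoryTheory.Limits AlgebraicGeometry TopologicalSpace Opposite RelSpec RelProj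
  HomogeneousLocalization
open Groth.Agent.Helper1 Groth.Agent.Helper1.RP Groth.Agent.Lead.BCMap Groth.Agent.Helper1.SY
open Groth.Agent.Helper4.SN329 Groth.Agent.Helper4.SN330
open scoped HomogeneousIdeal

universe u

noncomputable section

section bridge

variable {X Y PL P' : Scheme.{u}} (q : X ⟶ Y)
  (L : X.Modules) (hL : PicF.IsInvertible L) [L.IsQuasicoherent]
  {𝒮L : QCGrAlg X} {jL : L ⟶ 𝒮L.toModule} (hjL : IsGrSymAlg L 𝒮L jL)
  {pL : PL ⟶ X}
  {chartL : ∀ (U : X.Opens) (hU : IsAffineOpen U),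
    (((pL ⁻¹ᵁ U : PL.Opens) : Scheme.{u}) ≅ Proj (𝒮L.deg U hU))}
  (hPL : IsRelProj 𝒮L pL chartL)
  {E : Y.Modules} [E.IsQuasicoherent] {𝒯' : QCGrAlg Y} {jE : E ⟶ 𝒯'.toModule}
  (hjE : IsGrSymAlg E 𝒯' jE)
  (ι : E ⟶ (Scheme.Modules.pushforward q).obj L) (u' : QGrHom q 𝒯' 𝒮L)
  (hu'j : ∀ (U : Y.Opens) (x : Γ(E, U)),
    (u'.app U).hom ((jE.app U) x) = (jL.app (q ⁻¹ᵁ U)) ((ι.app U) x))
  (hsurj' : ∀ x : X, ∃ (U : Y.Opens) (hU : IsAffineOpen U) (e : Γ(E, U)) (V : X.Opens)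
      (hV : IsAffineOpen V) (hVU : V ≤ q ⁻¹ᵁ U), x ∈ V ∧
        ((𝒮L.deg V hV 1 : AddSubgroup (𝒮L.presheaf.obj (op V))) :
            Set (𝒮L.presheaf.obj (op V))) ⊆
        (Ideal.span {(u'.appLE U V hVU).hom ((jE.app U) e)} : Set (𝒮L.presheaf.obj (op V))))
  {p' : P' ⟶ Y}
  {chart' : ∀ (U : Y.Opens) (hU : IsAffineOpen U),
    (((p' ⁻¹ᵁ U : P'.Opens) : Scheme.{u}) ≅ Proj (𝒯'.deg U hU))}
  (hP' : IsRelProj 𝒯' p' chart')
  (r' : ((RelProj.domQ u' pL chartL : PL.Opens) : Scheme.{u}) ⟶ P')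
  (hr' : IsProjQMapOn u' p' chart' pL chartL (RelProj.domQ u' pL chartL) r')
  (hdom' : RelProj.domQ u' pL chartL = ⊤) (himm' : IsImmersion r')

include hL hjL hPL hjE hu'j hsurj' hP' hr' hdom' himm' in
/-- **the converse bridge** -/
theorem isRelVeryAmple_of_immersion : IsRelVeryAmple q L := by
  haveI : IsIso pL := Groth.Agent.Helper1.PL.isIso_relProj_of_isInvertible hL hjL pL chartL hPL
  obtain ⟨O1, lam, hO1⟩ := TRE.exists_isRelTwist 1 hP'
  haveI := himm'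
  set s' := ((Scheme.Modules.pullbackPushforwardAdjunction q).homEquiv E L).symm ι with hs'
  haveI : Epi s' := epi_of_gen q hL hjL hjE ι u' hu'j hsurj'
  have hu₀ := gradedAt_j q ι u' hu'j
  have hirr := Groth.Agent.Helper4.SN322.hirr₀ q E hjE hjL s' u' hu₀
  obtain ⟨h', hιh, -, hcomm, hg⟩ :=
    Groth.Agent.Helper4.SN321.projQMapOn_eq u' hirr hP' hPL r' hr'
  have hg' : ∀ (U : Y.Opens) (hU : IsAffineOpen U) (U' : X.Opens) (hU' : IsAffineOpen U')
      (hle : U' ≤ q ⁻¹ᵁ U), (pL ⁻¹ᵁ U').ι ≫ h' =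
        (chartL U' hU').hom ≫
          Proj.map ((Groth.Agent.Helper4.SN311.uS q E hjE hjL s').gradedAt U hU U' hU' hle)
            (Groth.Agent.Helper4.SN311.hirr q E hjE hjL s' U hU U' hU' hle) ≫
              emb p' chart' U hU := by
    intro U hU U' hU' hle
    rw [hg U hU U' hU' hle,
      Groth.Agent.Helper4.SN321.projMap_congr
        (Groth.Agent.Helper4.SN322.gradedAt_eq q E hjE hjL s' u' hu₀ U hU U' hU' hle)
        (hirr U hU U' hU' hle) (Groth.Agent.Helper4.SN311.hirr q E hjE hjL s' U hU U' hU' hle)]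
  have hr'' : (inv pL ≫ h') ≫ p' = q := by
    rw [Category.assoc, hcomm, IsIso.inv_hom_id_assoc]
  set φE := CF.can jE hjE.2 hP' hO1 with hφEdef
  have hφE := CF.val_can jE hjE.2 hP' hO1
  obtain ⟨τ, -⟩ := Groth.Agent.Helper4.SN315.exists_tau q E hjE hP' hO1 φE hφE hL hjL hPL s' hg' hr''
  haveI := isIso_ι_of_eq_top _ hdom'
  have hh' : h' = inv (RelProj.domQ u' pL chartL).ι ≫ r' := by
    rw [← hιh, IsIso.inv_hom_id_assoc]
  haveI : IsImmersion h' := by
    rw [hh']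
    infer_instance
  exact ⟨E, inferInstance, 𝒯', jE, hjE, P', p', chart', hP', O1, lam, hO1, inv pL ≫ h',
    inferInstance, hr'', ⟨τ.symm⟩⟩

end bridge

section nec

open Groth.Agent.Helper1.IM Groth.Agent.Helper1.PL Groth.Agent.Helper1.PT

variable {X Y : Scheme.{u}} {q : X ⟶ Y} {𝒮 : QCGrAlg Y} {𝒮L : QCGrAlg X}
  (u : QGrHom q 𝒮 𝒮L)
  {P : Scheme.{u}} {p : P ⟶ Y}
  {chart : ∀ (U : Y.Opens) (hU : IsAffineOpen U),
    (((p ⁻¹ᵁ U : P.Opens) : Scheme.{u}) ≅ Proj (𝒮.deg U hU))}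
  {PL : Scheme.{u}} {pL : PL ⟶ X}
  {chartL : ∀ (U : X.Opens) (hU : IsAffineOpen U),
    (((pL ⁻¹ᵁ U : PL.Opens) : Scheme.{u}) ≅ Proj (𝒮L.deg U hU))}
  {L : X.Modules} [L.IsQuasicoherent] {j : L ⟶ 𝒮L.toModule} (hj : IsGrSymAlg L 𝒮L j)

include hj in
/-- pointwise necessity of the immersion criterion (no finiteness hypothesis) -/
theorem exists_local_family (hL : PicF.IsInvertible L) (hP : IsRelProj 𝒮 p chart)
    (hPL : IsRelProj 𝒮L pL chartL)
    {r : ((domQ u pL chartL : PL.Opens) : Scheme.{u}) ⟶ P}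
    (hr : IsProjQMapOn u p chart pL chartL (domQ u pL chartL) r)
    (hdom : domQ u pL chartL = ⊤) [IsImmersion r] (x : X) :
    ∃ (U : Y.Opens) (hU : IsAffineOpen U) (n : ℕ) (_ : 0 < n) (s : 𝒮.presheaf.obj (op U))
      (hs : s ∈ 𝒮.deg U hU n),
      x ∈ PT.Xw (PT.famOf u U hU s hs) ∧ IsAffineOpen (PT.Xw (PT.famOf u U hU s hs)) ∧
      ∀ τ, IsFrac u U hU n s (PT.Xw (PT.famOf u U hU s hs)) (PT.Xw_le _) τ := by
  obtain ⟨U, hU, n, hn, s, hs, hC, hx⟩ := exists_mem_Xw' u hj hL hP hPL hr hdom r.coborderRange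
      (fun z => subset_coborder ⟨z, rfl⟩) x
  have hle : (Proj.awayι (𝒮.deg U hU) s hs hn ≫ emb p chart U hU).opensRange ≤
      r.coborderRange := by
    rw [opensRange_chartP U hU hn s hs]
    exact hC
  have hV : IsAffineOpen (PT.Xw (PT.famOf u U hU s hs)) :=
    isAffineOpen_Xw u hj hL hP hPL hr U hU hn s hs
      (isAffineOpen_preimage_of_isImmersion r (isAffineOpen_opensRange _) hle)
  refine ⟨U, hU, n, hn, s, hs, hx, hV, fun τ => ?_⟩
  have hcl : IsClosedImmersion (Spec.map (CommRingCat.ofHom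
      (Away.map (u.gradedAt U hU _ hV (PT.Xw_le _)) s))) :=
    isClosedImmersion_chart_of_isImmersion r _ _ _
      (liftEmb_r hr U hU _ hV (PT.Xw_le _) hn s hs)
      (preimage_chart u hj hL hP hPL hr U hU hn s hs _ hV (PT.Xw_le _) rfl) hle
  rw [isClosedImmersion_specMap_iff] at hcl
  exact (away_surjective_iff u hj hL U hU s hs _ hV (PT.Xw_le _)
    (isGenAt_of_le_Xw _ hV (PT.Xw_le _) le_rfl)).mp hcl τ

end nec

end

end Groth.Agent.Helper4.SN334
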