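import Mathlib
import Groth.Prelude.Def_RelProj4
import Groth.Agent.Helper4.SN350
import Groth.Agent.Helper4.SN334

/-!
# An everywhere defined immersion `r_{L,ψ}` makes `L` relatively ample
-/

set_option autoImplicit false
set_option linter.unusedSectionVars false
set_option linter.style.haveILetI false

namespace Groth.Agent.Helper4.SN351

open CategoryTheory CategoryTheory.Limits AlgebraicGeometry TopologicalSpace Opposite RelSpec RelProj
  HomogeneousLocalization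
open Groth.Agent.Helper1 Groth.Agent.Helper1.RP Groth.Agent.Helper1.PL Groth.Agent.Helper1.PT
  Groth.Agent.Helper1.IM
open scoped HomogeneousIdeal

universe u

noncomputable section

variable {X Y : Scheme.{u}} {q : X ⟶ Y} {𝒮 : QCGrAlg Y} {𝒮L : QCGrAlg X}
  (u : QGrHom q 𝒮 𝒮L)
  {P : Scheme.{u}} {p : P ⟶ Y}
  {chart : ∀ (U : Y.Opens) (hU : IsAffineOpen U),
    (((p ⁻¹ᵁ U : P.Opens) : Scheme.{u}) ≅ Proj (𝒮.deg U hU))}
  {PL : Scheme.{u}} {pL : PL ⟶ X}
  {chartL : ∀ (U : X.Opens) (hU : IsAffineOpen U),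
    (((pL ⁻¹ᵁ U : PL.Opens) : Scheme.{u}) ≅ Proj (𝒮L.deg U hU))}
  {L : X.Modules} [L.IsQuasicoherent] {j : L ⟶ 𝒮L.toModule} (hj : IsGrSymAlg L 𝒮L j)

include hj in
/-- the variant of `exists_mem_Xw'` over a prescribed affine open of the base -/
theorem exists_mem_Xw_of_mem (hL : PicF.IsInvertible L) (hP : IsRelProj 𝒮 p chart)
    (hPL : IsRelProj 𝒮L pL chartL)
    {r : ((domQ u pL chartL : PL.Opens) : Scheme.{u}) ⟶ P}
    (hr : IsProjQMapOn u p chart pL chartL (domQ u pL chartL) r)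
    (hdom : domQ u pL chartL = ⊤) (C : P.Opens)
    (hC : ∀ z, r z ∈ C) (U : Y.Opens) (hU : IsAffineOpen U) (x : X) (hx : x ∈ q ⁻¹ᵁ U) :
    ∃ (n : ℕ) (_ : 0 < n) (s : 𝒮.presheaf.obj (op U)) (hs : s ∈ 𝒮.deg U hU n),
      emb p chart U hU ''ᵁ Proj.basicOpen (𝒮.deg U hU) s ≤ C ∧
        x ∈ PT.Xw (PT.famOf u U hU s hs) := by
  haveI : IsIso pL := isIso_relProj_of_isInvertible hL hj pL chartL hPL
  let z₀ : PL := (inv pL) x
  have hz₀x : pL z₀ = x := by
    show pL ((inv pL) x) = x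
    rw [← Scheme.Hom.comp_apply, IsIso.inv_hom_id]
    rfl
  have hz₀ : z₀ ∈ domQ u pL chartL := by rw [hdom]; trivial
  let z : ((domQ u pL chartL : PL.Opens) : Scheme.{u}) := ⟨z₀, hz₀⟩
  have hcomm := projQMapOn_comm hP hPL hr
  have hzU : p (r z) ∈ U := by
    have h1 : p (r z) = q (pL ((domQ u pL chartL).ι z)) := by
      have := congrArg (fun t : _ ⟶ Y => t z) hcomm
      exact this
    rw [h1]
    have h2 : (domQ u pL chartL).ι z = z₀ := rfl
    rw [h2, hz₀x]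
    exact hx
  have hrz : r z ∈ (emb p chart U hU).opensRange := by
    rw [opensRange_emb]; exact hzU
  obtain ⟨y, hy⟩ := hrz
  let W' : (Proj (𝒮.deg U hU)).Opens := emb p chart U hU ⁻¹ᵁ C
  have hyW : y ∈ W' := by
    show (emb p chart U hU) y ∈ C
    rw [hy]; exact hC z
  obtain ⟨d, hd, f, hf, hyf, hfW⟩ := exists_homog_basicOpen_le (𝒮.deg U hU) W' y hyW
  refine ⟨d, hd, f, hf, ?_, ?_⟩
  · rintro _ ⟨y', hy', rfl⟩
    exact hfW hy'
  · have h1 : (domQ u pL chartL).ι z ∈ (domQ u pL chartL).ι ''ᵁ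
        (r ⁻¹ᵁ ((emb p chart U hU) ''ᵁ Proj.basicOpen (𝒮.deg U hU) f)) :=
      ⟨z, ⟨y, hyf, hy⟩, rfl⟩
    rw [PT.image_preimage_basicOpen u hP hPL hr U hU hd f hf,
      PT.locus_eq_preimage _ hj hL hPL hd] at h1
    have h2 : pL z₀ ∈ PT.Xw (PT.famOf u U hU f hf) := h1
    rw [hz₀x] at h2
    exact h2

include hj in
/-- **an everywhere defined immersion `r_{L,ψ}` makes `L` relatively ample** -/
theorem main682 [QuasiCompact q] (hL : PicF.IsInvertible L) (hP : IsRelProj 𝒮 p chart)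
    (hPL : IsRelProj 𝒮L pL chartL)
    {r : ((domQ u pL chartL : PL.Opens) : Scheme.{u}) ⟶ P}
    (hr : IsProjQMapOn u p chart pL chartL (domQ u pL chartL) r)
    (hdom : domQ u pL chartL = ⊤) [IsImmersion r] : RelAmple.IsRelAmple q L := by
  refine ⟨inferInstance, fun V => ?_⟩
  apply Groth.Agent.Helper4.SN350.isAmple_restrict_of_family hj hL (q ⁻¹ᵁ V.1)
    (QuasiCompact.isCompact_preimage (f := q) _ V.1.isOpen V.2.isCompact)
  intro x hx
  obtain ⟨n, hn, s, hs, hC, hxw⟩ := exists_mem_Xw_of_mem u hj hL hP hPL hr hdom r.coborderRange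
    (fun z => subset_coborder ⟨z, rfl⟩) V.1 V.2 x hx
  obtain ⟨m, rfl⟩ := Nat.exists_eq_succ_of_ne_zero hn.ne'
  have hle : (Proj.awayι (𝒮.deg V.1 V.2) s hs hn ≫ emb p chart V.1 V.2).opensRange ≤
      r.coborderRange := by
    rw [opensRange_chartP V.1 V.2 hn s hs]
    exact hC
  have hV : IsAffineOpen (PT.Xw (PT.famOf u V.1 V.2 s hs)) :=
    isAffineOpen_Xw u hj hL hP hPL hr V.1 V.2 hn s hs
      (isAffineOpen_preimage_of_isImmersion r (isAffineOpen_opensRange _) hle)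
  exact ⟨m, PT.famOf u V.1 V.2 s hs, (u.app V.1).hom s, fun V' hV' hT => rfl, hxw, hV⟩

end

end Groth.Agent.Helper4.SN351
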