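import Mathlib
import Groth.Prelude.Def_RelProj4
import Groth.Agent.Helper4.SN351

/-!
# `r_{L,σ}` a topological embedding makes `L` relatively ample
-/

set_option autoImplicit false
set_option linter.unusedSectionVars false
set_option linter.style.haveILetI false

namespace Groth.Agent.Helper4.SN352

open CategoryTheory CategoryTheory.Limits AlgebraicGeometry TopologicalSpace Opposite RelSpec RelProj
  HomogeneousLocalization
open Groth.Agent.Helper1 Groth.Agent.Helper1.RP Groth.Agent.Helper1.PL Groth.Agent.Helper1.PT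
  Groth.Agent.Helper1.IM Groth.Agent.Helper4.TwistExt Groth.Agent.Helper4.TwistLocal
  Groth.Agent.Helper4.SN346 Groth.Agent.Helper4.SN347 Groth.Agent.Helper4.SN348
  Groth.Agent.Helper4.SN349 Groth.Agent.Helper4.SN350 Groth.Agent.Helper1.SY
open scoped HomogeneousIdeal

universe u

noncomputable section

section frames

variable {X : Scheme.{u}}

theorem IsFrame.res {M : X.Modules} {T : X.Opens} {e : Γ(M, T)} (he : IsFrame M T e)
    {V : X.Opens} (hVT : V ≤ T) : IsFrame M V (M.presheaf.map (homOfLE hVT).op e) := by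
  intro V' h
  rw [Groth.Agent.Helper4.QAffSec.res_res]
  exact he V' (h.trans hVT)

variable {L : X.Modules} [L.IsQuasicoherent] {𝒮L : QCGrAlg X} {j : L ⟶ 𝒮L.toModule}
  (hj : IsGrSymAlg L 𝒮L j) (hL : PicF.IsInvertible L)

include hj in
/-- on a framed affine open, `X_σ` is a basic open -/
theorem Xw_inf_eq {T : X.Opens} {e : Γ(L, T)} (he : IsFrame L T e) (n : ℕ)
    (hen : IsFrame (CohB1.tensorPow L n) T (ePow L T e n)) (hT : IsAffineOpen T)
    (W : X.Opens) (hTW : T ≤ W) (t : Γ(CohB1.tensorPow L n, W)) (a : Γ(X, T))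
    (hta : (CohB1.tensorPow L n).presheaf.map (homOfLE hTW).op t = a • ePow L T e n) :
    PT.Xw (secFam hj hL n W t) ⊓ T = X.basicOpen a := by
  have hid : L.presheaf.map (homOfLE (le_refl T)).op e = e :=
    Groth.Agent.Helper4.QAffSec.res_self _ _ _
  have hFt : (frameOf he T le_rfl).t j = jR j T e := by
    rw [frameOf_t, hid]
  have hw : (secFam hj hL n W t).w T hT hTW =
      (𝒮L.str.app (op T)).hom a * ((frameOf he T le_rfl).t j) ^ n := by
    rw [secFam_w, hta, μ_smul, μ_ePow, hFt]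
  apply le_antisymm
  · rintro x ⟨hxw, hxT⟩
    obtain ⟨_, ⟨V, hV, rfl⟩, hxV, hVle⟩ :=
      X.isBasis_affineOpens.exists_subset_of_mem_open
        (show x ∈ ((PT.Xw (secFam hj hL n W t) ⊓ T : X.Opens) : Set X) from ⟨hxw, hxT⟩)
        (PT.Xw (secFam hj hL n W t) ⊓ T).2
    replace hV : IsAffineOpen V := hV
    have hVX : V ≤ PT.Xw (secFam hj hL n W t) := fun z hz => (hVle hz).1
    have hVT : V ≤ T := fun z hz => (hVle hz).2
    have hgen := IM.isGenAt_of_le_Xw (secFam hj hL n W t) hV (hVT.trans hTW) hVX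
    have he' := IsFrame.res he hVT
    have hen' : IsFrame (CohB1.tensorPow L n) V
        (ePow L V (L.presheaf.map (homOfLE hVT).op e) n) := by
      rw [← ePow_res]
      exact IsFrame.res hen hVT
    have hta' : (CohB1.tensorPow L n).presheaf.map (homOfLE (hVT.trans hTW)).op t =
        (X.presheaf.map (homOfLE hVT).op a) •
          ePow L V (L.presheaf.map (homOfLE hVT).op e) n := by
      rw [← Groth.Agent.Helper4.QAffSec.res_res (CohB1.tensorPow L n) hTW hVT t, hta,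
        Scheme.Modules.map_smul, ePow_res]
    have hu : IsUnit (X.presheaf.map (homOfLE hVT).op a) :=
      (isGenAt_iff hj hL he' n _ hV W (hVT.trans hTW) t hta').mp hgen
    have h1 := Scheme.basicOpen_of_isUnit X hu
    rw [Scheme.basicOpen_res] at h1
    have h2 : x ∈ V ⊓ X.basicOpen a := by rw [h1]; exact hxV
    exact h2.2
  · apply le_inf
    · have hgen := PT.isGenAt_basicOpen_of_frame (secFam hj hL n W t) hj hT hTW
        (frameOf he T le_rfl) a hw
      exact le_iSup (fun V : {V : {V : X.affineOpens // V.1 ≤ W} //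
        PT.IsGenAt (secFam hj hL n W t) V.1.1 V.1.2 V.2} => (V.1.1.1 : X.Opens))
        ⟨⟨⟨X.basicOpen a, hT.basicOpen a⟩, (X.basicOpen_le a).trans hTW⟩, hgen⟩
    · exact X.basicOpen_le a

end frames

section main

variable {X Y : Scheme.{u}} {q : X ⟶ Y} {𝒮 : QCGrAlg Y} {𝒮L : QCGrAlg X}
  (u : QGrHom q 𝒮 𝒮L)
  {P : Scheme.{u}} {p : P ⟶ Y}
  {chart : ∀ (U : Y.Opens) (hU : IsAffineOpen U),
    (((p ⁻¹ᵁ U : P.Opens) : Scheme.{u}) ≅ Proj (𝒮.deg U hU))}
  {PL : Scheme.{u}} {pL : PL ⟶ X}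
  {chartL : ∀ (U : X.Opens) (hU : IsAffineOpen U),
    (((pL ⁻¹ᵁ U : PL.Opens) : Scheme.{u}) ≅ Proj (𝒮L.deg U hU))}
  {L : X.Modules} [L.IsQuasicoherent] {j : L ⟶ 𝒮L.toModule} (hj : IsGrSymAlg L 𝒮L j)

include hj in
/-- the variant of `exists_mem_Xw'` over a prescribed affine open of the base, with an open
`C` of `P` only required to contain the image of the points over `x` -/
theorem exists_mem_Xw_of_mem' (hL : PicF.IsInvertible L) (hP : IsRelProj 𝒮 p chart)
    (hPL : IsRelProj 𝒮L pL chartL)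
    {r : ((domQ u pL chartL : PL.Opens) : Scheme.{u}) ⟶ P}
    (hr : IsProjQMapOn u p chart pL chartL (domQ u pL chartL) r)
    (hdom : domQ u pL chartL = ⊤) (C : P.Opens) (x : X)
    (hC : ∀ z, pL ((domQ u pL chartL).ι z) = x → r z ∈ C)
    (U : Y.Opens) (hU : IsAffineOpen U) (hx : x ∈ q ⁻¹ᵁ U) :
    ∃ (n : ℕ) (_ : 0 < n) (s : 𝒮.presheaf.obj (op U)) (hs : s ∈ 𝒮.deg U hU n),
      emb p chart U hU ''ᵁ Proj.basicOpen (𝒮.deg U hU) s ≤ C ∧
        x ∈ PT.Xw (PT.famOf u U hU s hs) := by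
  haveI : IsIso pL := isIso_relProj_of_isInvertible hL hj pL chartL hPL
  let z₀ : PL := (inv pL) x
  have hz₀x : pL z₀ = x := by
    show pL ((inv pL) x) = x
    rw [← Scheme.Hom.comp_apply, IsIso.inv_hom_id]
    rfl
  have hz₀ : z₀ ∈ domQ u pL chartL := by rw [hdom]; trivial
  let z : ((domQ u pL chartL : PL.Opens) : Scheme.{u}) := ⟨z₀, hz₀⟩
  have hcomm := projQMapOn_comm hP hPL hr
  have hzU : p (r z) ∈ U := by
    have h1 : p (r z) = q (pL ((domQ u pL chartL).ι z)) := by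
      have := congrArg (fun t : _ ⟶ Y => t z) hcomm
      exact this
    rw [h1]
    have h2 : (domQ u pL chartL).ι z = z₀ := rfl
    rw [h2, hz₀x]
    exact hx
  have hrz : r z ∈ (emb p chart U hU).opensRange := by
    rw [opensRange_emb]; exact hzU
  obtain ⟨y, hy⟩ := hrz
  let W' : (Proj (𝒮.deg U hU)).Opens := emb p chart U hU ⁻¹ᵁ C
  have hyW : y ∈ W' := by
    show (emb p chart U hU) y ∈ C
    rw [hy]; exact hC z hz₀x
  obtain ⟨d, hd, f, hf, hyf, hfW⟩ := exists_homog_basicOpen_le (𝒮.deg U hU) W' y hyW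
  refine ⟨d, hd, f, hf, ?_, ?_⟩
  · rintro _ ⟨y', hy', rfl⟩
    exact hfW hy'
  · have h1 : (domQ u pL chartL).ι z ∈ (domQ u pL chartL).ι ''ᵁ
        (r ⁻¹ᵁ ((emb p chart U hU) ''ᵁ Proj.basicOpen (𝒮.deg U hU) f)) :=
      ⟨z, ⟨y, hyf, hy⟩, rfl⟩
    rw [PT.image_preimage_basicOpen u hP hPL hr U hU hd f hf,
      PT.locus_eq_preimage _ hj hL hPL hd] at h1
    have h2 : pL z₀ ∈ PT.Xw (PT.famOf u U hU f hf) := h1
    rw [hz₀x] at h2
    exact h2

include hj in
/-- **`r_{L,σ}` everywhere defined and a topological embedding makes `L` relatively ample** -/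
theorem main680 [QuasiCompact q] (hL : PicF.IsInvertible L) (hP : IsRelProj 𝒮 p chart)
    (hPL : IsRelProj 𝒮L pL chartL)
    {r : ((domQ u pL chartL : PL.Opens) : Scheme.{u}) ⟶ P}
    (hr : IsProjQMapOn u p chart pL chartL (domQ u pL chartL) r)
    (hdom : domQ u pL chartL = ⊤) (hemb : Topology.IsEmbedding r.base) :
    RelAmple.IsRelAmple q L := by
  haveI : IsIso pL := isIso_relProj_of_isInvertible hL hj pL chartL hPL
  refine ⟨inferInstance, fun V => ?_⟩
  apply Groth.Agent.Helper4.SN350.isAmple_restrict_of_family hj hL (q ⁻¹ᵁ V.1)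
    (QuasiCompact.isCompact_preimage (f := q) _ V.1.isOpen V.2.isCompact)
  intro x hx
  obtain ⟨T, e, hxT, hTW, hT, he, hen⟩ := exists_frames L hL (q ⁻¹ᵁ V.1) x hx
  -- the open of `P` cutting out the preimage of `T`
  obtain ⟨C, hCo, hCeq⟩ := hemb.isInducing.isOpen_iff.mp
    (((domQ u pL chartL).ι ⁻¹ᵁ (pL ⁻¹ᵁ T)).2)
  obtain ⟨n, hn, s, hs, hC, hxw⟩ := exists_mem_Xw_of_mem' u hj hL hP hPL hr hdom ⟨C, hCo⟩ x
    (fun z hz => by
      have : z ∈ r.base ⁻¹' C := by
        rw [hCeq]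
        show pL ((domQ u pL chartL).ι z) ∈ T
        rw [hz]; exact hxT
      exact this) V.1 V.2 hx
  obtain ⟨m, rfl⟩ := Nat.exists_eq_succ_of_ne_zero hn.ne'
  -- `X_σ ⊆ T`
  have hXT : PT.Xw (PT.famOf u V.1 V.2 s hs) ≤ T := by
    intro x' hx'
    let z₀ : PL := (inv pL) x'
    have hz₀x : pL z₀ = x' := by
      show pL ((inv pL) x') = x'
      rw [← Scheme.Hom.comp_apply, IsIso.inv_hom_id]
      rfl
    have h1 : z₀ ∈ (domQ u pL chartL).ι ''ᵁ
        (r ⁻¹ᵁ ((emb p chart V.1 V.2) ''ᵁ Proj.basicOpen (𝒮.deg V.1 V.2) s)) := by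
      rw [PT.image_preimage_basicOpen u hP hPL hr V.1 V.2 hn s hs,
        PT.locus_eq_preimage _ hj hL hPL hn]
      show pL z₀ ∈ PT.Xw (PT.famOf u V.1 V.2 s hs)
      rw [hz₀x]; exact hx'
    obtain ⟨z, hz, hzz⟩ := h1
    have h2 : z ∈ r.base ⁻¹' C := hC hz
    rw [hCeq] at h2
    have h3 : pL ((domQ u pL chartL).ι z) ∈ T := h2
    have hzz' : (domQ u pL chartL).ι z = z₀ := hzz
    rw [hzz', hz₀x] at h3
    exact h3
  obtain ⟨t, ht⟩ := exists_secFam_eq hj hL (PT.famOf u V.1 V.2 s hs) ((u.app V.1).hom s)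
    (fun V' hV' hT' => rfl)
  obtain ⟨a, ha⟩ := (hen (m + 1) T le_rfl).1
    ((CohB1.tensorPow L (m + 1)).presheaf.map (homOfLE hTW).op t)
  rw [Groth.Agent.Helper4.QAffSec.res_self] at ha
  have hG := Xw_inf_eq hj hL he (m + 1) (hen (m + 1)) hT (q ⁻¹ᵁ V.1) hTW t a ha
  rw [ht, inf_eq_left.mpr hXT] at hG
  refine ⟨m, PT.famOf u V.1 V.2 s hs, (u.app V.1).hom s, fun V' hV' hT' => rfl, hxw, ?_⟩
  rw [hG]
  exact hT.basicOpen a

end main

end

end Groth.Agent.Helper4.SN352
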