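import Mathlib
import Groth.Prelude.Def_RelProj4
import Groth.Agent.Helper4.SN352
import Groth.Agent.Helper4.StalkDict
import Groth.Agent.Helper4.QCAlgGen

/-!
# The qcqs lemma for homogeneous sections of the symmetric algebra of an invertible module
-/

set_option autoImplicit false
set_option linter.unusedSectionVars false
set_option linter.style.haveILetI false

namespace Groth.Agent.Helper4.SN353

open CategoryTheory CategoryTheory.Limits AlgebraicGeometry TopologicalSpace Opposite RelSpec RelProj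
  HomogeneousLocalization
open Groth.Agent.Helper1 Groth.Agent.Helper1.RP Groth.Agent.Helper1.PL Groth.Agent.Helper1.PT
  Groth.Agent.Helper1.IM Groth.Agent.Helper4.TwistExt Groth.Agent.Helper4.TwistLocal
  Groth.Agent.Helper4.SN346 Groth.Agent.Helper4.SN347 Groth.Agent.Helper4.SN348
  Groth.Agent.Helper4.SN349 Groth.Agent.Helper4.SN350 Groth.Agent.Helper4.SN352
  Groth.Agent.Helper1.SY Groth.Agent.Helper1.SG
open scoped HomogeneousIdeal

universe u

noncomputable section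

variable {X : Scheme.{u}} {L : X.Modules} [L.IsQuasicoherent] {𝒮L : QCGrAlg X}
  {j : L ⟶ 𝒮L.toModule} (hj : IsGrSymAlg L 𝒮L j) (hL : PicF.IsInvertible L)
  (n : ℕ) (W : X.Opens) (t : Γ(CohB1.tensorPow L n, W))

/-- the homogeneous section of `𝒮L` named by `t` -/
abbrev σ : 𝒮L.presheaf.obj (op W) := toR 𝒮L.toQCAlg ((μ 𝒮L.toQCAlg j n).app W t)

/-- restriction in the sheaf of rings -/
abbrev rs {U V : X.Opens} (h : V ≤ U) (b : 𝒮L.presheaf.obj (op U)) : 𝒮L.presheaf.obj (op V) :=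
  (𝒮L.presheaf.map (homOfLE h).op).hom b

theorem rs_rs {U V V' : X.Opens} (h : V ≤ U) (h' : V' ≤ V) (b : 𝒮L.presheaf.obj (op U)) :
    rs h' (rs h b) = rs (h'.trans h) b := by
  unfold rs
  rw [← CommRingCat.comp_apply, ← Functor.map_comp]
  rfl

include hL in
/-- local data around a point -/
theorem exists_local (x : X) (hx : x ∈ W) :
    ∃ (T : X.Opens) (e : Γ(L, T)) (a : Γ(X, T)) (hTW : T ≤ W), x ∈ T ∧ IsAffineOpen T ∧
      IsFrame L T e ∧ (∀ k, IsFrame (CohB1.tensorPow L k) T (ePow L T e k)) ∧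
      (CohB1.tensorPow L n).presheaf.map (homOfLE hTW).op t = a • ePow L T e n := by
  obtain ⟨T, e, hxT, hTW, hT, he, hen⟩ := exists_frames L hL W x hx
  obtain ⟨a, ha⟩ := (hen n T le_rfl).1 ((CohB1.tensorPow L n).presheaf.map (homOfLE hTW).op t)
  rw [Groth.Agent.Helper4.QAffSec.res_self] at ha
  exact ⟨T, e, a, hTW, hxT, hT, he, hen, ha⟩

theorem rs_σ {T : X.Opens} (hTW : T ≤ W) (e : Γ(L, T)) (a : Γ(X, T))
    (hta : (CohB1.tensorPow L n).presheaf.map (homOfLE hTW).op t = a • ePow L T e n) :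
    rs hTW (σ (j := j) n W t) = (𝒮L.str.app (op T)).hom a * (jR j T e) ^ n := by
  unfold rs σ
  rw [← μ_res, hta, μ_smul, μ_ePow]

include hj hL in
/-- the local form of the kill lemma -/
theorem exists_pow_mul_eq_zero_local (b : 𝒮L.presheaf.obj (op W))
    (hb : ∀ (V : X.Opens) (hV : IsAffineOpen V) (hVW : V ≤ W),
      PT.IsGenAt (secFam hj hL n W t) V hV hVW → rs hVW b = 0) (x : X) (hx : x ∈ W) :
    ∃ (T : X.Opens) (hTW : T ≤ W) (k : ℕ), x ∈ T ∧ ∀ k', k ≤ k' →
      rs hTW ((σ (j := j) n W t) ^ k' * b) = 0 := by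
  obtain ⟨T, e, a, hTW, hxT, hT, he, hen, hta⟩ := exists_local hL n W t x hx
  have hG := Xw_inf_eq hj hL he n (hen n) hT W hTW t a hta
  have hDX : X.basicOpen a ≤ PT.Xw (secFam hj hL n W t) := by
    rw [← hG]; exact inf_le_left
  have hDW : X.basicOpen a ≤ W := (X.basicOpen_le a).trans hTW
  have hgen := IM.isGenAt_of_le_Xw (secFam hj hL n W t) (hT.basicOpen a) hDW hDX
  have h0 := hb _ (hT.basicOpen a) hDW hgen
  have hm : 𝒮L.toModule.presheaf.map (homOfLE (X.basicOpen_le a)).op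
      (ofR 𝒮L.toQCAlg (rs hTW b)) = 0 := by
    change rs (X.basicOpen_le a) (rs hTW b) = 0
    rw [rs_rs]; exact h0
  obtain ⟨k, hk⟩ := Groth.Agent.Helper4.StalkDict.exists_pow_smul_eq_zero hT 𝒮L.toModule a
    (ofR 𝒮L.toQCAlg (rs hTW b)) hm
  have hk' : (𝒮L.str.app (op T)).hom a ^ k * rs hTW b = 0 := by
    rw [← map_pow]; exact hk
  refine ⟨T, hTW, k, hxT, fun k' hkk' => ?_⟩
  have h1 : rs hTW ((σ (j := j) n W t) ^ k' * b) = (rs hTW (σ (j := j) n W t)) ^ k' * rs hTW b := by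
    unfold rs
    rw [map_mul, map_pow]
  rw [h1, rs_σ n W t hTW e a hta, mul_pow, ← Nat.sub_add_cancel hkk', pow_add]
  calc (𝒮L.str.app (op T)).hom a ^ (k' - k) * (𝒮L.str.app (op T)).hom a ^ k *
        ((jR j T e) ^ n) ^ (k' - k + k) * rs hTW b
      = (𝒮L.str.app (op T)).hom a ^ (k' - k) * ((jR j T e) ^ n) ^ (k' - k + k) *
        ((𝒮L.str.app (op T)).hom a ^ k * rs hTW b) := by ring
    _ = 0 := by rw [hk', mul_zero]

include hj hL in
/-- **kill lemma**: a section of `𝒮L` over a quasi-compact open vanishing on `X_σ` is killed by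
a power of `σ` -/
theorem exists_pow_mul_eq_zero (hW : IsCompact (W : Set X)) (b : 𝒮L.presheaf.obj (op W))
    (hb : ∀ (V : X.Opens) (hV : IsAffineOpen V) (hVW : V ≤ W),
      PT.IsGenAt (secFam hj hL n W t) V hV hVW → rs hVW b = 0) :
    ∃ k : ℕ, (σ (j := j) n W t) ^ k * b = 0 := by
  choose T hTW k hxT hk using exists_pow_mul_eq_zero_local hj hL n W t b hb
  obtain ⟨S, hS⟩ := hW.elim_finite_subcover (fun x : W => ((T x.1 x.2 : X.Opens) : Set X))
    (fun x => (T x.1 x.2).2) (fun x hx => Set.mem_iUnion.mpr ⟨⟨x, hx⟩, hxT x hx⟩)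
  refine ⟨S.sup (fun x => k x.1 x.2), ?_⟩
  refine TopCat.Sheaf.eq_of_locally_eq' (⟨𝒮L.presheaf, 𝒮L.isSheaf⟩ : TopCat.Sheaf CommRingCat X)
    (fun x : S => T x.1.1 x.1.2) W (fun x => homOfLE (hTW x.1.1 x.1.2)) ?_ _ _ ?_
  · intro z hz
    have := hS hz
    simp only [Set.mem_iUnion] at this
    obtain ⟨x, hxS, hzx⟩ := this
    exact Opens.mem_iSup.mpr ⟨⟨x, hxS⟩, hzx⟩
  · intro x
    have h1 := hk x.1.1 x.1.2 (S.sup (fun x => k x.1 x.2))
      (Finset.le_sup (f := fun x : W => k x.1 x.2) x.2)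
    change rs (hTW x.1.1 x.1.2) _ = rs (hTW x.1.1 x.1.2) 0
    rw [h1]
    exact (map_zero _).symm

end

end Groth.Agent.Helper4.SN353
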