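import Mathlib
import Groth.Prelude.Def_RelProj4
import Groth.Agent.Helper4.SN353

/-!
# The extension half of the qcqs lemma for homogeneous sections of `Sym L`
-/

set_option autoImplicit false
set_option linter.unusedSectionVars false
set_option linter.style.haveILetI false

namespace Groth.Agent.Helper4.SN354

open CategoryTheory CategoryTheory.Limits AlgebraicGeometry TopologicalSpace Opposite RelSpec RelProj
  HomogeneousLocalization
open Groth.Agent.Helper1 Groth.Agent.Helper1.RP Groth.Agent.Helper1.PL Groth.Agent.Helper1.PT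
  Groth.Agent.Helper1.IM Groth.Agent.Helper4.TwistExt Groth.Agent.Helper4.TwistLocal
  Groth.Agent.Helper4.SN346 Groth.Agent.Helper4.SN347 Groth.Agent.Helper4.SN348
  Groth.Agent.Helper4.SN349 Groth.Agent.Helper4.SN350 Groth.Agent.Helper4.SN352
  Groth.Agent.Helper4.SN353 Groth.Agent.Helper1.SY Groth.Agent.Helper1.SG
open scoped HomogeneousIdeal

universe u

noncomputable section

variable {X : Scheme.{u}} {L : X.Modules} [L.IsQuasicoherent] {𝒮L : QCGrAlg X}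
  {j : L ⟶ 𝒮L.toModule} (hj : IsGrSymAlg L 𝒮L j) (hL : PicF.IsInvertible L)
  (n : ℕ) (W : X.Opens) (t : Γ(CohB1.tensorPow L n, W))

/-- local data -/
def IsLoc (T : X.Opens) (hTW : T ≤ W) (e : Γ(L, T)) (a : Γ(X, T)) : Prop :=
  IsAffineOpen T ∧ IsFrame L T e ∧ (∀ k, IsFrame (CohB1.tensorPow L k) T (ePow L T e k)) ∧
    (CohB1.tensorPow L n).presheaf.map (homOfLE hTW).op t = a • ePow L T e n

/-- the local candidate -/
def cand (T : X.Opens) (e : Γ(L, T)) (c : Γ(X, T)) (K : ℕ) : 𝒮L.presheaf.obj (op T) :=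
  (𝒮L.str.app (op T)).hom c * (jR j T e) ^ (n * K)

/-- restriction of functions -/
abbrev ro {U V : X.Opens} (h : V ≤ U) (r : Γ(X, U)) : Γ(X, V) :=
  (X.presheaf.map (homOfLE h).op).hom r

theorem rs_str {U V : X.Opens} (h : V ≤ U) (r : Γ(X, U)) :
    rs (𝒮L := 𝒮L) h ((𝒮L.str.app (op U)).hom r) = (𝒮L.str.app (op V)).hom (ro h r) :=
  IM.str_res h r

theorem rs_jR {U V : X.Opens} (h : V ≤ U) (e : Γ(L, U)) :
    rs h (jR j U e) = jR j V (L.presheaf.map (homOfLE h).op e) := by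
  unfold rs jR
  exact (StalkExact.app_res j (homOfLE h) e).symm

include hj in
theorem cand_mem (T : X.Opens) (hTW : T ≤ W) (e : Γ(L, T)) (a : Γ(X, T))
    (hloc : IsLoc n W t T hTW e a) (c : Γ(X, T)) (K : ℕ) :
    cand (j := j) n T e c K ∈ 𝒮L.deg T hloc.1 (n * K) := by
  have hid : L.presheaf.map (homOfLE (le_refl T)).op e = e :=
    Groth.Agent.Helper4.QAffSec.res_self _ _ _
  have h1 := (frameOf hloc.2.1 T le_rfl).term_mem hj hloc.1 c (n * K)
  rw [frameOf_t, hid] at h1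
  exact h1

include hj hL in
/-- **Step 1**: the local candidates -/
theorem exists_cand_local (τ₀ : Γ(X, PT.Xw (secFam hj hL n W t))) (x : X) (hx : x ∈ W) :
    ∃ (T : X.Opens) (hTW : T ≤ W) (e : Γ(L, T)) (a : Γ(X, T)) (_ : IsLoc n W t T hTW e a)
      (hD : X.basicOpen a ≤ PT.Xw (secFam hj hL n W t)) (k : ℕ) (c : Γ(X, T)), x ∈ T ∧
      ∀ K, k ≤ K → rs (X.basicOpen_le a) (cand (j := j) n T e (a ^ (K - k) * c) K) =
        (𝒮L.str.app (op (X.basicOpen a))).hom (ro hD τ₀) *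
          (rs ((X.basicOpen_le a).trans hTW) (σ (j := j) n W t)) ^ K := by
  obtain ⟨T, e, a, hTW, hxT, hT, he, hen, hta⟩ := exists_local hL n W t x hx
  have hG := Xw_inf_eq hj hL he n (hen n) hT W hTW t a hta
  have hD : X.basicOpen a ≤ PT.Xw (secFam hj hL n W t) := by
    rw [← hG]; exact inf_le_left
  obtain ⟨k, c₀, hc⟩ := Groth.Agent.Helper4.StalkDict.exists_pow_smul_eq_res hT
    (Coh.structureModule X) a (ro hD τ₀)
  obtain ⟨c, hcc⟩ : ∃ c : Γ(X, T), c = Groth.Agent.Helper4.GenLoc.toFn c₀ := ⟨_, rfl⟩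
  rw [show c₀ = (c : Γ(Coh.structureModule X, T)) from hcc.symm ▸ rfl] at hc
  have hc' : ro (X.basicOpen_le a) a ^ k * ro hD τ₀ = ro (X.basicOpen_le a) c := by
    have : ro (X.basicOpen_le a) (a ^ k) * ro hD τ₀ = ro (X.basicOpen_le a) c := hc
    rw [← this]
    unfold ro
    rw [map_pow]
  refine ⟨T, hTW, e, a, ⟨hT, he, hen, hta⟩, hD, k, c, hxT, fun K hK => ?_⟩
  have h1 : rs ((X.basicOpen_le a).trans hTW) (σ (j := j) n W t) =
      (𝒮L.str.app (op (X.basicOpen a))).hom (ro (X.basicOpen_le a) a) *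
        (rs (X.basicOpen_le a) (jR j T e)) ^ n := by
    rw [← rs_rs hTW (X.basicOpen_le a), rs_σ n W t hTW e a hta]
    unfold rs
    rw [map_mul, map_pow]
    congr 1
    exact IM.str_res (X.basicOpen_le a) a
  have h2 : rs (X.basicOpen_le a) (cand (j := j) n T e (a ^ (K - k) * c) K) =
      (𝒮L.str.app (op (X.basicOpen a))).hom (ro (X.basicOpen_le a) (a ^ (K - k) * c)) *
        (rs (X.basicOpen_le a) (jR j T e)) ^ (n * K) := by
    unfold cand rs
    rw [map_mul, map_pow]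
    congr 1
    exact IM.str_res (X.basicOpen_le a) _
  have h3 : ro (X.basicOpen_le a) (a ^ (K - k) * c) =
      ro hD τ₀ * ro (X.basicOpen_le a) a ^ K := by
    have : ro (X.basicOpen_le a) (a ^ (K - k) * c) =
        ro (X.basicOpen_le a) a ^ (K - k) * ro (X.basicOpen_le a) c := by
      unfold ro
      rw [map_mul, map_pow]
    rw [this, ← hc', ← mul_assoc, ← pow_add, Nat.sub_add_cancel hK, mul_comm]
  rw [h2, h1, h3, map_mul, map_pow, mul_pow, ← pow_mul]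
  ring

include hj hL in
theorem isGenAt_res {W' : X.Opens} (hW' : W' ≤ W) (V : X.Opens) (hV : IsAffineOpen V)
    (hVW' : V ≤ W')
    (h : PT.IsGenAt (secFam hj hL n W' ((CohB1.tensorPow L n).presheaf.map (homOfLE hW').op t))
      V hV hVW') :
    PT.IsGenAt (secFam hj hL n W t) V hV (hVW'.trans hW') := by
  have e : (secFam hj hL n W' ((CohB1.tensorPow L n).presheaf.map (homOfLE hW').op t)).w V hV
      hVW' = (secFam hj hL n W t).w V hV (hVW'.trans hW') := by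
    rw [secFam_w, secFam_w, Groth.Agent.Helper4.QAffSec.res_res]
  intro b hb
  rw [← e]
  exact h b hb

theorem σ_res {W' : X.Opens} (hW' : W' ≤ W) :
    σ (j := j) n W' ((CohB1.tensorPow L n).presheaf.map (homOfLE hW').op t) =
      rs hW' (σ (j := j) n W t) :=
  μ_res 𝒮L.toQCAlg j n hW' t

include hj hL in
/-- **Step 2**: two local candidates agree on the overlap after multiplying by a power of `σ` -/
theorem exists_overlap (hWq : IsQuasiSeparated (W : Set X))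
    (τ₀ : Γ(X, PT.Xw (secFam hj hL n W t))) (K : ℕ)
    (T₁ : X.Opens) (hTW₁ : T₁ ≤ W) (e₁ : Γ(L, T₁)) (a₁ : Γ(X, T₁))
    (hloc₁ : IsLoc n W t T₁ hTW₁ e₁ a₁)
    (hD₁ : X.basicOpen a₁ ≤ PT.Xw (secFam hj hL n W t)) (c₁ : Γ(X, T₁))
    (hval₁ : rs (X.basicOpen_le a₁) (cand (j := j) n T₁ e₁ c₁ K) =
        (𝒮L.str.app (op (X.basicOpen a₁))).hom (ro hD₁ τ₀) *
          (rs ((X.basicOpen_le a₁).trans hTW₁) (σ (j := j) n W t)) ^ K)
    (T₂ : X.Opens) (hTW₂ : T₂ ≤ W) (e₂ : Γ(L, T₂)) (a₂ : Γ(X, T₂))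
    (hloc₂ : IsLoc n W t T₂ hTW₂ e₂ a₂)
    (hD₂ : X.basicOpen a₂ ≤ PT.Xw (secFam hj hL n W t)) (c₂ : Γ(X, T₂))
    (hval₂ : rs (X.basicOpen_le a₂) (cand (j := j) n T₂ e₂ c₂ K) =
        (𝒮L.str.app (op (X.basicOpen a₂))).hom (ro hD₂ τ₀) *
          (rs ((X.basicOpen_le a₂).trans hTW₂) (σ (j := j) n W t)) ^ K) :
    ∃ r : ℕ, ∀ r', r ≤ r' →
      (rs ((inf_le_left : T₁ ⊓ T₂ ≤ T₁).trans hTW₁) (σ (j := j) n W t)) ^ r' *
          rs (inf_le_left : T₁ ⊓ T₂ ≤ T₁) (cand (j := j) n T₁ e₁ c₁ K) =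
        (rs ((inf_le_left : T₁ ⊓ T₂ ≤ T₁).trans hTW₁) (σ (j := j) n W t)) ^ r' *
          rs (inf_le_right : T₁ ⊓ T₂ ≤ T₂) (cand (j := j) n T₂ e₂ c₂ K) := by
  have h12W : T₁ ⊓ T₂ ≤ W := (inf_le_left : T₁ ⊓ T₂ ≤ T₁).trans hTW₁
  have hc : IsCompact ((T₁ ⊓ T₂ : X.Opens) : Set X) :=
    hWq (T₁ : Set X) (T₂ : Set X) hTW₁ T₁.2 hloc₁.1.isCompact hTW₂ T₂.2 hloc₂.1.isCompact
  set d := rs (inf_le_left : T₁ ⊓ T₂ ≤ T₁) (cand (j := j) n T₁ e₁ c₁ K) -
    rs (inf_le_right : T₁ ⊓ T₂ ≤ T₂) (cand (j := j) n T₂ e₂ c₂ K) with hd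
  have hG₁ := Xw_inf_eq hj hL hloc₁.2.1 n (hloc₁.2.2.1 n) hloc₁.1 W hTW₁ t a₁ hloc₁.2.2.2
  have hG₂ := Xw_inf_eq hj hL hloc₂.2.1 n (hloc₂.2.2.1 n) hloc₂.1 W hTW₂ t a₂ hloc₂.2.2.2
  have hvan : ∀ (V : X.Opens) (hV : IsAffineOpen V) (hVW : V ≤ T₁ ⊓ T₂),
      PT.IsGenAt (secFam hj hL n (T₁ ⊓ T₂)
        ((CohB1.tensorPow L n).presheaf.map (homOfLE h12W).op t)) V hV hVW → rs hVW d = 0 := by
    intro V hV hVW hgen
    have hgen' := isGenAt_res hj hL n W t h12W V hV hVW hgen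
    have hVX : V ≤ PT.Xw (secFam hj hL n W t) :=
      le_iSup (fun V : {V : {V : X.affineOpens // V.1 ≤ W} //
        PT.IsGenAt (secFam hj hL n W t) V.1.1 V.1.2 V.2} => (V.1.1.1 : X.Opens))
        ⟨⟨⟨V, hV⟩, hVW.trans h12W⟩, hgen'⟩
    have hV1 : V ≤ X.basicOpen a₁ := by
      rw [← hG₁]; exact le_inf hVX (hVW.trans inf_le_left)
    have hV2 : V ≤ X.basicOpen a₂ := by
      rw [← hG₂]; exact le_inf hVX (hVW.trans inf_le_right)
    have k1 : rs hVW (rs (inf_le_left : T₁ ⊓ T₂ ≤ T₁) (cand (j := j) n T₁ e₁ c₁ K)) =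
        (𝒮L.str.app (op V)).hom (ro hVX τ₀) *
          (rs (hVW.trans h12W) (σ (j := j) n W t)) ^ K := by
      rw [rs_rs, ← rs_rs (X.basicOpen_le a₁) hV1, hval₁]
      unfold rs
      rw [map_mul, map_pow]
      congr 1
      · rw [IM.str_res hV1]
        congr 1
        unfold ro
        rw [← CommRingCat.comp_apply, ← Functor.map_comp]
        rfl
      · congr 1
        rw [← CommRingCat.comp_apply, ← Functor.map_comp]
        rfl
    have k2 : rs hVW (rs (inf_le_right : T₁ ⊓ T₂ ≤ T₂) (cand (j := j) n T₂ e₂ c₂ K)) =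
        (𝒮L.str.app (op V)).hom (ro hVX τ₀) *
          (rs (hVW.trans h12W) (σ (j := j) n W t)) ^ K := by
      rw [rs_rs, ← rs_rs (X.basicOpen_le a₂) hV2, hval₂]
      unfold rs
      rw [map_mul, map_pow]
      congr 1
      · rw [IM.str_res hV2]
        congr 1
        unfold ro
        rw [← CommRingCat.comp_apply, ← Functor.map_comp]
        rfl
      · congr 1
        rw [← CommRingCat.comp_apply, ← Functor.map_comp]
        rfl
    have k3 : rs hVW d = rs hVW (rs (inf_le_left : T₁ ⊓ T₂ ≤ T₁) (cand (j := j) n T₁ e₁ c₁ K)) -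
        rs hVW (rs (inf_le_right : T₁ ⊓ T₂ ≤ T₂) (cand (j := j) n T₂ e₂ c₂ K)) := by
      rw [hd]
      unfold rs
      rw [map_sub]
    rw [k3, k1, k2, sub_self]
  obtain ⟨r, hr⟩ := exists_pow_mul_eq_zero hj hL n (T₁ ⊓ T₂)
    ((CohB1.tensorPow L n).presheaf.map (homOfLE h12W).op t) hc d hvan
  rw [σ_res n W t h12W] at hr
  refine ⟨r, fun r' hr' => ?_⟩
  have h1 : (rs h12W (σ (j := j) n W t)) ^ r' * d = 0 := by
    rw [← Nat.sub_add_cancel hr', pow_add, mul_assoc, hr, mul_zero]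
  rw [hd, mul_sub] at h1
  exact sub_eq_zero.mp h1

end

end Groth.Agent.Helper4.SN354
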