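import Mathlib
import Groth.Prelude.Def_RelProj4
import Groth.Agent.Helper4.SN354

/-!
# The extension half of the qcqs lemma: gluing
-/

set_option autoImplicit false
set_option linter.unusedSectionVars false
set_option linter.style.haveILetI false

namespace Groth.Agent.Helper4.SN355

open CategoryTheory CategoryTheory.Limits AlgebraicGeometry TopologicalSpace Opposite RelSpec RelProj
  HomogeneousLocalization
open Groth.Agent.Helper1 Groth.Agent.Helper1.RP Groth.Agent.Helper1.PL Groth.Agent.Helper1.PT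
  Groth.Agent.Helper1.IM Groth.Agent.Helper4.TwistExt Groth.Agent.Helper4.TwistLocal
  Groth.Agent.Helper4.SN346 Groth.Agent.Helper4.SN347 Groth.Agent.Helper4.SN348
  Groth.Agent.Helper4.SN349 Groth.Agent.Helper4.SN350 Groth.Agent.Helper4.SN352
  Groth.Agent.Helper4.SN353 Groth.Agent.Helper4.SN354 Groth.Agent.Helper1.SY Groth.Agent.Helper1.SG
open scoped HomogeneousIdeal

universe u

noncomputable section

variable {X : Scheme.{u}} {L : X.Modules} [L.IsQuasicoherent] {𝒮L : QCGrAlg X}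
  {j : L ⟶ 𝒮L.toModule} (hj : IsGrSymAlg L 𝒮L j) (hL : PicF.IsInvertible L)
  (n : ℕ) (W : X.Opens) (t : Γ(CohB1.tensorPow L n, W))

theorem rs_mul {U V : X.Opens} (h : V ≤ U) (b c : 𝒮L.presheaf.obj (op U)) :
    rs h (b * c) = rs h b * rs h c := by
  unfold rs
  rw [map_mul]

theorem rs_pow {U V : X.Opens} (h : V ≤ U) (b : 𝒮L.presheaf.obj (op U)) (k : ℕ) :
    rs h (b ^ k) = rs h b ^ k := by
  unfold rs
  rw [map_pow]

/-- homogeneity is local: a section over `W` whose restrictions to the members of an affine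
cover are homogeneous of degree `d` is homogeneous of degree `d` on every affine open of `W`. -/
theorem homog_of_cover {ι : Type*} (d : ℕ) (T : ι → X.Opens) (hT : ∀ i, IsAffineOpen (T i))
    (hTW : ∀ i, T i ≤ W) (hcover : W ≤ iSup T) (b : 𝒮L.presheaf.obj (op W))
    (hb : ∀ i, rs (hTW i) b ∈ 𝒮L.deg (T i) (hT i) d)
    (V : X.Opens) (hV : IsAffineOpen V) (hVW : V ≤ W) : rs hVW b ∈ 𝒮L.deg V hV d := by
  have key : (projHom 𝒮L d).app W (ofR 𝒮L.toQCAlg b) = ofR 𝒮L.toQCAlg b := by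
    refine TopCat.Sheaf.eq_of_locally_eq'
      (⟨𝒮L.toModule.presheaf, 𝒮L.toModule.isSheaf⟩ : TopCat.Sheaf Ab X)
      T W (fun i => homOfLE (hTW i)) hcover _ _ ?_
    intro i
    have h1 := Groth.Agent.Helper4.StalkExact.app_res (projHom 𝒮L d) (homOfLE (hTW i))
      (ofR 𝒮L.toQCAlg b)
    refine h1.symm.trans ?_
    rw [projHom_app 𝒮L d (T i) (hT i)]
    exact projAt_of_mem 𝒮L d (T i) (hT i) (hb i)
  have h2 := Groth.Agent.Helper4.StalkExact.app_res (projHom 𝒮L d) (homOfLE hVW)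
    (ofR 𝒮L.toQCAlg b)
  rw [key, projHom_app 𝒮L d V hV] at h2
  have h3 : projAt 𝒮L d V hV (rs hVW b) = rs hVW b := h2
  rw [← h3]
  exact projAt_mem 𝒮L d V hV _

include hj hL in
/-- **Lemma Q** (extension half): a function on `X_σ` extends, after multiplication by a power of
`σ`, to a section over `W` which is homogeneous on all affine opens. -/
theorem exists_extension (hWc : IsCompact (W : Set X)) (hWq : IsQuasiSeparated (W : Set X))
    (τ₀ : Γ(X, PT.Xw (secFam hj hL n W t))) :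
    ∃ (m : ℕ) (_ : 0 < m) (b : 𝒮L.presheaf.obj (op W)),
      (∀ (V : X.Opens) (hV : IsAffineOpen V) (hVW : V ≤ W), rs hVW b ∈ 𝒮L.deg V hV (m * n)) ∧
      rs (PT.Xw_le (secFam hj hL n W t)) b =
        (𝒮L.str.app (op (PT.Xw (secFam hj hL n W t)))).hom τ₀ *
          (rs (PT.Xw_le (secFam hj hL n W t)) (σ (j := j) n W t)) ^ m := by
  classical
  choose T hTW e a hloc hD k c hxT hval using exists_cand_local hj hL n W t τ₀
  obtain ⟨S, hS⟩ := hWc.elim_finite_subcover (fun x : W => ((T x.1 x.2 : X.Opens) : Set X))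
    (fun x => (T x.1 x.2).2) (fun x hx => Set.mem_iUnion.mpr ⟨⟨x, hx⟩, hxT x hx⟩)
  obtain ⟨K, hK⟩ : ∃ K, K = S.sup (fun x => k x.1 x.2) := ⟨_, rfl⟩
  have hkK : ∀ x : S, k x.1.1 x.1.2 ≤ K := fun x => by
    rw [hK]; exact Finset.le_sup (f := fun x : W => k x.1 x.2) x.2
  -- the candidates
  let C : ∀ x : S, 𝒮L.presheaf.obj (op (T x.1.1 x.1.2)) := fun x =>
    cand (j := j) n (T x.1.1 x.1.2) (e x.1.1 x.1.2)
      (a x.1.1 x.1.2 ^ (K - k x.1.1 x.1.2) * c x.1.1 x.1.2) K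
  have hCval : ∀ x : S, rs (X.basicOpen_le (a x.1.1 x.1.2)) (C x) =
      (𝒮L.str.app (op (X.basicOpen (a x.1.1 x.1.2)))).hom (ro (hD x.1.1 x.1.2) τ₀) *
        (rs ((X.basicOpen_le (a x.1.1 x.1.2)).trans (hTW x.1.1 x.1.2)) (σ (j := j) n W t)) ^ K :=
    fun x => hval x.1.1 x.1.2 K (hkK x)
  have hov : ∀ p : S × S, ∃ r : ℕ, ∀ r', r ≤ r' →
      (rs ((inf_le_left : T p.1.1.1 p.1.1.2 ⊓ T p.2.1.1 p.2.1.2 ≤ _).trans
          (hTW p.1.1.1 p.1.1.2)) (σ (j := j) n W t)) ^ r' *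
          rs (inf_le_left : T p.1.1.1 p.1.1.2 ⊓ T p.2.1.1 p.2.1.2 ≤ _) (C p.1) =
        (rs ((inf_le_left : T p.1.1.1 p.1.1.2 ⊓ T p.2.1.1 p.2.1.2 ≤ _).trans
          (hTW p.1.1.1 p.1.1.2)) (σ (j := j) n W t)) ^ r' *
          rs (inf_le_right : T p.1.1.1 p.1.1.2 ⊓ T p.2.1.1 p.2.1.2 ≤ _) (C p.2) :=
    fun p => exists_overlap hj hL n W t hWq τ₀ K
      (T p.1.1.1 p.1.1.2) (hTW p.1.1.1 p.1.1.2) (e p.1.1.1 p.1.1.2) (a p.1.1.1 p.1.1.2)
      (hloc p.1.1.1 p.1.1.2) (hD p.1.1.1 p.1.1.2) _ (hCval p.1)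
      (T p.2.1.1 p.2.1.2) (hTW p.2.1.1 p.2.1.2) (e p.2.1.1 p.2.1.2) (a p.2.1.1 p.2.1.2)
      (hloc p.2.1.1 p.2.1.2) (hD p.2.1.1 p.2.1.2) _ (hCval p.2)
  choose r hr using hov
  obtain ⟨R, hR⟩ : ∃ R, R = Finset.univ.sup r + 1 := ⟨_, rfl⟩
  have hrR : ∀ p : S × S, r p ≤ R := fun p => by
    rw [hR]; exact (Finset.le_sup (f := r) (Finset.mem_univ p)).trans (Nat.le_succ _)
  -- the local sections to be glued
  let B : ∀ x : S, 𝒮L.presheaf.obj (op (T x.1.1 x.1.2)) := fun x =>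
    (rs (hTW x.1.1 x.1.2) (σ (j := j) n W t)) ^ R * C x
  have hBmem : ∀ x : S, B x ∈ 𝒮L.deg (T x.1.1 x.1.2) (hloc x.1.1 x.1.2).1 ((R + K) * n) := by
    intro x
    have h1 : rs (hTW x.1.1 x.1.2) (σ (j := j) n W t) ∈
        𝒮L.deg (T x.1.1 x.1.2) (hloc x.1.1 x.1.2).1 n :=
      (secFam hj hL n W t).mem _ (hloc x.1.1 x.1.2).1 (hTW x.1.1 x.1.2)
    have h2 : C x ∈ 𝒮L.deg (T x.1.1 x.1.2) (hloc x.1.1 x.1.2).1 (n * K) :=
      cand_mem hj n W t _ (hTW x.1.1 x.1.2) _ _ (hloc x.1.1 x.1.2) _ K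
    have h3 := SetLike.mul_mem_graded (SetLike.pow_mem_graded R h1) h2
    have e : R • n + n * K = (R + K) * n := by rw [smul_eq_mul]; ring
    rw [e] at h3
    exact h3
  have hcompat : TopCat.Presheaf.IsCompatible 𝒮L.presheaf (fun x : S => T x.1.1 x.1.2) B := by
    intro x y
    change rs (inf_le_left : T x.1.1 x.1.2 ⊓ T y.1.1 y.1.2 ≤ _) (B x) =
      rs (inf_le_right : T x.1.1 x.1.2 ⊓ T y.1.1 y.1.2 ≤ _) (B y)
    have h := hr (x, y) R (hrR (x, y))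
    simp only [B]
    rw [rs_mul, rs_mul, rs_pow, rs_pow, rs_rs, rs_rs]
    exact h
  have hcover : W ≤ iSup (fun x : S => T x.1.1 x.1.2) := by
    intro z hz
    have := hS hz
    simp only [Set.mem_iUnion] at this
    obtain ⟨x, hxS, hzx⟩ := this
    exact Opens.mem_iSup.mpr ⟨⟨x, hxS⟩, hzx⟩
  obtain ⟨b, hb, -⟩ := TopCat.Sheaf.existsUnique_gluing'
    (⟨𝒮L.presheaf, 𝒮L.isSheaf⟩ : TopCat.Sheaf CommRingCat X)
    (fun x : S => T x.1.1 x.1.2) W (fun x => homOfLE (hTW x.1.1 x.1.2)) hcover B hcompat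
  have hb' : ∀ x : S, rs (hTW x.1.1 x.1.2) b = B x := hb
  refine ⟨R + K, by rw [hR]; omega, b, ?_, ?_⟩
  · exact homog_of_cover W ((R + K) * n) (fun x : S => T x.1.1 x.1.2)
      (fun x => (hloc x.1.1 x.1.2).1) (fun x => hTW x.1.1 x.1.2) hcover b
      (fun x => by rw [hb' x]; exact hBmem x)
  · -- the value on `X_σ`
    set Z := PT.Xw (secFam hj hL n W t) with hZ
    have hZW : Z ≤ W := PT.Xw_le _
    have hG : ∀ x : S, Z ⊓ T x.1.1 x.1.2 = X.basicOpen (a x.1.1 x.1.2) := fun x =>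
      Xw_inf_eq hj hL (hloc x.1.1 x.1.2).2.1 n ((hloc x.1.1 x.1.2).2.2.1 n) (hloc x.1.1 x.1.2).1
        W (hTW x.1.1 x.1.2) t (a x.1.1 x.1.2) (hloc x.1.1 x.1.2).2.2.2
    refine TopCat.Sheaf.eq_of_locally_eq'
      (⟨𝒮L.presheaf, 𝒮L.isSheaf⟩ : TopCat.Sheaf CommRingCat X)
      (fun x : S => X.basicOpen (a x.1.1 x.1.2)) Z (fun x => homOfLE (hD x.1.1 x.1.2)) ?_ _ _ ?_
    · intro z hz
      obtain ⟨x, hzx⟩ := Opens.mem_iSup.mp (hcover (hZW hz))
      refine Opens.mem_iSup.mpr ⟨x, ?_⟩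
      rw [← hG x]
      exact ⟨hz, hzx⟩
    · intro x
      change rs (hD x.1.1 x.1.2) (rs hZW b) = rs (hD x.1.1 x.1.2) (_ * _ ^ (R + K))
      rw [rs_rs, ← rs_rs (hTW x.1.1 x.1.2) (X.basicOpen_le (a x.1.1 x.1.2)), hb' x]
      simp only [B]
      rw [rs_mul, rs_pow, rs_rs, hCval x, rs_mul, rs_pow, rs_rs, rs_str, pow_add]
      ring

end

end Groth.Agent.Helper4.SN355
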