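import Mathlib
import Groth.Prelude.Def_RelProj4
import Groth.Agent.Helper4.SN355
import Groth.Agent.Helper1.IM13

/-!
# `A_(s) → 𝒮L(X_s)_(σ)` is bijective when `u` is bijective on sections
-/

set_option autoImplicit false
set_option linter.unusedSectionVars false
set_option linter.style.haveILetI false

namespace Groth.Agent.Helper4.SN356

open CategoryTheory CategoryTheory.Limits AlgebraicGeometry TopologicalSpace Opposite RelSpec RelProj
  HomogeneousLocalization
open Groth.Agent.Helper1 Groth.Agent.Helper1.RP Groth.Agent.Helper1.PL Groth.Agent.Helper1.PT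
  Groth.Agent.Helper1.IM Groth.Agent.Helper4.TwistExt Groth.Agent.Helper4.TwistLocal
  Groth.Agent.Helper4.SN346 Groth.Agent.Helper4.SN347 Groth.Agent.Helper4.SN348
  Groth.Agent.Helper4.SN349 Groth.Agent.Helper4.SN350 Groth.Agent.Helper4.SN352
  Groth.Agent.Helper4.SN353 Groth.Agent.Helper4.SN354 Groth.Agent.Helper4.SN355
  Groth.Agent.Helper1.SY Groth.Agent.Helper1.SG
open scoped HomogeneousIdeal

universe u

noncomputable section

variable {X Y : Scheme.{u}} {q : X ⟶ Y} {𝒮 : QCGrAlg Y} {𝒮L : QCGrAlg X}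
  (u : QGrHom q 𝒮 𝒮L)
  {L : X.Modules} [L.IsQuasicoherent] {j : L ⟶ 𝒮L.toModule} (hj : IsGrSymAlg L 𝒮L j)
  (hL : PicF.IsInvertible L)

/-- the graded inverse: a section over `q⁻¹U` homogeneous of degree `d` on the affine opens is the
image of a homogeneous element of degree `d`, if `u` is bijective over `U`. -/
theorem exists_homog_preimage (U : Y.Opens) (hU : IsAffineOpen U)
    (hu : Function.Bijective (u.app U).hom) (d : ℕ) (b : 𝒮L.presheaf.obj (op (q ⁻¹ᵁ U)))
    (hb : ∀ (V : X.Opens) (hV : IsAffineOpen V) (hVW : V ≤ q ⁻¹ᵁ U),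
      rs hVW b ∈ 𝒮L.deg V hV d) :
    ∃ s' ∈ 𝒮.deg U hU d, (u.app U).hom s' = b := by
  classical
  obtain ⟨s', hs'⟩ := hu.2 b
  refine ⟨s', ?_, hs'⟩
  have hcomp : ∀ e, e ≠ d →
      (DirectSum.decompose (𝒮.deg U hU) s' e : 𝒮.presheaf.obj (op U)) = 0 := by
    intro e he
    apply hu.1
    rw [map_zero]
    refine Groth.Agent.Helper1.QH.section_ext_affine 𝒮L.toModule (q ⁻¹ᵁ U) _ _
      (fun V hV i => ?_)
    change rs i ((u.app U).hom _) = rs i 0
    have h1 := GradedRingHom.map_directSumDecompose (𝒮.deg U hU) (𝒮L.deg V hV)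
      (u.gradedAt U hU V hV i) (x := s') (i := e)
    have h2 : (u.gradedAt U hU V hV i) s' = rs i b := by
      rw [← hs']; rfl
    rw [h2, DirectSum.decompose_of_mem_ne _ (hb V hV i) he.symm] at h1
    have h3 : rs i ((u.app U).hom ((DirectSum.decompose (𝒮.deg U hU) s' e :
        𝒮.presheaf.obj (op U)))) = 0 := h1
    rw [h3]
    exact (map_zero _).symm
  have hsum := DirectSum.sum_support_decompose (𝒮.deg U hU) s'
  have h4 : s' = (DirectSum.decompose (𝒮.deg U hU) s' d : 𝒮.presheaf.obj (op U)) := by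
    conv_lhs => rw [← hsum]
    by_cases hd : d ∈ (DirectSum.decompose (𝒮.deg U hU) s').support
    · rw [Finset.sum_eq_single_of_mem d hd (fun e _ he => hcomp e he)]
    · rw [Finset.sum_eq_zero (fun e he => hcomp e (fun h => hd (h ▸ he)))]
      have := DFinsupp.notMem_support_iff.mp hd
      rw [this]
      rfl
  rw [h4]
  exact SetLike.coe_mem _

include hj hL in
/-- Lemma Q for a family known to be a `secFam` -/
theorem exists_extension' {n : ℕ} {W : X.Opens} (t : Γ(CohB1.tensorPow L n, W))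
    (w : PT.Fam 𝒮L W n) (hw : secFam hj hL n W t = w)
    (σ₀ : 𝒮L.presheaf.obj (op W)) (hσ : σ (j := j) n W t = σ₀)
    (hWc : IsCompact (W : Set X)) (hWq : IsQuasiSeparated (W : Set X))
    (τ₀ : Γ(X, PT.Xw w)) :
    ∃ (m : ℕ) (_ : 0 < m) (b : 𝒮L.presheaf.obj (op W)),
      (∀ (V : X.Opens) (hV : IsAffineOpen V) (hVW : V ≤ W), rs hVW b ∈ 𝒮L.deg V hV (m * n)) ∧
      rs (PT.Xw_le w) b = (𝒮L.str.app (op (PT.Xw w))).hom τ₀ * (rs (PT.Xw_le w) σ₀) ^ m := by
  subst hw
  subst hσ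
  exact exists_extension hj hL n W t hWc hWq τ₀

include hj hL in
/-- the kill lemma for a family known to be a `secFam` -/
theorem exists_pow_mul_eq_zero' {n : ℕ} {W : X.Opens} (t : Γ(CohB1.tensorPow L n, W))
    (w : PT.Fam 𝒮L W n) (hw : secFam hj hL n W t = w)
    (σ₀ : 𝒮L.presheaf.obj (op W)) (hσ : σ (j := j) n W t = σ₀)
    (hWc : IsCompact (W : Set X)) (b : 𝒮L.presheaf.obj (op W))
    (hb : ∀ (V : X.Opens) (hV : IsAffineOpen V) (hVW : V ≤ W),
      PT.IsGenAt w V hV hVW → rs hVW b = 0) :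
    ∃ k : ℕ, σ₀ ^ k * b = 0 := by
  subst hw
  subst hσ
  exact exists_pow_mul_eq_zero hj hL n W t hWc b hb

include hj hL in
/-- **bijectivity on the charts** -/
theorem away_bijective (U : Y.Opens) (hU : IsAffineOpen U)
    (hu : Function.Bijective (u.app U).hom)
    (hWc : IsCompact ((q ⁻¹ᵁ U : X.Opens) : Set X))
    (hWq : IsQuasiSeparated ((q ⁻¹ᵁ U : X.Opens) : Set X))
    {n : ℕ} (s : 𝒮.presheaf.obj (op U)) (hs : s ∈ 𝒮.deg U hU n)
    (hZ : IsAffineOpen (PT.Xw (PT.famOf u U hU s hs))) :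
    Function.Bijective (Away.map (u.gradedAt U hU _ hZ (PT.Xw_le _)) s) := by
  obtain ⟨t, ht⟩ := exists_of_homog hj hL n (q ⁻¹ᵁ U) ((u.app U).hom s)
    (fun V hV i => u.map_mem U hU V hV i hs)
  have hw : secFam hj hL n (q ⁻¹ᵁ U) t = PT.famOf u U hU s hs := by
    refine fam_ext _ _ (fun V hV hT => ?_)
    change rs hT (σ (j := j) n (q ⁻¹ᵁ U) t) = rs hT ((u.app U).hom s)
    exact congrArg (rs hT) ht
  constructor
  · -- injective
    refine (away_map_injective_iff (𝒮.deg U hU) (𝒮L.deg _ hZ)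
      (u.gradedAt U hU _ hZ (PT.Xw_le _)) s hs).mpr ?_
    rintro m s' - ⟨l, hl⟩
    have hl' : rs (PT.Xw_le (PT.famOf u U hU s hs)) ((u.app U).hom (s ^ l * s')) = 0 := by
      rw [map_mul, map_pow, rs_mul, rs_pow]
      exact hl
    obtain ⟨k, hk⟩ := exists_pow_mul_eq_zero' hj hL t _ hw _ ht hWc ((u.app U).hom (s ^ l * s'))
      (fun V hV hVW hgen => by
        have hVZ : V ≤ PT.Xw (PT.famOf u U hU s hs) :=
          le_iSup (fun V : {V : {V : X.affineOpens // V.1 ≤ q ⁻¹ᵁ U} //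
            PT.IsGenAt (PT.famOf u U hU s hs) V.1.1 V.1.2 V.2} => (V.1.1.1 : X.Opens))
            ⟨⟨⟨V, hV⟩, hVW⟩, hgen⟩
        rw [← rs_rs (PT.Xw_le (PT.famOf u U hU s hs)) hVZ, hl']
        exact map_zero _)
    refine ⟨k + l, hu.1 ?_⟩
    rw [map_zero, ← hk, ← map_pow, ← map_mul, pow_add, mul_assoc]
  · -- surjective
    refine (away_surjective_iff u hj hL U hU s hs _ hZ (PT.Xw_le _)
      (isGenAt_of_le_Xw _ hZ (PT.Xw_le _) le_rfl)).mpr (fun τ => ?_)
    obtain ⟨m, hm, b, hb, hval⟩ := exists_extension' hj hL t _ hw _ ht hWc hWq τ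
    obtain ⟨s', hs', hs'b⟩ := exists_homog_preimage u U hU hu (m * n) b hb
    refine ⟨m, hm, s', hs', ?_⟩
    change _ * (rs (PT.Xw_le (PT.famOf u U hU s hs)) ((u.app U).hom s)) ^ m =
      rs (PT.Xw_le (PT.famOf u U hU s hs)) ((u.app U).hom s')
    rw [hs'b, hval]

end

end Groth.Agent.Helper4.SN356
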