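import Mathlib
import Groth.Prelude.Def_RelProj4
import Groth.Prelude.Def_LCI2
import Groth.Agent.Helper4.SN356
import Groth.Agent.Helper4.AmpleRestrict
import Groth.Agent.Helper4.AmpleBasis

/-!
# `r_{L,σ}` is an open immersion when `L` is relatively ample and `u` is bijective
-/

set_option autoImplicit false
set_option linter.unusedSectionVars false
set_option linter.style.haveILetI false

namespace Groth.Agent.Helper4.SN357

open CategoryTheory CategoryTheory.Limits AlgebraicGeometry TopologicalSpace Opposite RelSpec RelProj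
  HomogeneousLocalization
open Groth.Agent.Helper1 Groth.Agent.Helper1.RP Groth.Agent.Helper1.PL Groth.Agent.Helper1.PT
  Groth.Agent.Helper1.IM Groth.Agent.Helper4.TwistExt Groth.Agent.Helper4.TwistLocal
  Groth.Agent.Helper4.SN346 Groth.Agent.Helper4.SN347 Groth.Agent.Helper4.SN348
  Groth.Agent.Helper4.SN349 Groth.Agent.Helper4.SN350 Groth.Agent.Helper4.SN352
  Groth.Agent.Helper4.SN353 Groth.Agent.Helper4.SN354 Groth.Agent.Helper4.SN355
  Groth.Agent.Helper4.SN356 Groth.Agent.Helper1.SY Groth.Agent.Helper1.SG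
open scoped HomogeneousIdeal

universe u

noncomputable section

section sec

variable {X : Scheme.{u}} {L : X.Modules} [L.IsQuasicoherent] {𝒮L : QCGrAlg X}
  {j : L ⟶ 𝒮L.toModule} (hj : IsGrSymAlg L 𝒮L j) (hL : PicF.IsInvertible L)

/-- every map `O_W ⟶ L^{⊗n}|_W` is the `τ` of a section -/
theorem exists_τ_eq (n : ℕ) (W : X.Opens)
    (τ'' : Coh.structureModule (W : Scheme.{u}) ⟶ (CohB1.tensorPow L n).restrict W.ι) :
    ∃ t : Γ(CohB1.tensorPow L n, W), τ n W t = τ'' := by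
  let t₀ : Γ((CohB1.tensorPow L n).restrict W.ι, ⊤) := τ''.app ⊤ (1 : Γ((W : Scheme.{u}), ⊤))
  refine ⟨(CohB1.tensorPow L n).presheaf.map (homOfLE (Scheme.Opens.ι_image_top W).ge).op t₀, ?_⟩
  apply Groth.Agent.Lead.LocLift.hom_unit_ext
  rw [τ, Groth.Agent.Lead.LocLift.homOfTop_app_one]
  unfold tTop
  rw [Groth.Agent.Helper4.QAffSec.res_res]
  exact Groth.Agent.Helper4.QAffSec.res_self _ _ _

include hj hL in
/-- ampleness of `L|_W` gives sections of tensor powers with affine `X_σ` through every point -/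
theorem exists_sec_of_isAmple (W : X.Opens) (hA : CohB1.IsAmple (L.restrict W.ι)) (x : X)
    (hx : x ∈ W) :
    ∃ (m : ℕ) (t : Γ(CohB1.tensorPow L (m + 1), W)),
      x ∈ PT.Xw (secFam hj hL (m + 1) W t) ∧ IsAffineOpen (PT.Xw (secFam hj hL (m + 1) W t)) := by
  obtain ⟨m, τ', hx', haff⟩ := hA.2.2 ⟨x, hx⟩
  have hg := Groth.Agent.Helper4.AmpleIso.genLocus_comp_iso
    (Groth.Agent.Helper4.AmpleRestrict.resPowIso W.ι L (m + 1)) τ'
  obtain ⟨t, ht⟩ := exists_τ_eq (m + 1) W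
    (τ' ≫ (Groth.Agent.Helper4.AmpleRestrict.resPowIso W.ι L (m + 1)).hom)
  have hI := image_genLocus hj hL (m + 1) W t
  rw [ht, hg] at hI
  refine ⟨m, t, ?_, ?_⟩
  · rw [← hI]
    exact ⟨⟨x, hx⟩, hx', rfl⟩
  · rw [← hI]
    exact haff.image_of_isOpenImmersion W.ι

end sec

section main

variable {X Y : Scheme.{u}} {q : X ⟶ Y} {𝒮 : QCGrAlg Y} {𝒮L : QCGrAlg X}
  (u : QGrHom q 𝒮 𝒮L)
  {P : Scheme.{u}} {p : P ⟶ Y}
  {chart : ∀ (U : Y.Opens) (hU : IsAffineOpen U),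
    (((p ⁻¹ᵁ U : P.Opens) : Scheme.{u}) ≅ Proj (𝒮.deg U hU))}
  {PL : Scheme.{u}} {pL : PL ⟶ X}
  {chartL : ∀ (U : X.Opens) (hU : IsAffineOpen U),
    (((pL ⁻¹ᵁ U : PL.Opens) : Scheme.{u}) ≅ Proj (𝒮L.deg U hU))}
  {L : X.Modules} [L.IsQuasicoherent] {j : L ⟶ 𝒮L.toModule} (hj : IsGrSymAlg L 𝒮L j)

include hj in
/-- the open immersion criterion, general base -/
theorem isOpenImmersion_of_family (hL : PicF.IsInvertible L) (hP : IsRelProj 𝒮 p chart)
    (hPL : IsRelProj 𝒮L pL chartL)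
    {r : ((domQ u pL chartL : PL.Opens) : Scheme.{u}) ⟶ P}
    (hr : IsProjQMapOn u p chart pL chartL (domQ u pL chartL) r)
    {κ : Type u} (U : κ → Y.Opens) (hU : ∀ k, IsAffineOpen (U k)) (n : κ → ℕ)
    (hn : ∀ k, 0 < n k) (s : ∀ k, 𝒮.presheaf.obj (op (U k)))
    (hs : ∀ k, s k ∈ 𝒮.deg (U k) (hU k) (n k))
    (hcov : ∀ x : X, ∃ k, x ∈ PT.Xw (PT.famOf u (U k) (hU k) (s k) (hs k)))
    (hV : ∀ k, IsAffineOpen (PT.Xw (PT.famOf u (U k) (hU k) (s k) (hs k))))
    (hbij : ∀ k, Function.Bijective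
      (Away.map (u.gradedAt (U k) (hU k) _ (hV k) (PT.Xw_le _)) (s k))) :
    domQ u pL chartL = ⊤ ∧ IsOpenImmersion r := by
  have hdom : domQ u pL chartL = ⊤ := by
    apply domQ_eq_top_of_cover u hj hL hPL
    intro x
    obtain ⟨k, hk⟩ := hcov x
    exact ⟨U k, hU k, n k, hn k, s k, hs k, hk⟩
  refine ⟨hdom, ?_⟩
  apply isOpenImmersion_of_charts r
    (fun k : κ => Spec.map (CommRingCat.ofHom
      (Away.map (u.gradedAt (U k) (hU k) _ (hV k) (PT.Xw_le _)) (s k))))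
    (fun k : κ => liftEmb u pL chartL (U k) (hU k) _ (hV k) (PT.Xw_le _) (hn k) (s k) (hs k))
    (fun k : κ => Proj.awayι (𝒮.deg (U k) (hU k)) (s k) (hs k) (hn k) ≫ emb p chart (U k) (hU k))
  · intro k
    exact liftEmb_r hr (U k) (hU k) _ (hV k) _ (hn k) _ _
  · intro k
    exact preimage_chart u hj hL hP hPL hr (U k) (hU k) (hn k) (s k) (hs k) _ (hV k) _ rfl
  · intro x
    obtain ⟨k, hk⟩ := hcov (pL ((domQ u pL chartL).ι x))
    exact ⟨k, mem_opensRange_liftEmb u hj hL hP hPL hr (U k) (hU k) (hn k) (s k) (hs k) _ (hV k) _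
      rfl x hk⟩
  · intro k
    haveI : IsIso (CommRingCat.ofHom
        (Away.map (u.gradedAt (U k) (hU k) _ (hV k) (PT.Xw_le _)) (s k))) :=
      (ConcreteCategory.isIso_iff_bijective _).mpr (hbij k)
    infer_instance

include hj in
/-- a covering family of charts from relative ampleness and bijectivity of `u` -/
theorem exists_family (hL : PicF.IsInvertible L)
    (hu : ∀ (U : Y.Opens), IsAffineOpen U → Function.Bijective (u.app U).hom)
    (h : RelAmple.IsRelAmple q L) (x : X) :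
    ∃ (U : Y.Opens) (hU : IsAffineOpen U) (n : ℕ) (_ : 0 < n) (s : 𝒮.presheaf.obj (op U))
      (hs : s ∈ 𝒮.deg U hU n), x ∈ PT.Xw (PT.famOf u U hU s hs) ∧
      IsAffineOpen (PT.Xw (PT.famOf u U hU s hs)) := by
  obtain ⟨_, ⟨U, hU : IsAffineOpen U, rfl⟩, hxU, -⟩ :=
    Y.isBasis_affineOpens.exists_subset_of_mem_open (Set.mem_univ (q x)) isOpen_univ
  have hA : CohB1.IsAmple (L.restrict (q ⁻¹ᵁ U).ι) := h.2 ⟨U, hU⟩
  obtain ⟨m, t, hxt, haff⟩ := exists_sec_of_isAmple hj hL (q ⁻¹ᵁ U) hA x hxU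
  obtain ⟨s, hs, hsb⟩ := exists_homog_preimage u U hU (hu U hU) (m + 1)
    (σ (j := j) (m + 1) (q ⁻¹ᵁ U) t)
    (fun V hV hVW => (secFam hj hL (m + 1) (q ⁻¹ᵁ U) t).mem V hV hVW)
  have hw : secFam hj hL (m + 1) (q ⁻¹ᵁ U) t = PT.famOf u U hU s hs := by
    refine fam_ext _ _ (fun V hV hT => ?_)
    change rs hT (σ (j := j) (m + 1) (q ⁻¹ᵁ U) t) = rs hT ((u.app U).hom s)
    exact congrArg (rs hT) hsb.symm
  rw [hw] at hxt haff
  exact ⟨U, hU, m + 1, Nat.succ_pos m, s, hs, hxt, haff⟩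

include hj in
/-- **`r_{L,σ}` is an everywhere defined open immersion** -/
theorem main_open (hL : PicF.IsInvertible L) (hP : IsRelProj 𝒮 p chart)
    (hPL : IsRelProj 𝒮L pL chartL)
    {r : ((domQ u pL chartL : PL.Opens) : Scheme.{u}) ⟶ P}
    (hr : IsProjQMapOn u p chart pL chartL (domQ u pL chartL) r)
    (hu : ∀ (U : Y.Opens), IsAffineOpen U → Function.Bijective (u.app U).hom)
    (h : RelAmple.IsRelAmple q L) :
    domQ u pL chartL = ⊤ ∧ IsOpenImmersion r := by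
  haveI : QuasiCompact q := h.1
  choose U hU n hn s hs hx haff using exists_family u hj hL hu h
  refine isOpenImmersion_of_family u hj hL hP hPL hr U hU n hn s hs (fun x => ⟨x, hx x⟩) haff
    (fun x => ?_)
  have hWc : IsCompact ((q ⁻¹ᵁ U x : X.Opens) : Set X) :=
    QuasiCompact.isCompact_preimage (f := q) _ (U x).2 (hU x).isCompact
  have hWq : IsQuasiSeparated ((q ⁻¹ᵁ U x : X.Opens) : Set X) := by
    refine (isQuasiSeparated_iff_quasiSeparatedSpace _ (q ⁻¹ᵁ U x).2).mpr ?_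
    exact Groth.Agent.Helper4.AmpleBasis.quasiSeparatedSpace_of_isAmple (h.2 ⟨U x, hU x⟩)
  exact away_bijective u hj hL (U x) (hU x) (hu _ (hU x)) hWc hWq (s x) (hs x) (haff x)

end main

end

end Groth.Agent.Helper4.SN357
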