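import Mathlib
import Groth.Prelude.Def_RelProj4
import Groth.Agent.Helper4.TensorLift
import Groth.Agent.Helper4.TwistExt
import Groth.Agent.Helper4.StalkExact

/-!
# The morphism `E ⊗ E' ⟶ q_*(L ⊗ L')` attached to `E ⟶ q_* L` and `E' ⟶ q_* L'`
-/

set_option autoImplicit false
set_option linter.unusedSectionVars false
set_option linter.style.haveILetI false

namespace Groth.Agent.Helper4.SN363

open CategoryTheory CategoryTheory.Limits AlgebraicGeometry TopologicalSpace Opposite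
open Groth.Agent.Helper4.TensorLift

universe u

noncomputable section

variable {X Y : Scheme.{u}} (q : X ⟶ Y) {E E' : Y.Modules} {L L' : X.Modules}
  (ι₀ : E ⟶ (Scheme.Modules.pushforward q).obj L)
  (ι' : E' ⟶ (Scheme.Modules.pushforward q).obj L')

/-- the bilinear family `(e, e') ↦ ι₀ e ⊗ ι' e'` -/
def pushBil : Bil E E' ((Scheme.Modules.pushforward q).obj (CohB1.tensorMod L L')) where
  f W e e' := SecTwist.tmul L L' (q ⁻¹ᵁ W) (ι₀.app W e) (ι'.app W e')
  add_left W m m' n := by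
    rw [map_add]
    exact tmul_add_left L L' (q ⁻¹ᵁ W) _ _ _
  add_right W m n n' := by
    rw [map_add]
    exact tmul_add_right L L' (q ⁻¹ᵁ W) _ _ _
  smul_left W r m n := by
    rw [Scheme.Modules.Hom.app_smul]
    exact tmul_smul_left L L' (q ⁻¹ᵁ W) (q.app W r) (ι₀.app W m) (ι'.app W n)
  smul_right W r m n := by
    rw [Scheme.Modules.Hom.app_smul]
    exact tmul_smul_right L L' (q ⁻¹ᵁ W) (q.app W r) (ι₀.app W m) (ι'.app W n)
  map {V V'} i m n := by
    rw [Groth.Agent.Helper4.StalkExact.app_res, Groth.Agent.Helper4.StalkExact.app_res]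
    exact Groth.Agent.Helper4.TwistExt.tmul_res L L' (q.preimage_mono i.le) _ _

/-- the morphism `E ⊗ E' ⟶ q_*(L ⊗ L')` -/
def ι₁ : CohB1.tensorMod E E' ⟶ (Scheme.Modules.pushforward q).obj (CohB1.tensorMod L L') :=
  (pushBil q ι₀ ι').lift

theorem ι₁_tmul (W : Y.Opens) (e : Γ(E, W)) (e' : Γ(E', W)) :
    (ι₁ q ι₀ ι').app W (SecTwist.tmul E E' W e e') =
      SecTwist.tmul L L' (q ⁻¹ᵁ W) (ι₀.app W e) (ι'.app W e') :=
  (pushBil q ι₀ ι').lift_tmul W e e'

end

end Groth.Agent.Helper4.SN363
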