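import Mathlib
import Groth.Prelude.Def_RelProj4
import Groth.Agent.Helper4.TensorLift
import Groth.Agent.Helper4.TwistExt
import Groth.Agent.Helper4.StalkExact
import Groth.Agent.Helper1.SY17
import Groth.Agent.Helper1.SG6

/-!
# The ring homomorphism `Sym(A)(V) → Sym(A ⊗ B)(V)` attached to a section of `B` over an affine
open `V`
-/

set_option autoImplicit false
set_option linter.unusedSectionVars false
set_option linter.style.haveILetI false

namespace Groth.Agent.Helper4.SN364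

open CategoryTheory CategoryTheory.Limits AlgebraicGeometry TopologicalSpace Opposite RelSpec RelProj
open Groth.Agent.Helper1.SY Groth.Agent.Helper1.SG
open Groth.Agent.Helper4.TensorLift

universe u

noncomputable section

variable {Z : Scheme.{u}}

/-- `a ↦ a ⊗ b` as an additive map -/
def tmulL (A B : Z.Modules) (V : Z.Opens) (b : Γ(B, V)) :
    Γ(A, V) →+ Γ(CohB1.tensorMod A B, V) :=
  AddMonoidHom.mk' (fun a => SecTwist.tmul A B V a b) (fun a a' => tmul_add_left A B V a a' b)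

theorem tmulL_apply (A B : Z.Modules) (V : Z.Opens) (b : Γ(B, V)) (a : Γ(A, V)) :
    tmulL A B V b a = SecTwist.tmul A B V a b := rfl

variable {A B : Z.Modules} [A.IsQuasicoherent]
  {𝒮A : QCGrAlg Z} {jA : A ⟶ 𝒮A.toModule} (hjA : IsGrSymAlg A 𝒮A jA)
  {𝒮T : QCGrAlg Z} (jT : CohB1.tensorMod A B ⟶ 𝒮T.toModule)

theorem tw_aux (V : Z.Opens) (b : Γ(B, V)) (c : Γ(Z, V)) (m : Γ(A, V)) :
    ((jR jT V).comp (tmulL A B V b)) (c • m) =
      (𝒮T.str.app (op V)).hom c * ((jR jT V).comp (tmulL A B V b)) m := by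
  rw [AddMonoidHom.comp_apply, AddMonoidHom.comp_apply, tmulL_apply, tmulL_apply,
    tmul_smul_left]
  exact jR_smul jT V c _

/-- the ring homomorphism `Sym(A)(V) → Sym(A ⊗ B)(V)` induced by `a ↦ a ⊗ b` -/
def tw (V : Z.Opens) (hV : IsAffineOpen V) (b : Γ(B, V)) :
    𝒮A.presheaf.obj (op V) →+* 𝒮T.presheaf.obj (op V) :=
  secDesc hjA.1 V hV (𝒮T.str.app (op V)).hom ((jR jT V).comp (tmulL A B V b))
    (tw_aux jT V b)

theorem tw_str (V : Z.Opens) (hV : IsAffineOpen V) (b : Γ(B, V)) (c : Γ(Z, V)) :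
    tw hjA jT V hV b ((𝒮A.str.app (op V)).hom c) = (𝒮T.str.app (op V)).hom c :=
  secDesc_str hjA.1 V hV _ _ _ c

theorem tw_jR (V : Z.Opens) (hV : IsAffineOpen V) (b : Γ(B, V)) (a : Γ(A, V)) :
    tw hjA jT V hV b (jR jA V a) = jR jT V (SecTwist.tmul A B V a b) :=
  secDesc_jR hjA.1 V hV _ _ _ a

/-- compatibility with restriction -/
theorem tw_res {V V' : Z.Opens} (hV : IsAffineOpen V) (hV' : IsAffineOpen V') (i : V' ≤ V)
    (b : Γ(B, V)) (x : 𝒮A.presheaf.obj (op V)) :
    (𝒮T.presheaf.map (homOfLE i).op).hom (tw hjA jT V hV b x) =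
      tw hjA jT V' hV' (B.presheaf.map (homOfLE i).op b)
        ((𝒮A.presheaf.map (homOfLE i).op).hom x) := by
  have h : (𝒮T.presheaf.map (homOfLE i).op).hom.comp (tw hjA jT V hV b) =
      (tw hjA jT V' hV' (B.presheaf.map (homOfLE i).op b)).comp
        (𝒮A.presheaf.map (homOfLE i).op).hom := by
    refine secHom_ext' hjA.1 V hV (fun c => ?_) (fun m => ?_)
    · rw [RingHom.comp_apply, RingHom.comp_apply, tw_str]
      have h1 := congrArg (fun k => k.hom c) (𝒮T.str.naturality (homOfLE i).op)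
      have h2 := congrArg (fun k => k.hom c) (𝒮A.str.naturality (homOfLE i).op)
      refine h1.symm.trans ?_
      refine Eq.trans ?_ (congrArg (tw hjA jT V' hV' (B.presheaf.map (homOfLE i).op b)) h2)
      exact (tw_str hjA jT V' hV' _ _).symm
    · rw [RingHom.comp_apply, RingHom.comp_apply, tw_jR]
      have h1 : (𝒮A.presheaf.map (homOfLE i).op).hom (jR jA V m) =
          jR jA V' (A.presheaf.map (homOfLE i).op m) :=
        (Groth.Agent.Helper4.StalkExact.app_res jA (homOfLE i) m).symm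
      rw [h1, tw_jR]
      have h2 : (𝒮T.presheaf.map (homOfLE i).op).hom (jR jT V (SecTwist.tmul A B V m b)) =
          jR jT V' ((CohB1.tensorMod A B).presheaf.map (homOfLE i).op (SecTwist.tmul A B V m b)) :=
        (Groth.Agent.Helper4.StalkExact.app_res jT (homOfLE i) _).symm
      rw [h2, Groth.Agent.Helper4.TwistExt.tmul_res]
  exact congrArg (fun k => k x) h

/-- scaling the section of `B`, on degree-one generators -/
theorem tw_smul_jR (V : Z.Opens) (hV : IsAffineOpen V) (b : Γ(B, V)) (c : Γ(Z, V))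
    (a : Γ(A, V)) :
    tw hjA jT V hV (c • b) (jR jA V a) =
      (𝒮T.str.app (op V)).hom c * tw hjA jT V hV b (jR jA V a) := by
  rw [tw_jR, tw_jR, tmul_smul_right]
  exact jR_smul jT V c _

variable {jT} (hjT : ∀ (U : Z.Opens) (hU : IsAffineOpen U) (x : Γ(CohB1.tensorMod A B, U)),
  (jT.app U) x ∈ 𝒮T.deg U hU 1)

include hjT in
theorem tw_symLift_mem (V : Z.Opens) (hV : IsAffineOpen V) (b : Γ(B, V)) {n : ℕ}
    {x₀ : SymmetricAlgebra Γ(Z, V) Γ(A, V)} (hx₀ : x₀ ∈ symPow Γ(Z, V) Γ(A, V) n) :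
    tw hjA jT V hV b (symLift 𝒮A.toQCAlg jA V x₀) ∈ 𝒮T.deg V hV n := by
  unfold symPow at hx₀
  induction hx₀ using Submodule.pow_induction_on_left' with
  | algebraMap c =>
    rw [symLift_algebraMap, tw_str]
    exact 𝒮T.str_mem V hV c
  | add x y i hx hy ihx ihy =>
    rw [map_add, map_add]
    exact add_mem ihx ihy
  | mem_mul m hm i x hx ih =>
    obtain ⟨m, rfl⟩ := hm
    rw [map_mul, map_mul, symLift_ι]
    have h0 : tw hjA jT V hV b (jA.app V m) = jR jT V (SecTwist.tmul A B V m b) :=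
      tw_jR hjA jT V hV b m
    rw [h0]
    have h1 : jR jT V (SecTwist.tmul A B V m b) ∈ 𝒮T.deg V hV 1 := hjT V hV _
    have h2 := SetLike.mul_mem_graded h1 ih
    rwa [add_comm] at h2

include hjT in
/-- `tw` preserves degrees -/
theorem tw_mem (V : Z.Opens) (hV : IsAffineOpen V) (b : Γ(B, V)) {n : ℕ}
    {x : 𝒮A.presheaf.obj (op V)} (hx : x ∈ 𝒮A.deg V hV n) :
    tw hjA jT V hV b x ∈ 𝒮T.deg V hV n := by
  obtain ⟨x₀, hx₀, rfl⟩ := exists_of_mem_deg hjA V hV hx
  exact tw_symLift_mem hjA hjT V hV b hx₀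

end

end Groth.Agent.Helper4.SN364
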