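import Mathlib
import Groth.Prelude.Def_RelProj4
import Groth.Agent.Helper4.SN363
import Groth.Agent.Helper4.SN364
import Groth.Agent.Helper1.IM11

/-!
# Comparing `Sym(E₀) → q_* Sym(L)` and `Sym(E₀ ⊗ E') → q_* Sym(L ⊗ L')` through a section of `E'`
-/

set_option autoImplicit false
set_option linter.unusedSectionVars false
set_option linter.style.haveILetI false

namespace Groth.Agent.Helper4.SN365

open CategoryTheory CategoryTheory.Limits AlgebraicGeometry TopologicalSpace Opposite RelSpec RelProj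
open Groth.Agent.Helper1.SY Groth.Agent.Helper1.SG Groth.Agent.Helper1
open Groth.Agent.Helper4.TensorLift Groth.Agent.Helper4.SN363 Groth.Agent.Helper4.SN364

universe u

noncomputable section

variable {X Y : Scheme.{u}} (q : X ⟶ Y) {E₀ E' : Y.Modules} [E₀.IsQuasicoherent]
  {𝒮₀ : QCGrAlg Y} {j₀ : E₀ ⟶ 𝒮₀.toModule} (hj₀ : IsGrSymAlg E₀ 𝒮₀ j₀)
  {𝒮₁ : QCGrAlg Y} {j₁ : CohB1.tensorMod E₀ E' ⟶ 𝒮₁.toModule}
  (hj₁ : ∀ (U : Y.Opens) (hU : IsAffineOpen U) (x : Γ(CohB1.tensorMod E₀ E', U)),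
    (j₁.app U) x ∈ 𝒮₁.deg U hU 1)
  {L L' : X.Modules} [L.IsQuasicoherent]
  {𝒮L : QCGrAlg X} {jL : L ⟶ 𝒮L.toModule} (hjL : IsGrSymAlg L 𝒮L jL)
  {𝒮M : QCGrAlg X} (jM : CohB1.tensorMod L L' ⟶ 𝒮M.toModule)
  (ι₀ : E₀ ⟶ (Scheme.Modules.pushforward q).obj L)
  (ι' : E' ⟶ (Scheme.Modules.pushforward q).obj L')
  (u₀ : QGrHom q 𝒮₀ 𝒮L) (u₁ : QGrHom q 𝒮₁ 𝒮M)
  (hu₀ : ∀ (U : Y.Opens) (V : X.Opens) (hle : V ≤ q ⁻¹ᵁ U) (e : Γ(E₀, U)),
    (u₀.appLE U V hle).hom (j₀.app U e) =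
      jL.app V (L.presheaf.map (homOfLE hle).op (ι₀.app U e)))
  (hu₁ : ∀ (U : Y.Opens) (V : X.Opens) (hle : V ≤ q ⁻¹ᵁ U) (x : Γ(CohB1.tensorMod E₀ E', U)),
    (u₁.appLE U V hle).hom (j₁.app U x) =
      jM.app V ((CohB1.tensorMod L L').presheaf.map (homOfLE hle).op ((ι₁ q ι₀ ι').app U x)))

/-- the section of `L'` over `V ⊆ q⁻¹U` named by a section of `E'` over `U` -/
def sec' (U : Y.Opens) (V : X.Opens) (hle : V ≤ q ⁻¹ᵁ U) (e' : Γ(E', U)) : Γ(L', V) :=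
  L'.presheaf.map (homOfLE hle).op (ι'.app U e')

include hu₀ hu₁ in
/-- **the comparison** -/
theorem appLE_tw (U : Y.Opens) (hU : IsAffineOpen U) (V : X.Opens) (hV : IsAffineOpen V)
    (hle : V ≤ q ⁻¹ᵁ U) (e' : Γ(E', U)) (a : 𝒮₀.presheaf.obj (op U)) :
    (u₁.appLE U V hle).hom (tw hj₀ j₁ U hU e' a) =
      tw hjL jM V hV (sec' q ι' U V hle e') ((u₀.appLE U V hle).hom a) := by
  have h : (u₁.appLE U V hle).hom.comp (tw hj₀ j₁ U hU e') =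
      (tw hjL jM V hV (sec' q ι' U V hle e')).comp (u₀.appLE U V hle).hom := by
    refine secHom_ext' hj₀.1 U hU (fun c => ?_) (fun m => ?_)
    · rw [RingHom.comp_apply, RingHom.comp_apply, tw_str]
      have h1 := congrArg (fun k => k.hom c) (u₁.toQHom.str_appLE U V hle)
      have h2 := congrArg (fun k => k.hom c) (u₀.toQHom.str_appLE U V hle)
      refine h1.trans ?_
      refine Eq.trans ?_ (congrArg (tw hjL jM V hV (sec' q ι' U V hle e')) h2.symm)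
      exact (tw_str hjL jM V hV _ _).symm
    · rw [RingHom.comp_apply, RingHom.comp_apply, tw_jR]
      have h1 : (u₀.appLE U V hle).hom (jR j₀ U m) =
          jR jL V (L.presheaf.map (homOfLE hle).op (ι₀.app U m)) := hu₀ U V hle m
      rw [h1, tw_jR]
      have h2 : (u₁.appLE U V hle).hom (jR j₁ U (SecTwist.tmul E₀ E' U m e')) =
          jR jM V ((CohB1.tensorMod L L').presheaf.map (homOfLE hle).op
            ((ι₁ q ι₀ ι').app U (SecTwist.tmul E₀ E' U m e'))) := hu₁ U V hle _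
      rw [h2, ι₁_tmul, Groth.Agent.Helper4.TwistExt.tmul_res]
      rfl
  exact congrArg (fun k => k a) h

include hu₀ hu₁ hj₁ hjL in
/-- fractions for `s` give fractions for its twist by `e'` -/
theorem isFrac_tw (U : Y.Opens) (hU : IsAffineOpen U) (W : X.Opens) (hW : IsAffineOpen W)
    (hle : W ≤ q ⁻¹ᵁ U) (e' : Γ(E', U)) (n : ℕ) (s : 𝒮₀.presheaf.obj (op U)) (τ : Γ(X, W))
    (h : IM.IsFrac u₀ U hU n s W hle τ) :
    IM.IsFrac u₁ U hU n (tw hj₀ j₁ U hU e' s) W hle τ := by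
  obtain ⟨m, hm, a, ha, e⟩ := h
  refine ⟨m, hm, tw hj₀ j₁ U hU e' a, tw_mem hj₀ hj₁ U hU e' ha, ?_⟩
  rw [appLE_tw q hj₀ hjL jM ι₀ ι' u₀ u₁ hu₀ hu₁ U hU W hW hle e' s,
    appLE_tw q hj₀ hjL jM ι₀ ι' u₀ u₁ hu₀ hu₁ U hU W hW hle e' a, ← e, map_mul, map_pow, tw_str]

end

end Groth.Agent.Helper4.SN365
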