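import Mathlib
import Groth.Prelude.Def_RelProj4
import Groth.Agent.Helper4.SN365
import Groth.Agent.Helper4.SN352
import Groth.Agent.Helper1.IM13

/-!
# The non-vanishing locus of the twist of a homogeneous section by a section of `E'`
-/

set_option autoImplicit false
set_option linter.unusedSectionVars false
set_option linter.style.haveILetI false

namespace Groth.Agent.Helper4.SN366

open CategoryTheory CategoryTheory.Limits AlgebraicGeometry TopologicalSpace Opposite RelSpec RelProj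
open Groth.Agent.Helper1.SY Groth.Agent.Helper1.SG Groth.Agent.Helper1 Groth.Agent.Helper1.PL
open Groth.Agent.Helper4.TensorLift Groth.Agent.Helper4.SN363 Groth.Agent.Helper4.SN364
  Groth.Agent.Helper4.SN365
open Groth.Agent.Helper4.GenLoc Groth.Agent.Helper4.TensorInv
  Groth.Agent.Helper4.TwistExt Groth.Agent.Helper4.PullMate
  Groth.Agent.Helper4.PullTensor Groth.Agent.Helper4.SN352

universe u

noncomputable section

section frames

variable {X : Scheme.{u}}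

/-- around every point of an open `W` there is an affine open `T ⊆ W` carrying frames of `L`, of
`L'` and, through them, of `L ⊗ L'` -/
theorem exists_frames₂ (L L' : X.Modules) (hL : PicF.IsInvertible L) (hL' : PicF.IsInvertible L')
    (W : X.Opens) (x : X) (hx : x ∈ W) :
    ∃ (T : X.Opens) (l : Γ(L, T)) (l' : Γ(L', T)), x ∈ T ∧ T ≤ W ∧ IsAffineOpen T ∧
      IsFrame L T l ∧ IsFrame L' T l' ∧
      IsFrame (CohB1.tensorMod L L') T (SecTwist.tmul L L' T l l') := by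
  obtain ⟨U, hxU, hU, hU'⟩ := exists_common hL hL' x
  obtain ⟨T, hT, hxT, hTU⟩ := exists_isAffineOpen_mem_and_subset (X := X) (x := x) (U := U ⊓ W)
    ⟨hxU, hx⟩
  obtain ⟨ε⟩ : IsTrivAlong L T.ι := IsTrivAlong.of_le (hTU.trans inf_le_left) hU
  obtain ⟨ε'⟩ : IsTrivAlong L' T.ι := IsTrivAlong.of_le (hTU.trans inf_le_left) hU'
  have hTT : T.ι ''ᵁ ⊤ = T := Scheme.Opens.ι_image_top T
  have key : ∀ (T' : X.Opens) (_ : T.ι ''ᵁ ⊤ = T'), ∃ (l : Γ(L, T')) (l' : Γ(L', T')),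
      IsFrame L T' l ∧ IsFrame L' T' l' ∧
        IsFrame (CohB1.tensorMod L L') T' (SecTwist.tmul L L' T' l l') := by
    intro T' h
    subst h
    refine ⟨frameSec T L ε, frameSec T L' ε', isFrame_of_triv L T ε, isFrame_of_triv L' T ε', ?_⟩
    rw [← frameSec_tensorTriv]
    exact isFrame_of_triv _ T (tensorTriv L L' T ε ε')
  obtain ⟨l, l', h1, h2, h3⟩ := key T hTT
  exact ⟨T, l, l', hxT, hTU.trans inf_le_right, hT, h1, h2, h3⟩

/-- a frame in the strong sense, as a frame of helper1 over the same open -/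
def mkFrame {M : X.Modules} {T : X.Opens} {e : Γ(M, T)} (he : IsFrame M T e) : Frame M T where
  e := e
  bij := by
    have hres : M.presheaf.map (homOfLE (le_refl T)).op e = e :=
      Groth.Agent.Helper4.QAffSec.res_self M _ e
    constructor
    · intro r r' h
      have h1 : (r - r') • M.presheaf.map (homOfLE (le_refl T)).op e = 0 := by
        rw [hres, sub_smul]; exact sub_eq_zero.mpr h
      exact sub_eq_zero.mp ((he T le_rfl).2 _ h1)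
    · intro m
      obtain ⟨r, hr⟩ := (he T le_rfl).1 m
      rw [hres] at hr
      exact ⟨r, hr.symm⟩

theorem isFrame_coeff {M : X.Modules} {T : X.Opens} {e : Γ(M, T)} (he : IsFrame M T e)
    (m : Γ(M, T)) : ∃ r : Γ(X, T), m = r • e := by
  obtain ⟨r, hr⟩ := (he T le_rfl).1 m
  rw [Groth.Agent.Helper4.QAffSec.res_self M _ e] at hr
  exact ⟨r, hr⟩

theorem isFrame_inj {M : X.Modules} {T : X.Opens} {e : Γ(M, T)} (he : IsFrame M T e)
    (r : Γ(X, T)) (h : r • e = 0) : r = 0 := by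
  refine (he T le_rfl).2 r ?_
  rw [Groth.Agent.Helper4.QAffSec.res_self M _ e]
  exact h

/-- the coefficient of a frame in another frame is a unit -/
theorem isUnit_coeff {M : X.Modules} {T : X.Opens} {e e' : Γ(M, T)} (he : IsFrame M T e)
    (he' : IsFrame M T e') (c : Γ(X, T)) (h : e' = c • e) : IsUnit c := by
  obtain ⟨d, hd⟩ := isFrame_coeff he' e
  have h1 : (d * c - 1) • e = 0 := by
    rw [sub_smul, one_smul, mul_smul, ← h, ← hd, sub_self]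
  have h2 := isFrame_inj he _ h1
  exact IsUnit.of_mul_eq_one d (by rw [mul_comm]; exact sub_eq_zero.mp h2)

end frames

section formula

variable {Z : Scheme.{u}} {A B : Z.Modules} [A.IsQuasicoherent]
  {𝒮A : QCGrAlg Z} {jA : A ⟶ 𝒮A.toModule} (hjA : IsGrSymAlg A 𝒮A jA)
  {𝒮T : QCGrAlg Z} (jT : CohB1.tensorMod A B ⟶ 𝒮T.toModule)

/-- the twist of a monomial in a frame -/
theorem tw_frame_formula (V : Z.Opens) (hV : IsAffineOpen V) (l : Γ(A, V)) (l' : Γ(B, V))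
    (c α : Γ(Z, V)) (n : ℕ) :
    tw hjA jT V hV (c • l') ((𝒮A.str.app (op V)).hom α * (jR jA V l) ^ n) =
      (𝒮T.str.app (op V)).hom (α * c ^ n) * (jR jT V (SecTwist.tmul A B V l l')) ^ n := by
  rw [map_mul, map_pow, tw_str, tw_smul_jR, tw_jR, mul_pow, map_mul, map_pow]
  ring

end formula

section gen

open Groth.Agent.Helper1.PT

variable {X : Scheme.{u}} {𝒮L : QCGrAlg X} {T : X.Opens} {n : ℕ}
  {L : X.Modules} [L.IsQuasicoherent] {j : L ⟶ 𝒮L.toModule} (hj : IsGrSymAlg L 𝒮L j)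

include hj in
theorem isGenAt_of_isUnit (w : Fam 𝒮L T n) {V : X.Opens} (hV : IsAffineOpen V) (hT : V ≤ T)
    (F : Frame L V) (a : Γ(X, V)) (ha : w.w V hV hT = (𝒮L.str.app (op V)).hom a * (F.t j) ^ n)
    (hu : IsUnit a) : IsGenAt w V hV hT := by
  intro b hb
  obtain ⟨β, hβ⟩ := F.exists_eq hj hV hb
  obtain ⟨a', ha'⟩ := hu.exists_left_inv
  refine Ideal.mem_span_singleton'.mpr ⟨(𝒮L.str.app (op V)).hom (β * a'), ?_⟩
  rw [ha, hβ, ← mul_assoc, ← map_mul, mul_assoc, ha', mul_one]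

end gen


section main

open Groth.Agent.Helper1.PT Groth.Agent.Helper1.IM

variable {X Y : Scheme.{u}} (q : X ⟶ Y) {E₀ E' : Y.Modules} [E₀.IsQuasicoherent]
  {𝒮₀ : QCGrAlg Y} {j₀ : E₀ ⟶ 𝒮₀.toModule} (hj₀ : IsGrSymAlg E₀ 𝒮₀ j₀)
  {𝒮₁ : QCGrAlg Y} {j₁ : CohB1.tensorMod E₀ E' ⟶ 𝒮₁.toModule}
  (hj₁ : ∀ (U : Y.Opens) (hU : IsAffineOpen U) (x : Γ(CohB1.tensorMod E₀ E', U)),
    (j₁.app U) x ∈ 𝒮₁.deg U hU 1)
  {L L' : X.Modules} [L.IsQuasicoherent] (hL : PicF.IsInvertible L) (hL' : PicF.IsInvertible L')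
  [(CohB1.tensorMod L L').IsQuasicoherent]
  {𝒮L : QCGrAlg X} {jL : L ⟶ 𝒮L.toModule} (hjL : IsGrSymAlg L 𝒮L jL)
  {𝒮M : QCGrAlg X} {jM : CohB1.tensorMod L L' ⟶ 𝒮M.toModule}
  (hjM : IsGrSymAlg (CohB1.tensorMod L L') 𝒮M jM)
  (ι₀ : E₀ ⟶ (Scheme.Modules.pushforward q).obj L)
  (ι' : E' ⟶ (Scheme.Modules.pushforward q).obj L')
  (u₀ : QGrHom q 𝒮₀ 𝒮L) (u₁ : QGrHom q 𝒮₁ 𝒮M)
  (hu₀ : ∀ (U : Y.Opens) (V : X.Opens) (hle : V ≤ q ⁻¹ᵁ U) (e : Γ(E₀, U)),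
    (u₀.appLE U V hle).hom (j₀.app U e) =
      jL.app V (L.presheaf.map (homOfLE hle).op (ι₀.app U e)))
  (hu₁ : ∀ (U : Y.Opens) (V : X.Opens) (hle : V ≤ q ⁻¹ᵁ U) (x : Γ(CohB1.tensorMod E₀ E', U)),
    (u₁.appLE U V hle).hom (j₁.app U x) =
      jM.app V ((CohB1.tensorMod L L').presheaf.map (homOfLE hle).op ((ι₁ q ι₀ ι').app U x)))
  (U : Y.Opens) (hU : IsAffineOpen U) {n : ℕ} (s : 𝒮₀.presheaf.obj (op U))
  (hs : s ∈ 𝒮₀.deg U hU n) (e' : Γ(E', U))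

/-- the twisted family -/
abbrev famTw : Fam 𝒮M (q ⁻¹ᵁ U) n :=
  famOf u₁ U hU (tw hj₀ j₁ U hU e' s) (tw_mem hj₀ hj₁ U hU e' hs)

include hu₀ hu₁ hjL in
/-- on a framed affine open, both families are monomials in the frames -/
theorem exists_coeff (T : X.Opens) (hT : IsAffineOpen T) (hle : T ≤ q ⁻¹ᵁ U)
    (l : Γ(L, T)) (l' : Γ(L', T)) (hl : IsFrame L T l) (hl' : IsFrame L' T l')
    (hll' : IsFrame (CohB1.tensorMod L L') T (SecTwist.tmul L L' T l l')) :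
    ∃ α c : Γ(X, T),
      (famOf u₀ U hU s hs).w T hT hle = (𝒮L.str.app (op T)).hom α * ((mkFrame hl).t jL) ^ n ∧
      sec' q ι' U T hle e' = c • l' ∧
      (famTw q hj₀ hj₁ u₁ U hU s hs e').w T hT hle =
        (𝒮M.str.app (op T)).hom (α * c ^ n) * ((mkFrame hll').t jM) ^ n := by
  obtain ⟨α, hα⟩ := (mkFrame hl).exists_eq hjL hT ((famOf u₀ U hU s hs).mem T hT hle)
  obtain ⟨c, hc⟩ := isFrame_coeff hl' (sec' q ι' U T hle e')
  refine ⟨α, c, hα, hc, ?_⟩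
  have h1 : (famTw q hj₀ hj₁ u₁ U hU s hs e').w T hT hle =
      tw hjL jM T hT (sec' q ι' U T hle e') ((famOf u₀ U hU s hs).w T hT hle) :=
    appLE_tw q hj₀ hjL jM ι₀ ι' u₀ u₁ hu₀ hu₁ U hU T hT hle e' s
  rw [h1, hα, hc]
  exact tw_frame_formula hjL jM T hT l l' c α n

include hu₀ hu₁ hL hL' hjM hjL in
theorem Xw_tw_le :
    Xw (famTw q hj₀ hj₁ u₁ U hU s hs e') ≤ Xw (famOf u₀ U hU s hs) := by
  intro y hy
  obtain ⟨V, hyV⟩ := Opens.mem_iSup.mp hy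
  have hVle : (V.1.1.1 : X.Opens) ≤ Xw (famTw q hj₀ hj₁ u₁ U hU s hs e') :=
    le_iSup (fun V : {V : {V : X.affineOpens // V.1 ≤ q ⁻¹ᵁ U} //
      IsGenAt (famTw q hj₀ hj₁ u₁ U hU s hs e') V.1.1 V.1.2 V.2} => (V.1.1.1 : X.Opens)) V
  obtain ⟨T, l, l', hyT, hTV, hT, hl, hl', hll'⟩ := exists_frames₂ L L' hL hL' V.1.1.1 y hyV
  have hle : T ≤ q ⁻¹ᵁ U := hTV.trans V.1.2
  obtain ⟨α, c, h0, -, h1⟩ := exists_coeff q hj₀ hj₁ hjL ι₀ ι' u₀ u₁ hu₀ hu₁ U hU s hs e'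
    T hT hle l l' hl hl' hll'
  have hgen : IsGenAt (famTw q hj₀ hj₁ u₁ U hU s hs e') T hT hle :=
    isGenAt_of_le_Xw _ hT hle (hTV.trans hVle)
  have hu := isUnit_of_isGenAt _ hjM hT hle (mkFrame hll') hgen _ h1
  have hα : IsUnit α := isUnit_of_mul_isUnit_left hu
  have hgen₀ := isGenAt_of_isUnit hjL (famOf u₀ U hU s hs) hT hle (mkFrame hl) α h0 hα
  exact Opens.mem_iSup.mpr ⟨⟨⟨⟨T, hT⟩, hle⟩, hgen₀⟩, hyT⟩

include hu₀ hu₁ hL hL' hjM hjL in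
theorem le_Xw_tw
    (hσ : IsFrame L' (Xw (famOf u₀ U hU s hs))
      (sec' q ι' U (Xw (famOf u₀ U hU s hs)) (Xw_le _) e')) :
    Xw (famOf u₀ U hU s hs) ≤ Xw (famTw q hj₀ hj₁ u₁ U hU s hs e') := by
  intro y hy
  obtain ⟨T, l, l', hyT, hTW, hT, hl, hl', hll'⟩ :=
    exists_frames₂ L L' hL hL' (Xw (famOf u₀ U hU s hs)) y hy
  have hle : T ≤ q ⁻¹ᵁ U := hTW.trans (Xw_le _)
  obtain ⟨α, c, h0, hc, h1⟩ := exists_coeff q hj₀ hj₁ hjL ι₀ ι' u₀ u₁ hu₀ hu₁ U hU s hs e'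
    T hT hle l l' hl hl' hll'
  have hgen₀ : IsGenAt (famOf u₀ U hU s hs) T hT hle := isGenAt_of_le_Xw _ hT hle hTW
  have hα := isUnit_of_isGenAt _ hjL hT hle (mkFrame hl) hgen₀ _ h0
  have hσT : IsFrame L' T (sec' q ι' U T hle e') := by
    have h2 := IsFrame.res hσ hTW
    have h3 : L'.presheaf.map (homOfLE hTW).op
        (sec' q ι' U (Xw (famOf u₀ U hU s hs)) (Xw_le _) e') = sec' q ι' U T hle e' :=
      Groth.Agent.Helper4.QAffSec.res_res L' _ _ _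
    rwa [h3] at h2
  have hc' : IsUnit c := isUnit_coeff hl' hσT c hc
  have hgen := isGenAt_of_isUnit hjM (famTw q hj₀ hj₁ u₁ U hU s hs e') hT hle (mkFrame hll')
    (α * c ^ n) h1 (hα.mul (hc'.pow n))
  exact Opens.mem_iSup.mpr ⟨⟨⟨⟨T, hT⟩, hle⟩, hgen⟩, hyT⟩

include hu₀ hu₁ hL hL' hjM hjL in
/-- **the non-vanishing locus of the twisted family** -/
theorem Xw_tw_eq
    (hσ : IsFrame L' (Xw (famOf u₀ U hU s hs))
      (sec' q ι' U (Xw (famOf u₀ U hU s hs)) (Xw_le _) e')) :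
    Xw (famTw q hj₀ hj₁ u₁ U hU s hs e') = Xw (famOf u₀ U hU s hs) :=
  le_antisymm (Xw_tw_le q hj₀ hj₁ hL hL' hjL hjM ι₀ ι' u₀ u₁ hu₀ hu₁ U hU s hs e')
    (le_Xw_tw q hj₀ hj₁ hL hL' hjL hjM ι₀ ι' u₀ u₁ hu₀ hu₁ U hU s hs e' hσ)

end main

end

end Groth.Agent.Helper4.SN366
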