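import Mathlib
import Groth.Agent.Helper1.Dev28
import Groth.Agent.S4357

/-!
# Serre classes of coherent modules on a noetherian scheme are determined by supports
-/

set_option autoImplicit false
set_option linter.style.haveILetI false

namespace Groth.Agent.Helper4.NApx76

open CategoryTheory Limits AlgebraicGeometry TopologicalSpace
open Groth.Agent.Helper1.Dev Groth.Agent.Lead.Thick

universe u

variable {X : Scheme.{u}}

/-- a Serre class on coherent modules -/
def SerreCoh (P : ObjectProperty X.Modules) : Prop :=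
  ∀ S : ShortComplex X.Modules, S.ShortExact → Coh.IsCoh S.X₁ → Coh.IsCoh S.X₂ →
    Coh.IsCoh S.X₃ → (P S.X₂ ↔ P S.X₁ ∧ P S.X₃)

section Basic

variable {P : ObjectProperty X.Modules} (hP : SerreCoh P)

include hP in
theorem SerreCoh.of_mono {A B : X.Modules} (φ : A ⟶ B) [Mono φ] (hA : Coh.IsCoh A)
    (hB : Coh.IsCoh B) (h : P B) : P A :=
  ((hP (cokSC φ) (cokSC_shortExact φ) hA hB
    (Groth.Agent.Lead.PerfLib.isCoh_cokernel hA hB φ)).1 h).1

include hP in
theorem SerreCoh.of_epi [IsLocallyNoetherian X] {A B : X.Modules} (φ : A ⟶ B) [Epi φ]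
    (hA : Coh.IsCoh A) (hB : Coh.IsCoh B) (h : P A) : P B :=
  ((hP (kerSC φ) (kerSC_shortExact φ)
    (Groth.Agent.Lead.PerfLib.isCoh_kernel hA hB φ) hA hB).1 h).2

include hP in
theorem SerreCoh.of_iso [IsLocallyNoetherian X] {A B : X.Modules} (e : A ≅ B)
    (hA : Coh.IsCoh A) (h : P A) : P B :=
  hP.of_epi e.hom hA (Groth.Agent.Lead.PerfLib.isCoh_of_iso e hA) h

include hP in
theorem SerreCoh.zero {F M : X.Modules} (hF : Coh.IsCoh F) (hPF : P F) (hM : IsZero M) : P M := by
  haveI : Mono (0 : M ⟶ F) := ⟨fun _ _ _ => hM.eq_of_tgt _ _⟩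
  exact hP.of_mono (0 : M ⟶ F) (isCoh_of_isZero hM) hF hPF

end Basic

/-- `support ⊆ Z` is a Serre class -/
theorem serreCoh_support (Z : Set X) : SerreCoh (fun M : X.Modules => CohB1.support M ⊆ Z) := by
  intro S hS _ _ _
  haveI := hS.mono_f
  haveI := hS.epi_g
  constructor
  · intro h
    exact ⟨(support_subset_of_mono S.f).trans h, (support_subset_of_epi S.g).trans h⟩
  · rintro ⟨h1, h3⟩
    exact (support_subset_union S hS).trans (Set.union_subset h1 h3)

variable [IsNoetherian X]

/-- **Gabriel**: a Serre class of coherent modules containing `F` contains every coherent module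
supported in the support of `F` -/
theorem mem_of_support_subset {P : ObjectProperty X.Modules} (hP : SerreCoh P)
    (F E : X.Modules) (hF : Coh.IsCoh F) (hE : Coh.IsCoh E) (hPF : P F)
    (hsub : CohB1.support E ⊆ CohB1.support F) : P E := by
  haveI : F.IsQuasicoherent := hF.1
  let K : ObjectProperty X.Modules := fun M => Coh.IsCoh M → P M
  have hK : HalfClass K :=
    { iso := fun {M N} e hM hN =>
        hP.of_iso e (Groth.Agent.Lead.PerfLib.isCoh_of_iso e.symm hN)
          (hM (Groth.Agent.Lead.PerfLib.isCoh_of_iso e.symm hN))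
      zero := fun M hM _ => hP.zero hF hPF hM
      ext := fun S hS h1 h2 h3 k1 k3 _ => (hP S hS h1 h2 h3).2 ⟨k1 h1, k3 h3⟩ }
  have hcl : IsClosed (CohB1.support F) := Groth.Agent.S0020.result _ _ hF.2
  refine HalfClass.core hK ⟨_, hcl⟩ ?_ E hE hsub hE
  intro Y hY hirrY hB E' hE'
  have hint := isIntegral_subscheme Y hirrY
  set i := (Scheme.IdealSheafData.vanishingIdeal Y).subschemeι with hi
  haveI := isNoetherian_of_isClosedImmersion i
  have hK' := pushClass_halfClass i hK
  have hsmall : ∀ E : (Scheme.IdealSheafData.vanishingIdeal Y).subscheme.Modules, Coh.IsCoh E →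
      Subsingleton (E.presheaf.stalk (genericPoint _)) → pushClass i K E :=
    fun E hE hs => small_of_below Y hB _ E hE hs
  refine hK'.integral_main ?_ hsmall E' hE'
  -- the ideals
  have hleft : ∀ S : ShortComplex (Scheme.IdealSheafData.vanishingIdeal Y).subscheme.Modules,
      S.ShortExact → Coh.IsCoh S.X₁ → Coh.IsCoh S.X₂ → Coh.IsCoh S.X₃ →
      pushClass i K S.X₂ → pushClass i K S.X₃ → pushClass i K S.X₁ := by
    intro S hS h1 h2 h3 k2 _ c1
    exact ((hP (S.map (Scheme.Modules.pushforward i))
      (Groth.Agent.Helper1.ClTr.shortExact_push i S hS) c1 (isCoh_push i _ h2)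
      (isCoh_push i _ h3)).1 (k2 (isCoh_push i _ h2))).1
  have hroot : ∀ (N : (Scheme.IdealSheafData.vanishingIdeal Y).subscheme.Modules) (d : ℕ),
      1 ≤ d → Coh.IsCoh N → pushClass i K (∐ fun _ : Fin d => N) → pushClass i K N := by
    intro N d hd hN k cN
    have hS := Groth.Agent.Helper1.SerreFin.isCoh_sigma_fin (fun _ : Fin d => N) (fun _ => hN)
    let j : N ⟶ ∐ fun _ : Fin d => N := Sigma.ι (fun _ : Fin d => N) ⟨0, hd⟩
    haveI : Mono j := by
      have : IsSplitMono j := ⟨⟨Sigma.desc (fun _ => 𝟙 N), by simp [j]⟩⟩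
      infer_instance
    haveI : Mono ((Scheme.Modules.pushforward i).map j) := Functor.map_mono _ j
    exact hP.of_mono ((Scheme.Modules.pushforward i).map j) cN (isCoh_push i _ hS)
      (k (isCoh_push i _ hS))
  have hH : Coh.IsCoh ((Scheme.Modules.pullback i).obj F) := isCoh_pullback i F hF
  have hKH : pushClass i K ((Scheme.Modules.pullback i).obj F) := by
    intro c
    exact hP.of_epi (η i F) hF c hPF
  have hne : Nontrivial (((Scheme.Modules.pullback i).obj F).presheaf.stalk (genericPoint _)) := by
    rw [← not_subsingleton_iff_nontrivial]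
    have h1 : genericPoint (Scheme.IdealSheafData.vanishingIdeal Y).subscheme ∈
        CohB1.support ((Scheme.Modules.pullback i).obj F) := by
      haveI : Coh.IsQCoh F := hF.1
      rw [Groth.Agent.S4357.result i F hF.2]
      apply hY
      have h2 : i (genericPoint (Scheme.IdealSheafData.vanishingIdeal Y).subscheme) ∈
          Set.range (Scheme.IdealSheafData.vanishingIdeal Y).subschemeι := ⟨_, rfl⟩
      rw [range_ι_vanishingIdeal Y] at h2
      exact h2
    exact h1
  intro I ι hι hI
  exact ideals_of_generic hK' hleft hroot hsmall _ hH hKH hne I ι hι hI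

/-- the support criterion for membership in the Serre closure -/
theorem serreClosure_iff (F E : X.Modules) (hF : Coh.IsCoh F) (hE : Coh.IsCoh E) :
    (∀ P : ObjectProperty X.Modules, P F → SerreCoh P → P E) ↔
      CohB1.support E ⊆ CohB1.support F :=
  ⟨fun h => h (fun M => CohB1.support M ⊆ CohB1.support F) le_rfl (serreCoh_support _),
    fun h P hPF hP => mem_of_support_subset hP F E hF hE hPF h⟩

end Groth.Agent.Helper4.NApx76
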