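import Mathlib
import Groth.Agent.Helper4.NApx76
import Groth.Agent.Helper5.RedDense

/-!
# Closed subsets and Serre subcategories of finite type of `Coh(X)`
-/

set_option autoImplicit false
set_option linter.style.haveILetI false

namespace Groth.Agent.Helper4.NApx77

open CategoryTheory Limits AlgebraicGeometry TopologicalSpace
open Groth.Agent.Helper1.Dev Groth.Agent.Lead.Thick Groth.Agent.Helper4.NApx76

universe u

variable {X : Scheme.{u}}

/-- the support of a pushforward along a closed immersion -/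
theorem mem_support_push_iff {Z : Scheme.{u}} (i : Z ⟶ X) [IsClosedImmersion i] (M : Z.Modules)
    (z : Z) : i z ∈ CohB1.support ((Scheme.Modules.pushforward i).obj M) ↔
      z ∈ CohB1.support M := by
  have hb := Groth.Agent.Lead.PushStalk.psHom_bijective i M
    i.isClosedEmbedding.toIsEmbedding.toIsInducing z
  show ¬ Subsingleton _ ↔ ¬ Subsingleton _
  rw [not_iff_not]
  exact ⟨fun h => hb.2.subsingleton, fun h => hb.1.subsingleton⟩

variable [IsNoetherian X]

/-- every closed subset is the support of a coherent module -/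
theorem exists_coh_support_eq (Z : Closeds X) :
    ∃ G : X.Modules, Coh.IsCoh G ∧ CohB1.support G = (Z : Set X) := by
  set i := (Scheme.IdealSheafData.vanishingIdeal Z).subschemeι with hi
  refine ⟨(Scheme.Modules.pushforward i).obj (Coh.structureModule _),
    isCoh_push i _ (isCoh_structureModule _), ?_⟩
  apply le_antisymm
  · rw [← range_ι_vanishingIdeal Z]
    exact support_push_subset i _
  · intro x hx
    have hx' : x ∈ Set.range (Scheme.IdealSheafData.vanishingIdeal Z).subschemeι := by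
      rw [range_ι_vanishingIdeal Z]; exact hx
    obtain ⟨z, rfl⟩ := hx'
    exact (mem_support_push_iff i _ z).2
      (Groth.Agent.Helper5.RedDense.mem_support_structureModule _ z)

/-- S13990 -/
theorem main13990 :
    (∀ Z : Closeds X,
      SerreCoh (fun M : X.Modules => CohB1.support M ⊆ (↑Z : Set X)) ∧
      ∃ F : X.Modules, Coh.IsCoh F ∧ CohB1.support F ⊆ (↑Z : Set X) ∧
        ∀ Q : ObjectProperty X.Modules, SerreCoh Q → Q F →
          ∀ M : X.Modules, Coh.IsCoh M → CohB1.support M ⊆ (↑Z : Set X) → Q M) ∧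
    (∀ P : ObjectProperty X.Modules, SerreCoh P →
      (∃ F : X.Modules, Coh.IsCoh F ∧ P F ∧
        ∀ Q : ObjectProperty X.Modules, SerreCoh Q → Q F →
          ∀ M : X.Modules, Coh.IsCoh M → P M → Q M) →
      ∃! Z : Closeds X, ∀ M : X.Modules, Coh.IsCoh M →
        (P M ↔ CohB1.support M ⊆ (↑Z : Set X))) := by
  constructor
  · intro Z
    refine ⟨serreCoh_support _, ?_⟩
    obtain ⟨G, hG, hGZ⟩ := exists_coh_support_eq Z
    refine ⟨G, hG, hGZ.le, fun Q hQ hQG M hM hMZ => ?_⟩
    exact mem_of_support_subset hQ G M hG hM hQG (hMZ.trans hGZ.ge)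
  · rintro P hP ⟨F, hF, hPF, hgen⟩
    have hcl : IsClosed (CohB1.support F) := Groth.Agent.S0020.result _ _ hF.2
    have key : ∀ M : X.Modules, Coh.IsCoh M → (P M ↔ CohB1.support M ⊆ CohB1.support F) := by
      intro M hM
      constructor
      · intro hPM
        exact hgen (fun M => CohB1.support M ⊆ CohB1.support F) (serreCoh_support _) le_rfl M hM hPM
      · intro h
        exact mem_of_support_subset hP F M hF hM hPF h
    refine ⟨⟨_, hcl⟩, key, ?_⟩
    intro Z' hZ'
    obtain ⟨G, hG, hGZ⟩ := exists_coh_support_eq Z'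
    apply le_antisymm
    · show (Z' : Set X) ⊆ CohB1.support F
      rw [← hGZ]
      exact (key G hG).1 ((hZ' G hG).2 hGZ.le)
    · show CohB1.support F ⊆ (Z' : Set X)
      exact (hZ' F hF).1 hPF

/-- S13991 -/
theorem main13991 (Z : Closeds X) :
    IsPreirreducible (↑Z : Set X) ↔
    ∀ J₁ J₂ : ObjectProperty X.Modules, SerreCoh J₁ → SerreCoh J₂ →
      (∀ M : X.Modules, Coh.IsCoh M → J₁ M → CohB1.support M ⊆ (↑Z : Set X)) →
      (∀ M : X.Modules, Coh.IsCoh M → J₂ M → CohB1.support M ⊆ (↑Z : Set X)) →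
      (∀ Q : ObjectProperty X.Modules, SerreCoh Q →
        (∀ M : X.Modules, Coh.IsCoh M → J₁ M → Q M) → (∀ M : X.Modules, Coh.IsCoh M → J₂ M → Q M) →
        ∀ M : X.Modules, Coh.IsCoh M → CohB1.support M ⊆ (↑Z : Set X) → Q M) →
      (∀ M : X.Modules, Coh.IsCoh M → CohB1.support M ⊆ (↑Z : Set X) → J₁ M) ∨
        (∀ M : X.Modules, Coh.IsCoh M → CohB1.support M ⊆ (↑Z : Set X) → J₂ M) := by
  obtain ⟨G, hG, hGZ⟩ := exists_coh_support_eq Z
  constructor
  · intro hirr J₁ J₂ hJ₁ hJ₂ h₁ h₂ hgen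
    by_contra hcon
    rw [not_or] at hcon
    obtain ⟨hc₁, hc₂⟩ := hcon
    -- no member of `J₁` or `J₂` has full support
    have hne : ∀ (J : ObjectProperty X.Modules), SerreCoh J →
        (¬ ∀ M : X.Modules, Coh.IsCoh M → CohB1.support M ⊆ (↑Z : Set X) → J M) →
        ∀ M : X.Modules, Coh.IsCoh M → J M → CohB1.support M ≠ (↑Z : Set X) := by
      intro J hJ hc M hM hJM heq
      apply hc
      intro M' hM' hM'Z
      exact mem_of_support_subset hJ M M' hM hM' hJM (hM'Z.trans heq.ge)
    let Q : ObjectProperty X.Modules := fun M =>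
      CohB1.support M ⊆ (↑Z : Set X) ∧ CohB1.support M ≠ (↑Z : Set X)
    have hQ : SerreCoh Q := by
      intro S hS c1 c2 c3
      haveI := hS.mono_f
      haveI := hS.epi_g
      have hs1 := support_subset_of_mono S.f
      have hs3 := support_subset_of_epi S.g
      have hs2 := support_subset_union S hS
      constructor
      · rintro ⟨h, hne'⟩
        refine ⟨⟨hs1.trans h, fun he => hne' ?_⟩, ⟨hs3.trans h, fun he => hne' ?_⟩⟩
        · exact le_antisymm h (he.ge.trans hs1)
        · exact le_antisymm h (he.ge.trans hs3)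
      · rintro ⟨⟨h1, hn1⟩, ⟨h3, hn3⟩⟩
        refine ⟨hs2.trans (Set.union_subset h1 h3), fun he => ?_⟩
        have hcl1 : IsClosed (CohB1.support S.X₁) := Groth.Agent.S0020.result _ _ c1.2
        have hcl3 : IsClosed (CohB1.support S.X₃) := Groth.Agent.S0020.result _ _ c3.2
        rcases (isPreirreducible_iff_isClosed_union_isClosed.1 hirr) _ _ hcl1 hcl3
          (he.ge.trans hs2) with h | h
        · exact hn1 (le_antisymm h1 h)
        · exact hn3 (le_antisymm h3 h)
    have := hgen Q hQ (fun M hM hJM => ⟨h₁ M hM hJM, hne J₁ hJ₁ hc₁ M hM hJM⟩)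
      (fun M hM hJM => ⟨h₂ M hM hJM, hne J₂ hJ₂ hc₂ M hM hJM⟩) G hG hGZ.le
    exact this.2 hGZ
  · intro h
    rw [isPreirreducible_iff_isClosed_union_isClosed]
    intro z₁ z₂ hz₁ hz₂ hZ
    let Z₁ : Closeds X := ⟨(Z : Set X) ∩ z₁, Z.isClosed.inter hz₁⟩
    let Z₂ : Closeds X := ⟨(Z : Set X) ∩ z₂, Z.isClosed.inter hz₂⟩
    obtain ⟨G₁, hG₁, hGZ₁⟩ := exists_coh_support_eq Z₁
    obtain ⟨G₂, hG₂, hGZ₂⟩ := exists_coh_support_eq Z₂
    have := h (fun M => CohB1.support M ⊆ (Z₁ : Set X)) (fun M => CohB1.support M ⊆ (Z₂ : Set X))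
      (serreCoh_support _) (serreCoh_support _)
      (fun M _ hM => hM.trans Set.inter_subset_left) (fun M _ hM => hM.trans Set.inter_subset_left)
      (by
        intro Q hQ hq₁ hq₂ M hM hMZ
        have hb : Coh.IsCoh (G₁ ⊞ G₂) := Groth.Agent.Helper1.Dev.isCoh_biprod hG₁ hG₂
        have hQb : Q (G₁ ⊞ G₂) :=
          (hQ _ (ShortComplex.Splitting.ofHasBinaryBiproduct G₁ G₂).shortExact hG₁ hb hG₂).2
            ⟨hq₁ G₁ hG₁ hGZ₁.le, hq₂ G₂ hG₂ hGZ₂.le⟩
        refine mem_of_support_subset hQ (G₁ ⊞ G₂) M hb hM hQb ?_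
        intro x hx
        have hxZ := hMZ hx
        rcases hZ hxZ with h1 | h2
        · have : x ∈ CohB1.support G₁ := by rw [hGZ₁]; exact ⟨hxZ, h1⟩
          exact support_subset_of_mono (biprod.inl : G₁ ⟶ G₁ ⊞ G₂) this
        · have : x ∈ CohB1.support G₂ := by rw [hGZ₂]; exact ⟨hxZ, h2⟩
          exact support_subset_of_mono (biprod.inr : G₂ ⟶ G₁ ⊞ G₂) this)
    rcases this with h1 | h2
    · left
      exact (h1 G hG hGZ.le |> fun h' => hGZ.ge.trans h').trans Set.inter_subset_right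
    · right
      exact (h2 G hG hGZ.le |> fun h' => hGZ.ge.trans h').trans Set.inter_subset_right

end Groth.Agent.Helper4.NApx77
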