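import Mathlib
import Groth.Prelude.Def_RelSpec
import Groth.Prelude.Def_RelProj4
import Groth.Agent.Helper4.AffUP
import Groth.Agent.Helper4.RelSpecIso

universe u

open CategoryTheory CategoryTheory.Limits AlgebraicGeometry TopologicalSpace Opposite

namespace Groth.Agent.Helper4.SpecQ

/-- a morphism from an affine scheme landing in an affine open is `Spec` of its ring map -/
theorem eq_SpecMap_appLE_fromSpec {R : CommRingCat.{u}} {Z : Scheme.{u}} (j : Spec R ⟶ Z)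
    {W : Z.Opens} (hW : IsAffineOpen W) (e : (⊤ : (Spec R).Opens) ≤ j ⁻¹ᵁ W) :
    j = Spec.map (j.appLE W ⊤ e ≫ (Scheme.ΓSpecIso R).hom) ≫ hW.fromSpec := by
  have h := IsAffineOpen.SpecMap_appLE_fromSpec j hW (isAffineOpen_top (Spec R)) e
  rw [Spec.map_comp, Category.assoc, h, IsAffineOpen.fromSpec_top, Scheme.isoSpec_Spec_inv,
    ← Spec.map_comp_assoc]
  simp

/-- two morphisms from an affine scheme landing in the same affine open agree iff their ring maps agree -/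
theorem hom_ext_of_appLE {R : CommRingCat.{u}} {Z : Scheme.{u}} (j j' : Spec R ⟶ Z)
    {W : Z.Opens} (hW : IsAffineOpen W) (e : (⊤ : (Spec R).Opens) ≤ j ⁻¹ᵁ W)
    (e' : (⊤ : (Spec R).Opens) ≤ j' ⁻¹ᵁ W) (h : j.appLE W ⊤ e = j'.appLE W ⊤ e') : j = j' := by
  rw [eq_SpecMap_appLE_fromSpec j hW e, eq_SpecMap_appLE_fromSpec j' hW e', h]

section QMap

variable {S S' : Scheme.{u}} {q : S' ⟶ S} {B : RelSpec.QCAlg S} {B' : RelSpec.QCAlg S'}
  (u : RelSpec.QHom q B B')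

/-- the natural transformation underlying a `q`-morphism -/
def uNat : B.presheaf ⟶ q.base _* B'.presheaf where
  app U := u.app U.unop
  naturality U V i := (u.naturality (leOfHom i.unop)).symm

/-- the algebra homomorphism `π_* O_{Spec B} ⟶ (π' ≫ q)_* O_{Spec B'}` attached to `u` -/
noncomputable def omega : AffAlg.alg B.π ⟶ AffAlg.alg (B'.π ≫ q) :=
  haveI := RelSpecIso.isIso_gammaMap B'
  B.gammaMap ≫ uNat u ≫ (TopCat.Presheaf.pushforward CommRingCat.{u} q.base).map (inv B'.gammaMap)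

theorem omega_app (U : S.Opens) :
    haveI := RelSpecIso.isIso_gammaMap B'
    (omega u).app (op U) =
      B.gammaMap.app (op U) ≫ u.app U ≫ (inv B'.gammaMap).app (op (q ⁻¹ᵁ U)) := rfl

/-- the components of `omega`, with convenient types -/
noncomputable def omegaApp (U : S.Opens) :
    Γ(B.spec, B.π ⁻¹ᵁ U) ⟶ Γ(B'.spec, B'.π ⁻¹ᵁ (q ⁻¹ᵁ U)) :=
  haveI := RelSpecIso.isIso_gammaMap B'
  B.gammaMap.app (op U) ≫ u.app U ≫ (inv B'.gammaMap).app (op (q ⁻¹ᵁ U))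

theorem omegaApp_gammaMap (U : S.Opens) :
    omegaApp u U ≫ B'.gammaMap.app (op (q ⁻¹ᵁ U)) = B.gammaMap.app (op U) ≫ u.app U := by
  haveI := RelSpecIso.isIso_gammaMap B'
  unfold omegaApp
  simp only [Category.assoc]
  rw [← NatTrans.comp_app, IsIso.inv_hom_id, NatTrans.id_app, Category.comp_id]

theorem str_inv_gammaMap (B' : RelSpec.QCAlg S') (V : S'.Opens) :
    haveI := RelSpecIso.isIso_gammaMap B'
    B'.str.app (op V) ≫ (inv B'.gammaMap).app (op V) = B'.π.app V := by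
  haveI := RelSpecIso.isIso_gammaMap B'
  have h : B'.str ≫ inv B'.gammaMap = B'.π.c := by
    rw [IsIso.comp_inv_eq]; exact B'.π_c_gammaMap.symm
  exact NatTrans.congr_app h (op V)

theorem omega_comm : B.π.c ≫ omega u = (B'.π ≫ q).c := by
  haveI := RelSpecIso.isIso_gammaMap B'
  refine NatTrans.ext (funext fun U => ?_)
  induction U using Opposite.rec with | op U => ?_
  have h1 : B.π.app U ≫ B.gammaMap.app (op U) = B.str.app (op U) :=
    NatTrans.congr_app B.π_c_gammaMap (op U)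
  have h2 := u.str_app U
  have h3 := str_inv_gammaMap B' (q ⁻¹ᵁ U)
  change B.π.app U ≫ (B.gammaMap.app (op U) ≫ u.app U ≫ (inv B'.gammaMap).app (op (q ⁻¹ᵁ U))) =
    (B'.π ≫ q).app U
  calc B.π.app U ≫ (B.gammaMap.app (op U) ≫ u.app U ≫ (inv B'.gammaMap).app (op (q ⁻¹ᵁ U)))
      = (B.π.app U ≫ B.gammaMap.app (op U)) ≫ u.app U ≫
          (inv B'.gammaMap).app (op (q ⁻¹ᵁ U)) := by simp only [Category.assoc]
    _ = (B.str.app (op U) ≫ u.app U) ≫ (inv B'.gammaMap).app (op (q ⁻¹ᵁ U)) := by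
        rw [h1]; simp only [Category.assoc]
    _ = q.app U ≫ (B'.str.app (op (q ⁻¹ᵁ U)) ≫ (inv B'.gammaMap).app (op (q ⁻¹ᵁ U))) := by
        rw [h2]; simp only [Category.assoc]
    _ = q.app U ≫ B'.π.app (q ⁻¹ᵁ U) := by rw [h3]
    _ = (B'.π ≫ q).app U := (Scheme.Hom.comp_app _ _ _).symm

/-- `Spec(u)` -/
noncomputable def specQ : B'.spec ⟶ B.spec := AffUP.ofAlgHom B.π (B'.π ≫ q) (omega u)

theorem specQ_π : specQ u ≫ B.π = B'.π ≫ q :=
  AffUP.ofAlgHom_comp B.π (B'.π ≫ q) (omega u) (omega_comm u)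

theorem algHom_specQ : AffAlg.algHom B.π (B'.π ≫ q) (specQ u) (specQ_π u) = omega u :=
  AffUP.algHom_ofAlgHom B.π (B'.π ≫ q) (omega u) (omega_comm u)

theorem gammaMap_naturality' (B' : RelSpec.QCAlg S') {V V' : S'.Opens} (i : V' ≤ V) :
    B'.spec.presheaf.map (homOfLE (B'.π.preimage_mono i)).op ≫ B'.gammaMap.app (op V') =
      B'.gammaMap.app (op V) ≫ B'.presheaf.map (homOfLE i).op :=
  B'.gammaMap.naturality (homOfLE i).op

theorem ι_specQ (U : S.Opens) (hU : IsAffineOpen U) (U' : S'.Opens) (hU' : IsAffineOpen U')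
    (hle : U' ≤ q ⁻¹ᵁ U) :
    B'.ι U' hU' ≫ specQ u = Spec.map (u.appLE U U' hle) ≫ B.ι U hU := by
  haveI := RelSpecIso.isIso_gammaMap B'
  have hW : IsAffineOpen (B.π ⁻¹ᵁ U) := IsAffineHom.isAffine_preimage (f := B.π) U hU
  -- the two `⊤ ≤ preimage` facts
  have hle2 : B'.π ⁻¹ᵁ U' ≤ specQ u ⁻¹ᵁ (B.π ⁻¹ᵁ U) := by
    rw [← Scheme.Hom.comp_preimage, specQ_π, Scheme.Hom.comp_preimage]
    exact B'.π.preimage_mono hle
  have e1 : (⊤ : (Spec (B'.presheaf.obj (op U'))).Opens) ≤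
      (B'.ι U' hU' ≫ specQ u) ⁻¹ᵁ (B.π ⁻¹ᵁ U) := by
    rw [Scheme.Hom.comp_preimage]
    exact (B'.top_le_preimage U' hU').trans ((B'.ι U' hU').preimage_mono hle2)
  have e2 : (⊤ : (Spec (B'.presheaf.obj (op U'))).Opens) ≤
      (Spec.map (u.appLE U U' hle) ≫ B.ι U hU) ⁻¹ᵁ (B.π ⁻¹ᵁ U) := by
    rw [Scheme.Hom.comp_preimage]
    exact le_top.trans ((Spec.map (u.appLE U U' hle)).preimage_mono (B.top_le_preimage U hU))
  refine hom_ext_of_appLE _ _ hW e1 e2 ?_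
  rw [← cancel_mono (Scheme.ΓSpecIso (B'.presheaf.obj (op U'))).hom]
  -- left hand side
  have hL1 : (B'.ι U' hU' ≫ specQ u).appLE (B.π ⁻¹ᵁ U) ⊤ e1 =
      (specQ u).appLE (B.π ⁻¹ᵁ U) (B'.π ⁻¹ᵁ U') hle2 ≫
        (B'.ι U' hU').appLE (B'.π ⁻¹ᵁ U') ⊤ (B'.top_le_preimage U' hU') :=
    (Scheme.Hom.appLE_comp_appLE _ _ _ _ _ _ _).symm
  have hL2 : (specQ u).appLE (B.π ⁻¹ᵁ U) (B'.π ⁻¹ᵁ U') hle2 =
      omegaApp u U ≫ B'.spec.presheaf.map (homOfLE (B'.π.preimage_mono hle)).op := by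
    have h0 : omegaApp u U = (specQ u).appLE (B.π ⁻¹ᵁ U) (B'.π ⁻¹ᵁ (q ⁻¹ᵁ U))
        (AffUP.le_preimage_of_comp_eq B.π (B'.π ≫ q) (specQ u) (specQ_π u) U) := by
      exact ((congrArg (fun ω : AffAlg.alg B.π ⟶ AffAlg.alg (B'.π ≫ q) => ω.app (op U))
        (algHom_specQ u)).symm.trans
        (AffUP.algHom_app' B.π (B'.π ≫ q) (specQ u) (specQ_π u) U))
    rw [h0]
    exact (Scheme.Hom.appLE_map _ _ _).symm
  have hL3 : (B'.ι U' hU').appLE (B'.π ⁻¹ᵁ U') ⊤ (B'.top_le_preimage U' hU') ≫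
      (Scheme.ΓSpecIso (B'.presheaf.obj (op U'))).hom = B'.gammaMap.app (op U') := by
    rw [B'.gammaMap_app U' hU']; rfl
  have hL4 := gammaMap_naturality' B' hle
  have hL : (B'.ι U' hU' ≫ specQ u).appLE (B.π ⁻¹ᵁ U) ⊤ e1 ≫
      (Scheme.ΓSpecIso (B'.presheaf.obj (op U'))).hom =
      B.gammaMap.app (op U) ≫ u.appLE U U' hle := by
    rw [hL1, Category.assoc, hL3, hL2, Category.assoc, hL4, ← Category.assoc,
      omegaApp_gammaMap, Category.assoc, RelSpec.QHom.appLE_eq]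
  -- right hand side
  have hR1 : (Spec.map (u.appLE U U' hle) ≫ B.ι U hU).appLE (B.π ⁻¹ᵁ U) ⊤ e2 =
      (B.ι U hU).appLE (B.π ⁻¹ᵁ U) ⊤ (B.top_le_preimage U hU) ≫
        (Spec.map (u.appLE U U' hle)).appLE ⊤ ⊤ le_top :=
    (Scheme.Hom.appLE_comp_appLE _ _ _ _ _ _ _).symm
  have hR2 : (Spec.map (u.appLE U U' hle)).appLE ⊤ ⊤ le_top ≫
      (Scheme.ΓSpecIso (B'.presheaf.obj (op U'))).hom =
      (Scheme.ΓSpecIso (B.presheaf.obj (op U))).hom ≫ u.appLE U U' hle := by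
    rw [← Scheme.ΓSpecIso_naturality]
    congr 1
  have hR : (Spec.map (u.appLE U U' hle) ≫ B.ι U hU).appLE (B.π ⁻¹ᵁ U) ⊤ e2 ≫
      (Scheme.ΓSpecIso (B'.presheaf.obj (op U'))).hom =
      B.gammaMap.app (op U) ≫ u.appLE U U' hle := by
    rw [hR1, Category.assoc, hR2, ← Category.assoc, B.gammaMap_app U hU]
    rfl
  rw [hL, hR]

/-- index type: affine pairs `U' ⊆ q⁻¹ U` -/
structure Pair (q : S' ⟶ S) where
  U : S.Opens
  hU : IsAffineOpen U
  U' : S'.Opens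
  hU' : IsAffineOpen U'
  hle : U' ≤ q ⁻¹ᵁ U

theorem exists_pair (q : S' ⟶ S) (y' : S') : ∃ P : Pair q, y' ∈ P.U' := by
  obtain ⟨U, hU, hyU, -⟩ := exists_isAffineOpen_mem_and_subset (X := S) (x := q y')
    (U := ⊤) trivial
  obtain ⟨U', hU', hyU', hle⟩ := exists_isAffineOpen_mem_and_subset (X := S') (x := y')
    (U := q ⁻¹ᵁ U) hyU
  exact ⟨⟨U, hU, U', hU', hle⟩, hyU'⟩

variable (q) (B') in
/-- the cover of `Spec(B')` by the charts over affine pairs -/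
noncomputable def pairCover : B'.spec.OpenCover :=
  Scheme.Cover.mkOfCovers (Pair q) (fun P => Spec (B'.presheaf.obj (op P.U')))
    (fun P => B'.ι P.U' P.hU')
    (fun x => by
      obtain ⟨P, hP⟩ := exists_pair q (B'.π x)
      have hx : x ∈ B'.π ⁻¹ᵁ P.U' := hP
      rw [B'.π_preimage P.U' P.hU'] at hx
      obtain ⟨y, hy⟩ := hx
      exact ⟨P, y, hy⟩)

/-- the chart condition for a morphism `Spec(B') ⟶ Spec(B)` -/
def IsChartwise (v : B'.spec ⟶ B.spec) : Prop :=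
  ∀ (U : S.Opens) (hU : IsAffineOpen U) (U' : S'.Opens) (hU' : IsAffineOpen U')
    (hle : U' ≤ q ⁻¹ᵁ U), B'.ι U' hU' ≫ v = Spec.map (u.appLE U U' hle) ≫ B.ι U hU

theorem isChartwise_specQ : IsChartwise u (specQ u) := fun U hU U' hU' hle =>
  ι_specQ u U hU U' hU' hle

theorem eq_of_isChartwise (v v' : B'.spec ⟶ B.spec) (hv : IsChartwise u v)
    (hv' : IsChartwise u v') : v = v' := by
  refine Scheme.Cover.hom_ext (pairCover q B') _ _ fun P => ?_
  change B'.ι P.U' P.hU' ≫ v = B'.ι P.U' P.hU' ≫ v'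
  rw [hv P.U P.hU P.U' P.hU' P.hle, hv' P.U P.hU P.U' P.hU' P.hle]

theorem comp_π_of_isChartwise (v : B'.spec ⟶ B.spec) (hv : IsChartwise u v) :
    v ≫ B.π = B'.π ≫ q := by
  rw [eq_of_isChartwise u v (specQ u) hv (isChartwise_specQ u), specQ_π]

end QMap

end Groth.Agent.Helper4.SpecQ
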