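import Mathlib
import Groth.Prelude.Def_RelSpec
import Groth.Prelude.Def_MoreMor
import Groth.Agent.Helper4.AffUP
import Groth.Agent.Helper4.RelSpecIso

universe u

open CategoryTheory CategoryTheory.Limits AlgebraicGeometry TopologicalSpace Opposite

namespace Groth.Agent.Helper4.QAffSpec

variable {X S : Scheme.{u}} (f : X ⟶ S) [QuasiCompact f] [QuasiSeparated f]

theorem mpr (c : X ⟶ (RelSpec.QCAlg.directImage f).spec)
    (e : c ≫ (RelSpec.QCAlg.directImage f).π = f) [QuasiCompact c] [IsOpenImmersion c] :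
    MoreMor.IsQuasiAffineHom f := by
  refine ⟨inferInstance, fun V hV => ?_⟩
  let A := RelSpec.QCAlg.directImage f
  have hle : f ⁻¹ᵁ V ≤ c ⁻¹ᵁ (A.π ⁻¹ᵁ V) := AffUP.le_preimage_of_comp_eq A.π f c e V
  haveI : IsAffine (A.π ⁻¹ᵁ V : Scheme.{u}) := IsAffineHom.isAffine_preimage (f := A.π) V hV
  haveI : CompactSpace (f ⁻¹ᵁ V : Scheme.{u}) :=
    isCompact_iff_compactSpace.mp (f.isCompact_preimage hV.isCompact)
  exact Scheme.IsQuasiAffine.of_isImmersion (c.resLE (A.π ⁻¹ᵁ V) (f ⁻¹ᵁ V) hle)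

instance isOpenImmersion_toSpecΓ_opens {Y : Scheme.{u}} (W : Y.Opens)
    [Scheme.IsQuasiAffine (W : Scheme.{u})] : IsOpenImmersion W.toSpecΓ := by
  unfold Scheme.Opens.toSpecΓ
  infer_instance

theorem mp (hf : MoreMor.IsQuasiAffineHom f) :
    ∃ (c : X ⟶ (RelSpec.QCAlg.directImage f).spec) (e : c ≫ (RelSpec.QCAlg.directImage f).π = f),
        (RelSpec.QCAlg.directImage f).gammaMap = AffAlg.algHom (RelSpec.QCAlg.directImage f).π f c e ∧
          QuasiCompact c ∧ IsOpenImmersion c := by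
  let A := RelSpec.QCAlg.directImage f
  have hω : A.π.c ≫ A.gammaMap = f.c := A.π_c_gammaMap
  let c : X ⟶ A.spec := AffUP.ofAlgHom A.π f A.gammaMap
  have he : c ≫ A.π = f := AffUP.ofAlgHom_comp A.π f A.gammaMap hω
  haveI := RelSpecIso.isIso_gammaMap A
  -- the local description
  have hloc : ∀ U : S.AffineZariskiSite, IsOpenImmersion ((f ⁻¹ᵁ U.1).ι ≫ c) := by
    intro U
    haveI : Scheme.IsQuasiAffine (f ⁻¹ᵁ U.1 : Scheme.{u}) := hf.2 U.1 U.2
    have h1 : (f ⁻¹ᵁ U.1).ι ≫ c = AffUP.piece A.π f A.gammaMap U := AffUP.ι_ofAlgHom A.π f A.gammaMap U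
    rw [h1]
    unfold AffUP.piece
    haveI : IsIso (A.gammaMap.app (op U.1)) := inferInstance
    haveI : IsIso (Spec.map (A.gammaMap.app (op U.1))) := inferInstance
    haveI h3 : IsOpenImmersion (AffUP.isAffineOpen_preimage A.π U).fromSpec := inferInstance
    haveI h4 : IsOpenImmersion (f ⁻¹ᵁ U.1).toSpecΓ := isOpenImmersion_toSpecΓ_opens _
    haveI h5 : IsOpenImmersion (Spec.map (A.gammaMap.app (op U.1)) ≫
      (AffUP.isAffineOpen_preimage A.π U).fromSpec) := inferInstance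
    exact @IsOpenImmersion.comp _ _ _ _ _ h4 h5
  have hpre : ∀ U : S.Opens, c ⁻¹ᵁ (A.π ⁻¹ᵁ U) = f ⁻¹ᵁ U := by
    intro U
    rw [← Scheme.Hom.comp_preimage, he]
  have hx : ∀ x : X, ∃ U : S.AffineZariskiSite, c x ∈ A.π ⁻¹ᵁ U.1 := by
    intro x
    obtain ⟨U, hU, hxU, -⟩ := exists_isAffineOpen_mem_and_subset (X := S) (x := f x) (U := ⊤) trivial
    refine ⟨⟨U, hU⟩, ?_⟩
    change A.π (c x) ∈ U
    rw [← Scheme.Hom.comp_apply, he]
    exact hxU
  refine ⟨c, he, (AffUP.algHom_ofAlgHom A.π f A.gammaMap hω).symm, ?_, ?_⟩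
  · haveI : QuasiCompact (c ≫ A.π) := by rw [he]; infer_instance
    exact QuasiCompact.of_comp c A.π
  · apply IsZariskiLocalAtTarget.of_forall_source_exists_preimage (P := @IsOpenImmersion)
    intro x
    obtain ⟨U, hU⟩ := hx x
    refine ⟨A.π ⁻¹ᵁ U.1, hU, ?_⟩
    rw [hpre]
    exact hloc U

end Groth.Agent.Helper4.QAffSpec
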