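import Mathlib
import Groth.Agent.Helper4.SN200
import Groth.Agent.Helper4.QAffSec

/-!
# Frames and invertibility of the restriction of a module to an open subscheme
-/

set_option autoImplicit false
set_option linter.unusedSectionVars false
set_option linter.unusedVariables false

namespace Groth.Agent.Helper4.SN257

open CategoryTheory CategoryTheory.Limits AlgebraicGeometry TopologicalSpace Opposite
open Groth.Agent.Helper4.TwistExt Groth.Agent.Helper4.SN200 Groth.Agent.Helper4.TensorInv
  Groth.Agent.Helper4.QAffSec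

universe u

variable {X Y : Scheme.{u}} (j : Y ⟶ X) [IsOpenImmersion j]

/-- a frame of `L` on `j(T)` is a frame of the restriction of `L` on `T` -/
theorem isFrame_restrict (L : X.Modules) (T : Y.Opens) (e : Γ(L, j ''ᵁ T))
    (h : IsFrame L (j ''ᵁ T) e) :
    IsFrame (L.restrict j) T (show Γ(L.restrict j, T) from e) := by
  apply isFrame_of_bijective
  intro V hV
  have hV' : j ''ᵁ V ≤ j ''ᵁ T := j.image_mono hV
  have h1 := bijective_of_isFrame L _ e h (j ''ᵁ V) hV'
  have h2 : Function.Bijective (fun r : Γ(Y, V) => (j.appIso V).inv r) :=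
    (ConcreteCategory.isIso_iff_bijective (j.appIso V).inv).mp inferInstance
  exact h1.comp h2

/-- the restriction to an open subscheme of a module which is locally trivial around the points of
that subscheme is invertible -/
theorem isInvertible_restrict_of_local {L : X.Modules}
    (h : ∀ y : Y, ∃ V : X.Opens, j y ∈ V ∧ IsTrivAlong L V.ι) :
    PicF.IsInvertible (L.restrict j) := by
  intro y
  obtain ⟨V, hxV, hV⟩ := h y
  refine ⟨j ⁻¹ᵁ V, hxV, ?_⟩
  have hk : (j.resLE V (j ⁻¹ᵁ V) le_rfl) ≫ V.ι = (j ⁻¹ᵁ V).ι ≫ j := Scheme.Hom.resLE_comp_ι ..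
  have : IsOpenImmersion ((j.resLE V (j ⁻¹ᵁ V) le_rfl) ≫ V.ι) := by rw [hk]; infer_instance
  have : IsOpenImmersion (j.resLE V (j ⁻¹ᵁ V) le_rfl) := IsOpenImmersion.of_comp _ V.ι
  exact IsTrivAlong.restrict j _ ((IsTrivAlong.comp V.ι hV _).congr hk)

end Groth.Agent.Helper4.SN257
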