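import Mathlib
import Groth.Agent.Helper4.SN346
import Groth.Agent.Helper4.SN352
import Groth.Agent.Helper4.SN200

/-!
# Frames, generating loci and pullbacks of frames
-/

set_option autoImplicit false
set_option linter.unusedSectionVars false
set_option linter.style.haveILetI false

namespace Groth.Agent.Helper4.SN413

open CategoryTheory CategoryTheory.Limits AlgebraicGeometry TopologicalSpace Opposite
open Groth.Agent.Helper4.GenLoc Groth.Agent.Helper4.TensorInv Groth.Agent.Helper4.TensorGen
  Groth.Agent.Helper4.TwistLocal Groth.Agent.Helper4.TwistExt Groth.Agent.Helper4.PullMate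
  Groth.Agent.Helper4.PullTensor Groth.Agent.Helper4.SN346 Groth.Agent.Helper4.SN200
  Groth.Agent.Helper4.QAffSec Groth.Agent.Helper4.PullSec

universe u

variable {X : Scheme.{u}}

/-- a unit restricts to a unit exactly on the opens inside the basic open -/
theorem isUnit_res_iff' {T V : X.Opens} (hV : V ≤ T) (b : Γ(X, T)) :
    IsUnit (X.presheaf.map (homOfLE hV).op b) ↔ V ≤ X.basicOpen b := by
  constructor
  · intro h
    have h1 := X.basicOpen_of_isUnit h
    rw [Scheme.basicOpen_res] at h1
    exact (inf_eq_left.mp h1)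
  · intro h
    have h1 := RingedSpace.isUnit_res_basicOpen X.toRingedSpace b
    have h2 := h1.map (X.presheaf.map (homOfLE h).op).hom
    have h3 : (X.presheaf.map (homOfLE h).op).hom
        ((X.presheaf.map (homOfLE (X.basicOpen_le b)).op).hom b) =
        (X.presheaf.map (homOfLE hV).op).hom b := by
      rw [← CommRingCat.comp_apply, ← Functor.map_comp]
      rfl
    exact (congrArg IsUnit h3).mp h2

theorem app_eq_smul_val {N : X.Modules} (σ : Coh.structureModule X ⟶ N) (V : X.Opens)
    (r : Γ(X, V)) :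
    σ.app V (show Γ(Coh.structureModule X, V) from r) =
      r • (show Γ(N, V) from SecTwist.val σ V) := by
  have h1 : (show Γ(Coh.structureModule X, V) from r) = r • one X V := (GenLoc.smul_one V r).symm
  have h2 : σ.app V (r • one X V) = r • σ.app V (one X V) := Scheme.Modules.Hom.app_smul ..
  exact (congrArg (σ.app V) h1).trans h2

/-- the generating locus of a section in terms of its coordinate in a frame -/
theorem genLocus_inf_eq_basicOpen_of_isFrame {N : X.Modules} (σ : Coh.structureModule X ⟶ N)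
    {T : X.Opens} {e : Γ(N, T)} (he : IsFrame N T e) (b : Γ(X, T))
    (hb : SecTwist.val σ T = b • e) : CohB1.genLocus N σ ⊓ T = X.basicOpen b := by
  have hval : ∀ (V : X.Opens) (hV : V ≤ T), (show Γ(N, V) from SecTwist.val σ V) =
      X.presheaf.map (homOfLE hV).op b • N.presheaf.map (homOfLE hV).op e := by
    intro V hV
    rw [← val_res σ hV, hb, Scheme.Modules.map_smul]
  have key : ∀ (V : X.Opens) (hV : V ≤ T),
      V ≤ CohB1.genLocus N σ ↔ IsUnit (X.presheaf.map (homOfLE hV).op b) := by
    intro V hV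
    constructor
    · intro h
      have h1 := (isIso_restrict_iff σ V).mp ((le_genLocus_iff σ V).mp h) V le_rfl
      obtain ⟨r0, hr⟩ := h1.2 (N.presheaf.map (homOfLE hV).op e)
      obtain ⟨r, hr0⟩ : ∃ r : Γ(X, V), r = toFn r0 := ⟨_, rfl⟩
      have hr' : σ.app V (show Γ(Coh.structureModule X, V) from r) =
          N.presheaf.map (homOfLE hV).op e := by rw [hr0]; exact hr
      rw [app_eq_smul_val, hval V hV, smul_smul] at hr'
      have h2 : (r * X.presheaf.map (homOfLE hV).op b - 1) • N.presheaf.map (homOfLE hV).op e = 0 := by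
        rw [sub_smul, one_smul, hr', sub_self]
      have h3 := (he V hV).2 _ h2
      exact IsUnit.of_mul_eq_one r (by rw [mul_comm]; exact sub_eq_zero.mp h3)
    · intro hu
      rw [le_genLocus_iff, isIso_restrict_iff]
      intro W hW
      have hWT : W ≤ T := hW.trans hV
      have hu' : IsUnit (X.presheaf.map (homOfLE hWT).op b) := by
        have := hu.map (X.presheaf.map (homOfLE hW).op).hom
        rwa [show (X.presheaf.map (homOfLE hW).op).hom (X.presheaf.map (homOfLE hV).op b) =
          X.presheaf.map (homOfLE hWT).op b from res_resO hV hW b] at this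
      have hbij := bijective_of_isFrame N T e he W hWT
      have hfun : (σ.app W : Γ(Coh.structureModule X, W) → Γ(N, W)) =
          (fun r : Γ(X, W) => r • N.presheaf.map (homOfLE hWT).op e) ∘
            (fun r : Γ(X, W) => r * X.presheaf.map (homOfLE hWT).op b) := by
        funext r
        have := app_eq_smul_val σ W r
        rw [hval W hWT, smul_smul] at this
        exact this
      rw [hfun]
      refine hbij.comp ?_
      obtain ⟨c, hc⟩ := hu'.exists_right_inv
      constructor
      · intro (r : Γ(X, W)) (r' : Γ(X, W)) hrr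
        have hrr' : r * X.presheaf.map (homOfLE hWT).op b = r' * X.presheaf.map (homOfLE hWT).op b :=
          hrr
        have h5 : r * X.presheaf.map (homOfLE hWT).op b * c =
            r' * X.presheaf.map (homOfLE hWT).op b * c := congrArg (· * c) hrr'
        rw [mul_assoc, mul_assoc, hc, mul_one, mul_one] at h5
        exact h5
      · intro (r : Γ(X, W))
        refine ⟨r * c, ?_⟩
        show r * c * X.presheaf.map (homOfLE hWT).op b = r
        rw [mul_assoc, mul_comm c, hc, mul_one]
  apply le_antisymm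
  · have h1 : CohB1.genLocus N σ ⊓ T ≤ T := inf_le_right
    exact (isUnit_res_iff' h1 b).mp ((key _ h1).mp inf_le_left)
  · have h1 : X.basicOpen b ≤ T := X.basicOpen_le b
    exact le_inf ((key _ h1).mpr ((isUnit_res_iff' h1 b).mpr le_rfl)) h1

theorem isFrame_of_res_eq {M : X.Modules} {T₁ T₂ : X.Opens} (h12 : T₁ ≤ T₂) (h21 : T₂ ≤ T₁)
    (e₁ : Γ(M, T₁)) (e₂ : Γ(M, T₂)) (he : M.presheaf.map (homOfLE h12).op e₂ = e₁)
    (h : IsFrame M T₁ e₁) : IsFrame M T₂ e₂ := by
  intro V hV
  have hV1 : V ≤ T₁ := hV.trans h21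
  have : M.presheaf.map (homOfLE hV).op e₂ = M.presheaf.map (homOfLE hV1).op e₁ := by
    rw [← he, res_res]
  rw [this]
  exact h V hV1

theorem isFrame_app_of_eq_top (L : X.Modules) (U : X.Opens)
    (φ : Coh.structureModule (U : Scheme.{u}) ≅ L.restrict U.ι)
    (W : (U : Scheme.{u}).Opens) (hW : W = ⊤) :
    IsFrame L (U.ι ''ᵁ W) (φ.hom.app W (one _ W)) := by
  subst hW
  exact isFrame_of_triv L U φ.symm

variable {X' : Scheme.{u}} (π : X' ⟶ X)

/-- the pullback of a frame is a frame -/
theorem isFrame_η (M : X.Modules) (T : X.Opens)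
    (ε : M.restrict T.ι ≅ Coh.structureModule (T : Scheme.{u})) :
    IsFrame ((Scheme.Modules.pullback π).obj M) (π ⁻¹ᵁ (T.ι ''ᵁ ⊤))
      ((η π M).app (T.ι ''ᵁ ⊤) (frameSec T M ε)) := by
  have h1 := isFrame_app_of_eq_top ((Scheme.Modules.pullback π).obj M) (π ⁻¹ᵁ T)
    (frameIso π T M ε) _ (preimage_eq_top π T)
  rw [frame_eval] at h1
  refine isFrame_of_res_eq _ ?_ _ _ rfl h1
  intro x' hx'
  have hx : π x' ∈ T := by
    have : π x' ∈ T.ι ''ᵁ ⊤ := hx'
    rwa [Scheme.Opens.ι_image_top] at this
  refine ⟨⟨x', hx⟩, ?_, rfl⟩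
  rw [preimage_eq_top]
  trivial

/-- charts adapted to a morphism -/
theorem exists_frames_pull (M : X.Modules) (hM : PicF.IsInvertible M) (x : X) :
    ∃ (T : X.Opens) (e : Γ(M, T)), x ∈ T ∧ IsAffineOpen T ∧ IsFrame M T e ∧
      (∀ n, IsFrame (CohB1.tensorPow M n) T (ePow M T e n)) ∧
      IsFrame ((Scheme.Modules.pullback π).obj M) (π ⁻¹ᵁ T) ((η π M).app T e) := by
  obtain ⟨W, hxW, hW, ⟨ε⟩⟩ := exists_affine_triv M hM x
  have hT : W.ι ''ᵁ ⊤ = W := Scheme.Opens.ι_image_top W
  refine ⟨W.ι ''ᵁ ⊤, frameSec W M ε, ?_, ?_, isFrame_of_triv M W ε,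
    fun n => isFrame_ePow M W ε n, isFrame_η π M W ε⟩
  · rw [hT]; exact hxW
  · rw [hT]; exact hW

theorem η_smul (M : X.Modules) (V : X.Opens) (r : Γ(X, V)) (m : Γ(M, V)) :
    (show Γ((Scheme.Modules.pullback π).obj M, π ⁻¹ᵁ V) from (η π M).app V (r • m)) =
      (π.app V r) •
        (show Γ((Scheme.Modules.pullback π).obj M, π ⁻¹ᵁ V) from (η π M).app V m) := by
  have h := Scheme.Modules.Hom.app_smul (η π M) (U := V) r m
  exact h

theorem η_res (M : X.Modules) {V W : X.Opens} (h : W ≤ V) (m : Γ(M, V)) :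
    (show Γ((Scheme.Modules.pullback π).obj M, π ⁻¹ᵁ W) from
        (η π M).app W (M.presheaf.map (homOfLE h).op m)) =
      ((Scheme.Modules.pullback π).obj M).presheaf.map
        (homOfLE (show π ⁻¹ᵁ W ≤ π ⁻¹ᵁ V from fun _ hx => h hx)).op
        (show Γ((Scheme.Modules.pullback π).obj M, π ⁻¹ᵁ V) from (η π M).app V m) :=
  Groth.Agent.Helper4.StalkExact.app_res (η π M) (homOfLE h) m

end Groth.Agent.Helper4.SN413
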