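import Mathlib
import Groth.Agent.Helper4.SN413
import Groth.Agent.Helper4.SN257

/-!
# More on frames: frames from generating loci, trivializations from frames, powers of frames
-/

set_option autoImplicit false
set_option linter.unusedSectionVars false
set_option linter.style.haveILetI false

namespace Groth.Agent.Helper4.SN417

open CategoryTheory CategoryTheory.Limits AlgebraicGeometry TopologicalSpace Opposite
open Groth.Agent.Helper4.GenLoc Groth.Agent.Helper4.TensorInv Groth.Agent.Helper4.TensorGen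
  Groth.Agent.Helper4.TwistLocal Groth.Agent.Helper4.TwistExt Groth.Agent.Helper4.PullMate
  Groth.Agent.Helper4.PullTensor Groth.Agent.Helper4.SN346 Groth.Agent.Helper4.SN200
  Groth.Agent.Helper4.QAffSec Groth.Agent.Helper4.PullSec Groth.Agent.Helper4.SN413
  Groth.Agent.Helper4.SN352

universe u

variable {X : Scheme.{u}}

/-- a section is a frame on every open inside its generating locus -/
theorem isFrame_of_le_genLocus {M : X.Modules} (σ : Coh.structureModule X ⟶ M) (V : X.Opens)
    (hV : V ≤ CohB1.genLocus M σ) : IsFrame M V (SecTwist.val σ V) := by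
  apply isFrame_of_bijective
  intro W hW
  have h1 := (isIso_restrict_iff σ V).mp ((le_genLocus_iff σ V).mp hV) W hW
  have hfun : (fun r : Γ(X, W) => r • M.presheaf.map (homOfLE hW).op (SecTwist.val σ V)) =
      σ.app W := by
    funext r
    rw [val_res]
    exact (app_eq_smul_val σ W r).symm
  rw [hfun]
  exact h1

/-- a frame over `T` is the frame of a trivialization over `T` -/
theorem exists_triv_of_isFrame {M : X.Modules} {T : X.Opens} {e : Γ(M, T)} (he : IsFrame M T e) :
    ∃ ε : M.restrict T.ι ≅ Coh.structureModule (T : Scheme.{u}),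
      frameSec T M ε = M.presheaf.map (homOfLE (Scheme.Opens.ι_image_top T).le).op e := by
  have hle : T.ι ''ᵁ ⊤ ≤ T := (Scheme.Opens.ι_image_top T).le
  obtain ⟨e₀, he₀⟩ : ∃ e₀ : Γ(M, T.ι ''ᵁ ⊤), e₀ = M.presheaf.map (homOfLE hle).op e := ⟨_, rfl⟩
  have hfr₀ : IsFrame M (T.ι ''ᵁ ⊤) e₀ := by rw [he₀]; exact Groth.Agent.Helper4.SN352.IsFrame.res he hle
  have hfr₁ : IsFrame (M.restrict T.ι) ⊤ (show Γ(M.restrict T.ι, ⊤) from e₀) :=
    Groth.Agent.Helper4.SN257.isFrame_restrict T.ι M ⊤ e₀ hfr₀
  obtain ⟨φ0, hφ0⟩ := Groth.Agent.Helper4.SubExt.exists_unit_hom_of_section (M.restrict T.ι)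
    (show Γ(M.restrict T.ι, ⊤) from e₀)
  let φ : Coh.structureModule (T : Scheme.{u}) ⟶ M.restrict T.ι := φ0
  have hφ : (show Γ(M.restrict T.ι, ⊤) from SecTwist.val φ ⊤) = e₀ := hφ0
  haveI : IsIso φ := by
    apply isIso_of_app_bijective
    intro V'
    have hbij := bijective_of_isFrame (M.restrict T.ι) ⊤ _ hfr₁ V' le_top
    have hfun : (φ.app V' : Γ(Coh.structureModule (T : Scheme.{u}), V') → Γ(M.restrict T.ι, V')) =
        (fun r : Γ((T : Scheme.{u}), V') => r • (M.restrict T.ι).presheaf.map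
          (homOfLE (le_top : V' ≤ ⊤)).op (show Γ(M.restrict T.ι, ⊤) from e₀)) := by
      funext r
      rw [← hφ, val_res φ (le_top : V' ≤ ⊤)]
      exact app_eq_smul_val φ V' r
    rw [hfun]
    exact hbij
  refine ⟨(asIso φ).symm, ?_⟩
  rw [← he₀]
  exact hφ

/-- the powers of a frame are frames of the tensor powers -/
theorem isFrame_ePow_of_isFrame {M : X.Modules} {T : X.Opens} {e : Γ(M, T)} (he : IsFrame M T e)
    (n : ℕ) : IsFrame (CohB1.tensorPow M n) T (ePow M T e n) := by
  obtain ⟨ε, hε⟩ := exists_triv_of_isFrame he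
  have h1 := isFrame_ePow M T ε n
  rw [hε, ← ePow_map] at h1
  exact isFrame_of_res_eq (Scheme.Opens.ι_image_top T).le (Scheme.Opens.ι_image_top T).ge _ _ rfl h1

end Groth.Agent.Helper4.SN417
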