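import Mathlib
import Groth.Agent.Helper4.NApx41
import Groth.Agent.Helper4.NApx27
import Groth.Agent.Helper1.SerreF

/-!
# The blow-up of a two-dimensional regular local ring has cohomological dimension `≤ 1` (S1623)
-/

set_option autoImplicit false
set_option linter.unusedSectionVars false
set_option linter.style.haveILetI false
universe u

open CategoryTheory CategoryTheory.Limits AlgebraicGeometry TopologicalSpace Opposite

namespace Groth.Agent.Helper4.SN

section Blow2

open Groth.Agent.Helper4.NApx37 Groth.Agent.Helper4.NApx38 Groth.Agent.Helper4.NApx41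

variable {A : Type u} [CommRing A]

/-- the two charts of the blow-up of an ideal generated by two elements cover -/
theorem basicOpen_sup_eq_top (I : Ideal A) (x y : A) (hx : x ∈ I) (hy : y ∈ I)
    (hI : I = Ideal.span {x, y}) :
    Proj.basicOpen (𝒜 A I) (t x hx) ⊔ Proj.basicOpen (𝒜 A I) (t y hy) = ⊤ := by
  rw [eq_top_iff]
  intro p _
  obtain ⟨a, ha, hp⟩ := exists_chart p
  rw [range_j] at hp
  have ha' : a ∈ Ideal.span {x, y} := hI ▸ ha
  obtain ⟨r, s, hrs⟩ := Ideal.mem_span_pair.mp ha'
  by_contra hcon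
  have h1 : p ∉ Proj.basicOpen (𝒜 A I) (t x hx) := fun h => hcon (Or.inl h)
  have h2 : p ∉ Proj.basicOpen (𝒜 A I) (t y hy) := fun h => hcon (Or.inr h)
  rw [Proj.mem_basicOpen, not_not] at h1 h2
  have h3 : t a ha = cc r * t x hx + cc s * t y hy := by
    unfold t
    rw [cc_mul_mono, cc_mul_mono]
    apply Subtype.ext
    rw [Subalgebra.coe_add, coe_mono, coe_mono, coe_mono, ← map_add, hrs]
  apply (Proj.mem_basicOpen _ _ _).mp hp
  rw [h3]
  exact Ideal.add_mem _ (Ideal.mul_mem_left _ _ h1) (Ideal.mul_mem_left _ _ h2)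

/-- cohomology of quasi-coherent modules on a scheme isomorphic to the blow-up of an ideal
generated by two elements vanishes in degrees `≥ 2` -/
theorem subsingleton_HH_blowup_two (I : Ideal A) (x y : A) (hI : I = Ideal.span {x, y})
    (X : Scheme.{u}) (b : X ⟶ Spec (CommRingCat.of A))
    (hb : BlowUp.IsBlowUp b (Curv2.idealSheaf A I))
    (F : X.Modules) (hF : Coh.IsQCoh F) (p : ℕ) (hp : 2 ≤ p) : Subsingleton (Coh.HH X F p) := by
  have hx : x ∈ I := by rw [hI]; exact Ideal.subset_span (by simp)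
  have hy : y ∈ I := by rw [hI]; exact Ideal.subset_span (by simp)
  obtain ⟨e, -⟩ := Groth.Agent.Helper4.NApx27.isBlowUp_unique _ b (bb A I) hb isBlowUp_proj
  haveI : F.IsQuasicoherent := hF
  haveI : X.IsSeparated := by
    have : IsSeparated (terminal.from X) := by
      have h : terminal.from X = e.hom ≫ terminal.from (Proj (𝒜 A I)) := Subsingleton.elim _ _
      rw [h]
      infer_instance
    exact ⟨this⟩
  let U : Fin 2 → X.Opens := ![e.hom ⁻¹ᵁ Proj.basicOpen (𝒜 A I) (t x hx),
    e.hom ⁻¹ᵁ Proj.basicOpen (𝒜 A I) (t y hy)]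
  have hU : ∀ i, IsAffineOpen (U i) := by
    intro i
    fin_cases i
    · exact (Proj.isAffineOpen_basicOpen (𝒜 A I) (t x hx) (t_mem x hx) one_pos).preimage_of_isIso
        e.hom
    · exact (Proj.isAffineOpen_basicOpen (𝒜 A I) (t y hy) (t_mem y hy) one_pos).preimage_of_isIso
        e.hom
  have hcov : ⨆ i, U i = ⊤ := by
    rw [eq_top_iff]
    intro z _
    have hz : e.hom z ∈ (⊤ : (Proj (𝒜 A I)).Opens) := trivial
    rw [← basicOpen_sup_eq_top I x y hx hy hI] at hz
    rcases hz with hz | hz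
    · exact Opens.mem_iSup.mpr ⟨0, hz⟩
    · exact Opens.mem_iSup.mpr ⟨1, hz⟩
  exact Groth.Agent.Helper1.Serre.subsingleton_HH_of_affine_cover F 2 U hU hcov
    (fun V W hV hW => hV.inf hW) p hp

/-- S1623 -/
theorem main1623 [IsRegularLocalRing A] (hA : ringKrullDim A = 2)
    (X : Scheme.{u}) (b : X ⟶ Spec (CommRingCat.of A))
    (hb : BlowUp.IsBlowUp b (Curv2.idealSheaf A (IsLocalRing.maximalIdeal A)))
    (F : X.Modules) (hF : Coh.IsQCoh F) (p : ℕ) (hp : 2 ≤ p) : Subsingleton (Coh.HH X F p) := by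
  have hfg : (IsLocalRing.maximalIdeal A).FG := (isNoetherianRing_iff_ideal_fg A).mp inferInstance _
  obtain ⟨s, hs, hspan⟩ := Submodule.FG.exists_span_finset_card_eq_spanFinrank hfg
  have h2 : s.card = 2 := by
    have h := IsRegularLocalRing.spanFinrank_maximalIdeal (R := A)
    rw [hA] at h
    have : ((IsLocalRing.maximalIdeal A).spanFinrank : WithBot ℕ∞) = 2 := h
    rw [hs]
    exact_mod_cast this
  classical
  obtain ⟨x, y, -, hxy⟩ := Finset.card_eq_two.mp h2
  refine subsingleton_HH_blowup_two _ x y ?_ X b hb F hF p hp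
  rw [← hspan, hxy]
  simp [Ideal.span]

end Blow2

end Groth.Agent.Helper4.SN
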