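import Groth.Agent.Helper4.GeomBC
import Mathlib

set_option autoImplicit false
universe u
open CategoryTheory CategoryTheory.Limits AlgebraicGeometry Opposite TensorProduct

namespace Groth.Agent.Helper4.GeomBC

variable {k : Type u} [Field k] {X : Scheme.{u}} (f : X ⟶ Spec (CommRingCat.of k))

/-- Compositum of points. -/
theorem exists_common_point (K₁ K₂ : Type u) [Field K₁] [Field K₂] [Algebra k K₁] [Algebra k K₂]
    (x₁ : ↥(pullback f (Spec.map (CommRingCat.ofHom (algebraMap k K₁)))))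
    (x₂ : ↥(pullback f (Spec.map (CommRingCat.ofHom (algebraMap k K₂)))))
    (h : (pullback.fst f (Spec.map (CommRingCat.ofHom (algebraMap k K₁)))) x₁ =
      (pullback.fst f (Spec.map (CommRingCat.ofHom (algebraMap k K₂)))) x₂) :
    ∃ (Ω : Type u) (_ : Field Ω) (_ : Algebra k Ω) (_ : Algebra K₁ Ω) (_ : Algebra K₂ Ω)
      (_ : IsScalarTower k K₁ Ω) (_ : IsScalarTower k K₂ Ω)
      (z : ↥(pullback f (Spec.map (CommRingCat.ofHom (algebraMap k Ω))))),
      bcMap f K₁ Ω z = x₁ ∧ bcMap f K₂ Ω z = x₂ := by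
  let g₁ := Spec.map (CommRingCat.ofHom (algebraMap k K₁))
  let g₂ := Spec.map (CommRingCat.ofHom (algebraMap k K₂))
  let p₁ := pullback.fst f g₁
  let p₂ := pullback.fst f g₂
  obtain ⟨w, hw1, hw2⟩ := Scheme.Pullback.exists_preimage_pullback (f := p₁) (g := p₂) x₁ x₂ h
  let W := pullback p₁ p₂
  let Ω := W.residueField w
  let ι : Spec Ω ⟶ W := W.fromSpecResidueField w
  obtain ⟨φ₁, hφ₁⟩ := Spec.map_surjective (ι ≫ pullback.fst p₁ p₂ ≫ pullback.snd f g₁)
  obtain ⟨φ₂, hφ₂⟩ := Spec.map_surjective (ι ≫ pullback.snd p₁ p₂ ≫ pullback.snd f g₂)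
  letI a₁ : Algebra K₁ Ω := φ₁.hom.toAlgebra
  letI a₂ : Algebra K₂ Ω := φ₂.hom.toAlgebra
  letI a₀ : Algebra k Ω := (φ₁.hom.comp (algebraMap k K₁)).toAlgebra
  haveI t₁ : IsScalarTower k K₁ Ω := IsScalarTower.of_algebraMap_eq (fun _ => rfl)
  have hcomm : Spec.map (CommRingCat.ofHom (φ₂.hom.comp (algebraMap k K₂))) =
      Spec.map (CommRingCat.ofHom (φ₁.hom.comp (algebraMap k K₁))) := by
    rw [CommRingCat.ofHom_comp, CommRingCat.ofHom_comp, Spec.map_comp, Spec.map_comp]
    show Spec.map φ₂ ≫ g₂ = Spec.map φ₁ ≫ g₁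
    rw [hφ₁, hφ₂]
    simp only [Category.assoc]
    rw [← pullback.condition (f := f) (g := g₂), ← pullback.condition (f := f) (g := g₁)]
    rw [← Category.assoc (pullback.snd p₁ p₂), ← pullback.condition (f := p₁) (g := p₂)]
    simp only [Category.assoc]
    rfl
  have heq : φ₂.hom.comp (algebraMap k K₂) = φ₁.hom.comp (algebraMap k K₁) := by
    have := Spec.map_injective hcomm
    exact congrArg CommRingCat.Hom.hom this
  haveI t₂ : IsScalarTower k K₂ Ω := IsScalarTower.of_algebraMap_eq (fun x => by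
    show (φ₁.hom.comp (algebraMap k K₁)) x = φ₂.hom (algebraMap k K₂ x)
    rw [← heq]; rfl)
  have hcond : (ι ≫ pullback.fst p₁ p₂ ≫ p₁) ≫ f =
      𝟙 (Spec (CommRingCat.of Ω)) ≫ Spec.map (CommRingCat.ofHom (algebraMap k Ω)) := by
    rw [Category.id_comp]
    show _ = Spec.map (CommRingCat.ofHom (φ₁.hom.comp (algebraMap k K₁)))
    rw [CommRingCat.ofHom_comp, Spec.map_comp]
    show _ = Spec.map φ₁ ≫ g₁
    rw [hφ₁]
    simp only [Category.assoc]
    rw [← pullback.condition (f := f) (g := g₁)]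
  let z₀ : Spec (CommRingCat.of Ω) ⟶ pullback f (Spec.map (CommRingCat.ofHom (algebraMap k Ω))) :=
    pullback.lift (ι ≫ pullback.fst p₁ p₂ ≫ p₁) (𝟙 _) hcond
  have hz1 : z₀ ≫ bcMap f K₁ Ω = ι ≫ pullback.fst p₁ p₂ := by
    apply pullback.hom_ext
    · rw [Category.assoc, bcMap_fst, pullback.lift_fst, Category.assoc]
    · rw [Category.assoc, bcMap_snd, pullback.lift_snd_assoc, Category.id_comp, Category.assoc]
      exact hφ₁
  have hz2 : z₀ ≫ bcMap f K₂ Ω = ι ≫ pullback.snd p₁ p₂ := by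
    apply pullback.hom_ext
    · rw [Category.assoc, bcMap_fst, pullback.lift_fst, Category.assoc]
      congr 1
      exact pullback.condition
    · rw [Category.assoc, bcMap_snd, pullback.lift_snd_assoc, Category.id_comp, Category.assoc]
      exact hφ₂
  refine ⟨Ω, inferInstance, a₀, a₁, a₂, t₁, t₂, z₀ (IsLocalRing.closedPoint Ω), ?_, ?_⟩
  · rw [← Scheme.Hom.comp_apply, hz1, Scheme.Hom.comp_apply, Scheme.fromSpecResidueField_apply]
    exact hw1
  · rw [← Scheme.Hom.comp_apply, hz2, Scheme.Hom.comp_apply, Scheme.fromSpecResidueField_apply]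
    exact hw2


/-- All local rings of `X_K` at points over `x` satisfy `P`. -/
def POver (P : ∀ (R : Type u) [CommRing R], Prop) (x : X) (K : Type u) [Field K] [Algebra k K] :
    Prop :=
  ∀ x' : ↥(pullback f (Spec.map (CommRingCat.ofHom (algebraMap k K)))),
    (pullback.fst f (Spec.map (CommRingCat.ofHom (algebraMap k K)))) x' = x →
    P ((pullback f (Spec.map (CommRingCat.ofHom (algebraMap k K)))).presheaf.stalk x')

variable {P : ∀ (R : Type u) [CommRing R], Prop}

theorem pOver_bc_of_pOver (hP : Desc P) (K : Type u) [Field K] [Algebra k K]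
    (x' : ↥(pullback f (Spec.map (CommRingCat.ofHom (algebraMap k K)))))
    (H : ∀ (L : Type u) [Field L] [Algebra k L],
      POver f P ((pullback.fst f (Spec.map (CommRingCat.ofHom (algebraMap k K)))) x') L)
    (L : Type u) [Field L] [Algebra K L] :
    POver (pullback.snd f (Spec.map (CommRingCat.ofHom (algebraMap k K)))) P x' L := by
  intro y' hy'
  letI : Algebra k L := ((algebraMap K L).comp (algebraMap k K)).toAlgebra
  haveI : IsScalarTower k K L := IsScalarTower.of_algebraMap_eq (fun _ => rfl)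
  have sq := isPullback_bcMap f K L
  let e := sq.isoPullback
  rw [stalk_iff hP e.inv y']
  apply H L
  rw [← Scheme.Hom.comp_apply, ← bcMap_fst f K L, ← Category.assoc,
    sq.isoPullback_inv_fst, Scheme.Hom.comp_apply, hy']

theorem pOver_of_pOver_bc (hP : Desc P) (K : Type u) [Field K] [Algebra k K]
    (x' : ↥(pullback f (Spec.map (CommRingCat.ofHom (algebraMap k K)))))
    (H : ∀ (L : Type u) [Field L] [Algebra K L],
      POver (pullback.snd f (Spec.map (CommRingCat.ofHom (algebraMap k K)))) P x' L)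
    (L : Type u) [Field L] [Algebra k L] :
    POver f P ((pullback.fst f (Spec.map (CommRingCat.ofHom (algebraMap k K)))) x') L := by
  intro x₂ hx₂
  obtain ⟨Ω, _, _, _, _, _, _, z, hz1, hz2⟩ := exists_common_point f K L x' x₂ hx₂.symm
  have sq := isPullback_bcMap f K Ω
  let e := sq.isoPullback
  have h1 : P ((pullback (pullback.snd f (Spec.map (CommRingCat.ofHom (algebraMap k K))))
      (Spec.map (CommRingCat.ofHom (algebraMap K Ω)))).presheaf.stalk (e.hom z)) := by
    apply H Ω
    rw [← Scheme.Hom.comp_apply, sq.isoPullback_hom_fst, hz1]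
  have h2 := (stalk_iff hP e.hom z).mpr h1
  have h3 := stalk_of_flat hP (bcMap f L Ω) z h2
  rwa [hz2] at h3

end Groth.Agent.Helper4.GeomBC
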