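import Groth.Prelude.Def_FDesc
import Groth.Agent.S9630
import Groth.Agent.Helper8.GeomIrrA
import Mathlib

set_option autoImplicit false
universe u
open CategoryTheory CategoryTheory.Limits AlgebraicGeometry Opposite TensorProduct

namespace Groth.Agent.Helper4.GeomIrrSch

/-- A space covered by irreducible open subsets that pairwise intersect is irreducible. -/
theorem irreducibleSpace_of_openCover {T : Type*} [TopologicalSpace T] {ι : Type*} [Nonempty ι]
    (W : ι → Set T) (hopen : ∀ i, IsOpen (W i)) (hirr : ∀ i, IsIrreducible (W i))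
    (hcov : ∀ t : T, ∃ i, t ∈ W i) (hint : ∀ i j, (W i ∩ W j).Nonempty) : IrreducibleSpace T := by
  haveI : Nonempty T := by
    obtain ⟨i⟩ := ‹Nonempty ι›
    exact (hirr i).nonempty.to_type
  haveI : PreirreducibleSpace T := by
    apply PreirreducibleSpace.of_forall_nonempty_inter
    intro U V hU hV hUne hVne
    obtain ⟨a, ha⟩ := hUne
    obtain ⟨b, hb⟩ := hVne
    obtain ⟨i, hi⟩ := hcov a
    obtain ⟨j, hj⟩ := hcov b
    obtain ⟨c, hc⟩ := (hirr i).2 U (W j) hU (hopen j) ⟨a, hi, ha⟩
      (by obtain ⟨d, hd⟩ := hint i j; exact ⟨d, hd.1, hd.2⟩)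
    obtain ⟨e, he⟩ := (hirr j).2 (U ∩ W i) V (hU.inter (hopen i)) hV
      ⟨c, hc.2.2, hc.2.1, hc.1⟩ ⟨b, hj, hb⟩
    exact ⟨e, he.2.1.1, he.2.2⟩
  exact ⟨inferInstance⟩

variable {k : Type u} [Field k]

/-- Irreducibility of the base change of an affine `k`-scheme. -/
theorem irreducibleSpace_pullback_Spec_iff (A K : Type u) [CommRing A] [Algebra k A] [Field K]
    [Algebra k K] :
    IrreducibleSpace ↥(pullback (Spec.map (CommRingCat.ofHom (algebraMap k A)))
        (Spec.map (CommRingCat.ofHom (algebraMap k K)))) ↔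
      IrreducibleSpace (PrimeSpectrum (K ⊗[k] A)) := by
  have e := pullbackSpecIso k A K
  rw [e.hom.homeomorph.irreducibleSpace_iff]
  exact (PrimeSpectrum.homeomorphOfRingEquiv
    (Algebra.TensorProduct.comm k A K).toRingEquiv).irreducibleSpace_iff

/-- The projection from a base change along a field extension is surjective. -/
theorem bc_fst_surjective {X : Scheme.{u}} (f : X ⟶ Spec (CommRingCat.of k)) (K : Type u) [Field K]
    [Algebra k K] (x : X) :
    ∃ z : ↥(pullback f (Spec.map (CommRingCat.ofHom (algebraMap k K)))),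
      pullback.fst f (Spec.map (CommRingCat.ofHom (algebraMap k K))) z = x := by
  haveI : Subsingleton ↥(Spec (CommRingCat.of k)) := inferInstanceAs (Subsingleton (PrimeSpectrum k))
  haveI : Nonempty ↥(Spec (CommRingCat.of K)) := inferInstanceAs (Nonempty (PrimeSpectrum K))
  obtain ⟨s⟩ := (inferInstance : Nonempty ↥(Spec (CommRingCat.of K)))
  obtain ⟨z, hz, -⟩ := Scheme.Pullback.exists_preimage_pullback (f := f)
    (g := Spec.map (CommRingCat.ofHom (algebraMap k K))) x s (Subsingleton.elim _ _)
  exact ⟨z, hz⟩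

/-- Glueing irreducibility of base changes along an open cover of an irreducible scheme. -/
theorem irreducibleSpace_bc_of_openCover {X : Scheme.{u}} (f : X ⟶ Spec (CommRingCat.of k))
    [IrreducibleSpace X] (K : Type u) [Field K] [Algebra k K] (𝒰 : X.OpenCover)
    (h : ∀ i, Nonempty ↥(𝒰.X i) → IrreducibleSpace
      ↥(pullback (𝒰.f i ≫ f) (Spec.map (CommRingCat.ofHom (algebraMap k K))))) :
    IrreducibleSpace ↥(pullback f (Spec.map (CommRingCat.ofHom (algebraMap k K)))) := by
  set g := Spec.map (CommRingCat.ofHom (algebraMap k K)) with hg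
  let 𝒱 := Scheme.Pullback.openCoverOfLeft 𝒰 f g
  let J := {i : 𝒰.I₀ // Nonempty ↥(𝒰.X i)}
  haveI : Nonempty J := by
    obtain ⟨x⟩ := (inferInstance : Nonempty X)
    obtain ⟨y, _⟩ := 𝒰.covers x
    exact ⟨⟨𝒰.idx x, ⟨y⟩⟩⟩
  have hne : ∀ i : J, (Set.range (𝒰.f i.1)).Nonempty := by
    intro i
    obtain ⟨y⟩ := i.2
    exact ⟨_, y, rfl⟩
  refine irreducibleSpace_of_openCover (fun i : J => Set.range (𝒱.f i.1))
    (fun i => (𝒱.f i.1).isOpenEmbedding.isOpen_range) ?_ ?_ ?_
  · intro i
    haveI : IrreducibleSpace ↥(𝒱.X i.1) := h i.1 i.2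
    rw [← Set.image_univ]
    exact (IrreducibleSpace.isIrreducible_univ _).image _ (𝒱.f i.1).continuous.continuousOn
  · intro t
    obtain ⟨i, y, hy⟩ := 𝒱.exists_eq t
    exact ⟨⟨i, ⟨pullback.fst (𝒰.f i ≫ f) g y⟩⟩, y, hy⟩
  · intro i j
    obtain ⟨x, hxi, hxj⟩ := nonempty_preirreducible_inter
      (𝒰.f i.1).isOpenEmbedding.isOpen_range (𝒰.f j.1).isOpenEmbedding.isOpen_range
      (hne i) (hne j)
    obtain ⟨z, hz⟩ := bc_fst_surjective f K x
    have key : ∀ l, x ∈ Set.range (𝒰.f l) → z ∈ Set.range (𝒱.f l) := by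
      intro l hl
      have hr := Scheme.Pullback.range_map (f := 𝒰.f l ≫ f) (g := g) f g (𝒰.f l) (𝟙 _) (𝟙 _)
        (by simp) (by simp)
      show z ∈ Set.range (pullback.map (𝒰.f l ≫ f) g f g (𝒰.f l) (𝟙 _) (𝟙 _) (by simp) (by simp))
      rw [hr]
      refine ⟨?_, ?_⟩
      · rw [Set.mem_preimage, hz]; exact hl
      · simp
    exact ⟨z, key i.1 hxi, key j.1 hxj⟩

theorem geometricallyIrreducible_iff {X : Scheme.{u}} (f : X ⟶ Spec (CommRingCat.of k)) :
    GeometricallyIrreducible f ↔ ∀ (K : Type u) [Field K] [Algebra k K],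
      IrreducibleSpace ↥(pullback f (Spec.map (CommRingCat.ofHom (algebraMap k K)))) := by
  rw [AlgebraicGeometry.geometricallyIrreducible_iff,
    geometrically_iff_of_commRing_of_isClosedUnderIsomorphisms]

/-- Base change of a nonempty open subscheme of a scheme with irreducible base change. -/
theorem irreducibleSpace_bc_of_isOpenImmersion {X U : Scheme.{u}}
    (f : X ⟶ Spec (CommRingCat.of k)) (j : U ⟶ X) [IsOpenImmersion j] [Nonempty U]
    (K : Type u) [Field K] [Algebra k K]
    [IrreducibleSpace ↥(pullback f (Spec.map (CommRingCat.ofHom (algebraMap k K))))] :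
    IrreducibleSpace ↥(pullback (j ≫ f) (Spec.map (CommRingCat.ofHom (algebraMap k K)))) := by
  set g := Spec.map (CommRingCat.ofHom (algebraMap k K)) with hg
  let m := pullback.map (j ≫ f) g f g j (𝟙 _) (𝟙 _) (by simp) (by simp)
  haveI : Nonempty ↥(pullback (j ≫ f) g) := by
    obtain ⟨u⟩ := ‹Nonempty U›
    obtain ⟨z, _⟩ := bc_fst_surjective (j ≫ f) K u
    exact ⟨z⟩
  exact m.isOpenEmbedding.irreducibleSpace

/-- The base scheme is irreducible if some base change is. -/
theorem irreducibleSpace_of_bc {X : Scheme.{u}} (f : X ⟶ Spec (CommRingCat.of k))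
    (K : Type u) [Field K] [Algebra k K]
    [IrreducibleSpace ↥(pullback f (Spec.map (CommRingCat.ofHom (algebraMap k K))))] :
    IrreducibleSpace X :=
  Function.Surjective.irreducibleSpace
    (pullback.fst f (Spec.map (CommRingCat.ofHom (algebraMap k K)))).continuous
    (fun x => bc_fst_surjective f K x)

/-- Affine case: irreducibility after base change to a separable closure suffices. -/
theorem irreducibleSpace_pullback_of_Spec_sep (R : CommRingCat.{u})
    (g : Spec R ⟶ Spec (CommRingCat.of k))
    (h : IrreducibleSpace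
      ↥(pullback g (Spec.map (CommRingCat.ofHom (algebraMap k (SeparableClosure k))))))
    (K : Type u) [Field K] [Algebra k K] :
    IrreducibleSpace ↥(pullback g (Spec.map (CommRingCat.ofHom (algebraMap k K)))) := by
  obtain ⟨φ, rfl⟩ := Spec.map_surjective g
  algebraize [φ.hom]
  have hφ : φ = CommRingCat.ofHom (algebraMap k R) := rfl
  rw [hφ] at h ⊢
  rw [irreducibleSpace_pullback_Spec_iff (k := k) R K]
  rw [irreducibleSpace_pullback_Spec_iff (k := k) R (SeparableClosure k)] at h
  have h3 := ((Groth.Agent.S9630.result (k := k) (R := R)).out 2 0).mp h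
  exact h3 K

/-- Affine case: irreducibility after all finite separable base changes suffices. -/
theorem irreducibleSpace_pullback_of_Spec_finSep (R : CommRingCat.{u})
    (g : Spec R ⟶ Spec (CommRingCat.of k))
    (h : ∀ (k' : Type u) [Field k'] [Algebra k k'] [Module.Finite k k'] [Algebra.IsSeparable k k'],
      IrreducibleSpace ↥(pullback g (Spec.map (CommRingCat.ofHom (algebraMap k k')))))
    (K : Type u) [Field K] [Algebra k K] :
    IrreducibleSpace ↥(pullback g (Spec.map (CommRingCat.ofHom (algebraMap k K)))) := by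
  obtain ⟨φ, rfl⟩ := Spec.map_surjective g
  algebraize [φ.hom]
  have hφ : φ = CommRingCat.ofHom (algebraMap k R) := rfl
  rw [hφ] at h ⊢
  rw [irreducibleSpace_pullback_Spec_iff (k := k) R K]
  have h1 : ∀ (k' : Type u) [Field k'] [Algebra k k'] [Module.Finite k k']
      [Algebra.IsSeparable k k'], IrreducibleSpace (PrimeSpectrum (k' ⊗[k] R)) := by
    intro k' _ _ _ _
    rw [← irreducibleSpace_pullback_Spec_iff (k := k) R k']
    exact h k'
  have h3 := ((Groth.Agent.S9630.result (k := k) (R := R)).out 1 0).mp h1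
  exact h3 K

/-- Affine case over an algebraically closed field: domains stay irreducible. -/
theorem irreducibleSpace_pullback_of_Spec_isDomain [IsAlgClosed k] (R : CommRingCat.{u})
    [IsDomain R] (g : Spec R ⟶ Spec (CommRingCat.of k))
    (K : Type u) [Field K] [Algebra k K] :
    IrreducibleSpace ↥(pullback g (Spec.map (CommRingCat.ofHom (algebraMap k K)))) := by
  obtain ⟨φ, rfl⟩ := Spec.map_surjective g
  algebraize [φ.hom]
  have hφ : φ = CommRingCat.ofHom (algebraMap k R) := rfl
  rw [hφ]
  rw [irreducibleSpace_pullback_Spec_iff (k := k) R K]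
  haveI : IsDomain (K ⊗[k] R) := Groth.Agent.Helper8.GeomIrr.isDomain_tensor
  infer_instance

/-- A `k`-scheme whose base change to a separable closure is irreducible is geometrically
irreducible. -/
theorem geometricallyIrreducible_of_sepClosure {X : Scheme.{u}} (f : X ⟶ Spec (CommRingCat.of k))
    [IrreducibleSpace
      ↥(pullback f (Spec.map (CommRingCat.ofHom (algebraMap k (SeparableClosure k)))))] :
    GeometricallyIrreducible f := by
  haveI : IrreducibleSpace X := irreducibleSpace_of_bc f (SeparableClosure k)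
  rw [geometricallyIrreducible_iff]
  intro K _ _
  refine irreducibleSpace_bc_of_openCover f K X.affineCover (fun i hi => ?_)
  refine irreducibleSpace_pullback_of_Spec_sep _ (X.affineCover.f i ≫ f) ?_ K
  exact irreducibleSpace_bc_of_isOpenImmersion f (X.affineCover.f i) (SeparableClosure k)

/-- A `k`-scheme all of whose finite separable base changes are irreducible is geometrically
irreducible. -/
theorem geometricallyIrreducible_of_finSep {X : Scheme.{u}} (f : X ⟶ Spec (CommRingCat.of k))
    (h : ∀ (k' : Type u) [Field k'] [Algebra k k'] [FiniteDimensional k k']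
      [Algebra.IsSeparable k k'],
      IrreducibleSpace ↥(pullback f (Spec.map (CommRingCat.ofHom (algebraMap k k'))))) :
    GeometricallyIrreducible f := by
  haveI : IrreducibleSpace ↥(pullback f (Spec.map (CommRingCat.ofHom (algebraMap k k)))) := h k
  haveI : IrreducibleSpace X := irreducibleSpace_of_bc f k
  rw [geometricallyIrreducible_iff]
  intro K _ _
  refine irreducibleSpace_bc_of_openCover f K X.affineCover (fun i hi => ?_)
  refine irreducibleSpace_pullback_of_Spec_finSep _ (X.affineCover.f i ≫ f) ?_ K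
  intro k' _ _ _ _
  haveI := h k'
  exact irreducibleSpace_bc_of_isOpenImmersion f (X.affineCover.f i) k'

/-- An integral scheme over an algebraically closed field is geometrically irreducible. -/
theorem geometricallyIrreducible_of_isIntegral [IsAlgClosed k] {X : Scheme.{u}}
    (f : X ⟶ Spec (CommRingCat.of k)) [IsIntegral X] : GeometricallyIrreducible f := by
  rw [geometricallyIrreducible_iff]
  intro K _ _
  refine irreducibleSpace_bc_of_openCover f K X.affineCover (fun i hi => ?_)
  haveI : IsIntegral (X.affineCover.X i) := isIntegral_of_isOpenImmersion (X.affineCover.f i)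
  haveI := (affine_isIntegral_iff _).mp ‹IsIntegral (X.affineCover.X i)›
  exact irreducibleSpace_pullback_of_Spec_isDomain _ (X.affineCover.f i ≫ f) K

end Groth.Agent.Helper4.GeomIrrSch
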