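import Groth.Prelude.Def_FDesc
import Groth.Agent.S9623
import Groth.Agent.S2150
import Groth.Agent.Helper4.GeomBC2
import Groth.Agent.Helper4.GeomIrrSch
import Mathlib

set_option autoImplicit false
universe u
open CategoryTheory CategoryTheory.Limits AlgebraicGeometry Opposite TensorProduct

namespace Groth.Agent.Helper4.GeomConnSch

open Groth.Agent.Helper4.GeomBC Groth.Agent.Helper4.GeomIrrSch

variable {k : Type u} [Field k]

theorem geometricallyConnected_iff {X : Scheme.{u}} (f : X ⟶ Spec (CommRingCat.of k)) :
    GeometricallyConnected f ↔ ∀ (K : Type u) [Field K] [Algebra k K],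
      ConnectedSpace ↥(pullback f (Spec.map (CommRingCat.ofHom (algebraMap k K)))) := by
  rw [AlgebraicGeometry.geometricallyConnected_iff,
    geometrically_iff_of_commRing_of_isClosedUnderIsomorphisms]

/-- Connectedness of the base change of an affine `k`-scheme. -/
theorem connectedSpace_pullback_Spec_iff (A K : Type u) [CommRing A] [Algebra k A] [Field K]
    [Algebra k K] :
    ConnectedSpace ↥(pullback (Spec.map (CommRingCat.ofHom (algebraMap k A)))
        (Spec.map (CommRingCat.ofHom (algebraMap k K)))) ↔
      ConnectedSpace (PrimeSpectrum (K ⊗[k] A)) := by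
  have e := pullbackSpecIso k A K
  rw [e.hom.homeomorph.connectedSpace_iff]
  exact (PrimeSpectrum.homeomorphOfRingEquiv
    (Algebra.TensorProduct.comm k A K).toRingEquiv).connectedSpace_iff

instance universallyOpen_to_field {X : Scheme.{u}} (f : X ⟶ Spec (CommRingCat.of k)) :
    UniversallyOpen f := by
  haveI : Subsingleton ↥(Spec (CommRingCat.of k)) :=
    inferInstanceAs (Subsingleton (PrimeSpectrum k))
  infer_instance

/-- Over a separably closed field every field extension is geometrically connected. -/
theorem geometricallyConnected_Spec_of_isSepClosed [IsSepClosed k] (K : Type u) [Field K]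
    [Algebra k K] : GeometricallyConnected (Spec.map (CommRingCat.ofHom (algebraMap k K))) := by
  rw [geometricallyConnected_iff]
  intro L _ _
  rw [connectedSpace_pullback_Spec_iff (k := k) K L]
  exact Groth.Agent.S9623.result

/-- Over a separably closed field connected schemes stay connected after field extension. -/
theorem connectedSpace_bc_of_isSepClosed [IsSepClosed k] {X : Scheme.{u}}
    (f : X ⟶ Spec (CommRingCat.of k)) [ConnectedSpace X] (K : Type u) [Field K] [Algebra k K] :
    ConnectedSpace ↥(pullback f (Spec.map (CommRingCat.ofHom (algebraMap k K)))) := by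
  haveI := geometricallyConnected_Spec_of_isSepClosed (k := k) K
  infer_instance

theorem bcMap_surjective {X : Scheme.{u}} (f : X ⟶ Spec (CommRingCat.of k))
    (K Ω : Type u) [Field K] [Field Ω] [Algebra k K] [Algebra k Ω]
    [Algebra K Ω] [IsScalarTower k K Ω] : Function.Surjective (bcMap f K Ω) := by
  intro z
  haveI : Subsingleton ↥(Spec (CommRingCat.of K)) :=
    inferInstanceAs (Subsingleton (PrimeSpectrum K))
  haveI : Nonempty ↥(Spec (CommRingCat.of Ω)) := inferInstanceAs (Nonempty (PrimeSpectrum Ω))
  obtain ⟨s⟩ := (inferInstance : Nonempty ↥(Spec (CommRingCat.of Ω)))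
  obtain ⟨w, hw, -⟩ := Scheme.exists_preimage_of_isPullback (isPullback_bcMap f K Ω) z s
    (Subsingleton.elim _ _)
  exact ⟨w, hw⟩

/-- A `k`-scheme whose base change to a separable closure is connected is geometrically
connected. -/
theorem geometricallyConnected_of_sepClosure {X : Scheme.{u}} (f : X ⟶ Spec (CommRingCat.of k))
    [ConnectedSpace
      ↥(pullback f (Spec.map (CommRingCat.ofHom (algebraMap k (SeparableClosure k)))))] :
    GeometricallyConnected f := by
  rw [geometricallyConnected_iff]
  intro K _ _
  obtain ⟨x₂⟩ := (inferInstance : Nonempty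
    ↥(pullback f (Spec.map (CommRingCat.ofHom (algebraMap k (SeparableClosure k))))))
  obtain ⟨x₁, hx₁⟩ := bc_fst_surjective f K
    (pullback.fst f (Spec.map (CommRingCat.ofHom (algebraMap k (SeparableClosure k)))) x₂)
  obtain ⟨Ω, _, _, _, _, _, _, z, -, -⟩ :=
    exists_common_point f K (SeparableClosure k) x₁ x₂ hx₁
  have hpb := isPullback_bcMap f (SeparableClosure k) Ω
  haveI : ConnectedSpace ↥(pullback
      (pullback.snd f (Spec.map (CommRingCat.ofHom (algebraMap k (SeparableClosure k)))))
      (Spec.map (CommRingCat.ofHom (algebraMap (SeparableClosure k) Ω)))) :=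
    connectedSpace_bc_of_isSepClosed (k := SeparableClosure k)
      (pullback.snd f (Spec.map (CommRingCat.ofHom (algebraMap k (SeparableClosure k))))) Ω
  haveI : ConnectedSpace ↥(pullback f (Spec.map (CommRingCat.ofHom (algebraMap k Ω)))) :=
    hpb.isoPullback.hom.homeomorph.connectedSpace_iff.mpr inferInstance
  exact (bcMap_surjective f K Ω).connectedSpace (bcMap f K Ω).continuous

/-- Over a separably closed field, the projection from a base change induces a bijection on
connected components. -/
theorem connectedComponentsMap_bijective_of_isSepClosed [IsSepClosed k] {X : Scheme.{u}}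
    (f : X ⟶ Spec (CommRingCat.of k)) (K : Type u) [Field K] [Algebra k K] :
    Function.Bijective (Continuous.connectedComponentsMap
      (pullback.fst f (Spec.map (CommRingCat.ofHom (algebraMap k K)))).continuous) := by
  haveI := geometricallyConnected_Spec_of_isSepClosed (k := k) K
  set p := pullback.fst f (Spec.map (CommRingCat.ofHom (algebraMap k K))) with hp
  have hop : IsOpenMap p := p.isOpenMap
  have hco := (hop.isQuotientMap p.continuous p.surjective).isCoinducing
  exact hco.connectedComponentsMap_bijective p.isConnected_preimage_singleton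

/-- The projection from the base change to an algebraic extension is a closed map. -/
theorem isClosedMap_bc_fst_of_isAlgebraic {X : Scheme.{u}} (f : X ⟶ Spec (CommRingCat.of k))
    (K : Type u) [Field K] [Algebra k K] [Algebra.IsAlgebraic k K] :
    IsClosedMap (pullback.fst f (Spec.map (CommRingCat.ofHom (algebraMap k K)))) := by
  haveI : IsIntegralHom (Spec.map (CommRingCat.ofHom (algebraMap k K))) := by
    rw [IsIntegralHom.SpecMap_iff]
    show (algebraMap k K).IsIntegral
    exact algebraMap_isIntegral_iff.mpr inferInstance
  exact (pullback.fst f (Spec.map (CommRingCat.ofHom (algebraMap k K)))).isClosedMap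

/-- A connected scheme receiving a morphism from a nonempty geometrically connected scheme is
geometrically connected. -/
theorem geometricallyConnected_of_source {X Y : Scheme.{u}} (g : Y ⟶ X)
    (f : X ⟶ Spec (CommRingCat.of k)) [Nonempty Y] [ConnectedSpace X]
    [GeometricallyConnected (g ≫ f)] : GeometricallyConnected f := by
  set gs := Spec.map (CommRingCat.ofHom (algebraMap k (SeparableClosure k))) with hgs
  set p := pullback.fst f gs with hp
  have hcl : IsClosedMap p := isClosedMap_bc_fst_of_isAlgebraic f (SeparableClosure k)
  have hop : IsOpenMap p := p.isOpenMap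
  haveI : ConnectedSpace ↥(pullback (g ≫ f) gs) :=
    (geometricallyConnected_iff (g ≫ f)).mp inferInstance (SeparableClosure k)
  let m := pullback.map (g ≫ f) gs f gs g (𝟙 _) (𝟙 _) (by simp) (by simp)
  have hZ : _root_.IsConnected (Set.range m) := isConnected_range m.continuous
  have hr := Scheme.Pullback.range_map (f := g ≫ f) (g := gs) f gs g (𝟙 _) (𝟙 _)
    (by simp) (by simp)
  have hmem : ∀ t, p t ∈ Set.range g → t ∈ Set.range m := by
    intro t ht
    show t ∈ Set.range (pullback.map (g ≫ f) gs f gs g (𝟙 _) (𝟙 _) (by simp) (by simp))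
    rw [hr]
    exact ⟨ht, by simp⟩
  have key : ∀ T : Set ↥(pullback f gs), IsClopen T → T.Nonempty → Set.range m ⊆ T := by
    intro T hT hTne
    have h1 : IsClopen (p '' T) := ⟨hcl T hT.1, hop T hT.2⟩
    have h2 : p '' T = Set.univ := h1.eq_univ (hTne.image _)
    obtain ⟨y⟩ := ‹Nonempty Y›
    have h3 : g y ∈ p '' T := by rw [h2]; trivial
    obtain ⟨t, htT, ht⟩ := h3
    exact hZ.isPreconnected.subset_isClopen hT ⟨t, hmem t ⟨y, ht.symm⟩, htT⟩
  haveI : ConnectedSpace ↥(pullback f gs) := by
    rw [connectedSpace_iff_clopen]
    refine ⟨hZ.nonempty.to_type, fun T hT => ?_⟩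
    by_contra hcon
    rw [not_or] at hcon
    obtain ⟨hne, hnu⟩ := hcon
    have hTne : T.Nonempty := Set.nonempty_iff_ne_empty.mpr hne
    have hTcne : Tᶜ.Nonempty := Set.nonempty_compl.mpr hnu
    obtain ⟨z, hz⟩ := hZ.nonempty
    exact (key Tᶜ hT.compl hTcne hz) (key T hT hTne hz)
  exact geometricallyConnected_of_sepClosure f

/-- A connected scheme with a point whose residue field has no new separable algebraic elements
is geometrically connected. -/
theorem geometricallyConnected_of_field_point {X : Scheme.{u}} (f : X ⟶ Spec (CommRingCat.of k))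
    [ConnectedSpace X] (x : X) (φ : k →+* X.residueField x)
    (hφ : Spec.map (CommRingCat.ofHom φ) = X.fromSpecResidueField x ≫ f)
    (h : letI := φ.toAlgebra
      ∀ α : X.residueField x, IsSeparable k α →
        α ∈ Set.range (algebraMap k (X.residueField x))) :
    GeometricallyConnected f := by
  letI := φ.toAlgebra
  haveI : Nonempty ↥(Spec (X.residueField x)) :=
    inferInstanceAs (Nonempty (PrimeSpectrum (X.residueField x)))
  haveI : GeometricallyConnected (X.fromSpecResidueField x ≫ f) := by
    rw [← hφ]
    show GeometricallyConnected (Spec.map (CommRingCat.ofHom (algebraMap k (X.residueField x))))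
    rw [geometricallyConnected_iff]
    intro K _ _
    rw [connectedSpace_pullback_Spec_iff (k := k) (X.residueField x) K]
    haveI : IrreducibleSpace (PrimeSpectrum (K ⊗[k] X.residueField x)) :=
      (Groth.Agent.S2150.result (k := k) (K := X.residueField x)).mpr h K
    infer_instance
  exact geometricallyConnected_of_source (X.fromSpecResidueField x) f

end Groth.Agent.Helper4.GeomConnSch
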