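import Groth.Prelude.Def_FDesc
import Groth.Agent.Helper4.GeomConnSch
import Mathlib

set_option autoImplicit false
universe u
open CategoryTheory CategoryTheory.Limits AlgebraicGeometry Opposite TensorProduct

namespace Groth.Agent.Helper4.GeomConnSub

open Groth.Agent.Helper4.GeomBC Groth.Agent.Helper4.GeomIrrSch Groth.Agent.Helper4.GeomConnSch

variable {k : Type u} [Field k]

/-- The reduced closed subscheme on a closed subset. -/
theorem exists_closedImmersion_range (X : Scheme.{u}) (C : Set X) (hC : IsClosed C) :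
    ∃ (Z : Scheme.{u}) (ι : Z ⟶ X), IsClosedImmersion ι ∧ Set.range ι = C := by
  refine ⟨_, (Scheme.IdealSheafData.vanishingIdeal ⟨C, hC⟩).subschemeι, inferInstance, ?_⟩
  rw [Scheme.IdealSheafData.range_subschemeι]
  simp

/-- The base change of a morphism over `k` to a field extension. -/
noncomputable abbrev bcHom {X Z : Scheme.{u}} (ι : Z ⟶ X) (f : X ⟶ Spec (CommRingCat.of k))
    (K : Type u) [Field K] [Algebra k K] :
    pullback (ι ≫ f) (Spec.map (CommRingCat.ofHom (algebraMap k K))) ⟶
      pullback f (Spec.map (CommRingCat.ofHom (algebraMap k K))) :=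
  pullback.map (ι ≫ f) _ f _ ι (𝟙 _) (𝟙 _) (by simp) (by simp)

theorem range_bcHom {X Z : Scheme.{u}} (ι : Z ⟶ X) (f : X ⟶ Spec (CommRingCat.of k))
    (K : Type u) [Field K] [Algebra k K] :
    Set.range (bcHom ι f K) =
      (pullback.fst f (Spec.map (CommRingCat.ofHom (algebraMap k K)))) ⁻¹' Set.range ι := by
  have hr := Scheme.Pullback.range_map (f := ι ≫ f)
    (g := Spec.map (CommRingCat.ofHom (algebraMap k K))) f
    (Spec.map (CommRingCat.ofHom (algebraMap k K))) ι (𝟙 _) (𝟙 _) (by simp) (by simp)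
  show Set.range (pullback.map (ι ≫ f) _ f _ ι (𝟙 _) (𝟙 _) (by simp) (by simp)) = _
  rw [hr]
  simp

theorem bcHom_eq {X Z : Scheme.{u}} (ι : Z ⟶ X) (f : X ⟶ Spec (CommRingCat.of k))
    (K : Type u) [Field K] [Algebra k K] :
    bcHom ι f K = (pullbackRightPullbackFstIso f
      (Spec.map (CommRingCat.ofHom (algebraMap k K))) ι).inv ≫ pullback.snd _ _ := by
  apply pullback.hom_ext
  · simp only [bcHom, pullback.map, Category.assoc, pullback.lift_fst,
      pullbackRightPullbackFstIso_inv_snd_fst]
  · simp only [bcHom, pullback.map, Category.assoc, pullback.lift_snd,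
      pullbackRightPullbackFstIso_inv_snd_snd, Category.comp_id]

instance {X Z : Scheme.{u}} (ι : Z ⟶ X) [IsClosedImmersion ι] (f : X ⟶ Spec (CommRingCat.of k))
    (K : Type u) [Field K] [Algebra k K] : IsClosedImmersion (bcHom ι f K) := by
  rw [bcHom_eq]
  infer_instance

theorem bcHom_fst_apply {X Z : Scheme.{u}} (ι : Z ⟶ X) (f : X ⟶ Spec (CommRingCat.of k))
    (K : Type u) [Field K] [Algebra k K]
    (t : ↥(pullback (ι ≫ f) (Spec.map (CommRingCat.ofHom (algebraMap k K))))) :
    pullback.fst f (Spec.map (CommRingCat.ofHom (algebraMap k K))) (bcHom ι f K t) =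
      ι (pullback.fst (ι ≫ f) (Spec.map (CommRingCat.ofHom (algebraMap k K))) t) := by
  rw [← Scheme.Hom.comp_apply, ← Scheme.Hom.comp_apply]
  congr 2
  simp only [bcHom, pullback.map, pullback.lift_fst]

/-- A connected closed subscheme containing the image of a nonempty geometrically connected
scheme is geometrically connected. -/
theorem geometricallyConnected_of_source_sub {X Y Z : Scheme.{u}} (ι : Z ⟶ X)
    [IsClosedImmersion ι] (h : Y ⟶ X) (f : X ⟶ Spec (CommRingCat.of k)) [Nonempty Y]
    [ConnectedSpace Z] [GeometricallyConnected (h ≫ f)]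
    (hsub : Set.range h ⊆ Set.range ι) : GeometricallyConnected (ι ≫ f) := by
  set gs := Spec.map (CommRingCat.ofHom (algebraMap k (SeparableClosure k))) with hgs
  set pZ := pullback.fst (ι ≫ f) gs with hpZ
  have hcl : IsClosedMap pZ := isClosedMap_bc_fst_of_isAlgebraic (ι ≫ f) (SeparableClosure k)
  have hop : IsOpenMap pZ := pZ.isOpenMap
  haveI : ConnectedSpace ↥(pullback (h ≫ f) gs) :=
    (GeomConnSch.geometricallyConnected_iff (h ≫ f)).mp inferInstance (SeparableClosure k)
  set m := bcHom h f (SeparableClosure k) with hm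
  set ιs := bcHom ι f (SeparableClosure k) with hιs
  have hR : _root_.IsConnected (Set.range m) := isConnected_range m.continuous
  have hRsub : Set.range m ⊆ Set.range ιs := by
    rw [hm, hιs, range_bcHom, range_bcHom]
    exact Set.preimage_mono hsub
  have hW : _root_.IsConnected (ιs ⁻¹' Set.range m) := by
    have himg : ιs '' (ιs ⁻¹' Set.range m) = Set.range m := Set.image_preimage_eq_of_subset hRsub
    have hpre : _root_.IsPreconnected (ιs '' (ιs ⁻¹' Set.range m)) := by
      rw [himg]; exact hR.isPreconnected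
    refine ⟨?_, ιs.isEmbedding.isInducing.isPreconnected_image.mp hpre⟩
    obtain ⟨r, hr⟩ := hR.nonempty
    obtain ⟨w, rfl⟩ := hRsub hr
    exact ⟨w, hr⟩
  have key : ∀ T : Set ↥(pullback (ι ≫ f) gs), IsClopen T → T.Nonempty →
      ιs ⁻¹' Set.range m ⊆ T := by
    intro T hT hTne
    have h1 : IsClopen (pZ '' T) := ⟨hcl T hT.1, hop T hT.2⟩
    have h2 : pZ '' T = Set.univ := h1.eq_univ (hTne.image _)
    obtain ⟨y⟩ := ‹Nonempty Y›
    obtain ⟨z₀, hz₀⟩ := hsub ⟨y, rfl⟩
    have h3 : z₀ ∈ pZ '' T := by rw [h2]; trivial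
    obtain ⟨t, htT, ht⟩ := h3
    refine hW.isPreconnected.subset_isClopen hT ⟨t, ?_, htT⟩
    show ιs t ∈ Set.range m
    rw [hm, range_bcHom, Set.mem_preimage, hιs, bcHom_fst_apply, ht, hz₀]
    exact ⟨y, rfl⟩
  haveI : ConnectedSpace ↥(pullback (ι ≫ f) gs) := by
    rw [connectedSpace_iff_clopen]
    refine ⟨hW.nonempty.to_type, fun T hT => ?_⟩
    by_contra hcon
    rw [not_or] at hcon
    obtain ⟨hne, hnu⟩ := hcon
    have hTne : T.Nonempty := Set.nonempty_iff_ne_empty.mpr hne
    have hTcne : Tᶜ.Nonempty := Set.nonempty_compl.mpr hnu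
    obtain ⟨z, hz⟩ := hW.nonempty
    exact (key Tᶜ hT.compl hTcne hz) (key T hT hTne hz)
  exact geometricallyConnected_of_sepClosure (ι ≫ f)

/-- The inverse image, in any base change, of a closed connected subset containing the image of
a nonempty geometrically connected scheme is connected. -/
theorem isConnected_preimage_of_source {X Y : Scheme.{u}} (h : Y ⟶ X)
    (f : X ⟶ Spec (CommRingCat.of k)) [Nonempty Y] [GeometricallyConnected (h ≫ f)]
    (C : Set X) (hC : IsClosed C) (hconn : _root_.IsConnected C) (hsub : Set.range h ⊆ C)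
    (K : Type u) [Field K] [Algebra k K] :
    _root_.IsConnected
      ((pullback.fst f (Spec.map (CommRingCat.ofHom (algebraMap k K)))) ⁻¹' C) := by
  obtain ⟨Z, ι, hι, hr⟩ := exists_closedImmersion_range X C hC
  haveI : ConnectedSpace Z := by
    rw [connectedSpace_iff_univ]
    have himg : ι '' Set.univ = C := by rw [Set.image_univ, hr]
    have hpre : _root_.IsPreconnected (ι '' Set.univ) := by
      rw [himg]; exact hconn.isPreconnected
    refine ⟨?_, ι.isEmbedding.isInducing.isPreconnected_image.mp hpre⟩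
    obtain ⟨c, hc⟩ := hconn.nonempty
    rw [← hr] at hc
    obtain ⟨z, -⟩ := hc
    exact ⟨z, trivial⟩
  haveI : GeometricallyConnected (ι ≫ f) :=
    geometricallyConnected_of_source_sub ι h f (hr ▸ hsub)
  haveI : ConnectedSpace ↥(pullback (ι ≫ f) (Spec.map (CommRingCat.ofHom (algebraMap k K)))) :=
    (GeomConnSch.geometricallyConnected_iff (ι ≫ f)).mp inferInstance K
  rw [← hr, ← range_bcHom]
  exact isConnected_range (bcHom ι f K).continuous

end Groth.Agent.Helper4.GeomConnSub
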