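import Groth.Prelude.Def_FDesc
import Groth.Agent.S9634
import Mathlib

set_option autoImplicit false
universe u
open CategoryTheory CategoryTheory.Limits AlgebraicGeometry Opposite TensorProduct

namespace Groth.Agent.Helper4.GeomRedSch

variable {k : Type u} [Field k]

/-- Reducedness of the base change of an affine `k`-scheme. -/
theorem isReduced_pullback_Spec_iff (A K : Type u) [CommRing A] [Algebra k A] [Field K]
    [Algebra k K] :
    IsReduced (pullback (Spec.map (CommRingCat.ofHom (algebraMap k A)))
        (Spec.map (CommRingCat.ofHom (algebraMap k K)))) ↔ _root_.IsReduced (K ⊗[k] A) := by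
  have e := pullbackSpecIso k A K
  have h2 : _root_.IsReduced (A ⊗[k] K) ↔ _root_.IsReduced (K ⊗[k] A) :=
    ⟨fun h => isReduced_of_injective (Algebra.TensorProduct.comm k K A).toRingHom
        (Algebra.TensorProduct.comm k K A).injective,
     fun h => isReduced_of_injective (Algebra.TensorProduct.comm k A K).toRingHom
        (Algebra.TensorProduct.comm k A K).injective⟩
  rw [← h2, ← affine_isReduced_iff (CommRingCat.of (A ⊗[k] K))]
  exact ⟨fun h => isReduced_of_isOpenImmersion e.inv, fun h => isReduced_of_isOpenImmersion e.hom⟩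

/-- Affine case: the finite purely inseparable test suffices. -/
theorem isReduced_pullback_of_Spec (R : CommRingCat.{u}) (g : Spec R ⟶ Spec (CommRingCat.of k))
    (h : ∀ (k' : Type u) [Field k'] [Algebra k k'] [Module.Finite k k'] [IsPurelyInseparable k k'],
      IsReduced (pullback g (Spec.map (CommRingCat.ofHom (algebraMap k k')))))
    (K : Type u) [Field K] [Algebra k K] :
    IsReduced (pullback g (Spec.map (CommRingCat.ofHom (algebraMap k K)))) := by
  obtain ⟨φ, rfl⟩ := Spec.map_surjective g
  algebraize [φ.hom]
  have hφ : φ = CommRingCat.ofHom (algebraMap k R) := rfl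
  rw [hφ] at h ⊢
  rw [isReduced_pullback_Spec_iff (k := k) R K]
  have h1 : ∀ (k' : Type u) [Field k'] [Algebra k k'] [Module.Finite k k']
      [IsPurelyInseparable k k'], _root_.IsReduced (k' ⊗[k] R) := by
    intro k' _ _ _ _
    rw [← isReduced_pullback_Spec_iff (k := k) R k']
    exact h k'
  have h3 := ((Groth.Agent.S9634.result (k := k) (S := R)).out 0 2).mp h1
  exact h3 K

/-- The finite purely inseparable test for reducedness of all base changes of a `k`-scheme. -/
theorem isReduced_bc_of_purelyInseparable {X : Scheme.{u}} (f : X ⟶ Spec (CommRingCat.of k))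
    (h : ∀ (k' : Type u) [Field k'] [Algebra k k'] [Module.Finite k k'] [IsPurelyInseparable k k'],
      IsReduced (FBase.bc f k'))
    (K : Type u) [Field K] [Algebra k K] : IsReduced (FBase.bc f K) := by
  let 𝒰 := X.affineCover
  have key : ∀ i : 𝒰.I₀, IsReduced (pullback (𝒰.f i ≫ f)
      (Spec.map (CommRingCat.ofHom (algebraMap k K)))) := by
    intro i
    apply isReduced_pullback_of_Spec (k := k) _ (𝒰.f i ≫ f)
    intro k' _ _ _ _
    haveI : IsReduced (pullback f (Spec.map (CommRingCat.ofHom (algebraMap k k')))) := h k'
    exact (IsReduced.iff_of_openCover _ (Scheme.Pullback.openCoverOfLeft 𝒰 f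
      (Spec.map (CommRingCat.ofHom (algebraMap k k'))))).mp inferInstance i
  exact (IsReduced.iff_of_openCover _ (Scheme.Pullback.openCoverOfLeft 𝒰 f
      (Spec.map (CommRingCat.ofHom (algebraMap k K))))).mpr key

end Groth.Agent.Helper4.GeomRedSch
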