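import Groth.Prelude.Def_FDesc
import Groth.Prelude.Def_Curv2
import Groth.Agent.Helper5.GeomRed
import Groth.Agent.Helper4.GeomRedSch
import Groth.Agent.Helper4.GeomRed2
import Groth.Agent.S2536
import Mathlib

set_option autoImplicit false
universe u
open CategoryTheory CategoryTheory.Limits AlgebraicGeometry Opposite TensorProduct

namespace Groth.Agent.Helper4.GeomRedPt

open Groth.Agent.Helper5.GeomRed Groth.Agent.Helper5.StalkRed

/-- A flat morphism which is surjective on stalks induces isomorphisms on stalks; in particular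
reducedness of stalks transfers both ways. -/
theorem isReduced_stalk_iff {A B : Scheme.{u}} (g : A ⟶ B) [Flat g] [SurjectiveOnStalks g] (a : A) :
    _root_.IsReduced (A.presheaf.stalk a) ↔ _root_.IsReduced (B.presheaf.stalk (g a)) := by
  refine ⟨isReduced_stalk_of_flat g a, fun h => ?_⟩
  have hfl : (g.stalkMap a).hom.Flat := Flat.stalkMap g a
  have hsurj : Function.Surjective (g.stalkMap a).hom := g.stalkMap_surjective a
  algebraize [(g.stalkMap a).hom]
  have : IsLocalHom (algebraMap (B.presheaf.stalk (g a)) (A.presheaf.stalk a)) := by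
    show IsLocalHom (g.stalkMap a).hom
    infer_instance
  have hff : Module.FaithfullyFlat (B.presheaf.stalk (g a)) (A.presheaf.stalk a) :=
    Module.FaithfullyFlat.of_flat_of_isLocalHom
  have hinj : Function.Injective (algebraMap (B.presheaf.stalk (g a)) (A.presheaf.stalk a)) :=
    FaithfulSMul.algebraMap_injective _ _
  let e : B.presheaf.stalk (g a) ≃+* A.presheaf.stalk a :=
    RingEquiv.ofBijective (algebraMap (B.presheaf.stalk (g a)) (A.presheaf.stalk a))
      ⟨hinj, hsurj⟩
  exact isReduced_of_injective e.symm.toRingHom e.symm.injective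

section

variable {B T U U' : Scheme.{u}}

instance (f : U ⟶ B) (s : T ⟶ B) (g : U' ⟶ U) [Flat g] : Flat (pbMap f s g) := by
  unfold pbMap
  infer_instance

instance (f : U ⟶ B) (s : T ⟶ B) (g : U' ⟶ U) [SurjectiveOnStalks g] :
    SurjectiveOnStalks (pbMap f s g) := by
  unfold pbMap
  haveI : SurjectiveOnStalks (pullback.snd g (pullback.fst f s)) :=
    MorphismProperty.pullback_snd (P := @SurjectiveOnStalks) _ _ inferInstance
  infer_instance

/-- Reducedness of the stalks of `U ×_B T` over a point descends along a flat `g : U' ⟶ U`. -/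
theorem isReduced_stalk_pullback_of_flat (f : U ⟶ B) (s : T ⟶ B) (g : U' ⟶ U) [Flat g] (u' : ↥U')
    (h : ∀ y : ↥(pullback (g ≫ f) s), (pullback.fst (g ≫ f) s) y = u' →
      _root_.IsReduced ((pullback (g ≫ f) s).presheaf.stalk y))
    (x : ↥(pullback f s)) (hx : (pullback.fst f s) x = g u') :
    _root_.IsReduced ((pullback f s).presheaf.stalk x) := by
  obtain ⟨y, hy1, hy2⟩ := exists_lift_pbMap f s g x u' hx
  have h3 := isReduced_stalk_of_flat (pbMap f s g) y (h y hy2)
  rw [hy1] at h3
  exact h3

end

variable {k : Type u} [Field k]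

/-- All local rings of `X_K` at points over `x` are reduced. -/
def RedOver {X : Scheme.{u}} (f : X ⟶ Spec (CommRingCat.of k)) (x : X) (K : Type u) [Field K]
    [Algebra k K] : Prop :=
  ∀ x' : ↥(FBase.bc f K), (FBase.bcπ f K).base x' = x →
    _root_.IsReduced ((FBase.bc f K).presheaf.stalk x')

theorem geomReducedAt_iff_redOver {X : Scheme.{u}} (f : X ⟶ Spec (CommRingCat.of k)) (x : X) :
    FBase.IsGeomReducedAt f x ↔ ∀ (K : Type u) [Field K] [Algebra k K], RedOver f x K := Iff.rfl

/-- Descent of `RedOver` along a flat morphism. -/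
theorem redOver_of_comp_flat {X Y : Scheme.{u}} (f : X ⟶ Spec (CommRingCat.of k)) (g : Y ⟶ X)
    [Flat g] (y : Y) (K : Type u) [Field K] [Algebra k K] (h : RedOver (g ≫ f) y K) :
    RedOver f (g y) K := by
  intro x' hx'
  exact isReduced_stalk_pullback_of_flat f (Spec.map (CommRingCat.ofHom (algebraMap k K))) g y
    h x' hx'

/-- `RedOver` at `x` can be tested on `Spec 𝒪_{X,x}` at its closed point. -/
theorem redOver_iff_fromSpecStalk {X : Scheme.{u}} (f : X ⟶ Spec (CommRingCat.of k)) (x : X)
    (K : Type u) [Field K] [Algebra k K] :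
    RedOver f x K ↔
      RedOver (X.fromSpecStalk x ≫ f) (IsLocalRing.closedPoint (X.presheaf.stalk x)) K := by
  haveI : Flat (X.fromSpecStalk x) := flat_fromSpecStalk X x
  constructor
  · intro h y hy
    let s := Spec.map (CommRingCat.ofHom (algebraMap k K))
    change ↥(pullback (X.fromSpecStalk x ≫ f) s) at y
    change (pullback.fst (X.fromSpecStalk x ≫ f) s) y = _ at hy
    show _root_.IsReduced ((pullback (X.fromSpecStalk x ≫ f) s).presheaf.stalk y)
    rw [isReduced_stalk_iff (pbMap f s (X.fromSpecStalk x)) y]
    apply h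
    show (pullback.fst f s) (pbMap f s (X.fromSpecStalk x) y) = x
    rw [← Scheme.Hom.comp_apply, pbMap_fst, Scheme.Hom.comp_apply, hy]
    exact Scheme.fromSpecStalk_closedPoint
  · intro h
    have h2 := redOver_of_comp_flat f (X.fromSpecStalk x)
      (IsLocalRing.closedPoint (X.presheaf.stalk x)) K h
    rwa [Scheme.fromSpecStalk_closedPoint] at h2

/-- Purely inseparable trick: reducedness at one prime over the maximal ideal suffices. -/
theorem isReduced_tensor_of_localization (R k' : Type u) [CommRing R] [IsLocalRing R] [Algebra k R]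
    [Field k'] [Algebra k k'] [IsPurelyInseparable k k'] (q : Ideal (R ⊗[k] k')) [q.IsPrime]
    (hq : q.comap (algebraMap R (R ⊗[k] k')) = IsLocalRing.maximalIdeal R)
    (h : _root_.IsReduced (Localization.AtPrime q)) : _root_.IsReduced (R ⊗[k] k') := by
  constructor
  intro z hz
  have h1 : IsNilpotent (algebraMap (R ⊗[k] k') (Localization.AtPrime q) z) := hz.map _
  have h2 : algebraMap (R ⊗[k] k') (Localization.AtPrime q) z = 0 := h.eq_zero _ h1
  rw [IsLocalization.map_eq_zero_iff q.primeCompl] at h2
  obtain ⟨⟨t, ht⟩, htz⟩ := h2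
  obtain ⟨n, hn, a, ha⟩ := IsPurelyInseparable.exists_pow_mem_range_tensorProduct (k := k)
    (K := k') (R := R) t
  have hta : t ^ n ∉ q := fun hmem => ht (Ideal.IsPrime.mem_of_pow_mem inferInstance n hmem)
  have ha' : a ∉ IsLocalRing.maximalIdeal R := by
    rw [← hq]
    intro hmem
    apply hta
    rw [← ha]
    exact hmem
  have hau : IsUnit a := by
    by_contra hnu
    exact ha' ((IsLocalRing.mem_maximalIdeal a).mpr hnu)
  have htu : IsUnit (t ^ n) := by
    rw [← ha]
    exact hau.map _
  have h3 : t ^ n * z = 0 := by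
    obtain ⟨m, rfl⟩ : ∃ m, n = m + 1 := ⟨n - 1, by omega⟩
    rw [pow_succ, mul_assoc]
    simp only at htz
    rw [htz, mul_zero]
  exact (htu.mul_right_eq_zero).mp h3

/-- Affine local case, hard direction: the finite purely inseparable test at the closed point. -/
theorem isGeometricallyReduced_of_redOver (R : Type u) [CommRing R] [IsLocalRing R] [Algebra k R]
    (h : ∀ (k' : Type u) [Field k'] [Algebra k k'] [Module.Finite k k'] [IsPurelyInseparable k k'],
      RedOver (Spec.map (CommRingCat.ofHom (algebraMap k R))) (IsLocalRing.closedPoint R) k') :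
    Algebra.IsGeometricallyReduced k R := by
  refine ((Groth.Agent.S9634.result (k := k) (S := R)).out 0 1).mp ?_
  intro k' _ _ _ _
  let e := pullbackSpecIso k R k'
  haveI : Subsingleton ↥(Spec (CommRingCat.of k)) :=
    inferInstanceAs (Subsingleton (PrimeSpectrum k))
  obtain ⟨y, hy1, -⟩ := Scheme.Pullback.exists_preimage_pullback
    (f := Spec.map (CommRingCat.ofHom (algebraMap k R)))
    (g := Spec.map (CommRingCat.ofHom (algebraMap k k')))
    (IsLocalRing.closedPoint R) (IsLocalRing.closedPoint k') (Subsingleton.elim _ _)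
  have hred : _root_.IsReduced ((pullback (Spec.map (CommRingCat.ofHom (algebraMap k R)))
      (Spec.map (CommRingCat.ofHom (algebraMap k k')))).presheaf.stalk y) := h k' y hy1
  let q : ↥(Spec (CommRingCat.of (R ⊗[k] k'))) := e.hom y
  have hqy : e.inv q = y := by
    show e.inv (e.hom y) = y
    rw [← Scheme.Hom.comp_apply, Iso.hom_inv_id]
    rfl
  have hredq : _root_.IsReduced ((Spec (CommRingCat.of (R ⊗[k] k'))).presheaf.stalk q) := by
    rw [isReduced_stalk_iff e.inv q, hqy]
    exact hred
  have hloc : _root_.IsReduced (Localization.AtPrime q.asIdeal) := by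
    haveI : _root_.IsReduced ↑((structurePresheafInCommRingCat (R ⊗[k] k')).stalk q) := hredq
    exact isReduced_of_injective (StructureSheaf.stalkIso (R ⊗[k] k') q).toRingEquiv.toRingHom
      (StructureSheaf.stalkIso (R ⊗[k] k') q).injective
  have hq : q.asIdeal.comap (algebraMap R (R ⊗[k] k')) = IsLocalRing.maximalIdeal R := by
    have h1 : (Spec.map (CommRingCat.ofHom (algebraMap R (R ⊗[k] k')))) q =
        IsLocalRing.closedPoint R := by
      show (Spec.map (CommRingCat.ofHom (algebraMap R (R ⊗[k] k')))) (e.hom y) = _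
      rw [← Scheme.Hom.comp_apply, pullbackSpecIso_hom_fst']
      exact hy1
    exact congrArg PrimeSpectrum.asIdeal h1
  have hB : _root_.IsReduced (R ⊗[k] k') :=
    isReduced_tensor_of_localization R k' q.asIdeal hq hloc
  exact isReduced_of_injective (Algebra.TensorProduct.comm k k' R).toRingHom
    (Algebra.TensorProduct.comm k k' R).injective

/-- A geometrically reduced algebra gives a geometrically reduced affine scheme: all stalks of all
base changes are reduced. -/
theorem redOver_Spec_of_isGeometricallyReduced (R : Type u) [CommRing R] [Algebra k R]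
    [Algebra.IsGeometricallyReduced k R] (r : ↥(Spec (CommRingCat.of R)))
    (K : Type u) [Field K] [Algebra k K] :
    RedOver (Spec.map (CommRingCat.ofHom (algebraMap k R))) r K := by
  intro y _
  have h1 : _root_.IsReduced (K ⊗[k] R) :=
    Groth.Agent.Helper4.GeomRed.isReduced_tensor_of_isGeometricallyReduced R K
  haveI : AlgebraicGeometry.IsReduced (pullback (Spec.map (CommRingCat.ofHom (algebraMap k R)))
      (Spec.map (CommRingCat.ofHom (algebraMap k K)))) :=
    (Groth.Agent.Helper4.GeomRedSch.isReduced_pullback_Spec_iff (k := k) R K).mpr h1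
  exact isReduced_stalk_of_isReduced (X := pullback (Spec.map (CommRingCat.ofHom (algebraMap k R)))
      (Spec.map (CommRingCat.ofHom (algebraMap k K)))) y

/-- Affine local case. -/
theorem geomReducedAt_closedPoint_iff (R : Type u) [CommRing R] [IsLocalRing R] [Algebra k R] :
    FBase.IsGeomReducedAt (Spec.map (CommRingCat.ofHom (algebraMap k R)))
        (IsLocalRing.closedPoint R) ↔ Algebra.IsGeometricallyReduced k R := by
  constructor
  · intro h
    exact isGeometricallyReduced_of_redOver R (fun k' _ _ _ _ => h k')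
  · intro h K _ _
    exact redOver_Spec_of_isGeometricallyReduced R _ K

/-- The finite purely inseparable test for the local ring. -/
theorem isGeometricallyReduced_stalk_of_redOver {X : Scheme.{u}} (f : X ⟶ Spec (CommRingCat.of k))
    (x : X) (φ : k →+* X.presheaf.stalk x)
    (hφ : Spec.map (CommRingCat.ofHom φ) = X.fromSpecStalk x ≫ f)
    (h : ∀ (k' : Type u) [Field k'] [Algebra k k'] [Module.Finite k k'] [IsPurelyInseparable k k'],
      RedOver f x k') :
    (letI := φ.toAlgebra; Algebra.IsGeometricallyReduced k (X.presheaf.stalk x)) := by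
  letI := φ.toAlgebra
  apply isGeometricallyReduced_of_redOver (X.presheaf.stalk x)
  intro k' _ _ _ _
  have h1 := (redOver_iff_fromSpecStalk f x k').mp (h k')
  rw [← hφ] at h1
  exact h1

/-- Geometric reducedness at a point in terms of the local ring, for any ring map `φ` from `k`
to the local ring inducing the structure morphism. -/
theorem geomReducedAt_iff_stalk {X : Scheme.{u}} (f : X ⟶ Spec (CommRingCat.of k)) (x : X)
    (φ : k →+* X.presheaf.stalk x)
    (hφ : Spec.map (CommRingCat.ofHom φ) = X.fromSpecStalk x ≫ f) :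
    FBase.IsGeomReducedAt f x ↔
      (letI := φ.toAlgebra; Algebra.IsGeometricallyReduced k (X.presheaf.stalk x)) := by
  constructor
  · intro h
    exact isGeometricallyReduced_stalk_of_redOver f x φ hφ (fun k' _ _ _ _ => h k')
  · intro h K _ _
    letI := φ.toAlgebra
    refine (redOver_iff_fromSpecStalk f x K).mpr ?_
    rw [← hφ]
    exact redOver_Spec_of_isGeometricallyReduced (X.presheaf.stalk x) _ K

/-- The canonical ring map from `k` to a local ring of a `k`-scheme induces the structure
morphism. -/
theorem specMap_stalkMap {X : Scheme.{u}} [X.Over (Spec (CommRingCat.of k))] (x : X) :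
    Spec.map (CommRingCat.ofHom (Curv2.stalkMap k X x)) =
      X.fromSpecStalk x ≫ (X ↘ Spec (CommRingCat.of k)) := by
  have h1 : (X ↘ Spec (CommRingCat.of k)) =
      X.toSpecΓ ≫ Spec.map ((Scheme.ΓSpecIso (CommRingCat.of k)).inv ≫
        (X ↘ Spec (CommRingCat.of k)).appTop) := by
    rw [Spec.map_comp, ← Scheme.toSpecΓ_naturality_assoc, ← SpecMap_ΓSpecIso_hom,
      ← Spec.map_comp, Iso.inv_hom_id, Spec.map_id, Category.comp_id]
  conv_rhs => rw [h1, Scheme.fromSpecStalk_toSpecΓ_assoc, ← Spec.map_comp]
  rfl

theorem curv2_geomReducedAt_iff {X : Scheme.{u}} [X.Over (Spec (CommRingCat.of k))] (x : X) :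
    Curv2.IsGeomReducedAt k X x ↔
      (letI := Curv2.stalkAlgebra k X x; Algebra.IsGeometricallyReduced k (X.presheaf.stalk x)) :=
  geomReducedAt_iff_stalk (X ↘ Spec (CommRingCat.of k)) x (Curv2.stalkMap k X x)
    (specMap_stalkMap x)

end Groth.Agent.Helper4.GeomRedPt
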