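import Groth.Prelude.Def_Curv2
import Groth.Agent.Helper4.GeomIrrSch
import Groth.Agent.Helper4.GeomRedPt
import Groth.Agent.S2150
import Mathlib

set_option autoImplicit false
universe u
open CategoryTheory CategoryTheory.Limits AlgebraicGeometry Opposite TensorProduct

namespace Groth.Agent.Helper4.GeomIrrGen

variable {k : Type u} [Field k]

/-- A space is irreducible iff some (equivalently any) dense subset is. -/
theorem irreducibleSpace_iff_of_dense {T : Type*} [TopologicalSpace T] {F : Set T} (hF : Dense F) :
    IrreducibleSpace T ↔ IrreducibleSpace ↥F := by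
  rw [irreducibleSpace_def, ← isIrreducible_iff_irreducibleSpace, Set.top_eq_univ,
    ← hF.closure_eq, isIrreducible_iff_closure]

/-- The generic fibre of the projection from a base change is dense. -/
theorem dense_generic_fibre {X : Scheme.{u}} (f : X ⟶ Spec (CommRingCat.of k)) [IrreducibleSpace X]
    (K : Type u) [Field K] [Algebra k K] :
    Dense ((pullback.fst f (Spec.map (CommRingCat.ofHom (algebraMap k K)))) ⁻¹'
      {genericPoint X}) := by
  haveI : Subsingleton ↥(Spec (CommRingCat.of k)) :=
    inferInstanceAs (Subsingleton (PrimeSpectrum k))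
  set g := Spec.map (CommRingCat.ofHom (algebraMap k K)) with hg
  have hopen : IsOpenMap (pullback.fst f g) := (pullback.fst f g).isOpenMap
  rw [dense_iff_inter_open]
  intro V hV hVne
  have h1 : IsOpen ((pullback.fst f g) '' V) := hopen V hV
  have h2 : ((pullback.fst f g) '' V).Nonempty := hVne.image _
  have h3 : genericPoint X ∈ (pullback.fst f g) '' V := by
    rw [(genericPoint_spec X).mem_open_set_iff h1]
    simpa using h2
  obtain ⟨z, hzV, hz⟩ := h3
  exact ⟨z, hzV, hz⟩

/-- Irreducibility of a base change can be tested on the generic fibre. -/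
theorem irreducibleSpace_bc_iff_generic {X : Scheme.{u}} (f : X ⟶ Spec (CommRingCat.of k))
    [IrreducibleSpace X] (K : Type u) [Field K] [Algebra k K] :
    IrreducibleSpace ↥(pullback f (Spec.map (CommRingCat.ofHom (algebraMap k K)))) ↔
      IrreducibleSpace ↥(pullback (X.fromSpecResidueField (genericPoint X) ≫ f)
        (Spec.map (CommRingCat.ofHom (algebraMap k K)))) := by
  set g := Spec.map (CommRingCat.ofHom (algebraMap k K)) with hg
  rw [irreducibleSpace_iff_of_dense (dense_generic_fibre f K)]
  rw [← ((pullback.fst f g).fiberHomeo (genericPoint X)).irreducibleSpace_iff]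
  let e : (pullback.fst f g).fiber (genericPoint X) ≅
      pullback (X.fromSpecResidueField (genericPoint X) ≫ f) g :=
    pullbackSymmetry _ _ ≪≫ pullbackRightPullbackFstIso f g (X.fromSpecResidueField (genericPoint X))
  exact e.hom.homeomorph.irreducibleSpace_iff

/-- The structure morphism of the residue field point. -/
theorem specMap_resMap {X : Scheme.{u}} [X.Over (Spec (CommRingCat.of k))] (x : X) :
    Spec.map (CommRingCat.ofHom (Curv2.resMap k X x)) =
      X.fromSpecResidueField x ≫ (X ↘ Spec (CommRingCat.of k)) := by
  have : CommRingCat.ofHom (Curv2.resMap k X x) =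
      CommRingCat.ofHom (Curv2.stalkMap k X x) ≫ X.residue x := rfl
  rw [this, Spec.map_comp, Groth.Agent.Helper4.GeomRedPt.specMap_stalkMap,
    Scheme.fromSpecResidueField, Category.assoc]

/-- Geometric irreducibility of an irreducible `k`-scheme is that of its function field. -/
theorem geometricallyIrreducible_iff_generic (X : Scheme.{u}) [X.Over (Spec (CommRingCat.of k))]
    [IrreducibleSpace X] :
    GeometricallyIrreducible (X ↘ Spec (CommRingCat.of k)) ↔
      (letI := Curv2.resAlgebra k X (genericPoint X)
       ∀ (K : Type u) [Field K] [Algebra k K],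
        IrreducibleSpace (PrimeSpectrum (K ⊗[k] X.residueField (genericPoint X)))) := by
  letI := Curv2.resAlgebra k X (genericPoint X)
  rw [Groth.Agent.Helper4.GeomIrrSch.geometricallyIrreducible_iff]
  refine forall_congr' fun K => forall_congr' fun _ => forall_congr' fun _ => ?_
  rw [irreducibleSpace_bc_iff_generic, ← specMap_resMap]
  exact Groth.Agent.Helper4.GeomIrrSch.irreducibleSpace_pullback_Spec_iff
    (X.residueField (genericPoint X)) K

end Groth.Agent.Helper4.GeomIrrGen
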