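import Groth.Prelude.Def_Curv2
import Groth.Agent.Helper4.GeomConnSch
import Groth.Agent.Helper4.GeomIrrGen
import Mathlib

set_option autoImplicit false
universe u
open CategoryTheory CategoryTheory.Limits AlgebraicGeometry Opposite TensorProduct

namespace Groth.Agent.Helper4.IrrCompBC

open Groth.Agent.Helper4.GeomBC Groth.Agent.Helper4.GeomIrrSch Groth.Agent.Helper4.GeomConnSch

section top
variable {A B : Type*} [TopologicalSpace A] [TopologicalSpace B] [QuasiSober A] [QuasiSober B]

/-- A closed generalizing map sends irreducible components onto irreducible components. -/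
theorem image_mem_irreducibleComponents (p : A → B) (hc : Continuous p) (hcl : IsClosedMap p)
    (hgen : GeneralizingMap p) {T : Set A} (hT : T ∈ irreducibleComponents A) :
    p '' T ∈ irreducibleComponents B := by
  have hTirr : IsIrreducible T := hT.1
  have hTcl : IsClosed T := isClosed_of_mem_irreducibleComponents T hT
  have himg : IsIrreducible (p '' T) := hTirr.image p hc.continuousOn
  obtain ⟨Z, hZ, hsub⟩ := exists_mem_irreducibleComponents_subset_of_isIrreducible _ himg
  have hZcl : IsClosed Z := isClosed_of_mem_irreducibleComponents Z hZ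
  obtain ⟨ζ, hζ⟩ := QuasiSober.sober hTirr hTcl
  obtain ⟨η, hη⟩ := QuasiSober.sober hZ.1 hZcl
  have h1 : η ⤳ p ζ := by
    rw [specializes_iff_mem_closure, hη.def]
    exact hsub ⟨ζ, hζ.mem, rfl⟩
  obtain ⟨ζ', hζ', hpζ'⟩ := hgen h1
  have h2 : T ⊆ closure {ζ'} := by
    rw [← hζ.def]
    exact closure_minimal (Set.singleton_subset_iff.mpr (specializes_iff_mem_closure.mp hζ'))
      isClosed_closure
  have h3 : closure {ζ'} ⊆ T := hT.2 (isIrreducible_singleton.closure) h2
  have h4 : η ∈ p '' T := ⟨ζ', h3 (subset_closure rfl), hpζ'⟩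
  have h5 : Z ⊆ p '' T := by
    rw [← hη.def]
    exact closure_minimal (Set.singleton_subset_iff.mpr h4) (hcl T hTcl)
  rw [Set.Subset.antisymm hsub h5]
  exact hZ

/-- Under a closed generalizing surjection every irreducible component is the image of one. -/
theorem exists_image_eq_of_mem_irreducibleComponents (p : A → B) (hc : Continuous p)
    (hcl : IsClosedMap p) (hgen : GeneralizingMap p) (hsurj : Function.Surjective p)
    {Z : Set B} (hZ : Z ∈ irreducibleComponents B) :
    ∃ T ∈ irreducibleComponents A, p '' T = Z := by
  have hZcl : IsClosed Z := isClosed_of_mem_irreducibleComponents Z hZ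
  obtain ⟨η, hη⟩ := QuasiSober.sober hZ.1 hZcl
  obtain ⟨ζ₀, rfl⟩ := hsurj η
  obtain ⟨T, hT, hsub⟩ := exists_mem_irreducibleComponents_subset_of_isIrreducible _
    (isIrreducible_singleton (x := ζ₀))
  have hpT := image_mem_irreducibleComponents p hc hcl hgen hT
  have hpTcl : IsClosed (p '' T) := isClosed_of_mem_irreducibleComponents _ hpT
  have h1 : Z ⊆ p '' T := by
    rw [← hη.def]
    exact closure_minimal (Set.singleton_subset_iff.mpr ⟨ζ₀, hsub rfl, rfl⟩) hpTcl
  exact ⟨T, hT, Set.Subset.antisymm (hZ.2 hpT.1 h1) h1⟩

/-- The preimage of an irreducible component under a generalizing map is a union of irreducible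
components. -/
theorem preimage_eq_sUnion_irreducibleComponents (p : A → B) (hc : Continuous p)
    (hgen : GeneralizingMap p) {T : Set B} (hT : T ∈ irreducibleComponents B) :
    p ⁻¹' T = ⋃₀ {Z : Set A | Z ∈ irreducibleComponents A ∧ Z ⊆ p ⁻¹' T} := by
  apply Set.Subset.antisymm
  · intro z hz
    have hTcl : IsClosed T := isClosed_of_mem_irreducibleComponents T hT
    obtain ⟨η, hη⟩ := QuasiSober.sober hT.1 hTcl
    have h1 : η ⤳ p z := by
      rw [specializes_iff_mem_closure, hη.def]
      exact hz
    obtain ⟨z', hz', hpz'⟩ := hgen h1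
    obtain ⟨Z, hZ, hsub⟩ := exists_mem_irreducibleComponents_subset_of_isIrreducible _
      (isIrreducible_singleton (x := z')).closure
    have hZcl : IsClosed Z := isClosed_of_mem_irreducibleComponents Z hZ
    refine ⟨Z, ⟨hZ, ?_⟩, hsub (specializes_iff_mem_closure.mp hz')⟩
    obtain ⟨ζ, hζ⟩ := QuasiSober.sober hZ.1 hZcl
    have h2 : ζ ⤳ z' := by
      rw [specializes_iff_mem_closure, hζ.def]
      exact hsub (subset_closure rfl)
    have h3 : p ζ ⤳ η := hpz' ▸ h2.map hc
    have h4 : T ⊆ closure {p ζ} := by
      rw [← hη.def]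
      exact closure_minimal (Set.singleton_subset_iff.mpr (specializes_iff_mem_closure.mp h3))
        isClosed_closure
    have h5 : closure {p ζ} ⊆ T := hT.2 (isIrreducible_singleton.closure) h4
    intro w hw
    have h6 : ζ ⤳ w := by
      rw [specializes_iff_mem_closure, hζ.def]
      exact hw
    exact h5 (specializes_iff_mem_closure.mp (h6.map hc))
  · rintro z ⟨Z, ⟨-, hZ⟩, hz⟩
    exact hZ hz

end top

variable {k : Type u} [Field k]

instance flat_SpecMap_field (K : Type u) [Field K] [Algebra k K] :
    Flat (Spec.map (CommRingCat.ofHom (algebraMap k K))) := by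
  rw [HasRingHomProperty.Spec_iff (P := @Flat)]
  show RingHom.Flat (algebraMap k K)
  rw [RingHom.flat_algebraMap_iff]
  infer_instance

theorem generalizingMap_bc_fst {X : Scheme.{u}} (f : X ⟶ Spec (CommRingCat.of k))
    (K : Type u) [Field K] [Algebra k K] :
    GeneralizingMap (pullback.fst f (Spec.map (CommRingCat.ofHom (algebraMap k K)))) :=
  Flat.generalizingMap _

/-- Separable elements over a separably closed field are in the base field. -/
theorem mem_range_of_isSeparable_of_isSepClosed [IsSepClosed k] {K : Type u} [Field K]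
    [Algebra k K] (α : K) (hα : IsSeparable k α) : α ∈ Set.range (algebraMap k K) := by
  have hint : IsIntegral k α := hα.isIntegral
  have h : (minpoly k α).degree = 1 :=
    IsSepClosed.degree_eq_one_of_irreducible k (minpoly.irreducible hint) hα
  exact minpoly.mem_range_of_degree_eq_one k α h

/-- Over a separably closed field every field extension is geometrically irreducible. -/
theorem geometricallyIrreducible_Spec_of_isSepClosed [IsSepClosed k] (K : Type u) [Field K]
    [Algebra k K] : GeometricallyIrreducible (Spec.map (CommRingCat.ofHom (algebraMap k K))) := by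
  rw [Groth.Agent.Helper4.GeomIrrSch.geometricallyIrreducible_iff]
  intro L _ _
  rw [irreducibleSpace_pullback_Spec_iff (k := k) K L]
  exact (Groth.Agent.S2150.result (k := k) (K := K)).mpr
    (fun α hα => mem_range_of_isSeparable_of_isSepClosed α hα) L

/-- Over a separably closed field, taking images is injective on irreducible components of a
base change. -/
theorem irreducibleComponents_image_injective [IsSepClosed k] {X : Scheme.{u}}
    (f : X ⟶ Spec (CommRingCat.of k)) (K : Type u) [Field K] [Algebra k K]
    (T T' : Set ↥(pullback f (Spec.map (CommRingCat.ofHom (algebraMap k K)))))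
    (hT : T ∈ irreducibleComponents ↥(pullback f (Spec.map (CommRingCat.ofHom (algebraMap k K)))))
    (hT' : T' ∈ irreducibleComponents
      ↥(pullback f (Spec.map (CommRingCat.ofHom (algebraMap k K)))))
    (h : (pullback.fst f (Spec.map (CommRingCat.ofHom (algebraMap k K)))) '' T =
      (pullback.fst f (Spec.map (CommRingCat.ofHom (algebraMap k K)))) '' T') : T = T' := by
  haveI := geometricallyIrreducible_Spec_of_isSepClosed (k := k) K
  set p := pullback.fst f (Spec.map (CommRingCat.ofHom (algebraMap k K))) with hp
  let e := p.irreducibleComponentsEquiv p.isOpenMap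
  have h1 : e ⟨T, hT⟩ = e ⟨T', hT'⟩ := Subtype.ext h
  exact congrArg Subtype.val (e.injective h1)

theorem isClosedMap_bcMap {X : Scheme.{u}} (f : X ⟶ Spec (CommRingCat.of k))
    (K Ω : Type u) [Field K] [Field Ω] [Algebra k K] [Algebra k Ω]
    [Algebra K Ω] [IsScalarTower k K Ω] [Algebra.IsAlgebraic K Ω] : IsClosedMap (bcMap f K Ω) := by
  haveI : IsIntegralHom (Spec.map (CommRingCat.ofHom (algebraMap K Ω))) := by
    rw [IsIntegralHom.SpecMap_iff]
    show (algebraMap K Ω).IsIntegral
    exact algebraMap_isIntegral_iff.mpr inferInstance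
  haveI : IsIntegralHom (bcMap f K Ω) :=
    MorphismProperty.of_isPullback (P := @IsIntegralHom) (isPullback_bcMap f K Ω).flip inferInstance
  exact (bcMap f K Ω).isClosedMap

theorem bcMap_fst_apply {X : Scheme.{u}} (f : X ⟶ Spec (CommRingCat.of k))
    (K Ω : Type u) [Field K] [Field Ω] [Algebra k K] [Algebra k Ω]
    [Algebra K Ω] [IsScalarTower k K Ω]
    (t : ↥(pullback f (Spec.map (CommRingCat.ofHom (algebraMap k Ω))))) :
    pullback.fst f (Spec.map (CommRingCat.ofHom (algebraMap k K))) (bcMap f K Ω t) =
      pullback.fst f (Spec.map (CommRingCat.ofHom (algebraMap k Ω))) t := by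
  rw [← Scheme.Hom.comp_apply, bcMap_fst]

/-- Irreducible components of a base change map onto irreducible components, and every
irreducible component is such an image. -/
theorem irreducibleComponents_bc {X : Scheme.{u}} (f : X ⟶ Spec (CommRingCat.of k))
    (K : Type u) [Field K] [Algebra k K] :
    (∀ T ∈ irreducibleComponents ↥(pullback f (Spec.map (CommRingCat.ofHom (algebraMap k K)))),
      (pullback.fst f (Spec.map (CommRingCat.ofHom (algebraMap k K)))) '' T ∈
        irreducibleComponents ↥X) ∧
    (∀ Z ∈ irreducibleComponents ↥X,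
      ∃ T ∈ irreducibleComponents ↥(pullback f (Spec.map (CommRingCat.ofHom (algebraMap k K)))),
        (pullback.fst f (Spec.map (CommRingCat.ofHom (algebraMap k K)))) '' T = Z) := by
  let L := AlgebraicClosure K
  let φ : SeparableClosure k →ₐ[k] L := IsSepClosed.lift
  letI : Algebra (SeparableClosure k) L := φ.toRingHom.toAlgebra
  haveI : IsScalarTower k (SeparableClosure k) L :=
    IsScalarTower.of_algebraMap_eq (fun x => (φ.commutes x).symm)
  set p := pullback.fst f (Spec.map (CommRingCat.ofHom (algebraMap k K))) with hp
  set s := pullback.fst f (Spec.map (CommRingCat.ofHom (algebraMap k (SeparableClosure k))))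
    with hs
  set q := bcMap f K L with hq
  set r := bcMap f (SeparableClosure k) L with hr
  have hqcl : IsClosedMap q := isClosedMap_bcMap f K L
  have hqgen : GeneralizingMap q := Flat.generalizingMap _
  have hqsurj : Function.Surjective q := bcMap_surjective f K L
  have hscl : IsClosedMap s := isClosedMap_bc_fst_of_isAlgebraic f (SeparableClosure k)
  have hsgen : GeneralizingMap s := generalizingMap_bc_fst f (SeparableClosure k)
  have hssurj : Function.Surjective s := fun x => bc_fst_surjective f (SeparableClosure k) x
  haveI : GeometricallyIrreducible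
      (Spec.map (CommRingCat.ofHom (algebraMap (SeparableClosure k) L))) :=
    geometricallyIrreducible_Spec_of_isSepClosed (k := SeparableClosure k) L
  haveI : GeometricallyIrreducible r :=
    MorphismProperty.of_isPullback (P := @GeometricallyIrreducible)
      (isPullback_bcMap f (SeparableClosure k) L).flip inferInstance
  haveI : UniversallyOpen r :=
    MorphismProperty.of_isPullback (P := @UniversallyOpen)
      (isPullback_bcMap f (SeparableClosure k) L).flip inferInstance
  let e := r.irreducibleComponentsEquiv r.isOpenMap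
  have hcomm : ∀ t, p (q t) = s (r t) := by
    intro t
    rw [hp, hq, hs, hr, bcMap_fst_apply, bcMap_fst_apply]
  have himg : ∀ T₁ : Set ↥(pullback f (Spec.map (CommRingCat.ofHom (algebraMap k L)))),
      p '' (q '' T₁) = s '' (r '' T₁) := by
    intro T₁
    rw [Set.image_image, Set.image_image]
    exact Set.image_congr (fun t _ => hcomm t)
  constructor
  · intro T hT
    obtain ⟨T₁, hT₁, rfl⟩ :=
      exists_image_eq_of_mem_irreducibleComponents q q.continuous hqcl hqgen hqsurj hT
    rw [himg]
    exact image_mem_irreducibleComponents s s.continuous hscl hsgen (e ⟨T₁, hT₁⟩).2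
  · intro Z hZ
    obtain ⟨T₂, hT₂, rfl⟩ :=
      exists_image_eq_of_mem_irreducibleComponents s s.continuous hscl hsgen hssurj hZ
    have h1 : r '' (e.symm ⟨T₂, hT₂⟩).1 = T₂ := congrArg Subtype.val (e.apply_symm_apply ⟨T₂, hT₂⟩)
    refine ⟨q '' (e.symm ⟨T₂, hT₂⟩).1,
      image_mem_irreducibleComponents q q.continuous hqcl hqgen (e.symm ⟨T₂, hT₂⟩).2, ?_⟩
    rw [himg, h1]

end Groth.Agent.Helper4.IrrCompBC
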