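import Groth.Prelude.Def_FDesc
import Groth.Agent.Helper4.GeomConnSub
import Groth.Agent.Helper4.IrrCompBC
import Groth.Agent.Helper8.GeomIrrA
import Mathlib

set_option autoImplicit false
universe u
open CategoryTheory CategoryTheory.Limits AlgebraicGeometry Opposite TensorProduct

namespace Groth.Agent.Helper4.ConnFinSep

open Groth.Agent.Helper4.GeomBC Groth.Agent.Helper4.GeomIrrSch Groth.Agent.Helper4.GeomConnSch
open Groth.Agent.Helper4.GeomConnSub Groth.Agent.Helper8.GeomIrr

variable {k : Type u} [Field k]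

section affine
variable (R : Type u) [CommRing R] [Algebra k R] (K : Type u) [Field K] [Algebra k K]

/-- The identification of the base change of `Spec R` with `Spec (K ⊗ R)`. -/
noncomputable def specIso :
    pullback (Spec.map (CommRingCat.ofHom (algebraMap k R)))
      (Spec.map (CommRingCat.ofHom (algebraMap k K))) ≅ Spec (CommRingCat.of (K ⊗[k] R)) :=
  pullbackSymmetry _ _ ≪≫ pullbackSpecIso k K R

theorem specIso_inv_fst :
    (specIso R K).inv ≫ pullback.fst _ _ =
      Spec.map (CommRingCat.ofHom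
        (Algebra.TensorProduct.includeRight : R →ₐ[k] K ⊗[k] R).toRingHom) := by
  simp only [specIso, Iso.trans_inv, Category.assoc, pullbackSymmetry_inv_comp_fst]
  exact pullbackSpecIso_inv_snd k K R

theorem specIso_inv_snd :
    (specIso R K).inv ≫ pullback.snd _ _ =
      Spec.map (CommRingCat.ofHom
        (Algebra.TensorProduct.includeLeftRingHom : K →+* K ⊗[k] R)) := by
  simp only [specIso, Iso.trans_inv, Category.assoc, pullbackSymmetry_inv_comp_snd]
  exact pullbackSpecIso_inv_fst k K R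

theorem specIso_bcMap (Ω : Type u) [Field Ω] [Algebra k Ω] (E : IntermediateField k Ω) :
    (specIso R Ω).inv ≫ bcMap (Spec.map (CommRingCat.ofHom (algebraMap k R))) E Ω =
      Spec.map (CommRingCat.ofHom (jE Ω R E).toRingHom) ≫ (specIso R E).inv := by
  apply pullback.hom_ext
  · rw [Category.assoc, bcMap_fst, specIso_inv_fst, Category.assoc, specIso_inv_fst,
      ← Spec.map_comp]
    congr 1
  · rw [Category.assoc, bcMap_snd, ← Category.assoc, specIso_inv_snd, Category.assoc,
      specIso_inv_snd, ← Spec.map_comp, ← Spec.map_comp]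
    congr 1

end affine

/-- Clopen subsets of the base change of an affine scheme to an algebraic extension come from a
finite subextension. -/
theorem exists_fd_clopen_Spec' (R : Type u) [CommRing R] [Algebra k R] (Ω : Type u) [Field Ω]
    [Algebra k Ω] [Algebra.IsAlgebraic k Ω]
    (C : Set ↥(pullback (Spec.map (CommRingCat.ofHom (algebraMap k R)))
      (Spec.map (CommRingCat.ofHom (algebraMap k Ω))))) (hC : IsClopen C) :
    ∃ E : IntermediateField k Ω, FiniteDimensional k E ∧
      ∃ C' : Set ↥(pullback (Spec.map (CommRingCat.ofHom (algebraMap k R)))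
        (Spec.map (CommRingCat.ofHom (algebraMap k E)))),
        IsClopen C' ∧ C = (bcMap (Spec.map (CommRingCat.ofHom (algebraMap k R))) E Ω) ⁻¹' C' := by
  let C₁ : Set (PrimeSpectrum (Ω ⊗[k] R)) := (specIso R Ω).inv ⁻¹' C
  have hC₁ : IsClopen C₁ := hC.preimage (specIso R Ω).inv.continuous
  obtain ⟨e, he, hC₁e⟩ := PrimeSpectrum.isClopen_iff.mp hC₁
  obtain ⟨E, hE, ⟨e', he'⟩⟩ := exists_fd_mem_range Ω R e
  have hidem : IsIdempotentElem e' := by
    apply jE_injective Ω R E
    show jE Ω R E (e' * e') = jE Ω R E e'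
    rw [map_mul]
    show (jE Ω R E).toRingHom e' * (jE Ω R E).toRingHom e' = (jE Ω R E).toRingHom e'
    rw [he']
    exact he
  let B : Set (PrimeSpectrum (↥E ⊗[k] R)) := PrimeSpectrum.basicOpen e'
  have hB : IsClopen B := PrimeSpectrum.isClopen_iff.mpr ⟨e', hidem, rfl⟩
  refine ⟨E, hE, (specIso R E).hom ⁻¹' B, hB.preimage (specIso R E).hom.continuous, ?_⟩
  ext z
  obtain ⟨w, rfl⟩ : ∃ w, (specIso R Ω).inv w = z :=
    ⟨(specIso R Ω).hom z, by rw [← Scheme.Hom.comp_apply, Iso.hom_inv_id]; rfl⟩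
  have h1 : (specIso R Ω).inv w ∈ C ↔ e ∉ w.asIdeal := by
    have : w ∈ C₁ ↔ e ∉ w.asIdeal := by rw [hC₁e]; rfl
    exact this
  have h2a : bcMap (Spec.map (CommRingCat.ofHom (algebraMap k R))) E Ω
      ((specIso R Ω).inv w) =
      (specIso R E).inv (Spec.map (CommRingCat.ofHom (jE Ω R E).toRingHom) w) := by
    rw [← Scheme.Hom.comp_apply, ← Scheme.Hom.comp_apply, specIso_bcMap]
  have h2 : (specIso R E).hom (bcMap (Spec.map (CommRingCat.ofHom (algebraMap k R))) E Ω
      ((specIso R Ω).inv w)) = Spec.map (CommRingCat.ofHom (jE Ω R E).toRingHom) w := by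
    rw [h2a, ← Scheme.Hom.comp_apply, Iso.inv_hom_id]
    rfl
  let φ : ↥E ⊗[k] R →+* Ω ⊗[k] R := (jE Ω R E).toRingHom
  have h2' : (specIso R E).hom (bcMap (Spec.map (CommRingCat.ofHom (algebraMap k R))) E Ω
      ((specIso R Ω).inv w)) = PrimeSpectrum.comap φ w := h2
  rw [h1, Set.mem_preimage, Set.mem_preimage, h2']
  show e ∉ w.asIdeal ↔ e' ∉ (PrimeSpectrum.comap φ w).asIdeal
  rw [PrimeSpectrum.comap_asIdeal, Ideal.mem_comap]
  have h4 : φ e' = e := he'
  rw [h4]

theorem exists_fd_clopen_Spec (R : CommRingCat.{u}) (g : Spec R ⟶ Spec (CommRingCat.of k))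
    (Ω : Type u) [Field Ω] [Algebra k Ω] [Algebra.IsAlgebraic k Ω]
    (C : Set ↥(pullback g (Spec.map (CommRingCat.ofHom (algebraMap k Ω))))) (hC : IsClopen C) :
    ∃ E : IntermediateField k Ω, FiniteDimensional k E ∧
      ∃ C' : Set ↥(pullback g (Spec.map (CommRingCat.ofHom (algebraMap k E)))),
        IsClopen C' ∧ C = (bcMap g E Ω) ⁻¹' C' := by
  obtain ⟨φ, rfl⟩ := Spec.map_surjective g
  algebraize [φ.hom]
  exact exists_fd_clopen_Spec' R Ω C hC

theorem bcHom_bcMap {X W : Scheme.{u}} (j : W ⟶ X) (f : X ⟶ Spec (CommRingCat.of k))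
    (K Ω : Type u) [Field K] [Field Ω] [Algebra k K] [Algebra k Ω]
    [Algebra K Ω] [IsScalarTower k K Ω] :
    bcHom j f Ω ≫ bcMap f K Ω = bcMap (j ≫ f) K Ω ≫ bcHom j f K := by
  apply pullback.hom_ext
  · simp only [bcHom, bcMap, pullback.map, Category.assoc, pullback.lift_fst, Category.comp_id,
      pullback.lift_fst_assoc]
  · simp only [bcHom, bcMap, pullback.map, Category.assoc, pullback.lift_snd, Category.comp_id,
      pullback.lift_snd_assoc]

theorem isOpenMap_bcMap {X : Scheme.{u}} (f : X ⟶ Spec (CommRingCat.of k))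
    (K Ω : Type u) [Field K] [Field Ω] [Algebra k K] [Algebra k Ω]
    [Algebra K Ω] [IsScalarTower k K Ω] : IsOpenMap (bcMap f K Ω) := by
  haveI : UniversallyOpen (bcMap f K Ω) :=
    MorphismProperty.of_isPullback (P := @UniversallyOpen) (isPullback_bcMap f K Ω).flip
      inferInstance
  exact (bcMap f K Ω).isOpenMap

/-- Connectedness of the base change to an algebraic extension can be tested on the finite
subextensions. -/
theorem connectedSpace_bc_of_forall_fd {X : Scheme.{u}} (f : X ⟶ Spec (CommRingCat.of k))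
    (Ω : Type u) [Field Ω] [Algebra k Ω] [Algebra.IsAlgebraic k Ω]
    (h : ∀ E : IntermediateField k Ω, FiniteDimensional k E →
      ConnectedSpace ↥(pullback f (Spec.map (CommRingCat.ofHom (algebraMap k E))))) :
    ConnectedSpace ↥(pullback f (Spec.map (CommRingCat.ofHom (algebraMap k Ω)))) := by
  set p := pullback.fst f (Spec.map (CommRingCat.ofHom (algebraMap k Ω))) with hp
  rw [connectedSpace_iff_clopen]
  constructor
  · haveI := h ⊥ inferInstance
    obtain ⟨z⟩ := (inferInstance : Nonempty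
      ↥(pullback f (Spec.map (CommRingCat.ofHom (algebraMap k (⊥ : IntermediateField k Ω))))))
    obtain ⟨w, -⟩ := bc_fst_surjective f Ω (pullback.fst f _ z)
    exact ⟨w⟩
  intro A hA
  by_cases hne : A = ∅
  · exact Or.inl hne
  right
  have hAne : A.Nonempty := Set.nonempty_iff_ne_empty.mpr hne
  have hsurj : ∀ E : IntermediateField k Ω, FiniteDimensional k E →
      (bcMap f E Ω) '' A = Set.univ := by
    intro E hE
    haveI := h E hE
    have hcl : IsClopen ((bcMap f E Ω) '' A) :=
      ⟨Groth.Agent.Helper4.IrrCompBC.isClosedMap_bcMap f E Ω A hA.1,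
        isOpenMap_bcMap f E Ω A hA.2⟩
    exact hcl.eq_univ (hAne.image _)
  rw [Set.eq_univ_iff_forall]
  intro b
  let 𝒰 := X.affineCover
  let i := 𝒰.idx (p b)
  let j := 𝒰.f i
  have hb : b ∈ Set.range (bcHom j f Ω) := by
    rw [range_bcHom]
    exact 𝒰.covers (p b)
  obtain ⟨b', hb'⟩ := hb
  have hC : IsClopen ((bcHom j f Ω) ⁻¹' A) := hA.preimage (bcHom j f Ω).continuous
  obtain ⟨E, hE, C', hC', hCC'⟩ := exists_fd_clopen_Spec _ (j ≫ f) Ω _ hC
  have hmem : (bcMap f E Ω) b ∈ (bcMap f E Ω) '' A := by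
    rw [hsurj E hE]; trivial
  obtain ⟨a, haA, ha⟩ := hmem
  have hpa : p a = p b := by
    rw [hp, ← Groth.Agent.Helper4.IrrCompBC.bcMap_fst_apply f E Ω a, ha,
      Groth.Agent.Helper4.IrrCompBC.bcMap_fst_apply]
  have ha' : a ∈ Set.range (bcHom j f Ω) := by
    rw [range_bcHom]
    show p a ∈ Set.range j
    rw [hpa]
    exact 𝒰.covers (p b)
  obtain ⟨a', rfl⟩ := ha'
  have h1 : bcMap (j ≫ f) E Ω a' ∈ C' := by
    have : a' ∈ (bcHom j f Ω) ⁻¹' A := haA
    rw [hCC'] at this
    exact this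
  have h2 : bcHom j f E (bcMap (j ≫ f) E Ω a') = bcHom j f E (bcMap (j ≫ f) E Ω b') := by
    rw [← Scheme.Hom.comp_apply, ← Scheme.Hom.comp_apply, ← bcHom_bcMap, Scheme.Hom.comp_apply,
      Scheme.Hom.comp_apply, ha, hb']
  have h3 : bcMap (j ≫ f) E Ω a' = bcMap (j ≫ f) E Ω b' :=
    (bcHom j f E).isOpenEmbedding.injective h2
  rw [h3] at h1
  have h4 : b' ∈ (bcHom j f Ω) ⁻¹' A := by
    rw [hCC']
    exact h1
  rw [← hb']
  exact h4

end Groth.Agent.Helper4.ConnFinSep
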