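import Mathlib

set_option autoImplicit false
universe u
open CategoryTheory CategoryTheory.Limits AlgebraicGeometry Opposite

namespace Groth.Agent.Helper4.FibreBC

/-- The fibre of a base change `X ×_S U → U` over `u` is the base change of the fibre of `f` over
`s = g u` along the residue field extension. -/
theorem nonempty_fiber_iso {X S U : Scheme.{u}} (f : X ⟶ S) (g : U ⟶ S) (u : U) (s : S)
    (hu : g u = s) :
    Nonempty ((pullback.snd f g).fiber u ≅
      pullback (f.fiberToSpecResidueField s)
        (Spec.map ((S.residueFieldCongr hu).inv ≫ g.residueFieldMap u))) := by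
  subst hu
  have hpb := isPullback_fiberToSpecResidueField_of_isPullback (IsPullback.of_hasPullback f g) u
  have h1 : (S.residueFieldCongr (rfl : g u = g u)).inv ≫ g.residueFieldMap u =
      g.residueFieldMap u := by
    rw [Scheme.residueFieldCongr_refl]
    exact Category.id_comp _
  rw [h1]
  exact ⟨hpb.isoPullback⟩

end Groth.Agent.Helper4.FibreBC
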