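import Mathlib
import Groth.Agent.Helper5.BddBC
import Groth.Agent.Lead.SchDescent2

set_option autoImplicit false
universe u
open CategoryTheory CategoryTheory.Limits AlgebraicGeometry TopologicalSpace Opposite

namespace Groth.Agent.Helper4.BddFib1

open Groth.Agent.Helper5

instance specField_subsingleton (K : Type u) [Field K] : Subsingleton ↥(Spec (CommRingCat.of K)) :=
  inferInstanceAs (Subsingleton (PrimeSpectrum K))

/-- any morphism between spectra of fields is fpqc -/
theorem fpqc_of_fields (K K' : Type u) [Field K] [Field K']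
    (q : Spec (CommRingCat.of K') ⟶ Spec (CommRingCat.of K)) :
    (@Surjective ⊓ @Flat ⊓ @QuasiCompact : MorphismProperty Scheme.{u}) q := by
  refine ⟨⟨?_, ?_⟩, ?_⟩
  · refine ⟨fun x => ⟨default, Subsingleton.elim _ _⟩⟩
  · show Flat q
    infer_instance
  · show QuasiCompact q
    infer_instance

/-- base change of `FiniteOfDegLE` along a morphism of spectra of fields -/
theorem finiteOfDegLE_of_isPullback (K K' : Type u) [Field K] [Field K'] {T T' : Scheme.{u}}
    (p : T ⟶ Spec (CommRingCat.of K)) (p' : T' ⟶ Spec (CommRingCat.of K'))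
    (a : T' ⟶ T) (q : Spec (CommRingCat.of K') ⟶ Spec (CommRingCat.of K))
    (sq : IsPullback a p' p q) (n : ℕ)
    (h : BddFib.FiniteOfDegLE (CommRingCat.of K) p n) :
    BddFib.FiniteOfDegLE (CommRingCat.of K') p' n := by
  obtain ⟨i1, i2, hrk⟩ := BddBC.of_finiteOfDegLE K p n h
  have j1 : IsFinite p' := MorphismProperty.of_isPullback sq i1
  have j2 : Flat p' := MorphismProperty.of_isPullback sq i2
  have hr := Scheme.Hom.finrank_of_isPullback a p' p q sq default
  refine BddBC.mono_finiteOfDegLE _ _ ((hr.symm ▸ hrk _ : p'.finrank default ≤ n)) ?_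
  exact BddFLF.finiteOfDegLE_of_finrank K' p' default _ rfl

/-- descent of `FiniteOfDegLE` along a morphism of spectra of fields -/
theorem finiteOfDegLE_descend (K K' : Type u) [Field K] [Field K'] {T T' : Scheme.{u}}
    (p : T ⟶ Spec (CommRingCat.of K)) (p' : T' ⟶ Spec (CommRingCat.of K'))
    (a : T' ⟶ T) (q : Spec (CommRingCat.of K') ⟶ Spec (CommRingCat.of K))
    (sq : IsPullback a p' p q) (n : ℕ)
    (h : BddFib.FiniteOfDegLE (CommRingCat.of K') p' n) :
    BddFib.FiniteOfDegLE (CommRingCat.of K) p n := by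
  obtain ⟨i1, i2, hrk⟩ := BddBC.of_finiteOfDegLE K' p' n h
  have j1 : IsFinite p :=
    MorphismProperty.of_isPullback_of_descendsAlong (P := @IsFinite)
      (Q := (@Surjective ⊓ @Flat ⊓ @QuasiCompact : MorphismProperty Scheme.{u}))
      sq.flip (fpqc_of_fields K K' q) i1
  have j2 : Flat p := inferInstance
  have hr := Scheme.Hom.finrank_of_isPullback a p' p q sq default
  have hq : q default = default := Subsingleton.elim _ _
  rw [hq] at hr
  refine BddBC.mono_finiteOfDegLE _ _ ((hr ▸ hrk _ : p.finrank default ≤ n)) ?_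
  exact BddFLF.finiteOfDegLE_of_finrank K p default _ rfl

end Groth.Agent.Helper4.BddFib1
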