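import Mathlib
import Groth.Agent.Helper4.BddFib1

set_option autoImplicit false
universe u
open CategoryTheory CategoryTheory.Limits AlgebraicGeometry TopologicalSpace Opposite

namespace Groth.Agent.Helper4.BddFib2

open Groth.Agent.Helper5 Groth.Agent.Helper4.BddFib1

theorem s7438 {X Y X' Y' : Scheme.{u}} (f : X ⟶ Y) (g : Y' ⟶ Y) [Surjective g]
    (f' : X' ⟶ Y') (g' : X' ⟶ X) (h : IsPullback g' f' f g) (n : ℕ) (hf' : BddFib.FibreDegLE f' n) :
    BddFib.FibreDegLE f n := by
  intro y
  obtain ⟨y', rfl⟩ := g.surjective y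
  have hpb := isPullback_fiberToSpecResidueField_of_isPullback h y'
  exact finiteOfDegLE_descend (IsLocalRing.ResidueField (Y.presheaf.stalk (g y')))
    (IsLocalRing.ResidueField (Y'.presheaf.stalk y'))
    (f.fiberToSpecResidueField (g y')) (f'.fiberToSpecResidueField y') _ _ hpb n (hf' y')

/-- a scheme over the spectrum of a field vs its fibre over the unique point -/
theorem finiteOfDegLE_of_fiber (k : Type u) [Field k] {T : Scheme.{u}}
    (p : T ⟶ Spec (CommRingCat.of k)) (n : ℕ) (x : ↥(Spec (CommRingCat.of k)))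
    (h : BddFib.FiniteOfDegLE ((Spec (CommRingCat.of k)).residueField x)
      (p.fiberToSpecResidueField x) n) :
    BddFib.FiniteOfDegLE (CommRingCat.of k) p n := by
  have sq : IsPullback (p.fiberι x) (p.fiberToSpecResidueField x) p
      ((Spec (CommRingCat.of k)).fromSpecResidueField x) := IsPullback.of_hasPullback _ _
  exact finiteOfDegLE_descend k
    (IsLocalRing.ResidueField ((Spec (CommRingCat.of k)).presheaf.stalk x))
    p (p.fiberToSpecResidueField x) _ _ sq n h

theorem s7433 {X Y : Scheme.{u}} (f : X ⟶ Y) (n : ℕ) :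
    BddFib.FibreDegLE f n ↔ ∀ (k : Type u) [Field k] (g : Spec (CommRingCat.of k) ⟶ Y),
      BddFib.FiniteOfDegLE (CommRingCat.of k) (Limits.pullback.snd f g) n := by
  constructor
  · intro hf k _ g
    have h : IsPullback (pullback.fst f g) (pullback.snd f g) f g := IsPullback.of_hasPullback _ _
    have h2 := BddBC.s7437 f g (pullback.snd f g) (pullback.fst f g) h n hf
    exact finiteOfDegLE_of_fiber k _ n default (h2 default)
  · intro H y
    exact H (IsLocalRing.ResidueField (Y.presheaf.stalk y)) (Y.fromSpecResidueField y)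

end Groth.Agent.Helper4.BddFib2
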