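import Mathlib
import Groth.Agent.Helper4.BddFib2

set_option autoImplicit false
universe u
open CategoryTheory CategoryTheory.Limits AlgebraicGeometry TopologicalSpace Opposite

namespace Groth.Agent.Helper4.BddFib3

open Groth.Agent.Helper5 Groth.Agent.Helper4.BddFib1

/-- pure algebra: sum of the dimensions of the residue fields at finitely many distinct maximal
ideals is at most the dimension. -/
theorem sum_finrank_quot_le (k A : Type u) [Field k] [CommRing A] [Algebra k A] [Module.Finite k A]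
    {ι : Type u} [Fintype ι] (I : ι → Ideal A) (hmax : ∀ i, (I i).IsMaximal)
    (hne : ∀ i j, i ≠ j → I i ≠ I j) :
    ∑ i, Module.finrank k (A ⧸ I i) ≤ Module.finrank k A := by
  have hI : Pairwise (Function.onFun IsCoprime I) := by
    intro i j hij
    exact Ideal.isCoprime_iff_sup_eq.mpr (Ideal.IsMaximal.coprime_of_ne (hmax i) (hmax j) (hne i j hij))
  have hs := Ideal.pi_mkQ_surjective hI
  let F : A →ₗ[k] (∀ i, A ⧸ I i) := (LinearMap.pi fun i ↦ (I i).mkQ).restrictScalars k
  have hF : Function.Surjective F := hs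
  have := LinearMap.finrank_le_finrank_of_surjective hF
  rwa [Module.finrank_pi_fintype] at this

/-- evaluation at a point of Spec of an artinian ring is surjective -/
theorem Γevaluation_surjective_Spec (A : CommRingCat.{u}) [IsArtinianRing A] (y : ↥(Spec A)) :
    Function.Surjective ((Spec A).Γevaluation y).hom := by
  have h := Scheme.Spec.algebraMap_residueFieldIso_inv A y
  have h2 : (Spec A).Γevaluation y = (Scheme.ΓSpecIso A).hom ≫
      CommRingCat.ofHom (algebraMap A y.asIdeal.ResidueField) ≫ (Scheme.Spec.residueFieldIso A y).inv := by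
    rw [h]; simp [Scheme.Γevaluation, Scheme.evaluation]
  rw [h2]
  haveI : y.asIdeal.IsMaximal := IsArtinianRing.isMaximal_of_isPrime _
  have s1 : Function.Surjective (Scheme.ΓSpecIso A).hom.hom :=
    (ConcreteCategory.bijective_of_isIso (Scheme.ΓSpecIso A).hom).2
  have s2 : Function.Surjective (CommRingCat.ofHom (algebraMap A y.asIdeal.ResidueField)).hom :=
    Ideal.algebraMap_residueField_surjective _
  have s3 : Function.Surjective (Scheme.Spec.residueFieldIso A y).inv.hom :=
    (ConcreteCategory.bijective_of_isIso (Scheme.Spec.residueFieldIso A y).inv).2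
  intro c
  obtain ⟨b, rfl⟩ := s3 c
  obtain ⟨a, rfl⟩ := s2 b
  obtain ⟨a', rfl⟩ := s1 a
  exact ⟨a', rfl⟩

/-- evaluation at a point of an affine scheme with artinian ring of global sections is surjective -/
theorem Γevaluation_surjective (T : Scheme.{u}) [IsAffine T] [IsArtinianRing Γ(T, ⊤)] (x : T) :
    Function.Surjective (T.Γevaluation x).hom := by
  have h := Scheme.Γevaluation_naturality T.isoSpec.hom x
  haveI : IsIso (T.isoSpec.hom.appTop) := inferInstanceAs (IsIso (T.isoSpec.hom.app ⊤))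
  have h2 : T.Γevaluation x = inv (T.isoSpec.hom.appTop) ≫
      (Spec Γ(T, ⊤)).Γevaluation (T.isoSpec.hom x) ≫ T.isoSpec.hom.residueFieldMap x := by
    rw [h]; simp
  rw [h2]
  have s1 : Function.Surjective (inv (T.isoSpec.hom.appTop)).hom :=
    (ConcreteCategory.bijective_of_isIso (inv (T.isoSpec.hom.appTop))).2
  have s2 := Γevaluation_surjective_Spec Γ(T, ⊤) (T.isoSpec.hom x)
  have s3 : Function.Surjective (T.isoSpec.hom.residueFieldMap x).hom :=
    (ConcreteCategory.bijective_of_isIso (T.isoSpec.hom.residueFieldMap x)).2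
  intro c
  obtain ⟨b, rfl⟩ := s3 c
  obtain ⟨a, rfl⟩ := s2 b
  obtain ⟨a', rfl⟩ := s1 a
  exact ⟨a', rfl⟩

theorem ker_Γevaluation_ne (T : Scheme.{u}) [IsAffine T] (x y : T) (hxy : x ≠ y) :
    RingHom.ker (T.Γevaluation x).hom ≠ RingHom.ker (T.Γevaluation y).hom := by
  intro heq
  apply hxy
  have key : ∀ a : Γ(T, ⊤), x ∈ T.basicOpen a ↔ y ∈ T.basicOpen a := by
    intro a
    have h1 := T.evaluation_eq_zero_iff_notMem_basicOpen x (U := ⊤) trivial a
    have h2 := T.evaluation_eq_zero_iff_notMem_basicOpen y (U := ⊤) trivial a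
    have : a ∈ RingHom.ker (T.Γevaluation x).hom ↔ a ∈ RingHom.ker (T.Γevaluation y).hom := by
      rw [heq]
    rw [RingHom.mem_ker, RingHom.mem_ker] at this
    have h1' : (T.Γevaluation x).hom a = 0 ↔ x ∉ T.basicOpen a := h1
    have h2' : (T.Γevaluation y).hom a = 0 ↔ y ∉ T.basicOpen a := h2
    rw [h1', h2'] at this
    exact not_iff_not.mp this
  have hins : Inseparable x y := by
    rw [inseparable_iff_forall_isOpen]
    intro s hs
    have hb := isBasis_basicOpen T
    constructor
    · intro hx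
      obtain ⟨U', ⟨a, rfl⟩, hxU, hU⟩ := Opens.isBasis_iff_nbhd.mp hb (U := ⟨s, hs⟩) hx
      exact hU ((key a).mp hxU)
    · intro hy
      obtain ⟨U', ⟨a, rfl⟩, hyU, hU⟩ := Opens.isBasis_iff_nbhd.mp hb (U := ⟨s, hs⟩) hy
      exact hU ((key a).mpr hyU)
  exact hins.eq

theorem finrank_quot_eq_residueDegree (k : Type u) [Field k] {T : Scheme.{u}} [IsAffine T]
    (p : T ⟶ Spec (CommRingCat.of k)) (x : T) [IsArtinianRing Γ(T, ⊤)] :
    letI : Algebra k Γ(T, ⊤) := BddFib.secAlgebra (CommRingCat.of k) p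
    Module.finrank k (Γ(T, ⊤) ⧸ RingHom.ker (T.Γevaluation x).hom) = p.residueDegree x := by
  letI : Algebra k Γ(T, ⊤) := BddFib.secAlgebra (CommRingCat.of k) p
  show Module.finrank k (Γ(T, ⊤) ⧸ RingHom.ker (T.Γevaluation x).hom) = p.residueDegree x
  unfold Scheme.Hom.residueDegree
  letI := (p.residueFieldMap x).hom.toAlgebra
  let e : k →+* (Spec (CommRingCat.of k)).residueField (p x) :=
    ((Scheme.ΓSpecIso (CommRingCat.of k)).inv ≫ (Spec (CommRingCat.of k)).Γevaluation (p x)).hom
  have he : Function.Bijective e := by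
    refine ⟨RingHom.injective e, ?_⟩
    have s1 : Function.Surjective (Scheme.ΓSpecIso (CommRingCat.of k)).inv.hom :=
      (ConcreteCategory.bijective_of_isIso (Scheme.ΓSpecIso (CommRingCat.of k)).inv).2
    haveI : IsArtinianRing (CommRingCat.of k) := inferInstanceAs (IsArtinianRing k)
    have s2 := Γevaluation_surjective_Spec (CommRingCat.of k) (p x)
    intro c
    obtain ⟨b, rfl⟩ := s2 c
    obtain ⟨a, rfl⟩ := s1 b
    exact ⟨a, rfl⟩
  let i : k ≃+* (Spec (CommRingCat.of k)).residueField (p x) := RingEquiv.ofBijective e he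
  let j : (Γ(T, ⊤) ⧸ RingHom.ker (T.Γevaluation x).hom) ≃+* T.residueField x :=
    RingHom.quotientKerEquivOfSurjective (Γevaluation_surjective T x)
  refine Algebra.finrank_eq_of_equiv_equiv i j ?_
  ext c
  have hn := Scheme.Γevaluation_naturality_apply p x ((Scheme.ΓSpecIso (CommRingCat.of k)).inv c)
  exact hn

theorem count (k : Type u) [Field k] {T : Scheme.{u}} (p : T ⟶ Spec (CommRingCat.of k)) (n : ℕ)
    (h : BddFib.FiniteOfDegLE (CommRingCat.of k) p n) :
    Finite T ∧ (∑ᶠ x : T, p.residueDegree x ≤ n) ∧ Nat.card T ≤ n := by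
  letI alg : Algebra k Γ(T, ⊤) := BddFib.secAlgebra (CommRingCat.of k) p
  obtain ⟨hA, hfin, hrk⟩ := h
  haveI : Module.Finite k Γ(T, ⊤) := hfin
  haveI hart : IsArtinianRing Γ(T, ⊤) := IsArtinianRing.of_finite k _
  haveI : Finite (PrimeSpectrum Γ(T, ⊤)) := inferInstance
  haveI hfinT : Finite T :=
    Finite.of_injective (T.isoSpec.hom : T → Spec Γ(T, ⊤)) (T.isoSpec.hom.homeomorph.injective)
  haveI := Fintype.ofFinite T
  let I : T → Ideal Γ(T, ⊤) := fun x => RingHom.ker (T.Γevaluation x).hom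
  have hmax : ∀ x, (I x).IsMaximal := fun x =>
    RingHom.ker_isMaximal_of_surjective _ (Γevaluation_surjective T x)
  have hne : ∀ x y, x ≠ y → I x ≠ I y := fun x y hxy => ker_Γevaluation_ne T x y hxy
  have hsum := sum_finrank_quot_le k Γ(T, ⊤) I hmax hne
  have hdeg : ∀ x, Module.finrank k (Γ(T, ⊤) ⧸ I x) = p.residueDegree x := fun x =>
    finrank_quot_eq_residueDegree k p x
  refine ⟨hfinT, ?_, ?_⟩
  · rw [finsum_eq_sum_of_fintype]
    calc ∑ x, p.residueDegree x = ∑ x, Module.finrank k (Γ(T, ⊤) ⧸ I x) := by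
          simp only [hdeg]
      _ ≤ Module.finrank k Γ(T, ⊤) := hsum
      _ ≤ n := hrk
  · rw [Nat.card_eq_fintype_card]
    calc Fintype.card T = ∑ _x : T, 1 := by simp
      _ ≤ ∑ x, Module.finrank k (Γ(T, ⊤) ⧸ I x) := by
          refine Finset.sum_le_sum fun x _ => ?_
          haveI := hmax x
          haveI : Nontrivial (Γ(T, ⊤) ⧸ I x) := Ideal.Quotient.nontrivial_iff.mpr (hmax x).ne_top
          exact Module.finrank_pos
      _ ≤ Module.finrank k Γ(T, ⊤) := hsum
      _ ≤ n := hrk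

theorem s7446 {X Y : Scheme.{u}} (f : X ⟶ Y) (n : ℕ) (hf : BddFib.FibreDegLE f n)
    (k : Type u) [Field k] (g : Spec (CommRingCat.of k) ⟶ Y) :
    Finite ↥(Limits.pullback f g) ∧
      ∑ᶠ x : ↥(Limits.pullback f g), (Limits.pullback.snd f g).residueDegree x ≤ n := by
  have h := (BddFib2.s7433 f n).mp hf k g
  obtain ⟨h1, h2, _⟩ := count k (pullback.snd f g) n h
  exact ⟨h1, h2⟩

theorem s7434 {X Y : Scheme.{u}} (f : X ⟶ Y) (n : ℕ) (hf : BddFib.FibreDegLE f n)
    (k : Type u) [Field k] (g : Spec (CommRingCat.of k) ⟶ Y) :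
    Finite ↥(Limits.pullback f g) ∧ Nat.card ↥(Limits.pullback f g) ≤ n := by
  have h := (BddFib2.s7433 f n).mp hf k g
  obtain ⟨h1, _, h3⟩ := count k (pullback.snd f g) n h
  exact ⟨h1, h3⟩

end Groth.Agent.Helper4.BddFib3
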