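import Mathlib
import Groth.Agent.Helper4.SN216
import Groth.Agent.Helper4.SN210
import Groth.Agent.S2390
import Groth.Agent.Helper5.FibStalk
import Groth.Agent.Helper8.TildeBC
import Groth.Agent.Helper1.Dev4
import Groth.Agent.Helper1.Dev6
import Groth.Agent.Lead.PerfLib5

set_option autoImplicit false
set_option linter.unusedSectionVars false
set_option linter.style.haveILetI false

/-!
# SN217: coherent regular modules on projective space over a field: the recursion stays coherent
and the direct images are free of finite rank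
-/

namespace Groth.Agent.Helper4.SN217

open CategoryTheory Limits AlgebraicGeometry TopologicalSpace Opposite

universe u

section field

variable (k : Type u) [Field k]

/-- every module is flat over the spectrum of a field -/
theorem isFlatOver_spec_field {X : Scheme.{u}} (f : X ⟶ Spec (CommRingCat.of k)) (M : X.Modules) :
    FlatMod.IsFlatOver f M := by
  intro x
  have hK : IsField (CommRingCat.of k) := Field.toIsField k
  have hbot := Groth.Agent.Helper5.FibStalk.maximalIdeal_stalk_spec_field (CommRingCat.of k) hK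
    (f.base x)
  have hfield : IsField ((Spec (CommRingCat.of k)).presheaf.stalk (f.base x)) :=
    IsLocalRing.isField_iff_maximalIdeal_eq.2 hbot
  unfold FlatMod.IsFlatOverAt
  letI := hfield.toField
  letI := FlatMod.moduleStalkOver f M x
  infer_instance

end field

section top

variable {X : Scheme.{u}}

/-- a module free over the whole scheme (seen as the top open) is free -/
theorem nonempty_iso_freeMod_of_restrict_top (G : X.Modules) (r : ℕ)
    (e : G.restrict (⊤ : X.Opens).ι ≅ FlatMod.freeMod (↑(⊤ : X.Opens)) r) :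
    Nonempty (G ≅ FlatMod.freeMod X r) := by
  let j : (↑(⊤ : X.Opens) : Scheme.{u}) ⟶ X := (⊤ : X.Opens).ι
  let ji : X ⟶ (↑(⊤ : X.Opens) : Scheme.{u}) := X.topIso.inv
  have hj : ji ≫ j = 𝟙 X := X.toIso_inv_ι
  exact ⟨((Scheme.Modules.pullbackId X).app G).symm ≪≫
    ((Scheme.Modules.pullbackCongr hj).app G).symm ≪≫
    ((Scheme.Modules.pullbackComp ji j).app G).symm ≪≫
    (Scheme.Modules.pullback ji).mapIso
      (((Scheme.Modules.restrictFunctorIsoPullback j).app G).symm ≪≫ e) ≪≫
    Groth.Agent.Helper8.TildeBC.pullbackFreeIso ji r⟩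

end top

section main

variable (n : ℕ)

/-- twisting preserves coherence -/
theorem isCoh_twF (Y : Scheme.{u}) (F : (KRR.PY n Y).Modules) (hF : Coh.IsCoh F) (d : ℤ) :
    Coh.IsCoh (KRR.twF n Y d F) := by
  have hB := Groth.Agent.Helper1.SerreFin.isCoh_of_isInvertible _
    (Groth.Agent.Helper1.FlatTw.isInvertible_twistOver n Y d)
  haveI : F.IsQuasicoherent := hF.1
  haveI : (Twist.twistOver n Y d).IsQuasicoherent := hB.1
  exact ⟨Groth.Agent.Lead.QcohTensor.isQuasicoherent_tensorMod (Twist.twistOver n Y d) F,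
    Groth.Agent.Lead.QcohTensor.isFT_tensorMod (Twist.twistOver n Y d) F hB.2 hF.2⟩

variable (k : Type u) [Field k]

local notation "Yk" => Spec (CommRingCat.of k)

/-- the direct image of a regular coherent module on `P^n_k` is free of finite rank -/
theorem nonempty_push_iso_freeMod (W : (KRR.PY n Yk).Modules) (hW : Coh.IsCoh W)
    (hreg : KRR.IsRegSheaf n Yk W) :
    ∃ r : ℕ, Nonempty ((Scheme.Modules.pushforward (KRR.pr n Yk)).obj W ≅ FlatMod.freeMod Yk r) := by
  haveI := Groth.Agent.Helper4.SchAdj.isGrothendieckAbelian_modules (KRR.PY n Yk)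
  haveI : HasInjectiveResolutions (KRR.PY n Yk).Modules := inferInstance
  haveI : IsProper (KRR.pr n Yk) := Groth.Agent.Helper6.HProj.isProper_toBase n Yk
  haveI : IsLocallyNoetherian Yk := inferInstance
  have hfl := isFlatOver_spec_field k (KRR.pr n Yk) W
  have hR : ∀ i : ℕ, 0 < i → IsZero ((Coh.Rpush (KRR.pr n Yk) i).obj W) := fun i hi =>
    Groth.Agent.Helper4.SN210.isZero_Rpush_of_isZero_RpushAb (KRR.pr n Yk) W i
      (Groth.Agent.Helper4.SN209.isZero_RpushAb_of_isRegSheaf n W hW.1 hreg i hi)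
  obtain ⟨-, h2⟩ := Groth.Agent.S2390.result (KRR.pr n Yk) W hW hfl hR
  have hsub : Subsingleton Yk := inferInstanceAs (Subsingleton (PrimeSpectrum k))
  let y : Yk := (⟨⊥, Ideal.isPrime_bot⟩ : PrimeSpectrum k)
  obtain ⟨U, hyU, ⟨e⟩⟩ := h2 y
  have hU : U = ⊤ := by
    ext z
    have hz : z = y := Subsingleton.elim _ _
    simp only [hz, SetLike.mem_coe, hyU, Opens.coe_top, Set.mem_univ]
  subst hU
  exact ⟨_, nonempty_iso_freeMod_of_restrict_top _ _ e⟩

/-- the next module in the recursion is coherent -/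
theorem isCoh_nextW (W : (KRR.PY n Yk).Modules) (hW : Coh.IsCoh W)
    (hreg : KRR.IsRegSheaf n Yk W) : Coh.IsCoh (Groth.Agent.Helper4.SN216.nextW n Yk W) := by
  obtain ⟨r, ⟨e⟩⟩ := nonempty_push_iso_freeMod n k W hW hreg
  have h1 : Coh.IsCoh ((Scheme.Modules.pullback (KRR.pr n Yk)).obj
      ((Scheme.Modules.pushforward (KRR.pr n Yk)).obj W)) :=
    Groth.Agent.Lead.PerfLib.isCoh_of_iso
      ((Scheme.Modules.pullback (KRR.pr n Yk)).mapIso e ≪≫
        Groth.Agent.Helper8.TildeBC.pullbackFreeIso (KRR.pr n Yk) r).symm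
      (Groth.Agent.Helper1.Dev.isCoh_freeMod _ r)
  haveI : IsProper (KRR.pr n Yk) := Groth.Agent.Helper6.HProj.isProper_toBase n Yk
  haveI : IsLocallyNoetherian (KRR.PY n Yk) :=
    LocallyOfFiniteType.isLocallyNoetherian (KRR.pr n Yk)
  have h2 := Groth.Agent.Lead.PerfLib.isCoh_kernel h1 hW (Groth.Agent.Helper4.SN216.εW n Yk W)
  exact isCoh_twF n Yk _ h2 1

/-- all the modules of the recursion are coherent -/
theorem isCoh_seq (x : Groth.Agent.Helper4.SN216.RQ n Yk) (hx : Coh.IsCoh x.W) :
    ∀ i : ℕ, Coh.IsCoh (Groth.Agent.Helper4.SN216.seq n Yk x i).W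
  | 0 => hx
  | i + 1 => isCoh_nextW n k _ (isCoh_seq x hx i) (Groth.Agent.Helper4.SN216.seq n Yk x i).reg

/-- the terms of Quillen's resolution over a field are finite sums of twisting sheaves -/
theorem nonempty_Lk_iso (x : Groth.Agent.Helper4.SN216.RQ n Yk) (hx : Coh.IsCoh x.W) (i : ℕ) :
    ∃ r : ℕ, Nonempty (Groth.Agent.Helper4.SN216.Lk n Yk x i ≅
      ∐ fun _ : Fin r => Twist.twistOver n Yk (-(i : ℤ))) := by
  obtain ⟨r, ⟨e⟩⟩ := nonempty_push_iso_freeMod n k _ (isCoh_seq n k x hx i)
    (Groth.Agent.Helper4.SN216.seq n Yk x i).reg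
  refine ⟨r, ⟨?_⟩⟩
  exact (Groth.Agent.Helper4.SN216.Fk n Yk i).mapIso
      ((Scheme.Modules.pullback (KRR.pr n Yk)).mapIso e ≪≫
        Groth.Agent.Helper8.TildeBC.pullbackFreeIso (KRR.pr n Yk) r) ≪≫
    PreservesCoproduct.iso (Groth.Agent.Helper4.SN216.Fk n Yk i)
      (fun _ : Fin r => Coh.structureModule (KRR.PY n Yk)) ≪≫
    Sigma.mapIso (fun _ => SecTwist.unitorR (Twist.twistOver n Yk (-(i : ℤ))))

end main

end Groth.Agent.Helper4.SN217
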