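import Groth.Agent.Helper4.GV1

/-!
# Grothendieck vanishing, part 2: supports, extension by zero, quotients
-/

set_option autoImplicit false

namespace Groth.Agent.Helper4.GV

open CategoryTheory Limits TopologicalSpace Opposite

universe u
variable {X : TopCat.{u}}

/-- `F` is supported in `Y`: sections over opens missing `Y` vanish. -/
def SuppIn (F : CohTop.Ab X) (Y : Set X) : Prop :=
  ∀ (W : Opens X), Disjoint (W : Set X) Y → ∀ s : F.obj.obj (op W), s = 0

lemma SuppIn.mono {F : CohTop.Ab X} {Y Y' : Set X} (h : SuppIn F Y) (hY : Y ⊆ Y') :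
    SuppIn F Y' := fun W hW s => h W (hW.mono_right hY) s

lemma suppIn_of_injective {F G : CohTop.Ab X} (φ : F ⟶ G) {Y : Set X}
    (hφ : ∀ W : Opens X, Function.Injective (φ.hom.app (op W)).hom) (hG : SuppIn G Y) :
    SuppIn F Y := fun W hW s => hφ W (by rw [map_zero]; exact hG W hW _)

lemma LocPred.suppIn {F : CohTop.Ab X} (P : LocPred F) {Y : Set X} (hF : SuppIn F Y) :
    SuppIn P.sheaf Y :=
  suppIn_of_injective P.ι (fun _ => Subtype.val_injective) hF

lemma isZero_of_forall_eq_zero (F : CohTop.Ab X)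
    (h : ∀ (W : Opens X) (s : F.obj.obj (op W)), s = 0) : IsZero F := by
  rw [IsZero.iff_id_eq_zero]
  apply Sheaf.hom_ext
  ext A s
  rw [h A.unop s]
  simp

lemma isZero_of_suppIn_empty (F : CohTop.Ab X) (h : SuppIn F ∅) : IsZero F :=
  isZero_of_forall_eq_zero F (fun W s => h W (Set.disjoint_empty _) s)

lemma comp_hom_apply {A B C : CohTop.Ab X} (f : A ⟶ B) (g : B ⟶ C) (W : Opens X)
    (a : A.obj.obj (op W)) :
    ((f ≫ g).hom.app (op W)).hom a = (g.hom.app (op W)).hom ((f.hom.app (op W)).hom a) := rfl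

lemma zero_hom_apply {A B : CohTop.Ab X} (W : Opens X) (a : A.obj.obj (op W)) :
    ((0 : A ⟶ B).hom.app (op W)).hom a = 0 := rfl

lemma comp_eq_zero_apply {A B C : CohTop.Ab X} (f : A ⟶ B) (g : B ⟶ C) (h : f ≫ g = 0)
    (W : Opens X) (a : A.obj.obj (op W)) :
    (g.hom.app (op W)).hom ((f.hom.app (op W)).hom a) = 0 := by
  rw [← comp_hom_apply, h, zero_hom_apply]

/-- local lifting along an epimorphism -/
lemma exists_local_lift {A B : CohTop.Ab X} (π : A ⟶ B) [Epi π] {W : Opens X}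
    (t : B.obj.obj (op W)) (x : X) (hx : x ∈ W) :
    ∃ (N : Opens X) (hN : N ≤ W), x ∈ N ∧ ∃ a : A.obj.obj (op N),
      (π.hom.app (op N)).hom a = rs B hN t := by
  have h1 := (TopCat.Presheaf.isLocallySurjective_iff π.hom).mp
    ((TopCat.Sheaf.isLocallySurjective_iff_epi π).mpr ‹Epi π›)
  obtain ⟨N, hN, ⟨a, ha⟩, hxN⟩ := h1 W t x hx
  exact ⟨N, hN, hxN, a, ha⟩

/-- the support of a cokernel -/
lemma suppIn_cokernel {A B : CohTop.Ab X} (φ : A ⟶ B) (Z : Set X)
    (h : ∀ x, x ∉ Z → ∃ N : Opens X, x ∈ N ∧ ∀ (W' : Opens X), W' ≤ N →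
      Function.Surjective (φ.hom.app (op W')).hom) :
    SuppIn (cokernel φ) Z := by
  intro W hW t
  refine eq_zero_of_locally _ t (fun x hx => ?_)
  have hxZ : x ∉ Z := fun hxZ => Set.disjoint_left.mp hW hx hxZ
  obtain ⟨N, hxN, hN⟩ := h x hxZ
  obtain ⟨N', hN', hxN', b, hb⟩ := exists_local_lift (cokernel.π φ) t x hx
  refine ⟨N' ⊓ N, inf_le_left.trans hN', ⟨hxN', hxN⟩, ?_⟩
  obtain ⟨a, ha⟩ := hN (N' ⊓ N) inf_le_right (rs B (inf_le_left : N' ⊓ N ≤ N') b)
  rw [← rs_rs _ hN' (inf_le_left : N' ⊓ N ≤ N'), ← hb, ← hom_rs, ← ha]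
  exact comp_eq_zero_apply _ _ (cokernel.condition φ) _ a

/-! ### extension by zero -/

/-- sections of `F` vanishing near the points outside `V` -/
noncomputable def subUPred (F : CohTop.Ab X) (V : Opens X) : LocPred F where
  S W :=
    { carrier := {s | ∀ x ∈ W, x ∉ V → ∃ (N : Opens X) (hN : N ≤ W), x ∈ N ∧ rs F hN s = 0}
      zero_mem' := fun x hx _ => ⟨W, le_rfl, hx, map_zero _⟩
      add_mem' := by
        intro s s' hs hs' x hx hxV
        obtain ⟨N, hN, hxN, h0⟩ := hs x hx hxV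
        obtain ⟨N', hN', hxN', h0'⟩ := hs' x hx hxV
        refine ⟨N ⊓ N', inf_le_left.trans hN, ⟨hxN, hxN'⟩, ?_⟩
        rw [map_add, ← rs_rs F hN (inf_le_left : N ⊓ N' ≤ N), h0,
          ← rs_rs F hN' (inf_le_right : N ⊓ N' ≤ N'), h0', map_zero, map_zero, add_zero]
      neg_mem' := by
        intro s hs x hx hxV
        obtain ⟨N, hN, hxN, h0⟩ := hs x hx hxV
        exact ⟨N, hN, hxN, by rw [map_neg, h0, neg_zero]⟩ }
  res := by
    intro W W' h s hs x hx hxV
    obtain ⟨N, hN, hxN, h0⟩ := hs x (h hx) hxV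
    refine ⟨N ⊓ W', inf_le_right, ⟨hxN, hx⟩, ?_⟩
    rw [rs_rs, ← rs_rs F hN (inf_le_left : N ⊓ W' ≤ N), h0, map_zero]
  loc := by
    intro W s hs x hx hxV
    obtain ⟨V', hV', hxV', hm⟩ := hs x hx
    obtain ⟨N, hN, hxN, h0⟩ := hm x hxV' hxV
    exact ⟨N, hN.trans hV', hxN, by rw [← rs_rs F hV' hN, h0]⟩

/-- `j_! j^* F` as a subsheaf of `F` -/
noncomputable abbrev subU (F : CohTop.Ab X) (V : Opens X) : CohTop.Ab X := (subUPred F V).sheaf

lemma subUPred_eq_top (F : CohTop.Ab X) (V : Opens X) {W : Opens X} (hW : W ≤ V) :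
    (subUPred F V).S W = ⊤ := by
  rw [eq_top_iff]
  intro s _ x hx hxV
  exact (hxV (hW hx)).elim

/-- the support of `j_! j^* F` -/
lemma suppIn_subU {F : CohTop.Ab X} {Y : Set X} (hY : IsClosed Y) (hF : SuppIn F Y)
    (V : Opens X) (Z : Set X) (hZ : Y ∩ V ⊆ Z) : SuppIn (subU F V) Z := by
  intro W hW s
  apply Subtype.ext
  refine eq_zero_of_locally F s.1 (fun x hx => ?_)
  by_cases hxV : x ∈ V
  · have hxY : x ∉ Y := fun hxY => Set.disjoint_left.mp hW hx (hZ ⟨hxY, hxV⟩)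
    refine ⟨W ⊓ ⟨Yᶜ, hY.isOpen_compl⟩, inf_le_left, ⟨hx, hxY⟩, ?_⟩
    refine hF _ ?_ _
    rw [Set.disjoint_left]
    rintro y ⟨_, hy⟩ hyY
    exact hy hyY
  · exact s.2 x hx hxV

/-- the quotient `F / j_! j^* F` is supported outside `V` (and inside the support of `F`) -/
lemma suppIn_cokernel_subU {F : CohTop.Ab X} {Y : Set X} (hY : IsClosed Y) (hF : SuppIn F Y)
    (V : Opens X) : SuppIn (cokernel (subUPred F V).ι) (Y ∩ (V : Set X)ᶜ) := by
  apply suppIn_cokernel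
  intro x hx
  by_cases hxV : x ∈ V
  · refine ⟨V, hxV, fun W' hW' s => ?_⟩
    exact ⟨⟨s, by rw [subUPred_eq_top F V hW']; trivial⟩, rfl⟩
  · have hxY : x ∉ Y := fun hxY => hx ⟨hxY, hxV⟩
    refine ⟨⟨Yᶜ, hY.isOpen_compl⟩, hxY, fun W' hW' s => ⟨0, ?_⟩⟩
    rw [map_zero]
    refine (hF W' ?_ s).symm
    rw [Set.disjoint_left]
    intro y hy hyY
    exact hW' hy hyY

/-- the short complex `0 → j_! j^* F → F → F / j_! j^* F → 0` -/
noncomputable def subUSC (F : CohTop.Ab X) (V : Opens X) : ShortComplex (CohTop.Ab X) :=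
  ShortComplex.mk (subUPred F V).ι (cokernel.π (subUPred F V).ι) (cokernel.condition _)

lemma subUSC_shortExact (F : CohTop.Ab X) (V : Opens X) : (subUSC F V).ShortExact where
  exact := ShortComplex.exact_cokernel _
  mono_f := by dsimp [subUSC]; infer_instance
  epi_g := by dsimp [subUSC]; infer_instance

end Groth.Agent.Helper4.GV
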