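import Groth.Agent.Helper4.FiberAss2
import Mathlib

/-!
# Associated primes of `N / pN` and of the fibre module
-/

set_option autoImplicit false
universe u

namespace Groth.Agent.Helper4.FiberAss

open TensorProduct FlatCA

attribute [local instance] Algebra.TensorProduct.rightAlgebra

variable {R S : Type u} [CommRing R] [CommRing S] [Algebra R S] (N : Type u) [AddCommGroup N]
  [Module S N] [Module R N] [IsScalarTower R S N] (p : Ideal R) [p.IsPrime]

theorem algebraMap_notMem {q : Ideal S} (hq : q.comap (algebraMap R S) = p) {r : R} (hr : r ∉ p) :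
    algebraMap R S r ∉ q := by
  intro h
  apply hr
  rw [← hq]
  exact h

/-- annihilator of `τ x` when `q = ann x` lies over `p` -/
theorem ann_τ_of_liesOver (q : Ideal S) [q.IsPrime] (hq : q.comap (algebraMap R S) = p)
    (x : N ⧸ pN (S := S) N p) (hx : q = WeakAss.ann S x) : WeakAss.ann S (τ N p x) = q := by
  ext s
  rw [WeakAss.mem_ann, ← map_smul, τ_eq_zero_iff]
  constructor
  · rintro ⟨r, hr, h⟩
    rw [← mul_smul, ← WeakAss.mem_ann, ← hx] at h
    rcases Ideal.IsPrime.mem_or_mem ‹q.IsPrime› h with h | h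
    · exact absurd h (algebraMap_notMem p hq hr)
    · exact h
  · intro hs
    refine ⟨1, fun h => (Ideal.IsPrime.ne_top ‹p.IsPrime›) (p.eq_top_of_isUnit_mem h isUnit_one), ?_⟩
    rw [map_one, one_smul, ← WeakAss.mem_ann, ← hx]
    exact hs

/-- Part (2). -/
theorem mem_ass_fiberMod_of_mem_ass_quot (q : Ideal S) [q.IsPrime]
    (hq : q.comap (algebraMap R S) = p)
    (h : q ∈ FlatCA.ass S (N ⧸ pN (S := S) N p)) : q ∈ FlatCA.ass S (fiberMod p S N) := by
  obtain ⟨hqp, x, hx⟩ := h
  exact ⟨hqp, τ N p x, (ann_τ_of_liesOver N p q hq x hx).symm⟩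

theorem ann_smul_of_notMem {r : R} (hr : r ∉ p) (z : fiberMod p S N) :
    WeakAss.ann S ((algebraMap R S r) • z) = WeakAss.ann S z := by
  ext s
  rw [WeakAss.mem_ann, WeakAss.mem_ann, smul_comm]
  constructor
  · intro h
    exact eq_zero_of_smul_eq_zero N p hr _ h
  · intro h
    rw [h, smul_zero]

/-- Part (3). -/
theorem mem_ass_quot_of_mem_ass_fiberMod [IsNoetherianRing S] (q : Ideal S) [q.IsPrime]
    (hq : q.comap (algebraMap R S) = p)
    (h : q ∈ FlatCA.ass S (fiberMod p S N)) : q ∈ FlatCA.ass S (N ⧸ pN (S := S) N p) := by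
  classical
  obtain ⟨hqp, z, hz⟩ := h
  obtain ⟨r, hr, x, hx⟩ := exists_smul_eq_τ N p z
  have hann : WeakAss.ann S (τ N p x) = q := by
    rw [← hx, ann_smul_of_notMem N p hr]
    exact hz.symm
  -- choose generators of q
  obtain ⟨T, hT⟩ := (IsNoetherian.noetherian q : q.FG)
  have hT' : ∀ s ∈ T, ∃ r' : R, r' ∉ p ∧ (algebraMap R S r') • (s • x) = 0 := by
    intro s hs
    have hsq : s ∈ q := by rw [← hT]; exact Ideal.subset_span hs
    rw [← hann, WeakAss.mem_ann, ← map_smul, τ_eq_zero_iff] at hsq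
    obtain ⟨r', hr', h'⟩ := hsq
    exact ⟨r', hr', h'⟩
  choose! ρ hρ1 hρ2 using hT'
  let r' : R := ∏ s ∈ T, ρ s
  have hr' : r' ∉ p := by
    intro h
    obtain ⟨s, hs, hs'⟩ := (Ideal.IsPrime.prod_mem_iff (hp := ‹p.IsPrime›)).mp h
    exact hρ1 s hs hs'
  refine ⟨hqp, (algebraMap R S r') • x, ?_⟩
  apply le_antisymm
  · rw [← hT, Ideal.span_le]
    intro s hs
    rw [SetLike.mem_coe, WeakAss.mem_ann]
    have : r' = (∏ t ∈ T.erase s, ρ t) * ρ s := by
      rw [Finset.prod_erase_mul _ _ hs]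
    rw [this, map_mul, mul_smul, smul_comm s, smul_comm s, hρ2 s hs, smul_zero]
  · intro s hs
    rw [WeakAss.mem_ann, ← mul_smul] at hs
    have h1 : s * algebraMap R S r' ∈ WeakAss.ann S (τ N p x) := by
      rw [WeakAss.mem_ann, ← map_smul, hs, map_zero]
    rw [hann] at h1
    rcases Ideal.IsPrime.mem_or_mem ‹q.IsPrime› h1 with h | h
    · exact h
    · exact absurd h (algebraMap_notMem p hq hr')

section Flat

variable [Module.Flat R N]

/-- For flat `N`, elements outside `p` act injectively on `N / pN`. -/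
theorem smul_mem_pN_of_flat {r : R} (hr : r ∉ p) (x : N) (h : r • x ∈ (p • ⊤ : Submodule R N)) :
    x ∈ (p • ⊤ : Submodule R N) := by
  -- multiplication by r on R ⧸ p is injective
  let m : (R ⧸ p) →ₗ[R] (R ⧸ p) := LinearMap.lsmul R (R ⧸ p) r
  have hm : Function.Injective m := by
    intro a b hab
    have h1 : r • a = r • b := hab
    rw [Algebra.smul_def, Algebra.smul_def] at h1
    have h0 : algebraMap R (R ⧸ p) r ≠ 0 := by
      intro h0
      apply hr
      rw [← Ideal.Quotient.eq_zero_iff_mem]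
      exact h0
    exact mul_left_cancel₀ h0 h1
  have hinj := Module.Flat.rTensor_preserves_injective_linearMap (M := N) m hm
  have h1 : m.rTensor N ((1 : R ⧸ p) ⊗ₜ[R] x) = 0 := by
    rw [LinearMap.rTensor_tmul]
    show (r • (1 : R ⧸ p)) ⊗ₜ[R] x = 0
    rw [TensorProduct.smul_tmul]
    apply (TensorProduct.quotTensorEquivQuotSMul N p).injective
    rw [map_zero, ← map_one (Ideal.Quotient.mk p), TensorProduct.quotTensorEquivQuotSMul_mk_tmul,
      one_smul, Submodule.Quotient.mk_eq_zero]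
    exact h
  have h2 : (1 : R ⧸ p) ⊗ₜ[R] x = 0 := hinj (by rw [h1, map_zero])
  have h3 := congrArg (TensorProduct.quotTensorEquivQuotSMul N p) h2
  rw [map_zero, ← map_one (Ideal.Quotient.mk p), TensorProduct.quotTensorEquivQuotSMul_mk_tmul,
    one_smul, Submodule.Quotient.mk_eq_zero] at h3
  exact h3

omit [p.IsPrime] [Module.Flat R N] in
theorem mem_pN_iff (x : N) : x ∈ pN (S := S) N p ↔ x ∈ (p • ⊤ : Submodule R N) := by
  have h2 := Ideal.smul_restrictScalars (R := R) (S := S) p (⊤ : Submodule S N)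
  rw [Submodule.restrictScalars_top] at h2
  rw [← h2]
  rfl

theorem eq_zero_of_smul_eq_zero_quot {r : R} (hr : r ∉ p) (x : N ⧸ pN (S := S) N p)
    (h : (algebraMap R S r) • x = 0) : x = 0 := by
  obtain ⟨x, rfl⟩ := Submodule.Quotient.mk_surjective _ x
  rw [← Submodule.Quotient.mk_smul, Submodule.Quotient.mk_eq_zero, algebraMap_smul S r x,
    mem_pN_iff] at h
  rw [Submodule.Quotient.mk_eq_zero, mem_pN_iff]
  exact smul_mem_pN_of_flat N p hr x h

theorem τ_injective : Function.Injective (τ (S := S) N p) := by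
  rw [← LinearMap.ker_eq_bot, Submodule.eq_bot_iff]
  intro x hx
  rw [LinearMap.mem_ker, τ_eq_zero_iff] at hx
  obtain ⟨r, hr, h⟩ := hx
  exact eq_zero_of_smul_eq_zero_quot N p hr x h

theorem ann_τ_of_flat (x : N ⧸ pN (S := S) N p) : WeakAss.ann S (τ N p x) = WeakAss.ann S x := by
  ext s
  rw [WeakAss.mem_ann, WeakAss.mem_ann, ← map_smul]
  constructor
  · intro h
    exact τ_injective N p (by rw [h, map_zero])
  · intro h
    rw [h, map_zero]

/-- Part (4). -/
theorem ass_quot_eq_ass_fiberMod :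
    FlatCA.ass S (N ⧸ pN (S := S) N p) = FlatCA.ass S (fiberMod p S N) ∧
      ∀ q ∈ FlatCA.ass S (N ⧸ pN (S := S) N p), q.comap (algebraMap R S) = p := by
  constructor
  · ext q
    constructor
    · rintro ⟨hqp, x, hx⟩
      exact ⟨hqp, τ N p x, (hx.trans (ann_τ_of_flat N p x).symm)⟩
    · rintro ⟨hqp, z, hz⟩
      obtain ⟨r, hr, x, hx⟩ := exists_smul_eq_τ N p z
      refine ⟨hqp, x, ?_⟩
      have : WeakAss.ann S x = WeakAss.ann S z := by
        rw [← ann_τ_of_flat, ← hx, ann_smul_of_notMem N p hr]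
      rw [hz]
      exact this.symm
  · rintro q ⟨hqp, x, hx⟩
    have hx' : q = WeakAss.ann S x := hx
    ext a
    rw [Ideal.mem_comap]
    constructor
    · intro ha
      by_contra hap
      rw [hx', WeakAss.mem_ann] at ha
      have h0 := eq_zero_of_smul_eq_zero_quot N p hap x ha
      apply hqp.ne_top
      rw [hx', WeakAss.ann_eq_top_iff]
      exact h0
    · intro ha
      rw [hx', WeakAss.mem_ann]
      obtain ⟨x, rfl⟩ := Submodule.Quotient.mk_surjective _ x
      rw [← Submodule.Quotient.mk_smul, Submodule.Quotient.mk_eq_zero]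
      exact Submodule.smul_mem_smul (Ideal.mem_map_of_mem _ ha) Submodule.mem_top

end Flat

end Groth.Agent.Helper4.FiberAss
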