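import Mathlib
import Groth.Agent.Helper1.FieldSmooth7

/-!
# Separably generated field extensions and MacLane's criterion
-/

set_option autoImplicit false
universe u

namespace Groth.Agent.Helper4.SepGen

variable {k K : Type u} [Field k] [Field K] [Algebra k K]

/-- a separably generated extension is formally smooth -/
theorem formallySmooth_of_sepGen
    (h : ∃ (ι : Type u) (x : ι → K), IsTranscendenceBasis k x ∧
      Algebra.IsSeparable (IntermediateField.adjoin k (Set.range x)) K) :
    Algebra.FormallySmooth k K := by
  obtain ⟨ι, x, hx, hsep⟩ := h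
  let F := IntermediateField.adjoin k (Set.range x)
  haveI : Algebra.FormallySmooth k F :=
    Algebra.FormallySmooth.of_equiv hx.1.aevalEquivField
  haveI : Algebra.FormallyEtale F K := Algebra.FormallyEtale.of_isSeparable F K
  exact Algebra.FormallySmooth.comp k F K

/-- MacLane's criterion for a formally smooth field extension in characteristic `p` -/
theorem macLane_of_formallySmooth (p : ℕ) [Fact p.Prime] [CharP k p] [Algebra.FormallySmooth k K]
    (s : Finset K) (hs : LinearIndepOn k id (s : Set K)) :
    LinearIndepOn k (fun y : K => y ^ p) (s : Set K) := by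
  open Groth.Agent.Helper1.FieldSmooth Groth.Agent.Helper1.PBasis
    Groth.Agent.Helper1.PBasisField EGA41 in
  haveI : CharP K p := charP_of_injective_algebraMap (algebraMap k K).injective p
  letI : Algebra (PF.{u} p) k := (pfHom p k).toAlgebra
  letI : Algebra (PF.{u} p) K := ((algebraMap k K).comp (pfHom p k)).toAlgebra
  haveI : IsScalarTower (PF.{u} p) k K := IsScalarTower.of_algebraMap_eq fun _ => rfl
  obtain ⟨B, -, -, hB⟩ := exists_pBasis p (PF.{u} p) (K := k) Set.univ ∅ (Set.empty_subset _)
    (isPGenerating_univ p (PF.{u} p)) ((isPIndependent_val_iff p (PF.{u} p) ∅).mpr (pInd_empty p (PF.{u} p)))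
  have h1 := formallySmooth_iff_injective p (F := PF.{u} p) (k := k) (K := K) (pf_perfect p)
  have h2 := injective_iff_isPIndependent p (F := PF.{u} p) (k := k) (K := K) (Subtype.val : B → k) hB
  have h3 := h2.mp (h1.mp inferInstance)
  exact linearIndepOn_pow_of_isPIndependent p (pf_perfect p) (Subtype.val : B → k) hB.2 h3 s hs

/-- MacLane's criterion passes to subextensions -/
theorem macLane_sub (p : ℕ)
    (H : ∀ s : Finset K, LinearIndepOn k id (s : Set K) →
        LinearIndepOn k (fun y : K => y ^ p) (s : Set K))
    (K' : IntermediateField k K) (s : Finset K') (hs : LinearIndepOn k id (s : Set K')) :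
    LinearIndepOn k (· ^ p) (s : Set K') := by
  classical
  rw [linearIndepOn_finset_iff] at hs ⊢
  intro f hf
  let t : Finset K := s.image (Subtype.val : K' → K)
  have ht := H t
  rw [linearIndepOn_finset_iff, linearIndepOn_finset_iff] at ht
  let f' : K → k := fun y => if h : y ∈ K' then f ⟨y, h⟩ else 0
  have hf' : ∀ i : K', f' i = f i := fun i => by simp [f']
  have h1 : ∀ g : K → k, ∑ y ∈ t, g y • id y = 0 → ∀ y ∈ t, g y = 0 := by
    intro g hg
    rw [Finset.sum_image (fun a _ b _ h => Subtype.ext h)] at hg
    have hg' : ∑ i ∈ s, g (i : K) • id i = 0 := by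
      apply Subtype.val_injective
      simpa using hg
    have := hs (fun i => g i) hg'
    intro y hy
    obtain ⟨i, hi, rfl⟩ := Finset.mem_image.mp hy
    exact this i hi
  have h2 := ht h1 f' (by
    rw [Finset.sum_image (fun a _ b _ h => Subtype.ext h)]
    have : ((∑ i ∈ s, f i • i ^ p : K') : K) = 0 := by rw [hf]; rfl
    simpa [hf'] using this)
  intro i hi
  rw [← hf']
  exact h2 _ (Finset.mem_image_of_mem _ hi)

/-- a finitely generated formally smooth field extension has a finite separating transcendence basis -/
theorem exists_finset_sepBasis_of_formallySmooth [Algebra.EssFiniteType k K]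
    [Algebra.FormallySmooth k K] :
    ∃ s : Finset K, IsTranscendenceBasis k ((↑) : s → K) ∧
      Algebra.IsSeparable (IntermediateField.adjoin k (s : Set K)) K := by
  obtain ⟨p, hp⟩ := CharP.exists k
  rcases CharP.char_is_prime_or_zero k p with hpp | hp0
  · haveI : Fact p.Prime := ⟨hpp⟩
    haveI : ExpChar k p := ExpChar.prime hpp
    exact exists_isTranscendenceBasis_and_isSeparable_of_linearIndepOn_pow_of_essFiniteType
      (k := k) (K := K) p hpp (macLane_of_formallySmooth p)
  · subst hp0
    haveI : CharZero k := CharP.charP_to_charZero k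
    exact exists_isTranscendenceBasis_and_isSeparable_of_perfectField k K

end Groth.Agent.Helper4.SepGen
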