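import Groth.Agent.Helper4.FiberAss
import Mathlib

/-!
# The fibre module as a localization of `N / pN`
-/

set_option autoImplicit false
universe u

namespace Groth.Agent.Helper4.FiberAss

open TensorProduct FlatCA

attribute [local instance] Algebra.TensorProduct.rightAlgebra

variable {R S : Type u} [CommRing R] [CommRing S] [Algebra R S] (N : Type u) [AddCommGroup N]
  [Module S N] [Module R N] [IsScalarTower R S N] (p : Ideal R) [p.IsPrime]

/-- The `S`-linear swap `κ(p) ⊗ S → S ⊗ κ(p)`. -/
noncomputable def swapS : (p.Fiber S) →ₗ[S] S ⊗[R] p.ResidueField where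
  toFun := Algebra.TensorProduct.comm R p.ResidueField S
  map_add' := map_add _
  map_smul' s u := by
    rw [Algebra.smul_def, map_mul, RingHom.id_apply, Algebra.smul_def]
    congr 1

theorem swapS_one : swapS (S := S) p (1 : p.Fiber S) = 1 := by
  show Algebra.TensorProduct.comm R p.ResidueField S 1 = 1
  exact map_one _

/-- The comparison map from the fibre module to `κ(p) ⊗_R N`. -/
noncomputable def toResRaw (z : (p.Fiber S) ⊗[S] N) : p.ResidueField ⊗[R] N :=
  TensorProduct.comm R N p.ResidueField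
    (AlgebraTensorModule.cancelBaseChange R S S N p.ResidueField
      (LinearMap.lTensor N (swapS (S := S) p) (TensorProduct.comm S (p.Fiber S) N z)))

theorem toResRaw_zero : toResRaw N p (0 : (p.Fiber S) ⊗[S] N) = 0 := by
  unfold toResRaw
  rw [map_zero, map_zero, map_zero, map_zero]

theorem toResRaw_one_tmul (x : N) :
    toResRaw N p ((1 : p.Fiber S) ⊗ₜ[S] x) = 1 ⊗ₜ x := by
  unfold toResRaw
  rw [TensorProduct.comm_tmul, LinearMap.lTensor_tmul, swapS_one,
    Algebra.TensorProduct.one_def, AlgebraTensorModule.cancelBaseChange_tmul, one_smul,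
    TensorProduct.comm_tmul]

/-- The comparison map from the fibre module to `κ(p) ⊗_R N`. -/
noncomputable def toRes (z : fiberMod p S N) : p.ResidueField ⊗[R] N := toResRaw N p z

theorem toRes_zero : toRes N p (0 : fiberMod p S N) = 0 := toResRaw_zero N p

theorem toRes_toFiberMod (x : N) : toRes N p (toFiberMod p S N x) = 1 ⊗ₜ x :=
  toResRaw_one_tmul N p x

omit [CommRing S] [Algebra R S] [Module S N] [IsScalarTower R S N] in
theorem algebraMapSubmonoid_quot :
    Algebra.algebraMapSubmonoid (R ⧸ p) p.primeCompl = nonZeroDivisors (R ⧸ p) := by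
  have : (⊥ : Ideal (R ⧸ p)).LiesOver p :=
    ⟨by simp [Ideal.under, ← RingHom.ker_eq_comap_bot]⟩
  rw [← Ideal.primeCompl_bot]
  exact Ideal.algebraMapSubmonoid_primeCompl_of_liesOver_surjective (p := p) (P := ⊥)
    Ideal.Quotient.mk_surjective

omit [CommRing S] [Algebra R S] [Module S N] [IsScalarTower R S N] in
theorem exists_smul_mem_of_one_tmul_eq_zero (x : N)
    (h : (1 : p.ResidueField) ⊗ₜ[R] x = 0) :
    ∃ r ∉ p, r • x ∈ (p • ⊤ : Submodule R N) := by
  let g : (R ⧸ p) →ₗ[R] p.ResidueField :=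
    (IsScalarTower.toAlgHom R (R ⧸ p) p.ResidueField).toLinearMap
  have hg : IsLocalizedModule p.primeCompl g := by
    rw [isLocalizedModule_iff_isLocalization, algebraMapSubmonoid_quot]
    infer_instance
  have h2 : IsLocalizedModule p.primeCompl (AlgebraTensorModule.rTensor R N g) := inferInstance
  have h3 : AlgebraTensorModule.rTensor R N g ((1 : R ⧸ p) ⊗ₜ x) = 0 := by
    rw [AlgebraTensorModule.rTensor_tmul]
    simpa [g] using h
  obtain ⟨r, hr⟩ := (IsLocalizedModule.eq_zero_iff p.primeCompl _).mp h3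
  refine ⟨r, r.2, ?_⟩
  have h4 := congrArg (TensorProduct.quotTensorEquivQuotSMul N p) hr
  rw [map_zero, Submonoid.smul_def, map_smul, ← map_one (Ideal.Quotient.mk p),
    TensorProduct.quotTensorEquivQuotSMul_mk_tmul, one_smul, ← Submodule.Quotient.mk_smul,
    Submodule.Quotient.mk_eq_zero] at h4
  exact h4

/-- the submodule `pS · N` -/
abbrev pN : Submodule S N := (p.map (algebraMap R S)) • (⊤ : Submodule S N)

theorem incl_algebraMap_eq_zero {a : R} (ha : a ∈ p) : incl (S := S) p (algebraMap R S a) = 0 := by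
  show (1 : p.ResidueField) ⊗ₜ[R] (algebraMap R S a) = 0
  rw [Algebra.algebraMap_eq_smul_one, ← TensorProduct.smul_tmul, ← Algebra.algebraMap_eq_smul_one,
    Ideal.algebraMap_residueField_eq_zero.mpr ha, TensorProduct.zero_tmul]

theorem incl_eq_zero_of_mem {s : S} (hs : s ∈ p.map (algebraMap R S)) : incl (S := S) p s = 0 := by
  have : p.map (algebraMap R S) ≤ RingHom.ker (incl (S := S) p) := by
    rw [Ideal.map_le_iff_le_comap]
    intro a ha
    exact incl_algebraMap_eq_zero p ha
  exact this hs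

theorem toFiberMod_mem {x : N} (hx : x ∈ pN (S := S) N p) : toFiberMod p S N x = 0 := by
  refine Submodule.smul_induction_on hx ?_ ?_
  · intro a ha n _
    rw [map_smul, smul_eq N p, incl_eq_zero_of_mem p ha, zero_smul]
  · intro x y hx hy
    rw [map_add, hx, hy, add_zero]

/-- The induced map `N / pN → N ⊗ κ(p)`. -/
noncomputable def τ : (N ⧸ pN (S := S) N p) →ₗ[S] fiberMod p S N :=
  (pN (S := S) N p).liftQ (toFiberMod p S N) (fun _ hx => toFiberMod_mem N p hx)

theorem τ_mk (x : N) : τ N p (Submodule.Quotient.mk x) = toFiberMod p S N x := rfl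

theorem algebraMap_smul_raw (r : R) (u : p.Fiber S) : (algebraMap R S r) • u = r • u := by
  rw [Algebra.smul_def, Algebra.smul_def]
  congr 1
  show (1 : p.ResidueField) ⊗ₜ[R] (algebraMap R S r) = (algebraMap R p.ResidueField r) ⊗ₜ[R] 1
  rw [Algebra.algebraMap_eq_smul_one, ← TensorProduct.smul_tmul, ← Algebra.algebraMap_eq_smul_one]

theorem exists_smul_eq_toFiberMod_raw (z : (p.Fiber S) ⊗[S] N) :
    ∃ r ∉ p, ∃ x : N, (algebraMap R S r) • z = (1 : p.Fiber S) ⊗ₜ[S] x := by
  induction z using TensorProduct.induction_on with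
  | zero => exact ⟨1, fun h => (Ideal.IsPrime.ne_top ‹_›) (p.eq_top_of_isUnit_mem h isUnit_one), 0,
      by rw [smul_zero, TensorProduct.tmul_zero]⟩
  | tmul u n =>
    obtain ⟨r, hr, s, hrs⟩ := Ideal.Fiber.exists_smul_eq_one_tmul p u
    refine ⟨r, hr, s • n, ?_⟩
    rw [TensorProduct.smul_tmul', algebraMap_smul_raw, hrs, ← TensorProduct.smul_tmul]
    congr 1
    rw [Algebra.smul_def, mul_one]
    rfl
  | add a b ha hb =>
    obtain ⟨r, hr, x, hx⟩ := ha
    obtain ⟨r', hr', x', hx'⟩ := hb
    refine ⟨r * r', fun h => (Ideal.IsPrime.mem_or_mem ‹_› h).elim hr hr',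
      (algebraMap R S r') • x + (algebraMap R S r) • x', ?_⟩
    rw [smul_add, map_mul, mul_comm, mul_smul, hx, mul_comm, mul_smul, hx', TensorProduct.tmul_add,
      TensorProduct.tmul_smul, TensorProduct.tmul_smul]

theorem exists_smul_eq_τ (z : fiberMod p S N) :
    ∃ r ∉ p, ∃ x : N ⧸ pN (S := S) N p, (algebraMap R S r) • z = τ N p x := by
  obtain ⟨r, hr, x, hx⟩ := exists_smul_eq_toFiberMod_raw N p z
  exact ⟨r, hr, Submodule.Quotient.mk x, hx⟩

theorem eq_zero_of_smul_eq_zero {r : R} (hr : r ∉ p) (z : fiberMod p S N)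
    (h : (algebraMap R S r) • z = 0) : z = 0 := by
  rw [smul_eq] at h
  have hu : IsUnit (incl (S := S) p (algebraMap R S r)) := by
    have := isUnit_algebraMap_of_notMem (S := S) p hr
    have e : incl (S := S) p (algebraMap R S r) = algebraMap R (p.Fiber S) r := by
      show (1 : p.ResidueField) ⊗ₜ[R] (algebraMap R S r) = (algebraMap R p.ResidueField r) ⊗ₜ[R] 1
      rw [Algebra.algebraMap_eq_smul_one, ← TensorProduct.smul_tmul,
        ← Algebra.algebraMap_eq_smul_one]
    rw [e]; exact this
  obtain ⟨v, hv⟩ := hu.exists_left_inv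
  have := congrArg (fun t => v • t) h
  simp only [← mul_smul, hv, one_smul, smul_zero] at this
  exact this

theorem τ_eq_zero_iff (x : N ⧸ pN (S := S) N p) :
    τ N p x = 0 ↔ ∃ r ∉ p, (algebraMap R S r) • x = 0 := by
  constructor
  · intro h
    obtain ⟨x, rfl⟩ := Submodule.Quotient.mk_surjective _ x
    rw [τ_mk] at h
    have h1 := toRes_toFiberMod (S := S) N p x
    rw [h, toRes_zero (S := S)] at h1
    obtain ⟨r, hr, hrx⟩ := exists_smul_mem_of_one_tmul_eq_zero N p x h1.symm
    refine ⟨r, hr, ?_⟩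
    rw [← Submodule.Quotient.mk_smul, Submodule.Quotient.mk_eq_zero, algebraMap_smul S r x]
    have h2 := Ideal.smul_restrictScalars (R := R) (S := S) p (⊤ : Submodule S N)
    have h3 : r • x ∈ (p.map (algebraMap R S) • (⊤ : Submodule S N)).restrictScalars R := by
      rw [h2, Submodule.restrictScalars_top]; exact hrx
    exact h3
  · rintro ⟨r, hr, h⟩
    apply eq_zero_of_smul_eq_zero N p hr
    rw [← map_smul, h, map_zero]

end Groth.Agent.Helper4.FiberAss
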