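import Groth.Agent.Helper4.MLDescA
import Mathlib

/-!
# Comparison of `M ⊗_R X` with `(S ⊗_R M) ⊗_S X` and the product maps (helper4)
-/

set_option autoImplicit false
universe u
open scoped TensorProduct

namespace Groth.Agent.Helper4.MLDescB

variable {R : Type u} [CommRing R] {S : Type u} [CommRing S] [Algebra R S]
  (M : Type u) [AddCommGroup M] [Module R M]

/-- `M ⊗_R X ≃ (S ⊗_R M) ⊗_S X` for an `S`-module `X` -/
noncomputable def cX (X : Type u) [AddCommGroup X] [Module R X] [Module S X] [IsScalarTower R S X] :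
    M ⊗[R] X ≃ₗ[R] (S ⊗[R] M) ⊗[S] X :=
  ((TensorProduct.comm R M X).trans
    ((TensorProduct.AlgebraTensorModule.cancelBaseChange R S S X M).restrictScalars R).symm).trans
    ((TensorProduct.comm S X (S ⊗[R] M)).restrictScalars R)

theorem cX_tmul (X : Type u) [AddCommGroup X] [Module R X] [Module S X] [IsScalarTower R S X]
    (m : M) (x : X) : cX (S := S) M X (m ⊗ₜ[R] x) = ((1 : S) ⊗ₜ[R] m) ⊗ₜ[S] x := by
  unfold cX
  simp only [LinearEquiv.trans_apply, TensorProduct.comm_tmul, LinearEquiv.restrictScalars_symm_apply,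
    TensorProduct.AlgebraTensorModule.cancelBaseChange_symm_tmul, LinearEquiv.restrictScalars_apply]

/-- naturality with respect to the product maps -/
theorem piRightHom_cX {ι : Type u} (X : ι → Type u) [∀ i, AddCommGroup (X i)] [∀ i, Module R (X i)]
    [∀ i, Module S (X i)] [∀ i, IsScalarTower R S (X i)] (z : M ⊗[R] (∀ i, X i)) :
    TensorProduct.piRightHom S S (S ⊗[R] M) X (cX (S := S) M (∀ i, X i) z) =
      fun i => cX (S := S) M (X i) (TensorProduct.piRightHom R R M X z i) := by
  induction z using TensorProduct.induction_on with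
  | zero => simp; rfl
  | tmul m x =>
    rw [cX_tmul, TensorProduct.piRightHom_tmul, TensorProduct.piRightHom_tmul]
    funext i
    rw [cX_tmul]
  | add z z' hz hz' =>
    rw [map_add, map_add, hz, hz', map_add]
    funext i
    simp

end Groth.Agent.Helper4.MLDescB
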