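import Mathlib

set_option autoImplicit false
universe u

namespace Groth.Agent.Helper4.SpecConn

open PrimeSpectrum

theorem connectedSpace_iff {R : Type u} [CommRing R] :
    ConnectedSpace (PrimeSpectrum R) ↔
      Nontrivial R ∧ ∀ e : R, IsIdempotentElem e → e = 0 ∨ e = 1 := by
  constructor
  · intro h
    have hne : Nonempty (PrimeSpectrum R) := h.toNonempty
    have hnt : Nontrivial R := (PrimeSpectrum.nonempty_iff_nontrivial).mp hne
    refine ⟨hnt, fun e he => ?_⟩
    have hclopen : IsClopen (basicOpen e : Set (PrimeSpectrum R)) :=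
      PrimeSpectrum.isClopen_iff.mpr ⟨e, he, rfl⟩
    have hzero : ∀ e : R, IsIdempotentElem e → (basicOpen e : Set (PrimeSpectrum R)) = ∅ → e = 0 := by
      intro e he h0
      have : basicOpen e = ⊥ := TopologicalSpace.Opens.ext h0
      rw [basicOpen_eq_bot_iff] at this
      obtain ⟨n, hn⟩ := this
      rcases Nat.eq_zero_or_pos n with rfl | hpos
      · rw [pow_zero] at hn; exact (one_ne_zero hn).elim
      · rwa [he.pow_eq hpos.ne'] at hn
    rcases (preconnectedSpace_iff_clopen.mp h.toPreconnectedSpace) _ hclopen with h0 | h1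
    · left
      exact hzero e he h0
    · right
      have h2 : (basicOpen (1 - e) : Set (PrimeSpectrum R)) = ∅ := by
        rw [Set.eq_empty_iff_forall_notMem]
        intro q hq
        have hq1 : q ∈ (basicOpen e : Set (PrimeSpectrum R)) := by rw [h1]; trivial
        have h3 : (1 - e) * e ∈ q.asIdeal := by
          have : (1 - e) * e = 0 := by rw [sub_mul, one_mul, he.eq, sub_self]
          rw [this]; exact Ideal.zero_mem _
        rcases q.2.mem_or_mem h3 with h4 | h4
        · exact hq h4
        · exact hq1 h4
      have := hzero (1 - e) he.one_sub h2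
      exact (sub_eq_zero.mp this).symm
  · rintro ⟨hnt, h⟩
    have hne : Nonempty (PrimeSpectrum R) := (PrimeSpectrum.nonempty_iff_nontrivial).mpr hnt
    have hpre : PreconnectedSpace (PrimeSpectrum R) := by
      rw [preconnectedSpace_iff_clopen]
      intro s hs
      obtain ⟨e, he, rfl⟩ := PrimeSpectrum.isClopen_iff.mp hs
      rcases h e he with rfl | rfl
      · left; simp
      · right; simp
    exact { toPreconnectedSpace := hpre, toNonempty := hne }

theorem connectedSpace_of_injective {A B : Type u} [CommRing A] [CommRing B] (φ : A →+* B)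
    (hφ : Function.Injective φ) (hB : ConnectedSpace (PrimeSpectrum B)) :
    ConnectedSpace (PrimeSpectrum A) := by
  rw [connectedSpace_iff] at hB ⊢
  obtain ⟨hnt, h⟩ := hB
  refine ⟨φ.domain_nontrivial, fun e he => ?_⟩
  rcases h (φ e) (he.map φ) with h0 | h1
  · left; apply hφ; rw [h0, map_zero]
  · right; apply hφ; rw [h1, map_one]

theorem irreducibleSpace_of_injective {A B : Type u} [CommRing A] [CommRing B] (φ : A →+* B)
    (hφ : Function.Injective φ) (hB : IrreducibleSpace (PrimeSpectrum B)) :
    IrreducibleSpace (PrimeSpectrum A) := by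
  rw [irreducibleSpace_iff_isPrime_nilradical] at hB ⊢
  have : nilradical A = (nilradical B).comap φ := by
    ext a
    rw [Ideal.mem_comap, mem_nilradical, mem_nilradical]
    exact (IsNilpotent.map_iff hφ).symm
  rw [this]
  exact Ideal.comap_isPrime φ _

end Groth.Agent.Helper4.SpecConn
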