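import Mathlib

/-!
# Schemes of dimension zero
-/

universe u

namespace Groth.Agent.Helper4

open AlgebraicGeometry CategoryTheory TopologicalSpace

section Ring

variable {R : Type*} [CommRing R] [Ring.KrullDimLE 0 R]

/-- In a zero-dimensional ring, every element is `π`-regular. -/
theorem exists_pow_mul_one_sub_eq_zero (f : R) : ∃ (n : ℕ) (g : R), f ^ n * (1 - f * g) = 0 := by
  by_contra hcon
  push Not at hcon
  let S : Submonoid R :=
    { carrier := {x | ∃ (n : ℕ) (g : R), x = f ^ n * (1 - f * g)}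
      one_mem' := ⟨0, 0, by simp⟩
      mul_mem' := by
        rintro _ _ ⟨n, g, rfl⟩ ⟨m, h, rfl⟩
        exact ⟨n + m, g + h - f * g * h, by ring⟩ }
  have hdisj : Disjoint ((⊥ : Ideal R) : Set R) (S : Set R) := by
    rw [Set.disjoint_left]
    rintro x hx ⟨n, g, rfl⟩
    exact hcon n g ((Ideal.mem_bot).mp hx)
  obtain ⟨p, hp, -, hpS⟩ := Ideal.exists_le_prime_disjoint ⊥ S hdisj
  have hmax : p.IsMaximal := hp.isMaximal'
  have hf : f ∉ p := fun hfp => Set.disjoint_left.mp hpS hfp ⟨1, 0, by simp⟩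
  obtain ⟨g, i, hi, hgi⟩ := hmax.exists_inv hf
  have : 1 - f * g ∈ p := by
    have : 1 - f * g = i := by rw [← hgi]; ring
    rw [this]; exact hi
  exact Set.disjoint_left.mp hpS this ⟨0, g, by simp⟩

theorem isClopen_basicOpen (f : R) : IsClopen (PrimeSpectrum.basicOpen f : Set (PrimeSpectrum R)) := by
  refine ⟨?_, (PrimeSpectrum.basicOpen f).2⟩
  obtain ⟨n, g, hg⟩ := exists_pow_mul_one_sub_eq_zero f
  have : (PrimeSpectrum.basicOpen f : Set (PrimeSpectrum R)) = PrimeSpectrum.zeroLocus {1 - f * g} := by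
    ext p
    simp only [PrimeSpectrum.basicOpen_eq_zeroLocus_compl, Set.mem_compl_iff,
      PrimeSpectrum.mem_zeroLocus, Set.singleton_subset_iff, SetLike.mem_coe]
    constructor
    · intro hf
      have h0 : f ^ n * (1 - f * g) ∈ p.asIdeal := by rw [hg]; exact p.asIdeal.zero_mem
      rcases p.2.mem_or_mem h0 with h | h
      · exact absurd (p.2.mem_of_pow_mem n h) hf
      · exact h
    · intro h hf
      apply p.2.ne_top
      rw [Ideal.eq_top_iff_one]
      have : (1 : R) = (1 - f * g) + f * g := by ring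
      rw [this]
      exact p.asIdeal.add_mem h (p.asIdeal.mul_mem_right g hf)
  rw [this]
  exact PrimeSpectrum.isClosed_zeroLocus _

theorem isClosed_of_isCompact_of_isOpen {s : Set (PrimeSpectrum R)} (hc : IsCompact s)
    (ho : IsOpen s) : IsClosed s := by
  obtain ⟨t, rfl⟩ := PrimeSpectrum.isCompact_isOpen_iff.mp ⟨hc, ho⟩
  have : (PrimeSpectrum.zeroLocus (t : Set R))ᶜ =
      ⋃ f ∈ t, (PrimeSpectrum.basicOpen f : Set (PrimeSpectrum R)) := by
    ext p
    simp [PrimeSpectrum.mem_zeroLocus, Set.subset_def]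
  rw [this]
  exact t.finite_toSet.isClosed_biUnion fun f _ => (isClopen_basicOpen f).1

theorem t2Space_primeSpectrum : T2Space (PrimeSpectrum R) := by
  refine ⟨fun p q hpq => ?_⟩
  have hpm : p.asIdeal.IsMaximal := p.2.isMaximal'
  have hnle : ¬ p.asIdeal ≤ q.asIdeal := fun hle =>
    hpq (PrimeSpectrum.ext (hpm.eq_of_le q.2.ne_top hle))
  obtain ⟨f, hfp, hfq⟩ := SetLike.not_le_iff_exists.mp hnle
  refine ⟨(PrimeSpectrum.basicOpen f : Set (PrimeSpectrum R))ᶜ, PrimeSpectrum.basicOpen f,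
    (isClopen_basicOpen f).1.isOpen_compl, (PrimeSpectrum.basicOpen f).2, ?_, hfq, ?_⟩
  · simpa using hfp
  · exact disjoint_compl_left

end Ring

section Scheme

variable (X : Scheme.{u})

theorem krullDimLE_zero_of_isAffineOpen (h : topologicalKrullDim X ≤ 0) (U : X.Opens)
    (hU : IsAffineOpen U) : Ring.KrullDimLE 0 Γ(X, U) := by
  rw [Ring.KrullDimLE, Order.krullDimLE_iff, ← ringKrullDim,
    Nat.cast_zero, ← PrimeSpectrum.topologicalKrullDim_eq_ringKrullDim Γ(X, U)]
  change topologicalKrullDim (Spec Γ(X, U)) ≤ 0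
  rw [← IsHomeomorph.topologicalKrullDim_eq _ hU.isoSpec.hom.homeomorph.isHomeomorph]
  exact (topologicalKrullDim_subspace_le X U).trans h

/-- In a zero-dimensional scheme, the complement in an affine open `U` of a quasi-compact open
contained in `U` is a basic open of `U`. -/
theorem exists_basicOpen_eq_diff (h : topologicalKrullDim X ≤ 0) (U : X.Opens)
    (hU : IsAffineOpen U) (K : Set X) (hKo : IsOpen K) (hKc : IsCompact K) (hKU : K ⊆ U) :
    ∃ e : Γ(X, U), (X.basicOpen e : Set X) = (U : Set X) \ K := by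
  have := krullDimLE_zero_of_isAffineOpen X h U hU
  have hemb : Topology.IsOpenEmbedding hU.fromSpec.base := hU.fromSpec.isOpenEmbedding
  have hKrange : K ⊆ Set.range hU.fromSpec.base := by rw [hU.range_fromSpec]; exact hKU
  have hc : IsCompact (hU.fromSpec.base ⁻¹' K) :=
    (hemb.isInducing.isCompact_preimage_iff hKrange).mpr hKc
  have ho : IsOpen (hU.fromSpec.base ⁻¹' K) := hKo.preimage hU.fromSpec.continuous
  have hcl : IsClosed (hU.fromSpec.base ⁻¹' K) := isClosed_of_isCompact_of_isOpen hc ho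
  have hclopen : IsClopen (hU.fromSpec.base ⁻¹' K)ᶜ := ⟨ho.isClosed_compl, hcl.isOpen_compl⟩
  obtain ⟨e, -, he⟩ := PrimeSpectrum.exists_idempotent_basicOpen_eq_of_isClopen hclopen
  refine ⟨e, ?_⟩
  have h1 := congrArg (fun V : X.Opens => (V : Set X)) (hU.fromSpec_image_basicOpen e)
  have h2 : (X.basicOpen e : Set X) = hU.fromSpec.base '' (hU.fromSpec.base ⁻¹' K)ᶜ := by
    rw [he]; exact h1.symm
  rw [h2, Set.image_compl_preimage, hU.range_fromSpec]

theorem isOpen_diff_of_isCompact (h : topologicalKrullDim X ≤ 0) (U : X.Opens)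
    (hU : IsAffineOpen U) (K : Set X) (hKo : IsOpen K) (hKc : IsCompact K) (hKU : K ⊆ U) :
    IsOpen ((U : Set X) \ K) := by
  obtain ⟨e, he⟩ := exists_basicOpen_eq_diff X h U hU K hKo hKc hKU
  rw [← he]
  exact (X.basicOpen e).2

theorem t2Space_of_quasiSeparatedSpace [QuasiSeparatedSpace X] (h : topologicalKrullDim X ≤ 0) :
    T2Space X := by
  refine ⟨fun x y hxy => ?_⟩
  obtain ⟨_, ⟨U, hU : IsAffineOpen U, rfl⟩, hxU, -⟩ :=
    X.isBasis_affineOpens.exists_subset_of_mem_open (Set.mem_univ x) isOpen_univ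
  obtain ⟨_, ⟨V, hV : IsAffineOpen V, rfl⟩, hyV, -⟩ :=
    X.isBasis_affineOpens.exists_subset_of_mem_open (Set.mem_univ y) isOpen_univ
  by_cases hxV : x ∈ V
  · -- both points lie in the affine open `V`, which is Hausdorff
    have := krullDimLE_zero_of_isAffineOpen X h V hV
    have hT2 : T2Space (Spec Γ(X, V)) := t2Space_primeSpectrum
    have hemb : Topology.IsOpenEmbedding hV.fromSpec.base := hV.fromSpec.isOpenEmbedding
    have hx' : x ∈ Set.range hV.fromSpec.base := by rw [hV.range_fromSpec]; exact hxV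
    have hy' : y ∈ Set.range hV.fromSpec.base := by rw [hV.range_fromSpec]; exact hyV
    obtain ⟨p, rfl⟩ := hx'
    obtain ⟨q, rfl⟩ := hy'
    have hpq : p ≠ q := fun hpq => hxy (by rw [hpq])
    obtain ⟨A, B, hA, hB, hpA, hqB, hAB⟩ := t2_separation hpq
    exact ⟨hV.fromSpec.base '' A, hV.fromSpec.base '' B, hemb.isOpenMap _ hA, hemb.isOpenMap _ hB,
      ⟨p, hpA, rfl⟩, ⟨q, hqB, rfl⟩, (Set.disjoint_image_iff hemb.injective).mpr hAB⟩
  · have hKc : IsCompact ((U : Set X) ∩ V) :=
      QuasiSeparatedSpace.inter_isCompact _ _ U.2 hU.isCompact V.2 hV.isCompact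
    have hopen := isOpen_diff_of_isCompact X h U hU ((U : Set X) ∩ V) (U.2.inter V.2) hKc
      Set.inter_subset_left
    refine ⟨(U : Set X) \ ((U : Set X) ∩ V), V, hopen, V.2, ⟨hxU, fun hx => hxV hx.2⟩, hyV, ?_⟩
    rw [Set.disjoint_left]
    rintro z ⟨hzU, hz⟩ hzV
    exact hz ⟨hzU, hzV⟩

end Scheme

end Groth.Agent.Helper4
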