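import Mathlib

/-!
# Connectedness / irreducibility of prime spectra via idempotents / nilradical
-/

set_option autoImplicit false

namespace Groth.Agent.Helper4

open PrimeSpectrum

theorem eq_zero_of_isIdempotentElem_of_isNilpotent {A : Type*} [CommRing A] {e : A}
    (he : IsIdempotentElem e) (hn : IsNilpotent e) : e = 0 := by
  obtain ⟨n, hn⟩ := hn
  cases n with
  | zero =>
    have h1 : (1 : A) = 0 := by simpa using hn
    calc e = e * 1 := (mul_one e).symm
      _ = 0 := by rw [h1, mul_zero]
  | succ n => rwa [he.pow_succ_eq] at hn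

/-- In a connected spectrum, idempotents are trivial. -/
theorem eq_zero_or_eq_one_of_isIdempotentElem {A : Type*} [CommRing A]
    [PreconnectedSpace (PrimeSpectrum A)] {e : A} (he : IsIdempotentElem e) : e = 0 ∨ e = 1 := by
  have hmul : e * (1 - e) = 0 := by rw [mul_sub, mul_one, he.eq, sub_self]
  have hadd : e + (1 - e) = 1 := by ring
  have hclopen : IsClopen (basicOpen e : Set (PrimeSpectrum A)) :=
    isClopen_basicOpen_of_mul_add e (1 - e) hmul hadd
  rcases _root_.isClopen_iff.mp hclopen with h | h
  · left
    apply eq_zero_of_isIdempotentElem_of_isNilpotent he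
    rw [← basicOpen_eq_bot_iff]
    exact TopologicalSpace.Opens.ext h
  · right
    have hclopen' : IsClopen (basicOpen (1 - e) : Set (PrimeSpectrum A)) :=
      isClopen_basicOpen_of_mul_add (1 - e) e (by rw [mul_comm]; exact hmul)
        (by rw [add_comm]; exact hadd)
    have h' : (basicOpen (1 - e) : Set (PrimeSpectrum A)) = ∅ := by
      rw [Set.eq_empty_iff_forall_notMem]
      intro p hp
      have hpe : p ∈ (basicOpen e : Set (PrimeSpectrum A)) := by rw [h]; trivial
      have h1 : e ∉ p.asIdeal := hpe
      have h2 : (1 - e) ∉ p.asIdeal := hp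
      have : e * (1 - e) ∈ p.asIdeal := by rw [hmul]; exact zero_mem _
      rcases p.isPrime.mem_or_mem this with h3 | h3
      · exact h1 h3
      · exact h2 h3
    have : 1 - e = 0 := by
      apply eq_zero_of_isIdempotentElem_of_isNilpotent he.one_sub
      rw [← basicOpen_eq_bot_iff]
      exact TopologicalSpace.Opens.ext h'
    exact (sub_eq_zero.mp this).symm

theorem connectedSpace_primeSpectrum_iff {A : Type*} [CommRing A] :
    ConnectedSpace (PrimeSpectrum A) ↔
      Nontrivial A ∧ ∀ e : A, IsIdempotentElem e → e = 0 ∨ e = 1 := by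
  constructor
  · intro h
    refine ⟨?_, fun e he => eq_zero_or_eq_one_of_isIdempotentElem he⟩
    have : Nonempty (PrimeSpectrum A) := h.toNonempty
    exact (PrimeSpectrum.nonempty_iff_nontrivial).mp this
  · rintro ⟨hnt, h⟩
    have : PreconnectedSpace (PrimeSpectrum A) := by
      rw [preconnectedSpace_iff_clopen]
      intro s hs
      obtain ⟨e, he, rfl⟩ := exists_idempotent_basicOpen_eq_of_isClopen hs
      rcases h e he with rfl | rfl
      · left; simp
      · right; simp
    have : Nonempty (PrimeSpectrum A) := PrimeSpectrum.nonempty_iff_nontrivial.mpr hnt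
    exact ConnectedSpace.mk this

theorem connectedSpace_primeSpectrum_of_injective {A B : Type*} [CommRing A] [CommRing B]
    (φ : A →+* B) (hφ : Function.Injective φ) [ConnectedSpace (PrimeSpectrum B)] :
    ConnectedSpace (PrimeSpectrum A) := by
  obtain ⟨hnt, h⟩ := connectedSpace_primeSpectrum_iff.mp (inferInstance :
    ConnectedSpace (PrimeSpectrum B))
  rw [connectedSpace_primeSpectrum_iff]
  refine ⟨?_, fun e he => ?_⟩
  · exact φ.domain_nontrivial
  · rcases h (φ e) (he.map φ) with h0 | h1
    · left; exact hφ (by rw [h0, map_zero])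
    · right; exact hφ (by rw [h1, map_one])

theorem irreducibleSpace_primeSpectrum_of_injective {A B : Type*} [CommRing A] [CommRing B]
    (φ : A →+* B) (hφ : Function.Injective φ) [IrreducibleSpace (PrimeSpectrum B)] :
    IrreducibleSpace (PrimeSpectrum A) := by
  have hB : (nilradical B).IsPrime :=
    PrimeSpectrum.irreducibleSpace_iff_isPrime_nilradical.mp inferInstance
  rw [PrimeSpectrum.irreducibleSpace_iff_isPrime_nilradical]
  have : nilradical A = Ideal.comap φ (nilradical B) := by
    ext x
    rw [Ideal.mem_comap, mem_nilradical, mem_nilradical]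
    exact (IsNilpotent.map_iff hφ).symm
  rw [this]
  exact Ideal.comap_isPrime φ _

end Groth.Agent.Helper4

namespace Groth.Agent.Helper4

open PrimeSpectrum

/-- The set of idempotents lying in an ideal. -/
def idemSet {R : Type*} [CommRing R] (q : Ideal R) : Set R := {e | IsIdempotentElem e ∧ e ∈ q}

/-- Any element of the ideal generated by the idempotents of `q` is fixed by multiplication with
a single idempotent of `q`. -/
theorem exists_idem_mul_eq {R : Type*} [CommRing R] (q : Ideal R) (a : R)
    (ha : a ∈ Ideal.span (idemSet q)) : ∃ e', IsIdempotentElem e' ∧ e' ∈ q ∧ a * e' = a := by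
  induction ha using Submodule.span_induction with
  | mem x hx => exact ⟨x, hx.1, hx.2, hx.1⟩
  | zero => exact ⟨0, IsIdempotentElem.zero, zero_mem _, by simp⟩
  | add x y _ _ hx hy =>
    obtain ⟨e1, he1, he1q, h1⟩ := hx
    obtain ⟨e2, he2, he2q, h2⟩ := hy
    refine ⟨e1 + e2 - e1 * e2, ?_, ?_, ?_⟩
    · have h := (he1.one_sub.mul he2.one_sub).one_sub
      have heq : e1 + e2 - e1 * e2 = 1 - (1 - e1) * (1 - e2) := by ring
      rw [heq]; exact h
    · exact sub_mem (add_mem he1q he2q) (q.mul_mem_right _ he1q)
    · linear_combination (1 - e2) * h1 + (1 - e1) * h2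
  | smul r x _ hx =>
    obtain ⟨e1, he1, he1q, h1⟩ := hx
    exact ⟨e1, he1, he1q, by rw [smul_eq_mul, mul_assoc, h1]⟩

end Groth.Agent.Helper4

namespace Groth.Agent.Helper4

open PrimeSpectrum

/-- The quotient by the ideal generated by the idempotents of a prime `q` has connected spectrum. -/
theorem connectedSpace_quotient_span_idemSet {R : Type*} [CommRing R] (q : Ideal R) [hq : q.IsPrime] :
    ConnectedSpace (PrimeSpectrum (R ⧸ Ideal.span (idemSet q))) := by
  set I := Ideal.span (idemSet q) with hI
  have hIq : I ≤ q := Ideal.span_le.mpr fun e he => he.2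
  rw [connectedSpace_primeSpectrum_iff]
  constructor
  · exact Ideal.Quotient.nontrivial_iff.mpr (fun h => hq.ne_top (top_le_iff.mp (h ▸ hIq)))
  · intro ebar hebar
    obtain ⟨e, rfl⟩ := Ideal.Quotient.mk_surjective ebar
    have h1 : e * e - e ∈ I := by
      rw [← Ideal.Quotient.eq, map_mul]
      exact hebar
    obtain ⟨e', he', he'q, hmul⟩ := exists_idem_mul_eq q _ h1
    -- the idempotent `e'' = (1 - e') e`
    have he'e' : e' * e' = e' := he'
    have he'' : IsIdempotentElem ((1 - e') * e) := by
      have hf : (1 - e') * (1 - e') = 1 - e' := he'.one_sub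
      have hzf : (1 - e') * (e * e - e) = 0 := by linear_combination (-1 : R) * hmul
      change (1 - e') * e * ((1 - e') * e) = (1 - e') * e
      linear_combination (e * e) * hf + hzf
    have hmk : Ideal.Quotient.mk I e = Ideal.Quotient.mk I ((1 - e') * e) := by
      rw [Ideal.Quotient.eq]
      have : e - (1 - e') * e = e' * e := by ring
      rw [this]
      exact I.mul_mem_right _ (Ideal.subset_span ⟨he', he'q⟩)
    have hprod : (1 - e') * e * (1 - (1 - e') * e) ∈ q := by
      have : (1 - e') * e * (1 - (1 - e') * e) = 0 := by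
        rw [mul_sub, mul_one, he''.eq, sub_self]
      rw [this]; exact zero_mem _
    rcases hq.mem_or_mem hprod with h | h
    · left
      rw [hmk, Ideal.Quotient.eq_zero_iff_mem]
      exact Ideal.subset_span ⟨he'', h⟩
    · right
      rw [hmk, ← sub_eq_zero, ← map_one (Ideal.Quotient.mk I), ← map_sub,
        Ideal.Quotient.eq_zero_iff_mem]
      have : (1 - e') * e - 1 = -(1 - (1 - e') * e) := by ring
      rw [this]
      exact neg_mem (Ideal.subset_span ⟨he''.one_sub, h⟩)

theorem isConnected_zeroLocus_idemSet {R : Type*} [CommRing R] (p : PrimeSpectrum R) :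
    IsConnected (zeroLocus (idemSet p.asIdeal)) := by
  have := connectedSpace_quotient_span_idemSet p.asIdeal
  have h1 := isConnected_range
    (PrimeSpectrum.continuous_comap (Ideal.Quotient.mk (Ideal.span (idemSet p.asIdeal))))
  rw [range_comap_of_surjective _ _ Ideal.Quotient.mk_surjective, Ideal.mk_ker,
    zeroLocus_span] at h1
  exact h1

theorem isClopen_zeroLocus_singleton_of_isIdempotentElem {R : Type*} [CommRing R] {e : R}
    (he : IsIdempotentElem e) : IsClopen (zeroLocus ({e} : Set R)) := by
  have hmul : (1 - e) * e = 0 := by rw [sub_mul, one_mul, he.eq, sub_self]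
  have hadd : (1 - e) + e = 1 := by ring
  have := isClopen_basicOpen_of_mul_add (1 - e) e hmul hadd
  rwa [basicOpen_eq_zeroLocus_of_mul_add (1 - e) e hmul hadd] at this

/-- The connected component of a point `p` of `Spec R` is the zero locus of the idempotents
contained in `p`. -/
theorem connectedComponent_eq_zeroLocus_idemSet {R : Type*} [CommRing R] (p : PrimeSpectrum R) :
    connectedComponent p = zeroLocus (idemSet p.asIdeal) := by
  apply Set.Subset.antisymm
  · intro x hx
    rw [mem_zeroLocus]
    intro e he
    have hclopen := isClopen_zeroLocus_singleton_of_isIdempotentElem he.1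
    have hp : p ∈ zeroLocus ({e} : Set R) := by
      rw [mem_zeroLocus, Set.singleton_subset_iff]; exact he.2
    have := hclopen.connectedComponent_subset hp hx
    rw [mem_zeroLocus, Set.singleton_subset_iff] at this
    exact this
  · apply (isConnected_zeroLocus_idemSet p).subset_connectedComponent
    rw [mem_zeroLocus]
    exact fun e he => he.2

end Groth.Agent.Helper4
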