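import Groth.Prelude.Def_ProEtS
import Mathlib
set_option autoImplicit false
universe u
open CategoryTheory CategoryTheory.Limits AlgebraicGeometry Opposite

namespace Groth.Agent.Helper4.ProEtBC
variable {X Y : Scheme.{u}} (f : X ⟶ Y)

set_option backward.isDefEq.respectTransparency.types false in
noncomputable instance preservesFiniteLimits_bcP :
    PreservesFiniteLimits (ProEtS.bcP f) := by
  have h : PreservesFiniteLimits (ProEtS.bcP f ⋙ Scheme.ProEt.forget X) := by
    let e : ProEtS.bcP f ⋙ Scheme.ProEt.forget X ≅ Scheme.ProEt.forget Y ⋙ Over.pullback f :=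
      MorphismProperty.Over.pullbackCompForgetIso (P := @WeaklyEtale) (Q := ⊤) f
    exact preservesFiniteLimits_of_natIso e.symm
  exact preservesFiniteLimits_of_reflects_of_preserves (ProEtS.bcP f) (Scheme.ProEt.forget X)

set_option backward.isDefEq.respectTransparency.types false in
/-- For `g : V ⟶ U` in `Y.ProEt`, the square with corners `V ×_Y X, U ×_Y X, V, U` is cartesian. -/
theorem isPullback_bcP_map {U V : Y.ProEt} (g : V ⟶ U) :
    IsPullback ((ProEtS.bcP f).map g).left (pullback.fst V.hom f : ((ProEtS.bcP f).obj V).left ⟶ V.left)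
      (pullback.fst U.hom f : ((ProEtS.bcP f).obj U).left ⟶ U.left) g.left := by
  have e1 : ((ProEtS.bcP f).map g).left ≫ pullback.snd U.hom f = pullback.snd V.hom f := by
    dsimp [ProEtS.bcP]
    exact pullback.lift_snd _ _ _
  have e2 : g.left ≫ U.hom = V.hom := Over.w g.hom
  refine IsPullback.of_right (h₁₂ := pullback.snd U.hom f) (v₁₃ := f) (h₂₂ := U.hom) ?_ ?_
    (IsPullback.of_hasPullback U.hom f).flip
  · exact (congrArg₂ (fun a d => IsPullback a (pullback.fst V.hom f) f d) e1 e2).mpr
      (IsPullback.of_hasPullback V.hom f).flip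
  · dsimp [ProEtS.bcP]
    exact pullback.lift_fst _ _ _

set_option backward.isDefEq.respectTransparency.types false in
theorem le_comap : Scheme.ProEt.precoverage Y ≤ (Scheme.ProEt.precoverage X).comap (ProEtS.bcP f) := by
  intro U R hR
  obtain ⟨ι, V, g, rfl⟩ := R.exists_eq_ofArrows
  rw [Precoverage.mem_comap_iff, Scheme.ProEt.precoverage, Precoverage.mem_comap_iff,
    Presieve.map_ofArrows, Presieve.map_ofArrows]
  rw [Scheme.ProEt.precoverage, Precoverage.mem_comap_iff, Presieve.map_ofArrows] at hR
  exact Precoverage.mem_coverings_of_isPullback _ hR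
    (pullback.fst U.hom f : ((ProEtS.bcP f).obj U).left ⟶ U.left) _ _
    (fun i => isPullback_bcP_map f (g i))


set_option backward.isDefEq.respectTransparency.types false in
instance (S : Scheme.{u}) : (Scheme.ProEt.precoverage S).IsStableUnderBaseChange := by
  unfold Scheme.ProEt.precoverage
  infer_instance

set_option backward.isDefEq.respectTransparency.types false in
instance (S : Scheme.{u}) : (Scheme.ProEt.precoverage S).HasPullbacks := by
  infer_instance

set_option backward.isDefEq.respectTransparency.types false in
theorem pCont : ProEtS.PCont f := by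
  unfold ProEtS.PCont
  exact Functor.isContinuous_toGrothendieck_of_pullbacksPreservedBy _ (Scheme.ProEt.precoverage Y)
    (Scheme.ProEt.precoverage X) (le_comap f)

end Groth.Agent.Helper4.ProEtBC
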