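import Mathlib

set_option autoImplicit false

namespace Groth.Agent.Helper4.EtLocalFlat

open IsLocalRing TensorProduct
universe u
variable (A B : Type u) [CommRing A] [CommRing B]
    [Algebra A B] [IsNoetherianRing A] [Algebra.FiniteType A B]
    (p : Ideal A) [p.IsPrime] (q : Ideal B) [q.IsPrime] [q.LiesOver p]
    [Algebra (Localization.AtPrime p) (Localization.AtPrime q)]
    [Localization.AtPrime.IsLiesOverAlgebra p q]

theorem fwd_flat [Algebra.IsEtaleAt A q] :
    Module.Flat (Localization.AtPrime p) (Localization.AtPrime q) := by
  have : Algebra.FinitePresentation A B := Algebra.FinitePresentation.of_finiteType.mp inferInstance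
  obtain ⟨f, hf, hE⟩ := Algebra.exists_etale_of_isEtaleAt (R := A) q
  rw [Module.flat_iff_of_isLocalization (Localization.AtPrime p) p.primeCompl]
  have hle : Submonoid.powers f ≤ q.primeCompl := by
    rw [Submonoid.powers_le]; exact hf
  letI : Algebra (Localization.Away f) (Localization.AtPrime q) :=
    IsLocalization.localizationAlgebraOfSubmonoidLe _ _ (Submonoid.powers f) q.primeCompl hle
  haveI : IsScalarTower B (Localization.Away f) (Localization.AtPrime q) :=
    IsLocalization.localization_isScalarTower_of_submonoid_le _ _ (Submonoid.powers f) q.primeCompl hle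
  haveI := IsLocalization.isLocalization_of_submonoid_le (Localization.Away f)
    (Localization.AtPrime q) (Submonoid.powers f) q.primeCompl hle
  haveI : Module.Flat (Localization.Away f) (Localization.AtPrime q) :=
    IsLocalization.flat _ (Submonoid.map (algebraMap B (Localization.Away f)) q.primeCompl)
  haveI : IsScalarTower A (Localization.Away f) (Localization.AtPrime q) := .to₁₃₄ A B _ _
  exact Module.Flat.trans A (Localization.Away f) (Localization.AtPrime q)

theorem bwd (h1 : Module.Flat (Localization.AtPrime p) (Localization.AtPrime q))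
    (h2 : p.map (algebraMap A (Localization.AtPrime q)) = IsLocalRing.maximalIdeal (Localization.AtPrime q))
    (h4 : Algebra.IsSeparable p.ResidueField q.ResidueField) : Algebra.IsEtaleAt A q := by
  have hU : Algebra.IsUnramifiedAt A q := (Algebra.isUnramifiedAt_iff_map_eq A p q).mpr ⟨h4, h2⟩
  have : Algebra.FinitePresentation A B := Algebra.FinitePresentation.of_finiteType.mp inferInstance
  let Rp := Localization.AtPrime p
  let Sp := Localization (Algebra.algebraMapSubmonoid B p.primeCompl)
  let Sq := Localization.AtPrime q
  have : Algebra.EssFiniteType Rp Sq := .of_comp A _ _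
  have : Algebra.FormallyUnramified Rp Sq := .of_restrictScalars A _ _
  have : Algebra.FormallyEtale p.ResidueField (p.ResidueField ⊗[Rp] Sq) :=
    Algebra.FormallyEtale.of_formallyUnramified_of_field _ _
  let f : Sp →ₐ[B] Sq := IsLocalization.liftAlgHom (M := Algebra.algebraMapSubmonoid B p.primeCompl)
        (f := Algebra.ofId _ _) (by
      rintro ⟨_, x, hx, rfl⟩
      simpa using! IsLocalization.map_units (M := q.primeCompl) Sq ⟨algebraMap _ _ x,
        by simp_all [q.over_def p]⟩)
  algebraize [f.toRingHom]
  have : IsScalarTower A Sp Sq := .to₁₃₄ _ B _ _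
  have : IsScalarTower Rp Sp Sq := .of_algebraMap_eq' <| by
    apply IsLocalization.ringHom_ext p.primeCompl
    simp only [RingHom.comp_assoc, ← IsScalarTower.algebraMap_eq]
  have : IsLocalization (Algebra.algebraMapSubmonoid Sp q.primeCompl) Sq :=
    .isLocalization_of_submonoid_le _ _ (Algebra.algebraMapSubmonoid B p.primeCompl) _
    (by rintro _ ⟨x, hx, rfl⟩; simp_all [q.over_def p])
  have : Algebra.FinitePresentation Rp Sp := by
    have : Algebra.IsPushout A Rp B Sp :=
      .symm <| Algebra.isPushout_of_isLocalization p.primeCompl _ _ _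
    exact .equiv (Algebra.IsPushout.equiv A Rp B Sp)
  have : Algebra.FormallySmooth Rp Sq := Algebra.FormallySmooth.of_formallySmooth_residueField_tensor
    (R := Rp) (S := Sq) (P := Sp) (Algebra.algebraMapSubmonoid _ q.primeCompl)
  have : Algebra.FormallySmooth A Sq := .comp A Rp Sq
  exact Algebra.FormallyEtale.of_formallyUnramified_and_formallySmooth

end Groth.Agent.Helper4.EtLocalFlat
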