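import Mathlib
import Groth.Prelude.Def_FlatCA

/-!
# A quotient `Q / K` as a directed colimit of the quotients `Q / J`, `J ⊆ K` finitely generated
(containing a fixed finitely generated `I₀`).
-/

set_option autoImplicit false

namespace Groth.Agent.Helper4.FiniteColim

universe u

variable {A Q A' : Type u} [CommRing A] [CommRing Q] [CommRing A'] [Algebra A Q] [Algebra A A']

/-- the index type -/
def Idx (f : Q →ₐ[A] A') (I₀ : Ideal Q) : Type u :=
  {J : Ideal Q // J.FG ∧ I₀ ≤ J ∧ J ≤ RingHom.ker f}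

instance (f : Q →ₐ[A] A') (I₀ : Ideal Q) : Preorder (Idx f I₀) :=
  inferInstanceAs (Preorder {J : Ideal Q // J.FG ∧ I₀ ≤ J ∧ J ≤ RingHom.ker f})

variable (f : Q →ₐ[A] A') (I₀ : Ideal Q)

/-- the structure map `Q / J → A'` -/
noncomputable def toA' (J : Idx f I₀) : Q ⧸ J.1 →+* A' :=
  Ideal.Quotient.lift J.1 f.toRingHom (fun a ha => J.2.2.2 ha)

@[simp] theorem toA'_mk (J : Idx f I₀) (q : Q) : toA' f I₀ J (Ideal.Quotient.mk J.1 q) = f q := rfl

noncomputable instance algA' (J : Idx f I₀) : Algebra (Q ⧸ J.1) A' := (toA' f I₀ J).toAlgebra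

theorem algebraMap_mk (J : Idx f I₀) (q : Q) :
    algebraMap (Q ⧸ J.1) A' (Ideal.Quotient.mk J.1 q) = f q := rfl

instance tower (J : Idx f I₀) : IsScalarTower A (Q ⧸ J.1) A' := by
  refine IsScalarTower.of_algebraMap_eq (fun x => ?_)
  have : algebraMap A (Q ⧸ J.1) x = Ideal.Quotient.mk J.1 (algebraMap A Q x) := rfl
  rw [this, algebraMap_mk, AlgHom.commutes]

theorem isDirectedColimitRing (hf : Function.Surjective f) (hI₀ : I₀.FG)
    (hI₀K : I₀ ≤ RingHom.ker f) :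
    FlatCA.IsDirectedColimitRing (fun J : Idx f I₀ => Q ⧸ J.1)
      (fun i j h => (Ideal.Quotient.factorₐ A (show i.1 ≤ j.1 from h)).toRingHom) A' := by
  refine ⟨⟨fun J₁ J₂ => ?_⟩, ⟨⟨I₀, hI₀, le_rfl, hI₀K⟩⟩, ?_, ?_, ?_, ?_, ?_⟩
  · refine ⟨⟨J₁.1 ⊔ J₂.1, Submodule.FG.sup J₁.2.1 J₂.2.1, le_trans J₁.2.2.1 le_sup_left,
      sup_le J₁.2.2.2 J₂.2.2.2⟩, ?_, ?_⟩
    · exact (le_sup_left : J₁.1 ≤ J₁.1 ⊔ J₂.1)
    · exact (le_sup_right : J₂.1 ≤ J₁.1 ⊔ J₂.1)
  · intro i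
    apply Ideal.Quotient.ringHom_ext
    ext q
    rfl
  · intro i j k hij hjk
    apply Ideal.Quotient.ringHom_ext
    ext q
    rfl
  · intro i j h
    apply Ideal.Quotient.ringHom_ext
    ext q
    rfl
  · intro a
    obtain ⟨q, rfl⟩ := hf a
    exact ⟨⟨I₀, hI₀, le_rfl, hI₀K⟩, Ideal.Quotient.mk _ q, rfl⟩
  · intro i x hx
    obtain ⟨q, rfl⟩ := Ideal.Quotient.mk_surjective x
    rw [algebraMap_mk] at hx
    have hqK : q ∈ RingHom.ker f := hx
    refine ⟨⟨i.1 ⊔ Ideal.span {q}, Submodule.FG.sup i.2.1 (Submodule.fg_span_singleton q), le_trans i.2.2.1 le_sup_left,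
      sup_le i.2.2.2 ((Ideal.span_singleton_le_iff_mem _).mpr hqK)⟩,
      (le_sup_left : i.1 ≤ i.1 ⊔ Ideal.span {q}), ?_⟩
    change Ideal.Quotient.mk _ q = 0
    rw [Ideal.Quotient.eq_zero_iff_mem]
    exact Ideal.mem_sup_right (Ideal.subset_span (Set.mem_singleton q))

theorem finite_quot {A : Type u} [CommRing A] {n : ℕ} (J : Ideal (MvPolynomial (Fin n) A))
    (p : Fin n → Polynomial A) (hp : ∀ k, (p k).Monic)
    (hJ : ∀ k, Polynomial.aeval (MvPolynomial.X k : MvPolynomial (Fin n) A) (p k) ∈ J) :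
    Module.Finite A (MvPolynomial (Fin n) A ⧸ J) := by
  have hint : ∀ x ∈ Set.range (fun k => Ideal.Quotient.mkₐ A J (MvPolynomial.X k)),
      IsIntegral A x := by
    rintro _ ⟨k, rfl⟩
    refine ⟨p k, hp k, ?_⟩
    have h1 : Polynomial.aeval (Ideal.Quotient.mkₐ A J (MvPolynomial.X k)) (p k)
        = Ideal.Quotient.mkₐ A J (Polynomial.aeval (MvPolynomial.X k) (p k)) :=
      Polynomial.aeval_algHom_apply _ _ _
    have h2 : Ideal.Quotient.mkₐ A J (Polynomial.aeval (MvPolynomial.X k) (p k)) = 0 :=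
      Ideal.Quotient.eq_zero_iff_mem.mpr (hJ k)
    rw [h2] at h1
    exact h1
  have hfg := fg_adjoin_of_finite (Set.finite_range _) hint
  have htop : Algebra.adjoin A (Set.range fun k => Ideal.Quotient.mkₐ A J (MvPolynomial.X k))
      = ⊤ := by
    have h1 : (Algebra.adjoin A (Set.range
        (MvPolynomial.X : Fin n → MvPolynomial (Fin n) A))).map (Ideal.Quotient.mkₐ A J) = ⊤ := by
      rw [MvPolynomial.adjoin_range_X, Algebra.map_top, AlgHom.range_eq_top]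
      exact Ideal.Quotient.mkₐ_surjective A J
    rw [AlgHom.map_adjoin, ← Set.range_comp] at h1
    exact h1
  rw [htop, Algebra.top_toSubmodule] at hfg
  exact ⟨hfg⟩

end Groth.Agent.Helper4.FiniteColim
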