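import Mathlib
import Groth.Agent.Helper4.NApx1
import Groth.Agent.S7379

set_option autoImplicit false

namespace Groth.Agent.Helper4.NApx2

open CategoryTheory AlgebraicGeometry Limits
open Groth.Agent.Helper4.NApx0

universe u

/-- A finite type morphism from a qcqs scheme to a quasi-separated scheme is a directed limit of
finitely presented qcqs schemes with closed immersions as transition maps and projections. -/
theorem closedImm_limit {X S : Scheme.{u}} (f : X ⟶ S) [LocallyOfFiniteType f]
    [CompactSpace X] [QuasiSeparatedSpace X] [QuasiSeparatedSpace S] :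
    ∃ (I : Type u) (_ : Preorder I) (_ : IsDirected I (fun a b => a ≤ b)) (_ : Nonempty I)
      (D : Iᵒᵖ ⥤ Over S) (c : Cone D) (_ : IsLimit c) (_ : c.pt ≅ Over.mk f),
      (∀ i, LocallyOfFinitePresentation (D.obj i).hom ∧ QuasiCompact (D.obj i).hom ∧
        QuasiSeparated (D.obj i).hom ∧ CompactSpace (D.obj i).left ∧
        QuasiSeparatedSpace (D.obj i).left) ∧
      (∀ (i j : Iᵒᵖ) (a : i ⟶ j), IsClosedImmersion (D.map a).left) ∧
      (∀ i, IsClosedImmersion (c.π.app i).left) := by
  obtain ⟨X', f', j, h1, h2, h3, h4, h5, h6, h7⟩ := NApx1.closedImm_fp f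
  obtain ⟨I, hP, hD, hN, D, c, hc, hp, ⟨e⟩⟩ := Groth.Agent.S7379.result j
  haveI : IsConnected Iᵒᵖ := IsCofiltered.isConnected _
  have hcl : ∀ i, IsClosedImmersion (D.obj i).hom := fun i => (hp i).1
  have hfp : ∀ i, LocallyOfFinitePresentation (D.obj i).hom := fun i => (hp i).2
  refine ⟨I, hP, hD, hN, D ⋙ Over.map f', (Over.map f').mapCone c, isLimitMapOver f' D c hc,
    (Over.map f').mapIso e ≪≫ Over.isoMk (Iso.refl _) (by simpa using h5.symm), ?_, ?_, ?_⟩
  · intro i
    haveI := hcl i
    haveI := hfp i
    refine ⟨?_, ?_, ?_, ?_, ?_⟩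
    · show LocallyOfFinitePresentation ((D.obj i).hom ≫ f'); infer_instance
    · show QuasiCompact ((D.obj i).hom ≫ f'); infer_instance
    · show QuasiSeparated ((D.obj i).hom ≫ f'); infer_instance
    · exact QuasiCompact.compactSpace_of_compactSpace (D.obj i).hom
    · exact quasiSeparatedSpace_of_quasiSeparated (D.obj i).hom
  · intro i k a
    show IsClosedImmersion (D.map a).left
    haveI := hcl k
    haveI : IsClosedImmersion ((D.map a).left ≫ (D.obj k).hom) := by
      rw [Over.w]; exact hcl i
    exact IsClosedImmersion.of_comp (D.map a).left (D.obj k).hom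
  · intro i
    show IsClosedImmersion (c.π.app i).left
    haveI := hcl i
    haveI : IsIso e.hom.left := (Over.forget _).map_isIso e.hom
    haveI : IsClosedImmersion ((c.π.app i).left ≫ (D.obj i).hom) := by
      have h8 : (c.π.app i).left ≫ (D.obj i).hom = c.pt.hom := Over.w (c.π.app i)
      have h9 : c.pt.hom = e.hom.left ≫ j := (Over.w e.hom).symm
      rw [h8, h9]; infer_instance
    exact IsClosedImmersion.of_comp (c.π.app i).left (D.obj i).hom

end Groth.Agent.Helper4.NApx2
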