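import Mathlib
import Groth.Agent.Helper4.NApx2
import Groth.Agent.S2154

set_option autoImplicit false

namespace Groth.Agent.Helper4.NApx3

open CategoryTheory AlgebraicGeometry Limits

universe u

/-- A finite morphism to a qcqs scheme is a directed limit of finite, finitely presented
schemes with closed immersions as transition maps and projections. -/
theorem finite_closedImm_limit {X S : Scheme.{u}} (f : X ⟶ S) [IsFinite f]
    [CompactSpace S] [QuasiSeparatedSpace S] :
    ∃ (I : Type u) (_ : Preorder I) (_ : IsDirected I (fun a b => a ≤ b)) (_ : Nonempty I)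
      (D : Iᵒᵖ ⥤ Over S) (c : Cone D) (_ : IsLimit c) (_ : c.pt ≅ Over.mk f),
      (∀ i, IsFinite (D.obj i).hom ∧ LocallyOfFinitePresentation (D.obj i).hom) ∧
      (∀ (i j : Iᵒᵖ) (a : i ⟶ j), IsClosedImmersion (D.map a).left) ∧
      (∀ i, IsClosedImmersion (c.π.app i).left) := by
  haveI : CompactSpace X := QuasiCompact.compactSpace_of_compactSpace f
  haveI : QuasiSeparatedSpace X := quasiSeparatedSpace_of_quasiSeparated f
  obtain ⟨I, hP, hD, hN, D, c, hc, e, h1, h2, h3⟩ := NApx2.closedImm_limit f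
  haveI : ∀ (i j : Iᵒᵖ) (a : i ⟶ j), IsFinite (D.map a).left := fun i j a => by
    haveI := h2 i j a; infer_instance
  haveI : ∀ i, CompactSpace (D.obj i).left := fun i => (h1 i).2.2.2.1
  haveI : ∀ i, QuasiSeparatedSpace (D.obj i).left := fun i => (h1 i).2.2.2.2
  haveI : ∀ i, LocallyOfFiniteType (D.obj i).hom := fun i => by
    haveI := (h1 i).1; infer_instance
  haveI : IsIso e.hom.left := (Over.forget S).map_isIso e.hom
  haveI : IsIntegralHom c.pt.hom := by
    have h9 : c.pt.hom = e.hom.left ≫ f := (Over.w e.hom).symm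
    rw [h9]; infer_instance
  obtain ⟨i₀, hi₀⟩ := Groth.Agent.S2154.result S D c hc
  refine ⟨Set.Ici i₀.unop, inferInstance, inferInstance, inferInstance,
    NApx0.inclIci i₀.unop ⋙ D, c.whisker (NApx0.inclIci i₀.unop),
    NApx0.isLimitRestrict D c hc i₀.unop, e, ?_, ?_, ?_⟩
  · intro i
    exact ⟨hi₀ _ (homOfLE i.unop.2).op, (h1 _).1⟩
  · intro i j a
    exact h2 _ _ _
  · intro i
    exact h3 _

end Groth.Agent.Helper4.NApx3
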