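import Mathlib
import Groth.Agent.Helper4.NApx9
import Groth.Agent.S7381
import Groth.Agent.S0021
import Groth.Agent.S0590
import Groth.Agent.Lead.LimExistProp
import Groth.Agent.Lead.LimFinite
import Groth.Agent.Lead.LimSurj
import Groth.Agent.Lead.LimBC

set_option autoImplicit false

namespace Groth.Agent.Helper4.NApx10

open CategoryTheory AlgebraicGeometry Limits Opposite
open Groth.Agent.Helper4.NApx0

universe u

/-- Stacks 09MQ: the target of a surjective universally closed morphism from a separated scheme
is separated. -/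
theorem isSeparated_of_surjective_universallyClosed {X S B : Scheme.{u}} (f : X ⟶ S) (g : S ⟶ B)
    [Surjective f] [UniversallyClosed f] [IsSeparated (f ≫ g)] : IsSeparated g := by
  constructor
  apply IsClosedImmersion.of_isPreimmersion
  let φ : pullback (f ≫ g) (f ≫ g) ⟶ pullback g g :=
    pullback.map (f ≫ g) (f ≫ g) g g f f (𝟙 B) ((Category.comp_id _).trans rfl)
      ((Category.comp_id _).trans rfl)
  have hφ : UniversallyClosed φ :=
    MorphismProperty.pullbackMap (P := @UniversallyClosed) inferInstance inferInstance rfl rfl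
  have hcomm : pullback.diagonal (f ≫ g) ≫ φ = f ≫ pullback.diagonal g := by
    apply pullback.hom_ext
    · simp only [φ, Category.assoc, pullback.diagonal_fst, Category.comp_id]
      rw [pullback.lift_fst, ← Category.assoc, pullback.diagonal_fst, Category.id_comp]
    · simp only [φ, Category.assoc, pullback.diagonal_snd, Category.comp_id]
      rw [pullback.lift_snd, ← Category.assoc, pullback.diagonal_snd, Category.id_comp]
  have h1 : Set.range (pullback.diagonal g) =
      φ '' Set.range (pullback.diagonal (f ≫ g)) := by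
    rw [← Set.range_comp]
    have h2 : (φ : _ → _) ∘ (pullback.diagonal (f ≫ g) : _ → _) =
        (pullback.diagonal g : _ → _) ∘ (f : _ → _) := by
      ext x
      have := congrArg (fun m : X ⟶ pullback g g => m x) hcomm
      simpa using this
    rw [h2, Set.range_comp, Set.range_eq_univ.mpr f.surjective, Set.image_univ]
  rw [h1]
  exact φ.isClosedMap _ (pullback.diagonal (f ≫ g)).isClosedEmbedding.isClosed_range

open Groth.Agent.Lead.LimPullback Groth.Agent.Lead.LimExist in
set_option backward.isDefEq.respectTransparency false in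
/-- Chevalley for finite finitely presented surjective morphisms over a qcqs base. -/
theorem isAffine_of_finite_fp_surjective {X S : Scheme.{u}} (f : X ⟶ S) [IsFinite f]
    [LocallyOfFinitePresentation f] [Surjective f] [IsAffine X] [CompactSpace S]
    [QuasiSeparatedSpace S] : IsAffine S := by
  obtain ⟨A, hPA, hDA, hNA, D, c, hc, hA1, hA2, ⟨eS⟩⟩ := Groth.Agent.S0590.result S
  haveI haff : ∀ {i j : Aᵒᵖ} (a : i ⟶ j), IsAffineHom (D.map a) := fun {i j} a => hA1 i j a
  haveI hAn : ∀ i, IsLocallyNoetherian (D.obj i) := fun i => by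
    haveI := (hA2 i).2
    exact LocallyOfFiniteType.isLocallyNoetherian (specULiftZIsTerminal.from (D.obj i))
  haveI : ∀ i, CompactSpace (D.obj i) := fun i => (hA2 i).1
  haveI : ∀ i, QuasiSeparatedSpace (D.obj i) := fun i => inferInstance
  haveI : IsCofiltered Aᵒᵖ := isCofiltered_op_of_directed A
  let f' : X ⟶ c.pt := f ≫ eS.inv
  haveI : LocallyOfFinitePresentation f' := by
    show LocallyOfFinitePresentation (f ≫ eS.inv); infer_instance
  haveI : MorphismProperty.RespectsIso (@Surjective : MorphismProperty Scheme.{u}) :=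
    MorphismProperty.IsStableUnderBaseChange.respectsIso
  haveI : MorphismProperty.RespectsIso
      (@IsFinite ⊓ @Surjective : MorphismProperty Scheme.{u}) :=
    MorphismProperty.RespectsIso.inf _ _
  have hP : (@IsFinite ⊓ @Surjective : MorphismProperty Scheme.{u}) f' := by
    refine ⟨?_, ?_⟩
    · show IsFinite (f ≫ eS.inv); infer_instance
    · show Surjective (f ≫ eS.inv); infer_instance
  obtain ⟨j, M, hM⟩ := Groth.Agent.Lead.LimExist.exists_model_prop hc
    (@IsFinite ⊓ @Surjective : MorphismProperty Scheme.{u}) (by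
    intro i₀ X₀ f₀ _ _ _ h
    obtain ⟨j1, hj1⟩ := Groth.Agent.Lead.LimFinite.isFinite_descends hc i₀ (𝟙 _) f₀ h.1
    obtain ⟨j2, hj2⟩ := Groth.Agent.Lead.LimSurj.surjective_descends hc i₀ (𝟙 _) f₀ h.2
    let j3 := IsCofiltered.min j1 j2
    exact ⟨j3, Groth.Agent.Lead.LimBC.stage_of_hom @IsFinite (IsCofiltered.minToLeft j1 j2) hj1,
      Groth.Agent.Lead.LimBC.stage_of_hom @Surjective (IsCofiltered.minToRight j1 j2) hj2⟩)
    f' hP
  haveI : IsFinite M.fi := hM.1
  haveI : Surjective M.fi := hM.2
  haveI : ∀ {k l : Over j} (a : k ⟶ l), IsAffineHom ((pbDiag D j M.fi).map a) :=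
    fun a => isAffineHom_pbDiag_map j M.fi a
  haveI : ∀ k : Over j, CompactSpace ((pbDiag D j M.fi).obj k) := fun k => by
    show CompactSpace ↥(pullback (D.map k.hom) M.fi)
    exact QuasiCompact.compactSpace_of_compactSpace (pullback.fst (D.map k.hom) M.fi)
  haveI : ∀ k : Over j, QuasiSeparatedSpace ((pbDiag D j M.fi).obj k) := fun k => by
    show QuasiSeparatedSpace ↥(pullback (D.map k.hom) M.fi)
    exact quasiSeparatedSpace_of_quasiSeparated (pullback.fst (D.map k.hom) M.fi)
  haveI : IsAffine M.cone.pt := by
    show IsAffine X; infer_instance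
  obtain ⟨k, hk⟩ := Scheme.exists_isAffine_of_isLimit (pbDiag D j M.fi) M.cone (M.coneIsLimit hc)
  haveI : IsAffine (pullback (D.map k.hom) M.fi) := hk
  haveI : IsNoetherian (D.obj k.left) := {}
  haveI : IsAffine (D.obj k.left) :=
    Groth.Agent.S0021.result (pullback.fst (D.map k.hom) M.fi)
  haveI : IsAffineHom (c.π.app k.left) := isAffineHom_π_app D c hc k.left
  haveI : IsAffine c.pt := isAffine_of_isAffineHom (c.π.app k.left)
  exact IsAffine.of_isIso eS.inv

/-- Chevalley: the target of a finite surjective morphism from an affine scheme is affine. -/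
theorem isAffine_of_finite_surjective {X S : Scheme.{u}} (f : X ⟶ S) [IsFinite f]
    [Surjective f] [IsAffine X] : IsAffine S := by
  haveI : CompactSpace S := by
    constructor
    rw [← Set.range_eq_univ.mpr f.surjective]
    exact isCompact_range f.continuous
  haveI : IsSeparated (f ≫ terminal.from S) := by
    rw [terminal.comp_from]; infer_instance
  haveI : S.IsSeparated := ⟨isSeparated_of_surjective_universallyClosed f (terminal.from S)⟩
  obtain ⟨I, hP, hD, hN, D, c, hc, h1, h2, ⟨e⟩⟩ := Groth.Agent.S7381.result f
  haveI : IsCofiltered Iᵒᵖ := isCofiltered_op_of_directed I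
  haveI : IsConnected Iᵒᵖ := IsCofiltered.isConnected _
  haveI : IsIso e.hom.left := (Over.forget S).map_isIso e.hom
  let E := D ⋙ Over.forget S
  let cE := (Over.forget S).mapCone c
  have hcE : IsLimit cE := isLimitOfPreserves (Over.forget S) hc
  haveI : ∀ {i j : Iᵒᵖ} (a : i ⟶ j), IsAffineHom (E.map a) := by
    intro i j a
    show IsAffineHom (D.map a).left
    haveI := h2 i j a
    infer_instance
  haveI : ∀ i, CompactSpace (E.obj i) := fun i => by
    show CompactSpace (D.obj i).left
    haveI := (h1 i).1
    exact QuasiCompact.compactSpace_of_compactSpace (D.obj i).hom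
  haveI : ∀ i, QuasiSeparatedSpace (E.obj i) := fun i => by
    show QuasiSeparatedSpace (D.obj i).left
    haveI := (h1 i).1
    exact quasiSeparatedSpace_of_quasiSeparated (D.obj i).hom
  haveI : IsAffine cE.pt := by
    show IsAffine c.pt.left
    haveI : IsAffine (Over.mk f).left := by show IsAffine X; infer_instance
    exact IsAffine.of_isIso e.hom.left
  obtain ⟨i, hi⟩ := Scheme.exists_isAffine_of_isLimit E cE hcE
  haveI : IsAffine (D.obj i).left := hi
  haveI := (h1 i).1
  haveI := (h1 i).2
  haveI : Surjective (D.obj i).hom := by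
    haveI : Surjective ((c.π.app i).left ≫ (D.obj i).hom) := by
      have h3 : (c.π.app i).left ≫ (D.obj i).hom = c.pt.hom := Over.w (c.π.app i)
      have h4 : c.pt.hom = e.hom.left ≫ f := (Over.w e.hom).symm
      rw [h3, h4]; infer_instance
    exact Surjective.of_comp (c.π.app i).left (D.obj i).hom
  exact isAffine_of_finite_fp_surjective (D.obj i).hom

end Groth.Agent.Helper4.NApx10
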