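import Groth.Prelude.Def_FlatCA
import Mathlib

set_option autoImplicit false
universe u v

namespace Groth.Agent.Helper4.WeakAss

open FlatCA

variable {R : Type u} [CommRing R] {M : Type v} [AddCommGroup M] [Module R M]

/-- annihilator of an element -/
abbrev ann (R : Type u) [CommRing R] {M : Type v} [AddCommGroup M] [Module R M] (m : M) : Ideal R :=
  (Submodule.span R {m}).annihilator

theorem mem_ann {m : M} {r : R} : r ∈ ann R m ↔ r • m = 0 :=
  Submodule.mem_annihilator_span_singleton m r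

theorem ann_eq_top_iff {m : M} : ann R m = ⊤ ↔ m = 0 := by
  rw [Ideal.eq_top_iff_one, mem_ann, one_smul]

theorem mem_weakAss_iff {p : Ideal R} :
    p ∈ weakAss R M ↔ ∃ m : M, p ∈ (ann R m).minimalPrimes := Iff.rfl

/-- if `ann m ≤ J ≤ p` for an ideal `J = ann m'` and `p` is minimal over `ann m`,
then `p` is minimal over `ann m'`. -/
theorem minimal_of_le {I J p : Ideal R} (hp : p ∈ I.minimalPrimes) (hIJ : I ≤ J) (hJp : J ≤ p) :
    p ∈ J.minimalPrimes :=
  ⟨⟨hp.1.1, hJp⟩, fun q hq hqp => hp.2 ⟨hq.1, hIJ.trans hq.2⟩ hqp⟩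

theorem exists_mem_weakAss_of_ne_zero {m : M} (hm : m ≠ 0) :
    ∃ p ∈ (ann R m).minimalPrimes, p ∈ weakAss R M := by
  have hne : ann R m ≠ ⊤ := fun h => hm (ann_eq_top_iff.mp h)
  obtain ⟨⟨p, hp⟩⟩ := Ideal.nonempty_minimalPrimes hne
  exact ⟨p, hp, m, hp⟩


/-- The "local annihilator" at a prime `p`: `{r | ∃ s ∉ p, (s * r) • z = 0}`. -/
def locAnn (p : Ideal R) [p.IsPrime] (z : M) : Ideal R where
  carrier := {r | ∃ s ∉ p, (s * r) • z = 0}
  zero_mem' := ⟨1, (Ideal.ne_top_iff_one p).mp (Ideal.IsPrime.ne_top ‹_›), by simp⟩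
  add_mem' := by
    rintro a b ⟨s, hs, hsa⟩ ⟨t, ht, htb⟩
    refine ⟨s * t, fun h => (Ideal.IsPrime.mem_or_mem ‹_› h).elim hs ht, ?_⟩
    have h1 : (s * t * (a + b)) • z = t • ((s * a) • z) + s • ((t * b) • z) := by
      simp only [smul_smul, ← add_smul]; congr 1; ring
    rw [h1, hsa, htb, smul_zero, smul_zero, add_zero]
  smul_mem' := by
    rintro c a ⟨s, hs, hsa⟩
    refine ⟨s, hs, ?_⟩
    have h1 : (s * (c • a)) • z = c • ((s * a) • z) := by
      simp only [smul_eq_mul, smul_smul]; congr 1; ring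
    rw [h1, hsa, smul_zero]

theorem mem_locAnn {p : Ideal R} [p.IsPrime] {z : M} {r : R} :
    r ∈ locAnn p z ↔ ∃ s ∉ p, (s * r) • z = 0 := Iff.rfl

theorem locAnn_le {p : Ideal R} [hp : p.IsPrime] {z : M} (h : ann R z ≤ p) : locAnn p z ≤ p := by
  rintro r ⟨s, hs, hsr⟩
  have : s * r ∈ p := h (mem_ann.mpr hsr)
  exact (hp.mem_or_mem this).resolve_left hs

theorem le_radical_locAnn {p : Ideal R} [hp : p.IsPrime] {z : M}
    (h : p ∈ (ann R z).minimalPrimes) : p ≤ (locAnn p z).radical := by
  intro g hg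
  have hrad := IsLocalization.AtPrime.radical_map_of_mem_minimalPrimes
    (Localization.AtPrime p) p (ann R z) h
  have h1 : algebraMap R (Localization.AtPrime p) g ∈
      ((ann R z).map (algebraMap R (Localization.AtPrime p))).radical := by
    rw [hrad]; exact Ideal.mem_map_of_mem _ hg
  obtain ⟨k, hk⟩ := h1
  rw [← map_pow, IsLocalization.mem_map_algebraMap_iff p.primeCompl] at hk
  obtain ⟨⟨a, t⟩, hat⟩ := hk
  rw [← map_mul, IsLocalization.eq_iff_exists p.primeCompl] at hat
  obtain ⟨c, hc⟩ := hat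
  refine ⟨k, (c * t : R), ?_, ?_⟩
  · exact fun h => (hp.mem_or_mem h).elim c.2 t.2
  · have : (c : R) * (t : R) * g ^ k = c * a := by
      simp only at hc
      rw [← hc]; ring
    rw [this, mul_smul, mem_ann.mp a.2, smul_zero]

/-- A finitely generated prime which is weakly associated is associated. -/
theorem mem_ass_of_mem_weakAss_of_fg {p : Ideal R} [hp : p.IsPrime] (hfg : p.FG)
    (h : p ∈ weakAss R M) : p ∈ ass R M := by
  classical
  obtain ⟨m, hm⟩ := h
  obtain ⟨N, hN⟩ := Ideal.exists_pow_le_of_le_radical_of_fg (le_radical_locAnn hm) hfg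
  have hJp : locAnn p m ≤ p := locAnn_le hm.1.2
  have hex : ∃ n, p ^ n ≤ locAnn p m := ⟨N, hN⟩
  have hfind := Nat.find_spec hex
  have hne0 : Nat.find hex ≠ 0 := by
    intro h0
    rw [h0, pow_zero, Ideal.one_eq_top] at hfind
    exact hp.ne_top (top_le_iff.mp (hfind.trans hJp))
  have hpred : ¬ p ^ (Nat.find hex - 1) ≤ locAnn p m :=
    Nat.find_min hex (Nat.sub_one_lt hne0)
  obtain ⟨a, hap, haJ⟩ := SetLike.not_le_iff_exists.mp hpred
  -- every g ∈ p has a local annihilating multiplier on a • m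
  have hg : ∀ g ∈ p, ∃ s ∉ p, (s * g) • (a • m) = 0 := by
    intro g hgp
    have : g * a ∈ p ^ (Nat.find hex) := by
      have h1 : g * a ∈ p * p ^ (Nat.find hex - 1) := Ideal.mul_mem_mul hgp hap
      rwa [← pow_succ', Nat.sub_add_cancel (Nat.one_le_iff_ne_zero.mpr hne0)] at h1
    obtain ⟨s, hs, hsz⟩ := hfind this
    exact ⟨s, hs, by rw [smul_smul, mul_assoc]; exact hsz⟩
  obtain ⟨G, hG⟩ := hfg
  have hGp : ∀ g ∈ G, g ∈ p := fun g hg' => hG ▸ Ideal.subset_span hg'
  choose! s hs hsz using hg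
  let hh : R := ∏ g ∈ G, s g
  have hhp : hh ∉ p := by
    intro hmem
    obtain ⟨g, hgG, hsg⟩ := (hp.prod_mem_iff).mp hmem
    exact hs g (hGp g hgG) hsg
  refine ⟨hp, hh • a • m, ?_⟩
  apply le_antisymm
  · rw [← hG, Ideal.span_le]
    intro g hgG
    rw [SetLike.mem_coe, mem_ann]
    obtain ⟨c, hc⟩ := Finset.dvd_prod_of_mem s hgG
    have : g • hh • a • m = c • ((s g * g) • (a • m)) := by
      change g • (∏ g ∈ G, s g) • a • m = _
      rw [hc]; simp only [smul_smul]; congr 1; ring
    rw [this, hsz g (hGp g hgG), smul_zero]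
  · intro r hr
    rw [mem_ann] at hr
    by_contra hrp
    apply haJ
    refine ⟨r * hh, fun h => (hp.mem_or_mem h).elim hrp hhp, ?_⟩
    rw [← hr]; simp only [smul_smul, mul_assoc]


section loc

variable {R : Type u} [CommRing R] (S : Submonoid R) {M : Type u} [AddCommGroup M] [Module R M]

/-- The annihilator in `S⁻¹R` of `m/s` is the extension of the annihilator of `m`. -/
theorem ann_mk (m : M) (s : S) :
    ann (Localization S) (LocalizedModule.mk m s) =
      (ann R m).map (algebraMap R (Localization S)) := by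
  apply le_antisymm
  · intro x hx
    rw [mem_ann] at hx
    induction x using Localization.induction_on with
    | H rs =>
      obtain ⟨r, t⟩ := rs
      rw [LocalizedModule.mk_smul_mk, ← LocalizedModule.zero_mk (t * s), LocalizedModule.mk_eq] at hx
      obtain ⟨c, hc⟩ := hx
      rw [smul_zero, smul_zero] at hc
      have h1 : (c : R) * (t * s : S) * r ∈ ann R m := by
        rw [mem_ann]
        rw [← hc]
        simp only [Submonoid.smul_def, smul_smul, mul_assoc]
      rw [Localization.mk_eq_mk', IsLocalization.mk'_mem_map_algebraMap_iff S]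
      exact ⟨(c : R) * (t * s : S), (c * (t * s)).2, h1⟩
  · rw [Ideal.map_le_iff_le_comap]
    intro r hr
    rw [mem_ann] at hr
    rw [Ideal.mem_comap, mem_ann, algebraMap_smul, LocalizedModule.smul'_mk, hr,
      LocalizedModule.zero_mk]

theorem map_mem_weakAss_iff (p : Ideal R) [hp : p.IsPrime] (hS : Disjoint (S : Set R) (p : Set R)) :
    p ∈ weakAss R M ↔
      p.map (algebraMap R (Localization S)) ∈ weakAss (Localization S) (LocalizedModule S M) := by
  have hunder : (p.map (algebraMap R (Localization S))).under R = p :=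
    IsLocalization.under_map_of_isPrime_disjoint S (Localization S) hp hS
  have key : ∀ (m : M) (s : S), p ∈ (ann R m).minimalPrimes ↔
      p.map (algebraMap R (Localization S)) ∈
        (ann (Localization S) (LocalizedModule.mk m s)).minimalPrimes := by
    intro m s
    rw [ann_mk, IsLocalization.minimalPrimes_map S (Localization S), Set.mem_preimage, hunder]
  constructor
  · rintro ⟨m, hm⟩
    exact ⟨LocalizedModule.mk m 1, (key m 1).mp hm⟩
  · rintro ⟨z, hz⟩
    induction z using LocalizedModule.induction_on with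
    | h m s => exact ⟨m, (key m s).mpr hz⟩

/-- annihilator in `R` of `m/s ∈ S⁻¹M`. -/
theorem mem_ann_mk_base (m : M) (s : S) (r : R) :
    r ∈ ann R (LocalizedModule.mk m s) ↔ ∃ t : S, ((t : R) * r) • m = 0 := by
  rw [mem_ann, LocalizedModule.smul'_mk, ← LocalizedModule.zero_mk s, LocalizedModule.mk_eq]
  constructor
  · rintro ⟨c, hc⟩
    rw [smul_zero, smul_zero] at hc
    refine ⟨c * s, ?_⟩
    rw [← hc]
    simp only [Submonoid.smul_def, smul_smul, Submonoid.coe_mul, mul_assoc]
  · rintro ⟨t, ht⟩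
    refine ⟨t, ?_⟩
    rw [smul_zero, smul_zero]
    have : t • s • r • m = (s : R) • (((t : R) * r) • m) := by
      simp only [Submonoid.smul_def, smul_smul]; congr 1; ring
    rw [this, ht, smul_zero]

end loc

end Groth.Agent.Helper4.WeakAss
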