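import Groth.Prelude.Def_RegImm
import Mathlib

/-!
# Syntomic ring maps are local on the target
-/

set_option autoImplicit false

namespace Groth.Agent.Helper4.SyntLocal
open TensorProduct

universe u

section Field
variable (k : Type u) [Field k]

/-- `IsGlobalCI` is invariant under algebra isomorphisms. -/
lemma isGlobalCI_of_algEquiv {A B : Type u} [CommRing A] [CommRing B] [Algebra k A] [Algebra k B]
    (e : A ≃ₐ[k] B) (h : Synt.IsGlobalCI k A) : Synt.IsGlobalCI k B := by
  rcases h with h | ⟨n, c, hcn, φ, r, hφ, hker, hdim⟩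
  · exact Or.inl (e.symm.toEquiv.subsingleton)
  · refine Or.inr ⟨n, c, hcn, e.toAlgHom.comp φ, r, ?_, ?_, ?_⟩
    · exact e.surjective.comp hφ
    · rw [← hker]
      ext x
      simp [RingHom.mem_ker]
    · rw [← hdim]
      exact (ringKrullDim_eq_of_ringEquiv e.toRingEquiv).symm

/-- If `A_x` is LCI over `k` and `x ∉ q`, then `q` has a global-CI basic open neighbourhood. -/
lemma exists_away_of_isLCIOver_away {A : Type u} [CommRing A] [Algebra k A] (x : A)
    (h : Synt.IsLCIOver k (Localization.Away x)) (q : PrimeSpectrum A) (hx : x ∉ q.asIdeal) :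
    ∃ G : A, G ∉ q.asIdeal ∧ Synt.IsGlobalCI k (Localization.Away G) := by
  have hdisj : Disjoint (Submonoid.powers x : Set A) (q.asIdeal : Set A) := by
    rw [Ideal.disjoint_powers_iff_notMem_of_isPrime]; exact hx
  have hprime : (q.asIdeal.map (algebraMap A (Localization.Away x))).IsPrime :=
    IsLocalization.isPrime_of_isPrime_disjoint (.powers x) _ _ q.2 hdisj
  have hcomap : (q.asIdeal.map (algebraMap A (Localization.Away x))).comap
      (algebraMap A (Localization.Away x)) = q.asIdeal :=
    IsLocalization.comap_map_of_isPrime_disjoint (.powers x) _ q.2 hdisj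
  obtain ⟨G', hG', hCI⟩ := h.2 ⟨_, hprime⟩
  change G' ∉ q.asIdeal.map (algebraMap A (Localization.Away x)) at hG'
  set a := (IsLocalization.Away.sec x G').1 with ha
  have hassoc : Associated (algebraMap A (Localization.Away x) a) G' :=
    IsLocalization.Away.associated_sec_fst x G'
  haveI : IsScalarTower A (Localization.Away x) (Localization.Away G') := inferInstance
  haveI : IsScalarTower k A (Localization.Away G') := inferInstance
  haveI : IsLocalization.Away (x * a) (Localization.Away G') :=
    IsLocalization.Away.mul_of_associated x a G' hassoc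
  refine ⟨x * a, ?_, ?_⟩
  · intro hmem
    rcases q.2.mem_or_mem hmem with h1 | h1
    · exact hx h1
    · apply hG'
      obtain ⟨u, hu⟩ := hassoc
      rw [← hu]
      exact Ideal.mul_mem_right _ _ (Ideal.mem_map_of_mem _ h1)
  · let e : Localization.Away G' ≃ₐ[k] Localization.Away (x * a) :=
      (IsLocalization.algEquiv (Submonoid.powers (x * a)) (Localization.Away G')
        (Localization.Away (x * a))).restrictScalars k
    exact isGlobalCI_of_algEquiv k e hCI

/-- `IsLCIOver` is invariant under algebra isomorphisms. -/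
lemma isLCIOver_of_algEquiv {A B : Type u} [CommRing A] [CommRing B] [Algebra k A] [Algebra k B]
    (e : A ≃ₐ[k] B) (h : Synt.IsLCIOver k A) : Synt.IsLCIOver k B := by
  haveI := h.1
  refine ⟨Algebra.FiniteType.equiv h.1 e, fun p => ?_⟩
  obtain ⟨g, hg, hCI⟩ := h.2 (PrimeSpectrum.comap e.toAlgHom.toRingHom p)
  refine ⟨e g, hg, ?_⟩
  let e' : Localization.Away g ≃ₐ[k] Localization.Away (e g) :=
    IsLocalization.algEquivOfAlgEquiv (M := Submonoid.powers g) (T := Submonoid.powers (e g))
      (Localization.Away g) (Localization.Away (e g)) e (by rw [Submonoid.map_powers])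
  exact isGlobalCI_of_algEquiv k e' hCI

end Field

lemma isSyntomic_of_span (R S : Type u) [CommRing R] [CommRing S] [Algebra R S]
    (s : Finset S) (hs : Ideal.span (s : Set S) = ⊤)
    (h : ∀ g ∈ s, Synt.IsSyntomic R (Localization.Away g)) : Synt.IsSyntomic R S := by
  have hflat : Module.Flat R S := by
    rw [← RingHom.flat_algebraMap_iff]
    refine RingHom.Flat.ofLocalizationSpanTarget (algebraMap R S) (s : Set S) hs fun r => ?_
    rw [← IsScalarTower.algebraMap_eq R S (Localization.Away r.1)]
    exact RingHom.flat_algebraMap_iff.mpr (h r.1 r.2).1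
  have hfp : Algebra.FinitePresentation R S := by
    rw [← RingHom.finitePresentation_algebraMap]
    refine RingHom.finitePresentation_ofLocalizationSpanTarget (algebraMap R S) (s : Set S) hs
      fun r => ?_
    rw [← IsScalarTower.algebraMap_eq R S (Localization.Away r.1)]
    exact RingHom.finitePresentation_algebraMap.mpr (h r.1 r.2).2.1
  refine ⟨hflat, hfp, fun p => ⟨inferInstance, fun q => ?_⟩⟩
  obtain ⟨g, hg, hgq⟩ : ∃ g ∈ s, ((1 : p.asIdeal.ResidueField) ⊗ₜ[R] g) ∉ q.asIdeal := by
    by_contra hcon
    push Not at hcon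
    have h1 : (Ideal.span (s : Set S)).map
        (Algebra.TensorProduct.includeRight :
          S →ₐ[R] p.asIdeal.ResidueField ⊗[R] S) ≤ q.asIdeal := by
      rw [Ideal.map_span, Ideal.span_le]
      rintro _ ⟨g, hg, rfl⟩
      exact hcon g hg
    rw [hs, Ideal.map_top] at h1
    exact q.2.ne_top (top_le_iff.mp h1)
  haveI : IsLocalization ((Submonoid.powers g).map
      (Algebra.TensorProduct.includeRight : S →ₐ[R] p.asIdeal.ResidueField ⊗[R] S))
      (Localization.Away ((1 : p.asIdeal.ResidueField) ⊗ₜ[R] g)) := by
    rw [Submonoid.map_powers]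
    exact (inferInstance : IsLocalization.Away ((1 : p.asIdeal.ResidueField) ⊗ₜ[R] g)
      (Localization.Away ((1 : p.asIdeal.ResidueField) ⊗ₜ[R] g)))
  let e : p.asIdeal.ResidueField ⊗[R] Localization.Away g ≃ₐ[p.asIdeal.ResidueField]
      Localization.Away ((1 : p.asIdeal.ResidueField) ⊗ₜ[R] g) :=
    IsLocalization.tensorProductEquivOfMapIncludeRight R p.asIdeal.ResidueField
      (Submonoid.powers g) (Localization.Away g) _
  have h2 := isLCIOver_of_algEquiv _ e ((h g hg).2.2 p)
  exact exists_away_of_isLCIOver_away _ _ h2 q hgq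

end Groth.Agent.Helper4.SyntLocal
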