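import Groth.Prelude.Def_MoreMor
import Groth.Agent.Helper4.IrrCompBC
import Mathlib

set_option autoImplicit false
universe u
open CategoryTheory CategoryTheory.Limits AlgebraicGeometry Opposite TensorProduct

namespace Groth.Agent.Helper4.GeomFibBC

open Groth.Agent.Helper4.GeomConnSch Groth.Agent.Helper4.IrrCompBC

/-- Comparison of base changes of a pullback square along compatible field extensions. -/
theorem exists_isPullback_bc {A A' : Scheme.{u}} {κ κ' : CommRingCat.{u}} (a : A ⟶ Spec κ)
    (a' : A' ⟶ Spec κ') (m : A' ⟶ A) (ρ : κ ⟶ κ') (h : IsPullback m a' a (Spec.map ρ))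
    {Ω Ω' : CommRingCat.{u}} (i : κ ⟶ Ω) (i' : κ' ⟶ Ω') (ψ : Ω ⟶ Ω') (hψ : i ≫ ψ = ρ ≫ i') :
    ∃ n : pullback a' (Spec.map i') ⟶ pullback a (Spec.map i),
      IsPullback n (pullback.snd a' (Spec.map i')) (pullback.snd a (Spec.map i)) (Spec.map ψ) := by
  have h1 : IsPullback (pullback.fst a' (Spec.map i')) (pullback.snd a' (Spec.map i')) a'
      (Spec.map i') := IsPullback.of_hasPullback _ _
  have h2 : IsPullback (pullback.fst a' (Spec.map i') ≫ m) (pullback.snd a' (Spec.map i')) a
      (Spec.map i' ≫ Spec.map ρ) := h1.paste_horiz h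
  have h3 : Spec.map i' ≫ Spec.map ρ = Spec.map ψ ≫ Spec.map i := by
    rw [← Spec.map_comp, ← Spec.map_comp, hψ]
  rw [h3] at h2
  have h4 : IsPullback (pullback.fst a (Spec.map i)) (pullback.snd a (Spec.map i)) a
      (Spec.map i) := IsPullback.of_hasPullback _ _
  let n : pullback a' (Spec.map i') ⟶ pullback a (Spec.map i) :=
    pullback.lift (pullback.fst a' (Spec.map i') ≫ m)
      (pullback.snd a' (Spec.map i') ≫ Spec.map ψ) (by rw [Category.assoc]; exact h2.w)
  refine ⟨n, ?_⟩
  refine IsPullback.of_right ?_ (pullback.lift_snd _ _ _) h4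
  have : n ≫ pullback.fst a (Spec.map i) = pullback.fst a' (Spec.map i') ≫ m :=
    pullback.lift_fst _ _ _
  rw [this]
  exact h2

/-- Base change along an extension of a separably closed field preserves the numbers of
irreducible and connected components. -/
theorem card_components_eq {F F' : Scheme.{u}} {Ω Ω' : Type u} [Field Ω] [Field Ω']
    [IsSepClosed Ω] (ψ : Ω →+* Ω') (b : F ⟶ Spec (CommRingCat.of Ω))
    (b' : F' ⟶ Spec (CommRingCat.of Ω')) (n : F' ⟶ F)
    (h : IsPullback n b' b (Spec.map (CommRingCat.ofHom ψ))) :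
    (irreducibleComponents ↥F').encard = (irreducibleComponents ↥F).encard ∧
      ENat.card (_root_.ConnectedComponents ↥F') = ENat.card (_root_.ConnectedComponents ↥F) := by
  letI := ψ.toAlgebra
  have hψ : CommRingCat.ofHom ψ = CommRingCat.ofHom (algebraMap Ω Ω') := rfl
  rw [hψ] at h
  haveI : GeometricallyIrreducible (Spec.map (CommRingCat.ofHom (algebraMap Ω Ω'))) :=
    geometricallyIrreducible_Spec_of_isSepClosed (k := Ω) Ω'
  haveI : GeometricallyConnected (Spec.map (CommRingCat.ofHom (algebraMap Ω Ω'))) :=
    geometricallyConnected_Spec_of_isSepClosed (k := Ω) Ω'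
  haveI : GeometricallyIrreducible n :=
    MorphismProperty.of_isPullback (P := @GeometricallyIrreducible) h.flip inferInstance
  haveI : GeometricallyConnected n :=
    MorphismProperty.of_isPullback (P := @GeometricallyConnected) h.flip inferInstance
  haveI : UniversallyOpen n :=
    MorphismProperty.of_isPullback (P := @UniversallyOpen) h.flip inferInstance
  exact ⟨Set.encard_congr (n.irreducibleComponentsEquiv n.isOpenMap),
    ENat.card_congr (n.connectedComponentsHomeomorph n.isOpenMap).toEquiv⟩

open Groth in
/-- The geometric fibres of a base change have the same numbers of irreducible and connected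
components. -/
theorem geomFiber_card_eq {X Y X' Y' : Scheme.{u}} (f : X ⟶ Y) (f' : X' ⟶ Y') (g' : X' ⟶ X)
    (g : Y' ⟶ Y) (hc : IsPullback g' f' f g) (y' : Y') :
    (irreducibleComponents ↥(MoreMor.geomFiber f' y')).encard =
        (irreducibleComponents ↥(MoreMor.geomFiber f (g y'))).encard ∧
      ENat.card (_root_.ConnectedComponents ↥(MoreMor.geomFiber f' y')) =
        ENat.card (_root_.ConnectedComponents ↥(MoreMor.geomFiber f (g y'))) := by
  have hp := isPullback_fiberToSpecResidueField_of_isPullback hc y'
  set ρ := g.residueFieldMap y' with hρ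
  letI : Algebra (Y.residueField (g y')) (SeparableClosure (Y'.residueField y')) :=
    ((algebraMap (Y'.residueField y') (SeparableClosure (Y'.residueField y'))).comp ρ.hom).toAlgebra
  let ψ : SeparableClosure (Y.residueField (g y')) →ₐ[Y.residueField (g y')]
      SeparableClosure (Y'.residueField y') := IsSepClosed.lift
  have hψ : CommRingCat.ofHom (algebraMap (Y.residueField (g y'))
      (SeparableClosure (Y.residueField (g y')))) ≫ CommRingCat.ofHom ψ.toRingHom =
      ρ ≫ CommRingCat.ofHom (algebraMap (Y'.residueField y')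
        (SeparableClosure (Y'.residueField y'))) := by
    refine CommRingCat.hom_ext (RingHom.ext fun x => ?_)
    exact ψ.commutes x
  obtain ⟨n, hn⟩ := exists_isPullback_bc _ _ _ ρ hp _ _ _ hψ
  exact card_components_eq ψ.toRingHom _ _ n hn

end Groth.Agent.Helper4.GeomFibBC
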