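import Groth.Prelude.Def_AlgSp4
import Groth.Agent.Helper4.AlgSpQC2
import Mathlib

set_option autoImplicit false
universe u
open CategoryTheory CategoryTheory.Limits AlgebraicGeometry Opposite

namespace Groth.Agent.Helper4.AlgSpUC

open AlgSp Groth.Agent.Helper4.AlgSpPtsDesc Groth.Agent.Helper4.AlgSpQC2

variable {S : Scheme.{u}}

/-- `UnivSp Q` is stable under base change along morphisms from algebraic spaces. -/
theorem univSp_of_isPullback (Q : MorphismProperty (Sp S)) {X Y X' Y' : Sp S} {f : X ⟶ Y}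
    {g : Y' ⟶ Y} {fst : X' ⟶ X} {f' : X' ⟶ Y'} (sq : IsPullback fst f' f g)
    (hf : UnivSp Q f) : UnivSp Q f' := by
  intro W W' hW k a b sq'
  exact hf hW (k ≫ g) (a ≫ fst) b (sq'.paste_horiz sq)

open PrimeSpectrum MvPolynomial in
/-- An algebraic space universally closed over a field has a compact space of points. -/
theorem compactSpace_points_of_univClosed_field {K : Type u} [Field K]
    (str : Spec (CommRingCat.of K) ⟶ S) {Q : Sp S} (hQ : IsAlgSpace Q)
    (q : Q ⟶ (yon S).obj (Over.mk str)) (hq : IsUnivClosedMor q) :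
    CompactSpace (Points Q) := by
  classical
  obtain ⟨W, w, hwe, hws⟩ := hQ.atlas
  have hwo : IsOpenMap (Points.map w) := isOpenMor_of_repWith_etale hQ w hwe
  have hwsurj : Function.Surjective (Points.map w) :=
    Groth.Agent.Helper4.AlgSpPts.isSurjectiveMor_of_repWith w hws
  let φ : ↥W.left → Points Q := fun t => Points.ofPt w t
  have hφ : φ = Points.map w ∘ Points.schemeHomeo W := by
    funext t
    simp only [φ, Function.comp_apply]
    rw [ofPt_eq_map_schemeHomeo]
  have hφo : IsOpenMap φ := by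
    rw [hφ]
    exact hwo.comp (Points.schemeHomeo W).isOpenMap
  have hφs : Function.Surjective φ := by
    rw [hφ]
    exact hwsurj.comp (Points.schemeHomeo W).surjective
  have hφc : Continuous φ := Points.continuous_ofPt w
  let I := W.left.affineOpens
  let U (i : I) : Set (Points Q) := φ '' (i.1 : Set ↥W.left)
  have hUo : ∀ i, IsOpen (U i) := fun i => hφo _ i.1.2
  have hUc : ∀ i, IsCompact (U i) := fun i => i.2.isCompact.image hφc
  have hUcov : ∀ x : Points Q, ∃ i, x ∈ U i := by
    intro x
    obtain ⟨t, rfl⟩ := hφs x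
    have : t ∈ (⊤ : W.left.Opens) := trivial
    rw [← iSup_affineOpens_eq_top W.left] at this
    obtain ⟨i, hi⟩ := TopologicalSpace.Opens.mem_iSup.1 this
    exact ⟨i, t, hi, rfl⟩
  -- the polynomial ring
  let T : Scheme.{u} := Spec (.of <| MvPolynomial I K)
  let qT' : T ⟶ Spec (.of K) := Spec.map (CommRingCat.ofHom MvPolynomial.C)
  let T₀ : Over S := Over.mk (qT' ≫ str)
  let qT : T₀ ⟶ Over.mk str := Over.homMk qT' rfl
  let Ti (i : I) : T.Opens := basicOpen (MvPolynomial.X i)
  have hpb : IsPullback (pullback.fst q ((yon S).map qT)) (pullback.snd q ((yon S).map qT)) q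
      ((yon S).map qT) := IsPullback.of_hasPullback _ _
  have hclosed : IsClosedMap (Points.map (pullback.snd q ((yon S).map qT))) :=
    hq (IsAlgSpace.yon_obj T₀) _ _ _ hpb
  let F : Points (pullback q ((yon S).map qT)) → ↥T :=
    (Points.schemeHomeo T₀).symm ∘ Points.map (pullback.snd q ((yon S).map qT))
  have hFc : Continuous F :=
    (Points.schemeHomeo T₀).symm.continuous.comp (Points.continuous_map _)
  have hFcl : IsClosedMap F := (Points.schemeHomeo T₀).symm.isClosedMap.comp hclosed
  let p : Points (pullback q ((yon S).map qT)) → Points Q :=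
    Points.map (pullback.fst q ((yon S).map qT))
  have hpc : Continuous p := Points.continuous_map _
  let Z : Set (Points (pullback q ((yon S).map qT))) :=
    (⋃ i, F ⁻¹' (Ti i : Set ↥T) ∩ p ⁻¹' (U i))ᶜ
  have hZ : IsClosed Z := by
    simp only [Z, isClosed_compl_iff]
    exact isOpen_iUnion fun i ↦ ((Ti i).2.preimage hFc).inter ((hUo i).preimage hpc)
  let Zc : T.Opens := ⟨(F '' Z)ᶜ, (hFcl _ hZ).isOpen_compl⟩
  let ψ : MvPolynomial I K →ₐ[K] K := MvPolynomial.aeval (fun _ ↦ 1)
  let t : T := Spec.map (CommRingCat.ofHom ψ.toRingHom) default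
  have ht (i : I) : t ∈ Ti i := show ψ (.X i) ≠ 0 by simp [ψ]
  have htZc : t ∈ Zc := by
    intro ⟨z, hz, hzt⟩
    apply hz
    obtain ⟨i, hi⟩ := hUcov (p z)
    exact Set.mem_iUnion.2 ⟨i, by
      refine ⟨?_, hi⟩
      show F z ∈ Ti i
      rw [hzt]; exact ht i⟩
  obtain ⟨U', ⟨g, rfl⟩, htU', hU'le⟩ :=
    TopologicalSpace.Opens.isBasis_iff_nbhd.mp isBasis_basic_opens htZc
  let σ : Finset I := MvPolynomial.vars g
  let φ' : MvPolynomial I K →+* MvPolynomial I K :=
    (MvPolynomial.aeval fun i : I ↦ if i ∈ σ then MvPolynomial.X i else 0).toRingHom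
  let t' : T := Spec.map (CommRingCat.ofHom φ') t
  have ht'g : t' ∈ PrimeSpectrum.basicOpen g :=
    show φ' g ∉ t.asIdeal from (show φ' g = g from aeval_ite_mem_eq_self g subset_rfl).symm ▸ htU'
  have h : t' ∉ F '' Z := hU'le ht'g
  suffices hsuff : ⋃ i ∈ σ, U i = Set.univ from
    ⟨hsuff ▸ Finset.isCompact_biUnion _ fun i _ ↦ hUc i⟩
  rw [Set.iUnion₂_eq_univ_iff]
  contrapose! h
  obtain ⟨x, hx⟩ := h
  have hsub : Subsingleton (Points ((yon S).obj (Over.mk str))) := by
    have : Subsingleton ↥(Over.mk str).left := by dsimp; infer_instance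
    exact (Points.schemeHomeo (Over.mk str)).symm.injective.subsingleton
  obtain ⟨z, hz1, hz2⟩ := exists_point_of_isPullback hpb x (Points.schemeHomeo T₀ t')
    (Subsingleton.elim _ _)
  refine ⟨z, ?_, ?_⟩
  · simp only [Z, Set.mem_compl_iff, Set.mem_iUnion, Set.mem_inter_iff, Set.mem_preimage,
      not_exists, not_and]
    intro i hi₁ hi₂
    have hFz : F z = t' := by
      simp only [F, Function.comp_apply, hz2, Homeomorph.symm_apply_apply]
    rw [hFz] at hi₁
    by_cases hiσ : i ∈ σ
    · exact hx i hiσ (hz1 ▸ hi₂)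
    · have h0 : φ' (.X i) = 0 := by simp [φ', hiσ]
      have : t' ∈ Ti i := hi₁
      have h1 : φ' (.X i) ∉ t.asIdeal := this
      rw [h0] at h1
      exact h1 (Ideal.zero_mem _)
  · simp only [F, Function.comp_apply, hz2, Homeomorph.symm_apply_apply]

/-- An algebraic space with compact space of points is quasi-compact. -/
theorem isQuasiCompactSp_of_compactSpace_points {P : Sp S} (hP : IsAlgSpace P)
    [CompactSpace (Points P)] : IsQuasiCompactSp P := by
  obtain ⟨W₀, w₀, hwe, hws⟩ := hP.atlas
  have hwo : IsOpenMap (Points.map w₀) := isOpenMor_of_repWith_etale hP w₀ hwe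
  have hwsurj : Function.Surjective (Points.map w₀) :=
    Groth.Agent.Helper4.AlgSpPts.isSurjectiveMor_of_repWith w₀ hws
  let φ : ↥W₀.left → Points P := fun t => Points.ofPt w₀ t
  have hφ : φ = Points.map w₀ ∘ Points.schemeHomeo W₀ := by
    funext t
    simp only [φ, Function.comp_apply]
    rw [ofPt_eq_map_schemeHomeo]
  have hφo : IsOpenMap φ := by
    rw [hφ]
    exact hwo.comp (Points.schemeHomeo W₀).isOpenMap
  have hφs : Function.Surjective φ := by
    rw [hφ]
    exact hwsurj.comp (Points.schemeHomeo W₀).surjective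
  let O : W₀.left.affineOpens → Set (Points P) := fun W => φ '' (W.1 : Set ↥W₀.left)
  have hO : ∀ W, IsOpen (O W) := fun W => hφo _ W.1.2
  have hcov : (Set.univ : Set (Points P)) ⊆ ⋃ W, O W := by
    intro y _
    obtain ⟨t, rfl⟩ := hφs y
    have : t ∈ (⊤ : W₀.left.Opens) := trivial
    rw [← iSup_affineOpens_eq_top W₀.left] at this
    obtain ⟨W, hW⟩ := TopologicalSpace.Opens.mem_iSup.1 this
    exact Set.mem_iUnion.2 ⟨W, t, hW, rfl⟩
  obtain ⟨I, hI⟩ := isCompact_univ.elim_finite_subcover O hO hcov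
  let V' : W₀.left.Opens := ⨆ W ∈ I, W.1
  have hV'c : IsCompact (V' : Set ↥W₀.left) := by
    have : (V' : Set ↥W₀.left) = ⋃ W ∈ I, (W.1 : Set ↥W₀.left) := by
      simp [V']
    rw [this]
    exact I.isCompact_biUnion (fun W _ => W.2.isCompact)
  have hV'cs : CompactSpace ↥(opOver W₀ V').left := isCompact_iff_compactSpace.1 hV'c
  have hv'e : RepWith @Etale ((yon S).map (opι W₀ V') ≫ w₀) :=
    Groth.Agent.Helper4.AlgSpSrc.repWith_comp _
      ((repWith_yon_map_iff _ _).2 (by
        show Etale V'.ι
        infer_instance)) hwe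
  refine ⟨opOver W₀ V', (yon S).map (opι W₀ V') ≫ w₀, hv'e, ?_, hV'cs⟩
  apply Groth.Agent.Helper4.AlgSpPts.repWith_surjective_of_isSurjectiveMor _ hv'e.rep
  intro y
  obtain ⟨W, hW⟩ := Set.mem_iUnion.1 (hI (Set.mem_univ y))
  obtain ⟨hWI, t, ht, rfl⟩ := Set.mem_iUnion.1 hW
  have hmem : t ∈ V' := by
    apply TopologicalSpace.Opens.mem_iSup.2
    refine ⟨W, ?_⟩
    apply TopologicalSpace.Opens.mem_iSup.2
    exact ⟨hWI, ht⟩
  refine ⟨Points.schemeHomeo _ (⟨t, hmem⟩ : ↥V'), ?_⟩
  rw [ofPt_eq_map_schemeHomeo, ofPt_yon_map_comp]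
  rfl

/-- A universally closed morphism of algebraic spaces is quasi-compact. -/
theorem isQuasiCompactMor_of_isUnivClosedMor {X Y : Sp S} (hX : IsAlgSpace X) (hY : IsAlgSpace Y)
    (f : X ⟶ Y) (hf : IsUnivClosedMor f) : IsQuasiCompactMor f := by
  rw [Groth.Agent.Helper4.AlgSpQC.isQuasiCompactMor_iff_affine]
  intro Z hZaff g P a b sqP
  have : IsAffine Z.left := hZaff
  have hP : IsAlgSpace P :=
    Groth.Agent.Helper4.AlgSpPB.isAlgSpace_of_isPullback hY.diag hX (IsAlgSpace.yon_obj Z) f g a b
      sqP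
  have hb : IsUnivClosedMor b := univSp_of_isPullback _ sqP hf
  have hbcl : IsClosedMap (Points.map b) :=
    hb (IsAlgSpace.yon_obj Z) (𝟙 _) (𝟙 _) b IsPullback.of_id_fst
  have hfib : ∀ y, IsCompact (Points.map b ⁻¹' {y}) := by
    intro y
    obtain ⟨z, rfl⟩ := (Points.schemeHomeo Z).surjective y
    let K₀ : Over S := Over.mk (Z.left.fromSpecResidueField z ≫ Z.hom)
    let ιz : K₀ ⟶ Z := Over.homMk (Z.left.fromSpecResidueField z) rfl
    have hQ : IsPullback (pullback.fst b ((yon S).map ιz)) (pullback.snd b ((yon S).map ιz)) b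
        ((yon S).map ιz) := .of_hasPullback _ _
    have hQalg : IsAlgSpace (pullback b ((yon S).map ιz)) :=
      Groth.Agent.Helper4.AlgSpPB.isAlgSpace_of_isPullback (IsAlgSpace.yon_obj Z).diag hP
        (IsAlgSpace.yon_obj K₀) _ _ _ _ hQ
    have hq2 : IsUnivClosedMor (pullback.snd b ((yon S).map ιz)) := univSp_of_isPullback _ hQ hb
    have hc := compactSpace_points_of_univClosed_field (K := Z.left.residueField z)
      (Z.left.fromSpecResidueField z ≫ Z.hom) hQalg _ hq2
    have himg : Points.map b ⁻¹' {Points.schemeHomeo Z z} =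
        Set.range (Points.map (pullback.fst b ((yon S).map ιz))) := by
      ext x
      constructor
      · intro hx
        have hx' : Points.map b x = Points.schemeHomeo Z z := hx
        have h1 : Points.map b x = Points.map ((yon S).map ιz)
            (Points.schemeHomeo K₀ (IsLocalRing.closedPoint (Z.left.residueField z))) := by
          rw [hx', Points.map_yon_map_apply]
          congr 1
          exact (Scheme.fromSpecResidueField_apply _ _).symm
        obtain ⟨p, hp1, -⟩ := exists_point_of_isPullback hQ x _ h1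
        exact ⟨p, hp1⟩
      · rintro ⟨p, rfl⟩
        show Points.map b (Points.map _ p) = _
        rw [← Points.map_comp, hQ.w, Points.map_comp]
        obtain ⟨s, hs⟩ := (Points.schemeHomeo K₀).surjective
          (Points.map (pullback.snd b ((yon S).map ιz)) p)
        rw [← hs, Points.map_yon_map_apply]
        congr 1
        exact Scheme.fromSpecResidueField_apply _ _
    rw [himg]
    exact isCompact_range (Points.continuous_map _)
  have hproper : IsProperMap (Points.map b) :=
    isProperMap_iff_isClosedMap_and_compact_fibers.2 ⟨Points.continuous_map b, hbcl, hfib⟩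
  have hZc : CompactSpace (Points ((yon S).obj Z)) := (Points.schemeHomeo Z).compactSpace
  have hPc : CompactSpace (Points P) :=
    ⟨by simpa using hproper.isCompact_preimage isCompact_univ⟩
  exact isQuasiCompactSp_of_compactSpace_points hP

end Groth.Agent.Helper4.AlgSpUC
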