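import Groth.Prelude.Def_AlgSp
import Groth.Agent.Helper4.AlgSpBasic
import Mathlib

set_option autoImplicit false
universe u
open CategoryTheory CategoryTheory.Limits AlgebraicGeometry Opposite

namespace Groth.Agent.Helper4.AlgSpDesc

open AlgSp

variable {S : Scheme.{u}}

set_option backward.isDefEq.respectTransparency.types false in
instance fppfHasIsos : Precoverage.HasIsos Scheme.fppfPrecoverage.{u} := by
  unfold Scheme.fppfPrecoverage
  have : (@Flat ⊓ @LocallyOfFinitePresentation : MorphismProperty Scheme.{u}).ContainsIdentities :=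
    ⟨fun X => ⟨inferInstance, inferInstance⟩⟩
  infer_instance

/-- The cube lemma: base change of a represented pullback. -/
theorem cube {F G H Q : Sp S} {a : F ⟶ G} {b : H ⟶ G} {b' : Q ⟶ F} {a' : Q ⟶ H}
    (sq : IsPullback b' a' a b) {T E T' E' : Over S} {ξ : (yon S).obj T ⟶ G}
    {c : (yon S).obj E ⟶ F} {e : E ⟶ T} (hE : IsPullback c ((yon S).map e) a ξ)
    {g' : T' ⟶ T} {h : (yon S).obj T' ⟶ H} (hh : h ≫ b = (yon S).map g' ≫ ξ)
    {t' : E' ⟶ E} {e' : E' ⟶ T'} (hE' : IsPullback t' e' e g') :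
    ∃ m : (yon S).obj E' ⟶ Q, IsPullback m ((yon S).map e') a' h := by
  have hbig : IsPullback ((yon S).map t' ≫ c) ((yon S).map e') a ((yon S).map g' ≫ ξ) :=
    (hE'.map (yon S)).paste_horiz hE
  have hcomm : ((yon S).map t' ≫ c) ≫ a = ((yon S).map e' ≫ h) ≫ b := by
    rw [Category.assoc _ h b, hh]; exact hbig.w
  refine ⟨sq.lift _ _ hcomm, ?_⟩
  refine IsPullback.of_right ?_ (sq.lift_snd _ _ hcomm) sq
  rw [sq.lift_fst, hh]
  exact hbig

/-- Descent of `RepWith P` along a representable fppf cover, for representable morphisms. -/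
theorem repWith_descend (P : MorphismProperty Scheme.{u})
    (hdesc : ∀ {A X Y Z : Scheme.{u}} {fst : A ⟶ X} {snd : A ⟶ Y} {f : X ⟶ Z} {g : Y ⟶ Z},
      IsPullback fst snd f g → Surjective f → Flat f → LocallyOfFinitePresentation f →
        P fst → P g)
    {F G H Q : Sp S} {a : F ⟶ G} {b : H ⟶ G} {b' : Q ⟶ F} {a' : Q ⟶ H}
    (sq : IsPullback b' a' a b) (hb1 : RepWith @Flat b)
    (hb2 : RepWith @LocallyOfFinitePresentation b) (hb3 : RepWith @Surjective b)
    (ha : Representable a) (ha' : RepWith P a') : RepWith P a := by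
  refine ⟨ha, ?_⟩
  intro T E ξ c e hE
  have hb := hb1.rep
  have hT' : IsPullback (hb.fst ξ) ((yon S).map (hb.snd ξ)) b ξ := hb.isPullback ξ
  have hE' : IsPullback (pullback.fst e (hb.snd ξ)) (pullback.snd e (hb.snd ξ)) e (hb.snd ξ) :=
    IsPullback.of_hasPullback _ _
  obtain ⟨m, hm⟩ := cube sq hE hT'.w hE'
  have hP : P (pullback.snd e (hb.snd ξ)).left := ha'.property (hb.fst ξ) m _ hm
  have hsq : IsPullback (pullback.snd e (hb.snd ξ)).left (pullback.fst e (hb.snd ξ)).left
      (hb.snd ξ).left e.left := hE'.flip.map (Over.forget S)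
  exact hdesc hsq (hb3.property _ _ _ hT') (hb1.property _ _ _ hT') (hb2.property _ _ _ hT') hP

end Groth.Agent.Helper4.AlgSpDesc
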