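import Mathlib
import Groth.Agent.Helper4.RegSop

/-! Length of `R ⧸ 𝔪^i` for a regular local ring. -/

set_option autoImplicit false
universe u

namespace Groth.Agent.Helper4.RegLength

open IsLocalRing MvPolynomial

/-- exponent vectors of degree `n` in `d` variables -/
abbrev S (d n : ℕ) : Finset (Fin d →₀ ℕ) := (Finset.univ : Finset (Fin d)).finsuppAntidiag n

lemma mem_S {d n : ℕ} (α : Fin d →₀ ℕ) : α ∈ S d n ↔ α.degree = n := by
  have h : Finset.univ.sum ⇑α = ∑ i ∈ α.support, α i :=
    (Finset.sum_subset (Finset.subset_univ _)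
      (fun i _ hi => Finsupp.notMem_support_iff.mp hi)).symm
  simp [S, Finset.mem_finsuppAntidiag, Finsupp.degree, h]

lemma card_S (d n : ℕ) : (S d n).card = (d + n - 1).choose n := by
  simp [S, Finset.card_finsuppAntidiag_nat_eq_choose]

variable {R : Type u} [CommRing R] {d : ℕ}

/-- the polynomial with prescribed coefficients in degree `n` -/
noncomputable def poly (n : ℕ) (c : S d n → R) : MvPolynomial (Fin d) R :=
  ∑ α : S d n, monomial α.1 (c α)

lemma poly_isHomogeneous (n : ℕ) (c : S d n → R) : (poly n c).IsHomogeneous n := by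
  refine IsHomogeneous.sum _ _ _ fun α _ => isHomogeneous_monomial _ ?_
  exact (mem_S α.1).mp α.2

lemma coeff_poly (n : ℕ) (c : S d n → R) (α : S d n) : (poly n c).coeff α.1 = c α := by
  classical
  rw [poly, coeff_sum]
  rw [Finset.sum_eq_single α]
  · simp
  · intro β _ hβ
    rw [coeff_monomial, if_neg]
    exact fun h => hβ (Subtype.ext h)
  · intro h; exact absurd (Finset.mem_univ _) h

/-- the monomial `x^α` -/
noncomputable def mon (f : Fin d → R) (α : Fin d →₀ ℕ) : R := α.prod fun i k => f i ^ k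

lemma eval_poly (f : Fin d → R) (n : ℕ) (c : S d n → R) :
    eval f (poly n c) = ∑ α : S d n, c α * mon f α.1 := by
  rw [poly, map_sum]
  exact Finset.sum_congr rfl fun α _ => eval_monomial

lemma mon_mem (f : Fin d → R) {n : ℕ} (α : S d n) :
    mon f α.1 ∈ Ideal.span (Set.range f) ^ n := by
  rw [Ideal.mem_span_pow_iff_exists_isHomogeneous]
  refine ⟨monomial α.1 1, isHomogeneous_monomial _ ?_, by simp [eval_monomial, mon]⟩
  exact (mem_S α.1).mp α.2

variable [IsLocalRing R]

/-- the map `c ↦ Σ c_α x^α mod 𝔪^{n+1}` -/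
noncomputable def Ψ (f : Fin d → R) (n : ℕ) :
    (S d n → R) →ₗ[R] R ⧸ (maximalIdeal R ^ (n + 1)) :=
  (Submodule.mkQ (maximalIdeal R ^ (n + 1))) ∘ₗ
    Fintype.linearCombination R (fun α : S d n => mon f α.1)

lemma Ψ_apply (f : Fin d → R) (n : ℕ) (c : S d n → R) :
    Ψ f n c = Ideal.Quotient.mk (maximalIdeal R ^ (n + 1)) (eval f (poly n c)) := by
  rw [eval_poly]
  simp only [Ψ, LinearMap.comp_apply, Fintype.linearCombination_apply, smul_eq_mul]
  rfl

/-- the projection `R/𝔪^{n+1} → R/𝔪^n` -/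
noncomputable def π (R : Type u) [CommRing R] [IsLocalRing R] (n : ℕ) :
    (R ⧸ (maximalIdeal R ^ (n + 1))) →ₗ[R] R ⧸ (maximalIdeal R ^ n) :=
  Submodule.mapQ _ _ LinearMap.id (by
    intro x hx
    exact Ideal.pow_le_pow_right (Nat.le_succ n) hx)

lemma π_mk (n : ℕ) (x : R) :
    π R n (Ideal.Quotient.mk (maximalIdeal R ^ (n + 1)) x) = Ideal.Quotient.mk (maximalIdeal R ^ n) x :=
  rfl

lemma π_surjective (n : ℕ) : Function.Surjective (π R n) := by
  intro y
  obtain ⟨x, rfl⟩ := Ideal.Quotient.mk_surjective y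
  exact ⟨Ideal.Quotient.mk _ x, rfl⟩

variable (f : Fin d → R) (hf : Ideal.span (Set.range f) = maximalIdeal R)

include hf in
lemma range_Ψ (n : ℕ) : LinearMap.range (Ψ f n) = LinearMap.ker (π R n) := by
  classical
  apply le_antisymm
  · rintro _ ⟨c, rfl⟩
    rw [LinearMap.mem_ker, Ψ_apply, π_mk, Ideal.Quotient.eq_zero_iff_mem, ← hf,
      Ideal.mem_span_pow_iff_exists_isHomogeneous]
    exact ⟨poly n c, poly_isHomogeneous n c, rfl⟩
  · intro y hy
    obtain ⟨z, rfl⟩ := Ideal.Quotient.mk_surjective y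
    rw [LinearMap.mem_ker, π_mk, Ideal.Quotient.eq_zero_iff_mem, ← hf,
      Ideal.mem_span_pow_iff_exists_isHomogeneous] at hy
    obtain ⟨P, hP, rfl⟩ := hy
    refine ⟨fun α => P.coeff α.1, ?_⟩
    rw [Ψ_apply]
    congr 1
    -- poly of coefficients of P is P
    congr 1
    ext β
    by_cases hβ : β ∈ S d n
    · exact coeff_poly n _ ⟨β, hβ⟩
    · have h1 : (poly n fun α : S d n => P.coeff α.1).coeff β = 0 := by
        rw [poly, coeff_sum]
        refine Finset.sum_eq_zero fun α _ => ?_
        rw [coeff_monomial, if_neg]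
        rintro rfl
        exact hβ α.2
      rw [h1]
      by_contra hne
      have hmem : β ∈ P.support := mem_support_iff.mpr (Ne.symm hne)
      have := hP (mem_support_iff.mp hmem)
      have h2 : β.degree = n := by
        rw [Finsupp.degree_eq_weight_one (R := ℕ)]; exact this
      exact hβ ((mem_S β).mpr h2)

include hf in
lemma ker_Ψ (hq : CAlgX.IsQuasiRegular f) (n : ℕ) :
    LinearMap.ker (Ψ f n) = Submodule.pi Set.univ (fun _ : S d n => (maximalIdeal R : Submodule R R)) := by
  ext c
  rw [LinearMap.mem_ker, Ψ_apply, Ideal.Quotient.eq_zero_iff_mem, Submodule.mem_pi]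
  constructor
  · intro h α _
    have := hq n (poly n c) (poly_isHomogeneous n c) (by rw [hf]; exact h) α.1
    rw [coeff_poly, hf] at this
    exact this
  · intro h
    rw [eval_poly]
    refine Ideal.sum_mem _ fun α _ => ?_
    rw [pow_succ']
    refine Ideal.mul_mem_mul (h α trivial) ?_
    rw [← hf]
    exact mon_mem f α

include hf in
lemma length_succ (hq : CAlgX.IsQuasiRegular f) (n : ℕ) :
    Module.length R (R ⧸ (maximalIdeal R ^ (n + 1))) =
      ((S d n).card : ℕ∞) + Module.length R (R ⧸ (maximalIdeal R ^ n)) := by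
  classical
  have h1 := Module.length_eq_add_of_exact (LinearMap.ker (π R n)).subtype (π R n)
    (Submodule.subtype_injective _) (π_surjective n)
    (by rw [LinearMap.exact_iff, Submodule.range_subtype])
  rw [h1]
  congr 1
  rw [← range_Ψ f hf n, ← (LinearMap.quotKerEquivRange (Ψ f n)).length_eq, ker_Ψ f hf hq n,
    (Submodule.quotientPi _).length_eq, Module.length_pi_of_fintype]
  haveI : IsSimpleModule R (R ⧸ (maximalIdeal R : Submodule R R)) :=
    isSimpleModule_iff_isCoatom.mpr (Ideal.isMaximal_def.mp (maximalIdeal.isMaximal R))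
  simp [Module.length_eq_one]

include hf in
theorem length_eq_sum (hq : CAlgX.IsQuasiRegular f) (i : ℕ) :
    Module.length R (R ⧸ (maximalIdeal R ^ i)) = ((∑ n ∈ Finset.range i, (S d n).card : ℕ) : ℕ∞) := by
  induction i with
  | zero =>
    rw [pow_zero, Ideal.one_eq_top, Finset.sum_range_zero, Nat.cast_zero, Module.length_eq_zero_iff]
    exact Submodule.Quotient.subsingleton_iff.mpr rfl
  | succ i ih =>
    rw [length_succ f hf hq i, ih, Finset.sum_range_succ, Nat.cast_add, add_comm]

lemma sum_choose (d i : ℕ) (hi : 1 ≤ i) :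
    ∑ n ∈ Finset.range i, (d + n - 1).choose n = (i + d - 1).choose d := by
  obtain ⟨i, rfl⟩ : ∃ j, i = j + 1 := ⟨i - 1, by omega⟩
  clear hi
  induction i with
  | zero =>
    simp
  | succ i ih =>
    rw [Finset.sum_range_succ, ih]
    rcases Nat.eq_zero_or_pos d with rfl | hd
    · simp
    · obtain ⟨e, rfl⟩ : ∃ e, d = e + 1 := ⟨d - 1, by omega⟩
      have h1 : i + 1 + (e + 1) - 1 = i + e + 1 := by omega
      have h2 : e + 1 + (i + 1) - 1 = i + e + 1 := by omega
      have h3 : i + 1 + 1 + (e + 1) - 1 = i + e + 1 + 1 := by omega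
      rw [h1, h2, h3, Nat.choose_succ_succ' (i + e + 1) e, add_comm]
      congr 1
      rw [← Nat.choose_symm (by omega : i + 1 ≤ i + e + 1)]
      congr 1
      omega

theorem main (R : Type u) [CommRing R] [IsRegularLocalRing R] (d : ℕ) (hd : ringKrullDim R = d)
    (i : ℕ) (hi : 1 ≤ i) :
    Module.length R (R ⧸ maximalIdeal R ^ i) = ((i + d - 1).choose d : ℕ∞) := by
  obtain ⟨f, hf, hq⟩ := Groth.Agent.Helper4.RegSop.exists_quasiRegular R d hd
  rw [length_eq_sum f hf hq i]
  congr 1
  rw [← sum_choose d i hi]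
  exact Finset.sum_congr rfl fun n _ => card_S d n

end Groth.Agent.Helper4.RegLength
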