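import Groth.Agent.Helper4.ConnLimit
import Mathlib

set_option autoImplicit false
universe u
open CategoryTheory CategoryTheory.Limits AlgebraicGeometry Opposite

namespace Groth.Agent.Helper4.ConnImage

open Groth.Agent.Helper4.GalTrans Groth.Agent.Helper4.GeomConnSch Groth.Agent.Helper4.IrrCompBC
  Groth.Agent.Helper4.GalDesc Groth.Agent.Helper4.GeomBC Groth.Agent.Helper4.ConnFinSep
  Groth.Agent.Helper4.GalStable Groth.Agent.Helper4.GeomConnSub Groth.Agent.Helper4.GeomIrrSch

section top
variable {A B : Type*} [TopologicalSpace A] [TopologicalSpace B]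

theorem homeomorph_image_connectedComponent (h : A ≃ₜ B) (x : A) :
    h '' connectedComponent x = connectedComponent (h x) := by
  refine Set.Subset.antisymm (h.continuous.image_connectedComponent_subset x) ?_
  have := h.symm.continuous.image_connectedComponent_subset (h x)
  rw [h.symm_apply_apply] at this
  intro b hb
  exact ⟨h.symm b, this ⟨b, hb, rfl⟩, h.apply_symm_apply b⟩

/-- For an embedding whose range contains the connected component of `β z`, connected
components correspond. -/
theorem isEmbedding_image_connectedComponent (β : A → B) (hβ : Topology.IsEmbedding β) (z : A)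
    (hsub : connectedComponent (β z) ⊆ Set.range β) :
    β '' connectedComponent z = connectedComponent (β z) := by
  refine Set.Subset.antisymm (hβ.continuous.image_connectedComponent_subset z) ?_
  have h1 : β '' (β ⁻¹' connectedComponent (β z)) = connectedComponent (β z) := by
    rw [Set.image_preimage_eq_inter_range, Set.inter_eq_left.mpr hsub]
  have h2 : _root_.IsPreconnected (β ⁻¹' connectedComponent (β z)) := by
    rw [← hβ.isInducing.isPreconnected_image, h1]
    exact isPreconnected_connectedComponent
  have h3 : β ⁻¹' connectedComponent (β z) ⊆ connectedComponent z :=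
    h2.subset_connectedComponent (show β z ∈ connectedComponent (β z) from mem_connectedComponent)
  rw [← h1]
  exact Set.image_mono h3

end top

variable {k : Type u} [Field k]

/-- A closed connected subset as a connected closed subscheme. -/
theorem exists_closedImmersion_connected (X : Scheme.{u}) (C : Set X) (hC : IsClosed C)
    (hconn : _root_.IsConnected C) :
    ∃ (Z : Scheme.{u}) (ι : Z ⟶ X), IsClosedImmersion ι ∧ Set.range ι = C ∧ ConnectedSpace Z := by
  obtain ⟨Z, ι, hι, hr⟩ := exists_closedImmersion_range X C hC
  refine ⟨Z, ι, hι, hr, ?_⟩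
  rw [connectedSpace_iff_univ]
  have himg : ι '' Set.univ = C := by rw [Set.image_univ, hr]
  have hpre : _root_.IsPreconnected (ι '' Set.univ) := by
    rw [himg]; exact hconn.isPreconnected
  refine ⟨?_, ι.isEmbedding.isInducing.isPreconnected_image.mp hpre⟩
  obtain ⟨c, hc⟩ := hconn.nonempty
  rw [← hr] at hc
  obtain ⟨z, -⟩ := hc
  exact ⟨z, trivial⟩

/-- Theorem A: for a normal algebraic extension `K / k` the image of a connected component of
`X_K` is a connected component of `X`. -/
theorem image_cc_of_normal (X : Scheme.{u}) [X.Over (Spec (CommRingCat.of k))]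
    (K : Type u) [Field K] [Algebra k K] [Normal k K] (x' : ↥(Curv2.bc k X K)) :
    Curv2.bcFst k X K '' connectedComponent x' = connectedComponent (Curv2.bcFst k X K x') := by
  set f := X ↘ Spec (CommRingCat.of k) with hf
  let π := Curv2.bcFst k X K
  have hsub1 : π '' connectedComponent x' ⊆ connectedComponent (π x') :=
    π.continuous.image_connectedComponent_subset x'
  obtain ⟨Z, ι, hι, hr, hZ⟩ := exists_closedImmersion_connected X (connectedComponent (π x'))
    isClosed_connectedComponent isConnected_connectedComponent
  letI : Z.Over (Spec (CommRingCat.of k)) := ⟨ι ≫ f⟩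
  let β := bcHom ι f K
  have hrange : Set.range β = π ⁻¹' connectedComponent (π x') := by
    rw [range_bcHom, hr]
  have hx' : x' ∈ Set.range β := by
    rw [hrange]; exact mem_connectedComponent
  obtain ⟨z', rfl⟩ := hx'
  have hcc : connectedComponent (β z') ⊆ Set.range β := by
    rw [hrange]
    intro t ht
    exact hsub1 ⟨t, ht, rfl⟩
  have h1 := isEmbedding_image_connectedComponent β β.isEmbedding z' hcc
  have h2 : Curv2.bcFst k Z K '' connectedComponent z' = Set.univ :=
    ConnLimit.image_connectedComponent_eq_univ (k := k) (X := Z) (K := K) z'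
  have h3 : ∀ t, π (β t) = ι (Curv2.bcFst k Z K t) := fun t => bcHom_fst_apply ι f K t
  have h4 : π '' (β '' connectedComponent z') =
      ι '' (Curv2.bcFst k Z K '' connectedComponent z') := by
    rw [Set.image_image, Set.image_image]
    exact Set.image_congr fun t _ => h3 t
  rw [← h1]
  show π '' (β '' connectedComponent z') = _
  rw [h4, h2, Set.image_univ, hr]

/-- Theorem B (canonical pullback): over a separably closed field. -/
theorem image_cc_of_isSepClosed₀ [IsSepClosed k] {Y : Scheme.{u}}
    (g : Y ⟶ Spec (CommRingCat.of k)) (Ω : Type u) [Field Ω] [Algebra k Ω]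
    (y' : ↥(pullback g (Spec.map (CommRingCat.ofHom (algebraMap k Ω))))) :
    pullback.fst g (Spec.map (CommRingCat.ofHom (algebraMap k Ω))) '' connectedComponent y' =
      connectedComponent (pullback.fst g (Spec.map (CommRingCat.ofHom (algebraMap k Ω))) y') := by
  set π := pullback.fst g (Spec.map (CommRingCat.ofHom (algebraMap k Ω))) with hπ
  have hsub1 : π '' connectedComponent y' ⊆ connectedComponent (π y') :=
    π.continuous.image_connectedComponent_subset y'
  refine Set.Subset.antisymm hsub1 ?_
  obtain ⟨Z, ι, hι, hr, hZ⟩ := exists_closedImmersion_connected Y (connectedComponent (π y'))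
    isClosed_connectedComponent isConnected_connectedComponent
  haveI : ConnectedSpace ↥(pullback (ι ≫ g) (Spec.map (CommRingCat.ofHom (algebraMap k Ω)))) :=
    connectedSpace_bc_of_isSepClosed (ι ≫ g) Ω
  have hrange : Set.range (bcHom ι g Ω) = π ⁻¹' connectedComponent (π y') := by
    rw [range_bcHom, hr]
  have hconn : _root_.IsConnected (π ⁻¹' connectedComponent (π y')) := by
    rw [← hrange]
    exact isConnected_range (bcHom ι g Ω).continuous
  have hsub2 : π ⁻¹' connectedComponent (π y') ⊆ connectedComponent y' :=
    hconn.isPreconnected.subset_connectedComponent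
      (show π y' ∈ connectedComponent (π y') from mem_connectedComponent)
  intro c hc
  obtain ⟨z, hz⟩ := bc_fst_surjective g Ω c
  exact ⟨z, hsub2 (show π z ∈ _ from hz ▸ hc), hz⟩

/-- Theorem B for an arbitrary pullback square. -/
theorem image_cc_of_isSepClosed [IsSepClosed k] {Y Y' : Scheme.{u}}
    (g : Y ⟶ Spec (CommRingCat.of k)) (Ω : Type u) [Field Ω] [Algebra k Ω]
    (ρ : Y' ⟶ Y) (g' : Y' ⟶ Spec (CommRingCat.of Ω))
    (h : IsPullback ρ g' g (Spec.map (CommRingCat.ofHom (algebraMap k Ω)))) (y' : Y') :
    ρ '' connectedComponent y' = connectedComponent (ρ y') := by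
  let e := h.isoPullback
  have he : e.hom ≫ pullback.fst g _ = ρ := h.isoPullback_hom_fst
  have hpt : ∀ t, ρ t = pullback.fst g (Spec.map (CommRingCat.ofHom (algebraMap k Ω))) (e.hom t) :=
    fun t => by rw [← he]; rfl
  have h1 := homeomorph_image_connectedComponent e.hom.homeomorph y'
  have h2 := image_cc_of_isSepClosed₀ g Ω (e.hom y')
  rw [hpt y', ← h2]
  have h1' : e.hom '' connectedComponent y' = connectedComponent (e.hom y') := h1
  rw [← h1', Set.image_image]
  exact Set.image_congr fun t _ => hpt t

/-- The image in `X` of a connected component of `X_K` is a connected component of `X`. -/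
theorem image_cc (X : Scheme.{u}) [X.Over (Spec (CommRingCat.of k))]
    (K : Type u) [Field K] [Algebra k K] (x' : ↥(Curv2.bc k X K)) :
    Curv2.bcFst k X K '' connectedComponent x' = connectedComponent (Curv2.bcFst k X K x') := by
  set f := X ↘ Spec (CommRingCat.of k) with hf
  let L := AlgebraicClosure K
  let kb : IntermediateField k L := algebraicClosure k L
  haveI : IsAlgClosed kb := IsAlgClosure.isAlgClosed k
  have hsub1 : Curv2.bcFst k X K '' connectedComponent x' ⊆
      connectedComponent (Curv2.bcFst k X K x') :=
    (Curv2.bcFst k X K).continuous.image_connectedComponent_subset x'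
  refine Set.Subset.antisymm hsub1 ?_
  obtain ⟨x'', hx''⟩ := bcMap_surjective f K L x'
  -- the two towers
  have hB := image_cc_of_isSepClosed (k := kb) (pullback.snd f _) L (bcMap f kb L)
    (pullback.snd f _) (isPullback_bcMap f kb L) x''
  have hA := image_cc_of_normal (k := k) X kb (bcMap f kb L x'')
  have hL : ∀ t, Curv2.bcFst k X kb (bcMap f kb L t) = Curv2.bcFst k X L t :=
    fun t => bcMap_fst_apply f kb L t
  have hK : ∀ t, Curv2.bcFst k X K (bcMap f K L t) = Curv2.bcFst k X L t :=
    fun t => bcMap_fst_apply f K L t
  have h1 : connectedComponent (Curv2.bcFst k X K x') =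
      Curv2.bcFst k X L '' connectedComponent x'' := by
    rw [← hx'', hK, ← hL, ← hA, ← hB, Set.image_image]
    exact Set.image_congr fun t _ => hL t
  rw [h1]
  rintro _ ⟨t, ht, rfl⟩
  refine ⟨bcMap f K L t, ?_, hK t⟩
  rw [← hx'']
  exact (bcMap f K L).continuous.image_connectedComponent_subset x'' ⟨t, ht, rfl⟩

end Groth.Agent.Helper4.ConnImage
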