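import Groth.Agent.Helper4.GeomRed2
import Mathlib

set_option autoImplicit false
universe u v
open TensorProduct

namespace Groth.Agent.Helper4.GeomRedMin

section
variable {F A A' B : Type*} [Field F] [CommRing A] [Algebra F A] [CommRing A'] [Algebra F A']
  [CommRing B] [Algebra F B] {ι : Type*} (𝓑 : Module.Basis ι F B)

/-- coordinates are compatible with maps of the left factor -/
theorem repr_map (φ : A →ₐ[F] A') (x : A ⊗[F] B) (i : ι) :
    (Algebra.TensorProduct.basis A' 𝓑).repr
      (Algebra.TensorProduct.map φ (AlgHom.id F B) x) i =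
      φ ((Algebra.TensorProduct.basis A 𝓑).repr x i) := by
  induction x using TensorProduct.induction_on with
  | zero => simp
  | tmul c y =>
    simp only [Algebra.TensorProduct.map_tmul, AlgHom.coe_id, id_eq,
      Algebra.TensorProduct.basis_repr_tmul, Finsupp.smul_apply, Finsupp.mapRange_apply,
      smul_eq_mul, map_mul, AlgHom.commutes]
  | add x y hx hy => simp only [map_add, Finsupp.add_apply, hx, hy]

end

/-- A reduced algebra which maps, for every minimal prime `𝔭`, to a geometrically reduced algebra
with kernel inside `𝔭`, is geometrically reduced. -/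
theorem isGeometricallyReduced_of_minimalPrimes {k : Type u} [Field k] (R : Type u) [CommRing R]
    [Algebra k R] [IsReduced R]
    (h : ∀ 𝔭 ∈ minimalPrimes R, ∃ (R' : Type u) (_ : CommRing R') (_ : Algebra k R')
      (_ : Algebra.IsGeometricallyReduced k R') (φ : R →ₐ[k] R'), RingHom.ker φ.toRingHom ≤ 𝔭) :
    Algebra.IsGeometricallyReduced k R := by
  rw [Algebra.isGeometricallyReduced_field_iff]
  set K := AlgebraicClosure k
  suffices hRK : IsReduced (R ⊗[k] K) from
    isReduced_of_injective (Algebra.TensorProduct.comm k K R).toRingHom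
      (Algebra.TensorProduct.comm k K R).injective
  let 𝓑 := Module.Free.chooseBasis k K
  constructor
  intro z hz
  have hcoord : ∀ i, (Algebra.TensorProduct.basis R 𝓑).repr z i = 0 := by
    intro i
    have hmem : (Algebra.TensorProduct.basis R 𝓑).repr z i ∈ nilradical R := by
      rw [nilradical_eq_sInf, Ideal.mem_sInf]
      intro 𝔮 h𝔮
      haveI : 𝔮.IsPrime := h𝔮
      obtain ⟨𝔭, h𝔭, hle⟩ := Ideal.exists_minimalPrimes_le (I := ⊥) (J := 𝔮) bot_le
      apply hle
      obtain ⟨R', _, _, _, φ, hφ⟩ := h 𝔭 h𝔭
      apply hφ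
      rw [RingHom.mem_ker]
      show φ _ = 0
      rw [← repr_map 𝓑 φ z i]
      have h1 : IsNilpotent (Algebra.TensorProduct.map φ (AlgHom.id k K) z) := hz.map _
      have h2 : IsReduced (R' ⊗[k] K) :=
        isReduced_of_injective (Algebra.TensorProduct.comm k R' K).toRingHom
          (Algebra.TensorProduct.comm k R' K).injective
      rw [h2.eq_zero _ h1]
      simp
    rw [nilradical_eq_zero] at hmem
    exact hmem
  apply (Algebra.TensorProduct.basis R 𝓑).repr.injective
  ext i
  rw [hcoord i]
  simp

end Groth.Agent.Helper4.GeomRedMin
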