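import Groth.Prelude.Def_FDesc
import Groth.Agent.Helper5.StalkRed
import Mathlib

set_option autoImplicit false
universe u
open CategoryTheory CategoryTheory.Limits AlgebraicGeometry Opposite TensorProduct

namespace Groth.Agent.Helper4.GeomBC

open Groth.Agent.Helper5.StalkRed

/-- A property of rings which descends along injective ring homomorphisms. -/
def Desc (P : ∀ (R : Type u) [CommRing R], Prop) : Prop :=
  ∀ (R S : Type u) [CommRing R] [CommRing S] (φ : R →+* S), Function.Injective φ → P S → P R

theorem desc_isReduced : Desc (fun R _ => _root_.IsReduced R) :=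
  fun _ _ _ _ φ hφ _ => isReduced_of_injective φ hφ

theorem desc_isDomain : Desc (fun R _ => IsDomain R) :=
  fun _ _ _ _ φ hφ _ => hφ.isDomain φ

section stalk

variable {P : ∀ (R : Type u) [CommRing R], Prop} (hP : Desc P)
include hP

theorem stalk_of_flat {A B : Scheme.{u}} (g : A ⟶ B) [Flat g] (a : A)
    (h : P (A.presheaf.stalk a)) : P (B.presheaf.stalk (g a)) := by
  have hfl : (g.stalkMap a).hom.Flat := Flat.stalkMap g a
  algebraize [(g.stalkMap a).hom]
  have : IsLocalHom (algebraMap (B.presheaf.stalk (g a)) (A.presheaf.stalk a)) := by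
    show IsLocalHom (g.stalkMap a).hom
    infer_instance
  have hff : Module.FaithfullyFlat (B.presheaf.stalk (g a)) (A.presheaf.stalk a) :=
    Module.FaithfullyFlat.of_flat_of_isLocalHom
  have hinj : Function.Injective (algebraMap (B.presheaf.stalk (g a)) (A.presheaf.stalk a)) :=
    FaithfulSMul.algebraMap_injective _ _
  exact hP _ _ _ hinj h

theorem stalk_iff {A B : Scheme.{u}} (g : A ⟶ B) [Flat g] [SurjectiveOnStalks g] (a : A) :
    P (A.presheaf.stalk a) ↔ P (B.presheaf.stalk (g a)) := by
  refine ⟨stalk_of_flat hP g a, fun h => ?_⟩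
  have hfl : (g.stalkMap a).hom.Flat := Flat.stalkMap g a
  have hsurj : Function.Surjective (g.stalkMap a).hom := g.stalkMap_surjective a
  algebraize [(g.stalkMap a).hom]
  have : IsLocalHom (algebraMap (B.presheaf.stalk (g a)) (A.presheaf.stalk a)) := by
    show IsLocalHom (g.stalkMap a).hom
    infer_instance
  have hff : Module.FaithfullyFlat (B.presheaf.stalk (g a)) (A.presheaf.stalk a) :=
    Module.FaithfullyFlat.of_flat_of_isLocalHom
  have hinj : Function.Injective (algebraMap (B.presheaf.stalk (g a)) (A.presheaf.stalk a)) :=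
    FaithfulSMul.algebraMap_injective _ _
  let e : B.presheaf.stalk (g a) ≃+* A.presheaf.stalk a :=
    RingEquiv.ofBijective (algebraMap (B.presheaf.stalk (g a)) (A.presheaf.stalk a))
      ⟨hinj, hsurj⟩
  exact hP _ _ e.symm.toRingHom e.symm.injective h

end stalk

variable {k : Type u} [Field k] {X : Scheme.{u}} (f : X ⟶ Spec (CommRingCat.of k))

/-- The morphism `X_Ω ⟶ X_K` induced by a `k`-embedding `K → Ω`. -/
noncomputable def bcMap (K Ω : Type u) [Field K] [Field Ω] [Algebra k K] [Algebra k Ω]
    [Algebra K Ω] [IsScalarTower k K Ω] :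
    pullback f (Spec.map (CommRingCat.ofHom (algebraMap k Ω))) ⟶
      pullback f (Spec.map (CommRingCat.ofHom (algebraMap k K))) :=
  pullback.map f (Spec.map (CommRingCat.ofHom (algebraMap k Ω))) f
    (Spec.map (CommRingCat.ofHom (algebraMap k K))) (𝟙 X)
    (Spec.map (CommRingCat.ofHom (algebraMap K Ω))) (𝟙 _) (by simp)
    (by rw [Category.comp_id, ← Spec.map_comp, ← CommRingCat.ofHom_comp,
      ← IsScalarTower.algebraMap_eq])

variable (K Ω : Type u) [Field K] [Field Ω] [Algebra k K] [Algebra k Ω]
    [Algebra K Ω] [IsScalarTower k K Ω]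

@[reassoc]
theorem bcMap_fst : bcMap f K Ω ≫ pullback.fst _ _ = pullback.fst _ _ := by
  unfold bcMap pullback.map
  rw [pullback.lift_fst, Category.comp_id]

@[reassoc]
theorem bcMap_snd : bcMap f K Ω ≫ pullback.snd _ _ =
    pullback.snd _ _ ≫ Spec.map (CommRingCat.ofHom (algebraMap K Ω)) := by
  unfold bcMap pullback.map
  rw [pullback.lift_snd]

theorem isPullback_bcMap :
    IsPullback (bcMap f K Ω) (pullback.snd f (Spec.map (CommRingCat.ofHom (algebraMap k Ω))))
      (pullback.snd f (Spec.map (CommRingCat.ofHom (algebraMap k K))))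
      (Spec.map (CommRingCat.ofHom (algebraMap K Ω))) := by
  have hbot : IsPullback (pullback.snd f (Spec.map (CommRingCat.ofHom (algebraMap k K))))
      (pullback.fst f (Spec.map (CommRingCat.ofHom (algebraMap k K))))
      (Spec.map (CommRingCat.ofHom (algebraMap k K))) f :=
    (IsPullback.of_hasPullback f (Spec.map (CommRingCat.ofHom (algebraMap k K)))).flip
  have hbig : IsPullback (pullback.snd f (Spec.map (CommRingCat.ofHom (algebraMap k Ω))))
      (bcMap f K Ω ≫ pullback.fst f (Spec.map (CommRingCat.ofHom (algebraMap k K))))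
      (Spec.map (CommRingCat.ofHom (algebraMap K Ω)) ≫
        Spec.map (CommRingCat.ofHom (algebraMap k K))) f := by
    have h2 : Spec.map (CommRingCat.ofHom (algebraMap K Ω)) ≫
        Spec.map (CommRingCat.ofHom (algebraMap k K)) =
        Spec.map (CommRingCat.ofHom (algebraMap k Ω)) := by
      rw [← Spec.map_comp, ← CommRingCat.ofHom_comp, ← IsScalarTower.algebraMap_eq]
    rw [bcMap_fst, h2]
    exact (IsPullback.of_hasPullback f (Spec.map (CommRingCat.ofHom (algebraMap k Ω)))).flip
  exact (IsPullback.of_bot hbig (bcMap_snd f K Ω).symm hbot).flip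

instance : Flat (bcMap f K Ω) := by
  haveI : Flat (Spec.map (CommRingCat.ofHom (algebraMap K Ω))) := by
    rw [HasRingHomProperty.Spec_iff (P := @Flat)]
    show RingHom.Flat (algebraMap K Ω)
    rw [RingHom.flat_algebraMap_iff]
    infer_instance
  exact MorphismProperty.of_isPullback (P := @Flat) (isPullback_bcMap f K Ω).flip inferInstance

end Groth.Agent.Helper4.GeomBC
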