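import Groth.Agent.Helper4.GeomRedPt2
import Groth.Agent.Helper4.GeomRedMin
import Groth.Agent.Helper4.GeomBC
import Groth.Agent.Helper2.RedNhd
import Mathlib

set_option autoImplicit false
universe u
open CategoryTheory CategoryTheory.Limits AlgebraicGeometry Opposite TopologicalSpace

namespace Groth.Agent.Helper4.GeomRedOpen

open Groth.Agent.Helper4.GeomRedPt Groth.Agent.Helper4.GeomRedPt2

/-- The point of `X` attached to a minimal prime of a local ring is a generic point of an
irreducible component, and the kernel of the cospecialization map lies in the prime. -/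
theorem minimalPrime_point {X : Scheme.{u}} (y : X) (𝔭 : Ideal (X.presheaf.stalk y))
    (h𝔭 : 𝔭 ∈ minimalPrimes (X.presheaf.stalk y)) :
    ∃ (η : X) (hη : η ⤳ y), closure {η} ∈ irreducibleComponents (X : Type u) ∧
      RingHom.ker (X.presheaf.stalkSpecializes hη).hom ≤ 𝔭 := by
  haveI h𝔭p : 𝔭.IsPrime := h𝔭.1.1
  let j := X.fromSpecStalk y
  let r : ↥(Spec (X.presheaf.stalk y)) := ⟨𝔭, h𝔭p⟩
  let η : X := j r
  have hηx : η ⤳ y := by
    have : η ∈ Set.range j := ⟨r, rfl⟩
    rw [Scheme.range_fromSpecStalk] at this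
    exact this
  have hjinj : Function.Injective j := j.isEmbedding.injective
  refine ⟨η, hηx, ?_, ?_⟩
  · refine ⟨isIrreducible_singleton.closure, ?_⟩
    intro Z' hZ' hle
    have hZc : IsIrreducible (closure Z') := hZ'.closure
    obtain ⟨ζ, hζ⟩ := QuasiSober.sober hZc isClosed_closure
    have hηZ : η ∈ closure Z' := subset_closure (hle (subset_closure rfl))
    have hζη : ζ ⤳ η := by
      rw [specializes_iff_mem_closure, hζ.def]
      exact hηZ
    have hζmem : ζ ∈ Set.range j := by
      rw [Scheme.range_fromSpecStalk]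
      exact hζη.trans hηx
    obtain ⟨r', hr'⟩ := hζmem
    have hspec : r' ⤳ r := by
      rw [← j.isEmbedding.toIsInducing.specializes_iff, hr']
      exact hζη
    have hle' : r'.asIdeal ≤ 𝔭 := (PrimeSpectrum.le_iff_specializes r' r).mpr hspec
    have heq : r'.asIdeal = 𝔭 := le_antisymm hle' (h𝔭.2 ⟨r'.isPrime, bot_le⟩ hle')
    have hrr : r' = r := PrimeSpectrum.ext heq
    have hζeq : ζ = η := by rw [← hr', hrr]
    calc Z' ⊆ closure Z' := subset_closure
      _ = closure {ζ} := hζ.def.symm
      _ = closure {η} := by rw [hζeq]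
  · have hpt : (Spec.map (X.presheaf.stalkSpecializes hηx))
        (IsLocalRing.closedPoint (X.presheaf.stalk η)) = r := by
      apply hjinj
      rw [← Scheme.Hom.comp_apply, Scheme.SpecMap_stalkSpecializes_fromSpecStalk]
      exact Scheme.fromSpecStalk_closedPoint
    intro a ha
    have h1 : a ∈ ((Spec.map (X.presheaf.stalkSpecializes hηx))
        (IsLocalRing.closedPoint (X.presheaf.stalk η))).asIdeal := by
      show (X.presheaf.stalkSpecializes hηx).hom a ∈ IsLocalRing.maximalIdeal _
      have : (X.presheaf.stalkSpecializes hηx).hom a = 0 := ha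
      rw [this]
      exact Ideal.zero_mem _
    rw [hpt] at h1
    exact h1

variable {k : Type u} [Field k]

/-- A point with reduced local ring all of whose "generic generizations" are geometrically reduced
points is a geometrically reduced point. -/
theorem geomReducedAt_of_generic {X : Scheme.{u}} (f : X ⟶ Spec (CommRingCat.of k)) (y : X)
    [_root_.IsReduced (X.presheaf.stalk y)]
    (h : ∀ η : X, η ⤳ y → closure {η} ∈ irreducibleComponents (X : Type u) →
      FBase.IsGeomReducedAt f η) : FBase.IsGeomReducedAt f y := by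
  letI : X.Over (Spec (CommRingCat.of k)) := ⟨f⟩
  show Curv2.IsGeomReducedAt k X y
  rw [curv2_geomReducedAt_iff]
  letI := Curv2.stalkAlgebra k X y
  show Algebra.IsGeometricallyReduced k (X.presheaf.stalk y)
  apply Groth.Agent.Helper4.GeomRedMin.isGeometricallyReduced_of_minimalPrimes
  intro 𝔭 h𝔭
  obtain ⟨η, hηy, hcomp, hker⟩ := minimalPrime_point y 𝔭 h𝔭
  have hgr : Curv2.IsGeomReducedAt k X η := h η hηy hcomp
  rw [curv2_geomReducedAt_iff] at hgr
  letI := Curv2.stalkAlgebra k X η
  let φ : X.presheaf.stalk y →ₐ[k] X.presheaf.stalk η :=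
    { toRingHom := (X.presheaf.stalkSpecializes hηy).hom
      commutes' := by
        intro a
        show (X.presheaf.stalkSpecializes _).hom ((X.presheaf.germ ⊤ y trivial).hom _) =
          (X.presheaf.germ ⊤ η trivial).hom _
        rw [← CommRingCat.comp_apply, TopCat.Presheaf.germ_stalkSpecializes] }
  exact ⟨X.presheaf.stalk η, inferInstance, Curv2.stalkAlgebra k X η, hgr, φ, hker⟩

/-- Noetherian case of the openness of the geometrically reduced locus. -/
theorem isOpen_of_noetherianSpace {X : Scheme.{u}} [IsLocallyNoetherian X] [NoetherianSpace X]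
    (f : X ⟶ Spec (CommRingCat.of k)) : IsOpen {x : X | FBase.IsGeomReducedAt f x} := by
  rw [isOpen_iff_forall_mem_open]
  intro x hx
  -- the local ring at x is reduced
  haveI hredx : _root_.IsReduced (X.presheaf.stalk x) := by
    haveI : Subsingleton ↥(Spec (CommRingCat.of k)) :=
      inferInstanceAs (Subsingleton (PrimeSpectrum k))
    have hiso : IsIso (Spec.map (CommRingCat.ofHom (algebraMap k k))) := by
      have : CommRingCat.ofHom (algebraMap k k) = 𝟙 (CommRingCat.of k) := rfl
      rw [this, Spec.map_id]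
      infer_instance
    let p := pullback.fst f (Spec.map (CommRingCat.ofHom (algebraMap k k)))
    haveI : IsIso p := inferInstance
    let x' := (inv p) x
    have hx' : p x' = x := by
      show p ((inv p) x) = x
      rw [← Scheme.Hom.comp_apply, IsIso.inv_hom_id]
      rfl
    have h1 : _root_.IsReduced
        ((pullback f (Spec.map (CommRingCat.ofHom (algebraMap k k)))).presheaf.stalk x') :=
      hx k x' hx'
    have h2 := (Groth.Agent.Helper4.GeomBC.stalk_iff
      Groth.Agent.Helper4.GeomBC.desc_isReduced p x').mp h1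
    rwa [hx'] at h2
  obtain ⟨V₂, hxV₂, hV₂⟩ := Groth.Agent.Helper2.RedNhd.exists_isReduced_nhd x
  have hfin : (irreducibleComponents (X : Type u)).Finite :=
    NoetherianSpace.finite_irreducibleComponents
  let Bad : Set (Set X) := {C ∈ irreducibleComponents (X : Type u) | x ∉ C}
  have hBadfin : Bad.Finite := hfin.subset (fun C hC => hC.1)
  have hclosed : IsClosed (⋃₀ Bad) := by
    rw [Set.sUnion_eq_biUnion]
    exact hBadfin.isClosed_biUnion (fun C hC => isClosed_of_mem_irreducibleComponents C hC.1)
  refine ⟨(⋃₀ Bad)ᶜ ∩ (V₂ : Set X), ?_, hclosed.isOpen_compl.inter V₂.isOpen, ?_⟩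
  · rintro y ⟨hy1, hy2⟩
    haveI : _root_.IsReduced (X.presheaf.stalk y) := by
      have h1 : _root_.IsReduced ((V₂ : Scheme).presheaf.stalk (⟨y, hy2⟩ : V₂)) :=
        inferInstance
      exact (Groth.Agent.Helper4.GeomBC.stalk_iff
        Groth.Agent.Helper4.GeomBC.desc_isReduced V₂.ι ⟨y, hy2⟩).mp h1
    apply geomReducedAt_of_generic f y
    intro η hηy hcomp
    apply geomReducedAt_of_specializes f x η _ hx
    by_contra hcon
    apply hy1
    refine ⟨closure {η}, ⟨hcomp, fun hxm => hcon (specializes_iff_mem_closure.mpr hxm)⟩, ?_⟩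
    exact specializes_iff_mem_closure.mp hηy
  · refine ⟨?_, hxV₂⟩
    rintro ⟨C, hC, hxC⟩
    exact hC.2 hxC

/-- The geometrically reduced locus of a locally Noetherian scheme over a field is open. -/
theorem isOpen_geomReducedLocus {X : Scheme.{u}} [IsLocallyNoetherian X]
    (f : X ⟶ Spec (CommRingCat.of k)) : IsOpen {x : X | FBase.IsGeomReducedAt f x} := by
  rw [isOpen_iff_forall_mem_open]
  intro x hx
  obtain ⟨_, ⟨U, hU, rfl⟩, hxU, -⟩ :=
    X.isBasis_affineOpens.exists_subset_of_mem_open (Set.mem_univ x) isOpen_univ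
  have hU' : IsAffineOpen (U : X.Opens) := hU
  haveI : IsNoetherianRing Γ(X, U) := IsLocallyNoetherian.component_noetherian ⟨U, hU'⟩
  haveI : NoetherianSpace (U : X.Opens) := noetherianSpace_of_isAffineOpen U hU'
  have hopen := isOpen_of_noetherianSpace (X := (U : X.Opens)) ((Scheme.Opens.ι (X := X) U) ≫ f)
  refine ⟨(Scheme.Opens.ι (X := X) U) '' {u | FBase.IsGeomReducedAt ((Scheme.Opens.ι (X := X) U) ≫ f) u}, ?_,
    (Scheme.Opens.ι (X := X) U).isOpenEmbedding.isOpenMap _ hopen, ⟨(⟨x, hxU⟩ : (U : X.Opens)), ?_, rfl⟩⟩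
  · rintro _ ⟨u, hu, rfl⟩
    exact Groth.Agent.Helper5.GeomRed.geomReducedAt_of_comp_etale f (Scheme.Opens.ι (X := X) U) u hu
  · exact Groth.Agent.Helper5.GeomRed.geomReducedAt_comp_of_etale f (Scheme.Opens.ι (X := X) U)
      (⟨x, hxU⟩ : (U : X.Opens)) hx

end Groth.Agent.Helper4.GeomRedOpen
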