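import Mathlib

set_option autoImplicit false
universe u
open CategoryTheory CategoryTheory.Limits AlgebraicGeometry

namespace Groth.Agent.Helper4.GrpConnA

/-- the generic point of an irreducible component is a maximal point -/
lemma eq_of_specializes_genericPoint {X : Type*} [TopologicalSpace X] [T0Space X] {Z : Set X}
    (hZ : Z ∈ irreducibleComponents X) {η y : X} (hη : IsGenericPoint η Z) (hy : y ⤳ η) :
    y = η := by
  have h1 : Z ⊆ closure {y} := by
    rw [← hη.def]
    exact closure_minimal (Set.singleton_subset_iff.mpr hy.mem_closure) isClosed_closure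
  have h2 : IsIrreducible (closure ({y} : Set X)) := isIrreducible_singleton.closure
  have h3 : closure ({y} : Set X) = Z := (hZ.2 h2 h1).antisymm h1 |>.symm ▸ rfl
  have hy' : IsGenericPoint y Z := h3
  exact hy'.eq hη

/-- a point with domain stalk lies on exactly one irreducible component -/
lemma unique_component {X : Scheme.{u}} (x : X) [IsDomain (X.presheaf.stalk x)]
    (Z₁ Z₂ : Set X) (h₁ : Z₁ ∈ irreducibleComponents X) (h₂ : Z₂ ∈ irreducibleComponents X)
    (hx₁ : x ∈ Z₁) (hx₂ : x ∈ Z₂) : Z₁ = Z₂ := by
  have key : ∀ Z : Set X, Z ∈ irreducibleComponents X → x ∈ Z →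
      IsGenericPoint (X.fromSpecStalk x ⟨⊥, Ideal.isPrime_bot⟩) Z := by
    intro Z hZ hxZ
    have hcl : IsClosed Z := isClosed_of_mem_irreducibleComponents Z hZ
    have hgen : IsGenericPoint hZ.1.genericPoint Z := by
      have := hZ.1.isGenericPoint_genericPoint_closure
      rwa [hcl.closure_eq] at this
    set η := hZ.1.genericPoint
    have hηx : η ⤳ x := hgen.specializes hxZ
    have : η ∈ Set.range (X.fromSpecStalk x) := by
      rw [Scheme.range_fromSpecStalk]; exact hηx
    obtain ⟨P, hP⟩ := this
    have h1 : (⟨⊥, Ideal.isPrime_bot⟩ : PrimeSpectrum (X.presheaf.stalk x)) ⤳ P := by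
      rw [← PrimeSpectrum.le_iff_specializes]
      exact bot_le (a := P.asIdeal)
    have h2 := h1.map (X.fromSpecStalk x).continuous
    rw [hP] at h2
    rw [eq_of_specializes_genericPoint hZ hgen h2]
    exact hgen
  exact ((key Z₁ h₁ hx₁).def).symm.trans (key Z₂ h₂ hx₂).def

theorem irreducibleSpace_of_domain_stalks {X : Scheme.{u}} [ConnectedSpace X]
    [TopologicalSpace.NoetherianSpace X] (h : ∀ x : X, IsDomain (X.presheaf.stalk x)) :
    IrreducibleSpace X := by
  obtain ⟨x₀⟩ := (inferInstance : Nonempty X)
  set Z := irreducibleComponent x₀ with hZdef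
  have hZ : Z ∈ irreducibleComponents X := irreducibleComponent_mem_irreducibleComponents x₀
  have hfin : (irreducibleComponents X).Finite :=
    TopologicalSpace.NoetherianSpace.finite_irreducibleComponents
  have hcompl : Zᶜ = ⋃₀ (irreducibleComponents X \ {Z}) := by
    ext y
    simp only [Set.mem_compl_iff, Set.mem_sUnion, Set.mem_diff, Set.mem_singleton_iff]
    constructor
    · intro hy
      refine ⟨irreducibleComponent y, ⟨irreducibleComponent_mem_irreducibleComponents y, ?_⟩,
        mem_irreducibleComponent⟩
      intro heq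
      exact hy (heq ▸ mem_irreducibleComponent)
    · rintro ⟨W, ⟨hW, hWZ⟩, hyW⟩ hyZ
      haveI := h y
      exact hWZ (unique_component y W Z hW hZ hyW hyZ)
  have hopen : IsOpen Z := by
    rw [← isClosed_compl_iff, hcompl]
    rw [Set.sUnion_eq_biUnion]
    refine Set.Finite.isClosed_biUnion (hfin.subset Set.diff_subset) ?_
    intro W hW
    exact isClosed_of_mem_irreducibleComponents W hW.1
  have hclopen : IsClopen Z := ⟨isClosed_irreducibleComponent, hopen⟩
  have huniv : Z = Set.univ := hclopen.eq_univ ⟨x₀, mem_irreducibleComponent⟩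
  have : IsIrreducible (Set.univ : Set X) := huniv ▸ isIrreducible_irreducibleComponent
  exact (irreducibleSpace_def X).mpr this

end Groth.Agent.Helper4.GrpConnA
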