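import Mathlib
import Groth.Agent.Helper3.SteinH2

set_option autoImplicit false
set_option linter.style.haveILetI false

namespace Groth.Agent.Helper4.SN405

open CategoryTheory Limits AlgebraicGeometry TopologicalSpace

universe u

theorem bijective_connectedComponentsMap {X₀ X : Type*} [TopologicalSpace X₀] [TopologicalSpace X]
    (e : X₀ → X) (he : Topology.IsEmbedding e)
    (h : ∀ Z : Set X, IsClosed Z → _root_.IsConnected Z → _root_.IsConnected (Z ∩ Set.range e)) :
    Function.Bijective (Continuous.connectedComponentsMap he.continuous) := by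
  constructor
  · intro a b hab
    obtain ⟨x₀, rfl⟩ := ConnectedComponents.surjective_coe a
    obtain ⟨y₀, rfl⟩ := ConnectedComponents.surjective_coe b
    change ((e x₀ : X) : ConnectedComponents X) = ((e y₀ : X) : ConnectedComponents X) at hab
    rw [ConnectedComponents.coe_eq_coe'] at hab
    have hy : e y₀ ∈ connectedComponent (e x₀) := by
      rw [← connectedComponent_eq hab]; exact mem_connectedComponent
    have hC := h _ isClosed_connectedComponent (isConnected_connectedComponent (x := e x₀))
    rw [← Set.image_preimage_eq_inter_range] at hC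
    have hpre : IsPreconnected (e ⁻¹' connectedComponent (e x₀)) :=
      he.isInducing.isPreconnected_image.mp hC.isPreconnected
    rw [ConnectedComponents.coe_eq_coe']
    have h1 : x₀ ∈ e ⁻¹' connectedComponent (e x₀) := mem_connectedComponent
    have h2 := hpre.subset_connectedComponent h1 hy
    rw [← connectedComponent_eq h2]; exact mem_connectedComponent
  · intro b
    obtain ⟨x, rfl⟩ := ConnectedComponents.surjective_coe b
    have hC := h _ isClosed_connectedComponent (isConnected_connectedComponent (x := x))
    obtain ⟨_, hy, ⟨x₀, rfl⟩⟩ := hC.nonempty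
    refine ⟨(x₀ : ConnectedComponents X₀), ?_⟩
    change ((e x₀ : X) : ConnectedComponents X) = _
    rw [ConnectedComponents.coe_eq_coe']
    exact hy

theorem isConnected_inter_preimage (A : Type u) [CommRing A] (I : Ideal A) [HenselianRing A I]
    {X : Scheme.{u}} (f : X ⟶ Spec (CommRingCat.of A)) [IsProper f]
    (Z : Set X) (hZ : IsClosed Z) (hZc : _root_.IsConnected Z) :
    _root_.IsConnected (Z ∩ f ⁻¹' PrimeSpectrum.zeroLocus (I : Set A)) := by
  let J : X.IdealSheafData := Scheme.IdealSheafData.vanishingIdeal ⟨Z, hZ⟩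
  let ι := J.subschemeι
  have hι : Set.range ι = Z := by
    rw [Scheme.IdealSheafData.range_subschemeι]
    exact Scheme.IdealSheafData.coe_support_vanishingIdeal _
  set i₀ := Spec.map (CommRingCat.ofHom (Ideal.Quotient.mk I)) with hi₀
  have hr0 : Set.range i₀ = PrimeSpectrum.zeroLocus (I : Set A) := by
    have := range_comap_of_surjective (A ⧸ I) (Ideal.Quotient.mk I)
      Ideal.Quotient.mk_surjective
    rw [Ideal.mk_ker] at this
    exact this
  haveI : ConnectedSpace J.subscheme := by
    rw [connectedSpace_iff_univ]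
    have h1 : _root_.IsConnected (ι '' Set.univ) := by rw [Set.image_univ, hι]; exact hZc
    exact ⟨Set.image_nonempty.mp h1.nonempty,
      ι.isEmbedding.isInducing.isPreconnected_image.mp h1.isPreconnected⟩
  haveI : ConnectedSpace ↥(pullback (ι ≫ f) i₀) :=
    (Groth.Agent.Helper3.SteinH.main A I (ι ≫ f)).mp inferInstance
  have hrange : Set.range (pullback.fst (ι ≫ f) i₀ ≫ ι) =
      Z ∩ f ⁻¹' PrimeSpectrum.zeroLocus (I : Set A) := by
    have h1 := Scheme.Pullback.range_fst (ι ≫ f) i₀
    ext x
    constructor
    · rintro ⟨t, rfl⟩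
      refine ⟨hι ▸ ⟨_, rfl⟩, ?_⟩
      have : pullback.fst (ι ≫ f) i₀ t ∈ Set.range (pullback.fst (ι ≫ f) i₀) := ⟨t, rfl⟩
      rw [h1] at this
      rw [← hr0]
      exact this
    · rintro ⟨hxZ, hxf⟩
      rw [← hι] at hxZ
      obtain ⟨z, rfl⟩ := hxZ
      have : z ∈ Set.range (pullback.fst (ι ≫ f) i₀) := by
        rw [h1, hr0]; exact hxf
      obtain ⟨t, rfl⟩ := this
      exact ⟨t, rfl⟩
  rw [← hrange]
  exact isConnected_range (pullback.fst (ι ≫ f) i₀ ≫ ι).continuous


theorem zeroLocus_maximalIdeal (A : Type u) [CommRing A] [IsLocalRing A] :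
    PrimeSpectrum.zeroLocus ((IsLocalRing.maximalIdeal A : Ideal A) : Set A) =
      {IsLocalRing.closedPoint A} := by
  ext x
  rw [PrimeSpectrum.mem_zeroLocus, Set.mem_singleton_iff, SetLike.coe_subset_coe]
  constructor
  · intro h
    apply PrimeSpectrum.ext
    exact ((IsLocalRing.maximalIdeal.isMaximal A).eq_of_le x.2.ne_top h).symm
  · rintro rfl
    exact le_rfl

theorem main (A : Type u) [CommRing A] [HenselianLocalRing A] {X : Scheme.{u}}
    (f : X ⟶ Spec (CommRingCat.of A)) [IsProper f] :
    Function.Bijective
      (Continuous.connectedComponentsMap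
        (f.fiberι ((IsLocalRing.closedPoint A : PrimeSpectrum A) :
          ↥(Spec (CommRingCat.of A)))).continuous) := by
  refine bijective_connectedComponentsMap _
    (f.fiberι ((IsLocalRing.closedPoint A : PrimeSpectrum A) :
      ↥(Spec (CommRingCat.of A)))).isEmbedding ?_
  intro Z hZ hZc
  have h := isConnected_inter_preimage A (IsLocalRing.maximalIdeal A) f Z hZ hZc
  rw [zeroLocus_maximalIdeal] at h
  rw [Scheme.Hom.range_fiberι]
  exact h

end Groth.Agent.Helper4.SN405
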