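import Mathlib
import Groth.Agent.Helper4.NApx4
import Groth.Agent.Lead.LimPullback
import Groth.Agent.S2076
import Groth.Agent.S0590

set_option autoImplicit false

namespace Groth.Agent.Helper4.NApx7

open CategoryTheory AlgebraicGeometry Limits Opposite
open Groth.Agent.Lead.LimPullback

universe u

section LiftOver

variable {J : Type u} [SmallCategory J] {S : Scheme.{u}} (E : J ⥤ Scheme.{u})
  (t : E ⟶ (Functor.const J).obj S)

/-- A diagram of schemes with compatible structure maps to `S`, as a diagram over `S`. -/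
def liftOver : J ⥤ Over S where
  obj k := Over.mk (t.app k)
  map {k l} a := Over.homMk (E.map a) (by simpa using t.naturality a)
  map_id k := by ext; simp
  map_comp a b := by ext; simp

/-- A cone over a diagram of schemes over `S`, as a cone in `Over S`. -/
def liftOverCone (c : Cone E) (s : c.pt ⟶ S) (hs : ∀ k, c.π.app k ≫ t.app k = s) :
    Cone (liftOver E t) where
  pt := Over.mk s
  π :=
    { app := fun k => Over.homMk (c.π.app k) (hs k)
      naturality := fun k l a => by
        ext
        simp [liftOver] }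

/-- The lifted cone is a limit cone (for connected index categories). -/
noncomputable def liftOverConeIsLimit [IsConnected J] (c : Cone E) (hc : IsLimit c) (s : c.pt ⟶ S)
    (hs : ∀ k, c.π.app k ≫ t.app k = s) : IsLimit (liftOverCone E t c s hs) := by
  apply isLimitOfReflects (Over.forget S)
  exact hc

end LiftOver

/-- An immersion from a quasi-compact scheme factors as a closed immersion into a quasi-compact
open subscheme. -/
theorem exists_compact_open_closedImm {X Q : Scheme.{u}} (γ : X ⟶ Q) [IsImmersion γ]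
    [CompactSpace X] :
    ∃ (V : Q.Opens) (h : X ⟶ V), IsCompact (V : Set Q) ∧ IsClosedImmersion h ∧ h ≫ V.ι = γ := by
  have hsub : Set.range γ ⊆ (γ.coborderRange : Set Q) := by
    rintro _ ⟨x, rfl⟩
    have h1 : γ x = γ.coborderRange.ι (γ.liftCoborder x) := by
      rw [← Scheme.Hom.comp_apply, γ.liftCoborder_ι]
    rw [h1]
    exact (γ.liftCoborder x).2
  obtain ⟨W, hWc, hWo, hKW, hWU⟩ :=
    PrespectralSpace.exists_isCompact_and_isOpen_between (X := Q)
      (isCompact_range γ.continuous) γ.coborderRange.isOpen hsub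
  let V : Q.Opens := ⟨W, hWo⟩
  have hVle : V ≤ γ.coborderRange := hWU
  let h : X ⟶ V := IsOpenImmersion.lift V.ι γ (by rw [Scheme.Opens.range_ι]; exact hKW)
  have hh : h ≫ V.ι = γ := IsOpenImmersion.lift_fac _ _ _
  refine ⟨V, h, hWc, ?_, hh⟩
  have h2 : h ≫ Q.homOfLE hVle = γ.liftCoborder := by
    rw [← cancel_mono γ.coborderRange.ι, Category.assoc, Scheme.homOfLE_ι, hh, γ.liftCoborder_ι]
  haveI : IsClosedImmersion (h ≫ Q.homOfLE hVle) := by rw [h2]; infer_instance
  exact IsClosedImmersion.of_comp h (Q.homOfLE hVle)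

section Stage

variable {J : Type u} [SmallCategory J] [IsCofiltered J] {S : Scheme.{u}} (E : J ⥤ Scheme.{u})
  (tE : E ⟶ (Functor.const J).obj S) (cE : Cone E) (hcE : IsLimit cE)
  [∀ {i j : J} (a : i ⟶ j), IsAffineHom (E.map a)]

/-- Structure maps of the diagram of opens. -/
noncomputable def tOpens (j : J) (Vj : (E.obj j).Opens) :
    opensDiagram E j Vj ⟶ (Functor.const (Over j)).obj S where
  app k := (opensDiagramι E j Vj).app k ≫ tE.app k.left
  naturality k l a := by
    have h1 := (opensDiagramι E j Vj).naturality a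
    have h2 := tE.naturality a.left
    simp only [Functor.const_obj_obj, Functor.const_obj_map, Category.comp_id] at h2 ⊢
    have h3 := congrArg (fun m => m ≫ tE.app l.left) h1
    exact (Category.assoc _ _ _).symm.trans (h3.trans ((Category.assoc _ _ _).trans
      (congrArg (fun m => (opensDiagramι E j Vj).app k ≫ m) h2)))

include hcE in
set_option backward.isDefEq.respectTransparency false in
/-- Immersion version of descent of closed immersions to a stage. -/
theorem exists_immersion_stage (s : cE.pt ⟶ S) (hs : ∀ k, cE.π.app k ≫ tE.app k = s)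
    {X : Scheme.{u}} [CompactSpace X] (γ : X ⟶ cE.pt) [IsImmersion γ]
    [LocallyOfFiniteType (γ ≫ s)] : ∃ k : J, IsImmersion (γ ≫ cE.π.app k) := by
  obtain ⟨V, h, hVc, hcl, hh⟩ := exists_compact_open_closedImm γ
  obtain ⟨j, Vj, hVjc, hVj⟩ := exists_preimage_eq E cE hcE V hVc
  subst hVj
  haveI : IsConnected (Over j) := IsCofiltered.isConnected _
  have hs' : ∀ k : Over j, (opensCone E cE j Vj).π.app k ≫ (tOpens E tE j Vj).app k =
      (cE.π.app j ⁻¹ᵁ Vj).ι ≫ s := by
    intro k
    simp only [tOpens, opensCone_π_app, opensDiagramι_app]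
    rw [← Category.assoc, Scheme.Hom.resLE_comp_ι, Category.assoc, hs]
  let DD := liftOver (opensDiagram E j Vj) (tOpens E tE j Vj)
  let cc := liftOverCone (opensDiagram E j Vj) (tOpens E tE j Vj) (opensCone E cE j Vj)
    ((cE.π.app j ⁻¹ᵁ Vj).ι ≫ s) hs'
  have hcc : IsLimit cc := liftOverConeIsLimit _ _ _ (isLimitOpensCone E cE hcE j Vj) _ hs'
  haveI : ∀ (k l : Over j) (a : k ⟶ l), IsAffineHom (DD.map a).left := fun k l a => by
    show IsAffineHom ((opensDiagram E j Vj).map a)
    infer_instance
  haveI : ∀ k : Over j, CompactSpace (DD.obj k).left := fun k => by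
    show CompactSpace ↥(E.map k.hom ⁻¹ᵁ Vj)
    exact isCompact_iff_compactSpace.mp
      (QuasiCompact.isCompact_preimage (f := E.map k.hom) _ Vj.isOpen hVjc)
  haveI : IsClosedImmersion (show X ⟶ cc.pt.left from h) := hcl
  haveI : LocallyOfFiniteType ((show X ⟶ cc.pt.left from h) ≫ cc.pt.hom) := by
    show LocallyOfFiniteType (h ≫ (cE.π.app j ⁻¹ᵁ Vj).ι ≫ s)
    rw [← Category.assoc, hh]; infer_instance
  obtain ⟨k, hk⟩ := Groth.Agent.S2076.result S DD cc hcc (show X ⟶ cc.pt.left from h)
  refine ⟨k.left, ?_⟩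
  have h3 : γ ≫ cE.π.app k.left =
      (h ≫ (cc.π.app k).left) ≫ (E.map k.hom ⁻¹ᵁ Vj).ι := by
    show γ ≫ cE.π.app k.left = (h ≫ (opensCone E cE j Vj).π.app k) ≫ (E.map k.hom ⁻¹ᵁ Vj).ι
    simp only [opensCone_π_app]
    rw [Category.assoc, Scheme.Hom.resLE_comp_ι, ← Category.assoc, hh]
  rw [h3]
  haveI : IsClosedImmersion (h ≫ (cc.π.app k).left) := hk
  infer_instance

end Stage

set_option backward.isDefEq.respectTransparency false in
/-- Stacks 09ZP: immersion into a finitely presented scheme. -/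
theorem immersion_fp {X S : Scheme.{u}} (f : X ⟶ S) [LocallyOfFiniteType f]
    [CompactSpace X] [QuasiSeparatedSpace X] :
    ∃ (X' : Scheme.{u}) (f' : X' ⟶ S) (j : X ⟶ X'), LocallyOfFinitePresentation f' ∧
      QuasiCompact f' ∧ QuasiSeparated f' ∧ IsImmersion j ∧ j ≫ f' = f := by
  obtain ⟨A, hPA, hDA, hNA, D, c, hc, hA1, hA2, ⟨eA⟩⟩ := Groth.Agent.S0590.result X
  haveI : ∀ {i j : Aᵒᵖ} (a : i ⟶ j), IsAffineHom (D.map a) := fun {i j} a => hA1 i j a
  haveI hAn : ∀ i, IsLocallyNoetherian (D.obj i) := fun i => by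
    haveI := (hA2 i).2
    exact LocallyOfFiniteType.isLocallyNoetherian (specULiftZIsTerminal.from (D.obj i))
  haveI : ∀ i, CompactSpace (D.obj i) := fun i => (hA2 i).1
  haveI : IsCofiltered Aᵒᵖ := NApx0.isCofiltered_op_of_directed A
  obtain ⟨a₀⟩ := hNA
  let i : Aᵒᵖ := op a₀
  let p : D.obj i ⟶ Spec (.of (ULift.{u} ℤ)) := specULiftZIsTerminal.from _
  let q : S ⟶ Spec (.of (ULift.{u} ℤ)) := specULiftZIsTerminal.from _
  let xi : pullback p q ⟶ D.obj i := pullback.fst p q
  let f₀ : c.pt ⟶ S := eA.hom ≫ f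
  let E := pbDiag D i xi
  let cE := pbCone D c i xi
  have hcE : IsLimit cE := pbConeIsLimit i xi hc
  haveI : ∀ {k l : Over i} (a : k ⟶ l), IsAffineHom (E.map a) :=
    fun a => isAffineHom_pbDiag_map i xi a
  let tE : E ⟶ (Functor.const (Over i)).obj S :=
    { app := fun k => pullback.snd (D.map k.hom) xi ≫ pullback.snd p q
      naturality := by intro k l a; simp [E, pbDiag] }
  let s : cE.pt ⟶ S := pullback.snd (c.π.app i) xi ≫ pullback.snd p q
  have hs : ∀ k, cE.π.app k ≫ tE.app k = s := by intro k; simp [cE, pbCone, tE, s]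
  let γ₀ : c.pt ⟶ pullback p q :=
    pullback.lift (c.π.app i) f₀ (specULiftZIsTerminal.hom_ext _ _)
  let γ : c.pt ⟶ cE.pt := pullback.lift (𝟙 _) γ₀ (by simp [γ₀, xi])
  have hγ : γ ≫ pullback.fst (c.π.app i) xi = 𝟙 _ := pullback.lift_fst _ _ _
  haveI : IsImmersion γ := by
    haveI : IsImmersion (γ ≫ pullback.fst (c.π.app i) xi) := by rw [hγ]; infer_instance
    exact IsImmersion.of_comp γ (pullback.fst (c.π.app i) xi)
  have hγs : γ ≫ s = f₀ := by simp [γ, s, γ₀]
  haveI : CompactSpace c.pt := QuasiCompact.compactSpace_of_compactSpace eA.hom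
  haveI : LocallyOfFiniteType (γ ≫ s) := by rw [hγs]; infer_instance
  obtain ⟨k, hk⟩ := exists_immersion_stage E tE cE hcE s hs γ
  have hp1 : LocallyOfFiniteType p := (hA2 i).2
  haveI : LocallyOfFinitePresentation p := NApx4.lofp_of_loft_of_isLocallyNoetherian p
  haveI : QuasiCompact p := inferInstance
  haveI : QuasiSeparated p := inferInstance
  have hk1 : LocallyOfFiniteType (D.map k.hom) := by
    haveI : LocallyOfFiniteType (D.map k.hom ≫ specULiftZIsTerminal.from (D.obj i)) := by
      rw [specULiftZIsTerminal.hom_ext (D.map k.hom ≫ specULiftZIsTerminal.from _)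
        (specULiftZIsTerminal.from _)]
      exact (hA2 _).2
    exact locallyOfFiniteType_of_comp (D.map k.hom) (specULiftZIsTerminal.from _)
  haveI : LocallyOfFinitePresentation (D.map k.hom) :=
    NApx4.lofp_of_loft_of_isLocallyNoetherian _
  haveI : QuasiCompact (D.map k.hom) := inferInstance
  haveI : QuasiSeparated (D.map k.hom) := inferInstance
  refine ⟨E.obj k, tE.app k, eA.inv ≫ γ ≫ cE.π.app k, ?_, ?_, ?_, ?_, ?_⟩
  · show LocallyOfFinitePresentation (pullback.snd (D.map k.hom) xi ≫ pullback.snd p q)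
    infer_instance
  · show QuasiCompact (pullback.snd (D.map k.hom) xi ≫ pullback.snd p q)
    infer_instance
  · show QuasiSeparated (pullback.snd (D.map k.hom) xi ≫ pullback.snd p q)
    infer_instance
  · haveI := hk
    infer_instance
  · rw [Category.assoc, Category.assoc, hs k, hγs]
    simp [f₀]

end Groth.Agent.Helper4.NApx7
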