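import Groth.Prelude.Def_ARSys
import Mathlib

/-!
# Basic lemmas on projective systems up to translation
-/

set_option autoImplicit false

namespace Groth.Agent.Helper4.ARSysBasic

open CategoryTheory CategoryTheory.Limits Opposite
universe v u

variable {C : Type u} [Category.{v} C]

theorem tr_comp (X : ARSys.PS C) {n m l : ℕ} (h₁ : n ≤ m) (h₂ : m ≤ l) :
    ARSys.tr X h₂ ≫ ARSys.tr X h₁ = ARSys.tr X (h₁.trans h₂) := by
  unfold ARSys.tr
  rw [← X.map_comp]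
  rfl

theorem tr_nat {X Y : ARSys.PS C} (f : X ⟶ Y) {n m : ℕ} (h : n ≤ m) :
    ARSys.tr X h ≫ f.app (op n) = f.app (op m) ≫ ARSys.tr Y h :=
  f.naturality _

theorem null_iff [HasZeroMorphisms C] (X : ARSys.PS C) :
    ARSys.IsARNull X ↔ ∃ r : ℕ, ∀ (n m : ℕ) (h : n ≤ m), n + r ≤ m → ARSys.tr X h = 0 := by
  constructor
  · rintro ⟨r, hr⟩
    refine ⟨r, fun n m h hnm => ?_⟩
    have := hr n
    have e : ARSys.tr X h = ARSys.tr X hnm ≫ ARSys.tr X (Nat.le_add_right n r) :=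
      (tr_comp X _ _).symm
    rw [e]
    have h0 : ARSys.tr X (Nat.le_add_right n r) = 0 := this
    rw [h0, comp_zero]
  · rintro ⟨r, hr⟩
    exact ⟨r, fun n => hr n (n + r) _ le_rfl⟩

theorem null_ses [Abelian C] (S : ShortComplex (ARSys.PS C)) (hS : S.ShortExact) :
    ARSys.IsARNull S.X₂ ↔ (ARSys.IsARNull S.X₁ ∧ ARSys.IsARNull S.X₃) := by
  have hex : ∀ n : ℕ, (S.map ((evaluation ℕᵒᵖ C).obj (op n))).ShortExact :=
    fun n => hS.map_of_exact _
  have hmono : ∀ n : ℕ, Mono (S.f.app (op n)) := fun n => (hex n).mono_f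
  have hepi : ∀ n : ℕ, Epi (S.g.app (op n)) := fun n => (hex n).epi_g
  rw [null_iff, null_iff, null_iff]
  constructor
  · rintro ⟨r, hr⟩
    refine ⟨⟨r, fun n m h hnm => ?_⟩, ⟨r, fun n m h hnm => ?_⟩⟩
    · haveI := hmono n
      rw [← cancel_mono (S.f.app (op n)), tr_nat, hr n m h hnm, comp_zero, zero_comp]
    · haveI := hepi m
      rw [← cancel_epi (S.g.app (op m)), ← tr_nat, hr n m h hnm, comp_zero, zero_comp]
  · rintro ⟨⟨r₁, hr₁⟩, ⟨r₃, hr₃⟩⟩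
    refine ⟨r₁ + r₃, fun n m h hnm => ?_⟩
    have h1 : n ≤ n + r₁ := Nat.le_add_right _ _
    have h2 : n + r₁ ≤ m := by omega
    rw [← tr_comp S.X₂ h1 h2]
    haveI := hmono (n + r₁)
    have hk : ARSys.tr S.X₂ h2 ≫ S.g.app (op (n + r₁)) = 0 := by
      rw [tr_nat, hr₃ (n + r₁) m h2 (by omega), comp_zero]
    have hexn := (hex (n + r₁)).exact
    haveI : Mono (S.map ((evaluation ℕᵒᵖ C).obj (op (n + r₁)))).f := (hex (n + r₁)).mono_f
    obtain ⟨l, hl⟩ : ∃ l : S.X₂.obj (op m) ⟶ S.X₁.obj (op (n + r₁)),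
        l ≫ S.f.app (op (n + r₁)) = ARSys.tr S.X₂ h2 :=
      ⟨hexn.lift (ARSys.tr S.X₂ h2) hk, hexn.lift_f _ _⟩
    rw [← hl, Category.assoc, ← tr_nat, hr₁ n (n + r₁) h1 le_rfl, zero_comp, comp_zero]

end Groth.Agent.Helper4.ARSysBasic
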