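import Groth.Prelude.Def_ARSys
import Groth.Agent.Helper4.ARSysBasic
import Mathlib

/-!
# Functoriality of the notions on projective systems: linear exact functors with a right adjoint
preserve adic systems, null systems, isomorphisms up to translation
-/

set_option autoImplicit false

namespace Groth.Agent.Helper4.ARFunctor

open CategoryTheory CategoryTheory.Limits Opposite
universe w v v' u u'

variable {C : Type u} [Category.{v} C] {C' : Type u'} [Category.{v'} C']

section Null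

variable [HasZeroMorphisms C] [HasZeroMorphisms C']

theorem isARNull_comp (Φ : C ⥤ C') [Φ.PreservesZeroMorphisms] {X : ARSys.PS C}
    (h : ARSys.IsARNull X) : ARSys.IsARNull (X ⋙ Φ) := by
  rw [Groth.Agent.Helper4.ARSysBasic.null_iff] at h ⊢
  obtain ⟨r, hr⟩ := h
  refine ⟨r, fun n m hnm hnr => ?_⟩
  have : ARSys.tr (X ⋙ Φ) hnm = Φ.map (ARSys.tr X hnm) := rfl
  rw [this, hr n m hnm hnr, Φ.map_zero]

theorem isARNull_of_iso {X Y : ARSys.PS C} (e : X ≅ Y) (h : ARSys.IsARNull X) :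
    ARSys.IsARNull Y := by
  rw [Groth.Agent.Helper4.ARSysBasic.null_iff] at h ⊢
  obtain ⟨r, hr⟩ := h
  refine ⟨r, fun n m hnm hnr => ?_⟩
  have h1 : ARSys.tr Y hnm = e.inv.app (op m) ≫ ARSys.tr X hnm ≫ e.hom.app (op n) := by
    rw [Groth.Agent.Helper4.ARSysBasic.tr_nat, ← Category.assoc, ← NatTrans.comp_app,
      e.inv_hom_id, NatTrans.id_app, Category.id_comp]
  rw [h1, hr n m hnm hnr, zero_comp, comp_zero]

end Null

section Iso

variable [Abelian C] [Abelian C']

theorem isARIso_whiskerRight (Φ : C ⥤ C') [Φ.Additive] [PreservesFiniteLimits Φ]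
    [PreservesFiniteColimits Φ] {X Y : ARSys.PS C} (v : X ⟶ Y) (h : ARSys.IsARIso v) :
    ARSys.IsARIso (Functor.whiskerRight v Φ) := by
  let G : ARSys.PS C ⥤ ARSys.PS C' := (Functor.whiskeringRight ℕᵒᵖ C C').obj Φ
  haveI : G.PreservesZeroMorphisms := ⟨fun X Y => by ext; simp [G]⟩
  have e1 : G.obj (kernel v) ≅ kernel (G.map v) := PreservesKernel.iso G v
  have e2 : G.obj (cokernel v) ≅ cokernel (G.map v) := PreservesCokernel.iso G v
  exact ⟨isARNull_of_iso e1 (isARNull_comp Φ h.1), isARNull_of_iso e2 (isARNull_comp Φ h.2)⟩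

end Iso

section Linear

variable {A : Type w} [CommRing A] [Preadditive C] [Linear A C] [Preadditive C'] [Linear A C']

theorem killedBy_map (Φ : C ⥤ C') [Φ.Additive] [Φ.Linear A] {I : Ideal A} {X : C}
    (h : ARSys.KilledBy I X) : ARSys.KilledBy I (Φ.obj X) := by
  intro a ha
  rw [← Φ.map_id, ← Φ.map_smul, h a ha, Φ.map_zero]

theorem termKilled_comp (Φ : C ⥤ C') [Φ.Additive] [Φ.Linear A] {I : Ideal A} {X : ARSys.PS C}
    (h : ARSys.TermKilled I X) : ARSys.TermKilled I (X ⋙ Φ) :=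
  fun n => killedBy_map Φ (h n)

theorem isQuot_map {Φ : C ⥤ C'} {Ψ : C' ⥤ C} (adj : Φ ⊣ Ψ) [Φ.Additive] [Φ.Linear A]
    {I : Ideal A} {X Q : C} (p : X ⟶ Q) (h : ARSys.IsQuot I p) : ARSys.IsQuot I (Φ.map p) := by
  haveI : Ψ.Additive := adj.right_adjoint_additive
  refine ⟨killedBy_map Φ h.1, fun Y φ hφ => ?_⟩
  have hφ' : ARSys.HomKilledBy I (adj.homEquiv X Y φ) := by
    intro a ha
    have h1 : a • adj.homEquiv X Y φ = (a • 𝟙 X) ≫ adj.homEquiv X Y φ := by
      rw [Linear.smul_comp, Category.id_comp]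
    rw [h1, ← Adjunction.homEquiv_naturality_left, Φ.map_smul, Φ.map_id, Linear.smul_comp,
      Category.id_comp, hφ a ha]
    rw [Adjunction.homEquiv_unit, Ψ.map_zero, comp_zero]
  obtain ⟨ψ', hψ', huniq⟩ := h.2 _ _ hφ'
  refine ⟨(adj.homEquiv Q Y).symm ψ', ?_, ?_⟩
  · show Φ.map p ≫ (adj.homEquiv Q Y).symm ψ' = φ
    rw [← Adjunction.homEquiv_naturality_left_symm, hψ', Equiv.symm_apply_apply]
  · intro ψ₂ hψ₂
    have : adj.homEquiv Q Y ψ₂ = ψ' := by
      apply huniq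
      show p ≫ adj.homEquiv Q Y ψ₂ = adj.homEquiv X Y φ
      rw [← Adjunction.homEquiv_naturality_left, hψ₂]
    rw [← this, Equiv.symm_apply_apply]

theorem isAdic_comp {Φ : C ⥤ C'} {Ψ : C' ⥤ C} (adj : Φ ⊣ Ψ) [Φ.Additive] [Φ.Linear A]
    {I : Ideal A} {X : ARSys.PS C} (h : ARSys.IsAdic I X) : ARSys.IsAdic I (X ⋙ Φ) :=
  ⟨termKilled_comp Φ h.1, fun n m hnm => isQuot_map adj _ (h.2 n m hnm)⟩

/-- the left adjoint of a linear functor is linear -/
theorem linear_of_adj {Φ : C ⥤ C'} {Ψ : C' ⥤ C} (adj : Φ ⊣ Ψ) [Ψ.Additive] [Ψ.Linear A] :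
    haveI : Φ.Additive := adj.left_adjoint_additive
    Φ.Linear A := by
  haveI : Φ.Additive := adj.left_adjoint_additive
  refine ⟨fun {X Y} g a => ?_⟩
  apply (adj.homEquiv X (Φ.obj Y)).injective
  rw [Adjunction.homEquiv_unit, Adjunction.homEquiv_unit, Ψ.map_smul, Linear.comp_smul,
    ← Adjunction.homEquiv_unit, ← Adjunction.homEquiv_unit]
  rw [Adjunction.homEquiv_unit, Adjunction.unit_naturality, Adjunction.homEquiv_unit,
    Adjunction.unit_naturality, Linear.smul_comp]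

end Linear

end Groth.Agent.Helper4.ARFunctor
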