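import Groth.Prelude.Def_ARSys
import Groth.Agent.Helper4.ARFunctor
import Mathlib

/-!
# Limits of projective systems: null systems have zero limit, morphisms with null kernel induce
monomorphisms on limits, strict systems of modules with zero limit are zero
-/

set_option autoImplicit false

namespace Groth.Agent.Helper4.ARLim

open CategoryTheory CategoryTheory.Limits Opposite
universe w v u

variable {C : Type u} [Category.{v} C]

theorem isZero_limit_of_isARNull [HasZeroMorphisms C] (X : ARSys.PS C) [HasLimit X]
    (h : ARSys.IsARNull X) : IsZero (limit X) := by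
  rw [Groth.Agent.Helper4.ARSysBasic.null_iff] at h
  obtain ⟨r, hr⟩ := h
  rw [IsZero.iff_id_eq_zero]
  apply limit.hom_ext
  intro j
  have h1 : limit.π X j = limit.π X (op (j.unop + r)) ≫ X.map (homOfLE (Nat.le_add_right _ r)).op :=
    (limit.w X (homOfLE (Nat.le_add_right j.unop r)).op).symm
  have h2 : X.map (homOfLE (Nat.le_add_right j.unop r)).op = 0 :=
    hr j.unop (j.unop + r) (Nat.le_add_right _ r) le_rfl
  rw [Category.id_comp, zero_comp, h1, h2, comp_zero]

theorem mono_limMap_of_isARNull_kernel [Abelian C] [HasLimitsOfShape ℕᵒᵖ C] {X Y : ARSys.PS C}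
    (v : X ⟶ Y) (h : ARSys.IsARNull (kernel v)) : Mono (limMap v) := by
  have e : (lim : (ℕᵒᵖ ⥤ C) ⥤ C).obj (kernel v) ≅ kernel (lim.map v) :=
    PreservesKernel.iso lim v
  have hz : IsZero (kernel (lim.map v)) :=
    (isZero_limit_of_isARNull (kernel v) h).of_iso e.symm
  have : Mono (lim.map v) := Preadditive.mono_of_kernel_zero (hz.eq_of_src _ _)
  exact this

section Mod

variable (Λ : Type w) [CommRing Λ]

/-- a compatible family through a given element, for a system with surjective transition maps -/
theorem exists_compatible (G : ℕᵒᵖ ⥤ ModuleCat.{w} Λ)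
    (hs : ∀ m : ℕ, Function.Surjective (G.map (homOfLE (Nat.le_succ m)).op)) (n : ℕ)
    (y : G.obj (op n)) :
    ∃ s : ∀ m : ℕ, G.obj (op m), s n = y ∧
      ∀ m : ℕ, G.map (homOfLE (Nat.le_succ m)).op (s (m + 1)) = s m := by
  classical
  -- the values below `n`
  let t : ∀ m : ℕ, m ≤ n → G.obj (op m) := fun m h => G.map (homOfLE h).op y
  have ht : ∀ (m : ℕ) (h : m + 1 ≤ n), G.map (homOfLE (Nat.le_succ m)).op (t (m + 1) h) =
      t m ((Nat.le_succ m).trans h) := by
    intro m h
    show G.map (homOfLE (Nat.le_succ m)).op (G.map (homOfLE h).op y) = _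
    rw [← ConcreteCategory.comp_apply, ← G.map_comp]
    rfl
  let s : ∀ m : ℕ, G.obj (op m) := fun m => Nat.rec (motive := fun m => G.obj (op m))
    (t 0 (Nat.zero_le n))
    (fun m sm => if h : m + 1 ≤ n then t (m + 1) h else (hs m sm).choose) m
  have hs0 : s 0 = t 0 (Nat.zero_le n) := rfl
  have hsS : ∀ m, s (m + 1) = if h : m + 1 ≤ n then t (m + 1) h else (hs m (s m)).choose :=
    fun m => rfl
  have hle : ∀ (m : ℕ) (h : m ≤ n), s m = t m h := by
    intro m h
    cases m with
    | zero => exact hs0
    | succ m => rw [hsS, dif_pos h]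
  refine ⟨s, ?_, fun m => ?_⟩
  · rw [hle n le_rfl]
    show G.map (homOfLE le_rfl).op y = y
    have : (homOfLE (le_refl n)).op = 𝟙 (op n) := rfl
    rw [this, G.map_id]
    rfl
  · by_cases h : m + 1 ≤ n
    · rw [hle (m + 1) h, hle m ((Nat.le_succ m).trans h)]
      exact ht m h
    · rw [hsS, dif_neg h]
      exact (hs m (s m)).choose_spec

theorem isZero_of_isZero_limit (G : ℕᵒᵖ ⥤ ModuleCat.{w} Λ)
    (hs : ∀ m : ℕ, Function.Surjective (G.map (homOfLE (Nat.le_succ m)).op))
    (hz : IsZero (limit G)) (n : ℕ) : IsZero (G.obj (op n)) := by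
  rw [ModuleCat.isZero_iff_subsingleton]   
  refine ⟨fun y y' => ?_⟩
  suffices key : ∀ y : G.obj (op n), y = 0 by rw [key y, key y']
  intro y
  obtain ⟨s, hsn, hcomp⟩ := exists_compatible Λ G hs n y
  -- general compatibility
  have hgen : ∀ (a b : ℕ) (h : a ≤ b), G.map (homOfLE h).op (s b) = s a := by
    intro a b h
    induction b, h using Nat.le_induction with
    | base =>
      have : (homOfLE (le_refl a)).op = 𝟙 (op a) := rfl
      rw [this, G.map_id]
      rfl
    | succ b hab ih =>
      have e : (homOfLE (hab.trans (Nat.le_succ b))).op =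
          (homOfLE (Nat.le_succ b)).op ≫ (homOfLE hab).op := rfl
      rw [e, G.map_comp, ConcreteCategory.comp_apply, hcomp b, ih]
  let c : Cone G :=
    { pt := ModuleCat.of Λ Λ
      π :=
        { app := fun j => ModuleCat.ofHom (LinearMap.toSpanSingleton Λ _ (s j.unop))
          naturality := by
            intro j j' f
            apply ModuleCat.hom_ext
            apply LinearMap.ext_ring
            have hle : j'.unop ≤ j.unop := leOfHom f.unop
            have hf : f = (homOfLE hle).op := rfl
            simp only [Functor.const_obj_obj, Functor.const_obj_map, Category.id_comp,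
              ModuleCat.hom_comp, ModuleCat.hom_ofHom, LinearMap.comp_apply,
              LinearMap.toSpanSingleton_apply, one_smul]
            rw [hf]
            exact (hgen _ _ hle).symm } }
  have h1 : limit.lift G c = 0 := hz.eq_of_tgt _ _
  have h2 : limit.lift G c ≫ limit.π G (op n) = c.π.app (op n) := limit.lift_π c (op n)
  rw [h1, zero_comp] at h2
  have h3 := congrArg (fun φ : ModuleCat.of Λ Λ ⟶ G.obj (op n) => φ.hom (1 : Λ)) h2
  simp only [c, ModuleCat.hom_ofHom, LinearMap.toSpanSingleton_apply, one_smul] at h3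
  rw [← hsn]
  exact h3.symm

end Mod

end Groth.Agent.Helper4.ARLim
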