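import Groth.Agent.Helper4.ARSysBasic

/-!
# Calculus of fractions for canonical translation maps of projective systems
-/

set_option autoImplicit false

namespace Groth.Agent.Helper4.ARSysFrac

open CategoryTheory CategoryTheory.Limits Opposite
universe v u
variable {C : Type u} [Category.{v} C]
open Groth.Agent.Helper4.ARSysBasic

theorem tr_refl (X : ARSys.PS C) (n : ℕ) (h : n ≤ n) : ARSys.tr X h = 𝟙 _ := by
  unfold ARSys.tr
  have : (homOfLE h).op = 𝟙 (op n) := Subsingleton.elim _ _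
  rw [this, X.map_id]

/-- the canonical map `X[r] ⟶ X` -/
def sigma (X : ARSys.PS C) (r : ℕ) : (ARSys.shift C r).obj X ⟶ X where
  app n := ARSys.shiftMap X r n.unop
  naturality := by
    intro n m f
    show X.map _ ≫ X.map _ = X.map _ ≫ X.map _
    rw [← X.map_comp, ← X.map_comp]
    congr 1

theorem sigma_app (X : ARSys.PS C) (r n : ℕ) : (sigma X r).app (op n) = ARSys.shiftMap X r n := rfl

theorem sigma_nat {X Y : ARSys.PS C} (f : X ⟶ Y) (r : ℕ) :
    (ARSys.shift C r).map f ≫ sigma Y r = sigma X r ≫ f := by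
  ext n
  exact (f.naturality _).symm

theorem shift_tr (X : ARSys.PS C) (r : ℕ) {n m : ℕ} (h : n ≤ m) :
    ARSys.tr ((ARSys.shift C r).obj X) h = ARSys.tr X (Nat.add_le_add_right h r) := rfl

theorem sigma_mem (X : ARSys.PS C) (r : ℕ) : ARSys.trClass (sigma X r) :=
  ⟨r, Iso.refl _, fun n => by simp [sigma_app]⟩

/-- transition maps along an equality are isos -/
def trIso (X : ARSys.PS C) {n m : ℕ} (h : n = m) : X.obj (op m) ≅ X.obj (op n) where
  hom := ARSys.tr X (le_of_eq h)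
  inv := ARSys.tr X (le_of_eq h.symm)
  hom_inv_id := by rw [tr_comp, tr_refl]
  inv_hom_id := by rw [tr_comp, tr_refl]

/-- `(Z[r₂])[r₁] ≅ Z[r₁ + r₂]` -/
def shiftShift (Z : ARSys.PS C) (r₁ r₂ : ℕ) :
    (ARSys.shift C r₁).obj ((ARSys.shift C r₂).obj Z) ≅ (ARSys.shift C (r₁ + r₂)).obj Z :=
  NatIso.ofComponents (fun n => trIso Z (show n.unop + (r₁ + r₂) = n.unop + r₁ + r₂ by omega)) (by
    intro n m f
    show Z.map _ ≫ Z.map _ = Z.map _ ≫ Z.map _
    rw [← Z.map_comp, ← Z.map_comp]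
    congr 1)

theorem shiftShift_hom_app (Z : ARSys.PS C) (r₁ r₂ n : ℕ) :
    (shiftShift Z r₁ r₂).hom.app (op n) =
      ARSys.tr Z (le_of_eq (show n + (r₁ + r₂) = n + r₁ + r₂ by omega)) := rfl

def shiftZero (X : ARSys.PS C) : X ≅ (ARSys.shift C 0).obj X :=
  NatIso.ofComponents (fun n => Iso.refl _) (by
    intro n m f
    show X.map _ ≫ 𝟙 _ = 𝟙 _ ≫ X.map _
    rw [Category.comp_id, Category.id_comp])

theorem comp_key {X Y Z : ARSys.PS C} (n r₁ r₂ : ℕ) (a : X.obj (op n) ⟶ Y.obj (op (n + r₁)))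
    (b : Y.obj (op (n + r₁)) ⟶ Z.obj (op (n + r₁ + r₂))) (c : Y.obj (op n) ⟶ Z.obj (op (n + r₂)))
    (hnat : ARSys.tr Y (Nat.le_add_right n r₁) ≫ c =
      b ≫ ARSys.tr Z (Nat.add_le_add_right (Nat.le_add_right n r₁) r₂)) :
    (a ≫ ARSys.tr Y (Nat.le_add_right n r₁)) ≫ (c ≫ ARSys.tr Z (Nat.le_add_right n r₂)) =
      (a ≫ b ≫ ARSys.tr Z (le_of_eq (show n + (r₁ + r₂) = n + r₁ + r₂ by omega))) ≫
        ARSys.tr Z (Nat.le_add_right n (r₁ + r₂)) := by
  simp only [Category.assoc]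
  rw [reassoc_of% hnat, tr_comp, tr_comp]

instance trClass_mul : (ARSys.trClass (C := C)).IsMultiplicative where
  id_mem X := ⟨0, shiftZero X, fun n => by
    show 𝟙 _ = 𝟙 _ ≫ ARSys.tr X _
    rw [Category.id_comp, tr_refl]⟩
  comp_mem := by
    rintro X Y Z f g ⟨r₁, e₁, h₁⟩ ⟨r₂, e₂, h₂⟩
    refine ⟨r₁ + r₂, e₁ ≪≫ (ARSys.shift C r₁).mapIso e₂ ≪≫ shiftShift Z r₁ r₂, fun n => ?_⟩
    show f.app (op n) ≫ g.app (op n) = _
    rw [h₁ n, h₂ n]
    exact comp_key n r₁ r₂ (e₁.hom.app (op n)) (e₂.hom.app (op (n + r₁))) (e₂.hom.app (op n))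
      (tr_nat e₂.hom (Nat.le_add_right n r₁))

theorem ext_key {X Y Y' : ARSys.PS C} (n r : ℕ) (f₁ f₂ : X ⟶ Y)
    (e : Y.obj (op (n + r)) ⟶ Y'.obj (op (n + r + r))) (ei : Y'.obj (op (n + r)) ⟶ Y.obj (op n))
    (he : ARSys.tr Y (Nat.le_add_right n r) =
      (e ≫ ARSys.tr Y' (Nat.le_add_right (n + r) r)) ≫ ei)
    (h : f₁.app (op (n + r)) ≫ (e ≫ ARSys.tr Y' (Nat.le_add_right (n + r) r)) =
      f₂.app (op (n + r)) ≫ (e ≫ ARSys.tr Y' (Nat.le_add_right (n + r) r))) :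
    ARSys.tr X (Nat.le_add_right n r) ≫ f₁.app (op n) =
      ARSys.tr X (Nat.le_add_right n r) ≫ f₂.app (op n) := by
  rw [tr_nat, tr_nat, he]
  simp only [Category.assoc] at h ⊢
  rw [reassoc_of% h]

theorem trClass_rightCalc : (ARSys.trClass (C := C)).HasRightCalculusOfFractions where
  exists_rightFraction := by
    intro X Y φ
    obtain ⟨r, e, he⟩ := φ.hs
    refine ⟨⟨sigma X r, sigma_mem X r, (ARSys.shift C r).map φ.f ≫ e.inv⟩, ?_⟩
    have hs : φ.s = e.hom ≫ sigma φ.Y' r := by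
      ext n
      exact he n.unop
    show sigma X r ≫ φ.f = ((ARSys.shift C r).map φ.f ≫ e.inv) ≫ φ.s
    rw [hs, Category.assoc, Iso.inv_hom_id_assoc, sigma_nat]
  ext := by
    intro X Y Y' f₁ f₂ s hs h
    obtain ⟨r, e, he⟩ := hs
    refine ⟨_, sigma X r, sigma_mem X r, ?_⟩
    ext ⟨n⟩
    have hn := congrArg (fun k => k.app (op (n + r))) h
    simp only [NatTrans.comp_app, he (n + r)] at hn
    refine ext_key n r f₁ f₂ (e.hom.app (op (n + r))) (e.inv.app (op n)) ?_ hn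
    have hnat := tr_nat e.hom (Nat.le_add_right n r)
    have : ARSys.tr Y (Nat.le_add_right n r) =
        (ARSys.tr Y (Nat.le_add_right n r) ≫ e.hom.app (op n)) ≫ e.inv.app (op n) := by
      rw [Category.assoc, Iso.hom_inv_id_app, Category.comp_id]
    rw [this, hnat]
    rfl

end Groth.Agent.Helper4.ARSysFrac
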