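import Mathlib
import Groth.Prelude.Def_EtCech
import Groth.Agent.Helper4.CechGenA
import Groth.Agent.Helper1.CechLES
import Groth.Agent.Helper1.CechDelta

/-! Universe-general: vanishing of `Ȟ¹(Y, F')` gives surjectivity of sections; Čech-acyclicity
passes to the quotient. -/

set_option autoImplicit false
universe w v u

open CategoryTheory CategoryTheory.Limits Opposite

namespace Groth.Agent.Helper4.CechGenB

open Groth.Agent.Helper1.Cech Groth.Agent.Helper4.CechGenA

variable {C : Type u} [Category.{v} C] {J : GrothendieckTopology C}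
  [HasSheafify J AddCommGrpCat.{w}] [J.HasSheafCompose (forget AddCommGrpCat.{w})]

/-- left exactness on sections -/
lemma sections_exact (S : ShortComplex (Sheaf J AddCommGrpCat.{w})) (hS : S.ShortExact) (V : Cᵒᵖ) :
    Function.Injective (S.f.hom.app V) ∧
      ∀ y, S.g.hom.app V y = 0 → ∃ x, S.f.hom.app V x = y := by
  let Φ : Sheaf J AddCommGrpCat.{w} ⥤ AddCommGrpCat.{w} :=
    sheafToPresheaf J _ ⋙ (evaluation _ _).obj V
  haveI : PreservesFiniteLimits (sheafToPresheaf J AddCommGrpCat.{w}) :=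
    ⟨fun K _ _ => (sheafificationAdjunction J AddCommGrpCat.{w}).rightAdjoint_preservesLimits.1⟩
  haveI : PreservesFiniteLimits Φ := by
    dsimp only [Φ]
    infer_instance
  obtain ⟨hex, hmono⟩ :=
    (Functor.preservesFiniteLimits_iff_forall_exact_map_and_mono Φ).1 inferInstance S hS
  refine ⟨(AddCommGrpCat.mono_iff_injective _).1 hmono, ?_⟩
  rw [ShortComplex.ab_exact_iff] at hex
  exact hex

lemma isSheafFor_of_mem (F : Sheaf J AddCommGrpCat.{w}) {U : C} {ι : Type w} (Y : ι → Over U)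
    (hcov : Sieve.ofArrows (fun i => (Y i).left) (fun i => (Y i).hom) ∈ J U) :
    (Presieve.ofArrows (fun i => (Y i).left) (fun i => (Y i).hom)).IsSheafFor
      (F.obj ⋙ forget AddCommGrpCat.{w}) :=
  (Presieve.isSheafFor_iff_generate _).2
    ((isSheaf_iff_isSheaf_of_type J _).1
      (GrothendieckTopology.HasSheafCompose.isSheaf F.obj F.property) _ hcov)

variable {U : C} [HasFiniteProducts (Over U)] {ι : Type w} (Y : ι → Over U)

/-- the map of Čech complexes induced by a morphism of presheaves -/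
noncomputable abbrev mapC {P P' : Cᵒᵖ ⥤ AddCommGrpCat.{w}} (φ : P ⟶ P') :
    cx Y (Q P) ⟶ cx Y (Q P') :=
  (cechComplexFunctor Y).map (Functor.whiskerLeft (Over.forget U).op φ)

lemma comp_mapC {P P' : Cᵒᵖ ⥤ AddCommGrpCat.{w}} (φ : P ⟶ P') (n : ℕ) (x : Fin (n + 1) → ι)
    (c : (cx Y (Q P)).X n) :
    comp Y (Q P') n x ((mapC Y φ).f n c) = φ.app (op (prodU Y x).left) (comp Y (Q P) n x c) :=
  comp_map _ n x c

lemma mapC_injective {P P' : Cᵒᵖ ⥤ AddCommGrpCat.{w}} (φ : P ⟶ P')
    (hφ : ∀ V, Function.Injective (φ.app V)) (n : ℕ) : Function.Injective ((mapC Y φ).f n) := by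
  intro a b hab
  apply Groth.Agent.Helper1.Cech.ext
  intro x
  apply hφ
  exact (comp_mapC Y φ n x a).symm.trans
    ((congrArg (comp Y (Q P') n x) hab).trans (comp_mapC Y φ n x b))

lemma mapC_d {P P' : Cᵒᵖ ⥤ AddCommGrpCat.{w}} (φ : P ⟶ P') (n m : ℕ) (c : (cx Y (Q P)).X n) :
    (mapC Y φ).f m ((cx Y (Q P)).d n m c) = (cx Y (Q P')).d n m ((mapC Y φ).f n c) := by
  have h := ConcreteCategory.congr_hom ((mapC Y φ).comm n m) c
  rw [ConcreteCategory.comp_apply, ConcreteCategory.comp_apply] at h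
  exact h.symm

theorem main (S : ShortComplex (Sheaf J AddCommGrpCat.{w})) (hS : S.ShortExact)
    (hcov : Sieve.ofArrows (fun i => (Y i).left) (fun i => (Y i).hom) ∈ J U)
    (hZ : IsZero (EtCech.cechH Y S.X₁.obj 1)) (s : S.X₃.obj.obj (op U))
    (t : ∀ i, S.X₂.obj.obj (op (Y i).left))
    (ht : ∀ i, S.g.hom.app (op (Y i).left) (t i) = S.X₃.obj.map (Y i).hom.op s) :
    ∃ γ, S.g.hom.app (op U) γ = s := by
  -- the 0-cochain of local lifts
  let T : (cx Y (Q S.X₂.obj)).X 0 := cochainOf Y S.X₂.obj t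
  -- its image in `H` is the cochain of `s`
  have hgT : (mapC Y S.g.hom).f 0 T = toC0 Y S.X₃.obj s := by
    apply Groth.Agent.Helper1.Cech.ext
    intro x
    rw [comp_mapC, comp_toC0]
    show S.g.hom.app _ (comp Y (Q S.X₂.obj) 0 x (cochainOf Y S.X₂.obj t)) = _
    unfold cochainOf
    rw [comp_mk]
    show S.g.hom.app _ (S.X₂.obj.map (pr Y x).left.op (t (x 0))) = _
    have h1 := NatTrans.naturality_apply S.g.hom (pr Y x).left.op (t (x 0))
    rw [h1, ht]
    rw [← ConcreteCategory.comp_apply, ← S.X₃.obj.map_comp, ← op_comp, Over.w]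
  have hgf : ∀ (n : ℕ) (c : (cx Y (Q S.X₁.obj)).X n),
      (mapC Y S.g.hom).f n ((mapC Y S.f.hom).f n c) = 0 := by
    intro n c
    apply Groth.Agent.Helper1.Cech.ext
    intro x
    rw [comp_mapC, comp_mapC, map_zero]
    have h0 : S.f.hom ≫ S.g.hom = 0 := by
      have := congrArg (sheafToPresheaf J AddCommGrpCat.{w}).map S.zero
      rw [Functor.map_comp, Functor.map_zero] at this
      exact this
    have := ConcreteCategory.congr_hom
      (NatTrans.congr_app h0 (op (prodU Y x).left))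
      (comp Y (Q S.X₁.obj) n x c)
    exact this
  -- the coboundary of `T` is killed by `g`
  have hgdT : (mapC Y S.g.hom).f 1 ((cx Y (Q S.X₂.obj)).d 0 1 T) = 0 := by
    rw [mapC_d, hgT]
    exact d_toC0 Y S.X₃.obj s
  have hex : ∀ x : Fin 2 → ι, ∃ c, S.f.hom.app (op (prodU Y x).left) c =
      comp Y (Q S.X₂.obj) 1 x ((cx Y (Q S.X₂.obj)).d 0 1 T) := by
    intro x
    apply (sections_exact S hS _).2
    have := congrArg (comp Y (Q S.X₃.obj) 1 x) hgdT
    rw [map_zero] at this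
    exact (comp_mapC Y S.g.hom 1 x _).symm.trans this
  choose c hc using hex
  let cc : (cx Y (Q S.X₁.obj)).X 1 := mk c
  have hfc : (mapC Y S.f.hom).f 1 cc = (cx Y (Q S.X₂.obj)).d 0 1 T := by
    apply Groth.Agent.Helper1.Cech.ext
    intro x
    rw [comp_mapC]
    have h1 : comp Y (Q S.X₁.obj) 1 x cc = c x := comp_mk _ x
    exact (congrArg (S.f.hom.app (op (prodU Y x).left)) h1).trans (hc x)
  have hdc : (cx Y (Q S.X₁.obj)).d 1 2 cc = 0 := by
    apply mapC_injective Y S.f.hom (fun V => (sections_exact S hS V).1) 2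
    rw [mapC_d, hfc, map_zero]
    have := ConcreteCategory.congr_hom ((cx Y (Q S.X₂.obj)).d_comp_d 0 1 2) T
    rw [ConcreteCategory.comp_apply] at this
    exact this
  obtain ⟨b, hb⟩ := exists_of_isZero_homology (cx Y (Q S.X₁.obj)) 0 hZ cc hdc
  have hT' : (cx Y (Q S.X₂.obj)).d 0 1 (T - (mapC Y S.f.hom).f 0 b) = 0 := by
    rw [map_sub, ← mapC_d, hb, hfc, sub_self]
  obtain ⟨γ, hγ⟩ := exists_of_cocycle (isSheafFor_of_mem S.X₂ Y hcov) _ hT'
  refine ⟨γ, ?_⟩
  apply toC0_injective (isSheafFor_of_mem S.X₃ Y hcov)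
  have hnat : toC0 Y S.X₃.obj (S.g.hom.app (op U) γ) =
      (mapC Y S.g.hom).f 0 (toC0 Y S.X₂.obj γ) := by
    apply Groth.Agent.Helper1.Cech.ext
    intro x
    rw [comp_mapC, comp_toC0, comp_toC0]
    exact (NatTrans.naturality_apply S.g.hom (prodU Y x).hom.op γ).symm
  rw [hnat, hγ, map_sub, hgf, sub_zero, hgT]

end Groth.Agent.Helper4.CechGenB
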