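import Mathlib

set_option autoImplicit false

/-!
# Sections of a filtered colimit of sheaves on a general site (large sites allowed):
local lifting to a stage and local equality at a later stage.
-/

universe w w' v u

open CategoryTheory CategoryTheory.Limits Opposite

namespace Groth.Agent.Helper4.SecLoc

variable {C : Type u} [Category.{v} C] {J : GrothendieckTopology C}
  {A : Type*} [Category A] {FA : A → A → Type*} {CA : A → Type (max u v)}
  [∀ X Y, FunLike (FA X Y) (CA X) (CA Y)] [ConcreteCategory.{max u v} A FA]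
  [HasSheafify J A] [J.HasSheafCompose (forget A)] [J.PreservesSheafification (forget A)]
  {Λ : Type w} [Category.{w'} Λ] [IsFiltered Λ] [HasColimitsOfShape Λ A]
  [PreservesColimitsOfShape Λ (forget A)]
  (D : Λ ⥤ Sheaf J A) {c : Cocone D} (hc : IsColimit c)

/-- the presheaf colimit cocone -/
noncomputable abbrev E : Cocone (D ⋙ sheafToPresheaf J A) := colimit.cocone _

/-- evaluation of the presheaf colimit cocone is a colimit of types -/
noncomputable def hEW (W : C) : IsColimit ((forget A).mapCocone
    (((evaluation Cᵒᵖ A).obj (op W)).mapCocone (E D))) :=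
  isColimitOfPreserves (forget A) (isColimitOfPreserves ((evaluation Cᵒᵖ A).obj (op W))
    (colimit.isColimit _))

/-- comparison iso -/
noncomputable def e : (Sheaf.sheafifyCocone (E D)).pt ≅ c.pt :=
  (Sheaf.isColimitSheafifyCocone (E D) (colimit.isColimit _)).coconePointUniqueUpToIso hc

lemma ι_e (l : Λ) : (Sheaf.sheafifyCocone (E D)).ι.app l ≫ (e D hc).hom = c.ι.app l :=
  IsColimit.comp_coconePointUniqueUpToIso_hom _ _ _

lemma leg_eq (l : Λ) (W : C) (y : ToType ((D.obj l).obj.obj (op W))) :
    (c.ι.app l).hom.app (op W) y =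
      (e D hc).hom.hom.app (op W) ((toSheafify J (E D).pt).app (op W)
        (((E D).ι.app l).app (op W) y)) := by
  have h1 : (c.ι.app l).hom = ((E D).ι.app l ≫ toSheafify J (E D).pt) ≫ (e D hc).hom.hom := by
    rw [← Sheaf.sheafifyCocone_ι_app_val, ← ι_e D hc l]
    rfl
  rw [h1, NatTrans.comp_app, NatTrans.comp_app, ConcreteCategory.comp_apply,
    ConcreteCategory.comp_apply]
  rfl

include hc in
/-- every section of the colimit sheaf locally comes from a stage -/
theorem loc_surj {V : C} (s : ToType (c.pt.obj.obj (op V))) :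
    ∃ T ∈ J V, ∀ ⦃W : C⦄ (g : W ⟶ V), T g →
      ∃ (l : Λ) (y : ToType ((D.obj l).obj.obj (op W))),
        (c.ι.app l).hom.app (op W) y = c.pt.obj.map g.op s := by
  obtain ⟨s', hs'⟩ : ∃ s', s' = (e D hc).inv.hom.app (op V) s := ⟨_, rfl⟩
  refine ⟨Presheaf.imageSieve (toSheafify J (E D).pt) s',
    Presheaf.imageSieve_mem J (toSheafify J (E D).pt) s', fun W g hg => ?_⟩
  obtain ⟨t, ht⟩ := hg
  obtain ⟨l, y, hy⟩ := Types.jointly_surjective_of_isColimit (hEW D W) t
  refine ⟨l, y, ?_⟩
  have hy' : ((E D).ι.app l).app (op W) y = t := hy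
  rw [leg_eq D hc, hy', ht, hs']
  have h2 := NatTrans.naturality_apply (e D hc).inv.hom g.op s
  have h3 : (e D hc).hom.hom.app (op W) ((e D hc).inv.hom.app (op W) (c.pt.obj.map g.op s)) =
      c.pt.obj.map g.op s := by
    rw [← ConcreteCategory.comp_apply, ← NatTrans.comp_app,
      ← ObjectProperty.FullSubcategory.comp_hom, Iso.inv_hom_id,
      ObjectProperty.FullSubcategory.id_hom, NatTrans.id_app, ConcreteCategory.id_apply]
  rw [← h3, h2]
  rfl

include hc in
/-- two sections of a stage agreeing in the colimit sheaf agree locally at later stages -/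
theorem loc_inj {V : C} {l : Λ} (y y' : ToType ((D.obj l).obj.obj (op V)))
    (h : (c.ι.app l).hom.app (op V) y = (c.ι.app l).hom.app (op V) y') :
    ∃ T ∈ J V, ∀ ⦃W : C⦄ (g : W ⟶ V), T g →
      ∃ (m : Λ) (a : l ⟶ m), (D.map a).hom.app (op W) ((D.obj l).obj.map g.op y) =
        (D.map a).hom.app (op W) ((D.obj l).obj.map g.op y') := by
  rw [leg_eq D hc, leg_eq D hc] at h
  have hinj : Function.Injective ((e D hc).hom.hom.app (op V)) := by
    intro a b hab
    have := congrArg ((e D hc).inv.hom.app (op V)) hab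
    have h3 : ∀ z, (e D hc).inv.hom.app (op V) ((e D hc).hom.hom.app (op V) z) = z := by
      intro z
      rw [← ConcreteCategory.comp_apply, ← NatTrans.comp_app,
        ← ObjectProperty.FullSubcategory.comp_hom, Iso.hom_inv_id,
        ObjectProperty.FullSubcategory.id_hom, NatTrans.id_app, ConcreteCategory.id_apply]
    rwa [h3, h3] at this
  have h' := hinj h
  refine ⟨_, Presheaf.equalizerSieve_mem J (toSheafify J (E D).pt) _ _ h', fun W g hg => ?_⟩
  have hg' : (E D).pt.map g.op (((E D).ι.app l).app (op V) y) =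
      (E D).pt.map g.op (((E D).ι.app l).app (op V) y') := hg
  rw [← NatTrans.naturality_apply, ← NatTrans.naturality_apply] at hg'
  obtain ⟨m, a, ha⟩ := (Types.FilteredColimit.isColimit_eq_iff' (hEW D W) _ _).1 hg'
  exact ⟨m, a, ha⟩

end Groth.Agent.Helper4.SecLoc
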