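import Mathlib
import Groth.Agent.Helper4.SecLoc
import Groth.Agent.Helper6.FiltShf

set_option autoImplicit false

/-!
# Sections over quasi-compact objects of a site commute with filtered colimits of sheaves
(general, possibly large, sites; sheaves with values in a concrete category).
-/

universe w w' v u

open CategoryTheory CategoryTheory.Limits Opposite

namespace Groth.Agent.Helper4.SecQC

variable {C : Type u} [Category.{v} C] [HasPullbacks C]

/-- every covering sieve of `V` contains a finite family generating a covering sieve -/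
def QC1 (J : GrothendieckTopology C) (V : C) : Prop :=
  ∀ T ∈ J V, ∃ (n : ℕ) (W : Fin n → C) (g : ∀ k, W k ⟶ V),
    (∀ k, T (g k)) ∧ Sieve.ofArrows W g ∈ J V

/-- as `QC1`, with moreover the pairwise fibre products of the finite family being `QC1` -/
def QC2 (J : GrothendieckTopology C) (V : C) : Prop :=
  ∀ T ∈ J V, ∃ (n : ℕ) (W : Fin n → C) (g : ∀ k, W k ⟶ V),
    (∀ k, T (g k)) ∧ Sieve.ofArrows W g ∈ J V ∧ ∀ k k', QC1 J (pullback (g k) (g k'))

lemma QC2.qc1 {J : GrothendieckTopology C} {V : C} (h : QC2 J V) : QC1 J V := by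
  intro T hT
  obtain ⟨n, W, g, h1, h2, -⟩ := h T hT
  exact ⟨n, W, g, h1, h2⟩

variable {J : GrothendieckTopology C}
  {A : Type*} [Category A] {FA : A → A → Type*} {CA : A → Type (max u v)}
  [∀ X Y, FunLike (FA X Y) (CA X) (CA Y)] [ConcreteCategory.{max u v} A FA]

section Sheaf

variable [J.HasSheafCompose (forget A)]

lemma isSheaf_type (F : Sheaf J A) : Presieve.IsSheaf J (F.obj ⋙ forget A) :=
  (isSheaf_iff_isSheaf_of_type J _).1
    (GrothendieckTopology.HasSheafCompose.isSheaf F.obj F.property)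

lemma map_map (F : Sheaf J A) {V W Z : C} (g : W ⟶ V) (h : Z ⟶ W) (t : ToType (F.obj.obj (op V))) :
    F.obj.map h.op (F.obj.map g.op t) = F.obj.map (h ≫ g).op t := by
  rw [op_comp, F.obj.map_comp, ConcreteCategory.comp_apply]

/-- separation over a covering sieve -/
lemma sep (F : Sheaf J A) {V : C} {T : Sieve V} (hT : T ∈ J V) {t₁ t₂ : ToType (F.obj.obj (op V))}
    (h : ∀ ⦃W : C⦄ (g : W ⟶ V), T g → F.obj.map g.op t₁ = F.obj.map g.op t₂) : t₁ = t₂ :=
  (isSheaf_type F T hT).isSeparatedFor.ext (fun W g hg => h g hg)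

/-- separation over a covering family -/
lemma sep_fam (F : Sheaf J A) {V : C} {n : ℕ} (W : Fin n → C) (g : ∀ k, W k ⟶ V)
    (hg : Sieve.ofArrows W g ∈ J V) {t₁ t₂ : ToType (F.obj.obj (op V))}
    (h : ∀ k, F.obj.map (g k).op t₁ = F.obj.map (g k).op t₂) : t₁ = t₂ := by
  refine sep F hg (fun Z f hf => ?_)
  obtain ⟨k, a, rfl⟩ := (Sieve.mem_ofArrows_iff _ _ _).1 hf
  rw [← map_map, ← map_map, h k]

/-- gluing over a finite covering family -/
lemma glue (F : Sheaf J A) {V : C} {n : ℕ} (W : Fin n → C) (g : ∀ k, W k ⟶ V)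
    (hg : Sieve.ofArrows W g ∈ J V) (z : ∀ k, ToType (F.obj.obj (op (W k))))
    (hz : ∀ a b, F.obj.map (pullback.fst (g a) (g b)).op (z a) =
      F.obj.map (pullback.snd (g a) (g b)).op (z b)) :
    ∃ t : ToType (F.obj.obj (op V)), ∀ k, F.obj.map (g k).op t = z k := by
  have h1 : Presieve.IsSheafFor (F.obj ⋙ forget A) (Presieve.ofArrows W g) :=
    (Presieve.isSheafFor_iff_generate _).2 (isSheaf_type F _ hg)
  obtain ⟨t, ht, -⟩ := (Presieve.isSheafFor_arrows_iff_pullbacks _ _).1 h1 z (fun a b => hz a b)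
  exact ⟨t, ht⟩

end Sheaf

variable [HasSheafify J A] [J.HasSheafCompose (forget A)] [J.PreservesSheafification (forget A)]
  {Λ : Type w} [Category.{w'} Λ] [IsFiltered Λ] [HasColimitsOfShape Λ A]
  [PreservesColimitsOfShape Λ (forget A)]
  (D : Λ ⥤ Sheaf J A) {c : Cocone D} (hc : IsColimit c)

/-- the leg of the cocone at the level of presheaves -/
abbrev ιh (c : Cocone D) (l : Λ) : (D.obj l).obj ⟶ c.pt.obj := (c.ι.app l).hom

lemma ιh_w (c : Cocone D) {l m : Λ} (a : l ⟶ m) (W : C) (y : ToType ((D.obj l).obj.obj (op W))) :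
    (ιh D c m).app (op W) ((D.map a).hom.app (op W) y) = (ιh D c l).app (op W) y := by
  have h : (D.map a).hom ≫ ιh D c m = ιh D c l := by
    show (D.map a ≫ c.ι.app m).hom = _
    rw [c.w a]
  rw [← h, NatTrans.comp_app, ConcreteCategory.comp_apply]

lemma ιh_nat (c : Cocone D) (l : Λ) {V W : C} (g : W ⟶ V) (y : ToType ((D.obj l).obj.obj (op V))) :
    c.pt.obj.map g.op ((ιh D c l).app (op V) y) =
      (ιh D c l).app (op W) ((D.obj l).obj.map g.op y) :=
  (NatTrans.naturality_apply (ιh D c l) g.op y).symm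

lemma D_nat {l m : Λ} (a : l ⟶ m) {V W : C} (g : W ⟶ V) (y : ToType ((D.obj l).obj.obj (op V))) :
    (D.obj m).obj.map g.op ((D.map a).hom.app (op V) y) =
      (D.map a).hom.app (op W) ((D.obj l).obj.map g.op y) :=
  (NatTrans.naturality_apply (D.map a).hom g.op y).symm

lemma D_comp {l m k : Λ} (a : l ⟶ m) (b : m ⟶ k) (W : C) (y : ToType ((D.obj l).obj.obj (op W))) :
    (D.map (a ≫ b)).hom.app (op W) y = (D.map b).hom.app (op W) ((D.map a).hom.app (op W) y) := by
  rw [D.map_comp, ObjectProperty.FullSubcategory.comp_hom, NatTrans.comp_app,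
    ConcreteCategory.comp_apply]

include hc in
/-- sections of a stage over a quasi-compact object which agree in the colimit agree at a later
stage -/
theorem inj_QC1 {V : C} (hV : QC1 J V) {l : Λ} (y y' : ToType ((D.obj l).obj.obj (op V)))
    (h : (ιh D c l).app (op V) y = (ιh D c l).app (op V) y') :
    ∃ (m : Λ) (a : l ⟶ m), (D.map a).hom.app (op V) y = (D.map a).hom.app (op V) y' := by
  obtain ⟨T, hT, hloc⟩ := Groth.Agent.Helper4.SecLoc.loc_inj D hc y y' h
  obtain ⟨n, W, g, hgT, hg⟩ := hV T hT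
  choose mk ak hak using fun k => hloc (g k) (hgT k)
  obtain ⟨m, w, v, hv⟩ := Groth.Agent.Helper6.FiltShf.exists_wide' l mk ak
  refine ⟨m, w, ?_⟩
  refine sep_fam (D.obj m) W g hg (fun k => ?_)
  rw [D_nat, D_nat, ← hv k, D_comp, D_comp, hak k]

include hc in
/-- sections of the colimit sheaf over a quasi-compact "quasi-separated" object come from a
stage -/
theorem surj_QC2 {V : C} (hV : QC2 J V) (s : ToType (c.pt.obj.obj (op V))) :
    ∃ (l : Λ) (y : ToType ((D.obj l).obj.obj (op V))), (ιh D c l).app (op V) y = s := by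
  obtain ⟨T, hT, hloc⟩ := Groth.Agent.Helper4.SecLoc.loc_surj D hc s
  obtain ⟨n, W, g, hgT, hg, hP⟩ := hV T hT
  choose lk yk hyk using fun k => hloc (g k) (hgT k)
  obtain ⟨l₀, hl₀⟩ := Groth.Agent.Helper6.FiltShf.exists_above lk
  obtain ⟨y0, hy0⟩ : ∃ y0 : ∀ k, ToType ((D.obj l₀).obj.obj (op (W k))),
      ∀ k, (ιh D c l₀).app (op (W k)) (y0 k) = c.pt.obj.map (g k).op s :=
    ⟨fun k => (D.map (hl₀ k).some).hom.app (op (W k)) (yk k), fun k => by
      rw [ιh_w]; exact hyk k⟩
  have h' : ∀ ab : Fin n × Fin n, ∃ (m : Λ) (a : l₀ ⟶ m),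
      (D.map a).hom.app _ ((D.obj l₀).obj.map (pullback.fst (g ab.1) (g ab.2)).op (y0 ab.1)) =
      (D.map a).hom.app _ ((D.obj l₀).obj.map (pullback.snd (g ab.1) (g ab.2)).op (y0 ab.2)) := by
    intro ab
    apply inj_QC1 D hc (hP ab.1 ab.2)
    rw [← ιh_nat, ← ιh_nat, hy0, hy0, map_map, map_map, pullback.condition]
  choose mab aab hab using h'
  obtain ⟨m, w, v, hv⟩ := Groth.Agent.Helper6.FiltShf.exists_wide' l₀ mab aab
  obtain ⟨t, ht⟩ := glue (D.obj m) W g hg (fun k => (D.map w).hom.app _ (y0 k)) (by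
    intro a b
    rw [D_nat, D_nat, ← hv (a, b), D_comp, D_comp]
    exact congrArg _ (hab (a, b)))
  refine ⟨m, t, ?_⟩
  refine sep_fam c.pt W g hg (fun k => ?_)
  rw [ιh_nat, ht k, ιh_w, hy0]

/-- sections over a quasi-compact "quasi-separated" object commute with filtered colimits -/
theorem preserves [ReflectsColimitsOfShape Λ (forget A)] {V : C} (hV : QC2 J V) :
    PreservesColimitsOfShape Λ
      (sheafToPresheaf J A ⋙ (evaluation Cᵒᵖ A).obj (op V)) := by
  constructor
  intro D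
  constructor
  intro c hc
  constructor
  refine isColimitOfReflects (forget A) ?_
  refine Types.FilteredColimit.isColimitOf' _ _ ?_ ?_
  · intro x
    obtain ⟨l, y, hy⟩ := surj_QC2 D hc hV x
    exact ⟨l, y, hy.symm⟩
  · intro l y y' h
    obtain ⟨m, a, ha⟩ := inj_QC1 D hc hV.qc1 y y' h
    exact ⟨m, a, ha⟩

end Groth.Agent.Helper4.SecQC
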