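import Mathlib
import Groth.Prelude.Def_EtCech
import Groth.Agent.Helper4.SecQC
import Groth.Agent.Helper4.CechGenB

/-! Čech cochains of a filtered colimit of abelian sheaves, for a finite family whose iterated
fibre products are quasi-compact and "quasi-separated" in the site sense (general sites). -/

set_option autoImplicit false
universe w w' v u

open CategoryTheory CategoryTheory.Limits Opposite

namespace Groth.Agent.Helper4.CechColim

open Groth.Agent.Helper1.Cech Groth.Agent.Helper4.CechGenA Groth.Agent.Helper4.CechGenB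
  Groth.Agent.Helper4.SecQC

variable {C : Type u} [Category.{v} C] [HasPullbacks C] {J : GrothendieckTopology C}
  [HasSheafify J AddCommGrpCat.{max u v}] [J.HasSheafCompose (forget AddCommGrpCat.{max u v})]
  [J.PreservesSheafification (forget AddCommGrpCat.{max u v})]
  {Λ : Type w} [Category.{w'} Λ] [IsFiltered Λ] [HasColimitsOfShape Λ AddCommGrpCat.{max u v}]
  [PreservesColimitsOfShape Λ (forget AddCommGrpCat.{max u v})]
  (D : Λ ⥤ Sheaf J AddCommGrpCat.{max u v}) {c : Cocone D} (hc : IsColimit c)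
  {U : C} [HasFiniteProducts (Over U)] {ι : Type (max u v)} [Finite ι] (Y : ι → Over U)
  (hQ : ∀ (n : ℕ) (x : Fin (n + 1) → ι), QC2 J (prodU Y x).left)

lemma ιh_w' (c : Cocone D) {l m : Λ} (a : l ⟶ m) : (D.map a).hom ≫ ιh D c m = ιh D c l := by
  show (D.map a ≫ c.ι.app m).hom = (c.ι.app l).hom
  rw [c.w a]

lemma mapC_comp {P P' P'' : Cᵒᵖ ⥤ AddCommGrpCat.{max u v}} (φ : P ⟶ P') (ψ : P' ⟶ P'') (n : ℕ)
    (z : (cx Y (Q P)).X n) :
    (mapC Y (φ ≫ ψ)).f n z = (mapC Y ψ).f n ((mapC Y φ).f n z) := by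
  apply Groth.Agent.Helper1.Cech.ext
  intro x
  rw [comp_mapC, comp_mapC, comp_mapC, NatTrans.comp_app, ConcreteCategory.comp_apply]

include hc hQ in
/-- a cochain at a stage dying in the colimit dies at a later stage -/
theorem cochain_inj {l : Λ} (n : ℕ) (z : (cx Y (Q (D.obj l).obj)).X n)
    (hz : (mapC Y (ιh D c l)).f n z = 0) :
    ∃ (m : Λ) (a : l ⟶ m), (mapC Y (D.map a).hom).f n z = 0 := by
  have hx : ∀ x : Fin (n + 1) → ι, ∃ (m : Λ) (a : l ⟶ m),
      (D.map a).hom.app (op (prodU Y x).left) (comp Y (Q (D.obj l).obj) n x z) = 0 := by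
    intro x
    obtain ⟨m, a, ha⟩ := inj_QC1 D hc (hQ n x).qc1 (comp Y (Q (D.obj l).obj) n x z) 0 (by
      have := comp_mapC Y (ιh D c l) n x z
      rw [hz, map_zero] at this
      rw [map_zero]
      exact this.symm)
    exact ⟨m, a, by rw [ha, map_zero]⟩
  choose m a ha using hx
  obtain ⟨k, b, e, he⟩ := Groth.Agent.Helper6.FiltShf.exists_wide' l m a
  refine ⟨k, b, ?_⟩
  apply Groth.Agent.Helper1.Cech.ext
  intro x
  rw [comp_mapC, map_zero, ← he x, D_comp, ha x, map_zero]
  rfl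

include hc hQ in
/-- every cochain of the colimit comes from a stage -/
theorem cochain_surj (n : ℕ) (z : (cx Y (Q c.pt.obj)).X n) :
    ∃ (l : Λ) (z' : (cx Y (Q (D.obj l).obj)).X n), (mapC Y (ιh D c l)).f n z' = z := by
  have hx : ∀ x : Fin (n + 1) → ι, ∃ (l : Λ) (y : (D.obj l).obj.obj (op (prodU Y x).left)),
      (ιh D c l).app (op (prodU Y x).left) y = comp Y (Q c.pt.obj) n x z :=
    fun x => surj_QC2 D hc (hQ n x) _
  choose lx yx hyx using hx
  obtain ⟨l, hl⟩ := Groth.Agent.Helper6.FiltShf.exists_above lx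
  refine ⟨l, mk (fun x => (D.map (hl x).some).hom.app (op (prodU Y x).left) (yx x)), ?_⟩
  apply Groth.Agent.Helper1.Cech.ext
  intro x
  rw [comp_mapC, comp_mk, ιh_w]
  exact hyx x

include hc hQ in
/-- Čech-acyclicity passes to filtered colimits -/
theorem isZero_cechH (p : ℕ)
    (hD : ∀ l, IsZero (EtCech.cechH Y (D.obj l).obj (p + 1))) :
    IsZero (EtCech.cechH Y c.pt.obj (p + 1)) := by
  apply isZero_homology_of_exists
  intro z hz
  obtain ⟨l, z', rfl⟩ := cochain_surj D hc Y hQ (p + 1) z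
  rw [← mapC_d] at hz
  obtain ⟨m, a, ha⟩ := cochain_inj D hc Y hQ (p + 2) _ hz
  rw [mapC_d] at ha
  obtain ⟨b, hb⟩ := exists_of_isZero_homology _ p (hD m) _ ha
  refine ⟨(mapC Y (ιh D c m)).f p b, ?_⟩
  rw [← mapC_d, hb, ← mapC_comp, ιh_w']

end Groth.Agent.Helper4.CechColim
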