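import Mathlib
import Groth.Prelude.Def_EtCech
import Groth.Agent.Helper4.CechGenB

/-! Universe-general: Čech-acyclicity with respect to a collection of coverings passes to the
quotient in a short exact sequence of sheaves. -/

set_option autoImplicit false
universe w v u

open CategoryTheory CategoryTheory.Limits Opposite

namespace Groth.Agent.Helper4.CechGenC

open Groth.Agent.Helper1.Cech Groth.Agent.Helper4.CechGenA Groth.Agent.Helper4.CechGenB

variable {C : Type u} [Category.{v} C] {J : GrothendieckTopology C}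
  [HasSheafify J AddCommGrpCat.{w}] [J.HasSheafCompose (forget AddCommGrpCat.{w})]
  [J.WEqualsLocallyBijective AddCommGrpCat.{w}]
  [∀ V : C, HasFiniteProducts (Over V)]
  (B : Set C) (Cov : ∀ (V : C) (ι : Type w), (ι → Over V) → Prop)

/-- Čech-acyclicity for all the coverings of the collection -/
def CechAcyc (F : Sheaf J AddCommGrpCat.{w}) : Prop :=
  ∀ (V : C) (ι : Type w) (Y : ι → Over V), Cov V ι Y →
    ∀ p : ℕ, IsZero (EtCech.cechH Y F.obj (p + 1))

variable
  (h1 : ∀ (V : C) (ι : Type w) (Y : ι → Over V), Cov V ι Y → V ∈ B ∧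
      Sieve.ofArrows (fun i => (Y i).left) (fun i => (Y i).hom) ∈ J V ∧
      ∀ (p : ℕ) (a : Fin (p + 1) → ι), (∏ᶜ fun k => Y (a k)).left ∈ B)
  (h2 : ∀ V ∈ B, ∀ T ∈ J V, ∃ (ι : Type w) (Y : ι → Over V), Cov V ι Y ∧ ∀ i, T.arrows (Y i).hom)

include h1 h2 in
/-- sections of `F → F''` are surjective over members of `B` when `F'` is Čech-acyclic -/
theorem surj_of_acyc (S : ShortComplex (Sheaf J AddCommGrpCat.{w})) (hS : S.ShortExact)
    (hF : CechAcyc Cov S.X₁) (V : C) (hV : V ∈ B) :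
    Function.Surjective (S.g.hom.app (op V)) := by
  intro s
  haveI : Epi S.g := hS.epi_g
  haveI : Sheaf.IsLocallySurjective S.g :=
    (Sheaf.isLocallySurjective_iff_epi' (φ := S.g)).2 inferInstance
  obtain ⟨ι, Y, hY, hYT⟩ := h2 V hV (Presheaf.imageSieve S.g.hom s)
    (Presheaf.imageSieve_mem J S.g.hom s)
  choose t ht using hYT
  exact main Y S hS (h1 V ι Y hY).2.1 (hF V ι Y hY 0) s t ht

include h1 h2 in
/-- the quotient of Čech-acyclic sheaves is Čech-acyclic -/
theorem acyc_X₃ (S : ShortComplex (Sheaf J AddCommGrpCat.{w})) (hS : S.ShortExact)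
    (hF₁ : CechAcyc Cov S.X₁) (hF₂ : CechAcyc Cov S.X₂) : CechAcyc Cov S.X₃ := by
  intro V ι Y hY p
  let G : Sheaf J AddCommGrpCat.{w} ⥤ ((Over V)ᵒᵖ ⥤ AddCommGrpCat.{w}) :=
    sheafToPresheaf J AddCommGrpCat.{w} ⋙ Groth.Agent.Helper1.CechDelta.W
  have hsw : SectionwiseExact Y (S.map G) := by
    intro n x
    apply shortExact_ab
    · exact (sections_exact S hS _).1
    · exact (sections_exact S hS _).2
    · exact surj_of_acyc B Cov h1 h2 S hS hF₁ _ ((h1 V ι Y hY).2.2 n x)
  have hSE := shortExact_map_cech hsw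
  have hex := hSE.homology_exact₃ (p + 1) (p + 2) rfl
  have hz2 : IsZero (EtCech.cechH Y S.X₂.obj (p + 1)) := hF₂ V ι Y hY p
  have hz1 : IsZero (EtCech.cechH Y S.X₁.obj (p + 1 + 1)) := hF₁ V ι Y hY (p + 1)
  exact hex.isZero_of_both_zeros (hz2.eq_of_src _ _) (hz1.eq_of_tgt _ _)

end Groth.Agent.Helper4.CechGenC
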