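import Mathlib
import Groth.Prelude.Def_EtBase
import Groth.Prelude.Def_EtCech
import Groth.Agent.Helper4.SecQC

set_option autoImplicit false

/-!
# Geometry of the small étale site: coverings, quasi-compact objects, fibre products
-/

universe u

open CategoryTheory CategoryTheory.Limits AlgebraicGeometry Opposite

namespace Groth.Agent.Helper4.EtGeom

open Groth.Agent.Helper4.SecQC

section Cat

/-- a property of objects stable under isomorphisms, holding for a terminal object and stable
under binary products holds for all finite products -/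
lemma pi_mem {𝒟 : Type*} [Category 𝒟] [HasFiniteProducts 𝒟] (Q : 𝒟 → Prop)
    (hiso : ∀ {A B : 𝒟}, (A ≅ B) → Q A → Q B)
    (T : 𝒟) (hT : IsTerminal T) (hQT : Q T)
    (hbin : ∀ (A B : 𝒟) (c : BinaryFan A B), IsLimit c → Q A → Q B → Q c.pt) :
    ∀ (n : ℕ) (f : Fin n → 𝒟), (∀ i, Q (f i)) → Q (∏ᶜ f) := by
  intro n
  induction n with
  | zero =>
    intro f _
    have hterm : IsTerminal (∏ᶜ f) :=
      IsTerminal.ofUniqueHom (fun Z => Pi.lift (fun i => Fin.elim0 i))
        (fun Z m => Pi.hom_ext _ _ (fun i => Fin.elim0 i))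
    exact hiso (hT.uniqueUpToIso hterm) hQT
  | succ n ih =>
    intro f hf
    have h1 : Q (∏ᶜ fun i : Fin n => f i.succ) := ih _ (fun i => hf i.succ)
    have hl := extendFanIsLimit f (productIsProduct (fun i : Fin n => f i.succ))
      (prodIsProd (f 0) (∏ᶜ fun i : Fin n => f i.succ))
    have h2 : Q (extendFan (Fan.mk _ (Pi.π fun i : Fin n => f i.succ))
        (BinaryFan.mk prod.fst prod.snd)).pt :=
      hbin _ _ _ (prodIsProd (f 0) (∏ᶜ fun i : Fin n => f i.succ)) (hf 0) h1
    exact hiso (hl.conePointUniqueUpToIso (productIsProduct f)) h2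

end Cat

variable {X : Scheme.{u}}

set_option backward.isDefEq.respectTransparency.types false in
/-- covering sieves of the small étale site are the jointly surjective ones -/
lemma mem_iff (U : X.Etale) (S : Sieve U) : S ∈ X.smallEtaleTopology U ↔
    ∀ x : U.left, ∃ (V : X.Etale) (g : V ⟶ U) (v : V.left), S g ∧ g.left v = x := by
  have eX : X.smallEtaleTopology =
      (X.smallPretopology (P := EtCoh.etaleMP) (Q := EtCoh.etaleMP)).toGrothendieck :=
    Scheme.smallGrothendieckTopology_eq_toGrothendieck_smallPretopology X le_rfl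
  rw [eX]
  constructor
  · intro h x
    obtain ⟨V, g, v, hg, -, hv⟩ := (Scheme.mem_toGrothendieck_smallPretopology U S).1 h x
    exact ⟨V, g, v, hg, hv⟩
  · intro h
    refine (Scheme.mem_toGrothendieck_smallPretopology U S).2 (fun x => ?_)
    obtain ⟨V, g, v, hg, hv⟩ := h x
    exact ⟨V, g, v, hg, inferInstance, hv⟩

/-- a jointly surjective family generates a covering sieve -/
lemma ofArrows_mem {V : X.Etale} {κ : Type*} (W : κ → X.Etale) (g : ∀ k, W k ⟶ V)
    (h : ∀ x : V.left, ∃ (k : κ) (w : (W k).left), (g k).left w = x) :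
    Sieve.ofArrows W g ∈ X.smallEtaleTopology V := by
  rw [mem_iff]
  intro x
  obtain ⟨k, w, hw⟩ := h x
  exact ⟨W k, g k, w, Sieve.ofArrows_mk _ _ k, hw⟩

/-- a covering family is jointly surjective -/
lemma surj_of_ofArrows_mem {V : X.Etale} {κ : Type*} (W : κ → X.Etale) (g : ∀ k, W k ⟶ V)
    (h : Sieve.ofArrows W g ∈ X.smallEtaleTopology V) :
    ∀ x : V.left, ∃ (k : κ) (w : (W k).left), (g k).left w = x := by
  intro x
  obtain ⟨Z, f, z, hf, hz⟩ := (mem_iff V _).1 h x
  obtain ⟨k, a, rfl⟩ := (Sieve.mem_ofArrows_iff _ _ _).1 hf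
  exact ⟨k, a.left z, hz⟩

/-- finite subfamilies of jointly surjective families over a quasi-compact object -/
lemma exists_finite_subfamily {V : X.Etale} [CompactSpace V.left] {κ : Type*} (W : κ → X.Etale)
    (g : ∀ k, W k ⟶ V) (hcov : ∀ x : V.left, ∃ (k : κ) (w : (W k).left), (g k).left w = x) :
    ∃ (n : ℕ) (σ : Fin n → κ), ∀ x : V.left, ∃ (j : Fin n) (w : (W (σ j)).left),
      (g (σ j)).left w = x := by
  classical
  have hopen : ∀ k, IsOpen (Set.range (g k).left) := fun k => (g k).left.isOpenMap.isOpen_range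
  have hc : (Set.univ : Set V.left) ⊆ ⋃ k, Set.range (g k).left := by
    intro x _
    obtain ⟨k, w, hw⟩ := hcov x
    exact Set.mem_iUnion.mpr ⟨k, w, hw⟩
  obtain ⟨t, ht⟩ := isCompact_univ.elim_finite_subcover _ hopen hc
  refine ⟨t.card, fun j => (t.equivFin.symm j).1, fun x => ?_⟩
  have := ht (Set.mem_univ x)
  simp only [Set.mem_iUnion] at this
  obtain ⟨k, hk, w, hw⟩ := this
  obtain ⟨j, rfl⟩ : ∃ j : Fin t.card, (t.equivFin.symm j).1 = k :=
    ⟨t.equivFin ⟨k, hk⟩, by rw [Equiv.symm_apply_apply]⟩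
  exact ⟨j, w, hw⟩

/-- quasi-compact objects of the small étale site are quasi-compact in the site sense -/
theorem qc1 (V : X.Etale) [CompactSpace V.left] : QC1 X.smallEtaleTopology V := by
  intro T hT
  choose Vx gx vx hgx hvx using (mem_iff V T).1 hT
  obtain ⟨n, σ, hσ⟩ := exists_finite_subfamily Vx gx (fun x => ⟨x, vx x, hvx x⟩)
  exact ⟨n, fun j => Vx (σ j), fun j => gx (σ j), fun j => hgx (σ j),
    ofArrows_mem _ _ hσ⟩

/-- the underlying scheme of a fibre product in the small étale site -/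
noncomputable def pullbackLeftIso {U V W : X.Etale} (f : V ⟶ U) (g : W ⟶ U) :
    (pullback f g).left ≅ pullback f.left g.left :=
  PreservesPullback.iso (Scheme.Etale.forget X ⋙ Over.forget X) f g

lemma compactSpace_of_iso {A B : Scheme.{u}} (e : A ≅ B) [CompactSpace B] : CompactSpace A :=
  QuasiCompact.compactSpace_of_compactSpace e.hom

lemma quasiSeparatedSpace_of_iso {A B : Scheme.{u}} (e : A ≅ B) [QuasiSeparatedSpace B] :
    QuasiSeparatedSpace A :=
  quasiSeparatedSpace_of_quasiSeparated e.hom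

/-- affine refinement of a covering sieve -/
lemma exists_affine_refinement (V : X.Etale) (T : Sieve V) (hT : T ∈ X.smallEtaleTopology V) :
    ∃ (W : V.left → X.Etale) (g : ∀ x, W x ⟶ V), (∀ x, T (g x)) ∧ (∀ x, IsAffine (W x).left) ∧
      ∀ x : V.left, ∃ w : (W x).left, (g x).left w = x := by
  choose Vx gx vx hgx hvx using (mem_iff V T).1 hT
  have hA : ∀ x : V.left, ∃ A : (Vx x).left.Opens, IsAffineOpen A ∧ vx x ∈ A := by
    intro x
    obtain ⟨A, hA, hxA, -⟩ := TopologicalSpace.Opens.isBasis_iff_nbhd.mp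
      (Vx x).left.isBasis_affineOpens (show vx x ∈ (⊤ : (Vx x).left.Opens) from trivial)
    exact ⟨A, hA, hxA⟩
  choose A hA hxA using hA
  let W : V.left → X.Etale := fun x => Scheme.Etale.mk ((A x).ι ≫ ((Vx x).hom : (Vx x).left ⟶ X))
  let h : ∀ x, W x ⟶ Vx x := fun x => MorphismProperty.Over.homMk (A x).ι rfl trivial
  refine ⟨W, fun x => h x ≫ gx x, fun x => T.downward_closed (hgx x) (h x), fun x => ?_,
    fun x => ?_⟩
  · exact hA x
  · refine ⟨⟨vx x, hxA x⟩, ?_⟩
    exact hvx x

/-- quasi-compact quasi-separated objects of the small étale site -/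
theorem qc2 (V : X.Etale) [CompactSpace V.left] [QuasiSeparatedSpace V.left] :
    QC2 X.smallEtaleTopology V := by
  intro T hT
  obtain ⟨W, g, hgT, hW, hcov⟩ := exists_affine_refinement V T hT
  obtain ⟨n, σ, hσ⟩ := exists_finite_subfamily W g (fun x => ⟨x, hcov x⟩)
  refine ⟨n, fun j => W (σ j), fun j => g (σ j), fun j => hgT (σ j), ofArrows_mem _ _ hσ,
    fun k k' => ?_⟩
  haveI : IsAffine (W (σ k)).left := hW _
  haveI : IsAffine (W (σ k')).left := hW _
  haveI : CompactSpace (pullback (g (σ k)) (g (σ k'))).left :=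
    compactSpace_of_iso (pullbackLeftIso (g (σ k)) (g (σ k')))
  exact qc1 _


/-- the underlying scheme functor of the small étale site -/
noncomputable abbrev sch (X : Scheme.{u}) : X.Etale ⥤ Scheme.{u} :=
  Scheme.Etale.forget X ⋙ Over.forget X

lemma qcqs_of_isPullback {P A B S : Scheme.{u}} {fst : P ⟶ A} {snd : P ⟶ B} {f : A ⟶ S} {g : B ⟶ S}
    (sq : IsPullback fst snd f g) [CompactSpace A] [QuasiSeparatedSpace A] [CompactSpace B]
    [QuasiSeparatedSpace B] [QuasiSeparatedSpace S] :
    CompactSpace P ∧ QuasiSeparatedSpace P := by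
  haveI : QuasiCompact g := inferInstance
  haveI : QuasiSeparated g := inferInstance
  haveI : QuasiSeparatedSpace ↑(pullback f g) :=
    quasiSeparatedSpace_of_quasiSeparated (pullback.fst f g)
  exact ⟨compactSpace_of_iso sq.isoPullback, quasiSeparatedSpace_of_iso sq.isoPullback⟩

/-- finite products in `Over U` of quasi-compact quasi-separated objects are such -/
theorem pi_qcqs (U : X.Etale) [CompactSpace U.left] [QuasiSeparatedSpace U.left]
    [HasFiniteProducts (Over U)] (n : ℕ) (f : Fin n → Over U)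
    (hf : ∀ i, CompactSpace (f i).left.left ∧ QuasiSeparatedSpace (f i).left.left) :
    CompactSpace (∏ᶜ f).left.left ∧ QuasiSeparatedSpace (∏ᶜ f).left.left := by
  refine pi_mem (fun Z : Over U => CompactSpace Z.left.left ∧ QuasiSeparatedSpace Z.left.left)
    ?_ (Over.mk (𝟙 U)) Over.mkIdTerminal ⟨‹_›, ‹_›⟩ ?_ n f hf
  · intro A B e hA
    obtain ⟨h1, h2⟩ := hA
    let e' : B.left.left ≅ A.left.left := ((Over.forget U ⋙ sch X).mapIso e).symm
    exact ⟨compactSpace_of_iso e', quasiSeparatedSpace_of_iso e'⟩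
  · intro A B c hc hA hB
    obtain ⟨hA1, hA2⟩ := hA
    obtain ⟨hB1, hB2⟩ := hB
    have sq : IsPullback ((sch X).map c.fst.left) ((sch X).map c.snd.left)
        ((sch X).map A.hom) ((sch X).map B.hom) :=
      (Over.isPullback_of_binaryFan_isLimit c hc).map (sch X)
    exact @qcqs_of_isPullback _ _ _ _ _ _ _ _ sq hA1 hA2 hB1 hB2 ‹QuasiSeparatedSpace U.left›

end Groth.Agent.Helper4.EtGeom
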