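import Mathlib
import Groth.Prelude.Def_EtBase
import Groth.Prelude.Def_EtCech
import Groth.Agent.Helper4.EtGeom
import Groth.Agent.Helper4.CechGenC
import Groth.Agent.Helper4.CechColim
import Groth.Agent.Helper9.ExtNat
import Groth.Agent.S0665

set_option autoImplicit false

/-!
# Cartan's criterion on the small étale site of a qcqs scheme, for the collection of finite
coverings of qcqs objects by qcqs objects; vanishing of cohomology of filtered colimits of
injectives.
-/

universe u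

open CategoryTheory CategoryTheory.Limits AlgebraicGeometry Opposite CategoryTheory.Abelian

namespace Groth.Agent.Helper4.EtCartan

open Groth.Agent.Helper4.SecQC Groth.Agent.Helper4.EtGeom Groth.Agent.Helper4.CechGenC

variable (X : Scheme.{u})

/-- quasi-compact quasi-separated objects -/
def B : Set X.Etale := {V | CompactSpace V.left ∧ QuasiSeparatedSpace V.left}

/-- finite jointly surjective families of qcqs objects over a qcqs object -/
def Cov (V : X.Etale) (ι : Type (u + 1)) (Y : ι → Over V) : Prop :=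
  Finite ι ∧ V ∈ B X ∧ (∀ i, (Y i).left ∈ B X) ∧
    ∀ x : V.left, ∃ (i : ι) (y : (Y i).left.left), (Y i).hom.left y = x

variable {X}

lemma prod_mem {V : X.Etale} {ι : Type (u + 1)} {Y : ι → Over V} (hY : Cov X V ι Y)
    (n : ℕ) (a : Fin n → ι) : (∏ᶜ fun k => Y (a k)).left ∈ B X := by
  obtain ⟨-, ⟨hV1, hV2⟩, hYB, -⟩ := hY
  exact pi_qcqs V n (fun k => Y (a k)) (fun k => hYB (a k))

lemma h1 (V : X.Etale) (ι : Type (u + 1)) (Y : ι → Over V) (hY : Cov X V ι Y) :
    V ∈ B X ∧ Sieve.ofArrows (fun i => (Y i).left) (fun i => (Y i).hom) ∈ X.smallEtaleTopology V ∧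
      ∀ (p : ℕ) (a : Fin (p + 1) → ι), (∏ᶜ fun k => Y (a k)).left ∈ B X :=
  ⟨hY.2.1, ofArrows_mem _ _ hY.2.2.2, fun p a => prod_mem hY (p + 1) a⟩

lemma h2 (V : X.Etale) (hV : V ∈ B X) (T : Sieve V) (hT : T ∈ X.smallEtaleTopology V) :
    ∃ (ι : Type (u + 1)) (Y : ι → Over V), Cov X V ι Y ∧ ∀ i, T.arrows (Y i).hom := by
  obtain ⟨hV1, hV2⟩ := hV
  obtain ⟨W, g, hgT, hW, hcov⟩ := exists_affine_refinement V T hT
  obtain ⟨n, σ, hσ⟩ := exists_finite_subfamily W g (fun x => ⟨x, hcov x⟩)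
  refine ⟨ULift.{u + 1} (Fin n), fun i => Over.mk (g (σ i.down)), ⟨inferInstance, ⟨hV1, hV2⟩, ?_, ?_⟩,
    fun i => hgT _⟩
  · intro i
    haveI : IsAffine (W (σ i.down)).left := hW _
    show CompactSpace (W (σ i.down)).left ∧ QuasiSeparatedSpace (W (σ i.down)).left
    exact ⟨inferInstance, inferInstance⟩
  · intro x
    obtain ⟨j, w, hw⟩ := hσ x
    exact ⟨⟨j⟩, w, hw⟩

lemma hQ {V : X.Etale} {ι : Type (u + 1)} {Y : ι → Over V} (hY : Cov X V ι Y)
    (n : ℕ) (x : Fin (n + 1) → ι) :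
    QC2 X.smallEtaleTopology (Groth.Agent.Helper1.Cech.prodU Y x).left := by
  obtain ⟨h1, h2⟩ := prod_mem hY (n + 1) x
  exact @qc2 _ _ h1 h2

/-- injective sheaves are Čech-acyclic -/
lemma acyc_injective (I : EtCoh.Ab X) [Injective I] : CechAcyc (Cov X) I := by
  intro V ι Y _ p
  haveI : (presheafToSheaf X.smallEtaleTopology AddCommGrpCat.{u + 1}).PreservesMonomorphisms :=
    inferInstance
  haveI : Injective I.obj :=
    Injective.injective_of_adjoint (sheafificationAdjunction X.smallEtaleTopology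
      AddCommGrpCat.{u + 1}) I
  exact Groth.Agent.S0665.result Y I.obj p

/-- filtered colimits of Čech-acyclic sheaves are Čech-acyclic -/
lemma acyc_colimit {Λ : Type (u + 1)} [SmallCategory Λ] [IsFiltered Λ] (D : Λ ⥤ EtCoh.Ab X)
    {c : Cocone D} (hc : IsColimit c) (hD : ∀ l, CechAcyc (Cov X) (D.obj l)) :
    CechAcyc (Cov X) c.pt := by
  intro V ι Y hY p
  haveI : Finite ι := hY.1
  exact Groth.Agent.Helper4.CechColim.isZero_cechH D hc Y (hQ hY) p (fun l => hD l V ι Y hY p)

/-- the terminal object -/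
noncomputable def hT : IsTerminal (EtCoh.top X) :=
  MorphismProperty.Over.mkIdTerminal _ _

variable [CompactSpace X] [QuasiSeparatedSpace X]

lemma top_mem : EtCoh.top X ∈ B X := ⟨‹_›, ‹_›⟩

/-- Cartan's criterion: Čech-acyclic sheaves are acyclic on `X` -/
theorem cartan : ∀ (p : ℕ) (F : EtCoh.Ab X), CechAcyc (Cov X) F →
    ∀ x : EtCoh.H X F (p + 1), x = 0 := by
  intro p
  induction p with
  | zero =>
    intro F hF x
    have hS := Groth.Agent.Helper9.ExtNat.sc_shortExact F
    obtain ⟨y, rfl⟩ := Groth.Agent.Helper9.ExtNat.exists_comp_extClass x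
    obtain ⟨i, hi⟩ := surj_of_acyc (B X) (Cov X) h1 h2 _ hS hF (EtCoh.top X) top_mem
      (Sheaf.H.equiv₀ _ hT y)
    have hy : y = Sheaf.H.map (Groth.Agent.Helper9.ExtNat.sc F).g 0
        ((Sheaf.H.equiv₀ _ hT).symm i) := by
      rw [Sheaf.H.equiv₀_symm_naturality, hi, AddEquiv.symm_apply_apply]
    rw [hy, Sheaf.H.map_apply, Ext.comp_assoc _ _ _ (add_zero 0) (zero_add 1) (by omega),
      hS.comp_extClass, Ext.comp_zero]
  | succ p ih =>
    intro F hF x
    have hS := Groth.Agent.Helper9.ExtNat.sc_shortExact F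
    obtain ⟨y, rfl⟩ := Groth.Agent.Helper9.ExtNat.exists_comp_extClass x
    have hQa : CechAcyc (Cov X) (Groth.Agent.Helper9.ExtNat.sc F).X₃ :=
      acyc_X₃ (B X) (Cov X) h1 h2 _ hS hF (acyc_injective _)
    rw [ih _ hQa y, Ext.zero_comp]

end Groth.Agent.Helper4.EtCartan
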