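import Mathlib
import Groth.Agent.Helper4.EtCartan
import Groth.Agent.Helper6.CF1

set_option autoImplicit false

/-!
# Étale cohomology of a qcqs scheme and filtered colimits: elementwise form
-/

universe u

open CategoryTheory CategoryTheory.Limits AlgebraicGeometry Opposite CategoryTheory.Abelian

namespace Groth.Agent.Helper4.EtColimH

variable (X : Scheme.{u})

/-- the constant sheaf `ℤ` -/
noncomputable abbrev Z : EtCoh.Ab X :=
  (constantSheaf X.smallEtaleTopology AddCommGrpCat.{u + 1}).obj (AddCommGrpCat.of (ULift ℤ))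

variable [CompactSpace X] [QuasiSeparatedSpace X]

/-- every class in `H^n(X, colim D)` comes from a stage, and a class of a stage dying in the
colimit dies at a later stage -/
theorem hall (Λ : Type (u + 1)) [SmallCategory Λ] [IsFiltered Λ] (n : ℕ) (D : Λ ⥤ EtCoh.Ab X) :
    Groth.Agent.Helper6.CF.Surj (Z X) n D ∧ Groth.Agent.Helper6.CF.Inj (Z X) n D := by
  classical
  obtain ⟨hT1, hT2⟩ := Groth.Agent.Helper4.EtCartan.top_mem (X := X)
  have hqc2 : Groth.Agent.Helper4.SecQC.QC2 X.smallEtaleTopology (EtCoh.top X) :=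
    @Groth.Agent.Helper4.EtGeom.qc2 _ _ hT1 hT2
  have h0 : ∀ D : Λ ⥤ EtCoh.Ab X,
      Groth.Agent.Helper6.CF.Surj (Z X) 0 D ∧ Groth.Agent.Helper6.CF.Inj (Z X) 0 D := by
    intro D
    constructor
    · intro x
      obtain ⟨l, y₀, hy₀⟩ := Groth.Agent.Helper4.SecQC.surj_QC2 D (colimit.isColimit D) hqc2
        (Sheaf.H.equiv₀ (colimit D) Groth.Agent.Helper4.EtCartan.hT x)
      refine ⟨l, (Sheaf.H.equiv₀ (D.obj l) Groth.Agent.Helper4.EtCartan.hT).symm y₀, ?_⟩
      have := Sheaf.H.equiv₀_symm_naturality (hT := Groth.Agent.Helper4.EtCartan.hT)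
        (colimit.ι D l) y₀
      refine this.trans ?_
      apply (Sheaf.H.equiv₀ (colimit D) Groth.Agent.Helper4.EtCartan.hT).injective
      rw [AddEquiv.apply_symm_apply]
      exact hy₀
    · intro l y hy
      have h1 := Sheaf.H.equiv₀_naturality (hT := Groth.Agent.Helper4.EtCartan.hT)
        (colimit.ι D l) y
      have hy' : Sheaf.H.map (colimit.ι D l) 0 y = 0 := hy
      rw [hy', map_zero] at h1
      obtain ⟨m, a, ha⟩ := Groth.Agent.Helper4.SecQC.inj_QC1 D (colimit.isColimit D) hqc2.qc1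
        (Sheaf.H.equiv₀ (D.obj l) Groth.Agent.Helper4.EtCartan.hT y) 0 (by
          rw [map_zero]; exact h1)
      refine ⟨m, a, ?_⟩
      apply (Sheaf.H.equiv₀ (D.obj m) Groth.Agent.Helper4.EtCartan.hT).injective
      have h2 := Sheaf.H.equiv₀_naturality (hT := Groth.Agent.Helper4.EtCartan.hT) (D.map a) y
      rw [map_zero]
      refine h2.symm.trans ?_
      rw [ha, map_zero]
  have hv : ∀ (q : ℕ) (I : Λ ⥤ EtCoh.Ab X), (∀ l, Injective (I.obj l)) →
      ∀ x : Abelian.Ext.{u + 1} (Z X) (colimit I) (q + 1), x = 0 := by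
    intro q I hI x
    exact Groth.Agent.Helper4.EtCartan.cartan q (colimit I)
      (Groth.Agent.Helper4.EtCartan.acyc_colimit I (colimit.isColimit I)
        (fun l => Groth.Agent.Helper4.EtCartan.acyc_injective (I.obj l))) x
  exact Groth.Agent.Helper6.CF.all (Λ := Λ) _ h0 hv n D

end Groth.Agent.Helper4.EtColimH
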