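import Mathlib
import Groth.Agent.Helper4.EtColimH

/-! Acyclic abelian étale sheaves on a qcqs scheme are stable under isomorphisms, finite
biproducts, filtered colimits and arbitrary coproducts. -/

set_option autoImplicit false
universe u

open CategoryTheory CategoryTheory.Limits AlgebraicGeometry Opposite CategoryTheory.Abelian

namespace Groth.Agent.Helper4.AcycColim

section General

universe w v' u'

variable {𝒜 : Type u'} [Category.{v'} 𝒜] [Abelian 𝒜] [HasExt.{w} 𝒜]

lemma comp_mk₀_sum {A B C : 𝒜} {n : ℕ} (x : Ext.{w} A B n) {J : Type*} (s : Finset J)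
    (f : J → (B ⟶ C)) :
    x.comp (Ext.mk₀ (∑ j ∈ s, f j)) (add_zero n) =
      ∑ j ∈ s, x.comp (Ext.mk₀ (f j)) (add_zero n) := by
  classical
  induction s using Finset.induction_on with
  | empty => rw [Finset.sum_empty, Finset.sum_empty, Ext.mk₀_zero, Ext.comp_zero]
  | insert a s ha ih =>
    rw [Finset.sum_insert ha, Finset.sum_insert ha, Ext.mk₀_add, Ext.comp_add, ih]

/-- `Ext^n(A, -)` vanishes on an object isomorphic to one where it vanishes -/
lemma ext_eq_zero_of_iso {A B C : 𝒜} (e : B ≅ C) {n : ℕ} (h : ∀ y : Ext.{w} A B n, y = 0)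
    (x : Ext.{w} A C n) : x = 0 := by
  have h1 : x = (x.comp (Ext.mk₀ e.inv) (add_zero n)).comp (Ext.mk₀ e.hom) (add_zero n) := by
    rw [Ext.comp_assoc_of_third_deg_zero, Ext.mk₀_comp_mk₀, e.inv_hom_id, Ext.comp_mk₀_id]
  rw [h1, h (x.comp (Ext.mk₀ e.inv) (add_zero n)), Ext.zero_comp]

omit [HasExt.{w} 𝒜] in
lemma total' {J : Type*} [Fintype J] (G : J → 𝒜) [HasBiproduct G] :
    ∑ j : J, biproduct.π G j ≫ biproduct.ι G j = 𝟙 (⨁ G) := by
  classical
  apply biproduct.hom_ext
  intro j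
  rw [Preadditive.sum_comp, Category.id_comp]
  simp only [Category.assoc, biproduct.ι_π]
  rw [Finset.sum_eq_single j]
  · simp
  · intro b _ hb
    simp [hb]
  · simp

/-- `Ext^n(A, -)` vanishes on finite biproducts of objects where it vanishes -/
lemma ext_eq_zero_biproduct {A : 𝒜} {J : Type*} [Fintype J] (G : J → 𝒜) [HasBiproduct G] {n : ℕ}
    (h : ∀ j, ∀ y : Ext.{w} A (G j) n, y = 0) (x : Ext.{w} A (⨁ G) n) : x = 0 := by
  classical
  have h1 : x = x.comp (Ext.mk₀ (∑ j : J, biproduct.π G j ≫ biproduct.ι G j)) (add_zero n) := by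
    rw [total', Ext.comp_mk₀_id]
  rw [h1, comp_mk₀_sum]
  apply Finset.sum_eq_zero
  intro j _
  rw [← Ext.mk₀_comp_mk₀, ← Ext.comp_assoc_of_third_deg_zero,
    h j (x.comp (Ext.mk₀ (biproduct.π G j)) (add_zero n)), Ext.zero_comp]

end General

variable (X : Scheme.{u})

/-- acyclic sheaves -/
def Acyc (F : EtCoh.Ab X) : Prop := ∀ (n : ℕ) (x : EtCoh.H X F (n + 1)), x = 0

variable {X}

lemma acyc_of_iso {F G : EtCoh.Ab X} (e : F ≅ G) (h : Acyc X F) : Acyc X G :=
  fun n x => ext_eq_zero_of_iso e (h n) x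

lemma acyc_biproduct {J : Type*} [Fintype J] (G : J → EtCoh.Ab X) (h : ∀ j, Acyc X (G j)) :
    Acyc X (⨁ G) :=
  fun n x => ext_eq_zero_biproduct G (fun j => h j n) x

variable [CompactSpace X] [QuasiSeparatedSpace X]

lemma acyc_colimit (Λ : Type (u + 1)) [SmallCategory Λ] [IsFiltered Λ] (D : Λ ⥤ EtCoh.Ab X)
    (h : ∀ l, Acyc X (D.obj l)) : Acyc X (colimit D) := by
  intro n x
  obtain ⟨l, y, rfl⟩ := (Groth.Agent.Helper4.EtColimH.hall X Λ (n + 1) D).1 x
  rw [h l n y]
  exact Groth.Agent.Helper6.CF.P_zero _ _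

lemma acyc_of_isColimit (Λ : Type (u + 1)) [SmallCategory Λ] [IsFiltered Λ] (D : Λ ⥤ EtCoh.Ab X)
    (c : Cocone D) (hc : IsColimit c) (h : ∀ l, Acyc X (D.obj l)) : Acyc X c.pt :=
  acyc_of_iso ((colimit.isColimit D).coconePointUniqueUpToIso hc) (acyc_colimit Λ D h)

/-- arbitrary (small) coproducts of acyclic sheaves are acyclic -/
lemma acyc_coproduct {ι : Type u} (G : ι → EtCoh.Ab X) (h : ∀ i, Acyc X (G i)) (c : Cofan G)
    (hc : IsColimit c) : Acyc X c.pt := by
  classical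
  let D₀ := CoproductsFromFiniteFiltered.liftToFinsetObj (Discrete.functor G)
  let cc := CoproductsFromFiniteFiltered.liftToFinsetColimitCocone (Discrete.functor G)
  have e : c.pt ≅ colimit D₀ := hc.coconePointUniqueUpToIso cc.isColimit
  haveI : IsFiltered (AsSmall.{u + 1} (Finset (Discrete ι))) :=
    IsFiltered.of_equivalence AsSmall.equiv
  let D : AsSmall.{u + 1} (Finset (Discrete ι)) ⥤ EtCoh.Ab X :=
    (AsSmall.equiv (C := Finset (Discrete ι))).inverse ⋙ D₀
  have hD : ∀ l, Acyc X (D.obj l) := fun l =>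
    acyc_of_iso (biproduct.isoCoproduct _) (acyc_biproduct _ (fun j => h _))
  have e2 : colimit D ≅ colimit D₀ :=
    Functor.Final.colimitIso (AsSmall.equiv (C := Finset (Discrete ι))).inverse D₀
  exact acyc_of_iso (e2 ≪≫ e.symm) (acyc_colimit _ D hD)

end Groth.Agent.Helper4.AcycColim
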