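import Mathlib
import Groth.Prelude.Def_CxOX
import Groth.Agent.Helper4.Flasque
import Groth.Agent.Helper4.KDerAdj
import Groth.Agent.Helper4.SchAdj
import Groth.Agent.Helper4.RestrKInj
import Groth.Agent.Helper9.KInjAdj

/-! The short exact sequence `0 → Γ_Z(I) → I → ι_* ι^* I → 0` for a complex `I` of injective
modules, and consequences for `RΓ_Z`. -/

set_option autoImplicit false
universe u

open CategoryTheory CategoryTheory.Limits AlgebraicGeometry Opposite Pretriangulated
attribute [local instance] HasDerivedCategory.standard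

namespace Groth.Agent.Helper4.RGammaZTri

variable {X : Scheme.{u}}

/-- K-injective representative with injective terms -/
theorem exists_kinj_rep (G : DCoh.D X) : ∃ (I : CochainComplex X.Modules ℤ),
    I.IsKInjective ∧ (∀ n, Injective (I.X n)) ∧ Nonempty (G ≅ DerivedCategory.Q.obj I) := by
  haveI := Groth.Agent.Helper4.SchAdj.isGrothendieckAbelian_modules X
  let K₀ := DerivedCategory.Q.objPreimage G
  obtain ⟨I, f, hI, hf, -, hinj⟩ := Groth.Agent.Helper4.KInjRes.exists_resolution K₀
  haveI : IsIso (DerivedCategory.Q.map f) := by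
    rw [DerivedCategory.isIso_Q_map_iff_quasiIso]
    exact hf
  exact ⟨I, hI, hinj, ⟨(DerivedCategory.Q.objObjPreimageIso G).symm ≪≫
    asIso (DerivedCategory.Q.map f)⟩⟩

variable {T : Scheme.{u}} (ι : T ⟶ X) [IsOpenImmersion ι]

/-- `Γ_Z(I) ⟶ I` -/
noncomputable def fI (I : CochainComplex X.Modules ℤ) :
    ((DCoh.gammaZ ι).mapHomologicalComplex (ComplexShape.up ℤ)).obj I ⟶ I where
  f n := (CxOX.gammaZι ι).app (I.X n)
  comm' i j _ := ((CxOX.gammaZι ι).naturality (I.d i j)).symm

/-- `I ⟶ ι_* ι^* I` -/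
noncomputable def gI (I : CochainComplex X.Modules ℤ) :
    I ⟶ ((Scheme.Modules.restrictFunctor ι ⋙ Scheme.Modules.pushforward ι).mapHomologicalComplex
      (ComplexShape.up ℤ)).obj I where
  f n := (Scheme.Modules.restrictAdjunction ι).unit.app (I.X n)
  comm' i j _ := ((Scheme.Modules.restrictAdjunction ι).unit.naturality (I.d i j)).symm

theorem fI_gI (I : CochainComplex X.Modules ℤ) : fI ι I ≫ gI ι I = 0 := by
  apply HomologicalComplex.hom_ext
  intro n
  exact kernel.condition ((Scheme.Modules.restrictAdjunction ι).unit.app (I.X n))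

/-- the short complex of complexes -/
noncomputable def ses (I : CochainComplex X.Modules ℤ) :
    ShortComplex (CochainComplex X.Modules ℤ) :=
  ShortComplex.mk (fI ι I) (gI ι I) (fI_gI ι I)

theorem ses_shortExact (I : CochainComplex X.Modules ℤ) (hI : ∀ n, Injective (I.X n)) :
    (ses ι I).ShortExact := by
  apply HomologicalComplex.shortExact_of_degreewise_shortExact
  intro n
  haveI := hI n
  obtain ⟨s, hs⟩ := Groth.Agent.Helper4.Flasque.exists_section ι (I.X n)
  have hepi : Epi ((Scheme.Modules.restrictAdjunction ι).unit.app (I.X n)) :=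
    epi_of_epi_fac hs
  have hmono : Mono ((CxOX.gammaZι ι).app (I.X n)) := by
    show Mono (kernel.ι _)
    infer_instance
  exact { exact := ShortComplex.exact_of_f_is_kernel _ (kernelIsKernel _)
          mono_f := hmono
          epi_g := hepi }


section opens

variable (W : X.Opens)

/-- `RΓ_Z(Q I) ≅ Q(Γ_Z I)` for `I` K-injective -/
theorem nonempty_RgammaZ_iso [CxOX.HasRgammaZ W.ι] (I : CochainComplex X.Modules ℤ)
    [I.IsKInjective] :
    Nonempty ((CxOX.RgammaZ W.ι).obj (DerivedCategory.Q.obj I) ≅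
      DerivedCategory.Q.obj
        (((DCoh.gammaZ W.ι).mapHomologicalComplex (ComplexShape.up ℤ)).obj I)) := by
  haveI := Groth.Agent.Helper4.SchAdj.isGrothendieckAbelian_modules X
  let X' : (Groth.Agent.Helper1.KInjDer.P X.Modules).FullSubcategory :=
    ⟨(HomotopyCategory.quotient _ _).obj I,
      (CochainComplex.isKInjective_iff_rightOrthogonal _).1 inferInstance⟩
  let β := (CxOX.gammaZKh W.ι).totalRightDerivedUnit DerivedCategory.Qh
    (HomotopyCategory.quasiIso X.Modules (ComplexShape.up ℤ))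
  haveI : IsIso (β.app ((Groth.Agent.Helper1.KInjDer.Φ X.Modules).functor.obj X')) :=
    Groth.Agent.Helper4.KDerAdj.isIso_β_app (CxOX.RgammaZ W.ι) β X'
  exact ⟨(asIso (β.app ((Groth.Agent.Helper1.KInjDer.Φ X.Modules).functor.obj X'))).symm⟩

/-- `Rι_*(Q J) ≅ Q(ι_* J)` for `J` K-injective -/
theorem nonempty_Rpush_iso [DCoh.HasRpush W.ι] (J : CochainComplex (W : Scheme.{u}).Modules ℤ)
    [J.IsKInjective] :
    Nonempty ((DCoh.Rpush W.ι).obj (DerivedCategory.Q.obj J) ≅
      DerivedCategory.Q.obj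
        (((Scheme.Modules.pushforward W.ι).mapHomologicalComplex (ComplexShape.up ℤ)).obj J)) := by
  haveI := Groth.Agent.Helper4.SchAdj.isGrothendieckAbelian_modules (W : Scheme.{u})
  let X' : (Groth.Agent.Helper1.KInjDer.P (W : Scheme.{u}).Modules).FullSubcategory :=
    ⟨(HomotopyCategory.quotient _ _).obj J,
      (CochainComplex.isKInjective_iff_rightOrthogonal _).1 inferInstance⟩
  let β := (DCoh.pushKh W.ι).totalRightDerivedUnit DerivedCategory.Qh
    (HomotopyCategory.quasiIso (W : Scheme.{u}).Modules (ComplexShape.up ℤ))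
  haveI : IsIso (β.app ((Groth.Agent.Helper1.KInjDer.Φ (W : Scheme.{u}).Modules).functor.obj X')) :=
    Groth.Agent.Helper4.KDerAdj.isIso_β_app (DCoh.Rpush W.ι) β X'
  exact ⟨(asIso (β.app
    ((Groth.Agent.Helper1.KInjDer.Φ (W : Scheme.{u}).Modules).functor.obj X'))).symm⟩

/-- an object killed by `RΓ_Z` is pushed forward from the open complement of `Z` -/
theorem exists_iso_Rpush_of_isZero_RgammaZ [CxOX.HasRgammaZ W.ι] [DCoh.HasRpush W.ι]
    (G : DCoh.D X) (h : IsZero ((CxOX.RgammaZ W.ι).obj G)) :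
    ∃ N : DCoh.D (W : Scheme.{u}), Nonempty (G ≅ (DCoh.Rpush W.ι).obj N) := by
  obtain ⟨I, hI, hinj, ⟨eG⟩⟩ := exists_kinj_rep G
  obtain ⟨e1⟩ := nonempty_RgammaZ_iso W I
  haveI := Groth.Agent.Helper4.RestrKInj.isKInjective_restrict W I
  obtain ⟨e2⟩ := nonempty_Rpush_iso W
    (((Scheme.Modules.restrictFunctor W.ι).mapHomologicalComplex (ComplexShape.up ℤ)).obj I)
  have hT := DerivedCategory.triangleOfSES_distinguished (ses_shortExact W.ι I hinj)
  have hz : IsZero (DerivedCategory.Q.obj
      (((DCoh.gammaZ W.ι).mapHomologicalComplex (ComplexShape.up ℤ)).obj I)) :=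
    (h.of_iso ((CxOX.RgammaZ W.ι).mapIso eG.symm)).of_iso e1.symm
  have hiso : IsIso (DerivedCategory.Q.map (gI W.ι I)) :=
    (Triangle.isZero₁_iff_isIso₂ _ hT).1 hz
  refine ⟨DerivedCategory.Q.obj
    (((Scheme.Modules.restrictFunctor W.ι).mapHomologicalComplex (ComplexShape.up ℤ)).obj I), ⟨?_⟩⟩
  exact eG ≪≫ asIso (DerivedCategory.Q.map (gI W.ι I)) ≪≫ e2.symm

theorem isZero_gammaZ_pushforward (M : (W : Scheme.{u}).Modules) :
    IsZero ((DCoh.gammaZ W.ι).obj ((Scheme.Modules.pushforward W.ι).obj M)) := by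
  have h := (Scheme.Modules.restrictAdjunction W.ι).right_triangle_components M
  haveI : IsIso ((Scheme.Modules.pushforward W.ι).map
      ((Scheme.Modules.restrictAdjunction W.ι).counit.app M)) := inferInstance
  haveI : IsIso ((Scheme.Modules.restrictAdjunction W.ι).unit.app
      ((Scheme.Modules.pushforward W.ι).obj M)) := by
    rw [IsIso.eq_inv_of_inv_hom_id h]
    infer_instance
  exact isZero_kernel_of_mono _

theorem isZero_RgammaZ_Rpush [CxOX.HasRgammaZ W.ι] [DCoh.HasRpush W.ι]
    (N : DCoh.D (W : Scheme.{u})) :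
    IsZero ((CxOX.RgammaZ W.ι).obj ((DCoh.Rpush W.ι).obj N)) := by
  obtain ⟨J, hJ, -, ⟨eN⟩⟩ := exists_kinj_rep N
  obtain ⟨e1⟩ := nonempty_Rpush_iso W J
  haveI : CochainComplex.IsKInjective
      (((Scheme.Modules.pushforward W.ι).mapHomologicalComplex (ComplexShape.up ℤ)).obj J) :=
    Groth.Agent.Helper9.KInjAdj.isKInjective_map (Scheme.Modules.restrictAdjunction W.ι) J
  obtain ⟨e2⟩ := nonempty_RgammaZ_iso W
    (((Scheme.Modules.pushforward W.ι).mapHomologicalComplex (ComplexShape.up ℤ)).obj J)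
  have hz : IsZero (((DCoh.gammaZ W.ι).mapHomologicalComplex (ComplexShape.up ℤ)).obj
      (((Scheme.Modules.pushforward W.ι).mapHomologicalComplex (ComplexShape.up ℤ)).obj J)) := by
    rw [IsZero.iff_id_eq_zero]
    apply HomologicalComplex.hom_ext
    intro n
    exact (isZero_gammaZ_pushforward W (J.X n)).eq_of_src _ _
  exact IsZero.of_iso (Functor.map_isZero _ hz)
    ((CxOX.RgammaZ W.ι).mapIso ((DCoh.Rpush W.ι).mapIso eN ≪≫ e1) ≪≫ e2)

end opens

end Groth.Agent.Helper4.RGammaZTri
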