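import Mathlib
import Groth.Agent.Helper4.AcycLocal
import Groth.Agent.Helper4.RGammaZTri
import Groth.Agent.Helper4.RestrKInj
import Groth.Agent.Helper4.RDerComp
import Groth.Agent.Helper4.SuppLib

/-! An object of `D(O_Y)` whose `RΓ(U, -)` vanishes for all affine opens `U` is zero. -/

set_option autoImplicit false
universe u
open CategoryTheory CategoryTheory.Limits AlgebraicGeometry TopologicalSpace Opposite

namespace Groth.Agent.Helper4.AcycLocal

attribute [local instance] HasDerivedCategory.standard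

variable {Y : Scheme.{u}}

/-- `RΓ(U, (Q I)|_U) ≅ Q Γ(U, I|_U)` for `I` K-injective -/
theorem nonempty_RΓ_restrict_iso (U : Y.Opens) [DCoh.HasRΓ (U : Scheme.{u})]
    (I : CochainComplex Y.Modules ℤ) [I.IsKInjective] :
    Nonempty ((DCoh.RΓ (U : Scheme.{u})).obj ((DCoh.restrictD U.ι).obj (DerivedCategory.Q.obj I)) ≅
      DerivedCategory.Q.obj (((DCoh.gammaAb (U : Scheme.{u})).mapHomologicalComplex
        (ComplexShape.up ℤ)).obj (((Scheme.Modules.restrictFunctor U.ι).mapHomologicalComplex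
          (ComplexShape.up ℤ)).obj I))) := by
  haveI := Groth.Agent.Helper4.SchAdj.isGrothendieckAbelian_modules (U : Scheme.{u})
  set J : CochainComplex (U : Scheme.{u}).Modules ℤ :=
    ((Scheme.Modules.restrictFunctor U.ι).mapHomologicalComplex (ComplexShape.up ℤ)).obj I
    with hJdef
  haveI : CochainComplex.IsKInjective J := Groth.Agent.Helper4.RestrKInj.isKInjective_restrict U I
  let β := (DCoh.gammaKh (U : Scheme.{u})).totalRightDerivedUnit DerivedCategory.Qh
    (HomotopyCategory.quasiIso (U : Scheme.{u}).Modules (ComplexShape.up ℤ))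
  let XJ : (Groth.Agent.Helper1.KInjDer.P (U : Scheme.{u}).Modules).FullSubcategory :=
    ⟨(HomotopyCategory.quotient _ _).obj J, CochainComplex.IsKInjective.rightOrthogonal J⟩
  have hβ : IsIso (β.app XJ.obj) :=
    Groth.Agent.Helper4.RDerComp.isIso_β_app' (DCoh.gammaKh (U : Scheme.{u}))
      (DCoh.RΓ (U : Scheme.{u})) β XJ
  let e1 : (DCoh.restrictD U.ι).obj (DerivedCategory.Q.obj I) ≅ DerivedCategory.Q.obj J :=
    (Functor.mapDerivedCategoryFactors (Scheme.Modules.restrictFunctor U.ι)).app I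
  let e2 : (DCoh.gammaKh (U : Scheme.{u})).obj ((HomotopyCategory.quotient _ _).obj J) ≅
      DerivedCategory.Q.obj (((DCoh.gammaAb (U : Scheme.{u})).mapHomologicalComplex
        (ComplexShape.up ℤ)).obj J) :=
    DerivedCategory.Qh.mapIso
      (((DCoh.gammaAb (U : Scheme.{u})).mapHomotopyCategoryFactors (ComplexShape.up ℤ)).app J)
  exact ⟨(DCoh.RΓ (U : Scheme.{u})).mapIso e1 ≪≫ (@asIso _ _ _ _ (β.app XJ.obj) hβ).symm ≪≫ e2⟩

theorem isZero_of_isZero_RΓ_affine [∀ U : Y.Opens, DCoh.HasRΓ (U : Scheme.{u})] (C : DCoh.D Y)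
    (h : ∀ U : Y.Opens, IsAffineOpen U →
      IsZero ((DCoh.RΓ (U : Scheme.{u})).obj ((DCoh.restrictD U.ι).obj C))) : IsZero C := by
  obtain ⟨I, hI, -, ⟨e⟩⟩ := Groth.Agent.Helper4.RGammaZTri.exists_kinj_rep C
  haveI := hI
  refine IsZero.of_iso ?_ e
  apply Groth.Agent.Helper4.SuppLib.isZero_of_homology
  intro n
  refine IsZero.of_iso ?_ ((DerivedCategory.homologyFunctorFactors Y.Modules n).app I)
  change IsZero (I.homology n)
  rw [← HomologicalComplex.exactAt_iff_isZero_homology]
  -- sections over affine opens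
  have key : ∀ V : Y.Opens, (∃ U : Y.Opens, IsAffineOpen U ∧ U.ι ''ᵁ ⊤ = V) →
      ∀ z : Γ(I.X n, V), (I.d n (n + 1)).app V z = 0 →
        ∃ c : Γ(I.X (n - 1), V), (I.d (n - 1) n).app V c = z := by
    rintro V ⟨U, hU, rfl⟩ z hz
    obtain ⟨eU⟩ := nonempty_RΓ_restrict_iso U I
    have h0 : IsZero ((DCoh.RΓ (U : Scheme.{u})).obj
        ((DCoh.restrictD U.ι).obj (DerivedCategory.Q.obj I))) :=
      (h U hU).of_iso ((DCoh.RΓ (U : Scheme.{u})).mapIso ((DCoh.restrictD U.ι).mapIso e.symm))
    have h1 := h0.of_iso eU.symm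
    set ΓJ : CochainComplex AddCommGrpCat.{u} ℤ :=
      ((DCoh.gammaAb (U : Scheme.{u})).mapHomologicalComplex
        (ComplexShape.up ℤ)).obj (((Scheme.Modules.restrictFunctor U.ι).mapHomologicalComplex
          (ComplexShape.up ℤ)).obj I) with hΓJ
    have h2 : IsZero (ΓJ.homology n) :=
      ((DerivedCategory.homologyFunctor _ n).map_isZero h1).of_iso
        ((DerivedCategory.homologyFunctorFactors AddCommGrpCat.{u} n).app ΓJ).symm
    rw [← HomologicalComplex.exactAt_iff_isZero_homology,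
      HomologicalComplex.exactAt_iff' ΓJ (n - 1) n (n + 1) (by simp) (by simp),
      ShortComplex.ab_exact_iff] at h2
    exact h2 z hz
  apply exactAt_of_affine
  intro U hU
  exact key U ⟨U, hU, Scheme.Opens.ι_image_top U⟩

end Groth.Agent.Helper4.AcycLocal
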