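import Mathlib

/-!
# Helper4: weighted homogeneity of preimages under substitution of (weighted) homogeneous polynomials
-/

namespace Groth.Agent.Helper4.SymPoly

open MvPolynomial

variable {σ τ R M : Type*} [CommRing R] [AddCommMonoid M]

theorem aeval_isWeightedHomogeneous (w : σ → M) (v : τ → M) (e : σ → MvPolynomial τ R)
    (he : ∀ k, IsWeightedHomogeneous v (e k) (w k)) {Q : MvPolynomial σ R} {m : M}
    (hQ : IsWeightedHomogeneous w Q m) : IsWeightedHomogeneous v (aeval e Q) m := by
  classical
  rw [aeval_def, eval₂_eq]
  apply IsWeightedHomogeneous.sum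
  intro d hd
  have hwd : Finsupp.weight w d = m := hQ (mem_support_iff.mp hd)
  have h1 : IsWeightedHomogeneous v (∏ i ∈ d.support, e i ^ d i) m := by
    rw [← hwd, Finsupp.weight_apply, Finsupp.sum]
    apply IsWeightedHomogeneous.prod
    intro i _
    exact (he i).pow (d i)
  rw [algebraMap_eq]
  exact h1.C_mul _

theorem aeval_weightedHomogeneousComponent (w : σ → M) (v : τ → M) (e : σ → MvPolynomial τ R)
    (he : ∀ k, IsWeightedHomogeneous v (e k) (w k)) (Q₀ : MvPolynomial σ R) {m : M}
    (hf : IsWeightedHomogeneous v (aeval e Q₀) m) :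
    aeval e (weightedHomogeneousComponent w m Q₀) = aeval e Q₀ := by
  classical
  have hfin := weightedHomogeneousComponent_finsupp (w := w) Q₀
  have hsum : Q₀ = ∑ m' ∈ hfin.toFinset, weightedHomogeneousComponent w m' Q₀ := by
    conv_lhs => rw [← sum_weightedHomogeneousComponent w Q₀]
    rw [finsum_eq_sum _ hfin]
  have h2 : aeval e Q₀ = ∑ m' ∈ hfin.toFinset, aeval e (weightedHomogeneousComponent w m' Q₀) := by
    conv_lhs => rw [hsum]
    rw [map_sum]
  have h3 : weightedHomogeneousComponent v m (aeval e Q₀) = aeval e Q₀ :=
    hf.weightedHomogeneousComponent_same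
  have h4 : ∀ m', weightedHomogeneousComponent v m
      (aeval e (weightedHomogeneousComponent w m' Q₀)) =
      if m = m' then aeval e (weightedHomogeneousComponent w m' Q₀) else 0 := by
    intro m'
    apply weightedHomogeneousComponent_of_mem
    rw [mem_weightedHomogeneousSubmodule]
    exact aeval_isWeightedHomogeneous w v e he
      (weightedHomogeneousComponent_isWeightedHomogeneous m' Q₀)
  rw [← h3]
  conv_rhs => rw [h2, map_sum]
  simp_rw [h4]
  rw [Finset.sum_ite_eq]
  split_ifs with hm
  · rfl
  · have : weightedHomogeneousComponent w m Q₀ = 0 := by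
      by_contra h
      exact hm (by simpa [Set.Finite.mem_toFinset, Function.mem_support] using h)
    rw [this, map_zero]

end Groth.Agent.Helper4.SymPoly
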