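import Mathlib
import Groth.Agent.Helper4.SymPoly

/-!
# Helper4: symmetric-function lemmas for universal λ-ring polynomials
-/

namespace Groth.Agent.Helper4.SymPoly

open MvPolynomial Finset

theorem sum_powersetCard_map {α β : Type*} [DecidableEq α] [AddCommMonoid β] (s : Finset α) (e : α ↪ α)
    (hs : s.map e = s) (k : ℕ) (g : Finset α → β) :
    ∑ T ∈ powersetCard k s, g (T.map e) = ∑ T ∈ powersetCard k s, g T := by
  conv_rhs => rw [← hs, Finset.powersetCard_map, Finset.sum_map]
  rfl

theorem esymm_map_val_isWeightedHomogeneous {ι τ R M : Type*} [CommRing R] [AddCommMonoid M]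
    (v : τ → M) (f : ι → MvPolynomial τ R) (s : Finset ι) (c : M)
    (hf : ∀ a ∈ s, IsWeightedHomogeneous v (f a) c) (n : ℕ) :
    IsWeightedHomogeneous v ((s.val.map f).esymm n) (n • c) := by
  classical
  rw [Finset.esymm_map_val]
  apply IsWeightedHomogeneous.sum
  intro t ht
  rw [Finset.mem_powersetCard] at ht
  have := IsWeightedHomogeneous.prod (w := v) t f (fun _ => c) (fun a ha => hf a (ht.1 ha))
  rw [Finset.sum_const, ht.2] at this
  exact this

theorem esymm_isHomogeneous (σ R : Type*) [Fintype σ] [CommRing R] (n : ℕ) :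
    (esymm σ R n).IsHomogeneous n := by
  classical
  rw [esymm_eq_multiset_esymm]
  have := esymm_map_val_isWeightedHomogeneous (R := R) (1 : σ → ℕ) (X : σ → MvPolynomial σ R)
    Finset.univ 1 (fun a _ => isHomogeneous_X R a) n
  rw [smul_eq_mul, mul_one] at this
  exact this

end Groth.Agent.Helper4.SymPoly
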