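import Mathlib
import Groth.Prelude.Def_LambdaSp
import Groth.Agent.Helper4.SymPoly2

/-!
# Helper4: the universal polynomials `Q_{i,j}` exist
-/

namespace Groth.Agent.Helper4.SymPoly

open MvPolynomial Finset

theorem powersetCard_univ_map_perm {α : Type*} [Fintype α] [DecidableEq α] (σ : Equiv.Perm α) (i : ℕ) :
    (powersetCard i (univ : Finset α)).map (Finset.mapEmbedding σ.toEmbedding).toEmbedding =
      powersetCard i univ := by
  rw [← Finset.powersetCard_map, Finset.map_univ_equiv]

theorem compGen_isSymmetric (N i j : ℕ) : (LambdaRing.compGen N i j).IsSymmetric := by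
  classical
  intro σ
  unfold LambdaRing.compGen
  rw [Finset.esymm_map_val]
  simp only [map_sum, map_prod, rename_X]
  conv_rhs => rw [← sum_powersetCard_map (powersetCard i univ)
    (Finset.mapEmbedding σ.toEmbedding).toEmbedding (powersetCard_univ_map_perm σ i) j]
  apply Finset.sum_congr rfl
  intro T _
  rw [Finset.prod_map]
  apply Finset.prod_congr rfl
  intro t _
  rw [RelEmbedding.coe_toEmbedding, Finset.mapEmbedding_apply, Finset.prod_map]
  rfl

theorem compGen_isHomogeneous (N i j : ℕ) : (LambdaRing.compGen N i j).IsHomogeneous (i * j) := by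
  classical
  unfold LambdaRing.compGen
  have := esymm_map_val_isWeightedHomogeneous (R := ℤ) (1 : Fin N → ℕ)
    (fun s : Finset (Fin N) => ∏ a ∈ s, (X a : MvPolynomial (Fin N) ℤ))
    (powersetCard i univ) i (fun s hs => by
      rw [Finset.mem_powersetCard] at hs
      have := IsWeightedHomogeneous.prod (w := (1 : Fin N → ℕ)) s
        (fun a => (X a : MvPolynomial (Fin N) ℤ)) (fun _ => 1) (fun a _ => isHomogeneous_X ℤ a)
      rw [Finset.sum_const, hs.2, smul_eq_mul, mul_one] at this
      exact this) j
  rw [smul_eq_mul, mul_comm] at this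
  exact this

/-- A symmetric homogeneous polynomial in `N` variables over a commutative ring is an isobaric
polynomial in the elementary symmetric polynomials. -/
theorem exists_isobaric_of_isSymmetric {R : Type*} [CommRing R] (N d : ℕ)
    (f : MvPolynomial (Fin N) R) (hs : f.IsSymmetric)
    (hh : f.IsHomogeneous d) :
    ∃ Q : MvPolynomial (Fin N) R,
      aeval (fun k : Fin N => esymm (Fin N) R ((k : ℕ) + 1)) Q = f ∧
        IsWeightedHomogeneous (fun k : Fin N => (k : ℕ) + 1) Q d := by
  obtain ⟨Q₀, hQ₀⟩ := (esymmAlgHom_fin_bijective R N).2 ⟨f, hs⟩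
  have hQ₀' : aeval (fun k : Fin N => esymm (Fin N) R ((k : ℕ) + 1)) Q₀ = f := by
    rw [← esymmAlgHom_apply, hQ₀]
  refine ⟨weightedHomogeneousComponent (fun k : Fin N => (k : ℕ) + 1) d Q₀, ?_,
    weightedHomogeneousComponent_isWeightedHomogeneous _ _⟩
  rw [← hQ₀']
  apply aeval_weightedHomogeneousComponent (fun k : Fin N => (k : ℕ) + 1) (1 : Fin N → ℕ)
  · intro k
    exact esymm_isHomogeneous (Fin N) R _
  · rw [hQ₀']
    exact hh

theorem exists_isCompPoly (i j : ℕ) :
    ∃ Q : MvPolynomial (Fin (i * j)) ℤ, LambdaRing.IsCompPoly i j Q :=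
  exists_isobaric_of_isSymmetric (i * j) (i * j) _ (compGen_isSymmetric _ i j)
    (compGen_isHomogeneous _ i j)

end Groth.Agent.Helper4.SymPoly
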