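import Mathlib
import Groth.Prelude.Def_LambdaSp
import Groth.Agent.Helper4.SymPoly3

/-!
# Helper4: the universal polynomials `P_n` exist
-/

namespace Groth.Agent.Helper4.SymPoly
open MvPolynomial Finset

/-- ring homs commute with `Multiset.esymm`. -/
theorem map_multiset_esymm {A B : Type*} [CommSemiring A] [CommSemiring B] (g : A →+* B)
    (m : Multiset A) (k : ℕ) : g (m.esymm k) = (m.map g).esymm k := by
  unfold Multiset.esymm
  rw [map_multiset_sum, Multiset.powersetCard_map, Multiset.map_map, Multiset.map_map]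
  congr 1
  apply Multiset.map_congr rfl
  intro t _
  simp [map_multiset_prod]

theorem map_esymm_map_val_of_perm {α A : Type*} [Fintype α] [DecidableEq α] [CommSemiring A]
    (G : A →+* A) (f : α → A) (e : Equiv.Perm α) (h : ∀ a, G (f a) = f (e a)) (k : ℕ) :
    G (((univ : Finset α).val.map f).esymm k) = ((univ : Finset α).val.map f).esymm k := by
  rw [Finset.esymm_map_val]
  simp only [map_sum, map_prod, h]
  conv_rhs => rw [← sum_powersetCard_map univ e.toEmbedding (Finset.map_univ_equiv e) k]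
  apply Finset.sum_congr rfl
  intro T _
  rw [Finset.prod_map]
  rfl

theorem map_aeval_of_fixed {σ τ' R : Type*} [CommRing R] (g : R →+* R)
    (e : σ → MvPolynomial τ' R) (he : ∀ k, map g (e k) = e k) (Q : MvPolynomial σ R) :
    map g (aeval e Q) = aeval e (map g Q) := by
  induction Q using MvPolynomial.induction_on with
  | C a => simp
  | add p q hp hq => simp only [map_add, hp, hq]
  | mul_X p i hp => simp only [map_mul, map_X, aeval_X, hp, he]

variable (n : ℕ)

/-- The polynomial `mulGen` with the `Y`-variables as coefficients. -/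
noncomputable def mulGenRel (k : ℕ) : MvPolynomial (Fin n) (MvPolynomial (Fin n) ℤ) :=
  ((Finset.univ : Finset (Fin n × Fin n)).val.map
    fun ab => (X ab.1 * C (X ab.2) : MvPolynomial (Fin n) (MvPolynomial (Fin n) ℤ))).esymm k

/-- The evaluation `ℤ[Y][X] → ℤ[X ⊕ Y]`. -/
noncomputable def Θ :
    MvPolynomial (Fin n) (MvPolynomial (Fin n) ℤ) →+* MvPolynomial (Fin n ⊕ Fin n) ℤ :=
  eval₂Hom (rename Sum.inr : MvPolynomial (Fin n) ℤ →ₐ[ℤ] _).toRingHom (fun a => X (Sum.inl a))

theorem Θ_mulGenRel (k : ℕ) : Θ n (mulGenRel n k) = LambdaRing.mulGen n k := by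
  unfold mulGenRel LambdaRing.mulGen
  rw [map_multiset_esymm, Multiset.map_map]
  congr 1
  apply Multiset.map_congr rfl
  intro ab _
  simp [Θ]

theorem Θ_esymm (k : ℕ) :
    Θ n (esymm (Fin n) (MvPolynomial (Fin n) ℤ) k) = rename Sum.inl (esymm (Fin n) ℤ k) := by
  simp only [esymm, map_sum, map_prod]
  apply Finset.sum_congr rfl
  intro t _
  apply Finset.prod_congr rfl
  intro i _
  simp [Θ]

theorem mulGenRel_isSymmetric (k : ℕ) : (mulGenRel n k).IsSymmetric := by
  classical
  intro σ
  exact map_esymm_map_val_of_perm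
    (rename σ : MvPolynomial (Fin n) (MvPolynomial (Fin n) ℤ) →ₐ[MvPolynomial (Fin n) ℤ] _).toRingHom
    _ (σ.prodCongr (Equiv.refl _)) (by intro ab; simp) k

theorem map_rename_mulGenRel (τ : Equiv.Perm (Fin n)) (k : ℕ) :
    map (rename τ : MvPolynomial (Fin n) ℤ →ₐ[ℤ] _).toRingHom (mulGenRel n k) = mulGenRel n k := by
  classical
  exact map_esymm_map_val_of_perm (map _) _ ((Equiv.refl _).prodCongr τ) (by intro ab; simp) k

/-- the substitution of elementary symmetric polynomials of both families. -/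
noncomputable def E : Fin n ⊕ Fin n → MvPolynomial (Fin n ⊕ Fin n) ℤ :=
  Sum.elim (fun k : Fin n => rename Sum.inl (esymm (Fin n) ℤ ((k : ℕ) + 1)))
    (fun k : Fin n => rename Sum.inr (esymm (Fin n) ℤ ((k : ℕ) + 1)))

theorem aeval_E_rename_inr (r : MvPolynomial (Fin n) ℤ) :
    aeval (E n) (rename Sum.inr r) =
      rename Sum.inr (aeval (fun k : Fin n => esymm (Fin n) ℤ ((k : ℕ) + 1)) r) := by
  rw [aeval_rename, ← AlgHom.comp_apply]
  congr 1
  apply MvPolynomial.algHom_ext
  intro k
  simp [E]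

theorem aeval_E_Θ (Q₂ : MvPolynomial (Fin n) (MvPolynomial (Fin n) ℤ)) :
    aeval (E n) (Θ n Q₂) =
      Θ n (aeval (fun k : Fin n => esymm (Fin n) (MvPolynomial (Fin n) ℤ) ((k : ℕ) + 1))
        (map (aeval (fun k : Fin n => esymm (Fin n) ℤ ((k : ℕ) + 1))
          : MvPolynomial (Fin n) ℤ →ₐ[ℤ] _).toRingHom Q₂)) := by
  induction Q₂ using MvPolynomial.induction_on with
  | C a =>
    simp only [map_C, aeval_C, algebraMap_eq]
    simp only [Θ, coe_eval₂Hom, eval₂_C]
    exact aeval_E_rename_inr n a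
  | add p q hp hq => simp only [map_add, hp, hq]
  | mul_X p i hp =>
    simp only [map_mul, hp, map_X, aeval_X, Θ_esymm]
    congr 1
    simp [Θ, E]

end Groth.Agent.Helper4.SymPoly
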