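import Mathlib
import Groth.Agent.Helper4.SymPoly4

/-!
# Helper4: symmetric polynomials vanishing to order `n` are polynomials of weight `≥ n` in the
elementary symmetric polynomials; the Adams polynomial `e_p((1+X)^j - 1) - j^p e_p(X)`.
-/

namespace Groth.Agent.Helper4.AdamsPoly

open MvPolynomial Finset

section general

variable {σ τ R M : Type*} [CommRing R] [AddCommMonoid M] [DecidableEq M]

/-- substitution of weighted homogeneous polynomials commutes with taking weighted homogeneous
components -/
theorem weightedHomogeneousComponent_aeval (w : σ → M) (v : τ → M) (e : σ → MvPolynomial τ R)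
    (he : ∀ k, IsWeightedHomogeneous v (e k) (w k)) (Q₀ : MvPolynomial σ R) (m : M) :
    weightedHomogeneousComponent v m (aeval e Q₀) =
      aeval e (weightedHomogeneousComponent w m Q₀) := by
  classical
  have hfin := weightedHomogeneousComponent_finsupp (w := w) Q₀
  have hsum : Q₀ = ∑ m' ∈ hfin.toFinset, weightedHomogeneousComponent w m' Q₀ := by
    conv_lhs => rw [← sum_weightedHomogeneousComponent w Q₀]
    rw [finsum_eq_sum _ hfin]
  have h2 : aeval e Q₀ = ∑ m' ∈ hfin.toFinset, aeval e (weightedHomogeneousComponent w m' Q₀) := by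
    conv_lhs => rw [hsum]
    rw [map_sum]
  have h4 : ∀ m', weightedHomogeneousComponent v m
      (aeval e (weightedHomogeneousComponent w m' Q₀)) =
      if m = m' then aeval e (weightedHomogeneousComponent w m' Q₀) else 0 := by
    intro m'
    apply weightedHomogeneousComponent_of_mem
    rw [mem_weightedHomogeneousSubmodule]
    exact SymPoly.aeval_isWeightedHomogeneous w v e he
      (weightedHomogeneousComponent_isWeightedHomogeneous m' Q₀)
  conv_lhs => rw [h2, map_sum]
  simp_rw [h4]
  rw [Finset.sum_ite_eq]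
  split_ifs with hm
  · rfl
  · have : weightedHomogeneousComponent w m Q₀ = 0 := by
      by_contra h
      exact hm (by simpa [Set.Finite.mem_toFinset, Function.mem_support] using h)
    rw [this, map_zero]

end general

/-- A symmetric polynomial in `N` variables lying in the `n`-th power of the ideal of the variables
is a polynomial in the elementary symmetric polynomials, all of whose monomials have weight `≥ n`. -/
theorem exists_weight_ge_of_isSymmetric {R : Type*} [CommRing R] (N n : ℕ)
    (f : MvPolynomial (Fin N) R) (hs : f.IsSymmetric)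
    (hh : f ∈ idealOfVars (Fin N) R ^ n) :
    ∃ Q : MvPolynomial (Fin N) R,
      aeval (fun k : Fin N => esymm (Fin N) R ((k : ℕ) + 1)) Q = f ∧
        ∀ d ∈ Q.support, n ≤ Finsupp.weight (fun k : Fin N => (k : ℕ) + 1) d := by
  classical
  obtain ⟨Q₀, hQ₀⟩ := (esymmAlgHom_fin_bijective R N).2 ⟨f, hs⟩
  set e : Fin N → MvPolynomial (Fin N) R := fun k => esymm (Fin N) R ((k : ℕ) + 1) with he
  set w : Fin N → ℕ := fun k => (k : ℕ) + 1 with hw
  have hQ₀' : aeval e Q₀ = f := by
    rw [← esymmAlgHom_apply, hQ₀]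
  have hehom : ∀ k, IsWeightedHomogeneous (1 : Fin N → ℕ) (e k) (w k) := fun k =>
    SymPoly.esymm_isHomogeneous (Fin N) R _
  have hfin := weightedHomogeneousComponent_finsupp (w := w) Q₀
  have hsum : Q₀ = ∑ m' ∈ hfin.toFinset, weightedHomogeneousComponent w m' Q₀ := by
    conv_lhs => rw [← sum_weightedHomogeneousComponent w Q₀]
    rw [finsum_eq_sum _ hfin]
  refine ⟨∑ m' ∈ hfin.toFinset.filter (fun m' => n ≤ m'), weightedHomogeneousComponent w m' Q₀,
    ?_, ?_⟩
  · rw [← hQ₀']
    conv_rhs => rw [hsum]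
    rw [map_sum, map_sum, Finset.sum_filter]
    refine Finset.sum_congr rfl fun m' _ => ?_
    split_ifs with hm
    · rfl
    · rw [← weightedHomogeneousComponent_aeval w (1 : Fin N → ℕ) e hehom, hQ₀']
      ext x
      rw [coeff_weightedHomogeneousComponent, coeff_zero]
      split_ifs with hx
      · symm
        apply (mem_pow_idealOfVars_iff' n f).mp hh
        have : Finsupp.degree x = Finsupp.weight (1 : Fin N → ℕ) x := by
          rw [Finsupp.degree_eq_weight_one]; rfl
        rw [this, hx]
        omega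
      · rfl
  · intro d hd
    have := support_sum hd
    rw [Finset.mem_biUnion] at this
    obtain ⟨m', hm', hdm⟩ := this
    rw [Finset.mem_filter] at hm'
    rw [mem_support_iff, coeff_weightedHomogeneousComponent] at hdm
    split_ifs at hdm with h
    · rw [h]; exact hm'.2
    · exact absurd rfl hdm

section prod

variable {A : Type*} [CommRing A] {ι : Type*} [DecidableEq ι]

theorem prod_sub_prod_mem (I : Ideal A) (T : Finset ι) (a b : ι → A) (ha : ∀ i ∈ T, a i ∈ I)
    (hb : ∀ i ∈ T, b i ∈ I) (hab : ∀ i ∈ T, a i - b i ∈ I ^ 2) :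
    ∏ i ∈ T, a i - ∏ i ∈ T, b i ∈ I ^ (T.card + 1) := by
  induction T using Finset.induction_on with
  | empty => simp
  | insert i T hi ih =>
    rw [Finset.prod_insert hi, Finset.prod_insert hi, Finset.card_insert_of_notMem hi]
    have e : a i * ∏ x ∈ T, a x - b i * ∏ x ∈ T, b x =
        (a i - b i) * ∏ x ∈ T, a x + b i * (∏ x ∈ T, a x - ∏ x ∈ T, b x) := by ring
    rw [e]
    apply Ideal.add_mem
    · have h1 : ∏ x ∈ T, a x ∈ I ^ T.card := by
        have := Ideal.prod_mem_prod (s := T) (I := fun _ => I) (x := a)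
          (fun x hx => ha x (Finset.mem_insert_of_mem hx))
        rwa [Finset.prod_const] at this
      have := Ideal.mul_mem_mul (hab i (Finset.mem_insert_self i T)) h1
      rw [← pow_add] at this
      have e2 : 2 + T.card = T.card + 1 + 1 := by omega
      rwa [e2] at this
    · have := Ideal.mul_mem_mul (hb i (Finset.mem_insert_self i T))
        (ih (fun x hx => ha x (Finset.mem_insert_of_mem hx))
          (fun x hx => hb x (Finset.mem_insert_of_mem hx))
          (fun x hx => hab x (Finset.mem_insert_of_mem hx)))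
      rw [← pow_succ'] at this
      exact this

theorem exists_one_add_pow (x : A) (j : ℕ) : ∃ h : A, (1 + x) ^ j = 1 + (j : A) * x + x ^ 2 * h := by
  induction j with
  | zero => exact ⟨0, by simp⟩
  | succ j ih =>
    obtain ⟨h, hh⟩ := ih
    refine ⟨(j : A) + h * (1 + x), ?_⟩
    rw [pow_succ, hh]
    push_cast
    ring

end prod

variable (N p j : ℕ)

/-- the Adams polynomial -/
noncomputable def adamsPoly : MvPolynomial (Fin N) ℤ :=
  ((univ : Finset (Fin N)).val.map
    (fun i => (1 + (X i : MvPolynomial (Fin N) ℤ)) ^ j - 1)).esymm p -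
    (j : MvPolynomial (Fin N) ℤ) ^ p * esymm (Fin N) ℤ p

theorem adamsPoly_isSymmetric : (adamsPoly N p j).IsSymmetric := by
  classical
  intro σ
  unfold adamsPoly
  rw [map_sub, map_mul, map_pow, map_natCast, esymm_isSymmetric (Fin N) ℤ p σ]
  congr 1
  exact SymPoly.map_esymm_map_val_of_perm (rename σ : MvPolynomial (Fin N) ℤ →ₐ[ℤ] _).toRingHom
    (fun i => (1 + (X i : MvPolynomial (Fin N) ℤ)) ^ j - 1) σ (fun a => by simp) p

theorem adamsPoly_mem : adamsPoly N p j ∈ idealOfVars (Fin N) ℤ ^ (p + 1) := by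
  classical
  unfold adamsPoly
  rw [Finset.esymm_map_val, esymm, Finset.mul_sum, ← Finset.sum_sub_distrib]
  apply Ideal.sum_mem
  intro T hT
  rw [Finset.mem_powersetCard] at hT
  have hXmem : ∀ i : Fin N, (X i : MvPolynomial (Fin N) ℤ) ∈ idealOfVars (Fin N) ℤ :=
    fun i => Ideal.subset_span ⟨i, rfl⟩
  have e : (j : MvPolynomial (Fin N) ℤ) ^ p * ∏ i ∈ T, X i =
      ∏ i ∈ T, ((j : MvPolynomial (Fin N) ℤ) * X i) := by
    rw [Finset.prod_mul_distrib, Finset.prod_const, hT.2]
  rw [e, ← hT.2]
  apply prod_sub_prod_mem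
  · intro i _
    obtain ⟨h, hh⟩ := exists_one_add_pow (X i : MvPolynomial (Fin N) ℤ) j
    rw [hh]
    have : 1 + (j : MvPolynomial (Fin N) ℤ) * X i + X i ^ 2 * h - 1 =
        X i * ((j : MvPolynomial (Fin N) ℤ) + X i * h) := by ring
    rw [this]
    exact Ideal.mul_mem_right _ _ (hXmem i)
  · intro i _
    exact Ideal.mul_mem_left _ _ (hXmem i)
  · intro i _
    obtain ⟨h, hh⟩ := exists_one_add_pow (X i : MvPolynomial (Fin N) ℤ) j
    rw [hh]
    have : 1 + (j : MvPolynomial (Fin N) ℤ) * X i + X i ^ 2 * h - 1 -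
        (j : MvPolynomial (Fin N) ℤ) * X i = X i ^ 2 * h := by ring
    rw [this]
    exact Ideal.mul_mem_right _ _ (Ideal.pow_mem_pow (hXmem i) 2)

theorem exists_adamsQ : ∃ Q : MvPolynomial (Fin N) ℤ,
    aeval (fun k : Fin N => esymm (Fin N) ℤ ((k : ℕ) + 1)) Q = adamsPoly N p j ∧
      ∀ d ∈ Q.support, p + 1 ≤ Finsupp.weight (fun k : Fin N => (k : ℕ) + 1) d :=
  exists_weight_ge_of_isSymmetric N (p + 1) _ (adamsPoly_isSymmetric N p j) (adamsPoly_mem N p j)

end Groth.Agent.Helper4.AdamsPoly
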