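import Groth.Agent.Helper4.GammaOps
import Groth.Prelude.Def_W4bkmilneecrracsp2Inv
import Mathlib

set_option autoImplicit false
universe u

/-! λ-operations on sums of line-like elements; symmetric-function identities with inverses. -/

namespace Groth.Agent.Helper4.InvSplit

open LambdaRing Finset

section ring
variable {K : Type u} [CommRing K]

theorem esymm_zero' (s : Multiset K) : s.esymm 0 = 1 := by
  simp [Multiset.esymm]

theorem esymm_card (s : Multiset K) : s.esymm (Multiset.card s) = s.prod := by
  simp [Multiset.esymm, Multiset.powersetCard_self]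

theorem esymm_eq_zero_of_card_lt (s : Multiset K) (n : ℕ) (h : Multiset.card s < n) :
    s.esymm n = 0 := by
  simp [Multiset.esymm, Multiset.powersetCard_eq_empty n h]

/-- e_{m−i}(u⁻¹) · Π u = e_i(u). -/
theorem esymm_inv_mul_prod (s : Multiset K) (v : K → K) (hv : ∀ u ∈ s, v u * u = 1) (i : ℕ)
    (hi : i ≤ Multiset.card s) :
    (s.map v).esymm (Multiset.card s - i) * s.prod = s.esymm i := by
  induction s using Multiset.induction_on generalizing i with
  | empty =>
    have : i = 0 := by simpa using hi
    subst this
    simp [esymm_zero']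
  | cons a t ih =>
    have hvt : ∀ u ∈ t, v u * u = 1 := fun u hu => hv u (Multiset.mem_cons_of_mem hu)
    have hva : v a * a = 1 := hv a (Multiset.mem_cons_self a t)
    rw [Multiset.card_cons] at hi
    rw [Multiset.card_cons, Multiset.map_cons, Multiset.prod_cons]
    set n := Multiset.card t with hn
    rcases i with _ | j
    · -- i = 0
      rw [Nat.sub_zero, GammaOps.esymm_cons, esymm_zero',
        esymm_eq_zero_of_card_lt (t.map v) (n + 1) (by rw [Multiset.card_map]; lia), zero_add]
      have h0 := ih hvt 0 (Nat.zero_le _)
      rw [Nat.sub_zero, esymm_zero'] at h0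
      calc v a * (t.map v).esymm n * (a * t.prod)
          = (v a * a) * ((t.map v).esymm n * t.prod) := by ring
        _ = 1 := by rw [hva, h0, one_mul]
    · have hjn : j ≤ n := by lia
      rw [GammaOps.esymm_cons a t j]
      have e1 : n + 1 - (j + 1) = n - j := by lia
      rw [e1]
      rcases Nat.lt_or_ge j n with hlt | hge
      · obtain ⟨k, hk⟩ : ∃ k, n - j = k + 1 := ⟨n - j - 1, by lia⟩
        rw [hk, GammaOps.esymm_cons]
        have h1 := ih hvt j hjn
        have h2 := ih hvt (j + 1) (by lia)
        have e2 : n - (j + 1) = k := by lia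
        rw [e2] at h2
        rw [hk] at h1
        calc ((t.map v).esymm (k + 1) + v a * (t.map v).esymm k) * (a * t.prod)
            = a * ((t.map v).esymm (k + 1) * t.prod) + (v a * a) * ((t.map v).esymm k * t.prod) := by
              ring
          _ = t.esymm (j + 1) + a * t.esymm j := by rw [h1, h2, hva]; ring
      · have hjn' : j = n := by lia
        rw [hjn', Nat.sub_self, esymm_zero', esymm_eq_zero_of_card_lt t (n + 1) (by lia), hn,
          esymm_card]
        ring

/-- Σ (−1)^i e_i(t) = Π (1 − v). -/
theorem alt_sum_esymm (t : Multiset K) :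
    ∑ i ∈ range (Multiset.card t + 1), (-1 : K) ^ i * t.esymm i = (t.map (fun v => 1 - v)).prod := by
  have h := Multiset.prod_X_add_C_eq_sum_esymm (t.map Neg.neg)
  have h2 := congrArg (Polynomial.eval 1) h
  rw [Polynomial.eval_multiset_prod, Polynomial.eval_finsetSum, Multiset.map_map,
    Multiset.map_map, Multiset.card_map] at h2
  rw [Multiset.map_congr rfl (g := fun v => 1 - v) (by intro x _; simp [sub_eq_add_neg])] at h2
  rw [h2]
  refine Finset.sum_congr rfl fun i _ => ?_
  simp [Multiset.esymm_neg]

end ring

section lam
variable {K : Type u} [CommRing K] [LambdaOps K]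

/-- λ^k of a sum of line-like elements is the k-th elementary symmetric function. -/
theorem lam_sum_lines (m : Multiset K)
    (hm : ∀ y ∈ m, ∀ j : ℕ, 2 ≤ j → LambdaOps.lam j y = 0) (k : ℕ) :
    LambdaOps.lam k m.sum = m.esymm k := by
  induction m using Multiset.induction_on generalizing k with
  | empty =>
    rcases k with _ | k
    · simp [LambdaOps.lam_zero, esymm_zero']
    · rw [Multiset.sum_zero, GammaOps.lam_zero_arg (k + 1) (by lia),
        esymm_eq_zero_of_card_lt _ _ (by simp)]
  | cons a s ih =>
    have hs : ∀ y ∈ s, ∀ j : ℕ, 2 ≤ j → LambdaOps.lam j y = 0 :=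
      fun y hy => hm y (Multiset.mem_cons_of_mem hy)
    rw [Multiset.sum_cons]
    rcases k with _ | k
    · simp [LambdaOps.lam_zero, esymm_zero']
    · rw [GammaOps.lam_succ_line_add a _ (hm a (Multiset.mem_cons_self a s)), GammaOps.esymm_cons,
        ih hs, ih hs]

end lam

section inv
variable {K : Type u} [CommRing K] [LambdaOps K]

theorem inv_zero {P : PosStructure K} {inv : K → K} (h : IsInvolution P inv) : inv 0 = 0 := by
  have h1 := h.map_add 0 0
  rw [add_zero] at h1
  exact left_eq_add.mp h1

theorem inv_multiset_sum {P : PosStructure K} {inv : K → K} (h : IsInvolution P inv)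
    (s : Multiset K) : inv s.sum = (s.map inv).sum := by
  induction s using Multiset.induction_on with
  | empty => simp [inv_zero h]
  | cons a s ih => rw [Multiset.sum_cons, h.map_add, ih, Multiset.map_cons, Multiset.sum_cons]

/-- A λ-homomorphism commutes with the γ-operations. -/
theorem map_gamma {K' : Type u} [CommRing K'] [LambdaOps K'] (f : K →+* K') (hf : IsLambdaHom f)
    (k : ℕ) (x : K) : f (gamma k x) = gamma k (f x) := by
  unfold gamma
  split_ifs with hk
  · simp
  · rw [map_sum]
    refine Finset.sum_congr rfl fun j _ => ?_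
    split_ifs with hj
    · simp
    · rw [map_mul, map_natCast, hf]

end inv

end Groth.Agent.Helper4.InvSplit
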