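import Groth.Agent.Helper4.SymPoly4
import Groth.Agent.Helper4.InvSplit
import Mathlib

set_option autoImplicit false

/-!
# Dominance of the elementary symmetric functions in several groups of variables

A polynomial in variables `Y_{s,j}` (`s < r`, `j < N`) vanishing after the substitution
`Y_{s,j} ↦ e_{j+1}(u_{s,0}, …, u_{s,N-1})` is zero.
-/

namespace Groth.Agent.Helper4.LamED

open Polynomial Finset

/-- a multiset of cardinality `N` is the image of a function on `Fin N` -/
theorem exists_fn_of_card {α : Type*} (s : Multiset α) (N : ℕ) (hs : Multiset.card s = N) :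
    ∃ a : Fin N → α, (Finset.univ : Finset (Fin N)).val.map a = s := by
  subst hs
  induction s using Quotient.inductionOn with
  | _ l =>
    refine ⟨fun i => l.get (i.cast (by simp)), ?_⟩
    rw [Fin.univ_val_map]
    simp only [Multiset.quot_mk_to_coe, Multiset.coe_card]
    congr 1
    exact List.ofFn_get l

theorem exists_roots (N : ℕ) (y : Fin N → ℂ) :
    ∃ a : Fin N → ℂ, ∀ k : Fin N,
      ((Finset.univ : Finset (Fin N)).val.map a).esymm ((k : ℕ) + 1) = y k := by
  let f : Fin N → ℂ := fun i => (-1) ^ (N - (i : ℕ)) * y ⟨N - 1 - (i : ℕ), by omega⟩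
  let lower : ℂ[X] := ∑ i : Fin N, C (f i) * X ^ (i : ℕ)
  have hdeg : lower.degree < N := degree_sum_fin_lt f
  let q : ℂ[X] := X ^ N + lower
  have hmonic : q.Monic := monic_X_pow_add hdeg
  have hnat : q.natDegree = N := by
    have : q.degree = N := by
      rw [degree_add_eq_left_of_degree_lt (by rwa [degree_X_pow]), degree_X_pow]
    exact natDegree_eq_of_degree_eq_some this
  have hsplit : q.Splits := IsAlgClosed.splits q
  have hcard : Multiset.card q.roots = N := by rw [← hnat]; exact splits_iff_card_roots.mp hsplit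
  obtain ⟨a, ha⟩ := exists_fn_of_card q.roots N hcard
  refine ⟨a, fun k => ?_⟩
  rw [ha]
  have hk : N - 1 - (k : ℕ) ≤ q.natDegree := by omega
  have h1 := coeff_eq_esymm_roots_of_splits hsplit hk
  rw [hmonic.leadingCoeff, one_mul, hnat] at h1
  have e : N - (N - 1 - (k : ℕ)) = (k : ℕ) + 1 := by omega
  rw [e] at h1
  have h2 : q.coeff (N - 1 - (k : ℕ)) = (-1) ^ ((k : ℕ) + 1) * y k := by
    change (X ^ N + lower).coeff _ = _
    rw [coeff_add, coeff_X_pow, if_neg (by omega), zero_add]
    change (∑ i : Fin N, C (f i) * X ^ (i : ℕ)).coeff _ = _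
    rw [finsetSum_coeff]
    rw [Finset.sum_eq_single (⟨N - 1 - (k : ℕ), by omega⟩ : Fin N)]
    · rw [coeff_C_mul, coeff_X_pow, if_pos rfl, mul_one]
      simp only [f]
      rw [e]
      congr 2
      ext
      simp
      omega
    · intro b _ hb
      rw [coeff_C_mul, coeff_X_pow, if_neg, mul_zero]
      intro h
      apply hb
      ext
      exact h.symm
    · intro h; exact absurd (Finset.mem_univ _) h
  rw [h2] at h1
  have hu : ((-1 : ℂ) ^ ((k : ℕ) + 1)) ≠ 0 := pow_ne_zero _ (by norm_num)
  exact (mul_left_cancel₀ hu h1).symm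

open MvPolynomial

variable (r N : ℕ)

/-- `ρ(s,j) = e_{j+1}(u_{s,·})` -/
noncomputable def rho (v : Fin r × ℕ) : MvPolynomial (Fin r × Fin N) ℚ :=
  ((Finset.univ : Finset (Fin N)).val.map
    fun a => (MvPolynomial.X (v.1, a) : MvPolynomial (Fin r × Fin N) ℚ)).esymm (v.2 + 1)

theorem ED (P : MvPolynomial (Fin r × ℕ) ℚ)
    (hP : ∀ d ∈ P.support, ∀ v : Fin r × ℕ, N ≤ v.2 → d v = 0)
    (h0 : aeval (rho r N) P = 0) : P = 0 := by
  by_contra hne
  have hinj : Function.Injective (algebraMap ℚ ℂ) := (algebraMap ℚ ℂ).injective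
  have hne' : MvPolynomial.map (algebraMap ℚ ℂ) P ≠ 0 := by
    intro h
    apply hne
    apply MvPolynomial.map_injective _ hinj
    rw [h, map_zero]
  obtain ⟨y, hy⟩ : ∃ y : Fin r × ℕ → ℂ, MvPolynomial.eval y (MvPolynomial.map (algebraMap ℚ ℂ) P) ≠ 0 := by
    by_contra hcon
    push_neg at hcon
    exact hne' (MvPolynomial.funext (fun x => by rw [hcon x, map_zero]))
  choose a ha using fun s : Fin r => exists_roots N (fun k => y (s, (k : ℕ)))
  let pt : Fin r × Fin N → ℂ := fun i => a i.1 i.2
  let y' : Fin r × ℕ → ℂ := fun v => if v.2 < N then y v else 0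
  have hy' : MvPolynomial.eval y' (MvPolynomial.map (algebraMap ℚ ℂ) P) =
      MvPolynomial.eval y (MvPolynomial.map (algebraMap ℚ ℂ) P) := by
    apply MvPolynomial.eval₂_congr
    intro i c hi hc
    have hc' : c ∈ P.support := by
      have : c ∈ (MvPolynomial.map (algebraMap ℚ ℂ) P).support := MvPolynomial.mem_support_iff.mpr hc
      exact MvPolynomial.support_map_subset _ _ this
    simp only [y']
    split_ifs with h
    · rfl
    · exfalso
      have := hP c hc' i (by omega)
      rw [Finsupp.mem_support_iff] at hi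
      exact hi this
  have hE : ∀ v : Fin r × ℕ, aeval pt (rho r N v) = y' v := by
    intro v
    unfold rho
    rw [← AlgHom.coe_toRingHom, SymPoly.map_multiset_esymm, Multiset.map_map]
    have e : (⇑((aeval pt : MvPolynomial (Fin r × Fin N) ℚ →ₐ[ℚ] ℂ) : MvPolynomial (Fin r × Fin N) ℚ →+* ℂ) ∘
        fun a => (MvPolynomial.X (v.1, a) : MvPolynomial (Fin r × Fin N) ℚ)) = a v.1 := by
      funext b
      simp [pt]
    rw [e]
    simp only [y']
    split_ifs with h
    · exact ha v.1 ⟨v.2, h⟩
    · apply InvSplit.esymm_eq_zero_of_card_lt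
      simp
      omega
  have h1 : aeval pt (aeval (rho r N) P) = MvPolynomial.eval y' (MvPolynomial.map (algebraMap ℚ ℂ) P) := by
    rw [← AlgHom.comp_apply, MvPolynomial.comp_aeval, MvPolynomial.eval_map, MvPolynomial.aeval_def]
    congr 1
    funext v
    exact hE v
  rw [h0, map_zero, hy'] at h1
  exact hy h1.symm

end Groth.Agent.Helper4.LamED
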