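import Groth.Prelude.Def_LambdaSp
import Mathlib

set_option autoImplicit false
universe u

namespace Groth.Agent.Helper4.LamSeries

open LambdaRing PowerSeries Finset

variable {K : Type u} [CommRing K] [LambdaOps K]

theorem coeff_lamSeries (x : K) (n : ℕ) : coeff n (lamSeries x) = LambdaOps.lam n x := by
  simp [lamSeries]

theorem lamSeries_add (x y : K) : lamSeries (x + y) = lamSeries x * lamSeries y := by
  ext n
  rw [coeff_lamSeries, LambdaOps.lam_add, coeff_mul,
    Finset.Nat.sum_antidiagonal_eq_sum_range_succ_mk]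
  simp [coeff_lamSeries]

theorem constantCoeff_lamSeries (x : K) : constantCoeff (lamSeries x) = 1 := by
  rw [← coeff_zero_eq_constantCoeff_apply, coeff_lamSeries, LambdaOps.lam_zero]

theorem isUnit_lamSeries (x : K) : IsUnit (lamSeries x) := by
  rw [PowerSeries.isUnit_iff_constantCoeff, constantCoeff_lamSeries]
  exact isUnit_one

theorem lamSeries_zero : lamSeries (0 : K) = 1 := by
  have h := lamSeries_add (0 : K) 0
  rw [add_zero] at h
  have hu := isUnit_lamSeries (0 : K)
  obtain ⟨u, hu'⟩ := hu.exists_left_inv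
  calc lamSeries (0 : K) = u * lamSeries 0 * lamSeries 0 := by rw [hu', one_mul]
    _ = u * (lamSeries 0 * lamSeries 0) := by ring
    _ = u * lamSeries 0 := by rw [← h]
    _ = 1 := hu'

theorem lamSeries_one (h1 : ∀ k : ℕ, 2 ≤ k → LambdaOps.lam k (1 : K) = 0) :
    lamSeries (1 : K) = 1 + X := by
  ext n
  rw [coeff_lamSeries]
  rcases n with _ | _ | n
  · simp [LambdaOps.lam_zero]
  · simp [LambdaOps.lam_one]
  · rw [h1 _ (by lia)]
    simp [coeff_X, coeff_one]

theorem lamSeries_natCast (h1 : ∀ k : ℕ, 2 ≤ k → LambdaOps.lam k (1 : K) = 0) (n : ℕ) :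
    lamSeries (n : K) = (1 + X) ^ n := by
  induction n with
  | zero => simp [lamSeries_zero]
  | succ n ih => rw [Nat.cast_succ, lamSeries_add, ih, lamSeries_one h1, pow_succ]

omit [LambdaOps K] in
theorem coeff_one_add_X_pow (n k : ℕ) :
    coeff k ((1 + X : PowerSeries K) ^ n) = (n.choose k : K) := by
  have : ((1 + X : PowerSeries K) ^ n) = (((1 + Polynomial.X : Polynomial K) ^ n : Polynomial K) : PowerSeries K) := by
    simp
  rw [this, Polynomial.coeff_coe, Polynomial.coeff_one_add_X_pow]

theorem lam_natCast (h1 : ∀ k : ℕ, 2 ≤ k → LambdaOps.lam k (1 : K) = 0) (n k : ℕ) :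
    LambdaOps.lam k (n : K) = (n.choose k : K) := by
  rw [← coeff_lamSeries, lamSeries_natCast h1, coeff_one_add_X_pow]

omit [LambdaOps K] in
/-- the inverse of `1 + X` -/
theorem one_add_X_mul_mk : (1 + X : PowerSeries K) * PowerSeries.mk (fun k => (-1 : K) ^ k) = 1 := by
  ext n
  rw [add_mul, one_mul, map_add]
  rcases n with _ | n
  · simp
  · rw [coeff_succ_X_mul, coeff_mk, coeff_mk, coeff_one, if_neg (by lia), pow_succ]
    ring

theorem lamSeries_sub_one (h1 : ∀ k : ℕ, 2 ≤ k → LambdaOps.lam k (1 : K) = 0) (z : K) :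
    lamSeries (z - 1) = lamSeries z * PowerSeries.mk (fun k => (-1 : K) ^ k) := by
  have h : lamSeries z = lamSeries (z - 1) * (1 + X) := by
    rw [← lamSeries_one h1, ← lamSeries_add, sub_add_cancel]
  rw [h, mul_assoc, one_add_X_mul_mk, mul_one]

end Groth.Agent.Helper4.LamSeries
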