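import Groth.Agent.Helper1.LambdaGamma2
import Groth.Agent.Helper4.LamSeries
import Mathlib

set_option autoImplicit false

/-!
# `γ`-operations of `N - d` for `N` of λ-dimension `≤ d`
-/

namespace Groth.Agent.Helper4.GammaRank

open LambdaRing Finset Groth.Agent.Helper1.Lambda

universe u

variable {K : Type u} [CommRing K] [LambdaOps K]

open Polynomial in
theorem subst_lamSeries_sub' (h1 : ∀ k : ℕ, 2 ≤ k → LambdaOps.lam k (1 : K) = 0)
    (e : K) (m : ℕ) (hm : ∀ i, m < i → LambdaOps.lam i e = 0) :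
    (lamSeries (e - (m : K))).subst (sSer K) = ((Qpol e m : K[X]) : PowerSeries K) := by
  have h1' : lamSeries e = lamSeries (e - (m : K)) * lamSeries ((m : ℕ) : K) := by
    rw [← lamSeries_add, sub_add_cancel]
  have h2 : (lamSeries e).subst (sSer K) = (lamSeries (e - (m : K))).subst (sSer K) * (1 + sSer K) ^ m := by
    rw [h1', PowerSeries.subst_mul hasSubst_sSer, LamSeries.lamSeries_natCast h1,
      PowerSeries.subst_pow hasSubst_sSer,
      PowerSeries.subst_add hasSubst_sSer, PowerSeries.subst_X hasSubst_sSer]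
    congr 3
    rw [← Polynomial.coe_one, PowerSeries.subst_coe hasSubst_sSer]
    simp
  have h3 : (lamSeries (e - (m : K))).subst (sSer K) = (lamSeries e).subst (sSer K) * (1 - PowerSeries.X) ^ m := by
    rw [h2, mul_assoc, ← mul_pow, one_add_sSer, one_pow, mul_one]
  rw [h3, lamSeries_eq_poly e m hm, PowerSeries.subst_coe hasSubst_sSer]
  unfold Qpol
  rw [map_sum, Finset.sum_mul, ← Polynomial.coeToPowerSeries.ringHom_apply, map_sum]
  simp only [Polynomial.coeToPowerSeries.ringHom_apply]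
  apply Finset.sum_congr rfl
  intro i hi
  have hi' : i ≤ m := by simpa [Nat.lt_succ_iff] using hi
  rw [map_mul, Polynomial.aeval_C, map_pow, Polynomial.aeval_X]
  rw [Polynomial.coe_mul, Polynomial.coe_mul, Polynomial.coe_pow, Polynomial.coe_pow, Polynomial.coe_sub,
    Polynomial.coe_one, Polynomial.coe_X, Polynomial.coe_C]
  have : (1 - PowerSeries.X : PowerSeries K) ^ m = (1 - PowerSeries.X) ^ i * (1 - PowerSeries.X) ^ (m - i) := by
    rw [← pow_add]; congr 1; omega
  have hX : (PowerSeries.X : PowerSeries K) ^ i = sSer K ^ i * (1 - PowerSeries.X) ^ i := by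
    rw [← mul_pow, sSer_mul]
  rw [this, hX]
  have hC : (algebraMap K (PowerSeries K)) (LambdaOps.lam i e) = PowerSeries.C (LambdaOps.lam i e) := rfl
  rw [hC]
  ring

omit [LambdaOps K] in
open Polynomial in
theorem coeff_one_sub_X_pow_self (k : ℕ) : ((1 - X : K[X]) ^ k).coeff k = (-1) ^ k := by
  induction k with
  | zero => simp
  | succ k ih =>
    rw [pow_succ, mul_sub, mul_one, coeff_sub, coeff_mul_X, ih,
      coeff_eq_zero_of_natDegree_lt (lt_of_le_of_lt (natDegree_one_sub_X_pow_le k) (Nat.lt_succ_self k)),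
      pow_succ]
    ring

theorem gamma_sub_eq_coeff (h1 : ∀ k : ℕ, 2 ≤ k → LambdaOps.lam k (1 : K) = 0)
    (e : K) (m : ℕ) (hm : ∀ i, m < i → LambdaOps.lam i e = 0) (k : ℕ) :
    gamma k (e - (m : K)) = (Qpol e m).coeff k := by
  rw [gamma_eq_coeff, subst_lamSeries_sub' h1 e m hm, Polynomial.coeff_coe]

/-- `γ^k(N - d) = 0` for `k > d` -/
theorem gamma_sub_eq_zero (h1 : ∀ k : ℕ, 2 ≤ k → LambdaOps.lam k (1 : K) = 0)
    (e : K) (m : ℕ) (hm : ∀ i, m < i → LambdaOps.lam i e = 0) (k : ℕ) (hk : m < k) :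
    gamma k (e - (m : K)) = 0 := by
  rw [gamma_sub_eq_coeff h1 e m hm]
  exact Polynomial.coeff_eq_zero_of_natDegree_lt (lt_of_le_of_lt (natDegree_Qpol e m) hk)

/-- `γ^d(N - d) = (-1)^d λ_{-1}(N)` -/
theorem gamma_sub_self (h1 : ∀ k : ℕ, 2 ≤ k → LambdaOps.lam k (1 : K) = 0)
    (e : K) (m : ℕ) (hm : ∀ i, m < i → LambdaOps.lam i e = 0) :
    gamma m (e - (m : K)) = (-1) ^ m * ∑ j ∈ range (m + 1), (-1 : K) ^ j * LambdaOps.lam j e := by
  rw [gamma_sub_eq_coeff h1 e m hm]
  unfold Qpol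
  rw [Polynomial.finsetSum_coeff, Finset.mul_sum]
  apply Finset.sum_congr rfl
  intro i hi
  have hi' : i ≤ m := by simpa [Nat.lt_succ_iff] using hi
  rw [Polynomial.coeff_C_mul, Polynomial.coeff_X_pow_mul', if_pos hi', coeff_one_sub_X_pow_self]
  have : (-1 : K) ^ m = (-1) ^ (m - i) * (-1) ^ i := by rw [← pow_add]; congr 1; omega
  rw [this]
  have h2 : ((-1 : K) ^ i) * (-1) ^ i = 1 := by rw [← mul_pow]; simp
  calc LambdaOps.lam i e * (-1) ^ (m - i) = (-1) ^ (m - i) * (((-1 : K) ^ i) * (-1) ^ i) * LambdaOps.lam i e := by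
        rw [h2]; ring
    _ = _ := by ring

end Groth.Agent.Helper4.GammaRank
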