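import Groth.Agent.S3291
import Groth.Agent.Helper4.GammaRank
import Groth.Agent.Helper4.InvSplit
import Mathlib

set_option autoImplicit false

/-!
# The γ-filtration of a λ-ring with positive structure: top Chern class and lifting along surjections
-/

namespace Groth.Agent.Helper4.PosGamma

open LambdaRing Finset

universe u

variable {K : Type u} [CommRing K] [LambdaOps K] (P : PosStructure K)

include P in
theorem lam_one_eq_zero (k : ℕ) (hk : 2 ≤ k) : LambdaOps.lam k (1 : K) = 0 := by
  have h1 : (1 : K) ∈ P.pos := by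
    have := P.natCast_mem 1 one_pos
    simpa using this
  apply P.lam_eq_zero 1 h1 k
  rw [map_one]
  exact_mod_cast hk

theorem gamma_mem (x : K) (hx : P.aug x = 0) (k : ℕ) : gamma k x ∈ gammaFiltration P k := by
  by_cases hk : k = 0
  · subst hk
    unfold gammaFiltration
    rw [if_pos rfl]; trivial
  · unfold gammaFiltration
    rw [if_neg hk]
    apply AddSubgroup.subset_closure
    refine ⟨[(k, x)], ?_, by simp, by simp⟩
    intro p hp
    rw [List.mem_singleton] at hp
    rw [hp]; exact hx

/-- `λ_{-1}(q) ∈ F^d` for `q` positive of augmentation `d` -/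
theorem lamAlt_mem (q : K) (hq : q ∈ P.pos) :
    (∑ i ∈ range ((P.aug q).toNat + 1), (-1 : K) ^ i * LambdaOps.lam i q) ∈
      gammaFiltration P (P.aug q).toNat := by
  set d := (P.aug q).toNat with hd
  have hpos := P.aug_pos q hq
  have hdz : ((d : ℕ) : ℤ) = P.aug q := by rw [hd]; exact Int.toNat_of_nonneg hpos.le
  have hN : ∀ i : ℕ, d < i → LambdaOps.lam i q = 0 := by
    intro i hi
    apply P.lam_eq_zero q hq i
    rw [← hdz]
    exact_mod_cast hi
  have hu := GammaRank.gamma_sub_self (lam_one_eq_zero P) q d hN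
  have haug : P.aug (q - (d : K)) = 0 := by
    rw [map_sub, map_natCast, hdz, sub_self]
  have hmem := gamma_mem P _ haug d
  rw [hu] at hmem
  have hsq : ((-1 : K) ^ d) * (-1) ^ d = 1 := by rw [← mul_pow]; simp
  have := (Groth.Agent.S3291.result K P).1 d ((-1) ^ d) _ hmem
  rwa [← mul_assoc, hsq, one_mul] at this

variable {K' : Type u} [CommRing K'] [LambdaOps K'] (P' : PosStructure K')

/-- lifting generators along a surjective λ-homomorphism compatible with augmentations -/
theorem exists_lift_list (g : K →+* K') (hg : IsLambdaHom g) (hgaug : ∀ y : K, P'.aug (g y) = P.aug y)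
    (hgsurj : Function.Surjective g) (l : List (ℕ × K')) (hl : ∀ p ∈ l, P'.aug p.2 = 0) :
    ∃ l' : List (ℕ × K), (∀ p ∈ l', P.aug p.2 = 0) ∧ l'.map Prod.fst = l.map Prod.fst ∧
      g ((l'.map fun p => gamma p.1 p.2).prod) = (l.map fun p => gamma p.1 p.2).prod := by
  induction l with
  | nil => exact ⟨[], by simp, by simp, by simp⟩
  | cons p l ih =>
    obtain ⟨l', h1, h2, h3⟩ := ih (fun q hq => hl q (List.mem_cons_of_mem _ hq))
    obtain ⟨y, hy⟩ := hgsurj p.2
    refine ⟨(p.1, y) :: l', ?_, ?_, ?_⟩
    · intro q hq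
      rcases List.mem_cons.mp hq with h | h
      · rw [h]
        simp only
        rw [← hgaug, hy]
        exact hl p (by simp)
      · exact h1 q h
    · simp only [List.map_cons, h2]
    · simp only [List.map_cons, List.prod_cons, map_mul]
      rw [h3, InvSplit.map_gamma g hg, hy]

theorem exists_lift (g : K →+* K') (hg : IsLambdaHom g) (hgaug : ∀ y : K, P'.aug (g y) = P.aug y)
    (hgsurj : Function.Surjective g) (m : ℕ) (x : K') (hx : x ∈ gammaFiltration P' m) :
    ∃ y ∈ gammaFiltration P m, g y = x := by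
  by_cases hm : m = 0
  · subst hm
    obtain ⟨y, hy⟩ := hgsurj x
    refine ⟨y, ?_, hy⟩
    unfold gammaFiltration
    rw [if_pos rfl]; trivial
  · unfold gammaFiltration at hx ⊢
    rw [if_neg hm] at hx ⊢
    induction hx using AddSubgroup.closure_induction with
    | mem z hz =>
      obtain ⟨l, hl, hw, rfl⟩ := hz
      obtain ⟨l', h1, h2, h3⟩ := exists_lift_list P P' g hg hgaug hgsurj l hl
      refine ⟨_, AddSubgroup.subset_closure ⟨l', h1, by rw [h2]; exact hw, rfl⟩, h3⟩
    | zero => exact ⟨0, zero_mem _, map_zero g⟩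
    | add a b _ _ ha hb =>
      obtain ⟨ya, hya, rfl⟩ := ha
      obtain ⟨yb, hyb, rfl⟩ := hb
      exact ⟨ya + yb, add_mem hya hyb, map_add g ya yb⟩
    | neg a _ ha =>
      obtain ⟨ya, hya, rfl⟩ := ha
      exact ⟨-ya, neg_mem hya, map_neg g ya⟩

end Groth.Agent.Helper4.PosGamma
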