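import Mathlib
import Groth.Agent.Helper1.LambdaAdams3
import Groth.Agent.Helper4.PosGamma
import Groth.Agent.Helper4.AdamsPoly
import Groth.Agent.Helper4.LamED

set_option autoImplicit false

/-!
# Helper4: Adams operations act on `F^n / F^{n+1}` of the γ-filtration by `j^n`
-/

namespace Groth.Agent.Helper4.AdamsGamma

open LambdaRing Finset
open Groth.Agent.Helper1.Lambda

universe u

variable {K : Type u} [CommRing K] [LambdaOps K] (P : PosStructure K)

theorem filt_anti {a b : ℕ} (h : a ≤ b) : gammaFiltration P b ≤ gammaFiltration P a := by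
  unfold gammaFiltration
  by_cases ha : a = 0
  · rw [if_pos ha]; exact le_top
  · have hb : b ≠ 0 := by omega
    rw [if_neg ha, if_neg hb]
    apply AddSubgroup.closure_mono
    rintro y ⟨l, hl, hw, rfl⟩
    exact ⟨l, hl, h.trans hw, rfl⟩

omit [LambdaOps K] in
theorem gamma_zero'' [LambdaOps K] (x : K) : gamma 0 x = 1 := by
  unfold gamma; simp

theorem filt_zero : gammaFiltration P 0 = ⊤ := by
  unfold gammaFiltration
  rw [if_pos rfl]

theorem ideal_mem (n : ℕ) (a x : K) (hx : x ∈ gammaFiltration P n) :
    a * x ∈ gammaFiltration P n := (Groth.Agent.S3291.result K P).1 n a x hx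

theorem mul_mem' {m n : ℕ} {x y : K} (hx : x ∈ gammaFiltration P m)
    (hy : y ∈ gammaFiltration P n) : x * y ∈ gammaFiltration P (m + n) :=
  (Groth.Agent.S3291.result K P).2 m n x y hx hy

theorem pow_mem' {m : ℕ} {x : K} (hx : x ∈ gammaFiltration P m) (k : ℕ) :
    x ^ k ∈ gammaFiltration P (k * m) := by
  induction k with
  | zero => rw [Nat.zero_mul, filt_zero]; trivial
  | succ k ih =>
    rw [pow_succ]
    have := mul_mem' P ih hx
    have e : k * m + m = (k + 1) * m := by ring
    rwa [e] at this

/-- monomials in the `γ^{k+1}(x)` lie in the filtration step of their weight -/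
theorem monomial_mem (N : ℕ) (x : K) (hx : P.aug x = 0) (d : Fin N →₀ ℕ) :
    ∏ k : Fin N, gamma ((k : ℕ) + 1) x ^ d k ∈
      gammaFiltration P (Finsupp.weight (fun k : Fin N => (k : ℕ) + 1) d) := by
  classical
  have key : ∀ T : Finset (Fin N), ∏ k ∈ T, gamma ((k : ℕ) + 1) x ^ d k ∈
      gammaFiltration P (∑ k ∈ T, d k * ((k : ℕ) + 1)) := by
    intro T
    induction T using Finset.induction_on with
    | empty => simp [filt_zero]
    | insert i T hi ih =>
      rw [Finset.prod_insert hi, Finset.sum_insert hi]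
      exact mul_mem' P (pow_mem' P (PosGamma.gamma_mem P x hx _) _) ih
  have hw : Finsupp.weight (fun k : Fin N => (k : ℕ) + 1) d = ∑ k : Fin N, d k * ((k : ℕ) + 1) := by
    rw [Finsupp.weight_apply, Finsupp.sum_fintype]
    · simp [smul_eq_mul]
    · intro i; simp
  rw [hw]
  exact key univ

/-- a polynomial of weight `≥ n` in the `γ^{k+1}(x)` lies in `F^n` -/
theorem eval_mem (N n : ℕ) (x : K) (hx : P.aug x = 0) (Q : MvPolynomial (Fin N) ℤ)
    (hQ : ∀ d ∈ Q.support, n ≤ Finsupp.weight (fun k : Fin N => (k : ℕ) + 1) d) :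
    MvPolynomial.eval₂ (Int.castRingHom K) (fun k : Fin N => gamma ((k : ℕ) + 1) x) Q ∈
      gammaFiltration P n := by
  rw [MvPolynomial.eval₂_eq]
  apply AddSubgroup.sum_mem
  intro d hd
  apply ideal_mem
  apply filt_anti P (hQ d hd)
  have := monomial_mem P N x hx d
  convert this using 1
  rw [Finset.prod_subset (Finset.subset_univ d.support)]
  intro i _ hi
  rw [Finsupp.notMem_support_iff.mp hi, pow_zero]

/-- the elements of weight `r` on which `ψ^j` acts as `j^r` modulo `F^{r+1}` -/
def S (j r : ℕ) : AddSubgroup K where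
  carrier := {y | y ∈ gammaFiltration P r ∧
    adams P j y - (j : K) ^ r * y ∈ gammaFiltration P (r + 1)}
  zero_mem' := ⟨zero_mem _, by rw [adams_zero, mul_zero, sub_zero]; exact zero_mem _⟩
  add_mem' := by
    rintro a b ⟨ha1, ha2⟩ ⟨hb1, hb2⟩
    refine ⟨add_mem ha1 hb1, ?_⟩
    rw [adams_add, mul_add]
    have := add_mem ha2 hb2
    convert this using 1
    ring
  neg_mem' := by
    rintro a ⟨ha1, ha2⟩
    refine ⟨neg_mem ha1, ?_⟩
    rw [adams_neg, mul_neg]
    have := neg_mem ha2
    convert this using 1
    ring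

theorem mem_S {j r : ℕ} {y : K} : y ∈ S P j r ↔ y ∈ gammaFiltration P r ∧
    adams P j y - (j : K) ^ r * y ∈ gammaFiltration P (r + 1) := Iff.rfl

theorem adams_mem_of_mem_S {j r : ℕ} {y : K} (hy : y ∈ S P j r) :
    adams P j y ∈ gammaFiltration P r := by
  have h1 := filt_anti P (Nat.le_succ r) hy.2
  have h2 := ideal_mem P r ((j : K) ^ r) y hy.1
  have := add_mem h1 h2
  rwa [sub_add_cancel] at this

theorem one_mem_S (j : ℕ) : (1 : K) ∈ S P j 0 := by
  refine ⟨by rw [filt_zero]; trivial, ?_⟩
  rw [adams_one, pow_zero, mul_one, sub_self]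
  exact zero_mem _

theorem mul_mem_S (hK : HasSplitting K P) {j p q : ℕ} {a b : K} (ha : a ∈ S P j p)
    (hb : b ∈ S P j q) : a * b ∈ S P j (p + q) := by
  refine ⟨mul_mem' P ha.1 hb.1, ?_⟩
  rw [adams_mul P hK]
  have e : adams P j a * adams P j b - (j : K) ^ (p + q) * (a * b) =
      (adams P j a - (j : K) ^ p * a) * adams P j b +
        (j : K) ^ p * (a * (adams P j b - (j : K) ^ q * b)) := by ring
  rw [e]
  apply add_mem
  · have := mul_mem' P ha.2 (adams_mem_of_mem_S P hb)
    have e2 : p + 1 + q = p + q + 1 := by ring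
    rwa [e2] at this
  · apply ideal_mem
    have := mul_mem' P ha.1 hb.2
    rwa [← add_assoc] at this

/-- the elements all of whose `γ^p` lie in `S p` -/
def G (hK : HasSplitting K P) (j : ℕ) : AddSubgroup K where
  carrier := {z | ∀ p, gamma p z ∈ S P j p}
  zero_mem' := by
    intro p
    rw [GammaOps.gamma_zero_arg]
    split_ifs with h
    · subst h; exact one_mem_S P j
    · exact zero_mem _
  add_mem' := by
    intro x y hx hy p
    rw [Groth.Agent.Helper1.Lambda.gamma_add]
    apply AddSubgroup.sum_mem
    intro k hk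
    rw [Finset.mem_range] at hk
    have := mul_mem_S P hK (hx k) (hy (p - k))
    have e : k + (p - k) = p := by omega
    rwa [e] at this
  neg_mem' := by
    intro x hx p
    induction p using Nat.strong_induction_on with
    | _ i ih =>
      have h := Groth.Agent.Helper1.Lambda.gamma_add i x (-x)
      rw [add_neg_cancel, GammaOps.gamma_zero_arg, Finset.sum_range_succ',
        gamma_zero'' x, one_mul, Nat.sub_zero] at h
      have h2 : gamma i (-x) = (if i = 0 then (1 : K) else 0) -
          ∑ k ∈ range i, gamma (k + 1) x * gamma (i - (k + 1)) (-x) := by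
        rw [h]; ring
      rw [h2]
      apply sub_mem
      · split_ifs with h0'
        · subst h0'; exact one_mem_S P j
        · exact zero_mem _
      · apply AddSubgroup.sum_mem
        intro k hk
        rw [Finset.mem_range] at hk
        have := mul_mem_S P hK (hx (k + 1)) (ih (i - (k + 1)) (by omega))
        have e : k + 1 + (i - (k + 1)) = i := by omega
        rwa [e] at this

end Groth.Agent.Helper4.AdamsGamma
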