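import Mathlib
import Groth.Agent.Helper4.AdamsGamma

set_option autoImplicit false

/-!
# Helper4: Adams operations act on `F^n / F^{n+1}` of the γ-filtration by `j^n` (main part)
-/

namespace Groth.Agent.Helper4.AdamsGamma

open LambdaRing Finset
open Groth.Agent.Helper1.Lambda

universe u

variable {K : Type u} [CommRing K] [LambdaOps K] (P : PosStructure K)

theorem pos_mem_G (hK : HasSplitting K P) (j : ℕ) (e : K) (he : e ∈ P.pos) :
    e - ((P.aug e).toNat : K) ∈ G P hK j := by
  classical
  show ∀ p, gamma p (e - ((P.aug e).toNat : K)) ∈ S P j p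
  intro p
  obtain ⟨C, hKC, hC⟩ := hK
  obtain ⟨L, hL, f, hext, s, hs, hsum⟩ := hC ⟨K, P⟩ hKC e he
  have hKL : HasSplitting L.carrier L.posStr := ⟨C, hL, hC⟩
  have hcard : P.aug e = Multiset.card s := by
    rw [← hext.aug_comp e, ← hsum]
    exact aug_sum_lines L.posStr s hs
  set m := (P.aug e).toNat with hm
  have hmN : m = Multiset.card s := by rw [hm, hcard]; simp
  have haug : P.aug (e - (m : K)) = 0 := by
    rw [map_sub, map_natCast, hmN, hcard, sub_self]
  refine ⟨PosGamma.gamma_mem P _ haug p, ?_⟩
  obtain ⟨Q, hQ, hQw⟩ := AdamsPoly.exists_adamsQ m p j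
  obtain ⟨v, hv⟩ := LamED.exists_fn_of_card s m hmN.symm
  have h1 : ∀ k : ℕ, 2 ≤ k → LambdaOps.lam k (1 : L.carrier) = 0 :=
    fun k hk => lam_line L.posStr 1 (isLine_one L.posStr) k hk
  have hline : ∀ y ∈ s, ∀ i : ℕ, 2 ≤ i → LambdaOps.lam i y = 0 :=
    fun y hy i hi => lam_line L.posStr y (hs y hy) i hi
  -- images of the γ's
  have hfg : ∀ k : ℕ, f (gamma k (e - (m : K))) = (s.map (fun y => y - 1)).esymm k := by
    intro k
    rw [InvSplit.map_gamma f hext.isLambdaHom, map_sub, map_natCast, ← hsum, hmN]
    have e1 : s.sum - (Multiset.card s : L.carrier) = (s.map (fun y => y - 1)).sum := by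
      rw [Multiset.sum_map_sub]; simp
    rw [e1, GammaOps.gamma_sum_sub_one h1 _ hline]
  -- the Adams operation on the elementary symmetric functions
  have hpsi : adams L.posStr j ((s.map (fun y => y - 1)).esymm p) =
      (s.map (fun y => y ^ j - 1)).esymm p := by
    have := SymPoly.map_multiset_esymm (adamsHom L.posStr hKL j) (s.map (fun y => y - 1)) p
    rw [Multiset.map_map] at this
    refine this.trans ?_
    congr 1
    apply Multiset.map_congr rfl
    intro u hu
    show adams L.posStr j (u - 1) = u ^ j - 1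
    rw [adams_sub, adams_line L.posStr u (hs u hu), adams_one]
  set φ : MvPolynomial (Fin m) ℤ →+* L.carrier :=
    MvPolynomial.eval₂Hom (Int.castRingHom _) (fun i => v i - 1) with hφ
  have hφX : ∀ i, φ (MvPolynomial.X i) = v i - 1 := fun i => by
    rw [hφ]; simp
  have hφe : ∀ n : ℕ, φ (MvPolynomial.esymm (Fin m) ℤ n) = (s.map (fun y => y - 1)).esymm n := by
    intro n
    rw [MvPolynomial.esymm_eq_multiset_esymm, SymPoly.map_multiset_esymm, Multiset.map_map, ← hv,
      Multiset.map_map]
    congr 1
    apply Multiset.map_congr rfl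
    intro i _
    exact hφX i
  have hφA : φ (AdamsPoly.adamsPoly m p j) =
      (s.map (fun y => y ^ j - 1)).esymm p - (j : L.carrier) ^ p * (s.map (fun y => y - 1)).esymm p := by
    have hs' : s.map (fun y => y ^ j - 1) = (univ : Finset (Fin m)).val.map
        (⇑φ ∘ fun i => (1 + (MvPolynomial.X i : MvPolynomial (Fin m) ℤ)) ^ j - 1) := by
      rw [← hv, Multiset.map_map]
      apply Multiset.map_congr rfl
      intro i _
      simp only [Function.comp_apply, map_sub, map_pow, map_add, map_one, hφX]
      ring_nf
    unfold AdamsPoly.adamsPoly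
    rw [map_sub, map_mul, map_pow, map_natCast, hφe, SymPoly.map_multiset_esymm, Multiset.map_map,
      hs']
  have hφQ : φ (MvPolynomial.aeval (fun k : Fin m => MvPolynomial.esymm (Fin m) ℤ ((k : ℕ) + 1)) Q) =
      MvPolynomial.eval₂ (Int.castRingHom L.carrier)
        (fun k : Fin m => (s.map (fun y => y - 1)).esymm ((k : ℕ) + 1)) Q := by
    rw [MvPolynomial.aeval_def, MvPolynomial.eval₂_comp_left]
    have e1 : φ.comp (algebraMap ℤ (MvPolynomial (Fin m) ℤ)) = Int.castRingHom L.carrier :=
      RingHom.ext_int _ _
    rw [e1]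
    congr 1
    funext k
    exact hφe _
  have key : adams P j (gamma p (e - (m : K))) - (j : K) ^ p * gamma p (e - (m : K)) =
      MvPolynomial.eval₂ (Int.castRingHom K) (fun k : Fin m => gamma ((k : ℕ) + 1) (e - (m : K))) Q := by
    apply hext.injective
    rw [map_sub, map_mul, map_pow, map_natCast, map_adams P L.posStr f hext, hfg, hpsi,
      MvPolynomial.eval₂_comp_left]
    have e1 : f.comp (Int.castRingHom K) = Int.castRingHom L.carrier := RingHom.ext_int _ _
    rw [e1, ← hφA, ← hQ, hφQ]
    congr 1
    funext k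
    exact (hfg _).symm
  rw [key]
  exact eval_mem P m (p + 1) _ haug Q hQw

theorem gamma_mem_S (hK : HasSplitting K P) (j : ℕ) (x : K) (hx : P.aug x = 0) (r : ℕ) :
    gamma r x ∈ S P j r := by
  obtain ⟨e, f, he, hf, rfl⟩ := P.exists_sub x
  have hef : P.aug e = P.aug f := by
    rw [map_sub] at hx
    linarith
  have h := sub_mem (pos_mem_G P hK j e he) (pos_mem_G P hK j f hf)
  rw [hef, sub_sub_sub_cancel_right] at h
  exact h r

theorem list_prod_mem_S (hK : HasSplitting K P) (j : ℕ) (l : List (ℕ × K))
    (hl : ∀ p ∈ l, P.aug p.2 = 0) :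
    (l.map fun p => gamma p.1 p.2).prod ∈ S P j (l.map Prod.fst).sum := by
  induction l with
  | nil => simpa using one_mem_S P j
  | cons a l ih =>
    simp only [List.map_cons, List.prod_cons, List.sum_cons]
    exact mul_mem_S P hK (gamma_mem_S P hK j a.2 (hl a (List.mem_cons_self)) a.1)
      (ih fun p hp => hl p (List.mem_cons_of_mem _ hp))

theorem gamma_one'' (x : K) : gamma 1 x = x := by
  unfold gamma
  simp [Finset.sum_range_succ, LambdaOps.lam_one]

theorem adams_sub_mem (hK : HasSplitting K P) (j n : ℕ) (x : K)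
    (hx : x ∈ gammaFiltration P n) :
    adams P j x - (j : K) ^ n * x ∈ gammaFiltration P (n + 1) := by
  by_cases hn : n = 0
  · subst hn
    rw [pow_zero, one_mul]
    have hpos : ∀ e ∈ P.pos, adams P j e - e ∈ gammaFiltration P 1 := by
      intro e he
      have h := pos_mem_G P hK j e he 1
      rw [gamma_one''] at h
      have h2 := sub_mem (adams_mem_of_mem_S P h) h.1
      have h3 : adams P j (((P.aug e).toNat : ℕ) : K) = (((P.aug e).toNat : ℕ) : K) :=
        map_natCast (adamsHom P hK j) _
      rw [adams_sub, h3] at h2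
      convert h2 using 1
      ring
    obtain ⟨e, f, he, hf, rfl⟩ := P.exists_sub x
    have := sub_mem (hpos e he) (hpos f hf)
    rw [adams_sub]
    convert this using 1
    ring
  · have hx' := hx
    unfold gammaFiltration at hx'
    rw [if_neg hn] at hx'
    clear hx
    induction hx' using AddSubgroup.closure_induction with
    | mem y hy =>
      obtain ⟨l, hl, hw, rfl⟩ := hy
      have hS := list_prod_mem_S P hK j l hl
      rcases hw.eq_or_lt with heq | hlt
      · rw [heq]
        exact hS.2
      · apply sub_mem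
        · exact filt_anti P hlt (adams_mem_of_mem_S P hS)
        · exact ideal_mem P _ _ _ (filt_anti P hlt hS.1)
    | zero =>
      rw [adams_zero, mul_zero, sub_zero]; exact zero_mem _
    | add a b _ _ ha hb =>
      rw [adams_add, mul_add]
      have := add_mem ha hb
      convert this using 1
      ring
    | neg a _ ha =>
      rw [adams_neg, mul_neg]
      have := neg_mem ha
      convert this using 1
      ring

end Groth.Agent.Helper4.AdamsGamma
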