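import Mathlib

set_option autoImplicit false

/-!
# Helper4: eigenspace decomposition for an operator acting on a finite filtration by distinct scalars
-/

namespace Groth.Agent.Helper4.FiltEigen

open Polynomial Module

variable {k V : Type*} [Field k] [AddCommGroup V] [Module k V]
variable (T : Module.End k V) (W : ℕ → Submodule k V) (lam : ℕ → k)

/-- the product of `X - lam n` for `a ≤ n < b` -/
noncomputable def q (a b : ℕ) : k[X] := ∏ n ∈ Finset.Ico a b, (X - C (lam n))

theorem q_succ {a b : ℕ} (h : a ≤ b) : q lam a (b + 1) = (X - C (lam b)) * q lam a b := by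
  unfold q
  rw [Finset.prod_Ico_succ_top h, mul_comm]

theorem q_succ_bot {a b : ℕ} (h : a < b) : q lam a b = (X - C (lam a)) * q lam (a + 1) b := by
  unfold q
  rw [Finset.prod_eq_prod_Ico_succ_bot h]

theorem eval_q_ne_zero (hinj : Function.Injective lam) {a b m : ℕ} (hm : m ∉ Finset.Ico a b) :
    (q lam a b).eval (lam m) ≠ 0 := by
  unfold q
  rw [eval_prod]
  apply Finset.prod_ne_zero_iff.mpr
  intro n hn
  rw [eval_sub, eval_X, eval_C, sub_ne_zero]
  intro h
  exact hm (hinj h ▸ hn)

variable (hanti : Antitone W) (hstep : ∀ n v, v ∈ W n → T v - lam n • v ∈ W (n + 1))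

include hanti hstep in
theorem stable (n : ℕ) : W n ≤ (W n).comap T := by
  intro v hv
  rw [Submodule.mem_comap]
  have h1 := hanti (Nat.le_succ n) (hstep n v hv)
  have h2 := (W n).smul_mem (lam n) hv
  have := add_mem h1 h2
  rwa [sub_add_cancel] at this

include hanti hstep in
theorem aeval_q_mem {a b : ℕ} (h : a ≤ b) {v : V} (hv : v ∈ W a) :
    aeval T (q lam a b) v ∈ W b := by
  induction b, h using Nat.le_induction with
  | base =>
    unfold q
    simpa using hv
  | succ b hab ih =>
    rw [q_succ lam hab, map_mul, Module.End.mul_apply]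
    have := hstep b _ ih
    simpa using this

include hanti hstep in
theorem aeval_mem (p : k[X]) (n : ℕ) {v : V} (hv : v ∈ W n) : aeval T p v ∈ W n :=
  aeval_apply_smul_mem_of_le_comap hv p T (stable T W lam hanti hstep n)

variable (hinj : Function.Injective lam) (d : ℕ) (hbot : W (d + 1) = ⊥)

include hanti hstep hinj hbot in
theorem inf_eq_bot (m : ℕ) : Module.End.eigenspace T (lam m) ⊓ W (m + 1) = ⊥ := by
  rw [eq_bot_iff]
  rintro v ⟨hv1, hv2⟩
  rw [SetLike.mem_coe, Module.End.mem_eigenspace_iff] at hv1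
  set b := max (m + 1) (d + 1) with hb
  have h1 : aeval T (q lam (m + 1) b) v ∈ W b :=
    aeval_q_mem T W lam hanti hstep (le_max_left _ _) hv2
  have h2 : W b ≤ ⊥ := hbot ▸ hanti (le_max_right _ _)
  have h3 := (Submodule.mem_bot k).mp (h2 h1)
  rw [Module.End.aeval_apply_of_mem_apply_eq_smul hv1] at h3
  have hne : (q lam (m + 1) b).eval (lam m) ≠ 0 :=
    eval_q_ne_zero lam hinj (by simp)
  rw [Submodule.mem_bot]
  exact (smul_eq_zero.mp h3).resolve_left hne

variable (htop : W 0 = ⊤)

include hanti hstep hinj htop in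
theorem eigenspace_le (m : ℕ) : Module.End.eigenspace T (lam m) ≤ W m := by
  intro v hv
  rw [Module.End.mem_eigenspace_iff] at hv
  have h0 : v ∈ W 0 := by rw [htop]; trivial
  have h1 : aeval T (q lam 0 m) v ∈ W m := aeval_q_mem T W lam hanti hstep (Nat.zero_le m) h0
  rw [Module.End.aeval_apply_of_mem_apply_eq_smul hv] at h1
  have hne : (q lam 0 m).eval (lam m) ≠ 0 := eval_q_ne_zero lam hinj (by simp)
  have := (W m).smul_mem ((q lam 0 m).eval (lam m))⁻¹ h1
  rwa [smul_smul, inv_mul_cancel₀ hne, one_smul] at this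

include hanti hstep hinj hbot in
theorem le_sup (m : ℕ) : W m ≤ Module.End.eigenspace T (lam m) ⊔ W (m + 1) := by
  intro v hv
  set b := max (m + 1) (d + 1) with hb
  set qq := q lam (m + 1) b with hqq
  set c := qq.eval (lam m) with hc
  have hne : c ≠ 0 := eval_q_ne_zero lam hinj (by simp)
  have hbW : W b ≤ ⊥ := hbot ▸ hanti (le_max_right _ _)
  -- qq = (X - C λ_m) * s + C c
  have hdiv : qq %ₘ (X - C (lam m)) + (X - C (lam m)) * (qq /ₘ (X - C (lam m))) = qq :=
    modByMonic_add_div qq (X - C (lam m))
  rw [modByMonic_X_sub_C_eq_C_eval] at hdiv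
  set s := qq /ₘ (X - C (lam m)) with hs
  have hv1 : T v - lam m • v ∈ W (m + 1) := hstep m v hv
  have h1 : aeval T qq v ∈ Module.End.eigenspace T (lam m) := by
    rw [Module.End.mem_eigenspace_iff, ← sub_eq_zero]
    have h2 : aeval T (q lam m b) v ∈ W b :=
      aeval_q_mem T W lam hanti hstep (le_trans (Nat.le_succ m) (le_max_left _ _)) hv
    have h3 := (Submodule.mem_bot k).mp (hbW h2)
    rw [q_succ_bot lam (lt_of_lt_of_le (Nat.lt_succ_self m) (le_max_left _ _)), map_mul,
      Module.End.mul_apply] at h3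
    simp only [map_sub, aeval_X, aeval_C, LinearMap.sub_apply, Module.algebraMap_end_apply] at h3
    exact h3
  have h2 : aeval T s (T v - lam m • v) ∈ W (m + 1) := aeval_mem T W lam hanti hstep s (m + 1) hv1
  have hcomm : T (aeval T s v) = aeval T s (T v) := by
    have : (aeval T (X : k[X])) * (aeval T s) = (aeval T s) * (aeval T (X : k[X])) := by
      rw [← map_mul, ← map_mul, mul_comm]
    rw [aeval_X] at this
    exact congrArg (fun f => f v) this
  have h3 : c • v = aeval T qq v - aeval T s (T v - lam m • v) := by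
    have e1 : aeval T qq v = aeval T (C c + (X - C (lam m)) * s) v := by rw [hdiv]
    rw [e1, map_add, map_mul, LinearMap.add_apply, Module.End.mul_apply]
    simp only [map_sub, aeval_X, aeval_C, LinearMap.sub_apply, Module.algebraMap_end_apply, hcomm,
      map_smul]
    abel
  have h4 : v = c⁻¹ • (aeval T qq v) - c⁻¹ • aeval T s (T v - lam m • v) := by
    rw [← smul_sub, ← h3, smul_smul, inv_mul_cancel₀ hne, one_smul]
  rw [h4]
  exact Submodule.sub_mem _ (Submodule.mem_sup_left (Submodule.smul_mem _ _ h1))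
    (Submodule.mem_sup_right (Submodule.smul_mem _ _ h2))

include hanti hstep hinj hbot htop in
theorem sup_eq (m : ℕ) : Module.End.eigenspace T (lam m) ⊔ W (m + 1) = W m :=
  le_antisymm (sup_le (eigenspace_le T W lam hanti hstep hinj htop m) (hanti (Nat.le_succ m)))
    (le_sup T W lam hanti hstep hinj d hbot m)

include hanti hstep hinj hbot htop in
theorem iSup_eq_top :
    (⨆ m ∈ Finset.range (d + 1), Module.End.eigenspace T (lam m)) = ⊤ := by
  have key : ∀ i : ℕ, i ≤ d + 1 →
      W (d + 1 - i) ≤ ⨆ m ∈ Finset.range (d + 1), Module.End.eigenspace T (lam m) := by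
    intro i
    induction i with
    | zero => intro _; rw [Nat.sub_zero, hbot]; exact bot_le
    | succ i ih =>
      intro hi
      have e : d + 1 - (i + 1) + 1 = d + 1 - i := by omega
      rw [← sup_eq T W lam hanti hstep hinj d hbot htop (d + 1 - (i + 1)), e]
      apply sup_le _ (ih (by omega))
      exact le_biSup (fun m => Module.End.eigenspace T (lam m))
        (Finset.mem_range.mpr (by omega))
  rw [eq_top_iff, ← htop]
  have := key (d + 1) le_rfl
  rwa [Nat.sub_self] at this

/-- two commuting operators with the same filtration have the same eigenspaces -/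
theorem eigenspace_le_of_commute (T' : Module.End k V) (lam' : ℕ → k)
    (hstep' : ∀ n v, v ∈ W n → T' v - lam' n • v ∈ W (n + 1))
    (hcomm : ∀ v, T (T' v) = T' (T v))
    (hanti : Antitone W) (hstep : ∀ n v, v ∈ W n → T v - lam n • v ∈ W (n + 1))
    (hinj : Function.Injective lam) (d : ℕ) (hbot : W (d + 1) = ⊥) (htop : W 0 = ⊤) (m : ℕ) :
    Module.End.eigenspace T (lam m) ≤ Module.End.eigenspace T' (lam' m) := by
  intro v hv
  have hvW := eigenspace_le T W lam hanti hstep hinj htop m hv
  rw [Module.End.mem_eigenspace_iff] at hv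
  have h1 : T' v - lam' m • v ∈ W (m + 1) := hstep' m v hvW
  have h2 : T' v - lam' m • v ∈ Module.End.eigenspace T (lam m) := by
    rw [Module.End.mem_eigenspace_iff, map_sub, map_smul, hcomm, hv, map_smul, smul_sub,
      smul_comm]
  have h3 : T' v - lam' m • v ∈ Module.End.eigenspace T (lam m) ⊓ W (m + 1) := ⟨h2, h1⟩
  rw [inf_eq_bot T W lam hanti hstep hinj d hbot m, Submodule.mem_bot, sub_eq_zero] at h3
  rw [Module.End.mem_eigenspace_iff]
  exact h3

end Groth.Agent.Helper4.FiltEigen
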