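import Mathlib
import Groth.Agent.Helper4.AdamsGamma2
import Groth.Agent.Helper4.FiltEigen

set_option autoImplicit false

/-!
# Helper4: the Adams eigenspace decomposition of `ℚ ⊗ K`
-/

namespace Groth.Agent.Helper4.AdamsEigen

open LambdaRing Finset TensorProduct
open Groth.Agent.Helper1.Lambda

universe u

variable {K : Type u} [CommRing K] [LambdaOps K] (P : PosStructure K)

/-- the rational γ-filtration -/
def QF (n : ℕ) : Submodule ℚ (ℚ ⊗[ℤ] K) :=
  Submodule.span ℚ ((fun x : K => (1 : ℚ) ⊗ₜ[ℤ] x) '' (gammaFiltration P n : Set K))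

theorem QF_anti : Antitone (QF P) := by
  intro a b h
  apply Submodule.span_mono
  apply Set.image_mono
  exact AdamsGamma.filt_anti P h

omit [LambdaOps K] in
theorem tmul_eq_smul (q : ℚ) (x : K) : q ⊗ₜ[ℤ] x = q • ((1 : ℚ) ⊗ₜ[ℤ] x) := by
  rw [TensorProduct.smul_tmul', smul_eq_mul, mul_one]

theorem QF_zero : QF P 0 = ⊤ := by
  rw [eq_top_iff]
  intro v hv
  clear hv
  induction v using TensorProduct.induction_on with
  | zero => exact zero_mem _
  | tmul q x =>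
    rw [tmul_eq_smul]
    apply Submodule.smul_mem
    apply Submodule.subset_span
    refine ⟨x, ?_, rfl⟩
    rw [AdamsGamma.filt_zero]; trivial
  | add a b ha hb => exact add_mem ha hb

theorem QF_bot (d : ℕ) (hd : gammaFiltration P (d + 1) = ⊥) : QF P (d + 1) = ⊥ := by
  unfold QF
  rw [hd, Submodule.span_eq_bot]
  rintro _ ⟨x, hx, rfl⟩
  have : x = 0 := by simpa using hx
  subst this
  exact TensorProduct.tmul_zero _ _

omit [LambdaOps K] in
theorem natCast_tmul (N : ℕ) (x : K) : (N : ℚ) ⊗ₜ[ℤ] x = (1 : ℚ) ⊗ₜ[ℤ] ((N : K) * x) := by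
  have h1 : (N : ℚ) = (N : ℤ) • (1 : ℚ) := by simp
  have h2 : (N : K) * x = (N : ℤ) • x := by simp
  rw [h1, h2, TensorProduct.smul_tmul]

theorem QF_step (hK : HasSplitting K P) (j : ℕ) (Ψ : ℚ ⊗[ℤ] K →ₗ[ℚ] ℚ ⊗[ℤ] K)
    (hΨ : ∀ x : K, Ψ (1 ⊗ₜ[ℤ] x) = 1 ⊗ₜ[ℤ] adams P j x) (n : ℕ) (v : ℚ ⊗[ℤ] K)
    (hv : v ∈ QF P n) : Ψ v - ((j : ℚ) ^ n) • v ∈ QF P (n + 1) := by
  unfold QF at hv
  induction hv using Submodule.span_induction with
  | mem v hv =>
    obtain ⟨x, hx, rfl⟩ := hv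
    rw [hΨ, ← tmul_eq_smul]
    have e : ((j : ℚ) ^ n) ⊗ₜ[ℤ] x = (1 : ℚ) ⊗ₜ[ℤ] ((j : K) ^ n * x) := by
      have := natCast_tmul (j ^ n) x
      push_cast at this
      exact this
    rw [e, ← TensorProduct.tmul_sub]
    apply Submodule.subset_span
    exact ⟨_, AdamsGamma.adams_sub_mem P hK j n x hx, rfl⟩
  | zero => simp
  | add a b _ _ ha hb =>
    have := add_mem ha hb
    convert this using 1
    rw [map_add, smul_add]
    abel
  | smul c a _ ha =>
    have := Submodule.smul_mem _ c ha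
    convert this using 1
    rw [map_smul, smul_sub, smul_comm]

theorem comm (hK : HasSplitting K P) (j l : ℕ) (Ψj Ψl : ℚ ⊗[ℤ] K →ₗ[ℚ] ℚ ⊗[ℤ] K)
    (hΨj : ∀ x : K, Ψj (1 ⊗ₜ[ℤ] x) = 1 ⊗ₜ[ℤ] adams P j x)
    (hΨl : ∀ x : K, Ψl (1 ⊗ₜ[ℤ] x) = 1 ⊗ₜ[ℤ] adams P l x) (v : ℚ ⊗[ℤ] K) :
    Ψj (Ψl v) = Ψl (Ψj v) := by
  induction v using TensorProduct.induction_on with
  | zero => simp
  | tmul q x =>
    rw [tmul_eq_smul, map_smul, map_smul, map_smul, map_smul, hΨl, hΨj, hΨj, hΨl,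
      adams_adams P hK, adams_adams P hK, mul_comm]
  | add a b ha hb => rw [map_add, map_add, map_add, map_add, ha, hb]

theorem pow_injective (j : ℕ) (hj : 2 ≤ j) : Function.Injective (fun n : ℕ => (j : ℚ) ^ n) := by
  intro a b h
  simp only at h
  have h' : j ^ a = j ^ b := by exact_mod_cast h
  exact Nat.pow_right_injective hj h'

end Groth.Agent.Helper4.AdamsEigen
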