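import Groth.Agent.Helper4.AdamsOps
import Mathlib

set_option autoImplicit false
universe u

/-! Over a ℚ-algebra, additive operations ψ^k with ψ^1 = id determine a unique pre-λ-structure. -/

namespace Groth.Agent.Helper4.AdamsExp

open LambdaRing PowerSeries Finset

variable {K : Type u} [CommRing K] [Algebra ℚ K]

/-- The λ-operations defined recursively from ψ by Newton's identities. -/
noncomputable def lamOf (ψ : ℕ → K →+ K) : ℕ → K → K
  | 0, _ => 1
  | n + 1, x => algebraMap ℚ K (1 / ((n : ℚ) + 1)) *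
      ∑ k : Fin (n + 1), (-1) ^ (k : ℕ) * ψ ((k : ℕ) + 1) x * lamOf ψ (n - (k : ℕ)) x
  decreasing_by omega

theorem lamOf_zero (ψ : ℕ → K →+ K) (x : K) : lamOf ψ 0 x = 1 := by
  rw [lamOf]

theorem lamOf_succ (ψ : ℕ → K →+ K) (n : ℕ) (x : K) :
    lamOf ψ (n + 1) x * ((n : K) + 1) =
      ∑ k ∈ range (n + 1), (-1) ^ k * ψ (k + 1) x * lamOf ψ (n - k) x := by
  rw [lamOf, Fin.sum_univ_eq_sum_range
    (fun k => (-1 : K) ^ k * ψ (k + 1) x * lamOf ψ (n - k) x) (n + 1)]
  have h : algebraMap ℚ K (1 / ((n : ℚ) + 1)) * ((n : K) + 1) = 1 := by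
    have : ((n : K) + 1) = algebraMap ℚ K ((n : ℚ) + 1) := by simp
    rw [this, ← map_mul, one_div, inv_mul_cancel₀ (by positivity), map_one]
  rw [mul_comm (algebraMap ℚ K _), mul_assoc, h, mul_one]

/-- The series F_x = Σ λ^n(x) t^n. -/
noncomputable def F (ψ : ℕ → K →+ K) (x : K) : PowerSeries K := PowerSeries.mk fun n => lamOf ψ n x

/-- The series P_x = Σ (−1)^k ψ^{k+1}(x) t^k. -/
noncomputable def P (ψ : ℕ → K →+ K) (x : K) : PowerSeries K :=
  PowerSeries.mk fun k => (-1) ^ k * ψ (k + 1) x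

theorem P_add (ψ : ℕ → K →+ K) (x y : K) : P ψ (x + y) = P ψ x + P ψ y := by
  ext k
  simp [P, mul_add]

theorem derivative_F (ψ : ℕ → K →+ K) (x : K) :
    PowerSeries.derivative K (F ψ x) = P ψ x * F ψ x := by
  ext n
  rw [coeff_derivative, coeff_mul, Finset.Nat.sum_antidiagonal_eq_sum_range_succ_mk]
  simp only [F, P, coeff_mk]
  exact lamOf_succ ψ n x

theorem constantCoeff_F (ψ : ℕ → K →+ K) (x : K) : constantCoeff (F ψ x) = 1 := by
  rw [← coeff_zero_eq_constantCoeff_apply]
  simp [F, lamOf_zero]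

/-- Uniqueness of solutions of `G' = P G` with given constant term, over a ℚ-algebra. -/
theorem ode_unique (Pp G H : PowerSeries K)
    (hG : PowerSeries.derivative K G = Pp * G) (hH : PowerSeries.derivative K H = Pp * H)
    (h0 : constantCoeff G = constantCoeff H) : G = H := by
  ext n
  induction n using Nat.strong_induction_on with
  | _ n ih =>
    rcases n with _ | n
    · simpa using h0
    · have h1 := congrArg (coeff n) hG
      have h2 := congrArg (coeff n) hH
      rw [coeff_derivative, coeff_mul] at h1 h2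
      have h3 : ∑ p ∈ antidiagonal n, coeff p.1 Pp * coeff p.2 G =
          ∑ p ∈ antidiagonal n, coeff p.1 Pp * coeff p.2 H := by
        refine Finset.sum_congr rfl fun p hp => ?_
        rw [ih p.2 (by have := (HasAntidiagonal.mem_antidiagonal.mp hp); lia)]
      rw [h3, ← h2] at h1
      exact (AdamsOps.isUnit_natCast_succ (A := K) n).mul_right_cancel h1

theorem F_add (ψ : ℕ → K →+ K) (x y : K) : F ψ (x + y) = F ψ x * F ψ y := by
  refine ode_unique (P ψ (x + y)) _ _ (derivative_F ψ (x + y)) ?_ ?_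
  · rw [Derivation.leibniz, derivative_F, derivative_F, P_add]
    simp only [smul_eq_mul]
    ring
  · rw [map_mul, constantCoeff_F, constantCoeff_F, constantCoeff_F, mul_one]

/-- The pre-λ-structure attached to ψ. -/
@[reducible] noncomputable def lambdaOpsOf (ψ : ℕ → K →+ K) (hψ : ψ 1 = AddMonoidHom.id K) : LambdaOps K where
  lam := lamOf ψ
  lam_zero := lamOf_zero ψ
  lam_one x := by
    have := lamOf_succ ψ 0 x
    simpa [hψ, lamOf_zero] using this
  lam_add k x y := by
    have h := congrArg (coeff k) (F_add ψ x y)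
    rw [coeff_mul, Finset.Nat.sum_antidiagonal_eq_sum_range_succ_mk] at h
    simpa [F] using h

theorem adamsOp_lambdaOpsOf (ψ : ℕ → K →+ K) (hψ : ψ 1 = AddMonoidHom.id K) (k : ℕ) (hk : 1 ≤ k)
    (x : K) : @adamsOp K _ (lambdaOpsOf ψ hψ) k x = ψ k x := by
  letI := lambdaOpsOf ψ hψ
  obtain ⟨k, rfl⟩ : ∃ m, k = m + 1 := ⟨k - 1, by lia⟩
  have hlam : lamSeries x = F ψ x := rfl
  have hlog : logDerivSeries x = P ψ x := by
    unfold logDerivSeries
    rw [hlam, derivative_F, mul_assoc, ← hlam, AdamsOps.lamSeries_mul_invOfUnit, mul_one]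
  change (-1 : K) ^ k * coeff k (logDerivSeries x) = _
  rw [hlog]
  simp only [P, coeff_mk]
  rw [← mul_assoc, ← mul_pow]
  simp

omit [Algebra ℚ K] in
theorem lambdaOps_ext (L₁ L₂ : LambdaOps K)
    (h : ∀ i x, @LambdaOps.lam K _ L₁ i x = @LambdaOps.lam K _ L₂ i x) : L₁ = L₂ := by
  cases L₁; cases L₂
  congr
  funext i x
  exact h i x

end Groth.Agent.Helper4.AdamsExp
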