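import Groth.Agent.Helper4.LamSeries
import Mathlib

set_option autoImplicit false
universe u

/-! Adams operations of a pre-λ-ring: Newton's identity. -/

namespace Groth.Agent.Helper4.AdamsOps

open LambdaRing PowerSeries Finset

variable {K : Type u} [CommRing K] [LambdaOps K]

theorem lamSeries_mul_invOfUnit (x : K) : lamSeries x * (lamSeries x).invOfUnit 1 = 1 :=
  PowerSeries.mul_invOfUnit _ _ (by simp [LamSeries.constantCoeff_lamSeries])

theorem derivative_lamSeries (x : K) :
    PowerSeries.derivative K (lamSeries x) = logDerivSeries x * lamSeries x := by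
  unfold logDerivSeries
  rw [mul_assoc, mul_comm ((lamSeries x).invOfUnit 1), lamSeries_mul_invOfUnit, mul_one]

theorem coeff_logDerivSeries (x : K) (k : ℕ) :
    coeff k (logDerivSeries x) = (-1) ^ k * adamsOp (k + 1) x := by
  change _ = (-1) ^ k * ((-1) ^ k * coeff k (logDerivSeries x))
  rw [← mul_assoc, ← mul_pow]
  simp

/-- Newton's identity: (n+1) λ^{n+1}(x) = Σ_{k ≤ n} (−1)^k ψ^{k+1}(x) λ^{n−k}(x). -/
theorem newton (x : K) (n : ℕ) :
    LambdaOps.lam (n + 1) x * ((n : K) + 1) =
      ∑ k ∈ range (n + 1), (-1) ^ k * adamsOp (k + 1) x * LambdaOps.lam (n - k) x := by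
  have h := congrArg (coeff n) (derivative_lamSeries x)
  rw [coeff_derivative, LamSeries.coeff_lamSeries, coeff_mul,
    Finset.Nat.sum_antidiagonal_eq_sum_range_succ_mk] at h
  rw [h]
  refine Finset.sum_congr rfl fun k _ => ?_
  rw [coeff_logDerivSeries, LamSeries.coeff_lamSeries]

/-- Newton's identity solved for ψ^{n+1}. -/
theorem newton' (x : K) (n : ℕ) :
    (-1) ^ n * adamsOp (n + 1) x = LambdaOps.lam (n + 1) x * ((n : K) + 1) -
      ∑ k ∈ range n, (-1) ^ k * adamsOp (k + 1) x * LambdaOps.lam (n - k) x := by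
  rw [newton, Finset.sum_range_succ, Nat.sub_self, LambdaOps.lam_zero]
  ring

theorem isUnit_natCast_succ {A : Type*} [CommRing A] [Algebra ℚ A] (n : ℕ) :
    IsUnit ((n : A) + 1) := by
  have : IsUnit ((n : ℚ) + 1) := IsUnit.mk0 _ (by positivity)
  simpa using this.map (algebraMap ℚ A)

/-- A ring hom commuting with the λ-operations commutes with the Adams operations. -/
theorem map_adamsOp_of_map_lam {K' : Type*} [CommRing K'] [LambdaOps K'] (f : K →+* K')
    (hf : ∀ (i : ℕ) (x : K), f (LambdaOps.lam i x) = LambdaOps.lam i (f x)) (k : ℕ) (x : K) :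
    f (adamsOp k x) = adamsOp k (f x) := by
  induction k using Nat.strong_induction_on with
  | _ k ih =>
    rcases k with _ | n
    · simp [adamsOp]
    · have h1 := congrArg f (newton' x n)
      have h2 := newton' (f x) n
      simp only [map_mul, map_pow, map_neg, map_one, map_sub, map_add, map_natCast, map_sum,
        hf] at h1
      have h3 : ∑ k ∈ range n, (-1 : K') ^ k * f (adamsOp (k + 1) x) * LambdaOps.lam (n - k) (f x) =
          ∑ k ∈ range n, (-1) ^ k * adamsOp (k + 1) (f x) * LambdaOps.lam (n - k) (f x) := by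
        refine Finset.sum_congr rfl fun k hk => ?_
        rw [ih (k + 1) (by rw [Finset.mem_range] at hk; lia)]
      rw [h3, ← h2] at h1
      have hu : IsUnit ((-1 : K') ^ n) := (isUnit_one.neg).pow n
      exact hu.mul_left_cancel h1

/-- Over ℚ-algebras, a ring hom commuting with the Adams operations commutes with the λ^i. -/
theorem map_lam_of_map_adamsOp {K' : Type*} [CommRing K'] [LambdaOps K'] [Algebra ℚ K']
    (f : K →+* K')
    (hf : ∀ k : ℕ, 1 ≤ k → ∀ x : K, f (adamsOp k x) = adamsOp k (f x)) (i : ℕ) (x : K) :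
    f (LambdaOps.lam i x) = LambdaOps.lam i (f x) := by
  induction i using Nat.strong_induction_on with
  | _ i ih =>
    rcases i with _ | n
    · simp [LambdaOps.lam_zero]
    · have h1 := congrArg f (newton x n)
      have h2 := newton (f x) n
      simp only [map_mul, map_pow, map_neg, map_one, map_add, map_natCast, map_sum] at h1
      have h3 : ∑ k ∈ range (n + 1), (-1 : K') ^ k * f (adamsOp (k + 1) x) *
            f (LambdaOps.lam (n - k) x) =
          ∑ k ∈ range (n + 1), (-1) ^ k * adamsOp (k + 1) (f x) * LambdaOps.lam (n - k) (f x) := by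
        refine Finset.sum_congr rfl fun k hk => ?_
        rw [ih (n - k) (by lia), hf (k + 1) (by lia)]
      rw [h3, ← h2] at h1
      exact (isUnit_natCast_succ (A := K') n).mul_right_cancel h1

end Groth.Agent.Helper4.AdamsOps
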