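import Groth.Prelude.Def_Adeq
import Mathlib

/-!
# Injectivity of transition maps from base-change isomorphisms
-/

universe u
open CategoryTheory TensorProduct

namespace Groth.Agent.Helper4.AdeqBC

/-- if `S ⊗_R M → N` (adjoint of `g : M → N`) is an isomorphism and `R → S` has an `R`-linear
retraction, then `g` is injective. -/
theorem injective_of_isIso_adjoint {R S : Type u} [CommRing R] [CommRing S] (f : R →+* S)
    (r : S →+ R) (hr1 : r 1 = 1) (hr : ∀ (a : R) (s : S), r (f a * s) = a * r s)
    (M : ModuleCat.{u + 1} R) (N : ModuleCat.{u + 1} S)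
    (g : M ⟶ (ModuleCat.restrictScalars f).obj N)
    (h : IsIso (((ModuleCat.extendRestrictScalarsAdj.{u + 1, u, u} f).homEquiv M N).symm g)) :
    Function.Injective g := by
  set ψ := ((ModuleCat.extendRestrictScalarsAdj.{u + 1, u, u} f).homEquiv M N).symm g with hψ
  have hg : ∀ m : M, g m = ψ ((1 : S) ⊗ₜ m) := by
    intro m
    have := ModuleCat.extendRestrictScalarsAdj_homEquiv_apply.{u + 1, u, u} (f := f) ψ m
    rw [← this, hψ, Equiv.apply_symm_apply]
  have hψinj : Function.Injective ψ := (ConcreteCategory.bijective_of_isIso ψ).1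
  -- the retraction
  let r' : ((ModuleCat.restrictScalars f).obj (ModuleCat.of S S)) →ₗ[R] R :=
    { toFun := fun s => r s
      map_add' := fun s₁ s₂ => map_add r _ _
      map_smul' := fun a s => hr a s }
  let ρ : TensorProduct R ((ModuleCat.restrictScalars f).obj (ModuleCat.of S S)) M →ₗ[R] M :=
    TensorProduct.lift
      (LinearMap.mk₂ R (fun (s : (ModuleCat.restrictScalars f).obj (ModuleCat.of S S)) (m : M) =>
          r' s • m)
        (fun s₁ s₂ m => by rw [map_add, add_smul])
        (fun a s m => by rw [map_smul, smul_assoc])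
        (fun s m₁ m₂ => smul_add _ _ _)
        (fun a s m => smul_comm _ _ _))
  intro m₁ m₂ e
  rw [hg, hg] at e
  have e' := hψinj e
  have e'' := congrArg ρ e'
  have h1 : ∀ m : M, ρ ((1 : S) ⊗ₜ m) = m := by
    intro m
    change r' (1 : S) • m = m
    change r (1 : S) • m = m
    rw [hr1, one_smul]
  rwa [h1, h1] at e''

end Groth.Agent.Helper4.AdeqBC
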