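import Groth.Prelude.Def_W4stkadequateTF
import Mathlib

/-!
# Free module-valued functors on representables and injective module-valued functors
-/

universe u
open CategoryTheory

namespace Groth.Agent.Helper4.AdeqFree

variable {A : Type u} [CommRing A]

/-- carrier of the free functor at `B'`. -/
abbrev Car (D B' : Adeq.Alg A) : Type (u + 1) := ULift.{u + 1} (D ⟶ B') →₀ (B' : Type u)

/-- transition map of the free functor. -/
noncomputable def mapHom (D : Adeq.Alg A) {B' B'' : Adeq.Alg A} (f : B' ⟶ B'') :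
    Car D B' →+ Car D B'' :=
  Finsupp.liftAddHom (fun h : ULift.{u + 1} (D ⟶ B') =>
    (Finsupp.singleAddHom (ULift.up (h.down ≫ f) : ULift.{u + 1} (D ⟶ B''))).comp
      f.hom.toRingHom.toAddMonoidHom)

theorem mapHom_single (D : Adeq.Alg A) {B' B'' : Adeq.Alg A} (f : B' ⟶ B'')
    (h : ULift.{u + 1} (D ⟶ B')) (b : B') :
    mapHom D f (Finsupp.single h b) = Finsupp.single (ULift.up (h.down ≫ f)) (f.hom b) := by
  simp [mapHom]

theorem mapHom_id (D B' : Adeq.Alg A) : mapHom D (𝟙 B') = AddMonoidHom.id _ := by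
  apply Finsupp.addHom_ext
  intro h b
  rw [mapHom_single]
  simp

theorem mapHom_comp (D : Adeq.Alg A) {B' B'' B''' : Adeq.Alg A} (f : B' ⟶ B'') (g : B'' ⟶ B''') :
    mapHom D (f ≫ g) = (mapHom D g).comp (mapHom D f) := by
  apply Finsupp.addHom_ext
  intro h b
  rw [mapHom_single, AddMonoidHom.comp_apply, mapHom_single, mapHom_single]
  simp

theorem mapHom_smul (D : Adeq.Alg A) {B' B'' : Adeq.Alg A} (f : B' ⟶ B'') (r : B')
    (c : Car D B') : mapHom D f (r • c) = f.hom r • mapHom D f c := by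
  induction c using Finsupp.induction_linear with
  | zero => simp
  | add x y hx hy => rw [smul_add, map_add, map_add, smul_add, hx, hy]
  | single h b =>
    rw [Finsupp.smul_single, mapHom_single, mapHom_single, Finsupp.smul_single]
    simp

/-- the abelian-group valued functor underlying the free functor on `D`. -/
noncomputable def freeAb (D : Adeq.Alg A) : (Adeq.Alg A)ᵒᵖᵒᵖ ⥤ Ab.{u + 1} where
  obj X := AddCommGrpCat.of (Car D X.unop.unop)
  map {X Y} f := AddCommGrpCat.ofHom (mapHom D f.unop.unop)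
  map_id X := by
    apply AddCommGrpCat.hom_ext
    exact mapHom_id D X.unop.unop
  map_comp {X Y Z} f g := by
    apply AddCommGrpCat.hom_ext
    exact mapHom_comp D f.unop.unop g.unop.unop

noncomputable instance (D : Adeq.Alg A) (X : (Adeq.Alg A)ᵒᵖᵒᵖ) :
    Module ((Adeq.ringOf A).obj X) ((freeAb D).obj X) :=
  inferInstanceAs (Module (X.unop.unop : Type u) (Car D X.unop.unop))

/-- the free module-valued functor on the representable functor of `D`. -/
noncomputable def freeMVF (D : Adeq.Alg A) : Adeq.MVF A :=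
  PresheafOfModules.ofPresheaf (freeAb D) (by
    intro X Y f r m
    exact mapHom_smul D f.unop.unop r m)

section mp

variable (M : Adeq.MVF A)

/-- the transition map of `M`, typed as a map between the values. -/
noncomputable def mp {B' B'' : Adeq.Alg A} (f : B' ⟶ B'') (x : M.obj (Adeq.pt B')) :
    M.obj (Adeq.pt B'') := M.map (Adeq.ptHom f) x

theorem mp_def {B' B'' : Adeq.Alg A} (f : B' ⟶ B'') (x : M.obj (Adeq.pt B')) :
    mp M f x = M.map (Adeq.ptHom f) x := rfl

theorem mp_add {B' B'' : Adeq.Alg A} (f : B' ⟶ B'') (x y : M.obj (Adeq.pt B')) :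
    mp M f (x + y) = mp M f x + mp M f y := map_add (M.map (Adeq.ptHom f)).hom x y

theorem mp_zero {B' B'' : Adeq.Alg A} (f : B' ⟶ B'') :
    mp M f (0 : M.obj (Adeq.pt B')) = 0 := map_zero (M.map (Adeq.ptHom f)).hom

theorem mp_smul {B' B'' : Adeq.Alg A} (f : B' ⟶ B'') (b : B') (x : M.obj (Adeq.pt B')) :
    mp M f (b • x) = f.hom b • mp M f x := M.map_smul (Adeq.ptHom f) b x

theorem mp_comp {B' B'' B''' : Adeq.Alg A} (f : B' ⟶ B'') (g : B'' ⟶ B''')
    (x : M.obj (Adeq.pt B')) : mp M (f ≫ g) x = mp M g (mp M f x) :=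
  M.map_comp_apply (Adeq.ptHom f) (Adeq.ptHom g) x

theorem mp_id {B' : Adeq.Alg A} (x : M.obj (Adeq.pt B')) : mp M (𝟙 B') x = x := by
  change M.presheaf.map (𝟙 _) x = x
  rw [M.presheaf.map_id]
  rfl

theorem mp_nat {M N : Adeq.MVF A} (φ : M ⟶ N) {B' B'' : Adeq.Alg A} (f : B' ⟶ B'')
    (x : M.obj (Adeq.pt B')) :
    φ.app (Adeq.pt B'') (mp M f x) = mp N f (φ.app (Adeq.pt B') x) :=
  PresheafOfModules.naturality_apply φ (Adeq.ptHom f) x

end mp

section yon

variable (M : Adeq.MVF A) {D : Adeq.Alg A} (x : M.obj (Adeq.pt D))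

/-- the components of the morphism `freeMVF D ⟶ M` attached to `x ∈ M(D)`. -/
noncomputable def lc (B' : Adeq.Alg A) : Car D B' →ₗ[(B' : Type u)] M.obj (Adeq.pt B') :=
  Finsupp.linearCombination (B' : Type u)
    (fun h : ULift.{u + 1} (D ⟶ B') => mp M h.down x)

theorem lc_single (B' : Adeq.Alg A) (h : ULift.{u + 1} (D ⟶ B')) (b : B') :
    lc M x B' (Finsupp.single h b) = b • mp M h.down x := by
  simp [lc]

theorem lc_mapHom {B' B'' : Adeq.Alg A} (f : B' ⟶ B'') (c : Car D B') :
    lc M x B'' (mapHom D f c) = mp M f (lc M x B' c) := by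
  induction c using Finsupp.induction_linear with
  | zero => rw [map_zero, map_zero, map_zero, mp_zero]
  | add a b ha hb => rw [map_add, map_add, map_add, ha, hb, mp_add]
  | single h b =>
    rw [mapHom_single, lc_single, lc_single, mp_smul, mp_comp]

/-- the morphism `freeMVF D ⟶ M` attached to `x ∈ M(D)`. -/
noncomputable def yon : freeMVF D ⟶ M :=
  PresheafOfModules.homMk
    { app := fun X => AddCommGrpCat.ofHom (lc M x X.unop.unop).toAddMonoidHom
      naturality := fun {X Y} f => by
        apply AddCommGrpCat.hom_ext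
        apply AddMonoidHom.ext
        intro c
        exact lc_mapHom M x f.unop.unop c }
    (by
      intro X r m
      exact (lc M x X.unop.unop).map_smul r m)

theorem yon_app (B' : Adeq.Alg A) (c : Car D B') :
    (yon M x).app (Adeq.pt B') c = lc M x B' c := rfl

end yon

section pre

variable {D D' : Adeq.Alg A} (π : D ⟶ D')

theorem mp_free (D : Adeq.Alg A) {B' B'' : Adeq.Alg A} (f : B' ⟶ B'') (c : Car D B') :
    mp (freeMVF D) f c = mapHom D f c := rfl

/-- the generator of `freeMVF D` at `D'` attached to `π : D ⟶ D'`. -/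
noncomputable def gen : (freeMVF D).obj (Adeq.pt D') :=
  (Finsupp.single (ULift.up π) 1 : Car D D')

/-- precomposition with `π`, as a morphism of free functors. -/
noncomputable def pre : freeMVF D' ⟶ freeMVF D := yon (freeMVF D) (gen π)

theorem pre_app_single (B' : Adeq.Alg A) (h : ULift.{u + 1} (D' ⟶ B')) (b : B') :
    (pre π).app (Adeq.pt B') (Finsupp.single h b : Car D' B') =
      (Finsupp.single (ULift.up (π ≫ h.down)) b : Car D B') := by
  change lc (freeMVF D) (gen π) B' (Finsupp.single h b) = _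
  rw [lc_single, mp_free]
  change b • mapHom D h.down (Finsupp.single (ULift.up π) 1) = _
  rw [mapHom_single, Finsupp.smul_single]
  simp

theorem lc_gen_eq (B' : Adeq.Alg A) (c : Car D' B') :
    lc (freeMVF D) (gen π) B' c =
      (Finsupp.mapDomain (fun h : ULift.{u + 1} (D' ⟶ B') => ULift.up (π ≫ h.down)) c :
        Car D B') := by
  induction c using Finsupp.induction_linear with
  | zero => rw [map_zero, Finsupp.mapDomain_zero]; rfl
  | add a b ha hb => rw [map_add, Finsupp.mapDomain_add, ha, hb]; rfl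
  | single h b =>
    rw [Finsupp.mapDomain_single]
    exact pre_app_single π B' h b

theorem pre_app_eq (B' : Adeq.Alg A) (c : Car D' B') :
    (pre π).app (Adeq.pt B') c =
      (Finsupp.mapDomain (fun h : ULift.{u + 1} (D' ⟶ B') => ULift.up (π ≫ h.down)) c :
        Car D B') := lc_gen_eq π B' c

theorem mono_pre (hπ : ∀ (B' : Adeq.Alg A) (h₁ h₂ : D' ⟶ B'), π ≫ h₁ = π ≫ h₂ → h₁ = h₂) :
    Mono (pre π) := by
  apply PresheafOfModules.mono_of_injective
  intro X c₁ c₂ h
  have h' : (pre π).app (Adeq.pt X.unop.unop) c₁ = (pre π).app (Adeq.pt X.unop.unop) c₂ := h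
  rw [pre_app_eq, pre_app_eq] at h'
  refine Finsupp.mapDomain_injective ?_ h'
  intro h₁ h₂ e
  have e' : π ≫ h₁.down = π ≫ h₂.down := congrArg ULift.down e
  exact ULift.ext _ _ (hπ _ _ _ e')

theorem surjective_of_injective (I : Adeq.MVF A) [Injective I]
    (hπ : ∀ (B' : Adeq.Alg A) (h₁ h₂ : D' ⟶ B'), π ≫ h₁ = π ≫ h₂ → h₁ = h₂)
    (x' : I.obj (Adeq.pt D')) : ∃ x : I.obj (Adeq.pt D), mp I π x = x' := by
  haveI := mono_pre π hπ
  let φ : freeMVF D ⟶ I := Injective.factorThru (yon I x') (pre π)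
  have hφ : pre π ≫ φ = yon I x' := Injective.comp_factorThru _ _
  refine ⟨φ.app (Adeq.pt D) (Finsupp.single (ULift.up (𝟙 D)) 1 : Car D D), ?_⟩
  rw [← mp_nat, mp_free, mapHom_single]
  have h1 : (yon I x').app (Adeq.pt D') (Finsupp.single (ULift.up (𝟙 D')) 1 : Car D' D') = x' := by
    rw [yon_app, lc_single, one_smul]
    exact mp_id I x'
  rw [← hφ] at h1
  rw [PresheafOfModules.comp_app] at h1
  change φ.app (Adeq.pt D') ((pre π).app (Adeq.pt D')
    (Finsupp.single (ULift.up (𝟙 D')) 1 : Car D' D')) = x' at h1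
  rw [pre_app_single] at h1
  rw [← h1]
  congr 2
  all_goals simp

end pre

end Groth.Agent.Helper4.AdeqFree
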