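import Groth.Prelude.Def_W4stkadequateTF
import Mathlib

/-!
# Tangent functors of module-valued functors: functoriality and exactness along short exact
sequences of functors
-/

universe u
open CategoryTheory

namespace Groth.Agent.Helper4.AdeqTFLib

open AdeqTF

variable {A : Type u} [CommRing A]

section evalExact

variable (C : ShortComplex (Adeq.MVF A)) (hC : C.ShortExact) (X : (Adeq.Alg A)ᵒᵖᵒᵖ)
include hC

theorem eval_injective : Function.Injective (C.f.app X) :=
  haveI := hC.mono_f
  PresheafOfModules.injective_of_mono C.f X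

theorem eval_surjective : Function.Surjective (C.g.app X) :=
  haveI := hC.epi_g
  PresheafOfModules.surjective_of_epi C.g X

theorem eval_zero (x : C.X₁.obj X) : C.g.app X (C.f.app X x) = 0 := by
  have h : C.f ≫ C.g = 0 := C.zero
  have h2 := congrArg (fun φ => PresheafOfModules.Hom.app φ X) h
  simp only [PresheafOfModules.comp_app] at h2
  have h3 := congrArg (fun (φ : C.X₁.obj X ⟶ C.X₃.obj X) => φ x) h2
  simpa using h3

theorem eval_exact (y : C.X₂.obj X) (hy : C.g.app X y = 0) : ∃ x, C.f.app X x = y := by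
  haveI : (PresheafOfModules.evaluation.{u+1} (Adeq.ringOf A) X).Additive :=
    PresheafOfModules.instAdditiveModuleCatCarrierObjOppositeRingCatEvaluation (Adeq.ringOf A) X
  haveI : Limits.PreservesFiniteLimits (PresheafOfModules.evaluation.{u+1} (Adeq.ringOf A) X) :=
    PresheafOfModules.evaluation_preservesFiniteLimits (Adeq.ringOf A) X
  haveI : Limits.PreservesFiniteColimits (PresheafOfModules.evaluation.{u+1} (Adeq.ringOf A) X) :=
    PresheafOfModules.Finite.evaluation_preservesFiniteColimits (Adeq.ringOf A) X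
  have h1 : (C.map (PresheafOfModules.evaluation.{u+1} (Adeq.ringOf A) X)).Exact :=
    hC.exact.map (PresheafOfModules.evaluation.{u+1} (Adeq.ringOf A) X)
  rw [ShortComplex.moduleCat_exact_iff] at h1
  exact h1 y hy

end evalExact

section tangentFunct

variable (B : Adeq.Alg A)

theorem inl_fst (N : ModuleCat.{u} B) : AdeqTF.inl B N ≫ AdeqTF.fst B N = 𝟙 B := by
  apply CommAlgCat.hom_ext
  refine AlgHom.ext fun x => ?_
  change TrivSqZeroExt.fst (algebraMap (B : Type u) (TrivSqZeroExt (B : Type u) N) x) = x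
  rfl

theorem extMap_id (N : ModuleCat.{u} B) : AdeqTF.map B (𝟙 N) = 𝟙 _ := by
  apply CommAlgCat.hom_ext
  refine AlgHom.ext fun x => ?_
  change TrivSqZeroExt.map (LinearMap.id) x = x
  rw [TrivSqZeroExt.map_id]
  rfl

theorem extMap_comp {N N' N'' : ModuleCat.{u} B} (g : N ⟶ N') (h : N' ⟶ N'') :
    AdeqTF.map B (g ≫ h) = AdeqTF.map B g ≫ AdeqTF.map B h := by
  apply CommAlgCat.hom_ext
  refine AlgHom.ext fun x => ?_
  change TrivSqZeroExt.map (h.hom.comp g.hom) x =
    TrivSqZeroExt.map h.hom (TrivSqZeroExt.map g.hom x)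
  rw [TrivSqZeroExt.map_comp_map]
  rfl

theorem extMap_zero (N N' : ModuleCat.{u} B) :
    AdeqTF.map B (0 : N ⟶ N') = AdeqTF.fst B N ≫ AdeqTF.inl B N' := by
  apply CommAlgCat.hom_ext
  refine AlgHom.ext fun x => ?_
  change TrivSqZeroExt.map (0 : N →ₗ[(B : Type u)] N') x =
    algebraMap (B : Type u) (TrivSqZeroExt (B : Type u) N') (TrivSqZeroExt.fst x)
  ext
  · rw [TrivSqZeroExt.fst_map]
    rfl
  · rw [TrivSqZeroExt.snd_map]
    simp only [LinearMap.zero_apply]
    rfl

variable (F G : Adeq.MVF A)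

theorem mem_tangent {N : ModuleCat.{u} B} (x : F.obj (Adeq.pt (ext B N))) :
    x ∈ tangent B N F ↔ F.map (Adeq.ptHom (fst B N)) x = 0 := Iff.rfl

theorem tangentMap_coe {N N' : ModuleCat.{u} B} (g : N ⟶ N') (x : tangent B N F) :
    ((tangentMap B F g x : tangent B N' F) : F.obj (Adeq.pt (ext B N'))) =
      F.map (Adeq.ptHom (map B g)) (x : F.obj (Adeq.pt (ext B N))) := rfl

theorem tangentMap_id {N : ModuleCat.{u} B} (x : tangent B N F) :
    tangentMap B F (𝟙 N) x = x := by
  apply Subtype.ext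
  rw [tangentMap_coe]
  have e : Adeq.ptHom (map B (𝟙 N)) = 𝟙 _ := by rw [extMap_id]; rfl
  rw [F.congr_map_apply e]
  change F.presheaf.map (𝟙 _) x.1 = x.1
  rw [F.presheaf.map_id]
  rfl

theorem tangentMap_comp {N N' N'' : ModuleCat.{u} B} (g : N ⟶ N') (h : N' ⟶ N'')
    (x : tangent B N F) :
    tangentMap B F (g ≫ h) x = tangentMap B F h (tangentMap B F g x) := by
  apply Subtype.ext
  rw [tangentMap_coe, tangentMap_coe, tangentMap_coe]
  have e : Adeq.ptHom (map B (g ≫ h)) = Adeq.ptHom (map B g) ≫ Adeq.ptHom (map B h) := by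
    rw [extMap_comp]; rfl
  rw [F.congr_map_apply e, F.map_comp_apply]

theorem tangentMap_zero {N N' : ModuleCat.{u} B} (x : tangent B N F) :
    tangentMap B F (0 : N ⟶ N') x = 0 := by
  apply Subtype.ext
  rw [tangentMap_coe]
  have e : Adeq.ptHom (map B (0 : N ⟶ N')) =
      Adeq.ptHom (fst B N) ≫ Adeq.ptHom (inl B N') := by
    rw [extMap_zero]; rfl
  rw [F.congr_map_apply e, F.map_comp_apply, (mem_tangent B F x.1).1 x.2]
  exact _root_.map_zero _

end tangentFunct

section tmap

variable (B : Adeq.Alg A) {F G : Adeq.MVF A} (φ : F ⟶ G)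

theorem map_fst_map_inl (F : Adeq.MVF A) (N : ModuleCat.{u} B) (w : F.obj (Adeq.pt B)) :
    F.map (Adeq.ptHom (fst B N)) (F.map (Adeq.ptHom (inl B N)) w) = w := by
  rw [← F.map_comp_apply]
  have e : Adeq.ptHom (inl B N) ≫ Adeq.ptHom (fst B N) = 𝟙 _ := by
    change Adeq.ptHom (inl B N ≫ fst B N) = 𝟙 _
    rw [inl_fst]
    rfl
  rw [F.congr_map_apply e]
  change F.presheaf.map (𝟙 _) w = w
  rw [F.presheaf.map_id]
  rfl

/-- the map on tangent modules induced by a morphism of functors. -/
noncomputable def tmap (N : ModuleCat.{u} B) : tangent B N F →+ tangent B N G :=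
  ((φ.app (Adeq.pt (ext B N))).hom.toAddMonoidHom.comp (tangent B N F).subtype).codRestrict
    (tangent B N G) (fun x => by
      rw [mem_tangent]
      change G.map (Adeq.ptHom (fst B N)) (φ.app _ x.1) = 0
      rw [← PresheafOfModules.naturality_apply, (mem_tangent B F x.1).1 x.2]
      exact _root_.map_zero _)

theorem tmap_coe (N : ModuleCat.{u} B) (x : tangent B N F) :
    ((tmap B φ N x : tangent B N G) : G.obj (Adeq.pt (ext B N))) = φ.app _ x.1 := rfl

theorem tmap_tangentMap {N N' : ModuleCat.{u} B} (g : N ⟶ N') (x : tangent B N F) :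
    tmap B φ N' (tangentMap B F g x) = tangentMap B G g (tmap B φ N x) := by
  apply Subtype.ext
  rw [tmap_coe, tangentMap_coe, tangentMap_coe, tmap_coe, PresheafOfModules.naturality_apply]

variable (C : ShortComplex (Adeq.MVF A)) (hC : C.ShortExact) (N : ModuleCat.{u} B)
include hC

theorem tmap_injective : Function.Injective (tmap B C.f N) := by
  intro x y h
  apply Subtype.ext
  apply eval_injective C hC
  exact congrArg Subtype.val h

theorem tmap_comp_zero (x : tangent B N C.X₁) : tmap B C.g N (tmap B C.f N x) = 0 := by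
  apply Subtype.ext
  rw [tmap_coe, tmap_coe]
  exact eval_zero C hC _ _

theorem tmap_exact (y : tangent B N C.X₂) (hy : tmap B C.g N y = 0) :
    ∃ x, tmap B C.f N x = y := by
  have hy' : C.g.app _ y.1 = 0 := congrArg Subtype.val hy
  obtain ⟨x, hx⟩ := eval_exact C hC _ y.1 hy'
  have hxT : x ∈ tangent B N C.X₁ := by
    rw [mem_tangent]
    refine eval_injective C hC (Adeq.pt B) ?_
    rw [PresheafOfModules.naturality_apply, hx, (mem_tangent B C.X₂ y.1).1 y.2]
    exact (_root_.map_zero _).symm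
  exact ⟨⟨x, hxT⟩, Subtype.ext hx⟩

theorem tmap_surjective : Function.Surjective (tmap B C.g N) := by
  intro z
  obtain ⟨y, hy⟩ := eval_surjective C hC _ z.1
  have hz : C.X₃.map (Adeq.ptHom (fst B N)) z.1 = 0 := (mem_tangent B C.X₃ z.1).1 z.2
  obtain ⟨w, hw⟩ : ∃ w : C.X₂.obj (Adeq.pt (ext B N)),
      w = C.X₂.map (Adeq.ptHom (inl B N)) (C.X₂.map (Adeq.ptHom (fst B N)) y) := ⟨_, rfl⟩
  have hw1 : C.X₂.map (Adeq.ptHom (fst B N)) w = C.X₂.map (Adeq.ptHom (fst B N)) y := by
    rw [hw, map_fst_map_inl]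
  have hw2 : C.g.app _ w = 0 := by
    rw [hw, PresheafOfModules.naturality_apply, PresheafOfModules.naturality_apply, hy, hz]
    exact _root_.map_zero _
  have hyT : y - w ∈ tangent B N C.X₂ := by
    rw [mem_tangent, map_sub, hw1, sub_self]
  refine ⟨⟨_, hyT⟩, Subtype.ext ?_⟩
  rw [tmap_coe]
  change C.g.app _ (y - w) = z.1
  rw [map_sub, hy, hw2, sub_zero]

end tmap

end Groth.Agent.Helper4.AdeqTFLib
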