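import Mathlib

set_option autoImplicit false
universe u

namespace Groth.Agent.Helper4.AdicFlat

open Submodule

variable {R : Type u} [CommRing R]

/-- purity: for `0 → K → M → N → 0` exact with `N` flat, `J M ∩ K = J K`. -/
theorem pure_of_flat (J : Ideal R) {K M N : Type*} [AddCommGroup K] [Module R K]
    [AddCommGroup M] [Module R M] [AddCommGroup N] [Module R N] [Module.Flat R N]
    (i : K →ₗ[R] M) (g : M →ₗ[R] N) (hi : Function.Injective i) (hg : Function.Surjective g)
    (hig : Function.Exact i g) (x : K) (hx : i x ∈ J • (⊤ : Submodule R M)) :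
    x ∈ J • (⊤ : Submodule R K) := by
  classical
  have hspan : (⊤ : Submodule R M) = Submodule.span R (Set.range (id : M → M)) := by
    rw [Set.range_id, Submodule.span_univ]
  rw [hspan, Submodule.mem_ideal_smul_span_iff_exists_sum] at hx
  obtain ⟨a, haJ, hsum⟩ := hx
  -- relation in N
  have hrel : ∑ m : a.support, a m.1 • g m.1 = 0 := by
    have h1 : g (i x) = 0 := hig.apply_apply_eq_zero x
    rw [← hsum, Finsupp.sum, map_sum] at h1
    rw [← Finset.sum_coe_sort] at h1
    simpa using h1
  obtain ⟨k, b, y, hy, hb⟩ := Module.Flat.isTrivialRelation_of_sum_smul_eq_zero hrel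
  choose m' hm' using fun j => hg (y j)
  have hker : ∀ m : a.support, ∃ z : K, i z = m.1 - ∑ j, b m j • m' j := by
    intro m
    apply (hig _).mp
    have hym : g m.1 = ∑ j, b m j • y j := hy m
    rw [map_sub, map_sum, hym, sub_eq_zero]
    refine Finset.sum_congr rfl fun j _ => ?_
    rw [map_smul, hm']
  choose z hz using hker
  have hx' : x = ∑ m : a.support, a m.1 • z m := by
    apply hi
    rw [map_sum]
    simp only [map_smul, hz, smul_sub, Finset.sum_sub_distrib]
    have h2 : ∑ m : a.support, a m.1 • ∑ j, b m j • m' j = 0 := by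
      simp only [Finset.smul_sum, smul_smul]
      rw [Finset.sum_comm]
      refine Finset.sum_eq_zero fun j _ => ?_
      rw [← Finset.sum_smul, hb j, zero_smul]
    rw [h2, sub_zero, ← hsum, Finsupp.sum, ← Finset.sum_coe_sort]
    rfl
  rw [hx']
  refine Submodule.sum_mem _ fun m _ => ?_
  exact Submodule.smul_mem_smul (haJ _) trivial

section general

variable (I : Ideal R) {K M N : Type u} [AddCommGroup K] [Module R K]
    [AddCommGroup M] [Module R M] [AddCommGroup N] [Module R N]
    (i : K →ₗ[R] M) (g : M →ₗ[R] N)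

theorem map_injective_of_shift (c : ℕ)
    (hp : ∀ (n : ℕ) (x : K), i x ∈ I ^ (n + c) • (⊤ : Submodule R M) →
      x ∈ I ^ n • (⊤ : Submodule R K)) :
    Function.Injective (AdicCompletion.map I i) := by
  rw [← LinearMap.ker_eq_bot, LinearMap.ker_eq_bot']
  intro x
  apply AdicCompletion.induction_on I K x (fun a ↦ ?_)
  intro hx
  refine AdicCompletion.mk_zero_of _ _ _ ⟨0, fun n _ ↦ ⟨n + c, by lia, n, le_rfl, ?_⟩⟩
  apply hp
  simpa using congrArg (fun x ↦ x.val (n + c)) hx

theorem map_exact_of_shift (c : ℕ)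
    (hp : ∀ (n : ℕ) (x : K), i x ∈ I ^ (n + c) • (⊤ : Submodule R M) →
      x ∈ I ^ n • (⊤ : Submodule R K))
    (hg : Function.Surjective g) (hig : Function.Exact i g) :
    Function.Exact (AdicCompletion.map I i) (AdicCompletion.map I g) := by
  refine LinearMap.exact_of_comp_eq_zero_of_ker_le_range ?_ (fun y ↦ ?_)
  · rw [AdicCompletion.map_comp, hig.linearMap_comp_eq_zero, AdicCompletion.map_zero]
  · apply AdicCompletion.induction_on I M y (fun b ↦ ?_)
    intro hz
    have hb (n : ℕ) : g (b n) ∈ (I ^ n • ⊤ : Submodule R N) := by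
      simpa using congrArg (fun x ↦ x.val n) hz
    have h2 : ∀ n : ℕ, ∃ (d : M) (y : K),
        d ∈ (I ^ n • ⊤ : Submodule R M) ∧ i y = b n - d := by
      intro n
      have h1 : g (b n) ∈ Submodule.map g (I ^ n • ⊤ : Submodule R M) := by
        rw [Submodule.map_smul'', Submodule.map_top, LinearMap.range_eq_top.mpr hg]
        exact hb n
      obtain ⟨d, hdmem, hd⟩ := h1
      obtain ⟨y, hdy⟩ := (hig (b n - d)).mp (by simp [hd])
      exact ⟨d, y, hdmem, hdy⟩
    choose d y hd hy using h2
    have hle : ∀ {m n : ℕ}, m ≤ n → (I ^ n • ⊤ : Submodule R M) ≤ (I ^ m • ⊤ : Submodule R M) :=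
      fun h => Submodule.smul_mono_left (Ideal.pow_le_pow_right h)
    have hcauchy : ∀ n, y (n + c) ≡ y (n + 1 + c) [SMOD (I ^ n • ⊤ : Submodule R K)] := by
      intro n
      rw [SModEq.sub_mem]
      apply hp
      rw [map_sub, hy, hy]
      have e : b (n + c) - d (n + c) - (b (n + 1 + c) - d (n + 1 + c)) =
          (b (n + c) - b (n + 1 + c)) - d (n + c) + d (n + 1 + c) := by abel
      rw [e]
      refine Submodule.add_mem _ (Submodule.sub_mem _ ?_ (hd _)) (hle (by lia) (hd _))
      rw [← SModEq.sub_mem]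
      exact b.property (by lia)
    refine ⟨AdicCompletion.mk I K (AdicCompletion.AdicCauchySequence.mk I K (fun n ↦ y (n + c)) hcauchy), ?_⟩
    ext n
    suffices h : Submodule.Quotient.mk (p := (I ^ n • ⊤ : Submodule R M)) (i (y (n + c))) =
        Submodule.Quotient.mk (p := (I ^ n • ⊤ : Submodule R M)) (b n) by
      simpa using h
    rw [hy, ← AdicCompletion.AdicCauchySequence.mk_eq_mk (show n ≤ n + c by lia) b, Submodule.Quotient.eq]
    have : b (n + c) - d (n + c) - b (n + c) = - d (n + c) := by abel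
    rw [this]
    exact Submodule.neg_mem _ (hle (by lia) (hd _))

end general

end Groth.Agent.Helper4.AdicFlat
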