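import Mathlib

set_option autoImplicit false

/-!
# Constructible sets in quasi-compact quasi-separated prespectral spaces
-/

open Topology Set

namespace Groth.Agent.Helper4.ConsTop

variable {X : Type*} [TopologicalSpace X]

lemma isCompact_of_isConstructible [CompactSpace X] {s : Set X} (hs : IsConstructible s) :
    IsCompact s := by
  induction s, hs using BooleanSubalgebra.closure_sdiff_sup_induction with
  | isSublattice =>
    exact ⟨fun s hs t ht ↦ ⟨hs.1.union ht.1, hs.2.union ht.2⟩,
      fun s hs t ht ↦ ⟨hs.1.inter ht.1, hs.2.inter_isOpen ht.2 ht.1⟩⟩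
  | bot_mem => exact ⟨isOpen_empty, .empty⟩
  | top_mem => exact ⟨isOpen_univ, .univ⟩
  | sdiff U hU V hV => exact hU.2.isCompact.diff hV.1
  | sup s _ t _ hs' ht' => exact hs'.union ht'

lemma isOpen_constructibleTopology_of_isConstructible [CompactSpace X] {s : Set X}
    (hs : IsConstructible s) : IsOpen[constructibleTopology X] s := by
  induction s, hs using BooleanSubalgebra.closure_sdiff_sup_induction with
  | isSublattice =>
    exact ⟨fun s hs t ht ↦ ⟨hs.1.union ht.1, hs.2.union ht.2⟩,
      fun s hs t ht ↦ ⟨hs.1.inter ht.1, hs.2.inter_isOpen ht.2 ht.1⟩⟩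
  | bot_mem => exact ⟨isOpen_empty, .empty⟩
  | top_mem => exact ⟨isOpen_univ, .univ⟩
  | sdiff U hU V hV =>
    have h1 : IsOpen[constructibleTopology X] U :=
      hU.2.isCompact.isOpen_constructibleTopology_of_isOpen hU.1
    have h2 : IsOpen[constructibleTopology X] Vᶜ :=
      IsCompact.isOpen_constructibleTopology_of_isClosed (s := Vᶜ)
        (by rw [compl_compl]; exact hV.2.isCompact) hV.1.isClosed_compl
    exact @IsOpen.inter X (constructibleTopology X) _ _ h1 h2
  | sup s _ t _ hs' ht' => exact @IsOpen.union X _ _ (constructibleTopology X) hs' ht'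

/-- a covering by constructible sets has a finite subcovering -/
lemma exists_finite_cover [CompactSpace X] [QuasiSober X] [PrespectralSpace X]
    [QuasiSeparatedSpace X] {ι : Type*} (s : ι → Set X) (hs : ∀ i, IsConstructible (s i))
    (hcov : (⋃ i, s i) = Set.univ) : ∃ t : Finset ι, (⋃ i ∈ t, s i) = Set.univ := by
  let s' : ι → Set (WithConstructibleTopology X) := fun i => WithTopology.ofTopology ⁻¹' (s i)
  have hopen : ∀ i, IsOpen (s' i) := fun i =>
    (WithConstructibleTopology.isOpen_iff).2 (isOpen_constructibleTopology_of_isConstructible (hs i))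
  have hc : (Set.univ : Set (WithConstructibleTopology X)) ⊆ ⋃ i, s' i := by
    intro x _
    have : WithTopology.ofTopology x ∈ ⋃ i, s i := by rw [hcov]; trivial
    obtain ⟨i, hi⟩ := Set.mem_iUnion.1 this
    exact Set.mem_iUnion.2 ⟨i, hi⟩
  obtain ⟨t, ht⟩ := isCompact_univ.elim_finite_subcover s' hopen hc
  refine ⟨t, Set.eq_univ_of_forall fun x => ?_⟩
  have := ht (Set.mem_univ (WithTopology.toTopology _ x))
  simp only [Set.mem_iUnion] at this ⊢
  obtain ⟨i, hi, hx⟩ := this
  exact ⟨i, hi, hx⟩

/-- between a compact set and an open neighbourhood there is a compact open -/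
lemma exists_isCompact_isOpen_between [PrespectralSpace X] {K V : Set X} (hK : IsCompact K)
    (hV : IsOpen V) (hKV : K ⊆ V) : ∃ O : Set X, IsOpen O ∧ IsCompact O ∧ K ⊆ O ∧ O ⊆ V := by
  have hb := PrespectralSpace.isTopologicalBasis (X := X)
  have : ∀ x : K, ∃ B : Set X, (IsOpen B ∧ IsCompact B) ∧ x.1 ∈ B ∧ B ⊆ V := fun x => by
    obtain ⟨B, hB, hxB, hBV⟩ := hb.exists_subset_of_mem_open (hKV x.2) hV
    exact ⟨B, hB, hxB, hBV⟩
  choose B hB hxB hBV using this
  obtain ⟨t, ht⟩ := hK.elim_finite_subcover (fun x : K => B x) (fun x => (hB x).1)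
    (fun x hx => Set.mem_iUnion.2 ⟨⟨x, hx⟩, hxB ⟨x, hx⟩⟩)
  refine ⟨⋃ x ∈ t, B x, isOpen_biUnion fun x _ => (hB x).1,
    t.isCompact_biUnion fun x _ => (hB x).2, ht, Set.iUnion₂_subset fun x _ => hBV x⟩

/-- a locally closed constructible set is the difference of two compact opens -/
lemma exists_eq_diff [CompactSpace X] [QuasiSeparatedSpace X] [PrespectralSpace X] {R : Set X}
    (hR : IsConstructible R) (hl : IsLocallyClosed R) :
    ∃ O P : Set X, IsOpen O ∧ IsCompact O ∧ IsOpen P ∧ IsCompact P ∧ R = O \ P := by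
  have hRc : IsCompact R := isCompact_of_isConstructible hR
  have hco : IsOpen (coborder R) := isLocallyClosed_iff_isOpen_coborder.1 hl
  obtain ⟨O, hO1, hO2, hRO, hOc⟩ := exists_isCompact_isOpen_between hRc hco subset_coborder
  have hRO' : R = O ∩ closure R := by
    apply Set.Subset.antisymm
    · exact fun x hx => ⟨hRO hx, subset_closure hx⟩
    · intro x hx
      have : x ∈ coborder R ∩ closure R := ⟨hOc hx.1, hx.2⟩
      rwa [coborder_inter_closure] at this
  have hOR : IsCompact (O \ R) :=
    isCompact_of_isConstructible ((hO2.isConstructible hO1).sdiff hR)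
  have hsub : O \ R ⊆ (closure R)ᶜ := by
    rintro x ⟨hxO, hxR⟩ hxc
    exact hxR (hRO'.symm ▸ ⟨hxO, hxc⟩)
  obtain ⟨P, hP1, hP2, hORP, hPc⟩ :=
    exists_isCompact_isOpen_between hOR isClosed_closure.isOpen_compl hsub
  refine ⟨O, P, hO1, hO2, hP1, hP2, ?_⟩
  apply Set.Subset.antisymm
  · intro x hx
    exact ⟨hRO hx, fun hxP => hPc hxP (subset_closure hx)⟩
  · rintro x ⟨hxO, hxP⟩
    by_contra hxR
    exact hxP (hORP ⟨hxO, hxR⟩)

/-- images of constructible sets under an embedding with constructible range -/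
lemma isConstructible_image {Y : Type*} [TopologicalSpace Y] [CompactSpace Y] [CompactSpace X]
    [QuasiSeparatedSpace X] [PrespectralSpace X] {g : Y → X} (hg : IsEmbedding g)
    (hr : IsConstructible (Set.range g)) {A : Set Y} (hA : IsConstructible A) :
    IsConstructible (g '' A) := by
  have key : ∀ U : Set Y, IsOpen U → IsCompact U → IsConstructible (g '' U) := by
    intro U hU hUc
    obtain ⟨W, hW, rfl⟩ := hg.isInducing.isOpen_iff.1 hU
    have hc : IsCompact (g '' (g ⁻¹' W)) := hUc.image hg.continuous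
    obtain ⟨O, hO1, hO2, hsub, hOW⟩ := exists_isCompact_isOpen_between hc hW
      (by rw [Set.image_preimage_eq_inter_range]; exact Set.inter_subset_left)
    have : g '' (g ⁻¹' W) = O ∩ Set.range g := by
      apply Set.Subset.antisymm
      · intro x hx
        refine ⟨hsub hx, ?_⟩
        rw [Set.image_preimage_eq_inter_range] at hx
        exact hx.2
      · rintro x ⟨hxO, hxr⟩
        rw [Set.image_preimage_eq_inter_range]
        exact ⟨hOW hxO, hxr⟩
    rw [this]
    exact (hO2.isConstructible hO1).inter hr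
  induction A, hA using BooleanSubalgebra.closure_sdiff_sup_induction with
  | isSublattice =>
    exact ⟨fun s hs t ht ↦ ⟨hs.1.union ht.1, hs.2.union ht.2⟩,
      fun s hs t ht ↦ ⟨hs.1.inter ht.1, hs.2.inter_isOpen ht.2 ht.1⟩⟩
  | bot_mem => exact ⟨isOpen_empty, .empty⟩
  | top_mem => exact ⟨isOpen_univ, .univ⟩
  | sdiff U hU V hV =>
    rw [Set.image_diff hg.injective]
    exact (key U hU.1 hU.2.isCompact).sdiff (key V hV.1 hV.2.isCompact)
  | sup s _ t _ hs' ht' =>
    show IsConstructible (g '' (s ∪ t))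
    rw [Set.image_union]
    exact hs'.union ht'

end Groth.Agent.Helper4.ConsTop
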