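import Mathlib
import Groth.Prelude.Def_EtBase
import Groth.Prelude.Def_EtShriek2
import Groth.Agent.Helper4.EtGeom
import Groth.Agent.Helper9.EtJCont
import Groth.Agent.Helper9.EtShriekOpen

set_option autoImplicit false

/-!
# The localized site `Over U` of the small étale site of `X` at an étale `X`-scheme `U`
is equivalent, as a site, to the small étale site of the scheme `U`.
-/

universe u

open CategoryTheory CategoryTheory.Limits AlgebraicGeometry Opposite

namespace Groth.Agent.Helper4.OverEtA

variable {U X : Scheme.{u}} (j : U ⟶ X) [Etale j]

/-- the comparison functor from the small étale site of `U` to the localized site -/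
noncomputable def Ψ : U.Etale ⥤ Over (Scheme.Etale.mk j) where
  obj W := Over.mk (MorphismProperty.Over.homMk W.hom rfl :
    (EtShriek.compEtale j).obj W ⟶ Scheme.Etale.mk j)
  map {W W'} g := Over.homMk ((EtShriek.compEtale j).map g)
    (MorphismProperty.Over.Hom.ext (MorphismProperty.Over.w g))
  map_id W := by
    apply Over.OverMorphism.ext
    exact (EtShriek.compEtale j).map_id W
  map_comp g h := by
    apply Over.OverMorphism.ext
    exact (EtShriek.compEtale j).map_comp g h

lemma Ψ_comp_forget : Ψ j ⋙ Over.forget (Scheme.Etale.mk j) = EtShriek.compEtale j := rfl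

@[simp] lemma Ψ_obj_left_left (W : U.Etale) : ((Ψ j).obj W).left.left = W.left := rfl
@[simp] lemma Ψ_map_left_left {W W' : U.Etale} (g : W ⟶ W') :
    ((Ψ j).map g).left.left = g.left := rfl
@[simp] lemma Ψ_obj_hom_left (W : U.Etale) : ((Ψ j).obj W).hom.left = W.hom := rfl

instance : (Ψ j).Faithful where
  map_injective {W W'} g g' h := by
    have h1 : ((Ψ j).map g).left = ((Ψ j).map g').left := by rw [h]
    exact (EtShriek.compEtale j).map_injective h1

set_option backward.isDefEq.respectTransparency.types false in
instance : (Ψ j).Full where
  map_surjective {W W'} h := by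
    have e : h.left.left ≫ W'.hom = W.hom := by
      have := congrArg (fun t => t.left) (Over.w h)
      exact this
    refine ⟨MorphismProperty.Over.homMk h.left.left e, ?_⟩
    apply Over.OverMorphism.ext
    apply MorphismProperty.Over.Hom.ext
    rfl

/-- the structure morphism of an object of the localized site, as a morphism of schemes -/
noncomputable def homL (T : Over (Scheme.Etale.mk j)) : T.left.left ⟶ U :=
  (show T.left ⟶ Scheme.Etale.mk j from T.hom).left

lemma homL_comp (T : Over (Scheme.Etale.mk j)) : homL j T ≫ j = T.left.hom :=
  MorphismProperty.Over.w (show T.left ⟶ Scheme.Etale.mk j from T.hom)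

instance (T : Over (Scheme.Etale.mk j)) : Etale (homL j T) := by
  have : Etale (homL j T ≫ j) := by rw [homL_comp]; exact T.left.prop
  exact Etale.of_comp (homL j T) j

/-- the object of the small étale site of `U` attached to an object of the localized site -/
noncomputable def liftObj (T : Over (Scheme.Etale.mk j)) : U.Etale :=
  Scheme.Etale.mk (homL j T)

set_option backward.isDefEq.respectTransparency.types false in
/-- the comparison isomorphism -/
noncomputable def liftIso (T : Over (Scheme.Etale.mk j)) : (Ψ j).obj (liftObj j T) ≅ T :=
  Over.isoMk (MorphismProperty.Over.isoMk (Iso.refl T.left.left)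
    (by
      have := homL_comp j T
      exact (Category.id_comp _).trans this.symm))
    (by
      apply MorphismProperty.Over.Hom.ext
      change 𝟙 _ ≫ homL j T = homL j T
      exact Category.id_comp _)

instance : (Ψ j).EssSurj where
  mem_essImage T := ⟨liftObj j T, ⟨liftIso j T⟩⟩

instance : (Ψ j).IsEquivalence where

end Groth.Agent.Helper4.OverEtA
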