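import Mathlib
import Groth.Agent.Helper4.OverEtA

set_option autoImplicit false

/-!
# The comparison functor `Ψ` is an equivalence of sites
-/

universe u

open CategoryTheory CategoryTheory.Limits AlgebraicGeometry Opposite

namespace Groth.Agent.Helper4.OverEtB

open Groth.Agent.Helper4.OverEtA Groth.Agent.Helper4.EtGeom

variable {U X : Scheme.{u}} (j : U ⟶ X) [Etale j]

set_option backward.isDefEq.respectTransparency.types false in
lemma pushforward_mem_iff {W : U.Etale} (S : Sieve W) :
    S.functorPushforward (Ψ j) ∈ (X.smallEtaleTopology.over (Scheme.Etale.mk j)) ((Ψ j).obj W) ↔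
      S ∈ U.smallEtaleTopology W := by
  rw [GrothendieckTopology.mem_over_iff, mem_iff, mem_iff]
  constructor
  · intro h x
    obtain ⟨V, g, v, hg, hv⟩ := h x
    rw [Sieve.overEquiv_iff] at hg
    obtain ⟨W', a, b, ha, hab⟩ := hg
    have h1 : g = b.left ≫ ((Ψ j).map a).left := by
      have := congrArg (fun t => t.left) hab
      exact this
    refine ⟨W', a, b.left.left v, ha, ?_⟩
    rw [← hv]
    have h2 : g.left = b.left.left ≫ a.left := by
      have := congrArg (fun t => t.left) h1
      exact this
    have h3 := congrArg (fun t => t.base v) h2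
    exact h3.symm
  · intro h x
    obtain ⟨W', a, w, ha, hw⟩ := h x
    refine ⟨((Ψ j).obj W').left, ((Ψ j).map a).left, w, ?_, hw⟩
    rw [Sieve.overEquiv_iff]
    refine ⟨W', a, Over.homMk (𝟙 _) ?_, ha, ?_⟩
    · simp
    · apply Over.OverMorphism.ext
      simp

instance : (Ψ j).IsDenseSubsite U.smallEtaleTopology
    (X.smallEtaleTopology.over (Scheme.Etale.mk j)) where
  functorPushforward_mem_iff := pushforward_mem_iff j _

end Groth.Agent.Helper4.OverEtB
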