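import Mathlib
import Groth.Agent.Helper4.OverEtB

set_option autoImplicit false

/-!
# Restriction to the localized site versus inverse image along an étale morphism
-/

universe u

open CategoryTheory CategoryTheory.Limits AlgebraicGeometry Opposite

namespace Groth.Agent.Helper4.OverEtC

open Groth.Agent.Helper4.OverEtA Groth.Agent.Helper4.OverEtB

variable {U X : Scheme.{u}} (j : U ⟶ X) [Etale j]

/-- restriction of sheaves along the comparison functor -/
noncomputable abbrev R : Sheaf (X.smallEtaleTopology.over (Scheme.Etale.mk j)) AddCommGrpCat.{u + 1} ⥤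
    EtCoh.Ab U :=
  (Ψ j).sheafPushforwardContinuous AddCommGrpCat.{u + 1} U.smallEtaleTopology
    (X.smallEtaleTopology.over (Scheme.Etale.mk j))

instance : (R j).IsEquivalence := by
  unfold R
  infer_instance

/-- `R` sends the restriction of `F` to the localized site to the restriction along `j` -/
noncomputable def RRestr (F : EtCoh.Ab X) :
    (R j).obj (EtCoh.restr F (Scheme.Etale.mk j)) ≅ (EtShriek.restrAlong j).obj F :=
  (fullyFaithfulSheafToPresheaf _ _).preimageIso (Iso.refl _)

/-- `R` sends constant sheaves to constant sheaves -/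
noncomputable def RConst (M : AddCommGrpCat.{u + 1}) :
    (R j).obj ((constantSheaf (X.smallEtaleTopology.over (Scheme.Etale.mk j))
      AddCommGrpCat.{u + 1}).obj M) ≅
    (constantSheaf U.smallEtaleTopology AddCommGrpCat.{u + 1}).obj M :=
  ((Functor.IsDenseSubsite.sheafEquivSheafificationCompatibility (G := Ψ j)
    U.smallEtaleTopology (X.smallEtaleTopology.over (Scheme.Etale.mk j))
    AddCommGrpCat.{u + 1}).app ((Functor.const _).obj M)).symm ≪≫
    (presheafToSheaf U.smallEtaleTopology AddCommGrpCat.{u + 1}).mapIso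
      (NatIso.ofComponents (fun _ => Iso.refl _) (by intros; simp))

/-- the bridge: constancy on the localized site versus constancy of the inverse image -/
theorem restr_iso_const_iff (F : EtCoh.Ab X) (M : AddCommGrpCat.{u + 1}) :
    Nonempty (EtCoh.restr F (Scheme.Etale.mk j) ≅
      (constantSheaf (X.smallEtaleTopology.over (Scheme.Etale.mk j)) AddCommGrpCat.{u + 1}).obj M) ↔
    Nonempty ((EtCoh.pull j).obj F ≅
      (constantSheaf U.smallEtaleTopology AddCommGrpCat.{u + 1}).obj M) := by
  haveI : EtShriek.JCont j := Groth.Agent.Helper9.EtJCont.jCont_of_etale j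
  constructor
  · rintro ⟨e⟩
    exact ⟨(Groth.Agent.Helper9.EtShriekOpen.pullIsoRestr j).app F ≪≫ (RRestr j F).symm ≪≫
      (R j).mapIso e ≪≫ RConst j M⟩
  · rintro ⟨e⟩
    exact ⟨(R j).preimageIso (RRestr j F ≪≫
      (Groth.Agent.Helper9.EtShriekOpen.pullIsoRestr j).symm.app F ≪≫ e ≪≫ (RConst j M).symm)⟩

/-- the structure morphism of an object of the small étale site, as a morphism of schemes -/
abbrev homS (T : X.Etale) : T.left ⟶ X := T.hom

theorem restr_iso_const_iff' (T : X.Etale) (F : EtCoh.Ab X) (M : AddCommGrpCat.{u + 1}) :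
    Nonempty (EtCoh.restr F T ≅
      (constantSheaf (X.smallEtaleTopology.over T) AddCommGrpCat.{u + 1}).obj M) ↔
    Nonempty ((EtCoh.pull (homS T)).obj F ≅
      (constantSheaf T.left.smallEtaleTopology AddCommGrpCat.{u + 1}).obj M) := by
  induction T with
  | mk Y f hf => exact restr_iso_const_iff f F M

/-- finite locally constant sheaves, in terms of inverse images -/
theorem flc_iff (F : EtCoh.Ab X) : EtCoh.IsFiniteLocallyConstant F ↔
    ∃ (ι : Type u) (V : ι → X.Etale), EtCoh.Covers V ∧
      ∀ i, ∃ (M : Type) (_ : AddCommGroup M) (_ : Finite M),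
        Nonempty ((EtCoh.pull (homS (V i))).obj F ≅ EtCoh.const (V i).left M) := by
  constructor
  · rintro ⟨ι, V, hV, h⟩
    refine ⟨ι, V, hV, fun i => ?_⟩
    obtain ⟨M, iM, fM, hM⟩ := h i
    exact ⟨M, iM, fM, (restr_iso_const_iff' (V i) F _).1 hM⟩
  · rintro ⟨ι, V, hV, h⟩
    refine ⟨ι, V, hV, fun i => ?_⟩
    obtain ⟨M, iM, fM, hM⟩ := h i
    exact ⟨M, iM, fM, (restr_iso_const_iff' (V i) F _).2 hM⟩

end Groth.Agent.Helper4.OverEtC
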