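import Mathlib
set_option autoImplicit false
open CategoryTheory CategoryTheory.Limits Opposite

universe u

namespace Groth.Agent.Helper4.LanExact

abbrev A := AddCommGrpCat.{u + 1}

instance (I : Type (u + 1)) [Category.{u} I] : HasColimitsOfShape I A.{u} := by
  have : HasColimitsOfSize.{u, u + 1} A.{u} := hasColimitsOfSizeShrink.{u, u+1, u+1, u+1} _
  infer_instance

instance : HasFilteredColimitsOfSize.{u, u + 1} A.{u} where
  HasColimitsOfShape _ _ _ := inferInstance

instance ab5 : AB5OfSize.{u, u + 1} A.{u} := AB5OfSize_of_univLE.{u, u+1, u+1, u+1} _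

variable {C D : Type (u + 1)} [Category.{u} C] [Category.{u} D]

set_option backward.defeqAttrib.useBackward true in
set_option backward.isDefEq.respectTransparency false in
noncomputable def lanEvaluationIsoColim (F : C ⥤ D) (X : D) :
    (F.lan : (C ⥤ A.{u}) ⥤ (D ⥤ A.{u})) ⋙ (evaluation D A.{u}).obj X ≅
      (Functor.whiskeringLeft _ _ A.{u}).obj (CostructuredArrow.proj F X) ⋙ colim :=
  NatIso.ofComponents (fun G =>
    IsColimit.coconePointUniqueUpToIso
    (Functor.isPointwiseLeftKanExtensionLeftKanExtensionUnit F G X)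
    (colimit.isColimit _)) (fun {G₁ G₂} φ => by
      apply (Functor.isPointwiseLeftKanExtensionLeftKanExtensionUnit F G₁ X).hom_ext
      intro T
      have h₁ := fun (G : C ⥤ A.{u}) => IsColimit.comp_coconePointUniqueUpToIso_hom
        (Functor.isPointwiseLeftKanExtensionLeftKanExtensionUnit F G X) (colimit.isColimit _) T
      have h₂ := congr_app (F.lanUnit.naturality φ) T.left
      dsimp at h₁ h₂ ⊢
      simp only [Category.assoc] at h₁ ⊢
      simp only [Functor.lan, Functor.lanUnit] at h₂ ⊢
      rw [reassoc_of% h₁, NatTrans.naturality_assoc, ← reassoc_of% h₂, h₁,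
        ι_colimMap, Functor.whiskerLeft_app]
      rfl)

noncomputable instance lan_preservesFiniteLimits_of_flat (F : C ⥤ D) [RepresentablyFlat F] :
    PreservesFiniteLimits (F.op.lan : (Cᵒᵖ ⥤ A.{u}) ⥤ (Dᵒᵖ ⥤ A.{u})) := by
  apply preservesFiniteLimits_of_preservesFiniteLimitsOfSize.{0}
  intro J _ _
  apply preservesLimitsOfShape_of_evaluation (F.op.lan : (Cᵒᵖ ⥤ A.{u}) ⥤ Dᵒᵖ ⥤ A.{u}) J
  intro K
  have : IsFiltered (CostructuredArrow F.op K) :=
    IsFiltered.of_equivalence (structuredArrowOpEquivalence F (unop K))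
  exact preservesLimitsOfShape_of_natIso (lanEvaluationIsoColim F.op K).symm


theorem sheafPullback_preservesFiniteLimits (G : C ⥤ D) [RepresentablyFlat G]
    (J : GrothendieckTopology C) (K : GrothendieckTopology D) [G.IsContinuous J K]
    [HasSheafify K A.{u}] [HasSheafify J A.{u}] :
    PreservesFiniteLimits (G.sheafPullback A.{u} J K) :=
  Functor.sheafPullbackConstruction.preservesFiniteLimits G A.{u} J K

end Groth.Agent.Helper4.LanExact
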