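import Mathlib
import Groth.Prelude.Def_EtCore
import Groth.Agent.Helper4.OverEtC
import Groth.Agent.Helper9.EtRetr

set_option autoImplicit false

/-!
# Finite locally constant sheaves are stable under inverse image
-/

universe u

open CategoryTheory CategoryTheory.Limits AlgebraicGeometry Opposite

namespace Groth.Agent.Helper4.FlcPull

open Groth.Agent.Helper4.OverEtC

/-- inverse image along a composite -/
noncomputable def pullCompObj {X Y Z : Scheme.{u}} (f : X ⟶ Y) (g : Y ⟶ Z) (F : EtCoh.Ab Z) :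
    (EtCoh.pull f).obj ((EtCoh.pull g).obj F) ≅ (EtCoh.pull (f ≫ g)).obj F :=
  ((EtCore.pullComp f g).app F).symm

/-- inverse images along the two sides of a commutative square -/
noncomputable def pullSq {W X Y Z : Scheme.{u}} (a : W ⟶ Y) (g : Y ⟶ Z) (b : W ⟶ X) (f : X ⟶ Z)
    (w : a ≫ g = b ≫ f) (F : EtCoh.Ab Z) :
    (EtCoh.pull a).obj ((EtCoh.pull g).obj F) ≅ (EtCoh.pull b).obj ((EtCoh.pull f).obj F) :=
  pullCompObj a g F ≪≫ (EtCore.pullCongr w).app F ≪≫ (pullCompObj b f F).symm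

theorem flc_of_iso {X : Scheme.{u}} {F F' : EtCoh.Ab X} (e : F ≅ F')
    (h : EtCoh.IsFiniteLocallyConstant F) : EtCoh.IsFiniteLocallyConstant F' := by
  rw [flc_iff] at h ⊢
  obtain ⟨ι, V, hV, hM⟩ := h
  refine ⟨ι, V, hV, fun i => ?_⟩
  obtain ⟨M, iM, fM, ⟨a⟩⟩ := hM i
  exact ⟨M, iM, fM, ⟨(EtCoh.pull (homS (V i))).mapIso e.symm ≪≫ a⟩⟩

set_option backward.isDefEq.respectTransparency.types false in
theorem flc_pull {X Y : Scheme.{u}} (f : X ⟶ Y) (G : EtCoh.Ab Y)
    (hG : EtCoh.IsFiniteLocallyConstant G) :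
    EtCoh.IsFiniteLocallyConstant ((EtCoh.pull f).obj G) := by
  rw [flc_iff] at hG ⊢
  obtain ⟨ι, V, hV, hM⟩ := hG
  refine ⟨ι, fun i => (EtCoh.bc f).obj (V i), ?_, fun i => ?_⟩
  · intro x
    obtain ⟨i, y, hy⟩ := hV (f x)
    obtain ⟨z, hz1, hz2⟩ := Scheme.Pullback.exists_preimage_pullback
      (f := homS (V i)) (g := f) y x hy
    exact ⟨i, z, hz2⟩
  · obtain ⟨M, iM, fM, ⟨a⟩⟩ := hM i
    refine ⟨M, iM, fM, ⟨?_⟩⟩
    have w : pullback.fst (homS (V i)) f ≫ homS (V i) = pullback.snd (homS (V i)) f ≫ f :=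
      pullback.condition
    exact (pullSq (pullback.fst (homS (V i)) f) (homS (V i)) (pullback.snd (homS (V i)) f) f w G).symm ≪≫
      (EtCoh.pull (pullback.fst (homS (V i)) f)).mapIso a ≪≫
      EtCore.pullConst (pullback.fst (homS (V i)) f) M

end Groth.Agent.Helper4.FlcPull
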