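import Mathlib
import Groth.Prelude.Def_PBC
import Groth.Agent.Helper4.FlcPull

set_option autoImplicit false

/-!
# Constructibility relative to a subset, and finite stratifications adapted to a sheaf
-/

universe u

open CategoryTheory CategoryTheory.Limits AlgebraicGeometry Opposite Topology

namespace Groth.Agent.Helper4.StrataA

section Top

variable {X : Type*} [TopologicalSpace X]

/-- `A` is constructible in the subspace `S` -/
def CIn (S A : Set X) : Prop := IsConstructible ((Subtype.val : S → X) ⁻¹' A)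

lemma CIn.inter {S A B : Set X} (hA : CIn S A) (hB : CIn S B) : CIn S (A ∩ B) := by
  unfold CIn at *
  rw [Set.preimage_inter]
  exact hA.inter hB

lemma CIn.union {S A B : Set X} (hA : CIn S A) (hB : CIn S B) : CIn S (A ∪ B) := by
  unfold CIn at *
  rw [Set.preimage_union]
  exact hA.union hB

lemma CIn.compl {S A : Set X} (hA : CIn S A) : CIn S Aᶜ := by
  unfold CIn at *
  rw [Set.preimage_compl]
  exact hA.compl

lemma CIn.iUnion {S : Set X} {ι : Type*} [Finite ι] {A : ι → Set X} (hA : ∀ i, CIn S (A i)) :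
    CIn S (⋃ i, A i) := by
  unfold CIn at *
  rw [Set.preimage_iUnion]
  exact IsConstructible.iUnion hA

/-- restriction to a smaller open subspace -/
lemma CIn.mono {S W A : Set X} (hWS : W ⊆ S) (hW : IsOpen W) (hA : CIn S A) : CIn W A := by
  unfold CIn at *
  have hemb : IsOpenEmbedding (Set.inclusion hWS) :=
    IsOpenEmbedding.inclusion hWS (hW.preimage continuous_subtype_val)
  have := hA.preimage_of_isOpenEmbedding hemb
  exact this

/-- extension from a retrocompact open subspace -/
lemma CIn.of_open {S W A : Set X} (hWS : W ⊆ S) (hW : IsOpen W)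
    (hr : IsRetrocompact ((Subtype.val : S → X) ⁻¹' W)) (hAW : A ⊆ W) (hA : CIn W A) : CIn S A := by
  unfold CIn at *
  have hemb : IsOpenEmbedding (Set.inclusion hWS) :=
    IsOpenEmbedding.inclusion hWS (hW.preimage continuous_subtype_val)
  have hrange : Set.range (Set.inclusion hWS) = (Subtype.val : S → X) ⁻¹' W := by
    ext x
    simp only [Set.mem_range, Set.mem_preimage]
    constructor
    · rintro ⟨y, rfl⟩
      exact y.2
    · intro hx
      exact ⟨⟨x.1, hx⟩, rfl⟩
  have himg : (Subtype.val : S → X) ⁻¹' A = Set.inclusion hWS '' ((Subtype.val : W → X) ⁻¹' A) := by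
    ext x
    simp only [Set.mem_preimage, Set.mem_image]
    constructor
    · intro hx
      exact ⟨⟨x.1, hAW hx⟩, hx, rfl⟩
    · rintro ⟨y, hy, rfl⟩
      exact hy
  rw [himg]
  exact hA.image_of_isOpenEmbedding hemb (hrange ▸ hr)

lemma isCompact_preimage_val {S W : Set X} (hWS : W ⊆ S) (hc : IsCompact W) :
    IsCompact ((Subtype.val : S → X) ⁻¹' W) := by
  rw [Subtype.isCompact_iff, Subtype.image_preimage_coe, Set.inter_eq_right.2 hWS]
  exact hc

/-- compact opens of a quasi-separated subspace are retrocompact -/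
lemma isRetrocompact_preimage_val {S W : Set X} [QuasiSeparatedSpace S] (hWS : W ⊆ S)
    (hW : IsOpen W) (hc : IsCompact W) : IsRetrocompact ((Subtype.val : S → X) ⁻¹' W) :=
  (isCompact_preimage_val hWS hc).isRetrocompact (hW.preimage continuous_subtype_val)

lemma CIn.of_isRetrocompact {S W : Set X} (hW : IsOpen W)
    (hr : IsRetrocompact ((Subtype.val : S → X) ⁻¹' W)) : CIn S W :=
  hr.isConstructible (hW.preimage continuous_subtype_val)

end Top

section Sch

variable {X Y : Scheme.{u}}

/-- preimages of relatively constructible sets under a morphism of schemes -/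
lemma CIn.preimage (f : X ⟶ Y) (V : Y.Opens) (W : X.Opens) (e : W ≤ f ⁻¹ᵁ V) {A : Set Y}
    (hA : CIn (V : Set Y) A) : CIn (W : Set X) (f ⁻¹' A) := by
  unfold CIn at *
  have h1 := (f.resLE V W e).isConstructible_preimage hA
  have h2 : ((Subtype.val : ↥(W : Set X) → X) ⁻¹' (f ⁻¹' A)) =
      (f.resLE V W e) ⁻¹' ((Subtype.val : ↥(V : Set Y) → Y) ⁻¹' A) := by
    ext w
    have h3 : (f.resLE V W e ≫ V.ι) w = (W.ι ≫ f) w := by rw [Scheme.Hom.resLE_comp_ι]
    have h4 : ((f.resLE V W e) w).1 = f w.1 := h3
    show f w.1 ∈ A ↔ ((f.resLE V W e) w).1 ∈ A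
    rw [h4]
  exact Eq.mpr (congrArg IsConstructible h2) h1

end Sch

end Groth.Agent.Helper4.StrataA
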