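import Mathlib
import Groth.Agent.Helper4.StrataA

set_option autoImplicit false

/-!
# Finite stratifications adapted to a sheaf: flexible index types, pullback, gluing
-/

universe u

open CategoryTheory CategoryTheory.Limits AlgebraicGeometry Opposite Topology

namespace Groth.Agent.Helper4.StrataB

open Groth.Agent.Helper4.StrataA Groth.Agent.Helper4.FlcPull

variable {X : Scheme.{u}}

/-- finite stratification of `S` adapted to `F`, with an arbitrary finite index type -/
def Strat (F : EtCoh.Ab X) (S : Set X) : Prop :=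
  ∃ (κ : Type) (_ : Finite κ) (T : κ → Scheme.{u}) (g : ∀ k, T k ⟶ X),
    (∀ k, IsImmersion (g k)) ∧ (∀ k, CIn S (Set.range (g k))) ∧
    Pairwise (fun a b => Disjoint (Set.range (g a)) (Set.range (g b))) ∧
    (⋃ k, Set.range (g k)) = S ∧
    ∀ k, EtCoh.IsFiniteLocallyConstant ((EtCoh.pull (g k)).obj F)

theorem strat_iff (F : EtCoh.Ab X) (S : Set X) : Strat F S ↔ EtPBC.AdaptedStrata F S := by
  constructor
  · rintro ⟨κ, hκ, T, g, h1, h2, h3, h4, h5⟩
    obtain ⟨n, ⟨e⟩⟩ := Finite.exists_equiv_fin κ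
    refine ⟨n, fun i => T (e.symm i), fun i => g (e.symm i), fun i => h1 _, fun i => h2 _, ?_, ?_,
      fun i _ => h5 _⟩
    · intro i i' hii'
      exact h3 (fun h => hii' (e.symm.injective h))
    · rw [← h4]
      exact e.symm.surjective.iUnion_comp (fun k => Set.range (g k))
  · rintro ⟨n, T, g, h1, h2, h3, h4, h5⟩
    exact ⟨Fin n, inferInstance, T, g, h1, h2, h3, h4, fun k => h5 k⟩

lemma cIn_inter_self {Z : Type*} [TopologicalSpace Z] {S A : Set Z} (h : CIn S A) :
    CIn S (S ∩ A) := by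
  unfold CIn at *
  have : (Subtype.val : S → Z) ⁻¹' (S ∩ A) = (Subtype.val : S → Z) ⁻¹' A := by
    ext x
    simp [x.2]
  rw [this]
  exact h

/-- range of the base change of an immersion to an open subscheme -/
lemma range_pullback_snd_ι {X Y T : Scheme.{u}} (f : X ⟶ Y) (g : T ⟶ Y) (W : X.Opens) :
    Set.range (pullback.snd g (W.ι ≫ f) ≫ W.ι) = (W : Set X) ∩ f ⁻¹' Set.range g := by
  ext x
  constructor
  · rintro ⟨z, rfl⟩
    refine ⟨?_, ?_⟩
    · have : (pullback.snd g (W.ι ≫ f) ≫ W.ι) z = W.ι ((pullback.snd g (W.ι ≫ f)) z) := rfl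
      rw [this]
      exact ((pullback.snd g (W.ι ≫ f)) z).2
    · refine ⟨(pullback.fst g (W.ι ≫ f)) z, ?_⟩
      have h1 : (pullback.fst g (W.ι ≫ f) ≫ g) z = (pullback.snd g (W.ι ≫ f) ≫ W.ι ≫ f) z := by
        rw [pullback.condition]
      exact h1
  · rintro ⟨hx, t, ht⟩
    obtain ⟨z, hz1, hz2⟩ := Scheme.Pullback.exists_preimage_pullback
      (f := g) (g := W.ι ≫ f) t (⟨x, hx⟩ : W) ht
    refine ⟨z, ?_⟩
    have : (pullback.snd g (W.ι ≫ f) ≫ W.ι) z = W.ι ((pullback.snd g (W.ι ≫ f)) z) := rfl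
    rw [this, hz2]
    rfl

/-- pullback of a stratification along a morphism of schemes -/
theorem strat_pull {X Y : Scheme.{u}} (f : X ⟶ Y) (F : EtCoh.Ab Y) (V : Y.Opens) (W : X.Opens)
    (e : W ≤ f ⁻¹ᵁ V) (h : Strat F (V : Set Y)) : Strat ((EtCoh.pull f).obj F) (W : Set X) := by
  obtain ⟨κ, hκ, T, g, h1, h2, h3, h4, h5⟩ := h
  refine ⟨κ, hκ, fun k => pullback (g k) (W.ι ≫ f),
    fun k => pullback.snd (g k) (W.ι ≫ f) ≫ W.ι, fun k => inferInstance, fun k => ?_, ?_, ?_,
    fun k => ?_⟩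
  · rw [range_pullback_snd_ι]
    exact cIn_inter_self (CIn.preimage f V W e (h2 k))
  · intro a b hab
    rw [range_pullback_snd_ι, range_pullback_snd_ι]
    have : Disjoint (Set.range (g a)) (Set.range (g b)) := h3 hab
    rw [Set.disjoint_left] at this ⊢
    rintro x ⟨-, hxa⟩ ⟨-, hxb⟩
    exact this hxa hxb
  · ext x
    simp only [Set.mem_iUnion, range_pullback_snd_ι]
    constructor
    · rintro ⟨k, hx, -⟩
      exact hx
    · intro hx
      have hfx : f x ∈ (V : Set Y) := e hx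
      rw [← h4] at hfx
      obtain ⟨k, hk⟩ := Set.mem_iUnion.1 hfx
      exact ⟨k, hx, hk⟩
  · have w : pullback.fst (g k) (W.ι ≫ f) ≫ g k = (pullback.snd (g k) (W.ι ≫ f) ≫ W.ι) ≫ f := by
      rw [Category.assoc]
      exact pullback.condition
    exact flc_of_iso (pullSq _ _ _ _ w F) (flc_pull _ _ (h5 k))

end Groth.Agent.Helper4.StrataB
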