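import Mathlib
import Groth.Agent.Helper4.StrataB

set_option autoImplicit false

/-!
# Gluing stratifications over a finite open cover; transport along open immersions
-/

universe u

open CategoryTheory CategoryTheory.Limits AlgebraicGeometry Opposite Topology

namespace Groth.Agent.Helper4.StrataC

open Groth.Agent.Helper4.StrataA Groth.Agent.Helper4.StrataB Groth.Agent.Helper4.FlcPull

variable {X : Scheme.{u}}

lemma exists_closedImmersion (C : Set X) (hC : IsClosed C) :
    ∃ (Z : Scheme.{u}) (z : Z ⟶ X), IsClosedImmersion z ∧ Set.range z = C := by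
  refine ⟨_, (Scheme.IdealSheafData.vanishingIdeal ⟨C, hC⟩).subschemeι, inferInstance, ?_⟩
  rw [Scheme.IdealSheafData.range_subschemeι]
  simp

theorem strat_of_iso {F F' : EtCoh.Ab X} (e : F ≅ F') {S : Set X} (h : Strat F S) : Strat F' S := by
  obtain ⟨κ, hκ, T, g, h1, h2, h3, h4, h5⟩ := h
  exact ⟨κ, hκ, T, g, h1, h2, h3, h4, fun k => flc_of_iso ((EtCoh.pull (g k)).mapIso e) (h5 k)⟩

/-- gluing stratifications over a finite cover by retrocompact opens -/
theorem strat_glue (F : EtCoh.Ab X) (S : Set X) {m : ℕ} (W : Fin m → Set X)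
    (hW : ∀ l, IsOpen (W l)) (hcov : (⋃ l, W l) = S)
    (hr : ∀ l, IsRetrocompact ((Subtype.val : S → X) ⁻¹' (W l)))
    (h : ∀ l, Strat F (W l)) : Strat F S := by
  choose κ hκ T g h1 h2 h3 h4 h5 using h
  have hWS : ∀ l, W l ⊆ S := fun l => hcov ▸ Set.subset_iUnion W l
  -- the closed complements
  let C : Fin m → Set X := fun l => (⋃ l' : {l' : Fin m // l' < l}, W l'.1)ᶜ
  have hC : ∀ l, IsClosed (C l) := fun l =>
    (isOpen_iUnion (fun l' : {l' : Fin m // l' < l} => hW l'.1)).isClosed_compl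
  choose Z z hz1 hz2 using fun l => exists_closedImmersion (C l) (hC l)
  haveI : ∀ l, Finite (κ l) := hκ
  haveI : ∀ l k, IsImmersion (g l k) := h1
  haveI : ∀ l, IsClosedImmersion (z l) := hz1
  have hrange : ∀ (a : Σ l, κ l), Set.range (pullback.fst (g a.1 a.2) (z a.1) ≫ g a.1 a.2) =
      Set.range (g a.1 a.2) ∩ C a.1 := by
    intro a
    rw [Scheme.Pullback.range_fst_comp, hz2]
  have hsub : ∀ l k, Set.range (g l k) ⊆ W l := fun l k => by
    rw [← h4 l]
    exact Set.subset_iUnion (fun k => Set.range (g l k)) k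
  refine ⟨Σ l, κ l, inferInstance, fun a => pullback (g a.1 a.2) (z a.1),
    fun a => pullback.fst (g a.1 a.2) (z a.1) ≫ g a.1 a.2, fun a => inferInstance, fun a => ?_,
    ?_, ?_, fun a => ?_⟩
  · rw [hrange]
    refine CIn.inter ?_ ?_
    · exact CIn.of_open (hWS a.1) (hW a.1) (hr a.1) (hsub a.1 a.2) (h2 a.1 a.2)
    · refine CIn.compl (CIn.iUnion fun l' => ?_)
      exact CIn.of_isRetrocompact (hW l'.1) (hr l'.1)
  · rintro ⟨l, k⟩ ⟨l', k'⟩ hne
    show Disjoint (Set.range _) (Set.range _)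
    rw [hrange, hrange, Set.disjoint_left]
    rintro x ⟨hx1, hx2⟩ ⟨hx3, hx4⟩
    rcases lt_trichotomy l l' with hll | hll | hll
    · exact hx4 (Set.mem_iUnion.2 ⟨⟨l, hll⟩, hsub l k hx1⟩)
    · subst hll
      have hkk : k ≠ k' := fun hk => hne (by rw [hk])
      have : Disjoint (Set.range (g l k)) (Set.range (g l k')) := h3 l hkk
      exact Set.disjoint_left.1 this hx1 hx3
    · exact hx2 (Set.mem_iUnion.2 ⟨⟨l', hll⟩, hsub l' k' hx3⟩)
  · ext x
    simp only [Set.mem_iUnion]
    constructor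
    · rintro ⟨a, ha⟩
      rw [hrange] at ha
      exact hWS a.1 (hsub a.1 a.2 ha.1)
    · intro hx
      rw [← hcov] at hx
      have hex : ∃ l, x ∈ W l := Set.mem_iUnion.1 hx
      classical
      have hP : ∃ n, ∃ h : n < m, x ∈ W ⟨n, h⟩ := by
        obtain ⟨l₁, hl₁⟩ := hex
        exact ⟨l₁.1, l₁.2, hl₁⟩
      let l := Nat.find hP
      obtain ⟨hlm, hl⟩ := Nat.find_spec hP
      have hmin : ∀ l' : Fin m, l'.1 < l → x ∉ W l' := by
        intro l' hl' hx'
        exact Nat.find_min hP hl' ⟨l'.2, hx'⟩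
      have hxW : x ∈ ⋃ k, Set.range (g ⟨l, hlm⟩ k) := by rw [h4]; exact hl
      obtain ⟨k, hk⟩ := Set.mem_iUnion.1 hxW
      refine ⟨⟨⟨l, hlm⟩, k⟩, ?_⟩
      rw [hrange]
      refine ⟨hk, ?_⟩
      intro hx'
      obtain ⟨l', hl'⟩ := Set.mem_iUnion.1 hx'
      exact hmin l'.1 l'.2 hl'
  · exact flc_of_iso (pullCompObj _ _ F) (flc_pull _ _ (h5 a.1 a.2))

/-- relative constructibility is transported by embeddings -/
lemma cIn_image {Z Z' : Type*} [TopologicalSpace Z] [TopologicalSpace Z'] {f : Z → Z'}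
    (hf : IsEmbedding f) {S A : Set Z} (hAS : A ⊆ S) (h : CIn S A) : CIn (f '' S) (f '' A) := by
  unfold CIn at *
  let e : S ≃ₜ f '' S := hf.homeomorphImage S
  have he : ∀ s : S, (e s).1 = f s.1 := fun s => rfl
  have : (Subtype.val : ↥(f '' S) → Z') ⁻¹' (f '' A) = e.symm ⁻¹' ((Subtype.val : S → Z) ⁻¹' A) := by
    ext x
    obtain ⟨s, rfl⟩ := e.surjective x
    simp only [Set.mem_preimage, Homeomorph.symm_apply_apply, he]
    constructor
    · rintro ⟨a, ha, hfa⟩
      rw [← hf.injective hfa]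
      exact ha
    · intro hs
      exact ⟨s.1, hs, rfl⟩
  rw [this]
  exact h.preimage_of_isOpenEmbedding e.symm.isOpenEmbedding

/-- transport of a stratification along an open immersion -/
theorem strat_push {U' : Scheme.{u}} (j : U' ⟶ X) [IsOpenImmersion j] (F : EtCoh.Ab X)
    (W' : Set U') (h : Strat ((EtCoh.pull j).obj F) W') : Strat F (j '' W') := by
  obtain ⟨κ, hκ, T, g, h1, h2, h3, h4, h5⟩ := h
  haveI : ∀ k, IsImmersion (g k) := h1
  have hsub : ∀ k, Set.range (g k) ⊆ W' := fun k => by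
    rw [← h4]
    exact Set.subset_iUnion (fun k => Set.range (g k)) k
  have hrange : ∀ k, Set.range (g k ≫ j) = j '' Set.range (g k) := by
    intro k
    rw [Scheme.Hom.comp_base, TopCat.coe_comp, Set.range_comp]
  refine ⟨κ, hκ, T, fun k => g k ≫ j, fun k => inferInstance, fun k => ?_, ?_, ?_, fun k => ?_⟩
  · rw [hrange]
    exact cIn_image j.isOpenEmbedding.isEmbedding (hsub k) (h2 k)
  · intro a b hab
    show Disjoint (Set.range _) (Set.range _)
    rw [hrange, hrange]
    exact (Set.disjoint_image_iff j.isOpenEmbedding.injective).2 (h3 hab)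
  · simp only [hrange]
    rw [← Set.image_iUnion, h4]
  · exact flc_of_iso (pullCompObj (g k) j F) (h5 k)

end Groth.Agent.Helper4.StrataC
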