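import Mathlib
import Groth.Agent.Helper4.StrataC

set_option autoImplicit false

/-!
# Stratifications from local data on a quasi-compact quasi-separated open
-/

universe u

open CategoryTheory CategoryTheory.Limits AlgebraicGeometry Opposite Topology

namespace Groth.Agent.Helper4.StrataD

open Groth.Agent.Helper4.StrataA Groth.Agent.Helper4.StrataB Groth.Agent.Helper4.StrataC
  Groth.Agent.Helper4.FlcPull

variable {X : Scheme.{u}}

theorem strat_of_local (F : EtCoh.Ab X) (U : X.Opens) (hc : IsCompact (U : Set X))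
    [QuasiSeparatedSpace ↥(U : Set X)]
    (h : ∀ x ∈ U, ∃ W : X.Opens, IsAffineOpen W ∧ x ∈ W ∧ W ≤ U ∧ Strat F (W : Set X)) :
    Strat F (U : Set X) := by
  choose W hW1 hW2 hW3 hW4 using fun x : U => h x.1 x.2
  obtain ⟨t, ht⟩ := hc.elim_finite_subcover (fun x : U => (W x : Set X)) (fun x => (W x).2)
    (fun x hx => Set.mem_iUnion.2 ⟨⟨x, hx⟩, hW2 ⟨x, hx⟩⟩)
  let e : Fin t.card ≃ t := t.equivFin.symm
  refine strat_glue F (U : Set X) (fun l => (W (e l).1 : Set X)) (fun l => (W (e l).1).2) ?_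
    (fun l => ?_) (fun l => hW4 _)
  · apply Set.Subset.antisymm
    · exact Set.iUnion_subset fun l => hW3 _
    · intro x hx
      obtain ⟨y, hy⟩ := Set.mem_iUnion.1 (ht hx)
      obtain ⟨hyt, hxy⟩ := Set.mem_iUnion.1 hy
      exact Set.mem_iUnion.2 ⟨e.symm ⟨y, hyt⟩, by simpa using hxy⟩
  · exact isRetrocompact_preimage_val (hW3 _) (W (e l).1).2 (hW1 (e l).1).isCompact

end Groth.Agent.Helper4.StrataD
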