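import Mathlib
import Groth.Agent.Helper4.StrataD
import Groth.Agent.Helper4.ConsTop

set_option autoImplicit false

/-!
# Stratifications from a finite covering by constructible locally closed pieces
-/

universe u

open CategoryTheory CategoryTheory.Limits AlgebraicGeometry Opposite Topology

namespace Groth.Agent.Helper4.StrataE

open Groth.Agent.Helper4.StrataA Groth.Agent.Helper4.StrataB Groth.Agent.Helper4.StrataC
  Groth.Agent.Helper4.FlcPull Groth.Agent.Helper4.ConsTop

variable {X : Scheme.{u}}

lemma cIn_univ {Z : Type*} [TopologicalSpace Z] {A : Set Z} (h : IsConstructible A) :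
    CIn Set.univ A := by
  unfold CIn
  exact h.preimage_of_isOpenEmbedding isOpen_univ.isOpenEmbedding_subtypeVal

lemma isConstructible_of_cIn_univ {Z : Type*} [TopologicalSpace Z] {A : Set Z}
    (h : CIn Set.univ A) : IsConstructible A := by
  unfold CIn at h
  have h1 : IsOpenEmbedding (Subtype.val : ↥(Set.univ : Set Z) → Z) :=
    isOpen_univ.isOpenEmbedding_subtypeVal
  have h2 := h.image_of_isOpenEmbedding h1 (by rw [Subtype.range_coe]; exact IsRetrocompact.univ)
  rwa [Subtype.image_preimage_coe, Set.univ_inter] at h2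

/-- the atoms of the Boolean algebra generated by a finite family of sets -/
def atom {Z : Type*} {𝔹 : Type} (B : 𝔹 → Set Z) (σ : 𝔹 → Bool) : Set Z :=
  (⋂ b, if σ b then B b else Set.univ) ∩ ⋂ b, if σ b then Set.univ else (B b)ᶜ

lemma mem_atom {Z : Type*} {𝔹 : Type} (B : 𝔹 → Set Z) (σ : 𝔹 → Bool) (x : Z) :
    x ∈ atom B σ ↔ ∀ b, (σ b = true ↔ x ∈ B b) := by
  unfold atom
  simp only [Set.mem_inter_iff, Set.mem_iInter]
  constructor
  · rintro ⟨h1, h2⟩ b
    have h1b := h1 b
    have h2b := h2 b
    cases hb : σ b
    · simp only [hb] at h1b h2b ⊢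
      simpa using h2b
    · simp only [hb] at h1b h2b ⊢
      simpa using h1b
  · intro h
    refine ⟨fun b => ?_, fun b => ?_⟩
    · cases hb : σ b
      · simp
      · simpa using (h b).1 hb
    · cases hb : σ b
      · have : x ∉ B b := fun hx => by simpa [hb] using (h b).2 hx
        simpa using this
      · simp

lemma isConstructible_atom {Z : Type*} [TopologicalSpace Z] {𝔹 : Type} [Finite 𝔹] (B : 𝔹 → Set Z)
    (hB : ∀ b, IsConstructible (B b)) (σ : 𝔹 → Bool) : IsConstructible (atom B σ) := by
  unfold atom
  refine IsConstructible.inter (IsConstructible.iInter fun b => ?_) (IsConstructible.iInter fun b => ?_)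
  · split_ifs
    · exact hB b
    · exact IsConstructible.univ
  · split_ifs
    · exact IsConstructible.univ
    · exact (hB b).compl

theorem strat_of_cover [CompactSpace X] [QuasiSeparatedSpace X] (F : EtCoh.Ab X) {A : Type}
    [Finite A] (S : A → Scheme.{u}) (q : ∀ a, S a ⟶ X) [∀ a, IsImmersion (q a)]
    (hc : ∀ a, IsConstructible (Set.range (q a))) (hcov : (⋃ a, Set.range (q a)) = Set.univ)
    (hflc : ∀ a, EtCoh.IsFiniteLocallyConstant ((EtCoh.pull (q a)).obj F)) :
    Strat F Set.univ := by
  rcases isEmpty_or_nonempty A with hA | hA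
  · have hX : (Set.univ : Set X) = ∅ := by rw [← hcov]; exact Set.iUnion_of_empty _
    refine ⟨Empty, inferInstance, fun k => k.elim, fun k => k.elim, fun k => k.elim,
      fun k => k.elim, fun a => a.elim, ?_, fun k => k.elim⟩
    rw [hX]
    exact Set.iUnion_of_empty _
  · choose O P hO1 hO2 hP1 hP2 hOP using
      fun a => exists_eq_diff (hc a) (q a).isLocallyClosed_range
    let B : A × Bool → Set X := fun b => if b.2 then O b.1 else P b.1
    have hB1 : ∀ b, IsOpen (B b) := fun b => by
      show IsOpen (if b.2 then O b.1 else P b.1)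
      split_ifs
      · exact hO1 _
      · exact hP1 _
    have hB2 : ∀ b, IsCompact (B b) := fun b => by
      show IsCompact (if b.2 then O b.1 else P b.1)
      split_ifs
      · exact hO2 _
      · exact hP2 _
    have hBO : ∀ a, B (a, true) = O a := fun a => rfl
    have hBP : ∀ a, B (a, false) = P a := fun a => rfl
    have hatom : ∀ σ : A × Bool → Bool, ∃ a, atom B σ ⊆ Set.range (q a) := by
      intro σ
      rcases (atom B σ).eq_empty_or_nonempty with he | ⟨x, hx⟩
      · exact ⟨Classical.arbitrary A, he ▸ Set.empty_subset _⟩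
      · have hx' : x ∈ ⋃ a, Set.range (q a) := by rw [hcov]; trivial
        obtain ⟨a, ha⟩ := Set.mem_iUnion.1 hx'
        refine ⟨a, fun y hy => ?_⟩
        rw [hOP a] at ha ⊢
        rw [mem_atom] at hx hy
        refine ⟨?_, ?_⟩
        · rw [← hBO]
          exact (hy (a, true)).1 ((hx (a, true)).2 (hBO a ▸ ha.1))
        · intro hyP
          rw [← hBP] at hyP
          have := (hx (a, false)).1 ((hy (a, false)).2 hyP)
          rw [hBP] at this
          exact ha.2 this
    choose α hα using hatom
    let Oσ : (A × Bool → Bool) → X.Opens := fun σ =>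
      ⟨⋂ b, if σ b then B b else Set.univ, isOpen_iInter_of_finite fun b => by
        split_ifs
        · exact hB1 b
        · exact isOpen_univ⟩
    have hCσ : ∀ σ : A × Bool → Bool, IsClosed (⋂ b, if σ b then Set.univ else (B b)ᶜ) :=
      fun σ => isClosed_iInter fun b => by
        split_ifs
        · exact isClosed_univ
        · exact (hB1 b).isClosed_compl
    choose Z z hz1 hz2 using fun σ => exists_closedImmersion _ (hCσ σ)
    haveI : ∀ σ, IsClosedImmersion (z σ) := hz1
    have hι : ∀ σ, Set.range (pullback.fst (Oσ σ).ι (z σ) ≫ (Oσ σ).ι) = atom B σ := by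
      intro σ
      rw [Scheme.Pullback.range_fst_comp, hz2, Scheme.Opens.range_ι]
      rfl
    have hrange : ∀ σ, Set.range (pullback.fst (q (α σ))
        (pullback.fst (Oσ σ).ι (z σ) ≫ (Oσ σ).ι) ≫ q (α σ)) = atom B σ := by
      intro σ
      rw [Scheme.Pullback.range_fst_comp, hι]
      exact Set.inter_eq_right.2 (hα σ)
    have hBc : ∀ b, IsConstructible (B b) := fun b => (hB2 b).isConstructible (hB1 b)
    refine ⟨(A × Bool → Bool), inferInstance,
      fun σ => pullback (q (α σ)) (pullback.fst (Oσ σ).ι (z σ) ≫ (Oσ σ).ι),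
      fun σ => pullback.fst _ _ ≫ q (α σ), fun σ => inferInstance, fun σ => ?_, ?_, ?_,
      fun σ => ?_⟩
    · rw [hrange]
      exact cIn_univ (isConstructible_atom B hBc σ)
    · intro σ σ' hne
      show Disjoint (Set.range _) (Set.range _)
      rw [hrange, hrange, Set.disjoint_left]
      intro x hx hx'
      rw [mem_atom] at hx hx'
      apply hne
      funext b
      have h1 := hx b
      have h2 := hx' b
      cases hb : σ b <;> cases hb' : σ' b <;> simp_all
    · apply Set.eq_univ_of_forall
      intro x
      classical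
      refine Set.mem_iUnion.2 ⟨fun b => decide (x ∈ B b), ?_⟩
      rw [hrange, mem_atom]
      intro b
      simp
    · exact flc_of_iso (pullCompObj _ _ F) (flc_pull _ _ (hflc (α σ)))

end Groth.Agent.Helper4.StrataE
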