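import Mathlib
import Groth.Agent.Helper4.StrataE
import Groth.Agent.Helper9.EtRetr

set_option autoImplicit false

/-!
# Constructibility and stratifications of the whole space
-/

universe u

open CategoryTheory CategoryTheory.Limits AlgebraicGeometry Opposite Topology

namespace Groth.Agent.Helper4.StrataF

open Groth.Agent.Helper4.StrataA Groth.Agent.Helper4.StrataB Groth.Agent.Helper4.StrataC
  Groth.Agent.Helper4.StrataD Groth.Agent.Helper4.StrataE
  Groth.Agent.Helper4.FlcPull Groth.Agent.Helper4.ConsTop

variable {X : Scheme.{u}}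

theorem strat_univ_of_isConstructible [CompactSpace X] [QuasiSeparatedSpace X] (F : EtCoh.Ab X)
    (hF : EtPBC.IsConstructible F) : Strat F Set.univ := by
  haveI : QuasiSeparatedSpace ↥((⊤ : X.Opens) : Set X) :=
    (isQuasiSeparated_iff_quasiSeparatedSpace _ (⊤ : X.Opens).2).1
      (IsQuasiSeparated.of_quasiSeparatedSpace _)
  have h := strat_of_local F (⊤ : X.Opens)
    (by rw [TopologicalSpace.Opens.coe_top]; exact isCompact_univ) (by
      intro x _
      obtain ⟨W, hW, hxW, hWU⟩ := (TopologicalSpace.Opens.isBasis_iff_nbhd.1 X.isBasis_affineOpens)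
        (show x ∈ (⊤ : X.Opens) from trivial)
      exact ⟨W, hW, hxW, hWU, (strat_iff F _).2 (hF W hW)⟩)
  rw [TopologicalSpace.Opens.coe_top] at h
  exact h

theorem isConstructible_of_strat_univ (F : EtCoh.Ab X) (h : Strat F Set.univ) :
    EtPBC.IsConstructible F := by
  intro U hU
  rw [← strat_iff]
  have h' : Strat F ((⊤ : X.Opens) : Set X) := by
    rw [TopologicalSpace.Opens.coe_top]
    exact h
  have h2 := strat_pull (𝟙 X) F ⊤ U le_top h'
  exact strat_of_iso ((Groth.Agent.Helper9.EtRetr.pullId X).app F) h2

/-- the source of an immersion with constructible range into a qcqs scheme is qcqs -/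
lemma compactSpace_of_isConstructible_range [CompactSpace X] {T : Scheme.{u}} (g : T ⟶ X)
    [IsImmersion g] (hc : IsConstructible (Set.range g)) : CompactSpace T := by
  rw [← isCompact_univ_iff, g.isEmbedding.isCompact_iff, Set.image_univ]
  exact isCompact_of_isConstructible hc

end Groth.Agent.Helper4.StrataF
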