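import Mathlib
import Groth.Prelude.Def_EtBase
import Groth.Prelude.Def_EtShriek2
import Groth.Agent.Helper4.EtGeom
import Groth.Agent.Helper9.EtJCont

set_option autoImplicit false

/-!
# Local structure of sections of constant sheaves on the small étale site
-/

universe u

open CategoryTheory CategoryTheory.Limits AlgebraicGeometry Opposite

namespace Groth.Agent.Helper4.ConstLoc

open Groth.Agent.Helper4.EtGeom

variable {Y : Scheme.{u}}

/-- the constant presheaf -/
abbrev P (Y : Scheme.{u}) (N : AddCommGrpCat.{u + 1}) : Y.Etaleᵒᵖ ⥤ AddCommGrpCat.{u + 1} :=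
  (Functor.const _).obj N

/-- the constant sheaf -/
noncomputable abbrev cS (Y : Scheme.{u}) (N : AddCommGrpCat.{u + 1}) : EtCoh.Ab Y :=
  (constantSheaf Y.smallEtaleTopology AddCommGrpCat.{u + 1}).obj N

/-- constants as sections of the constant sheaf -/
noncomputable abbrev η (Y : Scheme.{u}) (N : AddCommGrpCat.{u + 1}) : P Y N ⟶ (cS Y N).obj :=
  toSheafify Y.smallEtaleTopology (P Y N)

variable (N : AddCommGrpCat.{u + 1})

instance : Presheaf.IsLocallySurjective Y.smallEtaleTopology (η Y N) :=
  inferInstanceAs (Presheaf.IsLocallySurjective Y.smallEtaleTopology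
    (toSheafify Y.smallEtaleTopology (P Y N)))

instance : Presheaf.IsLocallyInjective Y.smallEtaleTopology (η Y N) :=
  inferInstanceAs (Presheaf.IsLocallyInjective Y.smallEtaleTopology
    (toSheafify Y.smallEtaleTopology (P Y N)))

lemma η_map {W W' : Y.Etale} (g : W' ⟶ W) (n : N) :
    (cS Y N).obj.map g.op ((η Y N).app (op W) n) = (η Y N).app (op W') n := by
  have := ConcreteCategory.congr_hom ((η Y N).naturality g.op) n
  simpa using this.symm

/-- sections of a constant sheaf are locally constant -/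
lemma exists_const (W : Y.Etale) (t : (cS Y N).obj.obj (op W)) (x : W.left) :
    ∃ (W' : Y.Etale) (g : W' ⟶ W) (x' : W'.left) (n : N), g.left x' = x ∧
      (cS Y N).obj.map g.op t = (η Y N).app (op W') n := by
  have h := Presheaf.imageSieve_mem Y.smallEtaleTopology (η Y N) t
  rw [mem_iff] at h
  obtain ⟨W', g, x', ⟨n, hn⟩, hx⟩ := h x
  exact ⟨W', g, x', n, hx, hn.symm⟩

/-- constants are determined by their sections over a nonempty scheme -/
lemma const_injective (W : Y.Etale) (x : W.left) (n n' : N)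
    (h : (η Y N).app (op W) n = (η Y N).app (op W) n') : n = n' := by
  have h1 := Presheaf.equalizerSieve_mem Y.smallEtaleTopology (η Y N) n n' h
  rw [mem_iff] at h1
  obtain ⟨W', g, x', hg, -⟩ := h1 x
  simpa using hg

/-- finitely many sections of a constant sheaf are simultaneously locally constant -/
lemma exists_const_fin (k : ℕ) : ∀ (W : Y.Etale) (t : Fin k → (cS Y N).obj.obj (op W)) (x : W.left),
    ∃ (W' : Y.Etale) (g : W' ⟶ W) (x' : W'.left) (n : Fin k → N), g.left x' = x ∧
      ∀ i, (cS Y N).obj.map g.op (t i) = (η Y N).app (op W') (n i) := by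
  induction k with
  | zero =>
    intro W t x
    exact ⟨W, 𝟙 W, x, fun i => i.elim0, rfl, fun i => i.elim0⟩
  | succ k ih =>
    intro W t x
    obtain ⟨W₁, g₁, x₁, n₁, hx₁, h₁⟩ := ih W (fun i => t i.succ) x
    obtain ⟨W₂, g₂, x₂, n₂, hx₂, h₂⟩ := exists_const N W₁ ((cS Y N).obj.map g₁.op (t 0)) x₁
    refine ⟨W₂, g₂ ≫ g₁, x₂, Fin.cons n₂ n₁, ?_, ?_⟩
    · have : (g₂ ≫ g₁).left x₂ = g₁.left (g₂.left x₂) := rfl
      rw [this, hx₂, hx₁]
    · intro i
      refine Fin.cases ?_ (fun j => ?_) i
      · rw [op_comp, Functor.map_comp, ConcreteCategory.comp_apply, h₂]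
        rfl
      · rw [op_comp, Functor.map_comp, ConcreteCategory.comp_apply, h₁ j, η_map]
        rfl

/-- sections of a sheaf which agree locally are equal -/
lemma sec_ext (H : EtCoh.Ab Y) (W : Y.Etale) (s s' : H.obj.obj (op W))
    (h : ∀ x : W.left, ∃ (W' : Y.Etale) (g : W' ⟶ W) (x' : W'.left), g.left x' = x ∧
      H.obj.map g.op s = H.obj.map g.op s') : s = s' := by
  have hmem : Presheaf.equalizerSieve s s' ∈ Y.smallEtaleTopology W := by
    rw [mem_iff]
    intro x
    obtain ⟨W', g, x', hx, hg⟩ := h x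
    exact ⟨W', g, x', hg, hx⟩
  exact Sheaf.isSeparated H W _ hmem s s' (fun W' g hg => hg)

/-- the map of constant sheaves induced by a homomorphism, on constants -/
lemma const_map_η {M N : AddCommGrpCat.{u + 1}} (h : M ⟶ N) (W : Y.Etale) (m : M) :
    ((constantSheaf Y.smallEtaleTopology AddCommGrpCat.{u + 1}).map h).hom.app (op W)
      ((η Y M).app (op W) m) = (η Y N).app (op W) (h m) := by
  have h1 : η Y M ≫ ((constantSheaf Y.smallEtaleTopology AddCommGrpCat.{u + 1}).map h).hom =
      (Functor.const _).map h ≫ η Y N :=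
    (toSheafify_naturality Y.smallEtaleTopology ((Functor.const _).map h)).symm
  have := ConcreteCategory.congr_hom (congrArg (fun t => t.app (op W)) h1) m
  simpa using this

lemma hom_map {F G : EtCoh.Ab Y} (ψ : F ⟶ G) {W W' : Y.Etale} (g : W' ⟶ W)
    (t : F.obj.obj (op W)) :
    ψ.hom.app (op W') (F.obj.map g.op t) = G.obj.map g.op (ψ.hom.app (op W) t) := by
  have := ConcreteCategory.congr_hom (ψ.hom.naturality g.op) t
  simpa using this

set_option backward.isDefEq.respectTransparency.types false in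
/-- a map of constant sheaves with finite source is locally induced by a homomorphism -/
theorem exists_local_hom {M N : AddCommGrpCat.{u + 1}} [Finite M] (ψ : cS Y M ⟶ cS Y N) (y : Y) :
    ∃ (V : Y.Etale) (y' : V.left) (h : M ⟶ N), V.hom y' = y ∧
      ∀ (W : Y.Etale) (_ : W ⟶ V) (t : (cS Y M).obj.obj (op W)),
        ψ.hom.app (op W) t =
          ((constantSheaf Y.smallEtaleTopology AddCommGrpCat.{u + 1}).map h).hom.app (op W) t := by
  obtain ⟨k, ⟨e⟩⟩ := Finite.exists_equiv_fin M
  obtain ⟨V, g, y', c, hy, hc⟩ := exists_const_fin N k (EtCoh.top Y)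
    (fun i => ψ.hom.app (op (EtCoh.top Y)) ((η Y M).app (op (EtCoh.top Y)) (e.symm i))) y
  have hc' : ∀ m : M, (cS Y N).obj.map g.op
      (ψ.hom.app (op (EtCoh.top Y)) ((η Y M).app (op (EtCoh.top Y)) m)) =
      (η Y N).app (op V) (c (e m)) := by
    intro m
    have := hc (e m)
    rwa [Equiv.symm_apply_apply] at this
  have hadd : ∀ m m' : M, c (e (m + m')) = c (e m) + c (e m') := by
    intro m m'
    apply const_injective N V y'
    rw [← hc', map_add, map_add, map_add, map_add, hc', hc']
  let h : M ⟶ N := AddCommGrpCat.ofHom (AddMonoidHom.mk' (fun m => c (e m)) hadd)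
  have hVy : V.hom y' = y := by
    have h1 : g.left ≫ (EtCoh.top Y).hom = V.hom := MorphismProperty.Over.w g
    have h2 : g.left = V.hom := by
      rw [← h1]
      exact (Category.comp_id _).symm
    rw [← h2]
    exact hy
  refine ⟨V, y', h, hVy, ?_⟩
  intro W g' t
  apply sec_ext
  intro x
  obtain ⟨W', g'', x', m, hx', hm⟩ := exists_const M W t x
  refine ⟨W', g'', x', hx', ?_⟩
  rw [← hom_map, ← hom_map, hm, const_map_η]
  have h1 : (η Y M).app (op W') m = (cS Y M).obj.map ((g'' ≫ g') ≫ g).op
      ((η Y M).app (op (EtCoh.top Y)) m) := (η_map M _ m).symm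
  rw [h1, hom_map, op_comp, Functor.map_comp, ConcreteCategory.comp_apply, hc', η_map]
  rfl

end Groth.Agent.Helper4.ConstLoc
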