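import Mathlib
import Groth.Prelude.Def_EtCore
import Groth.Agent.Helper4.ConstLoc
import Groth.Agent.Helper4.FlcPull
import Groth.Agent.Helper9.EtPushInj

set_option autoImplicit false

/-!
# Pointwise local constancy of étale sheaves
-/

universe u

open CategoryTheory CategoryTheory.Limits AlgebraicGeometry Opposite

namespace Groth.Agent.Helper4.LcPoint

open Groth.Agent.Helper4.OverEtC Groth.Agent.Helper4.FlcPull Groth.Agent.Helper4.ConstLoc

noncomputable instance preservesFiniteLimits_constantSheaf (Y : Scheme.{u}) :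
    PreservesFiniteLimits (constantSheaf Y.smallEtaleTopology AddCommGrpCat.{u + 1}) := by
  unfold constantSheaf
  exact comp_preservesFiniteLimits _ _

/-- a wrapper around `Fin n` carrying no algebraic instances -/
structure Wrap (n : ℕ) : Type where
  val : Fin n

def Wrap.equiv (n : ℕ) : Wrap n ≃ Fin n := ⟨Wrap.val, Wrap.mk, fun _ => rfl, fun _ => rfl⟩

instance (n : ℕ) : Finite (Wrap n) := Finite.of_equiv _ (Wrap.equiv n).symm

/-- a finite abelian group in a large universe has a model in `Type` -/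
lemma small_model (N : AddCommGrpCat.{u + 1}) [Finite N] :
    ∃ (M : Type) (_ : AddCommGroup M) (_ : Finite M),
      Nonempty (N ≅ AddCommGrpCat.of (ULift.{u + 1} M)) := by
  obtain ⟨n, ⟨e⟩⟩ := Finite.exists_equiv_fin N
  let e' : Wrap n ≃ N := (Wrap.equiv n).trans e.symm
  letI : AddCommGroup (Wrap n) := e'.addCommGroup
  refine ⟨Wrap n, inferInstance, inferInstance, ⟨?_⟩⟩
  exact AddEquiv.toAddCommGrpIso ((e'.addEquiv).symm.trans AddEquiv.ulift.symm)

/-- `F` is constant with finite value on some étale neighbourhood of `y` -/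
def LC {Y : Scheme.{u}} (F : EtCoh.Ab Y) (y : Y) : Prop :=
  ∃ (V : Y.Etale) (y' : V.left), V.hom y' = y ∧ ∃ (N : AddCommGrpCat.{u + 1}), Finite N ∧
    Nonempty ((EtCoh.pull (homS V)).obj F ≅ cS V.left N)

variable {X Y : Scheme.{u}}

theorem flc_iff_forall_LC (F : EtCoh.Ab X) :
    EtCoh.IsFiniteLocallyConstant F ↔ ∀ x : X, LC F x := by
  rw [flc_iff]
  constructor
  · rintro ⟨ι, V, hV, h⟩ x
    obtain ⟨i, y, hy⟩ := hV x
    obtain ⟨M, iM, fM, ⟨a⟩⟩ := h i
    exact ⟨V i, y, hy, AddCommGrpCat.of (ULift.{u + 1} M), inferInstance, ⟨a⟩⟩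
  · intro h
    choose V y hy N fN a using h
    refine ⟨X, V, fun x => ⟨x, y x, hy x⟩, fun x => ?_⟩
    haveI := fN x
    obtain ⟨M, iM, fM, ⟨b⟩⟩ := small_model (N x)
    exact ⟨M, iM, fM, ⟨(a x).some ≪≫
      (constantSheaf (V x).left.smallEtaleTopology AddCommGrpCat.{u + 1}).mapIso b⟩⟩

theorem LC.of_iso {F F' : EtCoh.Ab Y} (e : F ≅ F') {y : Y} (h : LC F y) : LC F' y := by
  obtain ⟨V, y', hy, N, fN, ⟨a⟩⟩ := h
  exact ⟨V, y', hy, N, fN, ⟨(EtCoh.pull (homS V)).mapIso e.symm ≪≫ a⟩⟩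

theorem LC.trans {F : EtCoh.Ab Y} (V : Y.Etale) (v : V.left)
    (h : LC ((EtCoh.pull (homS V)).obj F) v) : LC F (V.hom v) := by
  obtain ⟨V', v', hv, N, fN, ⟨a⟩⟩ := h
  refine ⟨Scheme.Etale.mk (homS V' ≫ homS V), v', ?_, N, fN, ⟨?_⟩⟩
  · show V.hom (V'.hom v') = V.hom v
    rw [hv]
  · exact (pullCompObj (homS V') (homS V) F).symm ≪≫ a

theorem LC.pull {F : EtCoh.Ab Y} (f : X ⟶ Y) (x : X) (h : LC F (f x)) :
    LC ((EtCoh.pull f).obj F) x := by
  obtain ⟨V, y, hy, N, fN, ⟨a⟩⟩ := h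
  obtain ⟨z, hz1, hz2⟩ := Scheme.Pullback.exists_preimage_pullback
    (f := homS V) (g := f) y x hy
  refine ⟨(EtCoh.bc f).obj V, z, hz2, N, fN, ⟨?_⟩⟩
  have w : pullback.fst (homS V) f ≫ homS V = pullback.snd (homS V) f ≫ f :=
    pullback.condition
  exact (pullSq (pullback.fst (homS V) f) (homS V) (pullback.snd (homS V) f) f w F).symm ≪≫
    (EtCoh.pull (pullback.fst (homS V) f)).mapIso a ≪≫
    (EtCore.pullConstIso (pullback.fst (homS V) f)).app N

end Groth.Agent.Helper4.LcPoint
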