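import Mathlib
import Groth.Prelude.Def_PBC
import Groth.Agent.Helper4.LcPoint
import Groth.Agent.Helper9.EtStalkPull
import Groth.Agent.Helper9.EtStalkExact

set_option autoImplicit false

/-!
# Supports of étale sheaves: stalks of constant sheaves, supports of finite locally constant sheaves
-/

universe u

open CategoryTheory CategoryTheory.Limits AlgebraicGeometry Opposite Topology

namespace Groth.Agent.Helper4.SuppA

open Groth.Agent.Helper4.ConstLoc Groth.Agent.Helper4.LcPoint Groth.Agent.Helper4.OverEtC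
open Groth.Agent.Helper9.EtStalkPull Groth.Agent.Helper9.EtStalkExact

variable {Y : Scheme.{u}} {Ω : Type u} [Field Ω] [IsSepClosed Ω]

attribute [local instance] ab5_ab

/-- the fibre of the constant presheaf -/
noncomputable def presheafFiberConst (ξ : Spec (CommRingCat.of Ω) ⟶ Y) (N : AddCommGrpCat.{u + 1}) :
    (Scheme.pointSmallEtale ξ).presheafFiber.obj (P Y N) ≅ N :=
  IsColimit.coconePointUniqueUpToIso
    ((Scheme.pointSmallEtale ξ).isColimitPresheafFiberCocone (P Y N))
    (isColimitConstCocone _ N)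

/-- the stalk of the constant sheaf -/
noncomputable def stalkConst (ξ : Spec (CommRingCat.of Ω) ⟶ Y) (N : AddCommGrpCat.{u + 1}) :
    (EtCoh.stalk ξ).obj (cS Y N) ≅ N :=
  ((Scheme.pointSmallEtale ξ).presheafToSheafCompSheafFiberIso AddCommGrpCat.{u + 1}).app (P Y N) ≪≫
    presheafFiberConst ξ N

lemma range_eq_singleton {K : Type u} [Field K] (ξ : Spec (CommRingCat.of K) ⟶ Y) :
    Set.range ξ = {ξ default} := by
  ext y
  constructor
  · rintro ⟨z, rfl⟩
    rw [Subsingleton.elim z default]
    rfl
  · rintro rfl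
    exact ⟨default, rfl⟩

lemma default_eq_of_range {K : Type u} [Field K] (ξ : Spec (CommRingCat.of K) ⟶ Y) {y : Y}
    (h : Set.range ξ = {y}) : ξ default = y := by
  have : ξ default ∈ Set.range ξ := ⟨default, rfl⟩
  rw [h] at this
  exact this

/-- the stalks of a sheaf which becomes constant with value `N` on `V`, at points of the image of `V` -/
theorem stalk_isZero_iff_of_const {F : EtCoh.Ab Y} (V : Y.Etale) (N : AddCommGrpCat.{u + 1})
    (a : (EtCoh.pull (homS V)).obj F ≅ cS V.left N) (ξ : Spec (CommRingCat.of Ω) ⟶ Y)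
    (v : V.left) (hv : V.hom v = ξ default) :
    IsZero ((EtCoh.stalk ξ).obj F) ↔ IsZero N := by
  obtain ⟨l, hl, -⟩ := Scheme.exists_fac_of_etale_of_isSepClosed (homS V) ξ v hv
  subst hl
  have e : (EtCoh.stalk (l ≫ homS V)).obj F ≅ N :=
    ((stalkPullIso (homS V) l).app F).symm ≪≫ (EtCoh.stalk l).mapIso a ≪≫ stalkConst l N
  exact e.isZero_iff

/-- membership in the support, tested on a chosen geometric point -/
theorem mem_supp_of_stalk (F : EtCoh.Ab Y) (ξ : Spec (CommRingCat.of Ω) ⟶ Y)
    (h : ¬ IsZero ((EtCoh.stalk ξ).obj F)) : ξ default ∈ EtPBC.supp F :=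
  ⟨Ω, inferInstance, inferInstance, ξ, range_eq_singleton ξ, h⟩

/-- the support of a finite locally constant sheaf is open and closed -/
theorem isClopen_supp_of_flc {T : Scheme.{u}} (G : EtCoh.Ab T)
    (h : EtCoh.IsFiniteLocallyConstant G) : IsClopen (EtPBC.supp G) := by
  rw [flc_iff_forall_LC] at h
  choose V v hv N fN a using h
  have key : ∀ (t t' : T), t' ∈ Set.range (V t).hom → (t' ∈ EtPBC.supp G ↔ ¬ IsZero (N t)) := by
    rintro t t' ⟨w, hw⟩
    constructor
    · rintro ⟨Ω', _, _, ξ, hξ, hnz⟩ hz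
      have hd : ξ default = t' := default_eq_of_range ξ hξ
      exact hnz ((stalk_isZero_iff_of_const (V t) (N t) (a t).some ξ w (hw.trans hd.symm)).2 hz)
    · intro hnz
      have h1 := mem_supp_of_stalk G (geomPt t') (fun hz => hnz
        ((stalk_isZero_iff_of_const (V t) (N t) (a t).some (geomPt t') w
          (hw.trans (geomPt_default t').symm)).1 hz))
      rwa [geomPt_default] at h1
  have hopen : ∀ t, IsOpen (Set.range (V t).hom) := fun t => (V t).hom.isOpenMap.isOpen_range
  have hmem : ∀ t, t ∈ Set.range (V t).hom := fun t => ⟨v t, hv t⟩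
  constructor
  · rw [← isOpen_compl_iff, isOpen_iff_forall_mem_open]
    intro t ht
    refine ⟨Set.range (V t).hom, fun t' ht' hs => ?_, hopen t, hmem t⟩
    exact ht ((key t t (hmem t)).2 ((key t t' ht').1 hs))
  · rw [isOpen_iff_forall_mem_open]
    intro t ht
    refine ⟨Set.range (V t).hom, fun t' ht' => ?_, hopen t, hmem t⟩
    exact (key t t' ht').2 ((key t t (hmem t)).1 ht)

end Groth.Agent.Helper4.SuppA
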