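import Mathlib
import Groth.Prelude.Def_PBC
import Groth.Agent.Helper4.SuppA
import Groth.Agent.Helper4.StrataF
import Groth.Agent.Helper4.ConsTop

set_option autoImplicit false

/-!
# The support of a constructible étale sheaf is locally constructible
-/

universe u

open CategoryTheory CategoryTheory.Limits AlgebraicGeometry Opposite Topology

namespace Groth.Agent.Helper4.SuppB

open Groth.Agent.Helper4.SuppA Groth.Agent.Helper4.StrataA Groth.Agent.Helper4.StrataB
open Groth.Agent.Helper4.ConsTop
open Groth.Agent.Helper9.EtStalkPull Groth.Agent.Helper9.EtStalkExact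

variable {X T : Scheme.{u}}

/-- geometric points lift along immersions -/
theorem exists_lift_of_isImmersion (g : T ⟶ X) [IsImmersion g] {Ω : Type u} [Field Ω]
    (ξ : Spec (CommRingCat.of Ω) ⟶ X) (t : T) (ht : g t = ξ default) :
    ∃ l : Spec (CommRingCat.of Ω) ⟶ T, l ≫ g = ξ := by
  obtain ⟨z, -, -⟩ := Scheme.Pullback.exists_preimage_pullback (f := g) (g := ξ) t default ht
  let q := pullback.snd g ξ
  have hsurj : Function.Surjective q := fun y => ⟨z, Subsingleton.elim _ _⟩
  haveI : Surjective q := ⟨hsurj⟩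
  haveI : IsClosedImmersion q := by
    refine IsClosedImmersion.of_isPreimmersion _ ?_
    rw [hsurj.range_eq]
    exact isClosed_univ
  haveI : IsIso q := isIso_of_isClosedImmersion_of_surjective q
  refine ⟨inv q ≫ pullback.fst g ξ, ?_⟩
  rw [Category.assoc, pullback.condition, IsIso.inv_hom_id_assoc]

/-- the support of an inverse image, one direction (any morphism) -/
theorem map_mem_supp_of_mem_supp_pull (g : T ⟶ X) (F : EtCoh.Ab X) (t : T)
    (h : t ∈ EtPBC.supp ((EtCoh.pull g).obj F)) : g t ∈ EtPBC.supp F := by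
  obtain ⟨Ω, _, _, ξ, hξ, hnz⟩ := h
  have hd : ξ default = t := default_eq_of_range ξ hξ
  have h1 := mem_supp_of_stalk F (ξ ≫ g) (fun hz => hnz
    (((stalkPullIso g ξ).app F).isZero_iff.2 hz))
  have h2 : (ξ ≫ g) default = g t := by rw [← hd]; rfl
  rwa [h2] at h1

/-- the support of an inverse image along an immersion -/
theorem mem_supp_pull_iff (g : T ⟶ X) [IsImmersion g] (F : EtCoh.Ab X) (t : T) :
    t ∈ EtPBC.supp ((EtCoh.pull g).obj F) ↔ g t ∈ EtPBC.supp F := by
  constructor
  · exact map_mem_supp_of_mem_supp_pull g F t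
  · rintro ⟨Ω, _, _, ξ, hξ, hnz⟩
    have hd : ξ default = g t := default_eq_of_range ξ hξ
    obtain ⟨l, rfl⟩ := exists_lift_of_isImmersion g ξ t hd.symm
    have h1 := mem_supp_of_stalk ((EtCoh.pull g).obj F) l (fun hz => hnz
      (((stalkPullIso g l).app F).isZero_iff.1 hz))
    have h2 : l default = t := g.isEmbedding.injective hd
    rwa [h2] at h1

/-- the support of a constructible sheaf is constructible in every affine open -/
theorem supp_cIn (F : EtCoh.Ab X) (hF : EtPBC.IsConstructible F) (U : X.Opens)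
    (hU : IsAffineOpen U) : CIn (U : Set X) (EtPBC.supp F) := by
  obtain ⟨κ, hκ, T, g, h1, h2, h3, h4, h5⟩ := (strat_iff F _).2 (hF U hU)
  haveI := h1
  haveI : CompactSpace ↥(U : Set X) := isCompact_iff_compactSpace.1 hU.isCompact
  haveI : QuasiSeparatedSpace ↥(U : Set X) :=
    (isQuasiSeparated_iff_quasiSeparatedSpace _ U.2).1 hU.isQuasiSeparated
  haveI : PrespectralSpace ↥(U : Set X) := inferInstanceAs (PrespectralSpace U.toScheme)
  have hsub : ∀ k, Set.range (g k) ⊆ (U : Set X) := fun k => by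
    rw [← h4]
    exact Set.subset_iUnion (fun k => Set.range (g k)) k
  have hdecomp : (Subtype.val : ↥(U : Set X) → X) ⁻¹' EtPBC.supp F =
      ⋃ k, Subtype.val ⁻¹' ((g k) '' EtPBC.supp ((EtCoh.pull (g k)).obj F)) := by
    ext ⟨x, hx⟩
    simp only [Set.mem_preimage, Set.mem_iUnion, Set.mem_image]
    constructor
    · intro hxs
      have : x ∈ ⋃ k, Set.range (g k) := by rw [h4]; exact hx
      obtain ⟨k, t, rfl⟩ := Set.mem_iUnion.1 this
      exact ⟨k, t, (mem_supp_pull_iff (g k) F t).2 hxs, rfl⟩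
    · rintro ⟨k, t, ht, rfl⟩
      exact (mem_supp_pull_iff (g k) F t).1 ht
  unfold CIn
  rw [hdecomp]
  refine IsConstructible.iUnion fun k => ?_
  let g' : T k → ↥(U : Set X) := fun t => ⟨g k t, hsub k ⟨t, rfl⟩⟩
  have hg' : IsEmbedding g' := (g k).isEmbedding.codRestrict _ _
  have hr : Set.range g' = Subtype.val ⁻¹' Set.range (g k) := by
    ext ⟨x, hx⟩
    constructor
    · rintro ⟨t, ht⟩
      exact ⟨t, congrArg Subtype.val ht⟩
    · rintro ⟨t, ht⟩
      exact ⟨t, Subtype.ext ht⟩
  have hrc : IsConstructible (Set.range g') := hr ▸ h2 k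
  haveI : CompactSpace (T k) := by
    rw [← isCompact_univ_iff, hg'.isCompact_iff, Set.image_univ]
    exact isCompact_of_isConstructible hrc
  have hW := isClopen_supp_of_flc _ (h5 k)
  have hWc : IsConstructible (EtPBC.supp ((EtCoh.pull (g k)).obj F)) :=
    IsRetrocompact.isConstructible hW.isOpen (fun K hK _ => hK.inter_left hW.isClosed)
  have h6 := isConstructible_image hg' hrc hWc
  have h7 : g' '' EtPBC.supp ((EtCoh.pull (g k)).obj F) =
      Subtype.val ⁻¹' ((g k) '' EtPBC.supp ((EtCoh.pull (g k)).obj F)) := by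
    ext ⟨x, hx⟩
    constructor
    · rintro ⟨t, ht, hx'⟩
      exact ⟨t, ht, congrArg Subtype.val hx'⟩
    · rintro ⟨t, ht, hx'⟩
      exact ⟨t, ht, Subtype.ext hx'⟩
  rw [← h7]
  exact h6

/-- the support of a constructible sheaf is locally constructible -/
theorem isLocallyConstructible_supp (F : EtCoh.Ab X) (hF : EtPBC.IsConstructible F) :
    IsLocallyConstructible (EtPBC.supp F) := by
  intro x
  obtain ⟨_, ⟨U, hU : IsAffineOpen U, rfl⟩, hxU, -⟩ :=
    (X.isBasis_affineOpens).exists_subset_of_mem_open (Set.mem_univ x) isOpen_univ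
  exact ⟨(U : Set X), U.2.mem_nhds hxU, U.2, supp_cIn F hF U hU⟩

end Groth.Agent.Helper4.SuppB
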