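import Mathlib
import Groth.Prelude.Def_PBC
import Groth.Agent.Helper4.SuppB

set_option autoImplicit false

/-!
# Loci defined by a property of the geometric stalks of a constructible sheaf
-/

universe u

open CategoryTheory CategoryTheory.Limits AlgebraicGeometry Opposite Topology

namespace Groth.Agent.Helper4.StalkLocus

open Groth.Agent.Helper4.ConstLoc Groth.Agent.Helper4.LcPoint Groth.Agent.Helper4.OverEtC
open Groth.Agent.Helper4.SuppA Groth.Agent.Helper4.SuppB Groth.Agent.Helper4.StrataA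
open Groth.Agent.Helper4.StrataB Groth.Agent.Helper4.ConsTop
open Groth.Agent.Helper9.EtStalkPull Groth.Agent.Helper9.EtStalkExact

attribute [local instance] ab5_ab

variable {X T : Scheme.{u}}

/-- the set of points at which some geometric stalk satisfies `Q` -/
def stalkLocus (F : EtCoh.Ab X) (Q : AddCommGrpCat.{u + 1} → Prop) : Set X :=
  {x | ∃ (Ω : Type u) (_ : Field Ω) (_ : IsSepClosed Ω) (ξ : Spec (CommRingCat.of Ω) ⟶ X),
    Set.range ξ = {x} ∧ Q ((EtCoh.stalk ξ).obj F)}

variable (Q : AddCommGrpCat.{u + 1} → Prop)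
  (hQ : ∀ {A B : AddCommGrpCat.{u + 1}}, (A ≅ B) → Q A → Q B)

theorem stalk_iso_of_const {Ω : Type u} [Field Ω] [IsSepClosed Ω] {F : EtCoh.Ab X} (V : X.Etale)
    (N : AddCommGrpCat.{u + 1}) (a : (EtCoh.pull (homS V)).obj F ≅ cS V.left N)
    (ξ : Spec (CommRingCat.of Ω) ⟶ X) (v : V.left) (hv : V.hom v = ξ default) :
    Nonempty ((EtCoh.stalk ξ).obj F ≅ N) := by
  obtain ⟨l, hl, -⟩ := Scheme.exists_fac_of_etale_of_isSepClosed (homS V) ξ v hv
  subst hl
  exact ⟨((stalkPullIso (homS V) l).app F).symm ≪≫ (EtCoh.stalk l).mapIso a ≪≫ stalkConst l N⟩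

theorem mem_stalkLocus_of_stalk {Ω : Type u} [Field Ω] [IsSepClosed Ω] (F : EtCoh.Ab X)
    (ξ : Spec (CommRingCat.of Ω) ⟶ X) (h : Q ((EtCoh.stalk ξ).obj F)) :
    ξ default ∈ stalkLocus F Q :=
  ⟨Ω, inferInstance, inferInstance, ξ, range_eq_singleton ξ, h⟩

include hQ in
theorem isClopen_stalkLocus_of_flc (G : EtCoh.Ab T) (h : EtCoh.IsFiniteLocallyConstant G) :
    IsClopen (stalkLocus G Q) := by
  rw [flc_iff_forall_LC] at h
  choose V v hv N fN a using h
  have key : ∀ (t t' : T), t' ∈ Set.range (V t).hom → (t' ∈ stalkLocus G Q ↔ Q (N t)) := by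
    rintro t t' ⟨w, hw⟩
    constructor
    · rintro ⟨Ω', _, _, ξ, hξ, hq⟩
      have hd : ξ default = t' := default_eq_of_range ξ hξ
      obtain ⟨e⟩ := stalk_iso_of_const (V t) (N t) (a t).some ξ w (hw.trans hd.symm)
      exact hQ e hq
    · intro hq
      obtain ⟨e⟩ := stalk_iso_of_const (V t) (N t) (a t).some (geomPt t') w
        (hw.trans (geomPt_default t').symm)
      have h1 := mem_stalkLocus_of_stalk Q G (geomPt t') (hQ e.symm hq)
      rwa [geomPt_default] at h1
  have hopen : ∀ t, IsOpen (Set.range (V t).hom) := fun t => (V t).hom.isOpenMap.isOpen_range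
  have hmem : ∀ t, t ∈ Set.range (V t).hom := fun t => ⟨v t, hv t⟩
  constructor
  · rw [← isOpen_compl_iff, isOpen_iff_forall_mem_open]
    intro t ht
    refine ⟨Set.range (V t).hom, fun t' ht' hs => ?_, hopen t, hmem t⟩
    exact ht ((key t t (hmem t)).2 ((key t t' ht').1 hs))
  · rw [isOpen_iff_forall_mem_open]
    intro t ht
    refine ⟨Set.range (V t).hom, fun t' ht' => ?_, hopen t, hmem t⟩
    exact (key t t' ht').2 ((key t t (hmem t)).1 ht)

include hQ in
theorem mem_stalkLocus_pull_iff (g : T ⟶ X) [IsImmersion g] (F : EtCoh.Ab X) (t : T) :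
    t ∈ stalkLocus ((EtCoh.pull g).obj F) Q ↔ g t ∈ stalkLocus F Q := by
  constructor
  · rintro ⟨Ω, _, _, ξ, hξ, hq⟩
    have hd : ξ default = t := default_eq_of_range ξ hξ
    have h1 := mem_stalkLocus_of_stalk Q F (ξ ≫ g) (hQ ((stalkPullIso g ξ).app F) hq)
    have h2 : (ξ ≫ g) default = g t := by rw [← hd]; rfl
    rwa [h2] at h1
  · rintro ⟨Ω, _, _, ξ, hξ, hq⟩
    have hd : ξ default = g t := default_eq_of_range ξ hξ
    obtain ⟨l, rfl⟩ := exists_lift_of_isImmersion g ξ t hd.symm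
    have h1 := mem_stalkLocus_of_stalk Q ((EtCoh.pull g).obj F) l
      (hQ ((stalkPullIso g l).app F).symm hq)
    have h2 : l default = t := g.isEmbedding.injective hd
    rwa [h2] at h1

include hQ in
/-- stalk loci of a constructible sheaf are constructible in every affine open -/
theorem stalkLocus_cIn (F : EtCoh.Ab X) (hF : EtPBC.IsConstructible F) (U : X.Opens)
    (hU : IsAffineOpen U) : CIn (U : Set X) (stalkLocus F Q) := by
  obtain ⟨κ, hκ, T, g, h1, h2, h3, h4, h5⟩ := (strat_iff F _).2 (hF U hU)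
  haveI := h1
  haveI : CompactSpace ↥(U : Set X) := isCompact_iff_compactSpace.1 hU.isCompact
  haveI : QuasiSeparatedSpace ↥(U : Set X) :=
    (isQuasiSeparated_iff_quasiSeparatedSpace _ U.2).1 hU.isQuasiSeparated
  haveI : PrespectralSpace ↥(U : Set X) := inferInstanceAs (PrespectralSpace U.toScheme)
  have hsub : ∀ k, Set.range (g k) ⊆ (U : Set X) := fun k => by
    rw [← h4]
    exact Set.subset_iUnion (fun k => Set.range (g k)) k
  have hdecomp : (Subtype.val : ↥(U : Set X) → X) ⁻¹' stalkLocus F Q =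
      ⋃ k, Subtype.val ⁻¹' ((g k) '' stalkLocus ((EtCoh.pull (g k)).obj F) Q) := by
    ext ⟨x, hx⟩
    simp only [Set.mem_preimage, Set.mem_iUnion, Set.mem_image]
    constructor
    · intro hxs
      have : x ∈ ⋃ k, Set.range (g k) := by rw [h4]; exact hx
      obtain ⟨k, t, rfl⟩ := Set.mem_iUnion.1 this
      exact ⟨k, t, (mem_stalkLocus_pull_iff Q hQ (g k) F t).2 hxs, rfl⟩
    · rintro ⟨k, t, ht, rfl⟩
      exact (mem_stalkLocus_pull_iff Q hQ (g k) F t).1 ht
  unfold CIn
  rw [hdecomp]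
  refine IsConstructible.iUnion fun k => ?_
  let g' : T k → ↥(U : Set X) := fun t => ⟨g k t, hsub k ⟨t, rfl⟩⟩
  have hg' : IsEmbedding g' := (g k).isEmbedding.codRestrict _ _
  have hr : Set.range g' = Subtype.val ⁻¹' Set.range (g k) := by
    ext ⟨x, hx⟩
    constructor
    · rintro ⟨t, ht⟩
      exact ⟨t, congrArg Subtype.val ht⟩
    · rintro ⟨t, ht⟩
      exact ⟨t, Subtype.ext ht⟩
  have hrc : IsConstructible (Set.range g') := hr ▸ h2 k
  haveI : CompactSpace (T k) := by
    rw [← isCompact_univ_iff, hg'.isCompact_iff, Set.image_univ]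
    exact isCompact_of_isConstructible hrc
  have hW := isClopen_stalkLocus_of_flc Q hQ _ (h5 k)
  have hWc : IsConstructible (stalkLocus ((EtCoh.pull (g k)).obj F) Q) :=
    IsRetrocompact.isConstructible hW.isOpen (fun K hK _ => hK.inter_left hW.isClosed)
  have h6 := isConstructible_image hg' hrc hWc
  have h7 : g' '' stalkLocus ((EtCoh.pull (g k)).obj F) Q =
      Subtype.val ⁻¹' ((g k) '' stalkLocus ((EtCoh.pull (g k)).obj F) Q) := by
    ext ⟨x, hx⟩
    constructor
    · rintro ⟨t, ht, hx'⟩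
      exact ⟨t, ht, congrArg Subtype.val hx'⟩
    · rintro ⟨t, ht, hx'⟩
      exact ⟨t, ht, Subtype.ext hx'⟩
  rw [← h7]
  exact h6

include hQ in
theorem isLocallyConstructible_stalkLocus (F : EtCoh.Ab X) (hF : EtPBC.IsConstructible F) :
    IsLocallyConstructible (stalkLocus F Q) := by
  intro x
  obtain ⟨_, ⟨U, hU : IsAffineOpen U, rfl⟩, hxU, -⟩ :=
    (X.isBasis_affineOpens).exists_subset_of_mem_open (Set.mem_univ x) isOpen_univ
  exact ⟨(U : Set X), U.2.mem_nhds hxU, U.2, stalkLocus_cIn Q hQ F hF U hU⟩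

end Groth.Agent.Helper4.StalkLocus
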