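import Mathlib
import Groth.Prelude.Def_EtCore
import Groth.Prelude.Def_EtShriek2
import Groth.Agent.Helper4.AcycColim
import Groth.Agent.Helper9.EtJCont
import Groth.Agent.Helper9.EtShriekOpen
import Groth.Agent.Helper9.EtShriekExact

/-! Sections over an étale `X`-scheme `W` and the restriction to the small étale site of `W`:
if `H¹(W, F'|_W) = 0` then `F(W) → F''(W)` is surjective. -/

set_option autoImplicit false
universe u

open CategoryTheory CategoryTheory.Limits AlgebraicGeometry Opposite CategoryTheory.Abelian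

namespace Groth.Agent.Helper4.EtSecPullEt

/-- if `H¹` of the kernel vanishes, sections over a terminal object are right exact -/
lemma surj_sections {Z : Scheme.{u}} (S : ShortComplex (EtCoh.Ab Z)) (hS : S.ShortExact)
    (hH : ∀ x : EtCoh.H Z S.X₁ 1, x = 0) (W : Z.Etale) (hW : IsTerminal W) :
    Function.Surjective (S.g.hom.app (op W)) := by
  intro y
  have h0 : ((Sheaf.H.equiv₀ S.X₃ hW).symm y).comp hS.extClass (zero_add 1) = 0 := hH _
  obtain ⟨x₂, hx₂⟩ := Ext.covariant_sequence_exact₃ _ hS _ (zero_add 1) h0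
  refine ⟨Sheaf.H.equiv₀ S.X₂ hW x₂, ?_⟩
  rw [Sheaf.H.equiv₀_naturality]
  have h1 : Sheaf.H.map S.g 0 x₂ = (Sheaf.H.equiv₀ S.X₃ hW).symm y := hx₂
  rw [h1]
  exact AddEquiv.apply_symm_apply _ _

section

variable {U X : Scheme.{u}} (j : U ⟶ X) [Etale j]

instance : PreservesFiniteLimits (EtShriek.restrAlong j) :=
  ⟨fun K _ _ => (EtShriek.extZeroAdj j).rightAdjoint_preservesLimits.1⟩

instance : PreservesFiniteColimits (EtShriek.restrAlong j) :=
  ⟨fun K _ _ => (Groth.Agent.Helper9.EtShriekOpen.sheafAdj j).leftAdjoint_preservesColimits.1⟩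

/-- if `H¹(U, F'|_U) = 0` then `F(U) → F''(U)` is surjective -/
theorem surj_of_H1' (W : X.Etale) (e : (EtShriek.compEtale j).obj (EtCoh.top U) ≅ W)
    (S : ShortComplex (EtCoh.Ab X)) (hS : S.ShortExact)
    (h : ∀ x : EtCoh.H U ((EtCoh.pull j).obj S.X₁) 1, x = 0) :
    Function.Surjective (S.g.hom.app (op W)) := by
  have hS' : (S.map (EtShriek.restrAlong j)).ShortExact := hS.map_of_exact _
  have h' : ∀ x : EtCoh.H U (S.map (EtShriek.restrAlong j)).X₁ 1, x = 0 := fun x =>
    Groth.Agent.Helper4.AcycColim.ext_eq_zero_of_iso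
      ((Groth.Agent.Helper9.EtShriekOpen.pullIsoRestr j).app S.X₁) h x
  have hsurj := surj_sections _ hS' h' (EtCoh.top U) (EtCore.topIsTerminal U)
  intro y
  obtain ⟨z', hz'⟩ := hsurj (S.X₃.obj.map e.hom.op y)
  refine ⟨S.X₂.obj.map e.inv.op z', ?_⟩
  have hz'' : S.g.hom.app (op ((EtShriek.compEtale j).obj (EtCoh.top U))) z' =
      S.X₃.obj.map e.hom.op y := hz'
  rw [NatTrans.naturality_apply, hz'', ← ConcreteCategory.comp_apply, ← S.X₃.obj.map_comp,
    ← op_comp, Iso.inv_hom_id, op_id, S.X₃.obj.map_id]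
  rfl

end

variable {X : Scheme.{u}} (W : X.Etale)

/-- if `H¹(W, F'|_W) = 0` then `F(W) → F''(W)` is surjective -/
theorem surj_of_H1 (S : ShortComplex (EtCoh.Ab X)) (hS : S.ShortExact)
    (h : ∀ x : EtCoh.H W.left ((EtCoh.pull W.hom).obj S.X₁) 1, x = 0) :
    Function.Surjective (S.g.hom.app (op W)) := by
  haveI : Etale (W.hom : W.left ⟶ X) := W.prop
  exact @surj_of_H1' W.left X W.hom _ W
    (MorphismProperty.Over.isoMk (Iso.refl _) (Category.id_comp _)) S hS h

end Groth.Agent.Helper4.EtSecPullEt
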