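import Mathlib
import Groth.Prelude.Def_EtCore
import Groth.Agent.Helper4.LcPoint
import Groth.Agent.Helper4.OverEtB

set_option autoImplicit false

/-!
# Sections of short exact sequences of étale sheaves, and relative local constancy
-/

universe u

open CategoryTheory CategoryTheory.Limits AlgebraicGeometry Opposite

namespace Groth.Agent.Helper4.LcExtA

open Groth.Agent.Helper4.OverEtC Groth.Agent.Helper4.FlcPull Groth.Agent.Helper4.ConstLoc
  Groth.Agent.Helper4.LcPoint Groth.Agent.Helper4.EtGeom

variable {Y : Scheme.{u}}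

/-- sections over `W` -/
noncomputable abbrev Gs (W : Y.Etale) : EtCoh.Ab Y ⥤ AddCommGrpCat.{u + 1} :=
  sheafToPresheaf Y.smallEtaleTopology AddCommGrpCat.{u + 1} ⋙ (evaluation _ _).obj (op W)

variable (S : ShortComplex (EtCoh.Ab Y)) (hS : S.ShortExact)

include hS

lemma sec_injective (W : Y.Etale) : Function.Injective (S.f.hom.app (op W)) := by
  haveI := hS.mono_f
  have : Mono ((Gs W).map S.f) := inferInstance
  exact (AddCommGrpCat.mono_iff_injective _).1 this

lemma sec_exact (W : Y.Etale) (e : S.X₂.obj.obj (op W)) (h : S.g.hom.app (op W) e = 0) :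
    ∃ a, S.f.hom.app (op W) a = e := by
  haveI := hS.mono_f
  have h1 : (S.map (Gs W)).Exact :=
    hS.exact.map_of_mono_of_preservesKernel (Gs W) inferInstance inferInstance
  rw [ShortComplex.ab_exact_iff] at h1
  exact h1 e h

lemma sec_locally_surjective (W : Y.Etale) (c : S.X₃.obj.obj (op W)) (x : W.left) :
    ∃ (W' : Y.Etale) (g' : W' ⟶ W) (x' : W'.left) (e : S.X₂.obj.obj (op W')),
      g'.left x' = x ∧ S.g.hom.app (op W') e = S.X₃.obj.map g'.op c := by
  haveI := hS.epi_g
  haveI : Sheaf.IsLocallySurjective S.g :=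
    (Sheaf.isLocallySurjective_iff_epi' (φ := S.g)).2 inferInstance
  have h := Presheaf.imageSieve_mem Y.smallEtaleTopology S.g.hom c
  rw [mem_iff] at h
  obtain ⟨W', g', x', ⟨e, he⟩, hx⟩ := h x
  exact ⟨W', g', x', e, hx, he⟩

end Groth.Agent.Helper4.LcExtA
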