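import Mathlib
import Groth.Prelude.Def_EtCore
import Groth.Agent.Helper4.LcExtA
import Groth.Agent.Helper4.EtSecPullEt
import Groth.Agent.Helper9.EtShriekOpen

set_option autoImplicit false

/-!
# Extensions of constant sheaves are locally constant
-/

universe u

open CategoryTheory CategoryTheory.Limits AlgebraicGeometry Opposite

namespace Groth.Agent.Helper4.LcExtB

open Groth.Agent.Helper4.OverEtC Groth.Agent.Helper4.FlcPull Groth.Agent.Helper4.ConstLoc
  Groth.Agent.Helper4.LcPoint Groth.Agent.Helper4.EtGeom Groth.Agent.Helper4.LcExtA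
  Groth.Agent.Helper4.OverEtA

variable {Y : Scheme.{u}}

lemma iInf_mem {ι : Type*} [Finite ι] (W : Y.Etale) (T : ι → Sieve W)
    (hT : ∀ i, T i ∈ Y.smallEtaleTopology W) : (⨅ i, T i) ∈ Y.smallEtaleTopology W := by
  have h : InfClosed {S : Sieve W | S ∈ Y.smallEtaleTopology W} := by
    intro R hR S hS
    exact Y.smallEtaleTopology.intersection_covering hR hS
  exact h.iInf_mem (Y.smallEtaleTopology.top_mem W) hT

lemma iInf_apply' {ι : Type*} (W : Y.Etale) (T : ι → Sieve W) {W' : Y.Etale} (g : W' ⟶ W) :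
    (⨅ i, T i) g ↔ ∀ i, T i g := by
  rw [iInf, Sieve.sInf_apply]
  simp

/-- finitely many covering sieves have a common member through any given point -/
lemma exists_common_refinement {ι : Type*} [Finite ι] (W : Y.Etale) (T : ι → Sieve W)
    (hT : ∀ i, T i ∈ Y.smallEtaleTopology W) (x : W.left) :
    ∃ (W' : Y.Etale) (g : W' ⟶ W) (x' : W'.left), g.left x' = x ∧ ∀ i, T i g := by
  have h := iInf_mem W T hT
  rw [mem_iff] at h
  obtain ⟨W', g, x', hg, hx⟩ := h x
  exact ⟨W', g, x', hx, (iInf_apply' W T g).1 hg⟩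

section rel

variable {U : Scheme.{u}} (j : U ⟶ Y) [Etale j]

instance isCocontinuous_compEtale :
    (EtShriek.compEtale j).IsCocontinuous U.smallEtaleTopology Y.smallEtaleTopology := by
  rw [← Ψ_comp_forget]
  exact isCocontinuous_comp (Ψ j) (Over.forget _) U.smallEtaleTopology
    (Y.smallEtaleTopology.over (Scheme.Etale.mk j))

/-- covering sieves of `Y_ét` restrict to coverings in `U_ét` -/
lemma rel_cover (W : U.Etale) (T : Sieve ((EtShriek.compEtale j).obj W))
    (hT : T ∈ Y.smallEtaleTopology _) (x : W.left) :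
    ∃ (W' : U.Etale) (g : W' ⟶ W) (x' : W'.left), g.left x' = x ∧
      T ((EtShriek.compEtale j).map g) := by
  have h := (EtShriek.compEtale j).cover_lift U.smallEtaleTopology Y.smallEtaleTopology hT
  rw [mem_iff] at h
  obtain ⟨W', g, x', hg, hx⟩ := h x
  exact ⟨W', g, x', hx, hg⟩

/-- the structure map of `W → U → Y` to `U → Y` -/
noncomputable abbrev toV (W : U.Etale) : (EtShriek.compEtale j).obj W ⟶ Scheme.Etale.mk j :=
  MorphismProperty.Over.homMk W.hom rfl

lemma toV_nat {W W' : U.Etale} (g : W' ⟶ W) : (EtShriek.compEtale j).map g ≫ toV j W = toV j W' :=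
  MorphismProperty.Over.Hom.ext (MorphismProperty.Over.w g)

lemma res_res (H : EtCoh.Ab Y) {W W' : U.Etale} (g : W' ⟶ W)
    (t : H.obj.obj (op (Scheme.Etale.mk j))) :
    H.obj.map ((EtShriek.compEtale j).map g).op (H.obj.map (toV j W).op t) =
      H.obj.map (toV j W').op t := by
  rw [← ConcreteCategory.comp_apply, ← Functor.map_comp, ← op_comp, toV_nat]

/-- relative local constancy of sections of a constant sheaf -/
lemma rel_exists_const (N : AddCommGrpCat.{u + 1}) (W : U.Etale)
    (t : (cS Y N).obj.obj (op ((EtShriek.compEtale j).obj W))) (x : W.left) :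
    ∃ (W' : U.Etale) (g : W' ⟶ W) (x' : W'.left) (n : N), g.left x' = x ∧
      (cS Y N).obj.map ((EtShriek.compEtale j).map g).op t =
        (η Y N).app (op ((EtShriek.compEtale j).obj W')) n := by
  obtain ⟨W', g, x', hx, n, hn⟩ := rel_cover j W _
    (Presheaf.imageSieve_mem Y.smallEtaleTopology (η Y N) t) x
  exact ⟨W', g, x', n, hx, hn.symm⟩

end rel

/-- a locally bijective map from a constant presheaf exhibits the target as a constant sheaf -/
noncomputable def isoOfLocallyBijective {U : Scheme.{u}} (N : AddCommGrpCat.{u + 1})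
    (R : EtCoh.Ab U) (φ : P U N ⟶ R.obj)
    [Presheaf.IsLocallyInjective U.smallEtaleTopology φ]
    [Presheaf.IsLocallySurjective U.smallEtaleTopology φ] : cS U N ≅ R := by
  have h1 : IsIso ((presheafToSheaf U.smallEtaleTopology AddCommGrpCat.{u + 1}).map φ) :=
    (U.smallEtaleTopology.W_iff φ).1 (U.smallEtaleTopology.W_of_isLocallyBijective φ)
  exact (@asIso _ _ _ _ _ h1) ≪≫
    asIso ((sheafificationAdjunction U.smallEtaleTopology AddCommGrpCat.{u + 1}).counit.app R)

end Groth.Agent.Helper4.LcExtB
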