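import Mathlib

set_option autoImplicit false

/-!
# Roots of unity locally: algebra at a point
-/

universe u

open Polynomial

namespace Groth.Agent.Helper4.MuConstA

variable {R K : Type*} [CommRing R] [Field K]

/-- a root of the cyclotomic polynomial is an `n`-th root of unity -/
lemma pow_eq_one (n : ℕ) (ζ : R) (hζ : aeval ζ (cyclotomic n ℤ) = 0) : ζ ^ n = 1 := by
  obtain ⟨q, hq⟩ := cyclotomic.dvd_X_pow_sub_one n ℤ
  have h := congrArg (aeval ζ) hq
  rw [map_mul, hζ, zero_mul] at h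
  simpa [sub_eq_zero] using h

lemma natCast_ne_zero (ev : R →+* K) (n : ℕ) (hn : IsUnit (n : R)) : (n : K) ≠ 0 := by
  have := hn.map ev
  rw [map_natCast] at this
  exact this.ne_zero

lemma isPrimitiveRoot (ev : R →+* K) (n : ℕ) (ζ : R) (hn : IsUnit (n : R))
    (hζ : aeval ζ (cyclotomic n ℤ) = 0) : IsPrimitiveRoot (ev ζ) n := by
  haveI : NeZero (n : K) := ⟨natCast_ne_zero ev n hn⟩
  rw [← isRoot_cyclotomic_iff, ← map_cyclotomic_int, IsRoot.def, eval_map, ← algebraMap_int_eq,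
    ← aeval_def]
  have : aeval (ev ζ) (cyclotomic n ℤ) = ev (aeval ζ (cyclotomic n ℤ)) :=
    (Polynomial.aeval_algHom_apply (ev.toIntAlgHom) ζ _)
  rw [this, hζ, map_zero]

/-- injectivity at a point -/
lemma dvd_of_pow_eq_one (ev : R →+* K) (n : ℕ) (ζ : R) (hn : IsUnit (n : R))
    (hζ : aeval ζ (cyclotomic n ℤ) = 0) (k : ℕ) (h : ζ ^ k = 1) : n ∣ k := by
  apply (isPrimitiveRoot ev n ζ hn hζ).dvd_of_pow_eq_one
  rw [← map_pow, h, map_one]

/-- surjectivity at a point -/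
lemma exists_mul_eq_zero (ev : R →+* K) (n : ℕ) (ζ : R) (hn : IsUnit (n : R))
    (hζ : aeval ζ (cyclotomic n ℤ) = 0) (hn1 : 1 ≤ n) (u : R) (hu : u ^ n = 1) :
    ∃ i < n, ∃ g : R, ev g ≠ 0 ∧ (u - ζ ^ i) * g = 0 := by
  haveI : NeZero n := ⟨by omega⟩
  have hζn := pow_eq_one n ζ hζ
  obtain ⟨i, hi, hiu⟩ := (isPrimitiveRoot ev n ζ hn hζ).eq_pow_of_pow_eq_one
    (ξ := ev u) (by rw [← map_pow, hu, map_one])
  set v : R := u * ζ ^ (n - i) with hv
  have hvn : v ^ n = 1 := by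
    rw [hv, mul_pow, hu, one_mul, ← pow_mul, mul_comm, pow_mul, hζn, one_pow]
  have hev : ev v = 1 := by
    rw [hv, map_mul, ← hiu, map_pow, ← pow_add, Nat.add_sub_cancel' hi.le, ← map_pow, hζn, map_one]
  refine ⟨i, hi, ∑ k ∈ Finset.range n, v ^ k, ?_, ?_⟩
  · rw [map_sum]
    simp only [map_pow, hev, one_pow, Finset.sum_const, Finset.card_range, nsmul_eq_mul, mul_one]
    exact natCast_ne_zero ev n hn
  · have h1 : u - ζ ^ i = (v - 1) * ζ ^ i := by
      rw [hv, sub_mul, one_mul, mul_assoc, ← pow_add, Nat.sub_add_cancel hi.le, hζn, mul_one]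
    rw [h1, mul_assoc, mul_comm (ζ ^ i), ← mul_assoc, mul_comm (v - 1), geom_sum_mul, hvn, sub_self,
      zero_mul]

end Groth.Agent.Helper4.MuConstA
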