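import Mathlib
import Groth.Prelude.Def_EtBase
import Groth.Prelude.Def_EtGm
import Groth.Agent.Helper4.MuConstA
import Groth.Agent.Helper4.ConstLoc

set_option autoImplicit false

/-!
# Roots of unity locally: scheme level
-/

universe u

open CategoryTheory CategoryTheory.Limits AlgebraicGeometry Opposite Polynomial

namespace Groth.Agent.Helper4.MuConstB

open Groth.Agent.Helper4.MuConstA

variable {X : Scheme.{u}}

lemma isUnit_of_basicOpen_eq_top (f : Γ(X, ⊤)) (h : X.basicOpen f = ⊤) : IsUnit f := by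
  apply RingedSpace.isUnit_of_isUnit_germ X.toRingedSpace ⊤ f
  intro x hx
  have hx' : x ∈ X.basicOpen f := by rw [h]; trivial
  exact (X.mem_basicOpen f x hx).1 hx'

lemma isUnit_ι_appTop_basicOpen (g : Γ(X, ⊤)) : IsUnit ((X.basicOpen g).ι.appTop.hom g) := by
  apply isUnit_of_basicOpen_eq_top
  rw [← Scheme.preimage_basicOpen_top, Scheme.Opens.ι_preimage_self]

lemma ι_appTop_eq_zero (f g : Γ(X, ⊤)) (h : f * g = 0) : (X.basicOpen g).ι.appTop.hom f = 0 := by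
  have h1 := congrArg (X.basicOpen g).ι.appTop.hom h
  rw [map_mul, map_zero] at h1
  exact (isUnit_ι_appTop_basicOpen g).mul_left_eq_zero.1 h1

/-- Zariski-local description of `n`-th roots of unity in the presence of a primitive root -/
lemma exists_open_eq (n : ℕ) (hn1 : 1 ≤ n) (ζ : Γ(X, ⊤)) (hn : IsUnit (n : Γ(X, ⊤)))
    (hζ : aeval ζ (cyclotomic n ℤ) = 0) (u : Γ(X, ⊤)) (hu : u ^ n = 1) (x : X) :
    ∃ (W : X.Opens) (i : ℕ), i < n ∧ x ∈ W ∧ W.ι.appTop.hom u = W.ι.appTop.hom (ζ ^ i) := by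
  obtain ⟨i, hi, g, hg, h0⟩ := exists_mul_eq_zero (X.Γevaluation x).hom n ζ hn hζ hn1 u hu
  refine ⟨X.basicOpen g, i, hi, (X.evaluation_ne_zero_iff_mem_basicOpen (U := ⊤) x trivial g).1 hg, ?_⟩
  have := ι_appTop_eq_zero (u - ζ ^ i) g h0
  rwa [map_sub, sub_eq_zero] at this

lemma dvd_of_pow_eq_one_at (n : ℕ) (ζ : Γ(X, ⊤)) (hn : IsUnit (n : Γ(X, ⊤)))
    (hζ : aeval ζ (cyclotomic n ℤ) = 0) (x : X) (k : ℕ) (h : ζ ^ k = 1) : n ∣ k :=
  dvd_of_pow_eq_one (X.Γevaluation x).hom n ζ hn hζ k h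

/-- transport of the hypotheses along a morphism -/
lemma isUnit_natCast_appTop {Y : Scheme.{u}} (f : X ⟶ Y) (n : ℕ) (hn : IsUnit (n : Γ(Y, ⊤))) :
    IsUnit (n : Γ(X, ⊤)) := by
  have := hn.map f.appTop.hom
  rwa [map_natCast] at this

lemma aeval_appTop {Y : Scheme.{u}} (f : X ⟶ Y) (n : ℕ) (ζ : Γ(Y, ⊤))
    (hζ : aeval ζ (cyclotomic n ℤ) = 0) : aeval (f.appTop.hom ζ) (cyclotomic n ℤ) = 0 := by
  have : aeval (f.appTop.hom ζ) (cyclotomic n ℤ) = f.appTop.hom (aeval ζ (cyclotomic n ℤ)) :=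
    (Polynomial.aeval_algHom_apply (f.appTop.hom.toIntAlgHom) ζ _)
  rw [this, hζ, map_zero]

end Groth.Agent.Helper4.MuConstB
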