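import Mathlib
import Groth.Prelude.Def_EtBase
import Groth.Prelude.Def_EtGm
import Groth.Agent.Helper4.MuConstB
import Groth.Agent.Helper4.LcExtB

set_option autoImplicit false

/-!
# `μ_n` is constant in the presence of a primitive root of unity
-/

universe u

open CategoryTheory CategoryTheory.Limits AlgebraicGeometry Opposite Polynomial

namespace Groth.Agent.Helper4.MuConstC

open Groth.Agent.Helper4.MuConstA Groth.Agent.Helper4.MuConstB Groth.Agent.Helper4.ConstLoc
  Groth.Agent.Helper4.EtGeom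

variable (S : Scheme.{u}) (n : ℕ) (ζu : (Γ(S, ⊤))ˣ) (hζn : ζu ^ n = 1)

/-- powers of the root of unity, as a homomorphism from `ℤ/n` -/
noncomputable def zp : ZMod n →+ Additive (Γ(S, ⊤))ˣ :=
  ZMod.lift n ⟨zmultiplesHom _ (Additive.ofMul ζu), by
    rw [zmultiplesHom_apply, natCast_zsmul, ← ofMul_pow, hζn, ofMul_one]⟩

lemma zp_natCast (k : ℕ) : zp S n ζu hζn (k : ZMod n) = Additive.ofMul (ζu ^ k) := by
  have h : ((k : ℤ) : ZMod n) = (k : ZMod n) := Int.cast_natCast k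
  rw [← h, zp, ZMod.lift_coe, zmultiplesHom_apply, natCast_zsmul, ofMul_pow]

/-- restriction of units to an étale `S`-scheme -/
noncomputable def resU (U : S.Etale) : (Γ(S, ⊤))ˣ →* (Γ(U.left, ⊤))ˣ :=
  Units.map (RingHom.toMonoidHom (show Γ(S, ⊤) →+* Γ(U.left, ⊤) from U.hom.appTop.hom))

lemma Gm_map_up {U U' : S.Etale} (k : U' ⟶ U) (a : (Γ(U.left, ⊤))ˣ) :
    (EtCoh.Gm S).obj.map k.op
      (ULift.up (Additive.ofMul a) : ULift.{u + 1} (Additive (Γ(U.left, ⊤))ˣ)) =
    (ULift.up (Additive.ofMul (Units.map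
      (RingHom.toMonoidHom (show Γ(U.left, ⊤) →+* Γ(U'.left, ⊤) from k.left.appTop.hom)) a)) :
      ULift.{u + 1} (Additive (Γ(U'.left, ⊤))ˣ)) := rfl

lemma resU_comp {U U' : S.Etale} (k : U' ⟶ U) (a : (Γ(S, ⊤))ˣ) :
    Units.map (RingHom.toMonoidHom (show Γ(U.left, ⊤) →+* Γ(U'.left, ⊤) from k.left.appTop.hom))
      (resU S U a) = resU S U' a := by
  apply Units.ext
  show k.left.appTop.hom (U.hom.appTop.hom (a : Γ(S, ⊤))) = U'.hom.appTop.hom (a : Γ(S, ⊤))
  have h1 : k.left ≫ U.hom = U'.hom := MorphismProperty.Over.w k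
  rw [← h1, Scheme.Hom.comp_appTop]
  rfl

/-- the comparison map from the constant presheaf to `G_m` -/
noncomputable def φ₀ : P S (AddCommGrpCat.of (ULift.{u + 1} (ZMod n))) ⟶ (EtCoh.Gm S).obj where
  app U := AddCommGrpCat.ofHom (AddEquiv.ulift.symm.toAddMonoidHom.comp
    ((resU S U.unop).toAdditive.comp
      ((zp S n ζu hζn).comp AddEquiv.ulift.toAddMonoidHom)))
  naturality U U' k := by
    ext t
    show (ULift.up (Additive.ofMul (resU S U'.unop (Additive.toMul (zp S n ζu hζn t.down)))) :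
        ULift.{u + 1} (Additive (Γ(U'.unop.left, ⊤))ˣ)) =
      (EtCoh.Gm S).obj.map k.unop.op
        (ULift.up (Additive.ofMul (resU S U.unop (Additive.toMul (zp S n ζu hζn t.down)))) :
        ULift.{u + 1} (Additive (Γ(U.unop.left, ⊤))ˣ))
    rw [Gm_map_up, resU_comp]

/-- the value group -/
abbrev M (n : ℕ) : AddCommGrpCat.{u + 1} := AddCommGrpCat.of (ULift.{u + 1} (ZMod n))

lemma φ₀_app (U : S.Etale) (t : M.{u} n) :
    (φ₀ S n ζu hζn).app (op U) t =
      (ULift.up (Additive.ofMul (resU S U (Additive.toMul (zp S n ζu hζn t.down)))) :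
        ULift.{u + 1} (Additive (Γ(U.left, ⊤))ˣ)) := rfl

/-- the map from the constant sheaf to `G_m` -/
noncomputable def θ : cS S (M.{u} n) ⟶ EtCoh.Gm S :=
  ObjectProperty.homMk (sheafifyLift S.smallEtaleTopology (φ₀ S n ζu hζn) (EtCoh.Gm S).property)

lemma η_θ : η S (M.{u} n) ≫ (θ S n ζu hζn).hom = φ₀ S n ζu hζn :=
  toSheafify_sheafifyLift _ _ _

lemma θ_η (U : S.Etale) (t : M.{u} n) :
    (θ S n ζu hζn).hom.app (op U) ((η S (M.{u} n)).app (op U) t) = (φ₀ S n ζu hζn).app (op U) t := by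
  have := ConcreteCategory.congr_hom (congrArg (fun q => q.app (op U)) (η_θ S n ζu hζn)) t
  exact this

set_option backward.isDefEq.respectTransparency.types false in
lemma θ_powMap : θ S n ζu hζn ≫ EtCoh.powMap S n = 0 := by
  apply Sheaf.hom_ext
  apply sheafify_hom_ext _ _ _ (EtCoh.Gm S).property
  show η S (M.{u} n) ≫ (θ S n ζu hζn).hom ≫ (EtCoh.powMap S n).hom = η S (M.{u} n) ≫ 0
  rw [← Category.assoc, η_θ, Limits.comp_zero]
  ext U t
  show n • ((φ₀ S n ζu hζn).app U t) = 0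
  rw [← map_nsmul]
  have h0 : n • t = 0 := by
    apply ULift.ext
    show n • t.down = 0
    rw [nsmul_eq_mul, ZMod.natCast_self, zero_mul]
  rw [h0, map_zero]

lemma mono_sec_injective {Y : Scheme.{u}} {A B : EtCoh.Ab Y} (φ : A ⟶ B) [Mono φ] (W : Y.Etale) :
    Function.Injective (φ.hom.app (op W)) := by
  have : Mono ((Groth.Agent.Helper4.LcExtA.Gs W).map φ) := inferInstance
  exact (AddCommGrpCat.mono_iff_injective _).1 this

section main

variable (hn1 : 1 ≤ n) (hunit : IsUnit (n : Γ(S, ⊤)))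
  (hζ : aeval (ζu : Γ(S, ⊤)) (cyclotomic n ℤ) = 0)

include hn1 hunit hζ in
lemma φ₀_injective (U : S.Etale) (x₀ : U.left) (t : M.{u} n)
    (h : (φ₀ S n ζu hζn).app (op U) t = 0) : t = 0 := by
  haveI : NeZero n := ⟨by omega⟩
  rw [φ₀_app] at h
  have h1 : resU S U (Additive.toMul (zp S n ζu hζn t.down)) = 1 := by
    have := congrArg (fun q => Additive.toMul (ULift.down q)) h
    exact this
  have h2 : t.down = ((t.down.val : ℕ) : ZMod n) := (ZMod.natCast_zmod_val t.down).symm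
  rw [h2, zp_natCast, toMul_ofMul, map_pow] at h1
  have h3 : (U.hom.appTop.hom (ζu : Γ(S, ⊤))) ^ t.down.val = 1 := by
    have := congrArg (fun q : (Γ(U.left, ⊤))ˣ => (q : Γ(U.left, ⊤))) h1
    simpa [resU] using this
  have h4 := dvd_of_pow_eq_one_at n (U.hom.appTop.hom (ζu : Γ(S, ⊤)))
    (isUnit_natCast_appTop U.hom n hunit) (aeval_appTop U.hom n _ hζ) x₀ _ h3
  have h5 : t.down.val = 0 := Nat.eq_zero_of_dvd_of_lt h4 (ZMod.val_lt _)
  apply ULift.ext
  show t.down = 0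
  rw [h2, h5, Nat.cast_zero]

include hn1 hunit hζ in
lemma isLocallyInjective_φ₀ :
    Presheaf.IsLocallyInjective S.smallEtaleTopology (φ₀ S n ζu hζn) where
  equalizerSieve_mem {U} x y h := by
    rw [mem_iff]
    intro x₀
    refine ⟨U.unop, 𝟙 _, x₀, ?_, rfl⟩
    have hxy : x = y := by
      have h1 : (φ₀ S n ζu hζn).app (op U.unop) (x - y) = 0 := by
        rw [map_sub]
        exact sub_eq_zero.2 h
      exact sub_eq_zero.1 (φ₀_injective S n ζu hζn hn1 hunit hζ U.unop x₀ _ h1)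
    rw [hxy]
    rfl

include hn1 hunit hζ in
lemma mono_θ : Mono (θ S n ζu hζn) := by
  haveI := isLocallyInjective_φ₀ S n ζu hζn hn1 hunit hζ
  haveI : Presheaf.IsLocallyInjective S.smallEtaleTopology (θ S n ζu hζn).hom :=
    Presheaf.isLocallyInjective_of_isLocallyInjective_of_isLocallySurjective_fac
      S.smallEtaleTopology (φ₀ S n ζu hζn) (η_θ S n ζu hζn)
  exact Sheaf.mono_of_isLocallyInjective _

/-- the map from the constant sheaf to `μ_n` -/
noncomputable def ψ : cS S (M.{u} n) ⟶ EtCoh.mu S n :=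
  kernel.lift (EtCoh.powMap S n) (θ S n ζu hζn) (θ_powMap S n ζu hζn)

lemma ψ_ι : ψ S n ζu hζn ≫ EtCoh.muι S n = θ S n ζu hζn :=
  kernel.lift_ι _ _ _

instance : Mono (EtCoh.muι S n) := by
  show Mono (kernel.ι (EtCoh.powMap S n))
  infer_instance

lemma ψ_ι_app (W : S.Etale) (t : (cS S (M.{u} n)).obj.obj (op W)) :
    (EtCoh.muι S n).hom.app (op W) ((ψ S n ζu hζn).hom.app (op W) t) =
      (θ S n ζu hζn).hom.app (op W) t := by
  have h1 : (ψ S n ζu hζn ≫ EtCoh.muι S n).hom.app (op W) = (θ S n ζu hζn).hom.app (op W) := by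
    rw [ψ_ι]
  exact ConcreteCategory.congr_hom h1 t

set_option backward.isDefEq.respectTransparency.types false in
lemma ι_powMap_app (W : S.Etale) (s : (EtCoh.mu S n).obj.obj (op W)) :
    n • ((EtCoh.muι S n).hom.app (op W) s) = 0 := by
  have h1 : (EtCoh.muι S n ≫ EtCoh.powMap S n).hom.app (op W) = 0 := by
    show (kernel.ι (EtCoh.powMap S n) ≫ EtCoh.powMap S n).hom.app (op W) = 0
    rw [kernel.condition]
    rfl
  exact ConcreteCategory.congr_hom h1 s

set_option backward.isDefEq.respectTransparency.types false in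
include hn1 hunit hζ in
lemma isLocallySurjective_ψ :
    Presheaf.IsLocallySurjective S.smallEtaleTopology (ψ S n ζu hζn).hom where
  imageSieve_mem {U} s := by
    rw [mem_iff]
    intro x₀
    obtain ⟨u, hu⟩ : ∃ u : (Γ(U.left, ⊤))ˣ, (EtCoh.muι S n).hom.app (op U) s =
        (ULift.up (Additive.ofMul u) : ULift.{u + 1} (Additive (Γ(U.left, ⊤))ˣ)) :=
      ⟨Additive.toMul (ULift.down ((EtCoh.muι S n).hom.app (op U) s)), rfl⟩
    have hun : u ^ n = 1 := by
      have h2 := ι_powMap_app S n U s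
      rw [hu] at h2
      have := congrArg (fun q : ULift.{u + 1} (Additive (Γ(U.left, ⊤))ˣ) =>
        Additive.toMul (ULift.down q)) h2
      exact this
    obtain ⟨W, i, hi, hxW, hW⟩ := exists_open_eq (X := U.left) n hn1
      (U.hom.appTop.hom (ζu : Γ(S, ⊤))) (isUnit_natCast_appTop U.hom n hunit)
      (aeval_appTop U.hom n _ hζ) (u : Γ(U.left, ⊤))
      (by rw [← Units.val_pow_eq_pow_val, hun]; rfl) x₀
    let W' : S.Etale := Scheme.Etale.mk (W.ι ≫ U.hom)
    let k : W' ⟶ U := MorphismProperty.Over.homMk W.ι rfl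
    refine ⟨W', k, ⟨x₀, hxW⟩,
      ⟨(η S (M.{u} n)).app (op W') (ULift.up ((i : ℕ) : ZMod n)), ?_⟩, rfl⟩
    apply mono_sec_injective (EtCoh.muι S n) W'
    rw [ψ_ι_app, θ_η, φ₀_app, hom_map, hu, Gm_map_up]
    congr 2
    apply Units.ext
    show (W.ι ≫ U.hom).appTop.hom
        ((Additive.toMul (zp S n ζu hζn ((i : ℕ) : ZMod n)) : (Γ(S, ⊤))ˣ) : Γ(S, ⊤)) =
      W.ι.appTop.hom (u : Γ(U.left, ⊤))
    rw [hW, zp_natCast, toMul_ofMul, Scheme.Hom.comp_appTop, Units.val_pow_eq_pow_val, map_pow,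
      map_pow]
    rfl

include hn1 hunit hζ in
theorem isIso_ψ : IsIso (ψ S n ζu hζn) := by
  haveI : Mono (ψ S n ζu hζn) := by
    haveI := mono_θ S n ζu hζn hn1 hunit hζ
    exact mono_of_mono_fac (ψ_ι S n ζu hζn)
  haveI := isLocallySurjective_ψ S n ζu hζn hn1 hunit hζ
  haveI : Epi (ψ S n ζu hζn) := Sheaf.epi_of_isLocallySurjective _
  exact isIso_of_mono_of_epi _

end main

end Groth.Agent.Helper4.MuConstC
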