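import Mathlib
import Groth.Prelude.Def_EtBaseX
import Groth.Agent.Helper4.MuConstB

set_option autoImplicit false

/-!
# The étale local ring at a geometric point is a local ring

Scheme version of the development `Helper5/EtSt1` (written there for algebraic spaces).
-/

universe u

open CategoryTheory CategoryTheory.Limits AlgebraicGeometry Opposite

namespace Groth.Agent.Helper4.EtLocRing

set_option backward.isDefEq.respectTransparency false

/-- the value in `K` of a function on `Y` at a `K`-point -/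
noncomputable def evSch {K : Type u} [Field K] {Y : Scheme.{u}} (l : Spec (CommRingCat.of K) ⟶ Y) :
    Γ(Y, ⊤) →+* K :=
  (Scheme.ΓSpecIso (CommRingCat.of K)).hom.hom.comp l.appTop.hom

theorem evSch_comp {K : Type u} [Field K] {Y Z : Scheme.{u}} (l : Spec (CommRingCat.of K) ⟶ Y)
    (g : Y ⟶ Z) (s : Γ(Z, ⊤)) : evSch (l ≫ g) s = evSch l (g.appTop.hom s) := by
  unfold evSch
  rw [Scheme.Hom.comp_appTop]
  rfl

/-- if the value of `s` at the `K`-point is nonzero, the point factors through `D(s)` -/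
theorem range_subset_basicOpen {K : Type u} [Field K] {Y : Scheme.{u}}
    (l : Spec (CommRingCat.of K) ⟶ Y) (s : Γ(Y, ⊤)) (h : evSch l s ≠ 0) :
    Set.range l ⊆ (Y.basicOpen s : Set ↥Y) := by
  have hu : IsUnit (l.appTop.hom s) := by
    have h1 : IsUnit (evSch l s) := isUnit_iff_ne_zero.2 h
    have h2 : IsUnit ((Scheme.ΓSpecIso (CommRingCat.of K)).inv.hom (evSch l s)) :=
      h1.map (Scheme.ΓSpecIso (CommRingCat.of K)).inv.hom
    have h3 : (Scheme.ΓSpecIso (CommRingCat.of K)).inv.hom (evSch l s) = l.appTop.hom s := by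
      unfold evSch
      show ((Scheme.ΓSpecIso (CommRingCat.of K)).hom ≫
        (Scheme.ΓSpecIso (CommRingCat.of K)).inv).hom (l.appTop.hom s) = _
      rw [Iso.hom_inv_id]
      rfl
    rwa [h3] at h2
  rintro _ ⟨x, rfl⟩
  have h4 : l ⁻¹ᵁ Y.basicOpen s = ⊤ := by
    rw [Scheme.preimage_basicOpen_top]
    exact Scheme.basicOpen_of_isUnit _ hu
  have : x ∈ l ⁻¹ᵁ Y.basicOpen s := by rw [h4]; trivial
  exact this

variable {X : Scheme.{u}} {Ω : Type u} [Field Ω] [IsSepClosed Ω]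
  (ξ : Spec (CommRingCat.of Ω) ⟶ X)

/-- the point of the small étale site -/
noncomputable abbrev Φ : X.smallEtaleTopology.Point := Scheme.pointSmallEtale ξ

/-- the étale local ring -/
noncomputable abbrev St : CommRingCat.{u} := EtBase.etaleLocalRing ξ

/-- the morphism to the scheme underlying a lift of the geometric point -/
noncomputable abbrev ptLeft {U : X.Etale} (l : (Φ ξ).fiber.obj U) : Spec (CommRingCat.of Ω) ⟶ U.left :=
  (show Over.mk ξ ⟶ (Scheme.Etale.forget X).obj U from l).left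

/-- the germ maps -/
noncomputable abbrev germ (U : X.Etale) (l : (Φ ξ).fiber.obj U) :
    (EtBase.OO X).obj (op U) ⟶ St ξ :=
  (Φ ξ).toPresheafFiber U l (EtBase.OO X)

/-- evaluation of functions on `U` at a lift -/
noncomputable def evObj (U : X.Etale) (l : (Φ ξ).fiber.obj U) :
    (EtBase.OO X).obj (op U) ⟶ CommRingCat.of Ω :=
  CommRingCat.ofHom (evSch (ptLeft ξ l))

theorem evObj_compat {V U : X.Etale} (f : V ⟶ U) (v : (Φ ξ).fiber.obj V) :
    (EtBase.OO X).map f.op ≫ evObj ξ V v = evObj ξ U ((Φ ξ).fiber.map f v) := by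
  ext s
  show evSch (ptLeft ξ v) (f.left.appTop.hom s) = evSch (ptLeft ξ v ≫ f.left) s
  rw [evSch_comp]

/-- evaluation at the geometric point: `O_{X,ξ} → Ω` -/
noncomputable def ev : ↥(St ξ) →+* Ω :=
  ((Φ ξ).presheafFiberDesc (P := EtBase.OO X) (fun U l => evObj ξ U l)
    (fun _ _ f v => evObj_compat ξ f v)).hom

theorem ev_germ (U : X.Etale) (l : (Φ ξ).fiber.obj U) (s : Γ(U.left, ⊤)) :
    ev ξ ((germ ξ U l).hom s) = evSch (ptLeft ξ l) s := by
  unfold ev
  have h := (Φ ξ).toPresheafFiber_presheafFiberDesc (P := EtBase.OO X)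
    (fun U l => evObj ξ U l) (fun _ _ f v => evObj_compat ξ f v) U l
  have h2 := congrArg (fun m => m.hom s) h
  exact h2

/-- the object of the small étale site given by an étale scheme over an object -/
noncomputable abbrev etObj (U : X.Etale) {V₀ : Scheme.{u}} (π : V₀ ⟶ U.left) [Etale π] : X.Etale :=
  Scheme.Etale.mk (π ≫ U.hom)

noncomputable abbrev etObjHom (U : X.Etale) {V₀ : Scheme.{u}} (π : V₀ ⟶ U.left) [Etale π] :
    etObj U π ⟶ U :=
  MorphismProperty.Over.homMk π rfl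

theorem exists_lift_etObj (U : X.Etale) (l : (Φ ξ).fiber.obj U) {V₀ : Scheme.{u}}
    (π : V₀ ⟶ U.left) [Etale π] (v₀ : Spec (CommRingCat.of Ω) ⟶ V₀) (h : v₀ ≫ π = ptLeft ξ l) :
    ∃ v : (Φ ξ).fiber.obj (etObj U π),
      (Φ ξ).fiber.map (etObjHom U π) v = l ∧ ptLeft ξ v = v₀ := by
  let m : Over.mk ξ ⟶ (Scheme.Etale.forget X).obj (etObj U π) := Over.homMk v₀ (by
    show v₀ ≫ π ≫ U.hom = ξ
    rw [← Category.assoc, h]
    exact Over.w (show Over.mk ξ ⟶ (Scheme.Etale.forget X).obj U from l))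
  refine ⟨m, ?_, rfl⟩
  exact Over.OverMorphism.ext h

/-- a point of `U` landing in an open `O` lifts to the open subobject -/
theorem exists_lift_open (U : X.Etale) (l : (Φ ξ).fiber.obj U) (O : U.left.Opens)
    (h : Set.range (ptLeft ξ l) ⊆ (O : Set ↥U.left)) :
    ∃ l' : (Φ ξ).fiber.obj (etObj U O.ι), (Φ ξ).fiber.map (etObjHom U O.ι) l' = l := by
  have hr : Set.range (ptLeft ξ l) ⊆ Set.range O.ι := by rw [Scheme.Opens.range_ι]; exact h
  let l₀ : Spec (CommRingCat.of Ω) ⟶ O.toScheme := IsOpenImmersion.lift O.ι (ptLeft ξ l) hr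
  have hl₀ : l₀ ≫ O.ι = ptLeft ξ l := IsOpenImmersion.lift_fac _ _ _
  obtain ⟨v, hv, -⟩ := exists_lift_etObj ξ U l O.ι l₀ hl₀
  exact ⟨v, hv⟩

theorem isUnit_of_ev_ne_zero (a : ↥(St ξ)) (h : ev ξ a ≠ 0) : IsUnit a := by
  obtain ⟨U, l, s, rfl⟩ := (Φ ξ).toPresheafFiber_jointly_surjective (P := EtBase.OO X) a
  have h' : evSch (ptLeft ξ l) (show Γ(U.left, ⊤) from s) ≠ 0 := by
    rw [← ev_germ ξ U l s]; exact h
  obtain ⟨l', hl'⟩ := exists_lift_open ξ U l _ (range_subset_basicOpen (ptLeft ξ l) _ h')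
  have hw := (Φ ξ).toPresheafFiber_w_apply
    (etObjHom U (U.left.basicOpen (show Γ(U.left, ⊤) from s)).ι) l' (EtBase.OO X) s
  rw [hl'] at hw
  rw [← hw]
  exact (Groth.Agent.Helper4.MuConstB.isUnit_ι_appTop_basicOpen (show Γ(U.left, ⊤) from s)).map
    ((Φ ξ).toPresheafFiber _ l' (EtBase.OO X)).hom

theorem isUnit_iff_ev_ne_zero (a : ↥(St ξ)) : IsUnit a ↔ ev ξ a ≠ 0 :=
  ⟨fun h => (h.map (ev ξ)).ne_zero, isUnit_of_ev_ne_zero ξ a⟩

theorem isLocalRing_St : IsLocalRing ↥(St ξ) := by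
  have : Nontrivial ↥(St ξ) := (ev ξ).domain_nontrivial
  refine IsLocalRing.of_isUnit_or_isUnit_one_sub_self fun a => ?_
  by_cases h : ev ξ a = 0
  · right
    apply isUnit_of_ev_ne_zero
    rw [map_sub, map_one, h, sub_zero]
    exact one_ne_zero
  · left
    exact isUnit_of_ev_ne_zero ξ a h

theorem mem_maximalIdeal_iff (a : ↥(St ξ)) :
    haveI := isLocalRing_St ξ
    a ∈ IsLocalRing.maximalIdeal ↥(St ξ) ↔ ev ξ a = 0 := by
  haveI := isLocalRing_St ξ
  rw [IsLocalRing.mem_maximalIdeal, mem_nonunits_iff, isUnit_iff_ev_ne_zero, not_not]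

end Groth.Agent.Helper4.EtLocRing
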