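import Mathlib
import Groth.Agent.Helper9.EtStalkExact

set_option autoImplicit false

/-!
# Realising a finite stalk by sections over a neighbourhood
-/

universe u

open CategoryTheory CategoryTheory.Limits Opposite

namespace Groth.Agent.Helper4.StalkFin

open Groth.Agent.Helper9.EtStalkExact

attribute [local instance] preservesFilteredColimits_forget_ab ab5_ab

variable {C : Type*} [Category C] {J : GrothendieckTopology C} [LocallySmall.{u} C]
  (Φ : GrothendieckTopology.Point.{u} J) (P : Cᵒᵖ ⥤ AddCommGrpCat.{u + 1})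

/-- the stalk, as an abelian group -/
noncomputable abbrev St : AddCommGrpCat.{u + 1} :=
  (Φ.presheafFiber (A := AddCommGrpCat.{u + 1})).obj P

/-- common refinement of two neighbourhoods -/
lemma exists_min {V₁ V₂ : C} (v₁ : Φ.fiber.obj V₁) (v₂ : Φ.fiber.obj V₂) :
    ∃ (W : C) (w : Φ.fiber.obj W) (g₁ : W ⟶ V₁) (g₂ : W ⟶ V₂),
      Φ.fiber.map g₁ w = v₁ ∧ Φ.fiber.map g₂ w = v₂ := by
  let e₁ : Φ.fiber.Elements := ⟨V₁, v₁⟩
  let e₂ : Φ.fiber.Elements := ⟨V₂, v₂⟩
  let W := IsCofiltered.min e₁ e₂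
  let g₁ : W ⟶ e₁ := IsCofiltered.minToLeft e₁ e₂
  let g₂ : W ⟶ e₂ := IsCofiltered.minToRight e₁ e₂
  exact ⟨W.1, W.2, g₁.1, g₂.1, g₁.2, g₂.2⟩

/-- finitely many germs are realised over a common neighbourhood -/
theorem exists_nbhd_of_finset (T : Finset ↥(St Φ P)) :
    ∃ (V : C) (v : Φ.fiber.obj V),
      (T : Set ↥(St Φ P)) ⊆ Set.range (Φ.toPresheafFiber V v P) := by
  classical
  induction T using Finset.induction_on with
  | empty =>
    obtain ⟨⟨U, l⟩⟩ := IsCofiltered.nonempty (C := Φ.fiber.Elements)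
    exact ⟨U, l, by simp⟩
  | insert r T _ ih =>
    obtain ⟨U, l, hT⟩ := ih
    obtain ⟨U', l', s', hs'⟩ := Φ.toPresheafFiber_jointly_surjective (P := P) r
    obtain ⟨W, w, g₁, g₂, h₁, h₂⟩ := exists_min Φ l l'
    refine ⟨W, w, ?_⟩
    rw [Finset.coe_insert, Set.insert_subset_iff]
    constructor
    · refine ⟨P.map g₂.op s', ?_⟩
      rw [Φ.toPresheafFiber_w_apply g₂ w P s', h₂, hs']
    · intro t ht
      obtain ⟨s, rfl⟩ := hT ht
      refine ⟨P.map g₁.op s, ?_⟩
      rw [Φ.toPresheafFiber_w_apply g₁ w P s, h₁]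

/-- finitely many equalities of germs hold over a common smaller neighbourhood -/
theorem exists_nbhd_eq {I : Type*} [Finite I] {V : C} (v : Φ.fiber.obj V)
    (a b : I → P.obj (op V))
    (h : ∀ i, Φ.toPresheafFiber V v P (a i) = Φ.toPresheafFiber V v P (b i)) :
    ∃ (W : C) (w : Φ.fiber.obj W) (g : W ⟶ V), Φ.fiber.map g w = v ∧
      ∀ i, P.map g.op (a i) = P.map g.op (b i) := by
  classical
  suffices H : ∀ S : Finset I, ∃ (W : C) (w : Φ.fiber.obj W) (g : W ⟶ V), Φ.fiber.map g w = v ∧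
      ∀ i ∈ S, P.map g.op (a i) = P.map g.op (b i) by
    haveI := Fintype.ofFinite I
    obtain ⟨W, w, g, hg, hS⟩ := H Finset.univ
    exact ⟨W, w, g, hg, fun i => hS i (Finset.mem_univ i)⟩
  intro S
  induction S using Finset.induction_on with
  | empty => exact ⟨V, v, 𝟙 V, by simp, by simp⟩
  | insert i S _ ih =>
    obtain ⟨W, w, g, hg, hS⟩ := ih
    obtain ⟨Y, f, y, hy, hf⟩ := (Φ.toPresheafFiber_eq_iff' V v (a i) (b i)).1 (h i)
    obtain ⟨Z, z, k₁, k₂, hk₁, hk₂⟩ := exists_min Φ w y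
    -- two maps `Z ⟶ V`, equalise them
    let e₁ : Φ.fiber.Elements := ⟨Z, z⟩
    let e₀ : Φ.fiber.Elements := ⟨V, v⟩
    let m₁ : e₁ ⟶ e₀ := ⟨k₁ ≫ g, by
      show Φ.fiber.map (k₁ ≫ g) z = v
      rw [Functor.map_comp]
      show Φ.fiber.map g (Φ.fiber.map k₁ z) = v
      rw [hk₁, hg]⟩
    let m₂ : e₁ ⟶ e₀ := ⟨k₂ ≫ f, by
      show Φ.fiber.map (k₂ ≫ f) z = v
      rw [Functor.map_comp]
      show Φ.fiber.map f (Φ.fiber.map k₂ z) = v
      rw [hk₂, hy]⟩
    let E := IsCofiltered.eq m₁ m₂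
    let q : E ⟶ e₁ := IsCofiltered.eqHom m₁ m₂
    have hq : q ≫ m₁ = q ≫ m₂ := IsCofiltered.eq_condition m₁ m₂
    have hq' : q.1 ≫ k₁ ≫ g = q.1 ≫ k₂ ≫ f := congrArg Subtype.val hq
    refine ⟨E.1, E.2, q.1 ≫ k₁ ≫ g, ?_, ?_⟩
    · exact (q ≫ m₁).2
    · intro i' hi'
      rw [Finset.mem_insert] at hi'
      rcases hi' with rfl | hi'
      · rw [hq', op_comp, op_comp, Functor.map_comp, Functor.map_comp,
          ConcreteCategory.comp_apply, ConcreteCategory.comp_apply, ConcreteCategory.comp_apply,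
          ConcreteCategory.comp_apply, hf]
      · rw [op_comp, op_comp, Functor.map_comp, Functor.map_comp,
          ConcreteCategory.comp_apply, ConcreteCategory.comp_apply, ConcreteCategory.comp_apply,
          ConcreteCategory.comp_apply, hS i' hi']

/-- a finite stalk is realised by a group of sections over some neighbourhood -/
theorem exists_section_hom [Finite ↥(St Φ P)] :
    ∃ (V : C) (v : Φ.fiber.obj V) (σ : ↥(St Φ P) →+ ↥(P.obj (op V))),
      ∀ γ, Φ.toPresheafFiber V v P (σ γ) = γ := by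
  classical
  haveI := Fintype.ofFinite ↥(St Φ P)
  obtain ⟨V₁, v₁, h₁⟩ := exists_nbhd_of_finset Φ P Finset.univ
  have h₁' : ∀ γ : ↥(St Φ P), ∃ s, Φ.toPresheafFiber V₁ v₁ P s = γ := fun γ =>
    h₁ (Finset.mem_coe.2 (Finset.mem_univ γ))
  choose s hs using h₁'
  obtain ⟨W, w, g, hg, hadd⟩ := exists_nbhd_eq Φ P v₁
    (fun p : ↥(St Φ P) × ↥(St Φ P) => s (p.1 + p.2))
    (fun p => s p.1 + s p.2) (fun p => by
      rw [map_add, hs, hs, hs])
  refine ⟨W, w, AddMonoidHom.mk' (fun γ => P.map g.op (s γ)) (fun γ γ' => ?_), fun γ => ?_⟩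
  · have := hadd (γ, γ')
    simp only at this
    rw [this, map_add]
  · show Φ.toPresheafFiber W w P (P.map g.op (s γ)) = γ
    rw [Φ.toPresheafFiber_w_apply g w P (s γ), hg, hs]

end Groth.Agent.Helper4.StalkFin
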