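import Mathlib
import Groth.Prelude.Def_PBC
import Groth.Agent.Helper4.StalkFin
import Groth.Agent.Helper4.LcExtB
import Groth.Agent.Helper4.SuppA

set_option autoImplicit false

/-!
# A sheaf with a finite group of global sections mapping bijectively to the stalks is constant
-/

universe u

open CategoryTheory CategoryTheory.Limits AlgebraicGeometry Opposite

namespace Groth.Agent.Helper4.StalkFinB

open Groth.Agent.Helper4.ConstLoc Groth.Agent.Helper4.EtGeom Groth.Agent.Helper4.LcExtB
open Groth.Agent.Helper9.EtStalkExact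

attribute [local instance] preservesFilteredColimits_forget_ab ab5_ab

variable {U : Scheme.{u}}

/-- the morphism to the terminal object -/
noncomputable def toTop (W : U.Etale) : W ⟶ EtCoh.top U := (EtCore.topIsTerminal U).from W

lemma comp_toTop {W W' : U.Etale} (k : W' ⟶ W) : k ≫ toTop W = toTop W' :=
  (EtCore.topIsTerminal U).hom_ext _ _

lemma eq_toTop {W : U.Etale} (g : W ⟶ EtCoh.top U) : g = toTop W :=
  (EtCore.topIsTerminal U).hom_ext _ _

variable (R : EtCoh.Ab U) (N : AddCommGrpCat.{u + 1}) (σ : N →+ R.obj.obj (op (EtCoh.top U)))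

/-- the map from the constant presheaf given by a group of global sections -/
noncomputable def φ : P U N ⟶ R.obj where
  app W := AddCommGrpCat.ofHom ((R.obj.map (toTop W.unop).op).hom.comp σ)
  naturality W W' k := by
    ext t
    show R.obj.map (toTop W'.unop).op (σ t) = R.obj.map k (R.obj.map (toTop W.unop).op (σ t))
    rw [← ConcreteCategory.comp_apply, ← Functor.map_comp]
    have : (toTop W.unop).op ≫ k = (toTop W'.unop).op := by
      rw [← comp_toTop k.unop]
      rfl
    rw [this]

lemma φ_app (W : U.Etale) (t : N) : (φ R N σ).app (op W) t = R.obj.map (toTop W).op (σ t) := rfl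

variable (hinj : ∀ (W : U.Etale) (_ : W.left) (γ : N), R.obj.map (toTop W).op (σ γ) = 0 → γ = 0)

include hinj in
lemma isLocallyInjective_φ : Presheaf.IsLocallyInjective U.smallEtaleTopology (φ R N σ) where
  equalizerSieve_mem {W} x y h := by
    rw [mem_iff]
    intro x₀
    refine ⟨W.unop, 𝟙 _, x₀, ?_, rfl⟩
    have hxy : x = y := by
      have h1 : R.obj.map (toTop W.unop).op (σ (x - y)) = 0 := by
        have h2 : R.obj.map (toTop W.unop).op (σ x) = R.obj.map (toTop W.unop).op (σ y) := h
        rw [map_sub, map_sub, h2, sub_self]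
      exact sub_eq_zero.1 (hinj W.unop x₀ (x - y) h1)
    rw [hxy]
    rfl

variable [Finite N]
  (hcard : ∀ x : U, ∃ (Ω : Type u) (_ : Field Ω) (_ : IsSepClosed Ω)
    (ξ : Spec (CommRingCat.of Ω) ⟶ U), ξ default = x ∧ Finite ((EtCoh.stalk ξ).obj R) ∧
      Nat.card ((EtCoh.stalk ξ).obj R) ≤ Nat.card N)

include hinj hcard in
lemma isLocallySurjective_φ : Presheaf.IsLocallySurjective U.smallEtaleTopology (φ R N σ) where
  imageSieve_mem {W} e := by
    rw [mem_iff]
    intro x₀
    obtain ⟨Ω, _, _, ξ, hξ, hfin, hle⟩ := hcard (W.hom x₀)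
    obtain ⟨l, hl, hl₀⟩ := Scheme.exists_fac_of_etale_of_isSepClosed W.hom ξ x₀ hξ.symm
    let Φ := Scheme.pointSmallEtale ξ
    let y : Φ.fiber.obj W := Over.homMk l hl
    let y₀ : Φ.fiber.obj (EtCoh.top U) := Φ.fiber.map (toTop W) y
    let τ : N →+ ↥((EtCoh.stalk ξ).obj R) :=
      (Φ.toPresheafFiber (EtCoh.top U) y₀ R.obj).hom.comp σ
    have hτ : Function.Injective τ := by
      rw [injective_iff_map_eq_zero]
      intro γ hγ
      have h1 : Φ.toPresheafFiber (EtCoh.top U) y₀ R.obj (σ γ) =
          Φ.toPresheafFiber (EtCoh.top U) y₀ R.obj 0 := by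
        rw [map_zero]
        exact hγ
      obtain ⟨Y, f, y', -, hf⟩ := (Φ.toPresheafFiber_eq_iff' (EtCoh.top U) y₀ _ _).1 h1
      rw [map_zero, eq_toTop f] at hf
      exact hinj Y ((show Spec (CommRingCat.of Ω) ⟶ Y.left from y'.left) default) γ hf
    have hbij : Function.Bijective τ := hτ.bijective_of_nat_card_le hle
    obtain ⟨γ, hγ⟩ := hbij.2 (Φ.toPresheafFiber W y R.obj e)
    have h2 : Φ.toPresheafFiber W y R.obj ((φ R N σ).app (op W) γ) =
        Φ.toPresheafFiber W y R.obj e := by
      rw [φ_app, Φ.toPresheafFiber_w_apply (toTop W) y R.obj (σ γ)]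
      exact hγ
    obtain ⟨W₂, f₂, y₂, hy₂, hf₂⟩ := (Φ.toPresheafFiber_eq_iff' W y _ _).1 h2
    refine ⟨W₂, f₂, (show Spec (CommRingCat.of Ω) ⟶ W₂.left from y₂.left) default, ⟨γ, ?_⟩, ?_⟩
    · rw [← hf₂, φ_app, φ_app, ← ConcreteCategory.comp_apply, ← Functor.map_comp, ← op_comp,
        comp_toTop]
    · have h3 : (show Spec (CommRingCat.of Ω) ⟶ W₂.left from y₂.left) ≫ f₂.left = l :=
        congrArg (fun m : Over.mk ξ ⟶ (Scheme.Etale.forget U).obj W => m.left) hy₂
      rw [← hl₀, ← h3]
      rfl

include hinj hcard in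
/-- a sheaf is constant if a finite group of global sections is injective on every nonempty étale
scheme and the stalks are not bigger than the group -/
theorem nonempty_iso_const : Nonempty (cS U N ≅ R) := by
  haveI := isLocallyInjective_φ R N σ hinj
  haveI := isLocallySurjective_φ R N σ hinj hcard
  exact ⟨isoOfLocallyBijective N R (φ R N σ)⟩

end Groth.Agent.Helper4.StalkFinB
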