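import Mathlib
import Groth.Prelude.Def_PBC
import Groth.Agent.Helper4.StalkFinB
import Groth.Agent.Helper4.EtLocRingA
import Groth.Agent.Helper4.SchLQF
import Groth.Agent.Helper4.LcPoint
import Groth.Agent.Helper9.EtShriekOpen
import Groth.Agent.Helper9.EtStalkPull

set_option autoImplicit false

/-!
# A sheaf with finite stalks of generically constant cardinality is generically finite locally
constant
-/

universe u

open CategoryTheory CategoryTheory.Limits AlgebraicGeometry Opposite Topology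

namespace Groth.Agent.Helper4.StalkFinC

open Groth.Agent.Helper4.ConstLoc Groth.Agent.Helper4.EtGeom Groth.Agent.Helper4.LcExtB
open Groth.Agent.Helper4.StalkFin Groth.Agent.Helper4.StalkFinB Groth.Agent.Helper4.EtLocRing
open Groth.Agent.Helper4.LcPoint Groth.Agent.Helper4.FlcPull Groth.Agent.Helper4.OverEtC
open Groth.Agent.Helper9.EtStalkExact Groth.Agent.Helper9.EtStalkPull

attribute [local instance] preservesFilteredColimits_forget_ab ab5_ab

/-- a point of an étale scheme is isolated in its fibre -/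
lemma exists_open_fibre {V Y : Scheme.{u}} (f : V ⟶ Y) [Etale f] (v₀ : V) :
    ∃ O : V.Opens, v₀ ∈ O ∧ ∀ p ∈ O, f p = f v₀ → p = v₀ := by
  haveI : LocallyQuasiFinite f := Groth.Agent.Helper4.SchLQF.locallyQuasiFinite_of_etale f
  haveI hd := (f.isDiscrete_preimage_singleton (f v₀)).to_subtype
  have hopen : IsOpen ({⟨v₀, rfl⟩} : Set ↥(f ⁻¹' {f v₀})) := isOpen_discrete _
  obtain ⟨O, hO, hOs⟩ := isOpen_induced_iff.1 hopen
  refine ⟨⟨O, hO⟩, ?_, ?_⟩
  · have : (⟨v₀, rfl⟩ : ↥(f ⁻¹' {f v₀})) ∈ Subtype.val ⁻¹' O := by rw [hOs]; rfl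
    exact this
  · intro p hp hfp
    have : (⟨p, hfp⟩ : ↥(f ⁻¹' {f v₀})) ∈ Subtype.val ⁻¹' O := hp
    rw [hOs] at this
    exact congrArg Subtype.val this

/-- a sheaf on `Y` becomes constant over an étale `U → Y` if a finite group of sections over `U`
is injective on every nonempty étale `U`-scheme and the stalks are not bigger -/
theorem pull_iso_const {U Y : Scheme.{u}} (j : U ⟶ Y) [Etale j] (G : EtCoh.Ab Y)
    (N : AddCommGrpCat.{u + 1}) [Finite N]
    (σ₁ : N →+ G.obj.obj (op (Scheme.Etale.mk j)))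
    (hinj : ∀ (W : U.Etale) (_ : W.left) (γ : N), G.obj.map (toV j W).op (σ₁ γ) = 0 → γ = 0)
    (hcard : ∀ x : U, ∃ (Ω' : Type u) (_ : Field Ω') (_ : IsSepClosed Ω')
      (ξ' : Spec (CommRingCat.of Ω') ⟶ Y), ξ' default = j x ∧ Finite ((EtCoh.stalk ξ').obj G) ∧
        Nat.card ((EtCoh.stalk ξ').obj G) ≤ Nat.card N) :
    Nonempty ((EtCoh.pull j).obj G ≅ cS U N) := by
  let R := (EtShriek.restrAlong j).obj G
  let σ : N →+ R.obj.obj (op (EtCoh.top U)) :=
    (G.obj.map (toV j (EtCoh.top U)).op).hom.comp σ₁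
  have hσ : ∀ (W : U.Etale) (γ : N),
      R.obj.map (toTop W).op (σ γ) = G.obj.map (toV j W).op (σ₁ γ) := by
    intro W γ
    exact res_res j G (toTop W) (σ₁ γ)
  have h1 := nonempty_iso_const R N σ
    (fun W x₀ γ h => hinj W x₀ γ ((hσ W γ).symm.trans h)) (by
    intro x
    obtain ⟨Ω', _, _, ξ', hξ', hfin, hle⟩ := hcard x
    obtain ⟨u, hu, hu₀⟩ := Scheme.exists_fac_of_etale_of_isSepClosed j ξ' x hξ'.symm
    have e : (EtCoh.stalk u).obj R ≅ (EtCoh.stalk ξ').obj G := by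
      subst hu
      exact (EtCoh.stalk u).mapIso
        ((Groth.Agent.Helper9.EtShriekOpen.pullIsoRestr j).app G).symm ≪≫ (stalkPullIso j u).app G
    refine ⟨Ω', inferInstance, inferInstance, u, hu₀, ?_, ?_⟩
    · exact Finite.of_equiv _ e.addCommGroupIsoToAddEquiv.symm.toEquiv
    · rw [Nat.card_congr e.addCommGroupIsoToAddEquiv.toEquiv]
      exact hle)
  obtain ⟨e⟩ := h1
  exact ⟨(Groth.Agent.Helper9.EtShriekOpen.pullIsoRestr j).app G ≪≫ e.symm⟩

/-- a sheaf with finite stalk at a geometric generic point, whose stalks near the generic point are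
not bigger, is finite locally constant on an open neighbourhood of the generic point -/
theorem exists_open_flc {Y : Scheme.{u}} (G : EtCoh.Ab Y) (z₀ : Y)
    (hz₀ : IsGenericPoint z₀ (⊤ : Set Y)) {Ω : Type u} [Field Ω] [IsSepClosed Ω]
    (ζ : Spec (CommRingCat.of Ω) ⟶ Y) (hζ : ζ default = z₀)
    [hfin : Finite ((EtCoh.stalk ζ).obj G)] (O₁ : Y.Opens) (hO₁ : z₀ ∈ O₁)
    (hcard : ∀ z ∈ O₁, ∃ (Ω' : Type u) (_ : Field Ω') (_ : IsSepClosed Ω')
      (ξ' : Spec (CommRingCat.of Ω') ⟶ Y), ξ' default = z ∧ Finite ((EtCoh.stalk ξ').obj G) ∧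
        Nat.card ((EtCoh.stalk ξ').obj G) ≤ Nat.card ((EtCoh.stalk ζ).obj G)) :
    ∃ W₀ : Y.Opens, z₀ ∈ W₀ ∧ EtCoh.IsFiniteLocallyConstant ((EtCoh.pull W₀.ι).obj G) := by
  let N : AddCommGrpCat.{u + 1} := (EtCoh.stalk ζ).obj G
  haveI : Finite ↥(St (Φ ζ) G.obj) := hfin
  -- sections realising the stalk
  obtain ⟨V, v, σ₀, hσ₀⟩ := exists_section_hom (Φ ζ) G.obj
  let v₀ : V.left := (ptLeft ζ v) default
  have hv₀ : V.hom v₀ = z₀ := by
    have h1 : ptLeft ζ v ≫ V.hom = ζ :=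
      Over.w (show Over.mk ζ ⟶ (Scheme.Etale.forget Y).obj V from v)
    have h2 : (ptLeft ζ v ≫ V.hom) default = ζ default := by rw [h1]
    exact h2.trans hζ
  -- isolate `v₀` in its fibre and restrict to `O₁`
  obtain ⟨O, hvO, hO⟩ := exists_open_fibre V.hom v₀
  let O₂ : V.left.Opens := O ⊓ V.hom ⁻¹ᵁ O₁
  have hvO₂ : v₀ ∈ O₂ := ⟨hvO, by show V.hom v₀ ∈ O₁; rw [hv₀]; exact hO₁⟩
  have hr : Set.range (ptLeft ζ v) ⊆ (O₂ : Set ↥V.left) := by
    rintro _ ⟨x, rfl⟩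
    rw [Subsingleton.elim x default]
    exact hvO₂
  obtain ⟨v', hv'⟩ := exists_lift_open ζ V v O₂ hr
  let j : (O₂ : Scheme.{u}) ⟶ Y := O₂.ι ≫ V.hom
  let σ₁ : N →+ G.obj.obj (op (Scheme.Etale.mk j)) :=
    (G.obj.map (etObjHom V O₂.ι).op).hom.comp σ₀
  have hσ₁ : ∀ γ : N, (Φ ζ).toPresheafFiber (Scheme.Etale.mk j) v' G.obj (σ₁ γ) = γ := by
    intro γ
    have := (Φ ζ).toPresheafFiber_w_apply (etObjHom V O₂.ι) v' G.obj (σ₀ γ)
    rw [hv'] at this
    exact this.trans (hσ₀ γ)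
  have hpt : ∀ p : (O₂ : Scheme.{u}), j p = z₀ → p = ⟨v₀, hvO₂⟩ := by
    intro p hp
    apply Subtype.ext
    exact hO p.1 p.2.1 (hp.trans hv₀.symm)
  have hv'₀ : (ptLeft ζ v') default = (⟨v₀, hvO₂⟩ : (O₂ : Scheme.{u})) := by
    apply hpt
    have h1 : ptLeft ζ v' ≫ j = ζ :=
      Over.w (show Over.mk ζ ⟶ (Scheme.Etale.forget Y).obj (Scheme.Etale.mk j) from v')
    have h2 : (ptLeft ζ v' ≫ j) default = ζ default := by rw [h1]
    exact h2.trans hζ
  -- the constancy over `O₂`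
  have hconst : Nonempty ((EtCoh.pull j).obj G ≅ cS (O₂ : Scheme.{u}) N) := by
    refine pull_iso_const j G N σ₁ ?_ ?_
    · intro W x₀ γ hγ
      -- a point of `W` over the generic point
      have hopen : IsOpen (Set.range (W.hom ≫ j)) := (W.hom ≫ j).isOpenMap.isOpen_range
      have hgen : z₀ ∈ Set.range (W.hom ≫ j) := by
        rw [hz₀.mem_open_set_iff hopen]
        exact ⟨(W.hom ≫ j) x₀, Set.mem_univ _, ⟨x₀, rfl⟩⟩
      obtain ⟨w, hw⟩ := hgen
      have hw' : W.hom w = (ptLeft ζ v') default := by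
        rw [hv'₀]
        exact hpt _ hw
      obtain ⟨l, hl, -⟩ := Scheme.exists_fac_of_etale_of_isSepClosed W.hom (ptLeft ζ v') w hw'
      have hl' : l ≫ ((EtShriek.compEtale j).obj W).hom = ζ := by
        show l ≫ W.hom ≫ j = ζ
        rw [← Category.assoc, hl]
        exact Over.w (show Over.mk ζ ⟶ (Scheme.Etale.forget Y).obj (Scheme.Etale.mk j) from v')
      let y' : (Φ ζ).fiber.obj ((EtShriek.compEtale j).obj W) := Over.homMk l hl'
      have hy' : (Φ ζ).fiber.map (toV j W) y' = v' := Over.OverMorphism.ext hl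
      have h1 := (Φ ζ).toPresheafFiber_w_apply (toV j W) y' G.obj (σ₁ γ)
      rw [hy', hσ₁, hγ, map_zero] at h1
      exact h1.symm
    · intro x
      exact hcard (j x) x.2.2
  obtain ⟨econst⟩ := hconst
  -- the open image
  let W₀ : Y.Opens := ⟨Set.range j, j.isOpenMap.isOpen_range⟩
  have hjW : Set.range j ⊆ Set.range W₀.ι := by
    rw [Scheme.Opens.range_ι]
    exact subset_rfl
  let j' : (O₂ : Scheme.{u}) ⟶ (W₀ : Scheme.{u}) := IsOpenImmersion.lift W₀.ι j hjW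
  have hj' : j' ≫ W₀.ι = j := IsOpenImmersion.lift_fac _ _ _
  haveI : Etale (j' ≫ W₀.ι) := by rw [hj']; infer_instance
  haveI : Etale j' := Etale.of_comp j' W₀.ι
  refine ⟨W₀, ⟨⟨v₀, hvO₂⟩, hv₀⟩, ?_⟩
  rw [flc_iff_forall_LC]
  intro t
  obtain ⟨p, hp⟩ : ∃ p, j p = t.1 := t.2
  refine ⟨Scheme.Etale.mk j', p, ?_, N, hfin, ⟨?_⟩⟩
  · apply Subtype.ext
    have : (j' ≫ W₀.ι) p = t.1 := by rw [hj']; exact hp
    exact this
  · exact pullCompObj j' W₀.ι G ≪≫ (EtCore.pullCongr hj').app G ≪≫ econst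

end Groth.Agent.Helper4.StalkFinC
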