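import Mathlib
import Groth.Prelude.Def_PBC
import Groth.Agent.Helper4.StalkFinC
import Groth.Agent.Helper4.MuConstC

set_option autoImplicit false

/-!
# Stalks of subsheaves of constant sheaves: specialization
-/

universe u

open CategoryTheory CategoryTheory.Limits AlgebraicGeometry Opposite Topology

namespace Groth.Agent.Helper4.SubConst

open Groth.Agent.Helper4.ConstLoc Groth.Agent.Helper4.EtGeom
open Groth.Agent.Helper4.StalkFin Groth.Agent.Helper4.EtLocRing
open Groth.Agent.Helper9.EtStalkExact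

attribute [local instance] preservesFilteredColimits_forget_ab ab5_ab

variable {Y : Scheme.{u}} {Ω : Type u} [Field Ω] [IsSepClosed Ω]

/-- lifting a geometric point along a morphism of étale schemes, through a prescribed point -/
theorem exists_lift_hom (ξ : Spec (CommRingCat.of Ω) ⟶ Y) {W W' : Y.Etale} (g : W' ⟶ W)
    (l : (Φ ξ).fiber.obj W) (x' : W'.left) (hx : g.left x' = (ptLeft ξ l) default) :
    ∃ l' : (Φ ξ).fiber.obj W', (Φ ξ).fiber.map g l' = l ∧ (ptLeft ξ l') default = x' := by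
  have hw : g.left ≫ W.hom = W'.hom := MorphismProperty.Over.w g
  haveI : Etale (g.left ≫ W.hom) := by rw [hw]; infer_instance
  haveI : Etale g.left := Etale.of_comp g.left W.hom
  obtain ⟨l₀, hl₀, hl₀'⟩ := Scheme.exists_fac_of_etale_of_isSepClosed g.left (ptLeft ξ l) x' hx
  have hl : ptLeft ξ l ≫ W.hom = ξ :=
    Over.w (show Over.mk ξ ⟶ (Scheme.Etale.forget Y).obj W from l)
  refine ⟨Over.homMk l₀ ?_, ?_, hl₀'⟩
  · show l₀ ≫ W'.hom = ξ
    rw [← hw, ← Category.assoc, hl₀, hl]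
  · exact Over.OverMorphism.ext hl₀

/-- lifting a geometric point to an étale scheme through a prescribed point -/
theorem exists_fiber_pt (ξ : Spec (CommRingCat.of Ω) ⟶ Y) (W : Y.Etale) (p : W.left)
    (hp : W.hom p = ξ default) : ∃ l : (Φ ξ).fiber.obj W, (ptLeft ξ l) default = p := by
  obtain ⟨l₀, hl₀, hl₀'⟩ := Scheme.exists_fac_of_etale_of_isSepClosed W.hom ξ p hp
  exact ⟨Over.homMk l₀ hl₀, hl₀'⟩

lemma hom_ptLeft (ξ : Spec (CommRingCat.of Ω) ⟶ Y) {W : Y.Etale} (l : (Φ ξ).fiber.obj W) :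
    W.hom ((ptLeft ξ l) default) = ξ default := by
  have hl : ptLeft ξ l ≫ W.hom = ξ :=
    Over.w (show Over.mk ξ ⟶ (Scheme.Etale.forget Y).obj W from l)
  have h2 : (ptLeft ξ l ≫ W.hom) default = ξ default := by rw [hl]
  exact h2

variable {K : EtCoh.Ab Y} {M : AddCommGrpCat.{u + 1}} (b : K ⟶ cS Y M)

/-- every germ of a sheaf mapping to a constant sheaf is represented by a section mapping to a
constant -/
theorem exists_rep (ξ : Spec (CommRingCat.of Ω) ⟶ Y) (γ : ↥(St (Φ ξ) K.obj)) :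
    ∃ (W : Y.Etale) (w : (Φ ξ).fiber.obj W) (s : K.obj.obj (op W)) (m : M),
      (Φ ξ).toPresheafFiber W w K.obj s = γ ∧ b.hom.app (op W) s = (η Y M).app (op W) m := by
  obtain ⟨W₀, w₀, s₀, rfl⟩ := (Φ ξ).toPresheafFiber_jointly_surjective (P := K.obj) γ
  obtain ⟨W', g, x', m, hx', hm⟩ := exists_const M W₀ (b.hom.app (op W₀) s₀)
    ((ptLeft ξ w₀) default)
  obtain ⟨w', hw', -⟩ := exists_lift_hom ξ g w₀ x' hx'
  refine ⟨W', w', K.obj.map g.op s₀, m, ?_, ?_⟩
  · have := (Φ ξ).toPresheafFiber_w_apply g w' K.obj s₀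
    rw [hw'] at this
    exact this
  · rw [hom_map, hm]

variable {Ω' : Type u} [Field Ω'] [IsSepClosed Ω']

/-- for a subsheaf of a constant sheaf, the stalk at a specialization embeds into the stalk at a
generization -/
theorem exists_injective_stalk [Mono b] (ξ : Spec (CommRingCat.of Ω) ⟶ Y)
    (ζ : Spec (CommRingCat.of Ω') ⟶ Y) (h : ζ default ⤳ ξ default) :
    ∃ f : ↥(St (Φ ξ) K.obj) → ↥(St (Φ ζ) K.obj), Function.Injective f := by
  choose W w s m hγ hm using exists_rep b ξ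
  have hz : ∀ γ, ∃ z : (Φ ζ).fiber.obj (W γ), True := by
    intro γ
    have hopen : IsOpen (Set.range (W γ).hom) := (W γ).hom.isOpenMap.isOpen_range
    have h1 : ξ default ∈ Set.range (W γ).hom := ⟨_, hom_ptLeft ξ (w γ)⟩
    obtain ⟨p, hp⟩ := h.mem_open hopen h1
    obtain ⟨l, -⟩ := exists_fiber_pt ζ (W γ) p hp
    exact ⟨l, trivial⟩
  choose z _ using hz
  refine ⟨fun γ => (Φ ζ).toPresheafFiber (W γ) (z γ) K.obj (s γ), ?_⟩
  intro γ γ' hγγ'
  -- compare the constants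
  have hmm : m γ = m γ' := by
    obtain ⟨W₂, w₂, g₁, g₂, hg₁, hg₂⟩ := exists_min (Φ ζ) (z γ) (z γ')
    have e1 := (Φ ζ).toPresheafFiber_w_apply g₁ w₂ K.obj (s γ)
    have e2 := (Φ ζ).toPresheafFiber_w_apply g₂ w₂ K.obj (s γ')
    rw [hg₁] at e1
    rw [hg₂] at e2
    have e3 : (Φ ζ).toPresheafFiber W₂ w₂ K.obj (K.obj.map g₁.op (s γ)) =
        (Φ ζ).toPresheafFiber W₂ w₂ K.obj (K.obj.map g₂.op (s γ')) := by
      rw [e1, e2]
      exact hγγ'
    obtain ⟨W₃, k, w₃, -, hk⟩ := ((Φ ζ).toPresheafFiber_eq_iff' W₂ w₂ _ _).1 e3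
    apply const_injective M W₃ ((ptLeft ζ w₃) default)
    have e4 : (η Y M).app (op W₃) (m γ) =
        b.hom.app (op W₃) (K.obj.map k.op (K.obj.map g₁.op (s γ))) := by
      rw [hom_map, hom_map, hm, η_map, η_map]
    have e5 : (η Y M).app (op W₃) (m γ') =
        b.hom.app (op W₃) (K.obj.map k.op (K.obj.map g₂.op (s γ'))) := by
      rw [hom_map, hom_map, hm, η_map, η_map]
    rw [e4, e5, hk]
  -- compare the germs at `ξ`
  obtain ⟨W₄, w₄, k₁, k₂, hk₁, hk₂⟩ := exists_min (Φ ξ) (w γ) (w γ')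
  have e6 : K.obj.map k₁.op (s γ) = K.obj.map k₂.op (s γ') := by
    apply Groth.Agent.Helper4.MuConstC.mono_sec_injective b W₄
    rw [hom_map, hom_map, hm, hm, η_map, η_map, hmm]
  have e7 := (Φ ξ).toPresheafFiber_w_apply k₁ w₄ K.obj (s γ)
  have e8 := (Φ ξ).toPresheafFiber_w_apply k₂ w₄ K.obj (s γ')
  rw [hk₁, hγ] at e7
  rw [hk₂, hγ] at e8
  rw [← e7, ← e8, e6]

end Groth.Agent.Helper4.SubConst
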