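import Mathlib
import Groth.Prelude.Def_PBC
import Groth.Agent.Helper4.SubConst
import Groth.Agent.Helper4.SuppA
import Groth.Agent.Helper4.NoethStrat
import Groth.Agent.Helper9.EtPushInj

set_option autoImplicit false

/-!
# Subsheaves of constructible sheaves on locally Noetherian schemes are constructible
-/

universe u

open CategoryTheory CategoryTheory.Limits AlgebraicGeometry Opposite Topology

namespace Groth.Agent.Helper4.SubCons

open Groth.Agent.Helper4.ConstLoc Groth.Agent.Helper4.EtGeom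
open Groth.Agent.Helper4.StalkFin Groth.Agent.Helper4.EtLocRing Groth.Agent.Helper4.SubConst
open Groth.Agent.Helper4.LcPoint Groth.Agent.Helper4.FlcPull Groth.Agent.Helper4.OverEtC
open Groth.Agent.Helper4.SuppA Groth.Agent.Helper4.StalkFinC Groth.Agent.Helper4.NoethStrat
open Groth.Agent.Helper9.EtStalkExact Groth.Agent.Helper9.EtStalkPull

attribute [local instance] preservesFilteredColimits_forget_ab ab5_ab

variable {T V : Scheme.{u}} (j : V ⟶ T) {K : EtCoh.Ab T} {M : AddCommGrpCat.{u + 1}}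
  (b : (EtCoh.pull j).obj K ⟶ cS V M)

lemma finite_stalk_of_mono_const [Finite M] [Mono b] {Ω : Type u} [Field Ω] [IsSepClosed Ω]
    (ζ₀ : Spec (CommRingCat.of Ω) ⟶ V) : Finite ((EtCoh.stalk (ζ₀ ≫ j)).obj K) := by
  have h1 : Mono ((EtCoh.stalk ζ₀).map b) := inferInstance
  have h2 : Function.Injective ((EtCoh.stalk ζ₀).map b) :=
    (AddCommGrpCat.mono_iff_injective _).1 h1
  haveI : Finite ((EtCoh.stalk ζ₀).obj (cS V M)) :=
    Finite.of_equiv _ (stalkConst ζ₀ M).addCommGroupIsoToAddEquiv.symm.toEquiv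
  haveI : Finite ((EtCoh.pull j ⋙ EtCoh.stalk ζ₀).obj K) := Finite.of_injective _ h2
  exact Finite.of_equiv _ ((stalkPullIso j ζ₀).app K).addCommGroupIsoToAddEquiv.toEquiv

lemma card_stalk_le [Mono b] {Ω Ω' : Type u} [Field Ω] [IsSepClosed Ω] [Field Ω'] [IsSepClosed Ω']
    (ξ₁ : Spec (CommRingCat.of Ω) ⟶ V) (ζ₁ : Spec (CommRingCat.of Ω') ⟶ V)
    (h : ζ₁ default ⤳ ξ₁ default) [Finite ((EtCoh.stalk (ζ₁ ≫ j)).obj K)] :
    Finite ((EtCoh.stalk (ξ₁ ≫ j)).obj K) ∧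
      Nat.card ((EtCoh.stalk (ξ₁ ≫ j)).obj K) ≤ Nat.card ((EtCoh.stalk (ζ₁ ≫ j)).obj K) := by
  obtain ⟨f, hf⟩ := exists_injective_stalk b ξ₁ ζ₁ h
  let e₁ := ((stalkPullIso j ξ₁).app K).addCommGroupIsoToAddEquiv.toEquiv
  let e₂ := ((stalkPullIso j ζ₁).app K).addCommGroupIsoToAddEquiv.toEquiv
  have hinj : Function.Injective (fun γ => e₂ (f (e₁.symm γ))) :=
    e₂.injective.comp (hf.comp e₁.symm.injective)
  exact ⟨Finite.of_injective _ hinj, Nat.card_le_card_of_injective _ hinj⟩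

lemma hcard_aux [Etale j] [Finite M] [Mono b] (t₀ : T) (hgen : IsGenericPoint t₀ (⊤ : Set T))
    {Ω : Type u} [Field Ω] [IsSepClosed Ω] (ζ : Spec (CommRingCat.of Ω) ⟶ T) (hζ : ζ default = t₀)
    (z : T) (hz : z ∈ Set.range j) :
    ∃ (Ω' : Type u) (_ : Field Ω') (_ : IsSepClosed Ω') (ξ' : Spec (CommRingCat.of Ω') ⟶ T),
      ξ' default = z ∧ Finite ((EtCoh.stalk ξ').obj K) ∧
        Nat.card ((EtCoh.stalk ξ').obj K) ≤ Nat.card ((EtCoh.stalk ζ).obj K) := by
  obtain ⟨v, rfl⟩ := hz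
  have hsp : t₀ ⤳ j v := hgen.specializes (Set.mem_univ _)
  obtain ⟨v₀, hv₀, hjv₀⟩ := (Flat.generalizingMap j) hsp
  obtain ⟨ζ₁, hζ₁, hζ₁'⟩ := Scheme.exists_fac_of_etale_of_isSepClosed j ζ v₀ (hjv₀.trans hζ.symm)
  subst hζ₁
  haveI := finite_stalk_of_mono_const j b ζ₁
  have hsp' : ζ₁ default ⤳ (geomPt v) default := by
    rw [hζ₁', geomPt_default]
    exact hv₀
  obtain ⟨h1, h2⟩ := card_stalk_le j b (geomPt v) ζ₁ hsp'
  refine ⟨_, inferInstance, inferInstance, geomPt v ≫ j, ?_, h1, h2⟩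
  show j ((geomPt v) default) = j v
  rw [geomPt_default]

/-- a subsheaf of a finite locally constant sheaf on an irreducible scheme is finite locally
constant on a nonempty open -/
theorem exists_open_flc_of_mono (t₀ : T) (hgen : IsGenericPoint t₀ (⊤ : Set T))
    {K F' : EtCoh.Ab T} (κ : K ⟶ F') [Mono κ] (hF' : EtCoh.IsFiniteLocallyConstant F') :
    ∃ W₀ : T.Opens, t₀ ∈ W₀ ∧ EtCoh.IsFiniteLocallyConstant ((EtCoh.pull W₀.ι).obj K) := by
  rw [flc_iff_forall_LC] at hF'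
  obtain ⟨V₁, v₁, hv₁, M, fM, ⟨a⟩⟩ := hF' t₀
  haveI := fM
  let b : (EtCoh.pull (homS V₁)).obj K ⟶ cS V₁.left M := (EtCoh.pull (homS V₁)).map κ ≫ a.hom
  haveI : Mono b := mono_comp _ _
  let ζ := geomPt t₀
  obtain ⟨ζ₀, hζ₀, -⟩ := Scheme.exists_fac_of_etale_of_isSepClosed (homS V₁) ζ v₁
    (hv₁.trans (geomPt_default t₀).symm)
  haveI hfin : Finite ((EtCoh.stalk ζ).obj K) := by
    have := finite_stalk_of_mono_const (homS V₁) b ζ₀
    rwa [hζ₀] at this
  let O₁ : T.Opens := ⟨Set.range (homS V₁), (homS V₁).isOpenMap.isOpen_range⟩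
  have hO₁ : t₀ ∈ O₁ := ⟨v₁, hv₁⟩
  exact exists_open_flc K t₀ hgen ζ (geomPt_default t₀) O₁ hO₁
    (fun z hz => hcard_aux (homS V₁) b t₀ hgen ζ (geomPt_default t₀) z hz)

variable {X : Scheme.{u}}

theorem isConstructible_of_mono [IsLocallyNoetherian X] {F G : EtCoh.Ab X} (ι : G ⟶ F) [Mono ι]
    (hF : EtPBC.IsConstructible F) : EtPBC.IsConstructible G := by
  apply isConstructible_of_local G
  intro x
  obtain ⟨V, T, g, hg, hxV, hrange, hflc⟩ := local_of_isConstructible F hF x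
  haveI := hg
  obtain ⟨t₀, ht₀⟩ : x ∈ Set.range g := by
    rw [hrange]
    exact ⟨hxV, subset_closure (Set.mem_singleton x)⟩
  have hgen : IsGenericPoint t₀ (⊤ : Set T) := by
    rw [isGenericPoint_def, g.isEmbedding.closure_eq_preimage_closure_image, Set.image_singleton,
      ht₀]
    ext t
    simp only [Set.mem_preimage, Set.top_eq_univ, Set.mem_univ, iff_true]
    have : g t ∈ Set.range g := ⟨t, rfl⟩
    rw [hrange] at this
    exact this.2
  haveI : Mono ((EtCoh.pull g).map ι) := inferInstance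
  obtain ⟨W₀, hzW, hflcK⟩ := exists_open_flc_of_mono t₀ hgen ((EtCoh.pull g).map ι) hflc
  obtain ⟨VX, hVX, hVW⟩ := g.isEmbedding.isInducing.isOpen_iff.1 W₀.2
  refine ⟨⟨VX, hVX⟩ ⊓ V, W₀, W₀.ι ≫ g, inferInstance, ?_, ?_, ?_⟩
  · refine ⟨?_, hxV⟩
    show x ∈ VX
    have : t₀ ∈ g ⁻¹' VX := by rw [hVW]; exact hzW
    rw [← ht₀]
    exact this
  · have h1 : Set.range (W₀.ι ≫ g) = g '' Set.range W₀.ι := by
      rw [← Set.range_comp]
      rfl
    rw [h1, Scheme.Opens.range_ι]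
    have h2 : (W₀ : Set T) = g ⁻¹' VX := hVW.symm
    rw [h2, Set.image_preimage_eq_inter_range, hrange]
    ext y
    simp only [Set.mem_inter_iff, TopologicalSpace.Opens.coe_inf, TopologicalSpace.Opens.coe_mk]
    tauto
  · exact flc_of_iso (pullCompObj W₀.ι g G) hflcK

end Groth.Agent.Helper4.SubCons
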