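import Mathlib
import Groth.Prelude.Def_EtCore
import Groth.Agent.Helper4.LcExtB

set_option autoImplicit false

/-!
# Extensions of constant sheaves are locally constant: the local isomorphism
-/

universe u

open CategoryTheory CategoryTheory.Limits AlgebraicGeometry Opposite

namespace Groth.Agent.Helper4.LcExtC

open Groth.Agent.Helper4.OverEtC Groth.Agent.Helper4.FlcPull Groth.Agent.Helper4.ConstLoc
  Groth.Agent.Helper4.LcPoint Groth.Agent.Helper4.EtGeom Groth.Agent.Helper4.LcExtA
  Groth.Agent.Helper4.OverEtA Groth.Agent.Helper4.LcExtB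

variable {Y U : Scheme.{u}} (j : U ⟶ Y) [Etale j]
  {M' M'' : AddCommGrpCat.{u + 1}}
  {E : EtCoh.Ab Y} (f : cS Y M' ⟶ E) (g : E ⟶ cS Y M'') (w : f ≫ g = 0)
  (s : M'' → E.obj.obj (op (Scheme.Etale.mk j))) (z : M'' → M'' → M')

/-- constants of the subsheaf, as sections of the extension over `V` -/
noncomputable def F : M' →+ E.obj.obj (op (Scheme.Etale.mk j)) :=
  (f.hom.app (op (Scheme.Etale.mk j))).hom.comp ((η Y M').app (op (Scheme.Etale.mk j))).hom

lemma F_apply (a : M') : F j f a =
    f.hom.app (op (Scheme.Etale.mk j)) ((η Y M').app (op (Scheme.Etale.mk j)) a) := rfl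

section

variable (hz : ∀ m m', s m + s m' = s (m + m') + F j f (z m m'))

include hz

lemma s_zero : s 0 = F j f (z 0 0) := by
  have h := hz 0 0
  rw [add_zero] at h
  exact add_left_cancel h

/-- the finite group of sections generated by the constants and the chosen lifts -/
noncomputable def G : AddSubgroup (E.obj.obj (op (Scheme.Etale.mk j))) where
  carrier := Set.range (fun p : M' × M'' => F j f p.1 + s p.2)
  zero_mem' := by
    refine ⟨(-(z 0 0), 0), ?_⟩
    show F j f (-(z 0 0)) + s 0 = 0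
    rw [s_zero j f s z hz, map_neg]
    abel
  add_mem' := by
    rintro _ _ ⟨⟨a, m⟩, rfl⟩ ⟨⟨a', m'⟩, rfl⟩
    refine ⟨(a + a' + z m m', m + m'), ?_⟩
    show F j f (a + a' + z m m') + s (m + m') = (F j f a + s m) + (F j f a' + s m')
    have h := hz m m'
    rw [map_add, map_add]
    calc F j f a + F j f a' + F j f (z m m') + s (m + m')
        = F j f a + F j f a' + (s (m + m') + F j f (z m m')) := by abel
      _ = F j f a + F j f a' + (s m + s m') := by rw [← h]
      _ = _ := by abel
  neg_mem' := by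
    rintro _ ⟨⟨a, m⟩, rfl⟩
    refine ⟨(-a - z 0 0 - z m (-m), -m), ?_⟩
    show F j f (-a - z 0 0 - z m (-m)) + s (-m) = -(F j f a + s m)
    have h1 := hz m (-m)
    rw [add_neg_cancel, s_zero j f s z hz] at h1
    have h2 : s (-m) = F j f (z 0 0) + F j f (z m (-m)) - s m := by
      rw [← h1]
      abel
    rw [h2, map_sub, map_sub, map_neg]
    abel

lemma mem_G (e : E.obj.obj (op (Scheme.Etale.mk j))) :
    e ∈ G j f s z hz ↔ ∃ a m, F j f a + s m = e := by
  constructor
  · rintro ⟨⟨a, m⟩, h⟩
    exact ⟨a, m, h⟩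
  · rintro ⟨a, m, h⟩
    exact ⟨(a, m), h⟩

instance finite_G [Finite M'] [Finite M''] : Finite (G j f s z hz) :=
  Finite.of_surjective (fun p : M' × M'' => (⟨F j f p.1 + s p.2, ⟨p, rfl⟩⟩ : G j f s z hz))
    (by rintro ⟨_, ⟨p, rfl⟩⟩; exact ⟨p, rfl⟩)

end

include w in
lemma gf_zero (W : Y.Etale) (t : (cS Y M').obj.obj (op W)) :
    g.hom.app (op W) (f.hom.app (op W) t) = 0 := by
  have h1 : (f ≫ g).hom.app (op W) = 0 := by rw [w]; rfl
  have h2 := ConcreteCategory.congr_hom h1 t
  simpa using h2

lemma res_F (W : U.Etale) (a : M') : E.obj.map (toV j W).op (F j f a) =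
    f.hom.app (op ((EtShriek.compEtale j).obj W))
      ((η Y M').app (op ((EtShriek.compEtale j).obj W)) a) := by
  rw [F_apply, ← hom_map, η_map]

section

variable (hS : (ShortComplex.mk f g w).ShortExact)
  (hs : ∀ m, g.hom.app (op (Scheme.Etale.mk j)) (s m) = (η Y M'').app (op (Scheme.Etale.mk j)) m)
  (hz : ∀ m m', s m + s m' = s (m + m') + F j f (z m m'))

include hS hs hz

lemma g_res_s (W : U.Etale) (m : M'') :
    g.hom.app (op ((EtShriek.compEtale j).obj W)) (E.obj.map (toV j W).op (s m)) =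
      (η Y M'').app (op ((EtShriek.compEtale j).obj W)) m := by
  rw [hom_map, hs, η_map]

/-- a section of `G` vanishing on a nonempty `W` vanishes -/
lemma inj_core (W : U.Etale) (x₀ : W.left) (e : E.obj.obj (op (Scheme.Etale.mk j)))
    (he : e ∈ G j f s z hz) (h0 : E.obj.map (toV j W).op e = 0) : e = 0 := by
  obtain ⟨a, m, rfl⟩ := (mem_G j f s z hz e).1 he
  have hm : m = 0 := by
    apply const_injective M'' ((EtShriek.compEtale j).obj W) x₀ m 0
    rw [← g_res_s j f g w s z hS hs hz W m, map_zero]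
    have h1 : g.hom.app (op ((EtShriek.compEtale j).obj W))
        (E.obj.map (toV j W).op (F j f a + s m)) = 0 := by rw [h0, map_zero]
    rw [map_add, map_add, res_F, gf_zero f g w, zero_add] at h1
    exact h1
  subst hm
  rw [s_zero j f s z hz, ← map_add] at h0 ⊢
  rw [res_F] at h0
  have h2 : (η Y M').app (op ((EtShriek.compEtale j).obj W)) (a + z 0 0) = 0 := by
    apply sec_injective _ hS
    rw [map_zero]
    exact h0
  have h3 : a + z 0 0 = 0 := by
    apply const_injective M' ((EtShriek.compEtale j).obj W) x₀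
    rw [h2, map_zero]
  rw [h3, map_zero]

/-- every section of the extension is locally in `G` -/
lemma surj_core (W : U.Etale) (e : E.obj.obj (op ((EtShriek.compEtale j).obj W))) (x₀ : W.left) :
    ∃ (W₂ : U.Etale) (g₂ : W₂ ⟶ W) (x₂ : W₂.left) (t : E.obj.obj (op (Scheme.Etale.mk j))),
      t ∈ G j f s z hz ∧ g₂.left x₂ = x₀ ∧
      E.obj.map (toV j W₂).op t = E.obj.map ((EtShriek.compEtale j).map g₂).op e := by
  obtain ⟨W₁, g₁, x₁, m, hx₁, hm⟩ := rel_exists_const j M'' W
    (g.hom.app (op ((EtShriek.compEtale j).obj W)) e) x₀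
  have h1 : g.hom.app (op ((EtShriek.compEtale j).obj W₁))
      (E.obj.map ((EtShriek.compEtale j).map g₁).op e - E.obj.map (toV j W₁).op (s m)) = 0 := by
    rw [map_sub, g_res_s j f g w s z hS hs hz, hom_map, hm, sub_self]
  obtain ⟨α, hα⟩ := sec_exact _ hS _ _ h1
  obtain ⟨W₂, g₂, x₂, a, hx₂, ha⟩ := rel_exists_const j M' W₁ α x₁
  refine ⟨W₂, g₂ ≫ g₁, x₂, F j f a + s m, (mem_G j f s z hz _).2 ⟨a, m, rfl⟩, ?_, ?_⟩
  · show g₁.left (g₂.left x₂) = x₀
    rw [hx₂, hx₁]
  · rw [Functor.map_comp, op_comp, Functor.map_comp, ConcreteCategory.comp_apply]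
    have h2 : E.obj.map ((EtShriek.compEtale j).map g₁).op e =
        f.hom.app (op ((EtShriek.compEtale j).obj W₁)) α + E.obj.map (toV j W₁).op (s m) := by
      have : f.hom.app (op ((EtShriek.compEtale j).obj W₁)) α =
          E.obj.map ((EtShriek.compEtale j).map g₁).op e - E.obj.map (toV j W₁).op (s m) := hα
      rw [this]
      abel
    rw [h2, map_add, map_add, res_res, res_F, ← hom_map, ha]

end

section

variable [EtShriek.JCont j] (hz : ∀ m m', s m + s m' = s (m + m') + F j f (z m m'))

/-- the comparison map from the constant presheaf with value `G` -/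
noncomputable def φ : P U (AddCommGrpCat.of (G j f s z hz)) ⟶
    ((EtShriek.restrAlong j).obj E).obj where
  app W := AddCommGrpCat.ofHom ((E.obj.map (toV j W.unop).op).hom.comp (G j f s z hz).subtype)
  naturality W W' k := by
    ext t
    exact (res_res j E k.unop t.1).symm

lemma φ_app (W : U.Etale) (t : G j f s z hz) :
    (φ j f s z hz).app (op W) t = E.obj.map (toV j W).op t.1 := rfl

variable (hS : (ShortComplex.mk f g w).ShortExact)
  (hs : ∀ m, g.hom.app (op (Scheme.Etale.mk j)) (s m) = (η Y M'').app (op (Scheme.Etale.mk j)) m)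

include hS hs in
lemma isLocallyInjective_φ :
    Presheaf.IsLocallyInjective U.smallEtaleTopology (φ j f s z hz) where
  equalizerSieve_mem {W} x y h := by
    rw [mem_iff]
    intro x₀
    refine ⟨W.unop, 𝟙 _, x₀, ?_, rfl⟩
    have hxy : x = y := by
      have h1 : E.obj.map (toV j W.unop).op (x - y).1 = 0 := by
        have h2 : E.obj.map (toV j W.unop).op x.1 = E.obj.map (toV j W.unop).op y.1 := h
        show E.obj.map (toV j W.unop).op (x.1 - y.1) = 0
        rw [map_sub, h2, sub_self]
      have h3 := inj_core j f g w s z hS hs hz W.unop x₀ (x - y).1 (x - y).2 h1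
      exact sub_eq_zero.1 (Subtype.ext h3)
    rw [hxy]
    rfl

include hS hs in
lemma isLocallySurjective_φ :
    Presheaf.IsLocallySurjective U.smallEtaleTopology (φ j f s z hz) where
  imageSieve_mem {W} e := by
    rw [mem_iff]
    intro x₀
    obtain ⟨W₂, g₂, x₂, t, ht, hx, he⟩ := surj_core j f g w s z hS hs hz W e x₀
    exact ⟨W₂, g₂, x₂, ⟨⟨t, ht⟩, he⟩, hx⟩

end

/-- an extension of constant sheaves with finite values, with lifts of the constants and a
constant cocycle over `V`, is constant over `V` -/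
theorem iso_of_sections [Finite M'] [Finite M''] (hS : (ShortComplex.mk f g w).ShortExact)
    (hs : ∀ m, g.hom.app (op (Scheme.Etale.mk j)) (s m) = (η Y M'').app (op (Scheme.Etale.mk j)) m)
    (hz : ∀ m m', s m + s m' = s (m + m') + F j f (z m m')) :
    ∃ (N : AddCommGrpCat.{u + 1}), Finite N ∧ Nonempty ((EtCoh.pull j).obj E ≅ cS U N) := by
  haveI : EtShriek.JCont j := Groth.Agent.Helper9.EtJCont.jCont_of_etale j
  haveI := isLocallyInjective_φ j f g w s z hz hS hs
  haveI := isLocallySurjective_φ j f g w s z hz hS hs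
  refine ⟨AddCommGrpCat.of (G j f s z hz), finite_G j f s z hz, ⟨?_⟩⟩
  exact (Groth.Agent.Helper9.EtShriekOpen.pullIsoRestr j).app E ≪≫
    (isoOfLocallyBijective _ _ (φ j f s z hz)).symm

end Groth.Agent.Helper4.LcExtC
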