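import Mathlib
import Groth.Prelude.Def_EtCore
import Groth.Agent.Helper4.LcPoint
import Groth.Agent.Helper4.EtSecPullEt
import Groth.Agent.Helper9.EtShriekOpen
import Groth.Agent.Helper9.EtShriekExact

set_option autoImplicit false

/-!
# Kernels and cokernels of maps of constant sheaves are locally constant
-/

universe u

open CategoryTheory CategoryTheory.Limits AlgebraicGeometry Opposite

namespace Groth.Agent.Helper4.LcKer

open Groth.Agent.Helper4.OverEtC Groth.Agent.Helper4.FlcPull Groth.Agent.Helper4.ConstLoc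
  Groth.Agent.Helper4.LcPoint

variable {Y : Scheme.{u}}

/-- two maps of sheaves agreeing on all sections over objects above `V` have the same inverse
image on `V` -/
lemma pull_map_eq {U : Scheme.{u}} (j : U ⟶ Y) [Etale j] {A B : EtCoh.Ab Y} (ψ ψ' : A ⟶ B)
    (h : ∀ (W : Y.Etale) (_ : W ⟶ Scheme.Etale.mk j) (t : A.obj.obj (op W)),
      ψ.hom.app (op W) t = ψ'.hom.app (op W) t) :
    (EtCoh.pull j).map ψ = (EtCoh.pull j).map ψ' := by
  haveI : EtShriek.JCont j := Groth.Agent.Helper9.EtJCont.jCont_of_etale j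
  have h1 : (EtShriek.restrAlong j).map ψ = (EtShriek.restrAlong j).map ψ' := by
    apply Sheaf.hom_ext
    ext W t
    exact h ((EtShriek.compEtale j).obj W.unop) (MorphismProperty.Over.homMk W.unop.hom rfl) t
  have n1 := (Groth.Agent.Helper9.EtShriekOpen.pullIsoRestr j).hom.naturality ψ
  have n2 := (Groth.Agent.Helper9.EtShriekOpen.pullIsoRestr j).hom.naturality ψ'
  rw [← cancel_mono ((Groth.Agent.Helper9.EtShriekOpen.pullIsoRestr j).hom.app B), n1, n2, h1]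

lemma finite_kernel {M N : AddCommGrpCat.{u + 1}} [Finite M] (h : M ⟶ N) :
    Finite (kernel h : AddCommGrpCat.{u + 1}) :=
  Finite.of_injective _ ((AddCommGrpCat.mono_iff_injective (kernel.ι h)).1 inferInstance)

lemma finite_cokernel {M N : AddCommGrpCat.{u + 1}} [Finite N] (h : M ⟶ N) :
    Finite (cokernel h : AddCommGrpCat.{u + 1}) :=
  Finite.of_surjective _ ((AddCommGrpCat.epi_iff_surjective (cokernel.π h)).1 inferInstance)

theorem lc_kernel_cokernel_const {M N : AddCommGrpCat.{u + 1}} [Finite M] [Finite N]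
    (ψ : cS Y M ⟶ cS Y N) (y : Y) : LC (kernel ψ) y ∧ LC (cokernel ψ) y := by
  obtain ⟨V, y', h, hy, hh⟩ := exists_local_hom ψ y
  induction V with
  | mk U j hj =>
  have e : (EtCoh.pull j).map ψ = (EtCoh.pull j).map
      ((constantSheaf Y.smallEtaleTopology AddCommGrpCat.{u + 1}).map h) :=
    pull_map_eq j _ _ hh
  constructor
  · refine ⟨Scheme.Etale.mk j, y', hy, kernel h, finite_kernel h, ⟨?_⟩⟩
    exact PreservesKernel.iso (EtCoh.pull j) ψ ≪≫ kernelIsoOfEq e ≪≫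
      (PreservesKernel.iso (EtCoh.pull j)
        ((constantSheaf Y.smallEtaleTopology AddCommGrpCat.{u + 1}).map h)).symm ≪≫
      (EtCoh.pull j).mapIso
        (PreservesKernel.iso (constantSheaf Y.smallEtaleTopology AddCommGrpCat.{u + 1}) h).symm ≪≫
      (EtCore.pullConstIso j).app (kernel h)
  · refine ⟨Scheme.Etale.mk j, y', hy, cokernel h, finite_cokernel h, ⟨?_⟩⟩
    exact PreservesCokernel.iso (EtCoh.pull j) ψ ≪≫ cokernelIsoOfEq e ≪≫
      (PreservesCokernel.iso (EtCoh.pull j)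
        ((constantSheaf Y.smallEtaleTopology AddCommGrpCat.{u + 1}).map h)).symm ≪≫
      (EtCoh.pull j).mapIso
        (PreservesCokernel.iso (constantSheaf Y.smallEtaleTopology AddCommGrpCat.{u + 1}) h).symm ≪≫
      (EtCore.pullConstIso j).app (cokernel h)

theorem lc_kernel_cokernel {A B : EtCoh.Ab Y} (φ : A ⟶ B) {M N : AddCommGrpCat.{u + 1}}
    [Finite M] [Finite N] (a : A ≅ cS Y M) (b : B ≅ cS Y N) (y : Y) :
    LC (kernel φ) y ∧ LC (cokernel φ) y := by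
  have w : φ ≫ b.hom = a.hom ≫ (a.inv ≫ φ ≫ b.hom) := by simp
  obtain ⟨h1, h2⟩ := lc_kernel_cokernel_const (a.inv ≫ φ ≫ b.hom) y
  exact ⟨h1.of_iso (kernel.mapIso φ _ a b w).symm, h2.of_iso (cokernel.mapIso φ _ a b w).symm⟩

/-- simultaneous trivialisation of two locally constant sheaves -/
lemma exists_common {X : Scheme.{u}} {F G : EtCoh.Ab X} {x : X} (hF : LC F x) (hG : LC G x) :
    ∃ (V₁ : X.Etale) (y₁ : V₁.left) (V₂ : V₁.left.Etale) (y₂ : V₂.left)
      (M N : AddCommGrpCat.{u + 1}), V₁.hom y₁ = x ∧ V₂.hom y₂ = y₁ ∧ Finite M ∧ Finite N ∧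
      Nonempty ((EtCoh.pull (homS V₂)).obj ((EtCoh.pull (homS V₁)).obj F) ≅ cS V₂.left M) ∧
      Nonempty ((EtCoh.pull (homS V₂)).obj ((EtCoh.pull (homS V₁)).obj G) ≅ cS V₂.left N) := by
  obtain ⟨V₁, y₁, hy₁, M, fM, ⟨a₁⟩⟩ := hF
  have hG' : LC G ((homS V₁) y₁) := by rw [hy₁]; exact hG
  obtain ⟨V₂, y₂, hy₂, N, fN, ⟨b₂⟩⟩ := hG'.pull (homS V₁) y₁
  exact ⟨V₁, y₁, V₂, y₂, M, N, hy₁, hy₂, fM, fN,
    ⟨(EtCoh.pull (homS V₂)).mapIso a₁ ≪≫ (EtCore.pullConstIso (homS V₂)).app M⟩, ⟨b₂⟩⟩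

theorem lc_kernel_cokernel_of_lc {X : Scheme.{u}} {F G : EtCoh.Ab X} (φ : F ⟶ G) {x : X}
    (hF : LC F x) (hG : LC G x) : LC (kernel φ) x ∧ LC (cokernel φ) x := by
  obtain ⟨V₁, y₁, V₂, y₂, M, N, hy₁, hy₂, fM, fN, ⟨a⟩, ⟨b⟩⟩ := exists_common hF hG
  obtain ⟨h1, h2⟩ := lc_kernel_cokernel
    ((EtCoh.pull (homS V₂)).map ((EtCoh.pull (homS V₁)).map φ)) a b y₂
  constructor
  · have h3 := h1.of_iso ((PreservesKernel.iso (EtCoh.pull (homS V₂))
      ((EtCoh.pull (homS V₁)).map φ)).symm ≪≫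
      (EtCoh.pull (homS V₂)).mapIso (PreservesKernel.iso (EtCoh.pull (homS V₁)) φ).symm)
    have h4 := LC.trans V₂ y₂ h3
    rw [hy₂] at h4
    have h5 := LC.trans V₁ y₁ h4
    rwa [hy₁] at h5
  · have h3 := h2.of_iso ((PreservesCokernel.iso (EtCoh.pull (homS V₂))
      ((EtCoh.pull (homS V₁)).map φ)).symm ≪≫
      (EtCoh.pull (homS V₂)).mapIso (PreservesCokernel.iso (EtCoh.pull (homS V₁)) φ).symm)
    have h4 := LC.trans V₂ y₂ h3
    rw [hy₂] at h4
    have h5 := LC.trans V₁ y₁ h4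
    rwa [hy₁] at h5

theorem flc_kernel_cokernel {X : Scheme.{u}} {F G : EtCoh.Ab X} (φ : F ⟶ G)
    (hF : EtCoh.IsFiniteLocallyConstant F) (hG : EtCoh.IsFiniteLocallyConstant G) :
    EtCoh.IsFiniteLocallyConstant (kernel φ) ∧ EtCoh.IsFiniteLocallyConstant (cokernel φ) := by
  rw [flc_iff_forall_LC] at hF hG
  rw [flc_iff_forall_LC, flc_iff_forall_LC]
  exact ⟨fun x => (lc_kernel_cokernel_of_lc φ (hF x) (hG x)).1,
    fun x => (lc_kernel_cokernel_of_lc φ (hF x) (hG x)).2⟩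

end Groth.Agent.Helper4.LcKer
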