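import Mathlib
import Groth.Prelude.Def_EtCore
import Groth.Agent.Helper4.LcExtC
import Groth.Agent.Helper4.LcKer

set_option autoImplicit false

/-!
# Finite locally constant sheaves are closed under extensions
-/

universe u

open CategoryTheory CategoryTheory.Limits AlgebraicGeometry Opposite

namespace Groth.Agent.Helper4.LcExtD

open Groth.Agent.Helper4.OverEtC Groth.Agent.Helper4.FlcPull Groth.Agent.Helper4.ConstLoc
  Groth.Agent.Helper4.LcPoint Groth.Agent.Helper4.EtGeom Groth.Agent.Helper4.LcExtA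
  Groth.Agent.Helper4.OverEtA Groth.Agent.Helper4.LcExtB Groth.Agent.Helper4.LcExtC
  Groth.Agent.Helper4.LcKer

variable {Y : Scheme.{u}} {M' M'' : AddCommGrpCat.{u + 1}}

theorem lc_ext_const' [Finite M'] [Finite M''] {E : EtCoh.Ab Y} (f : cS Y M' ⟶ E)
    (g : E ⟶ cS Y M'') (w : f ≫ g = 0) (hS : (ShortComplex.mk f g w).ShortExact) (y : Y) :
    LC E y := by
  haveI : Epi g := hS.epi_g
  haveI : Sheaf.IsLocallySurjective g :=
    (Sheaf.isLocallySurjective_iff_epi' (φ := g)).2 inferInstance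
  -- lift the constants
  obtain ⟨V₁, p₁, y₁, hy₁, h1⟩ := exists_common_refinement (EtCoh.top Y)
    (fun m : M'' => Presheaf.imageSieve g.hom ((η Y M'').app (op (EtCoh.top Y)) m))
    (fun m => Presheaf.imageSieve_mem Y.smallEtaleTopology g.hom _) y
  choose s₁ hs₁ using h1
  have hs₁' : ∀ m, g.hom.app (op V₁) (s₁ m) = (η Y M'').app (op V₁) m := by
    intro m
    rw [hs₁, η_map]
  -- the cocycle
  have h2 : ∀ m m', ∃ ζ, f.hom.app (op V₁) ζ = s₁ m + s₁ m' - s₁ (m + m') := fun m m' =>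
    sec_exact _ hS V₁ _ (by
      show g.hom.app (op V₁) (s₁ m + s₁ m' - s₁ (m + m')) = 0
      rw [map_sub, map_add, hs₁', hs₁', hs₁', map_add, sub_self])
  choose ζ hζ using h2
  obtain ⟨V, p₂, y₂, hy₂, h3⟩ := exists_common_refinement V₁
    (fun q : M'' × M'' => Presheaf.imageSieve (η Y M') (ζ q.1 q.2))
    (fun q => Presheaf.imageSieve_mem Y.smallEtaleTopology (η Y M') _) y₁
  choose z hz using h3
  have hV : V.hom y₂ = y := by
    have e1 : p₁.left ≫ (EtCoh.top Y).hom = V₁.hom := MorphismProperty.Over.w p₁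
    have e2 : p₁.left = V₁.hom := by
      rw [← e1]
      exact (Category.comp_id _).symm
    have e3 : p₂.left ≫ V₁.hom = V.hom := MorphismProperty.Over.w p₂
    rw [← e3, ← e2]
    show p₁.left (p₂.left y₂) = y
    rw [hy₂, hy₁]
  induction V with
  | mk U j hj =>
  obtain ⟨N, fN, hN⟩ := iso_of_sections j f g w (fun m => E.obj.map p₂.op (s₁ m))
    (fun m m' => z (m, m')) hS
    (by
      intro m
      rw [hom_map, hs₁', η_map])
    (by
      intro m m'
      have e1 : F j f (z (m, m')) = E.obj.map p₂.op (s₁ m + s₁ m' - s₁ (m + m')) := by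
        rw [F_apply, hz (m, m'), hom_map, hζ]
      rw [e1, map_sub, map_add]
      abel)
  exact ⟨Scheme.Etale.mk j, y₂, hV, N, fN, hN⟩

theorem lc_ext_const [Finite M'] [Finite M''] (S : ShortComplex (EtCoh.Ab Y)) (hS : S.ShortExact)
    (a : S.X₁ ≅ cS Y M') (c : S.X₃ ≅ cS Y M'') (y : Y) : LC S.X₂ y := by
  have w : (a.inv ≫ S.f) ≫ (S.g ≫ c.hom) = 0 := by simp
  have e : S ≅ ShortComplex.mk (a.inv ≫ S.f) (S.g ≫ c.hom) w :=
    ShortComplex.isoMk a (Iso.refl _) c (by simp) (by simp)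
  exact lc_ext_const' _ _ w (ShortComplex.shortExact_of_iso e hS) y

theorem lc_ext_of_lc {X : Scheme.{u}} (S : ShortComplex (EtCoh.Ab X)) (hS : S.ShortExact) {x : X}
    (h1 : LC S.X₁ x) (h3 : LC S.X₃ x) : LC S.X₂ x := by
  obtain ⟨V₁, y₁, V₂, y₂, M, N, hy₁, hy₂, fM, fN, ⟨a⟩, ⟨b⟩⟩ := exists_common h1 h3
  have hS' : ((S.map (EtCoh.pull (homS V₁))).map (EtCoh.pull (homS V₂))).ShortExact :=
    (hS.map_of_exact (EtCoh.pull (homS V₁))).map_of_exact (EtCoh.pull (homS V₂))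
  have h4 := LC.trans V₂ y₂ (lc_ext_const _ hS' a b y₂)
  rw [hy₂] at h4
  have h5 := LC.trans V₁ y₁ h4
  rwa [hy₁] at h5

theorem flc_ext {X : Scheme.{u}} (S : ShortComplex (EtCoh.Ab X)) (hS : S.ShortExact)
    (h1 : EtCoh.IsFiniteLocallyConstant S.X₁) (h3 : EtCoh.IsFiniteLocallyConstant S.X₃) :
    EtCoh.IsFiniteLocallyConstant S.X₂ := by
  rw [flc_iff_forall_LC] at h1 h3 ⊢
  exact fun x => lc_ext_of_lc S hS (h1 x) (h3 x)

end Groth.Agent.Helper4.LcExtD
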