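import Mathlib
import Groth.Prelude.Def_PBC
import Groth.Agent.Helper4.StrataB

set_option autoImplicit false

/-!
# Common refinement of two adapted stratifications
-/

universe u

open CategoryTheory CategoryTheory.Limits AlgebraicGeometry Opposite Topology

namespace Groth.Agent.Helper4.StrataG

open Groth.Agent.Helper4.StrataA Groth.Agent.Helper4.StrataB Groth.Agent.Helper4.FlcPull

variable {X : Scheme.{u}}

/-- if `H` is finite locally constant wherever `F` and `G` are, then a stratification for `H`
is obtained from the common refinement of stratifications for `F` and `G` -/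
theorem strat_of_common {F G H : EtCoh.Ab X} {S : Set X} (hF : Strat F S) (hG : Strat G S)
    (hH : ∀ {T : Scheme.{u}} (g : T ⟶ X), EtCoh.IsFiniteLocallyConstant ((EtCoh.pull g).obj F) →
      EtCoh.IsFiniteLocallyConstant ((EtCoh.pull g).obj G) →
      EtCoh.IsFiniteLocallyConstant ((EtCoh.pull g).obj H)) : Strat H S := by
  obtain ⟨κ, hκ, T, g, h1, h2, h3, h4, h5⟩ := hF
  obtain ⟨κ', hκ', T', g', h1', h2', h3', h4', h5'⟩ := hG
  haveI := h1
  haveI := h1'
  refine ⟨κ × κ', inferInstance, fun p => pullback (g p.1) (g' p.2),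
    fun p => pullback.fst (g p.1) (g' p.2) ≫ g p.1, fun p => inferInstance, fun p => ?_, ?_, ?_,
    fun p => ?_⟩
  · rw [Scheme.Pullback.range_fst_comp]
    exact (h2 p.1).inter (h2' p.2)
  · intro p p' hpp'
    rw [Scheme.Pullback.range_fst_comp, Scheme.Pullback.range_fst_comp]
    by_cases h : p.1 = p'.1
    · have h' : p.2 ≠ p'.2 := fun h'' => hpp' (Prod.ext h h'')
      exact (h3' h').mono Set.inter_subset_right Set.inter_subset_right
    · exact (h3 h).mono Set.inter_subset_left Set.inter_subset_left
  · ext x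
    simp only [Scheme.Pullback.range_fst_comp, Set.mem_iUnion, Set.mem_inter_iff, Prod.exists]
    constructor
    · rintro ⟨k, k', hk, -⟩
      rw [← h4]
      exact Set.mem_iUnion.2 ⟨k, hk⟩
    · intro hx
      have hx1 := hx
      rw [← h4] at hx1
      rw [← h4'] at hx
      obtain ⟨k, hk⟩ := Set.mem_iUnion.1 hx1
      obtain ⟨k', hk'⟩ := Set.mem_iUnion.1 hx
      exact ⟨k, k', hk, hk'⟩
  · apply hH
    · exact flc_of_iso (pullCompObj _ _ F) (flc_pull _ _ (h5 p.1))
    · have w : pullback.fst (g p.1) (g' p.2) ≫ g p.1 = pullback.snd (g p.1) (g' p.2) ≫ g' p.2 :=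
        pullback.condition
      show EtCoh.IsFiniteLocallyConstant
        ((EtCoh.pull (pullback.fst (g p.1) (g' p.2) ≫ g p.1)).obj G)
      rw [w]
      exact flc_of_iso (pullCompObj _ _ G) (flc_pull _ _ (h5' p.2))

end Groth.Agent.Helper4.StrataG
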