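import Mathlib
import Groth.Prelude.Def_PBC
import Groth.Agent.Helper4.SuppB
import Groth.Agent.Helper4.LcExtD
import Groth.Agent.Helper4.StrataG

set_option autoImplicit false

/-!
# Kernels and cokernels of constructible sheaves, surjectivity loci
-/

universe u

open CategoryTheory CategoryTheory.Limits AlgebraicGeometry Opposite Topology

namespace Groth.Agent.Helper4.SuppC

open Groth.Agent.Helper4.SuppA Groth.Agent.Helper4.SuppB Groth.Agent.Helper4.StrataA
open Groth.Agent.Helper4.StrataB Groth.Agent.Helper4.StrataG Groth.Agent.Helper4.FlcPull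
open Groth.Agent.Helper9.EtStalkPull Groth.Agent.Helper9.EtStalkExact

variable {X : Scheme.{u}}

theorem isConstructible_kernel {F G : EtCoh.Ab X} (φ : F ⟶ G) (hF : EtPBC.IsConstructible F)
    (hG : EtPBC.IsConstructible G) : EtPBC.IsConstructible (kernel φ) := by
  intro U hU
  rw [← strat_iff]
  refine strat_of_common ((strat_iff F _).2 (hF U hU)) ((strat_iff G _).2 (hG U hU)) ?_
  intro T g h1 h2
  exact flc_of_iso (PreservesKernel.iso (EtCoh.pull g) φ).symm
    (Groth.Agent.Helper4.LcKer.flc_kernel_cokernel ((EtCoh.pull g).map φ) h1 h2).1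

theorem isConstructible_cokernel {F G : EtCoh.Ab X} (φ : F ⟶ G) (hF : EtPBC.IsConstructible F)
    (hG : EtPBC.IsConstructible G) : EtPBC.IsConstructible (cokernel φ) := by
  intro U hU
  rw [← strat_iff]
  refine strat_of_common ((strat_iff F _).2 (hF U hU)) ((strat_iff G _).2 (hG U hU)) ?_
  intro T g h1 h2
  exact flc_of_iso (PreservesCokernel.iso (EtCoh.pull g) φ).symm
    (Groth.Agent.Helper4.LcKer.flc_kernel_cokernel ((EtCoh.pull g).map φ) h1 h2).2

variable {Ω : Type u} [Field Ω] [IsSepClosed Ω]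

attribute [local instance] ab5_ab

theorem surjective_iff_isZero_stalk_cokernel (ξ : Spec (CommRingCat.of Ω) ⟶ X) {F G : EtCoh.Ab X}
    (φ : F ⟶ G) :
    Function.Surjective ((EtCoh.stalk ξ).map φ) ↔ IsZero ((EtCoh.stalk ξ).obj (cokernel φ)) := by
  rw [← AddCommGrpCat.epi_iff_surjective, (PreservesCokernel.iso (EtCoh.stalk ξ) φ).isZero_iff]
  constructor
  · intro h
    exact isZero_cokernel_of_epi _
  · intro h
    exact Preadditive.epi_of_isZero_cokernel _ h

theorem injective_iff_isZero_stalk_kernel (ξ : Spec (CommRingCat.of Ω) ⟶ X) {F G : EtCoh.Ab X}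
    (φ : F ⟶ G) :
    Function.Injective ((EtCoh.stalk ξ).map φ) ↔ IsZero ((EtCoh.stalk ξ).obj (kernel φ)) := by
  rw [← AddCommGrpCat.mono_iff_injective, (PreservesKernel.iso (EtCoh.stalk ξ) φ).isZero_iff]
  constructor
  · intro h
    exact isZero_kernel_of_mono _
  · intro h
    exact Preadditive.mono_of_isZero_kernel _ h

/-- the locus where a map of constructible sheaves is surjective on stalks -/
theorem surjective_locus_eq {F G : EtCoh.Ab X} (φ : F ⟶ G) :
    {x : X | ∀ (Ω : Type u) [Field Ω] [IsSepClosed Ω]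
      (ξ : Spec (CommRingCat.of Ω) ⟶ X), Set.range ξ = {x} →
        Function.Surjective ((EtCoh.stalk ξ).map φ)} = (EtPBC.supp (cokernel φ))ᶜ := by
  ext x
  simp only [Set.mem_setOf_eq, Set.mem_compl_iff]
  constructor
  · rintro h ⟨Ω, _, _, ξ, hξ, hnz⟩
    exact hnz ((surjective_iff_isZero_stalk_cokernel ξ φ).1 (h Ω ξ hξ))
  · intro h Ω _ _ ξ hξ
    rw [surjective_iff_isZero_stalk_cokernel]
    by_contra hnz
    exact h ⟨Ω, inferInstance, inferInstance, ξ, hξ, hnz⟩

theorem injective_locus_eq {F G : EtCoh.Ab X} (φ : F ⟶ G) :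
    {x : X | ∀ (Ω : Type u) [Field Ω] [IsSepClosed Ω]
      (ξ : Spec (CommRingCat.of Ω) ⟶ X), Set.range ξ = {x} →
        Function.Injective ((EtCoh.stalk ξ).map φ)} = (EtPBC.supp (kernel φ))ᶜ := by
  ext x
  simp only [Set.mem_setOf_eq, Set.mem_compl_iff]
  constructor
  · rintro h ⟨Ω, _, _, ξ, hξ, hnz⟩
    exact hnz ((injective_iff_isZero_stalk_kernel ξ φ).1 (h Ω ξ hξ))
  · intro h Ω _ _ ξ hξ
    rw [injective_iff_isZero_stalk_kernel]
    by_contra hnz
    exact h ⟨Ω, inferInstance, inferInstance, ξ, hξ, hnz⟩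

theorem isConstructible_supp [CompactSpace X] [QuasiSeparatedSpace X] (F : EtCoh.Ab X)
    (hF : EtPBC.IsConstructible F) : IsConstructible (EtPBC.supp F) :=
  (isLocallyConstructible_supp F hF).isConstructible

end Groth.Agent.Helper4.SuppC
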