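import Mathlib
import Groth.Prelude.Def_PBC
import Groth.Prelude.Def_ARSys
import Groth.Agent.Helper4.SubCons
import Groth.Agent.Helper4.SuppC
import Groth.Agent.Helper4.LcExtD

set_option autoImplicit false

/-!
# Constructible sheaves: quotients and extensions; adic systems
-/

universe u

open CategoryTheory CategoryTheory.Limits AlgebraicGeometry Opposite Topology

namespace Groth.Agent.Helper4.ConsSerre

open Groth.Agent.Helper4.StrataB Groth.Agent.Helper4.StrataC Groth.Agent.Helper4.StrataG
open Groth.Agent.Helper4.FlcPull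

variable {X : Scheme.{u}}

theorem isConstructible_of_iso {F F' : EtCoh.Ab X} (e : F ≅ F') (hF : EtPBC.IsConstructible F) :
    EtPBC.IsConstructible F' := by
  intro U hU
  rw [← strat_iff]
  exact strat_of_iso e ((strat_iff _ _).2 (hF U hU))

theorem isConstructible_of_epi [IsLocallyNoetherian X] {F Q : EtCoh.Ab X} (π : F ⟶ Q) [Epi π]
    (hF : EtPBC.IsConstructible F) : EtPBC.IsConstructible Q := by
  have hK : EtPBC.IsConstructible (kernel π) :=
    Groth.Agent.Helper4.SubCons.isConstructible_of_mono (kernel.ι π) hF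
  have hC := Groth.Agent.Helper4.SuppC.isConstructible_cokernel (kernel.ι π) hK hF
  have hcok : IsColimit (CokernelCofork.ofπ π (kernel.condition π)) :=
    Abelian.epiIsCokernelOfKernel _ (limit.isLimit (parallelPair π 0))
  exact isConstructible_of_iso
    ((colimit.isColimit (parallelPair (kernel.ι π) 0)).coconePointUniqueUpToIso hcok) hC

theorem isConstructible_of_shortExact (S : ShortComplex (EtCoh.Ab X)) (hS : S.ShortExact)
    (h1 : EtPBC.IsConstructible S.X₁) (h3 : EtPBC.IsConstructible S.X₃) :
    EtPBC.IsConstructible S.X₂ := by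
  intro U hU
  rw [← strat_iff]
  refine strat_of_common ((strat_iff S.X₁ _).2 (h1 U hU)) ((strat_iff S.X₃ _).2 (h3 U hU)) ?_
  intro T g hg1 hg3
  exact Groth.Agent.Helper4.LcExtD.flc_ext (S.map (EtCoh.pull g)) (hS.map_of_exact (EtCoh.pull g))
    hg1 hg3

end Groth.Agent.Helper4.ConsSerre
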