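import Mathlib
import Groth.Prelude.Def_CohCx

/-! Monomorphisms of abelian sheaves from injectivity on sections over a covering class. -/

set_option autoImplicit false
set_option linter.unusedSectionVars false
universe u

open CategoryTheory Limits Opposite

namespace Groth.Agent.Helper4.HDUmono

variable {C : Type u} [SmallCategory C] {J : GrothendieckTopology C}

theorem section_eq_zero_of_cover (V : C) (G : Sheaf J AddCommGrpCat.{u}) (s : G.obj.obj (op V))
    {ι : Type u} (Yf : ι → C) (f : ∀ i, Yf i ⟶ V) (hf : Sieve.ofArrows Yf f ∈ J V)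
    (h : ∀ i, G.obj.map (f i).op s = 0) : s = 0 := by
  have hsep := ((isSheaf_iff_isSheaf_of_type J _).1
    ((Presheaf.isSheaf_iff_isSheaf_forget J G.obj (forget AddCommGrpCat.{u})).1 G.property)).isSeparated
  refine (hsep _ hf).ext ?_
  intro W g hg
  obtain ⟨Z, k, q, ⟨i⟩, rfl⟩ := hg
  change G.obj.map (k ≫ f i).op s = G.obj.map (k ≫ f i).op 0
  rw [op_comp, G.obj.map_comp]
  change G.obj.map k.op (G.obj.map (f i).op s) = _
  rw [h i, map_zero, map_zero]

theorem mono_of_injective_on (B : Set C)
    (hB : ∀ U : C, ∃ (ι : Type u) (Y : ι → C) (f : ∀ i, Y i ⟶ U),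
      Sieve.ofArrows Y f ∈ J U ∧ ∀ i, Y i ∈ B)
    {F G : Sheaf J AddCommGrpCat.{u}} (φ : F ⟶ G)
    (h : ∀ V ∈ B, Function.Injective (φ.hom.app (op V))) : Mono φ := by
  have hU : ∀ U : C, Function.Injective (φ.hom.app (op U)) := by
    intro U
    rw [injective_iff_map_eq_zero]
    intro s hs
    obtain ⟨ι, Y, f, hcov, hY⟩ := hB U
    apply section_eq_zero_of_cover U F s Y f hcov
    intro i
    apply h (Y i) (hY i)
    have hn := NatTrans.naturality_apply φ.hom (f i).op s
    rw [hn, hs, map_zero, map_zero]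
  haveI : ∀ U : Cᵒᵖ, Mono (φ.hom.app U) := by
    intro U
    rw [AddCommGrpCat.mono_iff_injective]
    exact hU U.unop
  haveI : Mono φ.hom := NatTrans.mono_of_mono_app φ.hom
  exact (sheafToPresheaf J AddCommGrpCat.{u}).mono_of_mono_map (by exact this)

end Groth.Agent.Helper4.HDUmono
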