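import Mathlib
import Groth.Prelude.Def_CohCx
import Groth.Agent.Helper9.LC7
import Groth.Agent.Helper9.LCProd1
import Groth.Agent.Helper9.SpHyper
import Groth.Agent.Helper1.SiteCoh
import Groth.Agent.Helper4.HDUmono

/-! `H^q(U, K) ≅ Γ(U, H^q(K))` when the cohomology sheaves of `K` are acyclic on a covering class. -/

set_option autoImplicit false
set_option linter.unusedSectionVars false
universe w v u

open CategoryTheory Limits Opposite DerivedCategory

namespace Groth.Agent.Helper4.HDUsec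

open Groth.Agent.Helper9.LC3

section gen

variable {A : Type u} [Category.{v} A] [Abelian A] [HasDerivedCategory.{w} A]

/-- `Hom(G[0], E⟦q⟧) ≃+ Hom(G[-q], E)` -/
noncomputable def shiftAddEquiv (G : A) (E : DerivedCategory A) (q : ℤ) :
    (W G 0 ⟶ E⟦q⟧) ≃+ (W G q ⟶ E) :=
  (Groth.Agent.Helper9.SpHyper.precompAddEquiv (wShift G q 0 q (by omega)) (E⟦q⟧)).trans
    (AddEquiv.ofBijective ((shiftFunctor (DerivedCategory A) q).mapAddHom (X := W G q) (Y := E))
      ⟨(shiftFunctor (DerivedCategory A) q).map_injective,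
        (shiftFunctor (DerivedCategory A) q).map_surjective⟩).symm

theorem nonempty_addEquiv_of_bijective (G : A) (E : DerivedCategory A) (q : ℤ)
    (h : Function.Bijective (fun f : W G q ⟶ E => (homologyFunctor A q).map f)) :
    Nonempty ((W G 0 ⟶ E⟦q⟧) ≃+ (G ⟶ (homologyFunctor A q).obj E)) := by
  let e2 : (W G q ⟶ E) ≃+ ((homologyFunctor A q).obj (W G q) ⟶ (homologyFunctor A q).obj E) :=
    AddEquiv.ofBijective ((homologyFunctor A q).mapAddHom (X := W G q) (Y := E)) h
  let e3 := Groth.Agent.Helper9.SpHyper.precompAddEquiv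
    ((singleFunctorCompHomologyFunctorIso A q).app G).symm ((homologyFunctor A q).obj E)
  exact ⟨(shiftAddEquiv G E q).trans (e2.trans e3)⟩

end gen

section site

variable {C : Type u} [SmallCategory C] {J : GrothendieckTopology C}

/-- the free sheaves `ℤ_U`, `U ∈ B` -/
def 𝒢 (B : Set C) : ObjectProperty (Sheaf J AddCommGrpCat.{u}) :=
  fun G => ∃ U ∈ B, G = CohCx.freeSheaf J U

theorem isSeparating_𝒢 (B : Set C)
    (hB : ∀ U : C, ∃ (ι : Type u) (Y : ι → C) (f : ∀ i, Y i ⟶ U),
      Sieve.ofArrows Y f ∈ J U ∧ ∀ i, Y i ∈ B) : (𝒢 (J := J) B).IsSeparating := by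
  intro X Y f g h
  have hsub : f - g = 0 := by
    apply Sheaf.hom_ext
    ext W : 2
    apply AddCommGrpCat.hom_ext
    apply AddMonoidHom.ext
    intro s
    obtain ⟨ι, Yc, fc, hcov, hYB⟩ := hB W.unop
    apply Groth.Agent.Helper4.HDUmono.section_eq_zero_of_cover W.unop Y _ Yc fc hcov
    intro i
    have hn := NatTrans.naturality_apply (f - g).hom (fc i).op s
    rw [← hn]
    have h1 := h (CohCx.freeSheaf J (Yc i)) ⟨Yc i, hYB i, rfl⟩
      ((Groth.Agent.Helper1.SiteCoh.homEquiv (Yc i) X).symm (X.obj.map (fc i).op s))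
    have h2 := congrArg (Groth.Agent.Helper1.SiteCoh.homEquiv (Yc i) Y) h1
    rw [Groth.Agent.Helper1.SiteCoh.homEquiv_comp, Groth.Agent.Helper1.SiteCoh.homEquiv_comp,
      Equiv.apply_symm_apply] at h2
    change f.hom.app _ (X.obj.map (fc i).op s) - g.hom.app _ (X.obj.map (fc i).op s) = 0
    rw [h2, sub_self]
  exact sub_eq_zero.1 hsub

end site

end Groth.Agent.Helper4.HDUsec
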