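import Mathlib
import Groth.Agent.Helper4.HDUsec

/-! Transfer of bijectivity of `Hom(Γ[0], -⟦m⟧)` along a derived adjunction `Φ ⊣ G`, `Φ` exact. -/

set_option autoImplicit false
set_option linter.unusedSectionVars false
set_option linter.unusedVariables false
universe w w' v v' u u'

open CategoryTheory Limits DerivedCategory

namespace Groth.Agent.Helper4.AdjBij

open Groth.Agent.Helper9.LC3 Groth.Agent.Helper4.HDUsec

section

variable {A : Type u} [Category.{v} A] [Abelian A] [HasDerivedCategory.{w} A]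

lemma map_shiftAddEquiv (G : A) (E : DerivedCategory A) (q : ℤ) (x : W G 0 ⟶ E⟦q⟧) :
    (shiftFunctor (DerivedCategory A) q).map (shiftAddEquiv G E q x) =
      (wShift G q 0 q (by omega)).hom ≫ x := by
  unfold shiftAddEquiv
  exact (AddEquiv.ofBijective ((shiftFunctor (DerivedCategory A) q).mapAddHom (X := W G q) (Y := E))
      ⟨(shiftFunctor (DerivedCategory A) q).map_injective,
        (shiftFunctor (DerivedCategory A) q).map_surjective⟩).apply_symm_apply _

lemma shiftAddEquiv_comp (G : A) {E E' : DerivedCategory A} (q : ℤ) (x : W G 0 ⟶ E⟦q⟧)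
    (φ : E ⟶ E') : shiftAddEquiv G E' q (x ≫ φ⟦q⟧') = shiftAddEquiv G E q x ≫ φ := by
  apply (shiftFunctor (DerivedCategory A) q).map_injective
  rw [Functor.map_comp, map_shiftAddEquiv, map_shiftAddEquiv, Category.assoc]

lemma bijective_rightComp_iff (G : A) {E E' : DerivedCategory A} (q : ℤ) (φ : E ⟶ E') :
    Function.Bijective (Preadditive.rightComp (W G 0) (φ⟦q⟧')) ↔
      Function.Bijective (Preadditive.rightComp (W G q) φ) := by
  have h : ∀ x, shiftAddEquiv G E' q (Preadditive.rightComp (W G 0) (φ⟦q⟧') x) =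
      Preadditive.rightComp (W G q) φ (shiftAddEquiv G E q x) := fun x => shiftAddEquiv_comp G q x φ
  have h1 : (Preadditive.rightComp (W G 0) (φ⟦q⟧') : _ → _) =
      (shiftAddEquiv G E' q).symm ∘ (Preadditive.rightComp (W G q) φ) ∘ (shiftAddEquiv G E q) := by
    funext x
    simp only [Function.comp_apply]
    rw [← h, AddEquiv.symm_apply_apply]
  rw [h1]
  constructor
  · intro hb
    have h2 := ((shiftAddEquiv G E' q).bijective.comp hb).comp (shiftAddEquiv G E q).symm.bijective
    convert h2 using 1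
    funext x
    simp
  · intro hb
    exact ((shiftAddEquiv G E' q).symm.bijective.comp hb).comp (shiftAddEquiv G E q).bijective

end

variable {𝒜 : Type u} [Category.{v} 𝒜] [Abelian 𝒜] [HasDerivedCategory.{w} 𝒜]
  {ℬ : Type u'} [Category.{v'} ℬ] [Abelian ℬ] [HasDerivedCategory.{w'} ℬ]
  (Φ : ℬ ⥤ 𝒜) [Φ.Additive] [PreservesFiniteLimits Φ] [PreservesFiniteColimits Φ]
  {G : DerivedCategory 𝒜 ⥤ DerivedCategory ℬ} (adj : Φ.mapDerivedCategory ⊣ G)

include adj in
theorem bijective_G_of_bijective (Γ : ℬ) {K' K'' : DerivedCategory 𝒜} (τ : K' ⟶ K'') (m : ℤ)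
    (h : Function.Bijective (Preadditive.rightComp (W (Φ.obj Γ) 0) (τ⟦m⟧'))) :
    Function.Bijective (Preadditive.rightComp (W Γ 0) ((G.map τ)⟦m⟧')) := by
  rw [bijective_rightComp_iff] at h ⊢
  let ε : Φ.mapDerivedCategory.obj (W Γ m) ≅ W (Φ.obj Γ) m :=
    (Φ.mapDerivedCategorySingleFunctor m).app Γ
  let e : ∀ K : DerivedCategory 𝒜, (W Γ m ⟶ G.obj K) ≃ (W (Φ.obj Γ) m ⟶ K) := fun K =>
    (adj.homEquiv (W Γ m) K).symm.trans
      (Groth.Agent.Helper9.SpHyper.precompAddEquiv ε.symm K).toEquiv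
  have hnat : ∀ x : W Γ m ⟶ G.obj K', e K'' (x ≫ G.map τ) = e K' x ≫ τ := by
    intro x
    change ε.inv ≫ (adj.homEquiv (W Γ m) K'').symm (x ≫ G.map τ) =
      (ε.inv ≫ (adj.homEquiv (W Γ m) K').symm x) ≫ τ
    rw [Adjunction.homEquiv_naturality_right_symm, Category.assoc]
  have h1 : (Preadditive.rightComp (W Γ m) (G.map τ) : _ → _) =
      (e K'').symm ∘ (Preadditive.rightComp (W (Φ.obj Γ) m) τ) ∘ (e K') := by
    funext x
    simp only [Function.comp_apply]
    apply (e K'').injective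
    rw [Equiv.apply_symm_apply]
    exact hnat x
  rw [h1]
  exact ((e K'').symm.bijective.comp h).comp (e K').bijective

end Groth.Agent.Helper4.AdjBij
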