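import Mathlib
import Groth.Agent.Helper1.WayOut2

/-! Way-out lemmas for the unit and counit of an adjunction `F ⊣ G` between derived categories,
`F` being triangulated and t-exact. -/

set_option autoImplicit false
set_option linter.unusedSectionVars false
universe w w' v v' u u'

open CategoryTheory Limits Pretriangulated Triangulated DerivedCategory

namespace Groth.Agent.Helper4.AdjWayOut

open Groth.Agent.Helper1.WayOut Groth.Agent.Helper1.DerTrunc

variable {A : Type u} [Category.{v} A] [Abelian A] [HasDerivedCategory.{w} A]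
  {B : Type u'} [Category.{v'} B] [Abelian B] [HasDerivedCategory.{w'} B]
  {F : DerivedCategory A ⥤ DerivedCategory B} {G : DerivedCategory B ⥤ DerivedCategory A}
  (adj : F ⊣ G)

include adj in
/-- the right adjoint of a right t-exact functor is left t-exact -/
lemma isGE_rightAdjoint (hFle : ∀ (X : DerivedCategory A) (b : ℤ), X.IsLE b → (F.obj X).IsLE b)
    (Y : DerivedCategory B) (a : ℤ) (hY : Y.IsGE a) : (G.obj Y).IsGE a := by
  refine ((tD A).isGE_iff_orthogonal (a - 1) a (by omega) (G.obj Y)).2 ?_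
  intro Z f hZ
  apply (adj.homEquiv Z Y).symm.injective
  have : (F.obj Z).IsLE (a - 1) := hFle Z (a - 1) hZ
  rw [(tD B).zero_of_isLE_of_isGE ((adj.homEquiv Z Y).symm f) (a - 1) a (by omega) this hY]
  exact ((tD B).zero_of_isLE_of_isGE ((adj.homEquiv Z Y).symm 0) (a - 1) a (by omega) this hY).symm

variable [F.CommShift ℤ] [F.IsTriangulated]

section

variable [G.CommShift ℤ] [adj.CommShift ℤ]

/-- the objects `M` of `B` such that the counit is an isomorphism on `M[0]` -/
def PCounit : ObjectProperty B := fun M => IsIso (adj.counit.app ((singleFunctor B 0).obj M))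

instance : (PCounit adj).IsClosedUnderIsomorphisms where
  of_iso e h := isIso_app_of_iso adj.counit ((singleFunctor B 0).mapIso e) h

/-- the objects `M` of `A` such that the unit is an isomorphism on `M[0]` -/
def PUnit : ObjectProperty A := fun M => IsIso (adj.unit.app ((singleFunctor A 0).obj M))

instance : (PUnit adj).IsClosedUnderIsomorphisms where
  of_iso e h := isIso_app_of_iso adj.unit ((singleFunctor A 0).mapIso e) h

include adj in
theorem isIso_counit_app_of_isGE'
    (hFle : ∀ (X : DerivedCategory A) (b : ℤ), X.IsLE b → (F.obj X).IsLE b)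
    (hFge : ∀ (X : DerivedCategory A) (a : ℤ), X.IsGE a → (F.obj X).IsGE a)
    (Y : DerivedCategory B) (a : ℤ) (hY : Y.IsGE a)
    (h : ∀ i : ℤ, IsIso (adj.counit.app ((singleFunctor B 0).obj ((homologyFunctor B i).obj Y)))) :
    IsIso (adj.counit.app Y) := by
  haveI := adj.isTriangulated_rightAdjoint
  haveI := hY
  exact isIso_app_of_isGE (PCounit adj) adj.counit
    (fun n => ⟨n, fun Z hZ => hFge _ n (isGE_rightAdjoint adj hFle Z n hZ)⟩)
    (fun n => ⟨n, fun Z hZ => hZ⟩) (fun M hM => hM) Y a h

include adj in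
theorem isIso_unit_app_of_isGE'
    (hFle : ∀ (X : DerivedCategory A) (b : ℤ), X.IsLE b → (F.obj X).IsLE b)
    (hFge : ∀ (X : DerivedCategory A) (a : ℤ), X.IsGE a → (F.obj X).IsGE a)
    (X : DerivedCategory A) (a : ℤ) (hX : X.IsGE a)
    (h : ∀ i : ℤ, IsIso (adj.unit.app ((singleFunctor A 0).obj ((homologyFunctor A i).obj X)))) :
    IsIso (adj.unit.app X) := by
  haveI := adj.isTriangulated_rightAdjoint
  haveI := hX
  exact isIso_app_of_isGE (PUnit adj) adj.unit
    (fun n => ⟨n, fun Z hZ => hZ⟩)
    (fun n => ⟨n, fun Z hZ => isGE_rightAdjoint adj hFle _ n (hFge Z n hZ)⟩)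
    (fun M hM => hM) X a h

end

include adj in
theorem isIso_counit_app_of_isGE
    (hFle : ∀ (X : DerivedCategory A) (b : ℤ), X.IsLE b → (F.obj X).IsLE b)
    (hFge : ∀ (X : DerivedCategory A) (a : ℤ), X.IsGE a → (F.obj X).IsGE a)
    (Y : DerivedCategory B) (a : ℤ) (hY : Y.IsGE a)
    (h : ∀ i : ℤ, IsIso (adj.counit.app ((singleFunctor B 0).obj ((homologyFunctor B i).obj Y)))) :
    IsIso (adj.counit.app Y) := by
  letI := adj.rightAdjointCommShift ℤ
  haveI := adj.commShift_of_leftAdjoint ℤ
  exact isIso_counit_app_of_isGE' adj hFle hFge Y a hY h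

include adj in
theorem isIso_unit_app_of_isGE
    (hFle : ∀ (X : DerivedCategory A) (b : ℤ), X.IsLE b → (F.obj X).IsLE b)
    (hFge : ∀ (X : DerivedCategory A) (a : ℤ), X.IsGE a → (F.obj X).IsGE a)
    (X : DerivedCategory A) (a : ℤ) (hX : X.IsGE a)
    (h : ∀ i : ℤ, IsIso (adj.unit.app ((singleFunctor A 0).obj ((homologyFunctor A i).obj X)))) :
    IsIso (adj.unit.app X) := by
  letI := adj.rightAdjointCommShift ℤ
  haveI := adj.commShift_of_leftAdjoint ℤ
  exact isIso_unit_app_of_isGE' adj hFle hFge X a hX h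

end Groth.Agent.Helper4.AdjWayOut
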