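import Mathlib
import Groth.Agent.Helper4.DimZero
import Groth.Agent.Lead.ConnHartogs

set_option autoImplicit false
universe u
open CategoryTheory CategoryTheory.Limits AlgebraicGeometry TopologicalSpace Opposite

namespace Groth.Agent.Helper4.AffHullA

theorem krullDimLE_zero_of_isIntegral {R A : Type*} [CommRing R] [CommRing A] (φ : R →+* A)
    (hφ : φ.IsIntegral) (hR : IsField R) : Ring.KrullDimLE 0 A := by
  refine Ring.KrullDimLE.mk₀ fun P hP => ?_
  letI := φ.toAlgebra
  haveI : Algebra.IsIntegral R A := ⟨hφ⟩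
  haveI : IsDomain (A ⧸ P) := Ideal.Quotient.isDomain P
  haveI : Algebra.IsIntegral R (A ⧸ P) := inferInstance
  exact Ideal.Quotient.maximal_of_isField P (isField_of_isIntegral_of_isField' hR)

/-- a function which is a unit exactly on a given clopen set -/
theorem exists_basicOpen_eq {X : Scheme.{u}} (U : Set X) (hU : IsClopen U) :
    ∃ ε : Γ(X, ⊤), (X.basicOpen ε : Set X) = U := by
  let A : X.Opens := ⟨U, hU.2⟩
  let B : X.Opens := ⟨Uᶜ, hU.1.isOpen_compl⟩
  have hAB : A ⊓ B = ⊥ := by
    ext y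
    simp [A, B]
  have hsup : A ⊔ B = ⊤ := by
    ext y
    simp [A, B]
  obtain ⟨e, he1, he2, -⟩ := Groth.Agent.Lead.ConnHartogs.exists_one_zero A B hAB
  refine ⟨X.presheaf.map (eqToHom hsup.symm).op e, ?_⟩
  ext y
  rw [SetLike.mem_coe, Scheme.mem_basicOpen _ _ _ (show y ∈ (⊤ : X.Opens) from trivial)]
  by_cases hy : y ∈ U
  · simp only [hy, iff_true]
    have hyA : y ∈ A := hy
    have h1 : X.presheaf.germ ⊤ y trivial (X.presheaf.map (eqToHom hsup.symm).op e) =
        X.presheaf.germ A y hyA (X.presheaf.map (homOfLE (le_sup_left : A ≤ A ⊔ B)).op e) := by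
      rw [TopCat.Presheaf.germ_res_apply, TopCat.Presheaf.germ_res_apply]
    rw [h1, he1, map_one]
    exact isUnit_one
  · simp only [hy, iff_false]
    have hyB : y ∈ B := hy
    have h1 : X.presheaf.germ ⊤ y trivial (X.presheaf.map (eqToHom hsup.symm).op e) =
        X.presheaf.germ B y hyB (X.presheaf.map (homOfLE (le_sup_right : B ≤ A ⊔ B)).op e) := by
      rw [TopCat.Presheaf.germ_res_apply, TopCat.Presheaf.germ_res_apply]
    rw [h1, he2, map_zero]
    exact not_isUnit_zero


/-- for a proper scheme over a field, the fibre of the affinization through a point is its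
connected component -/
theorem preimage_toSpecΓ_eq_connectedComponent {k : Type u} [Field k] {X : Scheme.{u}}
    (f : X ⟶ Spec (CommRingCat.of k)) [IsProper f] (x₀ : X) :
    X.toSpecΓ ⁻¹' {X.toSpecΓ x₀} = connectedComponent x₀ := by
  haveI : IsLocallyNoetherian X := LocallyOfFiniteType.isLocallyNoetherian f
  haveI : LocallyConnectedSpace X := Groth.Agent.Lead.ConnHartogs.locallyConnectedSpace
  haveI : Ring.KrullDimLE 0 Γ(X, ⊤) := by
    refine krullDimLE_zero_of_isIntegral f.appTop.hom
      (isIntegral_appTop_of_universallyClosed f) ?_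
    exact (Scheme.ΓSpecIso (.of k)).commRingCatIsoToRingEquiv.toMulEquiv.isField
      (Field.toIsField k)
  apply Set.Subset.antisymm
  · intro x hx
    have hx' : X.toSpecΓ x = X.toSpecΓ x₀ := hx
    obtain ⟨ε, hε⟩ := exists_basicOpen_eq (connectedComponent x₀)
      ⟨isClosed_connectedComponent, isOpen_connectedComponent⟩
    have h1 : ∀ y : X, y ∈ connectedComponent x₀ ↔
        X.toSpecΓ y ∈ (PrimeSpectrum.basicOpen ε : Set (PrimeSpectrum Γ(X, ⊤))) := by
      intro y
      rw [← hε, ← Scheme.toSpecΓ_preimage_basicOpen]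
      rfl
    rw [h1, hx', ← h1]
    exact mem_connectedComponent
  · intro x hx
    by_contra hne
    have hne' : X.toSpecΓ x ≠ X.toSpecΓ x₀ := hne
    set P : PrimeSpectrum Γ(X, ⊤) := X.toSpecΓ x with hP
    set Q : PrimeSpectrum Γ(X, ⊤) := X.toSpecΓ x₀ with hQ
    have hpm : P.asIdeal.IsMaximal := P.2.isMaximal'
    have hnle : ¬ P.asIdeal ≤ Q.asIdeal := fun hle =>
      hne' (PrimeSpectrum.ext (hpm.eq_of_le Q.2.ne_top hle))
    obtain ⟨g, hgP, hgQ⟩ := SetLike.not_le_iff_exists.mp hnle
    have hclopen : IsClopen (X.toSpecΓ ⁻¹' (PrimeSpectrum.basicOpen g : Set (PrimeSpectrum Γ(X, ⊤)))) :=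
      (Groth.Agent.Helper4.isClopen_basicOpen g).preimage X.toSpecΓ.continuous
    have hx₀ : x₀ ∈ X.toSpecΓ ⁻¹' (PrimeSpectrum.basicOpen g : Set (PrimeSpectrum Γ(X, ⊤))) := hgQ
    have := hclopen.connectedComponent_subset hx₀ hx
    exact this hgP

end Groth.Agent.Helper4.AffHullA
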