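import Mathlib
set_option autoImplicit false
universe u
open AlgebraicGeometry CategoryTheory Limits TopologicalSpace

namespace Groth.Agent.Helper4.AffStratA

/-- A scheme which is a finite disjoint union of affine opens is affine. -/
theorem isAffine_of_disjoint_affine_cover {Z : Scheme.{u}} {σ : Type} [Finite σ]
    (V : σ → Z.Opens) (hV : ∀ i, IsAffineOpen (V i)) (hcov : ⨆ i, V i = ⊤)
    (hdisj : Pairwise (Function.onFun Disjoint V)) : IsAffine Z := by
  haveI : ∀ i, IsAffine ((V i : Z.Opens) : Scheme.{u}) := hV
  have hcov' : ⨆ i, ((V i).ι).opensRange = ⊤ := by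
    simpa using hcov
  have hdisj' : Pairwise (Function.onFun Disjoint (fun i => ((V i).ι).opensRange)) := by
    intro i j hij
    simpa [Function.onFun] using hdisj hij
  obtain ⟨hc⟩ := nonempty_isColimit_cofanMk_of (fun i => (V i).ι) hcov' hdisj'
  let e : (∐ fun i => ((V i : Z.Opens) : Scheme.{u})) ≅ Z :=
    (coproductIsCoproduct _).coconePointUniqueUpToIso hc
  exact IsAffine.of_isIso e.inv

end Groth.Agent.Helper4.AffStratA
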