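import Mathlib
import Groth.Prelude.Def_MoreMor
set_option autoImplicit false
universe u
open AlgebraicGeometry CategoryTheory Limits TopologicalSpace

namespace Groth.Agent.Helper4.AffStratB

/-- A scheme which is a finite disjoint union of affine opens is affine (any index universe). -/
theorem isAffine_of_disjoint_affine_cover' {Z : Scheme.{u}} {σ : Type*} [Finite σ]
    (V : σ → Z.Opens) (hV : ∀ i, IsAffineOpen (V i)) (hcov : ⨆ i, V i = ⊤)
    (hdisj : Pairwise (Function.onFun Disjoint V)) : IsAffine Z := by
  haveI : ∀ i, IsAffine ((V i : Z.Opens) : Scheme.{u}) := hV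
  have hcov' : ⨆ i, ((V i).ι).opensRange = ⊤ := by
    simpa using hcov
  have hdisj' : Pairwise (Function.onFun Disjoint (fun i => ((V i).ι).opensRange)) := by
    intro i j hij
    simpa [Function.onFun] using hdisj hij
  obtain ⟨hc⟩ := nonempty_isColimit_cofanMk_of (fun i => (V i).ι) hcov' hdisj'
  let e : (∐ fun i => ((V i : Z.Opens) : Scheme.{u})) ≅ Z :=
    (coproductIsCoproduct _).coconePointUniqueUpToIso hc
  exact IsAffine.of_isIso e.inv

/-- A finite disjoint union of affine opens is an affine open. -/
theorem isAffineOpen_iSup_of_disjoint {X : Scheme.{u}} {σ : Type*} [Finite σ]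
    (V : σ → X.Opens) (hV : ∀ i, IsAffineOpen (V i))
    (hdisj : Pairwise (Function.onFun Disjoint V)) : IsAffineOpen (⨆ i, V i) := by
  set W : X.Opens := ⨆ i, V i with hW
  have hle : ∀ i, V i ≤ W := fun i => le_iSup V i
  have h1 : ∀ i, IsAffineOpen (W.ι ⁻¹ᵁ V i) := fun i =>
    (hV i).preimage_of_isOpenImmersion W.ι (by simpa using hle i)
  have hcov : ⨆ i, W.ι ⁻¹ᵁ V i = ⊤ := by
    rw [eq_top_iff]
    intro w _
    have hw : w.1 ∈ ⨆ i, V i := w.2
    obtain ⟨i, hi⟩ := Opens.mem_iSup.1 hw
    exact Opens.mem_iSup.2 ⟨i, hi⟩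
  have hdisj' : Pairwise (Function.onFun Disjoint fun i => W.ι ⁻¹ᵁ V i) := by
    intro i j hij
    have h := hdisj hij
    rw [Function.onFun, disjoint_iff] at h ⊢
    rw [eq_bot_iff]
    intro w hw
    have : w.1 ∈ V i ⊓ V j := ⟨hw.1, hw.2⟩
    rw [h] at this
    exact this.elim
  exact isAffine_of_disjoint_affine_cover' _ h1 hcov hdisj'


/-- In a scheme with Noetherian underlying space there is an affine open, with affine inclusion,
containing the generic points of all irreducible components. -/
theorem exists_affine_dense (X : Scheme.{u}) [NoetherianSpace X] :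
    ∃ U : X.Opens, IsAffineOpen U ∧ IsAffineHom U.ι ∧
      ∀ C ∈ irreducibleComponents X, ∃ x ∈ U, closure {x} = C := by
  classical
  have hfin : (irreducibleComponents X).Finite := NoetherianSpace.finite_irreducibleComponents
  haveI : Finite ↥(irreducibleComponents X) := hfin.to_subtype
  let σ := ↥(irreducibleComponents X)
  have hirr : ∀ C : σ, IsIrreducible C.1 := fun C => C.2.1
  have hcl : ∀ C : σ, IsClosed C.1 := fun C => isClosed_of_mem_irreducibleComponents C.1 C.2
  have hmax : ∀ (C : σ) (S : Set X), IsIrreducible S → C.1 ⊆ S → S ⊆ C.1 :=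
    fun C S hS h => C.2.2 hS h
  choose η hη using fun C : σ => QuasiSober.sober (hirr C) (hcl C)
  have hηcl : ∀ C : σ, closure {η C} = C.1 := fun C => (hη C).def
  -- finite affine cover
  obtain ⟨t, ht⟩ := isCompact_univ.elim_finite_subcover
    (fun V : X.affineOpens => (V.1 : Set X)) (fun V => V.1.isOpen) (by
      intro x _
      have : x ∈ (⨆ i : X.affineOpens, (i : X.Opens)) := by
        rw [iSup_affineOpens_eq_top]; trivial
      obtain ⟨V, hV⟩ := Opens.mem_iSup.1 this
      exact Set.mem_iUnion.2 ⟨V, hV⟩)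
  have hne : ∀ C C' : σ, C' ≠ C → η C ∉ C'.1 := by
    intro C C' hCC' h
    have h1 : C.1 ⊆ C'.1 := by
      rw [← hηcl C]
      exact closure_minimal (Set.singleton_subset_iff.2 h) (hcl C')
    have h2 : C'.1 ⊆ C.1 := hmax C C'.1 (hirr C') h1
    exact hCC' (Subtype.ext (Set.Subset.antisymm h2 h1))
  let Wset : σ → Set X := fun C =>
    (⋂ V ∈ t.filter (fun V => η C ∈ V.1), (V.1 : Set X)) ∩
      (⋃ C' : {C' : σ // C' ≠ C}, C'.1.1)ᶜ
  have hWopen : ∀ C, IsOpen (Wset C) := fun C =>
    (isOpen_biInter_finset fun V _ => V.1.isOpen).inter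
      (isClosed_iUnion_of_finite fun C' : {C' : σ // C' ≠ C} => hcl C'.1).isOpen_compl
  have hηW : ∀ C, η C ∈ Wset C := by
    intro C
    refine ⟨?_, ?_⟩
    · simp only [Set.mem_iInter]
      intro V hV
      exact (Finset.mem_filter.1 hV).2
    · simp only [Set.mem_compl_iff, Set.mem_iUnion, not_exists]
      intro C'
      exact hne C C'.1 C'.2
  have hex : ∀ C : σ, ∃ U : X.Opens, IsAffineOpen U ∧ η C ∈ U ∧ (U : Set X) ⊆ Wset C := by
    intro C
    obtain ⟨U, hU, hxU, hUW⟩ := Opens.isBasis_iff_nbhd.1 X.isBasis_affineOpens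
      (U := ⟨Wset C, hWopen C⟩) (hηW C)
    exact ⟨U, hU, hxU, hUW⟩
  choose Uc hUaff hηU hUW using hex
  have hUsubC : ∀ C : σ, (Uc C : Set X) ⊆ C.1 := by
    intro C x hx
    let C' : σ := ⟨irreducibleComponent x, irreducibleComponent_mem_irreducibleComponents x⟩
    by_cases hC : C' = C
    · rw [← hC]; exact mem_irreducibleComponent
    · exfalso
      refine (hUW C hx).2 ?_
      exact Set.mem_iUnion.2 ⟨⟨C', hC⟩, mem_irreducibleComponent⟩
  have hdisj : Pairwise (Function.onFun Disjoint Uc) := by
    intro C C' hCC'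
    rw [Function.onFun, disjoint_iff, eq_bot_iff]
    intro x hx
    exfalso
    refine (hUW C' hx.2).2 ?_
    exact Set.mem_iUnion.2 ⟨⟨C, hCC'⟩, hUsubC C hx.1⟩
  have hin : ∀ (C : σ) (V : X.affineOpens), V ∈ t → η C ∈ V.1 → Uc C ≤ V.1 := by
    intro C V hV hηV x hx
    have := (hUW C hx).1
    simp only [Set.mem_iInter] at this
    exact this V (Finset.mem_filter.2 ⟨hV, hηV⟩)
  have hout : ∀ (C : σ) (V : X.Opens) (x : X), x ∈ Uc C → x ∈ V → η C ∈ V := by
    intro C V x hx hxV
    have h1 : x ∈ closure {η C} := by rw [hηcl C]; exact hUsubC C hx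
    have h2 : η C ⤳ x := specializes_iff_mem_closure.2 h1
    exact h2.mem_open V.isOpen hxV
  refine ⟨⨆ C, Uc C, isAffineOpen_iSup_of_disjoint Uc hUaff hdisj, ?_, ?_⟩
  · set U : X.Opens := ⨆ C, Uc C with hUdef
    have hcovt : ⨆ V : {V // V ∈ t}, ((V.1 : X.affineOpens) : X.Opens) = ⊤ := by
      rw [eq_top_iff]
      intro x _
      have := ht (Set.mem_univ x)
      simp only [Set.mem_iUnion] at this
      obtain ⟨V, hV, hx⟩ := this
      exact Opens.mem_iSup.2 ⟨⟨V, hV⟩, hx⟩
    rw [HasAffineProperty.iff_of_iSup_eq_top (P := @IsAffineHom)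
      (fun V : {V // V ∈ t} => V.1) hcovt]
    intro V
    change IsAffineOpen (U.ι ⁻¹ᵁ V.1.1)
    rw [← U.ι.isAffineOpen_iff_of_isOpenImmersion, U.ι.image_preimage_eq_opensRange_inf,
      Scheme.Opens.opensRange_ι]
    have heq : U ⊓ V.1.1 = ⨆ C : {C : σ // η C ∈ V.1.1}, Uc C.1 := by
      ext x
      simp only [Opens.coe_inf, Set.mem_inter_iff, SetLike.mem_coe, Opens.mem_iSup]
      constructor
      · rintro ⟨hxU, hxV⟩
        rw [hUdef, Opens.mem_iSup] at hxU
        obtain ⟨C, hC⟩ := hxU
        exact ⟨⟨C, hout C V.1.1 x hC hxV⟩, hC⟩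
      · rintro ⟨C, hC⟩
        refine ⟨?_, hin C.1 V.1 V.2 C.2 hC⟩
        rw [hUdef, Opens.mem_iSup]
        exact ⟨C.1, hC⟩
    rw [heq]
    refine isAffineOpen_iSup_of_disjoint _ (fun C => hUaff C.1) ?_
    intro C C' hCC'
    exact hdisj (fun h => hCC' (Subtype.ext h))
  · intro C hC
    refine ⟨η ⟨C, hC⟩, ?_, hηcl ⟨C, hC⟩⟩
    exact Opens.mem_iSup.2 ⟨⟨C, hC⟩, hηU _⟩


/-- Chains of irreducible closed subsets of a closed subspace containing no irreducible component
extend by one step. -/
theorem length_succ_le {X Z : Type*} [TopologicalSpace X] [TopologicalSpace Z] {j : Z → X}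
    (hj : Topology.IsClosedEmbedding j)
    (h : ∀ C ∈ irreducibleComponents X, ¬ C ⊆ Set.range j)
    (p : LTSeries (IrreducibleCloseds Z)) :
    ((p.length + 1 : ℕ) : WithBot ℕ∞) ≤ topologicalKrullDim X := by
  let q : LTSeries (IrreducibleCloseds X) :=
    p.map (IrreducibleCloseds.map j hj.continuous)
      (IrreducibleCloseds.map_strictMono_of_isInducing hj.isInducing)
  have hlast : q.last = IrreducibleCloseds.map j hj.continuous p.last := LTSeries.last_map _ _ _
  have htop : (q.last : Set X) ⊆ Set.range j := by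
    rw [hlast, IrreducibleCloseds.coe_map,
      (hj.isClosedMap _ p.last.isClosed).closure_eq]
    exact Set.image_subset_range _ _
  obtain ⟨C, hC, hsub⟩ : ∃ C ∈ irreducibleComponents X, (q.last : Set X) ⊆ C := by
    obtain ⟨C, hC1, hC2, hC3⟩ :=
      exists_preirreducible (q.last : Set X) q.last.isIrreducible.isPreirreducible
    refine ⟨C, ⟨⟨(q.last.isIrreducible.nonempty).mono hC2, hC1⟩, fun u hu hCu => ?_⟩, hC2⟩
    exact (hC3 u hu.isPreirreducible hCu).le
  let Ctop : IrreducibleCloseds X := ⟨C, hC.1, isClosed_of_mem_irreducibleComponents C hC⟩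
  have hlt : q.last < Ctop := by
    refine lt_of_le_of_ne hsub (fun heq => h C hC ?_)
    have : (q.last : Set X) = C := congrArg (fun T : IrreducibleCloseds X => (T : Set X)) heq
    rw [← this]
    exact htop
  have h3 := Order.LTSeries.length_le_krullDim (q.snoc Ctop hlt)
  have h4 : (q.snoc Ctop hlt).length = p.length + 1 := by
    simp [q]
  rw [h4] at h3
  exact h3

theorem hasAffineStratification_of_dim_le : ∀ (d : ℕ) (X : Scheme.{u}) [NoetherianSpace X],
    topologicalKrullDim X ≤ d → MoreMor.HasAffineStratification X d := by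
  classical
  intro d
  induction d with
  | zero =>
    intro X _ hdim
    obtain ⟨U, hU, hUι, hgen⟩ := exists_affine_dense X
    let T : Closeds X := ⟨(U : Set X)ᶜ, U.isOpen.isClosed_compl⟩
    let I := Scheme.IdealSheafData.vanishingIdeal T
    let j : I.subscheme ⟶ X := I.subschemeι
    have hrange : Set.range j = (U : Set X)ᶜ := by
      change Set.range I.subschemeι = _
      rw [Scheme.IdealSheafData.range_subschemeι,
        Scheme.IdealSheafData.coe_support_vanishingIdeal]
      rfl
    have hjemb : Topology.IsClosedEmbedding j := j.isClosedEmbedding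
    have hcomp : ∀ C ∈ irreducibleComponents X, ¬ C ⊆ Set.range j := by
      intro C hC hsub
      obtain ⟨x, hxU, hx⟩ := hgen C hC
      have : x ∈ Set.range j := hsub (by rw [← hx]; exact subset_closure rfl)
      rw [hrange] at this
      exact this hxU
    have hempty : IsEmpty I.subscheme := by
      by_contra hne
      rw [not_isEmpty_iff] at hne
      obtain ⟨z⟩ := hne
      let p : LTSeries (IrreducibleCloseds I.subscheme) :=
        RelSeries.singleton _ ⟨closure {z}, isIrreducible_singleton.closure, isClosed_closure⟩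
      have h1 := length_succ_le hjemb hcomp p
      have h2 := h1.trans hdim
      have h3 : ((p.length + 1 : ℕ) : WithBot ℕ∞) ≤ ((0 : ℕ) : WithBot ℕ∞) := by
        simpa using h2
      rw [Nat.cast_le] at h3
      omega
    have hUtop : (U : Set X) = Set.univ := by
      have : Set.range j = ∅ := Set.range_eq_empty j
      rw [hrange] at this
      exact Set.compl_empty_iff.1 this
    refine ⟨fun _ => 0, fun i => ?_, fun i => ?_⟩
    · have : {x : X | (0 : Fin (0 + 1)) ≤ i} = Set.univ := by
        ext x; simp
      rw [this]; exact isClosed_univ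
    · refine ⟨U, U.ι, inferInstance, hU, hUι, ?_⟩
      rw [Scheme.Opens.range_ι, hUtop]
      ext x
      simp only [Set.mem_univ, Set.mem_ofPred_eq, true_iff]
      apply Fin.ext
      have := i.isLt
      simp only [Fin.val_zero]
      omega
  | succ d ih =>
    intro X _ hdim
    obtain ⟨U, hU, hUι, hgen⟩ := exists_affine_dense X
    let T : Closeds X := ⟨(U : Set X)ᶜ, U.isOpen.isClosed_compl⟩
    let I := Scheme.IdealSheafData.vanishingIdeal T
    let j : I.subscheme ⟶ X := I.subschemeι
    have hrange : Set.range j = (U : Set X)ᶜ := by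
      change Set.range I.subschemeι = _
      rw [Scheme.IdealSheafData.range_subschemeι,
        Scheme.IdealSheafData.coe_support_vanishingIdeal]
      rfl
    have hjemb : Topology.IsClosedEmbedding j := j.isClosedEmbedding
    have hcomp : ∀ C ∈ irreducibleComponents X, ¬ C ⊆ Set.range j := by
      intro C hC hsub
      obtain ⟨x, hxU, hx⟩ := hgen C hC
      have : x ∈ Set.range j := hsub (by rw [← hx]; exact subset_closure rfl)
      rw [hrange] at this
      exact this hxU
    haveI : NoetherianSpace I.subscheme := hjemb.isInducing.noetherianSpace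
    have hdimZ : topologicalKrullDim I.subscheme ≤ d := by
      unfold topologicalKrullDim Order.krullDim
      refine iSup_le fun p => ?_
      have h1 := (length_succ_le hjemb hcomp p).trans hdim
      have h3 : ((p.length + 1 : ℕ) : WithBot ℕ∞) ≤ ((d + 1 : ℕ) : WithBot ℕ∞) := by
        simpa using h1
      rw [Nat.cast_le] at h3
      have h4 : p.length ≤ d := by omega
      exact_mod_cast h4
    obtain ⟨sZ, hclosed, hlev⟩ := ih I.subscheme hdimZ
    have hinj : Function.Injective j := hjemb.injective
    let s : X → Fin (d + 1 + 1) := fun x =>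
      if h : x ∈ Set.range j then Fin.castSucc (sZ h.choose) else Fin.last _
    have hs1 : ∀ z, s (j z) = Fin.castSucc (sZ z) := by
      intro z
      have h : j z ∈ Set.range j := ⟨z, rfl⟩
      simp only [s, dif_pos h]
      rw [hinj h.choose_spec]
    have hs2 : ∀ x, x ∉ Set.range j → s x = Fin.last _ := fun x hx => by
      simp only [s, dif_neg hx]
    refine ⟨s, fun i => ?_, fun i => ?_⟩
    · rcases Fin.eq_castSucc_or_eq_last i with ⟨i', rfl⟩ | rfl
      · have : {x : X | s x ≤ Fin.castSucc i'} = j '' {z | sZ z ≤ i'} := by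
          ext x
          simp only [Set.mem_ofPred_eq, Set.mem_image]
          constructor
          · intro hx
            by_cases hxr : x ∈ Set.range j
            · obtain ⟨z, rfl⟩ := hxr
              rw [hs1, Fin.castSucc_le_castSucc_iff] at hx
              exact ⟨z, hx, rfl⟩
            · rw [hs2 x hxr] at hx
              exact absurd (lt_of_le_of_lt hx (Fin.castSucc_lt_last i')) (lt_irrefl _)
          · rintro ⟨z, hz, rfl⟩
            rw [hs1, Fin.castSucc_le_castSucc_iff]
            exact hz
        rw [this]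
        exact hjemb.isClosedMap _ (hclosed i')
      · have : {x : X | s x ≤ Fin.last (d + 1)} = Set.univ := by
          ext x; simp [Fin.le_last]
        rw [this]; exact isClosed_univ
    · rcases Fin.eq_castSucc_or_eq_last i with ⟨i', rfl⟩ | rfl
      · obtain ⟨Zi, ιi, h1, h2, h3, h4⟩ := hlev i'
        haveI := h1
        haveI := h3
        refine ⟨Zi, ιi ≫ j, inferInstance, h2, inferInstance, ?_⟩
        rw [Scheme.Hom.comp_base, TopCat.coe_comp, Set.range_comp, h4]
        ext x
        simp only [Set.mem_image, Set.mem_ofPred_eq]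
        constructor
        · rintro ⟨z, hz, rfl⟩
          rw [hs1, hz]
        · intro hx
          by_cases hxr : x ∈ Set.range j
          · obtain ⟨z, rfl⟩ := hxr
            rw [hs1] at hx
            exact ⟨z, Fin.castSucc_injective _ hx, rfl⟩
          · rw [hs2 x hxr] at hx
            exact absurd hx.symm (Fin.castSucc_lt_last i').ne
      · refine ⟨U, U.ι, inferInstance, hU, hUι, ?_⟩
        rw [Scheme.Opens.range_ι]
        ext x
        simp only [SetLike.mem_coe, Set.mem_ofPred_eq]
        constructor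
        · intro hx
          refine hs2 x ?_
          rw [hrange]
          exact fun h => h hx
        · intro hx
          by_contra hxU
          have : x ∈ Set.range j := by rw [hrange]; exact hxU
          obtain ⟨z, rfl⟩ := this
          rw [hs1] at hx
          exact (Fin.castSucc_lt_last _).ne hx

end Groth.Agent.Helper4.AffStratB
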