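import Mathlib
import Groth.Prelude.Def_MoreMor
set_option autoImplicit false
universe u
open AlgebraicGeometry CategoryTheory Limits TopologicalSpace

namespace Groth.Agent.Helper4.AffStratC

/-- A closed subset of an affine open which is contained in or disjoint from each member of an
affine open cover is the image of an affine immersion from an affine scheme. -/
theorem exists_stratum {X : Scheme.{u}} (D : X.Opens) (hD : IsAffineOpen D) (C : Set X)
    (hC : IsClosed C) {ι : Type*} (V : ι → X.affineOpens)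
    (hV : ⨆ l, ((V l : X.affineOpens) : X.Opens) = ⊤)
    (hall : ∀ l, ((D : Set X) ∩ C ⊆ ((V l).1 : Set X)) ∨
      Disjoint ((D : Set X) ∩ C) ((V l).1 : Set X)) :
    ∃ (Z : Scheme.{u}) (i : Z ⟶ X), IsImmersion i ∧ IsAffine Z ∧ IsAffineHom i ∧
      Set.range i = (D : Set X) ∩ C := by
  haveI : IsAffine (D : Scheme) := hD
  let Tc : Closeds D := ⟨Subtype.val ⁻¹' C, hC.preimage continuous_subtype_val⟩
  let I := Scheme.IdealSheafData.vanishingIdeal Tc
  let i : I.subscheme ⟶ X := I.subschemeι ≫ D.ι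
  have hrange : Set.range i = (D : Set X) ∩ C := by
    change Set.range (I.subschemeι ≫ D.ι) = _
    rw [Scheme.Hom.comp_base, TopCat.coe_comp, Set.range_comp,
      Scheme.IdealSheafData.range_subschemeι, Scheme.IdealSheafData.coe_support_vanishingIdeal]
    ext x
    constructor
    · rintro ⟨w, hw, rfl⟩
      exact ⟨w.2, hw⟩
    · rintro ⟨h1, h2⟩
      exact ⟨⟨x, h1⟩, h2, rfl⟩
  haveI : IsAffine I.subscheme := isAffine_of_isAffineHom I.subschemeι
  refine ⟨I.subscheme, i, inferInstance, inferInstance, ?_, hrange⟩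
  rw [HasAffineProperty.iff_of_iSup_eq_top (P := @IsAffineHom) V hV]
  intro l
  change IsAffineOpen (i ⁻¹ᵁ (V l).1)
  rcases hall l with h | h
  · have : i ⁻¹ᵁ (V l).1 = ⊤ := by
      rw [eq_top_iff]
      intro z _
      change i z ∈ ((V l).1 : Set X)
      exact h (hrange ▸ ⟨z, rfl⟩)
    rw [this]
    exact isAffineOpen_top _
  · have : i ⁻¹ᵁ (V l).1 = ⊥ := by
      rw [eq_bot_iff]
      intro z hz
      exact (Set.disjoint_left.1 h (hrange ▸ ⟨z, rfl⟩) hz).elim
    rw [this]
    exact isAffineOpen_bot _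


theorem exists_strat_of_qcqs (X : Scheme.{u}) [CompactSpace X] [QuasiSeparatedSpace X] :
    ∃ n : ℕ, MoreMor.HasAffineStratification X n := by
  classical
  obtain ⟨t, ht⟩ := isCompact_univ.elim_finite_subcover
    (fun V : X.affineOpens => (V.1 : Set X)) (fun V => V.1.isOpen) (by
      intro x _
      have : x ∈ (⨆ i : X.affineOpens, (i : X.Opens)) := by
        rw [iSup_affineOpens_eq_top]; trivial
      obtain ⟨V, hV⟩ := Opens.mem_iSup.1 this
      exact Set.mem_iUnion.2 ⟨V, hV⟩)
  let ι := {V // V ∈ t}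
  have hcovt : ⨆ V : ι, ((V.1 : X.affineOpens) : X.Opens) = ⊤ := by
    rw [eq_top_iff]
    intro x _
    have := ht (Set.mem_univ x)
    simp only [Set.mem_iUnion] at this
    obtain ⟨V, hV, hx⟩ := this
    exact Opens.mem_iSup.2 ⟨⟨V, hV⟩, hx⟩
  let A : X → Finset ι := fun x => Finset.univ.filter (fun V => x ∈ V.1.1)
  have hA : ∀ x (V : ι), V ∈ A x ↔ x ∈ V.1.1 := fun x V => by simp [A]
  let UI : Finset ι → Set X := fun I => ⋂ V ∈ I, (V.1.1 : Set X)
  have hUImem : ∀ I x, x ∈ UI I ↔ ∀ V ∈ I, x ∈ V.1.1 := fun I x => by simp [UI]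
  have hUI : ∀ I, IsCompact (UI I) ∧ IsOpen (UI I) := by
    intro I
    induction I using Finset.induction_on with
    | empty =>
      have : UI ∅ = Set.univ := by ext x; simp [UI]
      rw [this]
      exact ⟨isCompact_univ, isOpen_univ⟩
    | insert a I ha ih =>
      have : UI (insert a I) = (a.1.1 : Set X) ∩ UI I := by
        ext x
        simp [UI]
      rw [this]
      exact ⟨QuasiSeparatedSpace.inter_isCompact _ _ a.1.1.isOpen a.1.2.isCompact ih.2 ih.1,
        a.1.1.isOpen.inter ih.2⟩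
  have hF : ∀ I, ∃ F : Finset X.affineOpens, UI I = ⋃ D ∈ F, (D.1 : Set X) := by
    intro I
    obtain ⟨s, hs, e⟩ := isCompact_and_isOpen_iff_finite_and_eq_biUnion_affineOpens.mp (hUI I)
    refine ⟨hs.toFinset, ?_⟩
    rw [e]
    ext x
    simp
  choose F hF using hF
  let L₀ : List ((_ : Finset ι) × X.affineOpens) :=
    ((Finset.univ : Finset (Finset ι)).sigma F).toList
  let le : ((_ : Finset ι) × X.affineOpens) → ((_ : Finset ι) × X.affineOpens) → Bool :=
    fun p q => decide (q.1.card ≤ p.1.card)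
  let L := L₀.mergeSort le
  have hperm : L.Perm L₀ := List.mergeSort_perm _ _
  have hmem : ∀ p, p ∈ L ↔ p.2 ∈ F p.1 := by
    intro p
    rw [hperm.mem_iff, Finset.mem_toList, Finset.mem_sigma]
    simp
  have hpw : L.Pairwise (fun p q => q.1.card ≤ p.1.card) := by
    have := List.pairwise_mergeSort (le := le)
      (fun a b c hab hbc => by
        simp only [le, decide_eq_true_eq] at hab hbc ⊢
        exact hbc.trans hab)
      (fun a b => by
        simp only [le, Bool.or_eq_true, decide_eq_true_eq]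
        exact le_total _ _) L₀
    exact this.imp (fun {a b} h => by simpa [le] using h)
  set N := L.length with hN
  let Dk : ℕ → X.Opens := fun k => if h : k < N then (L[k]).2.1 else ⊥
  let Ik : ℕ → Finset ι := fun k => if h : k < N then (L[k]).1 else ∅
  have hDaff : ∀ k, IsAffineOpen (Dk k) := by
    intro k
    by_cases h : k < N
    · simp only [Dk, dif_pos h]; exact (L[k]).2.2
    · simp only [Dk, dif_neg h]; exact isAffineOpen_bot _
  have hDN : ∀ k x, x ∈ Dk k → k < N := by
    intro k x hx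
    by_contra h
    simp only [Dk, dif_neg h] at hx
    exact hx
  have hDsub : ∀ k, (Dk k : Set X) ⊆ UI (Ik k) := by
    intro k x hx
    have h := hDN k x hx
    simp only [Dk, dif_pos h] at hx
    simp only [Ik, dif_pos h]
    have h1 : L[k] ∈ L := List.getElem_mem h
    rw [hmem] at h1
    rw [hF]
    exact Set.mem_iUnion₂.2 ⟨_, h1, hx⟩
  have hsorted : ∀ k k', k < k' → k' < N → (Ik k').card ≤ (Ik k).card := by
    intro k k' hkk' hk'
    have hk : k < N := hkk'.trans hk'
    simp only [Ik, dif_pos hk, dif_pos hk']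
    exact (List.pairwise_iff_getElem.1 hpw) k k' hk hk' hkk'
  have hcovx : ∀ x, ∃ k, Ik k = A x ∧ x ∈ Dk k := by
    intro x
    have hx : x ∈ UI (A x) := (hUImem _ _).2 fun V hV => (hA x V).1 hV
    rw [hF] at hx
    obtain ⟨D, hD, hxD⟩ := Set.mem_iUnion₂.1 hx
    have h1 : (⟨A x, D⟩ : (_ : Finset ι) × X.affineOpens) ∈ L := (hmem _).2 hD
    obtain ⟨k, hk, hk'⟩ := List.getElem_of_mem h1
    have e1 : Ik k = (L[k]).1 := dif_pos hk
    have e2 : Dk k = (L[k]).2.1 := dif_pos hk
    refine ⟨k, ?_, ?_⟩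
    · rw [e1, hk']
    · rw [e2, hk']
      exact hxD
  have hex : ∀ x, ∃ k, x ∈ Dk k := fun x => (hcovx x).imp fun k h => h.2
  let κ : X → ℕ := fun x => Nat.find (hex x)
  have hκ1 : ∀ x, x ∈ Dk (κ x) := fun x => Nat.find_spec (hex x)
  have hκ2 : ∀ x k, k < κ x → x ∉ Dk k := fun x k h => Nat.find_min (hex x) h
  have hκ3 : ∀ x k, x ∈ Dk k → κ x ≤ k := fun x k h => Nat.find_min' (hex x) h
  have hκN : ∀ x, κ x < N := fun x => hDN _ x (hκ1 x)
  have hkey : ∀ x, Ik (κ x) = A x := by
    intro x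
    obtain ⟨k, hk, hxk⟩ := hcovx x
    have hle := hκ3 x k hxk
    have hsub : Ik (κ x) ⊆ A x := by
      intro V hV
      rw [hA]
      exact (hUImem _ _).1 (hDsub _ (hκ1 x)) V hV
    rcases hle.eq_or_lt with h | h
    · rw [h, hk]
    · have := hsorted (κ x) k h (hDN k x hxk)
      rw [hk] at this
      exact Finset.eq_of_subset_of_card_le hsub this
  refine ⟨N, fun x => ⟨N - κ x, by omega⟩, fun i => ?_, fun i => ?_⟩
  · have : {x : X | (⟨N - κ x, by omega⟩ : Fin (N + 1)) ≤ i} =
        (⋃ k : {k : ℕ // k < N - i}, (Dk k.1 : Set X))ᶜ := by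
      ext x
      simp only [Set.mem_ofPred_eq, Fin.le_def, Set.mem_compl_iff, Set.mem_iUnion, not_exists,
        SetLike.mem_coe]
      have := hκN x
      have := i.isLt
      constructor
      · intro h k
        exact hκ2 x k.1 (by have := k.2; omega)
      · intro h
        by_contra hcon
        exact h ⟨κ x, by omega⟩ (hκ1 x)
    rw [this]
    exact (isOpen_iUnion fun k : {k : ℕ // k < N - i} => (Dk k.1).isOpen).isClosed_compl
  · have hlevel : {x : X | (⟨N - κ x, by omega⟩ : Fin (N + 1)) = i} =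
        (Dk (N - i) : Set X) ∩ (⋃ k : {k : ℕ // k < N - i}, (Dk k.1 : Set X))ᶜ := by
      ext x
      simp only [Set.mem_ofPred_eq, Fin.ext_iff, Set.mem_inter_iff, SetLike.mem_coe,
        Set.mem_compl_iff, Set.mem_iUnion, not_exists]
      have := hκN x
      have := i.isLt
      constructor
      · intro h
        have hk : κ x = N - i := by omega
        refine ⟨hk ▸ hκ1 x, fun k => hκ2 x k.1 (by have := k.2; omega)⟩
      · rintro ⟨h1, h2⟩
        have h3 := hκ3 x _ h1
        have h4 : ¬ κ x < N - i := fun hlt => h2 ⟨κ x, hlt⟩ (hκ1 x)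
        omega
    rw [hlevel]
    refine exists_stratum (Dk (N - i)) (hDaff _) _
      (isOpen_iUnion fun k : {k : ℕ // k < N - i} => (Dk k.1).isOpen).isClosed_compl
      (fun V : ι => V.1) hcovt ?_
    intro V
    by_cases hV : V ∈ Ik (N - i)
    · left
      intro x hx
      exact (hUImem _ _).1 (hDsub _ hx.1) V hV
    · right
      rw [Set.disjoint_left]
      intro x hx hxV
      have hx' : x ∈ {x : X | (⟨N - κ x, by omega⟩ : Fin (N + 1)) = i} := by
        rw [hlevel]; exact hx
      simp only [Set.mem_ofPred_eq, Fin.ext_iff] at hx'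
      have := hκN x
      have := i.isLt
      have hk : κ x = N - i := by omega
      apply hV
      rw [← hk, hkey x, hA]
      exact hxV


theorem qcqs_of_strat (X : Scheme.{u}) (n : ℕ) (h : MoreMor.HasAffineStratification X n) :
    CompactSpace ↑X ∧ QuasiSeparatedSpace ↑X := by
  obtain ⟨s, -, hlev⟩ := h
  choose Z i h1 h2 h3 h4 using hlev
  have hcov : ∀ x : X, ∃ l, x ∈ Set.range (i l) := fun x => ⟨s x, by rw [h4]; rfl⟩
  constructor
  · rw [← isCompact_univ_iff]
    have : (Set.univ : Set X) = ⋃ l, Set.range (i l) := by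
      ext x
      simp only [Set.mem_univ, Set.mem_iUnion, true_iff]
      exact hcov x
    rw [this]
    refine isCompact_iUnion fun l => ?_
    haveI := h2 l
    exact isCompact_range (i l).continuous
  · rw [quasiSeparatedSpace_iff_forall_affineOpens]
    intro V W
    have : ((V : Set X) ∩ (W : Set X)) =
        ⋃ l, (i l) '' (((i l) ⁻¹ᵁ V.1 : Set (Z l)) ∩ ((i l) ⁻¹ᵁ W.1 : Set (Z l))) := by
      ext x
      simp only [Set.mem_inter_iff, SetLike.mem_coe, Set.mem_iUnion, Set.mem_image]
      constructor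
      · rintro ⟨hV, hW⟩
        obtain ⟨l, z, rfl⟩ := hcov x
        exact ⟨l, z, ⟨hV, hW⟩, rfl⟩
      · rintro ⟨l, z, ⟨hV, hW⟩, rfl⟩
        exact ⟨hV, hW⟩
    rw [this]
    refine isCompact_iUnion fun l => ?_
    haveI := h2 l
    haveI := h3 l
    refine IsCompact.image ?_ (i l).continuous
    exact QuasiSeparatedSpace.inter_isCompact _ _ ((i l) ⁻¹ᵁ V.1).isOpen
      (V.2.preimage (i l)).isCompact ((i l) ⁻¹ᵁ W.1).isOpen (W.2.preimage (i l)).isCompact

end Groth.Agent.Helper4.AffStratC
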