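import Mathlib

/-! Affine communication lemma for ring properties. -/

universe u

namespace Groth.Agent.Helper4.AffineLocal

open AlgebraicGeometry

theorem of_ringProp {Q : ∀ (R : Type u) [CommRing R], Prop}
    (hloc : ∀ (R S : Type u) [CommRing R] [CommRing S] [Algebra R S] (f : R)
      [IsLocalization.Away f S], Q R → Q S)
    (hcover : ∀ (R : Type u) [CommRing R] (s : Finset R) (_ : Ideal.span (s : Set R) = ⊤)
      (Rf : s → Type u) [∀ f, CommRing (Rf f)] [∀ f, Algebra R (Rf f)]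
      [∀ f : s, IsLocalization.Away f.1 (Rf f)], (∀ f, Q (Rf f)) → Q R)
    (X : Scheme.{u}) {ι : Type*} (U : ι → X.Opens) (hU : iSup U = ⊤)
    (haff : ∀ i, IsAffineOpen (U i)) (hQ : ∀ i, Q Γ(X, U i)) (V : X.Opens)
    (hV : IsAffineOpen V) : Q Γ(X, V) := by
  refine of_affine_open_cover (P := fun W => Q Γ(X, W.1)) (fun i => ⟨U i, haff i⟩) ?_ ⟨V, hV⟩
    ?_ ?_ hQ
  · simpa using hU
  · intro W f hW
    haveI := W.2.isLocalization_basicOpen f
    exact hloc Γ(X, W.1) Γ(X, X.basicOpen f) f hW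
  · intro W s hs hW
    haveI : ∀ f : s, IsLocalization.Away f.1 Γ(X, X.basicOpen f.1) :=
      fun f => W.2.isLocalization_basicOpen f.1
    exact hcover Γ(X, W.1) s hs (fun f => Γ(X, X.basicOpen f.1)) hW

end Groth.Agent.Helper4.AffineLocal
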