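import Mathlib
import Groth.Prelude.Def_AlgSpOX
import Groth.Agent.Helper4.SecQC
import Groth.Agent.Helper4.EtGeom

set_option autoImplicit false

/-!
# Geometry of the small étale site of an algebraic space: coverings, quasi-compact objects
-/

universe u

open CategoryTheory CategoryTheory.Limits AlgebraicGeometry Opposite

set_option backward.isDefEq.respectTransparency false

namespace Groth.Agent.Helper4.AlgSpGeom

open Groth.Agent.Helper4.SecQC Groth.Agent.Helper4.EtGeom

variable {S : Scheme.{u}} {X : AlgSp.Sp S}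

/-- the underlying scheme of an object of the small étale site -/
abbrev sch (E : AlgSp.EtOver X) : Scheme.{u} := E.obj.left.left

/-- the underlying morphism of schemes -/
abbrev schMap {E E' : AlgSp.EtOver X} (g : E ⟶ E') : sch E ⟶ sch E' := g.hom.left.left

lemma schMap_comp {E E' E'' : AlgSp.EtOver X} (g : E ⟶ E') (h : E' ⟶ E'') :
    schMap (g ≫ h) = schMap g ≫ schMap h := rfl

/-- covering sieves are the jointly surjective ones -/
lemma mem_iff (E : AlgSp.EtOver X) (T : Sieve E) : T ∈ AlgSp.etTop X E ↔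
    ∀ x : sch E, ∃ (E' : AlgSp.EtOver X) (g : E' ⟶ E) (y : sch E'), T g ∧ schMap g y = x := by
  constructor
  · intro h x
    have h' : T ∈ (AlgSp.etPre X).toGrothendieck E := h
    rw [Precoverage.mem_toGrothendieck_iff_of_isStableUnderComposition] at h'
    obtain ⟨R, hR, hle⟩ := h'
    obtain ⟨ι, Y, f, rfl⟩ := R.exists_eq_ofArrows
    obtain ⟨i, y, hy⟩ := (AlgSp.ofArrows_mem_etPre_iff Y f).1 hR x
    exact ⟨Y i, f i, y, hle _ _ (Presieve.ofArrows.mk i), hy⟩
  · intro h
    choose E' g y hg hy using h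
    refine (AlgSp.etTop X).superset_covering ?_ (AlgSp.ofArrows_mem_etTop E' g
      (fun x => ⟨x, y x, hy x⟩))
    rw [Sieve.generate_le_iff]
    rintro Z f ⟨x⟩
    exact hg x

/-- a jointly surjective family generates a covering sieve -/
lemma ofArrows_mem {V : AlgSp.EtOver X} {κ : Type*} (W : κ → AlgSp.EtOver X) (g : ∀ k, W k ⟶ V)
    (h : ∀ x : sch V, ∃ (k : κ) (w : sch (W k)), schMap (g k) w = x) :
    Sieve.ofArrows W g ∈ AlgSp.etTop X V :=
  AlgSp.ofArrows_mem_etTop W g (fun x => by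
    obtain ⟨k, w, hw⟩ := h x
    exact ⟨k, w, hw⟩)

/-- a covering family is jointly surjective -/
lemma surj_of_ofArrows_mem {V : AlgSp.EtOver X} {κ : Type*} (W : κ → AlgSp.EtOver X)
    (g : ∀ k, W k ⟶ V) (h : Sieve.ofArrows W g ∈ AlgSp.etTop X V) :
    ∀ x : sch V, ∃ (k : κ) (w : sch (W k)), schMap (g k) w = x := by
  intro x
  obtain ⟨Z, f, z, hf, hz⟩ := (mem_iff V _).1 h x
  obtain ⟨k, a, rfl⟩ := (Sieve.mem_ofArrows_iff _ _ _).1 hf
  exact ⟨k, schMap a z, hz⟩

/-- finite subfamilies of jointly surjective families over a quasi-compact object -/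
lemma exists_finite_subfamily {V : AlgSp.EtOver X} [CompactSpace (sch V)] {κ : Type*}
    (W : κ → AlgSp.EtOver X) (g : ∀ k, W k ⟶ V)
    (hcov : ∀ x : sch V, ∃ (k : κ) (w : sch (W k)), schMap (g k) w = x) :
    ∃ (n : ℕ) (σ : Fin n → κ), ∀ x : sch V, ∃ (j : Fin n) (w : sch (W (σ j))),
      schMap (g (σ j)) w = x := by
  classical
  have hopen : ∀ k, IsOpen (Set.range (schMap (g k))) := fun k => by
    haveI : Etale (schMap (g k)) := AlgSp.EtOver.etale_left (g k)
    exact (schMap (g k)).isOpenMap.isOpen_range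
  have hc : (Set.univ : Set (sch V)) ⊆ ⋃ k, Set.range (schMap (g k)) := by
    intro x _
    obtain ⟨k, w, hw⟩ := hcov x
    exact Set.mem_iUnion.mpr ⟨k, w, hw⟩
  obtain ⟨t, ht⟩ := isCompact_univ.elim_finite_subcover _ hopen hc
  refine ⟨t.card, fun j => (t.equivFin.symm j).1, fun x => ?_⟩
  have := ht (Set.mem_univ x)
  simp only [Set.mem_iUnion] at this
  obtain ⟨k, hk, w, hw⟩ := this
  obtain ⟨j, rfl⟩ : ∃ j : Fin t.card, (t.equivFin.symm j).1 = k :=
    ⟨t.equivFin ⟨k, hk⟩, by rw [Equiv.symm_apply_apply]⟩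
  exact ⟨j, w, hw⟩

/-- quasi-compact objects are quasi-compact in the site sense -/
theorem qc1 (V : AlgSp.EtOver X) [CompactSpace (sch V)] : QC1 (AlgSp.etTop X) V := by
  intro T hT
  choose Vx gx vx hgx hvx using (mem_iff V T).1 hT
  obtain ⟨n, σ, hσ⟩ := exists_finite_subfamily Vx gx (fun x => ⟨x, vx x, hvx x⟩)
  exact ⟨n, fun j => Vx (σ j), fun j => gx (σ j), fun j => hgx (σ j),
    ofArrows_mem _ _ hσ⟩

/-- the underlying scheme of a fibre product -/
noncomputable def pullbackLeftIso {U V W : AlgSp.EtOver X} (f : V ⟶ U) (g : W ⟶ U) :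
    sch (pullback f g) ≅ pullback (schMap f) (schMap g) :=
  PreservesPullback.iso (AlgSp.EtOver.toScheme X) f g

/-- the open subscheme of an object as an object -/
noncomputable def openObj (E : AlgSp.EtOver X) (A : (sch E).Opens) : AlgSp.EtOver X :=
  (AlgSp.EtOver.ofChart E.obj.hom E.property).obj (Scheme.Etale.mk A.ι)

/-- the inclusion of the open subscheme -/
noncomputable def openMap (E : AlgSp.EtOver X) (A : (sch E).Opens) : openObj E A ⟶ E :=
  AlgSp.EtOver.homMk (AlgSp.EtOver.homOfEtale (Scheme.Etale.mk A.ι)) rfl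

lemma sch_openObj (E : AlgSp.EtOver X) (A : (sch E).Opens) : sch (openObj E A) = A.toScheme := rfl

lemma schMap_openMap (E : AlgSp.EtOver X) (A : (sch E).Opens) : schMap (openMap E A) = A.ι := rfl

/-- affine refinement of a covering sieve -/
lemma exists_affine_refinement (V : AlgSp.EtOver X) (T : Sieve V) (hT : T ∈ AlgSp.etTop X V) :
    ∃ (W : sch V → AlgSp.EtOver X) (g : ∀ x, W x ⟶ V), (∀ x, T (g x)) ∧
      (∀ x, IsAffine (sch (W x))) ∧ ∀ x : sch V, ∃ w : sch (W x), schMap (g x) w = x := by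
  choose Vx gx vx hgx hvx using (mem_iff V T).1 hT
  have hA : ∀ x : sch V, ∃ A : (sch (Vx x)).Opens, IsAffineOpen A ∧ vx x ∈ A := by
    intro x
    obtain ⟨A, hA, hxA, -⟩ := TopologicalSpace.Opens.isBasis_iff_nbhd.mp
      (sch (Vx x)).isBasis_affineOpens (show vx x ∈ (⊤ : (sch (Vx x)).Opens) from trivial)
    exact ⟨A, hA, hxA⟩
  choose A hA hxA using hA
  refine ⟨fun x => openObj (Vx x) (A x), fun x => openMap (Vx x) (A x) ≫ gx x,
    fun x => T.downward_closed (hgx x) _, fun x => ?_, fun x => ?_⟩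
  · exact hA x
  · refine ⟨⟨vx x, hxA x⟩, ?_⟩
    exact hvx x

/-- quasi-compact quasi-separated objects -/
theorem qc2 (V : AlgSp.EtOver X) [CompactSpace (sch V)] [QuasiSeparatedSpace (sch V)] :
    QC2 (AlgSp.etTop X) V := by
  intro T hT
  obtain ⟨W, g, hgT, hW, hcov⟩ := exists_affine_refinement V T hT
  obtain ⟨n, σ, hσ⟩ := exists_finite_subfamily W g (fun x => ⟨x, hcov x⟩)
  refine ⟨n, fun j => W (σ j), fun j => g (σ j), fun j => hgT (σ j), ofArrows_mem _ _ hσ,
    fun k k' => ?_⟩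
  haveI : IsAffine (sch (W (σ k))) := hW _
  haveI : IsAffine (sch (W (σ k'))) := hW _
  haveI : CompactSpace (sch (pullback (g (σ k)) (g (σ k')))) :=
    compactSpace_of_iso (pullbackLeftIso (g (σ k)) (g (σ k')))
  exact qc1 _

end Groth.Agent.Helper4.AlgSpGeom
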