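import Mathlib
import Groth.Prelude.Def_AlgSpOX
import Groth.Agent.Helper4.AlgSpGeomA

set_option autoImplicit false

/-!
# Geometry of the small étale site of an algebraic space: products and quasi-separatedness
-/

universe u

open CategoryTheory CategoryTheory.Limits AlgebraicGeometry Opposite

set_option backward.isDefEq.respectTransparency false

namespace Groth.Agent.Helper4.AlgSpGeom

open Groth.Agent.Helper4.SecQC Groth.Agent.Helper4.EtGeom

/-- the fibre product over `X` as a base change of the diagonal -/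
lemma isPullback_diag {𝒟 : Type*} [Category 𝒟] [HasBinaryProducts 𝒟] {P A₁ A₂ B X : 𝒟}
    {p₁ : P ⟶ A₁} {p₂ : P ⟶ A₂} {a₁ : A₁ ⟶ X} {a₂ : A₂ ⟶ X}
    (sq : IsPullback p₂ p₁ a₂ a₁)
    {q₁ : B ⟶ A₁} {q₂ : B ⟶ A₂} (hB : IsLimit (BinaryFan.mk q₁ q₂))
    (j : P ⟶ B) (hj₁ : j ≫ q₁ = p₁) (hj₂ : j ≫ q₂ = p₂) :
    IsPullback (p₁ ≫ a₁) j (Limits.diag X) (prod.lift (q₁ ≫ a₁) (q₂ ≫ a₂)) := by
  have w : (p₁ ≫ a₁) ≫ Limits.diag X = j ≫ prod.lift (q₁ ≫ a₁) (q₂ ≫ a₂) := by
    apply Limits.prod.hom_ext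
    · simp only [Category.assoc, Limits.diag, prod.lift_fst, Category.comp_id]
      rw [← Category.assoc, hj₁]
    · simp only [Category.assoc, Limits.diag, prod.lift_snd, Category.comp_id]
      rw [← Category.assoc j, hj₂, sq.w]
  refine ⟨⟨w⟩, ⟨PullbackCone.IsLimit.mk w ?_ ?_ ?_ ?_⟩⟩
  · intro s
    refine sq.lift (s.snd ≫ q₂) (s.snd ≫ q₁) ?_
    have h1 := congrArg (fun k => k ≫ prod.fst) s.condition
    have h2 := congrArg (fun k => k ≫ prod.snd) s.condition
    simp only [Category.assoc, Limits.diag, prod.lift_fst, prod.lift_snd, Category.comp_id] at h1 h2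
    rw [Category.assoc, Category.assoc, ← h1, ← h2]
  · intro s
    have h1 := congrArg (fun k => k ≫ prod.fst) s.condition
    simp only [Category.assoc, Limits.diag, prod.lift_fst, Category.comp_id] at h1
    rw [← Category.assoc, sq.lift_snd, Category.assoc, ← h1]
  · intro s
    refine BinaryFan.IsLimit.hom_ext hB ?_ ?_
    · show (_ ≫ j) ≫ q₁ = s.snd ≫ q₁
      rw [Category.assoc, hj₁, sq.lift_snd]
    · show (_ ≫ j) ≫ q₂ = s.snd ≫ q₂
      rw [Category.assoc, hj₂, sq.lift_fst]
  · intro s m hm1 hm2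
    apply sq.hom_ext
    · rw [sq.lift_fst, ← hj₂, ← Category.assoc, hm2]
    · rw [sq.lift_snd, ← hj₁, ← Category.assoc, hm2]

variable {S : Scheme.{u}} {X : AlgSp.Sp S}

/-- a product of two qcqs objects of the small étale site of a quasi-separated `X` is qcqs -/
theorem prod_qcqs [QuasiSeparatedSpace ↥S] (hqs : AlgSp.IsQuasiSeparatedSp X)
    (E₁ E₂ : AlgSp.EtOver X) [CompactSpace (sch E₁)] [QuasiSeparatedSpace (sch E₁)]
    [CompactSpace (sch E₂)] [QuasiSeparatedSpace (sch E₂)] :
    CompactSpace (sch (AlgSp.EtOver.prodObj E₁ E₂)) ∧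
      QuasiSeparatedSpace (sch (AlgSp.EtOver.prodObj E₁ E₂)) := by
  -- the pullback square defining the product
  have sq := E₂.property.1.isPullback E₁.obj.hom
  let P' : Over S := E₂.property.1.pullback E₁.obj.hom
  let p₁ : P' ⟶ E₁.obj.left := E₂.property.1.snd E₁.obj.hom
  let p₂ : P' ⟶ E₂.obj.left := E₂.property.1.fst' E₁.obj.hom
  have sq' : IsPullback ((AlgSp.yon S).map p₂) ((AlgSp.yon S).map p₁) E₂.obj.hom E₁.obj.hom := by
    have : (AlgSp.yon S).map p₂ = E₂.property.1.fst E₁.obj.hom :=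
      Functor.relativelyRepresentable.map_fst' _ _
    rw [this]; exact sq
  let j : P' ⟶ E₁.obj.left ⨯ E₂.obj.left := prod.lift p₁ p₂
  have hB : IsLimit (BinaryFan.mk ((AlgSp.yon S).map (prod.fst (X := E₁.obj.left) (Y := E₂.obj.left)))
      ((AlgSp.yon S).map (prod.snd (X := E₁.obj.left) (Y := E₂.obj.left)))) :=
    (isLimitMapConeBinaryFanEquiv (AlgSp.yon S) _ _)
      (isLimitOfPreserves (AlgSp.yon S) (prodIsProd E₁.obj.left E₂.obj.left))
  have sqd := isPullback_diag sq' hB ((AlgSp.yon S).map j)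
    (by rw [← Functor.map_comp, prod.lift_fst]) (by rw [← Functor.map_comp, prod.lift_snd])
  have hjqc : QuasiCompact j.left := hqs.2 _ _ j sqd
  have hjmono : Mono j.left := by
    haveI : Mono (Limits.diag X) := by
      refine ⟨fun a b h => ?_⟩
      have := congrArg (fun k => k ≫ prod.fst) h
      simpa [Limits.diag] using this
    haveI : Mono ((AlgSp.yon S).map j) := sqd.mono_snd_of_mono
    haveI : Mono j := (AlgSp.yon S).mono_of_mono_map inferInstance
    infer_instance
  -- the product over `S` is qcqs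
  have hprod : CompactSpace ↥(E₁.obj.left ⨯ E₂.obj.left).left ∧
      QuasiSeparatedSpace ↥(E₁.obj.left ⨯ E₂.obj.left).left := by
    have h := qcqs_of_isPullback (IsPullback.of_hasPullback E₁.obj.left.hom E₂.obj.left.hom)
    let e := Over.prodLeftIsoPullback E₁.obj.left E₂.obj.left
    exact ⟨@compactSpace_of_iso _ _ e h.1, @quasiSeparatedSpace_of_iso _ _ e h.2⟩
  obtain ⟨h1, h2⟩ := hprod
  refine ⟨?_, ?_⟩
  · exact @QuasiCompact.compactSpace_of_compactSpace _ _ j.left hjqc h1
  · exact @quasiSeparatedSpace_of_quasiSeparated _ _ j.left h2 inferInstance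

/-- the projection from the product with a surjective chart is surjective -/
theorem surjective_prodFst {U : Over S} (p : (AlgSp.yon S).obj U ⟶ X) (hp : AlgSp.RepWith @Etale p)
    (hps : AlgSp.RepWith @Surjective p) (E : AlgSp.EtOver X) :
    Function.Surjective (schMap (AlgSp.EtOver.prodFst E (AlgSp.EtOver.mk p hp))) := by
  have sq := (AlgSp.EtOver.mk p hp).property.1.isPullback E.obj.hom
  have h : Surjective ((AlgSp.EtOver.mk p hp).property.1.snd E.obj.hom).left := hps.2 _ _ _ sq
  exact h.surj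

end Groth.Agent.Helper4.AlgSpGeom
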