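import Mathlib

set_option autoImplicit false

/-!
# Limits in `WithTerminal C`
-/

universe v u

open CategoryTheory CategoryTheory.Limits Opposite

namespace Groth.Agent.Helper4.WTLim

variable {C : Type u} [Category.{v} C]

open WithTerminal

variable {I : Type*} [Category I]

/-- a cone over a diagram in `C` from a cone over its image with apex in `C` -/
def coneOf (K : I ⥤ C) (w : C) (π : (Functor.const I).obj (WithTerminal.of w) ⟶ K ⋙ WithTerminal.incl) :
    Cone K where
  pt := w
  π :=
    { app := fun i => WithTerminal.down (π.app i)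
      naturality := fun i j f => by
        have := π.naturality f
        dsimp at this ⊢
        rw [Category.id_comp] at this ⊢
        exact this }

/-- the lift -/
noncomputable def liftAux [Nonempty I] (K : I ⥤ C) (c : Cone K) (hc : IsLimit c) :
    ∀ (W : WithTerminal C) (_ : (Functor.const I).obj W ⟶ K ⋙ WithTerminal.incl),
      (W ⟶ WithTerminal.incl.obj c.pt)
  | WithTerminal.of w, π => WithTerminal.incl.map (hc.lift (coneOf K w π))
  | WithTerminal.star, π => (WithTerminal.false_of_from_star (π.app (Classical.arbitrary I))).elim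

lemma liftAux_fac [Nonempty I] (K : I ⥤ C) (c : Cone K) (hc : IsLimit c) :
    ∀ (W : WithTerminal C) (π : (Functor.const I).obj W ⟶ K ⋙ WithTerminal.incl) (i : I),
      liftAux K c hc W π ≫ WithTerminal.incl.map (c.π.app i) = π.app i
  | WithTerminal.of w, π, i => by
    show WithTerminal.incl.map _ ≫ WithTerminal.incl.map _ = _
    exact (WithTerminal.incl.map_comp _ _).symm.trans
      ((congrArg (fun f : w ⟶ K.obj i => WithTerminal.incl.map f) (hc.fac (coneOf K w π) i)).trans rfl)
  | WithTerminal.star, π, _ => (WithTerminal.false_of_from_star (π.app (Classical.arbitrary I))).elim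

lemma liftAux_uniq [Nonempty I] (K : I ⥤ C) (c : Cone K) (hc : IsLimit c) :
    ∀ (W : WithTerminal C) (π : (Functor.const I).obj W ⟶ K ⋙ WithTerminal.incl)
      (m : W ⟶ WithTerminal.incl.obj c.pt)
      (_ : ∀ i, m ≫ WithTerminal.incl.map (c.π.app i) = π.app i), m = liftAux K c hc W π
  | WithTerminal.of w, π, m, hm => by
    obtain ⟨m', rfl⟩ := WithTerminal.incl.map_surjective (X := w) m
    show _ = WithTerminal.incl.map _
    congr 1
    refine hc.uniq (coneOf K w π) m' (fun i => ?_)
    apply WithTerminal.incl.map_injective
    exact (WithTerminal.incl.map_comp m' (c.π.app i)).trans ((hm i).trans rfl)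
  | WithTerminal.star, π, _, _ =>
    (WithTerminal.false_of_from_star (π.app (Classical.arbitrary I))).elim

/-- the inclusion preserves limits of nonempty shapes -/
noncomputable def isLimitMapCone [Nonempty I] (K : I ⥤ C) (c : Cone K) (hc : IsLimit c) :
    IsLimit (WithTerminal.incl.mapCone c) where
  lift s := liftAux K c hc s.pt s.π
  fac s i := liftAux_fac K c hc s.pt s.π i
  uniq s m hm := liftAux_uniq K c hc s.pt s.π m hm

instance [Nonempty I] : PreservesLimitsOfShape I (WithTerminal.incl : C ⥤ WithTerminal C) where
  preservesLimit {K} := ⟨fun {c} hc => ⟨isLimitMapCone K c hc⟩⟩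

/-- a product in `C` gives a pullback over the terminal object in `WithTerminal C` -/
lemma isPullback_of_isLimit {x y p : C} (fst : p ⟶ x) (snd : p ⟶ y)
    (h : IsLimit (BinaryFan.mk fst snd))
    (f : WithTerminal.incl.obj x ⟶ WithTerminal.star) (g : WithTerminal.incl.obj y ⟶ WithTerminal.star) :
    IsPullback (WithTerminal.incl.map fst) (WithTerminal.incl.map snd) f g := by
  have h' : IsLimit (BinaryFan.mk (WithTerminal.incl.map fst) (WithTerminal.incl.map snd)) :=
    (isLimitMapConeBinaryFanEquiv WithTerminal.incl fst snd) (isLimitOfPreserves WithTerminal.incl h)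
  exact IsPullback.of_isLimit
    (isPullbackOfIsTerminalIsProduct f g _ _ WithTerminal.starTerminal h')

section

variable [HasPullbacks C] [HasBinaryProducts C]

lemma hasLimit_cospan : ∀ {X Y Z : WithTerminal C} (f : X ⟶ Z) (g : Y ⟶ Z), HasLimit (cospan f g)
  | WithTerminal.star, _, _, f, g => by
    haveI : IsIso f := WithTerminal.isIso_of_from_star f
    exact hasPullback_of_left_iso f g
  | _, WithTerminal.star, _, f, g => by
    haveI : IsIso g := WithTerminal.isIso_of_from_star g
    exact hasPullback_of_right_iso f g
  | WithTerminal.of x, WithTerminal.of y, WithTerminal.of z, f, g => by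
    obtain ⟨f', rfl⟩ := WithTerminal.incl.map_surjective (X := x) (Y := z) f
    obtain ⟨g', rfl⟩ := WithTerminal.incl.map_surjective (X := y) (Y := z) g
    exact ((IsPullback.of_hasPullback f' g').map WithTerminal.incl).hasPullback
  | WithTerminal.of x, WithTerminal.of y, WithTerminal.star, f, g =>
    (isPullback_of_isLimit (prod.fst (X := x) (Y := y)) prod.snd (prodIsProd x y) f g).hasPullback

instance : HasPullbacks (WithTerminal C) :=
  @hasPullbacks_of_hasLimit_cospan _ _ (fun {_ _ _ f g} => hasLimit_cospan f g)

instance : HasFiniteLimits (WithTerminal C) := hasFiniteLimits_of_hasTerminal_and_pullbacks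

example (V : WithTerminal C) : HasFiniteProducts (Over V) := inferInstance

end

end Groth.Agent.Helper4.WTLim
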