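import Mathlib

set_option autoImplicit false

/-!
# Adjoining a terminal object to a site

For a site `(C, J)` we equip `WithTerminal C` with the topology `Jp J` whose covering sieves are
those whose restrictions to every object of `C` are covering; `C` is then a dense subsite.
-/

universe v u

open CategoryTheory CategoryTheory.Limits Opposite

namespace Groth.Agent.Helper4.WTTop

variable {C : Type u} [Category.{v} C] (J : GrothendieckTopology C)

/-- restriction of a sieve on `Y : WithTerminal C` along `g : c ⟶ Y` to a sieve on `c` in `C` -/
def res {Y : WithTerminal C} (S : Sieve Y) {c : C} (g : WithTerminal.incl.obj c ⟶ Y) : Sieve c :=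
  (S.pullback g).functorPullback WithTerminal.incl

lemma res_apply {Y : WithTerminal C} (S : Sieve Y) {c : C} (g : WithTerminal.incl.obj c ⟶ Y)
    {d : C} (f : d ⟶ c) : (res S g).arrows f ↔ S.arrows (WithTerminal.incl.map f ≫ g) := Iff.rfl

lemma res_pullback {Y : WithTerminal C} (S : Sieve Y) {c d : C} (g : WithTerminal.incl.obj c ⟶ Y)
    (f : d ⟶ c) : (res S g).pullback f = res S (WithTerminal.incl.map f ≫ g) := by
  ext e h
  simp only [Sieve.pullback_apply, res_apply, Functor.map_comp, Category.assoc]

/-- the topology on `WithTerminal C` -/
def Jp : GrothendieckTopology (WithTerminal C) where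
  sieves Y := {S | ∀ (c : C) (g : WithTerminal.incl.obj c ⟶ Y), res S g ∈ J c}
  top_mem' Y c g := by
    have : res (⊤ : Sieve Y) g = ⊤ := by
      ext d f; simp [res_apply]
    rw [this]; exact J.top_mem c
  pullback_stable' Y Y' S h hS c g := by
    have : res (S.pullback h) g = res S (g ≫ h) := by
      ext d f; simp [res_apply]
    rw [this]; exact hS c (g ≫ h)
  transitive' Y S hS R hR c g := by
    refine J.transitive (hS c g) _ (fun d f hf => ?_)
    rw [res_pullback]
    have := hR hf d (𝟙 _)
    have e : res (R.pullback (WithTerminal.incl.map f ≫ g)) (𝟙 (WithTerminal.incl.obj d)) =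
        res R (WithTerminal.incl.map f ≫ g) := by
      ext e h; simp [res_apply]
    rw [← e]; exact this

lemma mem_Jp_iff {Y : WithTerminal C} (S : Sieve Y) :
    S ∈ Jp J Y ↔ ∀ (c : C) (g : WithTerminal.incl.obj c ⟶ Y), res S g ∈ J c := Iff.rfl

/-- covering sieves of objects of `C` -/
lemma mem_Jp_of_iff {c : C} (S : Sieve (WithTerminal.incl.obj c)) :
    S ∈ Jp J (WithTerminal.incl.obj c) ↔ S.functorPullback WithTerminal.incl ∈ J c := by
  constructor
  · intro h
    have := h c (𝟙 _)
    have e : res S (𝟙 (WithTerminal.incl.obj c)) = S.functorPullback WithTerminal.incl := by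
      ext d f; simp [res_apply]
    rwa [e] at this
  · intro h d g
    obtain ⟨g', rfl⟩ := WithTerminal.incl.map_surjective g
    have e : res S (WithTerminal.incl.map g') = (S.functorPullback WithTerminal.incl).pullback g' := by
      ext e f; simp [res_apply]
    rw [e]; exact J.pullback_stable g' h

instance : (WithTerminal.incl : C ⥤ WithTerminal C).IsDenseSubsite J (Jp J) where
  isCoverDense' := by
    constructor
    intro Y c g
    refine J.superset_covering ?_ (J.top_mem c)
    intro d f _
    rw [res_apply]
    exact ⟨⟨c, WithTerminal.incl.map f, g, rfl⟩⟩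
  functorPushforward_mem_iff := by
    intro c S
    rw [mem_Jp_of_iff]
    have e : (S.functorPushforward WithTerminal.incl).functorPullback WithTerminal.incl = S := by
      ext d f
      constructor
      · rintro ⟨e, h, k, hh, hk⟩
        obtain ⟨k', rfl⟩ := WithTerminal.incl.map_surjective k
        rw [← Functor.map_comp] at hk
        rw [WithTerminal.incl.map_injective hk]
        exact S.downward_closed hh k'
      · intro hf
        exact ⟨d, f, 𝟙 _, hf, by simp⟩
    rw [e]

end Groth.Agent.Helper4.WTTop
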