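import Mathlib
import Groth.Agent.Helper4.WTTop
import Groth.Agent.Helper4.WTLim
import Groth.Agent.Helper4.SecQC

set_option autoImplicit false

/-!
# Quasi-compactness of objects after adjoining a terminal object to a site
-/

universe v u

open CategoryTheory CategoryTheory.Limits Opposite

namespace Groth.Agent.Helper4.WTQC

open Groth.Agent.Helper4.SecQC Groth.Agent.Helper4.WTTop

section Iso

variable {D : Type u} [Category.{v} D] [HasPullbacks D] {K : GrothendieckTopology D}

lemma QC1.of_iso {V V' : D} (e : V ≅ V') (h : QC1 K V) : QC1 K V' := by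
  intro T hT
  obtain ⟨n, W, g, h1, h2⟩ := h (T.pullback e.hom) (K.pullback_stable e.hom hT)
  refine ⟨n, W, fun k => g k ≫ e.hom, fun k => h1 k, ?_⟩
  have : Sieve.ofArrows W g = (Sieve.ofArrows W fun k => g k ≫ e.hom).pullback e.hom := by
    ext Z f
    constructor
    · intro hf
      obtain ⟨k, a, rfl⟩ := (Sieve.mem_ofArrows_iff _ _ _).1 hf
      exact (Sieve.mem_ofArrows_iff _ _ _).2 ⟨k, a, by simp⟩
    · intro hf
      obtain ⟨k, a, ha⟩ := (Sieve.mem_ofArrows_iff _ _ _).1 hf
      refine (Sieve.mem_ofArrows_iff _ _ _).2 ⟨k, a, ?_⟩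
      rw [← cancel_mono e.hom, ha, Category.assoc]
  rw [this] at h2
  have h3 := K.pullback_stable e.inv h2
  rwa [← Sieve.pullback_comp, e.inv_hom_id, Sieve.pullback_id] at h3

end Iso

variable {C : Type u} [Category.{v} C] (J : GrothendieckTopology C)

lemma ofArrows_mem_of {E : C} {n : ℕ} (W : Fin n → C) (g : ∀ k, W k ⟶ E)
    (h : Sieve.ofArrows W g ∈ J E) :
    Sieve.ofArrows (fun k => WithTerminal.incl.obj (W k)) (fun k => WithTerminal.incl.map (g k)) ∈
      Jp J (WithTerminal.incl.obj E) := by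
  rw [mem_Jp_of_iff]
  refine J.superset_covering ?_ h
  intro Z f hf
  obtain ⟨k, a, rfl⟩ := (Sieve.mem_ofArrows_iff _ _ _).1 hf
  exact (Sieve.mem_ofArrows_iff _ _ _).2 ⟨k, WithTerminal.incl.map a, by simp⟩

variable [HasPullbacks C] [HasBinaryProducts C]

lemma qc1_of {E : C} (h : QC1 J E) : QC1 (Jp J) (WithTerminal.incl.obj E) := by
  intro T hT
  obtain ⟨n, W, g, h1, h2⟩ := h _ ((mem_Jp_of_iff J T).1 hT)
  exact ⟨n, fun k => WithTerminal.incl.obj (W k), fun k => WithTerminal.incl.map (g k), h1,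
    ofArrows_mem_of J W g h2⟩

lemma qc2_of {E : C} (h : QC2 J E) : QC2 (Jp J) (WithTerminal.incl.obj E) := by
  intro T hT
  obtain ⟨n, W, g, h1, h2, h3⟩ := h _ ((mem_Jp_of_iff J T).1 hT)
  refine ⟨n, fun k => WithTerminal.incl.obj (W k), fun k => WithTerminal.incl.map (g k), h1,
    ofArrows_mem_of J W g h2, fun k k' => ?_⟩
  exact QC1.of_iso (PreservesPullback.iso WithTerminal.incl (g k) (g k')) (qc1_of J (h3 k k'))

end Groth.Agent.Helper4.WTQC
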