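import Mathlib
import Groth.Prelude.Def_AlgSpOX
import Groth.Agent.Helper4.AlgSpGeomB
import Groth.Agent.Helper4.WTQC

set_option autoImplicit false

/-!
# The small étale site of an algebraic space with a terminal object adjoined
-/

universe u

open CategoryTheory CategoryTheory.Limits AlgebraicGeometry Opposite

set_option backward.isDefEq.respectTransparency false

namespace Groth.Agent.Helper4.AlgSpWT

open Groth.Agent.Helper4.SecQC Groth.Agent.Helper4.EtGeom Groth.Agent.Helper4.AlgSpGeom
  Groth.Agent.Helper4.WTTop Groth.Agent.Helper4.WTQC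

variable {S : Scheme.{u}} (X : AlgSp.Sp S)

/-- the site with a terminal object adjoined -/
abbrev Cp : Type (u + 1) := WithTerminal (AlgSp.EtOver X)

/-- its topology -/
abbrev Jp : GrothendieckTopology (Cp X) := WTTop.Jp (AlgSp.etTop X)

/-- quasi-compact quasi-separated objects -/
def QCQS : Cp X → Prop
  | WithTerminal.of E => CompactSpace (sch E) ∧ QuasiSeparatedSpace (sch E)
  | WithTerminal.star => True

variable {X}

lemma QCQS.of_iso : ∀ {V V' : Cp X}, (V ≅ V') → QCQS X V → QCQS X V'
  | WithTerminal.of E, WithTerminal.of E', e, h => by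
    obtain ⟨h1, h2⟩ := h
    let e' : sch E' ≅ sch E :=
      ((AlgSp.EtOver.toScheme X).mapIso (WithTerminal.incl.preimageIso e)).symm
    exact ⟨@compactSpace_of_iso _ _ e' h1, @quasiSeparatedSpace_of_iso _ _ e' h2⟩
  | WithTerminal.of _, WithTerminal.star, _, _ => trivial
  | WithTerminal.star, WithTerminal.of _, e, _ => (WithTerminal.false_of_from_star e.hom).elim
  | WithTerminal.star, WithTerminal.star, _, _ => trivial

variable [QuasiSeparatedSpace ↥S] (hqs : AlgSp.IsQuasiSeparatedSp X)

include hqs in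
/-- fibre products of qcqs objects are qcqs -/
lemma qcqs_pullback : ∀ {P A B V : Cp X} {fst : P ⟶ A} {snd : P ⟶ B} {f : A ⟶ V} {g : B ⟶ V},
    IsPullback fst snd f g → QCQS X A → QCQS X B → QCQS X V → QCQS X P
  | _, WithTerminal.star, _, _, _, snd, f, _, sq, _, hB, _ => by
    haveI : IsIso f := WithTerminal.isIso_of_from_star f
    haveI : IsIso snd := sq.isIso_snd_of_isIso
    exact QCQS.of_iso (asIso snd).symm hB
  | _, _, WithTerminal.star, _, fst, _, _, g, sq, hA, _, _ => by
    haveI : IsIso g := WithTerminal.isIso_of_from_star g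
    haveI : IsIso fst := sq.isIso_fst_of_isIso
    exact QCQS.of_iso (asIso fst).symm hA
  | WithTerminal.star, WithTerminal.of _, _, _, fst, _, _, _, _, _, _, _ =>
    (WithTerminal.false_of_from_star fst).elim
  | WithTerminal.of p, WithTerminal.of a, WithTerminal.of b, WithTerminal.of v, fst, snd, f, g,
      sq, hA, hB, hV => by
    obtain ⟨fst, rfl⟩ := WithTerminal.incl.map_surjective (X := p) (Y := a) fst
    obtain ⟨snd, rfl⟩ := WithTerminal.incl.map_surjective (X := p) (Y := b) snd
    obtain ⟨f, rfl⟩ := WithTerminal.incl.map_surjective (X := a) (Y := v) f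
    obtain ⟨g, rfl⟩ := WithTerminal.incl.map_surjective (X := b) (Y := v) g
    have sq' : IsPullback fst snd f g := IsPullback.of_map WithTerminal.incl
      (WithTerminal.incl.map_injective (by simpa using sq.w)) sq
    have sq'' := sq'.map (AlgSp.EtOver.toScheme X)
    obtain ⟨hA1, hA2⟩ := hA
    obtain ⟨hB1, hB2⟩ := hB
    obtain ⟨hV1, hV2⟩ := hV
    exact @qcqs_of_isPullback _ _ _ _ _ _ _ _ sq'' hA1 hA2 hB1 hB2 hV2
  | WithTerminal.of p, WithTerminal.of a, WithTerminal.of b, WithTerminal.star, fst, snd, f, g,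
      sq, hA, hB, _ => by
    obtain ⟨hA1, hA2⟩ := hA
    obtain ⟨hB1, hB2⟩ := hB
    have sq' := WTLim.isPullback_of_isLimit (AlgSp.EtOver.prodFst a b) (AlgSp.EtOver.prodSnd a b)
      (AlgSp.EtOver.prodIsLimit a b) f g
    have h := @prod_qcqs _ _ _ hqs a b hA1 hA2 hB1 hB2
    exact QCQS.of_iso (sq'.isoIsPullback _ _ sq) h

end Groth.Agent.Helper4.AlgSpWT
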