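import Mathlib
import Groth.Prelude.Def_AlgSpOX
import Groth.Agent.Helper4.AlgSpWT
import Groth.Agent.Helper1.CechBasic

set_option autoImplicit false

/-!
# Coverings of the small étale site of a qcqs algebraic space with a terminal object adjoined
-/

universe u

open CategoryTheory CategoryTheory.Limits AlgebraicGeometry Opposite

set_option backward.isDefEq.respectTransparency false

namespace Groth.Agent.Helper4.AlgSpWT

open Groth.Agent.Helper4.SecQC Groth.Agent.Helper4.EtGeom Groth.Agent.Helper4.AlgSpGeom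
  Groth.Agent.Helper4.WTTop Groth.Agent.Helper4.WTQC

variable {S : Scheme.{u}} {X : AlgSp.Sp S}

/-- affine finite refinement of a covering sieve of a quasi-compact object -/
lemma of_refine (E : AlgSp.EtOver X) [CompactSpace (sch E)] (T : Sieve (WithTerminal.incl.obj E))
    (hT : T ∈ Jp X (WithTerminal.incl.obj E)) :
    ∃ (n : ℕ) (W : Fin n → AlgSp.EtOver X) (g : ∀ k, W k ⟶ E), (∀ k, IsAffine (sch (W k))) ∧
      (∀ k, T (WithTerminal.incl.map (g k))) ∧ Sieve.ofArrows W g ∈ AlgSp.etTop X E := by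
  obtain ⟨W, g, hgT, hW, hcov⟩ := exists_affine_refinement E _ ((mem_Jp_of_iff _ T).1 hT)
  obtain ⟨n, σ, hσ⟩ := exists_finite_subfamily W g (fun x => ⟨x, hcov x⟩)
  exact ⟨n, fun k => W (σ k), fun k => g (σ k), fun k => hW _, fun k => hgT _,
    AlgSpGeom.ofArrows_mem _ _ hσ⟩

/-- affine finite refinement of a covering sieve of the terminal object -/
lemma star_refine (hqc : AlgSp.IsQuasiCompactSp X) (T : Sieve (WithTerminal.star : Cp X))
    (hT : T ∈ Jp X WithTerminal.star) :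
    ∃ (n : ℕ) (W : Fin n → AlgSp.EtOver X), (∀ k, IsAffine (sch (W k))) ∧
      (∀ k, T (WithTerminal.homFrom (W k))) ∧
      Sieve.ofArrows (fun k => WithTerminal.incl.obj (W k)) (fun k => WithTerminal.homFrom (W k)) ∈
        Jp X WithTerminal.star := by
  obtain ⟨U, p, hp, hps, hU⟩ := hqc
  let Uo : AlgSp.EtOver X := AlgSp.EtOver.mk p hp
  haveI : CompactSpace (sch Uo) := hU
  have hTU : res T (WithTerminal.homFrom Uo) ∈ AlgSp.etTop X Uo := hT Uo _
  obtain ⟨W₀, g₀, hgT, hW, hcov⟩ := exists_affine_refinement Uo _ hTU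
  obtain ⟨n, σ, hσ⟩ := exists_finite_subfamily W₀ g₀ (fun x => ⟨x, hcov x⟩)
  refine ⟨n, fun k => W₀ (σ k), fun k => hW _, fun k => ?_, ?_⟩
  · have := hgT (σ k)
    rw [res_apply] at this
    rwa [Subsingleton.elim (WithTerminal.homFrom (W₀ (σ k)))
      (WithTerminal.incl.map (g₀ (σ k)) ≫ WithTerminal.homFrom Uo)]
  · intro c h
    rw [AlgSpGeom.mem_iff]
    intro x
    obtain ⟨y, hy⟩ := surjective_prodFst p hp hps c x
    obtain ⟨k, w, hw⟩ := hσ (schMap (AlgSp.EtOver.prodSnd c Uo) y)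
    obtain ⟨z, hz1, hz2⟩ := Scheme.Pullback.exists_preimage_pullback
      (f := schMap (AlgSp.EtOver.prodSnd c Uo)) (g := schMap (g₀ (σ k))) y w hw.symm
    let e := pullbackLeftIso (AlgSp.EtOver.prodSnd c Uo) (g₀ (σ k))
    refine ⟨pullback (AlgSp.EtOver.prodSnd c Uo) (g₀ (σ k)),
      pullback.fst _ _ ≫ AlgSp.EtOver.prodFst c Uo, e.inv z, ?_, ?_⟩
    · rw [res_apply]
      refine (Sieve.mem_ofArrows_iff _ _ _).2 ⟨k, WithTerminal.incl.map (pullback.snd _ _), ?_⟩
      exact Subsingleton.elim _ _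
    · rw [schMap_comp]
      have h1 : e.inv ≫ schMap (pullback.fst (AlgSp.EtOver.prodSnd c Uo) (g₀ (σ k))) =
          pullback.fst _ _ :=
        PreservesPullback.iso_inv_fst (AlgSp.EtOver.toScheme X) _ _
      have h2 : schMap (pullback.fst (AlgSp.EtOver.prodSnd c Uo) (g₀ (σ k))) (e.inv z) = y := by
        rw [← hz1, ← h1]; rfl
      show schMap (AlgSp.EtOver.prodFst c Uo) (schMap (pullback.fst _ _) (e.inv z)) = x
      rw [h2, hy]

variable [QuasiSeparatedSpace ↥S] (hqc : AlgSp.IsQuasiCompactSp X)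
  (hqs : AlgSp.IsQuasiSeparatedSp X)

include hqc hqs in
theorem qc2_star : QC2 (Jp X) (WithTerminal.star : Cp X) := by
  intro T hT
  obtain ⟨n, W, hW, hWT, hcov⟩ := star_refine hqc T hT
  refine ⟨n, fun k => WithTerminal.incl.obj (W k), fun k => WithTerminal.homFrom (W k), hWT, hcov,
    fun k k' => ?_⟩
  have sq' := WTLim.isPullback_of_isLimit (AlgSp.EtOver.prodFst (W k) (W k'))
    (AlgSp.EtOver.prodSnd (W k) (W k')) (AlgSp.EtOver.prodIsLimit (W k) (W k'))
    (WithTerminal.homFrom (W k)) (WithTerminal.homFrom (W k'))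
  haveI : IsAffine (sch (W k)) := hW k
  haveI : IsAffine (sch (W k')) := hW k'
  haveI : CompactSpace (sch (AlgSp.EtOver.prodObj (W k) (W k'))) := (prod_qcqs hqs (W k) (W k')).1
  exact QC1.of_iso sq'.isoPullback (qc1_of _ (qc1 _))

include hqc hqs in
theorem qc2_of_qcqs : ∀ (V : Cp X), QCQS X V → QC2 (Jp X) V
  | WithTerminal.of E, h => qc2_of _ (@qc2 _ _ E h.1 h.2)
  | WithTerminal.star, _ => qc2_star hqc hqs

variable (X) in
/-- finite coverings of qcqs objects by qcqs objects -/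
def Cov (V : Cp X) (ι : Type (u + 1)) (Y : ι → Over V) : Prop :=
  Finite ι ∧ QCQS X V ∧ (∀ i, QCQS X (Y i).left) ∧
    Sieve.ofArrows (fun i => (Y i).left) (fun i => (Y i).hom) ∈ Jp X V

include hqs in
lemma prod_mem {V : Cp X} {ι : Type (u + 1)} {Y : ι → Over V} (hY : Cov X V ι Y)
    (n : ℕ) (a : Fin n → ι) : QCQS X (∏ᶜ fun k => Y (a k)).left := by
  obtain ⟨-, hV, hYB, -⟩ := hY
  refine pi_mem (fun Z : Over V => QCQS X Z.left) ?_ (Over.mk (𝟙 V)) Over.mkIdTerminal hV ?_ n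
    (fun k => Y (a k)) (fun k => hYB (a k))
  · intro A B e hA
    exact QCQS.of_iso ((Over.forget V).mapIso e) hA
  · intro A B c hc hA hB
    exact qcqs_pullback hqs (Over.isPullback_of_binaryFan_isLimit c hc) hA hB hV

include hqs in
lemma h1 (V : Cp X) (ι : Type (u + 1)) (Y : ι → Over V) (hY : Cov X V ι Y) :
    V ∈ {V | QCQS X V} ∧ Sieve.ofArrows (fun i => (Y i).left) (fun i => (Y i).hom) ∈ Jp X V ∧
      ∀ (p : ℕ) (a : Fin (p + 1) → ι), (∏ᶜ fun k => Y (a k)).left ∈ {V | QCQS X V} :=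
  ⟨hY.2.1, hY.2.2.2, fun p a => prod_mem hqs hY (p + 1) a⟩

include hqc in
lemma h2 : ∀ (V : Cp X), V ∈ {V | QCQS X V} → ∀ (T : Sieve V), T ∈ Jp X V →
    ∃ (ι : Type (u + 1)) (Y : ι → Over V), Cov X V ι Y ∧ ∀ i, T.arrows (Y i).hom
  | WithTerminal.of E, hV, T, hT => by
    obtain ⟨hV1, hV2⟩ := hV
    obtain ⟨n, W, g, hW, hgT, hcov⟩ := of_refine E T hT
    refine ⟨ULift.{u + 1} (Fin n), fun i => Over.mk (WithTerminal.incl.map (g i.down)),
      ⟨inferInstance, ⟨hV1, hV2⟩, fun i => ?_, ?_⟩, fun i => hgT _⟩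
    · haveI : IsAffine (sch (W i.down)) := hW _
      exact ⟨inferInstance, inferInstance⟩
    · refine (mem_Jp_of_iff (AlgSp.etTop X) (c := E) _).2 ?_
      refine (AlgSp.etTop X).superset_covering ?_ hcov
      intro Z f hf
      obtain ⟨k, b, rfl⟩ := (Sieve.mem_ofArrows_iff _ _ _).1 hf
      exact (Sieve.mem_ofArrows_iff _ _ _).2 ⟨⟨k⟩, WithTerminal.incl.map b, by simp⟩
  | WithTerminal.star, _, T, hT => by
    obtain ⟨n, W, hW, hWT, hcov⟩ := star_refine hqc T hT
    refine ⟨ULift.{u + 1} (Fin n), fun i => Over.mk (WithTerminal.homFrom (W i.down)),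
      ⟨inferInstance, trivial, fun i => ?_, ?_⟩, fun i => hWT _⟩
    · haveI : IsAffine (sch (W i.down)) := hW _
      exact ⟨inferInstance, inferInstance⟩
    · refine (Jp X).superset_covering ?_ hcov
      intro Z f hf
      obtain ⟨k, b, rfl⟩ := (Sieve.mem_ofArrows_iff _ _ _).1 hf
      exact (Sieve.mem_ofArrows_iff _ _ _).2 ⟨⟨k⟩, b, rfl⟩

include hqc hqs in
lemma hQ {V : Cp X} {ι : Type (u + 1)} {Y : ι → Over V} (hY : Cov X V ι Y)
    (n : ℕ) (x : Fin (n + 1) → ι) :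
    QC2 (Jp X) (Groth.Agent.Helper1.Cech.prodU Y x).left :=
  qc2_of_qcqs hqc hqs _ (prod_mem hqs hY (n + 1) x)

end Groth.Agent.Helper4.AlgSpWT
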