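import Mathlib
import Groth.Prelude.Def_AlgSpOX
import Groth.Agent.Helper4.AlgSpWT2
import Groth.Agent.Helper4.CechGenC
import Groth.Agent.Helper4.CechColim
import Groth.Agent.Helper9.ExtNat
import Groth.Agent.Helper6.CF1
import Groth.Agent.S0665

set_option autoImplicit false

/-!
# Cartan's criterion on the small étale site of a qcqs algebraic space, through the site with a
terminal object adjoined; étale cohomology commutes with filtered colimits.
-/

universe u

open CategoryTheory CategoryTheory.Limits AlgebraicGeometry Opposite CategoryTheory.Abelian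

namespace Groth.Agent.Helper4.AlgSpCartan

open Groth.Agent.Helper4.SecQC Groth.Agent.Helper4.AlgSpWT Groth.Agent.Helper4.CechGenC

variable {S : Scheme.{u}} (X : AlgSp.Sp S)

/-- abelian sheaves on the site with a terminal object -/
abbrev Bc : Type (u + 2) := Sheaf (Jp X) AddCommGrpCat.{u + 1}

instance : IsGrothendieckAbelian.{u + 1} (Bc X) := by
  have : EssentiallySmall.{u + 1} (Cp X) := inferInstance
  exact Sheaf.isGrothendieckAbelian_of_essentiallySmall _ _

/-- restriction of sheaves: an equivalence -/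
noncomputable abbrev Φ : Bc X ⥤ AlgSp.AbEt X :=
  WithTerminal.incl.sheafPushforwardContinuous AddCommGrpCat.{u + 1} (AlgSp.etTop X) (Jp X)

/-- its inverse -/
noncomputable abbrev Ψ : AlgSp.AbEt X ⥤ Bc X := (Φ X).inv

/-- the constant sheaf `ℤ` -/
noncomputable abbrev Z : AlgSp.AbEt X :=
  (constantSheaf (AlgSp.etTop X) AddCommGrpCat.{u + 1}).obj (AddCommGrpCat.of (ULift ℤ))

/-- the constant sheaf `ℤ` on the bigger site -/
noncomputable abbrev Zp : Bc X :=
  (constantSheaf (Jp X) AddCommGrpCat.{u + 1}).obj (AddCommGrpCat.of (ULift ℤ))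

/-- restriction of the constant sheaf -/
noncomputable def ζ₀ : Z X ≅ (Φ X).obj (Zp X) :=
  ((WithTerminal.incl (C := AlgSp.EtOver X)).pushforwardContinuousSheafificationCompatibility
    AddCommGrpCat.{u + 1} (AlgSp.etTop X) (Jp X)).app
      ((Functor.const _).obj (AddCommGrpCat.of (ULift ℤ)))

noncomputable def ζ : Zp X ≅ (Ψ X).obj (Z X) :=
  (Φ X).asEquivalence.unitIso.app (Zp X) ≪≫ (Ψ X).mapIso (ζ₀ X).symm

/-- the terminal object -/
abbrev star : Cp X := WithTerminal.star

/-- global sections -/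
noncomputable def γ (F : AlgSp.AbEt X) (f : Z X ⟶ F) : ((Ψ X).obj F).obj.obj (op (star X)) :=
  Sheaf.H.equiv₀ ((Ψ X).obj F) WithTerminal.starTerminal (Ext.mk₀ ((ζ X).hom ≫ (Ψ X).map f))

lemma γ_bijective (F : AlgSp.AbEt X) : Function.Bijective (γ X F) := by
  have h1 : Function.Bijective (fun f : Z X ⟶ F => (Ψ X).map f) :=
    ⟨(Ψ X).map_injective, (Ψ X).map_surjective⟩
  have h2 : Function.Bijective (fun g : (Ψ X).obj (Z X) ⟶ (Ψ X).obj F => (ζ X).hom ≫ g) :=
    ⟨fun a b h => (cancel_epi _).1 h, fun b => ⟨(ζ X).inv ≫ b, by simp⟩⟩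
  have h3 := Ext.mk₀_bijective (Zp X) ((Ψ X).obj F)
  have h4 := (Sheaf.H.equiv₀ ((Ψ X).obj F) (WithTerminal.starTerminal (C := AlgSp.EtOver X))).bijective
  exact h4.comp (h3.comp (h2.comp h1))

lemma γ_nat {F G : AlgSp.AbEt X} (φ : F ⟶ G) (f : Z X ⟶ F) :
    γ X G (f ≫ φ) = ((Ψ X).map φ).hom.app (op (star X)) (γ X F f) := by
  unfold γ
  rw [Sheaf.H.equiv₀_naturality, Sheaf.H.map_apply, Ext.mk₀_comp_mk₀, Functor.map_comp,
    Category.assoc]

variable {X}

lemma inj_Ψ (I : AlgSp.AbEt X) [Injective I] : Injective ((Ψ X).obj I) := inferInstance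

/-- injective sheaves are Čech-acyclic -/
lemma acyc_injective (I : Bc X) [Injective I] : CechAcyc (Cov X) I := by
  intro V ι Y _ p
  haveI : (presheafToSheaf (Jp X) AddCommGrpCat.{u + 1}).PreservesMonomorphisms := inferInstance
  haveI : Injective I.obj :=
    Injective.injective_of_adjoint (sheafificationAdjunction (Jp X) AddCommGrpCat.{u + 1}) I
  exact Groth.Agent.S0665.result Y I.obj p

variable [QuasiSeparatedSpace ↥S] (hqc : AlgSp.IsQuasiCompactSp X)
  (hqs : AlgSp.IsQuasiSeparatedSp X)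

include hqc hqs in
/-- filtered colimits of Čech-acyclic sheaves are Čech-acyclic -/
lemma acyc_colimit {Λ : Type (u + 1)} [SmallCategory Λ] [IsFiltered Λ] (D : Λ ⥤ Bc X)
    {c : Cocone D} (hc : IsColimit c) (hD : ∀ l, CechAcyc (Cov X) (D.obj l)) :
    CechAcyc (Cov X) c.pt := by
  intro V ι Y hY p
  haveI : Finite ι := hY.1
  exact Groth.Agent.Helper4.CechColim.isZero_cechH D hc Y (hQ hqc hqs hY) p
    (fun l => hD l V ι Y hY p)

include hqc hqs in
/-- Cartan's criterion -/
theorem cartan : ∀ (p : ℕ) (F : AlgSp.AbEt X), CechAcyc (Cov X) ((Ψ X).obj F) →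
    ∀ x : Ext.{u + 1} (Z X) F (p + 1), x = 0 := by
  intro p
  induction p with
  | zero =>
    intro F hF x
    have hS := Groth.Agent.Helper9.ExtNat.sc_shortExact F
    obtain ⟨y, rfl⟩ := Groth.Agent.Helper9.ExtNat.exists_comp_extClass x
    obtain ⟨f, rfl⟩ := (Ext.mk₀_bijective _ _).2 y
    have hS' := hS.map_of_exact (Ψ X)
    obtain ⟨t, ht⟩ := surj_of_acyc {V | QCQS X V} (Cov X) (h1 hqs) (h2 hqc) _ hS' hF (star X)
      trivial (γ X _ f)
    obtain ⟨f', rfl⟩ := (γ_bijective X _).2 t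
    have hf : f' ≫ (Groth.Agent.Helper9.ExtNat.sc F).g = f := by
      apply (γ_bijective X _).1
      rw [γ_nat]
      exact ht
    rw [← hf, ← Ext.mk₀_comp_mk₀, Ext.comp_assoc _ _ _ (add_zero 0) (zero_add 1) (by omega),
      hS.comp_extClass, Ext.comp_zero]
  | succ p ih =>
    intro F hF x
    have hS := Groth.Agent.Helper9.ExtNat.sc_shortExact F
    obtain ⟨y, rfl⟩ := Groth.Agent.Helper9.ExtNat.exists_comp_extClass x
    have hS' := hS.map_of_exact (Ψ X)
    have hinj : Injective ((Ψ X).obj (Injective.under F)) := inj_Ψ _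
    have hF₂ : CechAcyc (Cov X) ((Ψ X).obj (Injective.under F)) := acyc_injective _
    have hQa := acyc_X₃ {V | QCQS X V} (Cov X) (h1 hqs) (h2 hqc)
      ((Groth.Agent.Helper9.ExtNat.sc F).map (Ψ X)) hS' hF hF₂
    rw [ih _ hQa y, Ext.zero_comp]

include hqc hqs in
/-- every class in `H^n(X, colim D)` comes from a stage, and a class of a stage dying in the
colimit dies at a later stage -/
theorem hall (Λ : Type (u + 1)) [SmallCategory Λ] [IsFiltered Λ] (n : ℕ) (D : Λ ⥤ AlgSp.AbEt X) :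
    Groth.Agent.Helper6.CF.Surj (Z X) n D ∧ Groth.Agent.Helper6.CF.Inj (Z X) n D := by
  classical
  have hqc2 : QC2 (Jp X) (star X) := qc2_star hqc hqs
  have h0 : ∀ D : Λ ⥤ AlgSp.AbEt X,
      Groth.Agent.Helper6.CF.Surj (Z X) 0 D ∧ Groth.Agent.Helper6.CF.Inj (Z X) 0 D := by
    intro D
    have hc : IsColimit ((Ψ X).mapCocone (colimit.cocone D)) :=
      isColimitOfPreserves (Ψ X) (colimit.isColimit D)
    refine Groth.Agent.Helper6.CF.base (Z X) D ?_ ?_
    · intro x
      obtain ⟨l, y₀, hy₀⟩ := surj_QC2 (D ⋙ Ψ X) hc hqc2 (γ X _ x)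
      obtain ⟨y, rfl⟩ := (γ_bijective X _).2 y₀
      refine ⟨l, y, ?_⟩
      apply (γ_bijective X _).1
      rw [γ_nat]
      exact hy₀
    · intro l y hy
      obtain ⟨m, a, ha⟩ := inj_QC1 (D ⋙ Ψ X) hc hqc2.qc1 (γ X _ y) (γ X _ 0) (by
        show ((Ψ X).map (colimit.ι D l)).hom.app _ _ = ((Ψ X).map (colimit.ι D l)).hom.app _ _
        rw [← γ_nat, ← γ_nat, hy, zero_comp])
      refine ⟨m, a, ?_⟩
      apply (γ_bijective X _).1
      have ha' : ((Ψ X).map (D.map a)).hom.app _ (γ X _ y) =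
          ((Ψ X).map (D.map a)).hom.app _ (γ X _ 0) := ha
      rw [← γ_nat, ← γ_nat, zero_comp] at ha'
      exact ha'
  have hv : ∀ (q : ℕ) (I : Λ ⥤ AlgSp.AbEt X), (∀ l, Injective (I.obj l)) →
      ∀ x : Ext.{u + 1} (Z X) (colimit I) (q + 1), x = 0 := by
    intro q I hI x
    have hacyc := acyc_colimit hqc hqs (I ⋙ Ψ X) (c := (Ψ X).mapCocone (colimit.cocone I))
      (isColimitOfPreserves (Ψ X) (colimit.isColimit I))
      (fun l => by
        haveI := hI l
        haveI : Injective ((Ψ X).obj (I.obj l)) := inj_Ψ _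
        exact acyc_injective ((Ψ X).obj (I.obj l)))
    exact cartan hqc hqs q (colimit I) hacyc x
  exact Groth.Agent.Helper6.CF.all (Λ := Λ) _ h0 hv n D

end Groth.Agent.Helper4.AlgSpCartan
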