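import Groth.Prelude.Def_AlgSp3
import Groth.Agent.Helper4.AlgSpDesc
import Groth.Agent.Helper4.AlgSpPB
import Groth.Agent.Helper4.SchDescent
import Mathlib

set_option autoImplicit false
universe u
open CategoryTheory CategoryTheory.Limits AlgebraicGeometry Opposite MorphismProperty

namespace Groth.Agent.Helper4.AlgSpDesc2

open AlgSp

variable {S : Scheme.{u}}

/-- "If representable then representable with `P`". -/
def RepImp (P : MorphismProperty Scheme.{u}) : MorphismProperty (Sp S) :=
  fun _ _ f => Representable f → RepWith P f

/-- Representable fppf covers of sheaves. -/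
def Cover : MorphismProperty (Sp S) :=
  RepWith @Flat ⊓ RepWith @LocallyOfFinitePresentation ⊓ RepWith @Surjective

instance (P : MorphismProperty Scheme.{u}) : (RepImp (S := S) P).RespectsIso where
  precomp e he f hf := by
    have : IsIso e := he
    intro h
    have h1 : Representable f :=
      (MorphismProperty.cancel_left_of_respectsIso (Representable (S := S)) e f).1 h
    exact (MorphismProperty.cancel_left_of_respectsIso (RepWith (S := S) P) e f).2 (hf h1)
  postcomp e he f hf := by
    have : IsIso e := he
    intro h
    have h1 : Representable f :=
      (MorphismProperty.cancel_right_of_respectsIso (Representable (S := S)) f e).1 h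
    exact (MorphismProperty.cancel_right_of_respectsIso (RepWith (S := S) P) f e).2 (hf h1)

instance : (Cover (S := S)).IsStableUnderBaseChange := by
  unfold Cover
  have i1 := repWith_isStableUnderBaseChange (S := S) @Flat
  have i2 := repWith_isStableUnderBaseChange (S := S) @LocallyOfFinitePresentation
  have i3 := repWith_isStableUnderBaseChange (S := S) @Surjective
  infer_instance

theorem cover_of_etale_surjective {F G : Sp S} {p : F ⟶ G} (hp : RepWith @Etale p)
    (hps : RepWith @Surjective p) : Cover p := by
  refine ⟨⟨?_, ?_⟩, hps⟩
  · refine MorphismProperty.relative_monotone ?_ _ hp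
    intro A B g hg
    have : Etale g.left := hg
    show Flat g.left
    infer_instance
  · refine MorphismProperty.relative_monotone ?_ _ hp
    intro A B g hg
    have : Etale g.left := hg
    show LocallyOfFinitePresentation g.left
    infer_instance

instance (P : MorphismProperty Scheme.{u})
    [P.DescendsAlong (@Surjective ⊓ @Flat ⊓ @LocallyOfFinitePresentation)] :
    (RepImp (S := S) P).DescendsAlong Cover where
  of_isPullback {A X Y Z fst snd f g} sq hf hfst hg := by
    refine Groth.Agent.Helper4.AlgSpDesc.repWith_descend P ?_ sq.flip hf.1.1 hf.1.2 hf.2 hg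
      (hfst (MorphismProperty.of_isPullback sq.flip hg))
    intro A X Y Z fst snd f g h h1 h2 h3 h4
    exact of_isPullback_of_descendsAlong (P := P)
      (Q := (@Surjective ⊓ @Flat ⊓ @LocallyOfFinitePresentation)) h ⟨⟨h1, h2⟩, h3⟩ h4

/-- The relative diagonal of a morphism from a sheaf with representable diagonal is
representable. -/
theorem representable_diagonal {X Y : Sp S} (hX : Representable (Limits.diag X)) (f : X ⟶ Y) :
    Representable (pullback.diagonal f) := by
  have h := (Groth.Agent.Helper4.AlgSpPB.representable_diag_iff X).1 hX
  have e : terminal.from X = f ≫ terminal.from Y := Subsingleton.elim _ _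
  rw [e] at h
  exact Groth.Agent.Helper4.AlgSpPB.diagonal_of_comp _ f _ h

/-- Descent of `RepWith P (diagonal)` along a representable étale surjective base change. -/
theorem repWith_diagonal_descend (P : MorphismProperty Scheme.{u})
    [P.DescendsAlong (@Surjective ⊓ @Flat ⊓ @LocallyOfFinitePresentation)]
    {X Y V Q : Sp S} (hX : Representable (Limits.diag X)) {f : X ⟶ Y} {p : V ⟶ Y}
    (hp : RepWith @Etale p) (hps : RepWith @Surjective p) {fst : Q ⟶ X} {snd : Q ⟶ V}
    (sq : IsPullback fst snd f p) (h : RepWith P (pullback.diagonal snd)) :
    RepWith P (pullback.diagonal f) := by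
  have key : (RepImp (S := S) P).diagonal f :=
    of_isPullback_of_descendsAlong (P := (RepImp (S := S) P).diagonal) (Q := Cover (S := S))
      sq.flip (cover_of_etale_surjective hp hps) (fun _ => h)
  exact key (representable_diagonal hX f)

end Groth.Agent.Helper4.AlgSpDesc2
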