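import Groth.Prelude.Def_AlgSp3
import Groth.Agent.Helper4.AlgSpDesc2
import Mathlib

set_option autoImplicit false
universe u v₁ u₁
open CategoryTheory CategoryTheory.Limits AlgebraicGeometry Opposite MorphismProperty

namespace Groth.Agent.Helper4.AlgSpLocal

section general
variable {C : Type u₁} [Category.{v₁} C] [HasPullbacks C]

set_option backward.isDefEq.respectTransparency false in
/-- The diagonal of a base change is the base change of the diagonal. -/
theorem isPullback_diagonal {P X V Y : C} {fst : P ⟶ X} {snd : P ⟶ V} {f : X ⟶ Y} {p : V ⟶ Y}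
    (sq : IsPullback fst snd f p) :
    IsPullback (pullback.diagonal snd) fst
      (pullback.map snd snd f f fst fst p sq.w.symm sq.w.symm) (pullback.diagonal f) := by
  refine ⟨⟨by ext <;> simp⟩, ⟨PullbackCone.IsLimit.mk _ (fun c => c.fst ≫ pullback.fst snd snd)
    ?_ ?_ ?_⟩⟩
  · intro c
    have h1 := c.condition =≫ pullback.fst f f
    have h2 := c.condition =≫ pullback.snd f f
    simp only [Category.assoc, pullback.lift_fst, pullback.lift_snd, pullback.diagonal_fst,
      pullback.diagonal_snd, Category.comp_id] at h1 h2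
    have h3 : c.fst ≫ pullback.fst snd snd = c.fst ≫ pullback.snd snd snd := by
      apply sq.hom_ext
      · rw [Category.assoc, Category.assoc, h1, h2]
      · rw [Category.assoc, Category.assoc, pullback.condition]
    apply pullback.hom_ext
    · simp
    · simp only [Category.assoc, pullback.diagonal_snd, Category.comp_id]
      exact h3
  · intro c
    have h1 := c.condition =≫ pullback.fst f f
    simp only [Category.assoc, pullback.lift_fst, pullback.diagonal_fst,
      Category.comp_id] at h1
    rw [Category.assoc]; exact h1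
  · intro c m h1 _
    rw [← h1]; simp

end general

open AlgSp

variable {S : Scheme.{u}}

set_option backward.isDefEq.respectTransparency.types false in
/-- For `P` Zariski-local on the target, `RepWith P` can be checked on affine test schemes. -/
theorem repWith_of_affine (P : MorphismProperty Scheme.{u}) [IsZariskiLocalAtTarget P]
    {F G : Sp S} (f : F ⟶ G) (hf : Representable f)
    (h : ∀ ⦃T E : Over S⦄ (ξ : (yon S).obj T ⟶ G) (c : (yon S).obj E ⟶ F) (e : E ⟶ T),
      IsAffine T.left → IsPullback c ((yon S).map e) f ξ → P e.left) : RepWith P f := by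
  refine ⟨hf, ?_⟩
  intro T V ξ fst snd sq
  show P snd.left
  rw [IsZariskiLocalAtTarget.iff_of_iSup_eq_top (P := P) _ (iSup_affineOpens_eq_top T.left)]
  intro U
  let TU : Over S := Over.mk (U.1.ι ≫ T.hom)
  let VU : Over S := Over.mk ((snd.left ⁻¹ᵁ U.1).ι ≫ V.hom)
  let ιT : TU ⟶ T := Over.homMk U.1.ι rfl
  let ιV : VU ⟶ V := Over.homMk (snd.left ⁻¹ᵁ U.1).ι rfl
  have hres : (snd.left ⁻¹ᵁ U.1).ι ≫ snd.left = (snd.left ∣_ U.1) ≫ U.1.ι :=
    (isPullback_morphismRestrict snd.left U.1).w.symm
  let sU : VU ⟶ TU := Over.homMk (snd.left ∣_ U.1) (by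
    show (snd.left ∣_ U.1) ≫ U.1.ι ≫ T.hom = (snd.left ⁻¹ᵁ U.1).ι ≫ V.hom
    rw [← Category.assoc, ← hres, Category.assoc, CategoryTheory.Over.w])
  have hpbS : IsPullback ιV sU snd ιT :=
    IsPullback.of_map (Over.forget S) (by ext; exact hres)
      (isPullback_morphismRestrict snd.left U.1).flip
  have hpb : IsPullback ((yon S).map ιV ≫ fst) ((yon S).map sU) f ((yon S).map ιT ≫ ξ) :=
    (hpbS.map (yon S)).paste_horiz sq
  exact h _ _ sU U.2 hpb

set_option backward.isDefEq.respectTransparency false in
/-- `RepWith P (diagonal f)` can be checked after base change to affine schemes. -/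
theorem repWith_diagonal_of_affine (P : MorphismProperty Scheme.{u}) [IsZariskiLocalAtTarget P]
    {X Y : Sp S} (hX : Representable (Limits.diag X)) (f : X ⟶ Y)
    (h : ∀ (Z : Over S), IsAffine Z.left → ∀ (g : (yon S).obj Z ⟶ Y) (Q : Sp S)
      (fst : Q ⟶ X) (snd : Q ⟶ (yon S).obj Z), IsPullback fst snd f g →
      RepWith P (pullback.diagonal snd)) : RepWith P (pullback.diagonal f) := by
  apply repWith_of_affine P _ (Groth.Agent.Helper4.AlgSpDesc2.representable_diagonal hX f)
  intro T E ξ c e hT hE
  let x₁ : (yon S).obj T ⟶ X := ξ ≫ pullback.fst f f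
  let x₂ : (yon S).obj T ⟶ X := ξ ≫ pullback.snd f f
  let g : (yon S).obj T ⟶ Y := x₁ ≫ f
  have hx₂ : x₂ ≫ f = g := by
    simp only [x₂, g, x₁, Category.assoc, pullback.condition]
  have sq : IsPullback (pullback.fst f g) (pullback.snd f g) f g := IsPullback.of_hasPullback f g
  have hsep := h T hT g (pullback f g) _ _ sq
  have key := (isPullback_diagonal sq).flip
  let σ₁ : (yon S).obj T ⟶ pullback f g := pullback.lift x₁ (𝟙 _) (by simp [g])
  let σ₂ : (yon S).obj T ⟶ pullback f g := pullback.lift x₂ (𝟙 _) (by simp [hx₂])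
  let σ : (yon S).obj T ⟶ pullback (pullback.snd f g) (pullback.snd f g) :=
    pullback.lift σ₁ σ₂ (by simp [σ₁, σ₂])
  have hσ : σ ≫ pullback.map (pullback.snd f g) (pullback.snd f g) f f (pullback.fst f g)
      (pullback.fst f g) g sq.w.symm sq.w.symm = ξ := by
    apply pullback.hom_ext <;> simp [σ, σ₁, σ₂, x₁, x₂]
  have hcomm : c ≫ pullback.diagonal f = ((yon S).map e ≫ σ) ≫ pullback.map (pullback.snd f g)
      (pullback.snd f g) f f (pullback.fst f g) (pullback.fst f g) g sq.w.symm sq.w.symm := by
    rw [Category.assoc, hσ]; exact hE.w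
  have hleft : IsPullback (key.lift c ((yon S).map e ≫ σ) hcomm) ((yon S).map e)
      (pullback.diagonal (pullback.snd f g)) σ := by
    refine IsPullback.of_right ?_ (key.lift_snd _ _ hcomm) key
    rw [key.lift_fst, hσ]
    exact hE
  exact hsep.property σ _ e hleft

end Groth.Agent.Helper4.AlgSpLocal
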