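import Groth.Prelude.Def_AlgSp3
import Groth.Agent.Helper4.AlgSpLocal
import Mathlib

set_option autoImplicit false
universe u v₁ u₁
open CategoryTheory CategoryTheory.Limits AlgebraicGeometry Opposite MorphismProperty

namespace Groth.Agent.Helper4.AlgSpDiag

open AlgSp

variable {S : Scheme.{u}}

/-- A representable monomorphism of sheaves is representable by monomorphisms of schemes. -/
theorem repWith_mono_of_mono {F G : Sp S} (f : F ⟶ G) [Mono f] (hf : Representable f) :
    RepWith (MorphismProperty.monomorphisms Scheme.{u}) f := by
  refine ⟨hf, ?_⟩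
  intro T E ξ c e sq
  have h1 : Mono ((yon S).map e) := sq.mono_snd_of_mono
  have h2 : Mono e := (yon S).mono_of_mono_map h1
  show Mono e.left
  infer_instance

/-- `RepWith P` of the absolute diagonal, in terms of the diagonal of the map to the terminal
sheaf. -/
theorem repWith_diag_iff (P : MorphismProperty Scheme.{u}) (X : Sp S) :
    RepWith P (Limits.diag X) ↔ RepWith P (pullback.diagonal (terminal.from X)) := by
  have h : Limits.diag X = pullback.diagonal (terminal.from X) ≫ (prodIsoPullback X X).inv := by
    apply Limits.prod.hom_ext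
    · rw [Category.assoc, prodIsoPullback_inv_fst, pullback.diagonal_fst]
      exact prod.lift_fst _ _
    · rw [Category.assoc, prodIsoPullback_inv_snd, pullback.diagonal_snd]
      exact prod.lift_snd _ _
  rw [h]
  exact MorphismProperty.cancel_right_of_respectsIso (RepWith (S := S) P) _ _

/-- Composing the legs of a pullback square with a monomorphism. -/
theorem isPullback_comp_mono {C : Type u₁} [Category.{v₁} C] {A X Y Z Z' : C} {fst : A ⟶ X}
    {snd : A ⟶ Y} {f : X ⟶ Z} {g : Y ⟶ Z} (sq : IsPullback fst snd f g) (m : Z ⟶ Z') [Mono m] :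
    IsPullback fst snd (f ≫ m) (g ≫ m) := by
  refine ⟨⟨by rw [← Category.assoc, sq.w, Category.assoc]⟩,
    ⟨PullbackCone.IsLimit.mk _ (fun c => sq.lift c.fst c.snd ?_) ?_ ?_ ?_⟩⟩
  · rw [← cancel_mono m, Category.assoc, Category.assoc]; exact c.condition
  · intro c; exact sq.lift_fst _ _ _
  · intro c; exact sq.lift_snd _ _ _
  · intro c k h1 h2
    apply sq.hom_ext
    · rw [sq.lift_fst]; exact h1
    · rw [sq.lift_snd]; exact h2

end Groth.Agent.Helper4.AlgSpDiag

namespace Groth.Agent.Helper4.AlgSpDiag

open AlgSp CategoryTheory CategoryTheory.Limits AlgebraicGeometry Opposite MorphismProperty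

variable {S : Scheme.{u}}

set_option backward.isDefEq.respectTransparency false in
/-- The kernel pair of an atlas maps to the product by a locally finite type morphism. -/
theorem repWith_lft_mapDesc {X : Sp S} {U : Over S} (p : (yon S).obj U ⟶ X)
    (hpe : RepWith @Etale p) :
    RepWith @LocallyOfFiniteType
      (pullback.mapDesc p p (terminal.from X)) := by
  have hp := hpe.rep
  let R := hp.pullback p
  let t : R ⟶ U := hp.fst' p
  let s : R ⟶ U := hp.snd p
  have hR : IsPullback ((yon S).map t) ((yon S).map s) p p := hp.isPullback' p
  have hs : Etale s.left := hpe.property p _ _ hR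
  have ht : Etale t.left := hpe.property p _ _ hR.flip
  let τ : U ⟶ ⊤_ (Over S) := terminal.from U
  have hPU : IsPullback ((yon S).map (pullback.fst τ τ)) ((yon S).map (pullback.snd τ τ))
      ((yon S).map τ) ((yon S).map τ) := (IsPullback.of_hasPullback τ τ).map (yon S)
  have hterm : IsTerminal ((yon S).obj (⊤_ (Over S))) :=
    IsTerminal.isTerminalObj (yon S) _ terminalIsTerminal
  let m : (yon S).obj (⊤_ (Over S)) ⟶ ⊤_ (Sp S) := terminal.from _
  have : Mono m := hterm.mono_from m
  have hPU' := isPullback_comp_mono hPU m
  have hm : (yon S).map τ ≫ m = p ≫ terminal.from X := Subsingleton.elim _ _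
  rw [hm] at hPU'
  let j : R ⟶ pullback τ τ := pullback.lift t s (Subsingleton.elim _ _)
  have hj1 : j ≫ pullback.fst τ τ = t := pullback.lift_fst _ _ _
  have hjl : LocallyOfFiniteType j.left := by
    have h1 : LocallyOfFiniteType (j.left ≫ (pullback.fst τ τ).left) := by
      rw [← Over.comp_left, hj1]
      infer_instance
    exact locallyOfFiniteType_of_comp j.left (pullback.fst τ τ).left
  have hrj : RepWith @LocallyOfFiniteType ((yon S).map j) := (repWith_yon_map_iff _ j).2 hjl
  have hcomm : hR.isoPullback.hom ≫ pullback.mapDesc p p (terminal.from X) =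
      (yon S).map j ≫ hPU'.isoPullback.hom := by
    apply pullback.hom_ext
    · simp only [Category.assoc, pullback.mapDesc, pullback.lift_fst, Category.comp_id,
        IsPullback.isoPullback_hom_fst, ← Functor.map_comp, hj1]
    · have hj2 : j ≫ pullback.snd τ τ = s := pullback.lift_snd _ _ _
      simp only [Category.assoc, pullback.mapDesc, pullback.lift_snd, Category.comp_id,
        IsPullback.isoPullback_hom_snd, ← Functor.map_comp, hj2]
  rw [← MorphismProperty.cancel_left_of_respectsIso (RepWith (S := S) @LocallyOfFiniteType)
    hR.isoPullback.hom, hcomm,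
    MorphismProperty.cancel_right_of_respectsIso (RepWith (S := S) @LocallyOfFiniteType)]
  exact hrj

end Groth.Agent.Helper4.AlgSpDiag

namespace Groth.Agent.Helper4.AlgSpDiag

open AlgSp CategoryTheory CategoryTheory.Limits AlgebraicGeometry Opposite MorphismProperty

variable {S : Scheme.{u}}

set_option backward.isDefEq.respectTransparency.types false in
/-- The diagonal of an algebraic space is locally of finite type. -/
theorem repWith_lft_diagonal_terminal {X : Sp S} (hX : IsAlgSpace X) :
    RepWith @LocallyOfFiniteType (pullback.diagonal (terminal.from X)) := by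
  obtain ⟨U, p, hpe, hps⟩ := hX.atlas
  have key1 := pullback_map_diagonal_isPullback p p (terminal.from X)
  have hrepΔ : Representable (pullback.diagonal (terminal.from X)) :=
    (Groth.Agent.Helper4.AlgSpPB.representable_diag_iff X).1 hX.diag
  have hcov := Groth.Agent.Helper4.AlgSpDesc2.cover_of_etale_surjective hpe hps
  have i1 : (RepWith (S := S) @Flat).IsStableUnderComposition :=
    (repWith_isMultiplicative (S := S) @Flat).toIsStableUnderComposition
  have i2 : (RepWith (S := S) @LocallyOfFinitePresentation).IsStableUnderComposition :=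
    MorphismProperty.relative_isStableUnderComposition _
  have i3 : (RepWith (S := S) @Surjective).IsStableUnderComposition :=
    (repWith_isMultiplicative (S := S) @Surjective).toIsStableUnderComposition
  have j1 := repWith_isStableUnderBaseChange (S := S) @Flat
  have j2 := repWith_isStableUnderBaseChange (S := S) @LocallyOfFinitePresentation
  have j3 := repWith_isStableUnderBaseChange (S := S) @Surjective
  have hb1 := MorphismProperty.pullbackMap (P := RepWith (S := S) @Flat)
    (f := p ≫ terminal.from X) (g := p ≫ terminal.from X) (f' := terminal.from X)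
    (g' := terminal.from X) hcov.1.1 hcov.1.1 rfl rfl
  have hb2 := MorphismProperty.pullbackMap (P := RepWith (S := S) @LocallyOfFinitePresentation)
    (f := p ≫ terminal.from X) (g := p ≫ terminal.from X) (f' := terminal.from X)
    (g' := terminal.from X) hcov.1.2 hcov.1.2 rfl rfl
  have hb3 := MorphismProperty.pullbackMap (P := RepWith (S := S) @Surjective)
    (f := p ≫ terminal.from X) (g := p ≫ terminal.from X) (f' := terminal.from X)
    (g' := terminal.from X) hcov.2 hcov.2 rfl rfl
  refine Groth.Agent.Helper4.AlgSpDesc.repWith_descend @LocallyOfFiniteType ?_ key1 hb1 hb2 hb3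
    hrepΔ (repWith_lft_mapDesc p hpe)
  intro A X Y Z fst snd f g h h1 h2 h3 h4
  exact of_isPullback_of_descendsAlong (P := @LocallyOfFiniteType)
    (Q := (@Surjective ⊓ @Flat ⊓ @LocallyOfFinitePresentation)) h ⟨⟨h1, h2⟩, h3⟩ h4

end Groth.Agent.Helper4.AlgSpDiag

namespace Groth.Agent.Helper4.AlgSpDiag

open AlgSp CategoryTheory CategoryTheory.Limits AlgebraicGeometry Opposite MorphismProperty

variable {S : Scheme.{u}}

/-- All the properties of the diagonal of an algebraic space (relative to the terminal sheaf). -/
theorem diagonal_terminal_properties {X : Sp S} (hX : IsAlgSpace X) :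
    RepWith @LocallyOfFiniteType (pullback.diagonal (terminal.from X)) ∧
    RepWith (MorphismProperty.monomorphisms Scheme.{u}) (pullback.diagonal (terminal.from X)) ∧
    RepWith @IsSeparated (pullback.diagonal (terminal.from X)) ∧
    RepWith @LocallyQuasiFinite (pullback.diagonal (terminal.from X)) := by
  have hrepΔ : Representable (pullback.diagonal (terminal.from X)) :=
    (Groth.Agent.Helper4.AlgSpPB.representable_diag_iff X).1 hX.diag
  have h1 := repWith_lft_diagonal_terminal hX
  have h2 := repWith_mono_of_mono (pullback.diagonal (terminal.from X)) hrepΔ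
  refine ⟨h1, h2, ?_, ?_⟩
  · refine MorphismProperty.relative_monotone ?_ _ h2
    intro A B g hg
    have : Mono g.left := hg
    show IsSeparated g.left
    infer_instance
  · refine ⟨hrepΔ, ?_⟩
    intro T E ξ c e sq
    have : Mono e.left := h2.property ξ c e sq
    have : LocallyOfFiniteType e.left := h1.property ξ c e sq
    show LocallyQuasiFinite e.left
    infer_instance

/-- Properties of the relative diagonal of a morphism from an algebraic space. -/
theorem diagonal_properties {X Y : Sp S} (hX : IsAlgSpace X) (f : X ⟶ Y) :
    RepWith @LocallyOfFiniteType (pullback.diagonal f) ∧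
    RepWith (MorphismProperty.monomorphisms Scheme.{u}) (pullback.diagonal f) ∧
    RepWith @IsSeparated (pullback.diagonal f) ∧
    RepWith @LocallyQuasiFinite (pullback.diagonal f) := by
  obtain ⟨h1', h2', h3', h4'⟩ := diagonal_terminal_properties hX
  have e : terminal.from X = f ≫ terminal.from Y := Subsingleton.elim _ _
  have h1 : (RepWith (S := S) @LocallyOfFiniteType).diagonal (terminal.from X) := h1'
  have h2 : (RepWith (S := S) (MorphismProperty.monomorphisms Scheme.{u})).diagonal
    (terminal.from X) := h2'
  have h3 : (RepWith (S := S) @IsSeparated).diagonal (terminal.from X) := h3'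
  have h4 : (RepWith (S := S) @LocallyQuasiFinite).diagonal (terminal.from X) := h4'
  rw [e] at h1 h2 h3 h4
  have j1 := repWith_isStableUnderBaseChange (S := S) @LocallyOfFiniteType
  have j2 := repWith_isStableUnderBaseChange (S := S) (MorphismProperty.monomorphisms Scheme.{u})
  have j3 := repWith_isStableUnderBaseChange (S := S) @IsSeparated
  have j4 := repWith_isStableUnderBaseChange (S := S) @LocallyQuasiFinite
  exact ⟨Groth.Agent.Helper4.AlgSpPB.diagonal_of_comp _ f _ h1,
    Groth.Agent.Helper4.AlgSpPB.diagonal_of_comp _ f _ h2,
    Groth.Agent.Helper4.AlgSpPB.diagonal_of_comp _ f _ h3,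
    Groth.Agent.Helper4.AlgSpPB.diagonal_of_comp _ f _ h4⟩

end Groth.Agent.Helper4.AlgSpDiag
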