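import Groth.Prelude.Def_AlgSp4
import Groth.Agent.Helper4.AlgSpPtsDesc
import Mathlib

set_option autoImplicit false
universe u
open CategoryTheory CategoryTheory.Limits AlgebraicGeometry Opposite

namespace Groth.Agent.Helper4.AlgSpInj

open AlgSp

variable {S : Scheme.{u}}

/-- A monomorphism from a nonempty scheme to the spectrum of a field is an isomorphism. -/
theorem isIso_of_mono_to_field {W : Scheme.{u}} {K : Type u} [Field K]
    (m : W ⟶ Spec (CommRingCat.of K)) [Mono m] [Nonempty ↥W] : IsIso m := by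
  have hsub : Subsingleton ↥W := by
    refine ⟨fun a b => ?_⟩
    exact m.injective (Subsingleton.elim _ _)
  have hcs : CompactSpace ↥W := by
    refine ⟨?_⟩
    exact (Set.finite_univ (α := ↥W)).isCompact
  have hqc : QuasiCompact m := HasAffineProperty.iff_of_isAffine.mpr hcs
  have hs : Surjective m := by
    refine ⟨fun y => ?_⟩
    obtain ⟨w⟩ := (inferInstance : Nonempty ↥W)
    exact ⟨w, Subsingleton.elim _ _⟩
  exact Flat.isIso_of_surjective_of_mono m

/-- Sections of a sheaf with representable diagonal over `Spec K` inject into sections over a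
field extension. -/
theorem section_ext_of_field_ext {X : Sp S} (hX : Representable (Limits.diag X))
    {K Ω : Type u} [Field K] [Field Ω] {str : Spec (CommRingCat.of K) ⟶ S}
    {w : Spec (CommRingCat.of Ω) ⟶ S} (β : Over.mk w ⟶ Over.mk str)
    (x₁ x₂ : (yon S).obj (Over.mk str) ⟶ X)
    (h : (yon S).map β ≫ x₁ = (yon S).map β ≫ x₂) : x₁ = x₂ := by
  have hpb : IsPullback (hX.fst (prod.lift x₁ x₂)) ((yon S).map (hX.snd (prod.lift x₁ x₂)))
      (Limits.diag X) (prod.lift x₁ x₂) := hX.isPullback _
  have hm1 : Mono ((yon S).map (hX.snd (prod.lift x₁ x₂))) := hpb.mono_snd_of_mono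
  have hm2 : Mono (hX.snd (prod.lift x₁ x₂)) := (yon S).mono_of_mono_map hm1
  have hm3 : Mono (hX.snd (prod.lift x₁ x₂)).left := inferInstance
  have hcomm : ((yon S).map β ≫ x₁) ≫ Limits.diag X = (yon S).map β ≫ prod.lift x₁ x₂ := by
    apply Limits.prod.hom_ext
    · simp only [Category.assoc, Limits.diag, prod.lift_fst, Category.comp_id]
    · simp only [Category.assoc, Limits.diag, prod.lift_snd, Category.comp_id]
      exact h
  obtain ⟨σ, hσ⟩ := (yon S).map_surjective (hpb.lift _ _ hcomm)
  have hne : Nonempty ↥(hX.pullback (prod.lift x₁ x₂)).left :=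
    ⟨σ.left (IsLocalRing.closedPoint Ω)⟩
  have hiso : IsIso (hX.snd (prod.lift x₁ x₂)).left :=
    isIso_of_mono_to_field (hX.snd (prod.lift x₁ x₂)).left
  have hiso' : IsIso (hX.snd (prod.lift x₁ x₂)) := by
    have : IsIso ((Over.forget S).map (hX.snd (prod.lift x₁ x₂))) := hiso
    exact isIso_of_reflects_iso _ (Over.forget S)
  have hiso'' : IsIso ((yon S).map (hX.snd (prod.lift x₁ x₂))) := inferInstance
  have h1 := congrArg (fun φ => φ ≫ Limits.prod.fst) hpb.w
  have h2 := congrArg (fun φ => φ ≫ Limits.prod.snd) hpb.w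
  simp only [Category.assoc, prod.lift_fst, prod.lift_snd, Limits.diag] at h1 h2
  rw [← cancel_epi ((yon S).map (hX.snd (prod.lift x₁ x₂))), ← h1, ← h2]

/-- The morphism `h_{Spec K} ⟶ F` attached to a field point. -/
noncomputable def toHom {F : Sp S} (p : FieldPt F) : (yon S).obj p.pt ⟶ F :=
  (J S).uliftYonedaEquiv.symm p.val

theorem toHom_map {F G : Sp S} (f : F ⟶ G) (p : FieldPt F) :
    toHom (p.map f) = toHom p ≫ f :=
  ((J S).uliftYonedaEquiv_symm_naturality_right p.pt f p.val).symm

/-- The field point attached to a morphism `h_{Spec K} ⟶ F`. -/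
noncomputable def ofHom {F : Sp S} {K : Type u} [Field K] {str : Spec (CommRingCat.of K) ⟶ S}
    (a : (yon S).obj (Over.mk str) ⟶ F) : FieldPt F :=
  ⟨K, str, (J S).uliftYonedaEquiv a⟩

theorem toHom_ofHom {F : Sp S} {K : Type u} [Field K] {str : Spec (CommRingCat.of K) ⟶ S}
    (a : (yon S).obj (Over.mk str) ⟶ F) : toHom (ofHom a) = a :=
  (J S).uliftYonedaEquiv.symm_apply_apply a

theorem map_toHom {F : Sp S} (p : FieldPt F) {T : Over S} (a : T ⟶ p.pt) :
    (yon S).map a ≫ toHom p =
      ((J S).uliftYonedaEquiv.symm (F.obj.map a.op p.val) : (yon S).obj T ⟶ F) :=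
  (J S).uliftYonedaEquiv_symm_naturality_left a F p.val

theorem rel_iff {F : Sp S} (p q : FieldPt F) :
    FieldPt.Rel p q ↔ ∃ (Ω : Type u) (_ : Field Ω) (w : Spec (CommRingCat.of Ω) ⟶ S)
      (a : Over.mk w ⟶ p.pt) (b : Over.mk w ⟶ q.pt),
      (yon S).map a ≫ toHom p = (yon S).map b ≫ toHom q := by
  constructor
  · rintro ⟨Ω, _, w, a, b, h⟩
    refine ⟨Ω, inferInstance, w, a, b, ?_⟩
    rw [map_toHom, map_toHom, h]
  · rintro ⟨Ω, _, w, a, b, h⟩
    refine ⟨Ω, inferInstance, w, a, b, ?_⟩
    rw [map_toHom, map_toHom] at h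
    exact (J S).uliftYonedaEquiv.symm.injective h

/-- Injectivity on field-valued points implies injectivity on `Points`. -/
theorem injective_points_of_injective_fieldPts {F G : Sp S} (b : F ⟶ G)
    (h : ∀ (K : Type u) [Field K] (str : Spec (CommRingCat.of K) ⟶ S),
      Function.Injective (fun c : (yon S).obj (Over.mk str) ⟶ F => c ≫ b)) :
    Function.Injective (Points.map b) := by
  intro x₁ x₂ hx
  induction x₁ using Points.ind with
  | h p₁ =>
    induction x₂ using Points.ind with
    | h p₂ =>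
      rw [Points.map_mk, Points.map_mk, Points.mk_eq_mk_iff, rel_iff] at hx
      obtain ⟨Ω, _, w, α, β, hαβ⟩ := hx
      let α' : Over.mk w ⟶ p₁.pt := α
      let β' : Over.mk w ⟶ p₂.pt := β
      have e : ((yon S).map α' ≫ toHom p₁) ≫ b = ((yon S).map β' ≫ toHom p₂) ≫ b := by
        rw [Category.assoc, Category.assoc, ← toHom_map, ← toHom_map]; exact hαβ
      apply Points.sound
      rw [rel_iff]
      exact ⟨Ω, inferInstance, w, α', β', h Ω w e⟩

/-- The three characterizations of universally injective morphisms of algebraic spaces. -/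
theorem univInjective_cycle {X Y : Sp S} (hX : IsAlgSpace X) (f : X ⟶ Y) :
    ((∀ (K : Type u) [Field K] (str : Spec (CommRingCat.of K) ⟶ S),
        Function.Injective (fun a : (yon S).obj (Over.mk str) ⟶ X => a ≫ f)) →
      IsUnivInjectiveMor f) ∧
    (IsUnivInjectiveMor f → IsSurjectiveMor (pullback.diagonal f)) ∧
    (IsSurjectiveMor (pullback.diagonal f) →
      (∀ (K : Type u) [Field K] (str : Spec (CommRingCat.of K) ⟶ S),
        Function.Injective (fun a : (yon S).obj (Over.mk str) ⟶ X => a ≫ f))) := by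
  refine ⟨?_, ?_, ?_⟩
  · intro hinj W W' hW g a b sq
    apply injective_points_of_injective_fieldPts
    intro K _ str c₁ c₂ hc
    have hc' : c₁ ≫ b = c₂ ≫ b := hc
    apply sq.hom_ext _ hc'
    apply hinj K str
    show (c₁ ≫ a) ≫ f = (c₂ ≫ a) ≫ f
    rw [Category.assoc, Category.assoc, sq.w, ← Category.assoc, ← Category.assoc, hc']
  · intro h2 p
    have hinj : Function.Injective (Points.map (pullback.snd f f)) :=
      h2 hX f (pullback.fst f f) (pullback.snd f f) (IsPullback.of_hasPullback f f)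
    refine ⟨Points.map (pullback.snd f f) p, ?_⟩
    apply hinj
    rw [← Points.map_comp, pullback.diagonal_snd, Points.map_id]
  · intro hs K _ str a₁ a₂ ha
    have ha' : a₁ ≫ f = a₂ ≫ f := ha
    obtain ⟨x, hx⟩ := hs (Points.mk (ofHom (pullback.lift a₁ a₂ ha')))
    induction x using Points.ind with
    | h q =>
      rw [Points.map_mk, Points.mk_eq_mk_iff, rel_iff] at hx
      obtain ⟨Ω, _, w, α, β, hαβ⟩ := hx
      let α' : Over.mk w ⟶ q.pt := α
      let β' : Over.mk w ⟶ Over.mk str := β
      have hαβ' : (yon S).map α' ≫ toHom q ≫ pullback.diagonal f =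
          (yon S).map β' ≫ pullback.lift a₁ a₂ ha' := by
        rw [← toHom_map, ← toHom_ofHom (pullback.lift a₁ a₂ ha')]; exact hαβ
      have h1 := congrArg (fun φ => φ ≫ pullback.fst f f) hαβ'
      have h2 := congrArg (fun φ => φ ≫ pullback.snd f f) hαβ'
      simp only [Category.assoc, pullback.diagonal_fst, pullback.diagonal_snd, pullback.lift_fst,
        pullback.lift_snd] at h1 h2
      exact section_ext_of_field_ext hX.diag β' a₁ a₂ (h1.symm.trans h2)

end Groth.Agent.Helper4.AlgSpInj
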