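import Groth.Prelude.Def_AlgSp4
import Groth.Agent.Helper4.AlgSpLocP2
import Groth.Agent.Helper4.AlgSpQC2
import Groth.Agent.Helper4.AlgSpInj
import Groth.Agent.Helper4.SchLQF
import Mathlib

set_option autoImplicit false
universe u
open CategoryTheory CategoryTheory.Limits AlgebraicGeometry Opposite MorphismProperty

namespace Groth.Agent.Helper4.AlgSpGeomPt

open AlgSp Groth.Agent.Helper4.AlgSpLocP2 Groth.Agent.Helper4.AlgSpPtsDesc
  Groth.Agent.Helper4.AlgSpQC2

variable {S : Scheme.{u}}

theorem exists_section_of_etale_over_algClosed {k : Type u} [Field k] [IsAlgClosed k]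
    {W : Scheme.{u}} (g : W ⟶ Spec (CommRingCat.of k)) [Etale g] (z : W) :
    ∃ s : Spec (CommRingCat.of k) ⟶ W, s ≫ g = 𝟙 _ ∧ ∀ a, s a = z := by
  have hq : LocallyQuasiFinite g := Groth.Agent.Helper4.SchLQF.locallyQuasiFinite_of_etale g
  have hd := g.isDiscrete_preimage_singleton (g z)
  have huniv : g ⁻¹' {g z} = Set.univ := by
    ext w
    simp only [Set.mem_preimage, Set.mem_singleton_iff, Set.mem_univ, iff_true]
    exact Subsingleton.elim _ _
  rw [huniv, isDiscrete_univ_iff] at hd
  have hz : IsClosed ({z} : Set W) := isClosed_discrete _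
  exact ⟨pointOfClosedPoint g z hz, pointOfClosedPoint_comp g z hz, pointOfClosedPoint_apply g z hz⟩

theorem exists_section_of_lft_over_algClosed {k : Type u} [Field k] [IsAlgClosed k]
    {W : Scheme.{u}} (g : W ⟶ Spec (CommRingCat.of k)) [LocallyOfFiniteType g] [Nonempty W] :
    ∃ s : Spec (CommRingCat.of k) ⟶ W, s ≫ g = 𝟙 _ := by
  have : JacobsonSpace ↥(Spec (CommRingCat.of k)) := inferInstance
  have : JacobsonSpace W := LocallyOfFiniteType.jacobsonSpace g
  obtain ⟨w, -, hw⟩ := nonempty_inter_closedPoints (X := W) (Z := Set.univ) Set.univ_nonempty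
    isOpen_univ.isLocallyClosed
  exact ⟨pointOfClosedPoint g w hw, pointOfClosedPoint_comp g w hw⟩

/-- Geometric points lift along surjective morphisms locally of finite type. -/
theorem exists_lift_geometric_point {X Y : Sp S} (hX : IsAlgSpace X) (hY : IsAlgSpace Y)
    (f : X ⟶ Y) (hf : LocP @LocallyOfFiniteType f) (hs : IsSurjectiveMor f)
    (k : Type u) [Field k] [IsAlgClosed k] (str : Spec (CommRingCat.of k) ⟶ S)
    (y : (yon S).obj (Over.mk str) ⟶ Y) :
    ∃ x : (yon S).obj (Over.mk str) ⟶ X, x ≫ f = y := by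
  obtain ⟨U₀, x₀, hx₀e, hx₀s⟩ := hX.atlas
  obtain ⟨V₀, y₀, hy₀e, hy₀s⟩ := hY.atlas
  obtain ⟨E, e, c, hee, hes, hxe, hxs, hcomm, hpbE⟩ :=
    exists_chart f x₀ hx₀e hx₀s y₀ hy₀e hy₀s
  have hPc : LocallyOfFiniteType c.left := hf _ y₀ c hxe hy₀e hcomm
  generalize (yon S).map e ≫ x₀ = x at hxe hxs hcomm hpbE
  obtain ⟨t₀⟩ : Nonempty ↥(Over.mk str).left :=
    (inferInstance : Nonempty ↥(Spec (CommRingCat.of k)))
  -- a point `u` of `E` over `[y]`
  obtain ⟨xbar, hxbar⟩ := hs (Points.ofPt y t₀)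
  obtain ⟨p, rfl⟩ := Groth.Agent.Helper4.AlgSpPts.isSurjectiveMor_of_repWith x hxs xbar
  obtain ⟨u, rfl⟩ := (Points.schemeHomeo E).surjective p
  have hv : Points.ofPt y₀ (c.left u) = Points.ofPt y t₀ := by
    rw [← ofPt_yon_map_comp, ← hcomm, ← Points.map_ofPt, ← ofPt_eq_map_schemeHomeo]
    exact hxbar
  -- E'
  have hr := hy₀e.rep
  have hpbV : IsPullback (hr.fst y) ((yon S).map (hr.snd y)) y₀ y := hr.isPullback y
  obtain ⟨d, hd⟩ := (yon S).map_surjective (hr.fst y)
  rw [← hd] at hpbV
  clear hd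
  have he'e : Etale (hr.snd y).left := hy₀e.property _ _ _ hpbV
  generalize hr.snd y = e' at hpbV he'e
  generalize hr.pullback y = E' at d e' hpbV
  obtain ⟨pz, hpz1, hpz2⟩ := exists_point_of_isPullback hpbV
    (Points.schemeHomeo V₀ (c.left u)) (Points.schemeHomeo (Over.mk str) t₀)
    (by rw [ofPt_eq_map_schemeHomeo, ofPt_eq_map_schemeHomeo]; exact hv)
  obtain ⟨z, rfl⟩ := (Points.schemeHomeo E').surjective pz
  rw [Points.map_yon_map_apply] at hpz1
  have hdz : d.left z = c.left u := (Points.schemeHomeo V₀).injective hpz1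
  -- section through z
  obtain ⟨s, hs1, hs2⟩ := exists_section_of_etale_over_algClosed (k := k) e'.left z
  have hsw : s ≫ E'.hom = (Over.mk str).hom := by
    rw [← Over.w e', ← Category.assoc, hs1]
    exact Category.id_comp _
  let sO : Over.mk str ⟶ E' := Over.homMk s hsw
  have hsO : sO ≫ e' = 𝟙 (Over.mk str) := by
    ext1
    exact hs1
  have hy' : (yon S).map (sO ≫ d) ≫ y₀ = y := by
    rw [Functor.map_comp, Category.assoc, hpbV.w, ← Category.assoc, ← Functor.map_comp, hsO]
    simp
  have hy't : (sO ≫ d).left t₀ = c.left u := by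
    show d.left (s t₀) = _
    rw [hs2, hdz]
  generalize sO ≫ d = y' at hy' hy't
  -- F = E ×_{V₀} T
  have hF : IsPullback (pullback.fst c y') (pullback.snd c y') c y' := IsPullback.of_hasPullback _ _
  have hF' : IsPullback (pullback.fst c y').left (pullback.snd c y').left c.left y'.left :=
    hF.map (Over.forget S)
  have hlft : LocallyOfFiniteType (pullback.snd c y').left :=
    MorphismProperty.of_isPullback hF' hPc
  have hne : Nonempty ↥(pullback c y').left := by
    obtain ⟨w, -, -⟩ := Scheme.Pullback.exists_preimage_pullback (f := c.left) (g := y'.left)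
      u t₀ hy't.symm
    exact ⟨hF'.isoPullback.inv w⟩
  obtain ⟨σ, hσ⟩ := exists_section_of_lft_over_algClosed (k := k) (pullback.snd c y').left
  have hσw : σ ≫ (pullback c y').hom = (Over.mk str).hom := by
    rw [← Over.w (pullback.snd c y'), ← Category.assoc, hσ]
    exact Category.id_comp _
  let σO : Over.mk str ⟶ pullback c y' := Over.homMk σ hσw
  have hσO : σO ≫ pullback.snd c y' = 𝟙 (Over.mk str) := by
    ext1
    exact hσ
  refine ⟨(yon S).map (σO ≫ pullback.fst c y') ≫ x, ?_⟩
  rw [Category.assoc, hcomm, ← Category.assoc, ← Functor.map_comp, Category.assoc, hF.w,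
    ← Category.assoc, hσO, Category.id_comp, hy']

end Groth.Agent.Helper4.AlgSpGeomPt
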