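import Groth.Prelude.Def_AlgSp4
import Groth.Agent.Helper4.SDClasses
import Groth.Agent.Helper4.AlgSpSrc
import Mathlib

set_option autoImplicit false
universe u
open CategoryTheory CategoryTheory.Limits AlgebraicGeometry Opposite MorphismProperty

namespace Groth.Agent.Helper4.AlgSpLocPChart

open AlgSp Groth.Agent.Helper4.AlgSpLocP2 Groth.Agent.Helper4.SDClasses

variable {S : Scheme.{u}}

/-- One chart diagram with surjective étale source chart and top arrow in `P` suffices for `LocP P`,
for good `P`. -/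
theorem locP_of_one_chart (P : MorphismProperty Scheme.{u}) (hG : Good P)
    {X Y : Sp S} (f : X ⟶ Y) {U V : Over S} (a : (yon S).obj U ⟶ X)
    (b : (yon S).obj V ⟶ Y) (h : U ⟶ V) (ha : RepWith @Etale a) (has : RepWith @Surjective a)
    (hb : RepWith @Etale b) (comm : a ≫ f = (yon S).map h ≫ b) (hh : P h.left) :
    LocP P f := by
  have := hG.bc
  have := hG.comp
  intro U' V' a' b' h' ha' hb' comm'
  -- U'' = h_U ×_X h_{U'}
  have har := ha.rep
  have hpbU : IsPullback (har.fst a') ((yon S).map (har.snd a')) a a' := har.isPullback a'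
  obtain ⟨p₁, hp₁⟩ := (yon S).map_surjective (har.fst a')
  rw [← hp₁] at hpbU
  have hp₂e : Etale (har.snd a').left := ha.property _ _ _ hpbU
  have hp₂s : Surjective (har.snd a').left := has.property _ _ _ hpbU
  have hp₁e : Etale p₁.left := ha'.property _ _ _ hpbU.flip
  generalize har.snd a' = p₂ at hpbU hp₂e hp₂s
  -- V'' = h_V ×_Y h_{V'}
  have hbr := hb.rep
  have hpbV : IsPullback (hbr.fst b') ((yon S).map (hbr.snd b')) b b' := hbr.isPullback b'
  obtain ⟨q₁, hq₁⟩ := (yon S).map_surjective (hbr.fst b')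
  rw [← hq₁] at hpbV
  have hq₂e : Etale (hbr.snd b').left := hb.property _ _ _ hpbV
  have hq₁e : Etale q₁.left := hb'.property _ _ _ hpbV.flip
  generalize hbr.snd b' = q₂ at hpbV hq₂e
  have hw : (yon S).map (p₁ ≫ h) ≫ b = (yon S).map (p₂ ≫ h') ≫ b' := by
    rw [Functor.map_comp, Category.assoc, ← comm, ← Category.assoc, hpbU.w, Category.assoc,
      comm', Functor.map_comp, Category.assoc]
  obtain ⟨s, hs⟩ := (yon S).map_surjective (hpbV.lift _ _ hw)
  have hs1 : s ≫ q₁ = p₁ ≫ h := by
    apply (yon S).map_injective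
    rw [Functor.map_comp, hs]; exact hpbV.lift_fst _ _ hw
  have hs2 : s ≫ q₂ = p₂ ≫ h' := by
    apply (yon S).map_injective
    rw [Functor.map_comp, hs]; exact hpbV.lift_snd _ _ hw
  have hPs : P s.left := by
    refine hG.of_postcomp s.left q₁.left hq₁e ?_
    rw [← Over.comp_left, hs1]
    show P (p₁.left ≫ h.left)
    exact P.comp_mem _ _ (hG.etale_le _ hp₁e) hh
  have hP2 : P (p₂ ≫ h').left := by
    rw [← hs2]
    show P (s.left ≫ q₂.left)
    exact P.comp_mem _ _ hPs (hG.etale_le _ hq₂e)
  exact hG.sd p₂.left h'.left hp₂e hp₂s hP2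

end Groth.Agent.Helper4.AlgSpLocPChart
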