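import Groth.Prelude.Def_AlgSp4
import Groth.Prelude.Def_AlgSpDec
import Groth.Agent.Helper4.AlgSpLocPFam
import Groth.Agent.Helper4.AlgSpLocPChart
import Groth.Agent.Helper4.AlgSpOpenImage
import Mathlib

set_option autoImplicit false
universe u
open CategoryTheory CategoryTheory.Limits AlgebraicGeometry Opposite MorphismProperty

namespace Groth.Agent.Helper4.AlgSpLocPOpen

open AlgSp Groth.Agent.Helper4.SDClasses Groth.Agent.Helper4.AlgSpOpenImage

variable {S : Scheme.{u}}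

theorem exists_open_subspace_of_hasAtMor (P : MorphismProperty Scheme.{u}) (hG : Good P)
    {X Y : Sp S} (hX : IsAlgSpace X) (f : X ⟶ Y) (x : Points X)
    (H : HasAtMor (fun U _ h u => ∃ W : U.Opens, u ∈ W ∧ P (W.ι ≫ h)) f x) :
    ∃ (X' : Sp S) (j : X' ⟶ X), IsAlgSpace X' ∧ RepWith @IsOpenImmersion j ∧
      x ∈ Set.range (Points.map j) ∧ LocP P (j ≫ f) := by
  obtain ⟨U, V, a, b, h, u, ha, hb, comm, hu, W, huW, hPW⟩ := H
  let UW : Over S := Over.mk (W.ι ≫ U.hom)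
  let ι' : UW ⟶ U := Over.homMk W.ι rfl
  have hι : RepWith @Etale ((yon S).map ι') :=
    (repWith_yon_map_iff _ _).2 (inferInstanceAs (Etale W.ι))
  have haW : RepWith @Etale ((yon S).map ι' ≫ a) :=
    Groth.Agent.Helper4.AlgSpSrc.repWith_comp _ hι ha
  generalize haW' : (yon S).map ι' ≫ a = aW at haW
  refine ⟨img aW, imgι aW, isAlgSpace_img aW hX.diag haW, imgι_isOpenImmersion aW haW, ?_, ?_⟩
  · refine ⟨Points.ofPt (toImg aW) ⟨u, huW⟩, ?_⟩
    rw [Points.map_ofPt, toImg_ι, ← haW', Groth.Agent.Helper4.AlgSpPtsDesc.ofPt_yon_map_comp]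
    exact hu
  · refine Groth.Agent.Helper4.AlgSpLocPChart.locP_of_one_chart P hG (imgι aW ≫ f) (toImg aW) b
      (ι' ≫ h) (toImg_etale aW haW) (toImg_surjective aW haW) hb ?_ hPW
    rw [← Category.assoc, toImg_ι, ← haW', Category.assoc, comm, Functor.map_comp, Category.assoc]

theorem hasAtMor_of_open_subspace (P : MorphismProperty Scheme.{u}) (hG : Good P)
    {X Y X' : Sp S} (hX' : IsAlgSpace X') (hY : IsAlgSpace Y) (f : X ⟶ Y) (j : X' ⟶ X)
    (hj : RepWith @IsOpenImmersion j) (x : Points X) (hx : x ∈ Set.range (Points.map j))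
    (hloc : LocP P (j ≫ f)) :
    HasAtMor (fun U _ h u => ∃ W : U.Opens, u ∈ W ∧ P (W.ι ≫ h)) f x := by
  obtain ⟨x', rfl⟩ := hx
  obtain ⟨U, V, a, b, h, u, ha, hb, comm, hu, W, huW, hPW⟩ :=
    Groth.Agent.Helper4.AlgSpLocPFam.hasAtMor_nbhd_of_locP P hG hX' hY (j ≫ f) hloc x'
  have hje : RepWith @Etale j :=
    Groth.Agent.Helper4.AlgSpSrc.repWith_mono (fun g hg => by
      have : IsOpenImmersion g := hg
      infer_instance) hj
  refine ⟨U, V, a ≫ j, b, h, u, Groth.Agent.Helper4.AlgSpSrc.repWith_comp _ ha hje, hb, ?_, ?_,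
    W, huW, hPW⟩
  · rw [Category.assoc, comm]
  · rw [← Points.map_ofPt, hu]

end Groth.Agent.Helper4.AlgSpLocPOpen
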