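import Groth.Prelude.Def_AlgSp4
import Groth.Agent.Helper4.AlgSpQC2
import Groth.Agent.Helper4.AlgSpDiag
import Mathlib

set_option autoImplicit false
universe u
open CategoryTheory CategoryTheory.Limits AlgebraicGeometry Opposite

namespace Groth.Agent.Helper4.AlgSpQS

open AlgSp Groth.Agent.Helper4.AlgSpPtsDesc

variable {S : Scheme.{u}}

/-- The fibre product over `S` of two schemes over `S`, as an object over `S`. -/
noncomputable abbrev prodOver (U Z : Over S) : Over S :=
  Over.mk (pullback.fst U.hom Z.hom ≫ U.hom)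

noncomputable abbrev prodFst (U Z : Over S) : prodOver U Z ⟶ U :=
  Over.homMk (pullback.fst U.hom Z.hom) rfl

noncomputable abbrev prodSnd (U Z : Over S) : prodOver U Z ⟶ Z :=
  Over.homMk (pullback.snd U.hom Z.hom) (by simp [pullback.condition])

/-- `h_{U ×_S Z}` is the fibre product of `h_U` and `h_Z` over any terminal object. -/
theorem isPullback_prodOver (U Z : Over S) {T : Sp S} (hT : IsTerminal T)
    (a : (yon S).obj U ⟶ T) (b : (yon S).obj Z ⟶ T) :
    IsPullback ((yon S).map (prodFst U Z)) ((yon S).map (prodSnd U Z)) a b := by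
  have hO : IsPullback (prodFst U Z) (prodSnd U Z) (Over.mkIdTerminal.from U)
      (Over.mkIdTerminal.from Z) :=
    IsPullback.of_map (Over.forget S) (Over.mkIdTerminal.hom_ext _ _)
      (by
        have := IsPullback.of_hasPullback U.hom Z.hom
        convert this using 1 <;> simp)
  have h1 := hO.map (yon S)
  have hT' : IsTerminal ((yon S).obj (Over.mk (𝟙 S))) :=
    IsTerminal.isTerminalObj (yon S) _ Over.mkIdTerminal
  let e : (yon S).obj (Over.mk (𝟙 S)) ≅ T := hT'.uniqueUpToIso hT
  have h2 := Groth.Agent.Helper4.AlgSpDiag.isPullback_comp_mono h1 e.hom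
  have e1 : (yon S).map (Over.mkIdTerminal.from U) ≫ e.hom = a := hT.hom_ext _ _
  have e2 : (yon S).map (Over.mkIdTerminal.from Z) ≫ e.hom = b := hT.hom_ext _ _
  rw [e1, e2] at h2
  exact h2

theorem compactSpace_prodOver [QuasiSeparatedSpace ↥S] (U Z : Over S) [CompactSpace ↥U.left]
    [CompactSpace ↥Z.left] : CompactSpace ↥(prodOver U Z).left := by
  have h1 : QuasiCompact U.hom := quasiCompact_of_compactSpace U.hom
  have h2 : QuasiCompact (pullback.snd U.hom Z.hom) := inferInstance
  exact QuasiCompact.compactSpace_of_compactSpace (pullback.snd U.hom Z.hom)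

/-- Over a quasi-separated base, a morphism from a quasi-compact sheaf with an étale surjective
compact chart to a sheaf with quasi-compact diagonal is quasi-compact. -/
theorem isQuasiCompactMor_of_qc_qs [QuasiSeparatedSpace ↥S] {X Y : Sp S} (f : X ⟶ Y)
    (hXc : IsQuasiCompactSp X) (hYs : IsQuasiSeparatedSp Y) : IsQuasiCompactMor f := by
  rw [Groth.Agent.Helper4.AlgSpQC.isQuasiCompactMor_iff_affine]
  intro Z hZaff g P fst snd sqP
  have : IsAffine Z.left := hZaff
  obtain ⟨U, u, hue, hus, hUc⟩ := hXc
  have hUc' : CompactSpace ↥U.left := hUc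
  -- M = h_U ×_Y h_Z
  have hM : IsPullback (pullback.fst (u ≫ f) g) (pullback.snd (u ≫ f) g) (u ≫ f) g :=
    IsPullback.of_hasPullback _ _
  have hcomm : (pullback.fst (u ≫ f) g ≫ u) ≫ f = pullback.snd (u ≫ f) g ≫ g := by
    rw [Category.assoc]; exact hM.w
  have hM' : IsPullback (pullback.fst (u ≫ f) g) (sqP.lift _ _ hcomm ≫ snd) (u ≫ f) g := by
    rw [sqP.lift_snd]; exact hM
  have htop : IsPullback (pullback.fst (u ≫ f) g) (sqP.lift _ _ hcomm) u fst :=
    IsPullback.of_bot hM' (sqP.lift_fst _ _ _).symm sqP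
  have i1 := repWith_isStableUnderBaseChange (S := S) @Etale
  have i2 := repWith_isStableUnderBaseChange (S := S) @Surjective
  have i3 := repWith_isStableUnderBaseChange (S := S) @QuasiCompact
  have hle : RepWith @Etale (sqP.lift _ _ hcomm) := MorphismProperty.of_isPullback htop hue
  have hls : RepWith @Surjective (sqP.lift _ _ hcomm) := MorphismProperty.of_isPullback htop hus
  -- j : M ⟶ N
  have hΔ : RepWith @QuasiCompact (pullback.diagonal (terminal.from Y)) :=
    (Groth.Agent.Helper4.AlgSpDiag.repWith_diag_iff _ _).1 hYs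
  have hjpb := pullback_map_diagonal_isPullback (u ≫ f) g (terminal.from Y)
  have hj : RepWith @QuasiCompact (pullback.map (u ≫ f) g ((u ≫ f) ≫ terminal.from Y)
      (g ≫ terminal.from Y) (𝟙 _) (𝟙 _) (terminal.from Y) (Category.id_comp _).symm
      (Category.id_comp _).symm) := MorphismProperty.of_isPullback hjpb hΔ
  have hN : IsPullback ((yon S).map (prodFst U Z)) ((yon S).map (prodSnd U Z))
      ((u ≫ f) ≫ terminal.from Y) (g ≫ terminal.from Y) :=
    isPullback_prodOver U Z terminalIsTerminal _ _
  have hr := hj.rep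
  have hpb : IsPullback (hr.fst hN.isoPullback.hom) ((yon S).map (hr.snd hN.isoPullback.hom))
      _ hN.isoPullback.hom := hr.isPullback _
  have hqc : QuasiCompact (hr.snd hN.isoPullback.hom).left := hj.property _ _ _ hpb
  have hiso : IsIso (hr.fst hN.isoPullback.hom) := hpb.isIso_fst_of_isIso
  have hpc := compactSpace_prodOver U Z
  have hEc : CompactSpace ↥(hr.pullback hN.isoPullback.hom).left :=
    QuasiCompact.compactSpace_of_compactSpace (hr.snd hN.isoPullback.hom).left
  refine ⟨hr.pullback hN.isoPullback.hom, hr.fst hN.isoPullback.hom ≫ sqP.lift _ _ hcomm,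
    ?_, ?_, hEc⟩
  · exact (MorphismProperty.cancel_left_of_respectsIso (RepWith (S := S) @Etale) _ _).2 hle
  · exact (MorphismProperty.cancel_left_of_respectsIso (RepWith (S := S) @Surjective) _ _).2 hls

end Groth.Agent.Helper4.AlgSpQS
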