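import Groth.Prelude.Def_AlgSp4
import Groth.Agent.Helper4.AlgSpUC
import Groth.Agent.Helper4.AlgSpDiag
import Mathlib

set_option autoImplicit false
universe u
open CategoryTheory CategoryTheory.Limits AlgebraicGeometry Opposite

namespace Groth.Agent.Helper4.AlgSpSep

open AlgSp Groth.Agent.Helper4.AlgSpPtsDesc Groth.Agent.Helper4.AlgSpQC2

variable {S : Scheme.{u}}

/-- If `u ≫ g` is universally closed and `u` is surjective on points, then `g` is universally
closed. -/
theorem univClosed_of_precomp_isSurjectiveMor {X' X Y : Sp S} (u : X' ⟶ X) (g : X ⟶ Y)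
    (hu : IsSurjectiveMor u) (h : IsUnivClosedMor (u ≫ g)) : IsUnivClosedMor g := by
  intro W W' hW k a b sq
  have hpb : IsPullback (pullback.fst u a) (pullback.snd u a) u a := IsPullback.of_hasPullback _ _
  have hqs : Function.Surjective (Points.map (pullback.snd u a)) :=
    Groth.Agent.Helper4.AlgSpPts.isSurjectiveMor_of_isPullback hpb hu
  have hbig : IsPullback (pullback.fst u a) (pullback.snd u a ≫ b) (u ≫ g) k :=
    hpb.paste_vert sq
  have hcl : IsClosedMap (Points.map (pullback.snd u a ≫ b)) := h hW k _ _ hbig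
  intro C hC
  have : Points.map b '' C =
      Points.map (pullback.snd u a ≫ b) '' (Points.map (pullback.snd u a) ⁻¹' C) := by
    ext w
    constructor
    · rintro ⟨x, hx, rfl⟩
      obtain ⟨y, rfl⟩ := hqs x
      exact ⟨y, hx, Points.map_comp _ _ _⟩
    · rintro ⟨y, hy, rfl⟩
      exact ⟨_, hy, (Points.map_comp _ _ _).symm⟩
  rw [this]
  exact hcl _ (hC.preimage (Points.continuous_map _))

/-- In a triangle with `f` surjective, if `f ≫ q` is quasi-compact then so is `q`. -/
theorem isQuasiCompactMor_of_surjective_triangle {X Y Z : Sp S} (hY : IsAlgSpace Y)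
    (hZ : Representable (Limits.diag Z)) (f : X ⟶ Y) (q : Y ⟶ Z) (hf : IsSurjectiveMor f)
    (hp : IsQuasiCompactMor (f ≫ q)) : IsQuasiCompactMor q := by
  intro W W' hW hqc g a b sq
  have hpb : IsPullback (pullback.fst f a) (pullback.snd f a) f a :=
    IsPullback.of_hasPullback _ _
  have hbig : IsPullback (pullback.fst f a) (pullback.snd f a ≫ b) (f ≫ q) g :=
    hpb.paste_vert sq
  have h1 : IsQuasiCompactSp (pullback f a) := hp hW hqc g _ _ hbig
  have h2 : IsSurjectiveMor (pullback.snd f a) :=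
    Groth.Agent.Helper4.AlgSpPts.isSurjectiveMor_of_isPullback hpb hf
  have h3 : IsAlgSpace W' :=
    Groth.Agent.Helper4.AlgSpPB.isAlgSpace_of_isPullback hZ hY hW _ _ _ _ sq
  exact isQuasiCompactSp_of_surjective h3 _ h2 h1

/-- "Universally closed and preserving algebraic spaces", tested on algebraic spaces. -/
def UCAlg : MorphismProperty (Sp S) := fun A B h =>
  ∀ ⦃W W' : Sp S⦄, IsAlgSpace W → ∀ (k : W ⟶ B) (fst : W' ⟶ A) (snd : W' ⟶ W),
    IsPullback fst snd h k → IsAlgSpace W' ∧ IsClosedMap (Points.map snd)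

instance : (UCAlg (S := S)).IsStableUnderBaseChange where
  of_isPullback := by
    intro X Y Y' B f g f' g' sq hg W W' hW k a b sq'
    exact hg hW (k ≫ f) (a ≫ f') b (sq'.paste_horiz sq)

instance : (UCAlg (S := S)).IsStableUnderComposition where
  comp_mem := by
    intro A B C f g hf hg W W' hW k a b sq
    have hbot : IsPullback (pullback.fst g k) (pullback.snd g k) g k :=
      IsPullback.of_hasPullback _ _
    obtain ⟨hW₁, hcl₁⟩ := hg hW k _ _ hbot
    have hcomm : (a ≫ f) ≫ g = b ≫ k := by rw [Category.assoc]; exact sq.w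
    have hb : b = pullback.lift (a ≫ f) b hcomm ≫ pullback.snd g k :=
      (pullback.lift_snd _ _ _).symm
    have sq' : IsPullback a (pullback.lift (a ≫ f) b hcomm ≫ pullback.snd g k) (f ≫ g) k := by
      rw [← hb]; exact sq
    have htop : IsPullback a (pullback.lift (a ≫ f) b hcomm) f (pullback.fst g k) :=
      IsPullback.of_bot sq' (pullback.lift_fst _ _ _).symm hbot
    obtain ⟨hW', hcl₂⟩ := hf hW₁ _ _ _ htop
    refine ⟨hW', ?_⟩
    have : Points.map b = Points.map (pullback.snd g k) ∘
        Points.map (pullback.lift (a ≫ f) b hcomm) := by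
      funext x
      rw [Function.comp_apply, ← Points.map_comp, ← hb]
    rw [this]
    exact hcl₁.comp hcl₂

theorem ucAlg_of_isUnivClosedMor {X Y : Sp S} (hX : IsAlgSpace X) (hY : IsAlgSpace Y) (f : X ⟶ Y)
    (hf : IsUnivClosedMor f) : UCAlg f := by
  intro W W' hW k a b sq
  exact ⟨Groth.Agent.Helper4.AlgSpPB.isAlgSpace_of_isPullback hY.diag hX hW _ _ _ _ sq,
    hf hW k a b sq⟩

theorem isUnivClosedMor_of_ucAlg {X Y : Sp S} (f : X ⟶ Y) (hf : UCAlg f) : IsUnivClosedMor f := by
  intro W W' hW k a b sq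
  exact (hf hW k a b sq).2

/-- `f ×_B f` is universally closed when `f` is. -/
theorem isUnivClosedMor_pullback_map {X Y B : Sp S} (hX : IsAlgSpace X) (hY : IsAlgSpace Y)
    (f : X ⟶ Y) (q : Y ⟶ B) (hf : IsUnivClosedMor f) :
    IsUnivClosedMor (pullback.map (f ≫ q) (f ≫ q) q q f f (𝟙 B) (by simp) (by simp)) := by
  apply isUnivClosedMor_of_ucAlg
  have h := ucAlg_of_isUnivClosedMor hX hY f hf
  exact MorphismProperty.pullbackMap (P := UCAlg (S := S)) h h rfl rfl

end Groth.Agent.Helper4.AlgSpSep
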