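import Groth.Prelude.Def_AlgSp4
import Groth.Agent.Helper4.AlgSpLocPBC
import Groth.Agent.Helper4.AlgSpQC2
import Groth.Agent.Helper4.AlgSpPB
import Mathlib

set_option autoImplicit false
universe u
open CategoryTheory CategoryTheory.Limits AlgebraicGeometry Opposite MorphismProperty

namespace Groth.Agent.Helper4.AlgSpSubm

open AlgSp Groth.Agent.Helper4.AlgSpLocP2 Groth.Agent.Helper4.AlgSpPtsDesc
  Groth.Agent.Helper4.AlgSpQC2

variable {S : Scheme.{u}}

/-- A flat quasi-compact surjective morphism of algebraic spaces is a quotient map on points. -/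
theorem isQuotientMap_of_flat_qc_surj {X Y : Sp S} (hY : IsAlgSpace Y) (f : X ⟶ Y)
    (hfl : LocP @Flat f) (hqc : IsQuasiCompactMor f) (hs : IsSurjectiveMor f) :
    Topology.IsQuotientMap (Points.map f) := by
  rw [Topology.isQuotientMap_iff, Topology.isCoinducing_iff]
  refine ⟨fun A => ⟨fun hA => ?_, fun hA => hA.preimage (Points.continuous_map f)⟩, hs⟩
  obtain ⟨V, q, hqe, hqs⟩ := hY.atlas
  apply isOpen_of_isOpen_preimage q hqe hqs
  apply isOpen_points_yon_of_affine
  intro W
  have hιe : Etale (affι V W).left := by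
    show Etale W.1.ι
    infer_instance
  have hqWe : RepWith @Etale ((yon S).map (affι V W) ≫ q) :=
    Groth.Agent.Helper4.AlgSpSrc.repWith_comp _ ((repWith_yon_map_iff _ _).2 hιe) hqe
  have hpre : Points.map ((yon S).map (affι V W)) ⁻¹' (Points.map q ⁻¹' A) =
      Points.map ((yon S).map (affι V W) ≫ q) ⁻¹' A := by
    ext t
    simp only [Set.mem_preimage]
    rw [Points.map_comp]
  rw [hpre]
  generalize (yon S).map (affι V W) ≫ q = qW at hqWe
  have sq : IsPullback (pullback.fst f qW) (pullback.snd f qW) f qW := IsPullback.of_hasPullback _ _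
  generalize pullback.fst f qW = fst at sq
  generalize pullback.snd f qW = snd at sq
  generalize pullback f qW = P at fst snd sq
  have hWc : CompactSpace ↥(affOver V W).left := isCompact_iff_compactSpace.1 W.2.isCompact
  have hPqc : IsQuasiCompactSp P :=
    hqc (IsAlgSpace.yon_obj _) (isQuasiCompactSp_yon _) qW fst snd sq
  obtain ⟨U, c, hce, hcs, hUc⟩ := hPqc
  have hUc' : CompactSpace ↥U.left := hUc
  have i1 := repWith_isStableUnderBaseChange (S := S) @Etale
  have hfste : RepWith @Etale fst := MorphismProperty.of_isPullback sq.flip hqWe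
  have hae : RepWith @Etale (c ≫ fst) := Groth.Agent.Helper4.AlgSpSrc.repWith_comp _ hce hfste
  obtain ⟨h, hh⟩ := (yon S).map_surjective (c ≫ snd)
  have hflat : Flat h.left :=
    hfl (c ≫ fst) qW h hae hqWe (by rw [Category.assoc, sq.w, ← Category.assoc, hh])
  have hsurjP : Function.Surjective (Points.map ((yon S).map h)) := by
    rw [hh]
    intro w
    obtain ⟨p, rfl⟩ := Groth.Agent.Helper4.AlgSpPts.isSurjectiveMor_of_isPullback sq hs w
    obtain ⟨t, rfl⟩ := Groth.Agent.Helper4.AlgSpPts.isSurjectiveMor_of_repWith c hcs p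
    exact ⟨t, Points.map_comp _ _ _⟩
  have hsurj : Surjective h.left := by
    refine ⟨fun w => ?_⟩
    obtain ⟨p, hp⟩ := hsurjP (Points.schemeHomeo _ w)
    obtain ⟨t, rfl⟩ := (Points.schemeHomeo U).surjective p
    rw [Points.map_yon_map_apply] at hp
    exact ⟨t, (Points.schemeHomeo _).injective hp⟩
  have hWaff : IsAffine (affOver V W).left := W.2
  have hqcm : QuasiCompact h.left := inferInstance
  have hquot : Topology.IsQuotientMap (fun t => h.left t) :=
    Flat.isQuotientMap_of_surjective h.left
  have hquot' : Topology.IsQuotientMap (Points.map ((yon S).map h)) := by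
    rw [Points.map_yon_map_eq]
    exact ((Points.schemeHomeo _).isQuotientMap.comp hquot).comp
      (Points.schemeHomeo _).symm.isQuotientMap
  rw [← hquot'.isOpen_preimage]
  have : Points.map ((yon S).map h) ⁻¹' (Points.map qW ⁻¹' A) =
      Points.map (c ≫ fst) ⁻¹' (Points.map f ⁻¹' A) := by
    ext s
    simp only [Set.mem_preimage]
    rw [← Points.map_comp, ← Points.map_comp, hh, Category.assoc, Category.assoc, sq.w]
  rw [this]
  exact hA.preimage (Points.continuous_map _)

end Groth.Agent.Helper4.AlgSpSubm
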