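import Groth.Prelude.Def_W4c5normfunctorschNorm
import Groth.Prelude.Def_SymTen
import Mathlib

/-!
# Symmetric tensors preserve the alternating relations (helper4)
-/

set_option autoImplicit false
universe u
open scoped TensorProduct

namespace Groth.Agent.Helper4.AltSpan

section basic

variable {R : Type u} [CommRing R] {P P' : Type u} [AddCommGroup P] [Module R P]
  [AddCommGroup P'] [Module R P'] {d : ℕ}

variable (R P d) in
/-- the class of a pure tensor in the quotient by `altSpan`, as an alternating map -/
noncomputable def altQ : P [⋀^Fin d]→ₗ[R] ((⨂[R] _ : Fin d, P) ⧸ SymTen.altSpan R P d) :=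
  { (SymTen.altSpan R P d).mkQ.compMultilinearMap (PiTensorProduct.tprod R) with
    map_eq_zero_of_eq' := by
      intro v i j hv hij
      simp only [MultilinearMap.toFun_eq_coe, LinearMap.compMultilinearMap_apply,
        Submodule.mkQ_apply, Submodule.Quotient.mk_eq_zero]
      exact Submodule.subset_span ⟨v, i, j, hij, hv, rfl⟩ }

theorem altQ_apply (y : Fin d → P) :
    altQ R P d y = Submodule.Quotient.mk (PiTensorProduct.tprod R y) := rfl

/-- `tprod (q ∘ swap) + tprod q` lies in `altSpan` -/
theorem tprod_swap_add_mem (q : Fin d → P) (i j : Fin d) (hij : i ≠ j) :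
    PiTensorProduct.tprod R (q ∘ Equiv.swap i j) + PiTensorProduct.tprod R q ∈
      SymTen.altSpan R P d := by
  have h := (altQ R P d).map_swap_add q hij
  rw [altQ_apply, altQ_apply, ← Submodule.Quotient.mk_add, Submodule.Quotient.mk_eq_zero] at h
  exact h

/-- functoriality of `altSpan` -/
theorem map_mem_altSpan (g : P →ₗ[R] P') (x : ⨂[R] _ : Fin d, P) (hx : x ∈ SymTen.altSpan R P d) :
    PiTensorProduct.map (fun _ => g) x ∈ SymTen.altSpan R P' d := by
  induction hx using Submodule.span_induction with
  | mem x hx =>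
    obtain ⟨p, i, j, hij, hp, rfl⟩ := hx
    rw [PiTensorProduct.map_tprod]
    exact Submodule.subset_span ⟨fun k => g (p k), i, j, hij, by simp only [hp], rfl⟩
  | zero => rw [map_zero]; exact zero_mem _
  | add x y _ _ hx hy => rw [map_add]; exact add_mem hx hy
  | smul r x _ hx => rw [map_smul]; exact Submodule.smul_mem _ _ hx

end basic

section free

variable {R : Type u} [CommRing R] {d n : ℕ}

/-- In a free module, a tensor fixed by a transposition is in `altSpan`. -/
theorem mem_altSpan_of_swap_fixed_free (i j : Fin d) (hij : i ≠ j)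
    (y : ⨂[R] _ : Fin d, (Fin n → R))
    (hy : PiTensorProduct.reindex R (fun _ : Fin d => (Fin n → R)) (Equiv.swap i j) y = y) :
    y ∈ SymTen.altSpan R (Fin n → R) d := by
  classical
  let b := Pi.basisFun R (Fin n)
  let B : Module.Basis (Fin d → Fin n) R (⨂[R] _ : Fin d, (Fin n → R)) :=
    Basis.piTensorProduct (fun _ : Fin d => b)
  have hB : ∀ K, B K = PiTensorProduct.tprod R (fun k => b (K k)) := fun K =>
    Basis.piTensorProduct_apply _ K
  let τ := PiTensorProduct.reindex R (fun _ : Fin d => (Fin n → R)) (Equiv.swap i j)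
  have hτB : ∀ K, τ (B K) = B (K ∘ Equiv.swap i j) := by
    intro K
    rw [hB, hB]
    change PiTensorProduct.reindex R (fun _ : Fin d => (Fin n → R)) (Equiv.swap i j) _ = _
    rw [PiTensorProduct.reindex_tprod]
    simp [Equiv.symm_swap]
  -- the three projections
  let Φ : (⨂[R] _ : Fin d, (Fin n → R)) →ₗ[R] (⨂[R] _ : Fin d, (Fin n → R)) :=
    B.constr R (fun K => if K i < K j then B K else 0)
  let Ψ : (⨂[R] _ : Fin d, (Fin n → R)) →ₗ[R] (⨂[R] _ : Fin d, (Fin n → R)) :=
    B.constr R (fun K => if K i = K j then B K else 0)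
  have hΦ : ∀ K, Φ (B K) = if K i < K j then B K else 0 := fun K => B.constr_basis R _ K
  have hΨ : ∀ K, Ψ (B K) = if K i = K j then B K else 0 := fun K => B.constr_basis R _ K
  have hdecomp : (LinearMap.id : (⨂[R] _ : Fin d, (Fin n → R)) →ₗ[R] _) =
      Φ + τ.toLinearMap ∘ₗ Φ ∘ₗ τ.toLinearMap + Ψ := by
    apply B.ext
    intro K
    simp only [LinearMap.id_coe, id_eq, LinearMap.add_apply, LinearMap.coe_comp,
      LinearEquiv.coe_coe, Function.comp_apply, hτB, hΦ, hΨ]
    simp only [Equiv.swap_apply_left, Equiv.swap_apply_right]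
    rcases lt_trichotomy (K i) (K j) with h | h | h
    · rw [if_pos h, if_neg (not_lt.mpr h.le), if_neg h.ne, map_zero, add_zero, add_zero]
    · rw [if_neg (by rw [h]; exact lt_irrefl _), if_neg (by rw [h]; exact lt_irrefl _), if_pos h,
        map_zero, zero_add, zero_add]
    · rw [if_neg (not_lt.mpr h.le), if_pos h, if_neg h.ne', hτB, zero_add, add_zero]
      congr 1
      funext k
      simp [Function.comp_apply, Equiv.swap_apply_self]
  -- each piece lands in altSpan
  have h1 : LinearMap.range (Φ + τ.toLinearMap ∘ₗ Φ) ≤ SymTen.altSpan R (Fin n → R) d := by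
    rw [LinearMap.range_eq_map, ← B.span_eq, Submodule.map_span_le]
    rintro _ ⟨K, rfl⟩
    simp only [LinearMap.add_apply, LinearMap.coe_comp, LinearEquiv.coe_coe, Function.comp_apply,
      hΦ]
    by_cases h : K i < K j
    · rw [if_pos h, hτB, add_comm, hB, hB]
      exact tprod_swap_add_mem (fun k => b (K k)) i j hij
    · rw [if_neg h, map_zero, add_zero]
      exact zero_mem _
  have h2 : LinearMap.range Ψ ≤ SymTen.altSpan R (Fin n → R) d := by
    rw [LinearMap.range_eq_map, ← B.span_eq, Submodule.map_span_le]
    rintro _ ⟨K, rfl⟩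
    rw [hΨ]
    by_cases h : K i = K j
    · rw [if_pos h, hB]
      exact Submodule.subset_span ⟨fun k => b (K k), i, j, hij, by simp only [h], rfl⟩
    · rw [if_neg h]
      exact zero_mem _
  have hy' := LinearMap.congr_fun hdecomp y
  simp only [LinearMap.id_coe, id_eq, LinearMap.add_apply, LinearMap.coe_comp,
    LinearEquiv.coe_coe, Function.comp_apply] at hy'
  rw [show τ y = y from hy] at hy'
  rw [hy']
  refine add_mem (h1 ⟨y, ?_⟩) (h2 ⟨y, rfl⟩)
  simp only [LinearMap.add_apply, LinearMap.coe_comp, LinearEquiv.coe_coe, Function.comp_apply]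

end free

section proj

variable {R : Type u} [CommRing R] {P : Type u} [AddCommGroup P] [Module R P]
  [Module.Finite R P] [Module.Projective R P] {d : ℕ}

/-- In a finite projective module, a tensor fixed by a transposition is in `altSpan`. -/
theorem mem_altSpan_of_swap_fixed (i j : Fin d) (hij : i ≠ j) (y : ⨂[R] _ : Fin d, P)
    (hy : PiTensorProduct.reindex R (fun _ : Fin d => P) (Equiv.swap i j) y = y) :
    y ∈ SymTen.altSpan R P d := by
  obtain ⟨n, f, g, -, -, hfg⟩ := Module.Finite.exists_comp_eq_id_of_projective R P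
  have h1 : PiTensorProduct.map (fun _ : Fin d => g) y ∈ SymTen.altSpan R (Fin n → R) d := by
    apply mem_altSpan_of_swap_fixed_free i j hij
    have := PiTensorProduct.map_reindex (fun _ : Fin d => g) (Equiv.swap i j) y
    rw [← this, hy]
  have h2 := map_mem_altSpan f _ h1
  have h3 : PiTensorProduct.map (fun _ : Fin d => f) (PiTensorProduct.map (fun _ : Fin d => g) y)
      = y := by
    rw [← LinearMap.comp_apply, ← PiTensorProduct.map_comp]
    simp only [hfg]
    rw [PiTensorProduct.map_id, LinearMap.id_apply]
  rwa [h3] at h2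

end proj

section act

variable {R : Type u} [CommRing R] {A : Type u} [CommRing A] [Algebra R A]
  {P : Type u} [AddCommGroup P] [Module R P] [Module A P] [IsScalarTower R A P] {d : ℕ}

theorem tpowAct_tprod (a : Fin d → A) (p : Fin d → P) :
    SymTen.tpowAct R A P d (PiTensorProduct.tprod R a) (PiTensorProduct.tprod R p) =
      PiTensorProduct.tprod R (fun k => a k • p k) := by
  simp [SymTen.tpowAct, PiTensorProduct.lift.tprod, PiTensorProduct.mapMultilinear_apply,
    PiTensorProduct.map_tprod]

theorem reindex_tpowAct (σ : Equiv.Perm (Fin d)) (a : ⨂[R] _ : Fin d, A)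
    (x : ⨂[R] _ : Fin d, P) :
    PiTensorProduct.reindex R (fun _ : Fin d => P) σ (SymTen.tpowAct R A P d a x) =
      SymTen.tpowAct R A P d (PiTensorProduct.reindex R (fun _ : Fin d => A) σ a)
        (PiTensorProduct.reindex R (fun _ : Fin d => P) σ x) := by
  induction a using PiTensorProduct.induction_on with
  | smul_tprod r a =>
    induction x using PiTensorProduct.induction_on with
    | smul_tprod s p =>
      simp only [map_smul, LinearMap.smul_apply, PiTensorProduct.reindex_tprod, tpowAct_tprod]
    | add x y hx hy => simp only [map_add, hx, hy]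
  | add a b ha hb => simp only [map_add, LinearMap.add_apply, ha, hb]

end act

end Groth.Agent.Helper4.AltSpan
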