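import Groth.Agent.Helper4.RelCompTwist
import Groth.Prelude.Def_MoreMor
import Mathlib

set_option autoImplicit false
universe u
open CategoryTheory CategoryTheory.Limits AlgebraicGeometry Opposite TopologicalSpace

namespace Groth.Agent.Helper4.AmpleFamily

open Groth.Agent.Helper4.GenLoc Groth.Agent.Helper4.TensorInv Groth.Agent.Helper4.TensorGen
  Groth.Agent.Helper4.TensorRes Groth.Agent.Helper4.TensorAssoc
  Groth.Agent.Helper4.AmpleIso Groth.Agent.Helper4.AmpleBasis Groth.Agent.Helper4.AmpleRestrict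
  Groth.Agent.Helper4.AmpleLocal Groth.Agent.Helper4.PullSec Groth.Agent.Helper4.PullTensor
  Groth.Agent.Helper4.PullAmple Groth.Agent.Helper4.TwistCover Groth.Agent.Helper4.CounitEpi
  Groth.Agent.Helper4.RelCompTwist

variable {X Y : Scheme.{u}}

theorem quasiSeparatedSpace_of_hasAmpleFamily (hY : MoreMor.HasAmpleFamily Y) :
    QuasiSeparatedSpace Y := by
  obtain ⟨hc, h⟩ := hY
  choose K n t hK hn hyt hta using h
  refine QuasiSeparatedSpace.of_isOpenCover (U := fun y : Y => CohB1.genLocus _ (t y)) ?_ ?_ ?_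
  · exact eq_top_iff.mpr fun y _ => TopologicalSpace.Opens.mem_iSup.mpr ⟨y, hyt y⟩
  · intro y
    exact isRetrocompact_genLocus _ (isInvertible_tensorPow (hK y) _) _
  · intro y
    haveI : IsAffine (CohB1.genLocus _ (t y) : Scheme.{u}) := hta y
    exact (isQuasiSeparated_iff_quasiSeparatedSpace _ (CohB1.genLocus _ (t y)).2).mpr
      (inferInstance : QuasiSeparatedSpace (CohB1.genLocus _ (t y) : Scheme.{u}))

/-- S1499 -/
theorem hasAmpleFamily_of_isRelAmple (f : X ⟶ Y) (hY : MoreMor.HasAmpleFamily Y) (L : X.Modules)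
    (hL : RelAmple.IsRelAmple f L) : MoreMor.HasAmpleFamily X := by
  haveI : QuasiSeparatedSpace Y := quasiSeparatedSpace_of_hasAmpleFamily hY
  haveI : CompactSpace Y := hY.1
  haveI : QuasiCompact f := hL.1
  haveI : CompactSpace X := QuasiCompact.compactSpace_of_compactSpace f
  haveI : QuasiSeparated f := quasiSeparated_of_isRelAmple f L hL
  haveI : QuasiSeparatedSpace X := quasiSeparatedSpace_of_quasiSeparated f
  have hLinv := isInvertible_of_isRelAmple f L hL
  refine ⟨inferInstance, fun x => ?_⟩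
  obtain ⟨K, n, t, hK, hn, hyt, hta⟩ := hY.2 (f x)
  obtain ⟨k, rfl⟩ := Nat.exists_eq_succ_of_ne_zero (Nat.one_le_iff_ne_zero.mp hn)
  have hN := isInvertible_pullback f hK
  have hg := genLocus_pullPowSec f hK (k + 1) t
  obtain ⟨W, n₁, hxW, hWaff, hW⟩ := exists_affine_nhd_twist hLinv hN x k
    (pullPowSec f hK (k + 1) t) (by rw [hg]; exact hyt) (by rw [hg]; exact hL.2 ⟨_, hta⟩)
  obtain ⟨m, s, hs⟩ := hW n₁ le_rfl
  exact ⟨_, m + 1, s, isInvertible_tensorMod hLinv (isInvertible_tensorPow hN n₁),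
    Nat.succ_pos m, hs ▸ hxW, hs ▸ hWaff⟩

end Groth.Agent.Helper4.AmpleFamily
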