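import Groth.Agent.Helper4.AmpleFinite
import Mathlib

set_option autoImplicit false
universe u
open CategoryTheory CategoryTheory.Limits AlgebraicGeometry Opposite TopologicalSpace TensorProduct
  MonoidalCategory

namespace Groth.Agent.Helper4.AmplePoints

open Groth.Agent.Helper4.GenLoc Groth.Agent.Helper4.TensorInv Groth.Agent.Helper4.TensorGen
  Groth.Agent.Helper4.QAffSec Groth.Agent.Helper4.TensorLift Groth.Agent.Helper4.TwistLocal
  Groth.Agent.Helper4.TwistExt Groth.Agent.Helper4.TensorRes Groth.Agent.Helper4.TensorAssoc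
  Groth.Agent.Helper4.AmpleIso Groth.Agent.Helper4.AmpleBasis Groth.Agent.Helper4.AmpleRestrict
  Groth.Agent.Helper4.AmpleFinite Groth.Agent.Helper4.AmpleLocal

variable {X : Scheme.{u}}

/-- a section over `X_t` of an invertible `E`, twisted by a power of `t`, extends to a global
section whose generating locus inside `X_t` is that of the given section -/
theorem exists_extension_genLocus [CompactSpace X] [QuasiSeparatedSpace X] (M E : X.Modules)
    (hM : PicF.IsInvertible M) (hE : PicF.IsInvertible E) (t : Coh.structureModule X ⟶ M)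
    (u : Coh.structureModule (CohB1.genLocus M t : Scheme.{u}) ⟶
      E.restrict (CohB1.genLocus M t).ι) :
    ∃ (a : ℕ) (σ : Coh.structureModule X ⟶ CohB1.tensorMod E (CohB1.tensorPow M a)), 0 < a ∧
      (CohB1.genLocus M t).ι ⁻¹ᵁ (CohB1.genLocus _ σ) = CohB1.genLocus _ u := by
  obtain ⟨G, hG⟩ : ∃ G : X.Opens, G = CohB1.genLocus M t := ⟨_, rfl⟩
  have hT : G.ι ''ᵁ ⊤ = G := Scheme.Opens.ι_image_top G
  haveI : E.IsQuasicoherent := isQuasicoherent_of_isInvertible E hE
  subst hG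
  let u₁ : Γ(E, (CohB1.genLocus M t).ι ''ᵁ ⊤) := u.app ⊤ (one _ ⊤)
  let u₀ : Γ(E, CohB1.genLocus M t) := E.presheaf.map (homOfLE hT.ge).op u₁
  obtain ⟨a, ha, t', ht'⟩ := exists_twist_extends M hM t E u₀
  obtain ⟨a', rfl⟩ := Nat.exists_eq_succ_of_ne_zero ha.ne'
  obtain ⟨σ0, hσ⟩ := SubExt.exists_unit_hom_of_section
    (CohB1.tensorMod E (CohB1.tensorPow M (a' + 1))) t'
  let σ : Coh.structureModule X ⟶ CohB1.tensorMod E (CohB1.tensorPow M (a' + 1)) := σ0
  refine ⟨a' + 1, σ, ha, ?_⟩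
  let j := (CohB1.genLocus M t).ι
  let T : X.Opens := j ''ᵁ ⊤
  let v : Coh.structureModule (CohB1.genLocus M t : Scheme.{u}) ⟶
      (CohB1.tensorPow M (a' + 1)).restrict j := resSec j (SecTwist.powHom t (a' + 1))
  have hv : CohB1.genLocus _ v = ⊤ := by
    rw [genLocus_resSec, genLocus_powHom hM]
    ext y
    simp only [Opens.coe_top, Set.mem_univ, iff_true]
    exact y.2
  have hEj : PicF.IsInvertible (E.restrict j) := isInvertible_restrict j hE
  have hMj : PicF.IsInvertible ((CohB1.tensorPow M (a' + 1)).restrict j) :=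
    isInvertible_restrict j (isInvertible_tensorPow hM _)
  -- both sides name the same section
  have hL1 : (resSec j σ).app ⊤ (one _ ⊤) =
      SecTwist.tmul E (CohB1.tensorPow M (a' + 1)) T u₁ (SecTwist.pow t (a' + 1) T) := by
    have e1 : (resSec j σ).app ⊤ (one _ ⊤) = σ.app T (one X T) := by
      change σ.app T ((Scheme.Modules.restrictUnitIso j).inv.app ⊤ (one _ ⊤)) = _
      rw [restrictUnitIso_inv_one]
    have e2 : σ.app T (one X T) =
        (CohB1.tensorMod E (CohB1.tensorPow M (a' + 1))).presheaf.map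
          (homOfLE (le_top : T ≤ ⊤)).op t' := by
      rw [app_one_eq_res]
      exact congrArg _ hσ
    have e3 : (CohB1.tensorMod E (CohB1.tensorPow M (a' + 1))).presheaf.map
          (homOfLE (le_top : T ≤ ⊤)).op t' =
        (CohB1.tensorMod E (CohB1.tensorPow M (a' + 1))).presheaf.map (homOfLE hT.le).op
          (SecTwist.twist t (a' + 1) E (CohB1.genLocus M t) u₀) := by
      rw [← ht', QAffSec.res_res]
    have e4 : (CohB1.tensorMod E (CohB1.tensorPow M (a' + 1))).presheaf.map (homOfLE hT.le).op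
          (SecTwist.twist t (a' + 1) E (CohB1.genLocus M t) u₀) =
        SecTwist.twist t (a' + 1) E T (E.presheaf.map (homOfLE hT.le).op u₀) :=
      twist_res t (a' + 1) E hT.le u₀
    have e5 : E.presheaf.map (homOfLE hT.le).op u₀ = u₁ := by
      change E.presheaf.map (homOfLE hT.le).op (E.presheaf.map (homOfLE hT.ge).op u₁) = u₁
      rw [QAffSec.res_res, QAffSec.res_self]
    rw [e1, e2, e3, e4, e5]
    rfl
  have hR1 : (SecTwist.tmulHom u v ≫ (resIso j E (CohB1.tensorPow M (a' + 1))).hom).app ⊤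
        (one _ ⊤) =
      SecTwist.tmul E (CohB1.tensorPow M (a' + 1)) T u₁ (SecTwist.pow t (a' + 1) T) := by
    have e1 : (SecTwist.tmulHom u v ≫ (resIso j E (CohB1.tensorPow M (a' + 1))).hom).app ⊤
        (one _ ⊤) = (resIso j E (CohB1.tensorPow M (a' + 1))).hom.app ⊤
          (SecTwist.val (SecTwist.tmulHom u v) ⊤) := rfl
    rw [e1, SecTwist.val_tmulHom, resIso_hom_tmul]
    have e2 : SecTwist.val v ⊤ = SecTwist.pow t (a' + 1) T := by
      change (SecTwist.powHom t (a' + 1)).app T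
        ((Scheme.Modules.restrictUnitIso j).inv.app ⊤ (one _ ⊤)) = _
      rw [restrictUnitIso_inv_one]
      exact SecTwist.val_powHom t (a' + 1) T
    rw [e2]
    rfl
  have key : resSec j σ = SecTwist.tmulHom u v ≫ (resIso j E (CohB1.tensorPow M (a' + 1))).hom :=
    unit_hom_ext _ _ (hL1.trans hR1.symm)
  rw [← genLocus_resSec, key, genLocus_comp_iso, genLocus_tmulHom _ _ hEj hMj, hv, inf_top_eq]

/-- Lemma X': sections of twists of `E` generating at a finite set inside a given `X_t` -/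
theorem exists_section_generating_of_subset_genLocus {L : X.Modules} (h : CohB1.IsAmple L)
    (N : ℕ) (t : Coh.structureModule X ⟶ CohB1.tensorPow L (N + 1)) (E : X.Modules)
    (hE : PicF.IsInvertible E) (Z : Set X) (hZ : Z.Finite) (hZt : Z ⊆ CohB1.genLocus _ t) :
    ∃ (a : ℕ) (σ : Coh.structureModule X ⟶
        CohB1.tensorMod E (CohB1.tensorPow (CohB1.tensorPow L (N + 1)) a)),
      0 < a ∧ Z ⊆ CohB1.genLocus _ σ := by
  have hL := h.1
  haveI := h.2.1
  haveI := quasiSeparatedSpace_of_isAmple h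
  haveI : (CohB1.genLocus _ t : Scheme.{u}).IsQuasiAffine := isQuasiAffine_genLocus h N t
  have hEj : PicF.IsInvertible (E.restrict (CohB1.genLocus _ t).ι) := isInvertible_restrict _ hE
  obtain ⟨u, -, hu, -⟩ := exists_affine_genLocus (X := (CohB1.genLocus _ t : Scheme.{u}))
    (E.restrict (CohB1.genLocus _ t).ι) hEj ⊤ ((CohB1.genLocus _ t).ι ⁻¹' Z)
    (hZ.preimage ((CohB1.genLocus _ t).ι.isOpenEmbedding.injective.injOn)) (fun _ _ => trivial)
  obtain ⟨a, σ, ha, hσ⟩ := exists_extension_genLocus (CohB1.tensorPow L (N + 1)) E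
    (isInvertible_tensorPow hL _) hE t u
  refine ⟨a, σ, ha, ?_⟩
  intro z hz
  have h1 : (⟨z, hZt hz⟩ : (CohB1.genLocus _ t : Scheme.{u})) ∈ CohB1.genLocus _ u := hu hz
  rw [← hσ] at h1
  exact h1

/-- Lemma X: sections generating at a finite set -/
theorem exists_sections_generating_at {L : X.Modules} (h : CohB1.IsAmple L) (E : X.Modules)
    (hE : PicF.IsInvertible E) (Z : Set X) (hZ : Z.Finite) :
    ∃ (N a : ℕ) (t : Coh.structureModule X ⟶ CohB1.tensorPow L (N + 1))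
      (σ : Coh.structureModule X ⟶
        CohB1.tensorMod E (CohB1.tensorPow (CohB1.tensorPow L (N + 1)) a)),
      0 < a ∧ Z ⊆ CohB1.genLocus _ t ∧ Z ⊆ CohB1.genLocus _ σ := by
  obtain ⟨N, t, hZt⟩ := exists_genLocus_of_finite h Z hZ
  obtain ⟨a, σ, ha, hσ⟩ := exists_section_generating_of_subset_genLocus h N t E hE Z hZ hZt
  exact ⟨N, a, t, σ, ha, hZt, hσ⟩

theorem genLocus_le_genLocus_powHom {M : X.Modules} (hM : PicF.IsInvertible M)
    (s : Coh.structureModule X ⟶ M) (m : ℕ) :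
    CohB1.genLocus M s ≤ CohB1.genLocus _ (SecTwist.powHom s m) := by
  cases m with
  | zero =>
    change _ ≤ CohB1.genLocus (Coh.structureModule X) (𝟙 _)
    rw [genLocus_id]; exact le_top
  | succ m => rw [genLocus_powHom hM]

/-- S8674 -/
theorem exists_sections_twists_generating {L : X.Modules} (h : CohB1.IsAmple L) (E : X.Modules)
    (hE : PicF.IsInvertible E) (Z : Set X) (hZ : Z.Finite) :
    ∃ n : ℕ, ∀ k : ℕ, 1 ≤ k →
      ∃ s : Coh.structureModule X ⟶ CohB1.tensorMod E (CohB1.tensorPow L (k * n)),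
        Z ⊆ CohB1.genLocus _ s := by
  have hL := h.1
  obtain ⟨N, a, t, σ, ha, hZt, hZσ⟩ := exists_sections_generating_at h E hE Z hZ
  obtain ⟨a', rfl⟩ := Nat.exists_eq_succ_of_ne_zero ha.ne'
  obtain ⟨n, hn⟩ : ∃ n, n = (N + 1) * (a' + 1) := ⟨_, rfl⟩
  have hMinv := isInvertible_tensorPow hL (N + 1)
  let ρ : Coh.structureModule X ⟶ CohB1.tensorPow L ((N + 1) * (a' + 1)) :=
    SecTwist.powHom t (a' + 1) ≫ (powMulIso L hL (N + 1) (a' + 1)).hom
  have hρ : CohB1.genLocus _ ρ = CohB1.genLocus _ t := by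
    rw [genLocus_comp_iso, genLocus_powHom hMinv]
  let σ' : Coh.structureModule X ⟶ CohB1.tensorMod E (CohB1.tensorPow L ((N + 1) * (a' + 1))) :=
    σ ≫ (PicGrp.tensorModIso (Iso.refl E) (powMulIso L hL (N + 1) (a' + 1))).hom
  have hσ' : CohB1.genLocus _ σ' = CohB1.genLocus _ σ := genLocus_comp_iso _ _
  refine ⟨(N + 1) * (a' + 1), fun k hk => ?_⟩
  obtain ⟨k', rfl⟩ := Nat.exists_eq_succ_of_ne_zero (Nat.one_le_iff_ne_zero.mp hk)
  have hninv := isInvertible_tensorPow hL ((N + 1) * (a' + 1))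
  let ρk : Coh.structureModule X ⟶ CohB1.tensorPow L ((N + 1) * (a' + 1) * k') :=
    SecTwist.powHom ρ k' ≫ (powMulIso L hL ((N + 1) * (a' + 1)) k').hom
  have hρk : CohB1.genLocus _ ρ ≤ CohB1.genLocus _ ρk := by
    have e1 : CohB1.genLocus _ ρk = CohB1.genLocus _ (SecTwist.powHom ρ k') :=
      genLocus_comp_iso _ _
    rw [e1]; exact genLocus_le_genLocus_powHom hninv ρ k'
  have hcast : (N + 1) * (a' + 1) + (N + 1) * (a' + 1) * k' = (k' + 1) * ((N + 1) * (a' + 1)) := by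
    ring
  let e : CohB1.tensorMod (CohB1.tensorMod E (CohB1.tensorPow L ((N + 1) * (a' + 1))))
        (CohB1.tensorPow L ((N + 1) * (a' + 1) * k')) ≅
      CohB1.tensorMod E (CohB1.tensorPow L ((k' + 1) * ((N + 1) * (a' + 1)))) :=
    assocIso E _ _ hninv (isInvertible_tensorPow hL _) ≪≫
      PicGrp.tensorModIso (Iso.refl E)
        (powAddIso L hL ((N + 1) * (a' + 1)) ((N + 1) * (a' + 1) * k') ≪≫ powCastIso L hcast)
  refine ⟨SecTwist.tmulHom σ' ρk ≫ e.hom, ?_⟩
  rw [genLocus_comp_iso, genLocus_tmulHom _ _ (isInvertible_tensorMod hE hninv)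
    (isInvertible_tensorPow hL _), hσ']
  intro z hz
  exact ⟨hZσ hz, hρk (hρ ▸ hZt hz)⟩

/-- `A^n` has a global section generating at every point of `Z` -/
def HasGen (A : X.Modules) (Z : Set X) (n : ℕ) : Prop :=
  ∃ s : Coh.structureModule X ⟶ CohB1.tensorPow A n, Z ⊆ CohB1.genLocus _ s

/-- `E ⊗ A^n` has a global section generating at every point of `Z` -/
def HasGenE (A E : X.Modules) (Z : Set X) (n : ℕ) : Prop :=
  ∃ s : Coh.structureModule X ⟶ CohB1.tensorMod E (CohB1.tensorPow A n), Z ⊆ CohB1.genLocus _ s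

theorem HasGen.add {A : X.Modules} (hA : PicF.IsInvertible A) {Z : Set X} {m n : ℕ}
    (h1 : HasGen A Z m) (h2 : HasGen A Z n) : HasGen A Z (m + n) := by
  obtain ⟨s, hs⟩ := h1
  obtain ⟨s', hs'⟩ := h2
  refine ⟨SecTwist.tmulHom s s' ≫ (powAddIso A hA m n).hom, ?_⟩
  rw [genLocus_comp_iso, genLocus_tmulHom _ _ (isInvertible_tensorPow hA m)
    (isInvertible_tensorPow hA n)]
  exact fun z hz => ⟨hs hz, hs' hz⟩

theorem HasGen.mul {A : X.Modules} (hA : PicF.IsInvertible A) {Z : Set X} {m : ℕ}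
    (h1 : HasGen A Z m) (k : ℕ) : HasGen A Z (m * k) := by
  obtain ⟨s, hs⟩ := h1
  refine ⟨SecTwist.powHom s k ≫ (powMulIso A hA m k).hom, ?_⟩
  rw [genLocus_comp_iso]
  exact fun z hz => genLocus_le_genLocus_powHom (isInvertible_tensorPow hA m) s k (hs hz)

theorem HasGenE.add {A E : X.Modules} (hA : PicF.IsInvertible A) (hE : PicF.IsInvertible E)
    {Z : Set X} {m n : ℕ} (h1 : HasGenE A E Z m) (h2 : HasGen A Z n) : HasGenE A E Z (m + n) := by
  obtain ⟨s, hs⟩ := h1
  obtain ⟨s', hs'⟩ := h2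
  refine ⟨SecTwist.tmulHom s s' ≫ (assocIso E _ _ (isInvertible_tensorPow hA m)
    (isInvertible_tensorPow hA n) ≪≫
      PicGrp.tensorModIso (Iso.refl E) (powAddIso A hA m n)).hom, ?_⟩
  rw [genLocus_comp_iso, genLocus_tmulHom _ _
    (isInvertible_tensorMod hE (isInvertible_tensorPow hA m)) (isInvertible_tensorPow hA n)]
  exact fun z hz => ⟨hs hz, hs' hz⟩

theorem HasGen.succ_of_self {A : X.Modules} {Z : Set X} {k : ℕ}
    (h1 : HasGenE A A Z k) : HasGen A Z (k + 1) := by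
  obtain ⟨s, hs⟩ := h1
  refine ⟨s ≫ (braidIso A (CohB1.tensorPow A k)).hom, ?_⟩
  rw [genLocus_comp_iso]
  exact hs

theorem HasGen.cast {A : X.Modules} {Z : Set X} {m n : ℕ} (h : m = n) (h1 : HasGen A Z m) :
    HasGen A Z n := h ▸ h1

theorem HasGenE.cast {A E : X.Modules} {Z : Set X} {m n : ℕ} (h : m = n)
    (h1 : HasGenE A E Z m) : HasGenE A E Z n := h ▸ h1

/-- S15287 -/
theorem exists_sections_all_large_twists {A : X.Modules} (h : CohB1.IsAmple A) (L : X.Modules)
    (hL : PicF.IsInvertible L) (Z : Set X) (hZ : Z.Finite) :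
    ∃ N₀ : ℕ, ∀ N, N₀ ≤ N → HasGenE A L Z N := by
  have hA := h.1
  obtain ⟨N₁, t, hZt⟩ := exists_genLocus_of_finite h Z hZ
  obtain ⟨d, hd⟩ : ∃ d, d = N₁ + 1 := ⟨_, rfl⟩
  have hgd : HasGen A Z (N₁ + 1) := ⟨t, hZt⟩
  obtain ⟨a, σ, -, hσ⟩ := exists_section_generating_of_subset_genLocus h N₁ t L hL Z hZ hZt
  obtain ⟨a₂, σ₂, -, hσ₂⟩ := exists_section_generating_of_subset_genLocus h N₁ t A hA Z hZ hZt
  have h1 : HasGenE A L Z ((N₁ + 1) * a) := by
    refine ⟨σ ≫ (PicGrp.tensorModIso (Iso.refl L) (powMulIso A hA (N₁ + 1) a)).hom, ?_⟩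
    rw [genLocus_comp_iso]; exact hσ
  have h2 : HasGen A Z ((N₁ + 1) * a₂ + 1) := by
    apply HasGen.succ_of_self
    refine ⟨σ₂ ≫ (PicGrp.tensorModIso (Iso.refl A) (powMulIso A hA (N₁ + 1) a₂)).hom, ?_⟩
    rw [genLocus_comp_iso]; exact hσ₂
  rw [← hd] at h1 h2 hgd
  have hdpos : 0 < d := by omega
  refine ⟨d * a + d * (a₂ * d + 1), fun N hN => ?_⟩
  obtain ⟨m, rfl⟩ := Nat.exists_eq_add_of_le (Nat.le_of_add_right_le hN)
  have hm : d * (a₂ * d + 1) ≤ m := by omega
  obtain ⟨q, r, hmeq, hr⟩ : ∃ q r, m = d * q + r ∧ r < d :=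
    ⟨m / d, m % d, (Nat.div_add_mod m d).symm, Nat.mod_lt _ hdpos⟩
  have hq : a₂ * d + 1 ≤ q := by
    by_contra hcon
    have h3 : q + 1 ≤ a₂ * d + 1 := by omega
    have h4 := Nat.mul_le_mul_left d h3
    rw [Nat.mul_succ] at h4
    omega
  have hle : a₂ * r ≤ q :=
    (Nat.mul_le_mul_left a₂ hr.le).trans ((Nat.le_succ _).trans hq)
  obtain ⟨i, hi⟩ := Nat.exists_eq_add_of_le hle
  have hN' : d * a + m = d * a + ((d * a₂ + 1) * r + d * i) := by
    congr 1
    rw [hmeq, hi]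
    ring
  rw [hN']
  exact HasGenE.add hA hL h1 (HasGen.add hA (HasGen.mul hA h2 r) (HasGen.mul hA hgd i))

end Groth.Agent.Helper4.AmplePoints
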