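import Groth.Prelude.Def_AnPts
import Mathlib
set_option autoImplicit false
open CategoryTheory AlgebraicGeometry Topology TopologicalSpace CategoryTheory.Limits
open An

namespace Groth.Agent.Helper4.AnTop

variable {X : Scheme.{0}} [X.Over SC]

/-- Evaluation at a ℂ-point as a ring homomorphism. -/
noncomputable def evHom (x : Pts X) (U : X.Opens) (h : x.pt ∈ U) : Γ(X, U) →+* ℂ :=
  (Scheme.ΓSpecIso (CommRingCat.of ℂ)).hom.hom.comp
    (x.1.appLE U ⊤ (Pts.top_le_preimage x h)).hom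

lemma evHom_apply (x : Pts X) (U : X.Opens) (h : x.pt ∈ U) (f : Γ(X, U)) :
    evHom x U h f = x.ev U h f := rfl

lemma ev_res (x : Pts X) {U U' : X.Opens} (hle : U ≤ U') (h : x.pt ∈ U) (s : Γ(X, U')) :
    x.ev U h (X.presheaf.map (homOfLE hle).op s) = x.ev U' (hle h) s := by
  unfold Pts.ev
  congr 1
  have := x.1.map_appLE (Pts.top_le_preimage x h) (homOfLE hle).op
  exact congrArg (fun k => k.hom s) this

lemma ev_strHom (x : Pts X) (c : ℂ) : x.evTop (strHom X c) = c := by
  unfold Pts.evTop Pts.ev strHom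
  have h1 : (X ↘ SC).appTop ≫ x.1.appLE ⊤ ⊤ (Pts.top_le_preimage x (Opens.mem_top _)) =
      (𝟙 SC : SC ⟶ SC).appTop := by
    have h0 := congrArg Scheme.Hom.appTop x.2
    rw [Scheme.Hom.comp_appTop] at h0
    rw [← h0]
    congr 1
  have h2 := congrArg (fun k => k.hom ((Scheme.ΓSpecIso (CommRingCat.of ℂ)).inv.hom c)) h1
  simp only [RingHom.coe_comp, Function.comp_apply]
  erw [h2]
  simp


lemma cpt_mem_basicOpen_iff (r : Γ(SC, ⊤)) :
    cpt ∈ SC.basicOpen r ↔ (Scheme.ΓSpecIso (CommRingCat.of ℂ)).hom r ≠ 0 := by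
  rw [basicOpen_eq_of_affine']
  have key : ∀ (p : PrimeSpectrum ℂ) (c : ℂ), p ∈ PrimeSpectrum.basicOpen c ↔ c ≠ 0 := by
    intro p c
    rw [PrimeSpectrum.mem_basicOpen]
    have : p.asIdeal = ⊥ := Ideal.eq_bot_of_prime p.asIdeal
    rw [this, Ideal.mem_bot]
  exact key cpt _

lemma mem_basicOpen_iff (x : Pts X) (U : X.Opens) (h : x.pt ∈ U) (g : Γ(X, U)) :
    x.pt ∈ X.basicOpen g ↔ x.ev U h g ≠ 0 := by
  have h1 : x.pt ∈ X.basicOpen g ↔ cpt ∈ x.1 ⁻¹ᵁ X.basicOpen g := Iff.rfl
  rw [h1, Scheme.preimage_basicOpen]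
  unfold Pts.ev
  rw [← cpt_mem_basicOpen_iff]
  unfold Scheme.Hom.appLE
  rw [CommRingCat.comp_apply, Scheme.basicOpen_res]
  simp


/-- Evaluation of global sections as a ring hom. -/
noncomputable def evTopHom (x : Pts X) : Γ(X, ⊤) →+* ℂ := evHom x ⊤ (Opens.mem_top _)

lemma evTopHom_apply (x : Pts X) (a : Γ(X, ⊤)) : evTopHom x a = x.evTop a := rfl

lemma evTopHom_comp_strHom (x : Pts X) : (evTopHom x).comp (strHom X) = RingHom.id ℂ := by
  ext c
  exact ev_strHom x c

lemma evTopHom_eq (x : Pts X) :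
    evTopHom x = (Scheme.ΓSpecIso (CommRingCat.of ℂ)).hom.hom.comp x.1.appTop.hom := rfl

lemma pts_ext_of_evTop [IsAffine X] {x y : Pts X} (h : ∀ a, x.evTop a = y.evTop a) : x = y := by
  apply Subtype.ext
  apply ext_of_isAffine
  ext a
  have h1 := h a
  rw [← evTopHom_apply, ← evTopHom_apply, evTopHom_eq, evTopHom_eq] at h1
  simp only [RingHom.coe_comp, Function.comp_apply] at h1
  exact (ConcreteCategory.bijective_of_isIso (Scheme.ΓSpecIso (CommRingCat.of ℂ)).hom).1 h1

lemma isoSpec_inv_appTop [IsAffine X] :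
    X.isoSpec.inv.appTop = (Scheme.ΓSpecIso Γ(X, ⊤)).inv := by
  have h1 : X.isoSpec.hom.appTop = (Scheme.ΓSpecIso Γ(X, ⊤)).hom := by
    rw [Scheme.isoSpec_hom, Scheme.toSpecΓ_appTop]
  have h2 : X.isoSpec.inv.appTop ≫ X.isoSpec.hom.appTop = 𝟙 _ := by
    rw [← Scheme.Hom.comp_appTop, Iso.hom_inv_id, Scheme.Hom.id_appTop]
  rw [h1] at h2
  rw [← cancel_mono (Scheme.ΓSpecIso Γ(X, ⊤)).hom, h2, Iso.inv_hom_id]

/-- The ℂ-point of an affine scheme attached to a retraction of the structure map. -/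
noncomputable def ofHom [IsAffine X] (φ : Γ(X, ⊤) →+* ℂ) (hφ : φ.comp (strHom X) = RingHom.id ℂ) :
    Pts X :=
  ⟨Spec.map (CommRingCat.ofHom φ) ≫ X.isoSpec.inv, by
    apply ext_of_isAffine
    rw [Scheme.Hom.comp_appTop, Scheme.Hom.comp_appTop, isoSpec_inv_appTop, Scheme.Hom.id_appTop]
    have h1 : (X ↘ SC).appTop ≫ CommRingCat.ofHom φ = (Scheme.ΓSpecIso (CommRingCat.of ℂ)).hom := by
      rw [← cancel_epi (Scheme.ΓSpecIso (CommRingCat.of ℂ)).inv, Iso.inv_hom_id]
      ext c
      exact congrArg (fun k : ℂ →+* ℂ => k c) hφ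
    rw [← Scheme.ΓSpecIso_inv_naturality, ← Category.assoc, h1, Iso.hom_inv_id]⟩

lemma evTop_ofHom [IsAffine X] (φ : Γ(X, ⊤) →+* ℂ) (hφ : φ.comp (strHom X) = RingHom.id ℂ)
    (a : Γ(X, ⊤)) : (ofHom φ hφ).evTop a = φ a := by
  rw [← evTopHom_apply, evTopHom_eq]
  change ((Scheme.ΓSpecIso (CommRingCat.of ℂ)).hom.hom.comp
    (Spec.map (CommRingCat.ofHom φ) ≫ X.isoSpec.inv).appTop.hom) a = φ a
  rw [Scheme.Hom.comp_appTop, isoSpec_inv_appTop, ← Scheme.ΓSpecIso_inv_naturality]
  change (Scheme.ΓSpecIso (CommRingCat.of ℂ)).hom.hom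
    ((Scheme.ΓSpecIso (CommRingCat.of ℂ)).inv.hom (φ a)) = φ a
  exact Iso.inv_hom_id_apply (Scheme.ΓSpecIso (CommRingCat.of ℂ)) (φ a)


lemma continuous_evTop (a : Γ(X, ⊤)) : Continuous (fun x : Pts X => x.evTop a) := by
  rw [continuous_def]
  intro V hV
  have : (fun x : Pts X => x.evTop a) ⁻¹' V = Pts.basicSet ⊤ a V := by
    ext x
    constructor
    · intro hx
      exact ⟨Opens.mem_top _, hx⟩
    · rintro ⟨_, hx⟩
      exact hx
  rw [this]
  exact Pts.isOpen_basicSet _ _ hV

/-- On an affine scheme, the basic sets are open for any topology making evaluations of global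
sections continuous. -/
theorem isOpen_basicSet_of_affine [IsAffine X] (τ : TopologicalSpace (Pts X))
    (hτ : ∀ a : Γ(X, ⊤), @Continuous _ _ τ _ (fun x : Pts X => x.evTop a))
    (U : X.Opens) (t : Γ(X, U)) (V : Set ℂ) (hV : IsOpen V) :
    IsOpen[τ] (Pts.basicSet U t V) := by
  rw [@isOpen_iff_mem_nhds _ τ]
  rintro x ⟨h, hv⟩
  obtain ⟨g, hgU, hxg⟩ := (isAffineOpen_top X).exists_basicOpen_le (V := U) ⟨x.pt, h⟩
    (Opens.mem_top _)
  haveI := (isAffineOpen_top X).isLocalization_basicOpen g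
  obtain ⟨n, a, hna⟩ := IsLocalization.Away.surj g (X.presheaf.map (homOfLE hgU).op t)
  -- the key identity on points of D(g)
  have key : ∀ (y : Pts X) (hy : y.pt ∈ X.basicOpen g),
      y.ev U (hgU hy) t * (y.evTop g) ^ n = y.evTop a := by
    intro y hy
    have h1 := congrArg (evHom y (X.basicOpen g) hy) hna
    rw [map_mul, map_pow] at h1
    rw [RingHom.algebraMap_toAlgebra] at h1
    simp only [evHom_apply] at h1
    rw [ev_res y hgU hy t, ev_res y (X.basicOpen_le g) hy g, ev_res y (X.basicOpen_le g) hy a] at h1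
    exact h1
  let F : Pts X → ℂ × ℂ := fun y => (y.evTop a, y.evTop g)
  have hF : @Continuous _ _ τ _ F := by
    refine @Continuous.prodMk _ _ _ _ _ τ _ _ (hτ a) (hτ g)
  let W : Set (ℂ × ℂ) := {p | p.2 ≠ 0} ∩ (fun p : ℂ × ℂ => p.1 / p.2 ^ n) ⁻¹' V
  have hW : IsOpen W := by
    apply ContinuousOn.isOpen_inter_preimage _ (isOpen_ne_fun continuous_snd continuous_const) hV
    apply ContinuousOn.div continuous_fst.continuousOn (continuous_snd.pow n).continuousOn
    intro p hp
    exact pow_ne_zero n hp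
  have hxg' : x.evTop g ≠ 0 := (mem_basicOpen_iff x ⊤ (Opens.mem_top _) g).1 hxg
  have hN : F ⁻¹' W ∈ @nhds _ τ x := by
    refine @IsOpen.mem_nhds _ τ x (F ⁻¹' W) (@IsOpen.preimage _ _ τ _ _ hF _ hW) ⟨hxg', ?_⟩
    change x.evTop a / x.evTop g ^ n ∈ V
    rw [← key x hxg, mul_div_assoc, div_self (pow_ne_zero n hxg'), mul_one]
    exact hv
  refine Filter.mem_of_superset hN ?_
  rintro y ⟨hy1, hy2⟩
  have hyg : y.pt ∈ X.basicOpen g := (mem_basicOpen_iff y ⊤ (Opens.mem_top _) g).2 hy1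
  refine ⟨hgU hyg, ?_⟩
  change y.evTop a / y.evTop g ^ n ∈ V at hy2
  rw [← key y hyg, mul_div_assoc, div_self (pow_ne_zero n hy1), mul_one] at hy2
  exact hy2


section generators

variable [IsAffine X] {n : ℕ} (s : Fin n → Γ(X, ⊤))

/-- The coordinate map attached to a family of global sections. -/
noncomputable def coordMap (x : Pts X) : Fin n → ℂ := fun i => x.evTop (s i)

lemma evTop_eval₂ (x : Pts X) (p : MvPolynomial (Fin n) ℂ) :
    x.evTop (MvPolynomial.eval₂Hom (strHom X) s p) = MvPolynomial.eval (coordMap s x) p := by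
  rw [← evTopHom_apply]
  change (evTopHom x) (MvPolynomial.eval₂ (strHom X) s p) = _
  rw [MvPolynomial.eval₂_comp_left (evTopHom x) (strHom X) s p, evTopHom_comp_strHom]
  rfl

lemma continuous_coordMap : Continuous (coordMap s) :=
  continuous_pi fun i => continuous_evTop (s i)

variable (hs : Function.Surjective (MvPolynomial.eval₂Hom (strHom X) s))
include hs

lemma coordMap_injective : Function.Injective (coordMap s) := by
  intro x y hxy
  apply pts_ext_of_evTop
  intro a
  obtain ⟨p, rfl⟩ := hs a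
  rw [evTop_eval₂, evTop_eval₂, hxy]

lemma coordMap_isInducing : IsInducing (coordMap s) := by
  rw [isInducing_iff]
  apply le_antisymm
  · exact (continuous_coordMap s).le_induced
  · apply le_generateFrom
    rintro _ ⟨U, t, V, hV, rfl⟩
    apply isOpen_basicSet_of_affine _ _ U t V hV
    intro a
    obtain ⟨p, rfl⟩ := hs a
    have : (fun x : Pts X => x.evTop (MvPolynomial.eval₂Hom (strHom X) s p)) =
        (fun z : Fin n → ℂ => MvPolynomial.eval z p) ∘ coordMap s := by
      funext x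
      exact evTop_eval₂ s x p
    rw [this]
    exact @Continuous.comp _ _ _ (TopologicalSpace.induced (coordMap s) Pi.topologicalSpace) _ _
      _ _ (MvPolynomial.continuous_eval p) continuous_induced_dom

lemma range_coordMap : Set.range (coordMap s) =
    ⋂ p ∈ RingHom.ker (MvPolynomial.eval₂Hom (strHom X) s),
      {z : Fin n → ℂ | MvPolynomial.eval z p = 0} := by
  ext z
  simp only [Set.mem_range, Set.mem_iInter, Set.mem_ofPred_eq]
  constructor
  · rintro ⟨x, rfl⟩ p hp
    rw [← evTop_eval₂, (RingHom.mem_ker).1 hp]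
    exact map_zero (evTopHom x)
  · intro hz
    let f := MvPolynomial.eval₂Hom (strHom X) s
    have hker : RingHom.ker f ≤ RingHom.ker (MvPolynomial.eval z) := fun p hp =>
      (RingHom.mem_ker).2 (hz p hp)
    let φ : Γ(X, ⊤) →+* ℂ := RingHom.liftOfRightInverse f (Function.surjInv hs)
      (Function.rightInverse_surjInv hs) ⟨MvPolynomial.eval z, hker⟩
    have hφ : ∀ p, φ (f p) = MvPolynomial.eval z p := fun p =>
      RingHom.liftOfRightInverse_comp_apply f (Function.surjInv hs)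
        (Function.rightInverse_surjInv hs) ⟨MvPolynomial.eval z, hker⟩ p
    have hφ1 : φ.comp (strHom X) = RingHom.id ℂ := by
      ext c
      have : strHom X c = f (MvPolynomial.C c) := by
        simp [f]
      simp only [RingHom.coe_comp, Function.comp_apply, RingHom.id_apply]
      rw [this, hφ, MvPolynomial.eval_C]
    refine ⟨ofHom φ hφ1, ?_⟩
    funext i
    change (ofHom φ hφ1).evTop (s i) = z i
    rw [evTop_ofHom]
    have : s i = f (MvPolynomial.X i) := by
      simp [f]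
    rw [this, hφ, MvPolynomial.eval_X]

theorem coordMap_isClosedEmbedding : IsClosedEmbedding (coordMap s) := by
  refine ⟨⟨coordMap_isInducing s hs, coordMap_injective s hs⟩, ?_⟩
  rw [range_coordMap s hs]
  refine isClosed_biInter fun p _ => ?_
  exact isClosed_eq (MvPolynomial.continuous_eval p) continuous_const

end generators

end Groth.Agent.Helper4.AnTop
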