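import Groth.Prelude.Def_AnPts
import Groth.Agent.Helper4.AnTop
import Mathlib
set_option autoImplicit false
open CategoryTheory AlgebraicGeometry Topology TopologicalSpace CategoryTheory.Limits
open An

namespace Groth.Agent.Helper4.AnAffineSpace
open Groth.Agent.Helper4.AnTop

variable (n : ℕ)

set_option backward.isDefEq.respectTransparency.types false in
lemma eval₂Hom_coord_bijective :
    Function.Bijective (MvPolynomial.eval₂Hom (strHom (𝔸(Fin n; SC))) (AffineSpace.coord SC)) := by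
  have h : MvPolynomial.eval₂Hom (strHom (𝔸(Fin n; SC))) (AffineSpace.coord SC) =
      ((Scheme.ΓSpecIso (CommRingCat.of (MvPolynomial (Fin n) (CommRingCat.of ℂ)))).inv ≫
        (AffineSpace.SpecIso (Fin n) (CommRingCat.of ℂ)).hom.appTop).hom := by
    rw [AffineSpace.SpecIso_hom_appTop, Iso.inv_hom_id_assoc]
    rfl
  rw [h]
  haveI : IsIso (AffineSpace.SpecIso (Fin n) (CommRingCat.of ℂ)).hom.appTop := by
    refine ⟨(AffineSpace.SpecIso (Fin n) (CommRingCat.of ℂ)).inv.appTop, ?_, ?_⟩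
    · rw [← Scheme.Hom.comp_appTop, Iso.inv_hom_id, Scheme.Hom.id_appTop]
    · rw [← Scheme.Hom.comp_appTop, Iso.hom_inv_id, Scheme.Hom.id_appTop]
  exact ConcreteCategory.bijective_of_isIso _

lemma coordMap_surjective :
    Function.Surjective (coordMap (X := 𝔸(Fin n; SC)) (AffineSpace.coord SC)) := by
  intro z
  refine ⟨⟨AffineSpace.homOfVector (𝟙 SC)
    (fun i => (Scheme.ΓSpecIso (CommRingCat.of ℂ)).inv (z i)), AffineSpace.homOfVector_over _ _⟩, ?_⟩
  funext i
  change (Scheme.ΓSpecIso (CommRingCat.of ℂ)).hom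
    ((AffineSpace.homOfVector (𝟙 SC) (fun i => (Scheme.ΓSpecIso (CommRingCat.of ℂ)).inv (z i))).appLE ⊤ ⊤ _
      (AffineSpace.coord SC i)) = z i
  have := AffineSpace.homOfVector_appTop_coord (𝟙 SC)
    (fun i => (Scheme.ΓSpecIso (CommRingCat.of ℂ)).inv (z i)) i
  erw [this]
  exact Iso.inv_hom_id_apply (Scheme.ΓSpecIso (CommRingCat.of ℂ)) (z i)

theorem isHomeomorph_coordMap :
    IsHomeomorph (coordMap (X := 𝔸(Fin n; SC)) (AffineSpace.coord SC)) := by
  rw [isHomeomorph_iff_isEmbedding_surjective]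
  exact ⟨(coordMap_isClosedEmbedding _ (eval₂Hom_coord_bijective n).2).isEmbedding,
    coordMap_surjective n⟩

end Groth.Agent.Helper4.AnAffineSpace
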