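import Groth.Agent.Helper4.AnTop
set_option autoImplicit false
open CategoryTheory AlgebraicGeometry Topology TopologicalSpace CategoryTheory.Limits
open An

namespace Groth.Agent.Helper4.AnCoordGen
open Groth.Agent.Helper4.AnTop

variable {X : Scheme.{0}} [X.Over SC]

section generators

variable [IsAffine X] {κ : Type*} (s : κ → Γ(X, ⊤))

/-- The coordinate map attached to a family of global sections (arbitrary index type). -/
noncomputable def coordMap (x : Pts X) : κ → ℂ := fun i => x.evTop (s i)

lemma evTop_eval₂ (x : Pts X) (p : MvPolynomial κ ℂ) :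
    x.evTop (MvPolynomial.eval₂Hom (strHom X) s p) = MvPolynomial.eval (coordMap s x) p := by
  rw [← evTopHom_apply]
  change (evTopHom x) (MvPolynomial.eval₂ (strHom X) s p) = _
  rw [MvPolynomial.eval₂_comp_left (evTopHom x) (strHom X) s p, evTopHom_comp_strHom]
  rfl

lemma continuous_coordMap : Continuous (coordMap s) :=
  continuous_pi fun i => continuous_evTop (s i)

variable (hs : Function.Surjective (MvPolynomial.eval₂Hom (strHom X) s))
include hs

lemma coordMap_injective : Function.Injective (coordMap s) := by
  intro x y hxy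
  apply pts_ext_of_evTop
  intro a
  obtain ⟨p, rfl⟩ := hs a
  rw [evTop_eval₂, evTop_eval₂, hxy]

lemma coordMap_isInducing : IsInducing (coordMap s) := by
  rw [isInducing_iff]
  apply le_antisymm
  · exact (continuous_coordMap s).le_induced
  · apply le_generateFrom
    rintro _ ⟨U, t, V, hV, rfl⟩
    apply isOpen_basicSet_of_affine _ _ U t V hV
    intro a
    obtain ⟨p, rfl⟩ := hs a
    have : (fun x : Pts X => x.evTop (MvPolynomial.eval₂Hom (strHom X) s p)) =
        (fun z : κ → ℂ => MvPolynomial.eval z p) ∘ coordMap s := by
      funext x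
      exact evTop_eval₂ s x p
    rw [this]
    exact @Continuous.comp _ _ _ (TopologicalSpace.induced (coordMap s) Pi.topologicalSpace) _ _
      _ _ (MvPolynomial.continuous_eval p) continuous_induced_dom

lemma range_coordMap : Set.range (coordMap s) =
    ⋂ p ∈ RingHom.ker (MvPolynomial.eval₂Hom (strHom X) s),
      {z : κ → ℂ | MvPolynomial.eval z p = 0} := by
  ext z
  simp only [Set.mem_range, Set.mem_iInter, Set.mem_ofPred_eq]
  constructor
  · rintro ⟨x, rfl⟩ p hp
    rw [← evTop_eval₂, (RingHom.mem_ker).1 hp]
    exact map_zero (evTopHom x)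
  · intro hz
    let f := MvPolynomial.eval₂Hom (strHom X) s
    have hker : RingHom.ker f ≤ RingHom.ker (MvPolynomial.eval z) := fun p hp =>
      (RingHom.mem_ker).2 (hz p hp)
    let φ : Γ(X, ⊤) →+* ℂ := RingHom.liftOfRightInverse f (Function.surjInv hs)
      (Function.rightInverse_surjInv hs) ⟨MvPolynomial.eval z, hker⟩
    have hφ : ∀ p, φ (f p) = MvPolynomial.eval z p := fun p =>
      RingHom.liftOfRightInverse_comp_apply f (Function.surjInv hs)
        (Function.rightInverse_surjInv hs) ⟨MvPolynomial.eval z, hker⟩ p
    have hφ1 : φ.comp (strHom X) = RingHom.id ℂ := by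
      ext c
      have : strHom X c = f (MvPolynomial.C c) := by
        simp [f]
      simp only [RingHom.coe_comp, Function.comp_apply, RingHom.id_apply]
      rw [this, hφ, MvPolynomial.eval_C]
    refine ⟨ofHom φ hφ1, ?_⟩
    funext i
    change (ofHom φ hφ1).evTop (s i) = z i
    rw [evTop_ofHom]
    have : s i = f (MvPolynomial.X i) := by
      simp [f]
    rw [this, hφ, MvPolynomial.eval_X]

theorem coordMap_isClosedEmbedding : IsClosedEmbedding (coordMap s) := by
  refine ⟨⟨coordMap_isInducing s hs, coordMap_injective s hs⟩, ?_⟩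
  rw [range_coordMap s hs]
  refine isClosed_biInter fun p _ => ?_
  exact isClosed_eq (MvPolynomial.continuous_eval p) continuous_const

end generators

end Groth.Agent.Helper4.AnCoordGen
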