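import Mathlib
set_option autoImplicit false
open Topology

namespace Groth.Agent.Helper4.AnCovA

/-- Transfer of evenly-coveredness along a cartesian square of open embeddings. -/
theorem isEvenlyCovered_of_square {E X E' X' : Type*} [TopologicalSpace E] [TopologicalSpace X]
    [TopologicalSpace E'] [TopologicalSpace X'] {f : E → X} {f' : E' → X'} {iE : E' → E}
    {iX : X' → X} (hiE : IsOpenEmbedding iE) (hiX : IsOpenEmbedding iX)
    (hcomm : ∀ e, f (iE e) = iX (f' e)) (hcart : f ⁻¹' Set.range iX ⊆ Set.range iE)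
    {x' : X'} {I : Type*} [TopologicalSpace I] (h : IsEvenlyCovered f' x' I) :
    IsEvenlyCovered f (iX x') I := by
  have hs : IsOpen (Set.range iX) := hiX.isOpen_range
  have hrange : Set.range iE = f ⁻¹' Set.range iX := by
    apply Set.Subset.antisymm
    · rintro _ ⟨e, rfl⟩
      exact ⟨f' e, (hcomm e).symm⟩
    · exact hcart
  have hfs : IsOpen (f ⁻¹' Set.range iX) := hrange ▸ hiE.isOpen_range
  let hE : E' ≃ₜ f ⁻¹' Set.range iX :=
    hiE.isEmbedding.toHomeomorph.trans (Homeomorph.setCongr hrange)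
  let hX : X' ≃ₜ Set.range iX := hiX.isEmbedding.toHomeomorph
  have h1 := h.comp_homeomorph hE.symm
  have h2 := h1.homeomorph_comp hX
  have h3 := h2.subtypeVal_comp _ hs
  have hfun : (Subtype.val ∘ (hX ∘ f' ∘ hE.symm)) = fun e : f ⁻¹' Set.range iX => f e := by
    funext e
    obtain ⟨e', rfl⟩ := hE.surjective e
    simp only [Function.comp_apply, Homeomorph.symm_apply_apply]
    exact (hcomm e').symm
  rw [hfun] at h3
  exact h3.comp_subtypeVal _ hs hfs ⟨x', rfl⟩

end Groth.Agent.Helper4.AnCovA
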