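import Mathlib
set_option autoImplicit false

namespace Groth.Agent.Helper4.AnDensA

open Polynomial

/-- Lying over, for `ℂ`-points: a `ℂ`-point `χ` of `B` lifts along an integral map `Θ : B → A`
to a finite-type `ℂ`-algebra as soon as it kills the kernel of `Θ`. -/
theorem exists_algHom_of_ker_le {B A : Type} [CommRing B] [CommRing A] [Algebra ℂ B] [Algebra ℂ A]
    [Algebra.FiniteType ℂ A] (Θ : B →ₐ[ℂ] A) (hΘ : Θ.toRingHom.IsIntegral) (χ : B →ₐ[ℂ] ℂ)
    (hker : RingHom.ker Θ ≤ RingHom.ker χ) : ∃ φ : A →ₐ[ℂ] ℂ, φ.comp Θ = χ := by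
  algebraize [Θ.toRingHom]
  haveI : Algebra.IsIntegral B A := ⟨hΘ⟩
  have hχ : Function.Surjective χ := fun c => ⟨algebraMap ℂ B c, by simp⟩
  haveI : (RingHom.ker χ).IsMaximal := RingHom.ker_isMaximal_of_surjective _ hχ
  obtain ⟨Q, hQmax, hQ⟩ := Ideal.exists_ideal_over_maximal_of_isIntegral (S := A)
    (RingHom.ker χ) hker
  letI : Field (A ⧸ Q) := Ideal.Quotient.field Q
  haveI : Algebra.FiniteType ℂ (A ⧸ Q) :=
    Algebra.FiniteType.of_surjective (Ideal.Quotient.mkₐ ℂ Q) (Ideal.Quotient.mkₐ_surjective ℂ Q)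
  haveI : Module.Finite ℂ (A ⧸ Q) := finite_of_finite_type_of_isJacobsonRing ℂ (A ⧸ Q)
  have hbij : Function.Bijective (algebraMap ℂ (A ⧸ Q)) :=
    IsAlgClosed.algebraMap_bijective_of_isIntegral
  let e : ℂ ≃ₐ[ℂ] (A ⧸ Q) := AlgEquiv.ofBijective (Algebra.ofId ℂ (A ⧸ Q)) hbij
  let φ : A →ₐ[ℂ] ℂ := (e.symm : (A ⧸ Q) →ₐ[ℂ] ℂ).comp (Ideal.Quotient.mkₐ ℂ Q)
  refine ⟨φ, ?_⟩
  ext b
  have h1 : b - algebraMap ℂ B (χ b) ∈ RingHom.ker χ := by
    rw [RingHom.mem_ker, map_sub, AlgHom.commutes]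
    simp
  rw [← hQ, Ideal.mem_comap] at h1
  have h0 : algebraMap B A = Θ.toRingHom := rfl
  rw [h0] at h1
  change Θ (b - algebraMap ℂ B (χ b)) ∈ Q at h1
  have h2 : φ (Θ (b - algebraMap ℂ B (χ b))) = 0 := by
    change e.symm (Ideal.Quotient.mk Q _) = 0
    rw [Ideal.Quotient.eq_zero_iff_mem.2 h1, map_zero]
  rw [map_sub, map_sub, AlgHom.commutes, AlgHom.commutes, sub_eq_zero] at h2
  simpa using h2


section normalization

variable {A : Type} [CommRing A] [IsDomain A] [Algebra ℂ A] [Algebra.FiniteType ℂ A] {n : ℕ}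
  [Algebra (MvPolynomial (Fin n) ℂ) A] [IsScalarTower ℂ (MvPolynomial (Fin n) ℂ) A]
  [Module.Finite (MvPolynomial (Fin n) ℂ) A]

local notation "R" => MvPolynomial (Fin n) ℂ

/-- evaluation `R[T] → ℂ` at `(y, c)` as a `ℂ`-algebra map. -/
noncomputable def evalAt (y : Fin n → ℂ) (c : ℂ) : (MvPolynomial (Fin n) ℂ)[X] →ₐ[ℂ] ℂ :=
  { Polynomial.eval₂RingHom (MvPolynomial.eval y) c with
    commutes' := fun a => by
      change Polynomial.eval₂ (MvPolynomial.eval y) c (Polynomial.C (MvPolynomial.C a)) = a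
      rw [Polynomial.eval₂_C, MvPolynomial.eval_C] }

lemma evalAt_apply (y : Fin n → ℂ) (c : ℂ) (p : (MvPolynomial (Fin n) ℂ)[X]) :
    evalAt y c p = Polynomial.eval₂ (MvPolynomial.eval y) c p := rfl

/-- every root of the specialised minimal polynomial of `u` is a value of `u` at a point
over `y`. -/
theorem exists_point_over_root (hinj : Function.Injective (algebraMap R A)) (u : A)
    (y : Fin n → ℂ) (c : ℂ)
    (hc : Polynomial.eval₂ (MvPolynomial.eval y) c (minpoly R u) = 0) :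
    ∃ φ : A →ₐ[ℂ] ℂ, (∀ p : R, φ (algebraMap R A p) = MvPolynomial.eval y p) ∧ φ u = c := by
  haveI : Module.IsTorsionFree R A := Module.isTorsionFree_iff_algebraMap_injective.mpr hinj
  haveI : Algebra.IsIntegral R A := inferInstance
  have hu : IsIntegral R u := Algebra.IsIntegral.isIntegral u
  let Θ : R[X] →ₐ[ℂ] A := (Polynomial.aeval u : R[X] →ₐ[R] A).restrictScalars ℂ
  have hΘ : Θ.toRingHom.IsIntegral := by
    intro a
    have h1 : IsIntegral R a := Algebra.IsIntegral.isIntegral a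
    obtain ⟨p, hp, hpa⟩ := h1
    refine ⟨p.map Polynomial.C, hp.map _, ?_⟩
    rw [Polynomial.eval₂_map]
    have : (Θ.toRingHom.comp (Polynomial.C : R →+* R[X])) = algebraMap R A := by
      apply RingHom.ext
      intro r
      change Polynomial.aeval u (Polynomial.C r) = _
      rw [Polynomial.aeval_C]
    rw [this]
    exact hpa
  have hker : RingHom.ker Θ ≤ RingHom.ker (evalAt y c) := by
    intro p hp
    rw [RingHom.mem_ker] at hp ⊢
    have hp' : Polynomial.aeval u p = 0 := hp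
    obtain ⟨q, rfl⟩ := minpoly.isIntegrallyClosed_dvd hu hp'
    rw [map_mul, evalAt_apply, hc, zero_mul]
  obtain ⟨φ, hφ⟩ := exists_algHom_of_ker_le Θ hΘ (evalAt y c) hker
  refine ⟨φ, fun p => ?_, ?_⟩
  · have := congrArg (fun k : R[X] →ₐ[ℂ] ℂ => k (Polynomial.C p)) hφ
    simp only [AlgHom.comp_apply] at this
    have h1 : Θ (Polynomial.C p) = algebraMap R A p := Polynomial.aeval_C u p
    rw [h1] at this
    rw [this, evalAt_apply, Polynomial.eval₂_C]
  · have := congrArg (fun k : R[X] →ₐ[ℂ] ℂ => k Polynomial.X) hφ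
    simp only [AlgHom.comp_apply] at this
    have h1 : Θ Polynomial.X = u := Polynomial.aeval_X u
    rw [h1] at this
    rw [this, evalAt_apply, Polynomial.eval₂_X]

end normalization

end Groth.Agent.Helper4.AnDensA
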