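import Mathlib
set_option autoImplicit false

namespace Groth.Agent.Helper4.AnDensB

open Polynomial

/-- a monic complex polynomial with small constant term has a small root. -/
theorem exists_root_norm_lt (q : ℂ[X]) (hq : q.Monic) (r : ℝ) (hr : 0 < r)
    (h0 : ‖q.coeff 0‖ < r ^ q.natDegree) : ∃ c, q.IsRoot c ∧ ‖c‖ < r := by
  by_contra hcon
  push Not at hcon
  have hs : q.Splits := IsAlgClosed.splits q
  have h1 := hs.coeff_zero_eq_prod_roots_of_monic hq
  have h2 : ‖q.coeff 0‖ = (q.roots.map (fun c => ‖c‖)).prod := by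
    rw [h1, norm_mul, norm_pow, norm_neg, norm_one, one_pow, one_mul]
    exact map_multiset_prod (normHom : ℂ →*₀ ℝ) q.roots
  have h3 : r ^ q.natDegree ≤ (q.roots.map (fun c => ‖c‖)).prod := by
    rw [hs.natDegree_eq_card_roots]
    have : (q.roots.map (fun _ => r)).prod = r ^ Multiset.card q.roots := by
      rw [Multiset.map_const', Multiset.prod_replicate]
    rw [← this]
    apply Multiset.prod_map_le_prod_map₀
    · intro _ _; exact hr.le
    · intro c hc
      exact hcon c ((Polynomial.mem_roots hq.ne_zero).1 hc)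
  linarith

/-- the non-vanishing locus of a nonzero polynomial is dense in `ℂⁿ`. -/
theorem exists_near_eval_ne_zero {n : ℕ} (g : MvPolynomial (Fin n) ℂ) (hg : g ≠ 0)
    (y₀ : Fin n → ℂ) (δ : ℝ) (hδ : 0 < δ) :
    ∃ y : Fin n → ℂ, ‖y - y₀‖ < δ ∧ MvPolynomial.eval y g ≠ 0 := by
  obtain ⟨w, hw⟩ : ∃ w : Fin n → ℂ, MvPolynomial.eval w g ≠ 0 := by
    by_contra hcon
    push Not at hcon
    apply hg
    apply MvPolynomial.funext
    intro x
    rw [hcon x, map_zero]
  -- the restriction to the line through `y₀` and `w`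
  let ℓ : Fin n → ℂ[X] := fun i => Polynomial.C (y₀ i) + Polynomial.X * Polynomial.C (w i - y₀ i)
  let q : ℂ[X] := MvPolynomial.aeval ℓ g
  have hq : ∀ t : ℂ, q.eval t = MvPolynomial.eval (fun i => y₀ i + t * (w i - y₀ i)) g := by
    intro t
    have : (Polynomial.evalRingHom t).comp (MvPolynomial.aeval ℓ : MvPolynomial (Fin n) ℂ →ₐ[ℂ] ℂ[X]).toRingHom
        = MvPolynomial.eval (fun i => y₀ i + t * (w i - y₀ i)) := by
      apply MvPolynomial.ringHom_ext
      · intro c
        simp
      · intro i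
        simp [ℓ]
    exact congrArg (fun k : MvPolynomial (Fin n) ℂ →+* ℂ => k g) this
  have hq1 : q ≠ 0 := by
    intro h0
    apply hw
    have := hq 1
    rw [h0, Polynomial.eval_zero] at this
    have hw' : w = fun i => y₀ i + 1 * (w i - y₀ i) := by
      funext i
      ring
    rw [hw', ← this]
  have hfin : {t : ℂ | q.IsRoot t}.Finite := by
    have : {t : ℂ | q.IsRoot t} = ((q.roots.toFinset : Finset ℂ) : Set ℂ) := by
      ext t
      simp [Polynomial.mem_roots hq1]
    rw [this]
    exact Finset.finite_toSet _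
  have hdense : Dense ({t : ℂ | q.IsRoot t}ᶜ) := hfin.countable.dense_compl ℂ
  set M : ℝ := ‖w - y₀‖ + 1 with hM
  have hMpos : 0 < M := by positivity
  obtain ⟨t, htroot, htball⟩ := hdense.exists_mem_open (Metric.isOpen_ball (x := (0 : ℂ))
    (ε := δ / M)) ⟨0, Metric.mem_ball_self (by positivity)⟩
  refine ⟨fun i => y₀ i + t * (w i - y₀ i), ?_, ?_⟩
  · have h1 : (fun i => y₀ i + t * (w i - y₀ i)) - y₀ = t • (w - y₀) := by
      funext i
      simp
    rw [h1, norm_smul]
    have h2 : ‖t‖ < δ / M := by simpa using htball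
    calc ‖t‖ * ‖w - y₀‖ ≤ ‖t‖ * M := by
          apply mul_le_mul_of_nonneg_left _ (norm_nonneg _); rw [hM]; linarith
      _ < δ / M * M := by apply mul_lt_mul_of_pos_right h2 hMpos
      _ = δ := by field_simp
  · rw [← hq t]
    exact htroot

end Groth.Agent.Helper4.AnDensB
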