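import Mathlib
set_option autoImplicit false

namespace Groth.Agent.Helper4.AnDensC

open Polynomial

/-- a nonzero element of an integral domain extension divides a nonzero element of the base. -/
theorem exists_dvd_algebraMap {R A : Type*} [CommRing R] [IsDomain R] [CommRing A] [IsDomain A]
    [Algebra R A] [Algebra.IsIntegral R A] (h : A) (hh : h ≠ 0) :
    ∃ g : R, g ≠ 0 ∧ h ∣ algebraMap R A g := by
  have hint : IsIntegral R h := Algebra.IsIntegral.isIntegral h
  set P := minpoly R h with hP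
  have hmon : P.Monic := minpoly.monic hint
  have haev : Polynomial.aeval h P = 0 := minpoly.aeval R h
  obtain ⟨Q, hQ⟩ : (Polynomial.X : R[X]) ∣ P - Polynomial.C (P.coeff 0) := by
    rw [Polynomial.X_dvd_iff]
    simp
  have hPQ : P = Polynomial.C (P.coeff 0) + Polynomial.X * Q := by
    rw [← hQ]; ring
  have h1 : algebraMap R A (P.coeff 0) + h * Polynomial.aeval h Q = 0 := by
    have := haev
    rw [hPQ, map_add, map_mul, Polynomial.aeval_C, Polynomial.aeval_X] at this
    exact this
  refine ⟨P.coeff 0, ?_, ⟨- Polynomial.aeval h Q, by linear_combination h1⟩⟩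
  intro hc0
  rw [hc0, map_zero, zero_add] at h1
  have hQ0 : Polynomial.aeval h Q = 0 := by
    rcases mul_eq_zero.1 h1 with h2 | h2
    · exact absurd h2 hh
    · exact h2
  have hPX : P = Polynomial.X * Q := by rw [hPQ, hc0, map_zero, zero_add]
  have hQmon : Q.Monic := Polynomial.Monic.of_mul_monic_left Polynomial.monic_X (hPX ▸ hmon)
  have hminQ := minpoly.min R h hQmon hQ0
  have hdegXQ : (Polynomial.X * Q).degree = Q.degree + 1 := by
    rw [mul_comm, Polynomial.degree_mul_X]
  rw [← hP, hPX, hdegXQ] at hminQ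
  have hQne : Q ≠ 0 := hQmon.ne_zero
  rw [Polynomial.degree_eq_natDegree hQne] at hminQ
  have h2 : ((Q.natDegree + 1 : ℕ) : WithBot ℕ) ≤ (Q.natDegree : WithBot ℕ) := by
    exact_mod_cast hminQ
  have h3 : Q.natDegree + 1 ≤ Q.natDegree := by exact_mod_cast h2
  omega

/-- a function vanishing at `φ₀` and equal to one at finitely many other points. -/
theorem exists_separating {A : Type*} [CommRing A] [Algebra ℂ A] (φ₀ : A →ₐ[ℂ] ℂ)
    (S : Finset (A →ₐ[ℂ] ℂ)) (hS : φ₀ ∉ S) : ∃ u : A, φ₀ u = 0 ∧ ∀ ψ ∈ S, ψ u = 1 := by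
  classical
  induction S using Finset.induction_on with
  | empty => exact ⟨0, map_zero _, fun ψ hψ => absurd hψ (Finset.notMem_empty ψ)⟩
  | insert ψ S' hψS' ih =>
    have hS' : φ₀ ∉ S' := fun h => hS (Finset.mem_insert_of_mem h)
    have hne : ψ ≠ φ₀ := fun h => hS (h ▸ Finset.mem_insert_self ψ S')
    obtain ⟨u', hu'0, hu'1⟩ := ih hS'
    obtain ⟨a, ha⟩ : ∃ a, ψ a ≠ φ₀ a := by
      by_contra hcon
      push Not at hcon
      exact hne (AlgHom.ext hcon)
    have hd : ψ a - φ₀ a ≠ 0 := sub_ne_zero.2 ha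
    let v : A := (ψ a - φ₀ a)⁻¹ • (a - algebraMap ℂ A (φ₀ a))
    have hv0 : φ₀ v = 0 := by
      simp [v]
    have hv1 : ψ v = 1 := by
      simp only [v, map_smul, map_sub, AlgHom.commutes, smul_eq_mul]
      exact inv_mul_cancel₀ hd
    refine ⟨1 - (1 - u') * (1 - v), ?_, ?_⟩
    · simp [hu'0, hv0]
    · intro χ hχ
      rcases Finset.mem_insert.1 hχ with rfl | hχ
      · simp [hv1]
      · simp [hu'1 χ hχ]

/-- values at points over `y` are roots of the specialised equation. -/
theorem isRoot_map_eval {R A : Type*} [CommRing R] [CommRing A] [Algebra R A]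
    (ev : R →+* ℂ) (φ : A →+* ℂ) (hφ : ∀ p : R, φ (algebraMap R A p) = ev p)
    (a : A) (P : R[X]) (hP : Polynomial.aeval a P = 0) : (P.map ev).IsRoot (φ a) := by
  rw [Polynomial.IsRoot.def, Polynomial.eval_map]
  have h1 : φ (Polynomial.eval₂ (algebraMap R A) a P) = 0 := by
    rw [← Polynomial.aeval_def, hP, map_zero]
  rw [Polynomial.hom_eval₂] at h1
  have h2 : φ.comp (algebraMap R A) = ev := RingHom.ext hφ
  rw [h2] at h1
  exact h1

end Groth.Agent.Helper4.AnDensC
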