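import Mathlib
import Groth.Agent.Helper4.AnDensA
import Groth.Agent.Helper4.AnDensB
import Groth.Agent.Helper4.AnDensC
set_option autoImplicit false

namespace Groth.Agent.Helper4.AnDensD

open Polynomial

section coord

variable {A : Type} [CommRing A] [Algebra ℂ A] {N : ℕ} (s : Fin N → A)

/-- coordinates of a point with respect to a family of elements. -/
def coord (φ : A →ₐ[ℂ] ℂ) : Fin N → ℂ := fun i => φ (s i)

lemma val_eq (φ : A →ₐ[ℂ] ℂ) (p : MvPolynomial (Fin N) ℂ) :
    φ (MvPolynomial.aeval s p) = MvPolynomial.eval (coord s φ) p := by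
  have : (φ.comp (MvPolynomial.aeval s)) = MvPolynomial.aeval (coord s φ) := by
    apply MvPolynomial.algHom_ext
    intro i
    simp [coord]
  have h2 := congrArg (fun k : MvPolynomial (Fin N) ℂ →ₐ[ℂ] ℂ => k p) this
  simp only [AlgHom.comp_apply] at h2
  rw [h2]
  rfl

variable (hs : Function.Surjective (MvPolynomial.aeval s : MvPolynomial (Fin N) ℂ →ₐ[ℂ] A))
include hs

lemma coord_injective : Function.Injective (coord s) := by
  intro φ ψ h
  apply AlgHom.ext
  intro a
  obtain ⟨p, rfl⟩ := hs a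
  rw [val_eq, val_eq, h]

lemma mem_range_coord (z : Fin N → ℂ) :
    z ∈ Set.range (coord s) ↔
      ∀ p : MvPolynomial (Fin N) ℂ, MvPolynomial.aeval s p = 0 → MvPolynomial.eval z p = 0 := by
  constructor
  · rintro ⟨φ, rfl⟩ p hp
    rw [← val_eq, hp, map_zero]
  · intro hz
    have hker : RingHom.ker (MvPolynomial.aeval s : MvPolynomial (Fin N) ℂ →ₐ[ℂ] A) ≤
        RingHom.ker (MvPolynomial.aeval z : MvPolynomial (Fin N) ℂ →ₐ[ℂ] ℂ) := by
      intro p hp
      rw [RingHom.mem_ker] at hp ⊢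
      exact hz p hp
    let φ : A →ₐ[ℂ] ℂ := AlgHom.liftOfSurjective _ hs (MvPolynomial.aeval z) hker
    refine ⟨φ, ?_⟩
    funext i
    have h1 : φ (MvPolynomial.aeval s (MvPolynomial.X i)) =
        MvPolynomial.aeval z (MvPolynomial.X i : MvPolynomial (Fin N) ℂ) :=
      AlgHom.liftOfSurjective_apply _ hs _ hker _
    rw [MvPolynomial.aeval_X, MvPolynomial.aeval_X] at h1
    exact h1

lemma isClosed_range_coord : IsClosed (Set.range (coord s)) := by
  have : Set.range (coord s) = ⋂ (p : MvPolynomial (Fin N) ℂ) (_ : MvPolynomial.aeval s p = 0),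
      {z : Fin N → ℂ | MvPolynomial.eval z p = 0} := by
    ext z
    rw [mem_range_coord s hs]
    simp
  rw [this]
  exact isClosed_iInter fun p => isClosed_iInter fun _ =>
    isClosed_eq (MvPolynomial.continuous_eval p) continuous_const

end coord


section normalization

variable {A : Type} [CommRing A] [Algebra ℂ A] {n : ℕ}
  [Algebra (MvPolynomial (Fin n) ℂ) A] [IsScalarTower ℂ (MvPolynomial (Fin n) ℂ) A]

local notation "R" => MvPolynomial (Fin n) ℂ

/-- the image of a point in `ℂⁿ`. -/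
noncomputable def proj (φ : A →ₐ[ℂ] ℂ) : Fin n → ℂ := fun j => φ (algebraMap R A (MvPolynomial.X j))

lemma over_proj (φ : A →ₐ[ℂ] ℂ) (p : R) :
    φ (algebraMap R A p) = MvPolynomial.eval (proj φ) p := by
  have : (φ.comp (IsScalarTower.toAlgHom ℂ R A)) = MvPolynomial.aeval (proj φ) := by
    apply MvPolynomial.algHom_ext
    intro i
    simp [proj]
  have h2 := congrArg (fun k : R →ₐ[ℂ] ℂ => k p) this
  simp only [AlgHom.comp_apply] at h2
  rw [IsScalarTower.toAlgHom_apply] at h2
  rw [h2]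
  rfl

/-- a crude bound for the roots of the specialisations of a monic polynomial. -/
noncomputable def rootBound (P : R[X]) (y : Fin n → ℂ) : ℝ :=
  ∑ k ∈ Finset.range P.natDegree, ‖MvPolynomial.eval y (P.coeff k)‖ + 1

lemma continuous_rootBound (P : R[X]) : Continuous (rootBound P) := by
  unfold rootBound
  refine Continuous.add (continuous_finset_sum _ fun k _ => ?_) continuous_const
  exact (MvPolynomial.continuous_eval (P.coeff k)).norm

lemma norm_le_rootBound (P : R[X]) (hP : P.Monic) (y : Fin n → ℂ) (c : ℂ)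
    (hc : (P.map (MvPolynomial.eval y)).IsRoot c) : ‖c‖ ≤ rootBound P y := by
  have hmon : (P.map (MvPolynomial.eval y)).Monic := hP.map _
  have h1 := Polynomial.IsRoot.norm_lt_cauchyBound hmon.ne_zero hc
  have hdeg : (P.map (MvPolynomial.eval y)).natDegree = P.natDegree := hP.natDegree_map _
  have h2 : (Polynomial.cauchyBound (P.map (MvPolynomial.eval y)) : ℝ) ≤ rootBound P y := by
    unfold Polynomial.cauchyBound rootBound
    rw [hmon.leadingCoeff, nnnorm_one, div_one, hdeg]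
    push_cast
    apply add_le_add_left
    have : ((Finset.range P.natDegree).sup fun x => ‖(P.map (MvPolynomial.eval y)).coeff x‖₊) ≤
        ∑ k ∈ Finset.range P.natDegree, ‖MvPolynomial.eval y (P.coeff k)‖₊ := by
      apply Finset.sup_le
      intro k hk
      rw [Polynomial.coeff_map]
      exact Finset.single_le_sum (f := fun k => ‖MvPolynomial.eval y (P.coeff k)‖₊)
        (fun _ _ => zero_le) hk
    have h3 := NNReal.coe_le_coe.2 this
    push_cast at h3
    exact h3
  have h4 : ‖c‖ < (Polynomial.cauchyBound (P.map (MvPolynomial.eval y)) : ℝ) := by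
    exact_mod_cast h1
  linarith

end normalization


section main

variable {A : Type} [CommRing A] [Algebra ℂ A] {N : ℕ} (s : Fin N → A)
  (hs : Function.Surjective (MvPolynomial.aeval s : MvPolynomial (Fin N) ℂ →ₐ[ℂ] A))
  {n : ℕ} [Algebra (MvPolynomial (Fin n) ℂ) A] [IsScalarTower ℂ (MvPolynomial (Fin n) ℂ) A]
  [Module.Finite (MvPolynomial (Fin n) ℂ) A]

local notation "R" => MvPolynomial (Fin n) ℂ

omit [Module.Finite (MvPolynomial (Fin n) ℂ) A] in
lemma isRoot_of_aeval (φ : A →ₐ[ℂ] ℂ) (a : A) (P : R[X]) (hP : Polynomial.aeval a P = 0) :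
    (P.map (MvPolynomial.eval (proj φ))).IsRoot (φ a) :=
  AnDensC.isRoot_map_eval (MvPolynomial.eval (proj φ)) (φ : A →+* ℂ) (over_proj φ) a P hP

lemma exists_monic (a : A) : ∃ P : R[X], P.Monic ∧ Polynomial.aeval a P = 0 := by
  obtain ⟨P, hP, h⟩ : IsIntegral (MvPolynomial (Fin n) ℂ) a := Algebra.IsIntegral.isIntegral a
  exact ⟨P, hP, by rw [Polynomial.aeval_def]; exact h⟩

include hs in
lemma finite_fibre (y₀ : Fin n → ℂ) : {ψ : A →ₐ[ℂ] ℂ | proj ψ = y₀}.Finite := by
  choose P hPmon hP using fun i => exists_monic (n := n) (s i)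
  have hT : (Set.pi Set.univ fun i : Fin N =>
      {c : ℂ | ((P i).map (MvPolynomial.eval y₀)).IsRoot c}).Finite :=
    Set.Finite.pi fun i => Polynomial.finite_setOfPred_isRoot ((hPmon i).map _).ne_zero
  refine (hT.preimage (coord_injective s hs).injOn).subset ?_
  intro ψ hψ
  rw [Set.mem_preimage, Set.mem_pi]
  intro i _
  have := isRoot_of_aeval ψ (s i) (P i) (hP i)
  rw [Set.mem_ofPred_eq] at hψ
  rw [hψ] at this
  exact this

/-- boundedness of the points lying over a bounded set. -/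
lemma exists_bound (y₀ : Fin n → ℂ) :
    ∃ B : ℝ, ∀ φ : A →ₐ[ℂ] ℂ, ‖proj φ - y₀‖ ≤ 1 → ‖coord s φ‖ ≤ B := by
  choose P hPmon hP using fun i => exists_monic (n := n) (s i)
  have hK : IsCompact (Metric.closedBall y₀ 1) := isCompact_closedBall y₀ 1
  choose C hC using fun i =>
    hK.exists_bound_of_continuousOn (continuous_rootBound (P i)).continuousOn
  refine ⟨∑ i, |C i|, fun φ hφ => ?_⟩
  have hB : 0 ≤ ∑ i, |C i| := Finset.sum_nonneg fun i _ => abs_nonneg _
  rw [pi_norm_le_iff_of_nonneg hB]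
  intro i
  have h1 := norm_le_rootBound (P i) (hPmon i) (proj φ) (φ (s i))
    (isRoot_of_aeval φ (s i) (P i) (hP i))
  have hmem : proj φ ∈ Metric.closedBall y₀ 1 := by
    rw [mem_closedBall_iff_norm]; exact hφ
  have h2 := hC i (proj φ) hmem
  have h3 : rootBound (P i) (proj φ) ≤ |C i| :=
    (le_abs_self _).trans ((Real.norm_eq_abs _ ▸ h2).trans (le_abs_self _))
  calc ‖coord s φ i‖ = ‖φ (s i)‖ := rfl
    _ ≤ rootBound (P i) (proj φ) := h1
    _ ≤ |C i| := h3
    _ ≤ ∑ i, |C i| := Finset.single_le_sum (f := fun i => |C i|) (fun _ _ => abs_nonneg _)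
        (Finset.mem_univ i)


include hs in
/-- the algebraic core of the density theorem, in the presence of a Noether normalisation. -/
theorem core [IsDomain A] [Algebra.FiniteType ℂ A]
    (hinj : Function.Injective (algebraMap R A)) (h : A) (hh : h ≠ 0) (φ₀ : A →ₐ[ℂ] ℂ)
    (ε : ℝ) (hε : 0 < ε) :
    ∃ φ : A →ₐ[ℂ] ℂ, φ h ≠ 0 ∧ ‖coord s φ - coord s φ₀‖ < ε := by
  classical
  obtain ⟨g, hg0, hgdvd⟩ : ∃ g : MvPolynomial (Fin n) ℂ, g ≠ 0 ∧
      h ∣ algebraMap (MvPolynomial (Fin n) ℂ) A g := AnDensC.exists_dvd_algebraMap h hh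
  set y₀ : Fin n → ℂ := proj (n := n) φ₀ with hy₀def
  set z₀ := coord s φ₀ with hz₀
  -- separating function
  have hfin := finite_fibre s hs y₀
  obtain ⟨u, hu0, hu1⟩ := AnDensC.exists_separating φ₀ (hfin.toFinset.erase φ₀)
    (Finset.notMem_erase _ _)
  have hu1' : ∀ ψ : A →ₐ[ℂ] ℂ, proj ψ = y₀ → ψ ≠ φ₀ → ψ u = 1 := by
    intro ψ hψ hne
    apply hu1
    rw [Finset.mem_erase]
    exact ⟨hne, hfin.mem_toFinset.2 hψ⟩
  -- lifts to polynomials in the generators
  obtain ⟨ũ, hũ⟩ := hs u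
  choose t ht using fun j : Fin n => hs (algebraMap (MvPolynomial (Fin n) ℂ) A (MvPolynomial.X j))
  let pz : (Fin N → ℂ) → (Fin n → ℂ) := fun z j => MvPolynomial.eval z (t j)
  have hpcont : Continuous pz := continuous_pi fun j => MvPolynomial.continuous_eval (t j)
  have hpz : ∀ φ : A →ₐ[ℂ] ℂ, pz (coord s φ) = proj φ := by
    intro φ
    funext j
    change MvPolynomial.eval (coord s φ) (t j) =
      φ (algebraMap (MvPolynomial (Fin n) ℂ) A (MvPolynomial.X j))
    rw [← val_eq, ht]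
  have hũval : ∀ φ : A →ₐ[ℂ] ℂ, MvPolynomial.eval (coord s φ) ũ = φ u := by
    intro φ
    rw [← val_eq, hũ]
  -- the compact set
  let C : Set (Fin N → ℂ) := Set.range (coord s) ∩ {z | ‖pz z - y₀‖ ≤ 1} ∩
    {z | ‖MvPolynomial.eval z ũ‖ ≤ 1 / 2} ∩ {z | ε ≤ ‖z - z₀‖}
  have hCclosed : IsClosed C := by
    refine (((isClosed_range_coord s hs).inter ?_).inter ?_).inter ?_
    · exact isClosed_le ((hpcont.sub continuous_const).norm) continuous_const
    · exact isClosed_le ((MvPolynomial.continuous_eval ũ).norm) continuous_const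
    · exact isClosed_le continuous_const ((continuous_id.sub continuous_const).norm)
  obtain ⟨B, hB⟩ := exists_bound s y₀
  have hCbdd : Bornology.IsBounded C := by
    rw [isBounded_iff_forall_norm_le]
    refine ⟨B, ?_⟩
    rintro z ⟨⟨⟨⟨φ, rfl⟩, h1⟩, -⟩, -⟩
    apply hB
    rw [← hpz]
    exact h1
  have hCcomp : IsCompact C := Metric.isCompact_of_isClosed_isBounded hCclosed hCbdd
  have himg : IsClosed (pz '' C) := (hCcomp.image hpcont).isClosed
  have hy₀ : y₀ ∉ pz '' C := by
    rintro ⟨z, ⟨⟨⟨⟨ψ, rfl⟩, -⟩, h2⟩, h3⟩, h4⟩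
    rw [hpz] at h4
    have h5 : ψ = φ₀ := by
      by_contra hne
      have := hu1' ψ h4 hne
      rw [Set.mem_ofPred_eq, hũval, this, norm_one] at h2
      norm_num at h2
    rw [h5] at h3
    simp only [Set.mem_ofPred_eq, hz₀, sub_self, norm_zero] at h3
    linarith
  obtain ⟨δ₀, hδ₀, hball⟩ := Metric.isOpen_iff.1 himg.isOpen_compl y₀ hy₀
  -- the minimal polynomial of `u`
  have hint : IsIntegral (MvPolynomial (Fin n) ℂ) u := Algebra.IsIntegral.isIntegral u
  set P := minpoly (MvPolynomial (Fin n) ℂ) u with hP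
  have hPmon : P.Monic := minpoly.monic hint
  have hPu : Polynomial.aeval u P = 0 := minpoly.aeval _ u
  have ha₀ : MvPolynomial.eval y₀ (P.coeff 0) = 0 := by
    have := isRoot_of_aeval φ₀ u P hPu
    rw [hu0, Polynomial.IsRoot.def, ← Polynomial.coeff_zero_eq_eval_zero,
      Polynomial.coeff_map] at this
    exact this
  have hcont : Continuous fun y : Fin n → ℂ => MvPolynomial.eval y (P.coeff 0) :=
    MvPolynomial.continuous_eval _
  have hpos : (0 : ℝ) < (1 / 2) ^ P.natDegree := by positivity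
  obtain ⟨δ', hδ', hδ'2⟩ := Metric.continuous_iff.1 hcont y₀ _ hpos
  obtain ⟨y, hy1, hy2⟩ := AnDensB.exists_near_eval_ne_zero g hg0 y₀ (min (min δ₀ 1) δ')
    (lt_min (lt_min hδ₀ one_pos) hδ')
  have hyδ₀ : ‖y - y₀‖ < δ₀ := hy1.trans_le ((min_le_left _ _).trans (min_le_left _ _))
  have hy1' : ‖y - y₀‖ < 1 := hy1.trans_le ((min_le_left _ _).trans (min_le_right _ _))
  have hyδ' : ‖y - y₀‖ < δ' := hy1.trans_le (min_le_right _ _)
  -- a small root
  let q := P.map (MvPolynomial.eval y)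
  have hq : q.Monic := hPmon.map _
  have hqdeg : q.natDegree = P.natDegree := hPmon.natDegree_map _
  have hq0 : ‖q.coeff 0‖ < (1 / 2) ^ q.natDegree := by
    rw [hqdeg, Polynomial.coeff_map]
    have := hδ'2 y (by rw [dist_eq_norm]; exact hyδ')
    rw [ha₀, dist_zero_right] at this
    exact this
  obtain ⟨c, hc, hcn⟩ := AnDensB.exists_root_norm_lt q hq (1 / 2) (by norm_num) hq0
  have hc' : Polynomial.eval₂ (MvPolynomial.eval y) c (minpoly (MvPolynomial (Fin n) ℂ) u) = 0 := by
    rw [← Polynomial.eval_map]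
    exact hc
  obtain ⟨φ, hφ1, hφ2⟩ := AnDensA.exists_point_over_root hinj u y c hc'
  have hprojφ : proj φ = y := by
    funext j
    change φ (algebraMap (MvPolynomial (Fin n) ℂ) A (MvPolynomial.X j)) = y j
    rw [hφ1, MvPolynomial.eval_X]
  refine ⟨φ, ?_, ?_⟩
  · intro h0
    obtain ⟨w, hw⟩ := hgdvd
    have := hφ1 g
    rw [hw, map_mul, h0, zero_mul] at this
    exact hy2 this.symm
  · by_contra hge
    push Not at hge
    have hmem : coord s φ ∈ C := by
      refine ⟨⟨⟨⟨φ, rfl⟩, ?_⟩, ?_⟩, hge⟩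
      · rw [Set.mem_ofPred_eq, hpz, hprojφ]
        exact hy1'.le
      · rw [Set.mem_ofPred_eq, hũval, hφ2]
        exact hcn.le
    have hin : pz (coord s φ) ∈ Metric.ball y₀ δ₀ := by
      rw [hpz, hprojφ, mem_ball_iff_norm]
      exact hyδ₀
    exact hball hin ⟨coord s φ, hmem, rfl⟩

end main


/-- **Density, algebraic form.** For a finite-type `ℂ`-domain `A` with generators `s`, every point
`φ₀` is approximated (in the coordinates `s`) by points where a given nonzero `h` does not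
vanish. -/
theorem dense_nonvanishing {A : Type} [CommRing A] [IsDomain A] [Algebra ℂ A]
    [Algebra.FiniteType ℂ A] {N : ℕ} (s : Fin N → A)
    (hs : Function.Surjective (MvPolynomial.aeval s : MvPolynomial (Fin N) ℂ →ₐ[ℂ] A))
    (h : A) (hh : h ≠ 0) (φ₀ : A →ₐ[ℂ] ℂ) (ε : ℝ) (hε : 0 < ε) :
    ∃ φ : A →ₐ[ℂ] ℂ, φ h ≠ 0 ∧ ‖coord s φ - coord s φ₀‖ < ε := by
  obtain ⟨n, g, hginj, hgfin⟩ := exists_finite_inj_algHom_of_fg ℂ A
  letI : Algebra (MvPolynomial (Fin n) ℂ) A := g.toRingHom.toAlgebra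
  haveI : IsScalarTower ℂ (MvPolynomial (Fin n) ℂ) A := IsScalarTower.of_algHom g
  haveI : Module.Finite (MvPolynomial (Fin n) ℂ) A := hgfin
  exact core s hs hginj h hh φ₀ ε hε

end Groth.Agent.Helper4.AnDensD
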