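import Groth.Prelude.Def_AnEps
import Mathlib
set_option autoImplicit false
open CategoryTheory AlgebraicGeometry Topology TopologicalSpace CategoryTheory.Limits
open An

namespace Groth.Agent.Helper4.AnPts

/-- A nontrivial finite-type ℂ-algebra has a ℂ-point. -/
theorem exists_retraction (A : Type) [CommRing A] [Nontrivial A] (ψ : ℂ →+* A) (hψ : ψ.FiniteType) :
    ∃ φ : A →+* ℂ, φ.comp ψ = RingHom.id ℂ := by
  letI : Algebra ℂ A := ψ.toAlgebra
  haveI : Algebra.FiniteType ℂ A := hψ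
  obtain ⟨m, hm⟩ := Ideal.exists_maximal A
  letI : Field (A ⧸ m) := Ideal.Quotient.field m
  haveI : Algebra.FiniteType ℂ (A ⧸ m) :=
    Algebra.FiniteType.of_surjective (Ideal.Quotient.mkₐ ℂ m) (Ideal.Quotient.mkₐ_surjective ℂ m)
  haveI : Module.Finite ℂ (A ⧸ m) := finite_of_finite_type_of_isJacobsonRing ℂ (A ⧸ m)
  have hbij : Function.Bijective (algebraMap ℂ (A ⧸ m)) :=
    IsAlgClosed.algebraMap_bijective_of_isIntegral
  let e : ℂ ≃+* (A ⧸ m) := RingEquiv.ofBijective (algebraMap ℂ (A ⧸ m)) hbij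
  refine ⟨(e.symm : (A ⧸ m) →+* ℂ).comp (Ideal.Quotient.mk m), ?_⟩
  ext c
  simp only [RingHom.coe_comp, Function.comp_apply, RingHom.id_apply]
  have : Ideal.Quotient.mk m (ψ c) = e c := rfl
  rw [this]
  simp

/-- A nonempty scheme locally of finite type over ℂ has a ℂ-point. -/
theorem exists_section {P : Scheme.{0}} (g : P ⟶ SC) [LocallyOfFiniteType g] (p : P) :
    ∃ s : SC ⟶ P, s ≫ g = 𝟙 SC := by
  obtain ⟨_, ⟨V, hV : IsAffineOpen V, rfl⟩, hpV, -⟩ :=
    (P.isBasis_affineOpens).exists_subset_of_mem_open (Set.mem_univ p) isOpen_univ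
  have hle : V ≤ g ⁻¹ᵁ (⊤ : SC.Opens) := le_top
  have hft := g.finiteType_appLE (isAffineOpen_top SC) hV hle
  haveI : Nonempty V := ⟨⟨p, hpV⟩⟩
  haveI : Nontrivial Γ(P, V) := inferInstance
  let ψ : ℂ →+* Γ(P, V) := (g.appLE ⊤ V hle).hom.comp (Scheme.ΓSpecIso (CommRingCat.of ℂ)).inv.hom
  have hψ : ψ.FiniteType := by
    refine RingHom.FiniteType.comp hft ?_
    exact RingHom.FiniteType.of_surjective _
      ((ConcreteCategory.bijective_of_isIso (Scheme.ΓSpecIso (CommRingCat.of ℂ)).inv).2)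
  obtain ⟨φ, hφ⟩ := exists_retraction Γ(P, V) ψ hψ
  refine ⟨Spec.map (CommRingCat.ofHom φ) ≫ hV.fromSpec, ?_⟩
  rw [Category.assoc, ← IsAffineOpen.SpecMap_appLE_fromSpec g (isAffineOpen_top SC) hV hle,
    IsAffineOpen.fromSpec_top, Scheme.isoSpec_Spec_inv, ← Spec.map_comp, ← Spec.map_comp]
  have : (Scheme.ΓSpecIso (CommRingCat.of ℂ)).inv ≫ g.appLE ⊤ V hle ≫ CommRingCat.ofHom φ = 𝟙 _ := by
    ext c
    exact congrArg (fun r : ℂ →+* ℂ => r c) hφ
  rw [Category.assoc, this, Spec.map_id]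

end Groth.Agent.Helper4.AnPts
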