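import Groth.Prelude.Def_AnEps
import Groth.Agent.Helper4.AnPts
import Mathlib
set_option autoImplicit false
open CategoryTheory AlgebraicGeometry Topology TopologicalSpace CategoryTheory.Limits
open An

namespace Groth.Agent.Helper4.AnEps


/-- ℂ-points lift along morphisms locally of finite type, over any point of the source. -/
theorem exists_lift_pts {U V : Scheme.{0}} [U.Over SC] [V.Over SC] (f : V ⟶ U) [f.IsOver SC]
    [LocallyOfFiniteType f] (a : Pts U) (y : V) (hy : f y = a.pt) :
    ∃ a' : Pts V, Pts.map f a' = a := by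
  obtain ⟨z, -, -⟩ := Scheme.Pullback.exists_preimage_pullback (f := a.1) (g := f) cpt y hy.symm
  obtain ⟨s, hs⟩ := Groth.Agent.Helper4.AnPts.exists_section (pullback.fst a.1 f) z
  have h1 : (s ≫ pullback.snd a.1 f) ≫ f = a.1 := by
    rw [Category.assoc, ← pullback.condition, ← Category.assoc, hs, Category.id_comp]
  refine ⟨⟨s ≫ pullback.snd a.1 f, ?_⟩, ?_⟩
  · rw [← comp_over f, ← Category.assoc, h1]
    exact a.2
  · exact Subtype.ext h1

/-- Topological lemma: a map into a space which is a local homeomorphism over one factor and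
embeds set-theoretically in a fibre product over a locally injective map is continuous as soon as
its components are. -/
theorem continuous_of_comp {B P A₁ A₂ C : Type*} [TopologicalSpace B] [TopologicalSpace P]
    [TopologicalSpace A₁] [TopologicalSpace A₂] [TopologicalSpace C]
    (π₁ : P → A₁) (π₂ : P → A₂) (r : A₁ → C) (q : A₂ → C)
    (hπ₁ : IsLocalHomeomorph π₁) (hπ₂ : Continuous π₂) (hq : IsLocalHomeomorph q)
    (hcomm : ∀ p, r (π₁ p) = q (π₂ p))
    (hinj : ∀ p p', π₁ p = π₁ p' → π₂ p = π₂ p' → p = p')
    (h : B → P) (h₁ : Continuous (π₁ ∘ h)) (h₂ : Continuous (π₂ ∘ h)) : Continuous h := by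
  rw [continuous_iff_continuousAt]
  intro b
  obtain ⟨e, hbe, rfl⟩ := hπ₁ (h b)
  obtain ⟨e', hbe', rfl⟩ := hq (π₂ (h b))
  let σ : B → P := fun b' => e.symm (e (h b'))
  have hσb : σ b = h b := e.left_inv hbe
  have hσ : ContinuousAt σ b := by
    have h3 : ContinuousAt e.symm (e (h b)) := e.continuousAt_symm (e.map_source hbe)
    exact ContinuousAt.comp (f := fun b' => e (h b')) (g := e.symm) h3 h₁.continuousAt
  have ev1 : ∀ᶠ b' in 𝓝 b, e (h b') ∈ e.target :=
    h₁.continuousAt (e.open_target.mem_nhds (e.map_source hbe))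
  have ev2 : ∀ᶠ b' in 𝓝 b, π₂ (σ b') ∈ e'.source := by
    have : ContinuousAt (fun b' => π₂ (σ b')) b := hπ₂.continuousAt.comp hσ
    refine this (e'.open_source.mem_nhds ?_)
    change π₂ (σ b) ∈ e'.source
    rw [hσb]
    exact hbe'
  have ev3 : ∀ᶠ b' in 𝓝 b, π₂ (h b') ∈ e'.source :=
    h₂.continuousAt (e'.open_source.mem_nhds hbe')
  have hev : ∀ᶠ b' in 𝓝 b, σ b' = h b' := by
    filter_upwards [ev1, ev2, ev3] with b' h1 h2 h3
    have k1 : e (σ b') = e (h b') := e.right_inv h1
    apply hinj _ _ k1
    apply e'.injOn h2 h3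
    rw [← hcomm, ← hcomm, k1]
  exact hσ.congr hev


variable (X : Scheme.{0}) [X.Over SC] [LocallyOfFiniteType (X ↘ SC)]

instance lft_left (U : X.Etale) : LocallyOfFiniteType (U.left ↘ SC) := by
  change LocallyOfFiniteType ((U.left ↘ X) ≫ (X ↘ SC))
  infer_instance

variable [Fact EtaleLH]

lemma lh_map {U V : X.Etale} (g : U ⟶ V) :
    IsLocalHomeomorph (Pts.map (X := U.left) (Y := V.left) g.left) :=
  (Fact.out : EtaleLH) U.left V.left g.left

lemma eps_map_toFun {U V : X.Etale} (g : U ⟶ V) (a : Pts U.left) :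
    ((eps X).map g).toFun a = Pts.map (X := U.left) (Y := V.left) g.left a := rfl

set_option backward.isDefEq.respectTransparency.types false in
theorem isPullback_left {P U V W : X.Etale} {p₁ : P ⟶ U} {p₂ : P ⟶ V} {f : U ⟶ W} {g : V ⟶ W}
    (sq : IsPullback p₁ p₂ f g) : IsPullback p₁.left p₂.left f.left g.left :=
  sq.map (Scheme.Etale.forget X ⋙ Over.forget X)


lemma pts_ext {Y : Scheme.{0}} [Y.Over SC] {a b : Pts Y} (h : a.1 = b.1) : a = b := Subtype.ext h

set_option backward.isDefEq.respectTransparency.types false in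
theorem isPullback_eps {P U V W : X.Etale} {p₁ : P ⟶ U} {p₂ : P ⟶ V} {f : U ⟶ W} {g : V ⟶ W}
    (sq : IsPullback p₁ p₂ f g) :
    IsPullback ((eps X).map p₁) ((eps X).map p₂) ((eps X).map f) ((eps X).map g) := by
  have sq' := isPullback_left X sq
  have hw : (eps X).map p₁ ≫ (eps X).map f = (eps X).map p₂ ≫ (eps X).map g := by
    rw [← Functor.map_comp, ← Functor.map_comp, sq.w]
  -- the key bijection on points
  have hcond : ∀ (s : PullbackCone ((eps X).map f) ((eps X).map g)) (b : s.pt.E),
      (s.fst.toFun b).1 ≫ f.left = (s.snd.toFun b).1 ≫ g.left := by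
    intro s b
    have := congrArg (fun k : s.pt ⟶ (eps X).obj W => Subtype.val (k.toFun b)) s.condition
    exact this
  have hsec : ∀ (s : PullbackCone ((eps X).map f) ((eps X).map g)) (b : s.pt.E),
      sq'.lift (s.fst.toFun b).1 (s.snd.toFun b).1 (hcond s b) ≫ (P.left ↘ SC) = 𝟙 SC := by
    intro s b
    have h1 : (P.left ↘ SC) = p₁.left ≫ (U.left ↘ SC) := by
      change P.hom ≫ (X ↘ SC) = p₁.left ≫ U.hom ≫ (X ↘ SC)
      rw [← Category.assoc, Over.w p₁.hom]
    rw [h1, ← Category.assoc, sq'.lift_fst]
    exact (s.fst.toFun b).2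
  let hfun : ∀ (s : PullbackCone ((eps X).map f) ((eps X).map g)), s.pt.E → Pts P.left :=
    fun s b => ⟨sq'.lift (s.fst.toFun b).1 (s.snd.toFun b).1 (hcond s b), hsec s b⟩
  have hf1 : ∀ s b, Pts.map (X := P.left) (Y := U.left) p₁.left (hfun s b) = s.fst.toFun b :=
    fun s b => pts_ext (sq'.lift_fst _ _ _)
  have hf2 : ∀ s b, Pts.map (X := P.left) (Y := V.left) p₂.left (hfun s b) = s.snd.toFun b :=
    fun s b => pts_ext (sq'.lift_snd _ _ _)
  have hcont : ∀ s, Continuous (hfun s) := by
    intro s
    refine continuous_of_comp (Pts.map (X := P.left) (Y := U.left) p₁.left)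
      (Pts.map (X := P.left) (Y := V.left) p₂.left)
      (Pts.map (X := U.left) (Y := W.left) f.left) (Pts.map (X := V.left) (Y := W.left) g.left)
      (lh_map X p₁) (Pts.continuous_map _) (lh_map X g) ?_ ?_ (hfun s) ?_ ?_
    · intro p
      apply pts_ext
      change (p.1 ≫ p₁.left) ≫ f.left = (p.1 ≫ p₂.left) ≫ g.left
      rw [Category.assoc, Category.assoc, sq'.w]
    · intro p p' h1 h2
      apply pts_ext
      apply sq'.hom_ext
      · exact congrArg Subtype.val h1
      · exact congrArg Subtype.val h2
    · have : (Pts.map (X := P.left) (Y := U.left) p₁.left) ∘ hfun s = s.fst.toFun :=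
        funext (hf1 s)
      rw [this]
      exact s.fst.continuous
    · have : (Pts.map (X := P.left) (Y := V.left) p₂.left) ∘ hfun s = s.snd.toFun :=
        funext (hf2 s)
      rw [this]
      exact s.snd.continuous
  refine IsPullback.of_isLimit' ⟨hw⟩ (PullbackCone.IsLimit.mk hw
    (fun s => ⟨hfun s, hcont s, fun b => ?_⟩) (fun s => ?_) (fun s => ?_) (fun s m h1 h2 => ?_))
  · have h3 := s.fst.over b
    rw [← h3, ← hf1 s b]
    apply pts_ext
    change (hfun s b).1 ≫ P.hom = ((hfun s b).1 ≫ p₁.left) ≫ U.hom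
    rw [Category.assoc, Over.w p₁.hom]
  · apply Cl.hom_ext
    funext b
    exact hf1 s b
  · apply Cl.hom_ext
    funext b
    exact hf2 s b
  · apply Cl.hom_ext
    funext b
    apply pts_ext
    apply sq'.hom_ext
    · have := congrArg (fun k : s.pt ⟶ (eps X).obj U => Subtype.val (k.toFun b)) h1
      refine this.trans ?_
      exact (congrArg Subtype.val (hf1 s b)).symm
    · have := congrArg (fun k : s.pt ⟶ (eps X).obj V => Subtype.val (k.toFun b)) h2
      refine this.trans ?_
      exact (congrArg Subtype.val (hf2 s b)).symm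


set_option backward.isDefEq.respectTransparency.types false in
instance preservesPullbacks_eps : PreservesLimitsOfShape WalkingCospan (eps X) where
  preservesLimit {K} := by
    have : PreservesLimit (cospan (K.map WalkingCospan.Hom.inl) (K.map WalkingCospan.Hom.inr))
        (eps X) := by
      have sq := IsPullback.of_hasPullback (K.map WalkingCospan.Hom.inl) (K.map WalkingCospan.Hom.inr)
      apply preservesLimit_of_preserves_limit_cone sq.isLimit
      apply (isLimitMapConePullbackConeEquiv (eps X) sq.w).symm _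
      exact (isPullback_eps X sq).isLimit
    exact preservesLimit_of_iso_diagram _ (diagramIsoCospan K).symm

set_option backward.isDefEq.respectTransparency.types false in
instance preservesTerminal_eps : PreservesLimitsOfShape (Discrete.{0} PEmpty) (eps X) := by
  have hT : IsTerminal (EtCoh.top X) := MorphismProperty.Over.mkIdTerminal _ X
  have hT' : IsTerminal ((eps X).obj (EtCoh.top X)) :=
    IsTerminal.ofIso (Cl.selfIsTerminal (Pts X)) (epsTopIso X).symm
  have : PreservesLimit (Functor.empty.{0} X.Etale) (eps X) :=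
    preservesLimit_of_preserves_limit_cone hT ((isLimitMapConeEmptyConeEquiv (eps X) _).symm hT')
  exact preservesLimitsOfShape_pempty_of_preservesTerminal _

instance preservesFiniteLimits_eps : PreservesFiniteLimits (eps X) :=
  preservesFiniteLimits_of_preservesTerminal_and_pullbacks _

instance flat_eps : RepresentablyFlat (eps X) := flat_of_preservesFiniteLimits _


set_option backward.isDefEq.respectTransparency.types false in
theorem coverPreserving_eps :
    CoverPreserving X.smallEtaleTopology (Cl.topology (Pts X)) (eps X) := by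
  constructor
  intro U S hS
  have eX : X.smallEtaleTopology =
      (X.smallPretopology (P := EtCoh.etaleMP) (Q := EtCoh.etaleMP)).toGrothendieck :=
    Scheme.smallGrothendieckTopology_eq_toGrothendieck_smallPretopology X le_rfl
  rw [eX] at hS
  replace hS := (Scheme.mem_toGrothendieck_smallPretopology U S).1 hS
  intro a
  obtain ⟨V, f, y, hSf, -, hy⟩ := hS (Pts.pt (X := U.left) a)
  obtain ⟨a', ha'⟩ := exists_lift_pts (U := U.left) (V := V.left) f.left a y hy
  obtain ⟨e, hae, he⟩ := lh_map X f a'
  refine ⟨Cl.restrictOpen ((eps X).obj V) e.source e.open_source,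
    Cl.restrictOpenι _ _ _ ≫ (eps X).map f, ⟨V, f, Cl.restrictOpenι _ _ _, hSf, rfl⟩, ?_,
    ⟨⟨a', hae⟩, ha'⟩⟩
  have : (Cl.restrictOpenι ((eps X).obj V) e.source e.open_source ≫ (eps X).map f).toFun =
      e.source.domRestrict e := by
    funext w
    change Pts.map (X := V.left) (Y := U.left) f.left w.1 = e w.1
    rw [he]
  rw [this]
  exact e.isOpenEmbedding_restrict

theorem epsCont : EpsCont X :=
  Functor.isContinuous_of_coverPreserving (compatiblePreservingOfFlat _ _) (coverPreserving_eps X)

end Groth.Agent.Helper4.AnEps
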