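import Groth.Prelude.Def_AnPts
import Groth.Agent.Helper4.AnTop
import Mathlib
set_option autoImplicit false
open CategoryTheory AlgebraicGeometry Topology TopologicalSpace CategoryTheory.Limits
open An

namespace Groth.Agent.Helper4.AnOpenImm
open Groth.Agent.Helper4.AnTop

variable {X Y : Scheme.{0}} [X.Over SC] [Y.Over SC]

lemma basicSet_res {U U' : X.Opens} (hle : U ≤ U') (hge : U' ≤ U) (t : Γ(X, U')) (V : Set ℂ) :
    Pts.basicSet U (X.presheaf.map (homOfLE hle).op t) V = Pts.basicSet U' t V := by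
  ext x
  constructor
  · rintro ⟨h, hv⟩
    refine ⟨hle h, ?_⟩
    rw [← ev_res x hle h t]
    exact hv
  · rintro ⟨h, hv⟩
    refine ⟨hge h, ?_⟩
    rw [ev_res x hle (hge h) t]
    exact hv

variable (f : X ⟶ Y) [f.IsOver SC]

lemma map_injective_of_mono [Mono f] : Function.Injective (Pts.map f) := by
  intro a b hab
  apply Subtype.ext
  have := congrArg Subtype.val hab
  exact (cancel_mono f).1 this

lemma range_val (y : Pts Y) : Set.range y.1 = {y.pt} := by
  ext p
  constructor
  · rintro ⟨q, rfl⟩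
    rw [eq_cpt q]
    rfl
  · rintro rfl
    exact ⟨cpt, rfl⟩

variable [IsOpenImmersion f]

lemma range_map_openImmersion : Set.range (Pts.map f) = Pts.pt ⁻¹' (f.opensRange : Set Y) := by
  ext y
  constructor
  · rintro ⟨x, rfl⟩
    change (Pts.map f x).pt ∈ Set.range f
    rw [Pts.pt_map]
    exact ⟨_, rfl⟩
  · intro hy
    have H : Set.range y.1 ⊆ Set.range f := by
      rw [range_val]
      exact Set.singleton_subset_iff.2 hy
    refine ⟨⟨IsOpenImmersion.lift f y.1 H, ?_⟩, ?_⟩
    · rw [← comp_over f, ← Category.assoc, IsOpenImmersion.lift_fac]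
      exact y.2
    · exact Subtype.ext (IsOpenImmersion.lift_fac f y.1 H)

lemma basicSet_eq_preimage (U : X.Opens) (s : Γ(X, U)) (V : Set ℂ) :
    Pts.basicSet U s V = Pts.map f ⁻¹' Pts.basicSet (f ''ᵁ U) ((f.appIso U).inv s) V := by
  rw [Pts.preimage_basicSet]
  have hle : U ≤ f ⁻¹ᵁ f ''ᵁ U := (f.preimage_image_eq U).ge
  have hge : f ⁻¹ᵁ f ''ᵁ U ≤ U := (f.preimage_image_eq U).le
  rw [← basicSet_res hle hge]
  congr 1
  have h1 := f.appIso_inv_app_presheafMap U
  have h2 := congrArg (fun k => k.hom s) h1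
  simp only [CommRingCat.hom_comp, RingHom.coe_comp, Function.comp_apply, CommRingCat.hom_id,
    RingHom.id_apply] at h2
  exact h2.symm

theorem isOpenEmbedding_map : IsOpenEmbedding (Pts.map f) := by
  refine ⟨⟨?_, map_injective_of_mono f⟩, ?_⟩
  · rw [isInducing_iff]
    apply le_antisymm
    · exact (Pts.continuous_map f).le_induced
    · apply le_generateFrom
      rintro _ ⟨U, s, V, hV, rfl⟩
      rw [basicSet_eq_preimage f]
      exact isOpen_induced (Pts.isOpen_basicSet _ _ hV)
  · rw [range_map_openImmersion]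
    exact Pts.isOpen_preimage_pt _

end Groth.Agent.Helper4.AnOpenImm
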