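import Groth.Prelude.Def_AnPts
import Groth.Agent.Helper4.AnTop
import Groth.Agent.Helper4.AnOpenImm
import Groth.Agent.Helper4.AnEps
import Mathlib
set_option autoImplicit false
open CategoryTheory AlgebraicGeometry Topology TopologicalSpace CategoryTheory.Limits
open An

namespace Groth.Agent.Helper4.AnJacobson
open Groth.Agent.Helper4.AnTop Groth.Agent.Helper4.AnOpenImm

theorem exists_isLocallyClosed_subset_of_isConstructible {T : Type*} [TopologicalSpace T]
    {s : Set T} (hs : IsConstructible s) (hne : s.Nonempty) :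
    ∃ Z ⊆ s, Z.Nonempty ∧ IsLocallyClosed Z := by
  revert hne
  refine BooleanSubalgebra.closure_sdiff_sup_induction
    (p := fun s _ => s.Nonempty → ∃ Z ⊆ s, Z.Nonempty ∧ IsLocallyClosed Z) ?_ ?_ ?_ ?_ ?_ s hs
  · exact ⟨fun s hs t ht ↦ ⟨hs.1.union ht.1, hs.2.union ht.2⟩,
      fun s hs t ht ↦ ⟨hs.1.inter ht.1, hs.2.inter_isOpen ht.2 ht.1⟩⟩
  · exact ⟨isOpen_empty, .empty⟩
  · exact ⟨isOpen_univ, .univ⟩
  · intro U hU V hV hne
    exact ⟨U \ V, subset_rfl, hne, hU.1.isLocallyClosed.inter hV.1.isClosed_compl.isLocallyClosed⟩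
  · intro s _ t _ ihs iht hne
    rcases hne with ⟨x, hx | hx⟩
    · obtain ⟨Z, hZ, h1, h2⟩ := ihs ⟨x, hx⟩
      exact ⟨Z, hZ.trans Set.subset_union_left, h1, h2⟩
    · obtain ⟨Z, hZ, h1, h2⟩ := iht ⟨x, hx⟩
      exact ⟨Z, hZ.trans Set.subset_union_right, h1, h2⟩

theorem exists_closedPoint_of_isLocallyConstructible {T : Type*} [TopologicalSpace T]
    [JacobsonSpace T] {s : Set T} (hs : IsLocallyConstructible s) (hne : s.Nonempty) :
    ∃ x ∈ s, IsClosed ({x} : Set T) := by
  obtain ⟨x, hx⟩ := hne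
  obtain ⟨U, hUx, hU, hUs⟩ := hs x
  have hxU : x ∈ U := mem_of_mem_nhds hUx
  obtain ⟨Z, hZs, ⟨z, hz⟩, hZ⟩ := exists_isLocallyClosed_subset_of_isConstructible hUs
    ⟨⟨x, hxU⟩, hx⟩
  have hemb : IsOpenEmbedding (Subtype.val : U → T) := hU.isOpenEmbedding_subtypeVal
  haveI : JacobsonSpace U := JacobsonSpace.of_isOpenEmbedding hemb
  obtain ⟨w, hwZ, hw⟩ := nonempty_inter_closedPoints ⟨z, hz⟩ hZ
  refine ⟨w.1, hZs hwZ, ?_⟩
  have := hemb.preimage_closedPoints
  have hw' : w ∈ Subtype.val ⁻¹' closedPoints T := by rw [this]; exact hw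
  exact hw'

theorem exists_pts_of_isLocallyConstructible (X : Scheme.{0}) [X.Over SC]
    [LocallyOfFiniteType (X ↘ SC)] {s : Set X} (hs : IsLocallyConstructible s)
    (hne : s.Nonempty) : ∃ a : Pts X, a.pt ∈ s := by
  haveI : JacobsonSpace X := LocallyOfFiniteType.jacobsonSpace (X ↘ SC)
  obtain ⟨x, hxs, hx⟩ := exists_closedPoint_of_isLocallyConstructible hs hne
  refine ⟨⟨pointOfClosedPoint (X ↘ SC) x hx, pointOfClosedPoint_comp _ x hx⟩, ?_⟩
  change pointOfClosedPoint (X ↘ SC) x hx cpt ∈ s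
  rw [pointOfClosedPoint_apply]
  exact hxs

theorem lfp_of_lft {X Y : Scheme.{0}} (f : X ⟶ Y) [LocallyOfFiniteType f]
    [IsLocallyNoetherian Y] : LocallyOfFinitePresentation f := by
  constructor
  intro U hU V hV e
  haveI : IsNoetherianRing Γ(Y, U) := IsLocallyNoetherian.component_noetherian ⟨U, hU⟩
  exact RingHom.FinitePresentation.of_finiteType.1 (f.finiteType_appLE hU hV e)


theorem isLocallyConstructible_compl {T : Type*} [TopologicalSpace T] {s : Set T}
    (hs : IsLocallyConstructible s) : IsLocallyConstructible sᶜ := by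
  intro x
  obtain ⟨U, hUx, hU, hUs⟩ := hs x
  refine ⟨U, hUx, hU, ?_⟩
  have : ((Subtype.val : U → T) ⁻¹' sᶜ) = ((Subtype.val : U → T) ⁻¹' s)ᶜ := rfl
  rw [this]
  exact hUs.compl

section

variable (X Y : Scheme.{0}) [X.Over SC] [LocallyOfFiniteType (X ↘ SC)]
  [Y.Over SC] [LocallyOfFiniteType (Y ↘ SC)] (f : X ⟶ Y) [f.IsOver SC]

include X Y in
lemma lft_of_over : LocallyOfFiniteType f := by
  haveI : LocallyOfFiniteType (f ≫ Y ↘ SC) := by rw [comp_over f]; infer_instance
  exact locallyOfFiniteType_of_comp f (Y ↘ SC)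

lemma isLocallyNoetherian_of_lft : IsLocallyNoetherian Y :=
  LocallyOfFiniteType.isLocallyNoetherian (Y ↘ SC)

/-- A locally constructible subset containing all ℂ-points is everything. -/
theorem eq_univ_of_forall_pts {s : Set Y} (hs : IsLocallyConstructible s)
    (h : ∀ a : Pts Y, a.pt ∈ s) : s = Set.univ := by
  by_contra hne
  obtain ⟨a, ha⟩ := exists_pts_of_isLocallyConstructible Y (isLocallyConstructible_compl hs)
    (Set.nonempty_compl.2 hne)
  exact ha (h a)

theorem surjective_iff [QuasiCompact f] :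
    Function.Surjective f.base ↔ Function.Surjective (Pts.map f) := by
  haveI := lft_of_over X Y f
  constructor
  · intro h b
    obtain ⟨y, hy⟩ := h b.pt
    exact Groth.Agent.Helper4.AnEps.exists_lift_pts f b y hy
  · intro h
    haveI := isLocallyNoetherian_of_lft Y
    haveI := lfp_of_lft f
    have hc : IsLocallyConstructible (f '' Set.univ) :=
      f.isLocallyConstructible_image IsLocallyConstructible.univ
    have huniv := eq_univ_of_forall_pts Y hc (fun b => by
      obtain ⟨a, rfl⟩ := h b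
      rw [Pts.pt_map]
      exact ⟨a.pt, Set.mem_univ _, rfl⟩)
    intro y
    have : y ∈ f '' Set.univ := by rw [huniv]; exact Set.mem_univ _
    obtain ⟨x, -, hx⟩ := this
    exact ⟨x, hx⟩

end

end Groth.Agent.Helper4.AnJacobson
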