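import Groth.Prelude.Def_AnPts
import Groth.Agent.Helper4.AnJacobson
import Mathlib
set_option autoImplicit false
open CategoryTheory AlgebraicGeometry Topology TopologicalSpace CategoryTheory.Limits
open An

namespace Groth.Agent.Helper4.AnInjective
open Groth.Agent.Helper4.AnTop Groth.Agent.Helper4.AnOpenImm Groth.Agent.Helper4.AnJacobson

variable (X Y : Scheme.{0}) [X.Over SC] [LocallyOfFiniteType (X ↘ SC)]
  [Y.Over SC] [LocallyOfFiniteType (Y ↘ SC)] (f : X ⟶ Y) [f.IsOver SC]

/-- ℂ-points are determined by their underlying point. -/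
lemma pts_ext_of_pt {a b : Pts X} (h : a.pt = b.pt) : a = b :=
  Subtype.ext (ext_of_apply_closedPoint_eq (X ↘ SC) a.2 b.2 (by
    have h1 : (IsLocalRing.closedPoint ℂ : PrimeSpectrum ℂ) = cpt := eq_cpt _
    erw [h1]
    exact h))

instance lft_pullback : LocallyOfFiniteType ((pullback f f) ↘ SC) := by
  haveI := lft_of_over X Y f
  change LocallyOfFiniteType (pullback.fst f f ≫ X ↘ SC)
  infer_instance

theorem injective_iff :
    Function.Injective f.base ↔ Function.Injective (Pts.map f) := by
  haveI := lft_of_over X Y f
  constructor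
  · intro h a b hab
    apply pts_ext_of_pt
    apply h
    have := congrArg Pts.pt hab
    rwa [Pts.pt_map, Pts.pt_map] at this
  · intro h x₁ x₂ hx
    haveI : IsLocallyNoetherian (pullback f f) :=
      LocallyOfFiniteType.isLocallyNoetherian ((pullback f f) ↘ SC)
    haveI : IsLocallyNoetherian X := LocallyOfFiniteType.isLocallyNoetherian (X ↘ SC)
    haveI : LocallyOfFiniteType (pullback.diagonal f) := by
      haveI : LocallyOfFiniteType (pullback.diagonal f ≫ pullback.fst f f) := by
        rw [pullback.diagonal_fst]; infer_instance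
      exact locallyOfFiniteType_of_comp (pullback.diagonal f) (pullback.fst f f)
    haveI := lfp_of_lft (pullback.diagonal f)
    have hc : IsLocallyConstructible ((pullback.diagonal f) '' Set.univ) :=
      (pullback.diagonal f).isLocallyConstructible_image IsLocallyConstructible.univ
    have huniv := eq_univ_of_forall_pts (pullback f f) hc (fun c => by
      have h1 : Pts.map (pullback.fst f f) c = Pts.map (pullback.snd f f) c :=
        h (Pts.map_pullback_condition f f c)
      have h2 : c.1 ≫ pullback.fst f f = c.1 ≫ pullback.snd f f := congrArg Subtype.val h1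
      have h3 : c.1 = (c.1 ≫ pullback.fst f f) ≫ pullback.diagonal f := by
        apply pullback.hom_ext
        · rw [Category.assoc, pullback.diagonal_fst, Category.comp_id]
        · rw [Category.assoc, pullback.diagonal_snd, Category.comp_id, h2]
      refine ⟨(c.1 ≫ pullback.fst f f) cpt, Set.mem_univ _, ?_⟩
      change _ = c.1 cpt
      conv_rhs => rw [h3]
      rfl)
    obtain ⟨z, hz1, hz2⟩ := Scheme.Pullback.exists_preimage_pullback (f := f) (g := f) x₁ x₂ hx
    have : z ∈ (pullback.diagonal f) '' Set.univ := by rw [huniv]; exact Set.mem_univ _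
    obtain ⟨x, -, rfl⟩ := this
    rw [← Scheme.Hom.comp_apply, pullback.diagonal_fst] at hz1
    rw [← Scheme.Hom.comp_apply, pullback.diagonal_snd] at hz2
    exact hz1.symm.trans hz2

end Groth.Agent.Helper4.AnInjective
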