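import Groth.Prelude.Def_AnPts
import Groth.Agent.Helper4.AnTop
import Groth.Agent.Helper4.AnOpenImm
import Mathlib
set_option autoImplicit false
open CategoryTheory AlgebraicGeometry Topology TopologicalSpace CategoryTheory.Limits
open An

namespace Groth.Agent.Helper4.AnLocCompact
open Groth.Agent.Helper4.AnTop Groth.Agent.Helper4.AnOpenImm

theorem locallyCompactSpace_of_open_cover {T : Type*} [TopologicalSpace T]
    (h : ∀ x : T, ∃ (K : Type) (_ : TopologicalSpace K) (_ : LocallyCompactSpace K) (j : K → T),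
      IsOpenEmbedding j ∧ x ∈ Set.range j) : LocallyCompactSpace T := by
  constructor
  intro x n hn
  obtain ⟨K, _, _, j, hj, k, rfl⟩ := h x
  have h1 : j ⁻¹' n ∈ 𝓝 k := hj.continuous.continuousAt hn
  obtain ⟨s', hs', hs'n, hs'c⟩ := LocallyCompactSpace.local_compact_nhds k _ h1
  exact ⟨j '' s', (hj.image_mem_nhds).2 hs', Set.image_subset_iff.2 hs'n, hs'c.image hj.continuous⟩

/-- An affine scheme of finite type over ℂ has finitely many generating global sections. -/
theorem exists_generators (X : Scheme.{0}) [X.Over SC] [IsAffine X] [LocallyOfFiniteType (X ↘ SC)] :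
    ∃ (n : ℕ) (s : Fin n → Γ(X, ⊤)),
      Function.Surjective (MvPolynomial.eval₂Hom (strHom X) s) := by
  have hle : (⊤ : X.Opens) ≤ (X ↘ SC) ⁻¹ᵁ (⊤ : SC.Opens) := le_top
  have hft := (X ↘ SC).finiteType_appLE (isAffineOpen_top SC) (isAffineOpen_top X) hle
  have hstr : (strHom X).FiniteType := by
    unfold strHom
    have e : (X ↘ SC).appLE ⊤ ⊤ hle = (X ↘ SC).appTop := (X ↘ SC).appLE_eq_app
    have hft2 : (X ↘ SC).appTop.hom.FiniteType := by rw [← e]; exact hft
    refine RingHom.FiniteType.comp hft2 ?_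
    exact RingHom.FiniteType.of_surjective _
      ((ConcreteCategory.bijective_of_isIso (Scheme.ΓSpecIso (CommRingCat.of ℂ)).inv).2)
  letI : Algebra ℂ Γ(X, ⊤) := (strHom X).toAlgebra
  have hft' : Algebra.FiniteType ℂ Γ(X, ⊤) := hstr
  obtain ⟨n, f, hf⟩ := Algebra.FiniteType.iff_quotient_mvPolynomial''.1 hft'
  refine ⟨n, fun i => f (MvPolynomial.X i), ?_⟩
  have : (MvPolynomial.eval₂Hom (strHom X) fun i => f (MvPolynomial.X i)) = (f : _ →+* _) := by
    apply MvPolynomial.ringHom_ext
    · intro c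
      simp only [MvPolynomial.eval₂Hom_C]
      exact (f.commutes c).symm
    · intro i
      simp
  rw [this]
  exact hf

theorem locallyCompactSpace_of_affine (X : Scheme.{0}) [X.Over SC] [IsAffine X]
    [LocallyOfFiniteType (X ↘ SC)] : LocallyCompactSpace (Pts X) := by
  obtain ⟨n, s, hs⟩ := exists_generators X
  exact (coordMap_isClosedEmbedding s hs).locallyCompactSpace

theorem locallyCompactSpace (X : Scheme.{0}) [X.Over SC] [LocallyOfFiniteType (X ↘ SC)] :
    LocallyCompactSpace (Pts X) := by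
  apply locallyCompactSpace_of_open_cover
  intro x
  obtain ⟨_, ⟨U', hU' : IsAffineOpen U', rfl⟩, hxU', -⟩ :=
    (X.isBasis_affineOpens).exists_subset_of_mem_open (Set.mem_univ x.pt) isOpen_univ
  obtain ⟨U, hU, hxU⟩ : ∃ U : X.Opens, IsAffineOpen U ∧ x.pt ∈ U := ⟨U', hU', hxU'⟩
  letI : (U : Scheme.{0}).Over SC := ⟨U.ι ≫ X ↘ SC⟩
  haveI : U.ι.IsOver SC := ⟨rfl⟩
  haveI : IsAffine (U : Scheme.{0}) := hU
  haveI : LocallyOfFiniteType ((U : Scheme.{0}) ↘ SC) := by
    change LocallyOfFiniteType (U.ι ≫ X ↘ SC)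
    infer_instance
  refine ⟨Pts (U : Scheme.{0}), inferInstance, locallyCompactSpace_of_affine _, Pts.map U.ι,
    isOpenEmbedding_map U.ι, ?_⟩
  rw [range_map_openImmersion]
  change x.pt ∈ Set.range U.ι
  rw [Scheme.Opens.range_ι]
  exact hxU

end Groth.Agent.Helper4.AnLocCompact
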