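import Mathlib
set_option autoImplicit false

namespace Groth.Agent.Helper4.AnNoether

/-- A finite-type ℂ-algebra which is not finite-dimensional has a function taking all complex
values on its ℂ-points. -/
theorem exists_elem_all_values (A : Type) [CommRing A] [Algebra ℂ A] [Algebra.FiniteType ℂ A]
    (h : ¬ Module.Finite ℂ A) : ∃ t : A, ∀ c : ℂ, ∃ φ : A →ₐ[ℂ] ℂ, φ t = c := by
  haveI : Nontrivial A := by
    by_contra hn
    rw [not_nontrivial_iff_subsingleton] at hn
    exact h inferInstance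
  obtain ⟨s, g, hginj, hgfin⟩ := exists_finite_inj_algHom_of_fg ℂ A
  algebraize [g.toRingHom]
  haveI : Module.Finite (MvPolynomial (Fin s) ℂ) A := hgfin
  rcases Nat.eq_zero_or_pos s with rfl | hs
  · exfalso
    apply h
    haveI : Module.Finite ℂ (MvPolynomial (Fin 0) ℂ) :=
      Module.Finite.equiv (MvPolynomial.isEmptyAlgEquiv ℂ (Fin 0)).symm.toLinearEquiv
    exact Module.Finite.trans (MvPolynomial (Fin 0) ℂ) A
  · refine ⟨g (MvPolynomial.X ⟨0, hs⟩), fun c => ?_⟩
    let z : Fin s → ℂ := fun _ => c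
    let ev : MvPolynomial (Fin s) ℂ →+* ℂ := MvPolynomial.eval z
    have hev : Function.Surjective ev := fun d => ⟨MvPolynomial.C d, MvPolynomial.eval_C d⟩
    haveI : (RingHom.ker ev).IsMaximal := RingHom.ker_isMaximal_of_surjective ev hev
    have hker : RingHom.ker (algebraMap (MvPolynomial (Fin s) ℂ) A) ≤ RingHom.ker ev := by
      have : RingHom.ker (algebraMap (MvPolynomial (Fin s) ℂ) A) = ⊥ :=
        (RingHom.injective_iff_ker_eq_bot _).1 hginj
      rw [this]
      exact bot_le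
    obtain ⟨Q, hQmax, hQ⟩ := Ideal.exists_ideal_over_maximal_of_isIntegral (S := A)
      (RingHom.ker ev) hker
    letI : Field (A ⧸ Q) := Ideal.Quotient.field Q
    haveI : Algebra.FiniteType ℂ (A ⧸ Q) :=
      Algebra.FiniteType.of_surjective (Ideal.Quotient.mkₐ ℂ Q) (Ideal.Quotient.mkₐ_surjective ℂ Q)
    haveI : Module.Finite ℂ (A ⧸ Q) := finite_of_finite_type_of_isJacobsonRing ℂ (A ⧸ Q)
    have hbij : Function.Bijective (algebraMap ℂ (A ⧸ Q)) :=
      IsAlgClosed.algebraMap_bijective_of_isIntegral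
    let e : ℂ ≃ₐ[ℂ] (A ⧸ Q) := AlgEquiv.ofBijective (Algebra.ofId ℂ (A ⧸ Q)) hbij
    let φ : A →ₐ[ℂ] ℂ := (e.symm : (A ⧸ Q) →ₐ[ℂ] ℂ).comp (Ideal.Quotient.mkₐ ℂ Q)
    refine ⟨φ, ?_⟩
    have h1 : (MvPolynomial.X ⟨0, hs⟩ - MvPolynomial.C c : MvPolynomial (Fin s) ℂ) ∈
        RingHom.ker ev := by
      rw [RingHom.mem_ker]
      simp [ev, z]
    rw [← hQ, Ideal.mem_comap] at h1
    have h2 : φ (algebraMap (MvPolynomial (Fin s) ℂ) A
        (MvPolynomial.X ⟨0, hs⟩ - MvPolynomial.C c)) = 0 := by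
      change e.symm (Ideal.Quotient.mk Q _) = 0
      rw [Ideal.Quotient.eq_zero_iff_mem.2 h1, map_zero]
    have h3 : algebraMap (MvPolynomial (Fin s) ℂ) A = g.toRingHom := rfl
    rw [h3, map_sub, map_sub] at h2
    have h4 : φ (g.toRingHom (MvPolynomial.C c)) = c := by
      have : g.toRingHom (MvPolynomial.C c) = algebraMap ℂ A c := by
        change g (algebraMap ℂ _ c) = _
        exact g.commutes c
      rw [this, φ.commutes]
      rfl
    rw [h4, sub_eq_zero] at h2
    exact h2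

end Groth.Agent.Helper4.AnNoether
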