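import Groth.Prelude.Def_AnPts
import Groth.Agent.Helper4.AnLocCompact
import Groth.Agent.Helper4.AnInjective
import Groth.Agent.Helper4.AnNoether
import Mathlib
set_option autoImplicit false
open CategoryTheory AlgebraicGeometry Topology TopologicalSpace CategoryTheory.Limits
open An

namespace Groth.Agent.Helper4.AnDiscrete
open Groth.Agent.Helper4.AnTop Groth.Agent.Helper4.AnOpenImm Groth.Agent.Helper4.AnJacobson
open Groth.Agent.Helper4.AnLocCompact Groth.Agent.Helper4.AnInjective

theorem finiteType_strHom (X : Scheme.{0}) [X.Over SC] [IsAffine X]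
    [LocallyOfFiniteType (X ↘ SC)] : (strHom X).FiniteType := by
  have hle : (⊤ : X.Opens) ≤ (X ↘ SC) ⁻¹ᵁ (⊤ : SC.Opens) := le_top
  have hft := (X ↘ SC).finiteType_appLE (isAffineOpen_top SC) (isAffineOpen_top X) hle
  unfold strHom
  have e : (X ↘ SC).appLE ⊤ ⊤ hle = (X ↘ SC).appTop := (X ↘ SC).appLE_eq_app
  have hft2 : (X ↘ SC).appTop.hom.FiniteType := by rw [← e]; exact hft
  refine RingHom.FiniteType.comp hft2 ?_
  exact RingHom.FiniteType.of_surjective _
    ((ConcreteCategory.bijective_of_isIso (Scheme.ΓSpecIso (CommRingCat.of ℂ)).inv).2)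

theorem discrete_of_affine (X : Scheme.{0}) [X.Over SC] [IsAffine X]
    [LocallyOfFiniteType (X ↘ SC)] [DiscreteTopology (Pts X)] : DiscreteTopology X := by
  obtain ⟨n, s, hs⟩ := exists_generators X
  haveI : SecondCountableTopology (Pts X) :=
    (coordMap_isClosedEmbedding s hs).isEmbedding.secondCountableTopology
  haveI : Countable (Pts X) := separableSpace_iff_countable.1 inferInstance
  letI : Algebra ℂ Γ(X, ⊤) := (strHom X).toAlgebra
  haveI : Algebra.FiniteType ℂ Γ(X, ⊤) := finiteType_strHom X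
  have hfin : Module.Finite ℂ Γ(X, ⊤) := by
    by_contra hnf
    obtain ⟨t, ht⟩ := Groth.Agent.Helper4.AnNoether.exists_elem_all_values Γ(X, ⊤) hnf
    choose φ hφ using ht
    have hφ1 : ∀ c, (φ c : Γ(X, ⊤) →+* ℂ).comp (strHom X) = RingHom.id ℂ := by
      intro c
      ext d
      exact (φ c).commutes d
    let F : ℂ → Pts X := fun c => ofHom (φ c : Γ(X, ⊤) →+* ℂ) (hφ1 c)
    have hF : Function.Injective F := by
      intro c d hcd
      have h1 : (F c).evTop t = (F d).evTop t := by rw [hcd]
      rw [evTop_ofHom, evTop_ofHom] at h1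
      have h2 := hφ c
      have h3 := hφ d
      exact h2.symm.trans (h1.trans h3)
    haveI : Countable ℂ := hF.countable
    exact not_countable_complex (Set.countable_univ)
  haveI : IsArtinianRing Γ(X, ⊤) := IsArtinianRing.of_finite ℂ Γ(X, ⊤)
  haveI : DiscreteTopology (Spec Γ(X, ⊤)) :=
    inferInstanceAs (DiscreteTopology (PrimeSpectrum Γ(X, ⊤)))
  exact (Scheme.homeoOfIso X.isoSpec).symm.discreteTopology


theorem discrete_iff (X : Scheme.{0}) [X.Over SC] [LocallyOfFiniteType (X ↘ SC)] :
    DiscreteTopology X ↔ DiscreteTopology (Pts X) := by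
  constructor
  · intro h
    rw [discreteTopology_iff_isOpen_singleton]
    intro a
    have : ({a} : Set (Pts X)) = Pts.pt ⁻¹' {a.pt} := by
      ext b
      simp only [Set.mem_singleton_iff, Set.mem_preimage]
      constructor
      · rintro rfl
        rfl
      · intro hb
        exact pts_ext_of_pt X hb
    rw [this]
    exact (isOpen_discrete _).preimage Pts.continuous_pt
  · intro h
    rw [discreteTopology_iff_isOpen_singleton]
    intro x
    obtain ⟨_, ⟨U', hU' : IsAffineOpen U', rfl⟩, hxU', -⟩ :=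
      (X.isBasis_affineOpens).exists_subset_of_mem_open (Set.mem_univ x) isOpen_univ
    obtain ⟨U, hU, hxU⟩ : ∃ U : X.Opens, IsAffineOpen U ∧ x ∈ U := ⟨U', hU', hxU'⟩
    letI : (U : Scheme.{0}).Over SC := ⟨U.ι ≫ X ↘ SC⟩
    haveI : U.ι.IsOver SC := ⟨rfl⟩
    haveI : IsAffine (U : Scheme.{0}) := hU
    haveI : LocallyOfFiniteType ((U : Scheme.{0}) ↘ SC) := by
      change LocallyOfFiniteType (U.ι ≫ X ↘ SC)
      infer_instance
    haveI : DiscreteTopology (Pts (U : Scheme.{0})) :=
      (isOpenEmbedding_map U.ι).isEmbedding.discreteTopology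
    haveI := discrete_of_affine (U : Scheme.{0})
    let x' : (U : Scheme.{0}) := ⟨x, hxU⟩
    have : ({x} : Set X) = U.ι '' ({x'} : Set (U : Scheme.{0})) := by
      rw [Set.image_singleton]
      rfl
    rw [this]
    exact U.ι.isOpenEmbedding.isOpenMap _ (isOpen_discrete _)

end Groth.Agent.Helper4.AnDiscrete
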