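import Groth.Prelude.Def_AnPts
import Groth.Agent.Helper4.AnOpenImm
import Groth.Agent.Helper4.AnEps
import Mathlib
set_option autoImplicit false
open CategoryTheory AlgebraicGeometry Topology TopologicalSpace CategoryTheory.Limits
open An

namespace Groth.Agent.Helper4.AnImmersion
open Groth.Agent.Helper4.AnTop Groth.Agent.Helper4.AnOpenImm

variable {X Y : Scheme.{0}} [X.Over SC] [Y.Over SC]

lemma map_congr {g g' : X ⟶ Y} (h : g = g') [g.IsOver SC] [g'.IsOver SC] :
    Pts.map g = Pts.map g' := by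
  subst h
  rfl

variable (f : X ⟶ Y) [f.IsOver SC]

/-- For a topological closed embedding which is surjective on affine sections (e.g. a closed
immersion), the complex topology on the source is induced. -/
theorem isInducing_of_isClosedImmersion [IsClosedImmersion f] : IsInducing (Pts.map f) := by
  rw [isInducing_iff]
  apply le_antisymm
  · exact (Pts.continuous_map f).le_induced
  · apply le_generateFrom
    rintro _ ⟨U, s, V, hV, rfl⟩
    rw [@isOpen_iff_forall_mem_open _ (TopologicalSpace.induced (Pts.map f) Pts.topologicalSpace)]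
    rintro x ⟨h, hv⟩
    obtain ⟨U'', hU''o, hU''⟩ := f.isEmbedding.isInducing.isOpen_iff.1 U.2
    let U' : Y.Opens := ⟨U'', hU''o⟩
    have hfx : f x.pt ∈ U' := by
      have : x.pt ∈ f ⁻¹' U'' := by rw [hU'']; exact h
      exact this
    obtain ⟨_, ⟨W, hW : IsAffineOpen W, rfl⟩, hxW, hWU⟩ :=
      (Y.isBasis_affineOpens).exists_subset_of_mem_open hfx U'.2
    have hle : f ⁻¹ᵁ W ≤ U := by
      intro p hp
      have : p ∈ f ⁻¹' U'' := hWU hp
      rw [hU''] at this
      exact this
    obtain ⟨t, ht⟩ := f.app_surjective W hW (X.presheaf.map (homOfLE hle).op s)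
    refine ⟨Pts.basicSet (f ⁻¹ᵁ W) (f.app W t) V, ?_, ?_, ?_⟩
    · rintro y ⟨hy, hyv⟩
      refine ⟨hle hy, ?_⟩
      rw [ht, ev_res y hle hy s] at hyv
      exact hyv
    · rw [← Pts.preimage_basicSet]
      exact isOpen_induced (Pts.isOpen_basicSet _ _ hV)
    · refine ⟨hxW, ?_⟩
      rw [ht, ev_res x hle hxW s]
      exact hv

theorem range_map_of_lft [LocallyOfFiniteType f] :
    Set.range (Pts.map f) = Pts.pt ⁻¹' (Set.range f) := by
  ext y
  constructor
  · rintro ⟨x, rfl⟩
    change (Pts.map f x).pt ∈ Set.range f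
    rw [Pts.pt_map]
    exact ⟨_, rfl⟩
  · rintro ⟨p, hp⟩
    exact Groth.Agent.Helper4.AnEps.exists_lift_pts f y p hp

theorem isClosedEmbedding_map [IsClosedImmersion f] : IsClosedEmbedding (Pts.map f) := by
  refine ⟨⟨isInducing_of_isClosedImmersion f, map_injective_of_mono f⟩, ?_⟩
  rw [range_map_of_lft]
  exact f.isClosedEmbedding.isClosed_range.preimage Pts.continuous_pt


theorem isEmbedding_map_of_isImmersion [IsImmersion f] :
    IsEmbedding (Pts.map f) ∧ IsLocallyClosed (Set.range (Pts.map f)) := by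
  let Z : Y.Opens := f.coborderRange
  letI : (Z : Scheme.{0}).Over SC := ⟨Z.ι ≫ Y ↘ SC⟩
  haveI : Z.ι.IsOver SC := ⟨rfl⟩
  haveI : f.liftCoborder.IsOver SC := ⟨by
    change f.liftCoborder ≫ Z.ι ≫ Y ↘ SC = X ↘ SC
    rw [← Category.assoc, Scheme.Hom.liftCoborder_ι, comp_over f]⟩
  have hfac : f = f.liftCoborder ≫ Z.ι := (Scheme.Hom.liftCoborder_ι f).symm
  have hmap : Pts.map f = Pts.map Z.ι ∘ Pts.map f.liftCoborder := by
    rw [map_congr hfac]
    funext x
    exact Pts.map_comp _ _ x
  have h1 := isOpenEmbedding_map Z.ι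
  have h2 := isClosedEmbedding_map f.liftCoborder
  rw [hmap]
  refine ⟨h1.isEmbedding.comp h2.isEmbedding, ?_⟩
  rw [Set.range_comp]
  exact h2.isClosed_range.isLocallyClosed.image h1.isInducing h1.isOpen_range.isLocallyClosed

end Groth.Agent.Helper4.AnImmersion
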