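import Groth.Prelude.Def_AnPts
import Groth.Agent.Helper4.AnDensD
import Groth.Agent.Helper4.AnDiscrete
import Groth.Agent.Helper4.AnImmersion
import Mathlib
set_option autoImplicit false
open CategoryTheory AlgebraicGeometry Topology TopologicalSpace CategoryTheory.Limits
open An

namespace Groth.Agent.Helper4.AnDensE
open Groth.Agent.Helper4.AnTop Groth.Agent.Helper4.AnOpenImm Groth.Agent.Helper4.AnJacobson
open Groth.Agent.Helper4.AnLocCompact Groth.Agent.Helper4.AnDensD

/-- On an integral affine scheme of finite type over `ℂ`, the `ℂ`-points of a nonempty basic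
open are dense for the complex topology. -/
theorem dense_basicOpen (X : Scheme.{0}) [X.Over SC] [IsAffine X] [IsIntegral X]
    [LocallyOfFiniteType (X ↘ SC)] (h : Γ(X, ⊤)) (hh : h ≠ 0) :
    Dense (Pts.pt ⁻¹' (X.basicOpen h : Set X) : Set (Pts X)) := by
  letI : Algebra ℂ Γ(X, ⊤) := (strHom X).toAlgebra
  haveI : Algebra.FiniteType ℂ Γ(X, ⊤) := Groth.Agent.Helper4.AnDiscrete.finiteType_strHom X
  obtain ⟨N, s, hs⟩ := exists_generators X
  have hs' : Function.Surjective
      (MvPolynomial.aeval s : MvPolynomial (Fin N) ℂ →ₐ[ℂ] Γ(X, ⊤)) := hs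
  intro x₀
  rw [(coordMap_isClosedEmbedding s hs).isInducing.closure_eq_preimage_closure_image,
    Set.mem_preimage, Metric.mem_closure_iff]
  intro ε hε
  let φ₀ : Γ(X, ⊤) →ₐ[ℂ] ℂ := { evTopHom x₀ with commutes' := fun c => ev_strHom x₀ c }
  obtain ⟨φ, hφh, hφε⟩ := dense_nonvanishing s hs' h hh φ₀ ε hε
  have hφ1 : (φ : Γ(X, ⊤) →+* ℂ).comp (strHom X) = RingHom.id ℂ := by
    ext c
    exact φ.commutes c
  let x := ofHom (φ : Γ(X, ⊤) →+* ℂ) hφ1
  refine ⟨coordMap s x, ⟨x, ?_, rfl⟩, ?_⟩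
  · rw [Set.mem_preimage, SetLike.mem_coe, mem_basicOpen_iff x ⊤ (Opens.mem_top _) h]
    change x.evTop h ≠ 0
    rw [evTop_ofHom]
    exact hφh
  · rw [dist_eq_norm, ← norm_neg, neg_sub]
    have h1 : coordMap s x = coord s φ := by
      funext i
      change x.evTop (s i) = φ (s i)
      rw [evTop_ofHom]
      rfl
    have h2 : coordMap s x₀ = coord s φ₀ := rfl
    rw [h1, h2]
    exact hφε

end Groth.Agent.Helper4.AnDensE
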