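import Groth.Prelude.Def_AnPts
import Groth.Agent.Helper4.AnDensE
import Groth.Agent.S4372
import Mathlib
set_option autoImplicit false
open CategoryTheory AlgebraicGeometry Topology TopologicalSpace CategoryTheory.Limits
open An

namespace Groth.Agent.Helper4.AnDensF
open Groth.Agent.Helper4.AnTop Groth.Agent.Helper4.AnOpenImm Groth.Agent.Helper4.AnJacobson
open Groth.Agent.Helper4.AnLocCompact Groth.Agent.Helper4.AnDensE Groth.Agent.Helper4.AnImmersion

lemma irreducibleSpace_of_isInducing {Y X : Type*} [TopologicalSpace X] [TopologicalSpace Y]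
    (f : Y → X) (hf : IsInducing f) (h : IsIrreducible (Set.range f)) : IrreducibleSpace Y := by
  obtain ⟨⟨_, y, rfl⟩, hpre⟩ := h
  haveI : Nonempty Y := ⟨y⟩
  refine (irreducibleSpace_def Y).2 ⟨⟨y, trivial⟩, ?_⟩
  intro U V hU hV ⟨a, _, haU⟩ ⟨b, _, hbV⟩
  obtain ⟨U', hU', rfl⟩ := hf.isOpen_iff.1 hU
  obtain ⟨V', hV', rfl⟩ := hf.isOpen_iff.1 hV
  obtain ⟨_, ⟨c, rfl⟩, hcU, hcV⟩ := hpre U' V' hU' hV' ⟨f a, ⟨a, rfl⟩, haU⟩ ⟨f b, ⟨b, rfl⟩, hbV⟩
  exact ⟨c, trivial, hcU, hcV⟩

/-- On an integral affine scheme of finite type over `ℂ`, the `ℂ`-points of a nonempty open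
are dense for the complex topology. -/
theorem dense_of_isOpen (X : Scheme.{0}) [X.Over SC] [IsAffine X] [IsIntegral X]
    [LocallyOfFiniteType (X ↘ SC)] (U : X.Opens) (hU : (U : Set X).Nonempty) :
    Dense (Pts.pt ⁻¹' (U : Set X) : Set (Pts X)) := by
  obtain ⟨p, hp⟩ := hU
  obtain ⟨h, hhU, hph⟩ := (isAffineOpen_top X).exists_basicOpen_le (V := U) ⟨p, hp⟩
    (Opens.mem_top _)
  have hh : h ≠ 0 := by
    rintro rfl
    rw [Scheme.basicOpen_zero] at hph
    exact hph
  refine (dense_basicOpen X h hh).mono ?_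
  exact Set.preimage_mono hhU

/-- The density statement for the trace of an open on an irreducible closed subset. -/
theorem mem_closure_of_isIrreducible (X : Scheme.{0}) [X.Over SC] [IsAffine X]
    [LocallyOfFiniteType (X ↘ SC)] (Z : Set X) (hZ : IsClosed Z) (hZi : IsIrreducible Z)
    (U : X.Opens) (hZU : (Z ∩ (U : Set X)).Nonempty) (x : Pts X) (hx : x.pt ∈ Z) :
    x ∈ closure (Pts.pt ⁻¹' (Z ∩ (U : Set X)) : Set (Pts X)) := by
  let C : Closeds X := ⟨Z, hZ⟩
  let I := Scheme.IdealSheafData.vanishingIdeal C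
  let Y := I.subscheme
  let ι : Y ⟶ X := I.subschemeι
  have hrange : Set.range ι = Z := by
    rw [Scheme.IdealSheafData.range_subschemeι, Groth.Agent.S4372.support_vanishingIdeal]
    rfl
  haveI : IsReduced Y := Groth.Agent.S4372.isReduced_vanishingIdeal_subscheme C
  haveI : IsAffine Y := isAffine_of_isAffineHom ι
  haveI : IrreducibleSpace Y :=
    irreducibleSpace_of_isInducing ι ι.isEmbedding.isInducing (by rw [hrange]; exact hZi)
  haveI : IsIntegral Y := isIntegral_of_irreducibleSpace_of_isReduced Y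
  letI : Y.Over SC := ⟨ι ≫ X ↘ SC⟩
  haveI : ι.IsOver SC := ⟨rfl⟩
  haveI : LocallyOfFiniteType (Y ↘ SC) := by
    change LocallyOfFiniteType (ι ≫ X ↘ SC)
    infer_instance
  obtain ⟨y, hy⟩ : x.pt ∈ Set.range ι := by rw [hrange]; exact hx
  obtain ⟨x', hx'⟩ := Groth.Agent.Helper4.AnEps.exists_lift_pts ι x y hy
  have hne : ((ι ⁻¹ᵁ U : Y.Opens) : Set Y).Nonempty := by
    obtain ⟨p, hpZ, hpU⟩ := hZU
    obtain ⟨q, rfl⟩ : p ∈ Set.range ι := by rw [hrange]; exact hpZ
    exact ⟨q, hpU⟩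
  have hd := dense_of_isOpen Y (ι ⁻¹ᵁ U) hne
  rw [← hx']
  refine map_mem_closure (Pts.continuous_map ι) (hd x') ?_
  intro w hw
  rw [Set.mem_preimage, Pts.pt_map]
  refine ⟨?_, hw⟩
  rw [← hrange]
  exact ⟨_, rfl⟩


/-- density for locally closed pieces `U \ V`. -/
theorem mem_closure_sdiff (X : Scheme.{0}) [X.Over SC] [IsAffine X]
    [LocallyOfFiniteType (X ↘ SC)] (U V : Set X) (hU : IsOpen U) (hV : IsOpen V) (x : Pts X)
    (hx : x.pt ∈ closure (U \ V)) : x ∈ closure (Pts.pt ⁻¹' (U \ V) : Set (Pts X)) := by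
  haveI : IsLocallyNoetherian X := LocallyOfFiniteType.isLocallyNoetherian (X ↘ SC)
  haveI : IsNoetherian X := { }
  haveI : NoetherianSpace X := inferInstance
  obtain ⟨S, hSf, hSc, hSi, hSU⟩ :=
    NoetherianSpace.exists_finite_set_isClosed_irreducible (hV.isClosed_compl)
  have h1 : U \ V = ⋃ t ∈ S, (t ∩ U) := by
    rw [Set.diff_eq, Set.inter_comm, hSU, Set.sUnion_eq_biUnion, Set.iUnion₂_inter]
  rw [h1, hSf.closure_biUnion] at hx
  obtain ⟨t, htS, hxt⟩ := Set.mem_iUnion₂.1 hx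
  have hne : (t ∩ U).Nonempty := by
    by_contra hem
    rw [Set.not_nonempty_iff_eq_empty] at hem
    rw [hem, closure_empty] at hxt
    exact hxt
  have hxt' : x.pt ∈ t := by
    have : closure (t ∩ U) ⊆ t := closure_minimal Set.inter_subset_left (hSc t htS)
    exact this hxt
  have h2 := mem_closure_of_isIrreducible X t (hSc t htS) (hSi t htS) ⟨U, hU⟩ hne x hxt'
  refine closure_mono ?_ h2
  apply Set.preimage_mono
  rw [h1]
  exact Set.subset_biUnion_of_mem (u := fun t => t ∩ U) htS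

/-- density for constructible subsets of an affine scheme of finite type over `ℂ`. -/
theorem mem_closure_of_isConstructible (X : Scheme.{0}) [X.Over SC] [IsAffine X]
    [LocallyOfFiniteType (X ↘ SC)] (T : Set X) (hT : IsConstructible T) :
    ∀ x : Pts X, x.pt ∈ closure T → x ∈ closure (Pts.pt ⁻¹' T : Set (Pts X)) := by
  refine BooleanSubalgebra.closure_sdiff_sup_induction
    (p := fun s _ => ∀ x : Pts X, x.pt ∈ closure s → x ∈ closure (Pts.pt ⁻¹' s : Set (Pts X)))
    ?_ ?_ ?_ ?_ ?_ T hT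
  · exact ⟨fun s hs t ht ↦ ⟨hs.1.union ht.1, hs.2.union ht.2⟩,
      fun s hs t ht ↦ ⟨hs.1.inter ht.1, hs.2.inter_isOpen ht.2 ht.1⟩⟩
  · exact ⟨isOpen_empty, .empty⟩
  · exact ⟨isOpen_univ, .univ⟩
  · intro U hU V hV x hx
    exact mem_closure_sdiff X U V hU.1 hV.1 x hx
  · intro s _ t _ ihs iht x hx
    change x.pt ∈ closure (s ∪ t) at hx
    change x ∈ closure (Pts.pt ⁻¹' (s ∪ t))
    rw [closure_union] at hx
    rw [Set.preimage_union, closure_union]
    rcases hx with hx | hx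
    · exact Or.inl (ihs x hx)
    · exact Or.inr (iht x hx)


/-- **Closure comparison.** For `X` locally of finite type over `ℂ` and `T` locally
constructible, the `ℂ`-points of the closure of `T` form the closure of the `ℂ`-points of `T`. -/
theorem preimage_closure (X : Scheme.{0}) [X.Over SC] [LocallyOfFiniteType (X ↘ SC)]
    (T : Set X) (hT : IsLocallyConstructible T) :
    (Pts.pt ⁻¹' closure T : Set (Pts X)) = closure (Pts.pt ⁻¹' T) := by
  apply Set.Subset.antisymm
  · intro x hx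
    obtain ⟨_, ⟨U', hU' : IsAffineOpen U', rfl⟩, hxU', -⟩ :=
      (X.isBasis_affineOpens).exists_subset_of_mem_open (Set.mem_univ x.pt) isOpen_univ
    obtain ⟨U, hU, hxU⟩ : ∃ U : X.Opens, IsAffineOpen U ∧ x.pt ∈ U := ⟨U', hU', hxU'⟩
    letI : (U : Scheme.{0}).Over SC := ⟨U.ι ≫ X ↘ SC⟩
    haveI : U.ι.IsOver SC := ⟨rfl⟩
    haveI : IsAffine (U : Scheme.{0}) := hU
    haveI : LocallyOfFiniteType ((U : Scheme.{0}) ↘ SC) := by
      change LocallyOfFiniteType (U.ι ≫ X ↘ SC)
      infer_instance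
    obtain ⟨x', rfl⟩ : x ∈ Set.range (Pts.map U.ι) := by
      rw [range_map_openImmersion]
      change x.pt ∈ Set.range U.ι
      rw [Scheme.Opens.range_ι]
      exact hxU
    have hemb : IsOpenEmbedding U.ι := U.ι.isOpenEmbedding
    have hT' : IsConstructible (U.ι ⁻¹' T) :=
      (hT.preimage_of_isOpenEmbedding hemb).isConstructible
    have hx' : x'.pt ∈ closure (U.ι ⁻¹' T) := by
      rw [← hemb.isOpenMap.preimage_closure_eq_closure_preimage hemb.continuous, Set.mem_preimage,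
        ← Pts.pt_map]
      exact hx
    have h1 := mem_closure_of_isConstructible (U : Scheme.{0}) _ hT' x' hx'
    refine map_mem_closure (Pts.continuous_map U.ι) h1 ?_
    intro w hw
    rw [Set.mem_preimage, Pts.pt_map]
    exact hw
  · exact closure_minimal (Set.preimage_mono subset_closure)
      (isClosed_closure.preimage Pts.continuous_pt)

end Groth.Agent.Helper4.AnDensF
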