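import Groth.Prelude.Def_AnPts
import Groth.Agent.Helper4.AnDensF
import Mathlib
set_option autoImplicit false
open CategoryTheory AlgebraicGeometry Topology TopologicalSpace CategoryTheory.Limits
open An

namespace Groth.Agent.Helper4.AnDensG
open Groth.Agent.Helper4.AnTop Groth.Agent.Helper4.AnOpenImm Groth.Agent.Helper4.AnJacobson
open Groth.Agent.Helper4.AnLocCompact Groth.Agent.Helper4.AnDensF Groth.Agent.Helper4.AnImmersion

/-- In a locally Noetherian scheme every open subset is locally constructible. -/
theorem isLocallyConstructible_of_isOpen (X : Scheme.{0}) [IsLocallyNoetherian X] (s : Set X)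
    (hs : IsOpen s) : IsLocallyConstructible s := by
  intro x
  obtain ⟨_, ⟨U, hU : IsAffineOpen U, rfl⟩, hxU, -⟩ :=
    (X.isBasis_affineOpens).exists_subset_of_mem_open (Set.mem_univ x) isOpen_univ
  refine ⟨U, U.2.mem_nhds hxU, U.2, ?_⟩
  haveI : IsNoetherianRing Γ(X, U) := IsLocallyNoetherian.component_noetherian ⟨U, hU⟩
  haveI : NoetherianSpace ((U : Set X) : Type) := by
    have : NoetherianSpace (Spec Γ(X, U)) :=
      inferInstanceAs (NoetherianSpace (PrimeSpectrum Γ(X, U)))
    exact (noetherianSpace_iff_of_homeomorph hU.isoSpec.hom.homeomorph).2 this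
  have hopen : IsOpen ((Subtype.val : U → X) ⁻¹' s) := hs.preimage continuous_subtype_val
  refine IsRetrocompact.isConstructible hopen ?_
  intro W _ _
  exact NoetherianSpace.isCompact _

theorem isLocallyConstructible_of_isClosed (X : Scheme.{0}) [IsLocallyNoetherian X] (s : Set X)
    (hs : IsClosed s) : IsLocallyConstructible s := by
  have := isLocallyConstructible_compl (isLocallyConstructible_of_isOpen X sᶜ hs.isOpen_compl)
  rwa [compl_compl] at this

section

variable (X : Scheme.{0}) [X.Over SC] [LocallyOfFiniteType (X ↘ SC)]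

theorem dense_iff (T : Set X) (hT : IsLocallyConstructible T) :
    Dense T ↔ Dense (Pts.pt ⁻¹' T : Set (Pts X)) := by
  haveI : IsLocallyNoetherian X := LocallyOfFiniteType.isLocallyNoetherian (X ↘ SC)
  rw [dense_iff_closure_eq, dense_iff_closure_eq, ← preimage_closure X T hT]
  constructor
  · intro h
    rw [h, Set.preimage_univ]
  · intro h
    apply eq_univ_of_forall_pts X (isLocallyConstructible_of_isClosed X _ isClosed_closure)
    intro a
    have : a ∈ (Pts.pt ⁻¹' closure T : Set (Pts X)) := by rw [h]; trivial
    exact this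

theorem isOpen_iff (T : Set X) (hT : IsLocallyConstructible T) :
    IsOpen T ↔ IsOpen (Pts.pt ⁻¹' T : Set (Pts X)) := by
  haveI : IsLocallyNoetherian X := LocallyOfFiniteType.isLocallyNoetherian (X ↘ SC)
  constructor
  · intro h
    exact h.preimage Pts.continuous_pt
  · intro h
    have hc : IsClosed (Pts.pt ⁻¹' Tᶜ : Set (Pts X)) := by
      rw [Set.preimage_compl]
      exact h.isClosed_compl
    have hTc := isLocallyConstructible_compl hT
    have h1 := preimage_closure X Tᶜ hTc
    rw [hc.closure_eq] at h1
    -- the locally constructible set `closure Tᶜ ∩ T` has no `ℂ`-points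
    have h2 : closure Tᶜ ∩ T = ∅ := by
      by_contra hne
      obtain ⟨a, ha⟩ := exists_pts_of_isLocallyConstructible X
        ((isLocallyConstructible_of_isClosed X _ isClosed_closure).inter hT)
        (Set.nonempty_iff_ne_empty.2 hne)
      have : a ∈ (Pts.pt ⁻¹' Tᶜ : Set (Pts X)) := by
        rw [← h1]
        exact ha.1
      exact this ha.2
    have h3 : closure Tᶜ ⊆ Tᶜ := by
      intro p hp hpT
      have : p ∈ closure Tᶜ ∩ T := ⟨hp, hpT⟩
      rw [h2] at this
      exact this
    have h4 : IsClosed Tᶜ := closure_subset_iff_isClosed.1 h3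
    exact isClosed_compl_iff.1 h4

end

section

variable (X Y : Scheme.{0}) [X.Over SC] [LocallyOfFiniteType (X ↘ SC)]
  [Y.Over SC] [LocallyOfFiniteType (Y ↘ SC)] (f : X ⟶ Y) [f.IsOver SC]

theorem denseRange_iff [QuasiCompact f] :
    DenseRange f.base ↔ DenseRange (Pts.map f) := by
  haveI := lft_of_over X Y f
  haveI := isLocallyNoetherian_of_lft Y
  haveI := lfp_of_lft f
  have hc : IsLocallyConstructible (Set.range f) := by
    rw [← Set.image_univ]
    exact f.isLocallyConstructible_image IsLocallyConstructible.univ
  unfold DenseRange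
  rw [range_map_of_lft f]
  exact dense_iff Y _ hc

end

end Groth.Agent.Helper4.AnDensG
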