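import Mathlib
import Groth.Agent.Helper4.AnDensD
set_option autoImplicit false

namespace Groth.Agent.Helper4.AnFinA
open Groth.Agent.Helper4.AnDensD
open Polynomial

variable {A : Type} [CommRing A] [Algebra ℂ A] {N : ℕ} (s : Fin N → A)
  {n : ℕ} [Algebra (MvPolynomial (Fin n) ℂ) A] [IsScalarTower ℂ (MvPolynomial (Fin n) ℂ) A]
  [Module.Finite (MvPolynomial (Fin n) ℂ) A]

/-- boundedness of the points lying over a compact set. -/
lemma exists_bound_of_isCompact (K : Set (Fin n → ℂ)) (hK : IsCompact K) :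
    ∃ B : ℝ, ∀ φ : A →ₐ[ℂ] ℂ, proj φ ∈ K → ‖coord s φ‖ ≤ B := by
  choose P hPmon hP using fun i => exists_monic (n := n) (s i)
  choose C hC using fun i =>
    hK.exists_bound_of_continuousOn (continuous_rootBound (P i)).continuousOn
  refine ⟨∑ i, |C i|, fun φ hφ => ?_⟩
  have hB : 0 ≤ ∑ i, |C i| := Finset.sum_nonneg fun i _ => abs_nonneg _
  rw [pi_norm_le_iff_of_nonneg hB]
  intro i
  have h1 := norm_le_rootBound (P i) (hPmon i) (proj φ) (φ (s i))
    (isRoot_of_aeval φ (s i) (P i) (hP i))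
  have h2 := hC i (proj φ) hφ
  have h3 : rootBound (P i) (proj φ) ≤ |C i| :=
    (le_abs_self _).trans ((Real.norm_eq_abs _ ▸ h2).trans (le_abs_self _))
  calc ‖coord s φ i‖ = ‖φ (s i)‖ := rfl
    _ ≤ rootBound (P i) (proj φ) := h1
    _ ≤ |C i| := h3
    _ ≤ ∑ i, |C i| := Finset.single_le_sum (f := fun i => |C i|) (fun _ _ => abs_nonneg _)
        (Finset.mem_univ i)

end Groth.Agent.Helper4.AnFinA
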