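import Mathlib
set_option autoImplicit false
open MvPolynomial

namespace Groth.Agent.Helper4.AnIFTA

variable {κ : Type*} [Fintype κ] [DecidableEq κ]

/-- The candidate derivative of `z ↦ eval z p` at `z`. -/
noncomputable def D (p : MvPolynomial κ ℂ) (z : κ → ℂ) : (κ → ℂ) →L[ℂ] ℂ :=
  ∑ i, eval z (pderiv i p) • (ContinuousLinearMap.proj (R := ℂ) (φ := fun _ : κ => ℂ) i)

lemma D_apply (p : MvPolynomial κ ℂ) (z h : κ → ℂ) :
    D p z h = ∑ i, eval z (pderiv i p) * h i := by
  simp [D, ContinuousLinearMap.sum_apply]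

/-- The Fréchet derivative of evaluation of a multivariate polynomial. -/
theorem hasFDerivAt_eval (p : MvPolynomial κ ℂ) (z : κ → ℂ) :
    HasFDerivAt (fun z : κ → ℂ => eval z p) (D p z) z := by
  induction p using MvPolynomial.induction_on with
  | C a =>
    have : D (C a) z = 0 := by
      ext h; simp [D_apply]
    rw [this]
    simp only [eval_C]
    exact hasFDerivAt_const a z
  | add p q hp hq =>
    have : D (p + q) z = D p z + D q z := by
      ext h; simp [D_apply, add_mul, Finset.sum_add_distrib]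
    rw [this]
    simp only [map_add]
    exact hp.add hq
  | mul_X p j hp =>
    have hX : HasFDerivAt (fun z : κ → ℂ => z j)
        (ContinuousLinearMap.proj (R := ℂ) (φ := fun _ : κ => ℂ) j) z :=
      (ContinuousLinearMap.proj (R := ℂ) (φ := fun _ : κ => ℂ) j).hasFDerivAt
    have h : HasFDerivAt (fun z : κ → ℂ => eval z p * z j)
        (eval z p • (ContinuousLinearMap.proj (R := ℂ) (φ := fun _ : κ => ℂ) j) + z j • D p z) z :=
      hp.mul hX
    have e1 : (fun z : κ → ℂ => eval z (p * X j)) = fun z => eval z p * z j := by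
      funext z; simp
    rw [e1]
    refine h.congr_fderiv ?_
    ext h
    simp only [D_apply, Derivation.leibniz, pderiv_X, smul_eq_mul, map_add, map_mul, eval_X,
      ContinuousLinearMap.add_apply, ContinuousLinearMap.smul_apply, ContinuousLinearMap.proj_apply]
    simp only [add_mul, Finset.sum_add_distrib]
    congr 1
    · rw [Finset.sum_eq_single j]
      · simp
      · intro b _ hb
        rw [Pi.single_eq_of_ne (Ne.symm hb)]
        simp
      · simp
    · rw [Finset.mul_sum]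
      refine Finset.sum_congr rfl fun i _ => ?_
      ring

variable (Q : κ → MvPolynomial κ ℂ)

/-- The polynomial self-map of `ℂ^κ` attached to a family of polynomials. -/
noncomputable def G (z : κ → ℂ) : κ → ℂ := fun k => eval z (Q k)

/-- Its derivative. -/
noncomputable def DG (z : κ → ℂ) : (κ → ℂ) →L[ℂ] (κ → ℂ) :=
  ContinuousLinearMap.pi fun k => D (Q k) z

lemma DG_apply (z h : κ → ℂ) (k : κ) : DG Q z h k = ∑ i, eval z (pderiv i (Q k)) * h i := by
  simp [DG, D_apply]

lemma hasFDerivAt_G (z : κ → ℂ) : HasFDerivAt (G Q) (DG Q z) z :=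
  hasFDerivAt_pi.2 fun k => hasFDerivAt_eval (Q k) z

lemma analyticAt_G (z : κ → ℂ) : AnalyticAt ℂ (G Q) z := by
  rw [show G Q = fun z k => eval z (Q k) from rfl]
  exact AnalyticAt.pi fun k => AnalyticOnNhd.eval_mvPolynomial (Q k) z (Set.mem_univ _)

theorem hasStrictFDerivAt_G (z : κ → ℂ) : HasStrictFDerivAt (G Q) (DG Q z) z := by
  have h := (analyticAt_G Q z).hasStrictFDerivAt
  rwa [(hasFDerivAt_G Q z).fderiv] at h

/-- Inverse function theorem for polynomial self-maps of `ℂ^κ`. -/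
theorem exists_openPartialHomeomorph (z₀ : κ → ℂ) (hinj : Function.Injective (DG Q z₀)) :
    ∃ e : OpenPartialHomeomorph (κ → ℂ) (κ → ℂ), z₀ ∈ e.source ∧ ⇑e = G Q := by
  let E₀ : (κ → ℂ) ≃ₗ[ℂ] (κ → ℂ) := LinearEquiv.ofInjectiveEndo (DG Q z₀ : (κ → ℂ) →ₗ[ℂ] (κ → ℂ)) hinj
  let E : (κ → ℂ) ≃L[ℂ] (κ → ℂ) := E₀.toContinuousLinearEquiv
  have hE : (E : (κ → ℂ) →L[ℂ] (κ → ℂ)) = DG Q z₀ := by
    ext h k
    rfl
  have hs : HasStrictFDerivAt (G Q) (E : (κ → ℂ) →L[ℂ] (κ → ℂ)) z₀ := by
    rw [hE]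
    exact hasStrictFDerivAt_G Q z₀
  exact ⟨hs.toOpenPartialHomeomorph (G Q), hs.mem_toOpenPartialHomeomorph_source,
    hs.toOpenPartialHomeomorph_coe⟩

end Groth.Agent.Helper4.AnIFTA
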