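import Mathlib
set_option autoImplicit false
open MvPolynomial

namespace Groth.Agent.Helper4.AnIFTB

variable {R A : Type} [CommRing R] [CommRing A] [Algebra ℂ R] [Algebra ℂ A] [Algebra R A]
  [IsScalarTower ℂ R A]
variable {ι σ : Type} [Finite σ] {m : ℕ}

/-- Substituting generators of `R` for the second block of variables. -/
noncomputable def Θ (ι : Type) (s : Fin m → R) :
    MvPolynomial (ι ⊕ Fin m) ℂ →ₐ[ℂ] MvPolynomial ι R :=
  aeval (Sum.elim X (C ∘ s))

lemma Θ_X_inl (s : Fin m → R) (i : ι) : Θ ι s (X (Sum.inl i)) = X i := by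
  simp [Θ]

lemma Θ_X_inr (s : Fin m → R) (k : Fin m) : Θ ι s (X (Sum.inr k)) = C (s k) := by
  simp [Θ]

lemma Θ_surjective (s : Fin m → R)
    (hs : Function.Surjective (aeval s : MvPolynomial (Fin m) ℂ →ₐ[ℂ] R)) :
    Function.Surjective (Θ ι s) := by
  intro q
  induction q using MvPolynomial.induction_on with
  | C r =>
    obtain ⟨q, rfl⟩ := hs r
    refine ⟨rename Sum.inr q, ?_⟩
    induction q using MvPolynomial.induction_on with
    | C c =>
      simp only [rename_C, aeval_C, Θ]
      rfl
    | add p q hp hq => simp only [map_add, hp, hq]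
    | mul_X p k hp =>
      simp only [map_mul, hp, rename_X, Θ_X_inr, aeval_X]
  | add p q hp hq =>
    obtain ⟨p', rfl⟩ := hp
    obtain ⟨q', rfl⟩ := hq
    exact ⟨p' + q', map_add _ _ _⟩
  | mul_X p i hp =>
    obtain ⟨p', rfl⟩ := hp
    exact ⟨p' * X (Sum.inl i), by rw [map_mul, Θ_X_inl]⟩

variable (P : Algebra.SubmersivePresentation R A ι σ) (s : Fin m → R)

/-- The combined family of generators of `A` over `ℂ`. -/
noncomputable def gens : ι ⊕ Fin m → A := Sum.elim P.val (algebraMap R A ∘ s)

lemma aeval_gens (q : MvPolynomial (ι ⊕ Fin m) ℂ) :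
    aeval (gens P s) q = aeval P.val (Θ ι s q) := by
  induction q using MvPolynomial.induction_on with
  | C c =>
    simp only [aeval_C, Θ, algebraMap_eq, ← IsScalarTower.algebraMap_apply]
    rw [IsScalarTower.algebraMap_apply ℂ R (MvPolynomial ι R), algebraMap_eq, aeval_C,
      ← IsScalarTower.algebraMap_apply]
  | add p q hp hq => simp only [map_add, hp, hq]
  | mul_X p k hp =>
    rw [map_mul, map_mul, map_mul, hp]
    congr 1
    cases k with
    | inl i => simp [gens, Θ]
    | inr k => simp [gens, Θ]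

lemma gens_surjective (hs : Function.Surjective (aeval s : MvPolynomial (Fin m) ℂ →ₐ[ℂ] R)) :
    Function.Surjective (aeval (gens P s) : MvPolynomial (ι ⊕ Fin m) ℂ →ₐ[ℂ] A) := by
  intro a
  obtain ⟨q, rfl⟩ := P.aeval_val_surjective a
  obtain ⟨q', rfl⟩ := Θ_surjective (ι := ι) s hs q
  exact ⟨q', aeval_gens P s q'⟩

/-- Evaluation at the coordinates of a point is the point applied to `aeval gens`. -/
lemma eval_gens (φ : A →+* ℂ) (hφ : ∀ c, φ (algebraMap ℂ A c) = c)
    (q : MvPolynomial (ι ⊕ Fin m) ℂ) :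
    eval (fun k => φ (gens P s k)) q = φ (aeval (gens P s) q) := by
  induction q using MvPolynomial.induction_on with
  | C c => simp [hφ]
  | add p q hp hq => simp only [map_add, hp, hq]
  | mul_X p k hp => simp only [map_mul, hp, eval_X, aeval_X]

/-- Evaluation at a point whose second block of coordinates comes from a point of `R` factors
through `Θ`. -/
lemma eval_eq_eval₂_Θ (p : R →+* ℂ) (hp : ∀ c, p (algebraMap ℂ R c) = c) (z : ι ⊕ Fin m → ℂ)
    (hz : ∀ k, z (Sum.inr k) = p (s k)) (q : MvPolynomial (ι ⊕ Fin m) ℂ) :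
    eval z q = eval₂ p (fun i => z (Sum.inl i)) (Θ ι s q) := by
  induction q using MvPolynomial.induction_on with
  | C c =>
    simp only [eval_C, Θ, aeval_C]
    rw [IsScalarTower.algebraMap_apply ℂ R (MvPolynomial ι R), algebraMap_eq, eval₂_C, hp]
  | add p q hp hq => simp only [map_add, hp, hq, eval₂_add]
  | mul_X p k hp =>
    rw [map_mul, map_mul, hp, eval₂_mul]
    congr 1
    cases k with
    | inl i => simp [Θ]
    | inr k => simp [Θ, hz]

variable (hs : Function.Surjective (aeval s : MvPolynomial (Fin m) ℂ →ₐ[ℂ] R))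

/-- Lifts of the relations to polynomials over `ℂ` in all the coordinates. -/
noncomputable def lift (j : σ) : MvPolynomial (ι ⊕ Fin m) ℂ :=
  (Θ_surjective (ι := ι) s hs (P.relation j)).choose

lemma Θ_lift (j : σ) : Θ ι s (lift P s hs j) = P.relation j :=
  (Θ_surjective (ι := ι) s hs (P.relation j)).choose_spec

/-- The lifted relations vanish at the coordinates of any point of `A`. -/
lemma eval_lift_eq_zero (φ : A →+* ℂ) (hφ : ∀ c, φ (algebraMap ℂ A c) = c) (j : σ) :
    eval (fun k => φ (gens P s k)) (lift P s hs j) = 0 := by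
  rw [eval_gens P s φ hφ, aeval_gens, Θ_lift, P.aeval_val_relation, map_zero]

lemma eval_pderiv_lift [Fintype σ] [DecidableEq σ] (φ : A →+* ℂ)
    (hφ : ∀ c, φ (algebraMap ℂ A c) = c) (i j : σ) :
    eval (fun k => φ (gens P s k)) (pderiv (Sum.inl (P.map i)) (lift P s hs j)) =
      φ (aeval P.val (P.jacobiMatrix i j)) := by
  rw [eval_gens P s φ hφ, aeval_gens, Θ, aeval_sumElim_pderiv_inl, ← Θ, Θ_lift,
    Algebra.PreSubmersivePresentation.jacobiMatrix_apply]

/-- The Jacobian matrix of the lifted relations is invertible at the coordinates of any point. -/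
lemma det_ne_zero [Fintype σ] [DecidableEq σ] (φ : A →+* ℂ)
    (hφ : ∀ c, φ (algebraMap ℂ A c) = c) :
    (Matrix.of fun i j : σ => eval (fun k => φ (gens P s k))
      (pderiv (Sum.inl (P.map i)) (lift P s hs j))).det ≠ 0 := by
  have e : (Matrix.of fun i j : σ => eval (fun k => φ (gens P s k))
      (pderiv (Sum.inl (P.map i)) (lift P s hs j))) =
      (φ.comp (aeval P.val : MvPolynomial ι R →ₐ[R] A).toRingHom).mapMatrix P.jacobiMatrix := by
    ext i j
    simp [eval_pderiv_lift P s hs φ hφ]
  rw [e, ← RingHom.map_det]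
  have h := P.jacobian_isUnit
  rw [Algebra.PreSubmersivePresentation.jacobian_eq_jacobiMatrix_det,
    Algebra.Generators.algebraMap_apply] at h
  exact (h.map φ).ne_zero

/-- A point with coordinates in the common zero locus of the lifted relations, lying over a point
of `R`, is a zero of the whole kernel. -/
lemma eval_eq_zero_of_mem_ker (p : R →+* ℂ) (hp : ∀ c, p (algebraMap ℂ R c) = c)
    (z : ι ⊕ Fin m → ℂ) (hz : ∀ k, z (Sum.inr k) = p (s k))
    (hrel : ∀ j, eval z (lift P s hs j) = 0) (q : MvPolynomial (ι ⊕ Fin m) ℂ)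
    (hq : aeval (gens P s) q = 0) : eval z q = 0 := by
  rw [eval_eq_eval₂_Θ s p hp z hz]
  have hmem : Θ ι s q ∈ P.ker := by
    rw [P.ker_eq_ker_aeval_val, RingHom.mem_ker, ← aeval_gens, hq]
  rw [← P.span_range_relation_eq_ker] at hmem
  have hle : Ideal.span (Set.range P.relation) ≤
      RingHom.ker (eval₂Hom p (fun i => z (Sum.inl i))) := by
    rw [Ideal.span_le]
    rintro _ ⟨j, rfl⟩
    rw [SetLike.mem_coe, RingHom.mem_ker, coe_eval₂Hom, ← Θ_lift P s hs j,
      ← eval_eq_eval₂_Θ s p hp z hz]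
    exact hrel j
  exact hle hmem

end Groth.Agent.Helper4.AnIFTB
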