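import Mathlib
set_option autoImplicit false
universe u
open CategoryTheory CategoryTheory.Limits AlgebraicGeometry

namespace Groth.Agent.Helper4.AnProdA

/-- the image of a map out of a pushout of commutative rings is generated by the images of the
two legs. -/
theorem range_desc_le {R A B C : CommRingCat.{u}} (f : R ⟶ A) (g : R ⟶ B) (a : A ⟶ C)
    (b : B ⟶ C) (w : f ≫ a = g ≫ b) (c : (pushout f g : CommRingCat.{u})) :
    (pushout.desc a b w).hom c ∈
      Subring.closure (Set.range a.hom ∪ Set.range b.hom) := by
  set C' : Subring C := Subring.closure (Set.range a.hom ∪ Set.range b.hom) with hC'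
  let a' : A ⟶ CommRingCat.of C' := CommRingCat.ofHom (a.hom.codRestrict C' fun x =>
    Subring.subset_closure (Or.inl ⟨x, rfl⟩))
  let b' : B ⟶ CommRingCat.of C' := CommRingCat.ofHom (b.hom.codRestrict C' fun x =>
    Subring.subset_closure (Or.inr ⟨x, rfl⟩))
  let ι : CommRingCat.of C' ⟶ C := CommRingCat.ofHom C'.subtype
  have ha : a' ≫ ι = a := by ext x; rfl
  have hb : b' ≫ ι = b := by ext x; rfl
  haveI : Mono ι := ConcreteCategory.mono_of_injective ι Subtype.val_injective
  have w' : f ≫ a' = g ≫ b' := by
    rw [← cancel_mono ι, Category.assoc, Category.assoc, ha, hb, w]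
  have key : pushout.desc a b w = pushout.desc a' b' w' ≫ ι := by
    apply pushout.hom_ext
    · rw [pushout.inl_desc, pushout.inl_desc_assoc, ha]
    · rw [pushout.inr_desc, pushout.inr_desc_assoc, hb]
  rw [key]
  exact ((pushout.desc a' b' w').hom c).2


/-- global sections of a fibre product of affine schemes are generated by the pullbacks of the
global sections of the factors. -/
theorem mem_closure_appTop {X Y S : Scheme.{u}} (f : X ⟶ S) (g : Y ⟶ S) [IsAffine X] [IsAffine Y]
    [IsAffine S] (c : Γ(pullback f g, ⊤)) :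
    c ∈ Subring.closure (Set.range (pullback.fst f g).appTop.hom ∪
      Set.range (pullback.snd f g).appTop.hom) := by
  have H : IsPullback (pullback.fst f g) (pullback.snd f g) f g := IsPullback.of_hasPullback f g
  have htop : ∀ {Y Z : Scheme.{u}} (k : Y ⟶ Z), k.appTop = k.appLE ⊤ ⊤ le_top := by
    intro Y Z k
    rw [Scheme.Hom.appTop, Scheme.Hom.app_eq_appLE]
    rfl
  haveI h2 : IsIso (pushoutSection H (US := ⊤) (UT := ⊤) (UX := ⊤) (UY := ⊤) le_top le_top
      (by simp)) :=
    isIso_pushoutSection_of_isAffineOpen H le_top le_top (by simp)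
      (isAffineOpen_top _) (isAffineOpen_top _) (isAffineOpen_top _)
  set e := pushoutSection H (US := ⊤) (UT := ⊤) (UX := ⊤) (UY := ⊤) le_top le_top (by simp)
    with he
  have hc : c = e.hom ((inv e).hom c) := by
    have : (inv e ≫ e).hom c = c := by rw [IsIso.inv_hom_id]; rfl
    exact this.symm
  rw [hc, htop, htop]
  exact range_desc_le _ _ _ _ _ _

end Groth.Agent.Helper4.AnProdA
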