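import Groth.Prelude.Def_AnPts
import Groth.Agent.Helper4.AnProdA
import Groth.Agent.Helper4.AnTop
import Groth.Agent.Helper4.AnOpenImm
import Mathlib
set_option autoImplicit false
open CategoryTheory AlgebraicGeometry Topology TopologicalSpace CategoryTheory.Limits
open An

namespace Groth.Agent.Helper4.AnProdB
open Groth.Agent.Helper4.AnTop Groth.Agent.Helper4.AnOpenImm

variable {X Y S : Scheme.{0}} [X.Over SC] [Y.Over SC] [S.Over SC] (f : X ⟶ S) (g : Y ⟶ S)
  [f.IsOver SC] [g.IsOver SC]

/-- the comparison map from the points of a fibre product to the fibre product of points. -/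
noncomputable def Φ (z : Pts (pullback f g)) :
    {q : Pts X × Pts Y // Pts.map f q.1 = Pts.map g q.2} :=
  ⟨(Pts.map (pullback.fst f g) z, Pts.map (pullback.snd f g) z), Pts.map_pullback_condition f g z⟩

lemma Φ_injective : Function.Injective (Φ f g) := by
  intro z w h
  have h1 : Pts.map (pullback.fst f g) z = Pts.map (pullback.fst f g) w :=
    congrArg (fun q => q.1.1) h
  have h2 : Pts.map (pullback.snd f g) z = Pts.map (pullback.snd f g) w :=
    congrArg (fun q => q.1.2) h
  apply Subtype.ext
  apply pullback.hom_ext
  · exact congrArg Subtype.val h1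
  · exact congrArg Subtype.val h2

lemma Φ_surjective : Function.Surjective (Φ f g) := by
  rintro ⟨⟨a, b⟩, hab⟩
  have hab' : a.1 ≫ f = b.1 ≫ g := congrArg Subtype.val hab
  refine ⟨⟨pullback.lift a.1 b.1 hab', ?_⟩, ?_⟩
  · change pullback.lift a.1 b.1 hab' ≫ (pullback.fst f g ≫ X ↘ SC) = 𝟙 SC
    rw [← Category.assoc, pullback.lift_fst]
    exact a.2
  · apply Subtype.ext
    apply Prod.ext
    · exact Subtype.ext (pullback.lift_fst _ _ _)
    · exact Subtype.ext (pullback.lift_snd _ _ _)

lemma Φ_continuous : Continuous (Φ f g) :=
  Continuous.subtype_mk ((Pts.continuous_map _).prodMk (Pts.continuous_map _)) _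

lemma evTop_map {X Y : Scheme.{0}} [X.Over SC] [Y.Over SC] (k : X ⟶ Y) [k.IsOver SC] (x : Pts X)
    (a : Γ(Y, ⊤)) : (Pts.map k x).evTop a = x.evTop (k.appTop a) :=
  Pts.ev_map k x ⊤ (Opens.mem_top _) a

/-- affine case: the comparison map is inducing. -/
theorem Φ_isInducing_of_isAffine [IsAffine X] [IsAffine Y] [IsAffine S] :
    IsInducing (Φ f g) := by
  rw [isInducing_iff]
  apply le_antisymm
  · exact (Φ_continuous f g).le_induced
  · apply le_generateFrom
    rintro _ ⟨U, t, V, hV, rfl⟩
    set τ : TopologicalSpace (Pts (pullback f g)) :=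
      TopologicalSpace.induced (Φ f g) instTopologicalSpaceSubtype with hτdef
    have hΦτ : @Continuous _ _ τ _ (Φ f g) := continuous_induced_dom
    apply isOpen_basicSet_of_affine τ _ U t V hV
    intro c
    have hc := Groth.Agent.Helper4.AnProdA.mem_closure_appTop f g c
    induction hc using Subring.closure_induction with
    | mem c hc =>
      rcases hc with ⟨a, rfl⟩ | ⟨b, rfl⟩
      · have hfst : Continuous (fun q : {q : Pts X × Pts Y // Pts.map f q.1 = Pts.map g q.2} =>
            (q.1.1).evTop a) :=
          (continuous_evTop a).comp (continuous_fst.comp continuous_subtype_val)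
        have : (fun z : Pts (pullback f g) => z.evTop ((pullback.fst f g).appTop.hom a)) =
            (fun q : {q : Pts X × Pts Y // Pts.map f q.1 = Pts.map g q.2} =>
              (q.1.1).evTop a) ∘ Φ f g := by
          funext z
          exact (evTop_map (pullback.fst f g) z a).symm
        rw [this]
        exact @Continuous.comp _ _ _ τ _ _ _ _ hfst hΦτ
      · have hsnd : Continuous (fun q : {q : Pts X × Pts Y // Pts.map f q.1 = Pts.map g q.2} =>
            (q.1.2).evTop b) :=
          (continuous_evTop b).comp (continuous_snd.comp continuous_subtype_val)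
        have : (fun z : Pts (pullback f g) => z.evTop ((pullback.snd f g).appTop.hom b)) =
            (fun q : {q : Pts X × Pts Y // Pts.map f q.1 = Pts.map g q.2} =>
              (q.1.2).evTop b) ∘ Φ f g := by
          funext z
          exact (evTop_map (pullback.snd f g) z b).symm
        rw [this]
        exact @Continuous.comp _ _ _ τ _ _ _ _ hsnd hΦτ
    | zero =>
      have : (fun z : Pts (pullback f g) => z.evTop (0 : Γ(pullback f g, ⊤))) = fun _ => 0 := by
        funext z
        exact map_zero (evTopHom z)
      rw [this]
      exact @continuous_const _ _ τ _ _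
    | one =>
      have : (fun z : Pts (pullback f g) => z.evTop (1 : Γ(pullback f g, ⊤))) = fun _ => 1 := by
        funext z
        exact map_one (evTopHom z)
      rw [this]
      exact @continuous_const _ _ τ _ _
    | add c d _ _ hc hd =>
      have : (fun z : Pts (pullback f g) => z.evTop (c + d)) =
          fun z => z.evTop c + z.evTop d := by
        funext z
        exact map_add (evTopHom z) c d
      rw [this]
      exact @Continuous.add _ _ _ _ _ τ _ _ hc hd
    | neg c _ hc =>
      have : (fun z : Pts (pullback f g) => z.evTop (-c)) = fun z => - z.evTop c := by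
        funext z
        exact map_neg (evTopHom z) c
      rw [this]
      exact @Continuous.comp _ _ _ τ _ _ _ _ continuous_neg hc
    | mul c d _ _ hc hd =>
      have : (fun z : Pts (pullback f g) => z.evTop (c * d)) =
          fun z => z.evTop c * z.evTop d := by
        funext z
        exact map_mul (evTopHom z) c d
      rw [this]
      exact @Continuous.mul _ _ _ _ _ τ _ _ hc hd

end Groth.Agent.Helper4.AnProdB
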