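import Groth.Agent.Helper4.AnCoordGen
import Groth.Agent.Helper4.AnIFTA
import Groth.Agent.Helper4.AnIFTB
import Groth.Agent.Helper4.AnProdB
import Groth.Agent.Helper4.AnLocCompact
set_option autoImplicit false
open CategoryTheory AlgebraicGeometry Topology TopologicalSpace CategoryTheory.Limits
open An MvPolynomial

namespace Groth.Agent.Helper4.AnIFTC
open Groth.Agent.Helper4.AnTop Groth.Agent.Helper4.AnCoordGen Groth.Agent.Helper4.AnIFTA
open Groth.Agent.Helper4.AnIFTB

variable {X Y : Scheme.{0}} [X.Over SC] [Y.Over SC] (g : X ⟶ Y) [g.IsOver SC]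

lemma appTop_comp_strHom : g.appTop.hom.comp (strHom Y) = strHom X := by
  unfold strHom
  have h : g ≫ Y ↘ SC = X ↘ SC := (Scheme.Hom.isOver_iff SC).1 inferInstance
  rw [← h, Scheme.Hom.comp_appTop]
  rfl

/-- The purely topological step: a map which, in suitable coordinates, is cut out by a polynomial
map that is a local homeomorphism near a point, restricts to an open embedding near that point. -/
theorem isOpenEmbedding_domRestrict {PX PY : Type} [TopologicalSpace PX] [TopologicalSpace PY]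
    {κ : Type} {m : ℕ} (f : PX → PY) (hf : Continuous f)
    (cX : PX → (κ ⊕ Fin m → ℂ)) (cY : PY → (Fin m → ℂ))
    (hcX : IsInducing cX) (hcXinj : Function.Injective cX)
    (hcYc : Continuous cY) (hcYinj : Function.Injective cY)
    (G : (κ ⊕ Fin m → ℂ) → (κ ⊕ Fin m → ℂ))
    (hG : ∀ x, G (cX x) = Sum.elim (0 : κ → ℂ) (cY (f x)))
    (hG' : ∀ (z : κ ⊕ Fin m → ℂ) (p : PY), G z = Sum.elim (0 : κ → ℂ) (cY p) →
      ∃ x, cX x = z ∧ f x = p)
    (e : OpenPartialHomeomorph (κ ⊕ Fin m → ℂ) (κ ⊕ Fin m → ℂ)) (he : ⇑e = G) :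
    IsOpenEmbedding ((cX ⁻¹' e.source).domRestrict f) := by
  refine IsOpenEmbedding.of_continuous_injective_isOpenMap ?_ ?_ ?_
  · exact hf.comp continuous_subtype_val
  · rintro ⟨x, hx⟩ ⟨x', hx'⟩ hxx'
    change f x = f x' at hxx'
    apply Subtype.ext
    apply hcXinj
    apply e.injOn hx hx'
    rw [he, hG, hG, hxx']
  · intro O hO
    obtain ⟨O', hO', rfl⟩ := isOpen_induced_iff.1 hO
    obtain ⟨W', hW', rfl⟩ := hcX.isOpen_iff.1 hO'
    have hW'' : IsOpen (e '' (W' ∩ e.source)) :=
      e.isOpen_image_of_subset_source (hW'.inter e.open_source) Set.inter_subset_right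
    have hj : Continuous (fun v : Fin m → ℂ => (Sum.elim (0 : κ → ℂ) v : κ ⊕ Fin m → ℂ)) := by
      refine continuous_pi fun k => ?_
      cases k with
      | inl i => exact continuous_const
      | inr k => exact continuous_apply k
    have key : (cX ⁻¹' e.source).domRestrict f '' (Subtype.val ⁻¹' (cX ⁻¹' W')) =
        cY ⁻¹' ((fun v : Fin m → ℂ => (Sum.elim (0 : κ → ℂ) v : κ ⊕ Fin m → ℂ)) ⁻¹'
          (e '' (W' ∩ e.source))) := by
      ext p
      constructor
      · rintro ⟨⟨x, hx⟩, hxW, rfl⟩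
        refine ⟨cX x, ⟨hxW, hx⟩, ?_⟩
        rw [he, hG]
        rfl
      · rintro ⟨z, ⟨hzW, hzs⟩, hz⟩
        rw [he] at hz
        obtain ⟨x, rfl, rfl⟩ := hG' z p hz
        exact ⟨⟨x, hzs⟩, hzW, rfl⟩
    rw [key]
    exact (hW''.preimage hj).preimage hcYc

/-- Affine case: an étale morphism of affine schemes of finite type over `ℂ` is a local
homeomorphism on `ℂ`-points. -/
theorem isLocalHomeomorph_of_isAffine [IsAffine X] [IsAffine Y] [LocallyOfFiniteType (Y ↘ SC)]
    [Etale g] : IsLocalHomeomorph (Pts.map g) := by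
  classical
  letI aY : Algebra ℂ Γ(Y, ⊤) := (strHom Y).toAlgebra
  letI aX : Algebra ℂ Γ(X, ⊤) := (strHom X).toAlgebra
  letI aXY : Algebra Γ(Y, ⊤) Γ(X, ⊤) := g.appTop.hom.toAlgebra
  haveI : IsScalarTower ℂ Γ(Y, ⊤) Γ(X, ⊤) :=
    IsScalarTower.of_algebraMap_eq' (appTop_comp_strHom g).symm
  have het : Algebra.Etale Γ(Y, ⊤) Γ(X, ⊤) :=
    (HasRingHomProperty.iff_of_isAffine (P := @Etale)).1 inferInstance
  obtain ⟨ι, σ, hσ, hι, P, hdim⟩ :=
    (Algebra.Etale.iff_isStandardSmoothOfRelativeDimension_zero.1 het).out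
  haveI := Fintype.ofFinite ι
  haveI := Fintype.ofFinite σ
  obtain ⟨m, s, hs0⟩ := Groth.Agent.Helper4.AnLocCompact.exists_generators Y
  have hs : Function.Surjective (aeval s : MvPolynomial (Fin m) ℂ →ₐ[ℂ] Γ(Y, ⊤)) := hs0
  have ht : Function.Surjective (MvPolynomial.eval₂Hom (strHom X) (gens P s)) :=
    gens_surjective P s hs
  -- the bijection between relations and variables
  have hcard : Nat.card ι ≤ Nat.card σ := by
    have : Nat.card ι - Nat.card σ = 0 := hdim
    omega
  have hbij : Function.Bijective P.map := P.map_inj.bijective_of_nat_card_le hcard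
  let eσ : σ ≃ ι := Equiv.ofBijective P.map hbij
  -- the polynomial map
  let Q : ι ⊕ Fin m → MvPolynomial (ι ⊕ Fin m) ℂ :=
    Sum.elim (fun i => lift P s hs (eσ.symm i)) (fun k => MvPolynomial.X (Sum.inr k))
  have hQinl : ∀ j : σ, Q (Sum.inl (P.map j)) = lift P s hs j := by
    intro j
    change lift P s hs (eσ.symm (P.map j)) = _
    congr 1
    exact eσ.symm_apply_apply j
  -- coordinates
  let cX : Pts X → (ι ⊕ Fin m → ℂ) := AnCoordGen.coordMap (gens P s)
  let cY : Pts Y → (Fin m → ℂ) := AnCoordGen.coordMap s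
  have hcXY : ∀ (x : Pts X) (k : Fin m), cX x (Sum.inr k) = cY (Pts.map g x) k := by
    intro x k
    change x.evTop (g.appTop.hom (s k)) = (Pts.map g x).evTop (s k)
    exact (Groth.Agent.Helper4.AnProdB.evTop_map g x (s k)).symm
  have hφ : ∀ (x : Pts X) (c : ℂ), evTopHom x (algebraMap ℂ Γ(X, ⊤) c) = c := fun x c =>
    ev_strHom x c
  have hφY : ∀ (p : Pts Y) (c : ℂ), evTopHom p (algebraMap ℂ Γ(Y, ⊤) c) = c := fun p c =>
    ev_strHom p c
  have hG : ∀ x, G Q (cX x) = Sum.elim (0 : ι → ℂ) (cY (Pts.map g x)) := by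
    intro x
    funext k
    cases k with
    | inl i =>
      obtain ⟨j, rfl⟩ := hbij.2 i
      change MvPolynomial.eval (cX x) (Q (Sum.inl (P.map j))) = 0
      rw [hQinl]
      exact eval_lift_eq_zero P s hs (evTopHom x) (hφ x) j
    | inr k =>
      change MvPolynomial.eval (cX x) (MvPolynomial.X (Sum.inr k)) = cY (Pts.map g x) k
      rw [MvPolynomial.eval_X, hcXY]
  have hG' : ∀ (z : ι ⊕ Fin m → ℂ) (p : Pts Y), G Q z = Sum.elim (0 : ι → ℂ) (cY p) →
      ∃ x, cX x = z ∧ Pts.map g x = p := by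
    intro z p hz
    have hz1 : ∀ k, z (Sum.inr k) = evTopHom p (s k) := by
      intro k
      have := congrFun hz (Sum.inr k)
      change MvPolynomial.eval z (MvPolynomial.X (Sum.inr k)) = cY p k at this
      rw [MvPolynomial.eval_X] at this
      exact this
    have hz2 : ∀ j, MvPolynomial.eval z (lift P s hs j) = 0 := by
      intro j
      have := congrFun hz (Sum.inl (P.map j))
      change MvPolynomial.eval z (Q (Sum.inl (P.map j))) = 0 at this
      rwa [hQinl] at this
    have hzr : z ∈ Set.range cX := by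
      rw [AnCoordGen.range_coordMap (gens P s) ht]
      simp only [Set.mem_iInter, Set.mem_ofPred_eq]
      intro q hq
      exact eval_eq_zero_of_mem_ker P s hs (evTopHom p) (hφY p) z hz1 hz2 q
        ((RingHom.mem_ker).1 hq)
    obtain ⟨x, rfl⟩ := hzr
    refine ⟨x, rfl, ?_⟩
    apply AnCoordGen.coordMap_injective s hs0
    funext k
    change cY (Pts.map g x) k = cY p k
    rw [← hcXY, hz1]
    rfl
  rw [isLocalHomeomorph_iff_isOpenEmbedding_restrict]
  intro x₀
  have hinj : Function.Injective (DG Q (cX x₀)) := by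
    rw [injective_iff_map_eq_zero]
    intro h hh
    have hr : ∀ k, h (Sum.inr k) = 0 := by
      intro k
      have h1 : DG Q (cX x₀) h (Sum.inr k) = 0 := by rw [hh]; rfl
      rw [DG_apply] at h1
      change ∑ i, MvPolynomial.eval (cX x₀) (pderiv i (MvPolynomial.X (Sum.inr k))) * h i = 0 at h1
      rw [Finset.sum_eq_single (Sum.inr k)] at h1
      · simpa using h1
      · intro b _ hb
        rw [pderiv_X, Pi.single_eq_of_ne (Ne.symm hb)]
        simp
      · simp
    let N : Matrix σ σ ℂ := Matrix.of fun i j : σ => MvPolynomial.eval (fun k => evTopHom x₀ (gens P s k))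
      (pderiv (Sum.inl (P.map i)) (lift P s hs j))
    have hN : N.det ≠ 0 := det_ne_zero P s hs (evTopHom x₀) (hφ x₀)
    have hv : Matrix.vecMul (fun i : σ => h (Sum.inl (P.map i))) N = 0 := by
      funext j
      have h1 : DG Q (cX x₀) h (Sum.inl (P.map j)) = 0 := by rw [hh]; rfl
      rw [DG_apply, hQinl, Fintype.sum_sum_type] at h1
      have h2 : ∑ k : Fin m, MvPolynomial.eval (cX x₀) (pderiv (Sum.inr k) (lift P s hs j)) *
          h (Sum.inr k) = 0 := Finset.sum_eq_zero fun k _ => by rw [hr k, mul_zero]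
      rw [h2, add_zero, ← hbij.sum_comp] at h1
      change ∑ i : σ, h (Sum.inl (P.map i)) * N i j = 0
      rw [← h1]
      refine Finset.sum_congr rfl fun i _ => ?_
      rw [mul_comm]
      rfl
    have hv0 := Matrix.eq_zero_of_vecMul_eq_zero hN hv
    funext k
    cases k with
    | inl i =>
      obtain ⟨j, rfl⟩ := hbij.2 i
      exact congrFun hv0 j
    | inr k => exact hr k
  obtain ⟨e, hx₀, he⟩ := exists_openPartialHomeomorph Q (cX x₀) hinj
  refine ⟨cX ⁻¹' e.source, ?_, ?_⟩
  · exact (e.open_source.preimage (AnCoordGen.continuous_coordMap (gens P s))).mem_nhds hx₀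
  · exact isOpenEmbedding_domRestrict (Pts.map g) (Pts.continuous_map g) cX cY
      (AnCoordGen.coordMap_isInducing (gens P s) ht) (AnCoordGen.coordMap_injective (gens P s) ht)
      (AnCoordGen.continuous_coordMap s) (AnCoordGen.coordMap_injective s hs0) (G Q) hG hG' e he

end Groth.Agent.Helper4.AnIFTC
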