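import Groth.Agent.Helper4.AnFinA
import Groth.Agent.Helper4.AnIFTC
import Groth.Agent.Helper4.AnDiscrete
set_option autoImplicit false
open CategoryTheory AlgebraicGeometry Topology TopologicalSpace CategoryTheory.Limits
open An

namespace Groth.Agent.Helper4.AnFinB
open Groth.Agent.Helper4.AnTop Groth.Agent.Helper4.AnDensD Groth.Agent.Helper4.AnFinA
open Groth.Agent.Helper4.AnLocCompact

variable {X Y : Scheme.{0}} [X.Over SC] [Y.Over SC] (f : X ⟶ Y) [f.IsOver SC]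

/-- The `ℂ`-algebra homomorphism attached to a point. -/
noncomputable def toAlgHom (x : Pts X) :
    letI : Algebra ℂ Γ(X, ⊤) := (strHom X).toAlgebra
    Γ(X, ⊤) →ₐ[ℂ] ℂ :=
  letI : Algebra ℂ Γ(X, ⊤) := (strHom X).toAlgebra
  { evTopHom x with commutes' := fun c => ev_strHom x c }

/-- Key facts in the affine finite case: finiteness of fibres and boundedness over compacts,
in coordinates. -/
theorem exists_coords [IsAffine X] [IsAffine Y] [LocallyOfFiniteType (X ↘ SC)]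
    [LocallyOfFiniteType (Y ↘ SC)] [IsFinite f] :
    ∃ (N n : ℕ) (s : Fin N → Γ(X, ⊤)) (t : Fin n → Γ(Y, ⊤)),
      Function.Surjective (MvPolynomial.eval₂Hom (strHom X) s) ∧
      Function.Surjective (MvPolynomial.eval₂Hom (strHom Y) t) ∧
      (∀ y : Pts Y, (Pts.map f ⁻¹' {y}).Finite) ∧
      (∀ K : Set (Fin n → ℂ), IsCompact K → ∃ B : ℝ, ∀ x : Pts X,
        coordMap t (Pts.map f x) ∈ K → ‖coordMap s x‖ ≤ B) := by
  letI aY : Algebra ℂ Γ(Y, ⊤) := (strHom Y).toAlgebra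
  letI aX : Algebra ℂ Γ(X, ⊤) := (strHom X).toAlgebra
  letI aXY : Algebra Γ(Y, ⊤) Γ(X, ⊤) := f.appTop.hom.toAlgebra
  haveI : IsScalarTower ℂ Γ(Y, ⊤) Γ(X, ⊤) :=
    IsScalarTower.of_algebraMap_eq' (Groth.Agent.Helper4.AnIFTC.appTop_comp_strHom f).symm
  haveI hfin : Module.Finite Γ(Y, ⊤) Γ(X, ⊤) := f.finite_appTop
  obtain ⟨N, s, hs⟩ := exists_generators X
  obtain ⟨n, t, ht⟩ := exists_generators Y
  have hs' : Function.Surjective
      (MvPolynomial.aeval s : MvPolynomial (Fin N) ℂ →ₐ[ℂ] Γ(X, ⊤)) := hs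
  have ht' : Function.Surjective
      (MvPolynomial.aeval t : MvPolynomial (Fin n) ℂ →ₐ[ℂ] Γ(Y, ⊤)) := ht
  letI aRY : Algebra (MvPolynomial (Fin n) ℂ) Γ(Y, ⊤) :=
    (MvPolynomial.aeval t : MvPolynomial (Fin n) ℂ →ₐ[ℂ] Γ(Y, ⊤)).toRingHom.toAlgebra
  letI aRX : Algebra (MvPolynomial (Fin n) ℂ) Γ(X, ⊤) :=
    ((algebraMap Γ(Y, ⊤) Γ(X, ⊤)).comp
      (MvPolynomial.aeval t : MvPolynomial (Fin n) ℂ →ₐ[ℂ] Γ(Y, ⊤)).toRingHom).toAlgebra
  haveI : IsScalarTower (MvPolynomial (Fin n) ℂ) Γ(Y, ⊤) Γ(X, ⊤) :=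
    IsScalarTower.of_algebraMap_eq' rfl
  haveI : IsScalarTower ℂ (MvPolynomial (Fin n) ℂ) Γ(Y, ⊤) :=
    IsScalarTower.of_algebraMap_eq' (by
      ext c
      change algebraMap ℂ Γ(Y, ⊤) c = MvPolynomial.aeval t (MvPolynomial.C c)
      rw [MvPolynomial.aeval_C])
  haveI : IsScalarTower ℂ (MvPolynomial (Fin n) ℂ) Γ(X, ⊤) :=
    IsScalarTower.of_algebraMap_eq' (by
      ext c
      change algebraMap ℂ Γ(X, ⊤) c = algebraMap Γ(Y, ⊤) Γ(X, ⊤)
        (MvPolynomial.aeval t (MvPolynomial.C c))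
      rw [MvPolynomial.aeval_C, ← IsScalarTower.algebraMap_apply])
  haveI : Module.Finite (MvPolynomial (Fin n) ℂ) Γ(Y, ⊤) :=
    Module.Finite.of_surjective (Algebra.linearMap (MvPolynomial (Fin n) ℂ) Γ(Y, ⊤)) ht'
  haveI : Module.Finite (MvPolynomial (Fin n) ℂ) Γ(X, ⊤) :=
    Module.Finite.trans Γ(Y, ⊤) Γ(X, ⊤)
  have hproj : ∀ x : Pts X, proj (n := n) (toAlgHom x) = coordMap t (Pts.map f x) := by
    intro x
    funext j
    change x.evTop (f.appTop.hom (MvPolynomial.aeval t (MvPolynomial.X j))) =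
      (Pts.map f x).evTop (t j)
    rw [MvPolynomial.aeval_X]
    exact (Groth.Agent.Helper4.AnProdB.evTop_map f x (t j)).symm
  have hinj : Function.Injective (toAlgHom : Pts X → _) := by
    intro x x' h
    apply pts_ext_of_evTop
    intro a
    exact congrArg (fun φ : Γ(X, ⊤) →ₐ[ℂ] ℂ => φ a) h
  refine ⟨N, n, s, t, hs, ht, ?_, ?_⟩
  · intro y
    refine ((finite_fibre s hs' (coordMap t y)).preimage hinj.injOn).subset ?_
    intro x hx
    rw [Set.mem_preimage, Set.mem_singleton_iff] at hx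
    rw [Set.mem_preimage, Set.mem_ofPred_eq, hproj, hx]
  · intro K hK
    obtain ⟨B, hB⟩ := exists_bound_of_isCompact s K hK
    refine ⟨B, fun x hx => ?_⟩
    exact hB (toAlgHom x) (by rw [hproj]; exact hx)

end Groth.Agent.Helper4.AnFinB
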