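import Groth.Agent.Helper4.AnFinB
import Groth.Agent.Helper4.AnOpenImm
import Groth.Agent.Helper4.AnImmersion
set_option autoImplicit false
open CategoryTheory AlgebraicGeometry Topology TopologicalSpace CategoryTheory.Limits
open An

namespace Groth.Agent.Helper4.AnFinC
open Groth.Agent.Helper4.AnTop Groth.Agent.Helper4.AnFinB
open Groth.Agent.Helper4.AnLocCompact

variable {X Y : Scheme.{0}} [X.Over SC] [Y.Over SC] (f : X ⟶ Y) [f.IsOver SC]

/-- A finite morphism of affine schemes of finite type over `ℂ` is proper on `ℂ`-points. -/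
theorem isProperMap_of_isAffine [IsAffine X] [IsAffine Y] [LocallyOfFiniteType (X ↘ SC)]
    [LocallyOfFiniteType (Y ↘ SC)] [IsFinite f] : IsProperMap (Pts.map f) := by
  obtain ⟨N, n, s, t, hs, ht, -, hb⟩ := exists_coords f
  have eX := coordMap_isClosedEmbedding s hs
  have eY := coordMap_isClosedEmbedding t ht
  haveI : T2Space (Pts Y) := eY.isEmbedding.t2Space
  haveI : LocallyCompactSpace (Pts Y) := locallyCompactSpace_of_affine Y
  rw [isProperMap_iff_isCompact_preimage]
  refine ⟨Pts.continuous_map f, fun K hK => ?_⟩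
  obtain ⟨B, hB⟩ := hb (coordMap t '' K) (hK.image eY.continuous)
  have h1 : IsCompact (coordMap s ⁻¹' Metric.closedBall 0 B) :=
    eX.isCompact_preimage (isCompact_closedBall 0 B)
  refine h1.of_isClosed_subset (hK.isClosed.preimage (Pts.continuous_map f)) ?_
  intro x hx
  rw [Set.mem_preimage, mem_closedBall_zero_iff]
  exact hB x ⟨_, hx, rfl⟩

/-- Finite fibres in the affine case. -/
theorem finite_fibre_of_isAffine [IsAffine X] [IsAffine Y] [LocallyOfFiniteType (X ↘ SC)]
    [LocallyOfFiniteType (Y ↘ SC)] [IsFinite f] (y : Pts Y) : (Pts.map f ⁻¹' {y}).Finite := by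
  obtain ⟨N, n, s, t, hs, ht, h, -⟩ := exists_coords f
  exact h y

/-- Points of an affine scheme of finite type form a Hausdorff space. -/
theorem t2Space_of_isAffine [IsAffine X] [LocallyOfFiniteType (X ↘ SC)] : T2Space (Pts X) := by
  obtain ⟨N, s, hs⟩ := exists_generators X
  exact (coordMap_isClosedEmbedding s hs).isEmbedding.t2Space

end Groth.Agent.Helper4.AnFinC
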