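import Groth.Prelude.Def_AnHol
import Groth.Agent.Helper4.AnTop
import Groth.Agent.Helper4.AnIFTA
import Mathlib
set_option autoImplicit false
open CategoryTheory AlgebraicGeometry Topology TopologicalSpace CategoryTheory.Limits
open An

namespace Groth.Agent.Helper4.AnHolA
open Groth.Agent.Helper4.AnTop

variable {X : Scheme.{0}} [X.Over SC] [IsAffine X] {n : ℕ} (s : Fin n → Γ(X, ⊤))
variable (hs : Function.Surjective (MvPolynomial.eval₂Hom (strHom X) s))

include hs in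
/-- A section over a Zariski open of an affine scheme is, near a given ℂ-point, a quotient of
polynomials in the coordinates. -/
theorem exists_rational (W : X.Opens) (f : Γ(X, W)) (x₀ : Pts X) (hx₀ : x₀.pt ∈ W) :
    ∃ (P Q : MvPolynomial (Fin n) ℂ) (k : ℕ), MvPolynomial.eval (coordMap s x₀) Q ≠ 0 ∧
      ∀ (x : Pts X) (h : x.pt ∈ W), MvPolynomial.eval (coordMap s x) Q ≠ 0 →
        x.ev W h f * (MvPolynomial.eval (coordMap s x) Q) ^ k =
          MvPolynomial.eval (coordMap s x) P := by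
  obtain ⟨q, hqW, hx₀q⟩ := (isAffineOpen_top X).exists_basicOpen_le
    (V := W) ⟨x₀.pt, hx₀⟩ (Opens.mem_top _)
  obtain ⟨k, p, hkp⟩ := IsLocalization.Away.surj (S := Γ(X, X.basicOpen q)) q
    (X.presheaf.map (homOfLE hqW).op f)
  obtain ⟨P, hP⟩ := hs p
  obtain ⟨Q, hQ⟩ := hs q
  have hqx : ∀ x : Pts X, x.pt ∈ X.basicOpen q ↔ MvPolynomial.eval (coordMap s x) Q ≠ 0 := by
    intro x
    rw [mem_basicOpen_iff x ⊤ (Opens.mem_top _) q, ← hQ]
    change x.evTop _ ≠ 0 ↔ _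
    rw [evTop_eval₂]
  refine ⟨P, Q, k, (hqx x₀).1 hx₀q, ?_⟩
  intro x h hx
  have hxq : x.pt ∈ X.basicOpen q := (hqx x).2 hx
  have h1 := congrArg (evHom x (X.basicOpen q) hxq) hkp
  rw [map_mul, map_pow] at h1
  simp only [evHom_apply] at h1
  have e1 : x.ev (X.basicOpen q) hxq (X.presheaf.map (homOfLE hqW).op f) = x.ev W h f :=
    An.ev_res x hqW hxq f
  have e2 : ∀ a : Γ(X, ⊤), x.ev (X.basicOpen q) hxq (algebraMap Γ(X, ⊤) Γ(X, X.basicOpen q) a) =
      x.evTop a := by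
    intro a
    exact An.ev_res x (X.basicOpen_le q) hxq a
  rw [e1, e2, e2] at h1
  rw [← hP, ← hQ] at h1
  rw [evTop_eval₂, evTop_eval₂] at h1
  exact h1


lemma differentiable_eval (P : MvPolynomial (Fin n) ℂ) :
    Differentiable ℂ (fun z : Fin n → ℂ => MvPolynomial.eval z P) :=
  fun z => (Groth.Agent.Helper4.AnIFTA.hasFDerivAt_eval P z).differentiableAt

/-- `h` is, locally in the coordinates `s`, a complex-differentiable function. -/
def LocHol (U : Opens (top X)) (h : U → ℂ) : Prop :=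
  ∀ x₁ : U, ∃ (F : (Fin n → ℂ) → ℂ) (N : Set (Fin n → ℂ)), IsOpen N ∧ coordMap s x₁.1 ∈ N ∧
    DifferentiableOn ℂ F N ∧ ∀ x : U, coordMap s x.1 ∈ N → h x = F (coordMap s x.1)

lemma locHol_algebraMap (U : Opens (top X)) (r : ℂ) :
    LocHol s U (algebraMap ℂ (U → ℂ) r) := by
  intro x₁
  exact ⟨fun _ => r, Set.univ, isOpen_univ, Set.mem_univ _, differentiableOn_const r,
    fun x _ => rfl⟩

lemma locHol_add (U : Opens (top X)) {a b : U → ℂ} (ha : LocHol s U a) (hb : LocHol s U b) :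
    LocHol s U (a + b) := by
  intro x₁
  obtain ⟨F₁, N₁, hN₁, hx₁, hF₁, h₁⟩ := ha x₁
  obtain ⟨F₂, N₂, hN₂, hx₂, hF₂, h₂⟩ := hb x₁
  refine ⟨fun z => F₁ z + F₂ z, N₁ ∩ N₂, hN₁.inter hN₂, ⟨hx₁, hx₂⟩,
    (hF₁.mono Set.inter_subset_left).add (hF₂.mono Set.inter_subset_right), ?_⟩
  intro x hx
  simp only [Pi.add_apply]
  rw [h₁ x hx.1, h₂ x hx.2]

lemma locHol_mul (U : Opens (top X)) {a b : U → ℂ} (ha : LocHol s U a) (hb : LocHol s U b) :
    LocHol s U (a * b) := by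
  intro x₁
  obtain ⟨F₁, N₁, hN₁, hx₁, hF₁, h₁⟩ := ha x₁
  obtain ⟨F₂, N₂, hN₂, hx₂, hF₂, h₂⟩ := hb x₁
  refine ⟨fun z => F₁ z * F₂ z, N₁ ∩ N₂, hN₁.inter hN₂, ⟨hx₁, hx₂⟩,
    (hF₁.mono Set.inter_subset_left).mul (hF₂.mono Set.inter_subset_right), ?_⟩
  intro x hx
  simp only [Pi.mul_apply]
  rw [h₁ x hx.1, h₂ x hx.2]

include hs in
lemma locHol_of_isChartFun (U : Opens (top X)) (h : U → ℂ) (hh : IsChartFun U h) :
    LocHol s U h := by
  obtain ⟨W, hW, m, σ, V', G', hV', hG', hval⟩ := hh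
  intro x₁
  choose P Q k hQ₁ hPQ using fun i : Fin m => exists_rational s hs W (σ i) x₁.1 (hW x₁)
  let N₀ : Set (Fin n → ℂ) := ⋂ i : Fin m, {z | MvPolynomial.eval z (Q i) ≠ 0}
  have hN₀ : IsOpen N₀ := isOpen_iInter_of_finite fun i =>
    isOpen_ne_fun (differentiable_eval (Q i)).continuous continuous_const
  let Φ : (Fin n → ℂ) → (Fin m → ℂ) := fun z i =>
    MvPolynomial.eval z (P i) / (MvPolynomial.eval z (Q i)) ^ (k i)
  have hΦ : DifferentiableOn ℂ Φ N₀ := by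
    rw [differentiableOn_pi]
    intro i
    have h1 : DifferentiableOn ℂ (fun z => (MvPolynomial.eval z (Q i)) ^ (k i)) N₀ :=
      (differentiable_eval (Q i)).differentiableOn.fun_pow (k i)
    have h2 : DifferentiableOn ℂ (fun z => ((MvPolynomial.eval z (Q i)) ^ (k i))⁻¹) N₀ :=
      h1.fun_inv (fun z hz => pow_ne_zero _ (Set.mem_iInter.1 hz i))
    have h3 : DifferentiableOn ℂ (fun z => MvPolynomial.eval z (P i) *
        ((MvPolynomial.eval z (Q i)) ^ (k i))⁻¹) N₀ :=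
      (differentiable_eval (P i)).differentiableOn.fun_mul h2
    simpa only [Φ, div_eq_mul_inv] using h3
  have hev : ∀ x : U, coordMap s x.1 ∈ N₀ →
      (fun i => Pts.ev x.1 W (hW x) (σ i)) = Φ (coordMap s x.1) := by
    intro x hx
    funext i
    have hq : MvPolynomial.eval (coordMap s x.1) (Q i) ≠ 0 := Set.mem_iInter.1 hx i
    have := hPQ i x.1 (hW x) hq
    exact eq_div_of_mul_eq (pow_ne_zero _ hq) this
  have hx₁N₀ : coordMap s x₁.1 ∈ N₀ := Set.mem_iInter.2 fun i => hQ₁ i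
  refine ⟨fun z => G' (Φ z), N₀ ∩ Φ ⁻¹' V', hΦ.continuousOn.isOpen_inter_preimage hN₀ hV',
    ⟨hx₁N₀, ?_⟩, ?_, ?_⟩
  · change Φ (coordMap s x₁.1) ∈ V'
    rw [← hev x₁ hx₁N₀]
    exact (hval x₁).1
  · exact hG'.comp (hΦ.mono Set.inter_subset_left) (fun z hz => hz.2)
  · intro x hx
    rw [(hval x).2, hev x hx.1]

include hs in
theorem locHol_of_mem_chartAlg (U : Opens (top X)) (h : U → ℂ) (hh : h ∈ chartAlg U) :
    LocHol s U h := by
  refine Algebra.adjoin_induction (p := fun a _ => LocHol s U a) ?_ ?_ ?_ ?_ hh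
  · intro a ha
    exact locHol_of_isChartFun s hs U a ha
  · intro r
    exact locHol_algebraMap s U r
  · intro a b _ _ ha hb
    exact locHol_add s U ha hb
  · intro a b _ _ ha hb
    exact locHol_mul s U ha hb

end Groth.Agent.Helper4.AnHolA
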