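import Groth.Prelude.Def_AnPts
import Groth.Agent.Helper4.AnProdB
import Mathlib
set_option autoImplicit false
open CategoryTheory AlgebraicGeometry Topology TopologicalSpace CategoryTheory.Limits
open An

namespace Groth.Agent.Helper4.AnProdC
open Groth.Agent.Helper4.AnTop Groth.Agent.Helper4.AnOpenImm Groth.Agent.Helper4.AnProdB

variable {X Y S : Scheme.{0}} [X.Over SC] [Y.Over SC] [S.Over SC] (f : X ⟶ S) (g : Y ⟶ S)
  [f.IsOver SC] [g.IsOver SC]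

set_option maxHeartbeats 1600000 in
/-- the comparison map is an open map. -/
theorem Φ_isOpenMap : IsOpenMap (Φ f g) := by
  rw [isOpenMap_iff_nhds_le]
  intro z₀ M hM
  rw [Filter.mem_map] at hM
  set p := z₀.pt with hp
  -- affine opens
  obtain ⟨US, hUS, hpS⟩ : ∃ US : S.Opens, IsAffineOpen US ∧ f (pullback.fst f g p) ∈ US := by
    obtain ⟨_, ⟨US, hUS : IsAffineOpen US, rfl⟩, hpS, -⟩ :=
      (S.isBasis_affineOpens).exists_subset_of_mem_open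
        (Set.mem_univ (f (pullback.fst f g p))) isOpen_univ
    exact ⟨US, hUS, hpS⟩
  obtain ⟨UX, hUX, hpX, hUXle⟩ : ∃ UX : X.Opens, IsAffineOpen UX ∧ pullback.fst f g p ∈ UX ∧
      UX ≤ f ⁻¹ᵁ US := by
    obtain ⟨_, ⟨UX, hUX : IsAffineOpen UX, rfl⟩, hpX, hUXle⟩ :=
      (X.isBasis_affineOpens).exists_subset_of_mem_open
        (show pullback.fst f g p ∈ ((f ⁻¹ᵁ US : X.Opens) : Set X) from hpS) (f ⁻¹ᵁ US).isOpen
    exact ⟨UX, hUX, hpX, hUXle⟩
  have hpS' : g (pullback.snd f g p) ∈ US := by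
    have : g (pullback.snd f g p) = f (pullback.fst f g p) := by
      rw [← Scheme.Hom.comp_apply, ← Scheme.Hom.comp_apply, pullback.condition]
    rw [this]
    exact hpS
  obtain ⟨UY, hUY, hpY, hUYle⟩ : ∃ UY : Y.Opens, IsAffineOpen UY ∧ pullback.snd f g p ∈ UY ∧
      UY ≤ g ⁻¹ᵁ US := by
    obtain ⟨_, ⟨UY, hUY : IsAffineOpen UY, rfl⟩, hpY, hUYle⟩ :=
      (Y.isBasis_affineOpens).exists_subset_of_mem_open
        (show pullback.snd f g p ∈ ((g ⁻¹ᵁ US : Y.Opens) : Set Y) from hpS') (g ⁻¹ᵁ US).isOpen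
    exact ⟨UY, hUY, hpY, hUYle⟩
  have hUXle' : UX ≤ f ⁻¹ᵁ US := hUXle
  have hUYle' : UY ≤ g ⁻¹ᵁ US := hUYle
  let fU := f.resLE US UX hUXle'
  let gU := g.resLE US UY hUYle'
  letI : (UX : Scheme.{0}).Over SC := ⟨UX.ι ≫ X ↘ SC⟩
  letI : (UY : Scheme.{0}).Over SC := ⟨UY.ι ≫ Y ↘ SC⟩
  letI : (US : Scheme.{0}).Over SC := ⟨US.ι ≫ S ↘ SC⟩
  haveI : UX.ι.IsOver SC := ⟨rfl⟩
  haveI : UY.ι.IsOver SC := ⟨rfl⟩
  haveI : US.ι.IsOver SC := ⟨rfl⟩
  haveI : fU.IsOver SC := ⟨by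
    change fU ≫ US.ι ≫ S ↘ SC = UX.ι ≫ X ↘ SC
    rw [← Category.assoc, Scheme.Hom.resLE_comp_ι, Category.assoc, comp_over f]⟩
  haveI : gU.IsOver SC := ⟨by
    change gU ≫ US.ι ≫ S ↘ SC = UY.ι ≫ Y ↘ SC
    rw [← Category.assoc, Scheme.Hom.resLE_comp_ι, Category.assoc, comp_over g]⟩
  haveI : IsAffine (UX : Scheme.{0}) := hUX
  haveI : IsAffine (UY : Scheme.{0}) := hUY
  haveI : IsAffine (US : Scheme.{0}) := hUS
  let j : pullback fU gU ⟶ pullback f g :=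
    pullback.map fU gU f g UX.ι UY.ι US.ι (Scheme.Hom.resLE_comp_ι f hUXle')
      (Scheme.Hom.resLE_comp_ι g hUYle')
  have hjfst : j ≫ pullback.fst f g = pullback.fst fU gU ≫ UX.ι := pullback.lift_fst _ _ _
  have hjsnd : j ≫ pullback.snd f g = pullback.snd fU gU ≫ UY.ι := pullback.lift_snd _ _ _
  haveI : j.IsOver SC := ⟨by
    change j ≫ pullback.fst f g ≫ X ↘ SC = pullback.fst fU gU ≫ UX.ι ≫ X ↘ SC
    rw [← Category.assoc, hjfst, Category.assoc]⟩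
  -- `z₀` comes from `W`
  obtain ⟨w₀, hw₀⟩ : z₀ ∈ Set.range (Pts.map j) := by
    rw [range_map_openImmersion]
    change p ∈ Set.range j
    rw [Scheme.Pullback.range_map, Scheme.Opens.range_ι, Scheme.Opens.range_ι]
    exact ⟨hpX, hpY⟩
  have hN : Pts.map j ⁻¹' (Φ f g ⁻¹' M) ∈ 𝓝 w₀ :=
    (Pts.continuous_map j).continuousAt (by rw [hw₀]; exact hM)
  have hind := Φ_isInducing_of_isAffine fU gU
  rw [hind.nhds_eq_comap, Filter.mem_comap] at hN
  obtain ⟨M', hM', hM'sub⟩ := hN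
  rw [mem_nhds_subtype] at hM'
  obtain ⟨u, hu, husub⟩ := hM'
  obtain ⟨u₁, hu₁, u₂, hu₂, hu12⟩ := mem_nhds_prod_iff.1 hu
  have hoX := isOpenEmbedding_map UX.ι
  have hoY := isOpenEmbedding_map UY.ι
  -- compatibility of the two comparison maps
  have hcompat : ∀ w : Pts (pullback fU gU),
      (Φ f g (Pts.map j w)).1 =
        (Pts.map UX.ι (Φ fU gU w).1.1, Pts.map UY.ι (Φ fU gU w).1.2) := by
    intro w
    apply Prod.ext
    · apply Subtype.ext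
      change (w.1 ≫ j) ≫ pullback.fst f g = (w.1 ≫ pullback.fst fU gU) ≫ UX.ι
      rw [Category.assoc, hjfst, Category.assoc]
    · apply Subtype.ext
      change (w.1 ≫ j) ≫ pullback.snd f g = (w.1 ≫ pullback.snd fU gU) ≫ UY.ι
      rw [Category.assoc, hjsnd, Category.assoc]
  rw [mem_nhds_subtype]
  refine ⟨(Pts.map UX.ι '' u₁) ×ˢ (Pts.map UY.ι '' u₂), ?_, ?_⟩
  · have h0 := hcompat w₀
    rw [hw₀] at h0
    rw [h0]
    exact prod_mem_nhds (hoX.image_mem_nhds.2 hu₁) (hoY.image_mem_nhds.2 hu₂)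
  · rintro ⟨⟨a, b⟩, hab⟩ ⟨⟨a', ha', rfl⟩, ⟨b', hb', rfl⟩⟩
    have hab' : Pts.map fU a' = Pts.map gU b' := by
      apply map_injective_of_mono US.ι
      apply Subtype.ext
      have h1 := congrArg Subtype.val hab
      change (a'.1 ≫ UX.ι) ≫ f = (b'.1 ≫ UY.ι) ≫ g at h1
      change (a'.1 ≫ fU) ≫ US.ι = (b'.1 ≫ gU) ≫ US.ι
      rw [Category.assoc, Category.assoc, Scheme.Hom.resLE_comp_ι, Scheme.Hom.resLE_comp_ι,
        ← Category.assoc, ← Category.assoc]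
      exact h1
    obtain ⟨w, hw⟩ := Φ_surjective fU gU ⟨(a', b'), hab'⟩
    have hwM' : w ∈ Φ fU gU ⁻¹' M' := by
      rw [Set.mem_preimage, hw]
      apply husub
      exact hu12 ⟨ha', hb'⟩
    have hwM := hM'sub hwM'
    rw [Set.mem_preimage, Set.mem_preimage] at hwM
    have : Φ f g (Pts.map j w) = ⟨(Pts.map UX.ι a', Pts.map UY.ι b'), hab⟩ := by
      apply Subtype.ext
      rw [hcompat w, hw]
    rw [← this]
    exact hwM

theorem Φ_isHomeomorph : IsHomeomorph (Φ f g) :=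
  ⟨Φ_continuous f g, Φ_isOpenMap f g, ⟨Φ_injective f g, Φ_surjective f g⟩⟩

end Groth.Agent.Helper4.AnProdC
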