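import Groth.Prelude.Def_AnPts
import Groth.Agent.Helper4.AnProdC
import Groth.Agent.Helper4.AnDensG
import Groth.Agent.Helper4.AnInjective
import Mathlib
set_option autoImplicit false
open CategoryTheory AlgebraicGeometry Topology TopologicalSpace CategoryTheory.Limits
open An

namespace Groth.Agent.Helper4.AnSepA
open Groth.Agent.Helper4.AnTop Groth.Agent.Helper4.AnOpenImm Groth.Agent.Helper4.AnJacobson
open Groth.Agent.Helper4.AnProdB Groth.Agent.Helper4.AnProdC Groth.Agent.Helper4.AnDensG
open Groth.Agent.Helper4.AnImmersion Groth.Agent.Helper4.AnInjective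

variable (X Y : Scheme.{0}) [X.Over SC] [LocallyOfFiniteType (X ↘ SC)]
  [Y.Over SC] [LocallyOfFiniteType (Y ↘ SC)] (f : X ⟶ Y) [f.IsOver SC]

theorem isSeparated_iff : IsSeparated f ↔ IsSeparatedMap (Pts.map f) := by
  haveI := lft_of_over X Y f
  haveI : IsLocallyNoetherian (pullback f f) :=
    LocallyOfFiniteType.isLocallyNoetherian ((pullback f f) ↘ SC)
  haveI : LocallyOfFiniteType (pullback.diagonal f) := by
    haveI : LocallyOfFiniteType (pullback.diagonal f ≫ pullback.fst f f) := by
      rw [pullback.diagonal_fst]; infer_instance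
    exact locallyOfFiniteType_of_comp (pullback.diagonal f) (pullback.fst f f)
  haveI : (pullback.diagonal f).IsOver SC := ⟨by
    change pullback.diagonal f ≫ pullback.fst f f ≫ X ↘ SC = X ↘ SC
    rw [← Category.assoc, pullback.diagonal_fst, Category.id_comp]⟩
  -- the key identity
  have key : Φ f f ⁻¹' (Pts.map f).pullbackDiagonal =
      Pts.pt ⁻¹' (Set.range (pullback.diagonal f)) := by
    rw [← range_map_of_lft (pullback.diagonal f)]
    ext z
    constructor
    · intro hz
      have hz' : Pts.map (pullback.fst f f) z = Pts.map (pullback.snd f f) z := hz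
      refine ⟨Pts.map (pullback.fst f f) z, ?_⟩
      apply Φ_injective f f
      apply Subtype.ext
      apply Prod.ext
      · apply Subtype.ext
        change ((z.1 ≫ pullback.fst f f) ≫ pullback.diagonal f) ≫ pullback.fst f f =
          z.1 ≫ pullback.fst f f
        rw [Category.assoc, pullback.diagonal_fst, Category.comp_id]
      · apply Subtype.ext
        change ((z.1 ≫ pullback.fst f f) ≫ pullback.diagonal f) ≫ pullback.snd f f =
          z.1 ≫ pullback.snd f f
        rw [Category.assoc, pullback.diagonal_snd, Category.comp_id]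
        exact congrArg Subtype.val hz'
    · rintro ⟨a, rfl⟩
      change Pts.map (pullback.fst f f) (Pts.map (pullback.diagonal f) a) =
        Pts.map (pullback.snd f f) (Pts.map (pullback.diagonal f) a)
      apply Subtype.ext
      change (a.1 ≫ pullback.diagonal f) ≫ pullback.fst f f =
        (a.1 ≫ pullback.diagonal f) ≫ pullback.snd f f
      rw [Category.assoc, Category.assoc, pullback.diagonal_fst, pullback.diagonal_snd]
  have hhomeo := Φ_isHomeomorph f f
  have hclosed_iff : IsClosed (Pts.map f).pullbackDiagonal ↔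
      IsClosed (Pts.pt ⁻¹' (Set.range (pullback.diagonal f)) : Set (Pts (pullback f f))) := by
    rw [← key]
    exact (hhomeo.isQuotientMap.isClosed_preimage).symm
  rw [isSeparatedMap_iff_isClosed_diagonal, hclosed_iff]
  have hlc : IsLocallyClosed (Set.range (pullback.diagonal f)) :=
    (pullback.diagonal f).isLocallyClosed_range
  have hlcons : IsLocallyConstructible (Set.range (pullback.diagonal f)) := by
    obtain ⟨U, Z, hU, hZ, hUZ⟩ := hlc
    rw [hUZ]
    exact (isLocallyConstructible_of_isOpen _ U hU).inter
      (isLocallyConstructible_of_isClosed _ Z hZ)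
  constructor
  · intro h
    exact (pullback.diagonal f).isClosedEmbedding.isClosed_range.preimage Pts.continuous_pt
  · intro h
    have h1 : IsOpen (Pts.pt ⁻¹' (Set.range (pullback.diagonal f))ᶜ :
        Set (Pts (pullback f f))) := by
      rw [Set.preimage_compl]
      exact h.isOpen_compl
    have h2 := (isOpen_iff (pullback f f) _ (isLocallyConstructible_compl hlcons)).2 h1
    have h3 : IsClosed (Set.range (pullback.diagonal f)) := isOpen_compl_iff.1 h2
    exact ⟨IsClosedImmersion.of_isPreimmersion _ h3⟩


theorem t2Space_iff : IsSeparated (X ↘ SC) ↔ T2Space (Pts X) := by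
  letI inst : SC.Over SC := ⟨𝟙 SC⟩
  have h2 : (SC ↘ SC) = 𝟙 SC := rfl
  haveI : LocallyOfFiniteType (SC ↘ SC) := by rw [h2]; infer_instance
  haveI : (X ↘ SC).IsOver SC := ⟨by rw [h2, Category.comp_id]⟩
  rw [isSeparated_iff X SC (X ↘ SC)]
  let y₀ : Pts SC := ⟨𝟙 SC, by rw [h2, Category.comp_id]⟩
  have hsub : ∀ y : Pts SC, y = y₀ := by
    intro y
    apply Subtype.ext
    have h1 : y.1 ≫ (𝟙 SC) = 𝟙 SC := y.2
    exact (Category.comp_id _).symm.trans h1
  have hmap : Pts.map (X ↘ SC) = fun _ => y₀ := by
    funext x
    exact hsub _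
  rw [hmap]
  exact (t2space_iff_isSeparatedMap y₀).symm

end Groth.Agent.Helper4.AnSepA
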