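import Mathlib

/-!
# Helper4: Artinian rings are regular iff reduced
-/

namespace Groth.Agent.Helper4.ArtinReg

open IsLocalRing

theorem isRegularLocalRing_of_isField (L : Type*) [CommRing L] [IsLocalRing L] (h : IsField L) :
    IsRegularLocalRing L := by
  letI := h.toField
  haveI : IsNoetherianRing L := inferInstance
  rw [isRegularLocalRing_iff]
  have h1 : maximalIdeal L = ⊥ := IsLocalRing.isField_iff_maximalIdeal_eq.mp h
  rw [h1, Submodule.spanFinrank_bot, ringKrullDim_eq_zero_of_isField h]
  rfl

theorem isRegularRing_of_isArtinianRing_of_isReduced (A : Type*) [CommRing A] [IsArtinianRing A]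
    [IsReduced A] : IsRegularRing A := by
  haveI : IsNoetherianRing A := inferInstance
  rw [isRegularRing_iff]
  intro p hp
  haveI : IsReduced (Localization.AtPrime p) := inferInstance
  haveI : IsArtinianRing (Localization.AtPrime p) := inferInstance
  exact isRegularLocalRing_of_isField _
    (IsArtinianRing.isField_of_isReduced_of_isLocalRing (Localization.AtPrime p))

theorem isField_of_isRegularLocalRing_of_isArtinianRing (L : Type*) [CommRing L]
    [IsRegularLocalRing L] [IsArtinianRing L] : IsField L := by
  have h := IsRegularLocalRing.spanFinrank_maximalIdeal (R := L)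
  have h0 : ringKrullDim L = 0 := by
    apply le_antisymm
    · exact (Ring.krullDimLE_iff (n := 0) (R := L)).mp inferInstance
    · exact ringKrullDim_nonneg_of_nontrivial
  rw [h0] at h
  have h1 : (maximalIdeal L).spanFinrank = 0 := by exact_mod_cast h
  have h2 : maximalIdeal L = ⊥ :=
    (Submodule.spanFinrank_eq_zero_iff_eq_bot (IsNoetherian.noetherian _)).mp h1
  exact IsLocalRing.isField_iff_maximalIdeal_eq.mpr h2

theorem isReduced_of_isRegularRing_of_isArtinianRing (A : Type*) [CommRing A]
    [IsRegularRing A] [IsArtinianRing A] : IsReduced A := by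
  apply isReduced_ofLocalizationMaximal
  intro m hm
  haveI : IsArtinianRing (Localization.AtPrime m) := inferInstance
  haveI : IsRegularLocalRing (Localization.AtPrime m) :=
    IsRegularRing.isRegularLocalRing_localization m
  letI := (isField_of_isRegularLocalRing_of_isArtinianRing (Localization.AtPrime m)).toField
  infer_instance

end Groth.Agent.Helper4.ArtinReg
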