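import Mathlib
import Groth.Agent.Helper4.ArtinReg

/-!
# Helper4: regularity of fibres of field extensions
-/

namespace Groth.Agent.Helper4.ArtinReg

open TensorProduct

universe u

variable (k K : Type u) [Field k] [Field K] [Algebra k K]

theorem isRegularRing_tensor_iff (k' : Type u) [Field k'] [Algebra k k'] [Module.Finite k k'] :
    IsRegularRing (K ⊗[k] k') ↔ IsReduced (K ⊗[k] k') := by
  haveI : IsArtinianRing (K ⊗[k] k') := IsArtinianRing.of_finite K _
  constructor
  · intro h
    exact isReduced_of_isRegularRing_of_isArtinianRing _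
  · intro h
    exact isRegularRing_of_isArtinianRing_of_isReduced _

/-- The fibre ring tensored up is `K ⊗ k'`. -/
noncomputable def fiberEquiv (p : Ideal k) [p.IsPrime]
    (k' : Type u) [Field k'] [Algebra p.ResidueField k'] [Algebra k k']
    [IsScalarTower k p.ResidueField k'] :
    (k' ⊗[p.ResidueField] (p.Fiber K)) ≃+* (K ⊗[k] k') :=
  (Algebra.TensorProduct.cancelBaseChange k p.ResidueField p.ResidueField k' K).toRingEquiv.trans
    (Algebra.TensorProduct.comm k k' K).toRingEquiv

end Groth.Agent.Helper4.ArtinReg
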