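import Mathlib
import Groth.Agent.Helper4.AssMax
import Groth.Prelude.Def_FDesc

set_option autoImplicit false
universe u
open CategoryTheory CategoryTheory.Limits AlgebraicGeometry TopologicalSpace Opposite Submodule

namespace Groth.Agent.Helper4.AssReg
open Groth.Agent.Helper4.StalkDict Groth.Agent.Helper4

variable {X : Scheme.{u}}

theorem mem_basicOpen_of_isAssPoint_of_regular (F : X.Modules) (f : Γ(X, ⊤)) (x : X)
    (hreg : IsSMulRegular ↑(F.presheaf.stalk x) (X.presheaf.germ ⊤ x trivial f))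
    (hass : Curv2.IsAssPoint F x) : x ∈ X.basicOpen f := by
  by_contra hx
  rw [X.mem_basicOpen_top f x] at hx
  obtain ⟨hprime, t, ht⟩ := hass
  have hmem : X.presheaf.germ ⊤ x trivial f ∈ IsLocalRing.maximalIdeal (X.presheaf.stalk x) := by
    rw [IsLocalRing.mem_maximalIdeal]; exact hx
  rw [ht] at hmem
  obtain ⟨n, hn⟩ := hmem
  rw [mem_colon_singleton, mem_bot] at hn
  have ht0 : t = 0 := by
    apply (hreg.pow n)
    change X.presheaf.germ ⊤ x trivial f ^ n • t = X.presheaf.germ ⊤ x trivial f ^ n • 0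
    rw [smul_zero]; exact hn
  rw [ht0] at ht
  have htop : (colon (⊥ : Submodule (X.presheaf.stalk x) (F.presheaf.stalk x))
      {(0 : F.presheaf.stalk x)} : Ideal _) = ⊤ := by
    ext r; simp [mem_colon_singleton]
  rw [htop, Ideal.radical_top] at ht
  exact hprime.ne_top ht

set_option backward.isDefEq.respectTransparency false in
theorem regular_of_ass_subset_basicOpen (F : X.Modules) [F.IsQuasicoherent] (f : Γ(X, ⊤))
    (h : ∀ y, Curv2.IsAssPoint F y → y ∈ X.basicOpen f) (x : X) :
    IsSMulRegular ↑(F.presheaf.stalk x) (X.presheaf.germ ⊤ x trivial f) := by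
  intro a b hab
  have hab' : X.presheaf.germ ⊤ x trivial f • a = X.presheaf.germ ⊤ x trivial f • b := hab
  rw [← sub_eq_zero]
  set t := a - b with ht
  have hft : X.presheaf.germ ⊤ x trivial f • t = 0 := by
    rw [ht, smul_sub, sub_eq_zero]; exact hab'
  obtain ⟨_, ⟨V, hV : IsAffineOpen V, rfl⟩, hxV, -⟩ :=
    X.isBasis_affineOpens.exists_subset_of_mem_open (Set.mem_univ x) isOpen_univ
  letI := sectionModStalk F x hxV
  haveI := isLocalizedModule_germ hV F x hxV
  obtain ⟨⟨m, s⟩, hs⟩ := IsLocalizedModule.surj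
    (hV.primeIdealOf ⟨x, hxV⟩).asIdeal.primeCompl (germLin F x hxV) t
  have hu := IsLocalizedModule.map_units (germLin F x hxV) s
  rw [Module.End.isUnit_iff] at hu
  apply hu.injective
  rw [map_zero]
  change s • t = 0
  rw [hs, germLin_apply]
  set fV : Γ(X, V) := X.presheaf.map (homOfLE (le_top : V ≤ ⊤)).op f with hfV
  have hgf : ∀ y (hy : y ∈ V), X.presheaf.germ V y hy fV = X.presheaf.germ ⊤ y trivial f :=
    fun y hy => TopCat.Presheaf.germ_res_apply X.presheaf (homOfLE (le_top : V ≤ ⊤)) y hy f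
  have h1 : F.presheaf.germ V x hxV (fV • m) = 0 := by
    rw [germ_smul, hgf x hxV, ← germLin_apply, ← hs]
    change X.presheaf.germ ⊤ x trivial f • (X.presheaf.germ V x hxV s.1 • t) = 0
    rw [smul_comm, hft, smul_zero]
  have h2 := (IsLocalizedModule.eq_zero_iff (hV.primeIdealOf ⟨x, hxV⟩).asIdeal.primeCompl
    (germLin F x hxV) (m := fV • m)).mp h1
  obtain ⟨c, hc⟩ := h2
  set m' : Γ(F, V) := c.1 • m with hm'
  have hfm' : fV • m' = 0 := by
    rw [hm', smul_comm]; exact hc
  have hgm' : F.presheaf.germ V x hxV m' = 0 := by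
    by_contra hne
    have hle := not_not.mp ((not_congr (AssDict.germ_eq_zero_iff hV F x hxV m')).mp hne)
    obtain ⟨y, hyV, hass, hmin, -⟩ := AssDict.exists_isAssPoint_le hV F m' _ hle
    have hy := h y hass
    have hfp : fV ∈ (hV.primeIdealOf ⟨y, hyV⟩).asIdeal := by
      apply hmin.1.2
      rw [mem_colon_singleton, mem_bot]; exact hfm'
    have hyb : y ∈ X.basicOpen fV := by
      rw [hfV, Scheme.basicOpen_res]; exact ⟨hyV, hy⟩
    rw [mem_basicOpen_iff_notMem_primeIdealOf hV y hyV] at hyb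
    exact hyb hfp
  rw [hm', germ_smul] at hgm'
  have hcu : IsUnit (X.presheaf.germ V x hxV c.1) := by
    rw [← X.mem_basicOpen c.1 x hxV, mem_basicOpen_iff_notMem_primeIdealOf hV x hxV]
    exact c.2
  obtain ⟨u, hu'⟩ := hcu
  rw [← hu'] at hgm'
  have := congrArg (fun z => (↑u⁻¹ : X.presheaf.stalk x) • z) hgm'
  simpa [smul_smul] using this

end Groth.Agent.Helper4.AssReg
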