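import Mathlib
import Groth.Agent.Helper4.AssSpec
import Groth.Agent.Helper4.AssAlg
import Groth.Agent.Helper4.AssDict
import Groth.Prelude.Def_FlatCA

set_option autoImplicit false
universe u
open CategoryTheory CategoryTheory.Limits AlgebraicGeometry TopologicalSpace Opposite Submodule

namespace Groth.Agent.Helper4.AssSpec2
open Groth.Agent.Helper4 Groth.Agent.Helper4.AssSpec

variable (A : CommRingCat.{u}) (M : ModuleCat.{u} A)

set_option backward.isDefEq.respectTransparency false in
theorem isAssPoint_tilde_iff (q : PrimeSpectrum.Top A) :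
    Curv2.IsAssPoint (tilde M) (show ↥(Spec A) from q) ↔
      ∃ m : M, q.asIdeal ∈ (colon (⊥ : Submodule A M) {m} : Ideal A).minimalPrimes :=
  AssAlg.isAssociatedPrime_maximalIdeal_iff q.asIdeal ((Spec A).presheaf.stalk q)
    (tilde.toStalk M q).hom

theorem weakAss_iff (q : PrimeSpectrum.Top A) :
    q.asIdeal ∈ FlatCA.weakAss A M ↔ Curv2.IsWeakAssPoint (tilde M) (show ↥(Spec A) from q) := by
  rw [← AssDict.isAssPoint_iff_isWeakAssPoint, isAssPoint_tilde_iff]
  have : ∀ m : M, (Submodule.span A {m}).annihilator =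
      (colon (⊥ : Submodule A M) {m} : Ideal A) := by
    intro m
    ext r
    rw [Submodule.mem_annihilator_span_singleton, mem_colon_singleton, mem_bot]
  constructor
  · rintro ⟨m, hm⟩
    exact ⟨m, by rw [← this]; exact hm⟩
  · rintro ⟨m, hm⟩
    exact ⟨m, by rw [this]; exact hm⟩

end Groth.Agent.Helper4.AssSpec2
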