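import Mathlib

/-! A symmetric "rank one" element for a symplectic-type involution has entries in every prime. -/

namespace Groth.Agent.Helper4.AzSympA

open Matrix

theorem entries_mem_prime {S : Type*} [CommRing S] {N : Type*} [Fintype N] [DecidableEq N]
    (h2 : IsUnit (2 : S)) (Ω Ωi : Matrix N N S) (hΩ1 : Ω * Ωi = 1) (hΩ2 : Ωi * Ω = 1)
    (hΩt : Ωᵀ = -Ω)
    (g : Matrix N N S) (hg : Ω * gᵀ * Ωi = g)
    (hrk : ∀ Y : Matrix N N S, ∃ c : S, g * Y * g = c • g)
    (p : Ideal S) [p.IsPrime] : ∀ a b, g a b ∈ p := by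
  -- the anti-automorphism
  obtain ⟨σ, hσ⟩ : ∃ σ : Matrix N N S → Matrix N N S, σ = fun X => Ω * Xᵀ * Ωi := ⟨_, rfl⟩
  have hσg : σ g = g := by rw [hσ]; exact hg
  have σmul : ∀ X Y, σ (X * Y) = σ Y * σ X := by
    intro X Y
    simp only [hσ, transpose_mul]
    calc Ω * (Yᵀ * Xᵀ) * Ωi = Ω * Yᵀ * (1 : Matrix N N S) * Xᵀ * Ωi := by
          simp only [Matrix.mul_one, Matrix.mul_assoc]
      _ = Ω * Yᵀ * (Ωi * Ω) * Xᵀ * Ωi := by rw [hΩ2]
      _ = Ω * Yᵀ * Ωi * (Ω * Xᵀ * Ωi) := by simp only [Matrix.mul_assoc]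
  have σsmul : ∀ (c : S) X, σ (c • X) = c • σ X := by
    intro c X
    simp only [hσ, transpose_smul, Matrix.mul_smul, Matrix.smul_mul]
  have hgY : ∀ Y, g * σ Y * g = g * Y * g := by
    intro Y
    obtain ⟨c, hc⟩ := hrk Y
    have h1 : σ (g * Y * g) = g * σ Y * g := by
      rw [σmul, σmul, hσg, Matrix.mul_assoc]
    rw [← h1, hc, σsmul, hσg]
  -- h = g Ω is antisymmetric
  have hgΩ : Ω * gᵀ = g * Ω := by
    have := congrArg (· * Ω) hg
    simp only [Matrix.mul_assoc, hΩ2, Matrix.mul_one] at this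
    exact this
  set h : Matrix N N S := g * Ω with hh
  have hht : hᵀ = -h := by
    rw [hh, transpose_mul, hΩt, Matrix.neg_mul, hgΩ]
  have hWh : ∀ i : N, h * Matrix.single i i (1 : S) * h = 0 := by
    intro i
    set W : Matrix N N S := Matrix.single i i (1 : S) with hW
    have hWt : Wᵀ = W := by rw [hW, Matrix.transpose_single]
    set Y : Matrix N N S := Ω * W with hY
    have hσY : σ Y = -Y := by
      simp only [hσ, hY, transpose_mul, hWt, hΩt]
      simp only [Matrix.mul_neg, Matrix.neg_mul, Matrix.mul_assoc, hΩ1, Matrix.mul_one]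
    have h3 := hgY Y
    rw [hσY, Matrix.mul_neg, Matrix.neg_mul] at h3
    have h4 : (2 : S) • (g * Y * g) = 0 := by
      rw [two_smul]
      nth_rewrite 1 [← h3]
      exact neg_add_cancel _
    have h5 : g * Y * g = 0 := by
      obtain ⟨u, hu⟩ := h2
      have := congrArg (fun M => (↑u⁻¹ : S) • M) h4
      simp only [smul_smul, smul_zero] at this
      rwa [← hu, Units.inv_mul, one_smul] at this
    calc h * W * h = g * Y * g * Ω := by
          simp only [hh, hY, Matrix.mul_assoc]
      _ = 0 := by rw [h5, Matrix.zero_mul]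
  have hentry : ∀ a i : N, h a i ∈ p := by
    intro a i
    have h6 := congrFun (congrFun (hWh i) a) a
    have h7 : (h * Matrix.single i i (1 : S) * h) a a = h a i * h i a := by
      rw [Matrix.mul_apply, Finset.sum_eq_single i]
      · rw [Matrix.mul_single_apply_same, mul_one]
      · intro k _ hk
        rw [Matrix.mul_single_apply_of_ne (hbj := hk), zero_mul]
      · intro hi
        exact absurd (Finset.mem_univ i) hi
    have h8 : h i a = - h a i := by
      have := congrFun (congrFun hht a) i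
      simpa using this
    rw [h7, Matrix.zero_apply, h8, mul_neg, neg_eq_zero] at h6
    have : h a i * h a i ∈ p := by rw [h6]; exact p.zero_mem
    exact (Ideal.IsPrime.mem_or_mem ‹p.IsPrime› this).elim id id
  have hgh : g = h * Ωi := by
    rw [hh, Matrix.mul_assoc, hΩ1, Matrix.mul_one]
  intro a b
  rw [hgh, Matrix.mul_apply]
  exact p.sum_mem fun c _ => p.mul_mem_right _ (hentry a c)

end Groth.Agent.Helper4.AzSympA
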