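import Mathlib
import Groth.Prelude.Def_AzInv

/-! Transporting a base-changed involution on `S' ⊗ A` to matrices over `S'`. -/

namespace Groth.Agent.Helper4.AzSympB

universe u v

open scoped TensorProduct
open Matrix AzInv

variable {R : Type u} [CommRing R] (S' : Type u) [CommRing S'] [Algebra R S']
  {A : Type v} [Ring A] [Algebra R A] {N : Type} [Fintype N] [DecidableEq N]
  (θ : A ≃ₐ[R] Matrix N N R)

/-- `S' ⊗ A ≃ M_N(S')`. -/
noncomputable def Φ : S' ⊗[R] A ≃ₐ[R] Matrix N N S' :=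
  (Algebra.TensorProduct.congr (AlgEquiv.refl : S' ≃ₐ[R] S') θ).trans (matrixEquivTensor N R S').symm

theorem Φ_tmul (s : S') (a : A) : Φ S' θ (s ⊗ₜ a) = s • (θ a).map (algebraMap R S') := by
  simp [Φ]

theorem Φ_smul (s : S') (x : S' ⊗[R] A) : Φ S' θ (s • x) = s • Φ S' θ x := by
  induction x using TensorProduct.induction_on with
  | zero => simp
  | add x y hx hy => rw [smul_add, map_add, map_add, hx, hy, smul_add]
  | tmul s' a =>
    rw [TensorProduct.smul_tmul', Φ_tmul, Φ_tmul, smul_eq_mul, mul_smul]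

theorem Φ_bc (lam : R ≃ₐ[R] R) (t : LamInv R A lam) (Ω₀ Ω₀i : Matrix N N R)
    (hθ : ∀ a, θ (t a) = Ω₀ * (θ a)ᵀ * Ω₀i) (x : S' ⊗[R] A) :
    Φ S' θ (t.bc R lam S' x) =
      Ω₀.map (algebraMap R S') * (Φ S' θ x)ᵀ * Ω₀i.map (algebraMap R S') := by
  induction x using TensorProduct.induction_on with
  | zero => simp
  | add x y hx hy =>
    rw [map_add, map_add, hx, hy, map_add, transpose_add, Matrix.mul_add, Matrix.add_mul]
  | tmul s a =>
    rw [LamInv.bc_tmul, Φ_tmul, Φ_tmul, hθ, Matrix.map_mul, Matrix.map_mul, transpose_smul,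
      transpose_map, Matrix.mul_smul, Matrix.smul_mul]

end Groth.Agent.Helper4.AzSympB
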