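import Mathlib

/-!
# A natural transformation between functors preserving a (co)limit is an isomorphism on the
(co)limit point as soon as it is on the terms of the diagram
-/

set_option autoImplicit false
open CategoryTheory CategoryTheory.Limits

namespace Groth.Agent.Helper4.NatIsoClosure

universe v₁ v₂ v₃ u₁ u₂ u₃

variable {𝒜 : Type u₁} [Category.{v₁} 𝒜] {ℬ : Type u₂} [Category.{v₂} ℬ] {F G : 𝒜 ⥤ ℬ} (τ : F ⟶ G)
  {J : Type u₃} [Category.{v₃} J] {Dg : J ⥤ 𝒜}

theorem isIso_app_of_isColimit (c : Cocone Dg) (hc : IsColimit c)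
    [PreservesColimit Dg F] [PreservesColimit Dg G] (h : ∀ j, IsIso (τ.app (Dg.obj j))) :
    IsIso (τ.app c.pt) := by
  let e : Dg ⋙ F ≅ Dg ⋙ G :=
    NatIso.ofComponents (fun j => asIso (τ.app (Dg.obj j))) (by intros; simp)
  have hF := isColimitOfPreserves F hc
  have hG := isColimitOfPreserves G hc
  have h1 : τ.app c.pt = (IsColimit.coconePointsIsoOfNatIso hF hG e).hom := by
    apply hF.hom_ext
    intro j
    rw [IsColimit.comp_coconePointsIsoOfNatIso_hom]
    simp [e]
  rw [h1]
  infer_instance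

theorem isIso_app_of_isLimit (c : Cone Dg) (hc : IsLimit c)
    [PreservesLimit Dg F] [PreservesLimit Dg G] (h : ∀ j, IsIso (τ.app (Dg.obj j))) :
    IsIso (τ.app c.pt) := by
  let e : Dg ⋙ F ≅ Dg ⋙ G :=
    NatIso.ofComponents (fun j => asIso (τ.app (Dg.obj j))) (by intros; simp)
  have hF := isLimitOfPreserves F hc
  have hG := isLimitOfPreserves G hc
  have h1 : τ.app c.pt = (IsLimit.conePointsIsoOfNatIso hF hG e).hom := by
    apply hG.hom_ext
    intro j
    rw [IsLimit.conePointsIsoOfNatIso_hom_comp]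
    simp [e]
  rw [h1]
  infer_instance

/-- cokernels -/
theorem isIso_app_cokernel [HasZeroMorphisms 𝒜] [HasZeroMorphisms ℬ] {M N : 𝒜} (α : M ⟶ N)
    [HasCokernel α] [PreservesColimit (parallelPair α 0) F] [PreservesColimit (parallelPair α 0) G]
    (hM : IsIso (τ.app M)) (hN : IsIso (τ.app N)) : IsIso (τ.app (cokernel α)) :=
  isIso_app_of_isColimit τ _ (colimit.isColimit (parallelPair α 0)) (by
    rintro (_ | _)
    · exact hM
    · exact hN)

/-- kernels -/
theorem isIso_app_kernel [HasZeroMorphisms 𝒜] [HasZeroMorphisms ℬ] {M N : 𝒜} (α : M ⟶ N)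
    [HasKernel α] [PreservesLimit (parallelPair α 0) F] [PreservesLimit (parallelPair α 0) G]
    (hM : IsIso (τ.app M)) (hN : IsIso (τ.app N)) : IsIso (τ.app (kernel α)) :=
  isIso_app_of_isLimit τ _ (limit.isLimit (parallelPair α 0)) (by
    rintro (_ | _)
    · exact hM
    · exact hN)

/-- coproducts -/
theorem isIso_app_sigma {I : Type u₃} (X : I → 𝒜) [HasCoproduct X]
    [PreservesColimit (Discrete.functor X) F] [PreservesColimit (Discrete.functor X) G]
    (h : ∀ i, IsIso (τ.app (X i))) : IsIso (τ.app (∐ X)) :=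
  isIso_app_of_isColimit τ _ (colimit.isColimit (Discrete.functor X)) (fun j => h j.as)

end Groth.Agent.Helper4.NatIsoClosure
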