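import Mathlib

/-!
# Sheaves of modules for a trivial (chaotic) topology: everything is sectionwise
-/

set_option autoImplicit false
universe u
open CategoryTheory CategoryTheory.Limits Opposite

namespace Groth.Agent.Helper4.TrivTop

variable {D : Type u} [SmallCategory D]

/-- the topology is trivial: only maximal sieves cover -/
def IsTriv (K : GrothendieckTopology D) : Prop := ∀ (Y : D) (S : Sieve Y), S ∈ K Y → S = ⊤

lemma isTriv_bot : IsTriv (⊥ : GrothendieckTopology D) := by
  intro Y S hS
  exact (GrothendieckTopology.bot_covering).1 hS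

lemma isTriv_over {K : GrothendieckTopology D} (hK : IsTriv K) (X : D) : IsTriv (K.over X) := by
  intro Y S hS
  rw [GrothendieckTopology.mem_over_iff] at hS
  have h := hK _ _ hS
  have h2 : Sieve.overEquiv Y S = Sieve.overEquiv Y ⊤ := by rw [h, Sieve.overEquiv_top]
  exact (Sieve.overEquiv Y).injective h2

lemma isSheaf_of_isTriv {K : GrothendieckTopology D} (hK : IsTriv K) {A : Type*} [Category A]
    (P : Dᵒᵖ ⥤ A) : Presheaf.IsSheaf K P := by
  intro E Y S hS
  rw [hK Y S hS]
  exact Presieve.isSheafFor_top_sieve _

variable {K : GrothendieckTopology D} (hK : IsTriv K) (R : Sheaf K RingCat.{u})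

include hK in
lemma forget_essSurj : (SheafOfModules.forget.{u} R).EssSurj :=
  ⟨fun P => ⟨⟨P, isSheaf_of_isTriv hK _⟩, ⟨Iso.refl _⟩⟩⟩

include hK in
lemma forget_isEquivalence : (SheafOfModules.forget.{u} R).IsEquivalence := by
  haveI := forget_essSurj hK R
  exact { }

include hK in
lemma evaluation_preservesColimits (Y : Dᵒᵖ) :
    PreservesColimitsOfSize.{u, u} (SheafOfModules.evaluation.{u} R Y) := by
  haveI := forget_isEquivalence hK R
  haveI : PreservesColimitsOfSize.{u, u} (SheafOfModules.forget.{u} R) := inferInstance
  unfold SheafOfModules.evaluation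
  infer_instance

end Groth.Agent.Helper4.TrivTop
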