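import Mathlib
import Groth.Prelude.Def_ModSite
import Groth.Agent.Helper4.TrivTop
import Groth.Agent.Helper4.NatIsoClosure

/-!
# The base change transformation `O(U) ⊗_{O(V)} F(V) ⟶ F(U)` for sheaves of modules
-/

set_option autoImplicit false
universe u
open CategoryTheory CategoryTheory.Limits Opposite

namespace Groth.Agent.Helper4.BaseChg

variable {D : Type u} [SmallCategory D] {K : GrothendieckTopology D} (O : Sheaf K CommRingCat.{u})

/-- evaluation at `V`, with values in modules over the commutative ring `O(V)` -/
noncomputable def evC (V : D) : ModSite.Mod O ⥤ ModuleCat.{u} (O.obj.obj (op V)) :=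
  SheafOfModules.evaluation.{u} (ModSite.ringSh O) (op V)

variable {O}

/-- the restriction map as a morphism to the restriction of scalars -/
noncomputable def resMap {U V : D} (g : U ⟶ V) (F : ModSite.Mod O) :
    (evC O V).obj F ⟶ (ModuleCat.restrictScalars (O.obj.map g.op).hom).obj ((evC O U).obj F) :=
  F.val.map g.op

/-- the base change map -/
noncomputable def bc {U V : D} (g : U ⟶ V) (F : ModSite.Mod O) :
    (ModuleCat.extendScalars (O.obj.map g.op).hom).obj ((evC O V).obj F) ⟶ (evC O U).obj F :=
  ((ModuleCat.extendRestrictScalarsAdj (O.obj.map g.op).hom).homEquiv _ _).symm (resMap g F)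

theorem resMap_naturality {U V : D} (g : U ⟶ V) {F G : ModSite.Mod O} (α : F ⟶ G) :
    (evC O V).map α ≫ resMap g G =
      resMap g F ≫ (ModuleCat.restrictScalars (O.obj.map g.op).hom).map ((evC O U).map α) :=
  (α.val.naturality g.op).symm

/-- the base change transformation -/
noncomputable def bcNat {U V : D} (g : U ⟶ V) :
    evC O V ⋙ ModuleCat.extendScalars (O.obj.map g.op).hom ⟶ evC O U where
  app F := bc g F
  naturality F G α := by
    dsimp only [Functor.comp_obj, Functor.comp_map, bc]
    rw [← Adjunction.homEquiv_naturality_left_symm, ← Adjunction.homEquiv_naturality_right_symm,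
      resMap_naturality]

open TensorProduct ChangeOfRings


theorem bc_tmul {U V : D} (g : U ⟶ V) (F : ModSite.Mod O) (s : O.obj.obj (op U))
    (m : (evC O V).obj F) :
    (bc g F).hom (s ⊗ₜ[O.obj.obj (op V), (O.obj.map g.op).hom] m) = s • (resMap g F).hom m := by
  rfl

/-- sections of the structure sheaf, as a module -/
noncomputable def toU (V : D) (r : O.obj.obj (op V)) : (evC O V).obj (ModSite.unit O) := r
/-- sections of the structure sheaf, as a module -/
noncomputable def ofU (V : D) (x : (evC O V).obj (ModSite.unit O)) : O.obj.obj (op V) := x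

theorem toU_ofU (V : D) (x : (evC O V).obj (ModSite.unit O)) : toU V (ofU V x) = x := rfl
theorem ofU_toU (V : D) (r : O.obj.obj (op V)) : ofU V (toU (O := O) V r) = r := rfl
theorem ofU_add (V : D) (x y : (evC O V).obj (ModSite.unit O)) : ofU V (x + y) = ofU V x + ofU V y := rfl
theorem ofU_zero (V : D) : ofU V (0 : (evC O V).obj (ModSite.unit O)) = 0 := rfl
theorem toU_smul (V : D) (a r : O.obj.obj (op V)) : a • toU (O := O) V r = toU V (a * r) := rfl
theorem resMap_toU {U V : D} (g : U ⟶ V) (r : O.obj.obj (op V)) :
    (resMap g (ModSite.unit O)).hom (toU V r) = toU U ((O.obj.map g.op).hom r) := rfl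

theorem isIso_bc_unit {U V : D} (g : U ⟶ V) : IsIso (bc g (ModSite.unit O)) := by
  rw [ConcreteCategory.isIso_iff_bijective]
  letI : Module (O.obj.obj (op V)) (O.obj.obj (op U)) := Module.compHom _ (O.obj.map g.op).hom
  have key : ∀ a : (ModuleCat.extendScalars (O.obj.map g.op).hom).obj ((evC O V).obj (ModSite.unit O)),
      a = ((ofU U ((bc g (ModSite.unit O)).hom a)) ⊗ₜ[O.obj.obj (op V), (O.obj.map g.op).hom]
        (toU (O := O) V 1) :
        (ModuleCat.extendScalars (O.obj.map g.op).hom).obj ((evC O V).obj (ModSite.unit O))) := by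
    intro a
    induction a using TensorProduct.induction_on with
    | zero =>
      have h0 : ofU U ((bc g (ModSite.unit O)).hom 0) = 0 := by
        rw [map_zero]; rfl
      exact ((congrArg (fun t : O.obj.obj (op U) =>
        t ⊗ₜ[O.obj.obj (op V)] (toU (O := O) V 1)) h0).trans (TensorProduct.zero_tmul _ _)).symm
    | tmul s x =>
      have h := TensorProduct.smul_tmul (R := O.obj.obj (op V)) (R' := O.obj.obj (op V))
        (ofU V x) (show O.obj.obj (op U) from s) (toU (O := O) V 1)
      have e1 : (ofU V x) • (show O.obj.obj (op U) from s) =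
          (show O.obj.obj (op U) from s) * (O.obj.map g.op).hom (ofU V x) := mul_comm _ _
      have e2 : (ofU V x) • (toU (O := O) V 1) = x := by
        rw [toU_smul, mul_one, toU_ofU]
      rw [e1, e2] at h
      exact h.symm
    | add a b ha hb =>
      have hab : ofU U ((bc g (ModSite.unit O)).hom (a + b)) =
          ofU U ((bc g (ModSite.unit O)).hom a) + ofU U ((bc g (ModSite.unit O)).hom b) :=
        congrArg (ofU U) (map_add (bc g (ModSite.unit O)).hom a b)
      exact (congrArg₂ (· + ·) ha hb).trans ((TensorProduct.add_tmul _ _ _).symm.trans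
        (congrArg (fun t : O.obj.obj (op U) =>
          t ⊗ₜ[O.obj.obj (op V)] (toU (O := O) V 1)) hab.symm))
  constructor
  · intro a b hab
    rw [key a, key b]
    exact congrArg (fun t => (ofU U t) ⊗ₜ[O.obj.obj (op V)] (toU (O := O) V 1)) hab
  · intro y
    refine ⟨(ofU U y) ⊗ₜ[O.obj.obj (op V), (O.obj.map g.op).hom] (toU (O := O) V 1), ?_⟩
    change (ofU U y) * (O.obj.map g.op).hom 1 = ofU U y
    rw [map_one, mul_one]

section Triv

open Groth.Agent.Helper4.TrivTop Groth.Agent.Helper4.NatIsoClosure

variable (hK : IsTriv K)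

include hK in
lemma evC_preservesColimits (V : D) : PreservesColimitsOfSize.{u, u} (evC O V) :=
  evaluation_preservesColimits hK (ModSite.ringSh O) (op V)

include hK in
theorem isIso_bc_free {U V : D} (g : U ⟶ V) (I : Type u) :
    IsIso (bc g (SheafOfModules.free (R := ModSite.ringSh O) I)) := by
  haveI := evC_preservesColimits (O := O) hK V
  haveI := evC_preservesColimits (O := O) hK U
  exact isIso_app_sigma (bcNat g) (fun _ : I => ModSite.unit O) (fun _ => isIso_bc_unit g)

include hK in
theorem isIso_bc_of_presentation {U V : D} (g : U ⟶ V) {M : ModSite.Mod O}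
    (P : SheafOfModules.Presentation M) : IsIso (bc g M) := by
  haveI := evC_preservesColimits (O := O) hK V
  haveI := evC_preservesColimits (O := O) hK U
  have w : ((SheafOfModules.freeHomEquiv _).symm P.relations.s ≫ kernel.ι P.generators.π) ≫
      P.generators.π = 0 := by simp
  have h : IsIso ((bcNat g).app (CokernelCofork.ofπ P.generators.π w).pt) :=
    isIso_app_of_isColimit (F := evC O V ⋙ ModuleCat.extendScalars (O.obj.map g.op).hom)
      (G := evC O U) (bcNat g)
      (Dg := parallelPair ((SheafOfModules.freeHomEquiv _).symm P.relations.s ≫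
        kernel.ι P.generators.π) 0)
      (CokernelCofork.ofπ P.generators.π w) P.isColimit (by
        rintro (_ | _)
        · exact isIso_bc_free hK g _
        · exact isIso_bc_free hK g _)
  exact h

end Triv

end Groth.Agent.Helper4.BaseChg
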