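import Mathlib
import Groth.Agent.Helper4.AmpleLocal

set_option autoImplicit false
open CategoryTheory Limits AlgebraicGeometry TopologicalSpace Opposite
universe u

namespace Groth.Agent.Helper4.BaseLocus

open Groth.Agent.Helper4.TensorInv Groth.Agent.Helper4.TensorAssoc Groth.Agent.Helper4.AmpleIso

variable {X : Scheme.{u}}

/-- base locus of a module: points where no global section generates -/
def BsM (M : X.Modules) : Set X :=
  {x : X | ∀ s : Coh.structureModule X ⟶ M, x ∉ CohB1.genLocus M s}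

theorem BsM_iso {A B : X.Modules} (e : A ≅ B) : BsM A = BsM B := by
  ext x
  constructor
  · intro h s hs
    apply h (s ≫ e.inv)
    have := genLocus_comp_iso e.symm s
    rw [Iso.symm_hom] at this
    rw [this]; exact hs
  · intro h s hs
    apply h (s ≫ e.hom)
    rw [genLocus_comp_iso]; exact hs

theorem isClosed_BsM (M : X.Modules) : IsClosed (BsM M) := by
  have : BsM M = (⋃ s : Coh.structureModule X ⟶ M, (CohB1.genLocus M s : Set X))ᶜ := by
    ext x
    simp [BsM]
  rw [this]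
  exact (isOpen_iUnion fun s => (CohB1.genLocus M s).isOpen).isClosed_compl

theorem BsM_pow_subset (M : X.Modules) (hM : PicF.IsInvertible M) (b : ℕ) (hb : 0 < b) :
    BsM (CohB1.tensorPow M b) ⊆ BsM M := by
  obtain ⟨b', rfl⟩ := Nat.exists_eq_succ_of_ne_zero hb.ne'
  intro x hx s hs
  apply hx (SecTwist.powHom s (b' + 1))
  rw [genLocus_powHom hM]; exact hs

/-- base locus of `L^m` -/
def Bs (L : X.Modules) (m : ℕ) : Set X := BsM (CohB1.tensorPow L m)

theorem Bs_pow (L : X.Modules) (hL : PicF.IsInvertible L) (p m : ℕ) :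
    Bs (CohB1.tensorPow L p) m = Bs L (p * m) :=
  BsM_iso (powMulIso L hL p m)

theorem Bs_mul_subset (L : X.Modules) (hL : PicF.IsInvertible L) (a b : ℕ) (hb : 0 < b) :
    Bs L (a * b) ⊆ Bs L a := by
  rw [← Bs_pow L hL]
  exact BsM_pow_subset _ (isInvertible_tensorPow hL a) b hb

theorem Bs_mul_subset' (L : X.Modules) (hL : PicF.IsInvertible L) (a b : ℕ) (ha : 0 < a) :
    Bs L (a * b) ⊆ Bs L b := by
  rw [Nat.mul_comm]; exact Bs_mul_subset L hL b a ha

/-- stable base locus -/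
def B (L : X.Modules) : Set X := {x : X | ∀ m : ℕ, 0 < m → x ∈ Bs L m}

theorem B_subset_Bs (L : X.Modules) (m : ℕ) (hm : 0 < m) : B L ⊆ Bs L m := fun _ hx => hx m hm

theorem B_pow (L : X.Modules) (hL : PicF.IsInvertible L) (p : ℕ) (hp : 0 < p) :
    B (CohB1.tensorPow L p) = B L := by
  ext x
  constructor
  · intro h m hm
    have := h m hm
    rw [Bs_pow L hL] at this
    exact Bs_mul_subset' L hL p m hp this
  · intro h m hm
    rw [Bs_pow L hL]
    exact h (p * m) (Nat.mul_pos hp hm)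

theorem exists_B_eq_Bs [NoetherianSpace X] (L : X.Modules) (hL : PicF.IsInvertible L) :
    ∃ n₀ : ℕ, 0 < n₀ ∧ B L = Bs L n₀ := by
  classical
  -- the complement of B is a union of opens, compact
  have hc : IsCompact (⋃ m : {m : ℕ // 0 < m}, (Bs L m.1)ᶜ) := NoetherianSpace.isCompact _
  obtain ⟨S, hS⟩ := hc.elim_finite_subcover (fun m : {m : ℕ // 0 < m} => (Bs L m.1)ᶜ)
    (fun m => (isClosed_BsM _).isOpen_compl) (subset_refl _)
  let n₀ : ℕ := S.prod (fun m => m.1)
  have hn₀ : 0 < n₀ := Finset.prod_pos (fun m _ => m.2)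
  refine ⟨n₀, hn₀, subset_antisymm (B_subset_Bs L n₀ hn₀) ?_⟩
  intro x hx m hm
  by_contra hxm
  have : x ∈ ⋃ m : {m : ℕ // 0 < m}, (Bs L m.1)ᶜ := Set.mem_iUnion.mpr ⟨⟨m, hm⟩, hxm⟩
  have := hS this
  simp only [Set.mem_iUnion] at this
  obtain ⟨m', hm'S, hxm'⟩ := this
  apply hxm'
  obtain ⟨c, hc⟩ : m'.1 ∣ n₀ := Finset.dvd_prod_of_mem (fun m => m.1) hm'S
  have hcpos : 0 < c := by
    rcases Nat.eq_zero_or_pos c with h | h
    · rw [h, Nat.mul_zero] at hc; omega
    · exact h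
  rw [hc] at hx
  exact Bs_mul_subset L hL m'.1 c hcpos hx

theorem noetherianSpace_of_proper_over_field (k : Type u) [Field k]
    (f : X ⟶ Spec (CommRingCat.of k)) [IsProper f] : NoetherianSpace X := by
  haveI h1 : IsLocallyNoetherian X := LocallyOfFiniteType.isLocallyNoetherian f
  haveI : CompactSpace X := QuasiCompact.compactSpace_of_compactSpace f
  haveI : IsNoetherian X := { }
  infer_instance

theorem exists_B_eq_Bs_mul [NoetherianSpace X] (L : X.Modules) (hL : PicF.IsInvertible L) :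
    ∃ n₀ : ℕ, 0 < n₀ ∧ ∀ k : ℕ, 0 < k → B L = Bs L (k * n₀) := by
  obtain ⟨n₀, hn₀, h⟩ := exists_B_eq_Bs L hL
  refine ⟨n₀, hn₀, fun k hk => subset_antisymm (B_subset_Bs L _ (Nat.mul_pos hk hn₀)) ?_⟩
  rw [h]
  exact Bs_mul_subset' L hL k n₀ hk

theorem minimal_iff [NoetherianSpace X] (L : X.Modules) (hL : PicF.IsInvertible L) (m : ℕ)
    (hm : 0 < m) :
    (∀ m' : ℕ, 0 < m' → Bs L m' ⊆ Bs L m → Bs L m' = Bs L m) ↔ Bs L m = B L := by
  constructor
  · intro hmin
    obtain ⟨n₀, hn₀, h⟩ := exists_B_eq_Bs L hL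
    have h1 := hmin (m * n₀) (Nat.mul_pos hm hn₀) (Bs_mul_subset L hL m n₀ hn₀)
    refine subset_antisymm ?_ (B_subset_Bs L m hm)
    rw [← h1, h]
    exact Bs_mul_subset' L hL m n₀ hm
  · intro h m' hm' hsub
    refine subset_antisymm hsub ?_
    rw [h]
    exact B_subset_Bs L m' hm'

end Groth.Agent.Helper4.BaseLocus
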