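import Mathlib

set_option autoImplicit false
universe u
open TensorProduct

namespace Groth.Agent.Helper4.BddAlg

variable {B : Type u} [CommRing B] {M : Type u} [AddCommGroup M] [Module B M]

/-- for a maximal ideal `p`, `1 ⊗ x = 0` in `κ(p) ⊗ M` means `x ∈ pM`. -/
theorem mem_smul_top_of_tmul_eq_zero (p : Ideal B) [p.IsMaximal] (x : M)
    (h : (1 : p.ResidueField) ⊗ₜ[B] x = 0) : x ∈ p • (⊤ : Submodule B M) := by
  let e : (B ⧸ p) ≃ₗ[B] p.ResidueField :=
    LinearEquiv.ofBijective ((Algebra.linearMap (B ⧸ p) p.ResidueField).restrictScalars B)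
      p.bijective_algebraMap_quotient_residueField
  let E : (B ⧸ p) ⊗[B] M ≃ₗ[B] p.ResidueField ⊗[B] M := TensorProduct.congr e (LinearEquiv.refl B M)
  have h1 : E ((1 : B ⧸ p) ⊗ₜ[B] x) = (1 : p.ResidueField) ⊗ₜ[B] x := by
    simp [E, e]
  have h2 : ((1 : B ⧸ p) ⊗ₜ[B] x) = 0 := by
    apply E.injective
    rw [h1, h, map_zero]
  have h3 := TensorProduct.quotTensorEquivQuotSMul_mk_tmul (M := M) p 1 x
  rw [map_one, h2, map_zero, one_smul] at h3
  exact (Submodule.Quotient.mk_eq_zero _).mp h3.symm

/-- local generation modulo a maximal ideal -/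
theorem exists_local_gen (p : Ideal B) [p.IsMaximal]
    [Module.Finite p.ResidueField (p.ResidueField ⊗[B] M)] (n : ℕ)
    (hn : Module.finrank p.ResidueField (p.ResidueField ⊗[B] M) ≤ n) :
    ∃ g : Fin n → M, ∀ m : M, ∃ b : Fin n → B,
      m - ∑ j, b j • g j ∈ p • (⊤ : Submodule B M) := by
  set k := p.ResidueField
  set V := k ⊗[B] M
  let bas := Module.finBasis k V
  let d := Module.finrank k V
  let v : Fin n → V := fun j => if h : (j : ℕ) < d then bas ⟨j, h⟩ else 0
  have hv : Submodule.span k (Set.range v) = ⊤ := by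
    rw [eq_top_iff, ← bas.span_eq, Submodule.span_le]
    rintro _ ⟨i, rfl⟩
    apply Submodule.subset_span
    refine ⟨⟨i, lt_of_lt_of_le i.2 hn⟩, ?_⟩
    simp [v, d]
  have hsurj := TensorProduct.mk_surjective B M k p.algebraMap_residueField_surjective
  choose g hg using fun j => hsurj (v j)
  refine ⟨g, fun m => ?_⟩
  have hm : (1 : k) ⊗ₜ[B] m ∈ Submodule.span k (Set.range v) := by rw [hv]; trivial
  obtain ⟨c, hc⟩ := (Submodule.mem_span_range_iff_exists_fun k).mp hm
  choose b hb using fun j => p.algebraMap_residueField_surjective (c j)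
  refine ⟨b, mem_smul_top_of_tmul_eq_zero p _ ?_⟩
  rw [tmul_sub, tmul_sum, ← hc, sub_eq_zero]
  refine Finset.sum_congr rfl fun j _ => ?_
  rw [← hb j, ← hg j]
  show algebraMap B k (b j) • ((1 : k) ⊗ₜ[B] g j) = (1 : k) ⊗ₜ[B] (b j • g j)
  rw [TensorProduct.smul_tmul', Algebra.algebraMap_eq_smul_one, smul_assoc, one_smul,
    TensorProduct.smul_tmul]

/-- Nakayama over a ring with finitely many maximal ideals: if `N + pM = M` for all primes `p`
(all maximal) then `N = M`. -/
theorem eq_top_of_forall_sup_smul [IsArtinianRing B] [Module.Finite B M] (N : Submodule B M)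
    (h : ∀ p : PrimeSpectrum B, (⊤ : Submodule B M) ≤ N ⊔ p.asIdeal • ⊤) : N = ⊤ := by
  classical
  haveI : Finite (PrimeSpectrum B) := inferInstance
  haveI := Fintype.ofFinite (PrimeSpectrum B)
  have key : ∀ s : Finset (PrimeSpectrum B),
      (⊤ : Submodule B M) ≤ N ⊔ (∏ p ∈ s, p.asIdeal) • ⊤ := by
    intro s
    induction s using Finset.induction_on with
    | empty => simp
    | insert a s ha ih =>
      rw [Finset.prod_insert ha, Submodule.mul_smul]
      calc (⊤ : Submodule B M) ≤ N ⊔ a.asIdeal • ⊤ := h a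
        _ ≤ N ⊔ a.asIdeal • (N ⊔ (∏ p ∈ s, p.asIdeal) • ⊤) := by
            gcongr
        _ ≤ N ⊔ a.asIdeal • ((∏ p ∈ s, p.asIdeal) • ⊤) := by
            rw [Submodule.smul_sup]
            refine sup_le le_sup_left (sup_le ?_ le_sup_right)
            exact le_trans Submodule.smul_le_right le_sup_left
  have hjac : (∏ p ∈ (Finset.univ : Finset (PrimeSpectrum B)), p.asIdeal) ≤ Ideal.jacobson ⊥ := by
    rw [Ideal.jacobson, le_sInf_iff]
    rintro J ⟨-, hJ⟩
    have hmem : (⟨J, hJ.isPrime⟩ : PrimeSpectrum B) ∈ (Finset.univ : Finset (PrimeSpectrum B)) :=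
      Finset.mem_univ _
    exact le_trans Ideal.prod_le_inf (Finset.inf_le (f := fun p : PrimeSpectrum B => p.asIdeal) hmem)
  exact eq_top_iff.mpr
    (Submodule.le_of_le_smul_of_le_jacobson_bot Module.Finite.fg_top hjac (key Finset.univ))

/-- global generation by `n` elements from the fibre bounds -/
theorem exists_gen_of_fiber_le [IsArtinianRing B] [Module.Finite B M] (n : ℕ)
    (h : ∀ p : PrimeSpectrum B,
      Module.Finite p.asIdeal.ResidueField (p.asIdeal.ResidueField ⊗[B] M) ∧
      Module.finrank p.asIdeal.ResidueField (p.asIdeal.ResidueField ⊗[B] M) ≤ n) :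
    ∃ g : Fin n → M, Submodule.span B (Set.range g) = ⊤ := by
  classical
  haveI : Finite (PrimeSpectrum B) := inferInstance
  haveI := Fintype.ofFinite (PrimeSpectrum B)
  have hmax : ∀ p : PrimeSpectrum B, p.asIdeal.IsMaximal := fun p =>
    IsArtinianRing.isMaximal_of_isPrime _
  have hloc : ∀ p : PrimeSpectrum B, ∃ g : Fin n → M, ∀ m : M, ∃ b : Fin n → B,
      m - ∑ j, b j • g j ∈ p.asIdeal • (⊤ : Submodule B M) := by
    intro p
    haveI := hmax p
    haveI := (h p).1
    exact exists_local_gen p.asIdeal n (h p).2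
  choose gp hgp using hloc
  have hcop : Pairwise (Function.onFun IsCoprime (fun p : PrimeSpectrum B => p.asIdeal)) := by
    intro p q hpq
    refine Ideal.isCoprime_iff_sup_eq.mpr (Ideal.IsMaximal.coprime_of_ne (hmax p) (hmax q) ?_)
    intro hh
    exact hpq (PrimeSpectrum.ext hh)
  have hcrt : ∀ p : PrimeSpectrum B, ∃ e : B, e - 1 ∈ p.asIdeal ∧
      ∀ q : PrimeSpectrum B, q ≠ p → e ∈ q.asIdeal := by
    intro p
    obtain ⟨r, hr⟩ := Ideal.exists_forall_sub_mem_ideal hcop (fun q => if q = p then 1 else 0)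
    refine ⟨r, by simpa using hr p, fun q hq => ?_⟩
    have := hr q
    simpa [hq] using this
  choose e he1 he0 using hcrt
  let g : Fin n → M := fun j => ∑ p, e p • gp p j
  refine ⟨g, eq_top_of_forall_sup_smul _ fun p => ?_⟩
  intro m _
  obtain ⟨b, hb⟩ := hgp p m
  have hdiff : ∀ j, gp p j - g j ∈ p.asIdeal • (⊤ : Submodule B M) := by
    intro j
    have : gp p j - g j = (1 - e p) • gp p j - ∑ q ∈ Finset.univ.erase p, e q • gp q j := by
      simp only [g]
      rw [← Finset.add_sum_erase _ _ (Finset.mem_univ p), sub_smul, one_smul]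
      abel
    rw [this]
    refine Submodule.sub_mem _ ?_ (Submodule.sum_mem _ fun q hq => ?_)
    · refine Submodule.smul_mem_smul ?_ trivial
      have := p.asIdeal.neg_mem (he1 p)
      simpa using this
    · exact Submodule.smul_mem_smul (he0 q p (Finset.ne_of_mem_erase hq).symm) trivial
  have hm : m = ∑ j, b j • g j + ((m - ∑ j, b j • gp p j) + ∑ j, b j • (gp p j - g j)) := by
    simp only [smul_sub, Finset.sum_sub_distrib]
    abel
  rw [hm]
  refine Submodule.add_mem_sup ?_ ?_
  · exact Submodule.sum_mem _ fun j _ =>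
      Submodule.smul_mem _ _ (Submodule.subset_span ⟨j, rfl⟩)
  · refine Submodule.add_mem _ hb (Submodule.sum_mem _ fun j _ => ?_)
    exact Submodule.smul_mem _ _ (hdiff j)

/-- the dimension count: a `B`-algebra `C` all of whose fibres have degree `≤ n` over a finite
`K`-algebra `B` has `K`-dimension at most `n * dim_K B`. -/
theorem finrank_le_mul (K B C : Type u) [Field K] [CommRing B] [CommRing C] [Algebra K B]
    [Algebra B C] [Algebra K C] [IsScalarTower K B C] [Module.Finite K B] (n : ℕ)
    (h : ∀ p : PrimeSpectrum B,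
      Module.Finite p.asIdeal.ResidueField (p.asIdeal.ResidueField ⊗[B] C) ∧
      Module.finrank p.asIdeal.ResidueField (p.asIdeal.ResidueField ⊗[B] C) ≤ n) :
    Module.Finite K C ∧ Module.finrank K C ≤ n * Module.finrank K B := by
  haveI : IsArtinianRing B := IsArtinianRing.of_finite K B
  haveI : Algebra.QuasiFinite B C := ⟨fun P _ => (h ⟨P, inferInstance⟩).1⟩
  haveI : Module.Finite B C := Module.Finite.of_quasiFinite
  haveI : Module.Finite K C := Module.Finite.trans B C
  refine ⟨inferInstance, ?_⟩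
  obtain ⟨g, hg⟩ := exists_gen_of_fiber_le (B := B) (M := C) n h
  let F : (Fin n → B) →ₗ[B] C := Fintype.linearCombination B g
  have hF : Function.Surjective F := by
    rw [← LinearMap.range_eq_top, Fintype.range_linearCombination, hg]
  let F' : (Fin n → B) →ₗ[K] C := F.restrictScalars K
  have hF' : Function.Surjective F' := hF
  have := LinearMap.finrank_le_finrank_of_surjective hF'
  rwa [Module.finrank_pi_fintype, Finset.sum_const, Finset.card_univ, Fintype.card_fin,
    smul_eq_mul] at this

end Groth.Agent.Helper4.BddAlg
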