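import Mathlib
import Groth.Agent.Helper8.SpanFF

/-! Dévissage for full faithfulness of a triangulated functor: the class of pairs `(X, Y)` on which
`F` induces bijections `Hom(X, Y[n]) → Hom(FX, F(Y[n]))` for all `n` is closed under extensions
in both variables. -/

set_option autoImplicit false
set_option linter.unusedSectionVars false

namespace Groth.Agent.Helper4.FFDev

open CategoryTheory Limits Pretriangulated Groth.Agent.Helper8.SpanFF

universe v v' u u'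

variable {D : Type u} [Category.{v} D] [Preadditive D] [HasZeroObject D] [HasShift D ℤ]
  [∀ n : ℤ, (shiftFunctor D n).Additive] [Pretriangulated D]
  {D' : Type u'} [Category.{v'} D'] [Preadditive D'] [HasZeroObject D'] [HasShift D' ℤ]
  [∀ n : ℤ, (shiftFunctor D' n).Additive] [Pretriangulated D']
  (F : D ⥤ D') [F.CommShift ℤ] [F.IsTriangulated]

/-- middle term, covariant variable -/
lemma bij_mid (T : Triangle D) (hT : T ∈ distTriang D) (X : D)
    (h1 : BijOn F X T.obj₁) (h3 : BijOn F X T.obj₃)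
    (h1' : Function.Injective (fun f : X ⟶ T.obj₁⟦(1 : ℤ)⟧ => F.map f))
    (h3' : Function.Surjective (fun f : X ⟶ T.obj₃⟦(-1 : ℤ)⟧ => F.map f)) :
    BijOn F X T.obj₂ := by
  have hFT := F.map_distinguished T hT
  have hTi := inv_rot_of_distTriang T hT
  have hFTi := F.map_distinguished _ hTi
  have z12 : T.mor₁ ≫ T.mor₂ = 0 := comp_distTriang_mor_zero₁₂ _ hT
  have z23 : T.mor₂ ≫ T.mor₃ = 0 := comp_distTriang_mor_zero₂₃ _ hT
  obtain ⟨m, hm⟩ : ∃ m : T.obj₃⟦(-1 : ℤ)⟧ ⟶ T.obj₁, m = T.invRotate.mor₁ := ⟨_, rfl⟩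
  have zm : m ≫ T.mor₁ = 0 := by
    rw [hm]; exact comp_distTriang_mor_zero₁₂ _ hTi
  constructor
  · -- injectivity
    intro g g' hgg
    have hgg' : F.map g = F.map g' := hgg
    have h0 : F.map (g - g') = 0 := by rw [F.map_sub, hgg', sub_self]
    suffices g - g' = 0 from sub_eq_zero.1 this
    generalize g - g' = g at h0
    have e1 : g ≫ T.mor₂ = 0 := by
      apply h3.1
      show F.map (g ≫ T.mor₂) = F.map 0
      rw [F.map_comp, h0, zero_comp, F.map_zero]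
    obtain ⟨(k : X ⟶ T.obj₁), (hk : g = k ≫ T.mor₁)⟩ := Triangle.coyoneda_exact₂ T hT g e1
    have e2 : F.map k ≫ F.map T.mor₁ = 0 := by
      rw [← F.map_comp, ← hk, h0]
    have hex : ∃ (l' : F.obj X ⟶ F.obj (T.obj₃⟦(-1 : ℤ)⟧)), F.map k = l' ≫ F.map m := by
      rw [hm]
      exact Triangle.coyoneda_exact₂ _ hFTi (F.map k) e2
    obtain ⟨l', hl'⟩ := hex
    obtain ⟨l, hl⟩ := h3' l'
    have hl2 : F.map l = l' := hl
    have e3 : k = l ≫ m := by
      apply h1.1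
      show F.map k = F.map (l ≫ m)
      rw [F.map_comp, hl2]
      exact hl'
    rw [hk, e3, Category.assoc, zm, comp_zero]
  · -- surjectivity
    intro g'
    obtain ⟨h, hh⟩ := h3.2 (g' ≫ F.map T.mor₂)
    have hh' : F.map h = g' ≫ F.map T.mor₂ := hh
    have e1 : h ≫ T.mor₃ = 0 := by
      apply h1'
      show F.map (h ≫ T.mor₃) = F.map 0
      rw [F.map_comp, hh', Category.assoc, ← F.map_comp, z23, F.map_zero, comp_zero, F.map_zero]
    obtain ⟨(g₂ : X ⟶ T.obj₂), (hg₂ : h = g₂ ≫ T.mor₂)⟩ := Triangle.coyoneda_exact₃ T hT h e1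
    have e2 : (g' - F.map g₂) ≫ F.map T.mor₂ = 0 := by
      rw [Preadditive.sub_comp, ← hh', ← F.map_comp, ← hg₂, sub_self]
    obtain ⟨(k' : F.obj X ⟶ F.obj T.obj₁), (hk' : g' - F.map g₂ = k' ≫ F.map T.mor₁)⟩ :=
      Triangle.coyoneda_exact₂ _ hFT _ e2
    obtain ⟨k, hk⟩ := h1.2 k'
    have hk2 : F.map k = k' := hk
    refine ⟨g₂ + k ≫ T.mor₁, ?_⟩
    show F.map (g₂ + k ≫ T.mor₁) = g'
    rw [F.map_add, F.map_comp, hk2, ← hk']
    abel

/-- middle term, contravariant variable -/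
lemma bij_mid_left (T : Triangle D) (hT : T ∈ distTriang D) (Y : D)
    (h1 : BijOn F T.obj₁ Y) (h3 : BijOn F T.obj₃ Y)
    (h3' : Function.Injective (fun f : T.obj₃⟦(-1 : ℤ)⟧ ⟶ Y => F.map f))
    (h1' : Function.Surjective (fun f : T.obj₁⟦(1 : ℤ)⟧ ⟶ Y => F.map f)) :
    BijOn F T.obj₂ Y := by
  have hFT := F.map_distinguished T hT
  have hTi := inv_rot_of_distTriang T hT
  have z12 : T.mor₁ ≫ T.mor₂ = 0 := comp_distTriang_mor_zero₁₂ _ hT
  have z23 : T.mor₂ ≫ T.mor₃ = 0 := comp_distTriang_mor_zero₂₃ _ hT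
  obtain ⟨m, hm⟩ : ∃ m : T.obj₃⟦(-1 : ℤ)⟧ ⟶ T.obj₁, m = T.invRotate.mor₁ := ⟨_, rfl⟩
  have zm : m ≫ T.mor₁ = 0 := by
    rw [hm]; exact comp_distTriang_mor_zero₁₂ _ hTi
  constructor
  · intro g g' hgg
    have hgg' : F.map g = F.map g' := hgg
    have h0 : F.map (g - g') = 0 := by rw [F.map_sub, hgg', sub_self]
    suffices g - g' = 0 from sub_eq_zero.1 this
    generalize g - g' = g at h0
    have e1 : T.mor₁ ≫ g = 0 := by
      apply h1.1
      show F.map (T.mor₁ ≫ g) = F.map 0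
      rw [F.map_comp, h0, comp_zero, F.map_zero]
    obtain ⟨(k : T.obj₃ ⟶ Y), (hk : g = T.mor₂ ≫ k)⟩ := Triangle.yoneda_exact₂ T hT g e1
    have e2 : F.map T.mor₂ ≫ F.map k = 0 := by
      rw [← F.map_comp, ← hk, h0]
    obtain ⟨(l'' : (F.obj T.obj₁)⟦(1 : ℤ)⟧ ⟶ F.obj Y),
        (hl'' : F.map k = (F.map T.mor₃ ≫ (F.commShiftIso (1 : ℤ)).hom.app T.obj₁) ≫ l'')⟩ :=
      Triangle.yoneda_exact₃ _ hFT (F.map k) e2
    obtain ⟨l, hl⟩ := h1' ((F.commShiftIso (1 : ℤ)).hom.app T.obj₁ ≫ l'')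
    have hl2 : F.map l = (F.commShiftIso (1 : ℤ)).hom.app T.obj₁ ≫ l'' := hl
    have e3 : k = T.mor₃ ≫ l := by
      apply h3.1
      show F.map k = F.map (T.mor₃ ≫ l)
      rw [F.map_comp, hl2, hl'', Category.assoc]
    rw [hk, e3, ← Category.assoc, z23, zero_comp]
  · intro g'
    obtain ⟨h, hh⟩ := h1.2 (F.map T.mor₁ ≫ g')
    have hh' : F.map h = F.map T.mor₁ ≫ g' := hh
    have e1 : m ≫ h = 0 := by
      apply h3'
      show F.map (m ≫ h) = F.map 0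
      rw [F.map_comp, hh', ← Category.assoc, ← F.map_comp, zm, F.map_zero, zero_comp, F.map_zero]
    have hex : ∃ (g₂ : T.obj₂ ⟶ Y), h = T.mor₁ ≫ g₂ :=
      Triangle.yoneda_exact₂ _ hTi h (by rw [← hm]; exact e1)
    obtain ⟨g₂, hg₂⟩ := hex
    have e2 : F.map T.mor₁ ≫ (g' - F.map g₂) = 0 := by
      rw [Preadditive.comp_sub, ← hh', ← F.map_comp, ← hg₂, sub_self]
    obtain ⟨(k' : F.obj T.obj₃ ⟶ F.obj Y), (hk' : g' - F.map g₂ = F.map T.mor₂ ≫ k')⟩ :=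
      Triangle.yoneda_exact₂ _ hFT _ e2
    obtain ⟨k, hk⟩ := h3.2 k'
    have hk2 : F.map k = k' := hk
    refine ⟨g₂ + T.mor₂ ≫ k, ?_⟩
    show F.map (g₂ + T.mor₂ ≫ k) = g'
    rw [F.map_add, F.map_comp, hk2, ← hk']
    abel

/-- bijectivity on all shifted Hom groups -/
def BJ (X Y : D) : Prop := ∀ n : ℤ, BijOn F X (Y⟦n⟧)

variable {F}

lemma BJ.of_iso {X X₀ Y Y₀ : D} (i : X ≅ X₀) (j : Y ≅ Y₀) (h : BJ F X₀ Y₀) : BJ F X Y :=
  fun n => bijOn_of_iso F i ((shiftFunctor D n).mapIso j) (h n)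

lemma BJ.shift_right {X Y : D} (h : BJ F X Y) (a : ℤ) : BJ F X (Y⟦a⟧) := fun n =>
  bijOn_of_iso F (Iso.refl X) ((shiftFunctorAdd' D a n (a + n) rfl).app Y).symm (h (a + n))

lemma BJ.shift_left {X Y : D} (h : BJ F X Y) (a : ℤ) : BJ F (X⟦a⟧) Y := fun n =>
  bijOn_of_iso F (Iso.refl _) ((shiftFunctorAdd' D (n - a) a n (by omega)).app Y)
    (bijOn_shift F a (h (n - a)))

lemma BJ.of_isZero_right (X : D) {Y : D} (hY : IsZero Y) : BJ F X Y := by
  intro n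
  have h1 : IsZero (Y⟦n⟧) := (shiftFunctor D n).map_isZero hY
  have h2 : IsZero (F.obj (Y⟦n⟧)) := F.map_isZero h1
  exact ⟨fun f g _ => h1.eq_of_tgt _ _, fun g => ⟨0, h2.eq_of_tgt _ _⟩⟩

lemma BJ.of_isZero_left {X : D} (hX : IsZero X) (Y : D) : BJ F X Y := by
  intro n
  have h2 : IsZero (F.obj X) := F.map_isZero hX
  exact ⟨fun f g _ => hX.eq_of_src _ _, fun g => ⟨0, h2.eq_of_src _ _⟩⟩

lemma BJ.ext_right (T : Triangle D) (hT : T ∈ distTriang D) (X : D)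
    (h1 : BJ F X T.obj₁) (h3 : BJ F X T.obj₃) : BJ F X T.obj₂ := by
  intro n
  have hTn := Triangle.shift_distinguished T hT n
  refine bij_mid F _ hTn X (h1 n) (h3 n) ?_ ?_
  · exact ((h1.shift_right n) 1).1
  · exact ((h3.shift_right n) (-1)).2

lemma BJ.ext_left (T : Triangle D) (hT : T ∈ distTriang D) (Y : D)
    (h1 : BJ F T.obj₁ Y) (h3 : BJ F T.obj₃ Y) : BJ F T.obj₂ Y := by
  intro n
  refine bij_mid_left F T hT (Y⟦n⟧) (h1 n) (h3 n) ?_ ?_
  · exact ((h3.shift_left (-1)) n).1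
  · exact ((h1.shift_left 1) n).2

end Groth.Agent.Helper4.FFDev
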