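import Mathlib
import Groth.Agent.Helper2.DEq1

/-! `F.mapDerivedCategory` is t-exact for an exact functor `F`. -/

set_option autoImplicit false
set_option linter.unusedSectionVars false
universe w₁ w₂

open CategoryTheory Limits

namespace Groth.Agent.Helper4.MapDGE

variable {C₁ C₂ : Type*} [Category C₁] [Category C₂] [Abelian C₁] [Abelian C₂]
  [HasDerivedCategory.{w₁} C₁] [HasDerivedCategory.{w₂} C₂]
  (F : C₁ ⥤ C₂) [F.Additive] [PreservesFiniteLimits F] [PreservesFiniteColimits F]

theorem isGE_mapD (X : DerivedCategory C₁) (a : ℤ) [X.IsGE a] :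
    (F.mapDerivedCategory.obj X).IsGE a := by
  obtain ⟨K, hK, ⟨e⟩⟩ := X.exists_iso_Q_obj_of_isGE a
  have e' : F.mapDerivedCategory.obj X ≅
      DerivedCategory.Q.obj ((F.mapHomologicalComplex (ComplexShape.up ℤ)).obj K) :=
    F.mapDerivedCategory.mapIso e ≪≫ F.mapDerivedCategoryFactors.app K
  haveI : (DerivedCategory.Q.obj ((F.mapHomologicalComplex (ComplexShape.up ℤ)).obj K)).IsGE a :=
    inferInstance
  exact DerivedCategory.TStructure.t.isGE_of_iso e'.symm a

theorem isLE_mapD (X : DerivedCategory C₁) (b : ℤ) [X.IsLE b] :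
    (F.mapDerivedCategory.obj X).IsLE b := Groth.Agent.Helper2.DEq1.isLE_mapD F X b

end Groth.Agent.Helper4.MapDGE
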