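import Mathlib
import Groth.Agent.Helper4.FFDev
import Groth.Agent.Helper4.WSerreLib
import Groth.Agent.Helper4.MapDGE
import Groth.Agent.Lead.PcLib2

/-! Bounded dévissage: an exact functor inducing an equivalence of weak Serre subcategories and
bijections on all `Ext` groups between their objects induces an equivalence `D^b_A ≃ D^b_{A'}`. -/

set_option autoImplicit false
set_option linter.unusedSectionVars false
universe w w' v v' u u'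

open CategoryTheory Limits Pretriangulated Triangulated DerivedCategory

namespace Groth.Agent.Helper4.BddEq

open Groth.Agent.Helper4.WSerreLib Groth.Agent.Helper4.FFDev Groth.Agent.Helper8.SpanFF
  Groth.Agent.Helper1.DerTrunc Groth.Agent.Helper1.WayOut

variable {𝒳 : Type u} [Category.{v} 𝒳] [Abelian 𝒳] [HasDerivedCategory.{w} 𝒳]
  {𝒴 : Type u'} [Category.{v'} 𝒴] [Abelian 𝒴] [HasDerivedCategory.{w'} 𝒴]
  (Φ : 𝒳 ⥤ 𝒴) [Φ.Additive] [PreservesFiniteLimits Φ] [PreservesFiniteColimits Φ]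
  (A_X : ObjectProperty 𝒳) [WSerre.IsWeakSerre A_X] (A_Y : ObjectProperty 𝒴)
  [WSerre.IsWeakSerre A_Y]

section

variable (h2 : ∀ (F F' : 𝒳), A_X F → A_X F' →
    BJ Φ.mapDerivedCategory ((singleFunctor 𝒳 0).obj F) ((singleFunctor 𝒳 0).obj F'))

include h2

lemma bj_single (F : 𝒳) (hF : A_X F) (L : DerivedCategory 𝒳) (a b : ℤ) [L.IsGE a] [L.IsLE b]
    (hL : WSerre.cohIn A_X L) :
    BJ Φ.mapDerivedCategory ((singleFunctor 𝒳 0).obj F) L := by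
  let Z : ObjectProperty (DerivedCategory 𝒳) :=
    fun L => BJ Φ.mapDerivedCategory ((singleFunctor 𝒳 0).obj F) L
  haveI : Z.IsClosedUnderIsomorphisms := ⟨fun e h => BJ.of_iso (Iso.refl _) e.symm h⟩
  refine Groth.Agent.Helper1.DerInd.bounded_induction Z
    (fun Y hY => BJ.of_isZero_right _ hY)
    (fun T hT h₁ h₃ => BJ.ext_right T hT _ h₁ h₃) L a b (fun j => ?_)
  have e2 : ((singleFunctor 𝒳 0).obj ((homologyFunctor 𝒳 j).obj L))⟦-j⟧ ≅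
      (singleFunctor 𝒳 j).obj ((homologyFunctor 𝒳 j).obj L) :=
    ((singleFunctors 𝒳).shiftIso (-j) j 0 (by omega)).app _
  exact BJ.of_iso (Iso.refl _) e2.symm ((h2 F _ hF (hL j)).shift_right (-j))

lemma bj_bdd (K L : DerivedCategory 𝒳) (a b a' b' : ℤ) [K.IsGE a'] [K.IsLE b'] [L.IsGE a]
    [L.IsLE b] (hK : WSerre.cohIn A_X K) (hL : WSerre.cohIn A_X L) :
    BJ Φ.mapDerivedCategory K L := by
  let Z : ObjectProperty (DerivedCategory 𝒳) := fun K => BJ Φ.mapDerivedCategory K L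
  haveI : Z.IsClosedUnderIsomorphisms := ⟨fun e h => BJ.of_iso e.symm (Iso.refl _) h⟩
  refine Groth.Agent.Helper1.DerInd.bounded_induction Z
    (fun Y hY => BJ.of_isZero_left hY _)
    (fun T hT h₁ h₃ => BJ.ext_left T hT _ h₁ h₃) K a' b' (fun j => ?_)
  have e2 : ((singleFunctor 𝒳 0).obj ((homologyFunctor 𝒳 j).obj K))⟦-j⟧ ≅
      (singleFunctor 𝒳 j).obj ((homologyFunctor 𝒳 j).obj K) :=
    ((singleFunctors 𝒳).shiftIso (-j) j 0 (by omega)).app _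
  exact BJ.of_iso e2.symm (Iso.refl _)
    ((bj_single Φ A_X h2 _ (hK j) L a b hL).shift_left (-j))

lemma ess_aux
    (hes : ∀ G : 𝒴, A_Y G → ∃ F : 𝒳, A_X F ∧ Nonempty (Φ.obj F ≅ G)) :
    ∀ (n : ℕ) (M : DerivedCategory 𝒴) (a b : ℤ), b - a < n → M.IsGE a → M.IsLE b →
      WSerre.cohIn A_Y M →
      ∃ K : DerivedCategory 𝒳, (WSerre.cohIn A_X K ∧ K.IsGE a ∧ K.IsLE b) ∧
        Nonempty (Φ.mapDerivedCategory.obj K ≅ M) := by
  intro n
  induction n with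
  | zero =>
    intro M a b hab _ _ _
    have hM : IsZero M := (tD 𝒴).isZero M b a (by simpa using hab)
    obtain ⟨Z0, hz0⟩ := HasZeroObject.zero (C := DerivedCategory 𝒳)
    exact ⟨Z0, ⟨cohIn_of_isZero A_X hz0, (tD 𝒳).isGE_of_isZero hz0 a, (tD 𝒳).isLE_of_isZero hz0 b⟩,
      ⟨(Φ.mapDerivedCategory.map_isZero hz0).iso hM⟩⟩
  | succ n ih =>
    intro M a b hab hGE hLE hM
    by_cases hba : b < a
    · have hM0 : IsZero M := (tD 𝒴).isZero M b a hba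
      obtain ⟨Z0, hz0⟩ := HasZeroObject.zero (C := DerivedCategory 𝒳)
      exact ⟨Z0, ⟨cohIn_of_isZero A_X hz0, (tD 𝒳).isGE_of_isZero hz0 a,
        (tD 𝒳).isLE_of_isZero hz0 b⟩, ⟨(Φ.mapDerivedCategory.map_isZero hz0).iso hM0⟩⟩
    have hab' : a ≤ b := not_lt.1 hba
    have hT := (tD 𝒴).triangleLTGE_distinguished b M
    -- the lower truncation
    have h1 : (((tD 𝒴).truncLT b).obj M).IsGE a := inferInstance
    have h2' : (((tD 𝒴).truncLT b).obj M).IsLE (b - 1) := inferInstance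
    obtain ⟨K₁, ⟨hK₁c, hK₁a, hK₁b⟩, ⟨e₁⟩⟩ := ih (((tD 𝒴).truncLT b).obj M) a (b - 1)
      (by push_cast at hab; omega) h1 h2' (prop_homology_truncLT A_Y (prop_of_isZero A_Y) M b hM)
    -- the top cohomology
    have h3 : (((tD 𝒴).truncGE b).obj M).IsGE b := inferInstance
    have h4 : (((tD 𝒴).truncGE b).obj M).IsLE b := inferInstance
    obtain ⟨N, ⟨e⟩⟩ := exists_iso_singleFunctor_obj_of_isGE_of_isLE (((tD 𝒴).truncGE b).obj M) b
    have := isIso_homologyMap_truncGEπ M b b le_rfl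
    have eN : N ≅ (homologyFunctor 𝒴 b).obj M :=
      ((singleFunctorCompHomologyFunctorIso 𝒴 b).app N).symm ≪≫
        (homologyFunctor 𝒴 b).mapIso e.symm ≪≫
        (asIso ((homologyFunctor 𝒴 b).map (((tD 𝒴).truncGEπ b).app M))).symm
    obtain ⟨F, hF, ⟨eF⟩⟩ := hes N (A_Y.prop_of_iso eN.symm (hM b))
    let K₃ : DerivedCategory 𝒳 := (singleFunctor 𝒳 b).obj F
    let e₃ : Φ.mapDerivedCategory.obj K₃ ≅ ((tD 𝒴).truncGE b).obj M :=
      (Φ.mapDerivedCategorySingleFunctor b).app F ≪≫ (singleFunctor 𝒴 b).mapIso eF ≪≫ e.symm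
    have hK₃c : WSerre.cohIn A_X K₃ := cohIn_single A_X F hF b
    have hK₃a : K₃.IsGE b := inferInstance
    have hK₃b : K₃.IsLE b := inferInstance
    -- lift the connecting morphism
    let T := ((tD 𝒴).triangleLTGE b).obj M
    have hbj : BJ Φ.mapDerivedCategory K₃ K₁ := bj_bdd Φ A_X h2 K₃ K₁ a (b - 1) b b hK₃c hK₁c
    obtain ⟨δ, hδ⟩ : ∃ δ : ((tD 𝒴).truncGE b).obj M ⟶ (((tD 𝒴).truncLT b).obj M)⟦(1 : ℤ)⟧,
      δ = T.mor₃ := ⟨_, rfl⟩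
    obtain ⟨d, hd⟩ := (hbj 1).2 (e₃.hom ≫ δ ≫ e₁.inv⟦(1 : ℤ)⟧' ≫
      (Φ.mapDerivedCategory.commShiftIso (1 : ℤ)).inv.app K₁)
    have hd' : Φ.mapDerivedCategory.map d = e₃.hom ≫ δ ≫ e₁.inv⟦(1 : ℤ)⟧' ≫
      (Φ.mapDerivedCategory.commShiftIso (1 : ℤ)).inv.app K₁ := hd
    obtain ⟨K₂, u, v, hK⟩ := distinguished_cocone_triangle₂ d
    have hT' := Φ.mapDerivedCategory.map_distinguished _ hK
    have comm : (Φ.mapDerivedCategory.mapTriangle.obj (Triangle.mk u v d)).mor₃ ≫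
        e₁.hom⟦(1 : ℤ)⟧' = e₃.hom ≫ T.mor₃ := by
      rw [← hδ]
      show (Φ.mapDerivedCategory.map d ≫
        (Φ.mapDerivedCategory.commShiftIso (1 : ℤ)).hom.app K₁) ≫ e₁.hom⟦(1 : ℤ)⟧' = _
      rw [hd']
      simp only [Category.assoc, Iso.inv_hom_id_app_assoc]
      rw [← Functor.map_comp, Iso.inv_hom_id, CategoryTheory.Functor.map_id, Category.comp_id]
      rfl
    obtain ⟨β, hβ1, hβ2⟩ := complete_distinguished_triangle_morphism₂ _ T hT' hT e₁.hom e₃.hom comm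
    let φ : Φ.mapDerivedCategory.mapTriangle.obj (Triangle.mk u v d) ⟶ T :=
      { hom₁ := e₁.hom, hom₂ := β, hom₃ := e₃.hom, comm₁ := hβ1, comm₂ := hβ2, comm₃ := comm }
    have hβ : IsIso β := isIso₂_of_isIso₁₃ φ hT' hT (inferInstanceAs (IsIso e₁.hom))
      (inferInstanceAs (IsIso e₃.hom))
    refine ⟨K₂, ⟨cohIn_ext A_X _ hK hK₁c hK₃c, ?_, ?_⟩, ⟨@asIso _ _ _ _ β hβ⟩⟩
    · exact (tD 𝒳).isGE₂ _ hK a hK₁a ((tD 𝒳).isGE_of_ge K₃ a b hab')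
    · exact (tD 𝒳).isLE₂ _ hK b ((tD 𝒳).isLE_of_le K₁ (b - 1) b (by omega)) hK₃b

end

lemma cohInBdd_map (h1 : ∀ F : 𝒳, A_X F → A_Y (Φ.obj F)) (K : DerivedCategory 𝒳)
    (hK : WSerre.cohInBdd A_X K) : WSerre.cohInBdd A_Y (Φ.mapDerivedCategory.obj K) := by
  obtain ⟨hc, ⟨a, ha⟩, ⟨b, hb⟩⟩ := hK
  haveI := ha
  haveI := hb
  refine ⟨fun i => ?_, ⟨a, MapDGE.isGE_mapD Φ K a⟩, ⟨b, MapDGE.isLE_mapD Φ K b⟩⟩
  exact A_Y.prop_of_iso ((Groth.Agent.Lead.PcLib.mapDerivedCategoryHomologyIso Φ i).app K).symm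
    (h1 _ (hc i))

theorem main (h1 : ∀ F : 𝒳, A_X F → A_Y (Φ.obj F))
    (hes : ∀ G : 𝒴, A_Y G → ∃ F : 𝒳, A_X F ∧ Nonempty (Φ.obj F ≅ G))
    (h2 : ∀ (F F' : 𝒳), A_X F → A_X F' → ∀ n : ℤ,
      Function.Bijective (fun φ : ((singleFunctor 𝒳 0).obj F ⟶ ((singleFunctor 𝒳 0).obj F')⟦n⟧) =>
        Φ.mapDerivedCategory.map φ)) :
    (∀ K : DerivedCategory 𝒳, WSerre.cohInBdd A_X K →
        WSerre.cohInBdd A_Y (Φ.mapDerivedCategory.obj K)) ∧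
      (∀ K L : DerivedCategory 𝒳, WSerre.cohInBdd A_X K → WSerre.cohInBdd A_X L →
        Function.Bijective (fun φ : (K ⟶ L) => Φ.mapDerivedCategory.map φ)) ∧
      (∀ M : DerivedCategory 𝒴, WSerre.cohInBdd A_Y M →
        ∃ K : DerivedCategory 𝒳, WSerre.cohInBdd A_X K ∧
          Nonempty (Φ.mapDerivedCategory.obj K ≅ M)) := by
  have h2' : ∀ (F F' : 𝒳), A_X F → A_X F' →
      BJ Φ.mapDerivedCategory ((singleFunctor 𝒳 0).obj F) ((singleFunctor 𝒳 0).obj F') :=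
    fun F F' hF hF' n => h2 F F' hF hF' n
  refine ⟨cohInBdd_map Φ A_X A_Y h1, ?_, ?_⟩
  · rintro K L ⟨hKc, ⟨a', ha'⟩, ⟨b', hb'⟩⟩ ⟨hLc, ⟨a, ha⟩, ⟨b, hb⟩⟩
    haveI := ha'; haveI := hb'; haveI := ha; haveI := hb
    have h := bj_bdd Φ A_X h2' K L a b a' b' hKc hLc 0
    exact bijOn_of_iso Φ.mapDerivedCategory (Iso.refl K)
      ((shiftFunctorZero (DerivedCategory 𝒳) ℤ).app L).symm h
  · rintro M ⟨hMc, ⟨a, ha⟩, ⟨b, hb⟩⟩
    obtain ⟨K, ⟨hKc, hKa, hKb⟩, hK⟩ := ess_aux Φ A_X A_Y h2' hes (b - a).toNat.succ M a b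
      (by push_cast; omega) ha hb hMc
    exact ⟨K, ⟨hKc, ⟨a, hKa⟩, ⟨b, hKb⟩⟩, hK⟩

end Groth.Agent.Helper4.BddEq
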