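import Mathlib
import Groth.Agent.Helper4.BddFib3

set_option autoImplicit false
universe u
open CategoryTheory CategoryTheory.Limits AlgebraicGeometry TopologicalSpace Opposite

namespace Groth.Agent.Helper4.BddFib4

open Groth.Agent.Helper5 Groth.Agent.Helper4.BddFib1

instance specField_isLocallyArtinian (K : Type u) [Field K] :
    IsLocallyArtinian (Spec (CommRingCat.of K)) :=
  Scheme.isLocallyArtinianScheme_Spec.mpr (inferInstanceAs (IsArtinianRing K))

/-- a scheme finite of bounded degree over a field is finite and discrete -/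
theorem finite_discrete_of_finiteOfDegLE (K : Type u) [Field K] {T : Scheme.{u}}
    (pT : T ⟶ Spec (CommRingCat.of K)) (n : ℕ)
    (h : BddFib.FiniteOfDegLE (CommRingCat.of K) pT n) : Finite T ∧ DiscreteTopology T := by
  obtain ⟨i1, _, _⟩ := BddBC.of_finiteOfDegLE K pT n h
  haveI : IsLocallyArtinian T := IsLocallyArtinian.of_locallyQuasiFinite pT
  exact ⟨(BddFib3.count K pT n h).1, inferInstance⟩

theorem finiteOfDegLE_of_flat_surjective (K : Type u) [Field K] {T S : Scheme.{u}}
    (pT : T ⟶ Spec (CommRingCat.of K)) (pS : S ⟶ Spec (CommRingCat.of K)) (g : T ⟶ S)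
    [Flat g] [Surjective g] (hg : g ≫ pS = pT) (n : ℕ)
    (h : BddFib.FiniteOfDegLE (CommRingCat.of K) pT n) :
    BddFib.FiniteOfDegLE (CommRingCat.of K) pS n := by
  obtain ⟨hfinT, hdisc⟩ := finite_discrete_of_finiteOfDegLE K pT n h
  haveI : Finite S := Finite.of_surjective g g.surjective
  haveI : T1Space S := by
    rw [t1Space_iff_specializes_imp_eq]
    intro s' s hspec
    obtain ⟨t, rfl⟩ := g.surjective s
    obtain ⟨t', ht', rfl⟩ := Flat.generalizingMap g hspec
    rw [ht'.eq]
  haveI : DiscreteTopology S := inferInstance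
  haveI : IsAffine S := inferInstance
  letI algT : Algebra K Γ(T, ⊤) := BddFib.secAlgebra (CommRingCat.of K) pT
  letI algS : Algebra K Γ(S, ⊤) := BddFib.secAlgebra (CommRingCat.of K) pS
  obtain ⟨hA, hfin, hrk⟩ := h
  haveI : Module.Finite K Γ(T, ⊤) := hfin
  have hff : g.appTop.hom.FaithfullyFlat :=
    (Flat.flat_and_surjective_iff_faithfullyFlat_of_isAffine g).mp ⟨inferInstance, inferInstance⟩
  have hinj : Function.Injective g.appTop.hom := hff.injective
  let φ : Γ(S, ⊤) →ₗ[K] Γ(T, ⊤) :=
    { toFun := g.appTop.hom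
      map_add' := map_add _
      map_smul' := by
        intro c b
        simp only [Algebra.smul_def, map_mul, RingHom.id_apply]
        congr 1
        show g.appTop.hom (((Scheme.ΓSpecIso (CommRingCat.of K)).inv ≫ pS.appTop).hom c) =
          ((Scheme.ΓSpecIso (CommRingCat.of K)).inv ≫ pT.appTop).hom c
        rw [← hg]
        simp }
  have hφ : Function.Injective φ := hinj
  refine ⟨inferInstance, Module.Finite.of_injective φ hφ, ?_⟩
  exact (LinearMap.finrank_le_finrank_of_injective hφ).trans hrk

theorem s7442 {X Y Z : Scheme.{u}} (f : X ⟶ Y) (h : Y ⟶ Z) [Flat f] [Surjective f]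
    (n : ℕ) (hg : BddFib.FibreDegLE (f ≫ h) n) : BddFib.FibreDegLE h n := by
  intro z
  let fz : (f ≫ h).fiber z ⟶ h.fiber z :=
    pullback.lift ((f ≫ h).fiberι z ≫ f) ((f ≫ h).fiberToSpecResidueField z)
      (by rw [Category.assoc]; exact pullback.condition)
  have hfz : fz ≫ h.fiberToSpecResidueField z = (f ≫ h).fiberToSpecResidueField z :=
    pullback.lift_snd _ _ _
  have sq : IsPullback fz ((f ≫ h).fiberι z) (h.fiberι z) f := by
    refine IsPullback.of_right (h₁₂ := h.fiberToSpecResidueField z) (h₂₂ := h)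
      (v₁₃ := Z.fromSpecResidueField z) ?_ ?_
      (IsPullback.of_hasPullback h (Z.fromSpecResidueField z)).flip
    · rw [hfz]; exact (IsPullback.of_hasPullback (f ≫ h) _).flip
    · exact pullback.lift_fst _ _ _
  haveI : Flat fz := MorphismProperty.of_isPullback sq.flip inferInstance
  haveI : Surjective fz := MorphismProperty.of_isPullback sq.flip inferInstance
  exact finiteOfDegLE_of_flat_surjective (IsLocalRing.ResidueField (Z.presheaf.stalk z)) _ _ fz hfz n
    (hg z)

end Groth.Agent.Helper4.BddFib4
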