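import Mathlib
import Groth.Agent.Helper4.BddFib4
import Groth.Agent.Helper4.BddAlg

set_option autoImplicit false
universe u
open CategoryTheory CategoryTheory.Limits AlgebraicGeometry TopologicalSpace Opposite TensorProduct

namespace Groth.Agent.Helper4.BddFib5

open Groth.Agent.Helper5 Groth.Agent.Helper4.BddFib1

/-- (1c) algebraic meaning of `FiniteOfDegLE` for `Spec` of an algebra over a field -/
theorem of_finiteOfDegLE_SpecMap (L E : Type u) [Field L] [CommRing E] [Algebra L E] (n : ℕ)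
    (h : BddFib.FiniteOfDegLE (CommRingCat.of L)
      (Spec.map (CommRingCat.ofHom (algebraMap L E))) n) :
    Module.Finite L E ∧ Module.finrank L E ≤ n := by
  obtain ⟨i1, i2, hrk⟩ := BddBC.of_finiteOfDegLE L _ n h
  have hfin : (CommRingCat.ofHom (algebraMap L E)).hom.Finite := (IsFinite.SpecMap_iff _).mp i1
  have hmf : Module.Finite L E := by
    rw [← RingHom.finite_algebraMap]; exact hfin
  refine ⟨hmf, ?_⟩
  have hr := Scheme.Hom.finrank_SpecMap_algebraMap L E (default : PrimeSpectrum L)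
  have h2 := hrk (default : PrimeSpectrum L)
  rw [hr, Module.rankAtStalk_eq_finrank_of_free] at h2
  exact h2

/-- `FibreDegLE` is invariant under isomorphisms of arrows -/
theorem fibreDegLE_of_arrow_iso {X Y X' Y' : Scheme.{u}} (f : X ⟶ Y) (f' : X' ⟶ Y')
    (e : Arrow.mk f ≅ Arrow.mk f') (n : ℕ) (hf : BddFib.FibreDegLE f n) :
    BddFib.FibreDegLE f' n := by
  have w : e.inv.left ≫ f = f' ≫ e.inv.right := e.inv.w
  have sq : IsPullback e.inv.left f' f e.inv.right := IsPullback.of_horiz_isIso ⟨w⟩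
  exact BddBC.s7437 f e.inv.right f' e.inv.left sq n hf

/-- fibre condition in algebraic form -/
theorem fiber_alg_of_fibreDegLE (B C : Type u) [CommRing B] [CommRing C] [Algebra B C] (n : ℕ)
    (h : BddFib.FibreDegLE (Spec.map (CommRingCat.ofHom (algebraMap B C))) n)
    (p : PrimeSpectrum B) :
    Module.Finite p.asIdeal.ResidueField (p.asIdeal.ResidueField ⊗[B] C) ∧
      Module.finrank p.asIdeal.ResidueField (p.asIdeal.ResidueField ⊗[B] C) ≤ n := by
  have e := Spec.fiberToSpecResidueFieldIso B C p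
  have w : e.inv.left ≫ (Spec.map (CommRingCat.ofHom (algebraMap B C))).fiberToSpecResidueField p =
      (Spec.map (CommRingCat.ofHom (algebraMap p.asIdeal.ResidueField (p.asIdeal.Fiber C)))) ≫
        e.inv.right := e.inv.w
  have sq : IsPullback e.inv.left
      (Spec.map (CommRingCat.ofHom (algebraMap p.asIdeal.ResidueField (p.asIdeal.Fiber C))))
      ((Spec.map (CommRingCat.ofHom (algebraMap B C))).fiberToSpecResidueField p) e.inv.right :=
    IsPullback.of_horiz_isIso ⟨w⟩
  have h1 := finiteOfDegLE_of_isPullback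
    (IsLocalRing.ResidueField ((Spec (CommRingCat.of B)).presheaf.stalk p))
    p.asIdeal.ResidueField
    ((Spec.map (CommRingCat.ofHom (algebraMap B C))).fiberToSpecResidueField p)
    (Spec.map (CommRingCat.ofHom (algebraMap p.asIdeal.ResidueField (p.asIdeal.Fiber C))))
    e.inv.left e.inv.right sq n (h p)
  exact of_finiteOfDegLE_SpecMap p.asIdeal.ResidueField (p.asIdeal.Fiber C) n h1

/-- a morphism with bounded fibre degrees over a scheme finite over a field is finite -/
theorem isFinite_of_fibreDegLE (K : Type u) [Field K] {T S : Scheme.{u}}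
    (pS : S ⟶ Spec (CommRingCat.of K)) (q : T ⟶ S) (n m : ℕ)
    (hS : BddFib.FiniteOfDegLE (CommRingCat.of K) pS m) (hq : BddFib.FibreDegLE q n) :
    IsFinite q ∧ IsAffine S ∧ IsAffine T := by
  obtain ⟨hfinS, hdiscS⟩ := BddFib4.finite_discrete_of_finiteOfDegLE K pS m hS
  obtain ⟨iS, _, _⟩ := BddBC.of_finiteOfDegLE K pS m hS
  haveI : IsLocallyArtinian S := IsLocallyArtinian.of_locallyQuasiFinite pS
  haveI : IsAffine S := hS.1
  have hfib : ∀ s : S, IsFinite (q.fiberToSpecResidueField s) := fun s =>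
    (BddBC.of_finiteOfDegLE (IsLocalRing.ResidueField (S.presheaf.stalk s)) _ n (hq s)).1
  haveI : LocallyQuasiFinite q :=
    LocallyQuasiFinite.of_fiberToSpecResidueField q fun s => by
      haveI := hfib s; infer_instance
  haveI : IsLocallyArtinian T := IsLocallyArtinian.of_locallyQuasiFinite q
  have hfinT : Finite T := by
    have h1 : (q ⁻¹' (Set.univ : Set S)).Finite := by
      refine Set.Finite.preimage' Set.finite_univ fun s _ => ?_
      have hc := BddFib3.count (IsLocalRing.ResidueField (S.presheaf.stalk s)) _ n (hq s)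
      haveI := hc.1
      have : Finite (q ⁻¹' {s}) := (q.fiberHomeo s).finite_iff.mp inferInstance
      exact Set.toFinite _
    rw [Set.preimage_univ] at h1
    exact Set.finite_univ_iff.mp h1
  haveI : CompactSpace T := Finite.compactSpace
  haveI : QuasiCompact q := (HasAffineProperty.iff_of_isAffine (P := @QuasiCompact)).mpr inferInstance
  haveI : IsFinite q := IsFinite.of_locallyQuasiFinite q
  exact ⟨inferInstance, inferInstance, isAffine_of_isAffineHom q⟩

theorem finiteOfDegLE_comp (K : Type u) [Field K] {T S : Scheme.{u}}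
    (pS : S ⟶ Spec (CommRingCat.of K)) (q : T ⟶ S) (n m : ℕ)
    (hS : BddFib.FiniteOfDegLE (CommRingCat.of K) pS m) (hq : BddFib.FibreDegLE q n) :
    BddFib.FiniteOfDegLE (CommRingCat.of K) (q ≫ pS) (n * m) := by
  obtain ⟨hfin, hAS, hAT⟩ := isFinite_of_fibreDegLE K pS q n m hS hq
  letI algB : Algebra K Γ(S, ⊤) := BddFib.secAlgebra (CommRingCat.of K) pS
  letI algC : Algebra K Γ(T, ⊤) := BddFib.secAlgebra (CommRingCat.of K) (q ≫ pS)
  letI algBC : Algebra Γ(S, ⊤) Γ(T, ⊤) := q.appTop.hom.toAlgebra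
  haveI : IsScalarTower K Γ(S, ⊤) Γ(T, ⊤) := IsScalarTower.of_algebraMap_eq (fun c => by
    show ((Scheme.ΓSpecIso (CommRingCat.of K)).inv ≫ (q ≫ pS).appTop).hom c =
      q.appTop.hom (((Scheme.ΓSpecIso (CommRingCat.of K)).inv ≫ pS.appTop).hom c)
    simp)
  obtain ⟨_, hfinB, hrkB⟩ := hS
  haveI : Module.Finite K Γ(S, ⊤) := hfinB
  have hq' : BddFib.FibreDegLE (Spec.map (CommRingCat.ofHom (algebraMap Γ(S, ⊤) Γ(T, ⊤)))) n :=
    fibreDegLE_of_arrow_iso q _ (arrowIsoSpecΓOfIsAffine q) n hq
  have key := BddAlg.finrank_le_mul K Γ(S, ⊤) Γ(T, ⊤) n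
    (fun p => fiber_alg_of_fibreDegLE _ _ n hq' p)
  exact ⟨hAT, key.1, key.2.trans (Nat.mul_le_mul_left n hrkB)⟩

theorem s7436 {X Y Z : Scheme.{u}} (f : X ⟶ Y) (g : Y ⟶ Z) (n m : ℕ) (hf : BddFib.FibreDegLE f n)
    (hg : BddFib.FibreDegLE g m) : BddFib.FibreDegLE (f ≫ g) (n * m) := by
  intro z
  let fz : (f ≫ g).fiber z ⟶ g.fiber z :=
    pullback.lift ((f ≫ g).fiberι z ≫ f) ((f ≫ g).fiberToSpecResidueField z)
      (by rw [Category.assoc]; exact pullback.condition)
  have hfz : fz ≫ g.fiberToSpecResidueField z = (f ≫ g).fiberToSpecResidueField z :=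
    pullback.lift_snd _ _ _
  have sq : IsPullback fz ((f ≫ g).fiberι z) (g.fiberι z) f := by
    refine IsPullback.of_right (h₁₂ := g.fiberToSpecResidueField z) (h₂₂ := g)
      (v₁₃ := Z.fromSpecResidueField z) ?_ ?_
      (IsPullback.of_hasPullback g (Z.fromSpecResidueField z)).flip
    · rw [hfz]; exact (IsPullback.of_hasPullback (f ≫ g) _).flip
    · exact pullback.lift_fst _ _ _
  have hfz' : BddFib.FibreDegLE fz n := BddBC.s7437 f (g.fiberι z) fz _ sq.flip n hf
  rw [← hfz]
  exact finiteOfDegLE_comp (IsLocalRing.ResidueField (Z.presheaf.stalk z)) _ fz n m (hg z) hfz'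

end Groth.Agent.Helper4.BddFib5
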