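import Mathlib
import Groth.Agent.Helper4.BddFib5

set_option autoImplicit false
universe u
open CategoryTheory CategoryTheory.Limits AlgebraicGeometry TopologicalSpace Opposite TensorProduct

namespace Groth.Agent.Helper4.BddFib6

open Groth.Agent.Helper5 Groth.Agent.Helper4.BddFib1

/-- Lemma U (fibrewise): a scheme over a field covered by finitely many opens, each finite of
bounded degree, is finite of degree at most the sum. -/
theorem finiteOfDegLE_of_openCover (K : Type u) [Field K] {T : Scheme.{u}}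
    (p : T ⟶ Spec (CommRingCat.of K)) {ι : Type} [Fintype ι] (W : ι → Scheme.{u})
    (j : ∀ i, W i ⟶ T) [∀ i, IsOpenImmersion (j i)]
    (hcov : ∀ t : T, ∃ i w, j i w = t) (n : ι → ℕ)
    (h : ∀ i, BddFib.FiniteOfDegLE (CommRingCat.of K) (j i ≫ p) (n i)) :
    BddFib.FiniteOfDegLE (CommRingCat.of K) p (∑ i, n i) := by
  have hfd : ∀ i, Finite (W i) ∧ DiscreteTopology (W i) := fun i =>
    BddFib4.finite_discrete_of_finiteOfDegLE K (j i ≫ p) (n i) (h i)
  haveI : ∀ i, Finite (W i) := fun i => (hfd i).1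
  haveI : ∀ i, DiscreteTopology (W i) := fun i => (hfd i).2
  haveI : Finite T := by
    have : Function.Surjective (fun x : (Σ i, W i) => j x.1 x.2) := by
      intro t
      obtain ⟨i, w, hw⟩ := hcov t
      exact ⟨⟨i, w⟩, hw⟩
    exact Finite.of_surjective _ this
  haveI : DiscreteTopology T := by
    rw [discreteTopology_iff_isOpen_singleton]
    intro t
    obtain ⟨i, w, rfl⟩ := hcov t
    have := (j i).isOpenEmbedding.isOpenMap _ (isOpen_discrete ({w} : Set (W i)))
    simpa using this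
  haveI : IsAffine T := inferInstance
  letI algT : Algebra K Γ(T, ⊤) := BddFib.secAlgebra (CommRingCat.of K) p
  letI algW : ∀ i, Algebra K Γ(W i, ⊤) := fun i =>
    BddFib.secAlgebra (CommRingCat.of K) (j i ≫ p)
  haveI : ∀ i, Module.Finite K Γ(W i, ⊤) := fun i => (h i).2.1
  have hrk : ∀ i, Module.finrank K Γ(W i, ⊤) ≤ n i := fun i => (h i).2.2
  let Φ : Γ(T, ⊤) →ₗ[K] (∀ i, Γ(W i, ⊤)) :=
    { toFun := fun s i => (j i).appTop.hom s
      map_add' := by intro a b; ext i; simp
      map_smul' := by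
        intro c b
        ext i
        simp only [Algebra.smul_def, map_mul, RingHom.id_apply, Pi.smul_apply]
        congr 1 }
  have hΦ : Function.Injective Φ := by
    rw [← LinearMap.ker_eq_bot, LinearMap.ker_eq_bot']
    intro s hs
    let 𝒰 : T.OpenCover := Scheme.Cover.mkOfCovers ι W j hcov
    refine Scheme.zero_of_zero_cover s 𝒰 fun i => ?_
    exact congr_fun hs i
  refine ⟨inferInstance, Module.Finite.of_injective Φ hΦ, ?_⟩
  calc Module.finrank K Γ(T, ⊤) ≤ Module.finrank K (∀ i, Γ(W i, ⊤)) :=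
        LinearMap.finrank_le_finrank_of_injective hΦ
    _ = ∑ i, Module.finrank K Γ(W i, ⊤) := Module.finrank_pi_fintype K
    _ ≤ ∑ i, n i := Finset.sum_le_sum fun i _ => hrk i

/-- the map on fibres induced by a composition -/
noncomputable def fiberMap {X Y Z : Scheme.{u}} (f : X ⟶ Y) (h : Y ⟶ Z) (z : Z) :
    (f ≫ h).fiber z ⟶ h.fiber z :=
  pullback.lift ((f ≫ h).fiberι z ≫ f) ((f ≫ h).fiberToSpecResidueField z)
    (by rw [Category.assoc]; exact pullback.condition)

theorem fiberMap_comp {X Y Z : Scheme.{u}} (f : X ⟶ Y) (h : Y ⟶ Z) (z : Z) :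
    fiberMap f h z ≫ h.fiberToSpecResidueField z = (f ≫ h).fiberToSpecResidueField z :=
  pullback.lift_snd _ _ _

theorem isPullback_fiberMap {X Y Z : Scheme.{u}} (f : X ⟶ Y) (h : Y ⟶ Z) (z : Z) :
    IsPullback (fiberMap f h z) ((f ≫ h).fiberι z) (h.fiberι z) f := by
  refine IsPullback.of_right (h₁₂ := h.fiberToSpecResidueField z) (h₂₂ := h)
    (v₁₃ := Z.fromSpecResidueField z) ?_ ?_
    (IsPullback.of_hasPullback h (Z.fromSpecResidueField z)).flip
  · rw [fiberMap_comp]; exact (IsPullback.of_hasPullback (f ≫ h) _).flip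
  · exact pullback.lift_fst _ _ _

theorem exists_of_isPullback {P X Y Z : Scheme.{u}} {fst : P ⟶ X} {snd : P ⟶ Y} {f : X ⟶ Z}
    {g : Y ⟶ Z} (sq : IsPullback fst snd f g) (x : X) (y : Y) (h : f x = g y) :
    ∃ z : P, fst z = x ∧ snd z = y := by
  obtain ⟨z, hz1, hz2⟩ := Scheme.Pullback.exists_preimage_pullback x y h
  refine ⟨sq.isoPullback.inv z, ?_, ?_⟩
  · rw [← Scheme.Hom.comp_apply, sq.isoPullback_inv_fst, hz1]
  · rw [← Scheme.Hom.comp_apply, sq.isoPullback_inv_snd, hz2]

/-- Lemma U' (global): finite open cover of the source -/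
theorem fibreDegLE_of_openCover {X Y : Scheme.{u}} (f : X ⟶ Y) {ι : Type} [Fintype ι]
    (U : ι → Scheme.{u}) (a : ∀ i, U i ⟶ X) [∀ i, IsOpenImmersion (a i)]
    (hcov : ∀ x : X, ∃ i u, a i u = x) (n : ι → ℕ)
    (h : ∀ i, BddFib.FibreDegLE (a i ≫ f) (n i)) : BddFib.FibreDegLE f (∑ i, n i) := by
  intro y
  haveI : ∀ i, IsOpenImmersion (fiberMap (a i) f y) := fun i =>
    MorphismProperty.of_isPullback (isPullback_fiberMap (a i) f y).flip inferInstance
  refine finiteOfDegLE_of_openCover (IsLocalRing.ResidueField (Y.presheaf.stalk y))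
    (f.fiberToSpecResidueField y) (fun i => (a i ≫ f).fiber y) (fun i => fiberMap (a i) f y)
    ?_ n ?_
  · intro t
    obtain ⟨i, u, hu⟩ := hcov (f.fiberι y t)
    obtain ⟨w, hw, -⟩ := exists_of_isPullback (isPullback_fiberMap (a i) f y) t u hu.symm
    exact ⟨i, w, hw⟩
  · intro i
    have e := fiberMap_comp (a i) f y
    have h2 := h i y
    rw [← e] at h2
    exact h2

end Groth.Agent.Helper4.BddFib6
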