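import Mathlib
import Groth.Agent.Helper4.BddFib6

set_option autoImplicit false
universe u
open CategoryTheory CategoryTheory.Limits AlgebraicGeometry TopologicalSpace Opposite TensorProduct

namespace Groth.Agent.Helper4.BddFib7

open Groth.Agent.Helper5 Groth.Agent.Helper4.BddFib1

/-- converse of `of_finiteOfDegLE_SpecMap` -/
theorem finiteOfDegLE_SpecMap (L E : Type u) [Field L] [CommRing E] [Algebra L E]
    [Module.Finite L E] (n : ℕ) (hn : Module.finrank L E ≤ n) :
    BddFib.FiniteOfDegLE (CommRingCat.of L) (Spec.map (CommRingCat.ofHom (algebraMap L E))) n := by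
  haveI : IsFinite (Spec.map (CommRingCat.ofHom (algebraMap L E))) := by
    rw [IsFinite.SpecMap_iff]
    show (algebraMap L E).Finite
    rw [RingHom.finite_algebraMap]; infer_instance
  have hr : (Spec.map (CommRingCat.ofHom (algebraMap L E))).finrank
      (default : ↥(Spec (CommRingCat.of L))) = Module.finrank L E := by
    have hr := Scheme.Hom.finrank_SpecMap_algebraMap L E (default : ↥(Spec (CommRingCat.of L)))
    rw [Module.rankAtStalk_eq_finrank_of_free] at hr
    exact hr
  refine BddBC.mono_finiteOfDegLE _ _ hn ?_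
  exact BddFLF.finiteOfDegLE_of_finrank L _ default _ hr

/-- fibres of a finite morphism of affine schemes have bounded degree -/
theorem fibreDegLE_SpecMap_of_finite (B A : Type u) [CommRing B] [CommRing A] [Algebra B A]
    [Module.Finite B A] :
    ∃ N, BddFib.FibreDegLE (Spec.map (CommRingCat.ofHom (algebraMap B A))) N := by
  obtain ⟨s, hs⟩ := (Module.Finite.fg_top : (⊤ : Submodule B A).FG)
  refine ⟨s.card, fun p => ?_⟩
  have e := Spec.fiberToSpecResidueFieldIso B A p
  have hspan : Submodule.span p.asIdeal.ResidueField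
      (TensorProduct.mk B p.asIdeal.ResidueField A 1 '' (s : Set A)) = ⊤ := by
    rw [← Submodule.baseChange_span, hs, Submodule.baseChange_top]
  haveI : Module.Finite p.asIdeal.ResidueField (p.asIdeal.ResidueField ⊗[B] A) := inferInstance
  have hrk : Module.finrank p.asIdeal.ResidueField (p.asIdeal.ResidueField ⊗[B] A) ≤ s.card := by
    classical
    rw [← finrank_top, ← hspan]
    refine (finrank_span_le_card _).trans ?_
    rw [Set.toFinset_card]
    refine (Fintype.card_le_of_surjective
      (fun x : (s : Set A) => (⟨TensorProduct.mk B p.asIdeal.ResidueField A 1 x.1,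
        ⟨x.1, x.2, rfl⟩⟩ : (TensorProduct.mk B p.asIdeal.ResidueField A 1 '' (s : Set A))))
      ?_).trans ?_
    · rintro ⟨_, ⟨a, ha, rfl⟩⟩
      exact ⟨⟨a, ha⟩, rfl⟩
    · simp
  have h1 := finiteOfDegLE_SpecMap p.asIdeal.ResidueField (p.asIdeal.Fiber A) s.card hrk
  have w : e.hom.left ≫
      (Spec.map (CommRingCat.ofHom (algebraMap p.asIdeal.ResidueField (p.asIdeal.Fiber A)))) =
      (Spec.map (CommRingCat.ofHom (algebraMap B A))).fiberToSpecResidueField p ≫ e.hom.right :=
    e.hom.w
  have sq : IsPullback e.hom.left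
      ((Spec.map (CommRingCat.ofHom (algebraMap B A))).fiberToSpecResidueField p)
      (Spec.map (CommRingCat.ofHom (algebraMap p.asIdeal.ResidueField (p.asIdeal.Fiber A))))
      e.hom.right := IsPullback.of_horiz_isIso ⟨w⟩
  exact finiteOfDegLE_of_isPullback p.asIdeal.ResidueField
    (IsLocalRing.ResidueField ((Spec (CommRingCat.of B)).presheaf.stalk p))
    (Spec.map (CommRingCat.ofHom (algebraMap p.asIdeal.ResidueField (p.asIdeal.Fiber A))))
    ((Spec.map (CommRingCat.ofHom (algebraMap B A))).fiberToSpecResidueField p)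
    e.hom.left e.hom.right sq s.card h1

end Groth.Agent.Helper4.BddFib7
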