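import Mathlib
import Groth.Agent.Helper4.BddFib7
import Groth.Agent.Helper5.BddImm

set_option autoImplicit false
universe u
open CategoryTheory CategoryTheory.Limits AlgebraicGeometry TopologicalSpace Opposite TensorProduct

namespace Groth.Agent.Helper4.BddFib8

open Groth.Agent.Helper5 Groth.Agent.Helper4.BddFib1

/-- ring-level core: quasi-finite + finite type: local bound after localizing at an element -/
theorem exists_local_bound_alg (B A : Type u) [CommRing B] [CommRing A] [Algebra B A]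
    [Algebra.FiniteType B A] [Algebra.QuasiFinite B A] (q : PrimeSpectrum A) :
    ∃ r : A, r ∉ q.asIdeal ∧ ∃ N, BddFib.FibreDegLE
      (Spec.map (CommRingCat.ofHom (algebraMap A (Localization.Away r))) ≫
        Spec.map (CommRingCat.ofHom (algebraMap B A))) N := by
  obtain ⟨A', hfg, r, hr, hbij⟩ :=
    Algebra.QuasiFiniteAt.exists_fg_and_exists_notMem_and_awayMap_bijective (R := B) q.asIdeal
  haveI : Module.Finite B A' := ⟨(Submodule.fg_top _).mpr hfg⟩
  obtain ⟨N, hN⟩ := BddFib7.fibreDegLE_SpecMap_of_finite B A'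
  refine ⟨r.1, hr, 1 * N, ?_⟩
  let g1 : Spec (CommRingCat.of (Localization.Away r.1)) ⟶ Spec (CommRingCat.of (Localization.Away r)) :=
    Spec.map (CommRingCat.ofHom (Localization.awayMap A'.val.toRingHom r))
  haveI : IsIso (CommRingCat.ofHom (Localization.awayMap A'.val.toRingHom r)) :=
    (ConcreteCategory.isIso_iff_bijective _).mpr hbij
  haveI : IsIso g1 :=
    inferInstanceAs (IsIso (Spec.map (CommRingCat.ofHom (Localization.awayMap A'.val.toRingHom r))))
  let g2 : Spec (CommRingCat.of (Localization.Away r)) ⟶ Spec (CommRingCat.of A') :=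
    Spec.map (CommRingCat.ofHom (algebraMap A' (Localization.Away r)))
  let g3 : Spec (CommRingCat.of A') ⟶ Spec (CommRingCat.of B) :=
    Spec.map (CommRingCat.ofHom (algebraMap B A'))
  have hcomp : Spec.map (CommRingCat.ofHom (algebraMap A (Localization.Away r.1))) ≫
        Spec.map (CommRingCat.ofHom (algebraMap B A)) = (g1 ≫ g2) ≫ g3 := by
    simp only [g1, g2, g3, ← Spec.map_comp]
    congr 1
    ext b
    simp only [CommRingCat.hom_comp, CommRingCat.hom_ofHom, RingHom.coe_comp, Function.comp_apply]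
    have : Localization.awayMap A'.val.toRingHom r
        (algebraMap A' (Localization.Away r) (algebraMap B A' b)) =
        algebraMap A (Localization.Away r.1) (A'.val (algebraMap B A' b)) := by
      simp only [Localization.awayMap, IsLocalization.Away.map]
      exact IsLocalization.map_eq _ _
    exact this.symm
  rw [hcomp]
  have h12 : BddFib.FibreDegLE (g1 ≫ g2) 1 := BddImm.s7439 (g1 ≫ g2)
  exact BddFib5.s7436 (g1 ≫ g2) g3 1 N h12 hN

/-- Claim L: local bound on fibre degrees for a locally quasi-finite morphism -/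
theorem exists_local_bound {X Y : Scheme.{u}} (f : X ⟶ Y) [LocallyQuasiFinite f]
    [LocallyOfFiniteType f] (x : X) :
    ∃ (W : Scheme.{u}) (ι : W ⟶ X), IsOpenImmersion ι ∧ x ∈ Set.range ι ∧
      ∃ N, BddFib.FibreDegLE (ι ≫ f) N := by
  obtain ⟨_, ⟨V : Y.Opens, hV, rfl⟩, hyV, -⟩ := Y.isBasis_affineOpens.exists_subset_of_mem_open
    (Set.mem_univ (f x)) isOpen_univ
  obtain ⟨_, ⟨U : X.Opens, hU, rfl⟩, hxU, hUV⟩ := X.isBasis_affineOpens.exists_subset_of_mem_open
    hyV (f ⁻¹ᵁ V).2
  have hft : (f.appLE V U hUV).hom.FiniteType :=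
    HasRingHomProperty.appLE (P := @LocallyOfFiniteType) f inferInstance ⟨V, hV⟩ ⟨U, hU⟩ hUV
  have hqf : (f.appLE V U hUV).hom.QuasiFinite :=
    HasRingHomProperty.appLE (P := @LocallyQuasiFinite) f inferInstance ⟨V, hV⟩ ⟨U, hU⟩ hUV
  algebraize [(f.appLE V U hUV).hom]
  let q : PrimeSpectrum Γ(X, U) := hU.primeIdealOf ⟨x, hxU⟩
  obtain ⟨r, hr, N, hN⟩ := exists_local_bound_alg Γ(Y, V) Γ(X, U) q
  refine ⟨Spec (CommRingCat.of (Localization.Away r)),
    Spec.map (CommRingCat.ofHom (algebraMap Γ(X, U) (Localization.Away r))) ≫ hU.fromSpec,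
    inferInstance, ?_, N * 1, ?_⟩
  · have hq : q ∈ Set.range (Spec.map (CommRingCat.ofHom
        (algebraMap Γ(X, U) (Localization.Away r)))) := by
      have := PrimeSpectrum.localization_away_comap_range (Localization.Away r) r
      show q ∈ Set.range (PrimeSpectrum.comap (algebraMap Γ(X, U) (Localization.Away r)))
      rw [this]
      exact hr
    obtain ⟨w, hw⟩ := hq
    refine ⟨w, ?_⟩
    rw [Scheme.Hom.comp_apply, hw]
    exact hU.fromSpec_primeIdealOf ⟨x, hxU⟩
  · have e := IsAffineOpen.SpecMap_appLE_fromSpec f hV hU hUV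
    rw [Category.assoc, ← e, ← Category.assoc]
    exact BddFib5.s7436 _ hV.fromSpec N 1 hN (BddImm.s7439 hV.fromSpec)

theorem s7441 {X Y : Scheme.{u}} (f : X ⟶ Y) [LocallyQuasiFinite f]
    [LocallyOfFiniteType f] [CompactSpace X] : BddFib.UnivBounded f := by
  choose W ι hι hx N hN using exists_local_bound f
  haveI : ∀ x, IsOpenImmersion (ι x) := hι
  obtain ⟨t, ht⟩ := isCompact_univ.elim_finite_subcover (fun x : X => Set.range (ι x))
    (fun x => (ι x).isOpenEmbedding.isOpen_range) (fun x _ => Set.mem_iUnion.mpr ⟨x, hx x⟩)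
  -- index by the finite set `t`
  let J := Fin t.card
  let ej : J ≃ t := (t.equivFin).symm
  refine ⟨∑ j : J, N (ej j).1, ?_⟩
  refine BddFib6.fibreDegLE_of_openCover f (fun j : J => W (ej j).1) (fun j => ι (ej j).1) ?_
    (fun j => N (ej j).1) (fun j => hN (ej j).1)
  intro x
  have hxx := ht (Set.mem_univ x)
  simp only [Set.mem_iUnion] at hxx
  obtain ⟨x', hx't, w, hw⟩ := hxx
  obtain ⟨j, rfl⟩ : ∃ j : J, (ej j).1 = x' := ⟨ej.symm ⟨x', hx't⟩, by simp⟩
  exact ⟨j, w, hw⟩

end Groth.Agent.Helper4.BddFib8
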