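import Mathlib
import Groth.Agent.Helper4.BddFib8

set_option autoImplicit false
universe u
open CategoryTheory CategoryTheory.Limits AlgebraicGeometry TopologicalSpace Opposite TensorProduct

namespace Groth.Agent.Helper4.BddFib9

open Groth.Agent.Helper5 Groth.Agent.Helper4.BddFib1

/-- étale morphisms are locally quasi-finite -/
theorem locallyQuasiFinite_of_etale {X Y : Scheme.{u}} (f : X ⟶ Y) [Etale f] :
    LocallyQuasiFinite f := by
  rw [HasRingHomProperty.iff_appLE (P := @LocallyQuasiFinite)]
  intro U V e
  have h : (f.appLE U.1 V.1 e).hom.Etale :=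
    HasRingHomProperty.appLE (P := @Etale) f inferInstance U V e
  algebraize [(f.appLE U.1 V.1 e).hom]
  show (algebraMap Γ(Y, U.1) Γ(X, V.1)).QuasiFinite
  rw [RingHom.quasiFinite_algebraMap]
  infer_instance

/-- pure algebra: a reduced finite algebra over an algebraically closed field has dimension at most
the number of a finite family of maximal ideals with trivial intersection. -/
theorem finrank_le_card (k A : Type u) [Field k] [IsAlgClosed k] [CommRing A] [Algebra k A]
    [Module.Finite k A] {ι : Type u} [Fintype ι] (I : ι → Ideal A) (hmax : ∀ i, (I i).IsMaximal)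
    (hinf : ∀ a : A, (∀ i, a ∈ I i) → a = 0) :
    Module.finrank k A ≤ Fintype.card ι := by
  let F : A →ₗ[k] (∀ i, A ⧸ I i) := (LinearMap.pi fun i ↦ (I i).mkQ).restrictScalars k
  have hF : Function.Injective F := by
    rw [← LinearMap.ker_eq_bot, LinearMap.ker_eq_bot']
    intro a ha
    refine hinf a fun i => ?_
    have := congr_fun ha i
    exact (Submodule.Quotient.mk_eq_zero _).mp this
  have h1 : ∀ i, Module.finrank k (A ⧸ I i) = 1 := by
    intro i
    haveI := hmax i
    letI : Field (A ⧸ I i) := Ideal.Quotient.field (I i)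
    haveI : Algebra.IsIntegral k (A ⧸ I i) := Algebra.IsIntegral.of_finite k _
    have hb := IsAlgClosed.algebraMap_bijective_of_isIntegral (k := k) (K := A ⧸ I i)
    have e : k ≃ₗ[k] (A ⧸ I i) := LinearEquiv.ofBijective (Algebra.linearMap k (A ⧸ I i)) hb
    rw [← e.finrank_eq, Module.finrank_self]
  calc Module.finrank k A ≤ Module.finrank k (∀ i, A ⧸ I i) :=
        LinearMap.finrank_le_finrank_of_injective hF
    _ = ∑ i, Module.finrank k (A ⧸ I i) := Module.finrank_pi_fintype k
    _ = Fintype.card ι := by simp [h1]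

/-- Claim E: étale over an algebraically closed field with at most `n` points -/
theorem finiteOfDegLE_of_etale_algClosed (k : Type u) [Field k] [IsAlgClosed k] {T : Scheme.{u}}
    (p : T ⟶ Spec (CommRingCat.of k)) [Etale p] (n : ℕ) (hfin : Finite T) (hn : Nat.card T ≤ n) :
    BddFib.FiniteOfDegLE (CommRingCat.of k) p n := by
  haveI := locallyQuasiFinite_of_etale p
  haveI : CompactSpace T := Finite.compactSpace
  haveI : QuasiCompact p :=
    (HasAffineProperty.iff_of_isAffine (P := @QuasiCompact)).mpr inferInstance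
  haveI : IsFinite p := IsFinite.of_locallyQuasiFinite p
  haveI : IsAffine T := isAffine_of_isAffineHom p
  have h0 := BddFLF.finiteOfDegLE_of_finrank k p default _ rfl
  letI alg : Algebra k Γ(T, ⊤) := BddFib.secAlgebra (CommRingCat.of k) p
  haveI : Module.Finite k Γ(T, ⊤) := h0.2.1
  refine ⟨inferInstance, inferInstance, ?_⟩
  have het : (p.appTop).hom.Etale := HasRingHomProperty.appTop (P := @Etale) p inferInstance
  have het2 : ((Scheme.ΓSpecIso (CommRingCat.of k)).inv ≫ p.appTop).hom.Etale :=
    (RingHom.Etale.respectsIso.cancel_left_isIso _ _).mpr het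
  haveI : Algebra.Etale k Γ(T, ⊤) := het2
  haveI : _root_.IsReduced Γ(T, ⊤) := Algebra.FormallyUnramified.isReduced_of_field k _
  haveI : AlgebraicGeometry.IsReduced T := isReduced_of_isAffine_isReduced T
  haveI hart : IsArtinianRing Γ(T, ⊤) := IsArtinianRing.of_finite k _
  haveI := Fintype.ofFinite T
  have key := finrank_le_card k Γ(T, ⊤) (fun x : T => RingHom.ker (T.Γevaluation x).hom)
    (fun x => RingHom.ker_isMaximal_of_surjective _ (BddFib3.Γevaluation_surjective T x)) ?_
  · rw [Nat.card_eq_fintype_card] at hn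
    exact key.trans hn
  · intro a ha
    rw [← basicOpen_eq_bot_iff, Scheme.basicOpen_eq_bot_iff_forall_evaluation_eq_zero]
    intro x
    exact ha x.1

theorem s7440 {X Y : Scheme.{u}} (f : X ⟶ Y) [Etale f] (n : ℕ)
    (h : ∀ (k : Type u) [Field k] (g : Spec (CommRingCat.of k) ⟶ Y),
      Finite ↥(Limits.pullback f g) ∧ Nat.card ↥(Limits.pullback f g) ≤ n) :
    BddFib.FibreDegLE f n := by
  intro y
  let K := IsLocalRing.ResidueField (Y.presheaf.stalk y)
  let k := AlgebraicClosure K
  let g₀ : Spec (CommRingCat.of K) ⟶ Y := Y.fromSpecResidueField y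
  let q : Spec (CommRingCat.of k) ⟶ Spec (CommRingCat.of K) :=
    Spec.map (CommRingCat.ofHom (algebraMap K k))
  let g' : Spec (CommRingCat.of k) ⟶ Y := q ≫ g₀
  obtain ⟨hfin, hcard⟩ := h k g'
  let a : pullback f g' ⟶ pullback f g₀ :=
    pullback.lift (pullback.fst f g') (pullback.snd f g' ≫ q)
      (by rw [Category.assoc]; exact pullback.condition)
  have sq : IsPullback a (pullback.snd f g') (pullback.snd f g₀) q := by
    refine IsPullback.of_right (h₁₂ := pullback.fst f g₀) (h₂₂ := g₀) (v₁₃ := f) ?_ ?_
      (IsPullback.of_hasPullback f g₀)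
    · have : a ≫ pullback.fst f g₀ = pullback.fst f g' := pullback.lift_fst _ _ _
      rw [this]
      exact (IsPullback.of_hasPullback f g')
    · exact pullback.lift_snd _ _ _
  have hE : BddFib.FiniteOfDegLE (CommRingCat.of k) (pullback.snd f g') n :=
    finiteOfDegLE_of_etale_algClosed k (pullback.snd f g') n hfin hcard
  exact finiteOfDegLE_descend K k (pullback.snd f g₀) (pullback.snd f g') a q sq n hE

end Groth.Agent.Helper4.BddFib9
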