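import Mathlib

/-!
# Newton transforms of sequences

`newt a` is the sequence of "power sums" attached to a sequence `a` of "elementary symmetric
functions" (`a 0` is ignored), and `newtInv p` goes the other way over `ℚ`-algebras.
-/

set_option autoImplicit false

namespace Groth.Agent.Helper4.Newt

open Finset

universe u v

/-- Newton transform: from elementary symmetric functions to power sums. -/
noncomputable def newt {A : Type*} [CommRing A] (a : ℕ → A) : ℕ → A
  | 0 => 0
  | (n+1) => (-1)^n * (((n+1 : ℕ) : A) * a (n+1) -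
      ∑ k : Fin n, (-1)^(k:ℕ) * newt a (k+1) * a (n - k))

/-- Inverse Newton transform: from power sums to elementary symmetric functions. -/
noncomputable def newtInv {A : Type*} [CommRing A] [Algebra ℚ A] (p : ℕ → A) : ℕ → A
  | 0 => 1
  | (n+1) => algebraMap ℚ A (1/((n:ℚ)+1)) *
      ∑ k : Fin (n+1), (-1)^(k:ℕ) * p (k+1) * newtInv p (n - k)

section Basic

variable {A : Type*} [CommRing A]

@[simp] theorem newt_zero (a : ℕ → A) : newt a 0 = 0 := by rw [newt]

theorem newt_succ (a : ℕ → A) (n : ℕ) :
    newt a (n+1) = (-1)^n * (((n+1 : ℕ) : A) * a (n+1) -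
      ∑ k ∈ range n, (-1)^k * newt a (k+1) * a (n - k)) := by
  rw [newt, Fin.sum_univ_eq_sum_range (fun k => (-1)^k * newt a (k+1) * a (n - k)) n]

theorem neg_one_pow_mul_self (n : ℕ) : ((-1 : A)^n) * (-1)^n = 1 := by
  rw [← mul_pow]; simp

/-- Characterisation of `newt a (n+1)`. -/
theorem newt_succ' (a : ℕ → A) (n : ℕ) :
    (-1)^n * newt a (n+1) = ((n+1 : ℕ) : A) * a (n+1) -
      ∑ k ∈ range n, (-1)^k * newt a (k+1) * a (n - k) := by
  rw [newt_succ, ← mul_assoc, neg_one_pow_mul_self, one_mul]

theorem eq_newt_succ (a : ℕ → A) (n : ℕ) (z : A)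
    (h : (-1)^n * z = ((n+1 : ℕ) : A) * a (n+1) -
      ∑ k ∈ range n, (-1)^k * newt a (k+1) * a (n - k)) : z = newt a (n+1) := by
  have : (-1 : A)^n * z = (-1)^n * newt a (n+1) := by rw [h, newt_succ']
  have h2 := congrArg (fun t => (-1 : A)^n * t) this
  simp only [← mul_assoc, neg_one_pow_mul_self, one_mul] at h2
  exact h2

theorem map_newt {B : Type*} [CommRing B] (f : A →+* B) (a : ℕ → A) (k : ℕ) :
    f (newt a k) = newt (fun i => f (a i)) k := by
  induction k using Nat.strong_induction_on with
  | _ k ih =>
    rcases k with _ | n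
    · simp
    · rw [newt_succ, newt_succ]
      simp only [map_mul, map_sub, map_sum, map_pow, map_neg, map_one, map_natCast]
      congr 2
      refine Finset.sum_congr rfl fun k hk => ?_
      rw [ih (k + 1) (by rw [Finset.mem_range] at hk; omega)]

theorem newt_congr {a a' : ℕ → A} (k : ℕ) (h : ∀ i, 1 ≤ i → i ≤ k → a i = a' i) :
    newt a k = newt a' k := by
  induction k using Nat.strong_induction_on with
  | _ k ih =>
    rcases k with _ | n
    · simp
    · rw [newt_succ, newt_succ, h (n + 1) (by omega) le_rfl]
      congr 2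
      refine Finset.sum_congr rfl fun k hk => ?_
      rw [Finset.mem_range] at hk
      rw [ih (k + 1) (by omega) (fun i h1 h2 => h i h1 (by omega)), h (n - k) (by omega) (by omega)]

end Basic

section Inv

variable {A : Type*} [CommRing A] [Algebra ℚ A]

@[simp] theorem newtInv_zero (p : ℕ → A) : newtInv p 0 = 1 := by rw [newtInv]

theorem isUnit_natCast_succ (n : ℕ) : IsUnit ((n : A) + 1) := by
  have : IsUnit ((n : ℚ) + 1) := IsUnit.mk0 _ (by positivity)
  simpa using this.map (algebraMap ℚ A)

theorem newtInv_succ (p : ℕ → A) (n : ℕ) :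
    ((n : A) + 1) * newtInv p (n+1) =
      ∑ k ∈ range (n+1), (-1)^k * p (k+1) * newtInv p (n - k) := by
  rw [newtInv, Fin.sum_univ_eq_sum_range (fun k => (-1)^k * p (k+1) * newtInv p (n - k)) (n+1),
    ← mul_assoc]
  have : ((n : A) + 1) * algebraMap ℚ A (1/((n:ℚ)+1)) = 1 := by
    have h1 : ((n : A) + 1) = algebraMap ℚ A ((n:ℚ)+1) := by simp
    rw [h1, ← map_mul, mul_one_div_cancel (by positivity), map_one]
  rw [this, one_mul]

theorem eq_newtInv_succ (p : ℕ → A) (n : ℕ) (z : A)
    (h : ((n : A) + 1) * z = ∑ k ∈ range (n+1), (-1)^k * p (k+1) * newtInv p (n - k)) :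
    z = newtInv p (n+1) := by
  apply (isUnit_natCast_succ (A := A) n).mul_left_cancel
  rw [h, newtInv_succ]

theorem map_newtInv {B : Type*} [CommRing B] [Algebra ℚ B] (f : A →+* B) (p : ℕ → A) (k : ℕ) :
    f (newtInv p k) = newtInv (fun i => f (p i)) k := by
  induction k using Nat.strong_induction_on with
  | _ k ih =>
    rcases k with _ | n
    · simp
    · apply eq_newtInv_succ
      have := congrArg f (newtInv_succ p n)
      simp only [map_mul, map_add, map_natCast, map_one, map_sum, map_pow, map_neg] at this
      rw [this]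
      refine Finset.sum_congr rfl fun k hk => ?_
      rw [ih (n - k) (by omega)]

theorem newtInv_congr {p p' : ℕ → A} (k : ℕ) (h : ∀ i, 1 ≤ i → i ≤ k → p i = p' i) :
    newtInv p k = newtInv p' k := by
  induction k using Nat.strong_induction_on with
  | _ k ih =>
    rcases k with _ | n
    · simp
    · apply eq_newtInv_succ
      rw [newtInv_succ]
      refine Finset.sum_congr rfl fun k hk => ?_
      rw [Finset.mem_range] at hk
      rw [h (k + 1) (by omega) (by omega),
        ih (n - k) (by omega) (fun i h1 h2 => h i h1 (by omega))]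

/-- `newt ∘ newtInv = id`. -/
theorem newt_newtInv (p : ℕ → A) (k : ℕ) (hk : 1 ≤ k) : newt (newtInv p) k = p k := by
  induction k using Nat.strong_induction_on with
  | _ k ih =>
    rcases k with _ | n
    · omega
    · symm
      apply eq_newt_succ
      rw [Nat.cast_succ, newtInv_succ, Finset.sum_range_succ, Nat.sub_self, newtInv_zero, mul_one]
      have : ∑ k ∈ range n, (-1 : A)^k * newt (newtInv p) (k+1) * newtInv p (n - k) =
          ∑ k ∈ range n, (-1)^k * p (k+1) * newtInv p (n - k) := by
        refine Finset.sum_congr rfl fun k hk => ?_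
        rw [Finset.mem_range] at hk
        rw [ih (k + 1) (by omega) (by omega)]
      rw [this]
      ring

/-- `newtInv ∘ newt = id` on sequences starting with `1`. -/
theorem newtInv_newt (a : ℕ → A) (h0 : a 0 = 1) (k : ℕ) : newtInv (newt a) k = a k := by
  induction k using Nat.strong_induction_on with
  | _ k ih =>
    rcases k with _ | n
    · simp [h0]
    · symm
      apply eq_newtInv_succ
      rw [Finset.sum_range_succ, Nat.sub_self, newtInv_zero, mul_one, newt_succ',
        Nat.cast_succ]
      have : ∑ k ∈ range n, (-1 : A)^k * newt a (k+1) * newtInv (newt a) (n - k) =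
          ∑ k ∈ range n, (-1)^k * newt a (k+1) * a (n - k) := by
        refine Finset.sum_congr rfl fun k hk => ?_
        rw [ih (n - k) (by omega)]
      rw [this]
      ring

end Inv

end Groth.Agent.Helper4.Newt
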