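import Mathlib
import Groth.Agent.Helper4.Newt
import Groth.Agent.Helper4.AdamsOps

/-!
# Newton transforms: Adams operations and symmetric polynomials
-/

set_option autoImplicit false

namespace Groth.Agent.Helper4.Newt

open Finset LambdaRing

universe u

section Lambda

variable {K : Type u} [CommRing K] [LambdaOps K]

/-- The Adams operations are the Newton transform of the λ-operations. -/
theorem adamsOp_eq_newt (x : K) (k : ℕ) :
    adamsOp k x = newt (fun i => LambdaOps.lam i x) k := by
  induction k using Nat.strong_induction_on with
  | _ k ih =>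
    rcases k with _ | n
    · simp [adamsOp]
    · apply eq_newt_succ
      rw [AdamsOps.newton' x n, Nat.cast_succ, mul_comm]
      congr 1
      refine Finset.sum_congr rfl fun k hk => ?_
      rw [Finset.mem_range] at hk
      rw [ih (k + 1) (by omega)]

/-- Over a `ℚ`-algebra the λ-operations are the inverse Newton transform of the Adams
operations. -/
theorem lam_eq_newtInv [Algebra ℚ K] (x : K) (k : ℕ) :
    LambdaOps.lam k x = newtInv (fun i => adamsOp i x) k := by
  induction k using Nat.strong_induction_on with
  | _ k ih =>
    rcases k with _ | n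
    · simp [LambdaOps.lam_zero]
    · apply eq_newtInv_succ
      rw [mul_comm, AdamsOps.newton x n]
      refine Finset.sum_congr rfl fun k hk => ?_
      rw [ih (n - k) (by omega)]

end Lambda

section Sym

open MvPolynomial

variable (σ : Type*) [Fintype σ] (R : Type*) [CommRing R]

/-- Newton's identities: the power sums are the Newton transform of the elementary symmetric
polynomials. -/
theorem newt_esymm (k : ℕ) (hk : 1 ≤ k) :
    newt (fun i => esymm σ R i) k = psum σ R k := by
  classical
  induction k using Nat.strong_induction_on with
  | _ k ih =>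
    rcases k with _ | n
    · omega
    · symm
      apply eq_newt_succ
      rw [psum_eq_mul_esymm_sub_sum σ R (n + 1) (by omega)]
      -- reindex the sum
      have hsum : ∑ a ∈ antidiagonal (n + 1) with a.1 ∈ Set.Ioo 0 (n + 1),
            (-1 : MvPolynomial σ R) ^ a.1 * esymm σ R a.1 * psum σ R a.2 =
          ∑ j ∈ range n, (-1) ^ (n - j) * esymm σ R (n - j) * psum σ R (j + 1) := by
        refine Finset.sum_nbij' (fun a => a.2 - 1) (fun j => (n - j, j + 1)) ?_ ?_ ?_ ?_ ?_
        · intro a ha
          simp only [Finset.mem_filter, Finset.HasAntidiagonal.mem_antidiagonal, Set.mem_Ioo] at ha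
          rw [Finset.mem_range]; omega
        · intro j hj
          rw [Finset.mem_range] at hj
          simp only [Finset.mem_filter, Finset.HasAntidiagonal.mem_antidiagonal, Set.mem_Ioo]
          omega
        · intro a ha
          simp only [Finset.mem_filter, Finset.HasAntidiagonal.mem_antidiagonal, Set.mem_Ioo] at ha
          ext <;> simp <;> omega
        · intro j hj
          simp
        · intro a ha
          simp only [Finset.mem_filter, Finset.HasAntidiagonal.mem_antidiagonal, Set.mem_Ioo] at ha
          have h1 : n - (a.2 - 1) = a.1 := by omega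
          have h2 : a.2 - 1 + 1 = a.2 := by omega
          rw [h1, h2]
      rw [hsum]
      have hsum2 : ∑ k ∈ range n, (-1 : MvPolynomial σ R) ^ k *
            newt (fun i => esymm σ R i) (k + 1) * esymm σ R (n - k) =
          ∑ k ∈ range n, (-1) ^ k * psum σ R (k + 1) * esymm σ R (n - k) := by
        refine Finset.sum_congr rfl fun k hk => ?_
        rw [Finset.mem_range] at hk
        rw [ih (k + 1) (by omega) (by omega)]
      rw [hsum2, mul_sub, Finset.mul_sum]
      congr 1
      · rw [← mul_assoc, ← mul_assoc, ← pow_add]
        have : (-1 : MvPolynomial σ R) ^ (n + (n + 1 + 1)) = 1 := by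
          rw [show n + (n + 1 + 1) = 2 * (n + 1) by ring, pow_mul]; simp
        rw [this, one_mul]
      · refine Finset.sum_congr rfl fun j hj => ?_
        rw [Finset.mem_range] at hj
        have : (-1 : MvPolynomial σ R) ^ n * (-1) ^ (n - j) = (-1) ^ j := by
          rw [← pow_add]
          have h3 : n + (n - j) = 2 * (n - j) + j := by omega
          rw [h3, pow_add, pow_mul]; simp
        rw [← mul_assoc, ← mul_assoc, this]
        ring

/-- Family version of Newton's identities. -/
theorem newt_multiset_esymm {ι : Type*} {A : Type*} [CommRing A] (s : Finset ι) (f : ι → A)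
    (k : ℕ) (hk : 1 ≤ k) :
    newt (fun i => (s.val.map f).esymm i) k = ∑ x ∈ s, f x ^ k := by
  classical
  have h := newt_esymm s ℤ k hk
  have h2 := congrArg (aeval (fun x : s => f x) : MvPolynomial s ℤ →ₐ[ℤ] A) h
  have h3 := map_newt (aeval (fun x : s => f x) : MvPolynomial s ℤ →ₐ[ℤ] A).toRingHom
    (fun i => esymm s ℤ i) k
  have h4 : (fun i => (aeval (fun x : s => f x) : MvPolynomial s ℤ →ₐ[ℤ] A).toRingHom
      (esymm s ℤ i)) = fun i => (s.val.map f).esymm i := by
    funext i
    show aeval (fun x : s => f x) (esymm s ℤ i) = _
    rw [aeval_esymm_eq_multiset_esymm]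
    congr 1
    rw [Finset.univ_eq_attach]
    exact (Multiset.attach_map_val' s.val f)
  rw [h4] at h3
  rw [← h3]
  show aeval (fun x : s => f x) (newt (fun i => esymm s ℤ i) k) = _
  rw [h2, psum, map_sum]
  simp only [map_pow, aeval_X]
  rw [Finset.univ_eq_attach]
  exact Finset.sum_attach s (fun x => f x ^ k)

/-- Family version of the inverse Newton identities. -/
theorem newtInv_psum {ι : Type*} {A : Type*} [CommRing A] [Algebra ℚ A] (s : Finset ι) (f : ι → A)
    (n : ℕ) :
    newtInv (fun k => ∑ x ∈ s, f x ^ k) n = (s.val.map f).esymm n := by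
  have h0 : (s.val.map f).esymm 0 = 1 := by simp [Multiset.esymm]
  rw [← newtInv_newt (fun i => (s.val.map f).esymm i) h0 n]
  apply newtInv_congr
  intro i h1 _
  exact (newt_multiset_esymm s f i h1).symm

end Sym

end Groth.Agent.Helper4.Newt
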