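import Mathlib
import Groth.Agent.Helper4.Newt2

/-!
# Algebraic independence of the elementary symmetric polynomials of two families
-/

set_option autoImplicit false

namespace Groth.Agent.Helper4.Newt

open Finset MvPolynomial

universe u

variable (R : Type u) [CommRing R] (n : ℕ)

/-- Substitution of the elementary symmetric polynomials (one family). -/
noncomputable def ε : MvPolynomial (Fin n) R →ₐ[R] MvPolynomial (Fin n) R :=
  aeval (fun k : Fin n => esymm (Fin n) R ((k : ℕ) + 1))

theorem ε_injective : Function.Injective (ε R n) := by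
  intro p q hpq
  apply (esymmAlgHom_fin_bijective R n).1
  apply Subtype.ext
  rw [esymmAlgHom_apply, esymmAlgHom_apply]
  exact hpq

/-- Substitution of the elementary symmetric polynomials of two families. -/
noncomputable def E : Fin n ⊕ Fin n → MvPolynomial (Fin n ⊕ Fin n) R :=
  Sum.elim (fun k : Fin n => rename Sum.inl (esymm (Fin n) R ((k : ℕ) + 1)))
    (fun k : Fin n => rename Sum.inr (esymm (Fin n) R ((k : ℕ) + 1)))

theorem sumRingEquiv_rename_inl (p : MvPolynomial (Fin n) R) :
    sumRingEquiv R (Fin n) (Fin n) (rename Sum.inl p) = map C p := by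
  induction p using MvPolynomial.induction_on with
  | C a => simp
  | add p q hp hq => simp only [map_add, hp, hq]
  | mul_X p i hp => simp only [map_mul, hp, rename_X, sumRingEquiv_X_inl, map_X]

theorem sumRingEquiv_rename_inr (p : MvPolynomial (Fin n) R) :
    sumRingEquiv R (Fin n) (Fin n) (rename Sum.inr p) = C p := by
  induction p using MvPolynomial.induction_on with
  | C a => simp
  | add p q hp hq => simp only [map_add, hp, hq]
  | mul_X p i hp => simp only [map_mul, hp, rename_X, sumRingEquiv_X_inr]

theorem aeval_E_injective : Function.Injective (aeval (E R n) : MvPolynomial (Fin n ⊕ Fin n) R →ₐ[R] _) := by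
  -- the two-step map
  let Ψ : MvPolynomial (Fin n) (MvPolynomial (Fin n) R) →+* MvPolynomial (Fin n) (MvPolynomial (Fin n) R) :=
    (ε (MvPolynomial (Fin n) R) n).toRingHom.comp (map (ε R n).toRingHom)
  have hΨ : Function.Injective Ψ :=
    (ε_injective (MvPolynomial (Fin n) R) n).comp (map_injective _ (ε_injective R n))
  have hcomm : ((sumRingEquiv R (Fin n) (Fin n)).toRingHom.comp
      (aeval (E R n) : MvPolynomial (Fin n ⊕ Fin n) R →ₐ[R] _).toRingHom) =
      Ψ.comp (sumRingEquiv R (Fin n) (Fin n)).toRingHom := by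
    apply MvPolynomial.ringHom_ext
    · intro r
      simp [Ψ, ε]
    · rintro (k | k)
      · simp only [RingHom.comp_apply, AlgHom.toRingHom_eq_coe, RingHom.coe_coe, aeval_X, E,
          Sum.elim_inl, RingEquiv.toRingHom_eq_coe, sumRingEquiv_rename_inl, map_esymm,
          sumRingEquiv_X_inl, Ψ, map_X, ε]
      · simp only [RingHom.comp_apply, AlgHom.toRingHom_eq_coe, RingHom.coe_coe, aeval_X, E,
          Sum.elim_inr, RingEquiv.toRingHom_eq_coe, sumRingEquiv_rename_inr,
          sumRingEquiv_X_inr, Ψ, map_C, ε, aeval_C, algebraMap_eq]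
  intro p q hpq
  have h1 := congrArg (sumRingEquiv R (Fin n) (Fin n)) hpq
  have h2 : Ψ (sumRingEquiv R (Fin n) (Fin n) p) = Ψ (sumRingEquiv R (Fin n) (Fin n) q) := by
    have hp := RingHom.congr_fun hcomm p
    have hq := RingHom.congr_fun hcomm q
    simp only [RingHom.comp_apply, RingEquiv.toRingHom_eq_coe, RingHom.coe_coe,
      AlgHom.toRingHom_eq_coe] at hp hq
    rw [← hp, ← hq, h1]
  exact (sumRingEquiv R (Fin n) (Fin n)).injective (hΨ h2)

end Groth.Agent.Helper4.Newt
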