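import Mathlib
import Groth.Prelude.Def_LambdaSp
import Groth.Agent.Helper4.Newt3
import Groth.Agent.Helper4.SymPoly4

/-!
# The universal polynomial `P_n` in terms of Newton transforms (over `ℚ`)
-/

set_option autoImplicit false

namespace Groth.Agent.Helper4.Newt

open Finset MvPolynomial

universe u

/-- Ring homomorphisms commute with evaluation of integer polynomials. -/
theorem map_aeval_int {σ A B : Type*} [CommRing A] [CommRing B] [Algebra ℤ A] [Algebra ℤ B]
    (f : A →+* B) (g : σ → A)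
    (P : MvPolynomial σ ℤ) : f (aeval g P) = aeval (fun v => f (g v)) P := by
  induction P using MvPolynomial.induction_on with
  | C a =>
    simp only [aeval_C]
    rw [eq_intCast (algebraMap ℤ A) a, eq_intCast (algebraMap ℤ B) a, map_intCast]
  | add p q hp hq => simp only [map_add, hp, hq]
  | mul_X p i hp => simp only [map_mul, aeval_X, hp]

/-- Extend a finite family to a sequence: `1` in degree `0`, the family in degrees `1..n`, and
`0` beyond. -/
noncomputable def seqOf {A : Type*} [CommRing A] (n : ℕ) (g : Fin n → A) (i : ℕ) : A :=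
  if h : 1 ≤ i ∧ i ≤ n then g ⟨i - 1, by omega⟩ else if i = 0 then 1 else 0

section seqOf

variable {A : Type*} [CommRing A] (n : ℕ) (g : Fin n → A)

theorem seqOf_zero : seqOf n g 0 = 1 := by
  simp [seqOf]

theorem seqOf_succ (j : Fin n) : seqOf n g ((j : ℕ) + 1) = g j := by
  have h : 1 ≤ (j : ℕ) + 1 ∧ (j : ℕ) + 1 ≤ n := ⟨by omega, j.2⟩
  simp only [seqOf, h, and_self, dif_pos]
  congr 1

theorem seqOf_of_le {i : ℕ} (h1 : 1 ≤ i) (h2 : i ≤ n) : seqOf n g i = g ⟨i - 1, by omega⟩ := by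
  simp only [seqOf, h1, h2, and_self, dif_pos]

theorem seqOf_of_gt {i : ℕ} (h : n < i) : seqOf n g i = 0 := by
  have h' : ¬ (1 ≤ i ∧ i ≤ n) := by omega
  have h'' : i ≠ 0 := by omega
  simp [seqOf, h', h'']

theorem map_seqOf {B : Type*} [CommRing B] (f : A →+* B) (i : ℕ) :
    f (seqOf n g i) = seqOf n (fun j => f (g j)) i := by
  unfold seqOf
  split_ifs <;> simp

end seqOf

variable (n : ℕ)

/-- The sequence of elementary symmetric polynomials as a `seqOf`. -/
theorem seqOf_esymm (R : Type*) [CommRing R] (i : ℕ) :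
    seqOf n (fun j : Fin n => esymm (Fin n) R ((j : ℕ) + 1)) i = esymm (Fin n) R i := by
  rcases Nat.eq_zero_or_pos i with rfl | hi
  · rw [seqOf_zero, esymm_zero]
  · by_cases h : i ≤ n
    · rw [seqOf_of_le n _ hi h]
      show esymm (Fin n) R (i - 1 + 1) = _
      rw [Nat.sub_add_cancel hi]
    · rw [seqOf_of_gt n _ (by omega)]
      symm
      unfold esymm
      rw [Finset.powersetCard_eq_empty.mpr (by simp; omega), Finset.sum_empty]

/-- The family of products `T_a U_b`. -/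
noncomputable def fam : Fin n × Fin n → MvPolynomial (Fin n ⊕ Fin n) ℚ :=
  fun ab => X (Sum.inl ab.1) * X (Sum.inr ab.2)

theorem map_mulGen (k : ℕ) :
    map (Int.castRingHom ℚ) (LambdaRing.mulGen n k) =
      ((Finset.univ : Finset (Fin n × Fin n)).val.map (fam n)).esymm k := by
  unfold LambdaRing.mulGen
  rw [SymPoly.map_multiset_esymm, Multiset.map_map]
  congr 1
  apply Multiset.map_congr rfl
  intro ab _
  simp [fam]

/-- The universal sequences. -/
noncomputable def α₀ : ℕ → MvPolynomial (Fin n ⊕ Fin n) ℚ := seqOf n (fun j => X (Sum.inl j))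
/-- The universal sequences. -/
noncomputable def β₀ : ℕ → MvPolynomial (Fin n ⊕ Fin n) ℚ := seqOf n (fun j => X (Sum.inr j))

theorem aeval_E_α₀ (i : ℕ) :
    aeval (E ℚ n) (α₀ n i) = rename Sum.inl (esymm (Fin n) ℚ i) := by
  have := map_seqOf n (fun j => (X (Sum.inl j) : MvPolynomial (Fin n ⊕ Fin n) ℚ))
    (aeval (E ℚ n) : MvPolynomial (Fin n ⊕ Fin n) ℚ →ₐ[ℚ] _).toRingHom i
  rw [α₀]
  refine this.trans ?_
  simp only [AlgHom.toRingHom_eq_coe, RingHom.coe_coe, aeval_X, E, Sum.elim_inl]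
  rw [← seqOf_esymm n ℚ i]
  exact (map_seqOf n _ (rename Sum.inl : MvPolynomial (Fin n) ℚ →ₐ[ℚ] _).toRingHom i).symm

theorem aeval_E_β₀ (i : ℕ) :
    aeval (E ℚ n) (β₀ n i) = rename Sum.inr (esymm (Fin n) ℚ i) := by
  have := map_seqOf n (fun j => (X (Sum.inr j) : MvPolynomial (Fin n ⊕ Fin n) ℚ))
    (aeval (E ℚ n) : MvPolynomial (Fin n ⊕ Fin n) ℚ →ₐ[ℚ] _).toRingHom i
  rw [β₀]
  refine this.trans ?_
  simp only [AlgHom.toRingHom_eq_coe, RingHom.coe_coe, aeval_X, E, Sum.elim_inr]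
  rw [← seqOf_esymm n ℚ i]
  exact (map_seqOf n _ (rename Sum.inr : MvPolynomial (Fin n) ℚ →ₐ[ℚ] _).toRingHom i).symm

theorem newt_rename_esymm {τ : Type*} (f : Fin n → τ) (k : ℕ) (hk : 1 ≤ k) :
    newt (fun i => rename f (esymm (Fin n) ℚ i)) k = ∑ a, (X (f a) : MvPolynomial τ ℚ) ^ k := by
  have h1 := map_newt (rename f : MvPolynomial (Fin n) ℚ →ₐ[ℚ] MvPolynomial τ ℚ).toRingHom
    (fun i => esymm (Fin n) ℚ i) k
  simp only [AlgHom.toRingHom_eq_coe, RingHom.coe_coe] at h1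
  rw [← h1, newt_esymm (Fin n) ℚ k hk, psum, map_sum]
  simp

/-- The universal case. -/
theorem mulPoly_universal (P : MvPolynomial (Fin n ⊕ Fin n) ℤ) (hP : LambdaRing.IsMulPoly n P) :
    aeval (Sum.elim (fun j : Fin n => α₀ n ((j : ℕ) + 1)) (fun j : Fin n => β₀ n ((j : ℕ) + 1))) P =
      newtInv (fun i => newt (α₀ n) i * newt (β₀ n) i) n := by
  apply aeval_E_injective ℚ n
  -- left hand side
  have hL : aeval (E ℚ n) (aeval (Sum.elim (fun j : Fin n => α₀ n ((j : ℕ) + 1))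
      (fun j : Fin n => β₀ n ((j : ℕ) + 1))) P) =
      ((Finset.univ : Finset (Fin n × Fin n)).val.map (fam n)).esymm n := by
    have h1 := map_aeval_int (aeval (E ℚ n) : MvPolynomial (Fin n ⊕ Fin n) ℚ →ₐ[ℚ] _).toRingHom
      (Sum.elim (fun j : Fin n => α₀ n ((j : ℕ) + 1)) (fun j : Fin n => β₀ n ((j : ℕ) + 1))) P
    simp only [AlgHom.toRingHom_eq_coe, RingHom.coe_coe] at h1
    rw [h1, ← map_mulGen, ← hP.1]
    have h2 := map_aeval_int (map (Int.castRingHom ℚ) :
      MvPolynomial (Fin n ⊕ Fin n) ℤ →+* MvPolynomial (Fin n ⊕ Fin n) ℚ)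
      (Sum.elim (fun k : Fin n => rename Sum.inl (esymm (Fin n) ℤ ((k : ℕ) + 1)))
        (fun k : Fin n => rename Sum.inr (esymm (Fin n) ℤ ((k : ℕ) + 1)))) P
    rw [h2]
    have hfun : (fun v => aeval (E ℚ n) (Sum.elim (fun j : Fin n => α₀ n ((j : ℕ) + 1))
        (fun j : Fin n => β₀ n ((j : ℕ) + 1)) v)) =
        (fun v => (map (Int.castRingHom ℚ) :
          MvPolynomial (Fin n ⊕ Fin n) ℤ →+* MvPolynomial (Fin n ⊕ Fin n) ℚ)
          (Sum.elim (fun k : Fin n => rename Sum.inl (esymm (Fin n) ℤ ((k : ℕ) + 1)))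
            (fun k : Fin n => rename Sum.inr (esymm (Fin n) ℤ ((k : ℕ) + 1))) v)) := by
      funext v
      rcases v with j | j
      · simp only [Sum.elim_inl, α₀, seqOf_succ, aeval_X, E, map_rename, map_esymm]
      · simp only [Sum.elim_inr, β₀, seqOf_succ, aeval_X, E, map_rename, map_esymm]
    rw [hfun]
  rw [hL]
  -- right hand side
  have hR := map_newtInv (aeval (E ℚ n) : MvPolynomial (Fin n ⊕ Fin n) ℚ →ₐ[ℚ] _).toRingHom
    (fun i => newt (α₀ n) i * newt (β₀ n) i) n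
  simp only [AlgHom.toRingHom_eq_coe, RingHom.coe_coe] at hR
  rw [hR, ← newtInv_psum]
  apply newtInv_congr
  intro i hi _
  have h3 := map_newt (aeval (E ℚ n) : MvPolynomial (Fin n ⊕ Fin n) ℚ →ₐ[ℚ] _).toRingHom (α₀ n) i
  have h4 := map_newt (aeval (E ℚ n) : MvPolynomial (Fin n ⊕ Fin n) ℚ →ₐ[ℚ] _).toRingHom (β₀ n) i
  simp only [AlgHom.toRingHom_eq_coe, RingHom.coe_coe] at h3 h4
  rw [map_mul, h3, h4]
  simp only [aeval_E_α₀, aeval_E_β₀]
  rw [newt_rename_esymm n _ i hi, newt_rename_esymm n _ i hi, Finset.sum_mul_sum,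
    ← Finset.sum_product']
  refine Finset.sum_congr rfl fun ab _ => ?_
  simp only [fam, mul_pow]

/-- The universal polynomial `P_n` evaluated on two sequences in a `ℚ`-algebra. -/
theorem mulPoly_eval {A : Type*} [CommRing A] [Algebra ℚ A] (P : MvPolynomial (Fin n ⊕ Fin n) ℤ)
    (hP : LambdaRing.IsMulPoly n P) (α β : ℕ → A) :
    aeval (Sum.elim (fun j : Fin n => α ((j : ℕ) + 1)) (fun j : Fin n => β ((j : ℕ) + 1))) P =
      newtInv (fun i => newt α i * newt β i) n := by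
  let θ : MvPolynomial (Fin n ⊕ Fin n) ℚ →ₐ[ℚ] A :=
    aeval (Sum.elim (fun j : Fin n => α ((j : ℕ) + 1)) (fun j : Fin n => β ((j : ℕ) + 1)))
  have hθα : ∀ l, 1 ≤ l → l ≤ n → θ (α₀ n l) = α l := by
    intro l h1 h2
    rw [α₀, seqOf_of_le n _ h1 h2]
    simp only [θ, aeval_X, Sum.elim_inl]
    congr 1
    omega
  have hθβ : ∀ l, 1 ≤ l → l ≤ n → θ (β₀ n l) = β l := by
    intro l h1 h2
    rw [β₀, seqOf_of_le n _ h1 h2]
    simp only [θ, aeval_X, Sum.elim_inr]
    congr 1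
    omega
  have h := congrArg θ (mulPoly_universal n P hP)
  have h1 := map_aeval_int θ.toRingHom
    (Sum.elim (fun j : Fin n => α₀ n ((j : ℕ) + 1)) (fun j : Fin n => β₀ n ((j : ℕ) + 1))) P
  simp only [AlgHom.toRingHom_eq_coe, RingHom.coe_coe] at h1
  rw [h1] at h
  have h2 : (fun v => θ (Sum.elim (fun j : Fin n => α₀ n ((j : ℕ) + 1))
      (fun j : Fin n => β₀ n ((j : ℕ) + 1)) v)) =
      Sum.elim (fun j : Fin n => α ((j : ℕ) + 1)) (fun j : Fin n => β ((j : ℕ) + 1)) := by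
    funext v
    rcases v with j | j
    · exact hθα _ (by omega) j.2
    · exact hθβ _ (by omega) j.2
  rw [h2] at h
  rw [h]
  have hR := map_newtInv θ.toRingHom (fun i => newt (α₀ n) i * newt (β₀ n) i) n
  simp only [AlgHom.toRingHom_eq_coe, RingHom.coe_coe] at hR
  rw [hR]
  apply newtInv_congr
  intro i hi hin
  have h3 := map_newt θ.toRingHom (α₀ n) i
  have h4 := map_newt θ.toRingHom (β₀ n) i
  simp only [AlgHom.toRingHom_eq_coe, RingHom.coe_coe] at h3 h4
  rw [map_mul, h3, h4]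
  congr 1
  · exact newt_congr i fun l h1 h2 => hθα l h1 (by omega)
  · exact newt_congr i fun l h1 h2 => hθβ l h1 (by omega)

end Groth.Agent.Helper4.Newt
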