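import Mathlib
import Groth.Agent.Helper4.Newt4

/-!
# Adams operations of a special λ-ring are multiplicative
-/

set_option autoImplicit false

namespace Groth.Agent.Helper4.Newt

open Finset MvPolynomial LambdaRing

universe u

/-- Universal form: Newton transform of the sequence of the `P_n`. -/
theorem newt_mulPoly_universal (k : ℕ) (hk : 1 ≤ k)
    (P : ∀ n : ℕ, MvPolynomial (Fin n ⊕ Fin n) ℤ) (hP : ∀ n, IsMulPoly n (P n))
    (a b : ℕ → MvPolynomial (Fin k ⊕ Fin k) ℤ) :
    newt (fun n => aeval (Sum.elim (fun j : Fin n => a ((j : ℕ) + 1))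
      (fun j : Fin n => b ((j : ℕ) + 1))) (P n)) k = newt a k * newt b k := by
  let j : MvPolynomial (Fin k ⊕ Fin k) ℤ →+* MvPolynomial (Fin k ⊕ Fin k) ℚ :=
    map (Int.castRingHom ℚ)
  have hj : Function.Injective j := map_injective _ Int.cast_injective
  apply hj
  rw [map_mul, map_newt, map_newt, map_newt]
  have hπ : ∀ n, j (aeval (Sum.elim (fun j : Fin n => a ((j : ℕ) + 1))
      (fun j : Fin n => b ((j : ℕ) + 1))) (P n)) =
      newtInv (fun i => newt (fun i => j (a i)) i * newt (fun i => j (b i)) i) n := by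
    intro n
    rw [map_aeval_int j, ← mulPoly_eval n (P n) (hP n)]
    congr 2
    funext v
    rcases v with l | l <;> rfl
  simp only [hπ]
  rw [newt_newtInv _ k hk]

variable {K : Type u} [CommRing K] [LambdaOps K]

/-- In a special λ-ring, the Adams operations are multiplicative. -/
theorem adamsOp_mul (hK : IsSpecial K)
    (hP : ∀ n : ℕ, ∃ P : MvPolynomial (Fin n ⊕ Fin n) ℤ, IsMulPoly n P)
    (k : ℕ) (hk : 1 ≤ k) (x y : K) :
    adamsOp k (x * y) = adamsOp k x * adamsOp k y := by
  choose P hPn using hP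
  let a : ℕ → MvPolynomial (Fin k ⊕ Fin k) ℤ := seqOf k (fun j => X (Sum.inl j))
  let b : ℕ → MvPolynomial (Fin k ⊕ Fin k) ℤ := seqOf k (fun j => X (Sum.inr j))
  let ev : MvPolynomial (Fin k ⊕ Fin k) ℤ →+* K :=
    (aeval (Sum.elim (fun j : Fin k => LambdaOps.lam ((j : ℕ) + 1) x)
      (fun j : Fin k => LambdaOps.lam ((j : ℕ) + 1) y)) : MvPolynomial (Fin k ⊕ Fin k) ℤ →ₐ[ℤ] K)
  have hevC : ∀ v, ev (X v) = Sum.elim (fun j : Fin k => LambdaOps.lam ((j : ℕ) + 1) x)
      (fun j : Fin k => LambdaOps.lam ((j : ℕ) + 1) y) v := fun v => aeval_X _ v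
  have heva : ∀ l, 1 ≤ l → l ≤ k → ev (a l) = LambdaOps.lam l x := by
    intro l h1 h2
    simp only [a]
    rw [seqOf_of_le k _ h1 h2, hevC, Sum.elim_inl]
    congr 1
    exact Nat.sub_add_cancel h1
  have hevb : ∀ l, 1 ≤ l → l ≤ k → ev (b l) = LambdaOps.lam l y := by
    intro l h1 h2
    simp only [b]
    rw [seqOf_of_le k _ h1 h2, hevC, Sum.elim_inr]
    congr 1
    exact Nat.sub_add_cancel h1
  have hU := newt_mulPoly_universal k hk P hPn a b
  have h1 := congrArg ev hU
  rw [map_mul, map_newt, map_newt, map_newt] at h1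
  rw [adamsOp_eq_newt, adamsOp_eq_newt, adamsOp_eq_newt]
  have e1 : newt (fun i => LambdaOps.lam i (x * y)) k =
      newt (fun i => ev (aeval (Sum.elim (fun j : Fin i => a ((j : ℕ) + 1))
        (fun j : Fin i => b ((j : ℕ) + 1))) (P i))) k := by
    apply newt_congr
    intro n hn1 hn2
    rw [map_aeval_int ev, hK.lam_mul n (P n) (hPn n) x y]
    congr 2
    funext v
    rcases v with l | l
    · exact (heva _ (by omega) (by have := l.2; omega)).symm
    · exact (hevb _ (by omega) (by have := l.2; omega)).symm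
  have e2 : newt (fun i => ev (a i)) k = newt (fun i => LambdaOps.lam i x) k :=
    newt_congr k fun l h1 h2 => heva l h1 h2
  have e3 : newt (fun i => ev (b i)) k = newt (fun i => LambdaOps.lam i y) k :=
    newt_congr k fun l h1 h2 => hevb l h1 h2
  rw [e1, h1, e2, e3]

end Groth.Agent.Helper4.Newt
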