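import Mathlib
import Groth.Agent.Helper4.Newt5

/-!
# Additivity of Adams operations; the universal polynomial `Q_{i,j}` via Newton transforms
-/

set_option autoImplicit false

namespace Groth.Agent.Helper4.Newt

open Finset MvPolynomial LambdaRing

universe u

section Add

variable {K : Type u} [CommRing K] [LambdaOps K]

theorem invOfUnit_lamSeries_add (x y : K) :
    (lamSeries (x + y)).invOfUnit 1 = (lamSeries x).invOfUnit 1 * (lamSeries y).invOfUnit 1 := by
  have h1 := AdamsOps.lamSeries_mul_invOfUnit (x + y)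
  have hx := AdamsOps.lamSeries_mul_invOfUnit x
  have hy := AdamsOps.lamSeries_mul_invOfUnit y
  have h2 : lamSeries (x + y) * ((lamSeries x).invOfUnit 1 * (lamSeries y).invOfUnit 1) = 1 := by
    rw [LamSeries.lamSeries_add]
    calc lamSeries x * lamSeries y * ((lamSeries x).invOfUnit 1 * (lamSeries y).invOfUnit 1)
        = (lamSeries x * (lamSeries x).invOfUnit 1) * (lamSeries y * (lamSeries y).invOfUnit 1) := by
          ring
      _ = 1 := by rw [hx, hy, mul_one]
  calc (lamSeries (x + y)).invOfUnit 1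
      = (lamSeries (x + y)).invOfUnit 1 *
          (lamSeries (x + y) * ((lamSeries x).invOfUnit 1 * (lamSeries y).invOfUnit 1)) := by
        rw [h2, mul_one]
    _ = (lamSeries (x + y) * (lamSeries (x + y)).invOfUnit 1) *
          ((lamSeries x).invOfUnit 1 * (lamSeries y).invOfUnit 1) := by ring
    _ = _ := by rw [h1, one_mul]

theorem logDerivSeries_add (x y : K) :
    logDerivSeries (x + y) = logDerivSeries x + logDerivSeries y := by
  unfold logDerivSeries
  rw [invOfUnit_lamSeries_add, LamSeries.lamSeries_add, Derivation.leibniz]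
  have hx := AdamsOps.lamSeries_mul_invOfUnit x
  have hy := AdamsOps.lamSeries_mul_invOfUnit y
  simp only [smul_eq_mul]
  calc (lamSeries x * PowerSeries.derivative K (lamSeries y) +
        lamSeries y * PowerSeries.derivative K (lamSeries x)) *
        ((lamSeries x).invOfUnit 1 * (lamSeries y).invOfUnit 1)
      = PowerSeries.derivative K (lamSeries x) * (lamSeries x).invOfUnit 1 *
          (lamSeries y * (lamSeries y).invOfUnit 1) +
        PowerSeries.derivative K (lamSeries y) * (lamSeries y).invOfUnit 1 *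
          (lamSeries x * (lamSeries x).invOfUnit 1) := by ring
    _ = _ := by rw [hx, hy, mul_one, mul_one]

theorem adamsOp_add (k : ℕ) (x y : K) : adamsOp k (x + y) = adamsOp k x + adamsOp k y := by
  rcases k with _ | k
  · simp [adamsOp]
  · show (-1 : K) ^ k * PowerSeries.coeff k (logDerivSeries (x + y)) =
      (-1) ^ k * PowerSeries.coeff k (logDerivSeries x) +
        (-1) ^ k * PowerSeries.coeff k (logDerivSeries y)
    rw [logDerivSeries_add, map_add, mul_add]

theorem adamsOp_zero' (k : ℕ) : adamsOp k (0 : K) = 0 := by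
  have := adamsOp_add k (0 : K) 0
  rw [add_zero] at this
  exact (add_eq_left.mp this.symm)

/-- A multiplicative, unital Adams operation as a ring homomorphism. -/
noncomputable def adamsHom (k : ℕ) (h1 : adamsOp k (1 : K) = 1)
    (hmul : ∀ x y : K, adamsOp k (x * y) = adamsOp k x * adamsOp k y) : K →+* K where
  toFun := adamsOp k
  map_one' := h1
  map_mul' := hmul
  map_zero' := adamsOp_zero' k
  map_add' := adamsOp_add k

end Add

section Comp

variable (i j : ℕ)

/-- The family of products over `i`-element subsets. -/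
noncomputable def famC : Finset (Fin (i * j)) → MvPolynomial (Fin (i * j)) ℚ :=
  fun s => ∏ a ∈ s, X a

theorem map_compGen :
    map (Int.castRingHom ℚ) (LambdaRing.compGen (i * j) i j) =
      (((Finset.univ : Finset (Fin (i * j))).powersetCard i).val.map (famC i j)).esymm j := by
  unfold LambdaRing.compGen
  rw [SymPoly.map_multiset_esymm, Multiset.map_map]
  congr 1
  apply Multiset.map_congr rfl
  intro s _
  simp [famC]

/-- The universal sequence. -/
noncomputable def γ₀ : ℕ → MvPolynomial (Fin (i * j)) ℚ := seqOf (i * j) (fun l => X l)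

theorem ε_γ₀ (l : ℕ) : ε ℚ (i * j) (γ₀ i j l) = esymm (Fin (i * j)) ℚ l := by
  have := map_seqOf (i * j) (fun l => (X l : MvPolynomial (Fin (i * j)) ℚ))
    (ε ℚ (i * j)).toRingHom l
  rw [γ₀]
  refine this.trans ?_
  simp only [AlgHom.toRingHom_eq_coe, RingHom.coe_coe, ε, aeval_X]
  exact seqOf_esymm (i * j) ℚ l

/-- The universal case. -/
theorem compPoly_universal (Q : MvPolynomial (Fin (i * j)) ℤ) (hQ : LambdaRing.IsCompPoly i j Q) :
    aeval (fun m : Fin (i * j) => γ₀ i j ((m : ℕ) + 1)) Q =
      newtInv (fun m => newtInv (fun l => newt (γ₀ i j) (l * m)) i) j := by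
  apply ε_injective ℚ (i * j)
  have hL : ε ℚ (i * j) (aeval (fun m : Fin (i * j) => γ₀ i j ((m : ℕ) + 1)) Q) =
      (((Finset.univ : Finset (Fin (i * j))).powersetCard i).val.map (famC i j)).esymm j := by
    have h1 := map_aeval_int (ε ℚ (i * j)).toRingHom
      (fun m : Fin (i * j) => γ₀ i j ((m : ℕ) + 1)) Q
    simp only [AlgHom.toRingHom_eq_coe, RingHom.coe_coe] at h1
    rw [h1, ← map_compGen, ← hQ.1]
    have h2 := map_aeval_int (map (Int.castRingHom ℚ) :
      MvPolynomial (Fin (i * j)) ℤ →+* MvPolynomial (Fin (i * j)) ℚ)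
      (fun k : Fin (i * j) => esymm (Fin (i * j)) ℤ ((k : ℕ) + 1)) Q
    rw [h2]
    have hfun : (fun v : Fin (i * j) => ε ℚ (i * j) (γ₀ i j ((v : ℕ) + 1))) =
        (fun v : Fin (i * j) => (map (Int.castRingHom ℚ) :
          MvPolynomial (Fin (i * j)) ℤ →+* MvPolynomial (Fin (i * j)) ℚ)
          (esymm (Fin (i * j)) ℤ ((v : ℕ) + 1))) := by
      funext v
      rw [ε_γ₀, map_esymm]
    rw [hfun]
  rw [hL]
  have hR := map_newtInv (ε ℚ (i * j)).toRingHom
    (fun m => newtInv (fun l => newt (γ₀ i j) (l * m)) i) j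
  simp only [AlgHom.toRingHom_eq_coe, RingHom.coe_coe] at hR
  rw [hR, ← newtInv_psum]
  apply newtInv_congr
  intro m hm _
  have hR2 := map_newtInv (ε ℚ (i * j)).toRingHom (fun l => newt (γ₀ i j) (l * m)) i
  simp only [AlgHom.toRingHom_eq_coe, RingHom.coe_coe] at hR2
  rw [hR2]
  have h3 : newtInv (fun l => ε ℚ (i * j) (newt (γ₀ i j) (l * m))) i =
      newtInv (fun l => ∑ a ∈ (Finset.univ : Finset (Fin (i * j))),
        ((X a : MvPolynomial (Fin (i * j)) ℚ) ^ m) ^ l) i := by
    apply newtInv_congr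
    intro l hl _
    have h4 := map_newt (ε ℚ (i * j)).toRingHom (γ₀ i j) (l * m)
    simp only [AlgHom.toRingHom_eq_coe, RingHom.coe_coe] at h4
    rw [h4]
    simp only [ε_γ₀]
    rw [newt_esymm (Fin (i * j)) ℚ (l * m) (Nat.mul_pos hl hm), psum]
    refine Finset.sum_congr rfl fun a _ => ?_
    rw [← pow_mul, Nat.mul_comm m l]
  rw [h3, newtInv_psum, Finset.esymm_map_val]
  refine Finset.sum_congr rfl fun t _ => ?_
  rw [famC, Finset.prod_pow]

/-- The universal polynomial `Q_{i,j}` evaluated on a sequence in a `ℚ`-algebra. -/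
theorem compPoly_eval {A : Type*} [CommRing A] [Algebra ℚ A] (Q : MvPolynomial (Fin (i * j)) ℤ)
    (hQ : LambdaRing.IsCompPoly i j Q) (α : ℕ → A) :
    aeval (fun m : Fin (i * j) => α ((m : ℕ) + 1)) Q =
      newtInv (fun m => newtInv (fun l => newt α (l * m)) i) j := by
  let θ : MvPolynomial (Fin (i * j)) ℚ →ₐ[ℚ] A := aeval (fun m : Fin (i * j) => α ((m : ℕ) + 1))
  have hθ : ∀ l, 1 ≤ l → l ≤ i * j → θ (γ₀ i j l) = α l := by
    intro l h1 h2
    rw [γ₀, seqOf_of_le (i * j) _ h1 h2]
    simp only [θ, aeval_X]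
    congr 1
    omega
  have h := congrArg θ (compPoly_universal i j Q hQ)
  have h1 := map_aeval_int θ.toRingHom (fun m : Fin (i * j) => γ₀ i j ((m : ℕ) + 1)) Q
  simp only [AlgHom.toRingHom_eq_coe, RingHom.coe_coe] at h1
  rw [h1] at h
  have h2 : (fun v : Fin (i * j) => θ (γ₀ i j ((v : ℕ) + 1))) =
      fun m : Fin (i * j) => α ((m : ℕ) + 1) := by
    funext v
    exact hθ _ (by omega) v.2
  rw [h2] at h
  rw [h]
  have hR := map_newtInv θ.toRingHom (fun m => newtInv (fun l => newt (γ₀ i j) (l * m)) i) j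
  simp only [AlgHom.toRingHom_eq_coe, RingHom.coe_coe] at hR
  rw [hR]
  apply newtInv_congr
  intro m hm1 hm2
  have hR2 := map_newtInv θ.toRingHom (fun l => newt (γ₀ i j) (l * m)) i
  simp only [AlgHom.toRingHom_eq_coe, RingHom.coe_coe] at hR2
  rw [hR2]
  apply newtInv_congr
  intro l hl1 hl2
  have h3 := map_newt θ.toRingHom (γ₀ i j) (l * m)
  simp only [AlgHom.toRingHom_eq_coe, RingHom.coe_coe] at h3
  rw [h3]
  apply newt_congr
  intro r hr1 hr2
  exact hθ r hr1 (hr2.trans (Nat.mul_le_mul hl2 hm2))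

end Comp

end Groth.Agent.Helper4.Newt
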