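import Mathlib
import Groth.Agent.Helper4.Newt6
import Groth.Agent.S8686

/-!
# Composition of Adams operations in a special λ-ring
-/

set_option autoImplicit false

namespace Groth.Agent.Helper4.Newt

open Finset MvPolynomial LambdaRing

universe u

/-- Universal form: iterated Newton transform of the `Q_{i,m}`. -/
theorem newt_compPoly_universal {σ : Type*} (k k' : ℕ) (hk : 1 ≤ k) (hk' : 1 ≤ k')
    (Q : ∀ i m : ℕ, MvPolynomial (Fin (i * m)) ℤ) (hQ : ∀ i m, IsCompPoly i m (Q i m))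
    (a : ℕ → MvPolynomial σ ℤ) :
    newt (fun i => newt (fun m => aeval (fun l : Fin (i * m) => a ((l : ℕ) + 1)) (Q i m)) k) k' =
      newt a (k' * k) := by
  let j : MvPolynomial σ ℤ →+* MvPolynomial σ ℚ := map (Int.castRingHom ℚ)
  have hj : Function.Injective j := map_injective _ Int.cast_injective
  apply hj
  rw [map_newt, map_newt]
  have h1 : ∀ i, j (newt (fun m => aeval (fun l : Fin (i * m) => a ((l : ℕ) + 1)) (Q i m)) k) =
      newtInv (fun l => newt (fun r => j (a r)) (l * k)) i := by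
    intro i
    rw [map_newt]
    have h2 : ∀ m, j (aeval (fun l : Fin (i * m) => a ((l : ℕ) + 1)) (Q i m)) =
        newtInv (fun m' => newtInv (fun l => newt (fun r => j (a r)) (l * m')) i) m := by
      intro m
      rw [map_aeval_int j, ← compPoly_eval i m (Q i m) (hQ i m)]
      rfl
    simp only [h2]
    rw [newt_newtInv _ k hk]
  simp only [h1]
  rw [newt_newtInv _ k' hk']

variable {K : Type u} [CommRing K] [LambdaOps K]

/-- In a special λ-ring, `ψ^k ∘ ψ^{k'} = ψ^{k k'}`. -/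
theorem adamsOp_adamsOp (hK : IsSpecial K)
    (hP : ∀ n : ℕ, ∃ P : MvPolynomial (Fin n ⊕ Fin n) ℤ, IsMulPoly n P)
    (hQ : ∀ i j : ℕ, ∃ Q : MvPolynomial (Fin (i * j)) ℤ, IsCompPoly i j Q)
    (k k' : ℕ) (hk : 1 ≤ k) (hk' : 1 ≤ k') (x : K) :
    adamsOp k (adamsOp k' x) = adamsOp (k * k') x := by
  choose Q hQn using hQ
  let N := k' * k
  let a : ℕ → MvPolynomial (Fin N) ℤ := seqOf N (fun l => X l)
  let ev : MvPolynomial (Fin N) ℤ →+* K :=
    (aeval (fun l : Fin N => LambdaOps.lam ((l : ℕ) + 1) x) : MvPolynomial (Fin N) ℤ →ₐ[ℤ] K)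
  have hevC : ∀ v, ev (X v) = LambdaOps.lam ((v : ℕ) + 1) x := fun v => aeval_X _ v
  have heva : ∀ l, 1 ≤ l → l ≤ N → ev (a l) = LambdaOps.lam l x := by
    intro l h1 h2
    simp only [a]
    rw [seqOf_of_le N _ h1 h2, hevC]
    congr 1
    exact Nat.sub_add_cancel h1
  let ψ : K →+* K := adamsHom k (Groth.Agent.S8686.result K hK.lam_one_eq_zero k hk)
    (adamsOp_mul hK hP k hk)
  have hψ : ∀ y, ψ y = adamsOp k y := fun y => rfl
  have hU := newt_compPoly_universal k k' hk hk' Q hQn a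
  have h1 := congrArg ev hU
  rw [map_newt, map_newt] at h1
  rw [adamsOp_eq_newt x k', ← hψ, map_newt, adamsOp_eq_newt x (k * k'), Nat.mul_comm k k']
  have e2 : newt (fun i => ev (a i)) (k' * k) = newt (fun i => LambdaOps.lam i x) (k' * k) :=
    newt_congr _ fun l h1 h2 => heva l h1 h2
  rw [← e2, ← h1]
  apply newt_congr
  intro i hi1 hi2
  rw [hψ, adamsOp_eq_newt, map_newt]
  apply newt_congr
  intro m hm1 hm2
  rw [map_aeval_int ev, hK.lam_lam i m (Q i m) (hQn i m) x]
  congr 2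
  funext v
  refine (heva _ (by omega) ?_).symm
  have := v.2
  calc (v : ℕ) + 1 ≤ i * m := this
    _ ≤ k' * k := Nat.mul_le_mul hi2 hm2

end Groth.Agent.Helper4.Newt
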