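import Mathlib
import Groth.Agent.Helper4.Newt7
import Groth.Agent.S8689

/-!
# Binomial rings are special λ-rings
-/

set_option autoImplicit false

namespace Groth.Agent.Helper4.BinomSpecial

open Finset LambdaRing TensorProduct MvPolynomial
open Groth.Agent.Helper4.Newt

universe u v

section Choose

variable {K : Type u} [CommRing K] [BinomialRing K]

theorem alt_sum_choose (x : K) (n : ℕ) :
    ∑ k ∈ range (n + 1), (-1 : K) ^ k * Ring.choose x (n - k) = Ring.choose (x - 1) n := by
  induction n with
  | zero => simp [Ring.choose_zero_right]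
  | succ n ih =>
    rw [Finset.sum_range_succ']
    have h1 : ∑ k ∈ range (n + 1), (-1 : K) ^ (k + 1) * Ring.choose x (n + 1 - (k + 1)) =
        - ∑ k ∈ range (n + 1), (-1 : K) ^ k * Ring.choose x (n - k) := by
      rw [← Finset.sum_neg_distrib]
      refine Finset.sum_congr rfl fun k _ => ?_
      rw [Nat.add_sub_add_right, pow_succ]
      ring
    rw [h1, ih]
    have h2 := Ring.choose_succ_succ (x - 1) n
    rw [sub_add_cancel] at h2
    simp only [pow_zero, one_mul, Nat.sub_zero]
    rw [h2]
    ring

theorem succ_mul_choose (x : K) (n : ℕ) :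
    ((n : K) + 1) * Ring.choose x (n + 1) = x * Ring.choose (x - 1) n := by
  have h := Ring.choose_smul_choose x (n := n + 1) (k := 1) (by omega)
  rw [Nat.choose_one_right, Ring.choose_one_right, Nat.add_sub_cancel, nsmul_eq_mul] at h
  rw [Nat.cast_one] at h
  rw [← h]
  push_cast
  ring

end Choose

section Adams

variable {K : Type u} [CommRing K] [LambdaOps K] [BinomialRing K]

/-- In a binomial ring with its binomial λ-structure all Adams operations are the identity. -/
theorem adamsOp_eq_self (hKb : IsBinomial K) (k : ℕ) (hk : 1 ≤ k) (x : K) : adamsOp k x = x := by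
  induction k using Nat.strong_induction_on with
  | _ k ih =>
    obtain ⟨n, rfl⟩ : ∃ n, k = n + 1 := ⟨k - 1, by omega⟩
    have h := AdamsOps.newton' x n
    have h1 : ∑ k ∈ range n, (-1 : K) ^ k * adamsOp (k + 1) x * LambdaOps.lam (n - k) x =
        x * ∑ k ∈ range n, (-1 : K) ^ k * Ring.choose x (n - k) := by
      rw [Finset.mul_sum]
      refine Finset.sum_congr rfl fun k hk => ?_
      rw [Finset.mem_range] at hk
      rw [ih (k + 1) (by omega) (by omega), hKb]
      ring
    have h2 := alt_sum_choose x n
    rw [Finset.sum_range_succ, Nat.sub_self, Ring.choose_zero_right, mul_one] at h2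
    have h3 : ∑ k ∈ range n, (-1 : K) ^ k * Ring.choose x (n - k) =
        Ring.choose (x - 1) n - (-1) ^ n := by rw [← h2]; ring
    rw [h1, h3, hKb, mul_comm (Ring.choose x (n + 1)), succ_mul_choose] at h
    have h4 : (-1 : K) ^ n * adamsOp (n + 1) x = (-1) ^ n * x := by rw [h]; ring
    have h5 := congrArg (fun t => (-1 : K) ^ n * t) h4
    simp only [← mul_assoc, neg_one_pow_mul_self, one_mul] at h5
    exact h5

end Adams

section Transfer

variable {K : Type u} [CommRing K] [LambdaOps K] {K' : Type v} [CommRing K'] [LambdaOps K']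

/-- Specialness descends along an injective λ-homomorphism. -/
theorem isSpecial_of_injective (ι : K →+* K') (hι : Function.Injective ι)
    (hlam : ∀ (n : ℕ) (x : K), ι (LambdaOps.lam n x) = LambdaOps.lam n (ι x))
    (h : IsSpecial K') : IsSpecial K := by
  refine ⟨?_, ?_, ?_⟩
  · intro n hn
    apply hι
    rw [hlam, map_one, map_zero, h.lam_one_eq_zero n hn]
  · intro n P hP x y
    apply hι
    rw [hlam, map_mul, h.lam_mul n P hP, map_aeval_int ι]
    congr 2
    funext v
    rcases v with l | l
    · simp [hlam]
    · simp [hlam]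
  · intro i j Q hQ x
    apply hι
    rw [hlam, hlam, h.lam_lam i j Q hQ, map_aeval_int ι]
    congr 2
    funext v
    simp [hlam]

end Transfer

section Rat

variable (A : Type u) [CommRing A] [Algebra ℚ A]

/-- A `ℚ`-algebra is a binomial ring. -/
@[instance_reducible] noncomputable def binomialRingOfRat : BinomialRing A :=
  letI : Module ℚ≥0 A := Module.compHom A (algebraMap ℚ≥0 ℚ)
  inferInstance

end Rat

section Main

variable (K : Type u) [CommRing K] [LambdaOps K] [BinomialRing K]

theorem isSpecial_of_isBinomial (hKb : IsBinomial K) : IsSpecial K := by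
  let K' := ℚ ⊗[ℤ] K
  letI : BinomialRing K' := binomialRingOfRat K'
  letI : LambdaOps K' := binomialLambdaOps K'
  have hK'b : IsBinomial K' := fun n x => rfl
  let ι : K →+* K' := (Algebra.TensorProduct.includeRight : K →ₐ[ℤ] ℚ ⊗[ℤ] K)
  have hflat : Module.Flat ℤ K := by
    rw [IsDedekindDomain.flat_iff_torsion_eq_bot]
    rw [Submodule.eq_bot_iff]
    intro x hx
    rw [Submodule.mem_torsion_iff] at hx
    obtain ⟨a, ha⟩ := hx
    have ha0 : (a : ℤ) ≠ 0 := nonZeroDivisors.coe_ne_zero a
    have := BinomialRing.toIsAddTorsionFree (R := K)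
    exact (smul_eq_zero_iff_right ha0).mp ha
  have hι : Function.Injective ι :=
    Algebra.TensorProduct.includeRight_injective (R := ℤ) (A := ℚ) (B := K)
      (RingHom.injective_int (algebraMap ℤ ℚ))
  have hlam : ∀ (n : ℕ) (x : K), ι (LambdaOps.lam n x) = LambdaOps.lam n (ι x) := by
    intro n x
    rw [hKb]
    exact Ring.map_choose ι x n
  apply isSpecial_of_injective ι hι hlam
  apply Groth.Agent.S8689.result K'
  · intro k hk
    exact adamsOp_eq_self hK'b k hk 1
  · intro k hk x y
    rw [adamsOp_eq_self hK'b k hk, adamsOp_eq_self hK'b k hk, adamsOp_eq_self hK'b k hk]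
  · intro k k' hk hk' x
    rw [adamsOp_eq_self hK'b k' hk', adamsOp_eq_self hK'b k hk,
      adamsOp_eq_self hK'b (k * k') (Nat.mul_pos hk hk')]

end Main

end Groth.Agent.Helper4.BinomSpecial
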