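import Groth.Agent.Helper4.Polar
import Groth.Prelude.Def_SymTen

/-!
# Polarisation against the comparison map `Γ^d → TS^d` (helper4)
-/

set_option autoImplicit false
universe u
open scoped TensorProduct
open MvPolynomial

namespace Groth.Agent.Helper4.PolarTS

open Groth.Agent.Helper4.PolLaw1 Groth.Agent.Helper4.GammaSpan Groth.Agent.Helper4.GammaFin
  Groth.Agent.Helper4.PolarComb Groth.Agent.Helper4.PolarCoeff Groth.Agent.Helper4.Polar
  Groth.Agent.Helper4.Iversen

variable {A : Type u} [CommRing A] {B C : Type u} [CommRing B] [Algebra A B] [CommRing C] [Algebra A C]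

theorem ev_lTensor {C' : Type u} [CommRing C'] [Algebra A C'] {S : Type u} [CommRing S] [Algebra A S]
    (ℓ : S →ₗ[A] A) (f : C →ₗ[A] C') (z : S ⊗[A] C) :
    ev ℓ (f.lTensor S z) = f (ev ℓ z) := by
  induction z using TensorProduct.induction_on with
  | zero => simp
  | tmul s c => simp
  | add z₁ z₂ h₁ h₂ => simp only [map_add, h₁, h₂]

variable {d : ℕ} (γ : PolLaw.MulLaw A B C d) (Φ : C →ₐ[A] (⨂[A] _ : Fin d, B))

theorem Pol_comp (hγ : PolLaw.IsGammaD γ)
    (hΦ : ∀ (S : Type u) [CommSemiring S] [Algebra A S] (n : ℕ) (s : Fin n → S) (b : Fin n → B),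
      Φ.toLinearMap.lTensor S (γ.law.toFun' S (∑ j, s j ⊗ₜ[A] b j)) =
        ∑ c : Fin d → Fin n, (∏ i, s (c i)) ⊗ₜ[A] PiTensorProduct.tprod A (fun i => b (c i)))
    (c : C) : Pol d γ.law (Φ c) = d.factorial • c := by
  have hc : c ∈ Cgen γ := by rw [Cgen_eq_top γ hγ]; trivial
  rw [mem_Cgen_iff] at hc
  induction hc using Submodule.span_induction with
  | mem c hc =>
    obtain ⟨S, _, _, ℓ, x, rfl⟩ := hc
    obtain ⟨r, e, s, _, rfl⟩ := exists_gen_one S x
    have h := hΦ S (r + 1) s e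
    have h2 : Pol d γ.law (Φ (ev ℓ (γ.law.toFun' S (gen S s e)))) =
        ev ℓ ((Pol d γ.law).lTensor S (Φ.toLinearMap.lTensor S (γ.law.toFun' S (gen S s e)))) := by
      rw [ev_lTensor, ev_lTensor]
      rfl
    rw [h2, gen, h, map_sum]
    simp only [LinearMap.lTensor_tmul, Pol_tprod]
    have := sum_eq (S := S) γ.law γ.homog s e
    rw [this, map_nsmul]
    rfl
  | zero => simp
  | add c₁ c₂ _ _ h₁ h₂ => rw [map_add, map_add, h₁, h₂, smul_add]
  | smul a c _ h => rw [map_smul, map_smul, h, smul_comm]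

theorem Φ_cβ
    (hΦ : ∀ (S : Type u) [CommSemiring S] [Algebra A S] (n : ℕ) (s : Fin n → S) (b : Fin n → B),
      Φ.toLinearMap.lTensor S (γ.law.toFun' S (∑ j, s j ⊗ₜ[A] b j)) =
        ∑ c : Fin d → Fin n, (∏ i, s (c i)) ⊗ₜ[A] PiTensorProduct.tprod A (fun i => b (c i)))
    (β : Fin d → B) :
    Φ (cβ γ.law β) = ∑ σ : Equiv.Perm (Fin d), PiTensorProduct.tprod A (fun i => β (σ i)) := by
  have h := hΦ (MvPolynomial (Fin d) A) d X β
  have h1 := congrArg (cf (m₁ d)) h
  rw [cf_lTensor] at h1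
  rw [cβ, gen]
  refine (h1.trans ?_)
  rw [map_sum]
  simp only [cf_tmul, coeff_m₁_prod_X]
  rw [← sum_bijective_eq_sum_perm (fun c => PiTensorProduct.tprod A (fun i => β (c i)))]
  refine Finset.sum_congr rfl fun c _ => ?_
  split_ifs <;> simp

theorem sum_perm_eq (hΦ : ∀ (S : Type u) [CommSemiring S] [Algebra A S] (n : ℕ) (s : Fin n → S) (b : Fin n → B),
      Φ.toLinearMap.lTensor S (γ.law.toFun' S (∑ j, s j ⊗ₜ[A] b j)) =
        ∑ c : Fin d → Fin n, (∏ i, s (c i)) ⊗ₜ[A] PiTensorProduct.tprod A (fun i => b (c i)))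
    (t : ⨂[A] _ : Fin d, B) :
    (∑ σ : Equiv.Perm (Fin d), SymTen.perm A B d σ t) = Φ (Pol d γ.law t) := by
  have : (∑ σ : Equiv.Perm (Fin d), (SymTen.perm A B d σ).toLinearMap) =
      Φ.toLinearMap ∘ₗ Pol d γ.law := by
    apply PiTensorProduct.ext
    apply MultilinearMap.ext
    intro β
    simp only [LinearMap.compMultilinearMap_apply, LinearMap.coe_sum, Finset.sum_apply,
      AlgHom.toLinearMap_apply, SymTen.perm_tprod, LinearMap.comp_apply, Pol_tprod]
    rw [Φ_cβ γ Φ hΦ]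
    exact Equiv.sum_comp (Equiv.inv (Equiv.Perm (Fin d)))
      (fun σ => PiTensorProduct.tprod A (fun i => β (σ i)))
  have h := LinearMap.congr_fun this t
  simpa using h

end Groth.Agent.Helper4.PolarTS
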