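import Groth.Agent.Helper4.PolLaw1

/-!
# The kernel of a multiplicative law after base change to a polynomial ring (helper4)
-/

set_option autoImplicit false
universe u
open scoped TensorProduct
open Polynomial

namespace Groth.Agent.Helper4.KerPoly

open Groth.Agent.Helper4.PolLaw1

variable {A : Type u} [CommRing A] {B : Type u} [CommRing B] [Algebra A B]

/-- the extension of `ker F` is contained in the kernel of the base change -/
theorem map_ker_le_kerBC (F : B →ₚₗ[A] A) (A' : Type u) [CommRing A'] [Algebra A A'] :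
    (PolLaw.ker F).map (Algebra.TensorProduct.includeRight : B →ₐ[A] A' ⊗[A] B) ≤
      PolLaw.kerBC F A' := by
  rw [Ideal.map_le_iff_le_comap]
  intro b hb R _ _ _ _ x w
  have : Algebra.TensorProduct.map (IsScalarTower.toAlgHom A A' R) (AlgHom.id A B)
      ((Algebra.TensorProduct.includeRight : B →ₐ[A] A' ⊗[A] B) b) = (1 : R) ⊗ₜ[A] b := by
    simp
  rw [this]
  exact hb R x w

/-- membership in the kernel of the base change to `A[X]`, unbundled -/
def InK (F : B →ₚₗ[A] A) (b' : A[X] ⊗[A] B) : Prop :=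
  ∀ (R : Type u) [CommSemiring R] [Algebra A R] (r : R) (x w : R ⊗[A] B),
    F.toFun' R (x + w * Algebra.TensorProduct.map (Polynomial.aeval r : A[X] →ₐ[A] R)
      (AlgHom.id A B) b') = F.toFun' R x

theorem mem_kerBC_iff (F : B →ₚₗ[A] A) (b' : A[X] ⊗[A] B) :
    b' ∈ PolLaw.kerBC F A[X] ↔ InK F b' := by
  constructor
  · intro hb R _ _ r x w
    letI : Algebra A[X] R := (Polynomial.aeval r : A[X] →ₐ[A] R).toRingHom.toAlgebra
    haveI : IsScalarTower A A[X] R := IsScalarTower.of_algebraMap_eq (fun a => by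
      show algebraMap A R a = (Polynomial.aeval r : A[X] →ₐ[A] R) (algebraMap A A[X] a)
      simp)
    have h := hb R x w
    have he : IsScalarTower.toAlgHom A A[X] R = (Polynomial.aeval r : A[X] →ₐ[A] R) := by
      apply Polynomial.algHom_ext
      show (Polynomial.aeval r : A[X] →ₐ[A] R) X = Polynomial.aeval r X
      rfl
    rw [he] at h
    exact h
  · intro hb R _ _ _ _ x w
    have he : IsScalarTower.toAlgHom A A[X] R =
        (Polynomial.aeval (algebraMap A[X] R X) : A[X] →ₐ[A] R) := by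
      apply Polynomial.algHom_ext
      simp
    rw [he]
    exact hb R _ x w

section rid

variable {S S' : Type u} [CommSemiring S] [Algebra A S] [CommSemiring S'] [Algebra A S']

theorem rid_map (ψ : S →ₐ[A] S') (z : S ⊗[A] A) :
    Algebra.TensorProduct.rid A S' S' (Algebra.TensorProduct.map ψ (AlgHom.id A A) z) =
      ψ (Algebra.TensorProduct.rid A S S z) := by
  induction z using TensorProduct.induction_on with
  | zero => simp
  | tmul s a => simp
  | add z₁ z₂ h₁ h₂ => simp only [map_add, h₁, h₂]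

end rid

section maps

variable (R : Type u) [CommSemiring R] [Algebra A R]

/-- constants `R → R[T]` as an `A`-algebra map -/
noncomputable def cst : R →ₐ[A] R[X] := Polynomial.CAlgHom (R := A) (A := R)

@[simp] theorem cst_apply (s : R) : cst (A := A) R s = Polynomial.C s := rfl

variable {R}

/-- evaluation `R[T] → R` at `r` as an `A`-algebra map -/
noncomputable def evl (r : R) : R[X] →ₐ[A] R := (Polynomial.aeval (R := R) r).restrictScalars A

@[simp] theorem evl_apply (r : R) (p : R[X]) : evl (A := A) r p = p.eval r := by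
  show Polynomial.aeval r p = p.eval r
  rw [Polynomial.coe_aeval_eq_eval]

/-- substitution `T ↦ q` in `R[T]`, as an `A`-algebra map -/
noncomputable def sbs (q : R[X]) : R[X] →ₐ[A] R[X] := (Polynomial.aeval (R := R) q).restrictScalars A

@[simp] theorem sbs_apply (q p : R[X]) : sbs (A := A) q p = p.comp q := rfl

end maps

/-- Key step, generic form: over `R[T]` with `r = T`. -/
theorem sub_of_X_mul (F : B →ₚₗ[A] A) (b'' : A[X] ⊗[A] B)
    (h : InK F (((X : A[X]) ⊗ₜ[A] (1 : B)) * b''))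
    (R : Type u) [CommSemiring R] [Algebra A R] (x₁ w₁ : R[X] ⊗[A] B) :
    F.toFun' R[X] (x₁ + w₁ * Algebra.TensorProduct.map
      (Polynomial.aeval (X : R[X]) : A[X] →ₐ[A] R[X]) (AlgHom.id A B) b'') = F.toFun' R[X] x₁ := by
  set β₁ := Algebra.TensorProduct.map (Polynomial.aeval (X : R[X]) : A[X] →ₐ[A] R[X])
    (AlgHom.id A B) b'' with hβ₁
  set ι₂ : R[X] ⊗[A] B →ₐ[A] R[X][X] ⊗[A] B :=
    Algebra.TensorProduct.map (cst (A := A) R[X]) (AlgHom.id A B) with hι₂
  set u : R[X][X] ⊗[A] B := (X : R[X][X]) ⊗ₜ[A] (1 : B) with hu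
  set Z : R[X][X] ⊗[A] B := ι₂ x₁ + u * ι₂ w₁ * ι₂ β₁ with hZ
  set H : R[X][X] := Algebra.TensorProduct.rid A R[X][X] R[X][X] (F.toFun' R[X][X] Z) with hH
  set h0 : R[X] := Algebra.TensorProduct.rid A R[X] R[X] (F.toFun' R[X] x₁) with hh0
  have hβ₂ : ι₂ β₁ = Algebra.TensorProduct.map
      (Polynomial.aeval (C (X : R[X])) : A[X] →ₐ[A] R[X][X]) (AlgHom.id A B) b'' := by
    rw [hι₂, hβ₁, ← AlgHom.comp_apply, ← Algebra.TensorProduct.map_comp]
    congr 2
    apply Polynomial.algHom_ext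
    simp
  have hσι : ∀ y : R[X] ⊗[A] B, Algebra.TensorProduct.map (sbs (A := A) (C (X : R[X]) * X))
      (AlgHom.id A B) (ι₂ y) = ι₂ y := by
    intro y
    rw [hι₂, ← AlgHom.comp_apply, ← Algebra.TensorProduct.map_comp]
    congr 2
    exact AlgHom.ext fun s => by simp
  have hσZ : Algebra.TensorProduct.map (sbs (A := A) (C (X : R[X]) * X)) (AlgHom.id A B) Z =
      ι₂ x₁ + (u * ι₂ w₁) * Algebra.TensorProduct.map
        (Polynomial.aeval (C (X : R[X])) : A[X] →ₐ[A] R[X][X]) (AlgHom.id A B)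
        (((X : A[X]) ⊗ₜ[A] (1 : B)) * b'') := by
    rw [hZ, map_add, map_mul, map_mul, hσι, hσι, hσι, hu, Algebra.TensorProduct.map_tmul,
      map_mul (Algebra.TensorProduct.map _ _), Algebra.TensorProduct.map_tmul, ← hβ₂]
    simp only [sbs_apply, X_comp, aeval_X, map_one, AlgHom.coe_id, id_eq]
    have : ((C (X : R[X]) * X : R[X][X]) ⊗ₜ[A] (1 : B)) =
        ((C (X : R[X]) : R[X][X]) ⊗ₜ[A] (1 : B)) * ((X : R[X][X]) ⊗ₜ[A] (1 : B)) := by
      rw [Algebra.TensorProduct.tmul_mul_tmul, mul_one]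
    rw [this]
    ring
  have hFσ : H.comp (C (X : R[X]) * X) = C h0 := by
    have e1 : H.comp (C (X : R[X]) * X) = sbs (A := A) (C (X : R[X]) * X) H := rfl
    rw [e1, hH, ← rid_map, ← compat, hσZ, h R[X][X] (C X) (ι₂ x₁) (u * ι₂ w₁), hι₂, compat, rid_map]
    rfl
  have hcoeff : ∀ k, H.coeff k * X ^ k = (C h0 : R[X][X]).coeff k := by
    intro k
    rw [← hFσ, comp_C_mul_X_coeff]
  have hHC : H = C h0 := by
    ext1 k
    rcases Nat.eq_zero_or_pos k with rfl | hk
    · have := hcoeff 0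
      rwa [pow_zero, mul_one] at this
    · have h1 := hcoeff k
      rw [coeff_C, if_neg (by omega)] at h1
      rw [coeff_C, if_neg (by omega)]
      ext n
      have h2 := congrArg (fun q => q.coeff (n + k)) h1
      simp only [coeff_mul_X_pow, coeff_zero] at h2
      rw [h2, coeff_zero]
  have hεZ : Algebra.TensorProduct.map (evl (A := A) (1 : R[X])) (AlgHom.id A B) Z =
      x₁ + w₁ * β₁ := by
    have hει : ∀ y : R[X] ⊗[A] B, Algebra.TensorProduct.map (evl (A := A) (1 : R[X]))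
        (AlgHom.id A B) (ι₂ y) = y := by
      intro y
      rw [hι₂, ← AlgHom.comp_apply, ← Algebra.TensorProduct.map_comp]
      have : (evl (A := A) (1 : R[X])).comp (cst (A := A) R[X]) = AlgHom.id A R[X] :=
        AlgHom.ext fun s => by simp
      rw [this]
      simp
    rw [hZ, map_add, map_mul, map_mul, hει, hει, hει, hu, Algebra.TensorProduct.map_tmul]
    simp only [evl_apply, eval_X, map_one]
    rw [← Algebra.TensorProduct.one_def, one_mul]
  apply (Algebra.TensorProduct.rid A R[X] R[X]).injective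
  rw [← hεZ, compat, rid_map, ← hH, hHC]
  simp [hh0]

/-- Key step: divide by `X`. -/
theorem InK_of_X_mul (F : B →ₚₗ[A] A) (b'' : A[X] ⊗[A] B)
    (h : InK F (((X : A[X]) ⊗ₜ[A] (1 : B)) * b'')) : InK F b'' := by
  intro R _ _ r x w
  have hsub := sub_of_X_mul F b'' h R
    (Algebra.TensorProduct.map (cst (A := A) R) (AlgHom.id A B) x)
    (Algebra.TensorProduct.map (cst (A := A) R) (AlgHom.id A B) w)
  have hcomp : (evl (A := A) r).comp (cst (A := A) R) = AlgHom.id A R :=
    AlgHom.ext fun s => by simp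
  have hι : ∀ y : R ⊗[A] B, Algebra.TensorProduct.map (evl (A := A) r) (AlgHom.id A B)
      (Algebra.TensorProduct.map (cst (A := A) R) (AlgHom.id A B) y) = y := by
    intro y
    rw [← AlgHom.comp_apply, ← Algebra.TensorProduct.map_comp, hcomp]
    simp
  have hβ : Algebra.TensorProduct.map (evl (A := A) r) (AlgHom.id A B)
      (Algebra.TensorProduct.map (Polynomial.aeval (X : R[X]) : A[X] →ₐ[A] R[X])
        (AlgHom.id A B) b'') =
      Algebra.TensorProduct.map (Polynomial.aeval r : A[X] →ₐ[A] R) (AlgHom.id A B) b'' := by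
    rw [← AlgHom.comp_apply, ← Algebra.TensorProduct.map_comp]
    congr 2
    apply Polynomial.algHom_ext
    simp
  have h1 := congrArg (Algebra.TensorProduct.map (evl (A := A) r) (AlgHom.id A A)) hsub
  rw [← compat, ← compat, map_add, map_mul, hι, hι, hβ] at h1
  exact h1

/-- constant term lies in the kernel -/
theorem const_mem_ker (F : B →ₚₗ[A] A) (c₀ : B) (b'' : A[X] ⊗[A] B)
    (h : InK F ((1 : A[X]) ⊗ₜ[A] c₀ + ((X : A[X]) ⊗ₜ[A] (1 : B)) * b'')) : c₀ ∈ PolLaw.ker F := by
  intro S _ _ x w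
  have h1 := h S 0 x w
  rw [map_add, map_mul, Algebra.TensorProduct.map_tmul, Algebra.TensorProduct.map_tmul] at h1
  simpa using h1

theorem InK_add_const (F : B →ₚₗ[A] A) (c₀ : B) (hc : c₀ ∈ PolLaw.ker F) (b₁ : A[X] ⊗[A] B)
    (h : InK F ((1 : A[X]) ⊗ₜ[A] c₀ + b₁)) : InK F b₁ := by
  intro R _ _ r x w
  have h1 := h R r x w
  rw [map_add, Algebra.TensorProduct.map_tmul, mul_add, ← add_assoc] at h1
  simp only [map_one, AlgHom.coe_id, id_eq] at h1
  rw [← h1]
  have h2 := hc R (x + w * Algebra.TensorProduct.map (Polynomial.aeval r : A[X] →ₐ[A] R)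
    (AlgHom.id A B) b₁) w
  rw [← h2]
  congr 1
  abel

/-- all coefficients lie in the kernel -/
theorem coeff_mem_ker (F : B →ₚₗ[A] A) (N : ℕ) : ∀ (c : ℕ → B),
    InK F (∑ i ∈ Finset.range N, ((X : A[X]) ^ i) ⊗ₜ[A] c i) → ∀ i < N, c i ∈ PolLaw.ker F := by
  induction N with
  | zero => intro c _ i hi; omega
  | succ N ih =>
    intro c h
    have hdec : (∑ i ∈ Finset.range (N + 1), ((X : A[X]) ^ i) ⊗ₜ[A] c i) =
        (1 : A[X]) ⊗ₜ[A] c 0 + ((X : A[X]) ⊗ₜ[A] (1 : B)) *
          ∑ i ∈ Finset.range N, ((X : A[X]) ^ i) ⊗ₜ[A] c (i + 1) := by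
      rw [Finset.sum_range_succ', pow_zero, add_comm, Finset.mul_sum]
      congr 1
      refine Finset.sum_congr rfl fun i _ => ?_
      rw [Algebra.TensorProduct.tmul_mul_tmul, one_mul, pow_succ']
    rw [hdec] at h
    have h0 := const_mem_ker F _ _ h
    have h1 := InK_of_X_mul F _ (InK_add_const F _ h0 _ h)
    have h2 := ih (fun i => c (i + 1)) h1
    intro i hi
    rcases Nat.eq_zero_or_pos i with rfl | hpos
    · exact h0
    · obtain ⟨j, rfl⟩ : ∃ j, i = j + 1 := ⟨i - 1, by omega⟩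
      exact h2 j (by omega)

/-- every tensor is a finite sum `∑ X^i ⊗ c i` -/
theorem exists_decomp (b' : A[X] ⊗[A] B) :
    ∃ (N : ℕ) (c : ℕ → B), b' = ∑ i ∈ Finset.range N, ((X : A[X]) ^ i) ⊗ₜ[A] c i := by
  have pad : ∀ (N₁ N : ℕ) (_ : N₁ ≤ N) (c : ℕ → B),
      (∑ i ∈ Finset.range N₁, ((X : A[X]) ^ i) ⊗ₜ[A] c i) =
        ∑ i ∈ Finset.range N, ((X : A[X]) ^ i) ⊗ₜ[A] (if i < N₁ then c i else 0) := by
    intro N₁ N hN c
    rw [← Finset.sum_subset (Finset.range_subset_range.2 hN)]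
    · refine Finset.sum_congr rfl fun i hi => ?_
      rw [if_pos (Finset.mem_range.1 hi)]
    · intro i _ hi
      rw [if_neg (by simpa using hi), TensorProduct.tmul_zero]
  induction b' using TensorProduct.induction_on with
  | zero => exact ⟨0, fun _ => 0, by simp⟩
  | tmul p b =>
    refine ⟨p.natDegree + 1, fun i => p.coeff i • b, ?_⟩
    conv_lhs => rw [p.as_sum_range_C_mul_X_pow, TensorProduct.sum_tmul]
    refine Finset.sum_congr rfl fun i _ => ?_
    rw [← Polynomial.smul_eq_C_mul, TensorProduct.smul_tmul]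
  | add z₁ z₂ h₁ h₂ =>
    obtain ⟨N₁, c₁, rfl⟩ := h₁
    obtain ⟨N₂, c₂, rfl⟩ := h₂
    refine ⟨max N₁ N₂, fun i => (if i < N₁ then c₁ i else 0) + (if i < N₂ then c₂ i else 0), ?_⟩
    rw [pad N₁ (max N₁ N₂) (le_max_left _ _), pad N₂ (max N₁ N₂) (le_max_right _ _),
      ← Finset.sum_add_distrib]
    refine Finset.sum_congr rfl fun i _ => ?_
    rw [TensorProduct.tmul_add]

theorem kerBC_eq (F : B →ₚₗ[A] A) :
    (PolLaw.ker F).map (Algebra.TensorProduct.includeRight : B →ₐ[A] A[X] ⊗[A] B) =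
      PolLaw.kerBC F A[X] := by
  apply le_antisymm (map_ker_le_kerBC F A[X])
  intro b' hb'
  rw [mem_kerBC_iff] at hb'
  obtain ⟨N, c, rfl⟩ := exists_decomp b'
  have hc := coeff_mem_ker F N c hb'
  refine Ideal.sum_mem _ fun i hi => ?_
  have : ((X : A[X]) ^ i) ⊗ₜ[A] c i = (((X : A[X]) ^ i) ⊗ₜ[A] (1 : B)) *
      (Algebra.TensorProduct.includeRight : B →ₐ[A] A[X] ⊗[A] B) (c i) := by
    rw [Algebra.TensorProduct.includeRight_apply, Algebra.TensorProduct.tmul_mul_tmul, mul_one,
      one_mul]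
  rw [this]
  exact Ideal.mul_mem_left _ _ (Ideal.mem_map_of_mem _ (hc i (Finset.mem_range.1 hi)))

end Groth.Agent.Helper4.KerPoly
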