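import Groth.Agent.Helper4.CHAbs
import Groth.Agent.Helper4.FreeGamma
import Groth.Agent.Helper4.KerPoly

/-!
# Cayley–Hamilton for multiplicative polynomial laws (helper4)
-/

set_option autoImplicit false
universe u
open scoped TensorProduct
open Polynomial

namespace Groth.Agent.Helper4.CH

open Groth.Agent.Helper4.GammaSpan Groth.Agent.Helper4.PolLaw1 Groth.Agent.Helper4.CHAbs

variable {A : Type u} [CommRing A] {B : Type u} [CommRing B] [Algebra A B]

/-- the characteristic polynomial of `β : R ⊗ B` with respect to the law `F` -/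
noncomputable def chi (F : B →ₚₗ[A] A) (R : Type u) [CommRing R] [Algebra A R] (β : R ⊗[A] B) : R[X] :=
  Algebra.TensorProduct.rid A A R[X] (F.toFun' R[X] ((X : R[X]) ⊗ₜ[A] (1 : B) -
    Algebra.TensorProduct.map (Polynomial.CAlgHom (R := A) (A := R)) (AlgHom.id A B) β))

/-- the Cayley–Hamilton element `χ_β(β)` -/
noncomputable def chElt (F : B →ₚₗ[A] A) (R : Type u) [CommRing R] [Algebra A R] (β : R ⊗[A] B) :
    R ⊗[A] B := evβ R β (chi F R β)

variable {d : ℕ}

/-- Cayley–Hamilton when `B` is free over `A` and the test ring is flat. -/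
theorem CH_free [Module.Free A B] (F : PolLaw.MulLaw A B A d) (R : Type u) [CommRing R] [Algebra A R]
    [Module.Flat A R] (β x w : R ⊗[A] B) :
    F.law.toFun' R (x + w * chElt F.law R β) = F.law.toFun' R x := by
  classical
  let e := Module.Free.chooseBasis A B
  have hL : ∀ (S : Type u) [CommRing S] [Algebra A S] (y : S ⊗[A] B),
      Algebra.TensorProduct.map (AlgHom.id A S) (Cgen (SymTen.tpowLaw A B d)).val
        ((law' (SymTen.tpowLaw A B d)).toFun' S y) =
      ∏ i, Algebra.TensorProduct.map (AlgHom.id A S)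
        (PiTensorProduct.singleAlgHom (R := A) (A := fun _ : Fin d => B) i) y := by
    intro S _ _ y
    have := J_law' (SymTen.tpowLaw A B d) S y
    rw [SymTen.tpowLaw, PolLaw.MulLaw.prodMap_toFun'] at this
    exact this
  have hinj : Function.Injective (Algebra.TensorProduct.map (AlgHom.id A R)
      (Cgen (SymTen.tpowLaw A B d)).val) := by
    have h := Module.Flat.lTensor_preserves_injective_linearMap (M := R)
      (Cgen (SymTen.tpowLaw A B d)).val.toLinearMap Subtype.val_injective
    intro a b hab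
    apply h
    rw [PolLaw.lTensor_algHom_apply, PolLaw.lTensor_algHom_apply]
    exact hab
  have key := CHAbs.main (fun i => PiTensorProduct.singleAlgHom (R := A) (A := fun _ : Fin d => B) i)
    (Cgen (SymTen.tpowLaw A B d)).val (law' (SymTen.tpowLaw A B d)) (FreeGamma.f e F) hL hinj β x w
  rw [FreeGamma.f_law', FreeGamma.f_law', FreeGamma.f_law'] at key
  exact key

section lifts

variable {M : Type u} [AddCommGroup M] [Module A M]

theorem exists_lift₃ {S : Type u} [CommSemiring S] [Algebra A S] (x y z : S ⊗[A] B) :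
    ∃ (n : ℕ) (ψ : MvPolynomial (Fin n) A →ₐ[A] S) (p q r : MvPolynomial (Fin n) A ⊗[A] B),
      Algebra.TensorProduct.map ψ (AlgHom.id A B) p = x ∧
      Algebra.TensorProduct.map ψ (AlgHom.id A B) q = y ∧
      Algebra.TensorProduct.map ψ (AlgHom.id A B) r = z := by
  obtain ⟨A1, hA1, hx⟩ := TensorProduct.Algebra.exists_of_fg x
  obtain ⟨A2, hA2, hy⟩ := TensorProduct.Algebra.exists_of_fg y
  obtain ⟨A3, hA3, hz⟩ := TensorProduct.Algebra.exists_of_fg z
  have hB : Subalgebra.FG (A1 ⊔ A2 ⊔ A3) := Subalgebra.FG.sup (Subalgebra.FG.sup hA1 hA2) hA3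
  obtain ⟨gen, hgen⟩ := PolynomialLaw.exists_range_φ_eq_of_fg hB
  have h1 : A1 ≤ (PolynomialLaw.φ A gen).range := by
    rw [hgen]; exact le_sup_of_le_left le_sup_left
  have h2 : A2 ≤ (PolynomialLaw.φ A gen).range := by
    rw [hgen]; exact le_sup_of_le_left le_sup_right
  have h3 : A3 ≤ (PolynomialLaw.φ A gen).range := by rw [hgen]; exact le_sup_right
  obtain ⟨p, hp⟩ := PolynomialLaw.exists_lift_of_mem_range_rTensor _ h1 hx
  obtain ⟨q, hq⟩ := PolynomialLaw.exists_lift_of_mem_range_rTensor _ h2 hy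
  obtain ⟨r, hr⟩ := PolynomialLaw.exists_lift_of_mem_range_rTensor _ h3 hz
  exact ⟨gen.card, PolynomialLaw.φ A gen, p, q, r, by rw [← rT_apply, hp], by rw [← rT_apply, hq],
    by rw [← rT_apply, hr]⟩

theorem comm_map {R : Type u} [CommRing R] [Algebra A R] {P : Type u} [CommRing P] [Algebra A P]
    (π : P →ₐ[A] B) (y : P ⊗[A] R) :
    Algebra.TensorProduct.comm A B R (Algebra.TensorProduct.map π (AlgHom.id A R) y) =
      Algebra.TensorProduct.map (AlgHom.id A R) π (Algebra.TensorProduct.comm A P R y) := by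
  induction y using TensorProduct.induction_on with
  | zero => simp
  | tmul a b => simp
  | add a b ha hb => simp only [map_add, ha, hb]

theorem exists_lift_B (R : Type u) [CommRing R] [Algebra A R] (β x w : R ⊗[A] B) :
    ∃ (N : ℕ) (π : MvPolynomial (Fin N) A →ₐ[A] B) (β₁ x₁ w₁ : R ⊗[A] MvPolynomial (Fin N) A),
      Algebra.TensorProduct.map (AlgHom.id A R) π β₁ = β ∧
      Algebra.TensorProduct.map (AlgHom.id A R) π x₁ = x ∧
      Algebra.TensorProduct.map (AlgHom.id A R) π w₁ = w := by
  obtain ⟨N, π, p, q, r, hp, hq, hr⟩ := exists_lift₃ (B := R) (S := B)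
    ((Algebra.TensorProduct.comm A B R).symm β) ((Algebra.TensorProduct.comm A B R).symm x)
    ((Algebra.TensorProduct.comm A B R).symm w)
  refine ⟨N, π, Algebra.TensorProduct.comm A _ R p, Algebra.TensorProduct.comm A _ R q,
    Algebra.TensorProduct.comm A _ R r, ?_, ?_, ?_⟩
  · rw [← comm_map, hp, AlgEquiv.apply_symm_apply]
  · rw [← comm_map, hq, AlgEquiv.apply_symm_apply]
  · rw [← comm_map, hr, AlgEquiv.apply_symm_apply]

end lifts

section naturality

variable {R R' : Type u} [CommRing R] [Algebra A R] [CommRing R'] [Algebra A R']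
  {P : Type u} [CommRing P] [Algebra A P]

/-- (N4) -/
theorem map_evβ_right (π : P →ₐ[A] B) (β₁ : R ⊗[A] P) (q : R[X]) :
    Algebra.TensorProduct.map (AlgHom.id A R) π (evβ R β₁ q) =
      evβ R (Algebra.TensorProduct.map (AlgHom.id A R) π β₁) q := by
  rw [evβ, evβ, evAt_apply, evAt_apply,
    ← AlgHom.coe_toRingHom (Algebra.TensorProduct.map (AlgHom.id A R) π), Polynomial.hom_eval₂,
    AlgHom.coe_toRingHom]
  congr 1
  ext r
  simp

/-- (N2) -/
theorem map_evβ_left (ψ : R →ₐ[A] R') (β : R ⊗[A] B) (q : R[X]) :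
    Algebra.TensorProduct.map ψ (AlgHom.id A B) (evβ R β q) =
      evβ R' (Algebra.TensorProduct.map ψ (AlgHom.id A B) β) (q.map (ψ : R →+* R')) := by
  rw [evβ, evβ, evAt_apply, evAt_apply,
    ← AlgHom.coe_toRingHom (Algebra.TensorProduct.map ψ (AlgHom.id A B)), Polynomial.hom_eval₂,
    AlgHom.coe_toRingHom, Polynomial.eval₂_map]
  congr 1

theorem map_map_C (π : P →ₐ[A] B) (β₁ : R ⊗[A] P) :
    Algebra.TensorProduct.map (AlgHom.id A R[X]) π
      (Algebra.TensorProduct.map (Polynomial.CAlgHom (R := A) (A := R)) (AlgHom.id A P) β₁) =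
    Algebra.TensorProduct.map (Polynomial.CAlgHom (R := A) (A := R)) (AlgHom.id A B)
      (Algebra.TensorProduct.map (AlgHom.id A R) π β₁) := by
  induction β₁ using TensorProduct.induction_on with
  | zero => simp
  | tmul a b => simp
  | add a b ha hb => simp only [map_add, ha, hb]

/-- (N3) -/
theorem chi_precomp (F : PolLaw.MulLaw A B A d) (π : P →ₐ[A] B) (β₁ : R ⊗[A] P) :
    chi (F.precomp π).law R β₁ = chi F.law R (Algebra.TensorProduct.map (AlgHom.id A R) π β₁) := by
  unfold chi
  congr 1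
  show F.law.toFun' R[X] (π.toLinearMap.lTensor R[X] _) = _
  rw [PolLaw.lTensor_algHom_apply]
  congr 1
  have : Algebra.TensorProduct.map (AlgHom.id R[X] R[X]) π
      ((X : R[X]) ⊗ₜ[A] (1 : P) -
        Algebra.TensorProduct.map (Polynomial.CAlgHom (R := A) (A := R)) (AlgHom.id A P) β₁) =
      Algebra.TensorProduct.map (AlgHom.id A R[X]) π
      ((X : R[X]) ⊗ₜ[A] (1 : P) -
        Algebra.TensorProduct.map (Polynomial.CAlgHom (R := A) (A := R)) (AlgHom.id A P) β₁) := rfl
  rw [this, map_sub, map_map_C, Algebra.TensorProduct.map_tmul, map_one, AlgHom.id_apply]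

theorem precomp_toFun' (F : PolLaw.MulLaw A B A d) (π : P →ₐ[A] B) (S : Type u) [CommSemiring S]
    [Algebra A S] (y : S ⊗[A] P) :
    (F.precomp π).law.toFun' S y =
      F.law.toFun' S (Algebra.TensorProduct.map (AlgHom.id A S) π y) := by
  show F.law.toFun' S (π.toLinearMap.lTensor S y) = _
  rw [PolLaw.lTensor_algHom_apply]
  rfl

theorem map_map_C' (ψ : R →ₐ[A] R') (β : R ⊗[A] B) :
    Algebra.TensorProduct.map (Polynomial.mapAlgHom ψ) (AlgHom.id A B)
      (Algebra.TensorProduct.map (Polynomial.CAlgHom (R := A) (A := R)) (AlgHom.id A B) β) =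
    Algebra.TensorProduct.map (Polynomial.CAlgHom (R := A) (A := R')) (AlgHom.id A B)
      (Algebra.TensorProduct.map ψ (AlgHom.id A B) β) := by
  induction β using TensorProduct.induction_on with
  | zero => simp
  | tmul a b => simp
  | add a b ha hb => simp only [map_add, ha, hb]

theorem rid_map' (ψ : R →ₐ[A] R') (z : R ⊗[A] A) :
    Algebra.TensorProduct.rid A A R' (Algebra.TensorProduct.map ψ (AlgHom.id A A) z) =
      ψ (Algebra.TensorProduct.rid A A R z) := by
  induction z using TensorProduct.induction_on with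
  | zero => simp
  | tmul s a => simp
  | add z₁ z₂ h₁ h₂ => simp only [map_add, h₁, h₂]

/-- (N1) -/
theorem chi_map (F : B →ₚₗ[A] A) (ψ : R →ₐ[A] R') (β : R ⊗[A] B) :
    chi F R' (Algebra.TensorProduct.map ψ (AlgHom.id A B) β) = (chi F R β).map (ψ : R →+* R') := by
  unfold chi
  have h := compat F (Polynomial.mapAlgHom ψ) ((X : R[X]) ⊗ₜ[A] (1 : B) -
    Algebra.TensorProduct.map (Polynomial.CAlgHom (R := A) (A := R)) (AlgHom.id A B) β)
  rw [map_sub, map_map_C', Algebra.TensorProduct.map_tmul, AlgHom.id_apply] at h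
  have hX : (Polynomial.mapAlgHom ψ) (X : R[X]) = (X : R'[X]) := by simp
  rw [hX] at h
  rw [h]
  have := rid_map' (A := A) (R := R[X]) (R' := R'[X])
    (Polynomial.mapAlgHom ψ) (F.toFun' R[X] ((X : R[X]) ⊗ₜ[A] (1 : B) -
    Algebra.TensorProduct.map (Polynomial.CAlgHom (R := A) (A := R)) (AlgHom.id A B) β))
  rw [this]
  rfl

end naturality

section final

/-- Cayley–Hamilton over a flat test ring -/
theorem CH_flat (F : PolLaw.MulLaw A B A d) (R : Type u) [CommRing R] [Algebra A R]
    [Module.Flat A R] (β x w : R ⊗[A] B) :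
    F.law.toFun' R (x + w * chElt F.law R β) = F.law.toFun' R x := by
  obtain ⟨N, π, β₁, x₁, w₁, rfl, rfl, rfl⟩ := exists_lift_B R β x w
  have h := CH_free (F.precomp π) R β₁ x₁ w₁
  rw [precomp_toFun', precomp_toFun', map_add, map_mul, chElt, map_evβ_right, chi_precomp] at h
  exact h

/-- **Cayley–Hamilton** for multiplicative laws: `χ_β(β)` lies in the kernel, over any test ring. -/
theorem CH (F : PolLaw.MulLaw A B A d) (R : Type u) [CommRing R] [Algebra A R]
    (β x w : R ⊗[A] B) :
    F.law.toFun' R (x + w * chElt F.law R β) = F.law.toFun' R x := by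
  obtain ⟨n, ψ, β₀, x₀, w₀, rfl, rfl, rfl⟩ := exists_lift₃ β x w
  have h := CH_flat F (MvPolynomial (Fin n) A) β₀ x₀ w₀
  have h2 := congrArg (Algebra.TensorProduct.map ψ (AlgHom.id A A)) h
  rw [← compat, ← compat, map_add, map_mul, chElt, map_evβ_left, ← chi_map] at h2
  exact h2

end final

end Groth.Agent.Helper4.CH
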