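import Groth.Agent.Helper4.PolLaw1

/-!
# Abstract Cayley–Hamilton for laws that split through a product of algebra maps (helper4)

If a law `L : B → G` becomes `∏ i, σ i` after an injective algebra map `J : G → T`, and `f : G → A` is an
algebra map, then for the law `f ∘ L` the Cayley–Hamilton element of any `β : R ⊗ B` lies in the kernel.
-/

set_option autoImplicit false
universe u
open scoped TensorProduct
open Polynomial

namespace Groth.Agent.Helper4.CHAbs

variable {A : Type u} [CommRing A] {B : Type u} [CommRing B] [Algebra A B]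
  {T : Type u} [CommRing T] [Algebra A T] {G : Type u} [CommRing G] [Algebra A G]

section maps

variable (G) (R : Type u) [CommRing R] [Algebra A R]

/-- `r ↦ r ⊗ 1` -/
noncomputable def in₁ : R →ₐ[A] R ⊗[A] G := Algebra.TensorProduct.includeLeft

variable {G}

/-- `r ⊗ c ↦ r * f c` -/
noncomputable def ρ (f : G →ₐ[A] A) : R ⊗[A] G →ₐ[A] R :=
  Algebra.TensorProduct.lift (AlgHom.id A R) ((Algebra.ofId A R).comp f) (fun _ _ => Commute.all _ _)

theorem ρ_tmul (f : G →ₐ[A] A) (r : R) (c : G) : ρ R f (r ⊗ₜ[A] c) = r * algebraMap A R (f c) := by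
  simp [ρ, Algebra.ofId_apply]

theorem ρ_in₁ (f : G →ₐ[A] A) (r : R) : ρ R f (in₁ G R r) = r := by
  simp [in₁, ρ_tmul]

/-- `(r ⊗ c) ⊗ c' ↦ r ⊗ c c'` -/
noncomputable def m : (R ⊗[A] G) ⊗[A] G →ₐ[A] R ⊗[A] G :=
  Algebra.TensorProduct.lift (AlgHom.id A (R ⊗[A] G)) Algebra.TensorProduct.includeRight
    (fun _ _ => Commute.all _ _)

theorem m_tmul (u : R ⊗[A] G) (c : G) : m R (u ⊗ₜ[A] c) = u * (1 ⊗ₜ[A] c) := by
  simp [m]

/-- `(r ⊗ c) ⊗ z ↦ r ⊗ J c * z` -/
noncomputable def mT (J : G →ₐ[A] T) : (R ⊗[A] G) ⊗[A] T →ₐ[A] R ⊗[A] T :=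
  Algebra.TensorProduct.lift (Algebra.TensorProduct.map (AlgHom.id A R) J)
    Algebra.TensorProduct.includeRight (fun _ _ => Commute.all _ _)

theorem mT_tmul (J : G →ₐ[A] T) (u : R ⊗[A] G) (z : T) :
    mT R J (u ⊗ₜ[A] z) = Algebra.TensorProduct.map (AlgHom.id A R) J u * (1 ⊗ₜ[A] z) := by
  simp [mT]

/-- evaluation `R[X] → Y` at `y` along `φ : R → Y` -/
noncomputable def evAt {Y : Type u} [CommRing Y] [Algebra A Y] (φ : R →ₐ[A] Y) (y : Y) : R[X] →ₐ[A] Y :=
  { Polynomial.eval₂RingHom (φ : R →+* Y) y with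
    commutes' := fun a => by
      show Polynomial.eval₂ (φ : R →+* Y) y (algebraMap A R[X] a) = algebraMap A Y a
      rw [Polynomial.algebraMap_apply, Polynomial.eval₂_C]
      exact φ.commutes a }

theorem evAt_apply {Y : Type u} [CommRing Y] [Algebra A Y] (φ : R →ₐ[A] Y) (y : Y) (p : R[X]) :
    evAt R φ y p = Polynomial.eval₂ (φ : R →+* Y) y p := rfl

theorem evAt_X {Y : Type u} [CommRing Y] [Algebra A Y] (φ : R →ₐ[A] Y) (y : Y) : evAt R φ y X = y := by
  simp [evAt_apply]

theorem evAt_C {Y : Type u} [CommRing Y] [Algebra A Y] (φ : R →ₐ[A] Y) (y : Y) (r : R) :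
    evAt R φ y (C r) = φ r := by
  simp [evAt_apply]

end maps

section main

variable {d : ℕ} (σ : Fin d → (B →ₐ[A] T)) (J : G →ₐ[A] T) (L : B →ₚₗ[A] G) (f : G →ₐ[A] A)
variable (R : Type u) [CommRing R] [Algebra A R]

/-- evaluation of a polynomial over `R` at `β : R ⊗ B` -/
noncomputable def evβ (β : R ⊗[A] B) : R[X] →ₐ[A] R ⊗[A] B :=
  evAt R Algebra.TensorProduct.includeLeft β

/-- `p ⊗ c ↦ p(β') * ((1 ⊗ c) ⊗ 1)` -/
noncomputable def ε (β' : (R ⊗[A] G) ⊗[A] B) : R[X] ⊗[A] G →ₐ[A] (R ⊗[A] G) ⊗[A] B :=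
  Algebra.TensorProduct.lift
    (evAt R ((Algebra.TensorProduct.includeLeft : R ⊗[A] G →ₐ[A] (R ⊗[A] G) ⊗[A] B).comp (in₁ G R)) β')
    ((Algebra.TensorProduct.includeLeft : R ⊗[A] G →ₐ[A] (R ⊗[A] G) ⊗[A] B).comp
      Algebra.TensorProduct.includeRight)
    (fun _ _ => Commute.all _ _)

/-- `p ⊗ z ↦ p(βi) * (1 ⊗ z)` -/
noncomputable def evT (βi : R ⊗[A] T) : R[X] ⊗[A] T →ₐ[A] R ⊗[A] T :=
  Algebra.TensorProduct.lift (evAt R Algebra.TensorProduct.includeLeft βi)
    Algebra.TensorProduct.includeRight (fun _ _ => Commute.all _ _)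

variable {R}

theorem map_ρ_in₁ (y : R ⊗[A] B) :
    Algebra.TensorProduct.map (ρ R f) (AlgHom.id A B)
      (Algebra.TensorProduct.map (in₁ G R) (AlgHom.id A B) y) = y := by
  induction y using TensorProduct.induction_on with
  | zero => simp
  | tmul r b => simp [ρ_in₁]
  | add a b ha hb => simp only [map_add, ha, hb]

/-- (E1) -/
theorem map_ρ_ε (β : R ⊗[A] B) (y : R[X] ⊗[A] G) :
    Algebra.TensorProduct.map (ρ R f) (AlgHom.id A B)
      (ε R (Algebra.TensorProduct.map (in₁ G R) (AlgHom.id A B) β) y) =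
    evβ R β (Algebra.TensorProduct.rid A A R[X]
      (Algebra.TensorProduct.map (AlgHom.id A R[X]) f y)) := by
  induction y using TensorProduct.induction_on with
  | zero => simp
  | add a b ha hb => simp only [map_add, ha, hb]
  | tmul p c =>
    simp only [ε, Algebra.TensorProduct.lift_tmul, map_mul, Algebra.TensorProduct.map_tmul,
      AlgHom.id_apply, Algebra.TensorProduct.rid_tmul, AlgHom.comp_apply,
      Algebra.TensorProduct.includeLeft_apply, Algebra.TensorProduct.includeRight_apply, ρ_tmul,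
      one_mul]
    have h1 : Algebra.TensorProduct.map (ρ R f) (AlgHom.id A B)
        (evAt R ((Algebra.TensorProduct.includeLeft : R ⊗[A] G →ₐ[A] (R ⊗[A] G) ⊗[A] B).comp (in₁ G R))
          (Algebra.TensorProduct.map (in₁ G R) (AlgHom.id A B) β) p) = evβ R β p := by
      rw [evAt_apply, evβ, evAt_apply]
      rw [← AlgHom.coe_toRingHom (Algebra.TensorProduct.map (ρ R f) (AlgHom.id A B)),
        Polynomial.hom_eval₂, AlgHom.coe_toRingHom, map_ρ_in₁]
      congr 1
      ext r
      simp [in₁, ρ_tmul]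
    rw [h1, map_smul, Algebra.smul_def]
    rw [mul_comm]
    congr 1

/-- (E2) -/
theorem map_ρ_f (u : (R ⊗[A] G) ⊗[A] G) :
    Algebra.TensorProduct.map (ρ R f) (AlgHom.id A A)
      (Algebra.TensorProduct.map (AlgHom.id A (R ⊗[A] G)) f u) =
    Algebra.TensorProduct.map (AlgHom.id A R) f (m R u) := by
  have key : ∀ (v : R ⊗[A] G) (a : A), (ρ R f v) ⊗ₜ[A] a =
      Algebra.TensorProduct.map (AlgHom.id A R) f v * ((1 : R) ⊗ₜ[A] a) := by
    intro v a
    induction v using TensorProduct.induction_on with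
    | zero => simp
    | add x y hx hy => rw [map_add, TensorProduct.add_tmul, hx, hy, map_add, add_mul]
    | tmul r c =>
      rw [ρ_tmul, Algebra.TensorProduct.map_tmul, Algebra.TensorProduct.tmul_mul_tmul, AlgHom.id_apply,
        mul_one, mul_comm r, ← Algebra.smul_def, TensorProduct.smul_tmul, smul_eq_mul]
  induction u using TensorProduct.induction_on with
  | zero => simp
  | add x y hx hy => simp only [map_add, hx, hy]
  | tmul v c =>
    rw [Algebra.TensorProduct.map_tmul, Algebra.TensorProduct.map_tmul, AlgHom.id_apply, AlgHom.id_apply,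
      m_tmul, map_mul, Algebra.TensorProduct.map_tmul, AlgHom.id_apply, key]

/-- (E3) -/
theorem map_J_m (u : (R ⊗[A] G) ⊗[A] G) :
    Algebra.TensorProduct.map (AlgHom.id A R) J (m R u) =
      mT R J (Algebra.TensorProduct.map (AlgHom.id A (R ⊗[A] G)) J u) := by
  induction u using TensorProduct.induction_on with
  | zero => simp
  | add x y hx hy => simp only [map_add, hx, hy]
  | tmul v c =>
    rw [m_tmul, map_mul, Algebra.TensorProduct.map_tmul, Algebra.TensorProduct.map_tmul, mT_tmul,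
      AlgHom.id_apply, AlgHom.id_apply]

/-- (E4) -/
theorem m_in₁ (y : R ⊗[A] G) :
    m R (Algebra.TensorProduct.map (in₁ G R) (AlgHom.id A G) y) = y := by
  induction y using TensorProduct.induction_on with
  | zero => simp
  | add x y hx hy => simp only [map_add, hx, hy]
  | tmul r c =>
    rw [Algebra.TensorProduct.map_tmul, m_tmul, in₁, Algebra.TensorProduct.includeLeft_apply,
      AlgHom.id_apply, Algebra.TensorProduct.tmul_mul_tmul, mul_one, one_mul]

/-- the `i`-th slot map `R' ⊗ B → R ⊗ T` -/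
noncomputable def Sg (i : Fin d) : (R ⊗[A] G) ⊗[A] B →ₐ[A] R ⊗[A] T :=
  (mT R J).comp (Algebra.TensorProduct.map (AlgHom.id A (R ⊗[A] G)) (σ i))

theorem Sg_in₁ (i : Fin d) (y : R ⊗[A] B) :
    Sg σ J i (Algebra.TensorProduct.map (in₁ G R) (AlgHom.id A B) y) =
      Algebra.TensorProduct.map (AlgHom.id A R) (σ i) y := by
  induction y using TensorProduct.induction_on with
  | zero => simp
  | add x y hx hy => simp only [map_add, hx, hy]
  | tmul r b =>
    simp only [Sg, AlgHom.comp_apply, Algebra.TensorProduct.map_tmul, AlgHom.id_apply, mT_tmul, in₁,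
      Algebra.TensorProduct.includeLeft_apply, map_one, Algebra.TensorProduct.tmul_mul_tmul, mul_one,
      one_mul]

theorem Sg_ε (i : Fin d) (β : R ⊗[A] B) (y : R[X] ⊗[A] G) :
    Sg σ J i (ε R (Algebra.TensorProduct.map (in₁ G R) (AlgHom.id A B) β) y) =
      evT R (Algebra.TensorProduct.map (AlgHom.id A R) (σ i) β)
        (Algebra.TensorProduct.map (AlgHom.id A R[X]) J y) := by
  induction y using TensorProduct.induction_on with
  | zero => simp
  | add a b ha hb => simp only [map_add, ha, hb]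
  | tmul p c =>
    simp only [ε, evT, Algebra.TensorProduct.lift_tmul, map_mul, Algebra.TensorProduct.map_tmul,
      AlgHom.id_apply, AlgHom.comp_apply,
      Algebra.TensorProduct.includeLeft_apply, Algebra.TensorProduct.includeRight_apply]
    have h1 : Sg σ J i
        (evAt R ((Algebra.TensorProduct.includeLeft : R ⊗[A] G →ₐ[A] (R ⊗[A] G) ⊗[A] B).comp (in₁ G R))
          (Algebra.TensorProduct.map (in₁ G R) (AlgHom.id A B) β) p) =
        evAt R (Algebra.TensorProduct.includeLeft : R →ₐ[A] R ⊗[A] T)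
          (Algebra.TensorProduct.map (AlgHom.id A R) (σ i) β) p := by
      rw [evAt_apply, evAt_apply]
      rw [← AlgHom.coe_toRingHom (Sg σ J i),
        Polynomial.hom_eval₂, AlgHom.coe_toRingHom, Sg_in₁]
      congr 1
      ext r
      simp [in₁, Sg, mT_tmul]
    rw [h1]
    congr 1
    simp [Sg, mT_tmul]

/-- (E6) -/
theorem evT_C (βi : R ⊗[A] T) (τ : B →ₐ[A] T) (y : R ⊗[A] B) :
    evT R βi (Algebra.TensorProduct.map (AlgHom.id A R[X]) τ
      (Algebra.TensorProduct.map (Polynomial.CAlgHom (R := A) (A := R)) (AlgHom.id A B) y)) =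
      Algebra.TensorProduct.map (AlgHom.id A R) τ y := by
  induction y using TensorProduct.induction_on with
  | zero => simp
  | add a b ha hb => simp only [map_add, ha, hb]
  | tmul r b =>
    simp only [evT, Algebra.TensorProduct.map_tmul, AlgHom.id_apply, Algebra.TensorProduct.lift_tmul,
      Polynomial.CAlgHom_apply, evAt_C, Algebra.TensorProduct.includeLeft_apply,
      Algebra.TensorProduct.includeRight_apply, Algebra.TensorProduct.tmul_mul_tmul, mul_one, one_mul]

theorem evT_X (βi : R ⊗[A] T) (τ : B →ₐ[A] T) :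
    evT R βi (Algebra.TensorProduct.map (AlgHom.id A R[X]) τ ((X : R[X]) ⊗ₜ[A] (1 : B))) = βi := by
  simp only [evT, Algebra.TensorProduct.map_tmul, AlgHom.id_apply, map_one,
    Algebra.TensorProduct.lift_tmul, evAt_X, mul_one]

theorem map_f_map_ρ (u : (R ⊗[A] G) ⊗[A] G) :
    Algebra.TensorProduct.map (AlgHom.id A R) f
      (Algebra.TensorProduct.map (ρ R f) (AlgHom.id A G) u) =
    Algebra.TensorProduct.map (ρ R f) (AlgHom.id A A)
      (Algebra.TensorProduct.map (AlgHom.id A (R ⊗[A] G)) f u) := by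
  induction u using TensorProduct.induction_on with
  | zero => simp
  | add x y hx hy => simp only [map_add, hx, hy]
  | tmul v c => simp only [Algebra.TensorProduct.map_tmul, AlgHom.id_apply]

theorem main
    (hL : ∀ (S : Type u) [CommRing S] [Algebra A S] (y : S ⊗[A] B),
      Algebra.TensorProduct.map (AlgHom.id A S) J (L.toFun' S y) =
        ∏ i, Algebra.TensorProduct.map (AlgHom.id A S) (σ i) y)
    (hinj : Function.Injective (Algebra.TensorProduct.map (AlgHom.id A R) J))
    (β x w : R ⊗[A] B) :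
    Algebra.TensorProduct.map (AlgHom.id A R) f (L.toFun' R (x + w *
      evβ R β (Algebra.TensorProduct.rid A A R[X] (Algebra.TensorProduct.map (AlgHom.id A R[X]) f
        (L.toFun' R[X] ((X : R[X]) ⊗ₜ[A] (1 : B) -
          Algebra.TensorProduct.map (Polynomial.CAlgHom (R := A) (A := R)) (AlgHom.id A B) β)))))) =
    Algebra.TensorProduct.map (AlgHom.id A R) f (L.toFun' R x) := by
  set z : R[X] ⊗[A] B := (X : R[X]) ⊗ₜ[A] (1 : B) -
    Algebra.TensorProduct.map (Polynomial.CAlgHom (R := A) (A := R)) (AlgHom.id A B) β with hz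
  set Lt := L.toFun' R[X] z with hLt
  set β' := Algebra.TensorProduct.map (in₁ (A := A) G R) (AlgHom.id A B) β with hβ'
  set Ξ := ε R β' Lt with hΞ
  set X' := Algebra.TensorProduct.map (in₁ (A := A) G R) (AlgHom.id A B) x with hX'
  set W' := Algebra.TensorProduct.map (in₁ (A := A) G R) (AlgHom.id A B) w with hW'
  have h1 : Algebra.TensorProduct.map (ρ R f) (AlgHom.id A B) (X' + W' * Ξ) =
      x + w * evβ R β (Algebra.TensorProduct.rid A A R[X]
        (Algebra.TensorProduct.map (AlgHom.id A R[X]) f Lt)) := by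
    rw [map_add, map_mul, hX', hW', map_ρ_in₁, map_ρ_in₁, hΞ, hβ', map_ρ_ε]
  have h1' : Algebra.TensorProduct.map (ρ R f) (AlgHom.id A B) X' = x := by
    rw [hX', map_ρ_in₁]
  have route : ∀ Y : (R ⊗[A] G) ⊗[A] B,
      Algebra.TensorProduct.map (AlgHom.id A R) f
        (L.toFun' R (Algebra.TensorProduct.map (ρ R f) (AlgHom.id A B) Y)) =
      Algebra.TensorProduct.map (AlgHom.id A R) f (m R (L.toFun' (R ⊗[A] G) Y)) := by
    intro Y
    rw [Groth.Agent.Helper4.PolLaw1.compat L (ρ R f) Y, map_f_map_ρ, map_ρ_f]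
  rw [← h1, route, ← h1', route]
  congr 1
  apply hinj
  rw [map_J_m, map_J_m, hL, hL, map_prod, map_prod]
  refine Finset.prod_congr rfl fun i _ => ?_
  have hS : ∀ Y : (R ⊗[A] G) ⊗[A] B,
      mT R J (Algebra.TensorProduct.map (AlgHom.id A (R ⊗[A] G)) (σ i) Y) = Sg σ J i Y := fun _ => rfl
  rw [hS, hS, map_add, map_mul]
  have hzero : Sg σ J i Ξ = 0 := by
    rw [hΞ, hβ', Sg_ε, hLt, hL, map_prod]
    apply Finset.prod_eq_zero (Finset.mem_univ i)
    rw [hz, map_sub, map_sub, evT_X, evT_C, sub_self]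
  rw [hzero, mul_zero, add_zero]

end main

end Groth.Agent.Helper4.CHAbs
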