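import Groth.Agent.Helper4.CHGoingDown

/-!
# Irreducible components of the support dominate an integral base (helper4)
-/

set_option autoImplicit false
universe u
open scoped TensorProduct

namespace Groth.Agent.Helper4.CHComponents

open Groth.Agent.Helper4.CHFibre Groth.Agent.Helper4.CHGoingDown

variable {A : Type u} [CommRing A] [IsDomain A] {B : Type u} [CommRing B] [Algebra A B] {d : ℕ}

theorem main (F : PolLaw.MulLaw A B A d) {P : Ideal B} (hP : P ∈ (PolLaw.ker F.law).minimalPrimes) :
    P.comap (algebraMap A B) = ⊥ ∧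
      ∀ q : Ideal A, q.IsPrime → ∃ Q : Ideal B, Q.IsPrime ∧ P ≤ Q ∧ Q.comap (algebraMap A B) = q := by
  haveI := hasGoingDown_image F
  haveI := image_isIntegral F
  haveI hPprime : P.IsPrime := hP.1.1
  have hKP : PolLaw.ker F.law ≤ P := hP.1.2
  have hsurj : Function.Surjective (Ideal.Quotient.mk (PolLaw.ker F.law)) :=
    Ideal.Quotient.mk_surjective
  have hker : RingHom.ker (Ideal.Quotient.mk (PolLaw.ker F.law)) = PolLaw.ker F.law :=
    Ideal.mk_ker
  set P' : Ideal (PolLaw.image F.law) := P.map (Ideal.Quotient.mk (PolLaw.ker F.law)) with hP'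
  have h1 : P'.comap (Ideal.Quotient.mk (PolLaw.ker F.law)) = P := by
    rw [hP', Ideal.comap_map_of_surjective _ hsurj, ← RingHom.ker_eq_comap_bot, hker]
    exact sup_eq_left.2 hKP
  haveI h2 : P'.IsPrime := Ideal.map_isPrime_of_surjective hsurj (by rw [hker]; exact hKP)
  have hcomp : ∀ J : Ideal (PolLaw.image F.law),
      (J.comap (Ideal.Quotient.mk (PolLaw.ker F.law))).comap (algebraMap A B) =
        J.comap (algebraMap A (PolLaw.image F.law)) := by
    intro J
    rw [Ideal.comap_comap]
    rfl
  -- the contraction of `P'` is zero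
  have h3 : P'.under A = ⊥ := by
    by_contra hne
    have hlt : (⊥ : Ideal A) < P'.under A := bot_lt_iff_ne_bot.2 hne
    haveI : (⊥ : Ideal A).IsPrime := Ideal.isPrime_bot
    obtain ⟨P'', hle, hprime, hover⟩ :=
      Algebra.HasGoingDown.exists_ideal_le_liesOver_of_lt (p := (⊥ : Ideal A)) P' hlt
    have h4 : P ≤ P''.comap (Ideal.Quotient.mk (PolLaw.ker F.law)) := by
      apply hP.2 ⟨Ideal.comap_isPrime _ _, ?_⟩
      · rw [← h1]
        exact Ideal.comap_mono hle
      · intro x hx
        rw [Ideal.mem_comap, Ideal.Quotient.eq_zero_iff_mem.2 hx]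
        exact zero_mem _
    have h5 : P' ≤ P'' := by
      rw [hP']
      refine (Ideal.map_mono h4).trans ?_
      rw [Ideal.map_comap_of_surjective _ hsurj]
    have h6 : P' = P'' := le_antisymm h5 hle
    apply hne
    rw [h6]
    exact hover.over.symm
  refine ⟨?_, ?_⟩
  · rw [← h1, hcomp]
    exact h3
  · intro q hq
    obtain ⟨Q', hQ'P, hQ'prime, hQ'q⟩ := Ideal.exists_ideal_over_prime_of_isIntegral q P'
      (by
        have : P'.comap (algebraMap A (PolLaw.image F.law)) = ⊥ := h3
        rw [this]
        exact bot_le)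
    refine ⟨Q'.comap (Ideal.Quotient.mk (PolLaw.ker F.law)), Ideal.comap_isPrime _ _, ?_, ?_⟩
    · rw [← h1]
      exact Ideal.comap_mono hQ'P
    · rw [hcomp]
      exact hQ'q

end Groth.Agent.Helper4.CHComponents
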