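import Mathlib

/-!
# Connected components of a prime spectrum are separated by idempotents (helper4)
-/

set_option autoImplicit false
universe u

namespace Groth.Agent.Helper4.SpecComponents

variable {R : Type u} [CommRing R]

/-- the ideal generated by the idempotents of a prime -/
def idemIdeal (x : PrimeSpectrum R) : Ideal R :=
  Ideal.span {e | IsIdempotentElem e ∧ e ∈ x.asIdeal}

theorem idemIdeal_le (x : PrimeSpectrum R) : idemIdeal x ≤ x.asIdeal :=
  Ideal.span_le.2 fun _ he => he.2

/-- every element of the ideal is absorbed by a single idempotent of the prime -/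
theorem exists_idem_absorb (x : PrimeSpectrum R) {a : R} (ha : a ∈ idemIdeal x) :
    ∃ e, IsIdempotentElem e ∧ e ∈ x.asIdeal ∧ a * e = a := by
  induction ha using Submodule.span_induction with
  | mem e he => exact ⟨e, he.1, he.2, he.1⟩
  | zero => exact ⟨0, IsIdempotentElem.zero, zero_mem _, by simp⟩
  | add a b _ _ iha ihb =>
    obtain ⟨e₁, h₁, hx₁, ha₁⟩ := iha
    obtain ⟨e₂, h₂, hx₂, hb₂⟩ := ihb
    refine ⟨e₁ + e₂ - e₁ * e₂, ?_, ?_, ?_⟩
    · have h1 : e₁ * e₁ = e₁ := h₁
      have h2 : e₂ * e₂ = e₂ := h₂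
      show (e₁ + e₂ - e₁ * e₂) * (e₁ + e₂ - e₁ * e₂) = e₁ + e₂ - e₁ * e₂
      calc (e₁ + e₂ - e₁ * e₂) * (e₁ + e₂ - e₁ * e₂)
          = e₁ * e₁ + e₂ * e₂ + 2 * e₁ * e₂ - 2 * (e₁ * e₁) * e₂ - 2 * e₁ * (e₂ * e₂)
            + (e₁ * e₁) * (e₂ * e₂) := by ring
        _ = e₁ + e₂ - e₁ * e₂ := by rw [h1, h2]; ring
    · exact Ideal.sub_mem _ (Ideal.add_mem _ hx₁ hx₂) (Ideal.mul_mem_right _ _ hx₁)
    · calc (a + b) * (e₁ + e₂ - e₁ * e₂)
          = a * e₁ + (a - a * e₁) * e₂ + b * e₂ + (b - b * e₂) * e₁ := by ring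
        _ = a + b := by rw [ha₁, hb₂]; ring
  | smul r a _ iha =>
    obtain ⟨e, h, hx, hae⟩ := iha
    exact ⟨e, h, hx, by rw [smul_eq_mul, mul_assoc, hae]⟩

/-- the quotient by the idempotents of a prime has connected spectrum -/
theorem preconnected_quotient (x : PrimeSpectrum R) :
    PreconnectedSpace (PrimeSpectrum (R ⧸ idemIdeal x)) := by
  rw [preconnectedSpace_iff_clopen]
  intro s hs
  obtain ⟨e', he', rfl⟩ := PrimeSpectrum.isClopen_iff.1 hs
  obtain ⟨e₀, rfl⟩ := Ideal.Quotient.mk_surjective e'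
  have h1 : e₀ * e₀ - e₀ ∈ idemIdeal x := by
    rw [← Ideal.Quotient.eq, map_mul]
    exact he'
  obtain ⟨e, he, hex, habs⟩ := exists_idem_absorb x h1
  have heI : e ∈ idemIdeal x := Ideal.subset_span ⟨he, hex⟩
  have he2 : e * e = e := he
  set f := e₀ * (1 - e) with hf
  have hfidem : f * f = f := by
    have : f * f - f = (e₀ * e₀ - e₀) * (1 - e) - (e₀ * e₀) * (e - e * e) * 1 := by
      rw [hf]; ring
    have h2 : (e₀ * e₀ - e₀) * (1 - e) = 0 := by
      rw [mul_sub, mul_one, habs, sub_self]
    rw [h2, he2, sub_self, mul_zero, mul_one, sub_zero] at this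
    exact sub_eq_zero.1 this
  have hmk : Ideal.Quotient.mk (idemIdeal x) f = Ideal.Quotient.mk (idemIdeal x) e₀ := by
    rw [hf, map_mul, map_sub, map_one, Ideal.Quotient.eq_zero_iff_mem.2 heI, sub_zero, mul_one]
  have hprod : f * (1 - f) ∈ x.asIdeal := by
    rw [mul_sub, mul_one, hfidem, sub_self]
    exact zero_mem _
  rcases x.2.mem_or_mem hprod with h | h
  · left
    have : f ∈ idemIdeal x := Ideal.subset_span ⟨hfidem, h⟩
    rw [← hmk, Ideal.Quotient.eq_zero_iff_mem.2 this]
    simp
  · right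
    have hidem : IsIdempotentElem (1 - f) := IsIdempotentElem.one_sub hfidem
    have : 1 - f ∈ idemIdeal x := Ideal.subset_span ⟨hidem, h⟩
    have h3 : Ideal.Quotient.mk (idemIdeal x) f = 1 := by
      have := Ideal.Quotient.eq_zero_iff_mem.2 this
      rw [map_sub, map_one, sub_eq_zero] at this
      exact this.symm
    rw [← hmk, h3]
    simp

/-- two primes containing the same idempotents lie in the same connected component -/
theorem mem_connectedComponent (x y : PrimeSpectrum R)
    (h : ∀ e, IsIdempotentElem e → e ∈ x.asIdeal → e ∈ y.asIdeal) : y ∈ connectedComponent x := by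
  haveI := preconnected_quotient x
  have hrange : Set.range (PrimeSpectrum.comap (Ideal.Quotient.mk (idemIdeal x))) =
      PrimeSpectrum.zeroLocus (idemIdeal x : Set R) := by
    rw [range_comap_of_surjective _ _ Ideal.Quotient.mk_surjective, Ideal.mk_ker]
  have hpre : IsPreconnected (Set.range (PrimeSpectrum.comap (Ideal.Quotient.mk (idemIdeal x)))) :=
    isPreconnected_range (PrimeSpectrum.continuous_comap (Ideal.Quotient.mk (idemIdeal x)))
  have hx : x ∈ Set.range (PrimeSpectrum.comap (Ideal.Quotient.mk (idemIdeal x))) := by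
    rw [hrange, PrimeSpectrum.mem_zeroLocus]
    exact idemIdeal_le x
  have hy : y ∈ Set.range (PrimeSpectrum.comap (Ideal.Quotient.mk (idemIdeal x))) := by
    rw [hrange, PrimeSpectrum.mem_zeroLocus]
    exact Ideal.span_le.2 fun e he => h e he.1 he.2
  exact hpre.subset_connectedComponent hx hy

/-- distinct connected components are separated by an idempotent -/
theorem exists_idem_of_ne (x y : PrimeSpectrum R)
    (h : (ConnectedComponents.mk x) ≠ ConnectedComponents.mk y) :
    ∃ e, IsIdempotentElem e ∧ e ∈ x.asIdeal ∧ e ∉ y.asIdeal := by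
  by_contra hcon
  simp only [not_exists, not_and, not_not] at hcon
  apply h
  have h1 := mem_connectedComponent x y hcon
  rw [ConnectedComponents.coe_eq_coe]
  exact connectedComponent_eq h1

end Groth.Agent.Helper4.SpecComponents
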