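import Groth.Agent.Helper4.CHOpen
import Groth.Agent.Helper4.SpecComponents

/-!
# The support of a family of zero-cycles of degree `d` over a connected base has at most `d`
connected components (helper4)
-/

set_option autoImplicit false
universe u
open scoped TensorProduct

namespace Groth.Agent.Helper4.CHConnected

open Groth.Agent.Helper4.CHFibre Groth.Agent.Helper4.CHOpen Groth.Agent.Helper4.SpecComponents

variable {A : Type u} [CommRing A] {B : Type u} [CommRing B] [Algebra A B] {d : ℕ}

theorem isOpenMap_comap_image (F : PolLaw.MulLaw A B A d) :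
    IsOpenMap (PrimeSpectrum.comap (algebraMap A (PolLaw.image F.law))) := by
  have h1 : algebraMap A (PolLaw.image F.law) =
      ((Algebra.TensorProduct.lid A (PolLaw.image F.law)).toRingEquiv : _ →+* _).comp
        (algebraMap A (A ⊗[A] PolLaw.image F.law)) := by
    ext a
    simp [Algebra.TensorProduct.algebraMap_apply, Algebra.algebraMap_eq_smul_one]
  rw [h1, PrimeSpectrum.comap_comp]
  exact (isOpenMap_comap F A).comp
    (PrimeSpectrum.isHomeomorph_comap_of_bijective
      (Algebra.TensorProduct.lid A (PolLaw.image F.law)).toRingEquiv.bijective).isOpenMap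

theorem isClosedMap_comap_image (F : PolLaw.MulLaw A B A d) :
    IsClosedMap (PrimeSpectrum.comap (algebraMap A (PolLaw.image F.law))) := by
  haveI := image_isIntegral F
  exact PrimeSpectrum.isClosedMap_comap_of_isIntegral _ (algebraMap_isIntegral_iff.2 inferInstance)

/-- every fibre has at most `d` points -/
theorem no_injection_fibre (F : PolLaw.MulLaw A B A d) (s : PrimeSpectrum A)
    (w : Fin (d + 1) → PrimeSpectrum (PolLaw.image F.law)) (hw : Function.Injective w)
    (hs : ∀ i, PrimeSpectrum.comap (algebraMap A (PolLaw.image F.law)) (w i) = s) : False := by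
  obtain ⟨hfin, hcard⟩ := fibre_card F s.asIdeal.ResidueField
  let e := PrimeSpectrum.preimageEquivFiber A (PolLaw.image F.law) s
  let w' : Fin (d + 1) → PrimeSpectrum (s.asIdeal.ResidueField ⊗[A] PolLaw.image F.law) :=
    fun i => e ⟨w i, hs i⟩
  have hw' : Function.Injective w' := by
    intro i j hij
    have := e.injective hij
    exact hw (congrArg Subtype.val this)
  haveI := Fintype.ofFinite (PrimeSpectrum (s.asIdeal.ResidueField ⊗[A] PolLaw.image F.law))
  have h1 := Fintype.card_le_of_injective w' hw'
  rw [Fintype.card_fin, ← Nat.card_eq_fintype_card] at h1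
  omega


theorem components_card [ConnectedSpace (PrimeSpectrum A)] (F : PolLaw.MulLaw A B A d) :
    Finite (ConnectedComponents (PrimeSpectrum (PolLaw.image F.law))) ∧
      Nat.card (ConnectedComponents (PrimeSpectrum (PolLaw.image F.law))) ≤ d := by
  classical
  apply finite_of_no_injection
  intro c hc
  choose z hz using fun i => ConnectedComponents.surjective_coe (c i)
  have hne : ∀ i j, i ≠ j → ConnectedComponents.mk (z i) ≠ ConnectedComponents.mk (z j) := by
    intro i j hij h
    apply hij
    apply hc
    rw [← hz i, ← hz j]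
    exact h
  choose! e he using fun (i j : Fin (d + 1)) (hij : i ≠ j) =>
    exists_idem_of_ne (z i) (z j) (hne i j hij)
  let W : Fin (d + 1) → Set (PrimeSpectrum (PolLaw.image F.law)) := fun i =>
    ⋂ j ∈ (Finset.univ.erase i : Finset (Fin (d + 1))),
      (PrimeSpectrum.zeroLocus {e i j} ∩ (PrimeSpectrum.zeroLocus {e j i})ᶜ)
  have hWclopen : ∀ i, IsClopen (W i) := by
    intro i
    apply isClopen_biInter_finset
    intro j hj
    have hij : j ≠ i := (Finset.mem_erase.1 hj).1
    exact (PrimeSpectrum.isClopen_iff_zeroLocus.2 ⟨_, (he i j hij.symm).1, rfl⟩).inter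
      (PrimeSpectrum.isClopen_iff_zeroLocus.2 ⟨_, (he j i hij).1, rfl⟩).compl
  have hzW : ∀ i, z i ∈ W i := by
    intro i
    simp only [W, Set.mem_iInter, Set.mem_inter_iff, Set.mem_compl_iff,
      PrimeSpectrum.mem_zeroLocus, Set.singleton_subset_iff, SetLike.mem_coe]
    intro j hj
    have hij : j ≠ i := (Finset.mem_erase.1 hj).1
    exact ⟨(he i j hij.symm).2.1, (he j i hij).2.2⟩
  have hdisj : ∀ i j, i ≠ j → ∀ Q, Q ∈ W i → Q ∈ W j → False := by
    intro i j hij Q hQi hQj
    simp only [W, Set.mem_iInter, Set.mem_inter_iff, Set.mem_compl_iff,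
      PrimeSpectrum.mem_zeroLocus, Set.singleton_subset_iff, SetLike.mem_coe] at hQi hQj
    have h1 := (hQi j (Finset.mem_erase.2 ⟨hij.symm, Finset.mem_univ _⟩)).1
    have h2 := (hQj i (Finset.mem_erase.2 ⟨hij, Finset.mem_univ _⟩)).2
    exact h2 h1
  obtain ⟨s⟩ : Nonempty (PrimeSpectrum A) := inferInstance
  have himg : ∀ i, PrimeSpectrum.comap (algebraMap A (PolLaw.image F.law)) '' (W i) = Set.univ :=
    fun i => IsClopen.eq_univ ⟨isClosedMap_comap_image F _ (hWclopen i).1,
      isOpenMap_comap_image F _ (hWclopen i).2⟩ ⟨_, z i, hzW i, rfl⟩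
  choose w hwW hws using fun i =>
    (show s ∈ PrimeSpectrum.comap (algebraMap A (PolLaw.image F.law)) '' (W i) by
      rw [himg i]; trivial)
  refine no_injection_fibre F s w ?_ hws
  intro i j hij
  by_contra hne'
  exact hdisj i j hne' (w i) (hwW i) (hij ▸ hwW j)

end Groth.Agent.Helper4.CHConnected
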