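import Groth.Agent.Helper4.CHRad

/-!
# A finitely generated ideal inside the kernel with the same radical (helper4)
-/

set_option autoImplicit false
universe u
open scoped TensorProduct
open Polynomial

namespace Groth.Agent.Helper4.CHFg

open Groth.Agent.Helper4.PolLaw1 Groth.Agent.Helper4.CHAbs Groth.Agent.Helper4.CH
  Groth.Agent.Helper4.KerMv Groth.Agent.Helper4.CHKer Groth.Agent.Helper4.CHRad

variable {A : Type u} [CommRing A] {B : Type u} [CommRing B] [Algebra A B] {d : ℕ}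

/-- the ideal of Cayley–Hamilton relations of a finite set of elements -/
noncomputable def J₁ (F : B →ₚₗ[A] A) (t : Finset B) : Ideal B :=
  Ideal.span ((fun b => Polynomial.aeval b (chiB F b)) '' (t : Set B))

theorem J₁_fg (F : B →ₚₗ[A] A) (t : Finset B) : (J₁ F t).FG := by
  classical
  exact ⟨t.image fun b => Polynomial.aeval b (chiB F b), by rw [Finset.coe_image]; rfl⟩

theorem J₁_le (F : PolLaw.MulLaw A B A d) (t : Finset B) : J₁ F.law t ≤ PolLaw.ker F.law :=
  Ideal.span_le.2 (by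
    rintro _ ⟨b, _, rfl⟩
    exact aeval_chiB_mem_ker F b)

/-- killing the Cayley–Hamilton relations of algebra generators gives a finite quotient -/
theorem finite_quotient (F : PolLaw.MulLaw A B A d) (t : Finset B)
    (ht : Algebra.adjoin A (t : Set B) = ⊤) :
    Module.Finite A (B ⧸ J₁ F.law t) := by
  have h1 : Algebra.adjoin A ((Ideal.Quotient.mkₐ A (J₁ F.law t)) '' (t : Set B)) = ⊤ := by
    rw [← AlgHom.map_adjoin, ht, Algebra.map_top, AlgHom.range_eq_top]
    exact Ideal.Quotient.mkₐ_surjective A (J₁ F.law t)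
  have h2 := fg_adjoin_of_finite (R := A) (s := (Ideal.Quotient.mkₐ A (J₁ F.law t)) '' (t : Set B))
    (t.finite_toSet.image _) (by
      rintro _ ⟨b, hb, rfl⟩
      refine ⟨chiB F.law b, chiB_monic F b, ?_⟩
      rw [← Polynomial.aeval_def, Polynomial.aeval_algHom_apply]
      exact Ideal.Quotient.eq_zero_iff_mem.2 (Ideal.subset_span ⟨b, hb, rfl⟩))
  rw [h1, Algebra.top_toSubmodule] at h2
  exact ⟨h2⟩


theorem exists_comb (J : Ideal B) [Module.Finite A (B ⧸ J)] :
    ∃ (r : ℕ) (e : Fin r → B), ∀ b : B, ∃ a : Fin r → A, b - ∑ j, a j • e j ∈ J := by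
  obtain ⟨r, s, hs⟩ := Module.Finite.exists_fin (R := A) (M := B ⧸ J)
  choose e he using fun j => Ideal.Quotient.mk_surjective (s j)
  refine ⟨r, e, fun b => ?_⟩
  have hb : Ideal.Quotient.mk J b ∈ Submodule.span A (Set.range s) := by
    rw [hs]; exact Submodule.mem_top
  obtain ⟨a, ha⟩ := (Submodule.mem_span_range_iff_exists_fun A).1 hb
  refine ⟨a, ?_⟩
  rw [← Ideal.Quotient.eq, map_sum, ← ha]
  refine Finset.sum_congr rfl fun j _ => ?_
  rw [← he j]
  rfl

/-- the generic element of the span of `e` -/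
noncomputable def gen {r : ℕ} (e : Fin r → B) : MvPolynomial (Fin r) A ⊗[A] B :=
  ∑ j, (MvPolynomial.X j) ⊗ₜ[A] e j

theorem map_gen {r : ℕ} (e : Fin r → B) (a : Fin r → A) :
    Algebra.TensorProduct.map (MvPolynomial.aeval a : MvPolynomial (Fin r) A →ₐ[A] A)
      (AlgHom.id A B) (gen e) = (1 : A) ⊗ₜ[A] (∑ j, a j • e j) := by
  rw [gen, map_sum, TensorProduct.tmul_sum]
  refine Finset.sum_congr rfl fun j _ => ?_
  rw [Algebra.TensorProduct.map_tmul, MvPolynomial.aeval_X, AlgHom.id_apply,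
    TensorProduct.tmul_smul, TensorProduct.smul_tmul', smul_eq_mul, mul_one]

theorem pow_mem_span (F : PolLaw.MulLaw A B A d) {r : ℕ} (e : Fin r → B)
    (c : (Fin r →₀ ℕ) →₀ B)
    (hc : chElt F.law (MvPolynomial (Fin r) A) (gen e) =
      c.sum fun α b => (MvPolynomial.monomial α (1 : A)) ⊗ₜ[A] b)
    (a : Fin r → A) (hb : ∑ j, a j • e j ∈ PolLaw.ker F.law) :
    (∑ j, a j • e j) ^ d ∈ Ideal.span (c '' (c.support : Set (Fin r →₀ ℕ))) := by
  have h1 : Algebra.TensorProduct.map (MvPolynomial.aeval a : MvPolynomial (Fin r) A →ₐ[A] A)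
      (AlgHom.id A B) (chElt F.law (MvPolynomial (Fin r) A) (gen e)) =
      (1 : A) ⊗ₜ[A] ((∑ j, a j • e j) ^ d) := by
    rw [map_chElt, map_gen, chElt_one_tmul, chiB_of_mem_ker F hb, map_pow, Polynomial.aeval_X]
  have h2 : Algebra.TensorProduct.map (MvPolynomial.aeval a : MvPolynomial (Fin r) A →ₐ[A] A)
      (AlgHom.id A B) (chElt F.law (MvPolynomial (Fin r) A) (gen e)) =
      ∑ α ∈ c.support, (MvPolynomial.aeval a (MvPolynomial.monomial α (1 : A))) ⊗ₜ[A] c α := by
    rw [hc, Finsupp.sum, map_sum]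
    refine Finset.sum_congr rfl fun α _ => ?_
    rw [Algebra.TensorProduct.map_tmul, AlgHom.id_apply]
  have h3 : (∑ j, a j • e j) ^ d =
      ∑ α ∈ c.support, (MvPolynomial.aeval a (MvPolynomial.monomial α (1 : A))) • c α := by
    have := congrArg (Algebra.TensorProduct.lid A B) (h1.symm.trans h2)
    rw [Algebra.TensorProduct.lid_tmul, one_smul, map_sum] at this
    rw [this]
    refine Finset.sum_congr rfl fun α _ => ?_
    rw [Algebra.TensorProduct.lid_tmul]
  rw [h3]
  refine Ideal.sum_mem _ fun α hα => ?_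
  refine Submodule.smul_of_tower_mem _ _ ?_
  exact Ideal.subset_span ⟨α, hα, rfl⟩


theorem exists_fg [Algebra.FiniteType A B] (F : PolLaw.MulLaw A B A d) :
    ∃ J : Ideal B, J.FG ∧ J ≤ PolLaw.ker F.law ∧ J.radical = (PolLaw.ker F.law).radical := by
  classical
  obtain ⟨t, ht⟩ := (Algebra.FiniteType.out : (⊤ : Subalgebra A B).FG)
  haveI hfin : Module.Finite A (B ⧸ J₁ F.law t) := finite_quotient F t ht
  obtain ⟨r, e, hcomb⟩ := exists_comb (A := A) (J₁ F.law t)
  obtain ⟨c, hc⟩ := exists_decomp_mv (chElt F.law (MvPolynomial (Fin r) A) (gen e))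
  have hcker : ∀ α, c α ∈ PolLaw.ker F.law := by
    apply coeff_mem_ker_mv F.law c
    rw [← hc]
    exact chElt_mem_kerBC F _ (gen e)
  have hJ₂fg : (Ideal.span (c '' (c.support : Set (Fin r →₀ ℕ)))).FG :=
    ⟨c.support.image c, by rw [Finset.coe_image]⟩
  have hJ₂le : Ideal.span (c '' (c.support : Set (Fin r →₀ ℕ))) ≤ PolLaw.ker F.law :=
    Ideal.span_le.2 (by
      rintro _ ⟨α, _, rfl⟩
      exact hcker α)
  have hle : J₁ F.law t ⊔ Ideal.span (c '' (c.support : Set (Fin r →₀ ℕ))) ≤ PolLaw.ker F.law :=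
    sup_le (J₁_le F t) hJ₂le
  refine ⟨J₁ F.law t ⊔ Ideal.span (c '' (c.support : Set (Fin r →₀ ℕ))),
    Submodule.FG.sup (J₁_fg F.law t) hJ₂fg, hle, ?_⟩
  apply le_antisymm (Ideal.radical_mono hle)
  rw [Ideal.radical_le_radical_iff]
  intro b hb
  obtain ⟨a, ha⟩ := hcomb b
  have hb'ker : ∑ j, a j • e j ∈ PolLaw.ker F.law := by
    have : ∑ j, a j • e j = b - (b - ∑ j, a j • e j) := by ring
    rw [this]
    exact Ideal.sub_mem _ hb (J₁_le F t ha)
  have h4 := pow_mem_span F e c hc a hb'ker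
  have h5 : ∑ j, a j • e j ∈
      (J₁ F.law t ⊔ Ideal.span (c '' (c.support : Set (Fin r →₀ ℕ)))).radical :=
    ⟨d, Ideal.mem_sup_right h4⟩
  have : b = ∑ j, a j • e j + (b - ∑ j, a j • e j) := by ring
  rw [this]
  exact Ideal.add_mem _ h5 (Ideal.le_radical (Ideal.mem_sup_left ha))

end Groth.Agent.Helper4.CHFg
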