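import Groth.Agent.Helper4.CHKer

/-!
# The characteristic polynomial of a point of `R ⊗ B` is monic of degree `d` (helper4)
-/

set_option autoImplicit false
universe u
open scoped TensorProduct
open Polynomial

namespace Groth.Agent.Helper4.ChiMonic

open Groth.Agent.Helper4.PolLaw1 Groth.Agent.Helper4.CHAbs Groth.Agent.Helper4.CH
  Groth.Agent.Helper4.FreeLaw

variable {A : Type u} [CommRing A] {B : Type u} [CommRing B] [Algebra A B] {d : ℕ}
  {ι : Type u} [Fintype ι]

/-- the family `1, b` -/
def eO (b : ι → B) : Option ι → B := fun o => o.elim 1 b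

/-- the coefficients `X, -r` -/
noncomputable def sO (R : Type u) [CommRing R] (r : ι → R) : Option ι → R[X] :=
  fun o => o.elim X (fun k => - C (r k))

theorem genJ_eO (R : Type u) [CommRing R] [Algebra A R] (r : ι → R) (b : ι → B) :
    genJ (A := A) (eO b) R[X] Finset.univ (sO R r) =
      (X : R[X]) ⊗ₜ[A] (1 : B) - Algebra.TensorProduct.map
        (Polynomial.CAlgHom (R := A) (A := R)) (AlgHom.id A B) (∑ k, r k ⊗ₜ[A] b k) := by
  rw [genJ, Fintype.sum_option, map_sum, sub_eq_add_neg, ← Finset.sum_neg_distrib]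
  congr 1

theorem prod_sO (R : Type u) [CommRing R] (r : ι → R) (ν : Option ι →₀ ℕ) :
    (ν.prod fun i k => sO R r i ^ k) = X ^ ν none * C (∏ k, (- r k) ^ ν (some k)) := by
  rw [Finsupp.prod_fintype _ _ (fun i => pow_zero _), Fintype.prod_option, map_prod]
  congr 1
  refine Finset.prod_congr rfl fun k _ => ?_
  simp [sO]

theorem chi_expansion (F : B →ₚₗ[A] A) (R : Type u) [CommRing R] [Algebra A R] (r : ι → R)
    (b : ι → B) :
    ∃ t : Finset (Option ι →₀ ℕ), ∀ t' : Finset (Option ι →₀ ℕ), t ⊆ t' →
      chi F R (∑ k, r k ⊗ₜ[A] b k) = ∑ ν ∈ t', cJ (eO b) F Finset.univ ν •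
        ((X : R[X]) ^ ν none * C (∏ k, (- r k) ^ ν (some k))) := by
  obtain ⟨t, ht⟩ := exists_expansion (eO b) F Finset.univ
  refine ⟨t, fun t' htt' => ?_⟩
  unfold chi
  rw [← genJ_eO, ht t' htt' R[X] (sO R r), map_sum]
  refine Finset.sum_congr rfl fun ν _ => ?_
  rw [prod_sO, Algebra.TensorProduct.rid_tmul]

omit [Fintype ι] in
theorem eq_single_of_forall (ν : Option ι →₀ ℕ) (h : ∀ k, ν (some k) = 0) :
    ν = Finsupp.single none (ν none) := by
  ext o
  cases o with
  | none => simp
  | some k => rw [h k, Finsupp.single_apply, if_neg (by simp)]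

theorem degree_option (ν : Option ι →₀ ℕ) : ν.degree = ν none + ∑ k, ν (some k) := by
  rw [Finsupp.degree_eq_sum, Fintype.sum_option]


/-- the coefficient at `(d, 0, …, 0)` is `F(1) = 1` -/
theorem cJ_single (F : PolLaw.MulLaw A B A d) (b : ι → B) :
    cJ (eO b) F.law Finset.univ (Finsupp.single none d) = 1 := by
  classical
  obtain ⟨t, ht⟩ := exists_expansion (eO b) F.law Finset.univ
  have h := ht (t ∪ {Finsupp.single none d}) Finset.subset_union_left A
    (fun o => o.elim 1 (fun _ => 0))
  have h1 : genJ (A := A) (eO b) A Finset.univ (fun o => o.elim (1 : A) (fun _ => 0)) = 1 := by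
    rw [genJ, Fintype.sum_option]
    simp [eO, Algebra.TensorProduct.one_def]
  rw [h1, (F.mult A).1, Finset.sum_eq_single (Finsupp.single none d)] at h
  · have h2 := congrArg (Algebra.TensorProduct.rid A A A) h
    rw [Algebra.TensorProduct.rid_tmul, map_one, Finsupp.prod_fintype _ _ (fun i => pow_zero _),
      Fintype.prod_option] at h2
    simp only [Option.elim_none, Option.elim_some, one_pow, one_mul, Finsupp.single_apply,
      reduceCtorEq, if_false, pow_zero, Finset.prod_const_one, smul_eq_mul, mul_one] at h2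
    exact h2.symm
  · intro ν _ hν
    by_cases hk : ∀ k, ν (some k) = 0
    · have hν' := eq_single_of_forall ν hk
      have hdeg : ν.degree ≠ d := by
        intro hd
        apply hν
        rw [hν', ← hd, degree_option]
        simp [hk]
      rw [cJ_eq_zero_of_degree (eO b) F.law F.homog Finset.univ ν hdeg, TensorProduct.tmul_zero]
    · rw [not_forall] at hk
      obtain ⟨k, hk⟩ := hk
      rw [Finsupp.prod_fintype _ _ (fun i => pow_zero _), Fintype.prod_option,
        Finset.prod_eq_zero (Finset.mem_univ k) (by simp [hk]), mul_zero, TensorProduct.zero_tmul]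
  · intro hn
    exact absurd (Finset.mem_union_right _ (Finset.mem_singleton_self _)) hn

theorem natDegree_chi_sum_le (F : PolLaw.MulLaw A B A d) (R : Type u) [CommRing R] [Algebra A R]
    (r : ι → R) (b : ι → B) : (chi F.law R (∑ k, r k ⊗ₜ[A] b k)).natDegree ≤ d := by
  obtain ⟨t, ht⟩ := chi_expansion F.law R r b
  rw [ht t (Finset.Subset.refl _)]
  apply Polynomial.natDegree_sum_le_of_forall_le
  intro ν _
  by_cases hdeg : ν.degree = d
  · refine (Polynomial.natDegree_smul_le _ _).trans ?_
    refine (Polynomial.natDegree_mul_C_le _ _).trans ?_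
    refine (Polynomial.natDegree_X_pow_le _).trans ?_
    rw [← hdeg]
    exact Finsupp.le_degree none ν
  · rw [cJ_eq_zero_of_degree (eO b) F.law F.homog Finset.univ ν hdeg, zero_smul]
    simp

theorem coeff_chi_sum (F : PolLaw.MulLaw A B A d) (R : Type u) [CommRing R] [Algebra A R]
    (r : ι → R) (b : ι → B) : (chi F.law R (∑ k, r k ⊗ₜ[A] b k)).coeff d = 1 := by
  classical
  obtain ⟨t, ht⟩ := chi_expansion F.law R r b
  rw [ht (t ∪ {Finsupp.single none d}) Finset.subset_union_left, Polynomial.finset_sum_coeff,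
    Finset.sum_eq_single (Finsupp.single none d)]
  · rw [cJ_single, one_smul]
    simp
  · intro ν _ hν
    by_cases hdeg : ν.degree = d
    · have hne : ν none ≠ d := by
        intro h0
        apply hν
        have hk : ∀ k, ν (some k) = 0 := by
          have h1 := degree_option ν
          rw [hdeg, h0] at h1
          have h2 : ∑ k, ν (some k) = 0 := by omega
          intro k
          exact (Finset.sum_eq_zero_iff.1 h2) k (Finset.mem_univ k)
        rw [eq_single_of_forall ν hk, h0]
      rw [Polynomial.coeff_smul, Polynomial.coeff_mul_C, Polynomial.coeff_X_pow,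
        if_neg (fun h => hne h.symm), zero_mul, smul_zero]
    · rw [cJ_eq_zero_of_degree (eO b) F.law F.homog Finset.univ ν hdeg, zero_smul,
        Polynomial.coeff_zero]
  · intro hn
    exact absurd (Finset.mem_union_right _ (Finset.mem_singleton_self _)) hn

omit [Fintype ι] in
theorem exists_sum_ulift (R : Type u) [CommRing R] [Algebra A R] (β : R ⊗[A] B) :
    ∃ (n : ℕ) (r : ULift.{u} (Fin n) → R) (b : ULift.{u} (Fin n) → B), β = ∑ k, r k ⊗ₜ[A] b k := by
  obtain ⟨n, r, b, rfl⟩ := TensorProduct.exists_sum_tmul_eq β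
  refine ⟨n, fun k => r k.down, fun k => b k.down, ?_⟩
  exact (Equiv.sum_comp (Equiv.ulift : ULift.{u} (Fin n) ≃ Fin n) (fun j => r j ⊗ₜ[A] b j)).symm

theorem natDegree_chi_le (F : PolLaw.MulLaw A B A d) (R : Type u) [CommRing R] [Algebra A R]
    (β : R ⊗[A] B) : (chi F.law R β).natDegree ≤ d := by
  obtain ⟨n, r, b, rfl⟩ := exists_sum_ulift R β
  exact natDegree_chi_sum_le F R r b

theorem coeff_chi (F : PolLaw.MulLaw A B A d) (R : Type u) [CommRing R] [Algebra A R]
    (β : R ⊗[A] B) : (chi F.law R β).coeff d = 1 := by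
  obtain ⟨n, r, b, rfl⟩ := exists_sum_ulift R β
  exact coeff_chi_sum F R r b

theorem chi_monic (F : PolLaw.MulLaw A B A d) (R : Type u) [CommRing R] [Algebra A R]
    (β : R ⊗[A] B) : (chi F.law R β).Monic :=
  Polynomial.monic_of_natDegree_le_of_coeff_eq_one d (natDegree_chi_le F R β) (coeff_chi F R β)

end Groth.Agent.Helper4.ChiMonic
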