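import Groth.Agent.Helper4.CHRad
import Groth.Agent.Helper4.ChiMonic

/-!
# Fibres of the image of a family of zero-cycles of degree `d` have at most `d` points (helper4)
-/

set_option autoImplicit false
universe u
open scoped TensorProduct
open Polynomial

namespace Groth.Agent.Helper4.CHFibre

open Groth.Agent.Helper4.PolLaw1 Groth.Agent.Helper4.CHAbs Groth.Agent.Helper4.CH
  Groth.Agent.Helper4.CHRad Groth.Agent.Helper4.ChiMonic

variable {A : Type u} [CommRing A] {B : Type u} [CommRing B] [Algebra A B] {d : ℕ}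

/-- `χ_β(β)` dies in every reduced ring in which the kernel of `F` dies -/
theorem eval₂_chi_eq_zero (F : PolLaw.MulLaw A B A d) (R : Type u) [CommRing R] [Algebra A R]
    (β : R ⊗[A] B) {D : Type u} [CommRing D] [IsReduced D] (φ : R ⊗[A] B →+* D)
    (hφ : ∀ b ∈ PolLaw.ker F.law, φ ((1 : R) ⊗ₜ[A] b) = 0) :
    Polynomial.eval₂ (φ.comp (Algebra.TensorProduct.includeLeftRingHom : R →+* R ⊗[A] B)) (φ β)
      (chi F.law R β) = 0 := by
  obtain ⟨n, hn⟩ := kerBC_le_radical F R (chElt_mem_kerBC F R β)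
  have h2 : (PolLaw.ker F.law).map (Algebra.TensorProduct.includeRight : B →ₐ[A] R ⊗[A] B) ≤
      RingHom.ker φ := by
    rw [Ideal.map_le_iff_le_comap]
    intro b hb
    rw [Ideal.mem_comap, RingHom.mem_ker, Algebra.TensorProduct.includeRight_apply]
    exact hφ b hb
  have h3 : φ (chElt F.law R β) ^ n = 0 := by
    rw [← map_pow]
    exact h2 hn
  have h4 : φ (chElt F.law R β) = 0 := IsReduced.eq_zero _ ⟨n, h3⟩
  rw [chElt, evβ, evAt_apply, Polynomial.hom_eval₂] at h4
  exact h4

section phi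

variable (K : Type u) [Field K] [Algebra A K] (n : ℕ) (𝔪 : Ideal (K ⊗[A] B))

/-- coefficients `K → (K ⊗ B) / 𝔪` -/
noncomputable def fI : MvPolynomial (Fin n) K →ₐ[A] MvPolynomial (Fin n) ((K ⊗[A] B) ⧸ 𝔪) :=
  MvPolynomial.mapAlgHom ((Ideal.Quotient.mkₐ A 𝔪).comp
    (Algebra.TensorProduct.includeLeft : K →ₐ[A] K ⊗[A] B))

noncomputable def gI : B →ₐ[A] MvPolynomial (Fin n) ((K ⊗[A] B) ⧸ 𝔪) :=
  (IsScalarTower.toAlgHom A ((K ⊗[A] B) ⧸ 𝔪) (MvPolynomial (Fin n) ((K ⊗[A] B) ⧸ 𝔪))).comp
    ((Ideal.Quotient.mkₐ A 𝔪).comp (Algebra.TensorProduct.includeRight : B →ₐ[A] K ⊗[A] B))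

noncomputable def φI :
    MvPolynomial (Fin n) K ⊗[A] B →ₐ[A] MvPolynomial (Fin n) ((K ⊗[A] B) ⧸ 𝔪) :=
  Algebra.TensorProduct.productMap (fI K n 𝔪) (gI K n 𝔪)

/-- constants `K ⊗ B → K[t] ⊗ B` -/
noncomputable def ιK : K ⊗[A] B →ₐ[A] MvPolynomial (Fin n) K ⊗[A] B :=
  Algebra.TensorProduct.map (IsScalarTower.toAlgHom A K (MvPolynomial (Fin n) K)) (AlgHom.id A B)

theorem φI_ιK (z : K ⊗[A] B) :
    φI K n 𝔪 (ιK K n z) = MvPolynomial.C (Ideal.Quotient.mk 𝔪 z) := by
  induction z using TensorProduct.induction_on with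
  | zero => simp
  | tmul c b =>
    rw [ιK, Algebra.TensorProduct.map_tmul, φI, Algebra.TensorProduct.productMap_apply_tmul]
    have h1 : fI (A := A) (B := B) K n 𝔪 ((IsScalarTower.toAlgHom A K (MvPolynomial (Fin n) K)) c) =
        MvPolynomial.C (Ideal.Quotient.mk 𝔪 (c ⊗ₜ[A] (1 : B))) := by
      show MvPolynomial.map _ (MvPolynomial.C c) = _
      rw [MvPolynomial.map_C]
      rfl
    have h2 : gI (A := A) K n 𝔪 ((AlgHom.id A B) b) =
        MvPolynomial.C (Ideal.Quotient.mk 𝔪 ((1 : K) ⊗ₜ[A] b)) := rfl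
    rw [h1, h2, ← map_mul, ← map_mul, Algebra.TensorProduct.tmul_mul_tmul, mul_one, one_mul]
  | add z₁ z₂ h₁ h₂ => rw [map_add, map_add, h₁, h₂, map_add, map_add]

theorem φI_X (j : Fin n) :
    φI (A := A) (B := B) K n 𝔪 ((MvPolynomial.X j : MvPolynomial (Fin n) K) ⊗ₜ[A] (1 : B)) =
      MvPolynomial.X j := by
  rw [φI, Algebra.TensorProduct.productMap_apply_tmul, map_one, mul_one]
  show MvPolynomial.map _ (MvPolynomial.X j) = _
  rw [MvPolynomial.map_X]

theorem φI_comp_includeLeft (p : MvPolynomial (Fin n) K) :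
    φI (A := A) (B := B) K n 𝔪 (p ⊗ₜ[A] (1 : B)) = MvPolynomial.map
      ((Ideal.Quotient.mk 𝔪).comp
        (Algebra.TensorProduct.includeLeftRingHom : K →+* K ⊗[A] B)) p := by
  rw [φI, Algebra.TensorProduct.productMap_apply_tmul, map_one, mul_one]
  rfl

end phi


/-- there are no `d + 1` distinct maximal ideals of `K ⊗ B` above the kernel of `F` -/
theorem false_of_maximal_family (F : PolLaw.MulLaw A B A d) (K : Type u) [Field K] [Algebra A K]
    (𝔐 : Fin (d + 1) → Ideal (K ⊗[A] B)) (hmax : ∀ i, (𝔐 i).IsMaximal)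
    (hinj : Function.Injective 𝔐)
    (hker : ∀ i, ∀ b ∈ PolLaw.ker F.law, (1 : K) ⊗ₜ[A] b ∈ 𝔐 i) : False := by
  classical
  have hcop : Pairwise (Function.onFun IsCoprime 𝔐) := fun i j hij => by
    haveI := hmax i
    haveI := hmax j
    exact Ideal.isCoprime_of_isMaximal (hinj.ne hij)
  choose u hu using fun j : Fin (d + 1) => Ideal.exists_forall_sub_mem_ideal hcop
    (fun i => if i = j then (1 : K ⊗[A] B) else 0)
  set β : MvPolynomial (Fin (d + 1)) K ⊗[A] B :=
    ∑ j, ((MvPolynomial.X j : MvPolynomial (Fin (d + 1)) K) ⊗ₜ[A] (1 : B)) *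
      ιK K (d + 1) (u j) with hβ
  set χ := chi F.law (MvPolynomial (Fin (d + 1)) K) β with hχ
  have hroot : ∀ i, χ.eval (MvPolynomial.X i) = 0 := by
    intro i
    haveI := hmax i
    have hφβ : φI K (d + 1) (𝔐 i) β = MvPolynomial.X i := by
      rw [hβ, map_sum, Finset.sum_eq_single i]
      · rw [map_mul, φI_X, φI_ιK]
        have : Ideal.Quotient.mk (𝔐 i) (u i) = 1 := by
          have h := hu i i
          rw [if_pos rfl, ← Ideal.Quotient.eq] at h
          rw [h, map_one]
        rw [this, map_one, mul_one]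
      · intro j _ hj
        rw [map_mul, φI_X, φI_ιK]
        have : Ideal.Quotient.mk (𝔐 i) (u j) = 0 := by
          have h := hu j i
          rw [if_neg (Ne.symm hj), ← Ideal.Quotient.eq] at h
          rw [h, map_zero]
        rw [this, map_zero, mul_zero]
      · intro h; exact absurd (Finset.mem_univ i) h
    have h0 := eval₂_chi_eq_zero F (MvPolynomial (Fin (d + 1)) K) β
      (D := MvPolynomial (Fin (d + 1)) ((K ⊗[A] B) ⧸ 𝔐 i))
      (φI K (d + 1) (𝔐 i)).toRingHom (fun b hb => by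
        have h1 := φI_ιK K (d + 1) (𝔐 i) ((1 : K) ⊗ₜ[A] b)
        rw [ιK, Algebra.TensorProduct.map_tmul, map_one, AlgHom.id_apply] at h1
        show φI K (d + 1) (𝔐 i) _ = 0
        rw [h1, Ideal.Quotient.eq_zero_iff_mem.2 (hker i b hb), map_zero])
    have hcomp : (φI K (d + 1) (𝔐 i)).toRingHom.comp
        (Algebra.TensorProduct.includeLeftRingHom :
          MvPolynomial (Fin (d + 1)) K →+* MvPolynomial (Fin (d + 1)) K ⊗[A] B) =
        MvPolynomial.map ((Ideal.Quotient.mk (𝔐 i)).comp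
          (Algebra.TensorProduct.includeLeftRingHom : K →+* K ⊗[A] B)) := by
      exact RingHom.ext fun p => φI_comp_includeLeft K (d + 1) (𝔐 i) p
    rw [hcomp] at h0
    have h1 : (φI K (d + 1) (𝔐 i)).toRingHom β =
        MvPolynomial.map ((Ideal.Quotient.mk (𝔐 i)).comp
          (Algebra.TensorProduct.includeLeftRingHom : K →+* K ⊗[A] B)) (MvPolynomial.X i) := by
      rw [MvPolynomial.map_X]
      exact hφβ
    rw [h1, Polynomial.eval₂_at_apply] at h0
    have hinjK : Function.Injective ((Ideal.Quotient.mk (𝔐 i)).comp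
        (Algebra.TensorProduct.includeLeftRingHom : K →+* K ⊗[A] B)) := RingHom.injective _
    exact (MvPolynomial.map_injective _ hinjK) (h0.trans (map_zero _).symm)
  have hmonic : χ.Monic := chi_monic F _ β
  have hne : χ ≠ 0 := hmonic.ne_zero
  have hsub : (Finset.univ.image (fun i : Fin (d + 1) =>
      (MvPolynomial.X i : MvPolynomial (Fin (d + 1)) K))).val ⊆ χ.roots := by
    intro p hp
    rw [Finset.mem_val, Finset.mem_image] at hp
    obtain ⟨i, _, rfl⟩ := hp
    rw [Polynomial.mem_roots hne]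
    exact hroot i
  have hcard := Polynomial.card_le_degree_of_subset_roots hsub
  rw [Finset.card_image_of_injective _ (MvPolynomial.X_injective), Finset.card_univ,
    Fintype.card_fin] at hcard
  have : χ.natDegree ≤ d := natDegree_chi_le F _ β
  omega


/-- the image of a family of zero-cycles is integral over the base -/
theorem image_isIntegral (F : PolLaw.MulLaw A B A d) : Algebra.IsIntegral A (PolLaw.image F.law) := by
  constructor
  intro y
  obtain ⟨b, rfl⟩ := Ideal.Quotient.mk_surjective y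
  refine ⟨Groth.Agent.Helper4.CHKer.chiB F.law b, Groth.Agent.Helper4.CHKer.chiB_monic F b, ?_⟩
  have h1 := Groth.Agent.Helper4.CHKer.aeval_chiB_mem_ker F b
  have h2 : Polynomial.aeval (Ideal.Quotient.mkₐ A (PolLaw.ker F.law) b)
      (Groth.Agent.Helper4.CHKer.chiB F.law b) =
      Ideal.Quotient.mkₐ A (PolLaw.ker F.law)
        (Polynomial.aeval b (Groth.Agent.Helper4.CHKer.chiB F.law b)) :=
    Polynomial.aeval_algHom_apply _ _ _
  rw [← Polynomial.aeval_def]
  show Polynomial.aeval (Ideal.Quotient.mkₐ A (PolLaw.ker F.law) b) _ = 0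
  rw [h2]
  exact Ideal.Quotient.eq_zero_iff_mem.2 h1

theorem finite_of_no_injection {α : Type*} {d : ℕ}
    (h : ∀ f : Fin (d + 1) → α, ¬ Function.Injective f) : Finite α ∧ Nat.card α ≤ d := by
  have hfin : Finite α := by
    by_contra hinf
    rw [not_finite_iff_infinite] at hinf
    exact h (fun i => Infinite.natEmbedding α i.val)
      (fun i j hij => Fin.ext ((Infinite.natEmbedding α).injective hij))
  refine ⟨hfin, ?_⟩
  by_contra hcard
  rw [not_le] at hcard
  haveI := Fintype.ofFinite α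
  rw [Nat.card_eq_fintype_card] at hcard
  obtain ⟨g⟩ := Function.Embedding.nonempty_of_card_le (α := Fin (d + 1)) (β := α)
    (by rw [Fintype.card_fin]; omega)
  exact h g g.injective

/-- the quotient map `K ⊗ B → K ⊗ (B / ker F)` -/
noncomputable def πK (F : B →ₚₗ[A] A) (K : Type u) [CommRing K] [Algebra A K] :
    K ⊗[A] B →ₐ[A] K ⊗[A] PolLaw.image F :=
  Algebra.TensorProduct.map (AlgHom.id A K) (Ideal.Quotient.mkₐ A (PolLaw.ker F))

theorem πK_surjective (F : B →ₚₗ[A] A) (K : Type u) [CommRing K] [Algebra A K] :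
    Function.Surjective (πK F K) := by
  have h := TensorProduct.map_surjective (R := A) (g := (LinearMap.id : K →ₗ[A] K))
    (g' := (Ideal.Quotient.mkₐ A (PolLaw.ker F)).toLinearMap) Function.surjective_id
    (Ideal.Quotient.mkₐ_surjective A (PolLaw.ker F))
  exact h

/-- every prime of `K ⊗ (B / ker F)` is maximal -/
theorem isMaximal_of_isPrime (F : PolLaw.MulLaw A B A d) (K : Type u) [Field K] [Algebra A K]
    (M : Ideal (K ⊗[A] PolLaw.image F.law)) [M.IsPrime] : M.IsMaximal := by
  haveI := image_isIntegral F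
  haveI : Algebra.IsIntegral K (K ⊗[A] PolLaw.image F.law) := inferInstance
  apply Ideal.isMaximal_of_isIntegral_of_isMaximal_comap (R := K) M
  rw [Ideal.eq_bot_of_prime (M.comap (algebraMap K (K ⊗[A] PolLaw.image F.law)))]
  exact Ideal.bot_isMaximal

theorem fibre_card (F : PolLaw.MulLaw A B A d) (K : Type u) [Field K] [Algebra A K] :
    Finite (PrimeSpectrum (K ⊗[A] PolLaw.image F.law)) ∧
      Nat.card (PrimeSpectrum (K ⊗[A] PolLaw.image F.law)) ≤ d := by
  apply finite_of_no_injection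
  intro M hM
  apply false_of_maximal_family F K (fun i => (M i).asIdeal.comap (πK F.law K))
  · intro i
    haveI := isMaximal_of_isPrime F K (M i).asIdeal
    exact Ideal.comap_isMaximal_of_surjective _ (πK_surjective F.law K)
  · intro i j hij
    apply hM
    apply PrimeSpectrum.ext
    exact Ideal.comap_injective_of_surjective _ (πK_surjective F.law K) hij
  · intro i b hb
    rw [Ideal.mem_comap, πK, Algebra.TensorProduct.map_tmul, map_one]
    have : (Ideal.Quotient.mkₐ A (PolLaw.ker F.law)) b = 0 := Ideal.Quotient.eq_zero_iff_mem.2 hb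
    rw [this, TensorProduct.tmul_zero]
    exact zero_mem _

end Groth.Agent.Helper4.CHFibre
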