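import Groth.Agent.Helper4.CHFibre

/-!
# Families of zero-cycles over a field (helper4)
-/

set_option autoImplicit false
universe u
open scoped TensorProduct
open Polynomial

namespace Groth.Agent.Helper4.CHField

open Groth.Agent.Helper4.CHFibre

variable {k : Type u} [Field k] {B : Type u} [CommRing B] [Algebra k B] {d : ℕ}

theorem spec_card (F : PolLaw.MulLaw k B k d) :
    Finite (PrimeSpectrum (PolLaw.image F.law)) ∧ Nat.card (PrimeSpectrum (PolLaw.image F.law)) ≤ d := by
  obtain ⟨h1, h2⟩ := fibre_card F k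
  have e : PrimeSpectrum (k ⊗[k] PolLaw.image F.law) ≃ PrimeSpectrum (PolLaw.image F.law) :=
    (PrimeSpectrum.comapEquiv (Algebra.TensorProduct.lid k (PolLaw.image F.law)).toRingEquiv).toEquiv
  exact ⟨Finite.of_equiv _ e, by rw [← Nat.card_congr e]; exact h2⟩

theorem isMaximal (F : PolLaw.MulLaw k B k d) (P : PrimeSpectrum (PolLaw.image F.law)) :
    P.asIdeal.IsMaximal := by
  haveI := image_isIntegral F
  apply Ideal.isMaximal_of_isIntegral_of_isMaximal_comap (R := k) P.asIdeal
  rw [Ideal.eq_bot_of_prime (P.asIdeal.comap (algebraMap k (PolLaw.image F.law)))]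
  exact Ideal.bot_isMaximal

theorem finite_emb (F : PolLaw.MulLaw k B k d) (P : PrimeSpectrum (PolLaw.image F.law)) :
    Finite (Field.Emb k P.asIdeal.ResidueField) := by
  haveI := isMaximal F P
  obtain ⟨hfin, _⟩ := fibre_card F (AlgebraicClosure P.asIdeal.ResidueField)
  have hq : Function.Surjective
      (IsScalarTower.toAlgHom k (PolLaw.image F.law) P.asIdeal.ResidueField) :=
    Ideal.algebraMap_residueField_surjective P.asIdeal
  let L : Field.Emb k P.asIdeal.ResidueField →
      (AlgebraicClosure P.asIdeal.ResidueField ⊗[k] PolLaw.image F.law →ₐ[AlgebraicClosure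
        P.asIdeal.ResidueField] AlgebraicClosure P.asIdeal.ResidueField) :=
    fun σ => Algebra.TensorProduct.lift (AlgHom.id _ _)
      (σ.comp (IsScalarTower.toAlgHom k (PolLaw.image F.law) P.asIdeal.ResidueField))
      (fun _ _ => Commute.all _ _)
  let Φ : Field.Emb k P.asIdeal.ResidueField →
      PrimeSpectrum (AlgebraicClosure P.asIdeal.ResidueField ⊗[k] PolLaw.image F.law) :=
    fun σ => ⟨RingHom.ker (L σ), RingHom.ker_isPrime _⟩
  apply Finite.of_injective Φ
  intro σ σ' h
  have hk : RingHom.ker (L σ) = RingHom.ker (L σ') := congrArg PrimeSpectrum.asIdeal h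
  apply AlgHom.ext
  intro x
  obtain ⟨y, rfl⟩ := hq x
  have hmem : ((1 : AlgebraicClosure P.asIdeal.ResidueField) ⊗ₜ[k] y -
      (σ (IsScalarTower.toAlgHom k (PolLaw.image F.law) P.asIdeal.ResidueField y)) ⊗ₜ[k]
        (1 : PolLaw.image F.law)) ∈ RingHom.ker (L σ) := by
    simp [L, RingHom.mem_ker]
  rw [hk] at hmem
  simp only [L, RingHom.mem_ker, map_sub, Algebra.TensorProduct.lift_tmul, map_one, one_mul,
    mul_one, AlgHom.coe_id, id_eq, AlgHom.comp_apply, sub_eq_zero] at hmem
  exact hmem.symm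

end Groth.Agent.Helper4.CHField
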