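import Groth.Agent.Helper4.CHFibre

/-!
# Going down for the image of a family of zero-cycles, universally (helper4)
-/

set_option autoImplicit false
universe u
open scoped TensorProduct
open Polynomial

namespace Groth.Agent.Helper4.CHGoingDown

open Groth.Agent.Helper4.PolLaw1 Groth.Agent.Helper4.CHAbs Groth.Agent.Helper4.CH
  Groth.Agent.Helper4.CHRad Groth.Agent.Helper4.ChiMonic Groth.Agent.Helper4.CHFibre
  Groth.Agent.Helper4.KerPoly

variable {A : Type u} [CommRing A] {B : Type u} [CommRing B] [Algebra A B] {d : ℕ}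

/-- scaling the argument of the characteristic polynomial -/
theorem chi_smul_comp (F : PolLaw.MulLaw A B A d) (R : Type u) [CommRing R] [Algebra A R] (c : R)
    (z : R ⊗[A] B) :
    (chi F.law R ((c ⊗ₜ[A] (1 : B)) * z)).comp (C c * X) = C (c ^ d) * chi F.law R z := by
  have e1 : (chi F.law R ((c ⊗ₜ[A] (1 : B)) * z)).comp (C c * X) =
      sbs (A := A) (C c * X) (chi F.law R ((c ⊗ₜ[A] (1 : B)) * z)) := rfl
  rw [e1]
  unfold chi
  rw [← rid_map', ← compat]
  have h1 : Algebra.TensorProduct.map (sbs (A := A) (C c * X : R[X])) (AlgHom.id A B)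
      ((X : R[X]) ⊗ₜ[A] (1 : B) -
        Algebra.TensorProduct.map (Polynomial.CAlgHom (R := A) (A := R)) (AlgHom.id A B)
          ((c ⊗ₜ[A] (1 : B)) * z)) =
      (C c : R[X]) • ((X : R[X]) ⊗ₜ[A] (1 : B) -
        Algebra.TensorProduct.map (Polynomial.CAlgHom (R := A) (A := R)) (AlgHom.id A B) z) := by
    rw [map_sub, Algebra.TensorProduct.map_tmul, ← AlgHom.comp_apply,
      ← Algebra.TensorProduct.map_comp, smul_eq_tmul_one_mul, map_mul,
      Algebra.TensorProduct.map_tmul]
    have h2 : (sbs (A := A) (C c * X : R[X])).comp (Polynomial.CAlgHom (R := A) (A := R)) =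
        Polynomial.CAlgHom (R := A) (A := R) := AlgHom.ext fun s => by simp
    rw [h2]
    simp only [sbs_apply, X_comp, AlgHom.comp_id, map_one, Polynomial.CAlgHom_apply]
    have h3 : ((C c * X : R[X]) ⊗ₜ[A] (1 : B)) =
        ((C c : R[X]) ⊗ₜ[A] (1 : B)) * ((X : R[X]) ⊗ₜ[A] (1 : B)) := by
      rw [Algebra.TensorProduct.tmul_mul_tmul, mul_one]
    rw [h3]
    ring
  rw [h1, F.homog, map_pow]
  exact Groth.Agent.Helper4.CHKer.rid_smul R[X] _ _


theorem ker_mkₐ' {R : Type u} [CommRing R] [Algebra A R] (I : Ideal R) :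
    RingHom.ker (Ideal.Quotient.mkₐ A I) = I := by
  ext x
  rw [RingHom.mem_ker, Ideal.Quotient.mkₐ_eq_mk, Ideal.Quotient.eq_zero_iff_mem]

/-- the kernel of `R ⊗ B → R ⊗ (B / ker F)` -/
theorem ker_πK (F : B →ₚₗ[A] A) (R : Type u) [CommRing R] [Algebra A R] :
    RingHom.ker (πK F R) =
      (PolLaw.ker F).map (Algebra.TensorProduct.includeRight : B →ₐ[A] R ⊗[A] B) := by
  rw [πK, Algebra.TensorProduct.lTensor_ker _ (Ideal.Quotient.mkₐ_surjective A _), ker_mkₐ']

/-- over a domain, the image is torsion free modulo nilpotents -/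
theorem isNilpotent_of_mul (F : PolLaw.MulLaw A B A d) (D : Type u) [CommRing D] [IsDomain D]
    [Algebra A D] (α : D) (hα : α ≠ 0) (y : D ⊗[A] PolLaw.image F.law)
    (h : IsNilpotent ((α ⊗ₜ[A] (1 : PolLaw.image F.law)) * y)) : IsNilpotent y := by
  obtain ⟨y', rfl⟩ := πK_surjective F.law D y
  obtain ⟨n, hn⟩ := h
  have hw : ((α ⊗ₜ[A] (1 : B)) * y') ^ n ∈ RingHom.ker (πK F.law D) := by
    rw [RingHom.mem_ker, map_pow, map_mul]
    have : πK F.law D (α ⊗ₜ[A] (1 : B)) = α ⊗ₜ[A] (1 : PolLaw.image F.law) := by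
      rw [πK, Algebra.TensorProduct.map_tmul, map_one, AlgHom.id_apply]
    rw [this]
    exact hn
  rw [ker_πK] at hw
  have hw' : ((α ^ n) ⊗ₜ[A] (1 : B)) * y' ^ n ∈ PolLaw.kerBC F.law D := by
    have := map_ker_le_kerBC F.law D hw
    rwa [mul_pow, Algebra.TensorProduct.tmul_pow, one_pow] at this
  have h1 := chi_of_mem_kerBC F D hw'
  have h2 := chi_smul_comp F D (α ^ n) (y' ^ n)
  rw [h1] at h2
  have h3 : chi F.law D (y' ^ n) = X ^ d := by
    have hc : (C ((α ^ n) ^ d) : D[X]) ≠ 0 := by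
      rw [Ne, Polynomial.C_eq_zero]
      exact pow_ne_zero _ (pow_ne_zero _ hα)
    apply mul_left_cancel₀ hc
    rw [← h2, Polynomial.X_pow_comp, mul_pow, ← Polynomial.C_pow]
  have h4 : chElt F.law D (y' ^ n) = (y' ^ n) ^ d := by
    rw [chElt, h3, map_pow, evβ, evAt_X]
  have h5 : (y' ^ n) ^ d ∈ PolLaw.kerBC F.law D := by
    rw [← h4]
    exact chElt_mem_kerBC F D _
  obtain ⟨m, hm⟩ := kerBC_le_radical F D h5
  rw [← ker_πK, RingHom.mem_ker] at hm
  exact ⟨n * (d * m), by rw [← hm, map_pow, map_pow, map_pow, ← pow_mul, ← pow_mul]⟩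

/-- **going down** holds for `R → R ⊗ (B / ker F)`, for every `A`-algebra `R` -/
theorem hasGoingDown (F : PolLaw.MulLaw A B A d) (R : Type u) [CommRing R] [Algebra A R] :
    Algebra.HasGoingDown R (R ⊗[A] PolLaw.image F.law) := by
  constructor
  intro p _ Q _ hlt
  have hle : p.map (algebraMap R (R ⊗[A] PolLaw.image F.law)) ≤ Q :=
    Ideal.map_le_iff_le_comap.2 hlt.le
  obtain ⟨P, hP, hPQ⟩ := Ideal.exists_minimalPrimes_le hle
  haveI := hP.1.1
  refine ⟨P, hPQ, hP.1.1, ⟨?_⟩⟩
  apply le_antisymm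
  · intro a ha
    exact hP.1.2 (Ideal.mem_map_of_mem _ ha)
  · intro a ha
    by_contra hap
    have haP : algebraMap R (R ⊗[A] PolLaw.image F.law) a ∈ P := ha
    have hmem : algebraMap R (R ⊗[A] PolLaw.image F.law) a ∈
        ⋃ q ∈ (p.map (algebraMap R (R ⊗[A] PolLaw.image F.law))).minimalPrimes,
          (q : Set (R ⊗[A] PolLaw.image F.law)) := Set.mem_biUnion hP haP
    rw [Ideal.iUnion_minimalPrimes] at hmem
    obtain ⟨y, hy, hay⟩ := hmem
    apply hy
    have hker : RingHom.ker (Algebra.TensorProduct.map (Ideal.Quotient.mkₐ A p)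
        (AlgHom.id A (PolLaw.image F.law))) =
        p.map (algebraMap R (R ⊗[A] PolLaw.image F.law)) := by
      rw [Algebra.TensorProduct.rTensor_ker _ (Ideal.Quotient.mkₐ_surjective A p), ker_mkₐ']
      rfl
    obtain ⟨n, hn⟩ := hay
    have h1 : IsNilpotent (((Ideal.Quotient.mk p a) ⊗ₜ[A] (1 : PolLaw.image F.law)) *
        (Algebra.TensorProduct.map (Ideal.Quotient.mkₐ A p)
          (AlgHom.id A (PolLaw.image F.law))) y) := by
      refine ⟨n, ?_⟩
      have h0 : (Algebra.TensorProduct.map (Ideal.Quotient.mkₐ A p)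
          (AlgHom.id A (PolLaw.image F.law)))
          ((algebraMap R (R ⊗[A] PolLaw.image F.law) a * y) ^ n) = 0 := by
        rw [← RingHom.mem_ker, hker]
        exact hn
      rw [map_pow, map_mul, Algebra.TensorProduct.algebraMap_apply, Algebra.algebraMap_self,
        RingHom.id_apply, Algebra.TensorProduct.map_tmul, map_one] at h0
      exact h0
    have h2 := isNilpotent_of_mul F (R ⧸ p) (Ideal.Quotient.mk p a)
      (by rwa [Ne, Ideal.Quotient.eq_zero_iff_mem]) _ h1
    obtain ⟨m, hm⟩ := h2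
    refine ⟨m, ?_⟩
    rw [← hker, RingHom.mem_ker, map_pow]
    exact hm


/-- going down transfers along an isomorphism of algebras -/
theorem hasGoingDown_of_algEquiv {R S S' : Type*} [CommRing R] [CommRing S] [CommRing S']
    [Algebra R S] [Algebra R S'] (e : S ≃ₐ[R] S') [Algebra.HasGoingDown R S] :
    Algebra.HasGoingDown R S' := by
  constructor
  intro p _ Q _ hlt
  haveI : (Q.comap (e : S →+* S')).IsPrime := Ideal.comap_isPrime _ _
  have hu : (Q.comap (e : S →+* S')).under R = Q.under R := by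
    ext a
    simp only [Ideal.under_def, Ideal.mem_comap]
    have : (e : S →+* S') (algebraMap R S a) = algebraMap R S' a := e.commutes a
    rw [this]
  obtain ⟨P', hP'Q, hP', hover⟩ :=
    Algebra.HasGoingDown.exists_ideal_le_liesOver_of_lt (p := p) (Q.comap (e : S →+* S'))
      (by rw [hu]; exact hlt)
  refine ⟨P'.comap (e.symm : S' →+* S), ?_, Ideal.comap_isPrime _ _, ⟨?_⟩⟩
  · intro x hx
    have h1 : (e.symm : S' →+* S) x ∈ Q.comap (e : S →+* S') := hP'Q hx
    rw [Ideal.mem_comap] at h1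
    have h2 : (e : S →+* S') ((e.symm : S' →+* S) x) = x := e.apply_symm_apply x
    rwa [h2] at h1
  · rw [hover.over]
    ext a
    simp only [Ideal.under_def, Ideal.mem_comap]
    have : (e.symm : S' →+* S) (algebraMap R S' a) = algebraMap R S a := e.symm.commutes a
    rw [this]

/-- going down for `A → B / ker F` -/
theorem hasGoingDown_image (F : PolLaw.MulLaw A B A d) :
    Algebra.HasGoingDown A (PolLaw.image F.law) := by
  haveI := hasGoingDown F A
  exact hasGoingDown_of_algEquiv (Algebra.TensorProduct.lid A (PolLaw.image F.law))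

end Groth.Agent.Helper4.CHGoingDown
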