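import Groth.Agent.Helper4.FreeLaw

/-!
# The pencil `X ⊗ m₁ + 1 ⊗ m₂` of a homogeneous law (helper4)
-/

set_option autoImplicit false
universe u
open scoped TensorProduct
open Polynomial

namespace Groth.Agent.Helper4.Pencil

open Groth.Agent.Helper4.GammaSpan Groth.Agent.Helper4.FreeLaw

variable {A : Type u} [CommRing A] {B : Type u} [CommRing B] [Algebra A B]

abbrev I2 : Type u := ULift.{u} (Fin 2)

theorem sum_I2 {M : Type*} [AddCommMonoid M] (f : I2.{u} → M) : ∑ i, f i = f ⟨0⟩ + f ⟨1⟩ := by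
  rw [← Equiv.sum_comp (Equiv.ulift.symm : Fin 2 ≃ I2.{u}), Fin.sum_univ_two]
  rfl

theorem prod_I2 {M : Type*} [CommMonoid M] (f : I2.{u} → M) : ∏ i, f i = f ⟨0⟩ * f ⟨1⟩ := by
  rw [← Equiv.prod_comp (Equiv.ulift.symm : Fin 2 ≃ I2.{u}), Fin.prod_univ_two]
  rfl

theorem ext_I2 {ν ν' : I2.{u} →₀ ℕ} (h0 : ν ⟨0⟩ = ν' ⟨0⟩) (h1 : ν ⟨1⟩ = ν' ⟨1⟩) : ν = ν' := by
  ext ⟨i⟩
  fin_cases i
  · exact h0
  · exact h1

theorem degree_I2 (ν : I2.{u} →₀ ℕ) : ν.degree = ν ⟨0⟩ + ν ⟨1⟩ := by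
  rw [Finsupp.degree_eq_sum, sum_I2]

theorem pow_I2 {S : Type*} [CommSemiring S] (s : I2.{u} → S) (ν : I2.{u} →₀ ℕ) :
    (ν.prod fun i k => s i ^ k) = s ⟨0⟩ ^ ν ⟨0⟩ * s ⟨1⟩ ^ ν ⟨1⟩ := by
  rw [Finsupp.prod_fintype _ _ (fun i => pow_zero _), prod_I2]

section pencil

variable (G : B →ₚₗ[A] A) {d : ℕ} (hG : PolLaw.IsHomog G d) (m₁ m₂ : B)

/-- the two-element family -/
def e2 : I2.{u} → B := fun i => ![m₁, m₂] i.down

theorem genJ_e2 (S : Type u) [CommSemiring S] [Algebra A S] (s : I2.{u} → S) :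
    genJ (e2 m₁ m₂) S Finset.univ s = s ⟨0⟩ ⊗ₜ[A] m₁ + s ⟨1⟩ ⊗ₜ[A] m₂ := by
  rw [genJ, sum_I2]
  rfl

/-- the multi-index `(d, 0)` -/
noncomputable def νd (d : ℕ) : I2.{u} →₀ ℕ := Finsupp.single ⟨0⟩ d

theorem νd_zero (d : ℕ) : νd.{u} d ⟨0⟩ = d := by simp [νd]
theorem νd_one (d : ℕ) : νd.{u} d ⟨1⟩ = 0 := by
  rw [νd, Finsupp.single_apply, if_neg]
  intro h
  have := congrArg ULift.down h
  simp at this

include hG in
theorem key : ∃ t : Finset (I2.{u} →₀ ℕ), νd d ∈ t ∧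
    (∀ (S : Type u) [CommSemiring S] [Algebra A S] (s : I2.{u} → S),
      G.toFun' S (s ⟨0⟩ ⊗ₜ[A] m₁ + s ⟨1⟩ ⊗ₜ[A] m₂) =
        ∑ ν ∈ t, (s ⟨0⟩ ^ ν ⟨0⟩ * s ⟨1⟩ ^ ν ⟨1⟩) ⊗ₜ[A] cJ (e2 m₁ m₂) G Finset.univ ν) ∧
    ∀ ν ∈ t, ν ≠ νd d → (ν ⟨1⟩ = 0 ∨ ν ⟨0⟩ = d ∨ d < ν ⟨0⟩) → cJ (e2 m₁ m₂) G Finset.univ ν = 0 := by
  classical
  obtain ⟨t, ht⟩ := exists_expansion (e2 m₁ m₂) G Finset.univ
  refine ⟨t ∪ {νd d}, Finset.mem_union_right _ (Finset.mem_singleton_self _), ?_, ?_⟩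
  · intro S _ _ s
    rw [← genJ_e2, ht _ Finset.subset_union_left S s]
    refine Finset.sum_congr rfl fun ν _ => ?_
    rw [pow_I2]
  · intro ν _ hν hcase
    apply cJ_eq_zero_of_degree (e2 m₁ m₂) G hG
    rw [degree_I2]
    intro hdeg
    apply hν
    rcases hcase with h | h | h
    · exact ext_I2 (by rw [νd_zero]; omega) (by rw [νd_one]; exact h)
    · exact ext_I2 (by rw [νd_zero]; exact h) (by rw [νd_one]; omega)
    · omega

/-- the pencil polynomial -/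
noncomputable def Q : A[X] :=
  TensorProduct.rid A A[X] (G.toFun' A[X] ((X : A[X]) ⊗ₜ[A] m₁ + (1 : A[X]) ⊗ₜ[A] m₂))

include hG in
theorem coeff_Q : (∀ k, d < k → (Q G m₁ m₂).coeff k = 0) ∧
    (Q G m₁ m₂).coeff d = TensorProduct.rid A A (G.toFun' A ((1 : A) ⊗ₜ[A] m₁)) := by
  classical
  obtain ⟨t, hνd, hexp, hzero⟩ := key G hG m₁ m₂
  have hQ : Q G m₁ m₂ = ∑ ν ∈ t, cJ (e2 m₁ m₂) G Finset.univ ν • (X : A[X]) ^ ν ⟨0⟩ := by
    have := hexp A[X] (fun i => ![(X : A[X]), 1] i.down)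
    simp only [Matrix.cons_val_zero, Matrix.cons_val_one] at this
    rw [Q, this, map_sum]
    refine Finset.sum_congr rfl fun ν _ => ?_
    rw [TensorProduct.rid_tmul, one_pow, mul_one]
  have hcoeff : ∀ k, (Q G m₁ m₂).coeff k =
      ∑ ν ∈ t, if ν ⟨0⟩ = k then cJ (e2 m₁ m₂) G Finset.univ ν else 0 := by
    intro k
    rw [hQ, Polynomial.finset_sum_coeff]
    refine Finset.sum_congr rfl fun ν _ => ?_
    rw [Polynomial.coeff_smul, Polynomial.coeff_X_pow, smul_eq_mul]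
    split_ifs with h1 h2 h2
    · rw [mul_one]
    · exact absurd h1.symm h2
    · exact absurd h2.symm h1
    · rw [mul_zero]
  constructor
  · intro k hk
    rw [hcoeff]
    apply Finset.sum_eq_zero
    intro ν hν
    split_ifs with h
    · apply hzero ν hν
      · intro hνeq
        rw [hνeq, νd_zero] at h
        omega
      · right; right; omega
    · rfl
  · have h1 : (Q G m₁ m₂).coeff d = cJ (e2 m₁ m₂) G Finset.univ (νd d) := by
      rw [hcoeff, Finset.sum_eq_single (νd d)]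
      · rw [if_pos (νd_zero d)]
      · intro ν hν hne
        split_ifs with h
        · exact hzero ν hν hne (Or.inr (Or.inl h))
        · rfl
      · intro h; exact absurd hνd h
    have h2 := hexp A (fun i => ![(1 : A), 0] i.down)
    simp only [Matrix.cons_val_zero, Matrix.cons_val_one] at h2
    rw [TensorProduct.zero_tmul, add_zero] at h2
    rw [h1, h2, map_sum, Finset.sum_eq_single (νd d)]
    · rw [νd_zero, νd_one, one_pow, pow_zero, mul_one, TensorProduct.rid_tmul, smul_eq_mul, mul_one]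
    · intro ν hν hne
      rw [TensorProduct.rid_tmul, one_pow, one_mul]
      by_cases h : ν ⟨1⟩ = 0
      · rw [hzero ν hν hne (Or.inl h), zero_smul]
      · rw [zero_pow h, smul_zero]
    · intro h; exact absurd hνd h

end pencil

end Groth.Agent.Helper4.Pencil
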