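import Groth.Agent.Helper4.CH
import Groth.Agent.Helper4.Pencil

/-!
# Consequences of Cayley–Hamilton for the kernel of a multiplicative law (helper4)
-/

set_option autoImplicit false
universe u
open scoped TensorProduct
open Polynomial

namespace Groth.Agent.Helper4.CHKer

open Groth.Agent.Helper4.PolLaw1 Groth.Agent.Helper4.CHAbs Groth.Agent.Helper4.CH

variable {A : Type u} [CommRing A] {B : Type u} [CommRing B] [Algebra A B] {d : ℕ}

/-- the characteristic polynomial of `b : B` -/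
noncomputable def chiB (F : B →ₚₗ[A] A) (b : B) : A[X] := chi F A ((1 : A) ⊗ₜ[A] b)

theorem chi_one_tmul (F : B →ₚₗ[A] A) (R : Type u) [CommRing R] [Algebra A R] (b : B) :
    chi F R ((1 : R) ⊗ₜ[A] b) = (chiB F b).map (algebraMap A R) := by
  have h := chi_map F (Algebra.ofId A R) ((1 : A) ⊗ₜ[A] b)
  rw [Algebra.TensorProduct.map_tmul, map_one, AlgHom.id_apply] at h
  rw [h]
  rfl

theorem evβ_one_tmul (R : Type u) [CommRing R] [Algebra A R] (b : B) (q : A[X]) :
    evβ R ((1 : R) ⊗ₜ[A] b) (q.map (algebraMap A R)) = (1 : R) ⊗ₜ[A] (Polynomial.aeval b q) := by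
  rw [evβ, evAt_apply, Polynomial.eval₂_map]
  have h1 : (1 : R) ⊗ₜ[A] (Polynomial.aeval b q) =
      (Algebra.TensorProduct.includeRight : B →ₐ[A] R ⊗[A] B) (Polynomial.aeval b q) := rfl
  rw [h1, ← Polynomial.aeval_algHom_apply, Polynomial.aeval_def]
  congr 1

theorem chElt_one_tmul (F : B →ₚₗ[A] A) (R : Type u) [CommRing R] [Algebra A R] (b : B) :
    chElt F R ((1 : R) ⊗ₜ[A] b) = (1 : R) ⊗ₜ[A] (Polynomial.aeval b (chiB F b)) := by
  rw [chElt, chi_one_tmul, evβ_one_tmul]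

/-- **Cayley–Hamilton**: `χ_b(b) ∈ ker F`. -/
theorem aeval_chiB_mem_ker (F : PolLaw.MulLaw A B A d) (b : B) :
    Polynomial.aeval b (chiB F.law b) ∈ PolLaw.ker F.law := by
  intro S _ _ x w
  obtain ⟨n, ψ, p, q, rfl, rfl⟩ := exists_lift₂ x w
  have h := CH.CH F (MvPolynomial (Fin n) A) ((1 : MvPolynomial (Fin n) A) ⊗ₜ[A] b) p q
  rw [chElt_one_tmul] at h
  have h2 := congrArg (Algebra.TensorProduct.map ψ (AlgHom.id A A)) h
  rw [← compat, ← compat, map_add, map_mul, Algebra.TensorProduct.map_tmul, map_one,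
    AlgHom.id_apply] at h2
  exact h2

/-- the characteristic polynomial of an element of the kernel is `X ^ d` -/
theorem chiB_of_mem_ker (F : PolLaw.MulLaw A B A d) {b : B} (hb : b ∈ PolLaw.ker F.law) :
    chiB F.law b = X ^ d := by
  unfold chiB chi
  have h1 : (X : A[X]) ⊗ₜ[A] (1 : B) -
      Algebra.TensorProduct.map (Polynomial.CAlgHom (R := A) (A := A)) (AlgHom.id A B)
        ((1 : A) ⊗ₜ[A] b) =
      (X : A[X]) ⊗ₜ[A] (1 : B) + (-1 : A[X] ⊗[A] B) * ((1 : A[X]) ⊗ₜ[A] b) := by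
    rw [Algebra.TensorProduct.map_tmul, map_one, AlgHom.id_apply]
    ring
  rw [h1, hb A[X] _ _]
  have h2 : (X : A[X]) ⊗ₜ[A] (1 : B) = (X : A[X]) • (1 : A[X] ⊗[A] B) := by
    rw [Algebra.TensorProduct.one_def, TensorProduct.smul_tmul', smul_eq_mul, mul_one]
  rw [h2, F.homog, (F.mult _).1, Algebra.TensorProduct.one_def, TensorProduct.smul_tmul',
    smul_eq_mul, mul_one]
  simp

theorem rid_smul (R : Type u) [CommRing R] [Algebra A R] (s : R) (w : R ⊗[A] A) :
    TensorProduct.rid A R (s • w) = s * TensorProduct.rid A R w := by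
  induction w using TensorProduct.induction_on with
  | zero => simp
  | tmul p a => simp [TensorProduct.smul_tmul']
  | add x y hx hy => rw [smul_add, map_add, map_add, hx, hy, mul_add]

/-- the characteristic polynomial with the other sign convention -/
theorem rid_sub_eq (F : PolLaw.MulLaw A B A d) (b : B) :
    TensorProduct.rid A A[X] (F.law.toFun' A[X] ((1 : A[X]) ⊗ₜ[A] b - X ⊗ₜ[A] (1 : B))) =
      (-1) ^ d * chiB F.law b := by
  have h1 : (1 : A[X]) ⊗ₜ[A] b - (X : A[X]) ⊗ₜ[A] (1 : B) =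
      (-1 : A[X]) • ((X : A[X]) ⊗ₜ[A] (1 : B) -
        Algebra.TensorProduct.map (Polynomial.CAlgHom (R := A) (A := A)) (AlgHom.id A B)
          ((1 : A) ⊗ₜ[A] b)) := by
    rw [Algebra.TensorProduct.map_tmul, map_one, AlgHom.id_apply]
    rw [smul_eq_tmul_one_mul, TensorProduct.neg_tmul, ← Algebra.TensorProduct.one_def]
    ring
  rw [h1, F.homog, rid_smul]
  rfl

theorem chiB_eq_Q (F : B →ₚₗ[A] A) (b : B) :
    chiB F b = Groth.Agent.Helper4.Pencil.Q F 1 (-b) := by
  unfold chiB chi Groth.Agent.Helper4.Pencil.Q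
  rw [Algebra.TensorProduct.map_tmul, map_one, AlgHom.id_apply, TensorProduct.tmul_neg,
    ← sub_eq_add_neg]
  rfl

theorem natDegree_chiB_le (F : PolLaw.MulLaw A B A d) (b : B) : (chiB F.law b).natDegree ≤ d := by
  rw [chiB_eq_Q, Polynomial.natDegree_le_iff_coeff_eq_zero]
  exact (Groth.Agent.Helper4.Pencil.coeff_Q F.law F.homog 1 (-b)).1

theorem coeff_chiB (F : PolLaw.MulLaw A B A d) (b : B) : (chiB F.law b).coeff d = 1 := by
  rw [chiB_eq_Q, (Groth.Agent.Helper4.Pencil.coeff_Q F.law F.homog 1 (-b)).2,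
    ← Algebra.TensorProduct.one_def, (F.mult A).1, Algebra.TensorProduct.one_def,
    TensorProduct.rid_tmul, one_smul]

theorem chiB_monic (F : PolLaw.MulLaw A B A d) (b : B) : (chiB F.law b).Monic :=
  Polynomial.monic_of_natDegree_le_of_coeff_eq_one d (natDegree_chiB_le F b) (coeff_chiB F b)

end Groth.Agent.Helper4.CHKer
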