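import Groth.Agent.Helper4.CHGoingDown

/-!
# The image of a family of zero-cycles is universally open over the base (helper4)
-/

set_option autoImplicit false
universe u
open scoped TensorProduct
open Polynomial

namespace Groth.Agent.Helper4.CHOpen

open Groth.Agent.Helper4.PolLaw1 Groth.Agent.Helper4.CHAbs Groth.Agent.Helper4.CH
  Groth.Agent.Helper4.CHRad Groth.Agent.Helper4.ChiMonic Groth.Agent.Helper4.CHFibre
  Groth.Agent.Helper4.KerPoly Groth.Agent.Helper4.CHGoingDown

variable {A : Type u} [CommRing A] {B : Type u} [CommRing B] [Algebra A B] {d : ℕ}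

/-- substitution in the characteristic polynomial -/
theorem chi_comp (F : B →ₚₗ[A] A) (R : Type u) [CommRing R] [Algebra A R] (β : R ⊗[A] B)
    (q : R[X]) :
    (chi F R β).comp q = Algebra.TensorProduct.rid A A R[X] (F.toFun' R[X] (q ⊗ₜ[A] (1 : B) -
      Algebra.TensorProduct.map (Polynomial.CAlgHom (R := A) (A := R)) (AlgHom.id A B) β)) := by
  have e1 : (chi F R β).comp q = sbs (A := A) q (chi F R β) := rfl
  rw [e1]
  unfold chi
  rw [← rid_map', ← compat, map_sub, Algebra.TensorProduct.map_tmul, ← AlgHom.comp_apply,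
    ← Algebra.TensorProduct.map_comp]
  have h2 : (sbs (A := A) q).comp (Polynomial.CAlgHom (R := A) (A := R)) =
      Polynomial.CAlgHom (R := A) (A := R) := AlgHom.ext fun s => by simp
  rw [h2]
  simp only [sbs_apply, X_comp, AlgHom.comp_id, map_one]

/-- over a domain, `χ_{y²} = X^d` implies `χ_y = X^d` -/
theorem chi_eq_of_sq (F : PolLaw.MulLaw A B A d) (D : Type u) [CommRing D] [IsDomain D]
    [Algebra A D] (y : D ⊗[A] B) (h : chi F.law D (y * y) = X ^ d) : chi F.law D y = X ^ d := by
  have h1 := chi_comp F.law D (y * y) (X ^ 2)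
  rw [h, Polynomial.X_pow_comp, ← pow_mul] at h1
  have h2 : ((X : D[X]) ^ 2) ⊗ₜ[A] (1 : B) -
      Algebra.TensorProduct.map (Polynomial.CAlgHom (R := A) (A := D)) (AlgHom.id A B) (y * y) =
      ((X : D[X]) ⊗ₜ[A] (1 : B) -
        Algebra.TensorProduct.map (Polynomial.CAlgHom (R := A) (A := D)) (AlgHom.id A B) y) *
      ((X : D[X]) ⊗ₜ[A] (1 : B) +
        Algebra.TensorProduct.map (Polynomial.CAlgHom (R := A) (A := D)) (AlgHom.id A B) y) := by
    rw [map_mul]
    have : ((X : D[X]) ^ 2) ⊗ₜ[A] (1 : B) =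
        ((X : D[X]) ⊗ₜ[A] (1 : B)) * ((X : D[X]) ⊗ₜ[A] (1 : B)) := by
      rw [Algebra.TensorProduct.tmul_mul_tmul, mul_one, pow_two]
    rw [this]
    ring
  rw [h2, (F.mult D[X]).2, map_mul] at h1
  have hdvd : chi F.law D y ∣ X ^ (2 * d) := ⟨_, h1⟩
  obtain ⟨i, _, hi⟩ := (dvd_prime_pow Polynomial.prime_X _).1 hdvd
  have hi' : chi F.law D y = X ^ i :=
    Polynomial.eq_of_monic_of_associated (chi_monic F D y) (Polynomial.monic_X_pow i) hi
  have hc := coeff_chi F D y
  rw [hi', Polynomial.coeff_X_pow] at hc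
  by_cases hdi : d = i
  · rw [hi', hdi]
  · rw [if_neg hdi] at hc
    exact absurd hc zero_ne_one


/-- over a domain, an element nilpotent modulo the kernel has characteristic polynomial `X^d` -/
theorem chi_eq_of_isNilpotent (F : PolLaw.MulLaw A B A d) (D : Type u) [CommRing D] [IsDomain D]
    [Algebra A D] (z : D ⊗[A] B) (h : IsNilpotent (πK F.law D z)) : chi F.law D z = X ^ d := by
  obtain ⟨N, hN⟩ := h
  have h1 : z ^ N ∈ PolLaw.kerBC F.law D := by
    apply map_ker_le_kerBC F.law D
    rw [← ker_πK, RingHom.mem_ker, map_pow]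
    exact hN
  have h2 : z ^ (2 ^ N) ∈ PolLaw.kerBC F.law D := by
    have hle : N ≤ 2 ^ N := Nat.lt_two_pow_self.le
    rw [← Nat.sub_add_cancel hle, pow_add]
    exact Ideal.mul_mem_left _ _ h1
  have h3 : ∀ j, j ≤ N → chi F.law D (z ^ (2 ^ (N - j))) = X ^ d := by
    intro j
    induction j with
    | zero =>
      intro _
      exact chi_of_mem_kerBC F D h2
    | succ j ih =>
      intro hj
      apply chi_eq_of_sq F D
      rw [← pow_add, ← two_mul, ← pow_succ']
      have : N - (j + 1) + 1 = N - j := by omega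
      rw [this]
      exact ih (by omega)
  have := h3 N le_rfl
  rwa [Nat.sub_self, pow_zero, pow_one] at this

/-- compatibility of the quotient maps with change of base -/
theorem πK_map (F : B →ₚₗ[A] A) {R R' : Type u} [CommRing R] [Algebra A R] [CommRing R']
    [Algebra A R'] (ψ : R →ₐ[A] R') (z : R ⊗[A] B) :
    πK F R' (Algebra.TensorProduct.map ψ (AlgHom.id A B) z) =
      Algebra.TensorProduct.map ψ (AlgHom.id A (PolLaw.image F)) (πK F R z) := by
  induction z using TensorProduct.induction_on with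
  | zero => simp
  | tmul r b => simp [πK]
  | add z₁ z₂ h₁ h₂ => simp only [map_add, h₁, h₂]


theorem πK_tmul_one (F : B →ₚₗ[A] A) (R : Type u) [CommRing R] [Algebra A R] (r : R) :
    πK F R (r ⊗ₜ[A] (1 : B)) = algebraMap R (R ⊗[A] PolLaw.image F) r := by
  rw [πK, Algebra.TensorProduct.map_tmul, map_one, AlgHom.id_apply,
    Algebra.TensorProduct.algebraMap_apply, Algebra.algebraMap_self, RingHom.id_apply]

/-- the image of `χ_z(z)` in `R ⊗ (B / ker F)` -/
theorem πK_chElt (F : PolLaw.MulLaw A B A d) (R : Type u) [CommRing R] [Algebra A R]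
    (z : R ⊗[A] B) :
    πK F.law R (chElt F.law R z) = (πK F.law R z) ^ d +
      ∑ i ∈ Finset.range d, algebraMap R (R ⊗[A] PolLaw.image F.law) ((chi F.law R z).coeff i) *
        (πK F.law R z) ^ i := by
  rw [chElt, evβ, evAt_apply, ← AlgHom.coe_toRingHom (πK F.law R), Polynomial.hom_eval₂,
    Polynomial.eval₂_eq_sum_range' _ (Nat.lt_succ_of_le (natDegree_chi_le F R z)),
    Finset.sum_range_succ, coeff_chi, add_comm]
  congr 1
  simp only [RingHom.coe_comp, RingHom.coe_coe, Function.comp_apply]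
  rw [map_one, map_one, one_mul]

theorem isNilpotent_πK_chElt (F : PolLaw.MulLaw A B A d) (R : Type u) [CommRing R] [Algebra A R]
    (z : R ⊗[A] B) : IsNilpotent (πK F.law R (chElt F.law R z)) := by
  obtain ⟨n, hn⟩ := kerBC_le_radical F R (chElt_mem_kerBC F R z)
  rw [← ker_πK, RingHom.mem_ker, map_pow] at hn
  exact ⟨n, hn⟩

/-- the image of a basic open set is the union of the basic open sets of the lower coefficients of
the characteristic polynomial -/
theorem image_basicOpen (F : PolLaw.MulLaw A B A d) (R : Type u) [CommRing R] [Algebra A R]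
    (z : R ⊗[A] B) :
    PrimeSpectrum.comap (algebraMap R (R ⊗[A] PolLaw.image F.law)) ''
      (PrimeSpectrum.basicOpen (πK F.law R z) : Set (PrimeSpectrum (R ⊗[A] PolLaw.image F.law))) =
      ⋃ i ∈ Finset.range d,
        (PrimeSpectrum.basicOpen ((chi F.law R z).coeff i) : Set (PrimeSpectrum R)) := by
  ext p
  simp only [Set.mem_image, Set.mem_iUnion, SetLike.mem_coe, PrimeSpectrum.mem_basicOpen,
    exists_prop]
  constructor
  · rintro ⟨Q, hQ, rfl⟩
    by_contra hcon
    simp only [not_exists, not_and, not_not] at hcon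
    apply hQ
    have h1 : πK F.law R (chElt F.law R z) ∈ Q.asIdeal := by
      obtain ⟨n, hn⟩ := isNilpotent_πK_chElt F R z
      apply Q.2.mem_of_pow_mem n
      rw [hn]
      exact zero_mem _
    rw [πK_chElt] at h1
    have h2 : ∑ i ∈ Finset.range d,
        algebraMap R (R ⊗[A] PolLaw.image F.law) ((chi F.law R z).coeff i) *
          (πK F.law R z) ^ i ∈ Q.asIdeal := by
      refine Ideal.sum_mem _ fun i hi => ?_
      apply Ideal.mul_mem_right
      exact hcon i hi
    have h3 := (Ideal.add_mem_iff_left _ h2).1 h1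
    exact Q.2.mem_of_pow_mem d h3
  · rintro ⟨i, hi, hci⟩
    haveI := hasGoingDown F R
    -- the fibre over `p`
    have hnil : ¬ IsNilpotent (πK F.law (R ⧸ p.asIdeal)
        (Algebra.TensorProduct.map (Ideal.Quotient.mkₐ A p.asIdeal) (AlgHom.id A B) z)) := by
      intro hnil
      have h1 := chi_eq_of_isNilpotent F (R ⧸ p.asIdeal) _ hnil
      rw [chi_map] at h1
      have h2 := congrArg (fun q => q.coeff i) h1
      simp only [Polynomial.coeff_map, Polynomial.coeff_X_pow] at h2
      rw [if_neg (by have := Finset.mem_range.1 hi; omega)] at h2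
      apply hci
      exact Ideal.Quotient.eq_zero_iff_mem.1 h2
    have hmem : πK F.law (R ⧸ p.asIdeal)
        (Algebra.TensorProduct.map (Ideal.Quotient.mkₐ A p.asIdeal) (AlgHom.id A B) z) ∉
        nilradical ((R ⧸ p.asIdeal) ⊗[A] PolLaw.image F.law) := hnil
    rw [nilradical_eq_sInf, Ideal.mem_sInf] at hmem
    simp only [not_forall] at hmem
    obtain ⟨QD, hQD, hzQD⟩ := hmem
    haveI : QD.IsPrime := hQD
    -- pull back to `R ⊗ (B / ker F)`
    set τ := Algebra.TensorProduct.map (Ideal.Quotient.mkₐ A p.asIdeal)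
      (AlgHom.id A (PolLaw.image F.law)) with hτ
    have hzQ : πK F.law R z ∉ QD.comap τ := by
      rw [Ideal.mem_comap, hτ, ← πK_map]
      exact hzQD
    have hle : p.asIdeal ≤ (QD.comap τ).under R := by
      intro a ha
      rw [Ideal.under_def, Ideal.mem_comap, Ideal.mem_comap, hτ,
        Algebra.TensorProduct.algebraMap_apply, Algebra.algebraMap_self, RingHom.id_apply,
        Algebra.TensorProduct.map_tmul, Ideal.Quotient.mkₐ_eq_mk,
        Ideal.Quotient.eq_zero_iff_mem.2 ha, TensorProduct.zero_tmul]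
      exact zero_mem _
    obtain ⟨P, hPQ, hPprime, hPover⟩ :=
      Ideal.exists_ideal_le_liesOver_of_le (p := p.asIdeal) (q := (QD.comap τ).under R)
        (QD.comap τ) hle
    refine ⟨⟨P, hPprime⟩, fun h => hzQ (hPQ h), ?_⟩
    apply PrimeSpectrum.ext
    exact hPover.over.symm

theorem isOpenMap_comap (F : PolLaw.MulLaw A B A d) (R : Type u) [CommRing R] [Algebra A R] :
    IsOpenMap (PrimeSpectrum.comap (algebraMap R (R ⊗[A] PolLaw.image F.law))) := by
  rw [PrimeSpectrum.isTopologicalBasis_basic_opens.isOpenMap_iff]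
  rintro _ ⟨f, rfl⟩
  obtain ⟨z, rfl⟩ := πK_surjective F.law R f
  rw [image_basicOpen]
  exact isOpen_biUnion fun i _ => (PrimeSpectrum.basicOpen _).isOpen

end Groth.Agent.Helper4.CHOpen
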