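import Groth.Agent.Helper4.CHOpen

/-!
# `Spec (B / ker F) → Spec A` is universally open (helper4)
-/

set_option autoImplicit false
universe u
open scoped TensorProduct
open CategoryTheory CategoryTheory.Limits AlgebraicGeometry CategoryTheory.MorphismProperty

namespace Groth.Agent.Helper4.CHOpenScheme

open Groth.Agent.Helper4.CHOpen

variable {A : Type u} [CommRing A] {B : Type u} [CommRing B] [Algebra A B] {d : ℕ}

theorem universallyOpen (F : PolLaw.MulLaw A B A d) :
    UniversallyOpen (Spec.map (CommRingCat.ofHom (algebraMap A (PolLaw.image F.law)))) := by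
  refine ⟨universally_mk' _ _ fun {T} g _ ↦ ?_⟩
  wlog hT : ∃ R, T = Spec R generalizing T
  · refine (IsZariskiLocalAtTarget.iff_of_openCover T.affineCover).mpr fun i ↦ ?_
    refine (MorphismProperty.cancel_left_of_respectsIso _
      ((pullbackRightPullbackFstIso ..).inv ≫ (pullbackSymmetry ..).hom) _).mp ?_
    simpa [Scheme.Cover.pullbackHom] using! this _ _ ⟨_, rfl⟩
  obtain ⟨R, rfl⟩ := hT
  obtain ⟨ψ, rfl⟩ := Spec.map_surjective g
  algebraize [ψ.hom]
  refine (MorphismProperty.cancel_left_of_respectsIso _
    (pullbackSpecIso A R (PolLaw.image F.law)).inv _).mp ?_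
  convert_to! topologically _
    (Spec.map <| CommRingCat.ofHom (algebraMap R (TensorProduct A R (PolLaw.image F.law))))
  · exact pullbackSpecIso_inv_fst ..
  exact isOpenMap_comap F R

end Groth.Agent.Helper4.CHOpenScheme
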