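import Groth.Agent.Helper4.KerLim

/-!
# The kernel of a law after base change to a polynomial ring in several variables (helper4)

Kronecker substitution `X_i ↦ T ^ (N ^ i)` reduces to the one-variable case `KerPoly`.
-/

set_option autoImplicit false
universe u
open scoped TensorProduct
open Polynomial

namespace Groth.Agent.Helper4.KerMv

open Groth.Agent.Helper4.PolLaw1 Groth.Agent.Helper4.KerPoly Groth.Agent.Helper4.KerLim

variable {A : Type u} [CommRing A] {B : Type u} [CommRing B] [Algebra A B]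

/-- every tensor over a polynomial ring is a finite sum of `monomial ⊗ coefficient` -/
theorem exists_decomp_mv {n : ℕ} (y : MvPolynomial (Fin n) A ⊗[A] B) :
    ∃ c : (Fin n →₀ ℕ) →₀ B,
      y = c.sum fun α b => (MvPolynomial.monomial α (1 : A)) ⊗ₜ[A] b := by
  induction y using TensorProduct.induction_on with
  | zero => exact ⟨0, by simp⟩
  | tmul p b =>
    induction p using MvPolynomial.induction_on' with
    | monomial α a =>
      refine ⟨Finsupp.single α (a • b), ?_⟩
      rw [Finsupp.sum_single_index (by simp), ← TensorProduct.smul_tmul, MvPolynomial.smul_monomial,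
        smul_eq_mul, mul_one]
    | add p q hp hq =>
      obtain ⟨c₁, h₁⟩ := hp
      obtain ⟨c₂, h₂⟩ := hq
      refine ⟨c₁ + c₂, ?_⟩
      rw [TensorProduct.add_tmul, h₁, h₂]
      exact (Finsupp.sum_add_index' (by simp) (fun _ _ _ => TensorProduct.tmul_add _ _ _)).symm
  | add y₁ y₂ h₁ h₂ =>
    obtain ⟨c₁, rfl⟩ := h₁
    obtain ⟨c₂, rfl⟩ := h₂
    refine ⟨c₁ + c₂, ?_⟩
    exact (Finsupp.sum_add_index' (by simp) (fun _ _ _ => TensorProduct.tmul_add _ _ _)).symm

/-- the Kronecker substitution -/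
noncomputable def kron (N n : ℕ) : MvPolynomial (Fin n) A →ₐ[A] A[X] :=
  MvPolynomial.aeval (fun i : Fin n => (X : A[X]) ^ (N ^ (i : ℕ)))

/-- the Kronecker weight of an exponent vector -/
def kap (N : ℕ) {n : ℕ} (α : Fin n →₀ ℕ) : ℕ := ∑ i, α i * N ^ (i : ℕ)

theorem kron_monomial (N n : ℕ) (α : Fin n →₀ ℕ) :
    kron (A := A) N n (MvPolynomial.monomial α (1 : A)) = X ^ kap N α := by
  rw [kron, MvPolynomial.aeval_monomial, map_one, one_mul, Finsupp.prod_fintype _ _ (by simp)]
  simp_rw [← pow_mul]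
  rw [Finset.prod_pow_eq_pow_sum]
  congr 1
  exact Finset.sum_congr rfl (fun i _ => mul_comm _ _)

theorem kap_inj (N n : ℕ) (α α' : Fin n →₀ ℕ) (h : ∀ i, α i < N) (h' : ∀ i, α' i < N)
    (he : kap N α = kap N α') : α = α' := by
  have := finFunctionFinEquiv.injective (a₁ := fun i => (⟨α i, h i⟩ : Fin N))
    (a₂ := fun i => ⟨α' i, h' i⟩)
    (Fin.ext (by rw [finFunctionFinEquiv_apply, finFunctionFinEquiv_apply]; exact he))
  ext i
  exact congrArg (fun f => ((f i : Fin N) : ℕ)) this

/-- all coefficients of an element of the kernel of the base change lie in the kernel -/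
theorem coeff_mem_ker_mv (F : B →ₚₗ[A] A) {n : ℕ} (c : (Fin n →₀ ℕ) →₀ B)
    (h : (c.sum fun α b => (MvPolynomial.monomial α (1 : A)) ⊗ₜ[A] b) ∈
      PolLaw.kerBC F (MvPolynomial (Fin n) A)) :
    ∀ α, c α ∈ PolLaw.ker F := by
  classical
  intro α₀
  by_cases hα₀ : α₀ ∈ c.support
  swap
  · rw [Finsupp.notMem_support_iff.1 hα₀]
    exact zero_mem _
  set N := c.support.sup (fun α => α.degree) + 1 with hN
  have hlt : ∀ α ∈ c.support, ∀ i, α i < N := by
    intro α hα i
    have h1 : α i ≤ α.degree := Finsupp.le_degree i α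
    have h2 : α.degree ≤ c.support.sup (fun α => α.degree) :=
      Finset.le_sup (f := fun α : Fin n →₀ ℕ => α.degree) hα
    omega
  have h1 := map_mem_kerBC F (kron (A := A) N n) _ h
  rw [Finsupp.sum, map_sum] at h1
  simp_rw [Algebra.TensorProduct.map_tmul, kron_monomial, AlgHom.id_apply] at h1
  set M := c.support.sup (kap N) + 1 with hM
  set c' : ℕ → B := fun j => ∑ α ∈ c.support with kap N α = j, c α with hc'
  have h2 : ∑ α ∈ c.support, ((X : A[X]) ^ kap N α) ⊗ₜ[A] c α =
      ∑ j ∈ Finset.range M, ((X : A[X]) ^ j) ⊗ₜ[A] c' j := by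
    rw [← Finset.sum_fiberwise_of_maps_to (g := kap N) (t := Finset.range M)
      (fun α hα => Finset.mem_range.2 (Nat.lt_succ_of_le (Finset.le_sup hα)))]
    refine Finset.sum_congr rfl fun j _ => ?_
    rw [hc', TensorProduct.tmul_sum]
    refine Finset.sum_congr rfl fun α hα => ?_
    rw [(Finset.mem_filter.1 hα).2]
  rw [h2, mem_kerBC_iff] at h1
  have h3 := coeff_mem_ker F M c' h1 (kap N α₀) (Nat.lt_succ_of_le (Finset.le_sup hα₀))
  have h4 : c' (kap N α₀) = c α₀ := by
    show ∑ α ∈ c.support with kap N α = kap N α₀, c α = c α₀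
    refine Finset.sum_eq_single_of_mem α₀ (Finset.mem_filter.2 ⟨hα₀, rfl⟩) ?_
    intro α hα hne
    exact absurd (kap_inj N n α α₀ (hlt α (Finset.mem_filter.1 hα).1) (hlt α₀ hα₀)
      (Finset.mem_filter.1 hα).2) hne
  rwa [h4] at h3

/-- the kernel of the base change to a polynomial ring is the extension of the kernel -/
theorem kerBC_mv_le (F : B →ₚₗ[A] A) (n : ℕ) :
    PolLaw.kerBC F (MvPolynomial (Fin n) A) ≤ (PolLaw.ker F).map
      (Algebra.TensorProduct.includeRight : B →ₐ[A] MvPolynomial (Fin n) A ⊗[A] B) := by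
  intro y hy
  obtain ⟨c, rfl⟩ := exists_decomp_mv y
  have hc := coeff_mem_ker_mv F c hy
  refine Ideal.sum_mem _ fun α _ => ?_
  have : (MvPolynomial.monomial α (1 : A)) ⊗ₜ[A] c α =
      ((MvPolynomial.monomial α (1 : A)) ⊗ₜ[A] (1 : B)) *
      (Algebra.TensorProduct.includeRight : B →ₐ[A] MvPolynomial (Fin n) A ⊗[A] B) (c α) := by
    rw [Algebra.TensorProduct.includeRight_apply, Algebra.TensorProduct.tmul_mul_tmul, mul_one,
      one_mul]
  beta_reduce
  rw [this]
  exact Ideal.mul_mem_left _ _ (Ideal.mem_map_of_mem _ (hc α))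

end Groth.Agent.Helper4.KerMv
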