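import Groth.Agent.Helper4.CHKer
import Groth.Agent.Helper4.KerMv

/-!
# The kernel of a base-changed multiplicative law and the extension of the kernel have the same
radical (helper4)
-/

set_option autoImplicit false
universe u
open scoped TensorProduct
open Polynomial

namespace Groth.Agent.Helper4.CHRad

open Groth.Agent.Helper4.PolLaw1 Groth.Agent.Helper4.CHAbs Groth.Agent.Helper4.CH
  Groth.Agent.Helper4.KerMv

variable {A : Type u} [CommRing A] {B : Type u} [CommRing B] [Algebra A B] {d : ℕ}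

theorem map_chElt (F : B →ₚₗ[A] A) {R R' : Type u} [CommRing R] [Algebra A R] [CommRing R']
    [Algebra A R'] (ψ : R →ₐ[A] R') (β : R ⊗[A] B) :
    Algebra.TensorProduct.map ψ (AlgHom.id A B) (chElt F R β) =
      chElt F R' (Algebra.TensorProduct.map ψ (AlgHom.id A B) β) := by
  rw [chElt, chElt, map_evβ_left, ← chi_map]

/-- Cayley–Hamilton over any base: `χ_β(β)` lies in the kernel of the base change. -/
theorem chElt_mem_kerBC (F : PolLaw.MulLaw A B A d) (A₁ : Type u) [CommRing A₁] [Algebra A A₁]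
    (β : A₁ ⊗[A] B) : chElt F.law A₁ β ∈ PolLaw.kerBC F.law A₁ := by
  intro R _ _ _ _ x w
  letI : CommRing R := RingHom.commSemiringToCommRing (algebraMap A₁ R)
  rw [map_chElt]
  exact CH.CH F R _ x w

theorem chi_of_mem_kerBC (F : PolLaw.MulLaw A B A d) (A₁ : Type u) [CommRing A₁] [Algebra A A₁]
    {z : A₁ ⊗[A] B} (hz : z ∈ PolLaw.kerBC F.law A₁) : chi F.law A₁ z = X ^ d := by
  unfold chi
  have h1 : (X : A₁[X]) ⊗ₜ[A] (1 : B) -
      Algebra.TensorProduct.map (Polynomial.CAlgHom (R := A) (A := A₁)) (AlgHom.id A B) z =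
      (X : A₁[X]) ⊗ₜ[A] (1 : B) + (-1 : A₁[X] ⊗[A] B) *
        Algebra.TensorProduct.map (IsScalarTower.toAlgHom A A₁ A₁[X]) (AlgHom.id A B) z := by
    have : IsScalarTower.toAlgHom A A₁ A₁[X] = Polynomial.CAlgHom (R := A) (A := A₁) :=
      AlgHom.ext fun _ => rfl
    rw [this]
    ring
  rw [h1, hz A₁[X] _ _]
  have h2 : (X : A₁[X]) ⊗ₜ[A] (1 : B) = (X : A₁[X]) • (1 : A₁[X] ⊗[A] B) := by
    rw [Algebra.TensorProduct.one_def, TensorProduct.smul_tmul', smul_eq_mul, mul_one]
  rw [h2, F.homog, (F.mult _).1, Algebra.TensorProduct.one_def, TensorProduct.smul_tmul',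
    smul_eq_mul, mul_one]
  simp

theorem chElt_of_mem_kerBC (F : PolLaw.MulLaw A B A d) (A₁ : Type u) [CommRing A₁] [Algebra A A₁]
    {z : A₁ ⊗[A] B} (hz : z ∈ PolLaw.kerBC F.law A₁) : chElt F.law A₁ z = z ^ d := by
  rw [chElt, chi_of_mem_kerBC F A₁ hz, map_pow, evβ, evAt_X]

/-- the kernel of the base change lies in the radical of the extended kernel -/
theorem kerBC_le_radical (F : PolLaw.MulLaw A B A d) (A' : Type u) [CommRing A'] [Algebra A A'] :
    PolLaw.kerBC F.law A' ≤
      ((PolLaw.ker F.law).map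
        (Algebra.TensorProduct.includeRight : B →ₐ[A] A' ⊗[A] B)).radical := by
  intro z hz
  have hz' := hz
  obtain ⟨n, a', b, hzz⟩ := TensorProduct.exists_sum_tmul_eq z
  set β : MvPolynomial (Fin n) A ⊗[A] B := ∑ k, (MvPolynomial.X k) ⊗ₜ[A] b k with hβdef
  set ψ : MvPolynomial (Fin n) A →ₐ[A] A' := MvPolynomial.aeval a' with hψ
  have hβ : Algebra.TensorProduct.map ψ (AlgHom.id A B) β = z := by
    rw [hβdef, map_sum, hzz]
    refine Finset.sum_congr rfl fun k _ => ?_
    rw [Algebra.TensorProduct.map_tmul, hψ, MvPolynomial.aeval_X, AlgHom.id_apply]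
  have h1 : chElt F.law (MvPolynomial (Fin n) A) β ∈ (PolLaw.ker F.law).map
      (Algebra.TensorProduct.includeRight : B →ₐ[A] MvPolynomial (Fin n) A ⊗[A] B) :=
    kerBC_mv_le F.law n (chElt_mem_kerBC F _ β)
  have h2 : Algebra.TensorProduct.map ψ (AlgHom.id A B) (chElt F.law (MvPolynomial (Fin n) A) β) ∈
      (PolLaw.ker F.law).map (Algebra.TensorProduct.includeRight : B →ₐ[A] A' ⊗[A] B) := by
    have h3 : (PolLaw.ker F.law).map
        (Algebra.TensorProduct.includeRight : B →ₐ[A] MvPolynomial (Fin n) A ⊗[A] B) ≤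
        Ideal.comap (Algebra.TensorProduct.map ψ (AlgHom.id A B))
          ((PolLaw.ker F.law).map (Algebra.TensorProduct.includeRight : B →ₐ[A] A' ⊗[A] B)) := by
      rw [Ideal.map_le_iff_le_comap]
      intro b' hb'
      rw [Ideal.mem_comap, Ideal.mem_comap, Algebra.TensorProduct.includeRight_apply,
        Algebra.TensorProduct.map_tmul, map_one, AlgHom.id_apply]
      exact Ideal.mem_map_of_mem _ hb'
    exact h3 h1
  rw [map_chElt, hβ, chElt_of_mem_kerBC F A' hz'] at h2
  exact ⟨d, h2⟩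

end Groth.Agent.Helper4.CHRad
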