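import Groth.Agent.Helper4.CHFibre

/-!
# The image of a family of zero-cycles over a semilocal ring is semilocal (helper4)
-/

set_option autoImplicit false
universe u
open scoped TensorProduct

namespace Groth.Agent.Helper4.CHSemilocal

open Groth.Agent.Helper4.CHFibre

variable {A : Type u} [CommRing A] {B : Type u} [CommRing B] [Algebra A B] {d : ℕ}

/-- the point of the fibre over `m` defined by an ideal `M` above `m` -/
noncomputable def ψ (F : B →ₚₗ[A] A) (m : Ideal A) (M : Ideal (PolLaw.image F))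
    (h : m ≤ M.comap (algebraMap A (PolLaw.image F))) :
    (A ⧸ m) ⊗[A] PolLaw.image F →ₐ[A] (PolLaw.image F) ⧸ M :=
  Algebra.TensorProduct.productMap
    (Ideal.Quotient.liftₐ m (Algebra.ofId A ((PolLaw.image F) ⧸ M)) (fun a ha => by
      have h1 : algebraMap A (PolLaw.image F) a ∈ M := h ha
      show algebraMap A ((PolLaw.image F) ⧸ M) a = 0
      rw [IsScalarTower.algebraMap_apply A (PolLaw.image F) ((PolLaw.image F) ⧸ M),
        Ideal.Quotient.algebraMap_eq, Ideal.Quotient.eq_zero_iff_mem]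
      exact h1))
    (Ideal.Quotient.mkₐ A M)

theorem comap_ker_ψ (F : B →ₚₗ[A] A) (m : Ideal A) (M : Ideal (PolLaw.image F))
    (h : m ≤ M.comap (algebraMap A (PolLaw.image F))) :
    (RingHom.ker (ψ F m M h)).comap
      (Algebra.TensorProduct.includeRight : PolLaw.image F →ₐ[A] (A ⧸ m) ⊗[A] PolLaw.image F) =
      M := by
  ext y
  rw [Ideal.mem_comap, RingHom.mem_ker, Algebra.TensorProduct.includeRight_apply, ψ,
    Algebra.TensorProduct.productMap_apply_tmul, map_one, one_mul, Ideal.Quotient.mkₐ_eq_mk,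
    Ideal.Quotient.eq_zero_iff_mem]

theorem finite_maxSpec [Finite (MaximalSpectrum A)] (F : PolLaw.MulLaw A B A d) :
    Finite (MaximalSpectrum (PolLaw.image F.law)) := by
  haveI := image_isIntegral F
  have hc : ∀ M : MaximalSpectrum (PolLaw.image F.law),
      (M.asIdeal.comap (algebraMap A (PolLaw.image F.law))).IsMaximal := fun M =>
    haveI := M.isMaximal
    Ideal.isMaximal_comap_of_isIntegral_of_isMaximal (R := A) M.asIdeal
  let c : MaximalSpectrum (PolLaw.image F.law) → MaximalSpectrum A := fun M => ⟨_, hc M⟩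
  rw [← Set.finite_univ_iff]
  apply Set.Finite.of_finite_fibers c (Set.toFinite _)
  intro m _
  rw [Set.univ_inter]
  haveI := m.isMaximal
  letI : Field (A ⧸ m.asIdeal) := Ideal.Quotient.field m.asIdeal
  haveI hfin : Finite (PrimeSpectrum ((A ⧸ m.asIdeal) ⊗[A] PolLaw.image F.law)) :=
    (fibre_card F (A ⧸ m.asIdeal)).1
  have hle : ∀ M : (c ⁻¹' {m} : Set _), m.asIdeal ≤
      (M.1.asIdeal.comap (algebraMap A (PolLaw.image F.law))) := by
    intro M
    have h1 : c M.1 = m := M.2
    have h2 : (c M.1).asIdeal = m.asIdeal := congrArg MaximalSpectrum.asIdeal h1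
    exact le_of_eq h2.symm
  let Θ : (c ⁻¹' {m} : Set _) → PrimeSpectrum ((A ⧸ m.asIdeal) ⊗[A] PolLaw.image F.law) :=
    fun M =>
      haveI := M.1.isMaximal
      ⟨RingHom.ker (ψ F.law m.asIdeal M.1.asIdeal (hle M)), RingHom.ker_isPrime _⟩
  rw [← Set.finite_coe_iff]
  apply Finite.of_injective Θ
  intro M M' h
  have h1 : RingHom.ker (ψ F.law m.asIdeal M.1.asIdeal (hle M)) =
      RingHom.ker (ψ F.law m.asIdeal M'.1.asIdeal (hle M')) := congrArg PrimeSpectrum.asIdeal h
  have h2 := congrArg (Ideal.comap (Algebra.TensorProduct.includeRight :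
    PolLaw.image F.law →ₐ[A] (A ⧸ m.asIdeal) ⊗[A] PolLaw.image F.law)) h1
  rw [comap_ker_ψ, comap_ker_ψ] at h2
  exact Subtype.ext (MaximalSpectrum.ext h2)

end Groth.Agent.Helper4.CHSemilocal
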