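import Mathlib
import Groth.Prelude.Def_EtCech
import Groth.Agent.Helper4.CechGenC

/-! Universe-general: Čech-acyclicity passes to the kernel in a short exact sequence of sheaves
which is surjective on sections over the members of the collection. -/

set_option autoImplicit false
universe w v u

open CategoryTheory CategoryTheory.Limits Opposite

namespace Groth.Agent.Helper4.CechGenD

open Groth.Agent.Helper1.Cech Groth.Agent.Helper4.CechGenA Groth.Agent.Helper4.CechGenB
  Groth.Agent.Helper4.CechGenC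

variable {C : Type u} [Category.{v} C] {J : GrothendieckTopology C}
  [HasSheafify J AddCommGrpCat.{w}] [J.HasSheafCompose (forget AddCommGrpCat.{w})]
  [J.WEqualsLocallyBijective AddCommGrpCat.{w}]
  [∀ V : C, HasFiniteProducts (Over V)]

lemma mapC_toC0 {U : C} {ι : Type w} (Y : ι → Over U) {P P' : Cᵒᵖ ⥤ AddCommGrpCat.{w}}
    (φ : P ⟶ P') (γ : P.obj (op U)) :
    (mapC Y φ).f 0 (toC0 Y P γ) = toC0 Y P' (φ.app (op U) γ) := by
  apply Groth.Agent.Helper1.Cech.ext
  intro x
  rw [comp_mapC, comp_toC0, comp_toC0]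
  exact NatTrans.naturality_apply φ (prodU Y x).hom.op γ

variable (B : Set C) (Cov : ∀ (V : C) (ι : Type w), (ι → Over V) → Prop)
  (h1 : ∀ (V : C) (ι : Type w) (Y : ι → Over V), Cov V ι Y → V ∈ B ∧
      Sieve.ofArrows (fun i => (Y i).left) (fun i => (Y i).hom) ∈ J V ∧
      ∀ (p : ℕ) (a : Fin (p + 1) → ι), (∏ᶜ fun k => Y (a k)).left ∈ B)

include h1 in
/-- the kernel of a sectionwise (over `B`) surjective epimorphism of Čech-acyclic sheaves is
Čech-acyclic -/
theorem acyc_X₁ (S : ShortComplex (Sheaf J AddCommGrpCat.{w})) (hS : S.ShortExact)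
    (hsurj : ∀ V ∈ B, Function.Surjective (S.g.hom.app (op V)))
    (hF₂ : CechAcyc Cov S.X₂) (hF₃ : CechAcyc Cov S.X₃) : CechAcyc Cov S.X₁ := by
  intro V ι Y hY p
  obtain ⟨hVB, hcov, hprod⟩ := h1 V ι Y hY
  cases p with
  | zero =>
    apply isZero_homology_of_exists (cx Y (Q S.X₁.obj)) 0
    intro c hc
    have hgf : ∀ (n : ℕ) (c : (cx Y (Q S.X₁.obj)).X n),
        (mapC Y S.g.hom).f n ((mapC Y S.f.hom).f n c) = 0 := by
      intro n c
      apply Groth.Agent.Helper1.Cech.ext
      intro x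
      rw [comp_mapC, comp_mapC, map_zero]
      have h0 : S.f.hom ≫ S.g.hom = 0 := by
        have := congrArg (sheafToPresheaf J AddCommGrpCat.{w}).map S.zero
        rw [Functor.map_comp, Functor.map_zero] at this
        exact this
      have := ConcreteCategory.congr_hom
        (NatTrans.congr_app h0 (op (prodU Y x).left))
        (comp Y (Q S.X₁.obj) n x c)
      exact this
    have h1c : (cx Y (Q S.X₂.obj)).d 1 2 ((mapC Y S.f.hom).f 1 c) = 0 := by
      rw [← mapC_d, hc, map_zero]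
    obtain ⟨b, hb⟩ := exists_of_isZero_homology (cx Y (Q S.X₂.obj)) 0 (hF₂ V ι Y hY 0) _ h1c
    have hgb : (cx Y (Q S.X₃.obj)).d 0 1 ((mapC Y S.g.hom).f 0 b) = 0 := by
      rw [← mapC_d, hb, hgf]
    obtain ⟨s, hs⟩ := exists_of_cocycle (isSheafFor_of_mem S.X₃ Y hcov) _ hgb
    obtain ⟨t, ht⟩ := hsurj V hVB s
    have hgb' : (mapC Y S.g.hom).f 0 (b - toC0 Y S.X₂.obj t) = 0 := by
      rw [map_sub, mapC_toC0, ht, hs, sub_self]
    have hdb' : (cx Y (Q S.X₂.obj)).d 0 1 (b - toC0 Y S.X₂.obj t) = (mapC Y S.f.hom).f 1 c := by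
      rw [map_sub, d_toC0, sub_zero, hb]
    have hex : ∀ x : Fin 1 → ι, ∃ a, S.f.hom.app (op (prodU Y x).left) a =
        comp Y (Q S.X₂.obj) 0 x (b - toC0 Y S.X₂.obj t) := by
      intro x
      apply (sections_exact S hS _).2
      have := congrArg (comp Y (Q S.X₃.obj) 0 x) hgb'
      rw [map_zero] at this
      exact (comp_mapC Y S.g.hom 0 x _).symm.trans this
    choose a ha using hex
    let aa : (cx Y (Q S.X₁.obj)).X 0 := mk a
    have hfa : (mapC Y S.f.hom).f 0 aa = b - toC0 Y S.X₂.obj t := by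
      apply Groth.Agent.Helper1.Cech.ext
      intro x
      rw [comp_mapC]
      have h1 : comp Y (Q S.X₁.obj) 0 x aa = a x := comp_mk _ x
      exact (congrArg (S.f.hom.app (op (prodU Y x).left)) h1).trans (ha x)
    refine ⟨aa, ?_⟩
    apply mapC_injective Y S.f.hom (fun V => (sections_exact S hS V).1) 1
    rw [mapC_d, hfa, hdb']
  | succ p =>
    let G : Sheaf J AddCommGrpCat.{w} ⥤ ((Over V)ᵒᵖ ⥤ AddCommGrpCat.{w}) :=
      sheafToPresheaf J AddCommGrpCat.{w} ⋙ Groth.Agent.Helper1.CechDelta.W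
    have hsw : SectionwiseExact Y (S.map G) := by
      intro n x
      apply shortExact_ab
      · exact (sections_exact S hS _).1
      · exact (sections_exact S hS _).2
      · exact hsurj _ (hprod n x)
    have hSE := shortExact_map_cech hsw
    have hex := hSE.homology_exact₁ (p + 1) (p + 2) rfl
    have hz2 : IsZero (EtCech.cechH Y S.X₂.obj (p + 1 + 1)) := hF₂ V ι Y hY (p + 1)
    have hz3 : IsZero (EtCech.cechH Y S.X₃.obj (p + 1)) := hF₃ V ι Y hY p
    exact hex.isZero_of_both_zeros (hz3.eq_of_src _ _) (hz2.eq_of_tgt _ _)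

end Groth.Agent.Helper4.CechGenD
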