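import Mathlib
import Groth.Prelude.Def_EtCech
import Groth.Agent.Helper1.CechPush

/-! Čech complexes and functors preserving finite limits: the Čech complex of `G₀.op ⋙ P` for a
family over `V` is isomorphic to the Čech complex of `P` for the image family over `G₀ V`. -/

set_option autoImplicit false
universe w v v' u u'

open CategoryTheory CategoryTheory.Limits Opposite

namespace Groth.Agent.Helper4.CechPost

open Groth.Agent.Helper1.Cech

variable {C : Type u} [Category.{v} C] {C' : Type u'} [Category.{v'} C'] (G₀ : C ⥤ C')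
  [PreservesFiniteLimits G₀] {V : C} [HasFiniteProducts (Over V)]
  [HasFiniteProducts (Over (G₀.obj V))] {ι : Type w} (Vf : ι → Over V)
  (P : C'ᵒᵖ ⥤ AddCommGrpCat.{w})

/-- the induced functor on over categories -/
abbrev G : Over V ⥤ Over (G₀.obj V) := Over.post G₀

/-- the image family -/
abbrev Uf : ι → Over (G₀.obj V) := fun i => (G G₀).obj (Vf i)

/-- the comparison isomorphism for products -/
noncomputable def e {n : ℕ} (x : Fin n → ι) :
    (G G₀).obj (∏ᶜ (Vf ∘ x)) ≅ ∏ᶜ (Uf G₀ Vf ∘ x) :=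
  PreservesProduct.iso (G G₀) (Vf ∘ x)

lemma e_hom_π {n : ℕ} (x : Fin n → ι) (k : Fin n) :
    (e G₀ Vf x).hom ≫ Pi.π (Uf G₀ Vf ∘ x) k = (G G₀).map (Pi.π (Vf ∘ x) k) := by
  unfold e
  rw [PreservesProduct.iso_hom]
  exact piComparison_comp_π _ _ _

lemma e_face {n : ℕ} (j : Fin (n + 2)) (x : Fin (n + 2) → ι) :
    (G G₀).map (face Vf j x) ≫ (e G₀ Vf (x ∘ j.succAbove)).hom =
      (e G₀ Vf x).hom ≫ face (Uf G₀ Vf) j x := by
  apply Pi.hom_ext
  intro k
  rw [Category.assoc, Category.assoc, e_hom_π, ← Functor.map_comp]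
  unfold face
  erw [Pi.lift_π, Pi.lift_π, e_hom_π]

lemma e_inv_face {n : ℕ} (j : Fin (n + 2)) (x : Fin (n + 2) → ι) :
    (e G₀ Vf x).inv ≫ (G G₀).map (face Vf j x) =
      face (Uf G₀ Vf) j x ≫ (e G₀ Vf (x ∘ j.succAbove)).inv := by
  rw [Iso.inv_comp_eq, ← Category.assoc, Iso.eq_comp_inv]
  exact e_face G₀ Vf j x

/-- the presheaf on `Over V` -/
abbrev Q₁ : (Over V)ᵒᵖ ⥤ AddCommGrpCat.{w} := (Over.forget V).op ⋙ (G₀.op ⋙ P)

/-- the presheaf on `Over (G₀ V)` -/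
abbrev Q₂ : (Over (G₀.obj V))ᵒᵖ ⥤ AddCommGrpCat.{w} := (Over.forget (G₀.obj V)).op ⋙ P

/-- the comparison on components -/
noncomputable def θ (n : ℕ) (x : Fin (n + 1) → ι) :
    (Q₁ G₀ P).obj (op (prodU Vf x)) ⟶ (Q₂ G₀ P).obj (op (prodU (Uf G₀ Vf) x)) :=
  P.map ((e G₀ Vf x).inv.left).op

lemma θ_bijective (n : ℕ) (x : Fin (n + 1) → ι) : Function.Bijective (θ G₀ Vf P n x) := by
  haveI : IsIso (θ G₀ Vf P n x) := by
    have h : θ G₀ Vf P n x =
        (P.mapIso ((Over.forget _).mapIso (e G₀ Vf x).symm).op).hom := rfl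
    rw [h]
    infer_instance
  exact (ConcreteCategory.isIso_iff_bijective _).1 inferInstance

lemma hθ (n : ℕ) (j : Fin (n + 2)) (x : Fin (n + 2) → ι) :
    (Q₁ G₀ P).map (face Vf j x).op ≫ θ G₀ Vf P (n + 1) x =
      θ G₀ Vf P n (x ∘ j.succAbove) ≫ (Q₂ G₀ P).map (face (Uf G₀ Vf) j x).op := by
  unfold θ
  show P.map (G₀.map (face Vf j x).left).op ≫ P.map ((e G₀ Vf x).inv.left).op =
    P.map ((e G₀ Vf (x ∘ j.succAbove)).inv.left).op ≫ P.map ((face (Uf G₀ Vf) j x).left).op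
  have key : (e G₀ Vf x).inv.left ≫ G₀.map (face Vf j x).left =
      (face (Uf G₀ Vf) j x).left ≫ (e G₀ Vf (x ∘ j.succAbove)).inv.left :=
    congrArg (fun f => f.left) (e_inv_face G₀ Vf j x)
  have h1 : P.map (G₀.map (face Vf j x).left).op ≫ P.map ((e G₀ Vf x).inv.left).op =
      P.map ((e G₀ Vf x).inv.left ≫ G₀.map (face Vf j x).left).op := (P.map_comp _ _).symm
  have h2 : P.map ((e G₀ Vf (x ∘ j.succAbove)).inv.left).op ≫
      P.map ((face (Uf G₀ Vf) j x).left).op =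
      P.map ((face (Uf G₀ Vf) j x).left ≫ (e G₀ Vf (x ∘ j.succAbove)).inv.left).op :=
    (P.map_comp _ _).symm
  exact h1.trans ((congrArg (fun f => P.map f.op) key).trans h2.symm)

/-- the comparison of Čech complexes -/
noncomputable def cmp : cx Vf (Q₁ G₀ P) ⟶ cx (Uf G₀ Vf) (Q₂ G₀ P) :=
  Groth.Agent.Helper1.CechPush.cxMap Vf (Uf G₀ Vf) (Q₁ G₀ P) (Q₂ G₀ P) (θ G₀ Vf P)
    (hθ G₀ Vf P)

instance : IsIso (cmp G₀ Vf P) := by
  haveI : ∀ n, IsIso ((cmp G₀ Vf P).f n) := fun n =>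
    (ConcreteCategory.isIso_iff_bijective _).2
      (Groth.Agent.Helper1.CechPush.cxMapF_bijective Vf (Uf G₀ Vf) (Q₁ G₀ P) (Q₂ G₀ P)
        (θ G₀ Vf P) n (θ_bijective G₀ Vf P n))
  exact HomologicalComplex.Hom.isIso_of_components _

/-- vanishing of Čech cohomology transfers -/
theorem isZero_cechH (p : ℕ) (h : IsZero (EtCech.cechH (Uf G₀ Vf) P p)) :
    IsZero (EtCech.cechH Vf (G₀.op ⋙ P) p) :=
  IsZero.of_iso h (asIso (HomologicalComplex.homologyMap (cmp G₀ Vf P) p))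

end Groth.Agent.Helper4.CechPost
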