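import Mathlib
import Groth.Prelude.Def_ModSite
import Groth.Agent.Helper4.BaseChg

/-!
# Quasi-coherent modules for the chaotic topology
-/

set_option autoImplicit false
universe u
open CategoryTheory CategoryTheory.Limits Opposite

namespace Groth.Agent.Helper4.ChaoticQc

open Groth.Agent.Helper4.TrivTop Groth.Agent.Helper4.NatIsoClosure Groth.Agent.Helper4.BaseChg

variable {D : Type u} [SmallCategory D] {K : GrothendieckTopology D} {O : Sheaf K CommRingCat.{u}}

/-- quasi-coherent modules satisfy base change, for a trivial topology -/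
theorem isIso_bc_of_isQuasicoherent (hK : IsTriv K) (F : ModSite.Mod O)
    [SheafOfModules.IsQuasicoherent (R := ModSite.ringSh O) F] {U V : D} (g : U ⟶ V) :
    IsIso (bc g F) := by
  obtain ⟨q⟩ := SheafOfModules.IsQuasicoherent.nonempty_quasicoherentData (M := F)
  have h1 : Sieve.ofObjects q.X V = ⊤ := hK _ _ (q.coversTop V)
  have h2 : (Sieve.ofObjects q.X V) (𝟙 V) := by rw [h1]; trivial
  obtain ⟨i, ⟨a⟩⟩ := (Sieve.mem_ofObjects_iff ..).1 h2
  have := isIso_bc_of_presentation (O := O.over (q.X i)) (isTriv_over hK (q.X i))
    (U := Over.mk (g ≫ a)) (V := Over.mk a) (Over.homMk g) (q.presentation i)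
  exact this

/-- a morphism which is an isomorphism sectionwise is an isomorphism -/
theorem isIso_of_evC {M N : ModSite.Mod O} (d : M ⟶ N) (h : ∀ Y, IsIso ((evC O Y).map d)) :
    IsIso d := by
  let e : M.val ≅ N.val := PresheafOfModules.isoMk (fun X => @asIso _ _ _ _ (d.val.app X) (h X.unop))
    (fun X Y f => d.val.naturality f)
  have h1 : IsIso ((SheafOfModules.forget _).map d) := by
    have : (SheafOfModules.forget _).map d = e.hom := rfl
    rw [this]; infer_instance
  exact isIso_of_reflects_iso d (SheafOfModules.forget _)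

section Terminal

variable {T : D} (hT : IsTerminal T) (M : ModSite.Mod O)

/-- the section of `M` determined by an element over the terminal object -/
noncomputable def secT (m : (evC O T).obj M) : M.sections :=
  PresheafOfModules.sectionsMk (fun Y => M.val.map (hT.from Y.unop).op m) (by
    intro X Y f
    rw [← PresheafOfModules.map_comp_apply]
    exact PresheafOfModules.congr_map_apply _ (Quiver.Hom.unop_inj (hT.hom_ext _ _)) m)

theorem secT_val (m : (evC O T).obj M) (Y : Dᵒᵖ) :
    (secT hT M m).val Y = M.val.map (hT.from Y.unop).op m := rfl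

theorem secT_val_T (m : (evC O T).obj M) : (secT hT M m).val (op T) = m := by
  rw [secT_val]
  have h : (hT.from (op T).unop).op = 𝟙 (op T) := Quiver.Hom.unop_inj (hT.hom_ext _ _)
  rw [PresheafOfModules.congr_map_apply _ h]
  simp

variable {M} in
theorem sectionsMap_secT {N : ModSite.Mod O} (f : M ⟶ N) (m : (evC O T).obj M) :
    SheafOfModules.sectionsMap f (secT hT M m) = secT hT N (((evC O T).map f).hom m) := by
  apply PresheafOfModules.sections_ext
  intro X
  exact PresheafOfModules.naturality_apply f.val (hT.from X.unop).op m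

/-- the tautological generators -/
noncomputable def gen :
    SheafOfModules.free (R := ModSite.ringSh O) (↑((evC O T).obj M) : Type u) ⟶ M :=
  (SheafOfModules.freeHomEquiv M).symm (fun n => secT hT M n)

theorem gen_freeSection (m : (evC O T).obj M) :
    ((evC O T).map (gen hT M)).hom ((SheafOfModules.freeSection (R := ModSite.ringSh O) m).val (op T))
      = m := by
  have h := SheafOfModules.sectionsMap_freeHomEquiv_symm_freeSection (M := M)
    (fun n : (evC O T).obj M => secT hT M n) m
  have h2 := congrArg (fun s : M.sections => s.val (op T)) h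
  exact h2.trans (secT_val_T hT M m)

/-- the relations module -/
noncomputable abbrev relI : Type u := ↥(LinearMap.ker ((evC O T).map (gen hT M)).hom)

/-- the tautological relations -/
noncomputable def rel :
    SheafOfModules.free (R := ModSite.ringSh O) (relI hT M) ⟶
      SheafOfModules.free (R := ModSite.ringSh O) (↑((evC O T).obj M) : Type u) :=
  (SheafOfModules.freeHomEquiv _).symm (fun k => secT hT _ k.1)

theorem rel_freeSection (k : relI hT M) :
    ((evC O T).map (rel hT M)).hom ((SheafOfModules.freeSection (R := ModSite.ringSh O) k).val (op T))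
      = k.1 := by
  have h := SheafOfModules.sectionsMap_freeHomEquiv_symm_freeSection
    (M := SheafOfModules.free (R := ModSite.ringSh O) (↑((evC O T).obj M) : Type u))
    (fun k : relI hT M => secT hT _ k.1) k
  have h2 := congrArg (fun s : SheafOfModules.sections _ => s.val (op T)) h
  exact h2.trans (secT_val_T hT _ k.1)

theorem rel_gen : rel hT M ≫ gen hT M = 0 := by
  apply (SheafOfModules.freeHomEquiv M).injective
  funext k
  rw [SheafOfModules.freeHomEquiv_comp_apply]
  have h1 : (SheafOfModules.freeHomEquiv _) (rel hT M) k = secT hT _ k.1 := by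
    unfold rel
    rw [Equiv.apply_symm_apply]
  rw [h1, sectionsMap_secT]
  apply PresheafOfModules.sections_ext
  intro X
  have h2 : ((evC O T).map (gen hT M)).hom k.1 = 0 := k.2
  rw [h2, secT_val]
  have h3 : (M.val.map (hT.from X.unop).op).hom 0 = 0 := map_zero _
  refine h3.trans ?_
  rw [SheafOfModules.freeHomEquiv_apply]
  rfl

/-- the comparison map from the cokernel of the relations -/
noncomputable def dT : cokernel (rel hT M) ⟶ M :=
  cokernel.desc (rel hT M) (gen hT M) (rel_gen hT M)

theorem isIso_evC_dT_T (hK : IsTriv K) : IsIso ((evC O T).map (dT hT M)) := by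
  haveI := evC_preservesColimits (O := O) hK T
  have hepi : Epi ((evC O T).map (gen hT M)) := by
    rw [ModuleCat.epi_iff_surjective]
    intro m
    exact ⟨_, gen_freeSection hT M m⟩
  have hfac : (evC O T).map (cokernel.π (rel hT M)) ≫ (evC O T).map (dT hT M) =
      (evC O T).map (gen hT M) := by
    rw [← Functor.map_comp]
    congr 1
    exact cokernel.π_desc _ _ _
  haveI : Epi ((evC O T).map (dT hT M)) := by
    rw [← hfac] at hepi
    exact epi_of_epi ((evC O T).map (cokernel.π (rel hT M))) _
  let S : ShortComplex (ModSite.Mod O) := ShortComplex.mk (rel hT M) (gen hT M) (rel_gen hT M)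
  have hex : (S.map (evC O T)).Exact := by
    rw [ShortComplex.moduleCat_exact_iff]
    intro x hx
    exact ⟨(SheafOfModules.freeSection (R := ModSite.ringSh O) (⟨x, hx⟩ : relI hT M)).val (op T),
      rel_freeSection hT M ⟨x, hx⟩⟩
  have hmono : Mono (cokernel.desc ((evC O T).map (rel hT M)) ((evC O T).map (gen hT M))
      (S.map (evC O T)).zero) := (S.map (evC O T)).exact_iff_mono_cokernel_desc.1 hex
  have hcmp : cokernelComparison (rel hT M) (evC O T) ≫ (evC O T).map (dT hT M) =
      cokernel.desc ((evC O T).map (rel hT M)) ((evC O T).map (gen hT M))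
        (S.map (evC O T)).zero := cokernelComparison_map_desc (rel hT M) (evC O T) (rel_gen hT M)
  haveI : Mono ((evC O T).map (dT hT M)) := by
    have h : (evC O T).map (dT hT M) = inv (cokernelComparison (rel hT M) (evC O T)) ≫
        cokernel.desc ((evC O T).map (rel hT M)) ((evC O T).map (gen hT M))
          (S.map (evC O T)).zero := by
      rw [← hcmp, IsIso.inv_hom_id_assoc]
    rw [h]
    infer_instance
  exact isIso_of_mono_of_epi _

theorem isIso_dT (hK : IsTriv K) (hM : ∀ Y : D, IsIso (bc (hT.from Y) M)) : IsIso (dT hT M) := by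
  apply isIso_of_evC
  intro Y
  haveI := evC_preservesColimits (O := O) hK T
  haveI := evC_preservesColimits (O := O) hK Y
  have hnat := (bcNat (O := O) (hT.from Y)).naturality (dT hT M)
  haveI h1 : IsIso ((bcNat (O := O) (hT.from Y)).app (cokernel (rel hT M))) :=
    isIso_app_cokernel (bcNat (hT.from Y)) (rel hT M) (isIso_bc_free hK _ _) (isIso_bc_free hK _ _)
  haveI h2 : IsIso ((bcNat (O := O) (hT.from Y)).app M) := hM Y
  haveI h3 : IsIso ((evC O T).map (dT hT M)) := isIso_evC_dT_T hT M hK
  haveI h4 : IsIso ((evC O T ⋙ ModuleCat.extendScalars (O.obj.map (hT.from Y).op).hom).map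
      (dT hT M)) := by
    rw [Functor.comp_map]; infer_instance
  have h5 : (evC O Y).map (dT hT M) = inv ((bcNat (hT.from Y)).app (cokernel (rel hT M))) ≫
      (evC O T ⋙ ModuleCat.extendScalars (O.obj.map (hT.from Y).op).hom).map (dT hT M) ≫
        (bcNat (hT.from Y)).app M := by
    rw [hnat, IsIso.inv_hom_id_assoc]
  rw [h5]
  infer_instance

/-- the presentation of a module satisfying base change from the terminal object -/
noncomputable def presentationOfBc (hK : IsTriv K) (hM : ∀ Y : D, IsIso (bc (hT.from Y) M)) :
    SheafOfModules.Presentation M :=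
  haveI := isIso_dT hT M hK hM
  (SheafOfModules.presentationOfIsCokernelFree (rel hT M) (cokernel.π (rel hT M))
    (cokernel.condition _) (cokernelIsCokernel _)).ofIsIso (dT hT M)

end Terminal

/-- modules satisfying base change are quasi-coherent, for a trivial topology -/
theorem isQuasicoherent_of_isIso_bc (hK : IsTriv K) (F : ModSite.Mod O)
    (h : ∀ {U V : D} (g : U ⟶ V), IsIso (bc g F)) :
    SheafOfModules.IsQuasicoherent (R := ModSite.ringSh O) F := by
  refine SheafOfModules.QuasicoherentData.isQuasicoherent (M := F)
    { I := D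
      X := fun d => d
      coversTop := ?_
      presentation := ?_ }
  · intro V
    have h1 : (Sieve.ofObjects (fun d : D => d) V) (𝟙 V) := (Sieve.mem_ofObjects_iff ..).2 ⟨V, ⟨𝟙 V⟩⟩
    rw [(Sieve.id_mem_iff_eq_top).1 h1]
    exact K.top_mem V
  · intro X
    exact presentationOfBc (O := O.over X) (T := Over.mk (𝟙 X)) Over.mkIdTerminal
      (F.over X) (isTriv_over hK X) (fun Y => h (Over.mkIdTerminal.from Y).left)

end Groth.Agent.Helper4.ChaoticQc
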