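import Mathlib
import Groth.Prelude.Def_ModSite
import Groth.Agent.Helper4.ChaoticQc

/-!
# Closure properties of the base change condition, under flatness of the restriction maps
-/

set_option autoImplicit false
universe u
open CategoryTheory CategoryTheory.Limits Opposite

namespace Groth.Agent.Helper4.ChaoticSerre

open Groth.Agent.Helper4.TrivTop Groth.Agent.Helper4.NatIsoClosure Groth.Agent.Helper4.BaseChg

variable {D : Type u} [SmallCategory D] {K : GrothendieckTopology D} {O : Sheaf K CommRingCat.{u}}

instance evC_preservesFiniteLimits (V : D) : PreservesFiniteLimits (evC O V) :=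
  SheafOfModules.Finite.evaluationPreservesFiniteLimits _ _

instance evC_additive (V : D) : (evC O V).Additive :=
  inferInstanceAs (SheafOfModules.forget.{u} (ModSite.ringSh O) ⋙
    PresheafOfModules.evaluation.{u} (ModSite.ringSh O).obj (op V)).Additive

theorem isIso_bc_cokernel (hK : IsTriv K) {F G : ModSite.Mod O} (α : F ⟶ G) {U V : D} (g : U ⟶ V)
    (hF : IsIso (bc g F)) (hG : IsIso (bc g G)) : IsIso (bc g (cokernel α)) := by
  haveI := evC_preservesColimits (O := O) hK V
  haveI := evC_preservesColimits (O := O) hK U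
  exact isIso_app_cokernel (bcNat g) α hF hG

theorem isIso_bc_kernel {F G : ModSite.Mod O} (α : F ⟶ G) {U V : D} (g : U ⟶ V)
    (hg : (O.obj.map g.op).hom.Flat)
    (hF : IsIso (bc g F)) (hG : IsIso (bc g G)) : IsIso (bc g (kernel α)) := by
  haveI := ModuleCat.preservesFiniteLimits_extendScalars_of_flat hg
  exact isIso_app_kernel (bcNat g) α hF hG

theorem isIso_bc_extension (hK : IsTriv K) (S : ShortComplex (ModSite.Mod O)) (hS : S.ShortExact)
    {U V : D} (g : U ⟶ V) (hg : (O.obj.map g.op).hom.Flat)
    (h1 : IsIso (bc g S.X₁)) (h3 : IsIso (bc g S.X₃)) : IsIso (bc g S.X₂) := by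
  haveI := ModuleCat.preservesFiniteLimits_extendScalars_of_flat hg
  haveI := evC_preservesColimits (O := O) hK V
  haveI := evC_preservesColimits (O := O) hK U
  haveI : PreservesFiniteColimits (evC O V) := ⟨fun _ _ _ => inferInstance⟩
  haveI : PreservesFiniteColimits (evC O U) := ⟨fun _ _ _ => inferInstance⟩
  have e1 := hS.map_of_exact (evC O V ⋙ ModuleCat.extendScalars (O.obj.map g.op).hom)
  have e2 := hS.map_of_exact (evC O U)
  exact ShortComplex.isIso₂_of_shortExact_of_isIso₁₃' (S.mapNatTrans (bcNat g)) e1 e2 h1 h3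

end Groth.Agent.Helper4.ChaoticSerre
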