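import Mathlib
import Groth.Agent.Helper9.ExtNat

/-! Vanishing of `Ext^n(A, R G)` for an exact functor `R` preserving injectives, when
`Hom(A, R -)` is exact (dimension shifting). -/

set_option autoImplicit false
universe w u u' v v'

open CategoryTheory CategoryTheory.Limits Abelian

namespace Groth.Agent.Helper4.ExtShiftR

variable {𝒜 : Type u} [Category.{v} 𝒜] [Abelian 𝒜] [HasExt.{w} 𝒜]

/-- a class which is a composite through the middle term of a short exact sequence dies under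
the connecting map -/
lemma comp_extClass_eq_zero (S : ShortComplex 𝒜) (hS : S.ShortExact) {A : 𝒜} (z : A ⟶ S.X₂)
    (y₀ : A ⟶ S.X₃) (hz : z ≫ S.g = y₀) :
    (Ext.mk₀ y₀).comp hS.extClass (zero_add 1) = 0 := by
  subst hz
  rw [← Ext.mk₀_comp_mk₀, Ext.comp_assoc _ _ _ (add_zero 0) (zero_add 1) (by omega),
    hS.comp_extClass, Ext.comp_zero]

/-- dimension shifting step -/
lemma eq_zero_of_shift (S : ShortComplex 𝒜) (hS : S.ShortExact) [Injective S.X₂] {A : 𝒜} (n : ℕ)
    (x : Ext.{w} A S.X₁ (n + 1))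
    (h : ∀ y : Ext.{w} A S.X₃ n, y.comp hS.extClass rfl = 0) : x = 0 := by
  have h0 : x.comp (Ext.mk₀ S.f) (add_zero (n + 1)) = 0 := Ext.eq_zero_of_injective _
  obtain ⟨y, hy⟩ := Ext.covariant_sequence_exact₁ _ hS x h0 rfl
  exact hy.symm.trans (h y)

variable {ℬ : Type u'} [Category.{v'} ℬ] [Abelian ℬ] [EnoughInjectives ℬ]

theorem main (R : ℬ ⥤ 𝒜) [R.Additive]
    (hR : ∀ S : ShortComplex ℬ, S.ShortExact → (S.map R).ShortExact)
    (hinj : ∀ (I : ℬ), Injective I → Injective (R.obj I)) (A : 𝒜)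
    (h1 : ∀ (S : ShortComplex ℬ), S.ShortExact → ∀ y : A ⟶ R.obj S.X₃,
      ∃ z : A ⟶ R.obj S.X₂, z ≫ R.map S.g = y) :
    ∀ (n : ℕ) (G : ℬ) (x : Ext.{w} A (R.obj G) (n + 1)), x = 0 := by
  intro n
  induction n with
  | zero =>
    intro G x
    have hS := Groth.Agent.Helper9.ExtNat.sc_shortExact G
    have hS' := hR _ hS
    haveI : Injective ((Groth.Agent.Helper9.ExtNat.sc G).map R).X₂ := hinj _ inferInstance
    refine eq_zero_of_shift _ hS' 0 x (fun y => ?_)
    obtain ⟨y₀, rfl⟩ := (Ext.mk₀_bijective _ _).2 y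
    obtain ⟨z, hz⟩ := h1 _ hS y₀
    exact comp_extClass_eq_zero _ hS' z y₀ hz
  | succ n ih =>
    intro G x
    have hS := Groth.Agent.Helper9.ExtNat.sc_shortExact G
    have hS' := hR _ hS
    haveI : Injective ((Groth.Agent.Helper9.ExtNat.sc G).map R).X₂ := hinj _ inferInstance
    refine eq_zero_of_shift _ hS' (n + 1) x (fun y => ?_)
    have hy0 : y = 0 := ih _ y
    rw [hy0, Ext.zero_comp]

end Groth.Agent.Helper4.ExtShiftR
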