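import Mathlib
import Groth.Prelude.Def_EtCore
import Groth.Agent.Helper4.AcycColim
import Groth.Agent.Helper4.ExtShiftR
import Groth.Agent.Helper9.EtPushInj
import Groth.Agent.S6634
import Groth.Agent.S0073

/-! Direct images of abelian sheaves from closed points with algebraically closed residue field
are acyclic. -/

set_option autoImplicit false
universe u

open CategoryTheory CategoryTheory.Limits AlgebraicGeometry Opposite CategoryTheory.Abelian

namespace Groth.Agent.Helper4.ClosedPtAcyc

open Groth.Agent.Helper4.AcycColim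

/-- if `H¹` vanishes identically, sections over a terminal object are right exact -/
lemma surj_sections {Z : Scheme.{u}} (hH : ∀ (G : EtCoh.Ab Z) (x : EtCoh.H Z G 1), x = 0)
    (S : ShortComplex (EtCoh.Ab Z)) (hS : S.ShortExact) (W : Z.Etale) (hW : IsTerminal W) :
    Function.Surjective (S.g.hom.app (op W)) := by
  intro y
  have h0 : ((Sheaf.H.equiv₀ S.X₃ hW).symm y).comp hS.extClass (zero_add 1) = 0 := hH _ _
  obtain ⟨x₂, hx₂⟩ := Ext.covariant_sequence_exact₃ _ hS _ (zero_add 1) h0
  refine ⟨Sheaf.H.equiv₀ S.X₂ hW x₂, ?_⟩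
  rw [Sheaf.H.equiv₀_naturality]
  have h1 : Sheaf.H.map S.g 0 x₂ = (Sheaf.H.equiv₀ S.X₃ hW).symm y := hx₂
  rw [h1]
  exact AddEquiv.apply_symm_apply _ _

/-- direct images along a morphism with exact direct image from a scheme on which `H¹` vanishes
identically are acyclic -/
theorem acyc_push {Z X : Scheme.{u}} (i : Z ⟶ X) [(EtCoh.push i).PreservesEpimorphisms]
    (hH : ∀ (G : EtCoh.Ab Z) (x : EtCoh.H Z G 1), x = 0) (G : EtCoh.Ab Z) :
    Acyc X ((EtCoh.push i).obj G) := by
  intro n x
  refine Groth.Agent.Helper4.ExtShiftR.main (EtCoh.push i) ?_ ?_ _ ?_ n G x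
  · intro S hS
    haveI := hS.mono_f
    haveI := hS.epi_g
    haveI : PreservesFiniteLimits (EtCoh.push i) :=
      ⟨fun K _ _ => (EtCoh.pullPushAdj i).rightAdjoint_preservesLimits.1⟩
    haveI : Mono ((EtCoh.push i).map S.f) := inferInstance
    haveI : Epi ((EtCoh.push i).map S.g) := inferInstance
    exact
      { exact := hS.exact.map_of_mono_of_preservesKernel (EtCoh.push i) inferInstance inferInstance
        mono_f := inferInstanceAs (Mono ((EtCoh.push i).map S.f))
        epi_g := inferInstanceAs (Epi ((EtCoh.push i).map S.g)) }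
  · intro I hI
    exact Groth.Agent.Helper9.EtPushInj.injective_push i I
  · intro S hS y
    obtain ⟨z', hz'⟩ := surj_sections hH S hS _ (EtCore.bcTopIsTerminal i)
      (Sheaf.H.equiv₀ ((EtCoh.push i).obj S.X₃) (EtCore.topIsTerminal X) (Ext.mk₀ y))
    obtain ⟨z, hz⟩ := (Ext.mk₀_bijective _ _).2
      ((Sheaf.H.equiv₀ ((EtCoh.push i).obj S.X₂) (EtCore.topIsTerminal X)).symm z')
    refine ⟨z, ?_⟩
    apply (Ext.mk₀_bijective _ _).1
    apply (Sheaf.H.equiv₀ ((EtCoh.push i).obj S.X₃) (EtCore.topIsTerminal X)).injective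
    rw [← hz', ← Ext.mk₀_comp_mk₀, hz]
    have h1 := Sheaf.H.equiv₀_naturality (hT := EtCore.topIsTerminal X) ((EtCoh.push i).map S.g)
      ((Sheaf.H.equiv₀ ((EtCoh.push i).obj S.X₂) (EtCore.topIsTerminal X)).symm z')
    rw [AddEquiv.apply_symm_apply] at h1
    exact h1.symm

/-- residue fields at closed points of a scheme locally of finite type over an algebraically
closed field are algebraically closed -/
lemma isAlgClosed_residueField {k : Type u} [Field k] [IsAlgClosed k] {X : Scheme.{u}}
    (f : X ⟶ Spec (CommRingCat.of k)) [LocallyOfFiniteType f] (x : X)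
    (hx : IsClosed ({x} : Set X)) : IsAlgClosed (X.residueField x) := by
  haveI : IsClosedImmersion (X.fromSpecResidueField x) :=
    isClosed_singleton_iff_isClosedImmersion.1 hx
  haveI : LocallyOfFiniteType (X.fromSpecResidueField x ≫ f) := inferInstance
  have hfin : IsFinite (X.fromSpecResidueField x ≫ f) :=
    isFinite_iff_locallyOfFiniteType_of_jacobsonSpace.2 inferInstance
  obtain ⟨φ, hφ⟩ := Spec.map_surjective (X.fromSpecResidueField x ≫ f)
  rw [← hφ, IsFinite.SpecMap_iff] at hfin
  letI : Algebra k (X.residueField x) := φ.hom.toAlgebra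
  haveI : Module.Finite k (X.residueField x) := hfin
  haveI : Algebra.IsIntegral k (X.residueField x) := inferInstance
  have hb := IsAlgClosed.algebraMap_bijective_of_isIntegral (k := k) (K := X.residueField x)
  exact IsAlgClosed.of_ringEquiv k _ (RingEquiv.ofBijective (algebraMap k (X.residueField x)) hb)

lemma isSepClosed_residue (κ : Type u) [Field κ] [IsAlgClosed κ] :
    IsSepClosed (IsLocalRing.ResidueField κ) := by
  have hb : Function.Bijective (IsLocalRing.residue κ) :=
    ⟨(IsLocalRing.residue κ).injective, IsLocalRing.residue_surjective⟩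
  haveI : IsAlgClosed (IsLocalRing.ResidueField κ) :=
    IsAlgClosed.of_ringEquiv κ _ (RingEquiv.ofBijective _ hb)
  infer_instance

lemma H1_eq_zero_of_isAlgClosed (κ : Type u) [Field κ] [IsAlgClosed κ]
    (G : EtCoh.Ab (Spec (CommRingCat.of κ))) (y : EtCoh.H (Spec (CommRingCat.of κ)) G 1) :
    y = 0 := by
  haveI := isSepClosed_residue κ
  haveI := Groth.Agent.S0073.result κ G 1 le_rfl
  exact Subsingleton.elim _ _

/-- direct images of abelian sheaves from closed points of a scheme locally of finite type over
an algebraically closed field are acyclic -/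
theorem acyc_push_closedPoint {k : Type u} [Field k] [IsAlgClosed k] {X : Scheme.{u}}
    (f : X ⟶ Spec (CommRingCat.of k)) [LocallyOfFiniteType f] (x : X)
    (hx : IsClosed ({x} : Set X)) (G : EtCoh.Ab (Spec (X.residueField x))) :
    Acyc X ((EtCoh.push (X.fromSpecResidueField x)).obj G) := by
  haveI := isAlgClosed_residueField f x hx
  haveI : IsClosedImmersion (X.fromSpecResidueField x) :=
    isClosed_singleton_iff_isClosedImmersion.1 hx
  haveI : (EtCoh.push (X.fromSpecResidueField x)).PreservesEpimorphisms :=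
    Groth.Agent.S6634.result _
  apply acyc_push
  intro G' y
  exact H1_eq_zero_of_isAlgClosed (X.residueField x) G' y

/-- the cohomology of a direct sum of skyscraper sheaves `i_{x*} ℤ` at the closed points of a
qcqs scheme locally of finite type over an algebraically closed field vanishes in positive
degrees -/
theorem main {k : Type u} [Field k] [IsAlgClosed k] {X : Scheme.{u}}
    (f : X ⟶ Spec (CommRingCat.of k)) [LocallyOfFiniteType f] [QuasiCompact f] [QuasiSeparated f]
    (c : Cofan fun x : {x : X // IsClosed ({x} : Set X)} =>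
      (EtCoh.push (X.fromSpecResidueField x.1)).obj (EtCoh.const (Spec (X.residueField x.1)) ℤ))
    (hc : IsColimit c) (q : ℕ) (hq : 0 < q) : Subsingleton (EtCoh.H X c.pt q) := by
  haveI : CompactSpace X := QuasiCompact.compactSpace_of_compactSpace f
  haveI : QuasiSeparatedSpace X := quasiSeparatedSpace_of_quasiSeparated f
  obtain ⟨n, rfl⟩ : ∃ n, q = n + 1 := ⟨q - 1, by omega⟩
  have h := acyc_coproduct _ (fun x : {x : X // IsClosed ({x} : Set X)} =>
    acyc_push_closedPoint f x.1 x.2 (EtCoh.const (Spec (X.residueField x.1)) ℤ)) c hc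
  exact ⟨fun a b => (h n a).trans (h n b).symm⟩

end Groth.Agent.Helper4.ClosedPtAcyc
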