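import Mathlib
import Groth.Prelude.Def_ModSite
import Groth.Prelude.Def_CohCx
import Groth.Agent.Helper6.CanTop1
import Groth.Agent.Helper6.CF2
import Groth.Agent.Helper2.TF1
import Groth.Agent.Helper9.FreeOnHom
import Groth.Agent.Helper3.SheafModLib

set_option autoImplicit false
set_option backward.isDefEq.respectTransparency false
set_option backward.isDefEq.respectTransparency.types false

/-!
# Maps between the modules `j_{U!}O_U`, and epimorphisms onto them from finite families
-/

universe u

open CategoryTheory CategoryTheory.Limits Opposite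

namespace Groth.Agent.Helper4.CokA

open Groth.Agent.Helper6 Groth.Agent.Helper9.FreeOnHom

variable {C : Type u} [SmallCategory C] {J : GrothendieckTopology C}

section sets

/-- the universal section of `h_U^#` -/
noncomputable def ξ (U : C) : (CanTop.r J U).obj.obj (op U) := CanTop.el (CanTop.r J U) U (𝟙 _)

lemma el_eq {A : Sheaf J (Type u)} {U : C} (f : CanTop.r J U ⟶ A) :
    CanTop.el A U f = f.hom.app (op U) (ξ U) := by
  unfold ξ
  rw [← CanTop.el_comp, Category.id_comp]

lemma rmap_ξ {U V : C} (k : V ⟶ U) :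
    (CanTop.rmap J k).hom.app (op V) (ξ V) = (CanTop.r J U).obj.map k.op (ξ U) := by
  rw [← el_eq]
  have := CanTop.el_rmap (A := CanTop.r J U) k (𝟙 _)
  rw [Category.comp_id] at this
  exact this

/-- every section of `h_U^#` is locally the restriction of the universal section along a
morphism to `U` -/
lemma locally_rep (U : C) {V : C} (s : (CanTop.r J U).obj.obj (op V)) :
    ∃ S ∈ J V, ∀ ⦃V' : C⦄ (g : V' ⟶ V), S g →
      ∃ φ : V' ⟶ U, (CanTop.r J U).obj.map g.op s = (CanTop.r J U).obj.map φ.op (ξ U) := by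
  have hξ : ξ (J := J) U = (toSheafify J (yoneda.obj U)).app (op U) (𝟙 U) := rfl
  haveI : Presheaf.IsLocallySurjective J (toSheafify J (yoneda.obj U)) := inferInstance
  refine ⟨Presheaf.imageSieve (toSheafify J (yoneda.obj U)) s,
    Presheaf.imageSieve_mem J (toSheafify J (yoneda.obj U)) s, fun V' g hg => ?_⟩
  obtain ⟨φ, hφ⟩ := hg
  refine ⟨φ, ?_⟩
  have hφ' : (toSheafify J (yoneda.obj U)).app (op V') φ = (CanTop.r J U).obj.map g.op s := hφ
  rw [← hφ', hξ]
  have hn := NatTrans.naturality_apply (toSheafify J (yoneda.obj U)) φ.op (𝟙 U)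
  have e : (yoneda.obj U).map φ.op (𝟙 U) = φ := Category.comp_id φ
  rw [e] at hn
  exact hn

/-- a family generating a covering sieve gives a jointly surjective family of sheafified
representables -/
lemma jointlySurjective_of_covering {U : C} {A : Type u} (Y : A → C) (g : ∀ a, Y a ⟶ U)
    (h : Sieve.ofArrows Y g ∈ J U) :
    CohCx.JointlySurjective (fun a => CanTop.rmap J (g a)) := by
  intro V s
  obtain ⟨S₁, hS₁, hS₁'⟩ := locally_rep U s
  choose φ hφ using hS₁'
  refine ⟨Sieve.bind S₁ (fun V' k hk => (Sieve.ofArrows Y g).pullback (φ k hk)),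
    J.bind_covering hS₁ (fun V' k hk => J.pullback_stable _ h), ?_⟩
  rintro V'' m ⟨V', k', k, hk, hk', rfl⟩
  obtain ⟨a, n, hn⟩ := (Sieve.mem_ofArrows_iff _ _ _).1 hk'
  refine ⟨a, (CanTop.r J (Y a)).obj.map n.op (ξ (Y a)), ?_⟩
  have h1 := NatTrans.naturality_apply (CanTop.rmap J (g a)).hom n.op (ξ (Y a))
  rw [h1, rmap_ξ, op_comp, FunctorToTypes.map_comp_apply, hφ k hk,
    ← FunctorToTypes.map_comp_apply, ← FunctorToTypes.map_comp_apply, ← op_comp, ← op_comp, hn]

/-- sections of a sheaf over `U` are determined by their restrictions along a jointly surjective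
family of sheafified representables -/
lemma eq_of_jointlySurjective {U : C} {A : Type u} (Y : A → C) (g : ∀ a, Y a ⟶ U)
    (h : CohCx.JointlySurjective (fun a => CanTop.rmap J (g a))) (M : Sheaf J (Type u))
    (y y' : M.obj.obj (op U)) (hy : ∀ a, M.obj.map (g a).op y = M.obj.map (g a).op y') :
    y = y' := by
  have hl : Groth.Agent.Helper2.TF1.LJS (fun a => CanTop.r J (Y a))
      (fun a => CanTop.rmap J (g a)) := fun V x => by
    obtain ⟨S, hS, hS'⟩ := h V x
    exact ⟨S, hS, fun V' k hk => hS' V' k hk⟩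
  have := hl.hom_ext (CanTop.hat M y) (CanTop.hat M y') (fun a => by
    rw [CanTop.rmap_hat, CanTop.rmap_hat, hy a])
  have h2 := congrArg (CanTop.el M U) this
  rwa [CanTop.el_hat, CanTop.el_hat] at h2

end sets

end Groth.Agent.Helper4.CokA
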