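import Mathlib

/-! A coproduct of distinguished triangles is distinguished (dual of Mathlib's
`productTriangle_distinguished`). -/

set_option autoImplicit false
universe v u

open CategoryTheory CategoryTheory.Limits Pretriangulated

namespace Groth.Agent.Helper4.CoprodTri

variable {C : Type u} [Category.{v} C] [Preadditive C] [HasZeroObject C] [HasShift C ℤ]
  [∀ n : ℤ, (shiftFunctor C n).Additive] [Pretriangulated C]
  {J : Type*} (T : J → Triangle C)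
  [HasCoproduct (fun j => (T j).obj₁)] [HasCoproduct (fun j => (T j).obj₂)]
  [HasCoproduct (fun j => (T j).obj₃)] [HasCoproduct (fun j => (T j).obj₁⟦(1 : ℤ)⟧)]

/-- the coproduct of a family of triangles -/
noncomputable def coproductTriangle : Triangle C :=
  Triangle.mk (Limits.Sigma.map (fun j => (T j).mor₁)) (Limits.Sigma.map (fun j => (T j).mor₂))
    (Limits.Sigma.map (fun j => (T j).mor₃) ≫ sigmaComparison (shiftFunctor C (1 : ℤ)) _)

omit [Preadditive C] [HasZeroObject C] [∀ n : ℤ, (shiftFunctor C n).Additive] [Pretriangulated C] in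
lemma shift_sigma_ext (Y : J → C) [HasCoproduct Y] {A : C}
    (g g' : (∐ Y)⟦(1 : ℤ)⟧ ⟶ A)
    (h : ∀ j, (Sigma.ι Y j)⟦(1 : ℤ)⟧' ≫ g = (Sigma.ι Y j)⟦(1 : ℤ)⟧' ≫ g') : g = g' := by
  have hl : IsColimit ((shiftFunctor C (1 : ℤ)).mapCocone (colimit.cocone (Discrete.functor Y))) :=
    isColimitOfPreserves _ (colimit.isColimit _)
  apply hl.hom_ext
  rintro ⟨j⟩
  exact h j

omit [Preadditive C] [HasZeroObject C] [∀ n : ℤ, (shiftFunctor C n).Additive] [Pretriangulated C] in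
lemma shift_sigma_desc (Y : J → C) [HasCoproduct Y] {A : C} (g : ∀ j, (Y j)⟦(1 : ℤ)⟧ ⟶ A) :
    ∃ f : (∐ Y)⟦(1 : ℤ)⟧ ⟶ A, ∀ j, (Sigma.ι Y j)⟦(1 : ℤ)⟧' ≫ f = g j := by
  have hl : IsColimit ((shiftFunctor C (1 : ℤ)).mapCocone (colimit.cocone (Discrete.functor Y))) :=
    isColimitOfPreserves _ (colimit.isColimit _)
  let c : Cocone (Discrete.functor Y ⋙ shiftFunctor C (1 : ℤ)) :=
    { pt := A
      ι := Discrete.natTrans (fun j => g j.as) }
  exact ⟨hl.desc c, fun j => hl.fac c ⟨j⟩⟩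

theorem coproductTriangle_distinguished (hT : ∀ j, T j ∈ distTriang C) :
    coproductTriangle T ∈ distTriang C := by
  let X₁ : J → C := fun j => (T j).obj₁
  let X₂ : J → C := fun j => (T j).obj₂
  let X₃ : J → C := fun j => (T j).obj₃
  let f₁ : ∐ X₁ ⟶ ∐ X₂ := Limits.Sigma.map (fun j => (T j).mor₁)
  let m₂ : ∐ X₂ ⟶ ∐ X₃ := Limits.Sigma.map (fun j => (T j).mor₂)
  have hf₁ : ∀ j, Sigma.ι X₁ j ≫ f₁ = (T j).mor₁ ≫ Sigma.ι X₂ j :=
    fun j => Sigma.ι_map (fun j => (T j).mor₁) j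
  have hm₂ : ∀ j, Sigma.ι X₂ j ≫ m₂ = (T j).mor₂ ≫ Sigma.ι X₃ j :=
    fun j => Sigma.ι_map (fun j => (T j).mor₂) j
  obtain ⟨Z, f₂, f₃, hT'⟩ := distinguished_cocone_triangle f₁
  let T' := Triangle.mk f₁ f₂ f₃
  change T' ∈ distTriang C at hT'
  let φ : ∀ j, T j ⟶ T' := fun j => completeDistinguishedTriangleMorphism _ _
    (hT j) hT' (Sigma.ι X₁ j) (Sigma.ι X₂ j) (hf₁ j).symm
  let h₃ : ∀ j, X₃ j ⟶ Z := fun j => (φ j).hom₃
  have hφ₂ : ∀ j, (T j).mor₂ ≫ h₃ j = Sigma.ι X₂ j ≫ f₂ := fun j => (φ j).comm₂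
  have hφ₃ : ∀ j, (T j).mor₃ ≫ (Sigma.ι X₁ j)⟦(1 : ℤ)⟧' = h₃ j ≫ f₃ := fun j => (φ j).comm₃
  let ψ : ∐ X₃ ⟶ Z := Sigma.desc h₃
  have hψ : ∀ j, Sigma.ι X₃ j ≫ ψ = h₃ j := fun j => Sigma.ι_desc _ _
  have c₂ : m₂ ≫ ψ = f₂ := by
    apply Sigma.hom_ext
    intro j
    rw [reassoc_of% (hm₂ j), hψ, hφ₂]
  have c₃ : (Limits.Sigma.map (fun j => (T j).mor₃) ≫
      sigmaComparison (shiftFunctor C (1 : ℤ)) X₁) = ψ ≫ f₃ := by
    apply Sigma.hom_ext
    intro j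
    rw [Sigma.ι_map_assoc, reassoc_of% (hψ j), ι_comp_sigmaComparison]
    exact hφ₃ j
  let φ' : coproductTriangle T ⟶ T' :=
    { hom₁ := 𝟙 _
      hom₂ := 𝟙 _
      hom₃ := ψ
      comm₁ := (Category.comp_id _).trans (Category.id_comp _).symm
      comm₂ := c₂.trans (Category.id_comp _).symm
      comm₃ := by
        refine Eq.trans ?_ c₃
        exact (congrArg (fun z => _ ≫ z) (CategoryTheory.Functor.map_id _ _)).trans
          (Category.comp_id _) }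
  have : IsIso φ'.hom₁ := inferInstanceAs (IsIso (𝟙 _))
  have : IsIso φ'.hom₂ := inferInstanceAs (IsIso (𝟙 _))
  suffices IsIso ψ by
    have : IsIso φ'.hom₃ := this
    have : IsIso φ' := by
      apply Triangle.isIso_of_isIsos
      all_goals infer_instance
    exact isomorphic_distinguished _ hT' _ (asIso φ')
  refine isIso_of_coyoneda_map_bijective _ (fun A => ⟨?_, ?_⟩)
  · -- injectivity
    suffices Epi ψ by
      intro a₁ a₂ ha
      exact (cancel_epi ψ).1 ha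
    rw [Preadditive.epi_iff_cancel_zero]
    intro A u hu
    have hu' : f₂ ≫ u = 0 := by rw [← c₂, Category.assoc, hu, comp_zero]
    obtain ⟨(g : (∐ X₁)⟦(1 : ℤ)⟧ ⟶ A), (hg : u = f₃ ≫ g)⟩ := T'.yoneda_exact₃ hT' u hu'
    have hg2 : f₃ ≫ g = u := hg.symm
    have hg' : ∀ j, (T j).mor₃ ≫ (Sigma.ι X₁ j)⟦(1 : ℤ)⟧' ≫ g = 0 := fun j => by
      rw [reassoc_of% (hφ₃ j), ← hψ j, Category.assoc, hg2, hu, comp_zero]
    have hg'' : ∀ j, ∃ α : (X₂ j)⟦(1 : ℤ)⟧ ⟶ A,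
        (Sigma.ι X₁ j)⟦(1 : ℤ)⟧' ≫ g = (-(T j).mor₁⟦(1 : ℤ)⟧') ≫ α := fun j =>
      (T j).rotate.yoneda_exact₃ (rot_of_distTriang _ (hT j))
        ((Sigma.ι X₁ j)⟦(1 : ℤ)⟧' ≫ g) (hg' j)
    choose α hα using hg''
    obtain ⟨α', hα'⟩ := shift_sigma_desc X₂ (fun j => -α j)
    have hg''' : g = f₁⟦(1 : ℤ)⟧' ≫ α' := by
      apply shift_sigma_ext X₁
      intro j
      rw [hα j, ← Functor.map_comp_assoc, hf₁ j, Functor.map_comp, Category.assoc, hα' j]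
      simp
    have h0 : f₃ ≫ f₁⟦(1 : ℤ)⟧' = 0 := comp_distTriang_mor_zero₃₁ _ hT'
    rw [hg, hg''', reassoc_of% h0, zero_comp]
  · -- surjectivity
    intro a
    have hz : f₁ ≫ m₂ ≫ a = 0 := by
      apply Sigma.hom_ext
      intro j
      rw [reassoc_of% (hf₁ j), reassoc_of% (hm₂ j),
        reassoc_of% (comp_distTriang_mor_zero₁₂ _ (hT j)), zero_comp, comp_zero]
    obtain ⟨(a' : Z ⟶ A), (ha' : m₂ ≫ a = f₂ ≫ a')⟩ := T'.yoneda_exact₂ hT' (m₂ ≫ a) hz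
    have ha2 : f₂ ≫ a' = m₂ ≫ a := ha'.symm
    have ha'' := fun j => (T j).yoneda_exact₃ (hT j) (Sigma.ι X₃ j ≫ (a - ψ ≫ a')) (by
      rw [← reassoc_of% (hm₂ j), Preadditive.comp_sub, Preadditive.comp_sub, reassoc_of% c₂, ha2,
        sub_self])
    choose b hb using ha''
    obtain ⟨b', hb'⟩ := shift_sigma_desc X₁ b
    refine ⟨a' + f₃ ≫ b', ?_⟩
    dsimp only
    have key : a - ψ ≫ a' = ψ ≫ f₃ ≫ b' := by
      apply Sigma.hom_ext
      intro j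
      rw [hb j, reassoc_of% (hψ j), ← reassoc_of% (hφ₃ j), hb' j]
    rw [Preadditive.comp_add, ← key]
    abel

end Groth.Agent.Helper4.CoprodTri
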