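import Mathlib
import Groth.Prelude.Def_CohDer
import Groth.Agent.Helper1.Compact
import Groth.Agent.Helper4.CoprodTri

/-! Finite support of maps into a coproduct, family by family. -/

set_option autoImplicit false
set_option linter.unusedSectionVars false

namespace Groth.Agent.Helper4.CptFam
open CategoryTheory Limits CohDer ZeroObject Groth.Agent.Helper1.Compact

universe v u
variable {D : Type u} [Category.{v} D] [Preadditive D]

section basic
variable {ι : Type v} (X : ι → D) [HasCoproduct X]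

/-- `φ : K ⟶ ∐ X` is supported on finitely many summands. -/
def FSupp {K : D} (φ : K ⟶ ∐ X) : Prop :=
  ∃ S : Finset ι, φ ≫ (𝟙 _ - proj X S) = 0

variable {X}

lemma FSupp.zero (K : D) : FSupp X (0 : K ⟶ ∐ X) := ⟨∅, zero_comp⟩

lemma FSupp.add {K : D} {φ ψ : K ⟶ ∐ X} (hφ : FSupp X φ) (hψ : FSupp X ψ) :
    FSupp X (φ + ψ) := by
  classical
  obtain ⟨S, hS⟩ := hφ
  obtain ⟨T, hT⟩ := hψ
  refine ⟨S ∪ T, ?_⟩
  rw [Preadditive.add_comp]
  have h1 : φ ≫ (𝟙 _ - proj X (S ∪ T)) = 0 := by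
    rw [← one_sub_proj_comp, ← Category.assoc, hS, zero_comp]
  have h2 : ψ ≫ (𝟙 _ - proj X (S ∪ T)) = 0 := by
    rw [Finset.union_comm, ← one_sub_proj_comp, ← Category.assoc, hT, zero_comp]
  rw [h1, h2, add_zero]

lemma FSupp.precomp {K K' : D} (e : K' ⟶ K) {φ : K ⟶ ∐ X} (hφ : FSupp X φ) :
    FSupp X (e ≫ φ) := by
  obtain ⟨S, hS⟩ := hφ
  exact ⟨S, by rw [Category.assoc, hS, comp_zero]⟩

lemma FSupp.comp_ι {K : D} (i : ι) (ψ : K ⟶ X i) : FSupp X (ψ ≫ Sigma.ι X i) := by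
  classical
  refine ⟨{i}, ?_⟩
  rw [Category.assoc, Preadditive.comp_sub, Category.comp_id, ι_proj,
    if_pos (Finset.mem_singleton_self i), sub_self, comp_zero]

variable (X)

open scoped Classical in
lemma map_proj {Y : ι → D} [HasCoproduct Y] (g : ∀ i, X i ⟶ Y i) (S : Finset ι) :
    Limits.Sigma.map g ≫ proj Y S = proj X S ≫ Limits.Sigma.map g := by
  apply Sigma.hom_ext
  intro i
  rw [Sigma.ι_map_assoc, ι_proj, ι_proj_assoc]
  split_ifs
  · rw [Sigma.ι_map]
  · rw [comp_zero, zero_comp]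

lemma map_one_sub_proj {Y : ι → D} [HasCoproduct Y] (g : ∀ i, X i ⟶ Y i) (S : Finset ι) :
    Limits.Sigma.map g ≫ (𝟙 _ - proj Y S) = (𝟙 _ - proj X S) ≫ Limits.Sigma.map g := by
  rw [Preadditive.comp_sub, Preadditive.sub_comp, Category.comp_id, Category.id_comp, map_proj]

variable {X}

lemma FSupp.map {K : D} {φ : K ⟶ ∐ X} (hφ : FSupp X φ) {Y : ι → D} [HasCoproduct Y]
    (g : ∀ i, X i ⟶ Y i) : FSupp Y (φ ≫ Limits.Sigma.map g) := by
  obtain ⟨S, hS⟩ := hφ
  refine ⟨S, ?_⟩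
  rw [Category.assoc, map_one_sub_proj, ← Category.assoc, hS, zero_comp]

/-- all maps from `K` to `∐ X` are finitely supported -/
def AllFSupp (K : D) (X : ι → D) [HasCoproduct X] : Prop :=
  ∀ φ : K ⟶ ∐ X, FSupp X φ

lemma AllFSupp.of_iso {K : D} {Y : ι → D} [HasCoproduct Y] (h : AllFSupp K X)
    (e : ∀ i, X i ≅ Y i) : AllFSupp K Y := by
  intro φ
  have h1 := (h (φ ≫ Limits.Sigma.map (fun i => (e i).inv))).map (fun i => (e i).hom)
  have h2 : Limits.Sigma.map (fun i => (e i).inv) ≫ Limits.Sigma.map (fun i => (e i).hom) =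
      𝟙 (∐ Y) := by
    apply Sigma.hom_ext
    intro i
    rw [Sigma.ι_map_assoc, Sigma.ι_map, Iso.inv_hom_id_assoc, Category.comp_id]
  rwa [Category.assoc, h2, Category.comp_id] at h1

lemma AllFSupp.of_isZero {K : D} (h : IsZero (∐ X)) : AllFSupp K X :=
  fun φ => ⟨∅, by rw [h.eq_of_tgt φ 0, zero_comp]⟩

lemma AllFSupp.of_hom_eq_zero {K : D} (h : ∀ φ : K ⟶ ∐ X, φ = 0) : AllFSupp K X :=
  fun φ => ⟨∅, by rw [h φ, zero_comp]⟩

end basic

section bij
variable [HasCoproducts.{v} D]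

lemma bijective_of_allFSupp (K : D) {ι : Type v} (X : ι → D) (h : AllFSupp K X) :
    Function.Bijective (homSumToHomCoprod K X) := by
  classical
  constructor
  · rw [injective_iff_map_eq_zero]
    intro x hx
    ext j
    rw [← homSumToHomCoprod_comp_π, hx, zero_comp]
    rfl
  · intro φ
    obtain ⟨S, hS⟩ := h φ
    rw [Preadditive.comp_sub, Category.comp_id, sub_eq_zero] at hS
    refine ⟨∑ i ∈ S, DirectSum.of (fun i => K ⟶ X i) i (φ ≫ π X i), ?_⟩
    rw [map_sum]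
    conv_rhs => rw [hS, proj_eq_sum, Preadditive.comp_sum]
    apply Finset.sum_congr rfl
    intro i _
    rw [← Category.assoc]
    exact homSumToHomCoprod_of K X i (φ ≫ π X i)

end bij

section triangulated
open Pretriangulated
variable [HasZeroObject D] [HasShift D ℤ] [∀ n : ℤ, (shiftFunctor D n).Additive] [Pretriangulated D]

/-- If `X i ⟶ Y i ⟶ Z i ⟶` are distinguished and all maps from `K` to `∐ X` and `∐ Z` are
finitely supported then so are all maps from `K` to `∐ Y`. -/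
lemma AllFSupp.of_triangle {K : D} {ι : Type v} (T : ι → Triangle D)
    (hT : ∀ i, T i ∈ distTriang D)
    [HasCoproduct (fun i => (T i).obj₁)] [HasCoproduct (fun i => (T i).obj₂)]
    [HasCoproduct (fun i => (T i).obj₃)] [HasCoproduct (fun i => (T i).obj₁⟦(1 : ℤ)⟧)]
    (h1 : AllFSupp K (fun i => (T i).obj₁)) (h3 : AllFSupp K (fun i => (T i).obj₃)) :
    AllFSupp K (fun i => (T i).obj₂) := by
  classical
  intro φ
  have hd := CoprodTri.coproductTriangle_distinguished T hT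
  obtain ⟨S, hS⟩ := h3 (φ ≫ Limits.Sigma.map (fun i => (T i).mor₂))
  rw [Category.assoc, map_one_sub_proj, ← Category.assoc] at hS
  obtain ⟨ψ, hψ⟩ : ∃ ψ : K ⟶ ∐ (fun i => (T i).obj₁),
      φ ≫ (𝟙 _ - proj (fun i => (T i).obj₂) S) = ψ ≫ Limits.Sigma.map (fun i => (T i).mor₁) :=
    Triangle.coyoneda_exact₂ _ hd _ hS
  obtain ⟨S', hS'⟩ := h1 ψ
  refine ⟨S ∪ S', ?_⟩
  rw [← one_sub_proj_comp, ← Category.assoc, hψ, Category.assoc, map_one_sub_proj,
    ← Category.assoc, hS', zero_comp]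

end triangulated

end Groth.Agent.Helper4.CptFam
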