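import Mathlib
import Groth.Prelude.Def_CohDer
import Groth.Agent.Helper1.Compact
import Groth.Agent.Helper1.DCoprod
import Groth.Agent.Helper9.CP3
import Groth.Agent.Helper4.CptFam

/-! The single functor commutes with coproducts; finite support of maps into a coproduct of
shifted single objects, from `Ext` commuting with the coproduct. -/

set_option autoImplicit false
set_option linter.unusedSectionVars false

namespace Groth.Agent.Helper4.CptSingle
open CategoryTheory Limits ZeroObject Groth.Agent.Helper1.Compact Groth.Agent.Helper4.CptFam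
open DerivedCategory

universe w' w v u

section AddCommGrp

/-- the image of the `i`-th injection of a cocone of abelian groups -/
def rangeι {ι : Type*} {K : Discrete ι ⥤ AddCommGrpCat.{w}} (c : Cocone K) (i : ι) :
    AddSubgroup c.pt :=
  AddMonoidHom.range (show K.obj ⟨i⟩ →+ c.pt from (c.ι.app ⟨i⟩).hom)

/-- In a colimit cocone of abelian groups over a discrete diagram every element lies in the subgroup
generated by the images of the injections. -/
lemma mem_iSup_range_of_isColimit {ι : Type*} {K : Discrete ι ⥤ AddCommGrpCat.{w}} (c : Cocone K)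
    (hc : IsColimit c) (x : c.pt) : x ∈ ⨆ i, rangeι c i := by
  let B : AddSubgroup c.pt := ⨆ i, rangeι c i
  let q : c.pt ⟶ AddCommGrpCat.of (c.pt ⧸ B) := AddCommGrpCat.ofHom (QuotientAddGroup.mk' B)
  have hq : q = 0 := by
    refine hc.hom_ext (fun ⟨i⟩ => ?_)
    rw [comp_zero]
    ext y
    change (QuotientAddGroup.mk' B) ((c.ι.app ⟨i⟩).hom y) = 0
    rw [QuotientAddGroup.mk'_apply, QuotientAddGroup.eq_zero_iff]
    exact (le_iSup (fun i => rangeι c i) i) ⟨y, rfl⟩
  have hx : (QuotientAddGroup.mk' B) x = 0 := by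
    change q.hom x = 0
    rw [hq]
    rfl
  rwa [QuotientAddGroup.mk'_apply, QuotientAddGroup.eq_zero_iff] at hx

end AddCommGrp

variable {A : Type u} [Category.{v} A] [Abelian A] [HasDerivedCategory.{w'} A]

section single
variable {J : Type w} [HasColimitsOfShape (Discrete J) A] [HasExactColimitsOfShape (Discrete J) A]

lemma isZero_of_isColimit_of_isZero {C : Type*} [Category C] [HasZeroMorphisms C]
    {X : J → C} (c : Cofan X) (hc : IsColimit c) (h : ∀ j, IsZero (X j)) : IsZero c.pt := by
  rw [IsZero.iff_id_eq_zero]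
  exact Cofan.IsColimit.hom_ext hc _ _ (fun j => (h j).eq_of_src _ _)

lemma isIso_of_isColimit_of_isColimit {C : Type*} [Category C] {X : J → C} {P Q : C}
    (a : ∀ j, X j ⟶ P) (b : ∀ j, X j ⟶ Q) (ha : IsColimit (Cofan.mk P a))
    (hb : IsColimit (Cofan.mk Q b)) (f : P ⟶ Q) (hf : ∀ j, a j ≫ f = b j) : IsIso f := by
  refine ⟨Cofan.IsColimit.desc hb a, ?_, ?_⟩
  · refine Cofan.IsColimit.hom_ext ha _ _ (fun j => ?_)
    change a j ≫ f ≫ _ = a j ≫ 𝟙 _
    rw [← Category.assoc, hf j, Category.comp_id]
    exact Cofan.IsColimit.fac hb a j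
  · refine Cofan.IsColimit.hom_ext hb _ _ (fun j => ?_)
    change b j ≫ _ ≫ f = b j ≫ 𝟙 _
    rw [← Category.assoc, Category.comp_id]
    have := Cofan.IsColimit.fac hb a j
    change b j ≫ Cofan.IsColimit.desc hb a = a j at this
    rw [this, hf j]

/-- the single functors commute with coproducts -/
theorem isIso_sigmaComparison_single (k : ℤ) (F : J → A)
    [HasCoproduct (fun j => (singleFunctor A k).obj (F j))] :
    IsIso (sigmaComparison (singleFunctor A k) F) := by
  rw [DerivedCategory.isIso_iff]
  intro m
  obtain ⟨hc1⟩ := Groth.Agent.Helper9.CP3.nonempty_isColimit_homology_sigma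
    (fun j => (singleFunctor A k).obj (F j)) m
  by_cases hm : m = k
  · subst hm
    let e := singleFunctorCompHomologyFunctorIso A m
    have hc2 : IsColimit (Cofan.mk ((homologyFunctor A m).obj ((singleFunctor A m).obj (∐ F)))
        (fun j => (homologyFunctor A m).map ((singleFunctor A m).map (Sigma.ι F j)))) :=
      Groth.Agent.Helper9.CP3.isColimitCofanOfIso _ (fun j => Sigma.ι F j)
        (Groth.Agent.Helper9.CP3.isColimitCofanColimit (Discrete.functor F))
        (fun j => e.app (F j)) (e.app (∐ F)) (fun j => e.hom.naturality (Sigma.ι F j))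
    refine isIso_of_isColimit_of_isColimit _ _ hc1 hc2 _ (fun j => ?_)
    rw [← Functor.map_comp, ι_comp_sigmaComparison]
  · have h1 : IsZero ((homologyFunctor A m).obj ((singleFunctor A k).obj (∐ F))) := by
      rcases lt_or_gt_of_ne hm with h | h
      · exact isZero_of_isGE _ k m h
      · exact isZero_of_isLE _ k m h
    have h2 : IsZero ((homologyFunctor A m).obj (∐ fun j => (singleFunctor A k).obj (F j))) := by
      refine isZero_of_isColimit_of_isZero _ hc1 (fun j => ?_)
      rcases lt_or_gt_of_ne hm with h | h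
      · exact isZero_of_isGE _ k m h
      · exact isZero_of_isLE _ k m h
    exact ⟨0, h2.eq_of_src _ _, h1.eq_of_src _ _⟩

end single

section ext
open Abelian
variable [HasExt.{w} A] {J : Type w'} [HasColimitsOfShape (Discrete J) A]
  [HasExactColimitsOfShape (Discrete J) A]

/-- If `Ext^n(G, -)` commutes with the coproduct of the family `F`, then every map
`G[0] ⟶ ∐ F_j[n]` in the derived category is finitely supported. -/
theorem allFSupp_single (G : A) (n : ℕ) (F : J → A)
    [HasCoproduct (fun j => (singleFunctor A 0).obj (F j))]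
    [HasCoproduct (fun j => ((singleFunctor A 0).obj (F j))⟦(n : ℤ)⟧)]
    (hp : PreservesColimit (Discrete.functor F) (Abelian.extFunctorObj G n)) :
    AllFSupp ((singleFunctor A 0).obj G) (fun j => ((singleFunctor A 0).obj (F j))⟦(n : ℤ)⟧) := by
  haveI := isIso_sigmaComparison_single (A := A) 0 F
  haveI : PreservesColimit (Discrete.functor F) (singleFunctor A 0) :=
    PreservesCoproduct.of_iso_comparison _ _
  let G' : A ⥤ DerivedCategory A := singleFunctor A 0 ⋙ shiftFunctor _ (n : ℤ)
  haveI : PreservesColimit (Discrete.functor F) G' := inferInstance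
  haveI : HasCoproduct (fun j => G'.obj (F j)) :=
    (inferInstance : HasCoproduct (fun j => ((singleFunctor A 0).obj (F j))⟦(n : ℤ)⟧))
  let σ : (∐ fun j => G'.obj (F j)) ⟶ G'.obj (∐ F) := sigmaComparison G' F
  haveI : IsIso σ := inferInstance
  have hcol : IsColimit ((Abelian.extFunctorObj G n).mapCocone
      (colimit.cocone (Discrete.functor F))) := isColimitOfPreserves _ (colimit.isColimit _)
  have key : ∀ x : Ext G (∐ F) n,
      x ∈ ⨆ j, rangeι ((Abelian.extFunctorObj G n).mapCocone
        (colimit.cocone (Discrete.functor F))) j →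
      FSupp (fun j => G'.obj (F j)) (x.hom ≫ inv σ) := by
    intro x hx
    refine AddSubgroup.iSup_induction _ (C := fun x : Ext G (∐ F) n =>
      FSupp (fun j => G'.obj (F j)) (x.hom ≫ inv σ)) hx ?_ ?_ ?_
    · intro j x hx
      obtain ⟨y, rfl⟩ := hx
      have h1 : (((((Abelian.extFunctorObj G n).mapCocone
          (colimit.cocone (Discrete.functor F))).ι.app ⟨j⟩).hom y : Ext G (∐ F) n)).hom =
          y.hom ≫ G'.map (Sigma.ι F j) := by
        change (y.comp (Ext.mk₀ (Sigma.ι F j)) (add_zero n)).hom = _
        rw [Ext.comp_hom, Ext.mk₀_hom, ShiftedHom.comp_mk₀]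
        rfl
      change FSupp (fun j => G'.obj (F j)) (Ext.hom (((((Abelian.extFunctorObj G n).mapCocone
          (colimit.cocone (Discrete.functor F))).ι.app ⟨j⟩).hom y : Ext G (∐ F) n)) ≫ inv σ)
      rw [h1, ← ι_comp_sigmaComparison G' F j, Category.assoc, Category.assoc,
        IsIso.hom_inv_id, Category.comp_id]
      exact FSupp.comp_ι (X := fun j => G'.obj (F j)) j
        (show (singleFunctor A 0).obj G ⟶ G'.obj (F j) from y.hom)
    · change FSupp (fun j => G'.obj (F j)) ((0 : Ext G (∐ F) n).hom ≫ inv σ)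
      rw [Ext.zero_hom, zero_comp]
      exact FSupp.zero _
    · intro x y hx hy
      change FSupp (fun j => G'.obj (F j)) ((x + y).hom ≫ inv σ)
      rw [Ext.add_hom, Preadditive.add_comp]
      exact hx.add hy
  intro φ
  have h2 := key (Ext.homEquiv.symm (φ ≫ σ)) (mem_iSup_range_of_isColimit _ hcol _)
  have h3 : (Ext.homEquiv.symm (φ ≫ σ) : Ext G (∐ F) n).hom = φ ≫ σ :=
    Ext.homEquiv.apply_symm_apply _
  rw [h3, Category.assoc, IsIso.hom_inv_id, Category.comp_id] at h2
  exact h2

end ext

end Groth.Agent.Helper4.CptSingle
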