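import Mathlib
import Groth.Agent.Helper4.CptSingle

/-! A criterion for a cocone of abelian groups over a discrete diagram to be a colimit:
projections and generation. -/

set_option autoImplicit false
set_option linter.unusedSectionVars false

namespace Groth.Agent.Helper4.QcSumA
open CategoryTheory Limits Groth.Agent.Helper4.CptSingle

universe u

variable {ι : Type u} {K : Discrete ι ⥤ AddCommGrpCat.{u}}

open scoped Classical in
/-- A cocone of abelian groups over a discrete diagram admitting "projections" and generated by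
the images of its injections is a colimit cocone. -/
theorem isColimit_of_proj (c : Cocone K) (p : ∀ j, c.pt ⟶ K.obj ⟨j⟩)
    (hp1 : ∀ i, c.ι.app ⟨i⟩ ≫ p i = 𝟙 _)
    (hp2 : ∀ i j, i ≠ j → c.ι.app ⟨i⟩ ≫ p j = 0)
    (hgen : ∀ x : c.pt, x ∈ ⨆ i, rangeι c i) : Nonempty (IsColimit c) := by
  let d : colimit K ⟶ c.pt := colimit.desc K c
  have hd : ∀ i, colimit.ι K ⟨i⟩ ≫ d = c.ι.app ⟨i⟩ := fun i => colimit.ι_desc c ⟨i⟩
  -- elementwise versions
  have hd' : ∀ i (x : K.obj ⟨i⟩), d.hom ((colimit.ι K ⟨i⟩).hom x) = (c.ι.app ⟨i⟩).hom x := by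
    intro i x
    rw [← hd i]
    rfl
  have hp1' : ∀ i (x : K.obj ⟨i⟩), (p i).hom ((c.ι.app ⟨i⟩).hom x) = x := by
    intro i x
    have := ConcreteCategory.congr_hom (hp1 i) x
    exact this
  have hp2' : ∀ i j, i ≠ j → ∀ (x : K.obj ⟨i⟩), (p j).hom ((c.ι.app ⟨i⟩).hom x) = 0 := by
    intro i j hij x
    have := ConcreteCategory.congr_hom (hp2 i j hij) x
    exact this
  have hsurj : Function.Surjective d.hom := by
    intro x
    have hle : (⨆ i, rangeι c i) ≤ AddMonoidHom.range d.hom := by
      apply iSup_le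
      intro i z hz
      obtain ⟨x, hx⟩ := hz
      have hx' : (c.ι.app ⟨i⟩).hom x = z := hx
      subst hx'
      exact ⟨(colimit.ι K ⟨i⟩).hom x, hd' i x⟩
    exact hle (hgen x)
  have hinj : Function.Injective d.hom := by
    rw [injective_iff_map_eq_zero]
    intro z hz
    have key : ∀ z : (colimit K : AddCommGrpCat.{u}), z ∈ ⨆ i, rangeι (colimit.cocone K) i →
        ∃ S : Finset ι, ∀ T : Finset ι, S ⊆ T →
          z = ∑ j ∈ T, (colimit.ι K ⟨j⟩).hom ((p j).hom (d.hom z)) := by
      intro z hz
      refine AddSubgroup.iSup_induction _ (C := fun z : (colimit K : AddCommGrpCat.{u}) =>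
        ∃ S : Finset ι, ∀ T : Finset ι, S ⊆ T →
          z = ∑ j ∈ T, (colimit.ι K ⟨j⟩).hom ((p j).hom (d.hom z))) hz ?_ ?_ ?_
      · intro i z hz
        obtain ⟨x, hx⟩ := hz
        have hx' : (colimit.ι K ⟨i⟩).hom x = z := hx
        subst hx'
        refine ⟨{i}, fun T hT => ?_⟩
        rw [Finset.sum_eq_single i]
        · rw [hd', hp1']
        · intro j _ hji
          rw [hd', hp2' i j (Ne.symm hji), map_zero]
        · intro hi
          exact absurd (hT (Finset.mem_singleton_self i)) hi
      · exact ⟨∅, fun T _ => by simp⟩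
      · rintro x y ⟨S, hS⟩ ⟨S', hS'⟩
        refine ⟨S ∪ S', fun T hT => ?_⟩
        have h1 := hS T (Finset.union_subset_left hT)
        have h2 := hS' T (Finset.union_subset_right hT)
        simp only [map_add, Finset.sum_add_distrib]
        rw [← h1, ← h2]
    obtain ⟨S, hS⟩ := key z (mem_iSup_range_of_isColimit _ (colimit.isColimit K) z)
    rw [hS S (Finset.Subset.refl S)]
    apply Finset.sum_eq_zero
    intro j _
    rw [hz, map_zero, map_zero]
  haveI : IsIso d := (ConcreteCategory.isIso_iff_bijective d).2 ⟨hinj, hsurj⟩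
  haveI : IsIso ((colimit.isColimit K).desc c) := (inferInstance : IsIso d)
  exact ⟨IsColimit.ofPointIso (colimit.isColimit K)⟩

end Groth.Agent.Helper4.QcSumA
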