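import Mathlib
import Groth.Agent.Helper4.CptSingle

/-! Sections of a coproduct of abelian sheaves are locally finite sums of sections of the summands. -/

set_option backward.isDefEq.respectTransparency false
set_option backward.isDefEq.respectTransparency.types false
set_option autoImplicit false
set_option linter.unusedSectionVars false

namespace Groth.Agent.Helper4.QcSumB
open CategoryTheory Limits Opposite Groth.Agent.Helper4.CptSingle

universe u

variable {C : Type u} [SmallCategory C] {J : GrothendieckTopology C}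

/-- the subgroup of sections over `V` generated by the images of the injections of a cocone of
abelian sheaves over a discrete diagram -/
def genSub {ι : Type u} {D : Discrete ι ⥤ Sheaf J AddCommGrpCat.{u}} (c : Cocone D) (V : C) :
    AddSubgroup (c.pt.obj.obj (op V)) :=
  ⨆ i, AddMonoidHom.range
    (show (D.obj ⟨i⟩).obj.obj (op V) →+ c.pt.obj.obj (op V) from ((c.ι.app ⟨i⟩).hom.app (op V)).hom)

set_option synthInstance.maxHeartbeats 80000 in
/-- **Local finiteness**: a section of a coproduct of abelian sheaves is locally a finite sum of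
sections of the summands. -/
theorem locally_mem_genSub {ι : Type u} {D : Discrete ι ⥤ Sheaf J AddCommGrpCat.{u}}
    (c : Cocone D) (hc : IsColimit c) {V : C} (y : c.pt.obj.obj (op V)) :
    ∃ R ∈ J V, ∀ ⦃V' : C⦄ (g : V' ⟶ V), R g → c.pt.obj.map g.op y ∈ genSub c V' := by
  let E := colimit.cocone (D ⋙ sheafToPresheaf J AddCommGrpCat.{u})
  have hE : IsColimit E := colimit.isColimit _
  let c' := Sheaf.sheafifyCocone E
  have hc' : IsColimit c' := Sheaf.isColimitSheafifyCocone E hE
  let e := hc.coconePointUniqueUpToIso hc'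
  have he : ∀ k, c'.ι.app k ≫ e.inv = c.ι.app k :=
    fun k => hc.comp_coconePointUniqueUpToIso_inv hc' k
  have h2 : ∀ k, (c'.ι.app k).hom = E.ι.app k ≫ toSheafify J E.pt :=
    fun k => Sheaf.sheafifyCocone_ι_app_val E k
  let y' : c'.pt.obj.obj (op V) := (e.hom.hom.app (op V)).hom y
  refine ⟨_, Presheaf.imageSieve_mem J (toSheafify J E.pt) (U := op V) y', ?_⟩
  intro V' g hg
  obtain ⟨z, hz⟩ := hg
  -- the additive map from sections of the presheaf colimit to sections of `c.pt`
  let Φ : E.pt.obj (op V') →+ c.pt.obj.obj (op V') :=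
    ((e.inv.hom.app (op V')).hom).comp ((toSheafify J E.pt).app (op V')).hom
  have hΦz : Φ z = c.pt.obj.map g.op y := by
    change (e.inv.hom.app (op V')).hom (((toSheafify J E.pt).app (op V')).hom z) = _
    have hz' : ((toSheafify J E.pt).app (op V')).hom z = (c'.pt.obj.map g.op).hom y' := hz
    rw [hz']
    have n1 := ConcreteCategory.congr_hom (e.hom.hom.naturality g.op) y
    have n1' : (c'.pt.obj.map g.op).hom y' =
        (e.hom.hom.app (op V')).hom ((c.pt.obj.map g.op).hom y) := n1.symm
    rw [n1']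
    have n2 : e.hom.hom.app (op V') ≫ e.inv.hom.app (op V') = 𝟙 _ :=
      congrArg (fun t : c.pt ⟶ c.pt => t.hom.app (op V')) e.hom_inv_id
    exact ConcreteCategory.congr_hom n2 _
  have hΦι : ∀ (i : ι) (x : (D.obj ⟨i⟩).obj.obj (op V')),
      Φ (((E.ι.app ⟨i⟩).app (op V')).hom x) = ((c.ι.app ⟨i⟩).hom.app (op V')).hom x := by
    intro i x
    have h3 : (c.ι.app ⟨i⟩).hom = (E.ι.app ⟨i⟩ ≫ toSheafify J E.pt) ≫ e.inv.hom := by
      rw [← h2, ← he]
      rfl
    rw [h3]
    rfl
  have hEV : IsColimit (((evaluation Cᵒᵖ AddCommGrpCat.{u}).obj (op V')).mapCocone E) :=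
    isColimitOfPreserves _ hE
  have hzmem := mem_iSup_range_of_isColimit _ hEV z
  rw [← hΦz]
  refine AddSubgroup.iSup_induction _ (C := fun z : E.pt.obj (op V') => Φ z ∈ genSub c V')
    hzmem ?_ ?_ ?_
  · intro i w hw
    obtain ⟨x, hx⟩ := hw
    have hx' : ((E.ι.app ⟨i⟩).app (op V')).hom x = w := hx
    subst hx'
    change Φ _ ∈ genSub c V'
    rw [hΦι]
    exact (le_iSup (fun i => AddMonoidHom.range
      (show (D.obj ⟨i⟩).obj.obj (op V') →+ c.pt.obj.obj (op V') from
        ((c.ι.app ⟨i⟩).hom.app (op V')).hom)) i) ⟨x, rfl⟩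
  · change Φ 0 ∈ genSub c V'
    rw [map_zero]
    exact zero_mem _
  · intro a b ha hb
    change Φ (a + b) ∈ genSub c V'
    rw [map_add]
    exact add_mem ha hb

end Groth.Agent.Helper4.QcSumB
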