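import Mathlib
import Groth.Prelude.Def_CohCx
import Groth.Agent.Helper6.FiltQC
import Groth.Agent.Helper6.CF6

/-! Quasi-compact gluing: a section over a quasi-compact object which is locally killed by some
member of a directed family of idempotent-like endomorphisms is globally killed by one of them. -/

set_option backward.isDefEq.respectTransparency false
set_option backward.isDefEq.respectTransparency.types false
set_option autoImplicit false
set_option linter.unusedSectionVars false

namespace Groth.Agent.Helper4.QcSumC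
open CategoryTheory Limits Opposite Groth.Agent.Helper6

universe u

variable {C : Type u} [SmallCategory C] {J : GrothendieckTopology C}

section
variable {ι : Type u} [DecidableEq ι] (M : Sheaf J (Type u)) (P : Finset ι → (M ⟶ M))
  (hP0 : P ∅ = 𝟙 M) (hPP : ∀ A B, P A ≫ P B = P (A ∪ B))

/-- the constant diagram on `M` with transition maps `P (T \ S)` -/
noncomputable def Dfun : Finset ι ⥤ Sheaf J (Type u) where
  obj _ := M
  map {S T} _ := P (T \ S)
  map_id S := by rw [Finset.sdiff_self]; exact hP0
  map_comp {S T T'} f g := by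
    rw [hPP]
    congr 1
    have h1 : S ⊆ T := leOfHom f
    have h2 : T ⊆ T' := leOfHom g
    ext x
    simp only [Finset.mem_sdiff, Finset.mem_union]
    constructor
    · rintro ⟨hx, hx'⟩
      by_cases hT : x ∈ T
      · exact Or.inl ⟨hT, hx'⟩
      · exact Or.inr ⟨hx, hT⟩
    · rintro (⟨hx, hx'⟩ | ⟨hx, hx'⟩)
      · exact ⟨h2 hx, hx'⟩
      · exact ⟨hx, fun h => hx' (h1 h)⟩

include hP0 hPP in
theorem exists_eq_of_locally (W : C) (hW : CohCx.IsQcObject (CanTop.r J W))
    (y y' : M.obj.obj (op W))
    (hloc : ∃ R ∈ J W, ∀ ⦃V : C⦄ (g : V ⟶ W), R g → ∃ T : Finset ι,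
      (P T).hom.app (op V) (M.obj.map g.op y) = (P T).hom.app (op V) (M.obj.map g.op y')) :
    ∃ T : Finset ι, (P T).hom.app (op W) y = (P T).hom.app (op W) y' := by
  let D := Dfun M P hP0 hPP
  have hqc : ToposFin.IsQC (CanTop.r J W) := CF.isQC_of_isQcObject hW
  have hmap : ∀ (T : Finset ι) (α : (∅ : Finset ι) ⟶ T), D.map α = P T := by
    intro T α
    change P (T \ ∅) = P T
    rw [Finset.sdiff_empty]
  have h : CanTop.hat M y ≫ colimit.ι D ∅ = CanTop.hat M y' ≫ colimit.ι D ∅ := by
    rw [CanTop.hat_comp, CanTop.hat_comp]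
    congr 1
    obtain ⟨R, hR, hR'⟩ := hloc
    refine Groth.Agent.Helper2.TF1.sheaf_sep (colimit D) hR (fun V g hg => ?_)
    obtain ⟨T, hT⟩ := hR' g hg
    have n1 := NatTrans.naturality_apply (colimit.ι D ∅).hom g.op y
    have n2 := NatTrans.naturality_apply (colimit.ι D ∅).hom g.op y'
    have w : D.map (homOfLE (Finset.empty_subset T)) ≫ colimit.ι D T = colimit.ι D ∅ :=
      colimit.w D _
    have hw : ∀ z : M.obj.obj (op V), (colimit.ι D ∅).hom.app (op V) z =
        (colimit.ι D T).hom.app (op V) ((P T).hom.app (op V) z) := by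
      intro z
      rw [← w, hmap]
      rfl
    refine n1.symm.trans (Eq.trans ?_ n2)
    change (colimit.ι D ∅).hom.app (op V) (M.obj.map g.op y) =
      (colimit.ι D ∅).hom.app (op V) (M.obj.map g.op y')
    rw [hw, hw, hT]
  obtain ⟨m, α, hα⟩ := FiltQC.exists_eq_of_isQC D (CanTop.r J W) hqc _ _ h
  have hα' : CanTop.hat M y ≫ P m = CanTop.hat M y' ≫ P m := by
    rw [← hmap m α]
    exact hα
  rw [CanTop.hat_comp, CanTop.hat_comp] at hα'
  refine ⟨m, ?_⟩
  have := congrArg (CanTop.el M W) hα'
  rwa [CanTop.el_hat, CanTop.el_hat] at this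

end

end Groth.Agent.Helper4.QcSumC
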