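import Mathlib
import Groth.Prelude.Def_CohCx
import Groth.Agent.Helper1.Compact
import Groth.Agent.Helper3.SheafModLib
import Groth.Agent.Helper4.QcSumB
import Groth.Agent.Helper4.QcSumC

/-! Sections over a quasi-compact object of a coproduct of sheaves of modules are finitely
supported. -/

set_option backward.isDefEq.respectTransparency false
set_option backward.isDefEq.respectTransparency.types false
set_option autoImplicit false
set_option linter.unusedSectionVars false

namespace Groth.Agent.Helper4.QcSumD
open CategoryTheory Limits Opposite Groth.Agent.Helper6 Groth.Agent.Helper1.Compact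

universe u

variable {C : Type u} [SmallCategory C] {J : GrothendieckTopology C} (R : Sheaf J RingCat.{u})
  {ι : Type u} (F : ι → SheafOfModules.{u} R)

/-- the complementary projection `𝟙 - proj F T` -/
noncomputable def Pm (T : Finset ι) : (∐ F) ⟶ ∐ F := 𝟙 _ - proj F T

lemma Pm_empty : Pm R F ∅ = 𝟙 _ := by
  classical
  unfold Pm
  have : proj F (∅ : Finset ι) = 0 := by
    apply Sigma.hom_ext
    intro i
    rw [ι_proj, if_neg (Finset.notMem_empty i), comp_zero]
  rw [this, sub_zero]

open scoped Classical in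
lemma Pm_comp (A B : Finset ι) : Pm R F A ≫ Pm R F B = Pm R F (A ∪ B) :=
  one_sub_proj_comp F A B

open scoped Classical in
lemma ι_Pm (i : ι) (T : Finset ι) (hi : i ∈ T) : Sigma.ι F i ≫ Pm R F T = 0 := by
  unfold Pm
  rw [Preadditive.comp_sub, Category.comp_id, ι_proj, if_pos hi, sub_self]

/-- the underlying abelian sheaf of the coproduct -/
noncomputable abbrev Mab : Sheaf J AddCommGrpCat.{u} := (SheafOfModules.toSheaf.{u} R).obj (∐ F)

/-- `Pm` on the underlying abelian sheaf -/
noncomputable abbrev PA (T : Finset ι) : Mab R F ⟶ Mab R F :=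
  (SheafOfModules.toSheaf.{u} R).map (Pm R F T)

open scoped Classical in
/-- **Finite support over a quasi-compact object**: a section over a quasi-compact object of a
coproduct of sheaves of modules is killed by some complementary projection. -/
theorem exists_Pm_eq_zero (W : C) (hW : CohCx.IsQcObject (CanTop.r J W))
    (y : (Mab R F).obj.obj (op W)) :
    ∃ T : Finset ι, ((PA R F T).hom.app (op W)).hom y = 0 := by
  let tS := SheafOfModules.toSheaf.{u} R
  haveI := Groth.Agent.Helper3.SheafModLib.toSheaf_preservesColimits R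
  let c := tS.mapCocone (colimit.cocone (Discrete.functor F))
  have hc : IsColimit c := isColimitOfPreserves tS (colimit.isColimit _)
  obtain ⟨S, hS, hS'⟩ := QcSumB.locally_mem_genSub c hc (V := W) y
  -- elements of `genSub` are killed by some `PA T`
  have hgen : ∀ (V : C) (z : (Mab R F).obj.obj (op V)), z ∈ QcSumB.genSub c V →
      ∃ T : Finset ι, ((PA R F T).hom.app (op V)).hom z = 0 := by
    intro V z hz
    refine AddSubgroup.iSup_induction _ (C := fun z : (Mab R F).obj.obj (op V) =>
      ∃ T : Finset ι, ((PA R F T).hom.app (op V)).hom z = 0) hz ?_ ?_ ?_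
    · intro i w hw
      obtain ⟨x, hx⟩ := hw
      have hx' : ((tS.map (Sigma.ι F i)).hom.app (op V)).hom x = w := hx
      subst hx'
      refine ⟨{i}, ?_⟩
      have h0 : tS.map (Sigma.ι F i) ≫ PA R F {i} = 0 := by
        change tS.map _ ≫ tS.map _ = 0
        rw [← tS.map_comp, ι_Pm R F i {i} (Finset.mem_singleton_self i), tS.map_zero]
      have h1 := congrArg (fun t : tS.obj (F i) ⟶ Mab R F => (t.hom.app (op V)).hom x) h0
      exact h1
    · exact ⟨∅, map_zero _⟩
    · rintro a b ⟨T, hT⟩ ⟨T', hT'⟩
      refine ⟨T ∪ T', ?_⟩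
      rw [map_add]
      have e1 : PA R F (T ∪ T') = PA R F T ≫ PA R F T' := by
        change tS.map _ = tS.map _ ≫ tS.map _
        rw [← tS.map_comp, Pm_comp]
      have e2 : PA R F (T ∪ T') = PA R F T' ≫ PA R F T := by
        change tS.map _ = tS.map _ ≫ tS.map _
        rw [← tS.map_comp, Pm_comp, Finset.union_comm]
      have ha : ((PA R F (T ∪ T')).hom.app (op V)).hom a = 0 := by
        rw [e1]
        change ((PA R F T').hom.app (op V)).hom (((PA R F T).hom.app (op V)).hom a) = 0
        rw [hT, map_zero]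
      have hb : ((PA R F (T ∪ T')).hom.app (op V)).hom b = 0 := by
        rw [e2]
        change ((PA R F T).hom.app (op V)).hom (((PA R F T').hom.app (op V)).hom b) = 0
        rw [hT', map_zero]
      rw [ha, hb, add_zero]
  -- pass to sheaves of sets
  let U := sheafCompose J (forget AddCommGrpCat.{u})
  let M : Sheaf J (Type u) := U.obj (Mab R F)
  let PS : Finset ι → (M ⟶ M) := fun T => U.map (PA R F T)
  have hP0 : PS ∅ = 𝟙 M := by
    change U.map (tS.map (Pm R F ∅)) = 𝟙 _
    rw [Pm_empty, tS.map_id, U.map_id]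
  have hPP : ∀ A B, PS A ≫ PS B = PS (A ∪ B) := by
    intro A B
    change U.map (tS.map _) ≫ U.map (tS.map _) = U.map (tS.map _)
    rw [← U.map_comp, ← tS.map_comp, Pm_comp]
  have hloc : ∃ S ∈ J W, ∀ ⦃V : C⦄ (g : V ⟶ W), S g → ∃ T : Finset ι,
      (PS T).hom.app (op V) (M.obj.map g.op y) =
        (PS T).hom.app (op V) (M.obj.map g.op (0 : (Mab R F).obj.obj (op W))) := by
    refine ⟨S, hS, fun V g hg => ?_⟩
    obtain ⟨T, hT⟩ := hgen V _ (hS' g hg)
    refine ⟨T, ?_⟩
    change ((PA R F T).hom.app (op V)).hom (((Mab R F).obj.map g.op).hom y) =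
      ((PA R F T).hom.app (op V)).hom (((Mab R F).obj.map g.op).hom 0)
    rw [map_zero, map_zero]
    exact hT
  obtain ⟨T, hT⟩ := QcSumC.exists_eq_of_locally M PS hP0 hPP W hW y
    (0 : (Mab R F).obj.obj (op W)) hloc
  refine ⟨T, ?_⟩
  have hT' : ((PA R F T).hom.app (op W)).hom y = ((PA R F T).hom.app (op W)).hom 0 := hT
  rw [hT', map_zero]

end Groth.Agent.Helper4.QcSumD
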