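import Mathlib
import Groth.Prelude.Def_CohCx
import Groth.Prelude.Def_ModSite
import Groth.Agent.Helper1.Compact
import Groth.Agent.Helper9.FreeOnHom
import Groth.Agent.Helper4.CptFam
import Groth.Agent.Helper4.QcSumA
import Groth.Agent.Helper4.QcSumD

/-! Maps out of `j_{U!} O_U`, `U` quasi-compact, into a coproduct are finitely supported; the
resulting commutation of `Hom(G, -)` with coproducts. -/

set_option backward.isDefEq.respectTransparency false
set_option backward.isDefEq.respectTransparency.types false
set_option autoImplicit false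
set_option linter.unusedSectionVars false

namespace Groth.Agent.Helper4.QcSumF
open CategoryTheory Limits Opposite Groth.Agent.Helper6 Groth.Agent.Helper1.Compact
open Groth.Agent.Helper4.CptFam Groth.Agent.Helper4.CptSingle

universe v u

section generic
variable {A : Type u} [Category.{v} A] [Preadditive A] {ι : Type v} (F : ι → A) [HasCoproduct F]

open scoped Classical in
/-- if all maps `G ⟶ ∐ F` are finitely supported then `Hom(G, -)` sends the coproduct cocone to a
colimit cocone -/
theorem nonempty_isColimit_coyoneda (G : A) (h : AllFSupp G F) :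
    Nonempty (IsColimit ((preadditiveCoyoneda.obj (op G)).mapCocone
      (colimit.cocone (Discrete.functor F)))) := by
  let H := preadditiveCoyoneda.obj (op G)
  refine QcSumA.isColimit_of_proj _ (fun j => H.map (π F j)) ?_ ?_ ?_
  · intro i
    change H.map (Sigma.ι F i) ≫ H.map (π F i) = 𝟙 _
    rw [← Functor.map_comp, ι_π_self, CategoryTheory.Functor.map_id]
  · intro i j hij
    change H.map (Sigma.ι F i) ≫ H.map (π F j) = 0
    rw [← Functor.map_comp, ι_π_of_ne _ _ _ hij, Functor.map_zero]
  · intro x
    obtain ⟨T, hT⟩ := h (show G ⟶ ∐ F from x)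
    rw [Preadditive.comp_sub, Category.comp_id, sub_eq_zero] at hT
    have hx : (show G ⟶ ∐ F from x) =
        ∑ i ∈ T, ((show G ⟶ ∐ F from x) ≫ π F i) ≫ Sigma.ι F i := by
      conv_lhs => rw [hT, proj_eq_sum, Preadditive.comp_sum]
      exact Finset.sum_congr rfl (fun i _ => (Category.assoc _ _ _).symm)
    have hx' : x = ∑ i ∈ T, (H.map (Sigma.ι F i)).hom ((show G ⟶ ∐ F from x) ≫ π F i) := hx
    rw [hx']
    refine AddSubgroup.sum_mem _ (fun i _ => ?_)
    exact (le_iSup (fun i => rangeι (H.mapCocone (colimit.cocone (Discrete.functor F))) i) i)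
      ⟨_, rfl⟩

end generic

section generic2
variable {A : Type u} [Category.{v} A] [Preadditive A] [HasCoproducts.{v} A]

theorem preservesColimitsOfShape_coyoneda (G : A)
    (h : ∀ (ι : Type v) (F : ι → A), AllFSupp G F) (ι : Type v) :
    PreservesColimitsOfShape (Discrete ι) (preadditiveCoyoneda.obj (op G)) := by
  constructor
  intro K
  haveI h1 : PreservesColimit (Discrete.functor (K.obj ∘ Discrete.mk))
      (preadditiveCoyoneda.obj (op G)) :=
    preservesColimit_of_preserves_colimit_cocone (colimit.isColimit _)
      (nonempty_isColimit_coyoneda (fun i => K.obj ⟨i⟩) G (h ι _)).some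
  exact preservesColimit_of_iso_diagram _ (Discrete.natIsoFunctor (F := K)).symm

end generic2

section freeOn
variable {C : Type u} [SmallCategory C] {J : GrothendieckTopology C} (O : Sheaf J CommRingCat.{u})
  (U : C)

lemma homEquiv_zero (F : ModSite.Mod O) :
    Groth.Agent.Helper9.FreeOnHom.homEquiv O U F 0 = 0 := by
  have h := Groth.Agent.Helper9.FreeOnHom.homEquiv_comp O U (0 : ModSite.freeOn O U ⟶ F)
    (0 : F ⟶ F)
  rw [comp_zero] at h
  rw [h]
  rfl

open scoped Classical in
/-- maps from `j_{U!} O_U`, `U` quasi-compact, to a coproduct are finitely supported -/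
theorem allFSupp_freeOn (hU : CohCx.IsQcObject (CanTop.r J U)) {ι : Type u}
    (F : ι → ModSite.Mod O) : AllFSupp (ModSite.freeOn O U) F := by
  intro x
  let y := Groth.Agent.Helper9.FreeOnHom.homEquiv O U (∐ F) x
  obtain ⟨T, hT⟩ := QcSumD.exists_Pm_eq_zero (ModSite.ringSh O) F U hU y
  refine ⟨T, ?_⟩
  apply (Groth.Agent.Helper9.FreeOnHom.homEquiv O U (∐ F)).injective
  rw [homEquiv_zero, Groth.Agent.Helper9.FreeOnHom.homEquiv_comp]
  exact hT

end freeOn

end Groth.Agent.Helper4.QcSumF
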