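import Mathlib
import Groth.Agent.Helper4.CokA
import Groth.Agent.Helper4.QcSumF

set_option autoImplicit false
set_option backward.isDefEq.respectTransparency false
set_option backward.isDefEq.respectTransparency.types false

/-!
# Local liftings through epimorphisms of modules over quasi-compact objects
-/

universe u

open CategoryTheory CategoryTheory.Limits Opposite

namespace Groth.Agent.Helper4.CokB

open Groth.Agent.Helper6 Groth.Agent.Helper9.FreeOnHom Groth.Agent.Helper4.CokA

variable {C : Type u} [SmallCategory C] {J : GrothendieckTopology C}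
  (O : Sheaf J CommRingCat.{u})

/-- the underlying sheaf of sets of a module -/
noncomputable abbrev Ms (F : ModSite.Mod O) : Sheaf J (Type u) :=
  (CF.U J).obj (ModSite.toAb F)

/-- `j_{W!}O_W ⟶ j_{U!}O_U` induced by `g : W ⟶ U` -/
noncomputable def fOmap {U W : C} (g : W ⟶ U) : ModSite.freeOn O W ⟶ ModSite.freeOn O U :=
  (homEquiv O W (ModSite.freeOn O U)).symm
    ((Ms O (ModSite.freeOn O U)).obj.map g.op (homEquiv O U (ModSite.freeOn O U) (𝟙 _)))

lemma homEquiv_fOmap_comp {U W : C} (g : W ⟶ U) {F : ModSite.Mod O}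
    (h : ModSite.freeOn O U ⟶ F) :
    (homEquiv O W F (fOmap O g ≫ h) : (Ms O F).obj.obj (op W)) =
      (Ms O F).obj.map g.op (homEquiv O U F h) := by
  rw [homEquiv_comp]
  unfold fOmap
  rw [Equiv.apply_symm_apply]
  have hn := NatTrans.naturality_apply ((CF.U J).map ((SheafOfModules.toSheaf _).map h)).hom g.op
    (homEquiv O U (ModSite.freeOn O U) (𝟙 _))
  refine hn.trans ?_
  congr 1

/-- a finite jointly surjective family gives an epimorphism of free modules -/
lemma epi_of_jointlySurjective {U : C} {r : ℕ} (W : Fin r → C) (g : ∀ k, W k ⟶ U)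
    (h : CohCx.JointlySurjective (fun k : ULift.{u} (Fin r) => CanTop.rmap J (g k.down))) :
    Epi (Sigma.desc (fun k => fOmap O (g k)) :
      (∐ fun k => ModSite.freeOn O (W k)) ⟶ ModSite.freeOn O U) := by
  constructor
  intro F h₁ h₂ h12
  apply (homEquiv O U F).injective
  refine eq_of_jointlySurjective (fun k : ULift.{u} (Fin r) => W k.down) (fun k => g k.down) h
    (Ms O F) _ _ (fun k => ?_)
  rw [← homEquiv_fOmap_comp, ← homEquiv_fOmap_comp]
  congr 1
  have := congrArg (fun t => Sigma.ι (fun k => ModSite.freeOn O (W k)) k.down ≫ t) h12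
  simpa only [Sigma.ι_desc_assoc] using this

/-- epimorphisms of modules are locally surjective on sections -/
lemma imageSieve_mem_of_epi {Q G : ModSite.Mod O} (q : Q ⟶ G) [Epi q] {U : C}
    (s : (ModSite.toAb G).obj.obj (op U)) :
    Presheaf.imageSieve ((SheafOfModules.toSheaf (ModSite.ringSh O)).map q).hom s ∈ J U := by
  haveI := Groth.Agent.Helper3.SheafModLib.toSheaf_preservesColimits (ModSite.ringSh O)
  haveI : PreservesColimitsOfSize.{0, 0} (SheafOfModules.toSheaf (ModSite.ringSh O)) :=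
    preservesColimitsOfSize_shrink.{0, u, 0, u} _
  haveI : Epi ((SheafOfModules.toSheaf (ModSite.ringSh O)).map q) := inferInstance
  haveI : Sheaf.IsLocallySurjective ((SheafOfModules.toSheaf (ModSite.ringSh O)).map q) :=
    (Sheaf.isLocallySurjective_iff_epi' _ _).2 inferInstance
  exact Presheaf.imageSieve_mem J _ s

variable (B : Set C)
  (hB₁ : ∀ X : C, ∃ (κ : Type u) (Y : κ → C) (g : ∀ k, Y k ⟶ X),
    Sieve.ofArrows Y g ∈ J X ∧ ∀ k, Y k ∈ B)
  (hB₂ : ∀ U ∈ B, CohCx.IsQcObject ((presheafToSheaf J (Type u)).obj (yoneda.obj U)))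

include hB₁ hB₂ in
/-- a map from `j_{U!}O_U`, `U ∈ B`, to the target of an epimorphism lifts after passing to a
finite epimorphic family of members of `B` -/
theorem exists_finite_lift {Q G : ModSite.Mod O} (q : Q ⟶ G) [Epi q] {U : C} (hU : U ∈ B)
    (β : ModSite.freeOn O U ⟶ G) :
    ∃ (r : ℕ) (W : Fin r → C) (g : ∀ k, W k ⟶ U) (t : ∀ k, ModSite.freeOn O (W k) ⟶ Q),
      (∀ k, W k ∈ B) ∧ (∀ k, t k ≫ q = fOmap O (g k) ≫ β) ∧
      Epi (Sigma.desc (fun k => fOmap O (g k)) :
        (∐ fun k => ModSite.freeOn O (W k)) ⟶ ModSite.freeOn O U) := by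
  classical
  let s : (ModSite.toAb G).obj.obj (op U) := homEquiv O U G β
  let T := Presheaf.imageSieve ((SheafOfModules.toSheaf (ModSite.ringSh O)).map q).hom s
  have hT : T ∈ J U := imageSieve_mem_of_epi O q s
  choose κ Y gY hcov hmem using hB₁
  let A : Type u := Σ (x : Σ (W : C), {g : W ⟶ U // T g}), κ x.1
  let YA : A → C := fun a => Y a.1.1 a.2
  let gA : ∀ a : A, YA a ⟶ U := fun a => gY a.1.1 a.2 ≫ a.1.2.1
  have hT' : Sieve.ofArrows YA gA ∈ J U := by
    refine J.transitive hT _ (fun W g hg => ?_)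
    refine J.superset_covering ?_ (hcov W)
    intro V k hk
    obtain ⟨i, n, rfl⟩ := (Sieve.mem_ofArrows_iff _ _ _).1 hk
    exact (Sieve.mem_ofArrows_iff _ _ _).2 ⟨⟨⟨W, g, hg⟩, i⟩, n, by simp [gA]⟩
  have hjs := jointlySurjective_of_covering YA gA hT'
  obtain ⟨t, ht⟩ := hB₂ U hU A _ _ hjs
  -- lifts
  have hlift : ∀ a : A, ∃ x : (ModSite.toAb Q).obj.obj (op (YA a)),
      ((SheafOfModules.toSheaf (ModSite.ringSh O)).map q).hom.app (op (YA a)) x =
        (ModSite.toAb G).obj.map (gA a).op s := by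
    intro a
    have : T (gA a) := T.downward_closed a.1.2.2 _
    exact this
  choose x hx using hlift
  let e : Fin t.card ≃ t := t.equivFin.symm
  refine ⟨t.card, fun k => YA (e k).1, fun k => gA (e k).1,
    fun k => (homEquiv O _ Q).symm (x (e k).1), fun k => hmem _ _, fun k => ?_, ?_⟩
  · apply (homEquiv O _ G).injective
    rw [homEquiv_comp, Equiv.apply_symm_apply]
    refine (hx (e k).1).trans ?_
    exact (homEquiv_fOmap_comp O (gA (e k).1) β).symm
  · apply epi_of_jointlySurjective
    intro V z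
    obtain ⟨S, hS, hS'⟩ := ht V z
    refine ⟨S, hS, fun V' m hm => ?_⟩
    obtain ⟨i, y, hy⟩ := hS' V' m hm
    obtain ⟨k, rfl⟩ := e.surjective i
    exact ⟨⟨k⟩, y, hy⟩

end Groth.Agent.Helper4.CokB
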