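import Mathlib
import Groth.Agent.Helper4.CokB

set_option autoImplicit false
set_option backward.isDefEq.respectTransparency false
set_option backward.isDefEq.respectTransparency.types false

/-!
# Cokernels of maps between finitely presented-by-free modules
-/

universe w v u

open CategoryTheory CategoryTheory.Limits Opposite

namespace Groth.Agent.Helper4.CokC

section reindex

variable {𝒜 : Type u} [Category.{v} 𝒜] {T : Type w} {N : ℕ} (e : T ≃ Fin N) (X : T → 𝒜)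
  [HasCoproduct (fun j => X (e.symm j))]

/-- the injection of the summand indexed by `x : T` into the re-indexed coproduct -/
noncomputable def ιr (x : T) : X x ⟶ ∐ fun j => X (e.symm j) :=
  eqToHom (by rw [e.symm_apply_apply]) ≫ Sigma.ι (fun j => X (e.symm j)) (e x)

lemma ιr_desc {Z : 𝒜} (c : ∀ x, X x ⟶ Z) (x : T) :
    ιr e X x ≫ Sigma.desc (fun j => c (e.symm j)) = c x := by
  unfold ιr
  rw [Category.assoc, Sigma.ι_desc]
  have : ∀ (y : T) (hy : y = x), eqToHom (by rw [hy]) ≫ c y = c x := by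
    intro y hy
    subst hy
    simp
  exact this _ (e.symm_apply_apply x)

lemma hom_ext_r {Z : 𝒜} (h₁ h₂ : (∐ fun j => X (e.symm j)) ⟶ Z)
    (h : ∀ x, ιr e X x ≫ h₁ = ιr e X x ≫ h₂) : h₁ = h₂ := by
  apply Sigma.hom_ext
  intro j
  obtain ⟨x, rfl⟩ := e.surjective j
  have := h x
  unfold ιr at this
  rw [Category.assoc, Category.assoc] at this
  exact (cancel_epi _).1 this

end reindex

section abstract

variable {𝒜 : Type u} [Category.{v} 𝒜] [Abelian 𝒜]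

theorem nonempty_cokernel_iso {K Q G F P R KR : 𝒜}
    (ψG : K ⟶ Q) (eG : G ≅ cokernel ψG)
    (πF : P ⟶ F) [Epi πF] (ρ : R ⟶ P) [Epi ρ] (α : F ⟶ G) (t : R ⟶ Q)
    (ht : t ≫ cokernel.π ψG ≫ eG.inv = ρ ≫ πF ≫ α)
    (a : K ⟶ KR) (b : R ⟶ KR)
    (hab : ∀ {Z : 𝒜} (h₁ h₂ : KR ⟶ Z), a ≫ h₁ = a ≫ h₂ → b ≫ h₁ = b ≫ h₂ → h₁ = h₂)
    (ψ : KR ⟶ Q) (ha : a ≫ ψ = ψG) (hb : b ≫ ψ = t) :
    Nonempty (cokernel α ≅ cokernel ψ) := by
  have w2 : ψG ≫ cokernel.π ψ = 0 := by rw [← ha, Category.assoc, cokernel.condition, comp_zero]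
  let z' : G ⟶ cokernel ψ := eG.hom ≫ cokernel.desc ψG (cokernel.π ψ) w2
  have hz'0 : (cokernel.π ψG ≫ eG.inv) ≫ z' = cokernel.π ψ := by
    simp only [z', Category.assoc, Iso.inv_hom_id_assoc, cokernel.π_desc]
  haveI hepi0 : Epi (cokernel.π ψG ≫ eG.inv) := epi_comp _ _
  have wG0 : ψG ≫ (cokernel.π ψG ≫ eG.inv) = 0 := by
    rw [cokernel.condition_assoc, zero_comp]
  obtain ⟨πG, hπG⟩ : ∃ πG : Q ⟶ G, πG = cokernel.π ψG ≫ eG.inv := ⟨_, rfl⟩
  rw [← hπG] at ht hz'0 hepi0 wG0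
  have w1 : ψ ≫ πG ≫ cokernel.π α = 0 := by
    apply hab
    · rw [reassoc_of% ha, reassoc_of% wG0, zero_comp, comp_zero]
    · rw [reassoc_of% hb, comp_zero, reassoc_of% ht, cokernel.condition, comp_zero, comp_zero]
  let f₁ : cokernel ψ ⟶ cokernel α := cokernel.desc ψ _ w1
  have w3 : α ≫ z' = 0 := by
    haveI : Epi (ρ ≫ πF) := epi_comp _ _
    rw [← cancel_epi (ρ ≫ πF), comp_zero, Category.assoc, ← reassoc_of% ht, hz'0, ← hb,
      Category.assoc, cokernel.condition, comp_zero]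
  let f₂ : cokernel α ⟶ cokernel ψ := cokernel.desc α z' w3
  refine ⟨⟨f₂, f₁, ?_, ?_⟩⟩
  · rw [← cancel_epi (cokernel.π α), ← cancel_epi πG]
    simp only [f₁, f₂, cokernel.π_desc_assoc, Category.comp_id]
    rw [reassoc_of% hz'0, cokernel.π_desc]
  · rw [← cancel_epi (cokernel.π ψ)]
    simp only [f₁, f₂, cokernel.π_desc_assoc, Category.assoc, cokernel.π_desc, Category.comp_id]
    exact hz'0

end abstract

section assemble

variable {𝒜 : Type u} [Category.{v} 𝒜] [Abelian 𝒜] {C : Type w} (fO : C → 𝒜) (B : Set C)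

theorem exists_presentation_cokernel {F G : 𝒜} (α : F ⟶ G)
    {mG nG nF : ℕ} (VG : Fin mG → C) (UG : Fin nG → C) (UF : Fin nF → C)
    (ψG : (∐ fun j => fO (VG j)) ⟶ ∐ fun i => fO (UG i)) (eG : G ≅ cokernel ψG)
    (hVG : ∀ j, VG j ∈ B)
    (πF : (∐ fun i => fO (UF i)) ⟶ F) [Epi πF]
    (r : Fin nF → ℕ) (W : ∀ i, Fin (r i) → C) (hW : ∀ i k, W i k ∈ B)
    (g : ∀ i k, fO (W i k) ⟶ fO (UF i))
    (hepi : ∀ i, Epi (Sigma.desc (g i) : (∐ fun k => fO (W i k)) ⟶ fO (UF i)))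
    (t : ∀ i k, fO (W i k) ⟶ ∐ fun i => fO (UG i))
    (ht : ∀ i k, t i k ≫ cokernel.π ψG ≫ eG.inv =
      g i k ≫ Sigma.ι (fun i => fO (UF i)) i ≫ πF ≫ α) :
    ∃ (m' : ℕ) (V' : Fin m' → C) (ψ : (∐ fun j => fO (V' j)) ⟶ ∐ fun i => fO (UG i)),
      (∀ j, V' j ∈ B) ∧ Nonempty (cokernel α ≅ cokernel ψ) := by
  classical
  let R : 𝒜 := ∐ fun x : (Σ i : Fin nF, Fin (r i)) => fO (W x.1 x.2)
  let ρ : R ⟶ ∐ fun i => fO (UF i) :=
    Sigma.desc (fun x => g x.1 x.2 ≫ Sigma.ι (fun i => fO (UF i)) x.1)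
  have hρ : ∀ x : (Σ i : Fin nF, Fin (r i)),
      Sigma.ι (fun x : (Σ i : Fin nF, Fin (r i)) => fO (W x.1 x.2)) x ≫ ρ =
        g x.1 x.2 ≫ Sigma.ι (fun i => fO (UF i)) x.1 := fun x => Sigma.ι_desc _ _
  haveI : Epi ρ := by
    constructor
    intro Z h₁ h₂ h12
    apply Sigma.hom_ext
    intro i
    haveI := hepi i
    rw [← cancel_epi (Sigma.desc (g i) : (∐ fun k => fO (W i k)) ⟶ fO (UF i))]
    apply Sigma.hom_ext
    intro k
    rw [Sigma.ι_desc_assoc, Sigma.ι_desc_assoc]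
    have := congrArg (fun z => Sigma.ι
      (fun x : (Σ i : Fin nF, Fin (r i)) => fO (W x.1 x.2)) ⟨i, k⟩ ≫ z) h12
    simp only [] at this
    rw [reassoc_of% (hρ ⟨i, k⟩), reassoc_of% (hρ ⟨i, k⟩)] at this
    exact this
  let tt : R ⟶ ∐ fun i => fO (UG i) := Sigma.desc (fun x => t x.1 x.2)
  have htt0 : ∀ x : (Σ i : Fin nF, Fin (r i)),
      Sigma.ι (fun x : (Σ i : Fin nF, Fin (r i)) => fO (W x.1 x.2)) x ≫ tt = t x.1 x.2 :=
    fun x => Sigma.ι_desc _ _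
  have htt : tt ≫ cokernel.π ψG ≫ eG.inv = ρ ≫ πF ≫ α := by
    apply Sigma.hom_ext
    intro x
    rw [reassoc_of% (htt0 x), reassoc_of% (hρ x)]
    exact ht x.1 x.2
  let T := Fin mG ⊕ (Σ i : Fin nF, Fin (r i))
  let e : T ≃ Fin (Fintype.card T) := Fintype.equivFin T
  let Z : T → C := Sum.elim VG (fun x => W x.1 x.2)
  let X : T → 𝒜 := fun x => fO (Z x)
  let c : ∀ x : T, X x ⟶ ∐ fun i => fO (UG i) := fun x =>
    match x with
    | Sum.inl j => Sigma.ι (fun j => fO (VG j)) j ≫ ψG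
    | Sum.inr x => t x.1 x.2
  let ψ : (∐ fun j => X (e.symm j)) ⟶ ∐ fun i => fO (UG i) :=
    Sigma.desc (fun j => c (e.symm j))
  have hZ : ∀ x : T, Z x ∈ B := by
    rintro (j | x)
    · exact hVG j
    · exact hW x.1 x.2
  refine ⟨Fintype.card T, fun j => Z (e.symm j), ψ, fun j => hZ _, ?_⟩
  let a : (∐ fun j => fO (VG j)) ⟶ ∐ fun j => X (e.symm j) :=
    Sigma.desc (fun j => ιr e X (Sum.inl j))
  let b : R ⟶ ∐ fun j => X (e.symm j) := Sigma.desc (fun x => ιr e X (Sum.inr x))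
  have ha0 : ∀ j, Sigma.ι (fun j => fO (VG j)) j ≫ a = ιr e X (Sum.inl j) :=
    fun j => Sigma.ι_desc _ _
  have hb0 : ∀ x, Sigma.ι (fun x : (Σ i : Fin nF, Fin (r i)) => fO (W x.1 x.2)) x ≫ b =
      ιr e X (Sum.inr x) := fun x => Sigma.ι_desc _ _
  refine nonempty_cokernel_iso ψG eG πF ρ α tt htt a b ?_ ψ ?_ ?_
  · intro Z' h₁ h₂ ha hb
    apply hom_ext_r e X
    rintro (j | x)
    · rw [← ha0, Category.assoc, Category.assoc, ha]
    · rw [← hb0, Category.assoc, Category.assoc, hb]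
  · apply Sigma.hom_ext
    intro j
    rw [reassoc_of% (ha0 j)]
    exact ιr_desc e X c (Sum.inl j)
  · apply Sigma.hom_ext
    intro x
    rw [reassoc_of% (hb0 x), htt0]
    exact ιr_desc e X c (Sum.inr x)

end assemble

end Groth.Agent.Helper4.CokC
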