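import Groth.Agent.Helper4.GalGeom
import Mathlib

set_option autoImplicit false
universe u
open CategoryTheory CategoryTheory.Limits AlgebraicGeometry Opposite

namespace Groth.Agent.Helper4.GalGeomConn

open Groth.Agent.Helper4.GalTrans Groth.Agent.Helper4.GeomConnSch Groth.Agent.Helper4.IrrCompBC
  Groth.Agent.Helper4.GalDesc Groth.Agent.Helper4.GeomBC Groth.Agent.Helper4.ConnFinSep
  Groth.Agent.Helper4.GalStable Groth.Agent.Helper4.GeomConnSub Groth.Agent.Helper4.GeomIrrSch
  Groth.Agent.Helper4.ConnImage Groth.Agent.Helper4.ConnGal Groth.Agent.Helper4.FinLevelOpen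
  Groth.Agent.Helper4.GalGeom

/-- In a space with finitely many connected components, these are open. -/
theorem isOpen_connectedComponent_of_finite {α : Type*} [TopologicalSpace α]
    [Finite (_root_.ConnectedComponents α)] (x : α) : IsOpen (connectedComponent x) := by
  rw [← isClosed_compl_iff]
  have h : (connectedComponent x)ᶜ =
      ⋃ c ∈ {c : _root_.ConnectedComponents α | c ≠ _root_.ConnectedComponents.mk x},
        (_root_.ConnectedComponents.mk ⁻¹' {c} : Set α) := by
    ext y
    simp only [Set.mem_compl_iff, Set.mem_iUnion, Set.mem_setOf_eq, Set.mem_preimage,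
      Set.mem_singleton_iff, exists_prop]
    constructor
    · intro hy
      refine ⟨_root_.ConnectedComponents.mk y, ?_, rfl⟩
      intro hc
      rw [ConnectedComponents.coe_eq_coe] at hc
      exact hy (hc ▸ mem_connectedComponent)
    · rintro ⟨c, hc, rfl⟩ hy
      apply hc
      rw [ConnectedComponents.coe_eq_coe]
      exact (connectedComponent_eq hy).symm
  rw [h]
  refine Set.Finite.isClosed_biUnion (Set.toFinite _) (fun c _ => ?_)
  obtain ⟨y, rfl⟩ := ConnectedComponents.surjective_coe c
  rw [connectedComponents_preimage_singleton]
  exact isClosed_connectedComponent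

variable {k : Type u} [Field k] {X : Scheme.{u}} [X.Over (Spec (CommRingCat.of k))]
  {K : Type u} [Field K] [Algebra k K]

/-- If `X_K` has finitely many connected components, each is stable under an open subgroup. -/
theorem exists_stable_connectedComponent [Algebra.IsAlgebraic k K]
    [Finite (_root_.ConnectedComponents ↥(Curv2.bc k X K))] (b : ↥(Curv2.bc k X K)) :
    ∃ E : IntermediateField k K, FiniteDimensional k E ∧
      Stable k X K E (connectedComponent b) := by
  obtain ⟨E, hE, N, hNo, hbN, hNV, hNs⟩ := exists_stable_open_nhds (connectedComponent b)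
    (isOpen_connectedComponent_of_finite b) b mem_connectedComponent
  refine ⟨E, hE, ?_⟩
  intro σ hσ
  have h1 : galHomeo k X K σ '' connectedComponent b = connectedComponent (galHomeo k X K σ b) :=
    homeomorph_image_connectedComponent (galHomeo k X K σ) b
  have h2 : galHomeo k X K σ b ∈ connectedComponent b := hNV (hNs.mem_of_mem hσ hbN)
  have h3 : Curv2.galAct k X K σ '' connectedComponent b = connectedComponent b :=
    h1.trans (connectedComponent_eq h2).symm
  rw [h3]

variable (k X K)

/-- If `X_K` has finitely many connected components (`K / k` normal, separably closed), then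
over some finite subextension `E` all connected components of `X_E` are geometrically
connected. -/
theorem exists_level_geomConn [Normal k K] [IsSepClosed K]
    [Finite (_root_.ConnectedComponents ↥(Curv2.bc k X K))] :
    ∃ E : IntermediateField k K, FiniteDimensional k E ∧
      ∀ (x' : ↥(Curv2.bc k X E)) {Z : Scheme.{u}} (ι : Z ⟶ Curv2.bc k X E)
        [IsClosedImmersion ι], Set.range ι = connectedComponent x' →
        GeometricallyConnected (ι ≫ Curv2.bcSnd k X E) := by
  choose! EZ hEZ hst using fun b : ↥(Curv2.bc k X K) =>
    exists_stable_connectedComponent (k := k) (X := X) (K := K) b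
  let r : _root_.ConnectedComponents ↥(Curv2.bc k X K) → ↥(Curv2.bc k X K) :=
    Function.surjInv ConnectedComponents.surjective_coe
  have hr : ∀ c, _root_.ConnectedComponents.mk (r c) = c :=
    Function.surjInv_eq ConnectedComponents.surjective_coe
  obtain ⟨E₀, hE₀, hle⟩ := exists_fd_sup (k := k) (K := K)
    (Set.univ : Set (_root_.ConnectedComponents ↥(Curv2.bc k X K))) Set.finite_univ
    (fun c => EZ (r c)) (fun c _ => hEZ (r c))
  refine ⟨E₀, hE₀, ?_⟩
  intro x' Z ι _ hrange
  set f := X ↘ Spec (CommRingCat.of k) with hf
  obtain ⟨x'', hx''⟩ := bcMap_surjective f E₀ K x'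
  set D := connectedComponent x'' with hD
  have hDeq : D = connectedComponent (r (_root_.ConnectedComponents.mk x'')) := by
    have := hr (_root_.ConnectedComponents.mk x'')
    rw [ConnectedComponents.coe_eq_coe] at this
    exact this.symm
  have hstab : Stable k X K E₀ D := by
    rw [hDeq]
    exact (hst _).mono (hle _ (Set.mem_univ _))
  have hDclopen : IsClopen D := ⟨isClosed_connectedComponent, isOpen_connectedComponent_of_finite x''⟩
  have h1 : IsClopen (q k X K E₀ '' D) :=
    ⟨isClosedMap_bcMap f E₀ K D hDclopen.1, isOpenMap_bcMap f E₀ K D hDclopen.2⟩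
  have h2 : _root_.IsConnected (q k X K E₀ '' D) :=
    isConnected_connectedComponent.image _ (q k X K E₀).continuous.continuousOn
  have hx'mem : x' ∈ q k X K E₀ '' D := ⟨x'', mem_connectedComponent, hx''⟩
  have h3 : q k X K E₀ '' D = connectedComponent x' :=
    Set.Subset.antisymm (h2.isPreconnected.subset_connectedComponent hx'mem)
      (h1.connectedComponent_subset hx'mem)
  have hpre : q k X K E₀ ⁻¹' Set.range ι = D := by
    rw [hrange, ← h3]
    exact hstab.preimage_image
  refine geometricallyConnected_of_isPullback K (Curv2.bcSnd k X E₀) (q k X K E₀)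
    (Curv2.bcSnd k X K) (isPullback_bcMap f E₀ K) ι ?_
  rw [hpre]
  exact isConnected_connectedComponent

end Groth.Agent.Helper4.GalGeomConn
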