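import Groth.Agent.Helper4.ConnCompCount
import Groth.Agent.Helper4.GalGeomConn
import Mathlib

set_option autoImplicit false
universe u
open CategoryTheory CategoryTheory.Limits AlgebraicGeometry Opposite

namespace Groth.Agent.Helper4.ConnCompFin

open Groth.Agent.Helper4.GeomConnSch Groth.Agent.Helper4.GeomBC Groth.Agent.Helper4.ConnFinSep

variable {k : Type u} [Field k]

/-- If `X` has finitely many connected components, each containing a point with finite fibre in
`X_K`, then `X_K` has finitely many connected components. -/
theorem finite_cc_bc {X : Scheme.{u}} [Finite (_root_.ConnectedComponents ↥X)]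
    (f : X ⟶ Spec (CommRingCat.of k)) (K : Type u) [Field K] [Algebra k K]
    (pts : _root_.ConnectedComponents ↥X → X)
    (hpts : ∀ c, _root_.ConnectedComponents.mk (pts c) = c)
    (hfin : ∀ c, (pullback.fst f (Spec.map (CommRingCat.ofHom (algebraMap k K))) ⁻¹'
      {pts c}).Finite) :
    Finite (_root_.ConnectedComponents
      ↥(pullback f (Spec.map (CommRingCat.ofHom (algebraMap k K))))) := by
  letI : X.Over (Spec (CommRingCat.of k)) := ⟨f⟩
  set π := pullback.fst f (Spec.map (CommRingCat.ofHom (algebraMap k K))) with hπ
  let S : Set ↥(pullback f (Spec.map (CommRingCat.ofHom (algebraMap k K)))) :=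
    ⋃ c, π ⁻¹' {pts c}
  have hS : S.Finite := Set.finite_iUnion hfin
  let g : ↥S → _root_.ConnectedComponents
      ↥(pullback f (Spec.map (CommRingCat.ofHom (algebraMap k K)))) :=
    fun t => _root_.ConnectedComponents.mk t.1
  have hg : Function.Surjective g := by
    intro c
    obtain ⟨x', rfl⟩ := ConnectedComponents.surjective_coe c
    have h1 : π '' connectedComponent x' = connectedComponent (π x') :=
      ConnImage.image_cc X K x'
    have h2 : pts (_root_.ConnectedComponents.mk (π x')) ∈ connectedComponent (π x') := by
      have := hpts (_root_.ConnectedComponents.mk (π x'))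
      rw [ConnectedComponents.coe_eq_coe] at this
      rw [← this]
      exact mem_connectedComponent
    rw [← h1] at h2
    obtain ⟨t, ht, htx⟩ := h2
    refine ⟨⟨t, Set.mem_iUnion.mpr ⟨_, htx⟩⟩, ?_⟩
    show (_root_.ConnectedComponents.mk t) = _root_.ConnectedComponents.mk x'
    rw [ConnectedComponents.coe_eq_coe]
    exact (connectedComponent_eq ht).symm
  haveI : Finite ↥S := hS
  exact Finite.of_surjective g hg

end Groth.Agent.Helper4.ConnCompFin
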