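import Groth.Agent.Helper4.ConnImage
import Mathlib

set_option autoImplicit false
universe u
open CategoryTheory CategoryTheory.Limits AlgebraicGeometry Opposite

namespace Groth.Agent.Helper4.ConnGal

open Groth.Agent.Helper4.GalTrans Groth.Agent.Helper4.GeomConnSch Groth.Agent.Helper4.IrrCompBC
  Groth.Agent.Helper4.GalDesc Groth.Agent.Helper4.GeomBC Groth.Agent.Helper4.ConnFinSep
  Groth.Agent.Helper4.GalStable Groth.Agent.Helper4.GeomConnSub Groth.Agent.Helper4.GeomIrrSch
  Groth.Agent.Helper4.ConnImage

variable (k : Type u) [Field k] (X : Scheme.{u}) [X.Over (Spec (CommRingCat.of k))]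

theorem connectedSpace_of_isInducing {A B : Type*} [TopologicalSpace A] [TopologicalSpace B]
    (e : A → B) (he : Topology.IsInducing e) (h : _root_.IsConnected (Set.range e)) :
    ConnectedSpace A := by
  rw [connectedSpace_iff_univ]
  obtain ⟨_, z, -⟩ := h.nonempty
  refine ⟨⟨z, trivial⟩, ?_⟩
  rw [← he.isPreconnected_image, Set.image_univ]
  exact h.isPreconnected

/-- A closed subset of `X` whose preimage in `X_{k^sep}` is connected has connected preimage
in every `X_K`. -/
theorem isConnected_preimage_of_sepClosure (T : Set X) (hT : IsClosed T)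
    (hconn : _root_.IsConnected (Curv2.bcFst k X (SeparableClosure k) ⁻¹' T))
    (L : Type u) [Field L] [Algebra k L] :
    _root_.IsConnected (Curv2.bcFst k X L ⁻¹' T) := by
  obtain ⟨Z, ι, hι, hr⟩ := exists_closedImmersion_range X T hT
  set f := X ↘ Spec (CommRingCat.of k) with hf
  haveI : ConnectedSpace ↥(pullback (ι ≫ f)
      (Spec.map (CommRingCat.ofHom (algebraMap k (SeparableClosure k))))) := by
    have hemb := (bcHom ι f (SeparableClosure k)).isEmbedding
    have hrange : Set.range (bcHom ι f (SeparableClosure k)) =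
        Curv2.bcFst k X (SeparableClosure k) ⁻¹' T := by
      rw [range_bcHom, hr]
    rw [← hrange] at hconn
    exact connectedSpace_of_isInducing _ hemb.isInducing hconn
  haveI : GeometricallyConnected (ι ≫ f) := geometricallyConnected_of_sepClosure (ι ≫ f)
  haveI : ConnectedSpace ↥(pullback (ι ≫ f) (Spec.map (CommRingCat.ofHom (algebraMap k L)))) :=
    (GeomConnSch.geometricallyConnected_iff (ι ≫ f)).mp inferInstance L
  have hrange : Set.range (bcHom ι f L) = Curv2.bcFst k X L ⁻¹' T := by
    rw [range_bcHom, hr]
  rw [← hrange]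
  exact isConnected_range (bcHom ι f L).continuous

/-- S7593 -/
theorem invariant_iff_geomConn (t : ↥(Curv2.bc k X (SeparableClosure k))) :
    (∀ σ : SeparableClosure k ≃ₐ[k] SeparableClosure k,
        Curv2.galAct k X (SeparableClosure k) σ '' connectedComponent t = connectedComponent t) ↔
      (Curv2.bcFst k X (SeparableClosure k) ⁻¹'
          connectedComponent (Curv2.bcFst k X (SeparableClosure k) t) = connectedComponent t ∧
        ∀ (K : Type u) [Field K] [Algebra k K],
          _root_.IsConnected (Curv2.bcFst k X K ⁻¹'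
            connectedComponent (Curv2.bcFst k X (SeparableClosure k) t))) := by
  haveI : Normal k (SeparableClosure k) := IsGalois.to_normal
  constructor
  · intro hinv
    have hpre := preimage_image_eq_of_invariant k X (SeparableClosure k) (connectedComponent t)
      (fun σ => (hinv σ).le)
    rw [image_cc X (SeparableClosure k) t] at hpre
    refine ⟨hpre, fun K _ _ => ?_⟩
    refine isConnected_preimage_of_sepClosure k X _ isClosed_connectedComponent ?_ K
    rw [hpre]
    exact isConnected_connectedComponent
  · rintro ⟨h1, -⟩ σ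
    rw [← h1]
    exact galAct_image_preimage k X (SeparableClosure k) σ _

variable (K : Type u) [Field K] [Algebra k K]

/-- The base change of a `k`-morphism. -/
noncomputable def bcMor (T : Scheme.{u}) [T.Over (Spec (CommRingCat.of k))] (f : T ⟶ X)
    [f.IsOver (Spec (CommRingCat.of k))] : Curv2.bc k T K ⟶ Curv2.bc k X K :=
  pullback.map _ _ _ _ f (𝟙 _) (𝟙 _) (by simp) (by simp)

theorem bcMor_galAct (T : Scheme.{u}) [T.Over (Spec (CommRingCat.of k))] (f : T ⟶ X)
    [f.IsOver (Spec (CommRingCat.of k))] (σ : K ≃ₐ[k] K) :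
    bcMor k X K T f ≫ Curv2.galAct k X K σ = Curv2.galAct k T K σ ≫ bcMor k X K T f := by
  refine pullback.hom_ext ?_ ?_
  · show (bcMor k X K T f ≫ Curv2.galAct k X K σ) ≫ Curv2.bcFst k X K =
      (Curv2.galAct k T K σ ≫ bcMor k X K T f) ≫ Curv2.bcFst k X K
    rw [Category.assoc, galAct_fst, Category.assoc]
    unfold bcMor
    rw [pullback.lift_fst, ← Category.assoc]
    erw [galAct_fst k T K σ]
  · show (bcMor k X K T f ≫ Curv2.galAct k X K σ) ≫ Curv2.bcSnd k X K =
      (Curv2.galAct k T K σ ≫ bcMor k X K T f) ≫ Curv2.bcSnd k X K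
    rw [Category.assoc, galAct_snd, Category.assoc]
    unfold bcMor
    rw [pullback.lift_snd, Category.comp_id, ← Category.assoc, pullback.lift_snd, Category.comp_id]
    exact (galAct_snd k T K σ).symm

/-- S7592 -/
theorem connectedSpace_bc_of_connected_source [Normal k K] (T : Scheme.{u})
    [T.Over (Spec (CommRingCat.of k))] (f : T ⟶ X) [f.IsOver (Spec (CommRingCat.of k))]
    [ConnectedSpace ↥(Curv2.bc k T K)] [ConnectedSpace ↥X] :
    ConnectedSpace ↥(Curv2.bc k X K) := by
  obtain ⟨t₀⟩ := (inferInstance : Nonempty ↥(Curv2.bc k T K))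
  let F := bcMor k X K T f
  let x' := F t₀
  have hrange : Set.range F ⊆ connectedComponent x' :=
    (isConnected_range F.continuous).isPreconnected.subset_connectedComponent ⟨t₀, rfl⟩
  have hinv : ∀ σ : K ≃ₐ[k] K,
      Curv2.galAct k X K σ '' connectedComponent x' ⊆ connectedComponent x' := by
    intro σ
    have h1 := homeomorph_image_connectedComponent (galHomeo k X K σ) x'
    have h2 : galHomeo k X K σ x' ∈ connectedComponent x' := by
      refine hrange ⟨Curv2.galAct k T K σ t₀, ?_⟩
      show F (Curv2.galAct k T K σ t₀) = Curv2.galAct k X K σ (F t₀)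
      rw [← Scheme.Hom.comp_apply, ← Scheme.Hom.comp_apply, bcMor_galAct]
    have h3 : Curv2.galAct k X K σ '' connectedComponent x' =
        connectedComponent (galHomeo k X K σ x') := h1
    rw [h3, ← connectedComponent_eq h2]
  have hpre := preimage_image_eq_of_invariant k X K (connectedComponent x') hinv
  rw [image_cc X K x', PreconnectedSpace.connectedComponent_eq_univ, Set.preimage_univ] at hpre
  exact connectedSpace_iff_connectedComponent.mpr ⟨x', hpre.symm⟩

end Groth.Agent.Helper4.ConnGal
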