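import Mathlib

set_option autoImplicit false
universe u

namespace Groth.Agent.Helper4.FinLevel

variable {A B : Type*} [TopologicalSpace A] [TopologicalSpace B]

/-- For an open and closed map to a preconnected space, every nonempty clopen subset of the
source surjects onto the target. -/
theorem image_eq_univ_of_isClopen [PreconnectedSpace B] (f : A → B) (hop : IsOpenMap f)
    (hcl : IsClosedMap f) {U : Set A} (hU : IsClopen U) (hne : U.Nonempty) :
    f '' U = Set.univ := by
  have h : IsClopen (f '' U) := ⟨hcl U hU.1, hop U hU.2⟩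
  exact h.eq_univ (hne.image f)

/-- If some fibre is finite, there are only finitely many clopen subsets. -/
theorem finite_isClopen [PreconnectedSpace B] (f : A → B) (hop : IsOpenMap f)
    (hcl : IsClosedMap f) (x₀ : B) (hfin : (f ⁻¹' {x₀}).Finite) :
    {U : Set A | IsClopen U}.Finite := by
  have hinj : Set.InjOn (fun U : Set A => U ∩ f ⁻¹' {x₀}) {U : Set A | IsClopen U} := by
    intro U hU V hV hUV
    have key : ∀ U V : Set A, IsClopen U → IsClopen V → U ∩ f ⁻¹' {x₀} = V ∩ f ⁻¹' {x₀} →
        U ⊆ V := by
      intro U V hU hV hUV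
      by_contra hcon
      have hne : (U \ V).Nonempty := Set.nonempty_of_not_subset hcon
      have hclop : IsClopen (U \ V) := hU.diff hV
      have := image_eq_univ_of_isClopen f hop hcl hclop hne
      have hx : x₀ ∈ f '' (U \ V) := by rw [this]; trivial
      obtain ⟨a, ⟨haU, haV⟩, ha⟩ := hx
      have : a ∈ U ∩ f ⁻¹' {x₀} := ⟨haU, ha⟩
      rw [hUV] at this
      exact haV this.1
    exact Set.Subset.antisymm (key U V hU hV hUV) (key V U hV hU hUV.symm)
  have hsub : (fun U : Set A => U ∩ f ⁻¹' {x₀}) '' {U : Set A | IsClopen U} ⊆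
      𝒫 (f ⁻¹' {x₀}) := by
    rintro _ ⟨U, -, rfl⟩
    exact Set.inter_subset_right
  exact Set.Finite.of_finite_image (hfin.finite_subsets.subset hsub) hinj

/-- For an open and closed map to a preconnected space with a finite fibre, connected components
of the source are clopen. -/
theorem isClopen_connectedComponent [PreconnectedSpace B] (f : A → B) (hop : IsOpenMap f)
    (hcl : IsClosedMap f) (x₀ : B) (hfin : (f ⁻¹' {x₀}).Finite) (c : A) :
    IsClopen (connectedComponent c) := by
  have hF := finite_isClopen f hop hcl x₀ hfin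
  let S : Set (Set A) := {U : Set A | IsClopen U ∧ c ∈ U}
  have hSfin : S.Finite := hF.subset (fun U hU => hU.1)
  let Q : Set A := ⋂₀ S
  have hQ : IsClopen Q := by
    show IsClopen (⋂₀ S)
    rw [Set.sInter_eq_biInter]
    exact hSfin.isClopen_biInter (fun U hU => hU.1)
  have hcQ : c ∈ Q := fun U hU => hU.2
  have hQpre : IsPreconnected Q := by
    rw [isPreconnected_closed_iff]
    intro t t' ht ht' hcov hnt hnt'
    by_contra hcon
    rw [Set.not_nonempty_iff_eq_empty] at hcon
    have h1 : Q ∩ t = Q \ t' := by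
      ext a
      constructor
      · rintro ⟨haQ, hat⟩
        refine ⟨haQ, fun hat' => ?_⟩
        have : a ∈ Q ∩ (t ∩ t') := ⟨haQ, hat, hat'⟩
        rw [hcon] at this
        exact this
      · rintro ⟨haQ, hat'⟩
        rcases hcov haQ with h | h
        · exact ⟨haQ, h⟩
        · exact (hat' h).elim
    have h2 : Q ∩ t' = Q \ t := by
      ext a
      constructor
      · rintro ⟨haQ, hat'⟩
        refine ⟨haQ, fun hat => ?_⟩
        have : a ∈ Q ∩ (t ∩ t') := ⟨haQ, hat, hat'⟩
        rw [hcon] at this
        exact this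
      · rintro ⟨haQ, hat⟩
        rcases hcov haQ with h | h
        · exact (hat h).elim
        · exact ⟨haQ, h⟩
    have hc1 : IsClopen (Q ∩ t) := ⟨hQ.1.inter ht, h1 ▸ hQ.2.sdiff ht'⟩
    have hc2 : IsClopen (Q ∩ t') := ⟨hQ.1.inter ht', h2 ▸ hQ.2.sdiff ht⟩
    rcases hcov hcQ with hct | hct'
    · have hsub : Q ⊆ Q ∩ t := Set.sInter_subset_of_mem ⟨hc1, hcQ, hct⟩
      obtain ⟨a, haQ, hat'⟩ := hnt'
      have : a ∈ Q ∩ (t ∩ t') := ⟨haQ, (hsub haQ).2, hat'⟩
      rw [hcon] at this
      exact this
    · have hsub : Q ⊆ Q ∩ t' := Set.sInter_subset_of_mem ⟨hc2, hcQ, hct'⟩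
      obtain ⟨a, haQ, hat⟩ := hnt
      have : a ∈ Q ∩ (t ∩ t') := ⟨haQ, hat, (hsub haQ).2⟩
      rw [hcon] at this
      exact this
  have heq : connectedComponent c = Q := by
    apply Set.Subset.antisymm
    · intro a ha U hU
      exact (isPreconnected_connectedComponent.subset_isClopen hU.1
        ⟨c, mem_connectedComponent, hU.2⟩) ha
    · exact hQpre.subset_connectedComponent hcQ
  rw [heq]
  exact hQ

/-- For an open and closed map to a preconnected space with a finite fibre, every connected
component of the source surjects onto the target. -/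
theorem image_connectedComponent_eq_univ [PreconnectedSpace B] (f : A → B) (hop : IsOpenMap f)
    (hcl : IsClosedMap f) (x₀ : B) (hfin : (f ⁻¹' {x₀}).Finite) (c : A) :
    f '' connectedComponent c = Set.univ :=
  image_eq_univ_of_isClopen f hop hcl (isClopen_connectedComponent f hop hcl x₀ hfin c)
    ⟨c, mem_connectedComponent⟩

end Groth.Agent.Helper4.FinLevel
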