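import Mathlib

set_option autoImplicit false
universe u

namespace Groth.Agent.Helper4.SpecSep

section sets
variable {α : Type*}

/-- A family of sets containing `univ` and closed under binary intersections is closed under
finite intersections. -/
theorem sInter_mem_of_finite (𝒟 : Set (Set α)) (huniv : Set.univ ∈ 𝒟)
    (hinter : ∀ D₁ ∈ 𝒟, ∀ D₂ ∈ 𝒟, D₁ ∩ D₂ ∈ 𝒟) (a : Set (Set α)) (ha : a ⊆ 𝒟)
    (hfin : a.Finite) : ⋂₀ a ∈ 𝒟 := by
  induction a, hfin using Set.Finite.induction_on with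
  | empty => simpa using huniv
  | insert _ _ ih =>
    rw [Set.sInter_insert]
    exact hinter _ (ha (Set.mem_insert _ _)) _ (ih (fun x hx => ha (Set.mem_insert_of_mem _ hx)))

variable [TopologicalSpace α]

theorem compact_inter_sInter_nonempty (𝒟 : Set (Set α)) (huniv : Set.univ ∈ 𝒟)
    (hinter : ∀ D₁ ∈ 𝒟, ∀ D₂ ∈ 𝒟, D₁ ∩ D₂ ∈ 𝒟) (hcl : ∀ D ∈ 𝒟, IsClosed D) (F : Set α)
    (hF : IsCompact F) (h : ∀ D ∈ 𝒟, (F ∩ D).Nonempty) : (F ∩ ⋂₀ 𝒟).Nonempty :=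
  hF.nonempty_inter_sInter hcl fun a ha hfin =>
    h _ (sInter_mem_of_finite 𝒟 huniv hinter a ha hfin)

theorem compact_disjoint_of_sInter (𝒟 : Set (Set α)) (huniv : Set.univ ∈ 𝒟)
    (hinter : ∀ D₁ ∈ 𝒟, ∀ D₂ ∈ 𝒟, D₁ ∩ D₂ ∈ 𝒟) (hcl : ∀ D ∈ 𝒟, IsClosed D) (Z : Set α)
    (hZ : IsCompact Z) (h : Z ∩ ⋂₀ 𝒟 = ∅) : ∃ D ∈ 𝒟, Z ∩ D = ∅ := by
  by_contra hcon
  push_neg at hcon
  have := compact_inter_sInter_nonempty 𝒟 huniv hinter hcl Z hZ
    (fun D hD => hcon D hD)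
  rw [h] at this
  exact Set.not_nonempty_empty this

end sets

open PrimeSpectrum in
/-- In a prime spectrum, a relatively clopen subset of a directed intersection of clopen
subsets is cut out by a clopen subset. -/
theorem exists_isClopen_inter_eq {S : Type*} [CommRing S] (𝒟 : Set (Set (PrimeSpectrum S)))
    (huniv : Set.univ ∈ 𝒟) (hinter : ∀ D₁ ∈ 𝒟, ∀ D₂ ∈ 𝒟, D₁ ∩ D₂ ∈ 𝒟)
    (hclopen : ∀ D ∈ 𝒟, IsClopen D) (A B : Set (PrimeSpectrum S)) (hA : IsClosed A)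
    (hB : IsClosed B) (hAB : A ∩ B = ∅) (hU : A ∪ B = ⋂₀ 𝒟) :
    ∃ Ã : Set (PrimeSpectrum S), IsClopen Ã ∧ Ã ∩ ⋂₀ 𝒟 = A := by
  have hA' : zeroLocus (vanishingIdeal A : Set S) = A := by
    rw [zeroLocus_vanishingIdeal_eq_closure, hA.closure_eq]
  have hB' : zeroLocus (vanishingIdeal B : Set S) = B := by
    rw [zeroLocus_vanishingIdeal_eq_closure, hB.closure_eq]
  have htop : vanishingIdeal A ⊔ vanishingIdeal B = ⊤ := by
    rw [← zeroLocus_empty_iff_eq_top, zeroLocus_sup, hA', hB', hAB]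
  have h1 : (1 : S) ∈ vanishingIdeal A ⊔ vanishingIdeal B := by rw [htop]; trivial
  obtain ⟨a, ha, b, hb, hab⟩ := Submodule.mem_sup.mp h1
  -- `a` vanishes on `A`, `b` vanishes on `B`
  have haA : ∀ p ∈ A, a ∈ p.asIdeal := fun p hp => (mem_vanishingIdeal _ _).mp ha p hp
  have hbB : ∀ p ∈ B, b ∈ p.asIdeal := fun p hp => (mem_vanishingIdeal _ _).mp hb p hp
  have hZ : (basicOpen (a * b) : Set (PrimeSpectrum S)) ∩ ⋂₀ 𝒟 = ∅ := by
    rw [← hU]
    ext p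
    simp only [Set.mem_inter_iff, SetLike.mem_coe, mem_basicOpen, Set.mem_union,
      Set.mem_empty_iff_false, iff_false, not_and]
    rintro hp (hpA | hpB)
    · exact hp (Ideal.mul_mem_right _ _ (haA p hpA))
    · exact hp (Ideal.mul_mem_left _ _ (hbB p hpB))
  obtain ⟨D, hD, hDZ⟩ := compact_disjoint_of_sInter 𝒟 huniv hinter (fun D hD => (hclopen D hD).1)
    _ (isCompact_basicOpen (a * b)) hZ
  have hcover : ∀ p : PrimeSpectrum S, a ∉ p.asIdeal ∨ b ∉ p.asIdeal := by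
    intro p
    by_contra hcon
    push_neg at hcon
    have : (1 : S) ∈ p.asIdeal := hab ▸ p.asIdeal.add_mem hcon.1 hcon.2
    exact p.isPrime.ne_top ((Ideal.eq_top_iff_one _).mpr this)
  have heq : D ∩ (basicOpen b : Set (PrimeSpectrum S)) = D \ (basicOpen a : Set _) := by
    ext p
    simp only [Set.mem_inter_iff, SetLike.mem_coe, mem_basicOpen, Set.mem_diff]
    constructor
    · rintro ⟨hpD, hpb⟩
      refine ⟨hpD, fun hpa => ?_⟩
      have : p ∈ (basicOpen (a * b) : Set (PrimeSpectrum S)) ∩ D := by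
        refine ⟨?_, hpD⟩
        simp only [SetLike.mem_coe, mem_basicOpen]
        exact fun h => (p.isPrime.mem_or_mem h).elim hpa hpb
      rw [hDZ] at this
      exact this
    · rintro ⟨hpD, hpa⟩
      refine ⟨hpD, ?_⟩
      rcases hcover p with h | h
      · exact (hpa h).elim
      · exact h
  refine ⟨D ∩ (basicOpen b : Set (PrimeSpectrum S)), ⟨?_, ?_⟩, ?_⟩
  · rw [heq]
    exact (hclopen D hD).1.sdiff (basicOpen a).isOpen
  · exact (hclopen D hD).2.inter (basicOpen b).isOpen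
  · have hsub : ⋂₀ 𝒟 ⊆ D := Set.sInter_subset_of_mem hD
    rw [Set.inter_assoc, Set.inter_comm (basicOpen b : Set (PrimeSpectrum S)),
      ← Set.inter_assoc, Set.inter_eq_right.mpr hsub, ← hU]
    ext p
    simp only [Set.mem_inter_iff, Set.mem_union, SetLike.mem_coe, mem_basicOpen]
    constructor
    · rintro ⟨hpA | hpB, hpb⟩
      · exact hpA
      · exact (hpb (hbB p hpB)).elim
    · intro hpA
      refine ⟨Or.inl hpA, fun hpb => ?_⟩
      rcases hcover p with h | h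
      · exact h (haA p hpA)
      · exact h hpb

/-- The same statement transported along a homeomorphism with a prime spectrum. -/
theorem exists_isClopen_inter_eq' {S : Type*} [CommRing S] {Z : Type*} [TopologicalSpace Z]
    (e : Z ≃ₜ PrimeSpectrum S) (𝒟 : Set (Set Z))
    (huniv : Set.univ ∈ 𝒟) (hinter : ∀ D₁ ∈ 𝒟, ∀ D₂ ∈ 𝒟, D₁ ∩ D₂ ∈ 𝒟)
    (hclopen : ∀ D ∈ 𝒟, IsClopen D) (A B : Set Z) (hA : IsClosed A)
    (hB : IsClosed B) (hAB : A ∩ B = ∅) (hU : A ∪ B = ⋂₀ 𝒟) :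
    ∃ Ã : Set Z, IsClopen Ã ∧ Ã ∩ ⋂₀ 𝒟 = A := by
  let 𝒟' : Set (Set (PrimeSpectrum S)) := (fun D => e '' D) '' 𝒟
  have hsI : ⋂₀ 𝒟' = e '' ⋂₀ 𝒟 := by
    ext p
    simp only [𝒟', Set.mem_sInter, Set.mem_image, forall_exists_index, and_imp,
      forall_apply_eq_imp_iff₂]
    constructor
    · intro h
      refine ⟨e.symm p, fun D hD => ?_, e.apply_symm_apply p⟩
      obtain ⟨z, hz, hzp⟩ := h D hD
      rw [← hzp, e.symm_apply_apply]
      exact hz
    · rintro ⟨z, hz, rfl⟩ D hD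
      exact ⟨z, hz D hD, rfl⟩
  obtain ⟨Ã, hÃ, hÃeq⟩ := exists_isClopen_inter_eq 𝒟' ⟨Set.univ, huniv, by simp⟩
    (by
      rintro _ ⟨D₁, hD₁, rfl⟩ _ ⟨D₂, hD₂, rfl⟩
      exact ⟨D₁ ∩ D₂, hinter D₁ hD₁ D₂ hD₂, Set.image_inter e.injective⟩)
    (by
      rintro _ ⟨D, hD, rfl⟩
      exact ⟨e.isClosedMap _ (hclopen D hD).1, e.isOpenMap _ (hclopen D hD).2⟩)
    (e '' A) (e '' B) (e.isClosedMap _ hA) (e.isClosedMap _ hB)
    (by rw [← Set.image_inter e.injective, hAB, Set.image_empty])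
    (by rw [← Set.image_union, hU, hsI])
  refine ⟨e ⁻¹' Ã, hÃ.preimage e.continuous, ?_⟩
  have : e '' (e ⁻¹' Ã ∩ ⋂₀ 𝒟) = e '' A := by
    rw [Set.image_inter e.injective, Set.image_preimage_eq _ e.surjective, ← hsI, hÃeq]
  exact e.injective.image_injective this

end Groth.Agent.Helper4.SpecSep
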