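import Groth.Agent.Helper4.GalStable
import Groth.Agent.Helper4.SpecSep
import Groth.Agent.Helper4.FinLevel
import Mathlib

set_option autoImplicit false
universe u
open CategoryTheory CategoryTheory.Limits AlgebraicGeometry Opposite

namespace Groth.Agent.Helper4.ConnLimit

open Groth.Agent.Helper4.GalTrans Groth.Agent.Helper4.GeomConnSch Groth.Agent.Helper4.IrrCompBC
  Groth.Agent.Helper4.GalDesc Groth.Agent.Helper4.GeomBC Groth.Agent.Helper4.ConnFinSep
  Groth.Agent.Helper4.GalStable Groth.Agent.Helper4.SpecSep Groth.Agent.Helper4.GeomConnSub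

variable (k : Type u) [Field k] (X : Scheme.{u}) [X.Over (Spec (CommRingCat.of k))]
  (K : Type u) [Field K] [Algebra k K]

/-- At a finite level over a connected base, connected components are clopen. -/
theorem isClopen_cc_level [ConnectedSpace X] (E : IntermediateField k K) [FiniteDimensional k E]
    (c : ↥(Curv2.bc k X E)) : IsClopen (connectedComponent c) := by
  let p := Curv2.bcFst k X E
  have hop : IsOpenMap p := p.isOpenMap
  have hcl : IsClosedMap p := isClosedMap_bc_fst_of_isAlgebraic (X ↘ Spec (CommRingCat.of k)) E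
  haveI : IsFinite (Spec.map (CommRingCat.ofHom (algebraMap k E))) := by
    rw [IsFinite.SpecMap_iff]
    show (algebraMap k E).Finite
    exact RingHom.finite_algebraMap.mpr inferInstance
  haveI : IsFinite p := MorphismProperty.pullback_fst (P := @IsFinite) _ _ inferInstance
  obtain ⟨x₀⟩ := (inferInstance : Nonempty X)
  exact FinLevel.isClopen_connectedComponent p hop hcl x₀ (p.finite_preimage_singleton x₀) c

variable {k X K} (x' : ↥(Curv2.bc k X K))

/-- The preimage of the connected component of the image of `x'` at level `E`. -/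
def TE (E : IntermediateField k K) : Set ↥(Curv2.bc k X K) :=
  q k X K E ⁻¹' connectedComponent (q k X K E x')

theorem mem_TE (E : IntermediateField k K) : x' ∈ TE x' E := mem_connectedComponent

theorem stable_TE (E : IntermediateField k K) : Stable k X K E (TE x' E) :=
  stable_preimage_q E _

theorem isClopen_TE [ConnectedSpace X] (E : IntermediateField k K) [FiniteDimensional k E] :
    IsClopen (TE x' E) :=
  (isClopen_cc_level k X K E _).preimage (q k X K E).continuous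

theorem TE_subset [Normal k K] (E : IntermediateField k K) {D : Set ↥(Curv2.bc k X K)}
    (hD : IsClopen D) (hst : Stable k X K E D) (hx : x' ∈ D) : TE x' E ⊆ D := by
  have h1 : IsClopen (q k X K E '' D) :=
    ⟨isClosedMap_bcMap _ E K D hD.1, isOpenMap_bcMap _ E K D hD.2⟩
  have h2 : connectedComponent (q k X K E x') ⊆ q k X K E '' D :=
    isPreconnected_connectedComponent.subset_isClopen h1
      ⟨q k X K E x', mem_connectedComponent, ⟨x', hx, rfl⟩⟩
  intro t ht
  have : t ∈ q k X K E ⁻¹' (q k X K E '' D) := h2 ht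
  rwa [hst.preimage_image] at this

/-- The clopen subsets of finite level containing `x'`. -/
def 𝒟 : Set (Set ↥(Curv2.bc k X K)) :=
  {D | IsClopen D ∧ x' ∈ D ∧ ∃ E : IntermediateField k K, FiniteDimensional k E ∧ Stable k X K E D}

/-- Their intersection. -/
def Tinf : Set ↥(Curv2.bc k X K) := ⋂₀ 𝒟 x'

theorem univ_mem_𝒟 : Set.univ ∈ 𝒟 x' :=
  ⟨isClopen_univ, trivial, ⊥, inferInstance, stable_univ ⊥⟩

theorem inter_mem_𝒟 : ∀ D₁ ∈ 𝒟 x', ∀ D₂ ∈ 𝒟 x', D₁ ∩ D₂ ∈ 𝒟 x' := by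
  rintro D₁ ⟨h1, hx1, E₁, hE₁, hs1⟩ D₂ ⟨h2, hx2, E₂, hE₂, hs2⟩
  exact ⟨h1.inter h2, ⟨hx1, hx2⟩, E₁ ⊔ E₂, IntermediateField.finiteDimensional_sup E₁ E₂,
    (hs1.mono le_sup_left).inter (hs2.mono le_sup_right)⟩

theorem isClosed_of_mem_𝒟 : ∀ D ∈ 𝒟 x', IsClosed D := fun _ hD => hD.1.1

theorem isClosed_Tinf : IsClosed (Tinf x') := isClosed_sInter (isClosed_of_mem_𝒟 x')

theorem mem_Tinf : x' ∈ Tinf x' := fun _ hD => hD.2.1

theorem cc_subset_Tinf : connectedComponent x' ⊆ Tinf x' := fun _ ht _ hD =>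
  (isPreconnected_connectedComponent.subset_isClopen hD.1
    ⟨x', mem_connectedComponent, hD.2.1⟩) ht

theorem TE_mem_𝒟 [ConnectedSpace X] (E : IntermediateField k K) [hE : FiniteDimensional k E] :
    TE x' E ∈ 𝒟 x' :=
  ⟨isClopen_TE x' E, mem_TE x' E, E, hE, stable_TE x' E⟩

theorem Tinf_subset_TE [ConnectedSpace X] (E : IntermediateField k K) [FiniteDimensional k E] :
    Tinf x' ⊆ TE x' E := Set.sInter_subset_of_mem (TE_mem_𝒟 x' E)

/-- Every point of `T_E` is conjugate over `E` to a point of `T^∞`. -/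
theorem TE_subset_sat_Tinf [ConnectedSpace X] [Normal k K] (E : IntermediateField k K)
    [FiniteDimensional k E] : TE x' E ⊆ sat E (Tinf x') := by
  intro n hn
  have hF := isCompact_fibre_q (X := X) E (q k X K E n)
  have key : ∀ D ∈ 𝒟 x', (q k X K E ⁻¹' {q k X K E n} ∩ D).Nonempty := by
    rintro D ⟨hDc, hDx, -⟩
    have hclop : IsClopen (D ∩ TE x' E) := hDc.inter (isClopen_TE x' E)
    have hD' : IsClopen (sat E (D ∩ TE x' E)) :=
      ⟨isClosed_sat E hclop.1, isOpen_sat E hclop.2⟩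
    have hsub : TE x' E ⊆ sat E (D ∩ TE x' E) :=
      TE_subset x' E hD' (stable_sat E _) (subset_sat E _ ⟨hDx, mem_TE x' E⟩)
    obtain ⟨d, ⟨hdD, -⟩, hd⟩ := hsub hn
    exact ⟨d, hd, hdD⟩
  obtain ⟨t, htF, htT⟩ := compact_inter_sInter_nonempty (𝒟 x') (univ_mem_𝒟 x') (inter_mem_𝒟 x')
    (isClosed_of_mem_𝒟 x') _ hF key
  exact ⟨t, htT, htF⟩

/-- `T^∞` surjects onto a connected base. -/
theorem image_Tinf [ConnectedSpace X] [Algebra.IsAlgebraic k K] :
    Curv2.bcFst k X K '' Tinf x' = Set.univ := by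
  let p := Curv2.bcFst k X K
  have hop : IsOpenMap p := p.isOpenMap
  have hcl : IsClosedMap p := isClosedMap_bc_fst_of_isAlgebraic (X ↘ Spec (CommRingCat.of k)) K
  haveI : QuasiCompact p := MorphismProperty.pullback_fst (P := @QuasiCompact) _ _ inferInstance
  rw [Set.eq_univ_iff_forall]
  intro y
  have hF : IsCompact (p ⁻¹' {y}) := p.isCompact_preimage_singleton y
  have key : ∀ D ∈ 𝒟 x', (p ⁻¹' {y} ∩ D).Nonempty := by
    rintro D ⟨hDc, hDx, -⟩
    have := FinLevel.image_eq_univ_of_isClopen p hop hcl hDc ⟨x', hDx⟩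
    have hy : y ∈ p '' D := by rw [this]; trivial
    obtain ⟨d, hdD, hd⟩ := hy
    exact ⟨d, hd, hdD⟩
  obtain ⟨t, htF, htT⟩ := compact_inter_sInter_nonempty (𝒟 x') (univ_mem_𝒟 x') (inter_mem_𝒟 x')
    (isClosed_of_mem_𝒟 x') _ hF key
  exact ⟨t, htT, htF⟩

/-- Local descent of relatively clopen subsets of `T^∞` to a finite level. -/
theorem local_descent [Algebra.IsAlgebraic k K] (A : Set ↥(Curv2.bc k X K)) (hA : IsClosed A)
    (hB : IsClosed (Tinf x' \ A)) (hAT : A ⊆ Tinf x') (b : ↥(Curv2.bc k X K)) :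
    ∃ U : Set X, Curv2.bcFst k X K b ∈ U ∧ ∃ E : IntermediateField k K, FiniteDimensional k E ∧
      ∃ Ã : Set ↥(Curv2.bc k X K), IsOpen Ã ∧ Stable k X K E Ã ∧
        Ã ∩ Tinf x' = A ∩ Curv2.bcFst k X K ⁻¹' U := by
  set f := X ↘ Spec (CommRingCat.of k) with hf
  let p := Curv2.bcFst k X K
  let 𝒰 := X.affineCover
  let i := 𝒰.idx (p b)
  let j := 𝒰.f i
  refine ⟨Set.range j, 𝒰.covers (p b), ?_⟩
  let β := bcHom j f K
  have hrange : Set.range β = p ⁻¹' Set.range j := range_bcHom j f K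
  let Y := pullback (j ≫ f) (Spec.map (CommRingCat.ofHom (algebraMap k K)))
  haveI : IsAffine Y := inferInstance
  let e : ↥Y ≃ₜ PrimeSpectrum Γ(Y, ⊤) := Y.isoSpec.hom.homeomorph
  let 𝒟' : Set (Set ↥Y) := (fun D => β ⁻¹' D) '' 𝒟 x'
  have hsI : ⋂₀ 𝒟' = β ⁻¹' Tinf x' := by
    ext y
    simp only [𝒟', Tinf, Set.mem_sInter, Set.mem_image, forall_exists_index, and_imp,
      forall_apply_eq_imp_iff₂, Set.mem_preimage]
  obtain ⟨Ã', hÃ', hÃeq⟩ := exists_isClopen_inter_eq' e 𝒟' ⟨Set.univ, univ_mem_𝒟 x', rfl⟩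
    (by
      rintro _ ⟨D₁, hD₁, rfl⟩ _ ⟨D₂, hD₂, rfl⟩
      exact ⟨D₁ ∩ D₂, inter_mem_𝒟 x' D₁ hD₁ D₂ hD₂, Set.preimage_inter⟩)
    (by
      rintro _ ⟨D, hD, rfl⟩
      exact hD.1.preimage β.continuous)
    (β ⁻¹' A) (β ⁻¹' (Tinf x' \ A)) (hA.preimage β.continuous) (hB.preimage β.continuous)
    (by rw [← Set.preimage_inter]; simp)
    (by rw [← Set.preimage_union, hsI, Set.union_diff_cancel hAT])
  rw [hsI] at hÃeq
  obtain ⟨E, hE, C', hC', hCC'⟩ := exists_fd_clopen_Spec _ (j ≫ f) K Ã' hÃ'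
  refine ⟨E, hE, β '' Ã', β.isOpenEmbedding.isOpenMap _ hÃ'.2, ?_, ?_⟩
  · rintro σ hσ _ ⟨_, ⟨a', ha', rfl⟩, rfl⟩
    have hmem : Curv2.galAct k X K σ (β a') ∈ Set.range β := by
      rw [hrange]
      show p (Curv2.galAct k X K σ (β a')) ∈ Set.range j
      rw [galAct_fst_apply]
      have : β a' ∈ Set.range β := ⟨a', rfl⟩
      rw [hrange] at this
      exact this
    obtain ⟨a'', ha''⟩ := hmem
    refine ⟨a'', ?_, ha''⟩
    rw [hCC'] at ha' ⊢
    have h2 : bcHom j f E (bcMap (j ≫ f) E K a'') = bcHom j f E (bcMap (j ≫ f) E K a') := by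
      rw [← Scheme.Hom.comp_apply, ← Scheme.Hom.comp_apply, ← bcHom_bcMap,
        Scheme.Hom.comp_apply, Scheme.Hom.comp_apply]
      show q k X K E (β a'') = q k X K E (β a')
      rw [ha'', galAct_q_apply k X K E σ hσ]
    have h3 : bcMap (j ≫ f) E K a'' = bcMap (j ≫ f) E K a' :=
      (bcHom j f E).isOpenEmbedding.injective h2
    show bcMap (j ≫ f) E K a'' ∈ C'
    rw [h3]
    exact ha'
  · rw [← Set.image_inter_preimage, hÃeq, Set.image_preimage_eq_inter_range, hrange]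

/-- Key step: a relatively clopen subset of `T^∞` containing `x'` is everything. -/
theorem Tinf_subset_of_relClopen [ConnectedSpace X] [Normal k K] (A : Set ↥(Curv2.bc k X K))
    (hA : IsClosed A) (hB : IsClosed (Tinf x' \ A)) (hAT : A ⊆ Tinf x') (hx : x' ∈ A) :
    Tinf x' ⊆ A := by
  have claim : ∀ E : IntermediateField k K, FiniteDimensional k E → Tinf x' ⊆ sat E A := by
    intro E hE
    have hopen : IsOpen (sat E A) := by
      rw [isOpen_iff_forall_mem_open]
      intro t ht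
      obtain ⟨σ, hσ, a, ha, rfl⟩ := (mem_sat_iff E A t).mp ht
      obtain ⟨U, hbU, Ea, hEa, Ã, hÃo, hÃs, hÃeq⟩ := local_descent x' A hA hB hAT a
      haveI : FiniteDimensional k ↥(E ⊔ Ea) := IntermediateField.finiteDimensional_sup E Ea
      let N₀ : Set ↥(Curv2.bc k X K) := Ã ∩ TE x' (E ⊔ Ea)
      have hN₀o : IsOpen N₀ := hÃo.inter (isClopen_TE x' (E ⊔ Ea)).2
      have haN₀ : a ∈ N₀ := by
        refine ⟨?_, Tinf_subset_TE x' _ (hAT ha)⟩
        have : a ∈ A ∩ Curv2.bcFst k X K ⁻¹' U := ⟨ha, hbU⟩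
        rw [← hÃeq] at this
        exact this.1
      have hN₀sub : N₀ ⊆ sat E A := by
        rintro n ⟨hnÃ, hnT⟩
        obtain ⟨τ, hτ, t₁, ht₁, rfl⟩ :=
          (mem_sat_iff (E ⊔ Ea) (Tinf x') n).mp (TE_subset_sat_Tinf x' (E ⊔ Ea) hnT)
        have hτinv : τ⁻¹ ∈ (E ⊔ Ea).fixingSubgroup := inv_mem hτ
        have ht₁Ã : t₁ ∈ Ã := by
          have := (hÃs.mono (le_sup_right : Ea ≤ E ⊔ Ea)).mem_of_mem hτinv hnÃ
          rwa [galAct_inv_apply] at this
        have ht₁A : t₁ ∈ A := by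
          have : t₁ ∈ Ã ∩ Tinf x' := ⟨ht₁Ã, ht₁⟩
          rw [hÃeq] at this
          exact this.1
        exact sat_mono_level (le_sup_left : E ≤ E ⊔ Ea) A
          ((mem_sat_iff (E ⊔ Ea) A _).mpr ⟨τ, hτ, t₁, ht₁A, rfl⟩)
      refine ⟨galHomeo k X K σ '' N₀, ?_, (galHomeo k X K σ).isOpenMap _ hN₀o, ⟨a, haN₀, rfl⟩⟩
      rintro _ ⟨n, hn, rfl⟩
      exact (stable_sat E A).mem_of_mem hσ (hN₀sub hn)
    have hmem : sat E A ∈ 𝒟 x' :=
      ⟨⟨isClosed_sat E hA, hopen⟩, subset_sat E A hx, E, hE, stable_sat E A⟩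
    exact Set.sInter_subset_of_mem hmem
  intro b hb
  obtain ⟨U, hbU, E, hE, Ã, -, hÃs, hÃeq⟩ := local_descent x' A hA hB hAT b
  obtain ⟨σ, hσ, a, ha, rfl⟩ := (mem_sat_iff E A b).mp (claim E hE hb)
  have haU : a ∈ Curv2.bcFst k X K ⁻¹' U := by
    show Curv2.bcFst k X K a ∈ U
    rw [← galAct_fst_apply k X K σ a]
    exact hbU
  have haÃ : a ∈ Ã := by
    have : a ∈ A ∩ Curv2.bcFst k X K ⁻¹' U := ⟨ha, haU⟩
    rw [← hÃeq] at this
    exact this.1
  have : Curv2.galAct k X K σ a ∈ Ã ∩ Tinf x' := ⟨hÃs.mem_of_mem hσ haÃ, hb⟩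
  rw [hÃeq] at this
  exact this.1

theorem isPreconnected_Tinf [ConnectedSpace X] [Normal k K] : _root_.IsPreconnected (Tinf x') := by
  rw [isPreconnected_closed_iff]
  intro t t' ht ht' hcov hnt hnt'
  by_contra hcon
  rw [Set.not_nonempty_iff_eq_empty] at hcon
  have hTcl := isClosed_Tinf x'
  have h1 : Tinf x' \ (Tinf x' ∩ t) = Tinf x' ∩ t' := by
    ext a
    simp only [Set.mem_diff, Set.mem_inter_iff, not_and]
    constructor
    · rintro ⟨haT, hat⟩
      rcases hcov haT with h | h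
      · exact (hat haT h).elim
      · exact ⟨haT, h⟩
    · rintro ⟨haT, hat'⟩
      refine ⟨haT, fun _ hat => ?_⟩
      have : a ∈ Tinf x' ∩ (t ∩ t') := ⟨haT, hat, hat'⟩
      rw [hcon] at this
      exact this
  have h2 : Tinf x' \ (Tinf x' ∩ t') = Tinf x' ∩ t := by
    ext a
    simp only [Set.mem_diff, Set.mem_inter_iff, not_and]
    constructor
    · rintro ⟨haT, hat'⟩
      rcases hcov haT with h | h
      · exact ⟨haT, h⟩
      · exact (hat' haT h).elim
    · rintro ⟨haT, hat⟩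
      refine ⟨haT, fun _ hat' => ?_⟩
      have : a ∈ Tinf x' ∩ (t ∩ t') := ⟨haT, hat, hat'⟩
      rw [hcon] at this
      exact this
  rcases hcov (mem_Tinf x') with hx | hx
  · have := Tinf_subset_of_relClopen x' (Tinf x' ∩ t) (hTcl.inter ht) (h1 ▸ hTcl.inter ht')
      Set.inter_subset_left ⟨mem_Tinf x', hx⟩
    obtain ⟨a, haT, hat'⟩ := hnt'
    have : a ∈ Tinf x' ∩ (t ∩ t') := ⟨haT, (this haT).2, hat'⟩
    rw [hcon] at this
    exact this
  · have := Tinf_subset_of_relClopen x' (Tinf x' ∩ t') (hTcl.inter ht') (h2 ▸ hTcl.inter ht)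
      Set.inter_subset_left ⟨mem_Tinf x', hx⟩
    obtain ⟨a, haT, hat⟩ := hnt
    have : a ∈ Tinf x' ∩ (t ∩ t') := ⟨haT, hat, (this haT).2⟩
    rw [hcon] at this
    exact this

theorem connectedComponent_eq_Tinf [ConnectedSpace X] [Normal k K] :
    connectedComponent x' = Tinf x' :=
  Set.Subset.antisymm (cc_subset_Tinf x')
    ((isPreconnected_Tinf x').subset_connectedComponent (mem_Tinf x'))

/-- Over a connected base, every connected component of `X_K` surjects onto `X`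
(`K / k` normal). -/
theorem image_connectedComponent_eq_univ [ConnectedSpace X] [Normal k K] :
    Curv2.bcFst k X K '' connectedComponent x' = Set.univ := by
  rw [connectedComponent_eq_Tinf]
  exact image_Tinf x'

end Groth.Agent.Helper4.ConnLimit
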