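import Mathlib

/-!
# Constant abelian sheaves on a site: sections are exact, `H¹` is left exact
-/

set_option autoImplicit false

namespace Groth.Agent.Helper4.ConstSheafExact

open CategoryTheory Opposite Limits
universe w u
variable {C : Type u} [SmallCategory C] (J : GrothendieckTopology C)

/-- For a surjection of abelian groups the induced map of constant sheaves has a section
as a map of sheaves of sets. -/
theorem exists_setSection {B D : AddCommGrpCat.{u}} (g : B ⟶ D) (hg : Function.Surjective g) :
    ∃ s : (constantSheaf J AddCommGrpCat.{u} ⋙ sheafCompose J (forget AddCommGrpCat.{u})).obj D ⟶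
        (constantSheaf J AddCommGrpCat.{u} ⋙ sheafCompose J (forget AddCommGrpCat.{u})).obj B,
      s ≫ (constantSheaf J AddCommGrpCat.{u} ⋙ sheafCompose J (forget AddCommGrpCat.{u})).map g
        = 𝟙 _ := by
  classical
  let e := constantCommuteCompose J (forget AddCommGrpCat.{u})
  obtain ⟨σ, hσ⟩ := hg.hasRightInverse
  let σ' : (forget AddCommGrpCat.{u}).obj D ⟶ (forget AddCommGrpCat.{u}).obj B := TypeCat.ofHom σ
  have hσ' : σ' ≫ (forget AddCommGrpCat.{u}).map g = 𝟙 _ := by
    ext x
    exact hσ x
  refine ⟨e.hom.app D ≫ (constantSheaf J (Type u)).map σ' ≫ e.inv.app B, ?_⟩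
  have hnat := e.inv.naturality g
  rw [Category.assoc, Category.assoc, ← hnat]
  have : (constantSheaf J (Type u)).map σ' ≫
      (forget AddCommGrpCat.{u} ⋙ constantSheaf J (Type u)).map g = 𝟙 _ := by
    rw [CategoryTheory.Functor.comp_map, ← CategoryTheory.Functor.map_comp, hσ',
      CategoryTheory.Functor.map_id]
  calc e.hom.app D ≫ (constantSheaf J (Type u)).map σ' ≫
        (forget AddCommGrpCat.{u} ⋙ constantSheaf J (Type u)).map g ≫ e.inv.app D
      = e.hom.app D ≫ ((constantSheaf J (Type u)).map σ' ≫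
        (forget AddCommGrpCat.{u} ⋙ constantSheaf J (Type u)).map g) ≫ e.inv.app D := by
        simp only [Category.assoc]
    _ = 𝟙 _ := by
        rw [this]
        erw [Category.id_comp]
        exact Iso.hom_inv_id_app e D

theorem surj_sections {B D : AddCommGrpCat.{u}} (g : B ⟶ D) (hg : Function.Surjective g) (U : C) :
    Function.Surjective (((constantSheaf J AddCommGrpCat.{u}).map g).hom.app (op U)) := by
  obtain ⟨s, hs⟩ := exists_setSection J g hg
  intro y
  refine ⟨s.hom.app (op U) y, ?_⟩
  have h := congrArg (fun k => k.hom.app (op U)) hs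
  exact ConcreteCategory.congr_hom h y

theorem preservesFiniteLimits_constantSheaf :
    PreservesFiniteLimits (constantSheaf J AddCommGrpCat.{u}) :=
  comp_preservesFiniteLimits _ _

theorem preservesFiniteColimits_constantSheaf :
    PreservesFiniteColimits (constantSheaf J AddCommGrpCat.{u}) :=
  comp_preservesFiniteColimits _ _

theorem shortExact_constantSheaf (S : ShortComplex AddCommGrpCat.{u}) (hS : S.ShortExact) :
    (S.map (constantSheaf J AddCommGrpCat.{u})).ShortExact := by
  haveI := preservesFiniteLimits_constantSheaf J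
  haveI := preservesFiniteColimits_constantSheaf J
  exact hS.map_of_exact _

/-- The sections functor as a composite. -/
def secIso (U : C) : (sheafSections J AddCommGrpCat.{u}).obj (op U) ≅
    sheafToPresheaf J AddCommGrpCat.{u} ⋙ (evaluation Cᵒᵖ AddCommGrpCat.{u}).obj (op U) :=
  NatIso.ofComponents (fun _ => Iso.refl _)

theorem preservesFiniteLimits_sections (U : C) :
    PreservesFiniteLimits ((sheafSections J AddCommGrpCat.{u}).obj (op U)) :=
  preservesFiniteLimits_of_natIso (secIso J U).symm

theorem additive_sections (U : C) :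
    ((sheafSections J AddCommGrpCat.{u}).obj (op U)).Additive := ⟨fun {_ _ _ _} => rfl⟩

theorem shortExact_sections (S : ShortComplex AddCommGrpCat.{u}) (hS : S.ShortExact) (U : C)
    [(constantSheaf J AddCommGrpCat.{u} ⋙
      (sheafSections J AddCommGrpCat.{u}).obj (op U)).PreservesZeroMorphisms] :
    (S.map (constantSheaf J AddCommGrpCat.{u} ⋙
      (sheafSections J AddCommGrpCat.{u}).obj (op U))).ShortExact := by
  have h1 : (S.map (constantSheaf J AddCommGrpCat.{u})).ShortExact := shortExact_constantSheaf J S hS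
  haveI := additive_sections J U
  have h2 := (Functor.preservesFiniteLimits_iff_forall_exact_map_and_mono
    ((sheafSections J AddCommGrpCat.{u}).obj (op U))).1 (preservesFiniteLimits_sections J U) _ h1
  refine ShortComplex.ShortExact.mk' h2.1 h2.2 ?_
  haveI := hS.epi_g
  have hsurj := (AddCommGrpCat.epi_iff_surjective S.g).1 inferInstance
  exact (AddCommGrpCat.epi_iff_surjective _).2 (surj_sections J S.g hsurj U)

theorem ulift_int_hom_ext {M : Type u} [AddCommGroup M] (f g : ULift.{u} ℤ →+ M)
    (h : f (ULift.up 1) = g (ULift.up 1)) : f = g := by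
  have : f.comp AddEquiv.ulift.symm.toAddMonoidHom = g.comp AddEquiv.ulift.symm.toAddMonoidHom := by
    apply AddMonoidHom.ext_int
    exact h
  ext x
  have := DFunLike.congr_fun this x.down
  exact this

theorem exists_lift {B D : AddCommGrpCat.{u}} (g : B ⟶ D) (hg : Function.Surjective g)
    (φ : (constantSheaf J AddCommGrpCat.{u}).obj (AddCommGrpCat.of (ULift.{u} ℤ)) ⟶
      (constantSheaf J AddCommGrpCat.{u}).obj D) :
    ∃ ψ : (constantSheaf J AddCommGrpCat.{u}).obj (AddCommGrpCat.of (ULift.{u} ℤ)) ⟶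
      (constantSheaf J AddCommGrpCat.{u}).obj B,
      ψ ≫ (constantSheaf J AddCommGrpCat.{u}).map g = φ := by
  obtain ⟨s, hs⟩ := exists_setSection J g hg
  let Z : Cᵒᵖ ⥤ AddCommGrpCat.{u} := (Functor.const Cᵒᵖ).obj (AddCommGrpCat.of (ULift.{u} ℤ))
  let γ : Z ⟶ ((constantSheaf J AddCommGrpCat.{u}).obj D).obj := toSheafify J Z ≫ φ.hom
  let c : ∀ U : Cᵒᵖ, ((constantSheaf J AddCommGrpCat.{u}).obj D).obj.obj U :=
    fun U => γ.app U (ULift.up 1)
  have hc : ∀ {U V : Cᵒᵖ} (f : U ⟶ V),
      ((constantSheaf J AddCommGrpCat.{u}).obj D).obj.map f (c U) = c V := by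
    intro U V f
    have := ConcreteCategory.congr_hom (γ.naturality f) (ULift.up 1)
    exact this.symm
  let b : ∀ U : Cᵒᵖ, ((constantSheaf J AddCommGrpCat.{u}).obj B).obj.obj U :=
    fun U => s.hom.app U (c U)
  have hb : ∀ {U V : Cᵒᵖ} (f : U ⟶ V),
      ((constantSheaf J AddCommGrpCat.{u}).obj B).obj.map f (b U) = b V := by
    intro U V f
    have := ConcreteCategory.congr_hom (s.hom.naturality f) (c U)
    show _ = s.hom.app V (c V)
    rw [← hc f]
    exact this.symm
  have hgb : ∀ U : Cᵒᵖ, ((constantSheaf J AddCommGrpCat.{u}).map g).hom.app U (b U) = c U := by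
    intro U
    have h := congrArg (fun k => k.hom.app U) hs
    exact ConcreteCategory.congr_hom h (c U)
  let β : Z ⟶ ((constantSheaf J AddCommGrpCat.{u}).obj B).obj :=
    { app := fun U => AddCommGrpCat.ofHom
        ((zmultiplesHom _ (b U)).comp AddEquiv.ulift.toAddMonoidHom)
      naturality := by
        intro U V f
        apply AddCommGrpCat.hom_ext
        apply ulift_int_hom_ext
        have h1 : (Z.map f) = 𝟙 _ := rfl
        rw [h1, Category.id_comp]
        simp only [AddCommGrpCat.hom_comp, AddCommGrpCat.hom_ofHom, AddMonoidHom.comp_apply]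
        have h2 : (AddEquiv.ulift.toAddMonoidHom : ULift.{u} ℤ →+ ℤ) (ULift.up 1) = 1 := rfl
        rw [h2]
        simp only [zmultiplesHom_apply, one_smul]
        exact (hb f).symm }
  refine ⟨⟨sheafifyLift J β ((constantSheaf J AddCommGrpCat.{u}).obj B).property⟩, ?_⟩
  apply Sheaf.hom_ext
  apply sheafify_hom_ext _ _ _ ((constantSheaf J AddCommGrpCat.{u}).obj D).property
  show toSheafify J Z ≫ (sheafifyLift J β _ ≫ ((constantSheaf J AddCommGrpCat.{u}).map g).hom) = γ
  rw [← Category.assoc, toSheafify_sheafifyLift]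
  ext U : 2
  apply AddCommGrpCat.hom_ext
  apply ulift_int_hom_ext
  show ((constantSheaf J AddCommGrpCat.{u}).map g).hom.app U (β.app U (ULift.up 1)) = c U
  rw [← hgb U]
  congr 1
  show (zmultiplesHom _ (b U)) (1 : ℤ) = b U
  simp

open Abelian in
theorem H1_injective [HasExt.{w} (Sheaf J AddCommGrpCat.{u})]
    {A B : Type u} [AddCommGroup A] [AddCommGroup B] (f : A →+ B) (hf : Function.Injective f) :
    Function.Injective
      (Sheaf.H.map ((constantSheaf J AddCommGrpCat.{u}).map (AddCommGrpCat.ofHom f)) 1) := by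
  rw [injective_iff_map_eq_zero]
  intro x hx
  let S : ShortComplex AddCommGrpCat.{u} :=
    ShortComplex.mk (AddCommGrpCat.ofHom f) (Limits.cokernel.π (AddCommGrpCat.ofHom f))
      (Limits.cokernel.condition _)
  have hS : S.ShortExact :=
    { exact := ShortComplex.exact_cokernel _
      mono_f := (AddCommGrpCat.mono_iff_injective _).2 hf
      epi_g := inferInstanceAs (Epi (Limits.cokernel.π (AddCommGrpCat.ofHom f))) }
  have hS' := shortExact_constantSheaf J S hS
  have hx' : x.comp (Ext.mk₀ (S.map (constantSheaf J AddCommGrpCat.{u})).f) (add_zero 1) = 0 := hx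
  obtain ⟨x₃, hx₃⟩ := Ext.covariant_sequence_exact₁ _ hS' x hx' (n₀ := 0) rfl
  obtain ⟨φ, rfl⟩ := (Ext.mk₀_bijective _ _).2 x₃
  have hsurj : Function.Surjective S.g := (AddCommGrpCat.epi_iff_surjective S.g).1 hS.epi_g
  obtain ⟨ψ, hψ⟩ := exists_lift J S.g hsurj φ
  let ψ' : (constantSheaf J AddCommGrpCat.{u}).obj (AddCommGrpCat.of (ULift.{u} ℤ)) ⟶
      (S.map (constantSheaf J AddCommGrpCat.{u})).X₂ := ψ
  have hψ' : ψ' ≫ (S.map (constantSheaf J AddCommGrpCat.{u})).g = φ := hψ
  rw [← hx₃, ← hψ', ← Ext.mk₀_comp_mk₀,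
    Ext.comp_assoc _ _ _ (add_zero 0) (zero_add 1) (by omega), hS'.comp_extClass, Ext.comp_zero]
  rfl

end Groth.Agent.Helper4.ConstSheafExact
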