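import Mathlib

/-!
# Filtrations of coprimary modules with rank-one torsion-free quotients
-/

set_option autoImplicit false

namespace Groth.Agent.Helper4.CoprimaryFilt

variable {A : Type*} [CommRing A] [IsNoetherianRing A] {M : Type*} [AddCommGroup M] [Module A M]

theorem mem_ass_quot {N : Submodule A M} {q : Ideal A} :
    q ∈ associatedPrimes A (M ⧸ N) ↔ q.IsPrime ∧ ∃ y : M, ∀ a, a ∈ q ↔ a • y ∈ N := by
  rw [AssociatedPrimes.mem_iff, isAssociatedPrime_iff]
  refine and_congr_right fun _ => ?_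
  constructor
  · rintro ⟨x, rfl⟩
    obtain ⟨y, rfl⟩ := Submodule.Quotient.mk_surjective N x
    refine ⟨y, fun a => ?_⟩
    rw [Submodule.mem_colon_singleton, Submodule.mem_bot, ← Submodule.Quotient.mk_smul,
      Submodule.Quotient.mk_eq_zero]
  · rintro ⟨y, hy⟩
    refine ⟨Submodule.Quotient.mk y, ?_⟩
    ext a
    rw [hy, Submodule.mem_colon_singleton, Submodule.mem_bot, ← Submodule.Quotient.mk_smul,
      Submodule.Quotient.mk_eq_zero]

theorem exists_pow_smul_mem [Module.Finite A M] {N : Submodule A M} {p : Ideal A}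
    (hN : N ≠ ⊤) (hass : associatedPrimes A (M ⧸ N) ⊆ {p}) {a : A} (ha : a ∈ p) :
    ∃ k : ℕ, ∀ y : M, a ^ k • y ∈ N := by
  have hI : Module.annihilator A (M ⧸ N) ≠ ⊤ := by
    intro h
    apply hN
    rw [eq_top_iff]
    intro y _
    have h1 : (1 : A) ∈ Module.annihilator A (M ⧸ N) := by rw [h]; trivial
    have h2 := Module.mem_annihilator.mp h1 (Submodule.Quotient.mk y)
    rwa [one_smul, Submodule.Quotient.mk_eq_zero] at h2
  have hmin : ∀ q ∈ (Module.annihilator A (M ⧸ N)).minimalPrimes, q = p := fun q hq =>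
    hass (Module.associatedPrimes.minimalPrimes_annihilator_subset_associatedPrimes A (M ⧸ N) hq)
  have hrad : (Module.annihilator A (M ⧸ N)).radical = p := by
    rw [← Ideal.sInf_minimalPrimes]
    obtain ⟨q, hq⟩ := Ideal.nonempty_minimalPrimes hI
    apply le_antisymm
    · exact (sInf_le hq).trans (hmin q hq).le
    · exact le_sInf (fun q' hq' => (hmin q' hq').ge)
  have hmem : a ∈ (Module.annihilator A (M ⧸ N)).radical := hrad ▸ ha
  obtain ⟨k, hk⟩ := hmem
  refine ⟨k, fun y => ?_⟩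
  have := Module.mem_annihilator.mp hk (Submodule.Quotient.mk y)
  rwa [← Submodule.Quotient.mk_smul, Submodule.Quotient.mk_eq_zero] at this

theorem mem_of_smul_mem {N : Submodule A M} {p : Ideal A}
    (hass : associatedPrimes A (M ⧸ N) ⊆ {p})
    {s : A} (hs : s ∉ p) {y : M} (hy : s • y ∈ N) : y ∈ N := by
  by_contra hyN
  have hne : (Submodule.Quotient.mk y : M ⧸ N) ≠ 0 := by
    rwa [Ne, Submodule.Quotient.mk_eq_zero]
  obtain ⟨P, hP, hle⟩ := exists_le_isAssociatedPrime_of_isNoetherianRing A _ hne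
  have hPp : P = p := hass hP
  apply hs
  rw [← hPp]
  apply hle
  rw [Submodule.mem_colon_singleton, Submodule.mem_bot, ← Submodule.Quotient.mk_smul,
    Submodule.Quotient.mk_eq_zero]
  exact hy

/-- the `p`-saturation of `A x + N` in `M` -/
def sat (N : Submodule A M) (p : Ideal A) [hp : p.IsPrime] (x : M) : Submodule A M where
  carrier := {y | ∃ s, s ∉ p ∧ ∃ a : A, s • y - a • x ∈ N}
  zero_mem' := ⟨1, (Ideal.ne_top_iff_one p).mp hp.ne_top, 0, by simp⟩
  add_mem' := by
    rintro y₁ y₂ ⟨s₁, hs₁, a₁, h₁⟩ ⟨s₂, hs₂, a₂, h₂⟩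
    refine ⟨s₁ * s₂, fun h => (hp.mem_or_mem h).elim hs₁ hs₂, s₂ * a₁ + s₁ * a₂, ?_⟩
    have : (s₁ * s₂) • (y₁ + y₂) - (s₂ * a₁ + s₁ * a₂) • x
        = s₂ • (s₁ • y₁ - a₁ • x) + s₁ • (s₂ • y₂ - a₂ • x) := by
      simp only [smul_add, smul_sub, add_smul, mul_smul]
      rw [smul_comm s₁ s₂ y₁]
      abel
    rw [this]
    exact N.add_mem (N.smul_mem _ h₁) (N.smul_mem _ h₂)
  smul_mem' := by
    rintro c y ⟨s, hs, a, h⟩
    refine ⟨s, hs, c * a, ?_⟩
    have : s • c • y - (c * a) • x = c • (s • y - a • x) := by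
      simp only [smul_sub, mul_smul]
      rw [smul_comm s c y]
    rw [this]
    exact N.smul_mem _ h

theorem mem_sat {N : Submodule A M} {p : Ideal A} [p.IsPrime] {x y : M} :
    y ∈ sat N p x ↔ ∃ s, s ∉ p ∧ ∃ a : A, s • y - a • x ∈ N := Iff.rfl

theorem exists_inj_congr (p : Ideal A) {P P' Q Q' : Submodule A M} (hP : P = P') (hQ : Q = Q')
    (h : ∃ g : (↥P ⧸ Submodule.comap P.subtype Q) →ₗ[A] (A ⧸ p), Function.Injective g) :
    ∃ g : (↥P' ⧸ Submodule.comap P'.subtype Q') →ₗ[A] (A ⧸ p), Function.Injective g := by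
  subst hP
  subst hQ
  exact h

/-- the uniform denominator: for `y` in the saturation, `S • y ∈ A x + N` -/
theorem exists_uniform [Module.Finite A M] (N : Submodule A M) (p : Ideal A) [hp : p.IsPrime]
    (x : M) : ∃ S, S ∉ p ∧ ∀ y ∈ sat N p x, ∃ a : A, S • y - a • x ∈ N := by
  classical
  haveI : IsNoetherian A M := isNoetherian_of_isNoetherianRing_of_finite A M
  obtain ⟨T, hT⟩ := IsNoetherian.noetherian (sat N p x)
  have hmem : ∀ t : T, ∃ s, s ∉ p ∧ ∃ a : A, s • (t : M) - a • x ∈ N := fun t => by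
    have : (t : M) ∈ sat N p x := by
      rw [← hT]
      exact Submodule.subset_span t.2
    exact this
  choose s hs a ha using hmem
  refine ⟨∏ t : T, s t, ?_, ?_⟩
  · intro h
    obtain ⟨t, _, ht⟩ := (Ideal.IsPrime.prod_mem_iff).mp h
    exact hs t ht
  · -- the set of `y` with the uniform property is a submodule containing `T`
    let N'' : Submodule A M :=
      { carrier := {y | ∃ b : A, (∏ t : T, s t) • y - b • x ∈ N}
        zero_mem' := ⟨0, by simp⟩
        add_mem' := by
          rintro y₁ y₂ ⟨b₁, h₁⟩ ⟨b₂, h₂⟩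
          refine ⟨b₁ + b₂, ?_⟩
          have : (∏ t : T, s t) • (y₁ + y₂) - (b₁ + b₂) • x
              = ((∏ t : T, s t) • y₁ - b₁ • x) + ((∏ t : T, s t) • y₂ - b₂ • x) := by
            simp only [smul_add, add_smul]
            abel
          rw [this]
          exact N.add_mem h₁ h₂
        smul_mem' := by
          rintro c y ⟨b, h⟩
          refine ⟨c * b, ?_⟩
          have : (∏ t : T, s t) • c • y - (c * b) • x = c • ((∏ t : T, s t) • y - b • x) := by
            simp only [smul_sub, mul_smul]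
            rw [smul_comm _ c y]
          rw [this]
          exact N.smul_mem _ h }
    have hTN : (T : Set M) ⊆ N'' := by
      intro t ht
      refine ⟨(∏ t' ∈ Finset.univ.erase (⟨t, ht⟩ : T), s t') * a ⟨t, ht⟩, ?_⟩
      have h1 : (∏ t' : T, s t') = (∏ t' ∈ Finset.univ.erase (⟨t, ht⟩ : T), s t') * s ⟨t, ht⟩ :=
        (Finset.prod_erase_mul _ _ (Finset.mem_univ _)).symm
      have : (∏ t' : T, s t') • t - ((∏ t' ∈ Finset.univ.erase (⟨t, ht⟩ : T), s t') * a ⟨t, ht⟩) • x
          = (∏ t' ∈ Finset.univ.erase (⟨t, ht⟩ : T), s t') • (s ⟨t, ht⟩ • t - a ⟨t, ht⟩ • x) := by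
        rw [h1]
        simp only [smul_sub, mul_smul]
      rw [this]
      exact N.smul_mem _ (ha ⟨t, ht⟩)
    intro y hy
    have : y ∈ N'' := by
      rw [← hT] at hy
      exact (Submodule.span_le.mpr hTN) hy
    exact this

theorem step [Module.Finite A M] {p : Ideal A} {N : Submodule A M} (hN : N ≠ ⊤)
    (hass : associatedPrimes A (M ⧸ N) ⊆ {p}) :
    ∃ N' : Submodule A M, N < N' ∧ associatedPrimes A (M ⧸ N') ⊆ {p} ∧
      ∃ g : (↥N' ⧸ Submodule.comap N'.subtype N) →ₗ[A] (A ⧸ p), Function.Injective g := by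
  haveI : Nontrivial (M ⧸ N) := Submodule.Quotient.nontrivial_iff.mpr hN
  obtain ⟨q, hq⟩ := associatedPrimes.nonempty A (M ⧸ N)
  have hqp : q = p := hass hq
  subst hqp
  obtain ⟨hp, x, hx⟩ := mem_ass_quot.mp hq
  haveI := hp
  have hxN : x ∉ N := by
    intro h
    apply hp.ne_top
    rw [Ideal.eq_top_iff_one, hx, one_smul]
    exact h
  have hNle : N ≤ sat N q x := by
    intro y hy
    refine ⟨1, (Ideal.ne_top_iff_one q).mp hp.ne_top, 0, ?_⟩
    simpa using hy
  have hxsat : x ∈ sat N q x := by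
    refine ⟨1, (Ideal.ne_top_iff_one q).mp hp.ne_top, 1, ?_⟩
    simp
  refine ⟨sat N q x, lt_of_le_of_ne hNle (fun h => hxN (h ▸ hxsat)), ?_, ?_⟩
  · -- associated primes of the quotient by the saturation
    intro q' hq'
    obtain ⟨hq'p, y, hy⟩ := mem_ass_quot.mp hq'
    rw [Set.mem_singleton_iff]
    apply le_antisymm
    · intro a ha
      by_contra hap
      obtain ⟨s, hs, b, hb⟩ := (hy a).mp ha
      have hysat : y ∈ sat N q x := by
        refine ⟨s * a, fun h => (hp.mem_or_mem h).elim hs hap, b, ?_⟩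
        rwa [mul_smul]
      apply hq'p.ne_top
      rw [Ideal.eq_top_iff_one, hy, one_smul]
      exact hysat
    · intro a ha
      obtain ⟨k, hk⟩ := exists_pow_smul_mem hN hass ha
      have h1 : a ^ k ∈ q' := by
        rw [hy]
        exact hNle (hk y)
      exact hq'p.mem_of_pow_mem k h1
  · -- the injection into `A ⧸ q`
    obtain ⟨S, hS, hSy⟩ := exists_uniform N q x
    let ψ : A →ₗ[A] M ⧸ N := LinearMap.toSpanSingleton A (M ⧸ N) (Submodule.Quotient.mk x)
    have hkerψ : LinearMap.ker ψ = q := by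
      ext a
      rw [LinearMap.mem_ker, hx]
      show a • (Submodule.Quotient.mk x : M ⧸ N) = 0 ↔ _
      rw [← Submodule.Quotient.mk_smul, Submodule.Quotient.mk_eq_zero]
    let μ : ↥(sat N q x) →ₗ[A] M ⧸ N :=
      (LinearMap.lsmul A (M ⧸ N) S) ∘ₗ N.mkQ ∘ₗ (sat N q x).subtype
    have hμ : ∀ y, μ y ∈ LinearMap.range ψ := by
      intro y
      obtain ⟨b, hb⟩ := hSy y.1 y.2
      refine ⟨b, ?_⟩
      show b • (Submodule.Quotient.mk x : M ⧸ N) = S • (Submodule.Quotient.mk (y : M) : M ⧸ N)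
      rw [← Submodule.Quotient.mk_smul, ← Submodule.Quotient.mk_smul, eq_comm,
        Submodule.Quotient.eq]
      exact hb
    let g₀ : ↥(sat N q x) →ₗ[A] A ⧸ LinearMap.ker ψ :=
      (ψ.quotKerEquivRange).symm.toLinearMap ∘ₗ (μ.codRestrict (LinearMap.range ψ) hμ)
    have hker : Submodule.comap (sat N q x).subtype N = LinearMap.ker g₀ := by
      ext y
      rw [LinearMap.mem_ker, Submodule.mem_comap]
      show _ ↔ (ψ.quotKerEquivRange).symm (μ.codRestrict (LinearMap.range ψ) hμ y) = 0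
      rw [LinearEquiv.map_eq_zero_iff, ← LinearMap.mem_ker, LinearMap.ker_codRestrict,
        LinearMap.mem_ker]
      show _ ↔ S • (Submodule.Quotient.mk (y : M) : M ⧸ N) = 0
      rw [← Submodule.Quotient.mk_smul, Submodule.Quotient.mk_eq_zero]
      constructor
      · intro h
        exact N.smul_mem _ h
      · intro h
        exact mem_of_smul_mem hass hS h
    refine ⟨(Submodule.quotEquivOfEq _ _ hkerψ).toLinearMap ∘ₗ
      (Submodule.liftQ _ g₀ (le_of_eq hker)), ?_⟩
    rw [LinearMap.coe_comp]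
    refine Function.Injective.comp (LinearEquiv.injective _) ?_
    exact LinearMap.ker_eq_bot.mp (Submodule.ker_liftQ_eq_bot' _ _ hker)

/-- chain predicate -/
def HasChain (p : Ideal A) (N : Submodule A M) : Prop :=
  ∃ (m : ℕ) (F : Fin (m + 1) → Submodule A M), Antitone F ∧ F 0 = ⊤ ∧ F (Fin.last m) = N ∧
    ∀ i : Fin m, ∃ g : (↥(F i.castSucc) ⧸ Submodule.comap (F i.castSucc).subtype (F i.succ))
      →ₗ[A] (A ⧸ p), Function.Injective g

theorem HasChain.snoc {p : Ideal A} {N N' : Submodule A M} (h : HasChain p N') (hle : N ≤ N')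
    (hg : ∃ g : (↥N' ⧸ Submodule.comap N'.subtype N) →ₗ[A] (A ⧸ p), Function.Injective g) :
    HasChain p N := by
  obtain ⟨m, F, hF, h0, hlast, hq⟩ := h
  refine ⟨m + 1, Fin.snoc (α := fun _ => Submodule A M) F N, ?_, ?_, ?_, ?_⟩
  · rw [Fin.antitone_iff_succ_le]
    intro i
    refine Fin.lastCases ?_ (fun j => ?_) i
    · rw [Fin.succ_last, Fin.snoc_last, Fin.snoc_castSucc, hlast]
      exact hle
    · rw [Fin.succ_castSucc, Fin.snoc_castSucc, Fin.snoc_castSucc]
      exact Fin.antitone_iff_succ_le.mp hF j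
  · rw [← Fin.castSucc_zero, Fin.snoc_castSucc]
    exact h0
  · exact Fin.snoc_last _ _
  · intro i
    refine Fin.lastCases ?_ (fun j => ?_) i
    · refine exists_inj_congr p ?_ ?_ hg
      · rw [Fin.snoc_castSucc, hlast]
      · rw [Fin.succ_last, Fin.snoc_last]
    · refine exists_inj_congr p ?_ ?_ (hq j)
      · rw [Fin.snoc_castSucc]
      · rw [Fin.succ_castSucc, Fin.snoc_castSucc]

theorem hasChain_of_ass [Module.Finite A M] (p : Ideal A) :
    ∀ N : Submodule A M, associatedPrimes A (M ⧸ N) ⊆ {p} → HasChain p N := by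
  haveI : IsNoetherian A M := isNoetherian_of_isNoetherianRing_of_finite A M
  intro N
  induction N using WellFoundedGT.induction with
  | ind N ih =>
    intro hass
    by_cases hN : N = ⊤
    · subst hN
      exact ⟨0, fun _ => ⊤, antitone_const, rfl, rfl, fun i => i.elim0⟩
    · obtain ⟨N', hlt, hass', hg⟩ := step hN hass
      exact (ih N' hlt hass').snoc hlt.le hg

end Groth.Agent.Helper4.CoprimaryFilt
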