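import Mathlib

/-!
# The conormal sequence `I/I² → J/J² → C ⊗_B Ω_{B/A}` for `A → B → C` with `A → C` surjective
-/

set_option autoImplicit false

namespace Groth.Agent.Helper4.CotSeq

open TensorProduct

universe u

variable {A B C : Type u} [CommRing A] [CommRing B] [CommRing C] [Algebra A B] [Algebra B C]
  [Algebra A C] [IsScalarTower A B C]

/-- Elements of `J` kill `J/J²`. -/
theorem smul_cotangent_eq_zero (J : Ideal B) (j : B) (hj : j ∈ J) (y : J.Cotangent) :
    j • y = 0 := by
  obtain ⟨x, rfl⟩ := J.toCotangent_surjective y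
  rw [← map_smul, Ideal.toCotangent_eq_zero]
  simp only [SetLike.val_smul, smul_eq_mul, sq]
  exact Ideal.mul_mem_mul hj x.2

variable (A B C)

/-- Main step: if `1 ⊗ dj = 0` in `C ⊗_B Ω_{B/A}` then the class of `j` in `J/J²` comes from
`I/I²`. -/
theorem mem_range_of_kerCotangentToTensor_eq_zero
    (hAC : Function.Surjective (algebraMap A C))
    (h : RingHom.ker (algebraMap A C) ≤ (RingHom.ker (algebraMap B C)).comap (Algebra.ofId A B))
    (y : (RingHom.ker (algebraMap B C)).Cotangent)
    (hy : KaehlerDifferential.kerCotangentToTensor A B C y = 0) :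
    y ∈ Set.range (Ideal.mapCotangent (RingHom.ker (algebraMap A C))
      (RingHom.ker (algebraMap B C)) (Algebra.ofId A B) h) := by
  classical
  revert y
  set I := RingHom.ker (algebraMap A C) with hI
  set J := RingHom.ker (algebraMap B C) with hJ
  set φ := Ideal.mapCotangent I J (Algebra.ofId A B) h with hφ
  have hBC : Function.Surjective (algebraMap B C) := by
    intro c
    obtain ⟨a, rfl⟩ := hAC c
    exact ⟨algebraMap A B a, (IsScalarTower.algebraMap_apply A B C a).symm⟩
  -- decomposition B = A + J
  have hdec : ∀ b : B, ∃ a : A, b - algebraMap A B a ∈ J := by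
    intro b
    obtain ⟨a, ha⟩ := hAC (algebraMap B C b)
    refine ⟨a, ?_⟩
    rw [hJ, RingHom.mem_ker, map_sub, ← IsScalarTower.algebraMap_apply, ha, sub_self]
  -- the B-span of the range is the range
  let N : Submodule B J.Cotangent := Submodule.span B (Set.range φ)
  have hN : ∀ z ∈ N, z ∈ Set.range φ := by
    intro z hz
    induction hz using Submodule.span_induction with
    | mem z hz => exact hz
    | zero => exact ⟨0, map_zero _⟩
    | add z w _ _ hz hw =>
      obtain ⟨z', rfl⟩ := hz
      obtain ⟨w', rfl⟩ := hw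
      exact ⟨z' + w', map_add _ _ _⟩
    | smul b z _ hz =>
      obtain ⟨z', rfl⟩ := hz
      obtain ⟨a, ha⟩ := hdec b
      refine ⟨a • z', ?_⟩
      have : b • φ z' = (b - algebraMap A B a) • φ z' + algebraMap A B a • φ z' := by
        rw [← add_smul, sub_add_cancel]
      rw [this, smul_cotangent_eq_zero J _ ha, zero_add, map_smul, algebraMap_smul]
  -- J kills the quotient
  have hkill : ∀ (j : B), j ∈ J → ∀ q : J.Cotangent ⧸ N, j • q = 0 := by
    intro j hj q
    obtain ⟨q, rfl⟩ := N.mkQ_surjective q
    rw [← map_smul, smul_cotangent_eq_zero J j hj, map_zero]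
  -- the function d
  have key : ∀ b : B, ∃ q : J.Cotangent ⧸ N, ∀ (a : A) (j : J), b = algebraMap A B a + j →
      q = N.mkQ (J.toCotangent j) := by
    intro b
    obtain ⟨a₀, ha₀⟩ := hdec b
    refine ⟨N.mkQ (J.toCotangent ⟨_, ha₀⟩), ?_⟩
    intro a j hb
    rw [← sub_eq_zero, ← map_sub, ← map_sub, Submodule.mkQ_apply, Submodule.Quotient.mk_eq_zero]
    have hmem : a - a₀ ∈ I := by
      have h1 : algebraMap A B (a - a₀) = (b - algebraMap A B a₀) - j := by
        rw [hb, map_sub]; ring
      rw [hI, RingHom.mem_ker, IsScalarTower.algebraMap_apply A B C, h1, map_sub]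
      have h2 : algebraMap B C (b - algebraMap A B a₀) = 0 := ha₀
      have h3 : algebraMap B C j = 0 := j.2
      rw [h2, h3, sub_zero]
    apply Submodule.subset_span
    refine ⟨I.toCotangent ⟨a - a₀, hmem⟩, ?_⟩
    rw [hφ, Ideal.mapCotangent_toCotangent]
    congr 1
    ext
    simp only [Algebra.ofId_apply, AddSubgroupClass.coe_sub]
    rw [hb, map_sub]; ring
  choose d hd using key
  have hd' : ∀ (a : A) (j : J), d (algebraMap A B a + j) = N.mkQ (J.toCotangent j) :=
    fun a j => hd _ a j rfl
  have hrep : ∀ b : B, ∃ (a : A) (j : J), b = algebraMap A B a + j := by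
    intro b
    obtain ⟨a, ha⟩ := hdec b
    exact ⟨a, ⟨_, ha⟩, by simp⟩
  have hsmulq : ∀ (a : A) (j : J) (q : J.Cotangent ⧸ N),
      (algebraMap A B a + (j : B)) • q = a • q := by
    intro a j q
    rw [add_smul, hkill _ j.2, add_zero, algebraMap_smul]
  let dl : B →ₗ[A] J.Cotangent ⧸ N :=
    { toFun := d
      map_add' := by
        intro b b'
        obtain ⟨a, j, rfl⟩ := hrep b
        obtain ⟨a', j', rfl⟩ := hrep b'
        have : algebraMap A B a + (j : B) + (algebraMap A B a' + (j' : B)) =
            algebraMap A B (a + a') + ((j + j' : J) : B) := by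
          rw [map_add]; push_cast; ring
        rw [this, hd', hd', hd', map_add, map_add]
      map_smul' := by
        intro r b
        obtain ⟨a, j, rfl⟩ := hrep b
        have : r • (algebraMap A B a + (j : B)) = algebraMap A B (r • a) + ((r • j : J) : B) := by
          rw [smul_add, Algebra.smul_def r a, map_mul]
          simp [Algebra.smul_def]
        rw [this, hd', hd', RingHom.id_apply, LinearMap.map_smul_of_tower,
          LinearMap.map_smul_of_tower] }
  let D : Derivation A B (J.Cotangent ⧸ N) := Derivation.mk' dl (by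
    intro b b'
    obtain ⟨a, j, rfl⟩ := hrep b
    obtain ⟨a', j', rfl⟩ := hrep b'
    let jj : J := ⟨(j : B) * (j' : B), J.mul_mem_left _ j'.2⟩
    have : (algebraMap A B a + (j : B)) * (algebraMap A B a' + (j' : B)) =
        algebraMap A B (a * a') + ((a • j' + a' • j + jj : J) : B) := by
      rw [map_mul]
      simp only [Submodule.coe_add, Submodule.coe_smul_of_tower, Algebra.smul_def, jj]
      ring
    show d _ = _ • d _ + _ • d _
    rw [this, hd', hd', hd', hsmulq, hsmulq, map_add, map_add, map_add, map_add,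
      LinearMap.map_smul_of_tower, LinearMap.map_smul_of_tower, LinearMap.map_smul_of_tower,
      LinearMap.map_smul_of_tower]
    have hjj : J.toCotangent jj = 0 := by
      rw [Ideal.toCotangent_eq_zero]
      simp only [jj, sq]
      exact Ideal.mul_mem_mul j.2 j'.2
    rw [hjj, map_zero, add_zero])
  have hD : ∀ j : J, D j = N.mkQ (J.toCotangent j) := by
    intro j
    have := hd' 0 j
    rw [map_zero, zero_add] at this
    exact this
  -- extend to C ⊗ Ω
  let μ : B →ₗ[B] (Ω[B⁄A] →ₗ[B] (J.Cotangent ⧸ N)) :=
    LinearMap.toSpanSingleton B _ D.liftKaehlerDifferential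
  have hμ : LinearMap.ker (Algebra.linearMap B C) ≤ LinearMap.ker μ := by
    intro j hj
    have hj' : j ∈ J := hj
    rw [LinearMap.mem_ker]
    ext ω
    simp only [μ, LinearMap.toSpanSingleton_apply, LinearMap.smul_apply, LinearMap.zero_apply]
    exact hkill j hj' _
  let e := LinearMap.quotKerEquivOfSurjective (Algebra.linearMap B C) hBC
  let lam : C →ₗ[B] (Ω[B⁄A] →ₗ[B] (J.Cotangent ⧸ N)) :=
    (Submodule.liftQ _ μ hμ) ∘ₗ e.symm.toLinearMap
  have hlam : lam 1 = D.liftKaehlerDifferential := by
    have h1 : e.symm 1 = Submodule.Quotient.mk 1 := by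
      rw [LinearEquiv.symm_apply_eq, LinearMap.quotKerEquivOfSurjective_apply_mk]
      simp
    simp only [lam, LinearMap.comp_apply, LinearEquiv.coe_coe, h1, Submodule.liftQ_apply, μ,
      LinearMap.toSpanSingleton_apply, one_smul]
  let Lam : C ⊗[B] Ω[B⁄A] →ₗ[B] (J.Cotangent ⧸ N) := TensorProduct.lift lam
  intro y hy
  obtain ⟨j, rfl⟩ := J.toCotangent_surjective y
  rw [KaehlerDifferential.kerCotangentToTensor_toCotangent] at hy
  have h0 := congrArg Lam hy
  rw [map_zero, TensorProduct.lift.tmul, hlam, Derivation.liftKaehlerDifferential_comp_D, hD,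
    Submodule.mkQ_apply, Submodule.Quotient.mk_eq_zero] at h0
  exact hN _ h0

/-- Exactness of `I/I² → J/J² → C ⊗_B Ω_{B/A}`. -/
theorem exact_mapCotangent_kerCotangentToTensor
    (hAC : Function.Surjective (algebraMap A C))
    (h : RingHom.ker (algebraMap A C) ≤ (RingHom.ker (algebraMap B C)).comap (Algebra.ofId A B)) :
    Function.Exact
      (Ideal.mapCotangent (RingHom.ker (algebraMap A C)) (RingHom.ker (algebraMap B C))
        (Algebra.ofId A B) h)
      (KaehlerDifferential.kerCotangentToTensor A B C) := by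
  intro y
  constructor
  · exact mem_range_of_kerCotangentToTensor_eq_zero A B C hAC h y
  · rintro ⟨x, rfl⟩
    obtain ⟨x, rfl⟩ := Ideal.toCotangent_surjective _ x
    rw [Ideal.mapCotangent_toCotangent, KaehlerDifferential.kerCotangentToTensor_toCotangent]
    simp

end Groth.Agent.Helper4.CotSeq
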