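import Mathlib

set_option autoImplicit false
universe u v w

namespace Groth.Agent.Helper4.CoxeterBasis

open Module

/-- A family which is unitriangular with respect to a basis is again a basis. -/
theorem unitriangular_basis {R W : Type*} [CommRing R] [AddCommGroup W] [Module R W] {n : ℕ}
    (B : Basis (Fin n) R W) (θ : Fin n → W)
    (h : ∀ i, θ i - B i ∈ Submodule.span R (B '' {l | i < l})) :
    LinearIndependent R θ ∧ Submodule.span R (Set.range θ) = ⊤ := by
  rw [B.is_basis_iff_det, Basis.det_apply]
  have hrepr : ∀ i k, ¬ (i < k) → B.repr (θ i - B i) k = 0 := by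
    intro i k hik
    have hs := B.repr_support_subset_of_mem_span _ (h i)
    by_contra hne
    exact hik (hs (Finsupp.mem_support_iff.2 hne))
  have hentry : ∀ k i, B.toMatrix θ k i = (if k = i then 1 else 0) + B.repr (θ i - B i) k := by
    intro k i
    rw [Basis.toMatrix_apply]
    have : θ i = B i + (θ i - B i) := by abel
    conv_lhs => rw [this]
    rw [map_add, Finsupp.add_apply, Basis.repr_self, Finsupp.single_apply]
    congr 1
    simp [eq_comm]
  have hlow : (B.toMatrix θ).IsLowerTriangular := by
    intro k i hki
    have hki' : k < i := hki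
    rw [hentry, if_neg hki'.ne, zero_add]
    exact hrepr i k (not_lt.2 hki'.le)
  rw [Matrix.det_of_isLowerTriangular _ hlow]
  have : ∀ i, B.toMatrix θ i i = 1 := by
    intro i
    rw [hentry, if_pos rfl, hrepr i i (lt_irrefl i), add_zero]
  simp [this]

end Groth.Agent.Helper4.CoxeterBasis
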