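import Mathlib
import Groth.Prelude.Def_CohDer
import Groth.Agent.Helper1.Compact
import Groth.Agent.Helper1.DCoprod
import Groth.Agent.Helper9.CP3
import Groth.Agent.Helper9.LC2
import Groth.Agent.Helper4.CptFam
import Groth.Agent.Helper4.CptSingle

/-! Dévissage: if `Ext^n(G, -)` commutes with coproducts for all `n`, then maps from `G[0]` to a
coproduct of uniformly bounded below objects are finitely supported. -/

set_option autoImplicit false
set_option linter.unusedSectionVars false

namespace Groth.Agent.Helper4.CptInd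
open CategoryTheory Limits ZeroObject Groth.Agent.Helper1.Compact Groth.Agent.Helper4.CptFam
open DerivedCategory DerivedCategory.TStructure Pretriangulated

universe w' w v u

variable {A : Type u} [Category.{v} A] [Abelian A] [HasDerivedCategory.{w'} A]
  {J : Type w'} [HasColimitsOfShape (Discrete J) A] [HasExactColimitsOfShape (Discrete J) A]

/-- a coproduct of objects of `D^{≥ a}` is in `D^{≥ a}` -/
lemma isGE_sigma (M : J → DerivedCategory A) [HasCoproduct M] (a : ℤ) (hM : ∀ j, (M j).IsGE a) :
    (∐ M).IsGE a := by
  rw [DerivedCategory.isGE_iff]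
  intro i hi
  obtain ⟨hc⟩ := Groth.Agent.Helper9.CP3.nonempty_isColimit_homology_sigma M i
  exact CptSingle.isZero_of_isColimit_of_isZero _ hc (fun j => isZero_of_isGE (M j) a i hi)

/-- a coproduct of objects of `D^{≤ a}` is in `D^{≤ a}` -/
lemma isLE_sigma (M : J → DerivedCategory A) [HasCoproduct M] (a : ℤ) (hM : ∀ j, (M j).IsLE a) :
    (∐ M).IsLE a := by
  rw [DerivedCategory.isLE_iff]
  intro i hi
  obtain ⟨hc⟩ := Groth.Agent.Helper9.CP3.nonempty_isColimit_homology_sigma M i
  exact CptSingle.isZero_of_isColimit_of_isZero _ hc (fun j => isZero_of_isLE (M j) a i hi)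

variable [HasExt.{w} A] [HasColimitsOfShape (Discrete J) (DerivedCategory A)]

theorem allFSupp_aux (G : A)
    (hG : ∀ (n : ℕ) (F : J → A), PreservesColimit (Discrete.functor F) (Abelian.extFunctorObj G n)) :
    ∀ (n : ℕ) (a : ℤ) (_ : a + n = 1) (M : J → DerivedCategory A) (_ : ∀ j, (M j).IsGE a),
      AllFSupp ((singleFunctor A 0).obj G) M := by
  intro n
  induction n with
  | zero =>
    intro a ha M hM
    have ha' : a = 1 := by simpa using ha
    subst ha'
    haveI := isGE_sigma M 1 hM
    exact AllFSupp.of_hom_eq_zero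
      (fun φ => t.zero_of_isLE_of_isGE φ 0 1 (by lia) inferInstance inferInstance)
  | succ n ih =>
    intro a ha M hM
    have han : (n : ℤ) + a = 0 := by push_cast at ha; lia
    let T : J → Triangle (DerivedCategory A) := fun j => (t.triangleLTGE (a + 1)).obj (M j)
    have hT : ∀ j, T j ∈ distTriang _ := fun j => t.triangleLTGE_distinguished (a + 1) (M j)
    have h3 : AllFSupp ((singleFunctor A 0).obj G) (fun j => (T j).obj₃) :=
      ih (a + 1) (by push_cast at ha; lia) _ (fun j => by
        change ((t.truncGE (a + 1)).obj (M j)).IsGE (a + 1)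
        infer_instance)
    have h1 : AllFSupp ((singleFunctor A 0).obj G) (fun j => (T j).obj₁) := by
      have hex : ∀ j, ∃ F : A,
          Nonempty (((singleFunctor A 0).obj F)⟦(n : ℤ)⟧ ≅ (T j).obj₁) := by
        intro j
        haveI := hM j
        haveI : ((t.truncLT (a + 1)).obj (M j)).IsLE a := inferInstance
        haveI : ((t.truncLT (a + 1)).obj (M j)).IsGE a := inferInstance
        obtain ⟨F, ⟨e⟩, _⟩ :=
          Groth.Agent.Helper9.LC2.exists_iso_single ((t.truncLT (a + 1)).obj (M j)) a
        exact ⟨F, ⟨Groth.Agent.Helper9.LC3.wShift F (n : ℤ) a 0 han ≪≫ e.symm⟩⟩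
      choose F e using hex
      exact (CptSingle.allFSupp_single G n F (hG n F)).of_iso (fun j => (e j).some)
    exact AllFSupp.of_triangle T hT h1 h3

/-- **Dévissage**: if every `Ext^n(G, -)` commutes with `J`-indexed coproducts then every map from
`G[0]` to a coproduct of a uniformly bounded below `J`-indexed family is finitely supported. -/
theorem allFSupp_of_isGE (G : A)
    (hG : ∀ (n : ℕ) (F : J → A), PreservesColimit (Discrete.functor F) (Abelian.extFunctorObj G n))
    (M : J → DerivedCategory A) (a : ℤ) (hM : ∀ j, (M j).IsGE a) :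
    AllFSupp ((singleFunctor A 0).obj G) M := by
  refine allFSupp_aux G hG (1 - a).toNat (1 - ((1 - a).toNat : ℤ)) (by lia) M (fun j => ?_)
  haveI := hM j
  exact t.isGE_of_ge (M j) _ a (by lia)

end Groth.Agent.Helper4.CptInd
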