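import Mathlib
import Groth.Agent.Helper9.SpCoh
import Groth.Agent.Helper9.SpHyper

/-! Classes of cocycles `A ⟶ Iⁿ` in `Hom_D(A[0], I⟦n⟧)`, for `I` K-injective. -/

set_option autoImplicit false
universe w v u

open CategoryTheory Limits CochainComplex HomComplex

namespace Groth.Agent.Helper4.HDUcls

variable {ℬ : Type u} [Category.{v} ℬ] [Abelian ℬ] [HasDerivedCategory.{w} ℬ]
  (A : ℬ) (I : CochainComplex ℬ ℤ) (n : ℤ)

/-- the chain map `A[0] ⟶ I⟦n⟧` of a cocycle -/
noncomputable def chain (f : A ⟶ I.X n) (hf : f ≫ I.d n (n + 1) = 0) :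
    (CochainComplex.singleFunctor ℬ 0).obj A ⟶ I⟦n⟧ :=
  Cocycle.equivHomShift.symm (Cocycle.fromSingleMk f (zero_add n) (n + 1) rfl hf)

/-- the class of a cocycle in `Hom_D(A[0], I⟦n⟧)` -/
noncomputable def cls (f : A ⟶ I.X n) (hf : f ≫ I.d n (n + 1) = 0) :
    (DerivedCategory.singleFunctor ℬ 0).obj A ⟶ (DerivedCategory.Q.obj I)⟦n⟧ :=
  (DerivedCategory.singleFunctorIsoCompQ ℬ 0).hom.app A ≫ DerivedCategory.Q.map (chain A I n f hf) ≫
    (DerivedCategory.Q.commShiftIso n).hom.app I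

variable {A I n}

lemma cls_eq [I.IsKInjective] (f : A ⟶ I.X n) (hf : f ≫ I.d n (n + 1) = 0) :
    cls A I n f hf = (DerivedCategory.singleFunctorIsoCompQ ℬ 0).hom.app A ≫
      Groth.Agent.Helper9.SpHyper.equivOfIsKInjective _ I n
        (Groth.Agent.Helper9.SpCoh.toClass A I n ⟨f, hf⟩) := by
  unfold cls
  congr 1
  unfold Groth.Agent.Helper9.SpHyper.equivOfIsKInjective
  simp only [AddEquiv.trans_apply]
  change _ = ((((DerivedCategory.quotientCompQhIso ℬ).symm.app _).hom ≫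
    DerivedCategory.Qh.map (CohomologyClass.toHom (CohomologyClass.mk
      (Cocycle.fromSingleMk f (zero_add n) (n + 1) rfl hf)))) ≫
    ((DerivedCategory.quotientCompQhIso ℬ).app _).hom) ≫ ((DerivedCategory.Q.commShiftIso n).app I).hom
  rw [CohomologyClass.toHom_mk]
  have h := (DerivedCategory.quotientCompQhIso ℬ).hom.naturality (chain A I n f hf)
  dsimp at h ⊢
  congr 1
  refine Eq.trans ?_ (Category.assoc _ _ _).symm
  refine Eq.trans ?_ (congrArg (fun t => (DerivedCategory.quotientCompQhIso ℬ).inv.app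
    ((CochainComplex.singleFunctor ℬ 0).obj A) ≫ t) h.symm)
  exact (Iso.inv_hom_id_app_assoc (DerivedCategory.quotientCompQhIso ℬ) _ _).symm

theorem cls_surjective [I.IsKInjective]
    (y : (DerivedCategory.singleFunctor ℬ 0).obj A ⟶ (DerivedCategory.Q.obj I)⟦n⟧) :
    ∃ (f : A ⟶ I.X n) (hf : f ≫ I.d n (n + 1) = 0), cls A I n f hf = y := by
  obtain ⟨c, hc⟩ := (Groth.Agent.Helper9.SpHyper.equivOfIsKInjective
    ((CochainComplex.singleFunctor ℬ 0).obj A) I n).surjective
    ((DerivedCategory.singleFunctorIsoCompQ ℬ 0).inv.app A ≫ y)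
  obtain ⟨⟨f, hf⟩, rfl⟩ := Groth.Agent.Helper9.SpCoh.toClass_surjective A I n c
  have hf' : f ≫ I.d n (n + 1) = 0 := hf
  refine ⟨f, hf', ?_⟩
  rw [cls_eq f hf']
  exact (congrArg (fun t => (DerivedCategory.singleFunctorIsoCompQ ℬ 0).hom.app A ≫ t) hc).trans
    (Iso.hom_inv_id_app_assoc _ _ _)

theorem cls_eq_zero_iff [I.IsKInjective] (f : A ⟶ I.X n) (hf : f ≫ I.d n (n + 1) = 0) :
    cls A I n f hf = 0 ↔ ∃ g : A ⟶ I.X (n - 1), g ≫ I.d (n - 1) n = f := by
  rw [cls_eq, ← Groth.Agent.Helper9.SpCoh.toClass_eq_zero_iff A I n ⟨f, hf⟩]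
  constructor
  · intro h
    have h2 : Groth.Agent.Helper9.SpHyper.equivOfIsKInjective
        ((CochainComplex.singleFunctor ℬ 0).obj A) I n
        (Groth.Agent.Helper9.SpCoh.toClass A I n ⟨f, hf⟩) = 0 := by
      have := congrArg (fun t => (DerivedCategory.singleFunctorIsoCompQ ℬ 0).inv.app A ≫ t) h
      simpa using this
    exact (AddEquiv.map_eq_zero_iff _).1 h2
  · intro h
    rw [h, map_zero, comp_zero]

lemma chain_add (f g : A ⟶ I.X n) (hf : f ≫ I.d n (n + 1) = 0) (hg : g ≫ I.d n (n + 1) = 0) :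
    chain A I n (f + g) (by rw [Preadditive.add_comp, hf, hg, add_zero]) =
      chain A I n f hf + chain A I n g hg := by
  unfold chain
  rw [Cocycle.fromSingleMk_add _ _ _ _ _ hf hg, map_add]

theorem cls_add (f g : A ⟶ I.X n) (hf : f ≫ I.d n (n + 1) = 0) (hg : g ≫ I.d n (n + 1) = 0) :
    cls A I n (f + g) (by rw [Preadditive.add_comp, hf, hg, add_zero]) =
      cls A I n f hf + cls A I n g hg := by
  unfold cls
  rw [chain_add f g hf hg, Functor.map_add, Preadditive.add_comp, Preadditive.comp_add]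

lemma chain_precomp {A' : ℬ} (a : A' ⟶ A) (f : A ⟶ I.X n) (hf : f ≫ I.d n (n + 1) = 0) :
    chain A' I n (a ≫ f) (by rw [Category.assoc, hf, comp_zero]) =
      (CochainComplex.singleFunctor ℬ 0).map a ≫ chain A I n f hf := by
  unfold chain
  rw [Cocycle.fromSingleMk_precomp a f (zero_add n) (n + 1) rfl hf,
    Cocycle.equivHomShift_symm_precomp]

theorem cls_precomp {A' : ℬ} (a : A' ⟶ A) (f : A ⟶ I.X n) (hf : f ≫ I.d n (n + 1) = 0) :
    cls A' I n (a ≫ f) (by rw [Category.assoc, hf, comp_zero]) =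
      (DerivedCategory.singleFunctor ℬ 0).map a ≫ cls A I n f hf := by
  unfold cls
  rw [chain_precomp a f hf, Functor.map_comp]
  have h := (DerivedCategory.singleFunctorIsoCompQ ℬ 0).hom.naturality a
  dsimp at h
  simp only [Category.assoc]
  rw [← Category.assoc, ← h, Category.assoc]

lemma chain_postcomp {I' : CochainComplex ℬ ℤ} (α : I ⟶ I') (f : A ⟶ I.X n)
    (hf : f ≫ I.d n (n + 1) = 0) :
    chain A I' n (f ≫ α.f n) (by rw [Category.assoc, α.comm, ← Category.assoc, hf, zero_comp]) =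
      chain A I n f hf ≫ α⟦n⟧' := by
  unfold chain
  rw [Cocycle.fromSingleMk_postcomp f (zero_add n) (n + 1) rfl hf α,
    Cocycle.equivHomShift_symm_postcomp]

theorem cls_postcomp {I' : CochainComplex ℬ ℤ} (α : I ⟶ I') (f : A ⟶ I.X n)
    (hf : f ≫ I.d n (n + 1) = 0) :
    cls A I' n (f ≫ α.f n) (by rw [Category.assoc, α.comm, ← Category.assoc, hf, zero_comp]) =
      cls A I n f hf ≫ (DerivedCategory.Q.map α)⟦n⟧' := by
  unfold cls
  rw [chain_postcomp α f hf, Functor.map_comp]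
  have h := (DerivedCategory.Q.commShiftIso n).hom.naturality α
  dsimp at h
  simp only [Category.assoc]
  rw [h]

end Groth.Agent.Helper4.HDUcls
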