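import Mathlib
import Groth.Agent.Helper4.HDUcls
import Groth.Agent.Helper4.KInjRes

/-! If `Ext^p(G, -) = 0` for `p > d` then `Hom_D(G[0], N) = 0` for `N ∈ D^{≤ -d-1}` (no boundedness
below needed): via a K-injective resolution with injective terms and dimension shifting. -/

set_option autoImplicit false
set_option linter.unusedSectionVars false

namespace Groth.Agent.Helper4.CptVanish
open CategoryTheory Limits ZeroObject Abelian
open DerivedCategory

universe w' w v u

variable {A : Type u} [Category.{v} A] [Abelian A]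

/-- the short complex `Z^i ⟶ K^i ⟶ Z^j` -/
noncomputable def cyclesSC (K : CochainComplex A ℤ) (i j : ℤ) : ShortComplex A :=
  ShortComplex.mk (K.iCycles i) (K.toCycles i j) (by
    rw [← cancel_mono (K.iCycles j), Category.assoc, K.toCycles_i, K.iCycles_d, zero_comp])

lemma cyclesSC_shortExact (K : CochainComplex A ℤ) (i j : ℤ) (hij : i + 1 = j)
    (hj : K.ExactAt j) : (cyclesSC K i j).ShortExact := by
  have hex : (cyclesSC K i j).Exact :=
    ShortComplex.exact_of_f_is_kernel _ (isKernelOfComp (K.iCycles j) (K.d i j)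
      (K.cyclesIsKernel i j (by simp [hij])) (cyclesSC K i j).zero (K.toCycles_i i j))
  haveI : Mono (cyclesSC K i j).f := by dsimp [cyclesSC]; infer_instance
  haveI : Epi (cyclesSC K i j).g := by
    dsimp [cyclesSC]
    exact Preadditive.epi_of_isZero_cokernel' _ (K.homologyIsCokernel i j (by simp [← hij]))
      ((HomologicalComplex.exactAt_iff_isZero_homology K j).1 hj)
  exact ShortComplex.ShortExact.mk hex

variable [HasExt.{w} A]

/-- dimension shifting along the cycles of a complex of injectives -/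
lemma ext_cycles_eq_zero (G : A) (d : ℕ)
    (hG : ∀ (F : A) (p : ℕ), d < p → ∀ x : Ext G F p, x = 0)
    (I : CochainComplex A ℤ) (hI : ∀ n, Injective (I.X n))
    (hex : ∀ j : ℤ, -(d : ℤ) ≤ j → I.ExactAt j) :
    ∀ (m k : ℕ) (j : ℤ), k + m = d + 1 → j + k = 0 → 1 ≤ k →
      ∀ x : Ext G (I.cycles j) k, x = 0 := by
  intro m
  induction m with
  | zero =>
    intro k j hk _ _ x
    exact hG _ k (by lia) x
  | succ m ih =>
    intro k j hk hj hk1 x
    have hS := cyclesSC_shortExact I (j - 1) j (by lia) (hex j (by lia))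
    have h1 : x.comp hS.extClass rfl = 0 := ih (k + 1) (j - 1) (by lia) (by push_cast; lia)
      (by lia) _
    obtain ⟨x₂, hx₂⟩ := Ext.covariant_sequence_exact₃ G hS x rfl h1
    haveI : Injective (cyclesSC I (j - 1) j).X₂ := hI _
    obtain ⟨k', rfl⟩ : ∃ k', k = k' + 1 := ⟨k - 1, by lia⟩
    have hx0 : x₂ = 0 := Ext.eq_zero_of_injective x₂
    rw [← hx₂, hx0, Ext.zero_comp]
    rfl

/-- a cocycle `G ⟶ I^0` is a coboundary -/
lemma exists_lift (G : A) (d : ℕ)
    (hG : ∀ (F : A) (p : ℕ), d < p → ∀ x : Ext G F p, x = 0)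
    (I : CochainComplex A ℤ) (hI : ∀ n, Injective (I.X n))
    (hex : ∀ j : ℤ, -(d : ℤ) ≤ j → I.ExactAt j)
    (f : G ⟶ I.X 0) (hf : f ≫ I.d 0 (0 + 1) = 0) :
    ∃ g : G ⟶ I.X (0 - 1), g ≫ I.d (0 - 1) 0 = f := by
  have hS := cyclesSC_shortExact I (0 - 1) 0 (by lia) (hex 0 (by lia))
  let f' : G ⟶ I.cycles 0 := I.liftCycles f (0 + 1) (by simp) hf
  have h1 : (Ext.mk₀ f').comp hS.extClass (zero_add 1) = 0 :=
    ext_cycles_eq_zero G d hG I hI hex d 1 (0 - 1) (by lia) (by lia) le_rfl _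
  obtain ⟨x₂, hx₂⟩ := Ext.covariant_sequence_exact₃ G hS (Ext.mk₀ f') (zero_add 1) h1
  obtain ⟨g, hg⟩ : ∃ g : G ⟶ I.X (0 - 1), Ext.mk₀ g = x₂ := (Ext.mk₀_bijective _ _).2 x₂
  refine ⟨g, ?_⟩
  have h2 : g ≫ I.toCycles (0 - 1) 0 = f' := by
    apply (Ext.mk₀_bijective _ _).1
    refine Eq.trans ?_ hx₂
    rw [← hg]
    exact (Ext.mk₀_comp_mk₀ _ _).symm
  calc g ≫ I.d (0 - 1) 0 = g ≫ I.toCycles (0 - 1) 0 ≫ I.iCycles 0 := by rw [I.toCycles_i]
  _ = f' ≫ I.iCycles 0 := by rw [← Category.assoc, h2]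
  _ = f := I.liftCycles_i _ _ _ _

end Groth.Agent.Helper4.CptVanish
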