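import Mathlib
import Groth.Prelude.Def_CohDer
import Groth.Agent.Helper4.CptVanish
import Groth.Agent.Helper4.CptInd

/-! Compactness of `G[0]` in `D(A)` when `Ext^p(G, -)` vanishes for `p > d` and commutes with
coproducts. -/

set_option autoImplicit false
set_option linter.unusedSectionVars false

namespace Groth.Agent.Helper4.CptMain
open CategoryTheory Limits ZeroObject Abelian Groth.Agent.Helper4.CptFam
open DerivedCategory DerivedCategory.TStructure Pretriangulated

universe w v u

variable {A : Type u} [Category.{v} A] [Abelian A] [IsGrothendieckAbelian.{v} A]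
  [HasExt.{w} A] [HasDerivedCategory.{v} A]

/-- **Vanishing**: if `Ext^p(G, -) = 0` for `p > d` then there are no nonzero maps from `G[0]` to an
object of `D^{≤ -d-1}`. -/
theorem hom_eq_zero_of_isLE (G : A) (d : ℕ)
    (hG : ∀ (F : A) (p : ℕ), d < p → ∀ x : Ext G F p, x = 0)
    (N : DerivedCategory A) [N.IsLE (-(d : ℤ) - 1)] (y : (singleFunctor A 0).obj G ⟶ N) :
    y = 0 := by
  let M := Q.objPreimage N
  let e : Q.obj M ≅ N := Q.objObjPreimageIso N
  obtain ⟨I, f, hK, hq, _, hI⟩ := KInjRes.exists_resolution M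
  haveI := hK
  haveI := hq
  let e' : N ≅ Q.obj I := e.symm ≪≫ asIso (Q.map f)
  have hex : ∀ j : ℤ, -(d : ℤ) ≤ j → I.ExactAt j := by
    intro j hj
    rw [HomologicalComplex.exactAt_iff_isZero_homology]
    have h0 : IsZero ((homologyFunctor A j).obj N) := isZero_of_isLE N (-(d : ℤ) - 1) j (by lia)
    exact h0.of_iso (((homologyFunctorFactors A j).app I).symm ≪≫
      (homologyFunctor A j).mapIso e'.symm)
  let y' : (singleFunctor A 0).obj G ⟶ (Q.obj I)⟦(0 : ℤ)⟧ :=
    y ≫ e'.hom ≫ (shiftFunctorZero _ ℤ).inv.app _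
  obtain ⟨c, hc, hcls⟩ := HDUcls.cls_surjective y'
  have h0 : y' = 0 := by
    rw [← hcls, HDUcls.cls_eq_zero_iff]
    exact CptVanish.exists_lift G d hG I hI hex c hc
  have h1 : y ≫ (e'.hom ≫ (shiftFunctorZero _ ℤ).inv.app _) = 0 := h0
  haveI : IsIso (e'.hom ≫ (shiftFunctorZero (DerivedCategory A) ℤ).inv.app (Q.obj I)) :=
    inferInstance
  rw [← cancel_mono (e'.hom ≫ (shiftFunctorZero (DerivedCategory A) ℤ).inv.app (Q.obj I)), h1,
    zero_comp]

variable [HasCoproducts.{v} (DerivedCategory A)]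

/-- **Compactness**: if `Ext^p(G, -) = 0` for `p > d` and every `Ext^n(G, -)` commutes with
coproducts, then `G[0]` is a compact object of `D(A)`. -/
theorem isCompactObject (G : A) (d : ℕ)
    (hG : ∀ (F : A) (p : ℕ), d < p → ∀ x : Ext G F p, x = 0)
    (hG2 : ∀ (n : ℕ) (J : Type v) (F : J → A),
      PreservesColimit (Discrete.functor F) (Abelian.extFunctorObj G n)) :
    CohDer.IsCompactObject ((singleFunctor A 0).obj G) := by
  intro J X
  apply bijective_of_allFSupp
  let T : J → Triangle (DerivedCategory A) := fun j => (t.triangleLTGE (-(d : ℤ))).obj (X j)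
  have hT : ∀ j, T j ∈ distTriang _ := fun j => t.triangleLTGE_distinguished (-(d : ℤ)) (X j)
  have h3 : AllFSupp ((singleFunctor A 0).obj G) (fun j => (T j).obj₃) :=
    CptInd.allFSupp_of_isGE G (fun n F => hG2 n J F) _ (-(d : ℤ)) (fun j => by
      change ((t.truncGE (-(d : ℤ))).obj (X j)).IsGE (-(d : ℤ))
      infer_instance)
  have h1 : AllFSupp ((singleFunctor A 0).obj G) (fun j => (T j).obj₁) := by
    haveI : (∐ fun j => (T j).obj₁).IsLE (-(d : ℤ) - 1) :=
      CptInd.isLE_sigma _ _ (fun j => by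
        change ((t.truncLT (-(d : ℤ))).obj (X j)).IsLE (-(d : ℤ) - 1)
        infer_instance)
    exact AllFSupp.of_hom_eq_zero (fun φ => hom_eq_zero_of_isLE G d hG _ φ)
  exact AllFSupp.of_triangle T hT h1 h3

end Groth.Agent.Helper4.CptMain
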