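import Mathlib
import Groth.Agent.Helper1.DCoprod

/-! Homology of the termwise coproduct of complexes (AB4 case). -/

set_option autoImplicit false
set_option linter.unusedSectionVars false

namespace Groth.Agent.Helper4.DCoprodH
open CategoryTheory Limits DerivedCategory Groth.Agent.Helper1.DCoprod

universe w' w v u
variable {A : Type u} [Category.{v} A] [Abelian A] {J : Type w}

/-- the homology of `fam K` is computed pointwise -/
noncomputable def famHomologyObjIso (K : J → CochainComplex A ℤ) (n : ℤ) (j : J) :
    ((fam K).homology n).obj ⟨j⟩ ≅ (K j).homology n :=
  (((fam K).sc n).mapHomologyIso ((evaluation (Discrete J) A).obj ⟨j⟩)).symm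

variable [HasColimitsOfShape (Discrete J) A] [HasExactColimitsOfShape (Discrete J) A]

/-- the homology of the termwise coproduct is the colimit of the homologies -/
noncomputable def sigHomologyIso (K : J → CochainComplex A ℤ) (n : ℤ) :
    (sig K).homology n ≅ colimit ((fam K).homology n) :=
  ((fam K).sc n).mapHomologyIso (colim (J := Discrete J) (C := A))

end Groth.Agent.Helper4.DCoprodH
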