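import Mathlib

/-!
# Polynomial laws from compatible families on polynomial rings (helper4)

A family of maps `T n : A[X_1..X_n] ⊗ M → A[X_1..X_n] ⊗ N` compatible with all algebra maps between
polynomial rings extends uniquely to a polynomial law `ofPoly T hT`.
-/

set_option autoImplicit false
universe u v w
open scoped TensorProduct
open LinearMap MvPolynomial

namespace Groth.Agent.Helper4.PolLawExt

variable {A : Type u} [CommRing A] {M : Type v} [AddCommGroup M] [Module A M]
  {N : Type w} [AddCommGroup N] [Module A N]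

variable (T : ∀ n : ℕ, MvPolynomial (Fin n) A ⊗[A] M → MvPolynomial (Fin n) A ⊗[A] N)
  (hT : ∀ (n m : ℕ) (φ : MvPolynomial (Fin n) A →ₐ[A] MvPolynomial (Fin m) A),
    φ.toLinearMap.rTensor N ∘ T n = T m ∘ φ.toLinearMap.rTensor M)

include hT in
theorem compat_apply {n m : ℕ} (φ : MvPolynomial (Fin n) A →ₐ[A] MvPolynomial (Fin m) A)
    (p : MvPolynomial (Fin n) A ⊗[A] M) :
    φ.toLinearMap.rTensor N (T n p) = T m (φ.toLinearMap.rTensor M p) :=
  congrFun (hT n m φ) p

include hT in
/-- one new variable -/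
theorem step {S : Type u} [CommSemiring S] [Algebra A S] {t : ℕ}
    (ψ : MvPolynomial (Fin t) A →ₐ[A] S) (k : MvPolynomial (Fin t) A) (hk : ψ k = 0) (m : M)
    (q : MvPolynomial (Fin t) A ⊗[A] M) :
    ψ.toLinearMap.rTensor N (T t (q + k ⊗ₜ[A] m)) = ψ.toLinearMap.rTensor N (T t q) := by
  let ι : MvPolynomial (Fin t) A →ₐ[A] MvPolynomial (Fin (t + 1)) A :=
    aeval (fun i => X (Fin.castSucc i))
  let α : MvPolynomial (Fin (t + 1)) A →ₐ[A] MvPolynomial (Fin t) A :=
    aeval (Fin.snoc (α := fun _ => MvPolynomial (Fin t) A) (fun i => X i) k)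
  let β : MvPolynomial (Fin (t + 1)) A →ₐ[A] MvPolynomial (Fin t) A :=
    aeval (Fin.snoc (α := fun _ => MvPolynomial (Fin t) A) (fun i => X i) 0)
  have hαι : α.comp ι = AlgHom.id A _ := by
    apply MvPolynomial.algHom_ext
    intro i
    simp [α, ι]
  have hβι : β.comp ι = AlgHom.id A _ := by
    apply MvPolynomial.algHom_ext
    intro i
    simp [β, ι]
  have hψ : ψ.comp α = ψ.comp β := by
    apply MvPolynomial.algHom_ext
    intro j
    refine Fin.lastCases ?_ (fun i => ?_) j
    · simp [α, β, hk]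
    · simp [α, β]
  set q'' : MvPolynomial (Fin (t + 1)) A ⊗[A] M :=
    ι.toLinearMap.rTensor M q + (X (Fin.last t)) ⊗ₜ[A] m with hq''
  have hα : α.toLinearMap.rTensor M q'' = q + k ⊗ₜ[A] m := by
    rw [hq'', map_add, ← LinearMap.comp_apply, ← LinearMap.rTensor_comp, ← AlgHom.comp_toLinearMap,
      hαι, LinearMap.rTensor_tmul]
    simp [α]
  have hβ : β.toLinearMap.rTensor M q'' = q := by
    rw [hq'', map_add, ← LinearMap.comp_apply, ← LinearMap.rTensor_comp, ← AlgHom.comp_toLinearMap,
      hβι, LinearMap.rTensor_tmul]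
    simp [β]
  rw [← hα, ← compat_apply T hT, ← LinearMap.comp_apply, ← LinearMap.rTensor_comp,
    ← AlgHom.comp_toLinearMap, hψ, AlgHom.comp_toLinearMap, LinearMap.rTensor_comp,
    LinearMap.comp_apply, compat_apply T hT, hβ]


include hT in
theorem core_ring {S : Type u} [CommRing S] [Algebra A S] {t : ℕ}
    (ψ : MvPolynomial (Fin t) A →ₐ[A] S) (p q : MvPolynomial (Fin t) A ⊗[A] M)
    (h : ψ.rangeRestrict.toLinearMap.rTensor M p = ψ.rangeRestrict.toLinearMap.rTensor M q) :
    ψ.toLinearMap.rTensor N (T t p) = ψ.toLinearMap.rTensor N (T t q) := by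
  let I : Submodule A (MvPolynomial (Fin t) A) := (RingHom.ker (ψ : MvPolynomial (Fin t) A →+* S)).restrictScalars A
  let f : I →ₗ[A] MvPolynomial (Fin t) A := I.subtype
  let g : MvPolynomial (Fin t) A →ₗ[A] ψ.range := ψ.rangeRestrict.toLinearMap
  have hfg : Function.Exact f g := by
    intro y
    constructor
    · intro hy
      have hy' : ψ y = 0 := by
        have := congrArg (fun z : ψ.range => (z : S)) hy
        simpa [g] using this
      exact ⟨⟨y, hy'⟩, rfl⟩
    · rintro ⟨⟨z, hz⟩, rfl⟩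
      apply Subtype.ext
      exact hz
  have hg : Function.Surjective g := ψ.rangeRestrict_surjective
  have hex := rTensor_exact M hfg hg
  have hpq : g.rTensor M (p - q) = 0 := by
    rw [map_sub, sub_eq_zero]; exact h
  obtain ⟨u, hu⟩ := (hex (p - q)).mp hpq
  have hp : p = q + f.rTensor M u := by rw [hu]; abel
  rw [hp]
  clear hp hu hpq h
  induction u using TensorProduct.induction_on generalizing q with
  | zero => simp
  | tmul k m =>
    rw [LinearMap.rTensor_tmul]
    exact step T hT ψ k.1 k.2 m q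
  | add u₁ u₂ h₁ h₂ =>
    rw [map_add, ← add_assoc, h₂, h₁]

include hT in
theorem core {S : Type u} [CommSemiring S] [Algebra A S] {t : ℕ}
    (ψ : MvPolynomial (Fin t) A →ₐ[A] S) (p q : MvPolynomial (Fin t) A ⊗[A] M)
    (h : ψ.rangeRestrict.toLinearMap.rTensor M p = ψ.rangeRestrict.toLinearMap.rTensor M q) :
    ψ.toLinearMap.rTensor N (T t p) = ψ.toLinearMap.rTensor N (T t q) := by
  letI : CommRing S := (algebraMap A S).commSemiringToCommRing
  exact core_ring T hT ψ p q h

include hT in
theorem key {S : Type u} [CommSemiring S] [Algebra A S] {n t : ℕ}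
    (φ : MvPolynomial (Fin n) A →ₐ[A] S) (ψ : MvPolynomial (Fin t) A →ₐ[A] S)
    (h : φ.range ≤ ψ.range) (p : MvPolynomial (Fin n) A ⊗[A] M) (q : MvPolynomial (Fin t) A ⊗[A] M)
    (hpq : ((Subalgebra.inclusion h).comp φ.rangeRestrict).toLinearMap.rTensor M p =
      ψ.rangeRestrict.toLinearMap.rTensor M q) :
    φ.toLinearMap.rTensor N (T n p) = ψ.toLinearMap.rTensor N (T t q) := by
  have hex : ∀ i : Fin n, ∃ gi : MvPolynomial (Fin t) A, ψ gi = φ (X i) := by
    intro i
    have : φ (X i) ∈ ψ.range := h (AlgHom.mem_range_self φ (X i))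
    exact this
  choose g hg using hex
  let α : MvPolynomial (Fin n) A →ₐ[A] MvPolynomial (Fin t) A := aeval g
  have hα : ψ.comp α = φ := by
    apply MvPolynomial.algHom_ext
    intro i
    simp [α, hg]
  have hα' : ψ.rangeRestrict.comp α = (Subalgebra.inclusion h).comp φ.rangeRestrict := by
    apply MvPolynomial.algHom_ext
    intro i
    apply Subtype.ext
    simp [α, hg]
  have h1 : φ.toLinearMap.rTensor N (T n p) = ψ.toLinearMap.rTensor N (T t (α.toLinearMap.rTensor M p)) := by
    rw [← hα, AlgHom.comp_toLinearMap, LinearMap.rTensor_comp, LinearMap.comp_apply,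
      compat_apply T hT]
  rw [h1]
  apply core T hT
  rw [← hpq, ← hα', AlgHom.comp_toLinearMap, LinearMap.rTensor_comp, LinearMap.comp_apply]

include hT in
/-- well-definedness -/
theorem wd {S : Type u} [CommSemiring S] [Algebra A S] {n n' : ℕ}
    (ψ : MvPolynomial (Fin n) A →ₐ[A] S) (ψ' : MvPolynomial (Fin n') A →ₐ[A] S)
    (p : MvPolynomial (Fin n) A ⊗[A] M) (p' : MvPolynomial (Fin n') A ⊗[A] M)
    (h : ψ.toLinearMap.rTensor M p = ψ'.toLinearMap.rTensor M p') :
    ψ.toLinearMap.rTensor N (T n p) = ψ'.toLinearMap.rTensor N (T n' p') := by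
  set u := rTensor M ψ.rangeRestrict.toLinearMap p with hu
  have uFG : Subalgebra.FG (R := A) ψ.range := by
    rw [← Algebra.map_top]
    exact Subalgebra.FG.map _ Algebra.FiniteType.out
  set u' := rTensor M ψ'.rangeRestrict.toLinearMap p' with hu'
  have u'FG : Subalgebra.FG (R := A) ψ'.range := by
    rw [← Algebra.map_top]
    exact Subalgebra.FG.map _ Algebra.FiniteType.out
  have huu' : rTensor M (Subalgebra.val _).toLinearMap u =
      rTensor M (Subalgebra.val _).toLinearMap u' := by
    simp only [hu, hu', ← LinearMap.comp_apply, ← rTensor_comp, ← AlgHom.comp_toLinearMap,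
      AlgHom.val_comp_rangeRestrict, h]
  obtain ⟨B, hAB, hA'B, ⟨gen, hB⟩, h2⟩ :=
    TensorProduct.Algebra.eq_of_fg_of_subtype_eq' (R := A) uFG u'FG huu'
  rw [← PolynomialLaw.range_φ A gen, eq_comm] at hB
  have hAB' : ψ.range ≤ (PolynomialLaw.φ A gen).range := le_trans hAB (le_of_eq hB)
  have hA'B' : ψ'.range ≤ (PolynomialLaw.φ A gen).range := le_trans hA'B (le_of_eq hB)
  have : ∃ q : MvPolynomial (Fin gen.card) A ⊗[A] M,
      rTensor M (AlgHom.toLinearMap (PolynomialLaw.φ A gen).rangeRestrict) q =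
      rTensor M ((Subalgebra.inclusion (le_of_eq hB)).comp
        (Subalgebra.inclusion hAB)).toLinearMap u :=
    rTensor_surjective _ (AlgHom.rangeRestrict_surjective _) _
  obtain ⟨q, hq⟩ := this
  rw [key T hT ψ (PolynomialLaw.φ A gen) hAB' p q, key T hT ψ' (PolynomialLaw.φ A gen) hA'B' p' q]
  · simp only [hq, AlgHom.comp_toLinearMap, rTensor_comp, LinearMap.comp_apply]
    rw [← hu', h2]
    simp only [← LinearMap.comp_apply, ← rTensor_comp, ← AlgHom.comp_toLinearMap]
    rfl
  · simp only [hq, hu, ← LinearMap.comp_apply, AlgHom.comp_toLinearMap, rTensor_comp]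
    congr; ext; rfl


/-- the members of the extended law, by choice of a lift -/
noncomputable def ofPolyFun (S : Type u) [CommSemiring S] [Algebra A S] (x : S ⊗[A] M) : S ⊗[A] N :=
  (PolynomialLaw.exists_lift (R := A) x).choose_spec.choose.toLinearMap.rTensor N
    (T (PolynomialLaw.exists_lift (R := A) x).choose
      (PolynomialLaw.exists_lift (R := A) x).choose_spec.choose_spec.choose)

include hT in
theorem ofPolyFun_apply {S : Type u} [CommSemiring S] [Algebra A S] {n : ℕ}
    (ψ : MvPolynomial (Fin n) A →ₐ[A] S) (p : MvPolynomial (Fin n) A ⊗[A] M) :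
    ofPolyFun T S (ψ.toLinearMap.rTensor M p) = ψ.toLinearMap.rTensor N (T n p) := by
  unfold ofPolyFun
  apply wd T hT
  exact (PolynomialLaw.exists_lift (R := A) (ψ.toLinearMap.rTensor M p)).choose_spec.choose_spec.choose_spec

/-- the polynomial law extending a compatible family on polynomial rings -/
noncomputable def ofPoly : M →ₚₗ[A] N where
  toFun' S _ _ := ofPolyFun T S
  isCompat' {S} _ _ {S'} _ _ φ := by
    funext x
    obtain ⟨n, ψ, p, rfl⟩ := PolynomialLaw.exists_lift (R := A) x
    simp only [Function.comp_apply]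
    rw [ofPolyFun_apply T hT, ← LinearMap.comp_apply, ← LinearMap.comp_apply, ← rTensor_comp,
      ← rTensor_comp, ← AlgHom.comp_toLinearMap, ofPolyFun_apply T hT]

theorem ofPoly_toFun' (S : Type u) [CommSemiring S] [Algebra A S] :
    (ofPoly T hT).toFun' S = ofPolyFun T S := rfl

theorem ofPoly_apply {S : Type u} [CommSemiring S] [Algebra A S] {n : ℕ}
    (ψ : MvPolynomial (Fin n) A →ₐ[A] S) (p : MvPolynomial (Fin n) A ⊗[A] M) :
    (ofPoly T hT).toFun' S (ψ.toLinearMap.rTensor M p) = ψ.toLinearMap.rTensor N (T n p) :=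
  ofPolyFun_apply T hT ψ p

theorem ofPoly_mv (n : ℕ) : (ofPoly T hT).toFun' (MvPolynomial (Fin n) A) = T n := by
  funext p
  have := ofPoly_apply T hT (AlgHom.id A (MvPolynomial (Fin n) A)) p
  simpa using this

/-- a law is determined by its members on polynomial rings -/
theorem ext_of_mv {F G : M →ₚₗ[A] N}
    (h : ∀ n : ℕ, F.toFun' (MvPolynomial (Fin n) A) = G.toFun' (MvPolynomial (Fin n) A)) : F = G := by
  ext S _ _ x
  obtain ⟨n, ψ, p, rfl⟩ := PolynomialLaw.exists_lift (R := A) x
  rw [← PolynomialLaw.isCompat_apply', ← PolynomialLaw.isCompat_apply', h]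

end Groth.Agent.Helper4.PolLawExt
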