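import Groth.Prelude.Def_PolLaw2
import Groth.Agent.Helper4.PolLawExt
import Groth.Agent.Helper4.KerPoly

/-!
# The determinant law of a finitely generated projective module (helper4)

`M` is a direct summand of `A^n` with complement `Q`; `B × A` acts on the free module `M × Q`
and the determinant law of `M` is the determinant law of `M × Q` composed with `b ↦ (b, 1)`.
-/

set_option autoImplicit false
universe u
open scoped TensorProduct

namespace Groth.Agent.Helper4.DetProj

variable {A B M : Type u} [CommRing A] [CommRing B] [Algebra A B]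
  [AddCommGroup M] [Module A M] [Module B M] [IsScalarTower A B M]

section setup

variable {n : ℕ} (p : (Fin n → A) →ₗ[A] M) (i : M →ₗ[A] (Fin n → A))

/-- the module `M × ker p` (a type synonym carrying the `B × A`-action) -/
def MQ : Type u := M × LinearMap.ker p

instance : AddCommGroup (MQ p) := inferInstanceAs (AddCommGroup (M × LinearMap.ker p))
instance : Module A (MQ p) := inferInstanceAs (Module A (M × LinearMap.ker p))

noncomputable instance : Module (B × A) (MQ p) :=
  letI : Module (B × A) M := Module.compHom M (RingHom.fst B A)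
  letI : Module (B × A) (LinearMap.ker p) := Module.compHom _ (RingHom.snd B A)
  inferInstanceAs (Module (B × A) (M × LinearMap.ker p))

variable {p} in
/-- constructor -/
def mk (m : M) (q : LinearMap.ker p) : MQ p := (m, q)

variable {p} in
def fst (v : MQ p) : M := Prod.fst (α := M) (β := LinearMap.ker p) v

variable {p} in
def snd (v : MQ p) : LinearMap.ker p := Prod.snd (α := M) (β := LinearMap.ker p) v

theorem mk_fst_snd (v : MQ p) : mk (fst v) (snd v) = v := rfl

theorem smul_mk (c : B × A) (m : M) (q : LinearMap.ker p) :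
    c • (mk m q : MQ p) = mk (c.1 • m) (c.2 • q) := rfl

theorem smulA_mk (a : A) (m : M) (q : LinearMap.ker p) :
    a • (mk m q : MQ p) = mk (a • m) (a • q) := rfl

theorem add_mk (m m' : M) (q q' : LinearMap.ker p) :
    (mk m q : MQ p) + mk m' q' = mk (m + m') (q + q') := rfl

instance : IsScalarTower A (B × A) (MQ p) where
  smul_assoc a c v := by
    rw [← mk_fst_snd p v, smul_mk, smul_mk, smulA_mk, Prod.smul_fst, Prod.smul_snd, smul_assoc,
      smul_assoc]


theorem fst_add (v w : MQ p) : fst (v + w) = fst v + fst w := rfl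
theorem snd_add (v w : MQ p) : snd (v + w) = snd v + snd w := rfl
theorem fst_smul (a : A) (v : MQ p) : fst (a • v) = a • fst v := rfl
theorem snd_smul (a : A) (v : MQ p) : snd (a • v) = a • snd v := rfl
theorem fst_mk (m : M) (q : LinearMap.ker p) : fst (mk m q : MQ p) = m := rfl
theorem snd_mk (m : M) (q : LinearMap.ker p) : snd (mk m q : MQ p) = q := rfl

theorem mk_ext {v w : MQ p} (h1 : fst v = fst w) (h2 : snd v = snd w) : v = w :=
  Prod.ext (α := M) (β := LinearMap.ker p) h1 h2

variable {p i} in
/-- the equivalence of `M × ker p` with `A^n` -/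
noncomputable def equivFun (hpi : p ∘ₗ i = LinearMap.id) : MQ p ≃ₗ[A] (Fin n → A) where
  toFun v := i (fst v) + (snd v : Fin n → A)
  map_add' v w := by
    rw [fst_add, snd_add, map_add, Submodule.coe_add]
    abel
  map_smul' a v := by
    rw [fst_smul, snd_smul, map_smul, Submodule.coe_smul, RingHom.id_apply, smul_add]
  invFun w := mk (p w) ⟨w - i (p w), by
    rw [LinearMap.mem_ker, map_sub, ← LinearMap.comp_apply, hpi, LinearMap.id_apply, sub_self]⟩
  left_inv v := by
    have h1 : p (i (fst v) + (snd v : Fin n → A)) = fst v := by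
      rw [map_add, ← LinearMap.comp_apply, hpi, LinearMap.id_apply, (snd v).2, add_zero]
    apply mk_ext
    · rw [fst_mk, h1]
    · rw [snd_mk]
      apply Subtype.ext
      show i (fst v) + (snd v : Fin n → A) - i (p (i (fst v) + (snd v : Fin n → A))) = _
      rw [h1]
      abel
  right_inv w := by
    show i (p w) + (w - i (p w)) = w
    abel

theorem free_MQ (hpi : p ∘ₗ i = LinearMap.id) : Module.Free A (MQ p) :=
  Module.Free.of_equiv (equivFun hpi).symm

theorem finite_MQ (hpi : p ∘ₗ i = LinearMap.id) : Module.Finite A (MQ p) :=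
  Module.Finite.equiv (equivFun hpi).symm

end setup


section affine

variable (B) in
/-- the affine embedding `x ↦ (x, 1)` on points -/
noncomputable def jS (S : Type u) [CommSemiring S] [Algebra A S] (x : S ⊗[A] B) :
    S ⊗[A] (B × A) :=
  (LinearMap.inl A B A).lTensor S x + (1 : S) ⊗ₜ[A] ((0, 1) : B × A)

variable (S : Type u) [CommSemiring S] [Algebra A S]

theorem inl_mul (x y : S ⊗[A] B) :
    (LinearMap.inl A B A).lTensor S (x * y) =
      (LinearMap.inl A B A).lTensor S x * (LinearMap.inl A B A).lTensor S y := by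
  induction x using TensorProduct.induction_on with
  | zero => simp
  | tmul s b =>
    induction y using TensorProduct.induction_on with
    | zero => simp
    | tmul t c =>
      simp only [Algebra.TensorProduct.tmul_mul_tmul, LinearMap.lTensor_tmul, LinearMap.inl_apply,
        Prod.mk_mul_mk, mul_zero]
    | add y₁ y₂ h₁ h₂ => rw [mul_add, map_add, map_add, h₁, h₂, mul_add]
  | add x₁ x₂ h₁ h₂ => rw [add_mul, map_add, map_add, h₁, h₂, add_mul]

theorem inl_mul_e (x : S ⊗[A] B) :
    (LinearMap.inl A B A).lTensor S x * ((1 : S) ⊗ₜ[A] ((0, 1) : B × A)) = 0 := by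
  induction x using TensorProduct.induction_on with
  | zero => simp
  | tmul s b =>
    simp only [Algebra.TensorProduct.tmul_mul_tmul, LinearMap.lTensor_tmul, LinearMap.inl_apply,
      Prod.mk_mul_mk, mul_zero, mul_one, zero_mul]
    exact TensorProduct.tmul_zero _ _
  | add x₁ x₂ h₁ h₂ => rw [map_add, add_mul, h₁, h₂, add_zero]

theorem jS_one : jS B S (1 : S ⊗[A] B) = 1 := by
  rw [jS, Algebra.TensorProduct.one_def, LinearMap.lTensor_tmul, ← TensorProduct.tmul_add,
    LinearMap.inl_apply, Prod.mk_add_mk, add_zero, zero_add]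
  rfl

theorem jS_mul (x y : S ⊗[A] B) : jS B S (x * y) = jS B S x * jS B S y := by
  unfold jS
  rw [add_mul, mul_add, mul_add, ← inl_mul, inl_mul_e, mul_comm _ ((LinearMap.inl A B A).lTensor S y),
    inl_mul_e, Algebra.TensorProduct.tmul_mul_tmul, mul_one, Prod.mk_mul_mk, mul_zero, mul_one,
    add_zero, zero_add]

theorem jS_compat {S S' : Type u} [CommSemiring S] [Algebra A S] [CommSemiring S'] [Algebra A S']
    (φ : S →ₐ[A] S') (x : S ⊗[A] B) :
    φ.toLinearMap.rTensor (B × A) (jS B S x) = jS B S' (φ.toLinearMap.rTensor B x) := by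
  unfold jS
  rw [map_add, LinearMap.rTensor_tmul, AlgHom.toLinearMap_apply, map_one]
  congr 1
  rw [← LinearMap.comp_apply, ← LinearMap.comp_apply, LinearMap.rTensor_comp_lTensor,
    LinearMap.lTensor_comp_rTensor]

end affine


section law

variable {n : ℕ} (p : (Fin n → A) →ₗ[A] M) [Module.Free A (MQ p)] [Module.Finite A (MQ p)]

variable (B) in
/-- the determinant law of the summand `M` of `A^n` -/
noncomputable def detLawP : B →ₚₗ[A] A where
  toFun' S _ _ x := PolLaw.detFun A (B × A) (MQ p) S (jS B S x)
  isCompat' φ := by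
    funext x
    show φ.toLinearMap.rTensor A (PolLaw.detFun A (B × A) (MQ p) _ (jS B _ x)) =
      PolLaw.detFun A (B × A) (MQ p) _ (jS B _ (φ.toLinearMap.rTensor B x))
    rw [PolLaw.detFun_compat, jS_compat]

theorem detLawP_toFun' (S : Type u) [CommSemiring S] [Algebra A S] (x : S ⊗[A] B) :
    (detLawP B p).toFun' S x = PolLaw.detFun A (B × A) (MQ p) S (jS B S x) := rfl

theorem detLawP_isMult : PolLaw.IsMult (detLawP B p) := by
  intro S _ _
  refine ⟨?_, fun x y => ?_⟩
  · rw [detLawP_toFun', jS_one, PolLaw.detFun_one]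
  · rw [detLawP_toFun', detLawP_toFun', detLawP_toFun', jS_mul, PolLaw.detFun_mul]


/-- the decomposition `S ⊗ (M × ker p) ≃ (S ⊗ M) × (S ⊗ ker p)` -/
noncomputable def eS (S : Type u) [CommRing S] [Algebra A S] :
    S ⊗[A] MQ p ≃ₗ[S] (S ⊗[A] M) × (S ⊗[A] LinearMap.ker p) :=
  TensorProduct.prodRight A S S M (LinearMap.ker p)

omit [Module.Free A (MQ p)] [Module.Finite A (MQ p)] in
theorem eS_tmul (S : Type u) [CommRing S] [Algebra A S] (t : S) (m : M) (q : LinearMap.ker p) :
    eS p S (t ⊗ₜ[A] (mk m q : MQ p)) = (t ⊗ₜ[A] m, t ⊗ₜ[A] q) := rfl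

omit [Module.Free A (MQ p)] [Module.Finite A (MQ p)] in
theorem eS_act_inl (S : Type u) [CommRing S] [Algebra A S] (x : S ⊗[A] B) (z : S ⊗[A] MQ p) :
    eS p S (PolLaw.actEnd (MQ p) S ((LinearMap.inl A B A).lTensor S x) z) =
      (PolLaw.actEnd M S x (eS p S z).1, 0) := by
  induction x using TensorProduct.induction_on with
  | zero => simp; rfl
  | tmul s b =>
    induction z using TensorProduct.induction_on with
    | zero => simp; rfl
    | tmul t v =>
      rw [← mk_fst_snd p v, LinearMap.lTensor_tmul, PolLaw.actEnd_tmul_tmul, LinearMap.inl_apply,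
        smul_mk, eS_tmul, eS_tmul, PolLaw.actEnd_tmul_tmul, zero_smul, TensorProduct.tmul_zero]
    | add z₁ z₂ h₁ h₂ =>
      rw [map_add, map_add, h₁, h₂, map_add, Prod.fst_add, map_add, Prod.mk_add_mk, add_zero]
  | add x₁ x₂ h₁ h₂ =>
    rw [map_add, map_add, LinearMap.add_apply, map_add, h₁, h₂, map_add, LinearMap.add_apply,
      Prod.mk_add_mk, add_zero]

omit [Module.Free A (MQ p)] [Module.Finite A (MQ p)] in
theorem eS_act_e (S : Type u) [CommRing S] [Algebra A S] (z : S ⊗[A] MQ p) :
    eS p S (PolLaw.actEnd (MQ p) S ((1 : S) ⊗ₜ[A] ((0, 1) : B × A)) z) = (0, (eS p S z).2) := by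
  induction z using TensorProduct.induction_on with
  | zero => simp; rfl
  | tmul t v =>
    rw [← mk_fst_snd p v, PolLaw.actEnd_tmul_tmul, smul_mk, eS_tmul, eS_tmul, zero_smul, one_smul,
      one_mul, TensorProduct.tmul_zero]
  | add z₁ z₂ h₁ h₂ =>
    rw [map_add, map_add, h₁, h₂, map_add, Prod.snd_add, Prod.mk_add_mk, add_zero]

omit [Module.Free A (MQ p)] [Module.Finite A (MQ p)] in
theorem eS_act_jS (S : Type u) [CommRing S] [Algebra A S] (x : S ⊗[A] B) (z : S ⊗[A] MQ p) :
    eS p S (PolLaw.actEnd (MQ p) S (jS B S x) z) =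
      (PolLaw.actEnd M S x).prodMap LinearMap.id (eS p S z) := by
  rw [jS, map_add, LinearMap.add_apply, map_add, eS_act_inl, eS_act_e, Prod.mk_add_mk, add_zero,
    zero_add]
  rfl

/-- over a ring on which both summands become free, the law is the determinant of the action -/
theorem detLawP_eq_detAct (S : Type u) [CommRing S] [Algebra A S]
    [Module.Free S (S ⊗[A] M)] [Module.Finite S (S ⊗[A] M)]
    [Module.Free S (S ⊗[A] LinearMap.ker p)] [Module.Finite S (S ⊗[A] LinearMap.ker p)]
    (x : S ⊗[A] B) :
    (detLawP B p).toFun' S x = PolLaw.detAct M S x ⊗ₜ[A] (1 : A) := by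
  rw [detLawP_toFun', PolLaw.detFun_eq_detAct]
  congr 1
  unfold PolLaw.detAct
  have h1 : (PolLaw.actEnd M S x).prodMap (LinearMap.id : _ →ₗ[S] S ⊗[A] LinearMap.ker p) =
      ((eS p S : _ →ₗ[S] _) ∘ₗ (PolLaw.actEnd (MQ p) S (jS B S x)) ∘ₗ
        ((eS p S).symm : _ →ₗ[S] _)) := by
    apply LinearMap.ext
    intro w
    rw [LinearMap.comp_apply, LinearMap.comp_apply, LinearEquiv.coe_coe, LinearEquiv.coe_coe,
      eS_act_jS, LinearEquiv.apply_symm_apply]
  have h2 := LinearMap.det_conj (PolLaw.actEnd (MQ p) S (jS B S x)) (eS p S)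
  rw [← h1, LinearMap.det_prodMap, LinearMap.det_id, mul_one] at h2
  exact h2.symm

end law


section summand

variable {n : ℕ} {p : (Fin n → A) →ₗ[A] M} {i : M →ₗ[A] (Fin n → A)}

/-- the projection of `A^n` onto `ker p` -/
noncomputable def projKer (hpi : p ∘ₗ i = LinearMap.id) : (Fin n → A) →ₗ[A] LinearMap.ker p where
  toFun w := ⟨w - i (p w), by
    rw [LinearMap.mem_ker, map_sub, ← LinearMap.comp_apply, hpi, LinearMap.id_apply, sub_self]⟩
  map_add' v w := by
    apply Subtype.ext
    show v + w - i (p (v + w)) = (v - i (p v)) + (w - i (p w))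
    rw [map_add, map_add]
    abel
  map_smul' a v := by
    apply Subtype.ext
    show a • v - i (p (a • v)) = a • (v - i (p v))
    rw [map_smul, map_smul, smul_sub]

theorem projKer_comp (hpi : p ∘ₗ i = LinearMap.id) :
    (projKer hpi).comp (LinearMap.ker p).subtype = LinearMap.id := by
  apply LinearMap.ext
  intro q
  apply Subtype.ext
  show (q : Fin n → A) - i (p q) = q
  rw [q.2, map_zero, sub_zero]

theorem projective_ker (hpi : p ∘ₗ i = LinearMap.id) : Module.Projective A (LinearMap.ker p) :=
  Module.Projective.of_split (LinearMap.ker p).subtype (projKer hpi) (projKer_comp hpi)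

theorem finite_ker (hpi : p ∘ₗ i = LinearMap.id) : Module.Finite A (LinearMap.ker p) := by
  refine Module.Finite.of_surjective (projKer hpi) ?_
  intro q
  exact ⟨q, congrFun (congrArg DFunLike.coe (projKer_comp hpi)) q⟩

end summand

section local_check

open Groth.Agent.Helper4.PolLaw1 Groth.Agent.Helper4.KerPoly

/-- an element of a ring vanishing in all localisations at maximal ideals is zero; form for laws -/
theorem rid_eq_of_local {R : Type u} [CommRing R] [Algebra A R] (u v : R ⊗[A] A)
    (h : ∀ (J : Ideal R) [J.IsMaximal],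
      Algebra.TensorProduct.map (IsScalarTower.toAlgHom A R (Localization.AtPrime J))
        (AlgHom.id A A) u =
      Algebra.TensorProduct.map (IsScalarTower.toAlgHom A R (Localization.AtPrime J))
        (AlgHom.id A A) v) : u = v := by
  apply (Algebra.TensorProduct.rid A R R).injective
  rw [← sub_eq_zero]
  apply eq_zero_of_localization
  intro J hJ
  haveI := hJ
  have h1 := congrArg (Algebra.TensorProduct.rid A (Localization.AtPrime J) (Localization.AtPrime J))
    (h J)
  rw [rid_map, rid_map] at h1
  rw [map_sub, sub_eq_zero]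
  exact h1

/-- two laws agreeing on local test rings are equal -/
theorem ext_of_local {N N' : B →ₚₗ[A] A}
    (h : ∀ (S : Type u) [CommRing S] [IsLocalRing S] [Algebra A S] (x : S ⊗[A] B),
      N.toFun' S x = N'.toFun' S x) : N = N' := by
  apply Groth.Agent.Helper4.PolLawExt.ext_of_mv
  intro k
  funext x
  apply rid_eq_of_local
  intro J _
  rw [← compat, ← compat]
  exact h _ _

end local_check


section homog

open Groth.Agent.Helper4.PolLaw1 Groth.Agent.Helper4.KerPoly

/-- homogeneity can be checked on local test rings -/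
theorem isHomog_of_local {N : B →ₚₗ[A] A} (d : ℕ)
    (h : ∀ (S : Type u) [CommRing S] [IsLocalRing S] [Algebra A S] (s : S) (x : S ⊗[A] B),
      N.toFun' S (s • x) = s ^ d • N.toFun' S x) : PolLaw.IsHomog N d := by
  intro S _ _ s x
  obtain ⟨k, ψ, y, q, rfl, rfl⟩ := PolynomialLaw.exists_lift' (R := A) x s
  have hP : N.toFun' (MvPolynomial (Fin k) A) (q • y) =
      q ^ d • N.toFun' (MvPolynomial (Fin k) A) y := by
    apply rid_eq_of_local
    intro J _
    rw [← compat, map_smul', map_smul', ← compat, map_pow]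
    exact h _ _ _
  rw [PolLaw.rTensor_algHom_apply, ← map_smul', compat, hP, map_smul', ← compat, map_pow]

theorem finrank_eq_of_rankAtStalk [Module.Finite A M] [Module.Projective A M] {d : ℕ}
    (hd : ∀ p : PrimeSpectrum A, Module.rankAtStalk M p = d)
    (S : Type u) [CommRing S] [IsLocalRing S] [Algebra A S] [Module.Free S (S ⊗[A] M)] :
    Module.finrank S (S ⊗[A] M) = d := by
  have h1 := Module.rankAtStalk_baseChange (R := A) (M := M) (S := S) (IsLocalRing.closedPoint S)
  rw [hd] at h1
  have h2 := congrFun (Module.rankAtStalk_eq_finrank_of_free (R := S) (M := S ⊗[A] M))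
    (IsLocalRing.closedPoint S)
  rw [h1] at h2
  exact h2.symm

end homog

section main

variable (B M) in
/-- existence: the inhomogeneous determinant law of a finitely generated projective module -/
theorem exists_detLaw [Module.Finite A M] [Module.Projective A M] :
    ∃ N : B →ₚₗ[A] A, PolLaw.IsMult N ∧
      ∀ (S : Type u) [CommRing S] [IsLocalRing S] [Algebra A S] (x : S ⊗[A] B),
        N.toFun' S x = PolLaw.detAct M S x ⊗ₜ[A] (1 : A) := by
  obtain ⟨n, p, i, _, _, hpi⟩ := Module.Finite.exists_comp_eq_id_of_projective A M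
  haveI := free_MQ p i hpi
  haveI := finite_MQ p i hpi
  haveI := projective_ker hpi
  haveI := finite_ker hpi
  refine ⟨detLawP B p, detLawP_isMult p, ?_⟩
  intro S _ _ _ x
  haveI : Module.Free S (S ⊗[A] M) := Module.free_of_flat_of_isLocalRing
  haveI : Module.Free S (S ⊗[A] LinearMap.ker p) := Module.free_of_flat_of_isLocalRing
  exact detLawP_eq_detAct p S x


variable (B M) in
/-- existence: the determinant law of a finitely generated projective module of constant rank -/
theorem exists_detMulLaw [Module.Finite A M] [Module.Projective A M] (d : ℕ)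
    (hd : ∀ p : PrimeSpectrum A, Module.rankAtStalk M p = d) :
    ∃ N : PolLaw.MulLaw A B A d,
      ∀ (S : Type u) [CommRing S] [IsLocalRing S] [Algebra A S] (x : S ⊗[A] B),
        N.law.toFun' S x = PolLaw.detAct M S x ⊗ₜ[A] (1 : A) := by
  obtain ⟨N, hN1, hN2⟩ := exists_detLaw (A := A) B M
  refine ⟨⟨N, ?_, hN1⟩, hN2⟩
  apply isHomog_of_local
  intro S _ _ _ s x
  haveI : Module.Free S (S ⊗[A] M) := Module.free_of_flat_of_isLocalRing
  rw [hN2, hN2, PolLaw.detAct, map_smul, LinearMap.det_smul, finrank_eq_of_rankAtStalk hd S,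
    TensorProduct.smul_tmul', smul_eq_mul]
  rfl

end main

end Groth.Agent.Helper4.DetProj
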