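import Mathlib

/-!
# Closedness of the diagonal for schemes with Hausdorff underlying space
-/

universe u

namespace Groth.Agent.Helper4

open AlgebraicGeometry CategoryTheory Limits Scheme Pullback TopologicalSpace

variable {X Y : Scheme.{u}} (f : X ⟶ Y)
variable (𝒰 : Y.OpenCover) (𝒱 : ∀ i, (pullback f (𝒰.f i)).OpenCover)

set_option backward.defeqAttrib.useBackward true in
set_option backward.isDefEq.respectTransparency false in
theorem mem_diagonalCoverDiagonalRange_of_fst_eq_snd (x : ↑(pullback f f))
    (H : (pullback.fst f f).base x = (pullback.snd f f).base x) :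
    x ∈ diagonalCoverDiagonalRange f 𝒰 𝒱 := by
  simp only [diagonalCoverDiagonalRange, openCoverOfBase_I₀, openCoverOfBase_X,
    openCoverOfLeftRight_I₀, Opens.iSup_mk, Opens.carrier_eq_coe, Hom.coe_opensRange, Opens.mem_mk,
    Set.mem_iUnion, Set.mem_range, Sigma.exists]
  let i := 𝒰.idx (f (pullback.fst f f x))
  obtain ⟨y : 𝒰.X i, hy : 𝒰.f i y = f _⟩ :=
    𝒰.covers (f (pullback.fst f f x))
  obtain ⟨z, hz₁, hz₂⟩ := exists_preimage_pullback _ _ hy.symm
  let j := (𝒱 i).idx z
  obtain ⟨w : (𝒱 i).X j, hy : (𝒱 i).f j w = z⟩ := (𝒱 i).covers z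
  refine ⟨i, j, ?_⟩
  simp_rw [diagonalCover_map]
  change x ∈ Set.range _
  simp only [diagonalCover, openCoverOfBase_I₀,
    Precoverage.ZeroHypercover.pullback₁_toPreZeroHypercover, PreZeroHypercover.pullback₁_X,
    Precoverage.ZeroHypercover.bind_toPreZeroHypercover, openCoverOfBase_X,
    PreZeroHypercover.bind_X, openCoverOfLeftRight_I₀, openCoverOfLeftRight_X]
  rw [range_map]
  simp [← H, ← hz₁, ← hy]

theorem isClosed_range_diagonal_of_t2Space [T2Space X] :
    IsClosed (Set.range (pullback.diagonal f).base) := by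
  let 𝒰 := Y.affineCover
  let 𝒱 (i) := (pullback f (𝒰.f i)).affineCover
  set W := diagonalCoverDiagonalRange f 𝒰 𝒱 with hW
  have hcl : IsClosedImmersion (pullback.diagonal f ∣_ W) :=
    isClosedImmersion_diagonal_restrict_diagonalCoverDiagonalRange f 𝒰 𝒱
  rw [← isOpen_compl_iff, isOpen_iff_mem_nhds]
  intro z hz
  by_cases H : (pullback.fst f f).base z = (pullback.snd f f).base z
  · have hzW : z ∈ W := mem_diagonalCoverDiagonalRange_of_fst_eq_snd f 𝒰 𝒱 z H
    -- the range of the restricted diagonal is closed in `W`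
    have hclosed : IsClosed (Set.range (pullback.diagonal f ∣_ W).base) :=
      (pullback.diagonal f ∣_ W).isClosedEmbedding.isClosed_range
    have hrange : Set.range (pullback.diagonal f ∣_ W).base =
        ((↑) : W → ↑(pullback f f)) ⁻¹' Set.range (pullback.diagonal f).base := by
      rw [morphismRestrict_base]
      exact Set.range_restrictPreimage _ _
    rw [hrange] at hclosed
    have hopen : IsOpen (((↑) : W → ↑(pullback f f)) ⁻¹' (Set.range (pullback.diagonal f).base)ᶜ) := by
      rw [Set.preimage_compl]; exact hclosed.isOpen_compl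
    have hopen' := W.2.isOpenMap_subtype_val _ hopen
    refine Filter.mem_of_superset (hopen'.mem_nhds ⟨⟨z, hzW⟩, hz, rfl⟩) ?_
    rintro _ ⟨w, hw, rfl⟩
    exact hw
  · obtain ⟨U, V, hU, hV, hxU, hyV, hdisj⟩ := t2_separation H
    have hN : IsOpen ((pullback.fst f f).base ⁻¹' U ∩ (pullback.snd f f).base ⁻¹' V) :=
      (hU.preimage (pullback.fst f f).continuous).inter (hV.preimage (pullback.snd f f).continuous)
    refine Filter.mem_of_superset (hN.mem_nhds ⟨hxU, hyV⟩) ?_
    rintro w ⟨hw1, hw2⟩ ⟨t, rfl⟩
    have h1 : (pullback.fst f f).base ((pullback.diagonal f).base t) = t := by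
      rw [← Scheme.Hom.comp_apply, pullback.diagonal_fst]; rfl
    have h2 : (pullback.snd f f).base ((pullback.diagonal f).base t) = t := by
      rw [← Scheme.Hom.comp_apply, pullback.diagonal_snd]; rfl
    rw [Set.mem_preimage, h1] at hw1
    rw [Set.mem_preimage, h2] at hw2
    exact Set.disjoint_iff.mp hdisj ⟨hw1, hw2⟩

theorem isSeparated_of_t2Space [T2Space X] : IsSeparated f := by
  constructor
  exact IsClosedImmersion.of_isPreimmersion _ (isClosed_range_diagonal_of_t2Space f)

end Groth.Agent.Helper4
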