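import Mathlib
import Groth.Prelude.Def_CohCx

/-! Consequences of the Milnor exact sequence for derived limits in a triangulated category. -/

set_option autoImplicit false
universe v u

open CategoryTheory CategoryTheory.Limits Pretriangulated Opposite

namespace Groth.Agent.Helper4.MilnorSeq

variable {T : Type u} [Category.{v} T] [Preadditive T] [HasZeroObject T] [HasShift T ℤ]
  [∀ n : ℤ, (shiftFunctor T n).Additive] [Pretriangulated T]
  (K : ℕ → T) (t : ∀ n, K (n + 1) ⟶ K n) [HasProduct K] (L : T) (a : ∀ n, L ⟶ K n)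

/-- the map `1 - shift` -/
noncomputable abbrev b : ∏ᶜ K ⟶ ∏ᶜ K := Pi.lift fun n => Pi.π K n - Pi.π K (n + 1) ≫ t n

omit [HasZeroObject T] [∀ n : ℤ, (shiftFunctor T n).Additive] [Pretriangulated T] in
lemma shift_pi_ext (m : ℤ) {V : T} (g g' : V ⟶ (∏ᶜ K)⟦m⟧)
    (h : ∀ k, g ≫ (Pi.π K k)⟦m⟧' = g' ≫ (Pi.π K k)⟦m⟧') : g = g' := by
  have hl : IsLimit ((shiftFunctor T m).mapCone (limit.cone (Discrete.functor K))) :=
    isLimitOfPreserves _ (limit.isLimit _)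
  apply hl.hom_ext
  rintro ⟨k⟩
  exact h k

omit [HasZeroObject T] [∀ n : ℤ, (shiftFunctor T n).Additive] [Pretriangulated T] in
lemma shift_pi_lift (m : ℤ) {V : T} (g : ∀ k, V ⟶ (K k)⟦m⟧) :
    ∃ f : V ⟶ (∏ᶜ K)⟦m⟧, ∀ k, f ≫ (Pi.π K k)⟦m⟧' = g k := by
  have hl : IsLimit ((shiftFunctor T m).mapCone (limit.cone (Discrete.functor K))) :=
    isLimitOfPreserves _ (limit.isLimit _)
  let c : Cone (Discrete.functor K ⋙ shiftFunctor T m) :=
    { pt := V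
      π := Discrete.natTrans (fun k => g k.as) }
  exact ⟨hl.lift c, fun k => hl.fac c ⟨k⟩⟩

omit [HasZeroObject T] [Pretriangulated T] in
lemma b_shift_π (m : ℤ) (k : ℕ) : (b K t)⟦m⟧' ≫ (Pi.π K k)⟦m⟧' =
    (Pi.π K k)⟦m⟧' - (Pi.π K (k + 1))⟦m⟧' ≫ (t k)⟦m⟧' := by
  rw [← Functor.map_comp, Pi.lift_π, Functor.map_sub, Functor.map_comp]

variable {K t L a}

/-- surjectivity onto compatible families -/
theorem exists_lift (hL : CohCx.IsRlimVia K t L a) (X : T) (m : ℤ) (x : ∀ n, X ⟶ (K n)⟦m⟧)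
    (hx : ∀ n, x (n + 1) ≫ (t n)⟦m⟧' = x n) :
    ∃ y : X ⟶ L⟦m⟧, ∀ n, y ≫ (a n)⟦m⟧' = x n := by
  obtain ⟨c, hT⟩ := hL
  obtain ⟨f, hf⟩ := shift_pi_lift K m x
  have hfb : f ≫ (b K t)⟦m⟧' = 0 := by
    apply shift_pi_ext K m
    intro k
    rw [Category.assoc, b_shift_π, Preadditive.comp_sub, hf, ← Category.assoc, hf, hx, sub_self,
      zero_comp]
  have hex := (preadditiveCoyoneda.obj (op X)).homologySequence_exact₂ _ hT m
  rw [ShortComplex.ab_exact_iff] at hex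
  obtain ⟨(y : X ⟶ L⟦m⟧), (hy : y ≫ (Pi.lift a)⟦m⟧' = f)⟩ := hex f hfb
  refine ⟨y, fun n => ?_⟩
  have h1 : y ≫ (a n)⟦m⟧' = (y ≫ (Pi.lift a)⟦m⟧') ≫ (Pi.π K n)⟦m⟧' := by
    rw [Category.assoc, ← Functor.map_comp, Pi.lift_π]
  rw [h1, hy, hf]

/-- injectivity when `R¹lim` vanishes -/
theorem eq_zero (hL : CohCx.IsRlimVia K t L a) (X : T) (m : ℤ)
    (h : CohCx.LimOneIsZero (fun n => X ⟶ (K n)⟦m - 1⟧)
      (fun n => Preadditive.rightComp _ ((t n)⟦m - 1⟧')))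
    (y : X ⟶ L⟦m⟧) (hy : ∀ n, y ≫ (a n)⟦m⟧' = 0) : y = 0 := by
  obtain ⟨c, hT⟩ := hL
  let F := preadditiveCoyoneda.obj (op X)
  have hy0 : y ≫ (Pi.lift a)⟦m⟧' = 0 := by
    apply shift_pi_ext K m
    intro k
    rw [Category.assoc, ← Functor.map_comp, Pi.lift_π, hy, zero_comp]
  have hex := F.homologySequence_exact₁ _ hT (m - 1) m (by omega)
  rw [ShortComplex.ab_exact_iff] at hex
  obtain ⟨g, hg⟩ := hex y hy0
  -- `g = g' ≫ b`
  have hsurj : ∃ g' : X ⟶ (∏ᶜ K)⟦m - 1⟧, g' ≫ (b K t)⟦m - 1⟧' = g := by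
    obtain ⟨z, hz⟩ := h (fun n => g ≫ (Pi.π K n)⟦m - 1⟧')
    obtain ⟨g', hg'⟩ := shift_pi_lift K (m - 1) z
    refine ⟨g', ?_⟩
    apply shift_pi_ext K (m - 1)
    intro k
    rw [Category.assoc, b_shift_π, Preadditive.comp_sub, hg', ← Category.assoc, hg']
    exact congrFun hz k
  obtain ⟨g', rfl⟩ := hsurj
  have h0 := F.comp_homologySequenceδ _ hT (m - 1) m (by omega)
  have h1 := congrArg (fun φ => φ.hom g') h0
  rw [← hg]
  exact h1

end Groth.Agent.Helper4.MilnorSeq
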