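import Mathlib
import Groth.Prelude.Def_CohCx
import Groth.Agent.Helper4.MilnorSeq

/-! Derived limits: compatibility of the structure maps, and a class with zero image in one
stage is zero under Mittag-Leffler-type hypotheses. -/

set_option autoImplicit false
set_option linter.unusedSectionVars false
universe v u

open CategoryTheory CategoryTheory.Limits Pretriangulated Opposite

namespace Groth.Agent.Helper4.MilnorInj

variable {T : Type u} [Category.{v} T] [Preadditive T] [HasZeroObject T] [HasShift T ℤ]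
  [∀ n : ℤ, (shiftFunctor T n).Additive] [Pretriangulated T]
  {K : ℕ → T} {t : ∀ n, K (n + 1) ⟶ K n} [HasProduct K] {L : T} {a : ∀ n, L ⟶ K n}

theorem a_succ_comp (hL : CohCx.IsRlimVia K t L a) (n : ℕ) : a (n + 1) ≫ t n = a n := by
  obtain ⟨c, hT⟩ := hL
  have h := comp_distTriang_mor_zero₁₂ _ hT
  change Pi.lift a ≫ Pi.lift (fun n => Pi.π K n - Pi.π K (n + 1) ≫ t n) = 0 at h
  have h2 := congrArg (fun φ => φ ≫ Pi.π K n) h
  simp only [Category.assoc, Pi.lift_π, Preadditive.comp_sub, zero_comp, Pi.lift_π_assoc] at h2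
  exact (sub_eq_zero.1 h2).symm

theorem a_comp_transition (hL : CohCx.IsRlimVia K t L a) (n k : ℕ) :
    a (n + k) ≫ CohCx.transition K t n k = a n := by
  induction k with
  | zero => exact Category.comp_id _
  | succ k ih =>
    change a (n + k + 1) ≫ t (n + k) ≫ CohCx.transition K t n k = a n
    rw [← Category.assoc, a_succ_comp hL, ih]

theorem comp_a_eq_zero_of_le (hL : CohCx.IsRlimVia K t L a) {X : T} (m : ℤ)
    (y : X ⟶ L⟦m⟧) (N : ℕ) (hy : y ≫ (a N)⟦m⟧' = 0) : ∀ d n : ℕ, n + d = N → y ≫ (a n)⟦m⟧' = 0 := by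
  intro d
  induction d with
  | zero => intro n hn; obtain rfl : n = N := by omega
            exact hy
  | succ d ih =>
    intro n hn
    have h1 := ih (n + 1) (by omega)
    rw [← a_succ_comp hL n, Functor.map_comp, ← Category.assoc, h1, zero_comp]

theorem eq_zero_of_stage (hL : CohCx.IsRlimVia K t L a) (X : T) (m : ℤ) (N : ℕ)
    (h1 : CohCx.LimOneIsZero (fun n => X ⟶ (K n)⟦m - 1⟧)
      (fun n => Preadditive.rightComp _ ((t n)⟦m - 1⟧')))
    (h2 : ∀ k : ℕ, Function.Injective
      (Preadditive.rightComp X ((shiftFunctor T m).map (CohCx.transition K t N k))))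
    (y : X ⟶ L⟦m⟧) (hy : y ≫ (a N)⟦m⟧' = 0) : y = 0 := by
  apply Groth.Agent.Helper4.MilnorSeq.eq_zero hL X m h1 y
  intro n
  by_cases hn : n ≤ N
  · exact comp_a_eq_zero_of_le hL m y N hy (N - n) n (by omega)
  · obtain ⟨k, rfl⟩ : ∃ k, n = N + k := ⟨n - N, by omega⟩
    apply h2 k
    change (y ≫ (a (N + k))⟦m⟧') ≫ (CohCx.transition K t N k)⟦m⟧' = 0 ≫ _
    rw [Category.assoc, ← Functor.map_comp, a_comp_transition hL, hy, zero_comp]

end Groth.Agent.Helper4.MilnorInj
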