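import Mathlib
import Groth.Prelude.Def_CohCx
import Groth.Agent.Helper9.LC6
import Groth.Agent.Helper4.MilnorInj

/-! Local algebra for left-completeness: from vanishing of `Extᵏ(G, H^{m-k}(E))` for `k > p m`
to injectivity / bijectivity of the transition maps of `Hom(G[0], (En n)⟦j⟧)`. -/

set_option autoImplicit false
set_option linter.unusedSectionVars false
set_option linter.unusedVariables false
universe w' w v u

open CategoryTheory Limits Pretriangulated DerivedCategory DerivedCategory.TStructure Opposite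

namespace Groth.Agent.Helper4.LClocal

open Groth.Agent.Helper9.LC3 Groth.Agent.Helper9.LC2

variable {A : Type u} [Category.{v} A] [Abelian A] [HasDerivedCategory.{w} A]

/-- maps `G[−i] ⟶ F[−j]` vanish when `Ext^{i-j}(G, F)` does -/
theorem hom_single_eq_zero [HasExt.{w'} A] (G F : A) (i j : ℤ)
    (h : ∀ k : ℕ, (k : ℤ) = i - j → Subsingleton (Abelian.Ext.{w'} G F k))
    (f : W G i ⟶ W F j) : f = 0 := by
  by_cases hij : i < j
  · exact t.zero_of_isLE_of_isGE f i j hij inferInstance inferInstance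
  · obtain ⟨n, hn⟩ : ∃ n : ℕ, (n : ℤ) = i - j := ⟨(i - j).toNat, by omega⟩
    haveI : Subsingleton (ShiftedHom ((singleFunctor A 0).obj G) ((singleFunctor A 0).obj F)
        (n : ℤ)) := by
      haveI := h n hn
      exact (Abelian.Ext.homEquiv (X := G) (Y := F) (n := n)).symm.subsingleton
    let f' : W G 0 ⟶ (W F 0)⟦(n : ℤ)⟧ :=
      (wShift G i 0 i (by omega)).inv ≫ f⟦i⟧' ≫ (wShift F i (j - i) j (by omega)).hom ≫
        (wShift F (n : ℤ) (j - i) 0 (by omega)).inv
    have hf' : f' = 0 := Subsingleton.elim _ _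
    have h2 : f⟦i⟧' = 0 := by
      have h3 : (wShift G i 0 i (by omega)).hom ≫ f' ≫
          (wShift F (n : ℤ) (j - i) 0 (by omega)).hom ≫
            (wShift F i (j - i) j (by omega)).inv = f⟦i⟧' := by
        simp only [f', Category.assoc, Iso.hom_inv_id, Category.comp_id,
          Iso.hom_inv_id_assoc, Iso.inv_hom_id_assoc]
      rw [← h3, hf', zero_comp, comp_zero]
    apply (shiftFunctor (DerivedCategory A) i).map_injective
    rw [h2, Functor.map_zero]

variable (E : DerivedCategory A) (En : ℕ → DerivedCategory A)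
  (s : ∀ n, En (n + 1) ⟶ En n) (τ : ∀ n, E ⟶ En n)
  (hτs : ∀ n, τ (n + 1) ≫ s n = τ n)
  (hGE : ∀ n : ℕ, (En n).IsGE (-(n : ℤ)))
  (hiso : ∀ (n : ℕ) (p : ℤ), -(n : ℤ) ≤ p → IsIso ((homologyFunctor A p).map (τ n)))
  [HasExt.{w'} A] (G : A) (p : ℤ → ℤ)
  (hv : ∀ (m : ℤ) (k : ℕ), p m < k →
    Subsingleton (Abelian.Ext.{w'} G ((homologyFunctor A (m - k)).obj E) k))

include hτs hGE hiso hv in
/-- no maps from `G[0]` to the `j`-shifted fibre of `s n`, for `p j < j + n + 1` -/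
lemma hom_fibre_eq_zero (n : ℕ) (j : ℤ) (hj : p j < j + n + 1)
    {Z : DerivedCategory A} {F : A} (e : Z ≅ W F (-(n : ℤ) - 1))
    (eF : F ≅ (homologyFunctor A (-(n : ℤ) - 1)).obj E) (y : W G 0 ⟶ Z⟦j⟧) : y = 0 := by
  let ε : Z⟦j⟧ ≅ W ((homologyFunctor A (-(n : ℤ) - 1)).obj E) (-(n : ℤ) - 1 - j) :=
    (shiftFunctor _ j).mapIso e ≪≫ wShift F j (-(n : ℤ) - 1 - j) (-(n : ℤ) - 1) (by omega) ≪≫
      (singleFunctor A (-(n : ℤ) - 1 - j)).mapIso eF
  have h0 : y ≫ ε.hom = 0 := by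
    apply hom_single_eq_zero G _ 0 (-(n : ℤ) - 1 - j)
    intro k hk
    have hk' : p j < k := by omega
    have h1 := hv j k hk'
    have h2 : j - (k : ℤ) = -(n : ℤ) - 1 := by omega
    rw [h2] at h1
    exact h1
  rw [← cancel_mono ε.hom, h0, zero_comp]

include hτs hGE hiso hv in
lemma injective_comp_s (n : ℕ) (j : ℤ) (hj : p j < j + n + 1) :
    Function.Injective (Preadditive.rightComp (W G 0) ((s n)⟦j⟧')) := by
  obtain ⟨Z, f, h, hT, F, ⟨e⟩, ⟨eF⟩⟩ :=
    Groth.Agent.Helper9.LC4.exists_fibre E En s τ hτs hGE hiso n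
  rw [injective_iff_map_eq_zero]
  intro x hx
  have hex := (preadditiveCoyoneda.obj (op (W G 0))).homologySequence_exact₂ _ hT j
  rw [ShortComplex.ab_exact_iff] at hex
  obtain ⟨(y : W G 0 ⟶ Z⟦j⟧), (hy : y ≫ f⟦j⟧' = x)⟩ := hex x hx
  rw [← hy, hom_fibre_eq_zero E En s τ hτs hGE hiso G p hv n j hj e eF y, zero_comp]

include hτs hGE hiso hv in
lemma surjective_comp_s (n : ℕ) (j : ℤ) (hj : p (j + 1) < j + n + 2) :
    Function.Surjective (Preadditive.rightComp (W G 0) ((s n)⟦j⟧')) := by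
  obtain ⟨Z, f, h, hT, F, ⟨e⟩, ⟨eF⟩⟩ :=
    Groth.Agent.Helper9.LC4.exists_fibre E En s τ hτs hGE hiso n
  intro x
  have hex := (preadditiveCoyoneda.obj (op (W G 0))).homologySequence_exact₃ _ hT j (j + 1) rfl
  rw [ShortComplex.ab_exact_iff] at hex
  obtain ⟨(y : W G 0 ⟶ (En (n + 1))⟦j⟧), (hy : y ≫ (s n)⟦j⟧' = x)⟩ := hex x
    (hom_fibre_eq_zero E En s τ hτs hGE hiso G p hv n (j + 1) (by omega) e eF _)
  exact ⟨y, hy⟩

include hτs hGE hiso hv in
lemma injective_comp_transition (n : ℕ) (j : ℤ) (hj : p j < j + n + 1) (k : ℕ) :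
    Function.Injective (Preadditive.rightComp (W G 0)
      ((shiftFunctor (DerivedCategory A) j).map (CohCx.transition En s n k))) := by
  induction k with
  | zero =>
    intro x x' hxx'
    change x ≫ (𝟙 (En n))⟦j⟧' = x' ≫ (𝟙 (En n))⟦j⟧' at hxx'
    simpa using hxx'
  | succ k ih =>
    intro x x' hxx'
    change x ≫ (s (n + k) ≫ CohCx.transition En s n k)⟦j⟧' =
      x' ≫ (s (n + k) ≫ CohCx.transition En s n k)⟦j⟧' at hxx'
    rw [Functor.map_comp, ← Category.assoc, ← Category.assoc] at hxx'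
    exact injective_comp_s E En s τ hτs hGE hiso G p hv (n + k) j (by push_cast; omega) (ih hxx')

include hτs hGE hiso hv in
lemma limOneIsZero (j : ℤ) :
    CohCx.LimOneIsZero (fun n => W G 0 ⟶ (En n)⟦j⟧)
      (fun n => Preadditive.rightComp _ ((s n)⟦j⟧')) := by
  intro y
  obtain ⟨x, hx⟩ := Groth.Agent.Helper9.LC1.surj_one_sub
    (max (p j - j).toNat (p (j + 1) - j - 1).toNat) (fun n => W G 0 ⟶ (En n)⟦j⟧)
    (fun n => Preadditive.rightComp _ ((s n)⟦j⟧'))
    (fun k hk => ⟨injective_comp_s E En s τ hτs hGE hiso G p hv k j (by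
        have := le_trans (le_max_left _ _) hk
        omega),
      surjective_comp_s E En s τ hτs hGE hiso G p hv k j (by
        have := le_trans (le_max_right _ _) hk
        omega)⟩) y
  exact ⟨x, funext hx⟩

end Groth.Agent.Helper4.LClocal
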