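import Mathlib
import Groth.Agent.Helper9.LC2
import Groth.Agent.Helper9.LC3
import Groth.Agent.Helper4.LClocal

/-! Test objects of finite cohomological dimension with respect to a class of objects: dévissage. -/

set_option autoImplicit false
set_option linter.unusedSectionVars false
set_option linter.unusedVariables false
universe w' w v u

open CategoryTheory Limits Pretriangulated DerivedCategory DerivedCategory.TStructure Opposite

namespace Groth.Agent.Helper4.DimBound

open Groth.Agent.Helper9.LC3 Groth.Agent.Helper9.LC2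

variable {A : Type u} [Category.{v} A] [Abelian A] [HasDerivedCategory.{w} A] [HasExt.{w'} A]

lemma subsingleton_ext_of_iso_right (G : A) {F F' : A} (e : F ≅ F') (n : ℕ)
    (h : Subsingleton (Abelian.Ext.{w'} G F n)) : Subsingleton (Abelian.Ext.{w'} G F' n) := by
  refine ⟨fun α β => ?_⟩
  have key : ∀ γ : Abelian.Ext.{w'} G F' n,
      γ = (γ.comp (Abelian.Ext.mk₀ e.inv) (add_zero n)).comp (Abelian.Ext.mk₀ e.hom)
        (add_zero n) := by
    intro γ
    rw [Abelian.Ext.comp_assoc_of_second_deg_zero, Abelian.Ext.mk₀_comp_mk₀, e.inv_hom_id,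
      Abelian.Ext.comp_mk₀_id]
  rw [key α, key β, Subsingleton.elim (α.comp (Abelian.Ext.mk₀ e.inv) (add_zero n))
    (β.comp (Abelian.Ext.mk₀ e.inv) (add_zero n))]

lemma subsingleton_ext_of_isZero (G : A) {F : A} (hF : IsZero F) (n : ℕ) :
    Subsingleton (Abelian.Ext.{w'} G F n) := by
  refine ⟨fun α β => ?_⟩
  have key : ∀ γ : Abelian.Ext.{w'} G F n, γ = 0 := by
    intro γ
    have : γ = γ.comp (Abelian.Ext.mk₀ (𝟙 F)) (add_zero n) := (Abelian.Ext.comp_mk₀_id γ).symm
    rw [this, hF.eq_of_src (𝟙 F) 0, Abelian.Ext.mk₀_zero, Abelian.Ext.comp_zero]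
  rw [key α, key β]

variable (G : A) (d : ℕ)

/-- bounded dévissage: no maps from `G[-i]` to a bounded object whose cohomology objects have no
`Extᵏ` from `G` for `k > d`, when `i` is more than `d` above the amplitude. -/
theorem hom_eq_zero_of_bounded : ∀ (N : ℕ) (Y : DerivedCategory A) (a : ℤ)
    (_ : Y.IsGE a) (_ : Y.IsLE (a + N - 1))
    (_ : ∀ (p : ℤ) (k : ℕ), d < k →
      Subsingleton (Abelian.Ext.{w'} G ((homologyFunctor A p).obj Y) k))
    (i : ℤ) (_ : a + N - 1 + d < i) (f : W G i ⟶ Y), f = 0 := by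
  intro N
  induction N with
  | zero =>
    intro Y a h1 h2 _ i _ f
    have : IsZero Y := t.isZero Y (a + (0 : ℕ) - 1) a (by simp)
    exact this.eq_of_tgt _ _
  | succ N ih =>
    intro Y a h1 h2 hac i hi f
    have hb : a + ((N + 1 : ℕ) : ℤ) - 1 = a + N := by push_cast; ring
    rw [hb] at h2 hi
    have hT := t.triangleLTGE_distinguished (a + N) Y
    haveI : ((t.truncGE (a + N)).obj Y).IsLE (a + N) := inferInstance
    haveI : ((t.truncGE (a + N)).obj Y).IsGE (a + N) := inferInstance
    obtain ⟨F, ⟨e⟩, ⟨eF⟩⟩ := exists_iso_single ((t.truncGE (a + N)).obj Y) (a + N)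
    haveI := isIso_homologyMap_truncGEπ Y (a + N) (a + N) le_rfl
    let eF' : (homologyFunctor A (a + N)).obj Y ≅ F :=
      asIso ((homologyFunctor A (a + N)).map ((t.truncGEπ (a + N)).app Y)) ≪≫ eF.symm
    have h0 : f ≫ (t.truncGEπ (a + N)).app Y = 0 := by
      have h00 : (f ≫ (t.truncGEπ (a + N)).app Y) ≫ e.hom = 0 := by
        apply Groth.Agent.Helper4.LClocal.hom_single_eq_zero G F i (a + N)
        intro k hk
        exact subsingleton_ext_of_iso_right G eF' k (hac (a + N) k (by omega))
      rw [← cancel_mono e.hom, h00, zero_comp]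
    obtain ⟨f₁, hf₁⟩ : ∃ f₁ : W G i ⟶ (t.truncLT (a + N)).obj Y,
        f = f₁ ≫ (t.truncLTι (a + N)).app Y := Triangle.coyoneda_exact₂ _ hT f h0
    have hf₁0 : f₁ = 0 := by
      refine ih ((t.truncLT (a + N)).obj Y) a inferInstance
        (t.isLE_of_le _ (a + N - 1) (a + N - 1) le_rfl) ?_ i (by omega) f₁
      intro p k hk
      by_cases hp : p < a + N
      · haveI := isIso_homologyMap_truncLTι Y (a + N) p hp
        exact subsingleton_ext_of_iso_right G
          (asIso ((homologyFunctor A p).map ((t.truncLTι (a + N)).app Y))).symm k (hac p k hk)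
      · exact subsingleton_ext_of_isZero G
          (isZero_of_isLE ((t.truncLT (a + N)).obj Y) (a + N - 1) p (by omega)) k
    rw [hf₁, hf₁0, zero_comp]

/-- bounded below dévissage -/
theorem hom_eq_zero_of_isGE (Z : DerivedCategory A) (a : ℤ) [Z.IsGE a]
    (hac : ∀ (p : ℤ) (k : ℕ), d < k →
      Subsingleton (Abelian.Ext.{w'} G ((homologyFunctor A p).obj Z) k))
    (m : ℤ) (hz : ∀ i : ℤ, m - d ≤ i → i ≤ m → IsZero ((homologyFunctor A i).obj Z))
    (f : W G m ⟶ Z) : f = 0 := by
  let c : ℤ := m - d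
  have hT := t.triangleLTGE_distinguished c Z
  haveI hGE : ((t.truncGE c).obj Z).IsGE (m + 1) := by
    rw [isGE_iff]
    intro i hi
    by_cases hic : i < c
    · exact isZero_of_isGE ((t.truncGE c).obj Z) c i hic
    · haveI := isIso_homologyMap_truncGEπ Z c i (by omega)
      exact (hz i (by omega) (by omega)).of_iso
        (asIso ((homologyFunctor A i).map ((t.truncGEπ c).app Z))).symm
  have h0 : f ≫ (t.truncGEπ c).app Z = 0 :=
    t.zero_of_isLE_of_isGE _ m (m + 1) (by omega) inferInstance hGE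
  obtain ⟨f₁, hf₁⟩ : ∃ f₁ : W G m ⟶ (t.truncLT c).obj Z, f = f₁ ≫ (t.truncLTι c).app Z :=
    Triangle.coyoneda_exact₂ _ hT f h0
  haveI : Z.IsGE (min a c) := t.isGE_of_ge Z (min a c) a (min_le_left _ _)
  have hf₁0 : f₁ = 0 := by
    refine hom_eq_zero_of_bounded G d (c - min a c).toNat ((t.truncLT c).obj Z) (min a c)
      inferInstance ?_ ?_ m ?_ f₁
    · have hle : min a c ≤ c := min_le_right _ _
      exact t.isLE_of_le _ (c - 1) _ (by omega)
    · intro p k hk
      by_cases hp : p < c
      · haveI := isIso_homologyMap_truncLTι Z c p hp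
        exact subsingleton_ext_of_iso_right G
          (asIso ((homologyFunctor A p).map ((t.truncLTι c).app Z))).symm k (hac p k hk)
      · exact subsingleton_ext_of_isZero G
          (isZero_of_isLE ((t.truncLT c).obj Z) (c - 1) p (by omega)) k
    · have hle : min a c ≤ c := min_le_right _ _
      have : ((c - min a c).toNat : ℤ) = c - min a c := Int.toNat_of_nonneg (by omega)
      omega
  rw [hf₁, hf₁0, zero_comp]

end Groth.Agent.Helper4.DimBound
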