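import Mathlib
import Groth.Prelude.Def_WeakSerre
import Groth.Agent.Helper4.DimBound
import Groth.Agent.Helper4.WSerreLib
import Groth.Agent.Helper4.HDUsec

/-! A morphism in `D^+_P` inducing isomorphisms on cohomology in a range induces a bijection on
`Hom(G[0], -⟦m⟧)` for a test object `G` of finite cohomological dimension relative to `P`. -/

set_option autoImplicit false
set_option linter.unusedSectionVars false
set_option linter.unusedVariables false
universe w' w v u

open CategoryTheory Limits Pretriangulated DerivedCategory DerivedCategory.TStructure Opposite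

namespace Groth.Agent.Helper4.DimBij

open Groth.Agent.Helper9.LC3 Groth.Agent.Helper9.LC2

variable {A : Type u} [Category.{v} A] [Abelian A] [HasDerivedCategory.{w} A] [HasExt.{w'} A]

/-- the cone of a morphism of bounded below objects is bounded below -/
lemma exists_isGE_cone (T : Triangle (DerivedCategory A)) (hT : T ∈ distTriang _)
    (a' a'' : ℤ) (h₁ : T.obj₁.IsGE a') (h₂ : T.obj₂.IsGE a'') :
    T.obj₃.IsGE (min (a' - 1) a'') := by
  rw [isGE_iff]
  intro i hi
  have hex := HomologySequence.exact₃ T hT i (i + 1) rfl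
  refine hex.isZero_of_both_zeros ?_ ?_
  · exact (isZero_of_isGE T.obj₂ a'' i (lt_of_lt_of_le hi (min_le_right _ _))).eq_of_src _ _
  · exact (isZero_of_isGE T.obj₁ a' (i + 1) (by
      have := lt_of_lt_of_le hi (min_le_left _ _)
      omega)).eq_of_tgt _ _

/-- vanishing of the cohomology of the cone in a range -/
lemma isZero_homology_cone (T : Triangle (DerivedCategory A)) (hT : T ∈ distTriang _) (q : ℤ)
    (h₁ : IsIso ((homologyFunctor A q).map T.mor₁))
    (h₂ : IsIso ((homologyFunctor A (q + 1)).map T.mor₁)) :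
    IsZero ((homologyFunctor A q).obj T.obj₃) := by
  have hex := HomologySequence.exact₃ T hT q (q + 1) rfl
  refine hex.isZero_of_both_zeros ?_ ?_
  · exact (HomologySequence.epi_homologyMap_mor₁_iff T hT q).1 inferInstance
  · exact (HomologySequence.mono_homologyMap_mor₁_iff T hT q (q + 1) rfl).1 inferInstance

variable (G : A) (d : ℕ) (P : ObjectProperty A) [WSerre.IsWeakSerre P]
  (hG : ∀ F : A, P F → ∀ k : ℕ, d < k → Subsingleton (Abelian.Ext.{w'} G F k))

include hG in
theorem bijective_comp_of_isIso {K' K'' : DerivedCategory A} (τ : K' ⟶ K'')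
    (hK' : WSerre.cohInPlus P K') (hK'' : WSerre.cohInPlus P K'') (m : ℤ)
    (hτ : ∀ q : ℤ, m - d - 1 ≤ q → q ≤ m + 1 → IsIso ((homologyFunctor A q).map τ)) :
    Function.Bijective (Preadditive.rightComp (W G 0) (τ⟦m⟧')) := by
  obtain ⟨Z, b, c, hT⟩ := distinguished_cocone_triangle τ
  obtain ⟨hP', a', ha'⟩ := hK'
  obtain ⟨hP'', a'', ha''⟩ := hK''
  have hZP : WSerre.cohIn P Z :=
    Groth.Agent.Helper4.WSerreLib.cohIn_ext P _ (rot_of_distTriang _ hT) hP''
      (Groth.Agent.Helper4.WSerreLib.cohIn_shift P K' 1 hP')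
  haveI hZge : Z.IsGE (min (a' - 1) a'') := exists_isGE_cone _ hT a' a'' ha' ha''
  have hZ0 : ∀ q : ℤ, m - d - 1 ≤ q → q ≤ m → IsZero ((homologyFunctor A q).obj Z) :=
    fun q h1 h2 => isZero_homology_cone _ hT q (hτ q h1 (by omega)) (hτ (q + 1) (by omega) (by omega))
  have hac : ∀ (p : ℤ) (k : ℕ), d < k →
      Subsingleton (Abelian.Ext.{w'} G ((homologyFunctor A p).obj Z) k) :=
    fun p k hk => hG _ (hZP p) k hk
  have hvan : ∀ m' : ℤ, m - 1 ≤ m' → m' ≤ m → ∀ f : W G 0 ⟶ Z⟦m'⟧, f = 0 := by
    intro m' h1 h2 f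
    apply (Groth.Agent.Helper4.HDUsec.shiftAddEquiv G Z m').injective
    rw [map_zero]
    exact Groth.Agent.Helper4.DimBound.hom_eq_zero_of_isGE G d Z (min (a' - 1) a'') hac m'
      (fun i hi1 hi2 => hZ0 i (by omega) (by omega)) _
  let F := preadditiveCoyoneda.obj (op (W G 0))
  constructor
  · rw [injective_iff_map_eq_zero]
    intro x hx
    have hex := F.homologySequence_exact₁ _ hT (m - 1) m (by omega)
    rw [ShortComplex.ab_exact_iff] at hex
    obtain ⟨g, hg⟩ := hex x hx
    have hg0 : g = 0 := hvan (m - 1) le_rfl (by omega) g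
    rw [← hg, hg0, map_zero]
    rfl
  · intro x
    have hex := F.homologySequence_exact₂ _ hT m
    rw [ShortComplex.ab_exact_iff] at hex
    obtain ⟨y, hy⟩ := hex x (hvan m (by omega) le_rfl _)
    exact ⟨y, hy⟩

end Groth.Agent.Helper4.DimBij
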