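import Mathlib

/-! # Choosing a prime of coheight one in a given open of a noetherian local spectrum -/

set_option autoImplicit false
universe u

namespace Groth.Agent.Helper4.DimOneA

open IsLocalRing

/-- In a domain, a nonzero prime contained in a prime of height at most one equals it. -/
theorem eq_of_le_of_height_le_one {D : Type u} [CommRing D] [IsDomain D] (P Q : Ideal D)
    [P.IsPrime] [Q.IsPrime] (hP : P ≠ ⊥) (hPQ : P ≤ Q) (hQ : Q.height ≤ 1) : P = Q := by
  by_contra hne
  have hlt : P < Q := lt_of_le_of_ne hPQ hne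
  have h1 := Ideal.height_add_one_le_of_lt_of_isPrime hlt
  have h2 : P.height + 1 ≤ 1 := h1.trans hQ
  have h3 : P.height = 0 := by
    have : P.height ≤ 0 := by
      by_contra hc
      push Not at hc
      have : (1 : ℕ∞) ≤ P.height := Order.one_le_iff_pos.mpr hc
      have : (1 : ℕ∞) + 1 ≤ 1 := (add_le_add_left this 1).trans h2
      exact absurd this (by decide)
    exact le_antisymm this bot_le
  exact hP (Ideal.height_eq_zero_iff_eq_bot.mp h3)

/-- A noetherian local domain in which some nonzero element lies in every nonzero prime has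
only the maximal ideal as nonzero prime. -/
theorem eq_maximalIdeal_of_forall_mem {D : Type u} [CommRing D] [IsDomain D] [IsLocalRing D]
    [IsNoetherianRing D] (h : D) (h0 : h ≠ 0)
    (hh : ∀ P : Ideal D, P.IsPrime → P ≠ ⊥ → h ∈ P) (P : Ideal D) [P.IsPrime] (hP : P ≠ ⊥) :
    P = maximalIdeal D := by
  by_contra hPm
  have hPlt : P < maximalIdeal D := lt_of_le_of_ne (le_maximalIdeal Ideal.IsPrime.ne_top') hPm
  by_cases hm : maximalIdeal D ∈ (Ideal.span {h}).minimalPrimes
  · have h1 := Ideal.height_le_one_of_isPrincipal_of_mem_minimalPrimes _ _ hm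
    exact hPm (eq_of_le_of_height_le_one P (maximalIdeal D) hP hPlt.le h1)
  · -- prime avoidance
    have hfin : (Ideal.span {h}).minimalPrimes.Finite :=
      Ideal.finite_minimalPrimes_of_isNoetherianRing D _
    have hnot : ¬ ((maximalIdeal D : Set D) ⊆
        ⋃ Q ∈ (↑hfin.toFinset : Set (Ideal D)), ((fun Q : Ideal D => Q) Q : Set D)) := by
      rw [Ideal.subset_union_prime (R := D) (s := hfin.toFinset) (f := fun Q : Ideal D => Q) ⊥ ⊥
        (fun Q hQ _ _ => (hfin.mem_toFinset.mp hQ).1.1)]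
      rintro ⟨Q, hQ, hle⟩
      have hQ' := hfin.mem_toFinset.mp hQ
      haveI := hQ'.1.1
      have : Q = maximalIdeal D :=
        le_antisymm (le_maximalIdeal Ideal.IsPrime.ne_top') hle
      exact hm (this ▸ hQ')
    rw [Set.not_subset] at hnot
    obtain ⟨x, hxm, hxn⟩ := hnot
    have hxn' : ∀ Q ∈ (Ideal.span {h}).minimalPrimes, x ∉ Q := by
      intro Q hQ hxQ
      apply hxn
      simp only [Set.mem_iUnion]
      exact ⟨Q, by simpa using hQ, hxQ⟩
    have hle : Ideal.span {x} ≤ maximalIdeal D := by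
      rw [Ideal.span_le]; simpa using hxm
    obtain ⟨Q, hQmin, hQm⟩ := Ideal.exists_minimalPrimes_le hle
    haveI := hQmin.1.1
    have hxQ : x ∈ Q := hQmin.1.2 (Ideal.subset_span rfl)
    have hQh := Ideal.height_le_one_of_isPrincipal_of_mem_minimalPrimes _ _ hQmin
    -- x ≠ 0
    obtain ⟨P1, hP1⟩ := (Ideal.span {h}).nonempty_minimalPrimes (by
      intro htop
      have : h ∈ maximalIdeal D := by
        have := hh P inferInstance hP
        exact hPlt.le this
      have h1 : (1 : D) ∈ Ideal.span {h} := by rw [htop]; trivial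
      have h2 : Ideal.span {h} ≤ maximalIdeal D := by rw [Ideal.span_le]; simpa using this
      exact (Ideal.ne_top_iff_one _).mp (IsLocalRing.maximalIdeal.isMaximal D).ne_top (h2 h1))
    have hx0 : x ≠ 0 := by
      rintro rfl
      exact hxn' P1 hP1 P1.zero_mem
    have hQbot : Q ≠ ⊥ := by
      rintro rfl
      exact hx0 (by simpa using hxQ)
    have hhQ : h ∈ Q := hh Q inferInstance hQbot
    have hle2 : Ideal.span {h} ≤ Q := by rw [Ideal.span_le]; simpa using hhQ
    obtain ⟨P2, hP2min, hP2Q⟩ := Ideal.exists_minimalPrimes_le hle2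
    haveI := hP2min.1.1
    have hP2bot : P2 ≠ ⊥ := by
      rintro rfl
      have : h ∈ (⊥ : Ideal D) := hP2min.1.2 (Ideal.subset_span rfl)
      exact h0 (by simpa using this)
    have := eq_of_le_of_height_le_one P2 Q hP2bot hP2Q hQh
    exact hxn' P2 hP2min (this ▸ hxQ)

/-- In a noetherian local ring, an open subset of the spectrum containing a prime avoiding `a`
contains a prime avoiding `a` which is covered by the maximal ideal only. -/
theorem exists_prime_coheight_one {B : Type u} [CommRing B] [IsLocalRing B] [IsNoetherianRing B]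
    (V : Set (PrimeSpectrum B)) (hV : IsOpen V) (a : B) (q0 : PrimeSpectrum B) (hq0V : q0 ∈ V)
    (hq0a : a ∉ q0.asIdeal) :
    ∃ q : PrimeSpectrum B, q ∈ V ∧ a ∉ q.asIdeal ∧
      ∀ q' : Ideal B, q'.IsPrime → q.asIdeal < q' → q' = maximalIdeal B := by
  classical
  set V' : Set (PrimeSpectrum B) := V ∩ (PrimeSpectrum.basicOpen a : Set (PrimeSpectrum B)) with hV'
  have hV'o : IsOpen V' := hV.inter (PrimeSpectrum.basicOpen a).isOpen
  set 𝒮 : Set (Ideal B) := {I | ∃ h : I.IsPrime, (⟨I, h⟩ : PrimeSpectrum B) ∈ V'} with h𝒮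
  have hne : 𝒮.Nonempty := ⟨q0.asIdeal, q0.2, hq0V, hq0a⟩
  obtain ⟨q, ⟨hqprime, hqV'⟩, hmax⟩ := WellFounded.has_min wellFounded_gt 𝒮 hne
  haveI := hqprime
  obtain ⟨K, hK⟩ := (PrimeSpectrum.isClosed_iff_zeroLocus_ideal _).mp hV'o.isClosed_compl
  have hqK : ¬ (K : Set B) ⊆ q := by
    intro hc
    have : (⟨q, hqprime⟩ : PrimeSpectrum B) ∈ V'ᶜ := by rw [hK]; exact hc
    exact this hqV'
  rw [Set.not_subset] at hqK
  obtain ⟨k, hkK, hkq⟩ := hqK
  have hmk : Function.Surjective (Ideal.Quotient.mk q) := Ideal.Quotient.mk_surjective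
  haveI : IsLocalRing (B ⧸ q) := IsLocalRing.of_surjective' (Ideal.Quotient.mk q) hmk
  have hh : ∀ P : Ideal (B ⧸ q), P.IsPrime → P ≠ ⊥ → Ideal.Quotient.mk q k ∈ P := by
    intro P hP hPbot
    have hPc : (P.comap (Ideal.Quotient.mk q)).IsPrime := Ideal.comap_isPrime _ _
    have hle : q ≤ P.comap (Ideal.Quotient.mk q) := by
      conv_lhs => rw [← Ideal.mk_ker (I := q)]
      exact Ideal.ker_le_comap _
    have hne' : q ≠ P.comap (Ideal.Quotient.mk q) := by
      intro he
      apply hPbot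
      rw [← Ideal.map_comap_of_surjective _ hmk P, ← he, Ideal.map_quotient_self]
    have hlt : q < P.comap (Ideal.Quotient.mk q) := lt_of_le_of_ne hle hne'
    have hnot : P.comap (Ideal.Quotient.mk q) ∉ 𝒮 := fun hc => hmax _ hc hlt
    have hmem : (⟨P.comap (Ideal.Quotient.mk q), hPc⟩ : PrimeSpectrum B) ∈ V'ᶜ := by
      intro hc
      exact hnot ⟨hPc, hc⟩
    rw [hK] at hmem
    exact hmem hkK
  have hk0 : Ideal.Quotient.mk q k ≠ 0 := by
    rw [Ne, Ideal.Quotient.eq_zero_iff_mem]; exact hkq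
  refine ⟨⟨q, hqprime⟩, hqV'.1, hqV'.2, ?_⟩
  intro q' hq' hlt
  haveI := hq'
  have hker : RingHom.ker (Ideal.Quotient.mk q) ≤ q' := by rw [Ideal.mk_ker]; exact hlt.le
  haveI : (q'.map (Ideal.Quotient.mk q)).IsPrime := Ideal.map_isPrime_of_surjective hmk hker
  have hcm : (q'.map (Ideal.Quotient.mk q)).comap (Ideal.Quotient.mk q) = q' := by
    rw [Ideal.comap_map_of_surjective _ hmk, ← RingHom.ker_eq_comap_bot]
    exact sup_eq_left.mpr hker
  have hbot : q'.map (Ideal.Quotient.mk q) ≠ ⊥ := by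
    intro hc
    rw [hc, ← RingHom.ker_eq_comap_bot, Ideal.mk_ker] at hcm
    exact hlt.ne hcm
  have := eq_maximalIdeal_of_forall_mem (Ideal.Quotient.mk q k) hk0 hh
    (q'.map (Ideal.Quotient.mk q)) hbot
  rw [← hcm, this]
  exact IsLocalRing.eq_maximalIdeal (Ideal.comap_isMaximal_of_surjective _ hmk)

end Groth.Agent.Helper4.DimOneA
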