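import Mathlib

/-! # A closed point of a closed subset of a noetherian sober space without proper generalizations
in it is isolated in it -/

set_option autoImplicit false
universe u

namespace Groth.Agent.Helper4.DimOneB

open TopologicalSpace

theorem isolated_of_closed_minimal {Y : Type u} [TopologicalSpace Y] [NoetherianSpace Y]
    [QuasiSober Y] (F : Set Y) (hF : IsClosed F) (t : Y) (htF : t ∈ F)
    (hcl : IsClosed ({t} : Set Y)) (hmin : ∀ y ∈ F, y ⤳ t → y = t) :
    ∃ O : Set Y, IsOpen O ∧ O ∩ F = {t} := by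
  obtain ⟨S, hSfin, hScl, hSirr, hFS⟩ := NoetherianSpace.exists_finite_set_isClosed_irreducible hF
  set S' : Set (Set Y) := {Z | Z ∈ S ∧ t ∉ Z} with hS'
  have hS'fin : S'.Finite := hSfin.subset (fun Z hZ => hZ.1)
  have hcl' : IsClosed (⋃₀ S') := by
    rw [Set.sUnion_eq_biUnion]
    exact hS'fin.isClosed_biUnion (fun Z hZ => hScl Z hZ.1)
  refine ⟨(⋃₀ S')ᶜ, hcl'.isOpen_compl, ?_⟩
  ext y
  simp only [Set.mem_inter_iff, Set.mem_compl_iff, Set.mem_singleton_iff]
  constructor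
  · rintro ⟨hy1, hy2⟩
    rw [hFS] at hy2
    obtain ⟨Z, hZS, hyZ⟩ := hy2
    have htZ : t ∈ Z := by
      by_contra hc
      exact hy1 ⟨Z, ⟨hZS, hc⟩, hyZ⟩
    obtain ⟨η, hη⟩ := QuasiSober.sober (hSirr Z hZS) (hScl Z hZS)
    have hηF : η ∈ F := by rw [hFS]; exact ⟨Z, hZS, hη.mem⟩
    have hηt : η = t := hmin η hηF (hη.specializes htZ)
    have hZ : Z = {t} := by
      have := hη.def
      rw [hηt, hcl.closure_eq] at this
      exact this.symm
    rw [hZ] at hyZ
    exact hyZ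
  · rintro rfl
    refine ⟨?_, htF⟩
    rintro ⟨Z, ⟨_, hZ⟩, hyZ⟩
    exact hZ hyZ

end Groth.Agent.Helper4.DimOneB
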