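import Mathlib
import Groth.Agent.Helper4.DimOneA
import Groth.Agent.Helper4.DimOneB

/-! # One-dimensional slices through a closed point of a fibre -/

set_option autoImplicit false
universe u

namespace Groth.Agent.Helper4.DimOneC

open AlgebraicGeometry CategoryTheory Limits TopologicalSpace

theorem core {X S : Scheme.{u}} (f : X ⟶ S) [LocallyOfFiniteType f] [IsLocallyNoetherian S]
    (x : X) (hcl : IsClosed (Subtype.val ⁻¹' {x} : Set ↑(f ⁻¹' {f x}))) (U : X.Opens)
    (x' : X) (hx'U : x' ∈ U) (hsp : x' ⤳ x) (hne : f x' ≠ f x) :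
    ∃ z : X, z ∈ U ∧ z ⤳ x ∧ f z ≠ f x ∧
      ∃ O : Set X, IsOpen O ∧ O ∩ (closure {z} ∩ f ⁻¹' {f x}) = {x} := by
  haveI : IsLocallyNoetherian X := LocallyOfFiniteType.isLocallyNoetherian f
  set B := X.presheaf.stalk x with hB
  set A := S.presheaf.stalk (f x) with hA
  set φ : A ⟶ B := f.stalkMap x with hφ
  set jX : Spec B ⟶ X := X.fromSpecStalk x with hjX
  set jS : Spec A ⟶ S := S.fromSpecStalk (f x) with hjS
  have hcomp : Spec.map φ ≫ jS = jX ≫ f := Scheme.SpecMap_stalkMap_fromSpecStalk f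
  have hrange : Set.range jX = {y | y ⤳ x} := Scheme.range_fromSpecStalk
  have hjXemb : Topology.IsEmbedding jX := jX.isEmbedding
  have hjSemb : Topology.IsEmbedding jS := jS.isEmbedding
  have hjXcl : jX (IsLocalRing.closedPoint B) = x := Scheme.fromSpecStalk_closedPoint
  have hjScl : jS (IsLocalRing.closedPoint A) = f x := Scheme.fromSpecStalk_closedPoint
  -- f ∘ jX = jS ∘ comap φ
  have hfj : ∀ q : Spec B, f (jX q) = jS (PrimeSpectrum.comap φ.hom q) := by
    intro q
    have : (jX ≫ f) q = (Spec.map φ ≫ jS) q := by rw [hcomp]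
    simpa [Scheme.Hom.comp_apply, Spec.map_apply] using this
  -- x' comes from a prime q0
  obtain ⟨q0, hq0⟩ : ∃ q0 : Spec B, jX q0 = x' := by
    have : x' ∈ Set.range jX := by rw [hrange]; exact hsp
    exact this
  -- choose a0 in the maximal ideal of A with image outside q0
  have hp0 : PrimeSpectrum.comap φ.hom q0 ≠ IsLocalRing.closedPoint A := by
    intro hc
    apply hne
    rw [← hq0, hfj, hc, hjScl]
  obtain ⟨a0, ha0m, ha0q⟩ : ∃ a0 : A, a0 ∈ IsLocalRing.maximalIdeal A ∧ φ.hom a0 ∉ (q0 : PrimeSpectrum B).asIdeal := by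
    by_contra hc
    push Not at hc
    apply hp0
    apply PrimeSpectrum.ext
    apply le_antisymm
    · exact IsLocalRing.le_maximalIdeal (PrimeSpectrum.comap φ.hom q0).2.ne_top
    · intro a ha
      exact hc a ha
  -- the open V
  set V : Set (PrimeSpectrum B) := jX ⁻¹' (U : Set X) with hV
  have hVo : IsOpen V := U.2.preimage jX.continuous
  have hq0V : (q0 : PrimeSpectrum B) ∈ V := by
    show jX q0 ∈ (U : Set X)
    rw [hq0]; exact hx'U
  obtain ⟨q, hqV, hqa, hqmax⟩ :=
    DimOneA.exists_prime_coheight_one V hVo (φ.hom a0) q0 hq0V ha0q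
  -- facts about primes containing the image of a0
  have hover : ∀ q1 : PrimeSpectrum B, f (jX q1) = f x → φ.hom a0 ∈ q1.asIdeal := by
    intro q1 h1
    rw [hfj, ← hjScl] at h1
    have h2 := hjSemb.injective h1
    have : a0 ∈ (PrimeSpectrum.comap φ.hom q1).asIdeal := by rw [h2]; exact ha0m
    exact this
  refine ⟨jX q, hqV, ?_, ?_, ?_⟩
  · have : jX q ∈ Set.range jX := ⟨q, rfl⟩
    rw [hrange] at this
    exact this
  · intro hc
    exact hqa (hover q hc)
  have hzx : jX q ⤳ x := by
    have : jX q ∈ Set.range jX := ⟨q, rfl⟩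
    rw [hrange] at this
    exact this
  -- the fibre
  set T := f.fiber (f x) with hT
  set ι : T ⟶ X := f.fiberι (f x) with hι
  set t : T := f.asFiber x with ht
  have hιt : ι t = x := f.fiberι_asFiber x
  have hιemb : Topology.IsEmbedding ι := ι.isEmbedding
  have hιrange : Set.range ι = f ⁻¹' {f x} := f.range_fiberι (f x)
  haveI : LocallyOfFiniteType (f.fiberToSpecResidueField (f x)) :=
    MorphismProperty.pullback_snd (P := @LocallyOfFiniteType) _ _ inferInstance
  haveI : IsLocallyNoetherian T :=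
    LocallyOfFiniteType.isLocallyNoetherian (f.fiberToSpecResidueField (f x))
  have htcl : IsClosed ({t} : Set T) := by
    have h1 := hcl.preimage (f.fiberHomeo (f x)).continuous
    convert h1 using 1
    ext y
    simp only [Set.mem_singleton_iff, Set.mem_preimage]
    rw [Scheme.Hom.fiberHomeo_apply]
    constructor
    · rintro rfl; exact hιt
    · intro h; exact hιemb.injective (h.trans hιt.symm)
  obtain ⟨_, ⟨N, hN, rfl⟩, htN, -⟩ :=
    T.isBasis_affineOpens.exists_subset_of_mem_open (Set.mem_univ t) isOpen_univ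
  haveI : IsNoetherianRing Γ(T, N) := IsLocallyNoetherian.component_noetherian ⟨N, hN⟩
  haveI : NoetherianSpace N := noetherianSpace_of_isAffineOpen N hN
  haveI : QuasiSober N := inferInstanceAs (QuasiSober (N : Scheme.{u}))
  set F : Set N := {y | ι y.1 ∈ closure {jX q}} with hF
  have hFcl : IsClosed F := isClosed_closure.preimage (ι.continuous.comp continuous_subtype_val)
  have ht'F : (⟨t, htN⟩ : N) ∈ F := by
    show ι t ∈ closure {jX q}
    rw [hιt]; exact hzx.mem_closure
  have ht'cl : IsClosed ({⟨t, htN⟩} : Set N) := by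
    have h1 : ({⟨t, htN⟩} : Set N) = Subtype.val ⁻¹' ({t} : Set T) := by
      ext y
      constructor
      · rintro rfl; rfl
      · intro hy; exact Subtype.ext hy
    rw [h1]
    exact htcl.preimage continuous_subtype_val
  have hmin : ∀ y ∈ F, y ⤳ (⟨t, htN⟩ : N) → y = ⟨t, htN⟩ := by
    intro y hyF hyt
    have h1 : ι y.1 ⤳ x := by
      have := (hyt.map continuous_subtype_val).map ι.continuous
      rwa [hιt] at this
    obtain ⟨q1, hq1⟩ : ∃ q1 : Spec B, jX q1 = ι y.1 := by
      have : ι y.1 ∈ Set.range jX := by rw [hrange]; exact h1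
      exact this
    have h2 : jX q ⤳ jX q1 := by
      rw [hq1, specializes_iff_mem_closure]; exact hyF
    have h3 : (q : PrimeSpectrum B) ⤳ q1 := hjXemb.toIsInducing.specializes_iff.mp h2
    have h4 : (q : PrimeSpectrum B).asIdeal ≤ (q1 : PrimeSpectrum B).asIdeal :=
      (PrimeSpectrum.le_iff_specializes _ _).mpr h3
    have h5 : f (jX q1) = f x := by
      rw [hq1]
      have : ι y.1 ∈ Set.range ι := ⟨y.1, rfl⟩
      rw [hιrange] at this
      exact this
    have h6 := hover q1 h5
    have h7 : (q : PrimeSpectrum B).asIdeal < (q1 : PrimeSpectrum B).asIdeal := by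
      refine lt_of_le_of_ne h4 ?_
      intro hc
      exact hqa (hc ▸ h6)
    have h8 := hqmax _ (q1 : PrimeSpectrum B).2 h7
    have h9 : (q1 : PrimeSpectrum B) = IsLocalRing.closedPoint B := PrimeSpectrum.ext h8
    have h10 : ι y.1 = ι t := by
      rw [← hq1, hιt]
      show jX q1 = x
      rw [show (q1 : Spec B) = IsLocalRing.closedPoint B from h9, hjXcl]
    exact Subtype.ext (hιemb.injective h10)
  obtain ⟨O_N, hO_N, hO⟩ :=
    DimOneB.isolated_of_closed_minimal F hFcl ⟨t, htN⟩ ht'F ht'cl hmin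
  have hOT : IsOpen (Subtype.val '' O_N : Set T) := N.2.isOpenMap_subtype_val _ hO_N
  obtain ⟨O_X, hO_X, hpre⟩ := hιemb.isOpen_iff.mp hOT
  refine ⟨O_X, hO_X, ?_⟩
  ext w
  simp only [Set.mem_inter_iff, Set.mem_preimage, Set.mem_singleton_iff]
  constructor
  · rintro ⟨hwO, hwcl, hwf⟩
    have : w ∈ Set.range ι := by rw [hιrange]; exact hwf
    obtain ⟨y, rfl⟩ := this
    have hy : y ∈ ι ⁻¹' O_X := hwO
    rw [hpre] at hy
    obtain ⟨y', hy'O, rfl⟩ := hy
    have : y' ∈ O_N ∩ F := ⟨hy'O, hwcl⟩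
    rw [hO] at this
    rw [Set.mem_singleton_iff.mp this]
    exact hιt
  · rintro rfl
    have h1 : (⟨t, htN⟩ : N) ∈ O_N ∩ F := by rw [hO]; rfl
    refine ⟨?_, ?_, rfl⟩
    · have : t ∈ ι ⁻¹' O_X := by rw [hpre]; exact ⟨⟨t, htN⟩, h1.1, rfl⟩
      have h2 : ι t ∈ O_X := this
      rw [hιt] at h2
      exact h2
    · have := hzx.mem_closure
      exact this

end Groth.Agent.Helper4.DimOneC
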