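import Mathlib

/-! # A one-dimensional local domain essentially of finite type with finite closed fibre is
quasi-finite (via Zariski's main theorem) -/

set_option autoImplicit false
universe u

namespace Groth.Agent.Helper4.DimOneD

open IsLocalRing

theorem quasiFinite_of_dim_one {A D T : Type u} [CommRing A] [CommRing D] [CommRing T]
    [Algebra A D] [Algebra A T] [IsLocalRing D] [IsNoetherianRing D]
    [Algebra.EssFiniteType A D] [Module.Finite A T] (g : D →ₐ[A] T)
    (hg : Function.Surjective g) (hker : ∀ d : D, g d = 0 ↔ d ∈ maximalIdeal D)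
    (a0 : A) (ha0 : algebraMap A D a0 ∈ maximalIdeal D) (ha0' : algebraMap A D a0 ≠ 0)
    (hprimes : ∀ P : Ideal D, P.IsPrime → P ≠ ⊥ → P = maximalIdeal D) :
    Algebra.QuasiFinite A D := by
  classical
  set C := Algebra.EssFiniteType.subalgebra A D with hC
  set n : Ideal C := (maximalIdeal D).comap (algebraMap C D) with hn
  haveI : n.IsPrime := Ideal.comap_isPrime _ _
  have hM : Algebra.EssFiniteType.submonoid A D = n.primeCompl := by
    ext c
    simp only [Algebra.EssFiniteType.submonoid, Submonoid.mem_comap, IsUnit.mem_submonoid_iff,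
      Ideal.mem_primeCompl_iff, hn, Ideal.mem_comap, mem_maximalIdeal, mem_nonunits_iff, not_not]
    exact Iff.rfl
  haveI : IsLocalization.AtPrime D n := by
    show IsLocalization n.primeCompl D
    rw [← hM]; infer_instance
  set L := Localization.AtPrime n with hL
  set e : L ≃ₐ[A] D :=
    (IsLocalization.algEquiv n.primeCompl L D).restrictScalars A with he
  set JL : Ideal L := (n.under A).map (algebraMap A L) with hJL
  set JD : Ideal D := (n.under A).map (algebraMap A D) with hJD
  have hJmap : JD = JL.map (e : L →+* D) := by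
    rw [hJL, hJD, Ideal.map_map]
    congr 1
    ext r
    simp
  -- a0 lies in n.under A
  have ha0n : a0 ∈ n.under A := by
    show algebraMap A C a0 ∈ n
    rw [hn, Ideal.mem_comap, ← IsScalarTower.algebraMap_apply]
    exact ha0
  have hJDle : JD ≤ maximalIdeal D := by
    rw [hJD, Ideal.map_le_iff_le_comap]
    intro r hr
    have : algebraMap A C r ∈ n := hr
    rw [hn, Ideal.mem_comap, ← IsScalarTower.algebraMap_apply] at this
    exact this
  -- finiteness of D ⧸ JD
  have hfin : Module.Finite A (D ⧸ JD) := by
    set f : D ⧸ JD →ₐ[A] T := Ideal.Quotient.liftₐ JD g (fun d hd => (hker d).mpr (hJDle hd)) with hf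
    have hfmk : ∀ d : D, f (Ideal.Quotient.mk JD d) = g d := fun d => by
      rw [hf]; exact Ideal.Quotient.liftₐ_apply _ _ _ _
    refine Module.finite_of_surjective_of_ker_le_nilradical f ?_ ?_ ?_
    · intro t
      obtain ⟨d, rfl⟩ := hg t
      exact ⟨Ideal.Quotient.mk JD d, hfmk d⟩
    · intro x hx
      obtain ⟨d, rfl⟩ := Ideal.Quotient.mk_surjective x
      rw [RingHom.mem_ker] at hx
      have hd : d ∈ maximalIdeal D := (hker d).mp (by rw [← hfmk]; exact hx)
      rw [nilradical_eq_sInf, Ideal.mem_sInf]
      intro P hP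
      haveI : P.IsPrime := hP
      have hPc : (P.comap (Ideal.Quotient.mk JD)).IsPrime := Ideal.comap_isPrime _ _
      have hne : P.comap (Ideal.Quotient.mk JD) ≠ ⊥ := by
        intro hc
        have h1 : algebraMap A D a0 ∈ P.comap (Ideal.Quotient.mk JD) := by
          rw [Ideal.mem_comap]
          have : algebraMap A D a0 ∈ JD := Ideal.mem_map_of_mem _ ha0n
          rw [Ideal.Quotient.eq_zero_iff_mem.mpr this]
          exact P.zero_mem
        rw [hc] at h1
        exact ha0' (by simpa using h1)
      have := hprimes _ hPc hne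
      have h2 : d ∈ P.comap (Ideal.Quotient.mk JD) := by rw [this]; exact hd
      exact h2
    · exact IsNoetherian.noetherian _
  have hqfD' : Algebra.QuasiFinite A (D ⧸ JD) := inferInstance
  have hqfL' : Algebra.QuasiFinite A (L ⧸ JL) :=
    (Algebra.QuasiFinite.iff_of_algEquiv (Ideal.quotientEquivAlg JL JD e hJmap)).mpr hqfD'
  haveI hW : Algebra.WeaklyQuasiFiniteAt A n := (Algebra.weaklyQuasiFiniteAt_iff n).mpr hqfL'
  have hQ : Algebra.QuasiFiniteAt A n := Algebra.QuasiFiniteAt.of_weaklyQuasiFiniteAt n
  exact (Algebra.QuasiFinite.iff_of_algEquiv e).mp hQ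

end Groth.Agent.Helper4.DimOneD
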