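import Mathlib

set_option autoImplicit false
universe u
open CategoryTheory CategoryTheory.Limits TopologicalSpace Opposite

namespace Groth.Agent.Helper4.DirCol1

variable {X : TopCat.{u}} {J : Type u} [Preorder J] [Nonempty J] [IsDirected J (· ≤ ·)]
  (F : J ⥤ X.Sheaf (Type u)) (c : Cocone F) (hc : IsColimit c)

/-- the presheaf colimit cocone -/
noncomputable abbrev E : Cocone (F ⋙ sheafToPresheaf (Opens.grothendieckTopology X) (Type u)) :=
  colimit.cocone _

noncomputable abbrev Q : Cocone F := Sheaf.sheafifyCocone (E F)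

noncomputable def hQ : IsColimit (Q F) := Sheaf.isColimitSheafifyCocone (E F) (colimit.isColimit _)

noncomputable def eW (W : Opens X) :
    IsColimit (((evaluation (Opens X)ᵒᵖ (Type u)).obj (op W)).mapCocone (E F)) :=
  isColimitOfPreserves _ (colimit.isColimit _)

theorem Q_ι_apply (i : J) (W : Opens X) (t : (F.obj i).presheaf.obj (op W)) :
    ((Q F).ι.app i).1.app (op W) t =
      (toSheafify (Opens.grothendieckTopology X) (E F).pt).app (op W)
        (((E F).ι.app i).app (op W) t) := by
  have := Sheaf.sheafifyCocone_ι_app_val (E F) i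
  rw [this]
  rfl

include hc in
theorem iso_inj (W : Opens X) :
    Function.Injective ((hc.coconePointUniqueUpToIso (hQ F)).hom.1.app (op W)) := by
  let e := hc.coconePointUniqueUpToIso (hQ F)
  intro a b hab
  have h1 : (e.hom ≫ e.inv).1.app (op W) a = (e.hom ≫ e.inv).1.app (op W) b := by
    change e.inv.1.app (op W) (e.hom.1.app (op W) a) = e.inv.1.app (op W) (e.hom.1.app (op W) b)
    rw [hab]
  rw [e.hom_inv_id] at h1
  exact h1

include hc in
theorem iso_ι (i : J) (W : Opens X) (t : (F.obj i).presheaf.obj (op W)) :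
    (hc.coconePointUniqueUpToIso (hQ F)).hom.1.app (op W) ((c.ι.app i).1.app (op W) t) =
      ((Q F).ι.app i).1.app (op W) t := by
  have he : c.ι.app i ≫ (hc.coconePointUniqueUpToIso (hQ F)).hom = (Q F).ι.app i :=
    hc.comp_coconePointUniqueUpToIso_hom (hQ F) i
  rw [← he]
  rfl

include hc in
theorem loc_surj (V : Opens X) (s : c.pt.presheaf.obj (op V)) (x : X) (hx : x ∈ V) :
    ∃ (W : Opens X) (hW : W ≤ V) (_ : x ∈ W) (i : J) (t : (F.obj i).presheaf.obj (op W)),
      (c.ι.app i).1.app (op W) t = c.pt.presheaf.map (homOfLE hW).op s := by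
  let e := hc.coconePointUniqueUpToIso (hQ F)
  let s' := e.hom.1.app (op V) s
  have hmem := Presheaf.imageSieve_mem (Opens.grothendieckTopology X)
    (toSheafify (Opens.grothendieckTopology X) (E F).pt) (U := op V) s'
  obtain ⟨W, f, ⟨t, ht⟩, hxW⟩ := hmem x hx
  obtain ⟨i, ti, hti⟩ := Types.jointly_surjective_of_isColimit (eW F W) t
  refine ⟨W, f.le, hxW, i, ti, ?_⟩
  apply iso_inj F c hc W
  rw [iso_ι F c hc i W ti, Q_ι_apply]
  have hti' : ((E F).ι.app i).app (op W) ti = t := hti
  rw [hti', ht]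
  exact (NatTrans.naturality_apply e.hom.1 f.op s).symm

include hc in
theorem loc_inj (V : Opens X) (i j : J) (s : (F.obj i).presheaf.obj (op V))
    (s' : (F.obj j).presheaf.obj (op V))
    (h : (c.ι.app i).1.app (op V) s = (c.ι.app j).1.app (op V) s') (x : X) (hx : x ∈ V) :
    ∃ (W : Opens X) (hW : W ≤ V) (_ : x ∈ W) (k : J) (hi : i ≤ k) (hj : j ≤ k),
      (F.map (homOfLE hi)).1.app (op W) ((F.obj i).presheaf.map (homOfLE hW).op s) =
      (F.map (homOfLE hj)).1.app (op W) ((F.obj j).presheaf.map (homOfLE hW).op s') := by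
  let e := hc.coconePointUniqueUpToIso (hQ F)
  have h1 := congr_arg (e.hom.1.app (op V)) h
  rw [iso_ι F c hc i V s, iso_ι F c hc j V s', Q_ι_apply, Q_ι_apply] at h1
  have hmem := Presheaf.equalizerSieve_mem (Opens.grothendieckTopology X)
    (toSheafify (Opens.grothendieckTopology X) (E F).pt) (X := op V) _ _ h1
  obtain ⟨W, f, hf, hxW⟩ := hmem x hx
  have hf' : (E F).pt.map f.op (((E F).ι.app i).app (op V) s) =
      (E F).pt.map f.op (((E F).ι.app j).app (op V) s') := hf
  rw [← NatTrans.naturality_apply, ← NatTrans.naturality_apply] at hf'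
  obtain ⟨k, a, b, hk⟩ := (Types.FilteredColimit.isColimit_eq_iff _ (eW F W)).mp hf'
  exact ⟨W, f.le, hxW, k, a.le, b.le, hk⟩

end Groth.Agent.Helper4.DirCol1
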