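import Mathlib
import Groth.Agent.Helper4.DirCol1

set_option autoImplicit false
universe u
open CategoryTheory CategoryTheory.Limits TopologicalSpace Opposite

namespace Groth.Agent.Helper4.DirCol2

open Groth.Agent.Helper4.DirCol1

variable {X : TopCat.{u}}

/-- restriction of sections of a sheaf -/
def res (G : X.Sheaf (Type u)) {V W : Opens X} (h : W ≤ V) (s : G.1.obj (op V)) :
    G.1.obj (op W) := G.1.map (homOfLE h).op s

theorem res_res (G : X.Sheaf (Type u)) {V W W' : Opens X} (h : W ≤ V) (h' : W' ≤ W)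
    (s : G.1.obj (op V)) : res G h' (res G h s) = res G (h'.trans h) s := by
  unfold res
  rw [← ConcreteCategory.comp_apply, ← G.1.map_comp]
  rfl

theorem res_self (G : X.Sheaf (Type u)) {V : Opens X} (s : G.1.obj (op V)) :
    res G le_rfl s = s := by
  unfold res
  have : (homOfLE (le_refl V)).op = 𝟙 (op V) := rfl
  rw [this, G.1.map_id]
  rfl

theorem res_ext (G : X.Sheaf (Type u)) {ι : Type*} (W : ι → Opens X) (V : Opens X)
    (hle : ∀ a, W a ≤ V) (hcov : V ≤ iSup W) (s t : G.1.obj (op V))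
    (h : ∀ a, res G (hle a) s = res G (hle a) t) : s = t :=
  TopCat.Sheaf.eq_of_locally_eq' G W V (fun a => homOfLE (hle a)) hcov s t h

theorem res_glue (G : X.Sheaf (Type u)) {ι : Type*} (W : ι → Opens X) (V : Opens X)
    (hle : ∀ a, W a ≤ V) (hcov : V ≤ iSup W) (sf : ∀ a, G.1.obj (op (W a)))
    (h : ∀ a b, res G (inf_le_left : W a ⊓ W b ≤ W a) (sf a) =
      res G (inf_le_right : W a ⊓ W b ≤ W b) (sf b)) :
    ∃ s : G.1.obj (op V), ∀ a, res G (hle a) s = sf a := by
  obtain ⟨s, hs, -⟩ := TopCat.Sheaf.existsUnique_gluing' G W V (fun a => homOfLE (hle a)) hcov sf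
    (fun a b => h a b)
  exact ⟨s, hs⟩

variable {J : Type u} [Preorder J] (F : J ⥤ X.Sheaf (Type u)) (c : Cocone F)

/-- transition maps -/
def tr {i k : J} (h : i ≤ k) (V : Opens X) (s : (F.obj i).1.obj (op V)) :
    (F.obj k).1.obj (op V) := (F.map (homOfLE h)).1.app (op V) s

/-- maps to the cocone point -/
def inc (i : J) (V : Opens X) (s : (F.obj i).1.obj (op V)) : c.pt.1.obj (op V) :=
  (c.ι.app i).1.app (op V) s

theorem tr_res {i k : J} (h : i ≤ k) {V W : Opens X} (hW : W ≤ V) (s : (F.obj i).1.obj (op V)) :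
    tr F h W (res (F.obj i) hW s) = res (F.obj k) hW (tr F h V s) :=
  NatTrans.naturality_apply (F.map (homOfLE h)).1 (homOfLE hW).op s

theorem tr_tr {i k l : J} (h : i ≤ k) (h' : k ≤ l) (V : Opens X) (s : (F.obj i).1.obj (op V)) :
    tr F h' V (tr F h V s) = tr F (h.trans h') V s := by
  unfold tr
  have : homOfLE (h.trans h') = homOfLE h ≫ homOfLE h' := rfl
  rw [this, F.map_comp]
  rfl

theorem tr_self {i : J} (V : Opens X) (s : (F.obj i).1.obj (op V)) :
    tr F (le_refl i) V s = s := by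
  unfold tr
  have : homOfLE (le_refl i) = 𝟙 i := rfl
  rw [this, F.map_id]
  rfl

theorem inc_tr {i k : J} (h : i ≤ k) (V : Opens X) (s : (F.obj i).1.obj (op V)) :
    inc F c k V (tr F h V s) = inc F c i V s := by
  unfold inc tr
  rw [← c.w (homOfLE h)]
  rfl

theorem inc_res (i : J) {V W : Opens X} (hW : W ≤ V) (s : (F.obj i).1.obj (op V)) :
    inc F c i W (res (F.obj i) hW s) = res c.pt hW (inc F c i V s) :=
  NatTrans.naturality_apply (c.ι.app i).1 (homOfLE hW).op s

end Groth.Agent.Helper4.DirCol2
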