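import Mathlib
import Groth.Agent.Helper4.DirCol2

set_option autoImplicit false
universe u
open CategoryTheory CategoryTheory.Limits TopologicalSpace Opposite

namespace Groth.Agent.Helper4.DirCol3

open Groth.Agent.Helper4.DirCol1 Groth.Agent.Helper4.DirCol2

variable {X : TopCat.{u}} {J : Type u} [Preorder J] [Nonempty J] [IsDirected J (· ≤ ·)]
  (F : J ⥤ X.Sheaf (Type u)) (c : Cocone F) (hc : IsColimit c)

include hc in
theorem loc_surj' (V : Opens X) (s : c.pt.1.obj (op V)) (x : X) (hx : x ∈ V) :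
    ∃ (W : Opens X) (hW : W ≤ V) (_ : x ∈ W) (i : J) (t : (F.obj i).1.obj (op W)),
      inc F c i W t = res c.pt hW s :=
  loc_surj F c hc V s x hx

include hc in
theorem loc_inj' (V : Opens X) (k : J) (s s' : (F.obj k).1.obj (op V))
    (h : inc F c k V s = inc F c k V s') (x : X) (hx : x ∈ V) :
    ∃ (W : Opens X) (hW : W ≤ V) (_ : x ∈ W) (k' : J) (hk : k ≤ k'),
      tr F hk W (res (F.obj k) hW s) = tr F hk W (res (F.obj k) hW s') := by
  obtain ⟨W, hW, hxW, k', hi, hj, e⟩ := loc_inj F c hc V k k s s' h x hx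
  exact ⟨W, hW, hxW, k', hi, e⟩

include hc in
/-- injective transition maps: equality in the colimit sheaf implies equality -/
theorem eq_of_inj (hinj : ∀ (i j : J) (h : i ⟶ j) (V : Opens X),
      Function.Injective ((F.map h).1.app (op V)))
    (V : Opens X) (k : J) (s s' : (F.obj k).1.obj (op V))
    (h : inc F c k V s = inc F c k V s') : s = s' := by
  have H := loc_inj' F c hc V k s s' h
  choose W hW hxW k' hk e using H
  refine res_ext (F.obj k) (fun x : V => W x.1 x.2) V (fun x => hW x.1 x.2)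
    (fun x hx => Opens.mem_iSup.mpr ⟨⟨x, hx⟩, hxW x hx⟩) s s' (fun x => ?_)
  exact hinj k (k' x.1 x.2) (homOfLE (hk x.1 x.2)) (W x.1 x.2) (e x.1 x.2)

include hc in
/-- on a quasi-compact open, equality in the colimit sheaf implies equality at a later stage -/
theorem eq_of_compact (V : Opens X) (hV : IsCompact (V : Set X)) (k : J)
    (s s' : (F.obj k).1.obj (op V)) (h : inc F c k V s = inc F c k V s') :
    ∃ (k' : J) (hk : k ≤ k'), tr F hk V s = tr F hk V s' := by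
  have H := loc_inj' F c hc V k s s' h
  classical
  choose W hW hxW k' hk e using H
  obtain ⟨T, hT⟩ := hV.elim_finite_subcover (fun x : V => ((W x.1 x.2 : Opens X) : Set X))
    (fun x => (W x.1 x.2).isOpen)
    (fun x hx => Set.mem_iUnion.mpr ⟨⟨x, hx⟩, hxW x hx⟩)
  obtain ⟨M, hM⟩ := Finset.exists_le (insert k (T.image (fun x : V => k' x.1 x.2)))
  have hkM : k ≤ M := hM k (Finset.mem_insert_self _ _)
  have hk'M : ∀ x ∈ T, k' x.1 x.2 ≤ M := fun x hx =>
    hM _ (Finset.mem_insert_of_mem (Finset.mem_image_of_mem _ hx))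
  refine ⟨M, hkM, ?_⟩
  refine res_ext (F.obj M) (fun x : T => W x.1.1 x.1.2) V (fun x => hW x.1.1 x.1.2)
    (fun y hy => ?_) _ _ (fun x => ?_)
  · obtain ⟨x, hxT, hyx⟩ := Set.mem_iUnion₂.mp (hT hy)
    exact Opens.mem_iSup.mpr ⟨⟨x, hxT⟩, hyx⟩
  · rw [← tr_res, ← tr_res]
    have e1 := e x.1.1 x.1.2
    have e2 := congr_arg (tr F (hk'M x.1 x.2) (W x.1.1 x.1.2)) e1
    rwa [tr_tr, tr_tr] at e2

/-- gluing local lifts over a finite cover -/
theorem glue_lift {ι : Type*} [Finite ι] (U : Opens X) (W : ι → Opens X) (hle : ∀ a, W a ≤ U)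
    (hcov : U ≤ iSup W) (s : c.pt.1.obj (op U)) (i : ι → J)
    (t : ∀ a, (F.obj (i a)).1.obj (op (W a)))
    (ht : ∀ a, inc F c (i a) (W a) (t a) = res c.pt (hle a) s)
    (H : ∀ (a b : ι) (k : J) (p q : (F.obj k).1.obj (op (W a ⊓ W b))),
      inc F c k _ p = inc F c k _ q → ∃ (k' : J) (hk : k ≤ k'), tr F hk _ p = tr F hk _ q) :
    ∃ (k : J) (t : (F.obj k).1.obj (op U)), inc F c k U t = s := by
  obtain ⟨k0, hk0⟩ := Finite.exists_le i
  -- stage k0
  let t0 : ∀ a, (F.obj k0).1.obj (op (W a)) := fun a => tr F (hk0 a) (W a) (t a)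
  have ht0 : ∀ a, inc F c k0 (W a) (t0 a) = res c.pt (hle a) s := fun a => by
    rw [inc_tr]; exact ht a
  have Hab : ∀ ab : ι × ι, ∃ (k' : J) (hk : k0 ≤ k'),
      tr F hk _ (res (F.obj k0) (inf_le_left : W ab.1 ⊓ W ab.2 ≤ W ab.1) (t0 ab.1)) =
      tr F hk _ (res (F.obj k0) (inf_le_right : W ab.1 ⊓ W ab.2 ≤ W ab.2) (t0 ab.2)) := by
    intro ab
    apply H
    rw [inc_res, inc_res, ht0, ht0, res_res, res_res]
  choose k1 hk1 e1 using Hab
  obtain ⟨M0, hM0⟩ := Finite.exists_le k1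
  obtain ⟨M, hM0M, hk0M⟩ := exists_ge_ge M0 k0
  have hk1M : ∀ ab, k1 ab ≤ M := fun ab => (hM0 ab).trans hM0M
  let t1 : ∀ a, (F.obj M).1.obj (op (W a)) := fun a => tr F hk0M (W a) (t0 a)
  have ht1 : ∀ a, inc F c M (W a) (t1 a) = res c.pt (hle a) s := fun a => by
    rw [inc_tr]; exact ht0 a
  obtain ⟨g, hg⟩ := res_glue (F.obj M) W U hle hcov t1 (fun a b => by
    have e2 := congr_arg (tr F (hk1M (a, b)) (W a ⊓ W b)) (e1 (a, b))
    rw [tr_tr, tr_tr, tr_res, tr_res] at e2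
    exact e2)
  refine ⟨M, g, ?_⟩
  refine res_ext c.pt W U hle hcov _ _ (fun a => ?_)
  rw [← inc_res, hg a, ht1 a]

end Groth.Agent.Helper4.DirCol3
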