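import Mathlib
import Groth.Agent.Helper4.DirCol3

set_option autoImplicit false
universe u
open CategoryTheory CategoryTheory.Limits TopologicalSpace Opposite

namespace Groth.Agent.Helper4.DirCol4

open Groth.Agent.Helper4.DirCol1 Groth.Agent.Helper4.DirCol2 Groth.Agent.Helper4.DirCol3

variable {X : TopCat.{u}} {J : Type u} [Preorder J] [Nonempty J] [IsDirected J (· ≤ ·)]
  (F : J ⥤ X.Sheaf (Type u)) (c : Cocone F) (hc : IsColimit c) (U : Opens X)

/-- the evaluation functor -/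
noncomputable abbrev ev : X.Sheaf (Type u) ⥤ Type u :=
  TopCat.Sheaf.forget (Type u) X ⋙ (evaluation (Opens X)ᵒᵖ (Type u)).obj (op U)

/-- the comparison map -/
noncomputable abbrev Ψ : colimit (F ⋙ ev U) → (ev U).obj c.pt :=
  colimit.desc (F ⋙ ev U) ((ev U).mapCocone c)

theorem Ψ_ι (i : J) (t : (F.obj i).1.obj (op U)) :
    Ψ F c U (colimit.ι (F ⋙ ev U) i t) = inc F c i U t :=
  ConcreteCategory.congr_hom (colimit.ι_desc ((ev U).mapCocone c) i) t

theorem exists_rep (a : colimit (F ⋙ ev U)) :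
    ∃ (i : J) (t : (F.obj i).1.obj (op U)), colimit.ι (F ⋙ ev U) i t = a :=
  Types.jointly_surjective_of_isColimit (colimit.isColimit (F ⋙ ev U)) a

theorem ι_tr {i k : J} (h : i ≤ k) (t : (F.obj i).1.obj (op U)) :
    colimit.ι (F ⋙ ev U) k (tr F h U t) = colimit.ι (F ⋙ ev U) i t :=
  ConcreteCategory.congr_hom (colimit.w (F ⋙ ev U) (homOfLE h)) t

/-- injectivity criterion -/
theorem Ψ_injective_of (H : ∀ (k : J) (p q : (F.obj k).1.obj (op U)),
      inc F c k U p = inc F c k U q → ∃ (k' : J) (hk : k ≤ k'), tr F hk U p = tr F hk U q) :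
    Function.Injective (Ψ F c U) := by
  intro a b hab
  obtain ⟨i, t, rfl⟩ := exists_rep F U a
  obtain ⟨j, t', rfl⟩ := exists_rep F U b
  obtain ⟨k, hik, hjk⟩ := exists_ge_ge i j
  rw [← ι_tr F U hik t, ← ι_tr F U hjk t'] at hab ⊢
  rw [Ψ_ι, Ψ_ι] at hab
  obtain ⟨k', hk, e⟩ := H k _ _ hab
  rw [← ι_tr F U hk, ← ι_tr F U hk (tr F hjk U t'), e]

/-- surjectivity criterion -/
theorem Ψ_surjective_of (H : ∀ s : c.pt.1.obj (op U),
      ∃ (k : J) (t : (F.obj k).1.obj (op U)), inc F c k U t = s) :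
    Function.Surjective (Ψ F c U) := by
  intro s
  obtain ⟨k, t, ht⟩ := H s
  exact ⟨colimit.ι (F ⋙ ev U) k t, by rw [Ψ_ι]; exact ht⟩

include hc in
theorem part1 (hinj : ∀ (i j : J) (h : i ⟶ j) (V : Opens X),
      Function.Injective ((F.map h).1.app (op V))) : Function.Injective (Ψ F c U) :=
  Ψ_injective_of F c U (fun k p q h =>
    ⟨k, le_rfl, by rw [eq_of_inj F c hc hinj U k p q h]⟩)

include hc in
theorem part2 (hU : IsCompact (U : Set X)) : Function.Injective (Ψ F c U) :=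
  Ψ_injective_of F c U (fun k p q h => eq_of_compact F c hc U hU k p q h)

include hc in
theorem part3 (hU : IsCompact (U : Set X)) (hinj : ∀ (i j : J) (h : i ⟶ j) (V : Opens X),
      Function.Injective ((F.map h).1.app (op V))) : Function.Bijective (Ψ F c U) := by
  refine ⟨part1 F c hc U hinj, Ψ_surjective_of F c U (fun s => ?_)⟩
  have H := loc_surj' F c hc U s
  choose W hW hxW i t ht using H
  obtain ⟨T, hT⟩ := hU.elim_finite_subcover (fun x : U => ((W x.1 x.2 : Opens X) : Set X))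
    (fun x => (W x.1 x.2).isOpen)
    (fun x hx => Set.mem_iUnion.mpr ⟨⟨x, hx⟩, hxW x hx⟩)
  refine glue_lift F c U (fun x : T => W x.1.1 x.1.2) (fun x => hW x.1.1 x.1.2) ?_ s
    (fun x => i x.1.1 x.1.2) (fun x => t x.1.1 x.1.2) (fun x => ht x.1.1 x.1.2) ?_
  · intro y hy
    obtain ⟨x, hxT, hyx⟩ := Set.mem_iUnion₂.mp (hT hy)
    exact Opens.mem_iSup.mpr ⟨⟨x, hxT⟩, hyx⟩
  · intro a b k p q hpq
    exact ⟨k, le_rfl, by rw [eq_of_inj F c hc hinj _ k p q hpq]⟩

include hc in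
theorem part4 (hU : ∀ 𝒱 : Set (Opens X), (⨆ V ∈ 𝒱, V) = U →
        ∃ (m : ℕ) (W : Fin m → Opens X), (∀ j, ∃ V ∈ 𝒱, W j ≤ V) ∧ (⨆ j, W j) = U ∧
          ∀ j j', IsCompact ((W j ⊓ W j' : Opens X) : Set X)) :
    Function.Bijective (Ψ F c U) := by
  have hUc : IsCompact (U : Set X) := by
    obtain ⟨m, W, -, hcov, hcomp⟩ := hU {U} (by simp)
    have : (U : Set X) = ⋃ j, ((W j : Opens X) : Set X) := by
      rw [← hcov]; simp
    rw [this]
    refine isCompact_iUnion (fun j => ?_)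
    have := hcomp j j
    rwa [inf_idem] at this
  refine ⟨part2 F c hc U hUc, Ψ_surjective_of F c U (fun s => ?_)⟩
  have H := loc_surj' F c hc U s
  choose W hW hxW i t ht using H
  obtain ⟨m, W', href, hcov, hcomp⟩ := hU (Set.range (fun x : U => W x.1 x.2)) (by
    apply le_antisymm
    · refine iSup₂_le ?_
      rintro V ⟨x, rfl⟩
      exact hW x.1 x.2
    · intro x hx
      refine Opens.mem_iSup.mpr ⟨W x hx, Opens.mem_iSup.mpr ⟨⟨⟨x, hx⟩, rfl⟩, hxW x hx⟩⟩)
  choose V hV hW'V using href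
  choose x hx using hV
  have hW'x : ∀ j, W' j ≤ W (x j).1 (x j).2 := fun j => by
    have := hW'V j
    rwa [← hx j] at this
  have hle : ∀ j, W' j ≤ U := fun j => (hW'x j).trans (hW _ _)
  refine glue_lift F c U W' hle hcov.ge s (fun j => i (x j).1 (x j).2)
    (fun j => res (F.obj _) (hW'x j) (t (x j).1 (x j).2)) (fun j => ?_) ?_
  · rw [inc_res, ht, res_res]
  · intro a b k p q hpq
    exact eq_of_compact F c hc _ (hcomp a b) k p q hpq

end Groth.Agent.Helper4.DirCol4
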