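import Groth.Agent.Helper4.GeomBC2
import Groth.Agent.Helper5.GeomRed
import Groth.Agent.Helper8.GeomIrrA
import Mathlib

set_option autoImplicit false
universe u
open CategoryTheory CategoryTheory.Limits AlgebraicGeometry Opposite TensorProduct

namespace Groth.Agent.Helper4.GeomBC

open Groth.Agent.Helper5.GeomRed Groth.Agent.Helper5.StalkRed

variable {k : Type u} [Field k] {X : Scheme.{u}} (f : X ⟶ Spec (CommRingCat.of k))
variable {P : ∀ (R : Type u) [CommRing R], Prop}

instance pbMap_flat {B T U U' : Scheme.{u}} (f : U ⟶ B) (s : T ⟶ B) (g : U' ⟶ U) [Flat g] :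
    Flat (pbMap f s g) := by
  unfold pbMap
  infer_instance

instance pbMap_surjectiveOnStalks {B T U U' : Scheme.{u}} (f : U ⟶ B) (s : T ⟶ B) (g : U' ⟶ U)
    [SurjectiveOnStalks g] : SurjectiveOnStalks (pbMap f s g) := by
  unfold pbMap
  haveI : SurjectiveOnStalks (pullback.snd g (pullback.fst f s)) :=
    MorphismProperty.pullback_snd (P := @SurjectiveOnStalks) _ _ inferInstance
  infer_instance

/-- `POver` at `x` can be tested on `Spec 𝒪_{X,x}` at its closed point. -/
theorem pOver_iff_fromSpecStalk (hP : Desc P) (x : X) (K : Type u) [Field K] [Algebra k K] :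
    POver f P x K ↔
      POver (X.fromSpecStalk x ≫ f) P (IsLocalRing.closedPoint (X.presheaf.stalk x)) K := by
  haveI : Flat (X.fromSpecStalk x) := flat_fromSpecStalk X x
  let s := Spec.map (CommRingCat.ofHom (algebraMap k K))
  constructor
  · intro h y hy
    change ↥(pullback (X.fromSpecStalk x ≫ f) s) at y
    change (pullback.fst (X.fromSpecStalk x ≫ f) s) y = _ at hy
    show P ((pullback (X.fromSpecStalk x ≫ f) s).presheaf.stalk y)
    rw [stalk_iff hP (pbMap f s (X.fromSpecStalk x)) y]
    apply h
    show (pullback.fst f s) (pbMap f s (X.fromSpecStalk x) y) = x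
    rw [← Scheme.Hom.comp_apply, pbMap_fst, Scheme.Hom.comp_apply, hy]
    exact Scheme.fromSpecStalk_closedPoint
  · intro h x' hx'
    change ↥(pullback f s) at x'
    change (pullback.fst f s) x' = x at hx'
    show P ((pullback f s).presheaf.stalk x')
    obtain ⟨y, hy1, hy2⟩ := exists_lift_pbMap f s (X.fromSpecStalk x) x'
      (IsLocalRing.closedPoint (X.presheaf.stalk x))
      (hx'.trans Scheme.fromSpecStalk_closedPoint.symm)
    rw [← hy1, ← stalk_iff hP (pbMap f s (X.fromSpecStalk x)) y]
    exact h y hy2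

/-- Over an algebraically closed field, all base changes of the spectrum of a domain are integral. -/
theorem isDomain_stalk_pullback_Spec [IsAlgClosed k] (R : CommRingCat.{u}) [IsDomain R]
    (ψ : k →+* R) (K : Type u) [Field K] [Algebra k K]
    (y : ↥(pullback (Spec.map (CommRingCat.ofHom ψ))
      (Spec.map (CommRingCat.ofHom (algebraMap k K))))) :
    IsDomain ((pullback (Spec.map (CommRingCat.ofHom ψ))
      (Spec.map (CommRingCat.ofHom (algebraMap k K)))).presheaf.stalk y) := by
  letI := ψ.toAlgebra
  haveI : IsDomain (R ⊗[k] K) := Groth.Agent.Helper8.GeomIrr.isDomain_tensor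
  have e := pullbackSpecIso k R K
  haveI : IsIntegral (pullback (Spec.map (CommRingCat.ofHom (algebraMap k R)))
      (Spec.map (CommRingCat.ofHom (algebraMap k K)))) := isIntegral_of_isOpenImmersion e.hom
  exact inferInstanceAs (IsDomain ((pullback (Spec.map (CommRingCat.ofHom (algebraMap k R)))
      (Spec.map (CommRingCat.ofHom (algebraMap k K)))).presheaf.stalk y))

theorem geomPtIntegralAt_of_isDomain [IsAlgClosed k] (x : X) [IsDomain (X.presheaf.stalk x)] :
    FBase.IsGeomPtIntegralAt f x := by
  intro K _ _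
  show POver f (fun R _ => IsDomain R) x K
  rw [pOver_iff_fromSpecStalk f desc_isDomain x K]
  obtain ⟨φ, hφ⟩ := Spec.map_surjective (X.fromSpecStalk x ≫ f)
  obtain ⟨ψ, rfl⟩ : ∃ ψ : k →+* X.presheaf.stalk x, φ = CommRingCat.ofHom ψ := ⟨φ.hom, rfl⟩
  rw [← hφ]
  intro y _
  exact isDomain_stalk_pullback_Spec (X.presheaf.stalk x) ψ K y

theorem isDomain_of_geomPtIntegralAt (x : X) (h : FBase.IsGeomPtIntegralAt f x) :
    IsDomain (X.presheaf.stalk x) := by
  have hiso : IsIso (Spec.map (CommRingCat.ofHom (algebraMap k k))) := by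
    have : CommRingCat.ofHom (algebraMap k k) = 𝟙 (CommRingCat.of k) := rfl
    rw [this, Spec.map_id]
    infer_instance
  let p := pullback.fst f (Spec.map (CommRingCat.ofHom (algebraMap k k)))
  haveI : IsIso p := inferInstance
  let x' := (inv p) x
  have hx' : p x' = x := by
    show p ((inv p) x) = x
    rw [← Scheme.Hom.comp_apply, IsIso.inv_hom_id]
    rfl
  have h1 : IsDomain ((pullback f (Spec.map (CommRingCat.ofHom (algebraMap k k)))).presheaf.stalk x') :=
    h k x' hx'
  have h2 := (stalk_iff desc_isDomain p x').mp h1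
  rwa [hx'] at h2

end Groth.Agent.Helper4.GeomBC
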