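import Groth.Agent.Helper4.GeomRedOpen
import Groth.Agent.Helper4.GeomBC3
import Mathlib

set_option autoImplicit false
universe u
open CategoryTheory CategoryTheory.Limits AlgebraicGeometry Opposite TopologicalSpace

namespace Groth.Agent.Helper4.DomOpen

/-- The point attached to a minimal prime of a local ring is the generic point of an irreducible
component. -/
theorem minimalPrime_point' {X : Scheme.{u}} (y : X) (r : ↥(Spec (X.presheaf.stalk y)))
    (hr : r.asIdeal ∈ minimalPrimes (X.presheaf.stalk y)) :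
    closure {(X.fromSpecStalk y) r} ∈ irreducibleComponents (X : Type u) ∧
      (X.fromSpecStalk y) r ⤳ y := by
  let j := X.fromSpecStalk y
  have hηx : j r ⤳ y := by
    have : j r ∈ Set.range j := ⟨r, rfl⟩
    rw [Scheme.range_fromSpecStalk] at this
    exact this
  refine ⟨⟨isIrreducible_singleton.closure, ?_⟩, hηx⟩
  intro Z' hZ' hle
  have hZc : IsIrreducible (closure Z') := hZ'.closure
  obtain ⟨ζ, hζ⟩ := QuasiSober.sober hZc isClosed_closure
  have hηZ : j r ∈ closure Z' := subset_closure (hle (subset_closure rfl))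
  have hζη : ζ ⤳ j r := by
    rw [specializes_iff_mem_closure, hζ.def]
    exact hηZ
  have hζmem : ζ ∈ Set.range j := by
    rw [Scheme.range_fromSpecStalk]
    exact hζη.trans hηx
  obtain ⟨r', hr'⟩ := hζmem
  have hspec : r' ⤳ r := by
    rw [← j.isEmbedding.toIsInducing.specializes_iff, hr']
    exact hζη
  have hle' : r'.asIdeal ≤ r.asIdeal := (PrimeSpectrum.le_iff_specializes r' r).mpr hspec
  have heq : r'.asIdeal = r.asIdeal := le_antisymm hle' (hr.2 ⟨r'.isPrime, bot_le⟩ hle')
  have hrr : r' = r := PrimeSpectrum.ext heq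
  have hζeq : ζ = j r := by rw [← hr', hrr]
  calc Z' ⊆ closure Z' := subset_closure
    _ = closure {ζ} := hζ.def.symm
    _ = closure {j r} := by rw [hζeq]

/-- If the local ring at `y` is a domain, any generic point of an irreducible component through `y`
is the image of the generic point of `Spec 𝒪_{X,y}`. -/
theorem generic_eq_of_isDomain {X : Scheme.{u}} (y : X) [IsDomain (X.presheaf.stalk y)] (η : X)
    (hη : η ⤳ y) (hcomp : closure {η} ∈ irreducibleComponents (X : Type u)) :
    η = (X.fromSpecStalk y) (⟨⊥, Ideal.isPrime_bot⟩ : PrimeSpectrum (X.presheaf.stalk y)) := by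
  let j := X.fromSpecStalk y
  have hmem : η ∈ Set.range j := by
    rw [Scheme.range_fromSpecStalk]; exact hη
  obtain ⟨r, hr⟩ := hmem
  let b : PrimeSpectrum (X.presheaf.stalk y) := ⟨⊥, Ideal.isPrime_bot⟩
  have hbr : b ⤳ r := (PrimeSpectrum.le_iff_specializes b r).mp (by
    show (⊥ : Ideal _) ≤ r.asIdeal
    exact bot_le)
  have hjb : j b ⤳ j r := hbr.map j.continuous
  rw [hr] at hjb
  have hle : closure {η} ⊆ closure {j b} := by
    rw [← specializes_iff_closure_subset]
    exact hjb
  have heq : closure {j b} = closure {η} :=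
    (hcomp.2 isIrreducible_singleton.closure hle).antisymm hle
  have : j b = η := by
    have h1 : j b ⤳ η := hjb
    have h2 : η ⤳ j b := by
      rw [specializes_iff_closure_subset, heq]
    exact (h1.antisymm h2).eq
  exact this.symm

/-- A reduced ring with at most one minimal prime is a domain. -/
theorem isDomain_of_subsingleton_minimalPrimes (R : Type u) [CommRing R] [Nontrivial R]
    [IsReduced R] (h : ∀ 𝔭 ∈ minimalPrimes R, ∀ 𝔮 ∈ minimalPrimes R, 𝔭 = 𝔮) : IsDomain R := by
  obtain ⟨𝔭, h𝔭⟩ : (minimalPrimes R).Nonempty := by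
    obtain ⟨m, hm⟩ := Ideal.exists_maximal R
    obtain ⟨𝔭, h𝔭, -⟩ := Ideal.exists_minimalPrimes_le (I := ⊥) (J := m) bot_le
    exact ⟨𝔭, h𝔭⟩
  have hnil : nilradical R = 𝔭 := by
    rw [nilradical, ← Ideal.sInf_minimalPrimes]
    apply le_antisymm
    · exact sInf_le h𝔭
    · apply le_sInf
      intro 𝔮 h𝔮
      rw [h 𝔭 h𝔭 𝔮 h𝔮]
  rw [nilradical_eq_zero] at hnil
  haveI : (⊥ : Ideal R).IsPrime := by
    have : (⊥ : Ideal R) = 𝔭 := hnil
    rw [this]
    exact h𝔭.1.1
  exact IsDomain.of_bot_isPrime R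

/-- Noetherian case: the locus of points whose local ring is a domain is open. -/
theorem isOpen_dom_of_noetherianSpace (X : Scheme.{u}) [IsLocallyNoetherian X] [NoetherianSpace X] :
    IsOpen {x : X | IsDomain (X.presheaf.stalk x)} := by
  rw [isOpen_iff_forall_mem_open]
  intro x hx
  haveI : IsDomain (X.presheaf.stalk x) := hx
  obtain ⟨V₂, hxV₂, hV₂⟩ := Groth.Agent.Helper2.RedNhd.exists_isReduced_nhd x
  have hfin : (irreducibleComponents (X : Type u)).Finite :=
    NoetherianSpace.finite_irreducibleComponents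
  let Bad : Set (Set X) := {C ∈ irreducibleComponents (X : Type u) | x ∉ C}
  have hBadfin : Bad.Finite := hfin.subset (fun C hC => hC.1)
  have hclosed : IsClosed (⋃₀ Bad) := by
    rw [Set.sUnion_eq_biUnion]
    exact hBadfin.isClosed_biUnion (fun C hC => isClosed_of_mem_irreducibleComponents C hC.1)
  refine ⟨(⋃₀ Bad)ᶜ ∩ (V₂ : Set X), ?_, hclosed.isOpen_compl.inter V₂.isOpen, ?_⟩
  · rintro y ⟨hy1, hy2⟩
    haveI : _root_.IsReduced (X.presheaf.stalk y) := by
      have h1 : _root_.IsReduced ((V₂ : Scheme).presheaf.stalk (⟨y, hy2⟩ : V₂)) :=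
        inferInstance
      exact (Groth.Agent.Helper4.GeomBC.stalk_iff
        Groth.Agent.Helper4.GeomBC.desc_isReduced V₂.ι ⟨y, hy2⟩).mp h1
    have key : ∀ (𝔭 : Ideal (X.presheaf.stalk y)) (h𝔭 : 𝔭 ∈ minimalPrimes (X.presheaf.stalk y)),
        (X.fromSpecStalk y) (⟨𝔭, h𝔭.1.1⟩ : PrimeSpectrum _) =
          (X.fromSpecStalk x) (⟨⊥, Ideal.isPrime_bot⟩ : PrimeSpectrum (X.presheaf.stalk x)) := by
      intro 𝔭 h𝔭
      obtain ⟨hcomp, hηy⟩ := minimalPrime_point' y (⟨𝔭, h𝔭.1.1⟩ : PrimeSpectrum _) h𝔭
      apply generic_eq_of_isDomain x _ _ hcomp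
      by_contra hcon
      apply hy1
      refine ⟨_, ⟨hcomp, fun hxm => hcon (specializes_iff_mem_closure.mpr hxm)⟩, ?_⟩
      exact specializes_iff_mem_closure.mp hηy
    show IsDomain (X.presheaf.stalk y)
    apply isDomain_of_subsingleton_minimalPrimes
    intro 𝔭 h𝔭 𝔮 h𝔮
    have h1 := (key 𝔭 h𝔭).trans (key 𝔮 h𝔮).symm
    have h2 := (X.fromSpecStalk y).isEmbedding.injective h1
    exact congrArg PrimeSpectrum.asIdeal h2
  · refine ⟨?_, hxV₂⟩
    rintro ⟨C, hC, hxC⟩
    exact hC.2 hxC

/-- The locus of points of a locally Noetherian scheme whose local ring is a domain is open. -/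
theorem isOpen_dom (X : Scheme.{u}) [IsLocallyNoetherian X] :
    IsOpen {x : X | IsDomain (X.presheaf.stalk x)} := by
  rw [isOpen_iff_forall_mem_open]
  intro x hx
  obtain ⟨_, ⟨U, hU, rfl⟩, hxU, -⟩ :=
    X.isBasis_affineOpens.exists_subset_of_mem_open (Set.mem_univ x) isOpen_univ
  have hU' : IsAffineOpen (U : X.Opens) := hU
  haveI : IsNoetherianRing Γ(X, U) := IsLocallyNoetherian.component_noetherian ⟨U, hU'⟩
  haveI : NoetherianSpace (U : X.Opens) := noetherianSpace_of_isAffineOpen U hU'
  have hopen := isOpen_dom_of_noetherianSpace (U : X.Opens)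
  refine ⟨(Scheme.Opens.ι (X := X) U) '' {u : (U : X.Opens) | IsDomain ((Scheme.Opens.toScheme (X := X) U).presheaf.stalk u)},
    ?_, (Scheme.Opens.ι (X := X) U).isOpenEmbedding.isOpenMap _ hopen,
    ⟨(⟨x, hxU⟩ : (U : X.Opens)), ?_, rfl⟩⟩
  · rintro _ ⟨u, hu, rfl⟩
    exact (Groth.Agent.Helper4.GeomBC.stalk_iff
      Groth.Agent.Helper4.GeomBC.desc_isDomain (Scheme.Opens.ι (X := X) U) u).mp hu
  · exact (Groth.Agent.Helper4.GeomBC.stalk_iff
      Groth.Agent.Helper4.GeomBC.desc_isDomain (Scheme.Opens.ι (X := X) U)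
        (⟨x, hxU⟩ : (U : X.Opens))).mpr hx

/-- The geometrically pointwise integral locus of a scheme locally of finite type over a field is
open. -/
theorem isOpen_geomPtIntegral {k : Type u} [Field k] {X : Scheme.{u}}
    (f : X ⟶ Spec (CommRingCat.of k)) [LocallyOfFiniteType f] :
    IsOpen {x : X | FBase.IsGeomPtIntegralAt f x} := by
  let K := AlgebraicClosure k
  let g := Spec.map (CommRingCat.ofHom (algebraMap k K))
  let π := pullback.fst f g
  let q := pullback.snd f g
  haveI : LocallyOfFiniteType q := inferInstance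
  haveI : IsLocallyNoetherian (pullback f g) := LocallyOfFiniteType.isLocallyNoetherian q
  haveI : Subsingleton ↥(Spec (CommRingCat.of k)) :=
    inferInstanceAs (Subsingleton (PrimeSpectrum k))
  haveI : UniversallyOpen g := inferInstance
  haveI : UniversallyOpen π := inferInstance
  have hD := isOpen_dom (pullback f g)
  have hset : {x : X | FBase.IsGeomPtIntegralAt f x} =
      π '' {y | IsDomain ((pullback f g).presheaf.stalk y)} := by
    ext x
    constructor
    · intro hx
      obtain ⟨y, hy1, -⟩ := Scheme.Pullback.exists_preimage_pullback (f := f) (g := g) x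
        (IsLocalRing.closedPoint K) (Subsingleton.elim _ _)
      refine ⟨y, ?_, hy1⟩
      apply Groth.Agent.Helper4.GeomBC.isDomain_of_geomPtIntegralAt q y
      intro L _ _
      refine Groth.Agent.Helper4.GeomBC.pOver_bc_of_pOver f
        Groth.Agent.Helper4.GeomBC.desc_isDomain K y (fun L _ _ => ?_) L
      have : (pullback.fst f (Spec.map (CommRingCat.ofHom (algebraMap k K)))) y = x := hy1
      rw [this]
      exact hx L
    · rintro ⟨y, hy, rfl⟩
      haveI : IsDomain ((pullback f g).presheaf.stalk y) := hy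
      have h1 := Groth.Agent.Helper4.GeomBC.geomPtIntegralAt_of_isDomain q y
      intro L _ _
      exact Groth.Agent.Helper4.GeomBC.pOver_of_pOver_bc f
        Groth.Agent.Helper4.GeomBC.desc_isDomain K y (fun L _ _ => h1 L) L
  rw [hset]
  exact π.isOpenMap _ hD

end Groth.Agent.Helper4.DomOpen
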