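import Mathlib

/-!
# Divided powers span the graded pieces when enough differences are invertible (helper4)
-/

set_option autoImplicit false
universe u
open Finset

namespace Groth.Agent.Helper4.DpSpan

variable {A M : Type u} [CommRing A] [AddCommGroup M] [Module A M]

/-- span of the `D`-th divided powers -/
noncomputable def Sp (A M : Type u) [CommRing A] [AddCommGroup M] [Module A M] (D : ℕ) :
    Submodule A (DividedPowerAlgebra A M) :=
  Submodule.span A (Set.range (DividedPowerAlgebra.dp A D : M → DividedPowerAlgebra A M))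

theorem dp_mem_Sp (D : ℕ) (m : M) : DividedPowerAlgebra.dp A D m ∈ Sp A M D :=
  Submodule.subset_span ⟨m, rfl⟩

variable (t : A)

theorem dp_mul_dp_mem (N : ℕ) (ht : ∀ i j : ℕ, i < j → j ≤ N → IsUnit (t ^ i - t ^ j))
    (m m' : M) (a : ℕ) (ha : a ≤ N) :
    DividedPowerAlgebra.dp A a m * DividedPowerAlgebra.dp A (N - a) m' ∈ Sp A M N := by
  classical
  let V : Matrix (Fin (N + 1)) (Fin (N + 1)) A := Matrix.vandermonde (fun i => t ^ (i : ℕ))
  let v : Fin (N + 1) → DividedPowerAlgebra A M := fun b =>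
    DividedPowerAlgebra.dp A (b : ℕ) m * DividedPowerAlgebra.dp A (N - (b : ℕ)) m'
  let w : Fin (N + 1) → DividedPowerAlgebra A M := fun i =>
    DividedPowerAlgebra.dp A N ((t ^ (i : ℕ)) • m + m')
  have hw : ∀ i, w i = ∑ b, V i b • v b := by
    intro i
    simp only [w, v, V]
    rw [DividedPowerAlgebra.dp_add,
      Finset.Nat.sum_antidiagonal_eq_sum_range_succ
        (fun x y => DividedPowerAlgebra.dp A x ((t ^ (i : ℕ)) • m) * DividedPowerAlgebra.dp A y m'),
      Finset.sum_range]
    refine Finset.sum_congr rfl fun b _ => ?_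
    rw [DividedPowerAlgebra.dp_smul, Matrix.vandermonde_apply, smul_mul_assoc]
  have hdet : IsUnit V.det := by
    simp only [V]
    rw [Matrix.det_vandermonde]
    rw [IsUnit.prod_univ_iff]
    intro i
    rw [IsUnit.prod_iff]
    intro j hj
    have hij : (i : ℕ) < (j : ℕ) := Fin.lt_def.1 (Finset.mem_Ioi.1 hj)
    have := ht i j hij (by have := j.2; omega)
    have h2 : t ^ (j : ℕ) - t ^ (i : ℕ) = -(t ^ (i : ℕ) - t ^ (j : ℕ)) := by ring
    rw [h2]
    exact this.neg
  have hinv : V⁻¹ * V = 1 := Matrix.nonsing_inv_mul V hdet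
  have hv : ∀ b, v b = ∑ i, V⁻¹ b i • w i := by
    intro b
    simp only [hw]
    simp only [Finset.smul_sum, smul_smul]
    rw [Finset.sum_comm]
    simp only [← Finset.sum_smul]
    have : ∀ x, ∑ i, V⁻¹ b i * V i x = (1 : Matrix (Fin (N + 1)) (Fin (N + 1)) A) b x := by
      intro x
      rw [← hinv, Matrix.mul_apply]
    simp only [this, Matrix.one_apply]
    simp
  have := hv ⟨a, by omega⟩
  simp only [v] at this
  rw [this]
  exact Submodule.sum_mem _ fun i _ => Submodule.smul_mem _ _ (dp_mem_Sp N _)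

theorem mul_dp_mem (D k : ℕ) (ht : ∀ i j : ℕ, i < j → j ≤ D + k → IsUnit (t ^ i - t ^ j))
    (x : DividedPowerAlgebra A M) (hx : x ∈ Sp A M D) (m' : M) :
    x * DividedPowerAlgebra.dp A k m' ∈ Sp A M (D + k) := by
  induction hx using Submodule.span_induction with
  | mem x hx =>
    obtain ⟨m, rfl⟩ := hx
    have := dp_mul_dp_mem t (D + k) ht m m' D (by omega)
    rwa [Nat.add_sub_cancel_left] at this
  | zero => rw [zero_mul]; exact Submodule.zero_mem _
  | add x y _ _ hx hy => rw [add_mul]; exact Submodule.add_mem _ hx hy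
  | smul a x _ hx => rw [smul_mul_assoc]; exact Submodule.smul_mem _ _ hx

theorem prod_mem (d : ℕ) (ht : ∀ i j : ℕ, i < j → j ≤ d → IsUnit (t ^ i - t ^ j)) :
    ∀ (n : ℕ) (k : Fin n → ℕ) (m : Fin n → M), (∑ i, k i) ≤ d →
      (∏ i, DividedPowerAlgebra.dp A (k i) (m i)) ∈ Sp A M (∑ i, k i) := by
  intro n
  induction n with
  | zero =>
    intro k m _
    simp only [Finset.univ_eq_empty, Finset.prod_empty, Finset.sum_empty]
    rw [← DividedPowerAlgebra.dp_zero (R := A) (m := (0 : M))]
    exact dp_mem_Sp 0 _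
  | succ n ih =>
    intro k m hk
    rw [Fin.prod_univ_castSucc, Fin.sum_univ_castSucc]
    rw [Fin.sum_univ_castSucc] at hk
    apply mul_dp_mem t _ _ (fun i j hij hj => ht i j hij (by omega))
    exact ih (fun i => k i.castSucc) (fun i => m i.castSucc) (by omega)

end Groth.Agent.Helper4.DpSpan
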