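import Groth.Agent.Helper4.DpSpan

/-!
# Divided powers span the graded pieces: local criterion (helper4)
-/

set_option autoImplicit false
universe u
open Finset

namespace Groth.Agent.Helper4.DpSpanLoc

open Groth.Agent.Helper4.DpSpan

variable {A M : Type u} [CommRing A] [AddCommGroup M] [Module A M]

/-- Vandermonde with `N` nodes and the point at infinity -/
theorem det_smul_dp_mul_dp_mem (N : ℕ) (lam : Fin N → A) (m m' : M) (a : ℕ) (ha : a ≤ N) :
    (Matrix.vandermonde lam).det •
      (DividedPowerAlgebra.dp A a m * DividedPowerAlgebra.dp A (N - a) m') ∈ Sp A M N := by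
  classical
  rcases Nat.lt_or_ge a N with haN | haN
  swap
  · have : a = N := le_antisymm ha haN
    subst this
    rw [Nat.sub_self, DividedPowerAlgebra.dp_zero, mul_one]
    exact Submodule.smul_mem _ _ (dp_mem_Sp _ _)
  let V : Matrix (Fin N) (Fin N) A := Matrix.vandermonde lam
  let v : Fin N → DividedPowerAlgebra A M := fun b =>
    DividedPowerAlgebra.dp A (b : ℕ) m * DividedPowerAlgebra.dp A (N - (b : ℕ)) m'
  let w : Fin N → DividedPowerAlgebra A M := fun i =>
    DividedPowerAlgebra.dp A N ((lam i) • m + m') - (lam i) ^ N • DividedPowerAlgebra.dp A N m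
  have hw : ∀ i, w i = ∑ b, V i b • v b := by
    intro i
    simp only [w, v, V]
    rw [DividedPowerAlgebra.dp_add,
      Finset.Nat.sum_antidiagonal_eq_sum_range_succ
        (fun x y => DividedPowerAlgebra.dp A x ((lam i) • m) * DividedPowerAlgebra.dp A y m'),
      Finset.sum_range_succ, Nat.sub_self, DividedPowerAlgebra.dp_zero, mul_one,
      DividedPowerAlgebra.dp_smul, add_sub_cancel_right, Finset.sum_range]
    refine Finset.sum_congr rfl fun b _ => ?_
    rw [DividedPowerAlgebra.dp_smul, Matrix.vandermonde_apply, smul_mul_assoc]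
  have hwmem : ∀ i, w i ∈ Sp A M N := fun i =>
    Submodule.sub_mem _ (dp_mem_Sp _ _) (Submodule.smul_mem _ _ (dp_mem_Sp _ _))
  have hadj : V.adjugate * V = V.det • (1 : Matrix (Fin N) (Fin N) A) := Matrix.adjugate_mul V
  have hv : ∀ b, V.det • v b = ∑ i, V.adjugate b i • w i := by
    intro b
    simp only [hw]
    simp only [Finset.smul_sum, smul_smul]
    rw [Finset.sum_comm]
    simp only [← Finset.sum_smul]
    have : ∀ x, ∑ i, V.adjugate b i * V i x = (V.det • (1 : Matrix (Fin N) (Fin N) A)) b x := by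
      intro x
      rw [← hadj, Matrix.mul_apply]
    simp only [this, Matrix.smul_apply, Matrix.one_apply, smul_eq_mul, mul_ite, mul_one, mul_zero]
    simp
  have := hv ⟨a, haN⟩
  simp only [v] at this
  rw [this]
  exact Submodule.sum_mem _ fun i _ => Submodule.smul_mem _ _ (hwmem i)

variable (S : Submonoid A)

theorem mulS (D k : ℕ) (hnodes : ∃ lam : Fin (D + k) → A, (Matrix.vandermonde lam).det ∈ S)
    (x : DividedPowerAlgebra A M) (hx : ∃ s ∈ S, s • x ∈ Sp A M D) (m' : M) :
    ∃ s ∈ S, s • (x * DividedPowerAlgebra.dp A k m') ∈ Sp A M (D + k) := by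
  obtain ⟨lam, hlam⟩ := hnodes
  obtain ⟨s, hs, hsx⟩ := hx
  have key : ∀ y ∈ Sp A M D, (Matrix.vandermonde lam).det • (y * DividedPowerAlgebra.dp A k m') ∈
      Sp A M (D + k) := by
    intro y hy
    induction hy using Submodule.span_induction with
    | mem y hy =>
      obtain ⟨m, rfl⟩ := hy
      have := det_smul_dp_mul_dp_mem (D + k) lam m m' D (by omega)
      rwa [Nat.add_sub_cancel_left] at this
    | zero => rw [zero_mul, smul_zero]; exact Submodule.zero_mem _
    | add x y _ _ hx hy => rw [add_mul, smul_add]; exact Submodule.add_mem _ hx hy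
    | smul a x _ hx => rw [smul_mul_assoc, smul_comm]; exact Submodule.smul_mem _ _ hx
  refine ⟨(Matrix.vandermonde lam).det * s, S.mul_mem hlam hs, ?_⟩
  have := key _ hsx
  rwa [smul_mul_assoc, smul_smul] at this

theorem prodS (d : ℕ) (hnodes : ∀ N ≤ d, ∃ lam : Fin N → A, (Matrix.vandermonde lam).det ∈ S) :
    ∀ (n : ℕ) (k : Fin n → ℕ) (m : Fin n → M), (∑ i, k i) ≤ d →
      ∃ s ∈ S, s • (∏ i, DividedPowerAlgebra.dp A (k i) (m i)) ∈ Sp A M (∑ i, k i) := by
  intro n
  induction n with
  | zero =>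
    intro k m _
    refine ⟨1, S.one_mem, ?_⟩
    simp only [Finset.univ_eq_empty, Finset.prod_empty, Finset.sum_empty, one_smul]
    rw [← DividedPowerAlgebra.dp_zero (R := A) (m := (0 : M))]
    exact dp_mem_Sp 0 _
  | succ n ih =>
    intro k m hk
    rw [Fin.prod_univ_castSucc, Fin.sum_univ_castSucc]
    rw [Fin.sum_univ_castSucc] at hk
    apply mulS S _ _ (hnodes _ hk)
    exact ih (fun i => k i.castSucc) (fun i => m i.castSucc) (by omega)

/-- nodes from pairwise differences -/
theorem exists_nodes (d : ℕ) (lam : Fin d → A) (hlam : ∀ i j, i ≠ j → lam i - lam j ∈ S) :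
    ∀ N ≤ d, ∃ mu : Fin N → A, (Matrix.vandermonde mu).det ∈ S := by
  intro N hN
  refine ⟨fun i => lam (Fin.castLE hN i), ?_⟩
  rw [Matrix.det_vandermonde]
  refine Submonoid.prod_mem _ fun i _ => Submonoid.prod_mem _ fun j hj => ?_
  apply hlam
  intro h
  have := Fin.castLE_injective hN h
  rw [Finset.mem_Ioi] at hj
  exact absurd this (ne_of_gt hj)


/-- cyclic case: every element is, up to a scalar in `S`, a multiple of `m₀` -/
theorem prod_cyclic (m₀ : M) (hcyc : ∀ m : M, ∃ σ ∈ S, ∃ b : A, σ • m = b • m₀) :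
    ∀ (n : ℕ) (k : Fin n → ℕ) (m : Fin n → M),
      ∃ s ∈ S, s • (∏ i, DividedPowerAlgebra.dp A (k i) (m i)) ∈ Sp A M (∑ i, k i) := by
  intro n k m
  choose σ hσ b hb using hcyc
  refine ⟨∏ i, σ (m i) ^ k i, Submonoid.prod_mem _ fun i _ => Submonoid.pow_mem _ (hσ _) _, ?_⟩
  have h1 : (∏ i, σ (m i) ^ k i) • (∏ i, DividedPowerAlgebra.dp A (k i) (m i)) =
      (∏ i, b (m i) ^ k i) • ∏ i, DividedPowerAlgebra.dp A (k i) m₀ := by
    rw [← Finset.prod_smul, ← Finset.prod_smul]
    refine Finset.prod_congr rfl fun i _ => ?_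
    rw [← DividedPowerAlgebra.dp_smul, hb, DividedPowerAlgebra.dp_smul]
  rw [h1, DividedPowerAlgebra.prod_dp]
  apply Submodule.smul_mem
  rw [← nsmul_eq_mul]
  exact Submodule.smul_of_tower_mem _ _ (dp_mem_Sp _ _)

section prime

variable (p : Ideal A) [p.IsPrime]

theorem exists_nodes_of_card (d : ℕ) (h : (d : Cardinal) ≤ Cardinal.mk p.ResidueField) :
    ∃ lam : Fin d → A, ∀ i j, i ≠ j → lam i - lam j ∈ p.primeCompl := by
  classical
  obtain ⟨T, hT⟩ := Cardinal.le_mk_iff_exists_set.1 h
  obtain ⟨t, rfl, ht⟩ := Cardinal.mk_set_eq_nat_iff_finset.1 hT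
  let e : Fin d ≃ t := (t.equivFinOfCardEq ht).symm
  have hrep : ∀ κ : p.ResidueField, ∃ (a : A) (s : A), s ∉ p ∧
      κ * algebraMap A p.ResidueField s = algebraMap A p.ResidueField a := by
    intro κ
    obtain ⟨y, rfl⟩ := IsLocalRing.residue_surjective κ
    obtain ⟨⟨a, s⟩, rfl⟩ := IsLocalization.mk'_surjective p.primeCompl y
    refine ⟨a, s, s.2, ?_⟩
    rw [IsScalarTower.algebraMap_apply A (Localization.AtPrime p) p.ResidueField,
      IsScalarTower.algebraMap_apply A (Localization.AtPrime p) p.ResidueField,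
      IsLocalRing.ResidueField.algebraMap_eq, ← map_mul, IsLocalization.mk'_spec]
  choose a s hs hrep using hrep
  let φ := algebraMap A p.ResidueField
  let f : Fin d → p.ResidueField := fun i => (e i : p.ResidueField)
  have hf : Function.Injective f := fun i j hij => e.injective (Subtype.ext hij)
  refine ⟨fun i => a (f i) * ∏ j ∈ Finset.univ.erase i, s (f j), ?_⟩
  intro i j hij hmem
  have hval : ∀ i, φ (a (f i) * ∏ j ∈ Finset.univ.erase i, s (f j)) = f i * ∏ j, φ (s (f j)) := by
    intro i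
    rw [map_mul, map_prod, ← hrep (f i), mul_assoc]
    congr 1
    exact Finset.mul_prod_erase _ (fun j => φ (s (f j))) (Finset.mem_univ i)
  have hσ : (∏ j, φ (s (f j))) ≠ 0 := by
    rw [Finset.prod_ne_zero_iff]
    intro j _ h0
    exact hs (f j) (Ideal.algebraMap_residueField_eq_zero.1 h0)
  have h0 : φ ((a (f i) * ∏ j ∈ Finset.univ.erase i, s (f j)) -
      (a (f j) * ∏ k ∈ Finset.univ.erase j, s (f k))) = 0 :=
    Ideal.algebraMap_residueField_eq_zero.2 hmem
  rw [map_sub, hval, hval, ← sub_mul, mul_eq_zero] at h0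
  rcases h0 with h0 | h0
  · exact hij (hf (sub_eq_zero.1 h0))
  · exact hσ h0

theorem cyclic_of_loc (x : LocalizedModule p.primeCompl M)
    (hx : Submodule.span (Localization.AtPrime p) {x} = ⊤) :
    ∃ m₀ : M, ∀ m : M, ∃ σ ∈ p.primeCompl, ∃ b : A, σ • m = b • m₀ := by
  induction x using LocalizedModule.induction_on with
  | h m₀ s₀ =>
    refine ⟨m₀, fun m => ?_⟩
    have hm : LocalizedModule.mk m 1 ∈
        Submodule.span (Localization.AtPrime p) {LocalizedModule.mk m₀ s₀} := by
      rw [hx]; trivial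
    obtain ⟨c, hc⟩ := Submodule.mem_span_singleton.1 hm
    obtain ⟨⟨a, t⟩, rfl⟩ := Localization.mkHom_surjective c
    replace hc : Localization.mk a t • LocalizedModule.mk m₀ s₀ =
      LocalizedModule.mk m 1 := hc
    rw [LocalizedModule.mk_smul_mk, LocalizedModule.mk_eq] at hc
    obtain ⟨u, hu⟩ := hc
    refine ⟨u * (t * s₀), (u * (t * s₀)).2, u * a, ?_⟩
    rw [one_smul] at hu
    simp only [Submonoid.smul_def, Submonoid.coe_mul] at hu
    rw [mul_smul, ← hu, mul_smul]

end prime

end Groth.Agent.Helper4.DpSpanLoc
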