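import Groth.Agent.Helper4.ZCGamA

/-!
# Values of the tensor power law at `1 + nilpotent` (helper4)

If a subalgebra `G` of the tensor power contains the values of the tensor power law at all
`1 + s ⊗ a`, then it contains its values at all elements congruent to `1` modulo a nilpotent ideal
of the test algebra.
-/

set_option autoImplicit false
universe u
open scoped TensorProduct

namespace Groth.Agent.Helper4.ESymA

variable {R : Type u} [CommRing R] {A : Type u} [CommRing A] [Algebra R A] {n : ℕ}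
  (G : Subalgebra R (⨂[R] _ : Fin n, A))

/-- the image of `S ⊗ G` in `S ⊗ T^n(A)` -/
noncomputable def IM (S : Type u) [CommRing S] [Algebra R S] :
    Subalgebra R (S ⊗[R] (⨂[R] _ : Fin n, A)) :=
  (Algebra.TensorProduct.map (AlgHom.id R S) G.val).range

/-- the value of the tensor power law lies in `S ⊗ G` -/
def Good (S : Type u) [CommRing S] [Algebra R S] (z : S ⊗[R] A) : Prop :=
  (SymTen.tpowLaw R A n).law.toFun' S z ∈ IM G S

variable {G}

theorem good_one (S : Type u) [CommRing S] [Algebra R S] : Good G S 1 := by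
  unfold Good
  rw [((SymTen.tpowLaw R A n).mult S).1]
  exact one_mem _

theorem good_mul {S : Type u} [CommRing S] [Algebra R S] {z z' : S ⊗[R] A} (hz : Good G S z)
    (hz' : Good G S z') : Good G S (z * z') := by
  unfold Good
  rw [((SymTen.tpowLaw R A n).mult S).2]
  exact mul_mem hz hz'

theorem good_list_prod {S : Type u} [CommRing S] [Algebra R S] (l : List (S ⊗[R] A))
    (hl : ∀ z ∈ l, Good G S z) : Good G S l.prod := by
  induction l with
  | nil => exact good_one S
  | cons z l ih =>
    rw [List.prod_cons]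
    exact good_mul (hl z (List.mem_cons_self)) (ih fun z' hz' => hl z' (List.mem_cons_of_mem _ hz'))

theorem tmul_mul_list_sum {Q : Type u} [CommRing Q] [Algebra R Q] (q : Q) (b : A)
    (l : List (Q × A)) :
    q ⊗ₜ[R] b * (l.map fun p => p.1 ⊗ₜ[R] p.2).sum =
      (l.map fun p => (q * p.1) ⊗ₜ[R] (b * p.2)).sum := by
  induction l with
  | nil => simp
  | cons p l ih =>
    rw [List.map_cons, List.sum_cons, mul_add, ih, List.map_cons, List.sum_cons,
      Algebra.TensorProduct.tmul_mul_tmul]

/-- elements of the extension of an ideal are sums of pure tensors -/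
theorem exists_list_of_mem_map {Q : Type u} [CommRing Q] [Algebra R Q] (I : Ideal Q)
    (y : Q ⊗[R] A)
    (hy : y ∈ I.map (Algebra.TensorProduct.includeLeft : Q →ₐ[R] Q ⊗[R] A)) :
    ∃ l : List (Q × A), (∀ p ∈ l, p.1 ∈ I) ∧ y = (l.map fun p => p.1 ⊗ₜ[R] p.2).sum := by
  unfold Ideal.map at hy
  induction hy using Submodule.span_induction with
  | mem y hy =>
    obtain ⟨i, hi, rfl⟩ := hy
    exact ⟨[(i, 1)], by simpa using hi, by simp⟩
  | zero => exact ⟨[], by simp, by simp⟩
  | add y y' _ _ h h' =>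
    obtain ⟨l, hl, rfl⟩ := h
    obtain ⟨l', hl', rfl⟩ := h'
    refine ⟨l ++ l', ?_, by simp⟩
    intro p hp
    rcases List.mem_append.1 hp with hp | hp
    · exact hl p hp
    · exact hl' p hp
  | smul x y _ h =>
    obtain ⟨l, hl, rfl⟩ := h
    induction x using TensorProduct.induction_on with
    | zero => exact ⟨[], by simp, by simp⟩
    | tmul q b =>
      refine ⟨l.map fun p => (q * p.1, b * p.2), ?_, ?_⟩
      · intro p hp
        obtain ⟨p', hp', rfl⟩ := List.mem_map.1 hp
        exact I.mul_mem_left q (hl p' hp')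
      · rw [smul_eq_mul, List.map_map, tmul_mul_list_sum]
        rfl
    | add x x' hx hx' =>
      obtain ⟨l₁, hl₁, h₁⟩ := hx
      obtain ⟨l₂, hl₂, h₂⟩ := hx'
      refine ⟨l₁ ++ l₂, ?_, ?_⟩
      · intro p hp
        rcases List.mem_append.1 hp with hp | hp
        · exact hl₁ p hp
        · exact hl₂ p hp
      · rw [add_smul, h₁, h₂]
        simp

/-- the product of the `1 + x` differs from `1 + ∑ x` by an element of the square of the ideal -/
theorem list_prod_sub_mem_sq {X : Type*} [CommRing X] (J : Ideal X) (l : List X)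
    (hl : ∀ x ∈ l, x ∈ J) : (l.map fun x => 1 + x).prod - (1 + l.sum) ∈ J ^ 2 := by
  induction l with
  | nil => simp
  | cons x l ih =>
    have hx : x ∈ J := hl x List.mem_cons_self
    have hl' : ∀ x' ∈ l, x' ∈ J := fun x' hx' => hl x' (List.mem_cons_of_mem _ hx')
    have hs : l.sum ∈ J := J.list_sum_mem hl'
    have h1 := ih hl'
    rw [List.map_cons, List.prod_cons, List.sum_cons]
    have h2 : (1 + x) * (l.map fun x => 1 + x).prod - (1 + (x + l.sum)) =
        (1 + x) * ((l.map fun x => 1 + x).prod - (1 + l.sum)) + x * l.sum := by ring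
    rw [h2]
    refine add_mem (Ideal.mul_mem_left _ _ h1) ?_
    rw [pow_two]
    exact Ideal.mul_mem_mul hx hs

section claim

variable (hG : ∀ (S : Type u) [CommRing S] [Algebra R S] (s : S) (a : A),
  Good G S (1 + s ⊗ₜ[R] a))

include hG in
/-- **Main claim.** -/
theorem good_of_sub_one_mem {Q : Type u} [CommRing Q] [Algebra R Q] (𝔪 : Ideal Q) (N : ℕ)
    (h𝔪 : 𝔪 ^ N = ⊥) : ∀ (j k : ℕ), N ≤ k + j → 1 ≤ k → ∀ w : Q ⊗[R] A,
      w - 1 ∈ (𝔪 ^ k).map (Algebra.TensorProduct.includeLeft : Q →ₐ[R] Q ⊗[R] A) →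
      Good G Q w := by
  intro j
  induction j with
  | zero =>
    intro k hk _ w hw
    have h0 : 𝔪 ^ k = ⊥ := by
      rw [← le_bot_iff, ← h𝔪]
      exact Ideal.pow_le_pow_right (by omega)
    rw [h0, Ideal.map_bot, Ideal.mem_bot, sub_eq_zero] at hw
    rw [hw]
    exact good_one Q
  | succ j ih =>
    intro k hk hk1 w hw
    set f : Q →ₐ[R] Q ⊗[R] A := Algebra.TensorProduct.includeLeft with hf
    obtain ⟨l, hl, hwl⟩ := exists_list_of_mem_map (𝔪 ^ k) (w - 1) hw
    set xs : List (Q ⊗[R] A) := l.map fun p => p.1 ⊗ₜ[R] p.2 with hxs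
    have hxsJ : ∀ x ∈ xs, x ∈ (𝔪 ^ k).map f := by
      intro x hx
      obtain ⟨p, hp, rfl⟩ := List.mem_map.1 hx
      have : p.1 ⊗ₜ[R] p.2 = f p.1 * ((1 : Q) ⊗ₜ[R] p.2) := by
        simp [hf, Algebra.TensorProduct.tmul_mul_tmul]
      rw [this]
      exact Ideal.mul_mem_right _ _ (Ideal.mem_map_of_mem f (hl p hp))
    set v : Q ⊗[R] A := (xs.map fun x => 1 + x).prod with hv
    -- v is good
    have hvgood : Good G Q v := by
      apply good_list_prod
      intro z hz
      obtain ⟨x, hx, rfl⟩ := List.mem_map.1 hz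
      obtain ⟨p, _, rfl⟩ := List.mem_map.1 hx
      exact hG Q p.1 p.2
    -- v ≡ w modulo the next step
    have hvw : v - w ∈ (𝔪 ^ (k + 1)).map f := by
      have h1 := list_prod_sub_mem_sq ((𝔪 ^ k).map f) xs hxsJ
      have h2 : v - w = (xs.map fun x => 1 + x).prod - (1 + xs.sum) := by
        rw [← hwl]
        ring
      rw [h2]
      have h3 : ((𝔪 ^ k).map f) ^ 2 ≤ (𝔪 ^ (k + 1)).map f := by
        rw [← Ideal.map_pow, ← pow_mul]
        exact Ideal.map_mono (Ideal.pow_le_pow_right (by nlinarith))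
      exact h3 h1
    -- v is a unit
    have hvnil : IsNilpotent (v - 1) := by
      have h1 : v - 1 ∈ (𝔪 ^ k).map f := by
        have : v - 1 = (v - w) + (w - 1) := by ring
        rw [this]
        exact add_mem (Ideal.map_mono (Ideal.pow_le_pow_right (Nat.le_succ k)) hvw) hw
      refine ⟨N, ?_⟩
      have h2 : (v - 1) ^ N ∈ ((𝔪 ^ k).map f) ^ N := Ideal.pow_mem_pow h1 N
      rw [← Ideal.map_pow, ← pow_mul, mul_comm, pow_mul, h𝔪] at h2
      have h3 : (⊥ : Ideal Q) ^ k = ⊥ := by
        rw [← le_bot_iff]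
        exact Ideal.pow_le_self (by omega)
      rw [h3, Ideal.map_bot, Ideal.mem_bot] at h2
      exact h2
    have hvunit : IsUnit v := by
      have := hvnil.isUnit_add_one
      simpa using this
    obtain ⟨vu, hvu⟩ := hvunit
    set w' : Q ⊗[R] A := w * ↑vu⁻¹ with hw'
    have hw'1 : w' - 1 ∈ (𝔪 ^ (k + 1)).map f := by
      have : w' - 1 = -((v - w) * ↑vu⁻¹) := by
        rw [hw', ← hvu]
        have h4 : (↑vu : Q ⊗[R] A) * ↑vu⁻¹ = 1 := Units.mul_inv vu
        linear_combination h4
      rw [this]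
      exact neg_mem (Ideal.mul_mem_right _ _ hvw)
    have hw'good : Good G Q w' := ih (k + 1) (by omega) (by omega) w' hw'1
    have hfin : w = w' * v := by
      rw [hw', ← hvu, mul_assoc, Units.inv_mul, mul_one]
    rw [hfin]
    exact good_mul hw'good hvgood

end claim

end Groth.Agent.Helper4.ESymA
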