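import Groth.Agent.Helper4.ESymA

/-!
# From `1 + nilpotent` to all elements: top coefficient extraction (helper4)
-/

set_option autoImplicit false
universe u
open scoped TensorProduct
open Polynomial

namespace Groth.Agent.Helper4.ESymB

open Groth.Agent.Helper4.ESymA Groth.Agent.Helper4.NormExpB Groth.Agent.Helper4.ZCPowA
  Groth.Agent.Helper4.PolLaw1

variable {R : Type u} [CommRing R] {A : Type u} [CommRing A] [Algebra R A] {n : ℕ}

section top

variable (S : Type u) [CommRing S] [Algebra R S]

/-- the coefficient of `X ^ n`, on `S[X] ⊗ M` -/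
noncomputable def cN (M : Type u) [AddCommGroup M] [Module R M] (n : ℕ) :
    S[X] ⊗[R] M →ₗ[R] S ⊗[R] M :=
  ((Polynomial.lcoeff S n).restrictScalars R).rTensor M

theorem cN_tmul (M : Type u) [AddCommGroup M] [Module R M] (n : ℕ) (P : S[X]) (m : M) :
    cN S M n (P ⊗ₜ[R] m) = P.coeff n ⊗ₜ[R] m := rfl

/-- the element `1 + X z` of `S[X] ⊗ A` -/
noncomputable def onePlus (z : S ⊗[R] A) : S[X] ⊗[R] A :=
  1 + ((X : S[X]) ⊗ₜ[R] (1 : A)) * Algebra.TensorProduct.map (constT (A := R)) (AlgHom.id R A) z

variable {S}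

theorem coeff_prod_some {m : ℕ} (s : Fin m → S) (p' : Fin n → Fin m) :
    (∏ k : Fin n, (X * C (s (p' k)) : S[X])).coeff n = ∏ k, s (p' k) := by
  rw [Finset.prod_mul_distrib, Finset.prod_const, Finset.card_univ, Fintype.card_fin,
    ← map_prod, Polynomial.coeff_X_pow_mul', if_pos le_rfl, Nat.sub_self, Polynomial.coeff_C_zero]

theorem coeff_prod_none {m : ℕ} (s : Fin m → S) (p : Fin n → Option (Fin m)) (k₀ : Fin n)
    (hk₀ : p k₀ = none) :
    (∏ k : Fin n, (Option.elim (p k) (1 : S[X]) fun i => X * C (s i))).coeff n = 0 := by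
  classical
  apply Polynomial.coeff_eq_zero_of_natDegree_lt
  refine lt_of_le_of_lt (Polynomial.natDegree_prod_le _ _) ?_
  have h1 : ∀ k : Fin n, (Option.elim (p k) (1 : S[X]) fun i => X * C (s i)).natDegree ≤
      if k = k₀ then 0 else 1 := by
    intro k
    by_cases hk : k = k₀
    · subst hk
      rw [hk₀, if_pos rfl]
      simp
    · rw [if_neg hk]
      cases p k with
      | none => simp
      | some i =>
        refine le_trans (Polynomial.natDegree_mul_le) ?_
        simp only [Option.elim_some, Polynomial.natDegree_C, add_zero]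
        exact Polynomial.natDegree_X_le
  refine lt_of_le_of_lt (Finset.sum_le_sum fun k _ => h1 k) ?_
  rw [Finset.sum_ite, Finset.sum_const_zero, zero_add, Finset.sum_const, smul_eq_mul, mul_one]
  have h2 : (Finset.univ.filter fun k : Fin n => ¬ k = k₀).card < (Finset.univ : Finset (Fin n)).card :=
    Finset.card_lt_card (Finset.filter_ssubset.2 ⟨k₀, Finset.mem_univ _, by simp⟩)
  simpa using h2

/-- **The top coefficient of the value at `1 + X z` is the value at `z`.** -/
theorem cN_onePlus (z : S ⊗[R] A) :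
    cN S (⨂[R] _ : Fin n, A) n ((SymTen.tpowLaw R A n).law.toFun' S[X] (onePlus S z)) =
      (SymTen.tpowLaw R A n).law.toFun' S z := by
  classical
  obtain ⟨m, s, a, rfl⟩ := exists_rep_tensor z
  have h1 : onePlus S (∑ j, s j ⊗ₜ[R] a j) =
      ∑ o : Option (Fin m), (Option.elim o (1 : S[X]) fun i => X * C (s i)) ⊗ₜ[R]
        (Option.elim o (1 : A) a) := by
    rw [Fintype.sum_option, onePlus, map_sum, Finset.mul_sum]
    congr 1
    refine Finset.sum_congr rfl fun i _ => ?_
    simp [Algebra.TensorProduct.tmul_mul_tmul]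
  rw [h1, tpow_sum, tpow_sum, map_sum]
  simp_rw [cN_tmul]
  symm
  refine Fintype.sum_of_injective (fun (p' : Fin n → Fin m) k => some (p' k))
    (fun p₁ p₂ h => funext fun k => Option.some_injective _ (congrFun h k)) _ _ ?_ ?_
  · intro p hp
    have : ∃ k₀, p k₀ = none := by
      by_contra hcon
      push_neg at hcon
      apply hp
      refine ⟨fun k => (p k).get (Option.ne_none_iff_isSome.1 (hcon k)), ?_⟩
      funext k
      simp
    obtain ⟨k₀, hk₀⟩ := this
    rw [coeff_prod_none s p k₀ hk₀, TensorProduct.zero_tmul]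
  · intro p'
    simp only [Option.elim_some]
    rw [coeff_prod_some]

end top

section main

variable {G : Subalgebra R (⨂[R] _ : Fin n, A)}
  (hG : ∀ (S : Type u) [CommRing S] [Algebra R S] (s : S) (a : A), Good G S (1 + s ⊗ₜ[R] a))

variable (S : Type u) [CommRing S] [Algebra R S]

/-- the truncated polynomial ring -/
abbrev Q (S : Type u) [CommRing S] (n : ℕ) : Type u := AdjoinRoot ((X : S[X]) ^ (n + 1))

/-- the projection onto the truncated polynomial ring -/
noncomputable def πQ (n : ℕ) : S[X] →ₐ[R] Q S n :=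
  Ideal.Quotient.mkₐ R (Ideal.span {(X : S[X]) ^ (n + 1)})

theorem πQ_apply (n : ℕ) (P : S[X]) : πQ (R := R) S n P = AdjoinRoot.mk _ P := rfl

/-- the coefficient of `X ^ n` on the truncated polynomial ring -/
noncomputable def cQ (n : ℕ) : Q S n →ₗ[R] S :=
  ((Polynomial.lcoeff S n) ∘ₗ AdjoinRoot.modByMonicHom (Polynomial.monic_X_pow (n + 1))).restrictScalars R

theorem cQ_πQ (n : ℕ) (P : S[X]) : cQ (R := R) S n (πQ (R := R) S n P) = P.coeff n := by
  show (AdjoinRoot.modByMonicHom (Polynomial.monic_X_pow (n + 1)) (AdjoinRoot.mk _ P)).coeff n = _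
  rw [AdjoinRoot.modByMonicHom_mk]
  have h := Polynomial.modByMonic_add_div P ((X : S[X]) ^ (n + 1))
  conv_rhs => rw [← h]
  rw [Polynomial.coeff_add, Polynomial.coeff_X_pow_mul', if_neg (by omega), add_zero]

include hG in
/-- **All values of the tensor power law lie in `S ⊗ G`.** -/
theorem good_all (z : S ⊗[R] A) : Good G S z := by
  set f : Q S n →ₐ[R] Q S n ⊗[R] A := Algebra.TensorProduct.includeLeft with hf
  set w : Q S n ⊗[R] A :=
    Algebra.TensorProduct.map (πQ (R := R) S n) (AlgHom.id R A) (onePlus S z) with hw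
  -- the nilpotent ideal
  set 𝔪 : Ideal (Q S n) := Ideal.span {AdjoinRoot.root ((X : S[X]) ^ (n + 1))} with h𝔪
  have h𝔪N : 𝔪 ^ (n + 1) = ⊥ := by
    rw [h𝔪, Ideal.span_singleton_pow, ← AdjoinRoot.mk_X, ← map_pow, AdjoinRoot.mk_self]
    simp
  have hw1 : w - 1 ∈ (𝔪 ^ 1).map f := by
    rw [hw, onePlus, map_add, map_one, add_sub_cancel_left, map_mul,
      Algebra.TensorProduct.map_tmul, pow_one]
    refine Ideal.mul_mem_right _ _ ?_
    have : (πQ (R := R) S n) X ⊗ₜ[R] (AlgHom.id R A) (1 : A) = f (AdjoinRoot.root _) := by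
      rw [πQ_apply, AdjoinRoot.mk_X]
      rfl
    rw [this]
    exact Ideal.mem_map_of_mem f (Ideal.subset_span rfl)
  have hgood : Good G (Q S n) w :=
    good_of_sub_one_mem hG 𝔪 (n + 1) h𝔪N n 1 (by omega) le_rfl w hw1
  unfold Good at hgood ⊢
  rw [hw, compat] at hgood
  obtain ⟨y, hy⟩ := hgood
  -- apply the coefficient functional
  have h1 := congrArg ((cQ (R := R) S n).rTensor (⨂[R] _ : Fin n, A)) hy
  have h2 : ∀ u : S[X] ⊗[R] (⨂[R] _ : Fin n, A),
      (cQ (R := R) S n).rTensor (⨂[R] _ : Fin n, A)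
        (Algebra.TensorProduct.map (πQ (R := R) S n) (AlgHom.id R _) u) =
        cN S (⨂[R] _ : Fin n, A) n u := by
    intro u
    induction u using TensorProduct.induction_on with
    | zero => simp
    | tmul P t =>
      rw [Algebra.TensorProduct.map_tmul, LinearMap.rTensor_tmul, cQ_πQ, cN_tmul]
      rfl
    | add u u' hu hu' => rw [map_add, map_add, hu, hu', map_add]
  rw [h2, cN_onePlus] at h1
  rw [← h1]
  refine ⟨(cQ (R := R) S n).rTensor G y, ?_⟩
  clear hy h1
  induction y using TensorProduct.induction_on with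
  | zero => simp
  | tmul q g => simp
  | add y y' hy hy' => simp only [map_add, hy, hy']

end main

end Groth.Agent.Helper4.ESymB
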