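import Groth.Agent.Helper4.LazLiteA

/-!
# Finite free representations of tensors over a flat module (helper4)
-/

set_option autoImplicit false
universe u v
open scoped TensorProduct

namespace Groth.Agent.Helper4.LazLiteB

open Groth.Agent.Helper4.LazLiteA

variable {A : Type u} [CommRing A] {N : Type v} [AddCommGroup N] [Module A N]

theorem valMap_single {k : ℕ} (y : Fin k → N) (j : Fin k) :
    valMap (A := A) y (Pi.single j (1 : A)) = y j := by
  unfold valMap
  rw [← Pi.basisFun_apply, Module.Basis.constr_basis]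

/-- two maps from finite free modules factor through a common one -/
theorem exists_combine {m₁ m₂ : ℕ} (φ₁ : (Fin m₁ → A) →ₗ[A] N) (φ₂ : (Fin m₂ → A) →ₗ[A] N) :
    ∃ (m : ℕ) (φ : (Fin m → A) →ₗ[A] N) (i₁ : (Fin m₁ → A) →ₗ[A] (Fin m → A))
      (i₂ : (Fin m₂ → A) →ₗ[A] (Fin m → A)), φ ∘ₗ i₁ = φ₁ ∧ φ ∘ₗ i₂ = φ₂ := by
  let e : ((Fin m₁ → A) × (Fin m₂ → A)) ≃ₗ[A] (Fin (m₁ + m₂) → A) :=
    (LinearEquiv.sumArrowLequivProdArrow (Fin m₁) (Fin m₂) A A).symm.trans
      (LinearEquiv.funCongrLeft A A finSumFinEquiv.symm)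
  refine ⟨m₁ + m₂, (φ₁.coprod φ₂) ∘ₗ e.symm.toLinearMap,
    e.toLinearMap ∘ₗ LinearMap.inl A _ _, e.toLinearMap ∘ₗ LinearMap.inr A _ _, ?_, ?_⟩
  · ext v
    simp
  · ext v
    simp

/-- finitely many tensors over any module come from a finite free module -/
theorem exists_rep (n : ℕ) : ∀ (r : ℕ) (t : Fin r → ⨂[A] _ : Fin n, N),
    ∃ (m : ℕ) (φ : (Fin m → A) →ₗ[A] N) (x : Fin r → ⨂[A] _ : Fin n, (Fin m → A)),
      ∀ i, PiTensorProduct.map (fun _ => φ) (x i) = t i := by
  have single : ∀ t : ⨂[A] _ : Fin n, N, ∃ (m : ℕ) (φ : (Fin m → A) →ₗ[A] N)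
      (x : ⨂[A] _ : Fin n, (Fin m → A)), PiTensorProduct.map (fun _ => φ) x = t := by
    intro t
    induction t using PiTensorProduct.induction_on with
    | smul_tprod c u =>
      refine ⟨n, valMap u, c • PiTensorProduct.tprod A (fun i => (Pi.single i (1 : A) : Fin n → A)),
        ?_⟩
      rw [map_smul, PiTensorProduct.map_tprod]
      simp_rw [valMap_single]
    | add t₁ t₂ h₁ h₂ =>
      obtain ⟨m₁, φ₁, x₁, hx₁⟩ := h₁
      obtain ⟨m₂, φ₂, x₂, hx₂⟩ := h₂
      obtain ⟨m, φ, i₁, i₂, hi₁, hi₂⟩ := exists_combine φ₁ φ₂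
      refine ⟨m, φ, PiTensorProduct.map (fun _ => i₁) x₁ + PiTensorProduct.map (fun _ => i₂) x₂, ?_⟩
      rw [map_add, map_map, map_map, hi₁, hi₂, hx₁, hx₂]
  intro r
  induction r with
  | zero => exact fun t => ⟨0, 0, fun i => i.elim0, fun i => i.elim0⟩
  | succ r ih =>
    intro t
    obtain ⟨m₁, φ₁, x₁, hx₁⟩ := ih (fun i => t i.castSucc)
    obtain ⟨m₂, φ₂, x₂, hx₂⟩ := single (t (Fin.last r))
    obtain ⟨m, φ, i₁, i₂, hi₁, hi₂⟩ := exists_combine φ₁ φ₂
    refine ⟨m, φ, Fin.lastCases (PiTensorProduct.map (fun _ => i₂) x₂)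
      (fun i => PiTensorProduct.map (fun _ => i₁) (x₁ i)), ?_⟩
    intro i
    induction i using Fin.lastCases with
    | last =>
      dsimp only
      rw [Fin.lastCases_last, map_map, hi₂, hx₂]
    | cast i =>
      dsimp only
      rw [Fin.lastCases_castSucc, map_map, hi₁, hx₁]

/-- the factorization lemma for families indexed by a finite type -/
theorem exists_factorization' [Module.Flat A N] {ι : Type} [Fintype ι] {J : Type*} [Finite J]
    {m : ℕ} (φ : (Fin m → A) →ₗ[A] N) (x : J → ⨂[A] _ : ι, (Fin m → A))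
    (hx : ∀ j, PiTensorProduct.map (fun _ => φ) (x j) = 0) :
    ∃ (k : ℕ) (a : (Fin m → A) →ₗ[A] (Fin k → A)) (φ' : (Fin k → A) →ₗ[A] N),
      φ' ∘ₗ a = φ ∧ ∀ j, PiTensorProduct.map (fun _ => a) (x j) = 0 := by
  obtain ⟨r, ⟨e⟩⟩ := Finite.exists_equiv_fin J
  obtain ⟨k, a, φ', h1, h2⟩ := exists_factorization φ (fun i => x (e.symm i)) (fun i => hx _)
  exact ⟨k, a, φ', h1, fun j => by simpa using h2 (e j)⟩

theorem map_reindex' {n : ℕ} {F G : Type*} [AddCommGroup F] [Module A F] [AddCommGroup G]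
    [Module A G] (f : F →ₗ[A] G) (σ : Equiv.Perm (Fin n)) (z : ⨂[A] _ : Fin n, F) :
    PiTensorProduct.map (fun _ => f) (PiTensorProduct.reindex A (fun _ : Fin n => F) σ z) =
      PiTensorProduct.reindex A (fun _ : Fin n => G) σ (PiTensorProduct.map (fun _ => f) z) :=
  PiTensorProduct.map_reindex (R := A) (fun _ : Fin n => f) σ z

/-- finitely many symmetric tensors over a flat module come from symmetric tensors over a finite
free module, and a given linear relation among them can be lifted too -/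
theorem exists_symm_rep [Module.Flat A N] (n r : ℕ) (t : Fin r → ⨂[A] _ : Fin n, N)
    (ht : ∀ i (σ : Equiv.Perm (Fin n)), PiTensorProduct.reindex A (fun _ : Fin n => N) σ (t i) = t i)
    (c : Fin r → A) (hc : ∑ i, c i • t i = 0) :
    ∃ (k : ℕ) (φ : (Fin k → A) →ₗ[A] N) (x : Fin r → ⨂[A] _ : Fin n, (Fin k → A)),
      (∀ i (σ : Equiv.Perm (Fin n)),
        PiTensorProduct.reindex A (fun _ : Fin n => (Fin k → A)) σ (x i) = x i) ∧
      (∀ i, PiTensorProduct.map (fun _ => φ) (x i) = t i) ∧ ∑ i, c i • x i = 0 := by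
  obtain ⟨m, φ, x, hx⟩ := exists_rep n r t
  let z : (Fin r × Equiv.Perm (Fin n)) ⊕ Unit → ⨂[A] _ : Fin n, (Fin m → A) :=
    Sum.elim (fun p => PiTensorProduct.reindex A (fun _ : Fin n => (Fin m → A)) p.2 (x p.1) - x p.1)
      (fun _ => ∑ i, c i • x i)
  have hz : ∀ j, PiTensorProduct.map (fun _ => φ) (z j) = 0 := by
    rintro (⟨i, σ⟩ | _)
    · show PiTensorProduct.map (fun _ => φ)
        (PiTensorProduct.reindex A (fun _ : Fin n => (Fin m → A)) σ (x i) - x i) = 0
      rw [map_sub, map_reindex', hx, ht, sub_self]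
    · show PiTensorProduct.map (fun _ => φ) (∑ i, c i • x i) = 0
      rw [map_sum]
      simp_rw [map_smul, hx]
      exact hc
  obtain ⟨k, a, φ', h1, h2⟩ := exists_factorization' φ z hz
  refine ⟨k, φ', fun i => PiTensorProduct.map (fun _ => a) (x i), ?_, ?_, ?_⟩
  · intro i σ
    have := h2 (Sum.inl (i, σ))
    simp only [z, Sum.elim_inl] at this
    rw [map_sub, sub_eq_zero, map_reindex'] at this
    exact this
  · intro i
    rw [map_map, h1, hx]
  · have := h2 (Sum.inr ())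
    simp only [z, Sum.elim_inr] at this
    rw [map_sum] at this
    simp_rw [map_smul] at this
    exact this

/-- **Symmetric tensors lift along a surjection onto a flat module.** -/
theorem exists_symm_lift {M : Type*} [AddCommGroup M] [Module A M] [Module.Flat A N]
    (f : M →ₗ[A] N) (hf : Function.Surjective f) (n : ℕ) (t : ⨂[A] _ : Fin n, N)
    (ht : ∀ σ : Equiv.Perm (Fin n), PiTensorProduct.reindex A (fun _ : Fin n => N) σ t = t) :
    ∃ s : ⨂[A] _ : Fin n, M,
      (∀ σ : Equiv.Perm (Fin n), PiTensorProduct.reindex A (fun _ : Fin n => M) σ s = s) ∧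
      PiTensorProduct.map (fun _ : Fin n => f) s = t := by
  obtain ⟨k, φ, x, hx1, hx2, -⟩ := exists_symm_rep n 1 (fun _ => t) (fun _ σ => ht σ)
    (fun _ => 0) (by simp)
  choose g hg using hf
  let ψ : (Fin k → A) →ₗ[A] M := valMap (fun j => g (φ (Pi.single j 1)))
  have hψ : f ∘ₗ ψ = φ := by
    apply (Pi.basisFun A (Fin k)).ext
    intro j
    rw [Pi.basisFun_apply, LinearMap.comp_apply, valMap_single, hg]
  refine ⟨PiTensorProduct.map (fun _ => ψ) (x 0), fun σ => ?_, ?_⟩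
  · rw [← map_reindex', hx1]
  · rw [map_map, hψ, hx2]

end Groth.Agent.Helper4.LazLiteB
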