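import Groth.Agent.Helper4.ZCNormB

/-!
# Invariant tensors over a free algebra are combinations of orbit sums (helper4)
-/

set_option autoImplicit false
universe u
open scoped TensorProduct

namespace Groth.Agent.Helper4.ZCInvA

open Groth.Agent.Helper4.NormExpA Groth.Agent.Helper4.NormExpB Groth.Agent.Helper4.GammaSpan

variable {A : Type u} [CommRing A] {P : Type u} [CommRing P] [Algebra A P] {d : ℕ}
  {I : Type u} (e : Module.Basis I A P)

/-- the tensor basis -/
noncomputable def E : Module.Basis (Fin d → I) A (⨂[A] _ : Fin d, P) :=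
  Basis.piTensorProduct (fun _ : Fin d => e)

theorem E_apply (w : Fin d → I) :
    E (d := d) e w = PiTensorProduct.tprod A (fun i => e (w i)) :=
  Basis.piTensorProduct_apply _ _

theorem repr_perm (σ : Equiv.Perm (Fin d)) (t : ⨂[A] _ : Fin d, P) (w : Fin d → I) :
    (E e).repr (SymTen.perm A P d σ t) w = (E e).repr t (w ∘ σ) := by
  induction t using PiTensorProduct.induction_on with
  | smul_tprod r x =>
    rw [map_smul, SymTen.perm_tprod, map_smul, map_smul, Finsupp.smul_apply, Finsupp.smul_apply]
    congr 1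
    unfold E
    rw [Basis.piTensorProduct_repr_tprod_apply, Basis.piTensorProduct_repr_tprod_apply]
    exact Equiv.prod_comp σ.symm (fun j => e.repr (x j) (w (σ j))) |>.symm.trans (by simp) |>.symm
  | add x y hx hy => rw [map_add, map_add, map_add, Finsupp.add_apply, Finsupp.add_apply, hx, hy]

section S

variable (S : Type u) [CommSemiring S] [Algebra A S]

open Classical in
/-- coefficients of an element of the base change in the tensor basis -/
noncomputable def Θ : S ⊗[A] (⨂[A] _ : Fin d, P) ≃ₗ[A] ((Fin d → I) →₀ S) :=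
  TensorProduct.equivFinsuppOfBasisRight (E e)

theorem Θ_tmul (s : S) (t : ⨂[A] _ : Fin d, P) (w : Fin d → I) :
    Θ e S (s ⊗ₜ[A] t) w = (E e).repr t w • s := by
  classical
  exact TensorProduct.equivFinsuppOfBasisRight_apply_tmul_apply (E e) s t w

theorem Θ_perm (σ : Equiv.Perm (Fin d)) (z : S ⊗[A] (⨂[A] _ : Fin d, P)) (w : Fin d → I) :
    Θ e S ((SymTen.perm A P d σ).toLinearMap.lTensor S z) w = Θ e S z (w ∘ σ) := by
  induction z using TensorProduct.induction_on with
  | zero => simp
  | tmul s t =>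
    rw [LinearMap.lTensor_tmul, AlgHom.toLinearMap_apply, Θ_tmul, Θ_tmul, repr_perm]
  | add x y hx hy => rw [map_add, map_add, map_add, Finsupp.add_apply, Finsupp.add_apply, hx, hy]

/-- an element of the base change is a finite combination of basis tensors over a finite set of
letters -/
theorem exists_letters (z : S ⊗[A] (⨂[A] _ : Fin d, P)) :
    ∃ (Ls : Finset I) (c : (Fin d → Ls) → S),
      z = ∑ w : Fin d → Ls, c w ⊗ₜ[A] PiTensorProduct.tprod A (fun i => e (w i)) ∧
      ∀ w : Fin d → Ls, c w = Θ e S z (fun i => (w i : I)) := by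
  classical
  set c₀ := Θ e S z with hc₀
  let Ls : Finset I := c₀.support.biUnion (fun w => Finset.univ.image w)
  refine ⟨Ls, fun w => c₀ (fun i => (w i : I)), ?_, fun w => rfl⟩
  apply (Θ e S).injective
  ext w₀
  rw [map_sum, Finsupp.finsetSum_apply]
  simp_rw [Θ_tmul, ← E_apply, Module.Basis.repr_self, Finsupp.single_apply]
  by_cases hw₀ : ∀ i, w₀ i ∈ Ls
  · rw [Finset.sum_eq_single (fun i => (⟨w₀ i, hw₀ i⟩ : Ls))]
    · simp
      rfl
    · intro w _ hne
      rw [if_neg, zero_smul]
      intro h
      apply hne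
      funext i
      exact Subtype.ext (congrFun h i)
    · intro h
      exact absurd (Finset.mem_univ _) h
  · rw [Finset.sum_eq_zero]
    · symm
      by_contra hne
      apply hw₀
      intro i
      exact Finset.mem_biUnion.2 ⟨w₀, Finsupp.mem_support_iff.2 (fun h => hne h.symm),
        Finset.mem_image_of_mem _ (Finset.mem_univ i)⟩
    · intro w _
      rw [if_neg, zero_smul]
      intro h
      apply hw₀
      intro i
      rw [← h]
      exact (w i).2

end S

section group

variable {S : Type u} [CommSemiring S] [Algebra A S]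

open Classical in
/-- grouping a symmetric combination of pure tensors into orbit sums -/
theorem sum_eq_sum_orb {L : Type*} [Fintype L] [DecidableEq L] (m : L → P)
    (c : (Fin d → L) → S) (hc : ∀ (w : Fin d → L) (σ : Equiv.Perm (Fin d)), c (w ∘ σ) = c w) :
    (∑ w : Fin d → L, c w ⊗ₜ[A] PiTensorProduct.tprod A (fun i => m (w i))) =
      ∑ ν ∈ (Finset.univ : Finset (Fin d → L)).image cnt,
        (if h : ∃ w : Fin d → L, cnt w = ν then c h.choose else 0) ⊗ₜ[A]
          (orb m ν : ⨂[A] _ : Fin d, P) := by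
  rw [← Finset.sum_fiberwise_of_maps_to (s := Finset.univ) (t := Finset.univ.image cnt) (g := cnt)
    (fun w _ => Finset.mem_image_of_mem _ (Finset.mem_univ w))]
  refine Finset.sum_congr rfl fun ν _ => ?_
  unfold orb
  rw [TensorProduct.tmul_sum]
  have hite : ∀ (X : S) (a : Fin d → L),
      X ⊗ₜ[A] (if cnt a = ν then PiTensorProduct.tprod A (fun i => m (a i)) else 0) =
        if cnt a = ν then X ⊗ₜ[A] PiTensorProduct.tprod A (fun i => m (a i)) else 0 := by
    intro X a
    split_ifs
    · rfl
    · rw [TensorProduct.tmul_zero]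
  simp_rw [hite]
  rw [← Finset.sum_filter]
  refine Finset.sum_congr rfl fun w hw => ?_
  have hwν : cnt w = ν := (Finset.mem_filter.1 hw).2
  have hex : ∃ w' : Fin d → L, cnt w' = ν := ⟨w, hwν⟩
  rw [dif_pos hex]
  congr 1
  obtain ⟨τ, hτ⟩ := exists_perm_of_cnt_eq w hex.choose (hwν.trans hex.choose_spec.symm)
  rw [hτ, hc]

end group

section main

variable (S : Type u) [CommSemiring S] [Algebra A S]

theorem orb_mem_span' {L : Type*} [Fintype L] [DecidableEq L] (m : L → P) (ν : L →₀ ℕ) :
    (orb m ν : ⨂[A] _ : Fin d, P) ∈ Submodule.span A (GenSet (SymTen.tpowLaw A P d).law) := by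
  rw [orb_equiv (Fintype.equivFin L)]
  exact orb_mem_span _ _

/-- **Invariant tensors are combinations of orbit sums.** -/
theorem exists_of_invariant (e : Module.Basis I A P) (z : S ⊗[A] (⨂[A] _ : Fin d, P))
    (hz : ∀ σ : Equiv.Perm (Fin d), (SymTen.perm A P d σ).toLinearMap.lTensor S z = z) :
    ∃ w : S ⊗[A] Cgen (SymTen.tpowLaw A P d),
      (Cgen (SymTen.tpowLaw A P d)).val.toLinearMap.lTensor S w = z := by
  classical
  obtain ⟨Ls, c, hzc, hc⟩ := exists_letters e S z
  have hsym : ∀ (w : Fin d → Ls) (σ : Equiv.Perm (Fin d)), c (w ∘ σ) = c w := by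
    intro w σ
    rw [hc, hc]
    have := Θ_perm e S σ z (fun i => (w i : I))
    rw [hz σ] at this
    exact this.symm
  rw [sum_eq_sum_orb (fun l : Ls => e l) c hsym] at hzc
  refine ⟨∑ ν ∈ (Finset.univ : Finset (Fin d → Ls)).image cnt,
    (if h : ∃ w : Fin d → Ls, cnt w = ν then c h.choose else 0) ⊗ₜ[A]
      ⟨orb (fun l : Ls => e l) ν, orb_mem_span' _ _⟩, ?_⟩
  rw [hzc, map_sum]
  rfl

end main

end Groth.Agent.Helper4.ZCInvA
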