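import Groth.Agent.Helper4.ZCGamA
import Groth.Agent.Helper4.ZCInvA
import Groth.Agent.Helper4.LazLiteB

/-!
# `TS^d(B)` as the divided power algebra when `B` is flat (helper4)
-/

set_option autoImplicit false
universe u
open scoped TensorProduct

namespace Groth.Agent.Helper4.ZCGamC

open Groth.Agent.Helper4.NormExpA Groth.Agent.Helper4.NormExpB Groth.Agent.Helper4.GammaSpan
  Groth.Agent.Helper4.ZCNormA Groth.Agent.Helper4.ZCPowA Groth.Agent.Helper4.ZCGamA
  Groth.Agent.Helper4.ZCInvA Groth.Agent.Helper4.LazLiteA Groth.Agent.Helper4.LazLiteB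

variable {A : Type u} [CommRing A] {B : Type u} [CommRing B] [Algebra A B] {d : ℕ}

theorem tmap_eq_map {P : Type u} [CommRing P] [Algebra A P] (f : P →ₐ[A] B)
    (t : ⨂[A] _ : Fin d, P) :
    SymTen.tmap A d f t = PiTensorProduct.map (fun _ : Fin d => f.toLinearMap) t := by
  induction t using PiTensorProduct.induction_on with
  | smul_tprod r u => rw [map_smul, map_smul, SymTen.tmap_tprod, PiTensorProduct.map_tprod]; rfl
  | add x y hx hy => rw [map_add, map_add, hx, hy]

theorem lid_lTensor_val {P : Type u} [CommRing P] [Algebra A P]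
    (w : A ⊗[A] Cgen (SymTen.tpowLaw A P d)) :
    TensorProduct.lid A _ ((Cgen (SymTen.tpowLaw A P d)).val.toLinearMap.lTensor A w) =
      ((TensorProduct.lid A _ w : Cgen (SymTen.tpowLaw A P d)) : ⨂[A] _ : Fin d, P) := by
  induction w using TensorProduct.induction_on with
  | zero => simp
  | tmul a c => simp
  | add x y hx hy => simp only [map_add, hx, hy, Subalgebra.coe_add]

/-- symmetric tensors over the free cover lie in the span -/
theorem mem_TSS_of_symm {x : ⨂[A] _ : Fin d, MvPolynomial B A}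
    (hx : ∀ σ : Equiv.Perm (Fin d),
      PiTensorProduct.reindex A (fun _ : Fin d => MvPolynomial B A) σ x = x) :
    x ∈ TSS A B d := by
  obtain ⟨w, hw⟩ := exists_of_invariant A (MvPolynomial.basisMonomials B A)
    ((1 : A) ⊗ₜ[A] x) (by
      intro σ
      rw [LinearMap.lTensor_tmul, AlgHom.toLinearMap_apply, SymTen.perm_apply, hx σ])
  have h1 := congrArg (TensorProduct.lid A _) hw
  rw [lid_lTensor_val, TensorProduct.lid_tmul, one_smul] at h1
  rw [← h1]
  exact (TensorProduct.lid A _ w).2

theorem Sur_of_flat [Module.Flat A B] : Sur A B d := by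
  intro t ht
  obtain ⟨s, hs1, hs2⟩ := exists_symm_lift (π A B).toLinearMap π_surj d t ht
  exact ⟨s, mem_TSS_of_symm hs1, (tmap_eq_map _ s).trans hs2⟩

/-- plain form of the grouping into orbit sums -/
theorem sum_smul_eq_sum_orb {P : Type u} [CommRing P] [Algebra A P] {k : ℕ} (m : Fin k → P)
    (c : (Fin d → Fin k) → A)
    (hc : ∀ (w : Fin d → Fin k) (σ : Equiv.Perm (Fin d)), c (w ∘ σ) = c w) :
    (∑ w : Fin d → Fin k, c w • PiTensorProduct.tprod A (fun i => m (w i))) =
      ∑ ν ∈ (Finset.univ : Finset (Fin d → Fin k)).image cnt,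
        (if h : ∃ w : Fin d → Fin k, cnt w = ν then c h.choose else 0) •
          (orb m ν : ⨂[A] _ : Fin d, P) := by
  classical
  have h := congrArg (TensorProduct.lid A _) (sum_eq_sum_orb (A := A) (S := A) m c hc)
  rw [map_sum, map_sum] at h
  simp only [TensorProduct.lid_tmul] at h
  convert h using 2

theorem gF_sum_words {C' : Type u} [CommRing C'] [Algebra A C'] (F : PolLaw.MulLaw A B C' d)
    {k : ℕ} (m m' : Fin k → MvPolynomial B A) (hm : ∀ j, π A B (m j) = π A B (m' j))
    (c : (Fin d → Fin k) → A)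
    (hc : ∀ (w : Fin d → Fin k) (σ : Equiv.Perm (Fin d)), c (w ∘ σ) = c w) :
    gF F (∑ w : Fin d → Fin k, c w • PiTensorProduct.tprod A (fun i => m (w i))) =
      gF F (∑ w : Fin d → Fin k, c w • PiTensorProduct.tprod A (fun i => m' (w i))) := by
  classical
  rw [sum_smul_eq_sum_orb m c hc, sum_smul_eq_sum_orb m' c hc, map_sum, map_sum]
  refine Finset.sum_congr rfl fun ν _ => ?_
  rw [map_smul, map_smul, gF_orb, gF_orb]
  simp_rw [hm]

/-- a symmetric tensor over the free cover as a symmetric combination of words in finitely many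
letters -/
theorem exists_words {x : ⨂[A] _ : Fin d, MvPolynomial B A}
    (hx : ∀ σ : Equiv.Perm (Fin d),
      PiTensorProduct.reindex A (fun _ : Fin d => MvPolynomial B A) σ x = x) :
    ∃ (k : ℕ) (m : Fin k → MvPolynomial B A) (c : (Fin d → Fin k) → A),
      (∀ (w : Fin d → Fin k) (σ : Equiv.Perm (Fin d)), c (w ∘ σ) = c w) ∧
      x = ∑ w : Fin d → Fin k, c w • PiTensorProduct.tprod A (fun i => m (w i)) := by
  classical
  set e := MvPolynomial.basisMonomials B A with he
  obtain ⟨Ls, c, hzc, hc⟩ := exists_letters e A ((1 : A) ⊗ₜ[A] x)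
  have hsym : ∀ (w : Fin d → Ls) (σ : Equiv.Perm (Fin d)), c (w ∘ σ) = c w := by
    intro w σ
    rw [hc, hc]
    have := Θ_perm e A σ ((1 : A) ⊗ₜ[A] x) (fun i => (w i : B →₀ ℕ))
    rw [LinearMap.lTensor_tmul, AlgHom.toLinearMap_apply, SymTen.perm_apply, hx σ] at this
    exact this.symm
  have hx' : x = ∑ w : Fin d → Ls, c w • PiTensorProduct.tprod A (fun i => e (w i)) := by
    have h := congrArg (TensorProduct.lid A _) hzc
    rw [TensorProduct.lid_tmul, one_smul, map_sum] at h
    simpa only [TensorProduct.lid_tmul] using h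
  let eqv := Fintype.equivFin Ls
  refine ⟨Fintype.card Ls, fun j => e (eqv.symm j), fun w => c (fun i => eqv.symm (w i)), ?_, ?_⟩
  · intro w σ
    exact hsym (fun i => eqv.symm (w i)) σ
  · rw [hx']
    refine Fintype.sum_equiv (Equiv.piCongrRight fun _ => eqv) _ _ fun w => ?_
    simp [Equiv.piCongrRight]

theorem Ker_of_flat [Module.Flat A B] : Ker A B d := by
  intro C' _ _ F x hx hx0
  have hsym : ∀ σ : Equiv.Perm (Fin d),
      PiTensorProduct.reindex A (fun _ : Fin d => MvPolynomial B A) σ x = x :=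
    fun σ => span_GenSet_le_TS hx σ
  obtain ⟨k, m, c, hc, rfl⟩ := exists_words hsym
  -- the finite free model
  let x₀ : ⨂[A] _ : Fin d, (Fin k → A) :=
    ∑ w : Fin d → Fin k, c w • PiTensorProduct.tprod A (fun i => (Pi.single (w i) (1 : A) : Fin k → A))
  let φ : (Fin k → A) →ₗ[A] B := valMap (fun j => π A B (m j))
  have hφx₀ : PiTensorProduct.map (fun _ : Fin d => φ) x₀ = 0 := by
    rw [← hx0, map_sum, map_sum]
    refine Finset.sum_congr rfl fun w _ => ?_
    rw [map_smul, map_smul, PiTensorProduct.map_tprod, SymTen.tmap_tprod]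
    simp only [φ, valMap_single]
  obtain ⟨k', a, φ', h1, h2⟩ := exists_factorization' (J := Unit) φ (fun _ => x₀) (fun _ => hφx₀)
  let ψ : (Fin k' → A) →ₗ[A] MvPolynomial B A :=
    valMap (fun j => MvPolynomial.X (φ' (Pi.single j 1)))
  have hψ : (π A B).toLinearMap ∘ₗ ψ = φ' := by
    apply (Pi.basisFun A (Fin k')).ext
    intro j
    rw [Pi.basisFun_apply, LinearMap.comp_apply, valMap_single]
    simp [π]
  let m' : Fin k → MvPolynomial B A := fun j => ψ (a (Pi.single j 1))
  have hm : ∀ j, π A B (m j) = π A B (m' j) := by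
    intro j
    have h3 : π A B (m' j) = ((π A B).toLinearMap ∘ₗ ψ) (a (Pi.single j 1)) := rfl
    rw [h3, hψ, ← LinearMap.comp_apply, h1]
    simp only [φ, valMap_single]
  have hx' : (∑ w : Fin d → Fin k, c w • PiTensorProduct.tprod A (fun i => m' (w i))) = 0 := by
    have h4 : PiTensorProduct.map (fun _ : Fin d => ψ ∘ₗ a) x₀ = 0 := by
      rw [← map_map, h2 (), map_zero]
    rw [← h4, map_sum]
    refine Finset.sum_congr rfl fun w _ => ?_
    rw [map_smul, PiTensorProduct.map_tprod]
    rfl
  rw [gF_sum_words F m m' hm c hc, hx', map_zero]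

end Groth.Agent.Helper4.ZCGamC
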