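import Groth.Agent.Helper4.ESymB
import Groth.Agent.Helper4.ZCGamC

/-!
# Symmetric tensors of a flat algebra are generated by the elementary symmetric tensors (helper4)
-/

set_option autoImplicit false
universe u
open scoped TensorProduct

namespace Groth.Agent.Helper4.ESymC

open Groth.Agent.Helper4.ESymA Groth.Agent.Helper4.ESymB Groth.Agent.Helper4.NormExpB
  Groth.Agent.Helper4.GammaSpan Groth.Agent.Helper4.PolarTS

variable (R : Type u) [CommRing R] (A : Type u) [CommRing A] [Algebra R A] (n : ℕ)

/-- the elementary symmetric tensor -/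
noncomputable def esym (j : ℕ) (a : A) : ⨂[R] _ : Fin n, A :=
  ∑ I ∈ (Finset.univ : Finset (Fin n)).powersetCard j,
    PiTensorProduct.tprod R (fun i : Fin n => if i ∈ I then a else (1 : A))

/-- the subalgebra generated by the elementary symmetric tensors -/
noncomputable def Gen : Subalgebra R (⨂[R] _ : Fin n, A) :=
  Algebra.adjoin R {t : ⨂[R] _ : Fin n, A | ∃ (a : A) (j : ℕ),
    t = ∑ I ∈ (Finset.univ : Finset (Fin n)).powersetCard j,
      PiTensorProduct.tprod R (fun i : Fin n => if i ∈ I then a else (1 : A))}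

variable {R A n}

theorem esym_mem_Gen (j : ℕ) (a : A) : esym R A n j a ∈ Gen R A n :=
  Algebra.subset_adjoin ⟨a, j, rfl⟩

/-- words in two letters correspond to subsets -/
def boolEquiv (n : ℕ) : (Fin n → Bool) ≃ Finset (Fin n) where
  toFun p := Finset.univ.filter (fun k => p k = true)
  invFun I := fun k => decide (k ∈ I)
  left_inv p := by funext k; simp
  right_inv I := by ext k; simp

/-- the value of the tensor power law at `1 + s ⊗ a` -/
theorem tpow_one_add (S : Type u) [CommRing S] [Algebra R S] (s : S) (a : A) :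
    (SymTen.tpowLaw R A n).law.toFun' S (1 + s ⊗ₜ[R] a) =
      ∑ j ∈ Finset.range (n + 1), (s ^ j) ⊗ₜ[R] esym R A n j a := by
  classical
  have h1 : (1 : S ⊗[R] A) + s ⊗ₜ[R] a =
      ∑ b : Bool, (if b = true then s else 1) ⊗ₜ[R] (if b = true then a else 1) := by
    rw [Fintype.sum_bool]
    simp [Algebra.TensorProduct.one_def, add_comm]
  rw [h1, tpow_sum]
  have h2 : ∀ p : Fin n → Bool,
      (∏ k, (if p k = true then s else 1)) ⊗ₜ[R]
        PiTensorProduct.tprod R (fun k => if p k = true then a else (1 : A)) =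
      (fun I : Finset (Fin n) => (s ^ I.card) ⊗ₜ[R]
        PiTensorProduct.tprod R (fun i : Fin n => if i ∈ I then a else (1 : A))) (boolEquiv n p) := by
    intro p
    dsimp only
    congr 1
    · rw [Finset.prod_ite, Finset.prod_const_one, mul_one, Finset.prod_const]
      rfl
    · congr 1
      funext i
      simp [boolEquiv]
  refine (Fintype.sum_equiv (boolEquiv n) _ (fun I : Finset (Fin n) => (s ^ I.card) ⊗ₜ[R]
        PiTensorProduct.tprod R (fun i : Fin n => if i ∈ I then a else (1 : A)))
        (fun p => h2 p)).trans ?_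
  rw [← Finset.powerset_univ, Finset.powerset_card_disjiUnion, Finset.sum_disjiUnion,
    Finset.card_univ, Fintype.card_fin]
  refine Finset.sum_congr rfl fun j _ => ?_
  rw [esym, TensorProduct.tmul_sum]
  refine Finset.sum_congr rfl fun I hI => ?_
  rw [(Finset.mem_powersetCard.1 hI).2]

theorem good_one_add (S : Type u) [CommRing S] [Algebra R S] (s : S) (a : A) :
    Good (Gen R A n) S (1 + s ⊗ₜ[R] a) := by
  unfold Good
  rw [tpow_one_add]
  refine Subalgebra.sum_mem _ fun j _ => ?_
  exact ⟨(s ^ j) ⊗ₜ[R] ⟨esym R A n j a, esym_mem_Gen j a⟩, rfl⟩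

theorem esym_mem_TS (j : ℕ) (a : A) : esym R A n j a ∈ SymTen.TS R A n := by
  classical
  intro σ
  rw [esym, map_sum]
  simp_rw [PiTensorProduct.reindex_tprod]
  refine Finset.sum_nbij' (fun I => I.map σ.toEmbedding) (fun I => I.map σ.symm.toEmbedding)
    ?_ ?_ ?_ ?_ ?_
  · intro I hI
    rw [Finset.mem_powersetCard] at hI ⊢
    exact ⟨Finset.subset_univ _, by rw [Finset.card_map]; exact hI.2⟩
  · intro I hI
    rw [Finset.mem_powersetCard] at hI ⊢
    exact ⟨Finset.subset_univ _, by rw [Finset.card_map]; exact hI.2⟩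
  · intro I _
    ext i
    simp
  · intro I _
    ext i
    simp
  · intro I _
    congr 1
    funext i
    simp only [Finset.mem_map_equiv]

theorem Gen_le_TS : Gen R A n ≤ SymTen.TS R A n := by
  apply Algebra.adjoin_le
  rintro _ ⟨a, j, rfl⟩
  exact esym_mem_TS j a

/-- **Symmetric tensors of a flat algebra are generated by elementary symmetric tensors.** -/
theorem TS_eq_Gen [Module.Flat R A] : SymTen.TS R A n = Gen R A n := by
  apply le_antisymm _ Gen_le_TS
  intro t ht
  have h1 : t ∈ Submodule.span R (GenSet (SymTen.tpowLaw R A n).law) :=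
    Groth.Agent.Helper4.ZCGamA.TS_le_Cgen Groth.Agent.Helper4.ZCGamC.Sur_of_flat ht
  have h2 : Submodule.span R (GenSet (SymTen.tpowLaw R A n).law) ≤
      Subalgebra.toSubmodule (Gen R A n) := by
    rw [Submodule.span_le]
    rintro _ ⟨S, _, _, ℓ, z, rfl⟩
    obtain ⟨y, hy⟩ := good_all (G := Gen R A n) (fun S _ _ s a => good_one_add S s a) S z
    rw [← hy]
    have h3 : ev ℓ (Algebra.TensorProduct.map (AlgHom.id R S) (Gen R A n).val y) =
        ((ev ℓ y : Gen R A n) : ⨂[R] _ : Fin n, A) := by
      clear hy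
      induction y using TensorProduct.induction_on with
      | zero => simp
      | tmul s g => simp
      | add y y' hy hy' => simp only [map_add, hy, hy', Subalgebra.coe_add]
    show ev ℓ (Algebra.TensorProduct.map (AlgHom.id R S) (Gen R A n).val y) ∈ Gen R A n
    rw [h3]
    exact (ev ℓ y).2
  exact h2 h1

end Groth.Agent.Helper4.ESymC
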