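import Mathlib
import Groth.Prelude.Def_KRR
import Groth.Agent.Helper1.LambdaAdams2

set_option autoImplicit false

/-!
# Helper4: the elementary extension `K_e = K[T]/(p_e)` of a λ-ring: the functional with values `σ^i(e)`
-/

namespace Groth.Agent.Helper4.ElemExt

open LambdaRing Finset Polynomial

universe v

variable {K : Type v} [CommRing K] [LambdaOps K] (P : PosStructure K)

/-- the coefficients of `λ_{-t}(e)` -/
def c (e : K) (i : ℕ) : K := (-1 : K) ^ i * LambdaOps.lam i e

theorem c_zero (e : K) : c e 0 = 1 := by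
  unfold c; simp [LambdaOps.lam_zero]

/-- the recursion satisfied by the `σ^i(e)` -/
theorem sigma_rec (e : K) (N : ℕ) :
    ∑ i ∈ range (N + 1), c e i * KRR.sigma (N - i) e = if N = 0 then 1 else 0 := by
  have h1 : PowerSeries.rescale (-1 : K) (lamSeries e) * KRR.sigmaSeries e = 1 := by
    unfold KRR.sigmaSeries
    apply PowerSeries.mul_invOfUnit
    rw [← PowerSeries.coeff_zero_eq_constantCoeff_apply, PowerSeries.coeff_rescale]
    simp [Groth.Agent.Helper1.Lambda.coeff_lamSeries, LambdaOps.lam_zero]
  have h2 := congrArg (PowerSeries.coeff N) h1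
  rw [PowerSeries.coeff_mul, PowerSeries.coeff_one,
    Finset.Nat.sum_antidiagonal_eq_sum_range_succ_mk] at h2
  rw [← h2]
  refine Finset.sum_congr rfl fun i _ => ?_
  rw [PowerSeries.coeff_rescale, Groth.Agent.Helper1.Lambda.coeff_lamSeries]
  rfl

theorem sigma_rec' (e : K) (m : ℕ) (hvan : ∀ i, m < i → LambdaOps.lam i e = 0) (N : ℕ) (hN : m ≤ N) :
    ∑ i ∈ range (m + 1), c e i * KRR.sigma (N - i) e = if N = 0 then 1 else 0 := by
  rw [← sigma_rec e N]
  apply Finset.sum_subset (Finset.range_mono (by omega))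
  intro i _ hi
  rw [Finset.mem_range] at hi
  unfold c
  rw [hvan i (by omega), mul_zero, zero_mul]

variable (e : K)

/-- the root relation in `K_e` -/
theorem root_rel (m : ℕ) (hm : (P.aug e).toNat = m) :
    ∑ i ∈ range (m + 1), c e i • AdjoinRoot.root (KRR.extPoly P e) ^ (m - i) = 0 := by
  have h := AdjoinRoot.eval₂_root (KRR.extPoly P e)
  conv at h =>
    lhs
    arg 3
    unfold KRR.extPoly
  rw [hm, Polynomial.eval₂_finset_sum] at h
  rw [← h]
  refine Finset.sum_congr rfl fun i _ => ?_
  rw [Polynomial.eval₂_mul, Polynomial.eval₂_C, Polynomial.eval₂_X_pow, Algebra.smul_def,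
    AdjoinRoot.algebraMap_eq]
  rfl

section functional

variable (m : ℕ) (hm : (P.aug e).toNat = m) (hm1 : 1 ≤ m)
  (hvan : ∀ i, m < i → LambdaOps.lam i e = 0)
  (f : AdjoinRoot (KRR.extPoly P e) →ₗ[K] K)
  (hf : ∀ i, i < m → f (AdjoinRoot.root (KRR.extPoly P e) ^ i) = KRR.sigma i e)

include hm hm1 hvan hf in
theorem f_pow (n : ℕ) : f (AdjoinRoot.root (KRR.extPoly P e) ^ n) = KRR.sigma n e := by
  induction n using Nat.strong_induction_on with
  | _ n ih =>
    by_cases hn : n < m
    · exact hf n hn
    · obtain ⟨k, rfl⟩ : ∃ k, n = m + k := ⟨n - m, by omega⟩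
      have h1 : ∑ i ∈ range (m + 1), c e i • AdjoinRoot.root (KRR.extPoly P e) ^ (m - i + k) = 0 := by
        have := congrArg (fun z => z * AdjoinRoot.root (KRR.extPoly P e) ^ k) (root_rel P e m hm)
        simp only [zero_mul, Finset.sum_mul, smul_mul_assoc, ← pow_add] at this
        exact this
      have h2 := congrArg f h1
      rw [map_sum, map_zero, Finset.sum_range_succ'] at h2
      simp only [map_smul, smul_eq_mul, c_zero, one_mul, Nat.sub_zero] at h2
      have h3 := sigma_rec' e m hvan (m + k) (by omega)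
      rw [if_neg (by omega), Finset.sum_range_succ'] at h3
      simp only [c_zero, one_mul, Nat.sub_zero] at h3
      have h4 : ∑ i ∈ range m, c e (i + 1) * f (AdjoinRoot.root (KRR.extPoly P e) ^ (m - (i + 1) + k)) =
          ∑ i ∈ range m, c e (i + 1) * KRR.sigma (m + k - (i + 1)) e := by
        refine Finset.sum_congr rfl fun i hi => ?_
        rw [Finset.mem_range] at hi
        rw [ih (m - (i + 1) + k) (by omega)]
        congr 2
        omega
      rw [h4] at h2
      have := h2.trans h3.symm
      exact add_left_cancel this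

include hm hm1 hvan hf in
theorem f_inv_pow (linv : AdjoinRoot (KRR.extPoly P e))
    (hlinv : linv * AdjoinRoot.root (KRR.extPoly P e) = 1) (hunit : IsUnit (LambdaOps.lam m e))
    (n : ℕ) (hn1 : 1 ≤ n) (hn : n < m) : f (linv ^ n) = 0 := by
  classical
  induction n using Nat.strong_induction_on with
  | _ n ih =>
    set ℓ := AdjoinRoot.root (KRR.extPoly P e) with hℓ
    set N := m - n with hN
    have hℓl : ℓ * linv = 1 := by rw [mul_comm]; exact hlinv
    have h1 : ∑ i ∈ range (m + 1), c e i • (ℓ ^ (m - i) * linv ^ n) = 0 := by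
      have := congrArg (fun z => z * linv ^ n) (root_rel P e m hm)
      simp only [zero_mul, Finset.sum_mul, smul_mul_assoc] at this
      exact this
    have hterm : ∀ i ∈ range (m + 1), f (c e i • (ℓ ^ (m - i) * linv ^ n)) =
        if i ≤ N then c e i * KRR.sigma (N - i) e else c e i * f (linv ^ (i - N)) := by
      intro i hi
      rw [Finset.mem_range] at hi
      rw [map_smul, smul_eq_mul]
      split_ifs with hiN
      · have e1 : ℓ ^ (m - i) * linv ^ n = ℓ ^ (N - i) := by
          have : m - i = (N - i) + n := by omega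
          rw [this, pow_add, mul_assoc, ← mul_pow, hℓl, one_pow, mul_one]
        rw [e1, f_pow P e m hm hm1 hvan f hf]
      · have e1 : ℓ ^ (m - i) * linv ^ n = linv ^ (i - N) := by
          have : n = (m - i) + (i - N) := by omega
          rw [this, pow_add, ← mul_assoc, ← mul_pow, hℓl, one_pow, one_mul]
        rw [e1]
    have h2 := congrArg f h1
    rw [map_sum, map_zero, Finset.sum_congr rfl hterm, Finset.sum_ite] at h2
    have hfil : (range (m + 1)).filter (fun i => i ≤ N) = range (N + 1) := by
      ext i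
      simp only [Finset.mem_filter, Finset.mem_range]
      omega
    have h3 := sigma_rec e N
    rw [if_neg (by omega)] at h3
    rw [hfil, h3, zero_add] at h2
    rw [Finset.sum_eq_single m] at h2
    · have hmN : m - N = n := by omega
      rw [hmN] at h2
      have hu : IsUnit (c e m) := by
        unfold c
        exact ((isUnit_one.neg).pow m).mul hunit
      exact (hu.mul_right_eq_zero).mp h2
    · intro i hi him
      rw [Finset.mem_filter, Finset.mem_range] at hi
      rw [ih (i - N) (by omega) (by omega) (by omega), mul_zero]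
    · intro h
      exfalso
      apply h
      rw [Finset.mem_filter, Finset.mem_range]
      omega

/-- the kernel `a(k, n)`: the value of `f` on `ℓ^k ℓ^{-n}` -/
noncomputable def a (k n : ℕ) : K := if n ≤ k then KRR.sigma (k - n) e else 0

include hm hm1 hvan hf in
theorem f_expansion (linv : AdjoinRoot (KRR.extPoly P e))
    (hlinv : linv * AdjoinRoot.root (KRR.extPoly P e) = 1) (hunit : IsUnit (LambdaOps.lam m e))
    (x : ℕ → K) (n : ℕ) (hn : n < m) :
    f ((∑ k ∈ range m, x k • AdjoinRoot.root (KRR.extPoly P e) ^ k) * linv ^ n) =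
      ∑ k ∈ range m, x k * a e k n := by
  set ℓ := AdjoinRoot.root (KRR.extPoly P e) with hℓ
  have hℓl : ℓ * linv = 1 := by rw [mul_comm]; exact hlinv
  rw [Finset.sum_mul, map_sum]
  refine Finset.sum_congr rfl fun k hk => ?_
  rw [Finset.mem_range] at hk
  rw [smul_mul_assoc, map_smul, smul_eq_mul]
  congr 1
  unfold a
  split_ifs with hnk
  · have e1 : ℓ ^ k * linv ^ n = ℓ ^ (k - n) := by
      have : k = (k - n) + n := by omega
      conv_lhs => rw [this, pow_add, mul_assoc, ← mul_pow, hℓl, one_pow, mul_one]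
    rw [e1, f_pow P e m hm hm1 hvan f hf]
  · have e1 : ℓ ^ k * linv ^ n = linv ^ (n - k) := by
      have : n = k + (n - k) := by omega
      conv_lhs => rw [this, pow_add, ← mul_assoc, ← mul_pow, hℓl, one_pow, one_mul]
    rw [e1, f_inv_pow P e m hm hm1 hvan f hf linv hlinv hunit (n - k) (by omega) (by omega)]

omit [LambdaOps K] in
/-- unitriangular systems have only the trivial solution -/
theorem triangular (m : ℕ) (s : ℕ → K) (hs0 : s 0 = 1) (w : ℕ → K)
    (h : ∀ n, n < m → ∑ k ∈ range m, w k * (if n ≤ k then s (k - n) else 0) = 0) :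
    ∀ k, k < m → w k = 0 := by
  have key : ∀ j, ∀ k, k < m → m - j ≤ k → w k = 0 := by
    intro j
    induction j with
    | zero => intro k hk hk'; omega
    | succ j ih =>
      intro k hk hk'
      by_cases hkj : m - j ≤ k
      · exact ih k hk hkj
      · have h1 := h k hk
        rw [Finset.sum_eq_single k] at h1
        · simpa [hs0] using h1
        · intro b hb hbk
          rw [Finset.mem_range] at hb
          by_cases hkb : k ≤ b
          · rw [ih b hb (by omega), zero_mul]
          · rw [if_neg hkb, mul_zero]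
        · intro h2
          exfalso; apply h2
          rw [Finset.mem_range]; exact hk
  intro k hk
  exact key m k hk (by omega)

theorem sigma_zero : KRR.sigma 0 e = 1 := by
  have := sigma_rec e 0
  simpa [c_zero] using this

include hm in
/-- every element of `K_e` is a combination of `1, ℓ, …, ℓ^{m-1}` -/
theorem exists_expansion (z : AdjoinRoot (KRR.extPoly P e)) :
    ∃ x : ℕ → K, z = ∑ k ∈ range m, x k • AdjoinRoot.root (KRR.extPoly P e) ^ k := by
  classical
  rcases subsingleton_or_nontrivial K with hK | hK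
  · haveI : Subsingleton (AdjoinRoot (KRR.extPoly P e)) := Module.subsingleton K _
    exact ⟨fun _ => 0, Subsingleton.elim _ _⟩
  have hmonic : (KRR.extPoly P e).Monic ∧ (KRR.extPoly P e).degree = m := by
    have h1 : KRR.extPoly P e = X ^ m + ∑ i ∈ range m, C (c e (i + 1)) * X ^ (m - (i + 1)) := by
      unfold KRR.extPoly
      rw [hm, Finset.sum_range_succ', add_comm]
      congr 1
      have := c_zero e
      unfold c at this
      rw [this]; simp
    have h2 : (∑ i ∈ range m, C (c e (i + 1)) * X ^ (m - (i + 1)) : K[X]).degree < m := by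
      rw [Polynomial.degree_lt_iff_coeff_zero]
      intro k hk
      rw [Polynomial.finsetSum_coeff]
      apply Finset.sum_eq_zero
      intro i hi
      rw [Finset.mem_range] at hi
      rw [Polynomial.coeff_C_mul_X_pow, if_neg (by omega)]
    rw [h1]
    refine ⟨Polynomial.monic_X_pow_add h2, ?_⟩
    rw [Polynomial.degree_add_eq_left_of_degree_lt (by rwa [Polynomial.degree_X_pow]),
      Polynomial.degree_X_pow]
  obtain ⟨h, rfl⟩ := AdjoinRoot.mk_surjective z
  set h' := h %ₘ KRR.extPoly P e with hh'
  have e1 : AdjoinRoot.mk (KRR.extPoly P e) h = AdjoinRoot.mk (KRR.extPoly P e) h' := by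
    rw [AdjoinRoot.mk_eq_mk]
    have := Polynomial.modByMonic_add_div h (KRR.extPoly P e)
    refine ⟨h /ₘ KRR.extPoly P e, ?_⟩
    rw [hh']
    linear_combination this.symm
  have hdeg : h'.degree < m := by
    have := Polynomial.degree_modByMonic_lt h hmonic.1
    rwa [hmonic.2] at this
  rw [Polynomial.degree_lt_iff_coeff_zero] at hdeg
  refine ⟨fun k => h'.coeff k, ?_⟩
  rw [e1]
  have e2 : h' = ∑ k ∈ range m, C (h'.coeff k) * X ^ k := by
    ext j
    rw [Polynomial.finsetSum_coeff]
    simp only [Polynomial.coeff_C_mul_X_pow]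
    by_cases hj : j < m
    · rw [Finset.sum_eq_single j]
      · simp
      · intro b _ hb
        rw [if_neg (Ne.symm hb)]
      · intro h3
        exfalso; apply h3
        rw [Finset.mem_range]; exact hj
    · rw [hdeg j (by omega)]
      symm
      apply Finset.sum_eq_zero
      intro b hb
      rw [Finset.mem_range] at hb
      rw [if_neg (by omega)]
  conv_lhs => rw [e2]
  rw [map_sum]
  refine Finset.sum_congr rfl fun k _ => ?_
  rw [map_mul, map_pow, AdjoinRoot.mk_C, AdjoinRoot.mk_X, Algebra.smul_def, AdjoinRoot.algebraMap_eq]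

end functional

section lamq

variable (inst : LambdaOps (AdjoinRoot (KRR.extPoly P e)))
  (hext : ∀ (i : ℕ) (x : K), @LambdaOps.lam _ _ inst i (AdjoinRoot.of (KRR.extPoly P e) x) =
      AdjoinRoot.of (KRR.extPoly P e) (LambdaOps.lam i x))
  (hroot : ∀ i : ℕ, 2 ≤ i → @LambdaOps.lam _ _ inst i (AdjoinRoot.root (KRR.extPoly P e)) = 0)

theorem smul_eq_of_mul (a : K) (z : AdjoinRoot (KRR.extPoly P e)) :
    a • z = AdjoinRoot.of (KRR.extPoly P e) a * z := by
  rw [Algebra.smul_def, AdjoinRoot.algebraMap_eq]

include hext hroot in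
theorem lam_step (i : ℕ) :
    AdjoinRoot.of (KRR.extPoly P e) (LambdaOps.lam (i + 1) e) =
      @LambdaOps.lam _ _ inst (i + 1)
          (AdjoinRoot.of (KRR.extPoly P e) e - AdjoinRoot.root (KRR.extPoly P e)) +
        @LambdaOps.lam _ _ inst i
          (AdjoinRoot.of (KRR.extPoly P e) e - AdjoinRoot.root (KRR.extPoly P e)) *
          AdjoinRoot.root (KRR.extPoly P e) := by
  letI := inst
  set ℓ := AdjoinRoot.root (KRR.extPoly P e) with hℓ
  set q := AdjoinRoot.of (KRR.extPoly P e) e - ℓ with hq
  rw [← hext]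
  have h1 : AdjoinRoot.of (KRR.extPoly P e) e = q + ℓ := by rw [hq]; ring
  rw [h1, LambdaOps.lam_add, Finset.sum_range_succ, Finset.sum_range_succ]
  rw [Finset.sum_eq_zero, zero_add, Nat.sub_self, LambdaOps.lam_zero, mul_one,
    show i + 1 - i = 1 by omega, LambdaOps.lam_one, add_comm]
  intro a ha
  rw [Finset.mem_range] at ha
  rw [hroot (i + 1 - a) (by omega), mul_zero]

include hext hroot in
theorem lam_sub_root (i : ℕ) :
    @LambdaOps.lam _ _ inst i
        (AdjoinRoot.of (KRR.extPoly P e) e - AdjoinRoot.root (KRR.extPoly P e)) =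
      ∑ k ∈ range (i + 1), ((-1 : K) ^ k * LambdaOps.lam (i - k) e) •
        AdjoinRoot.root (KRR.extPoly P e) ^ k := by
  letI := inst
  set ℓ := AdjoinRoot.root (KRR.extPoly P e) with hℓ
  set q := AdjoinRoot.of (KRR.extPoly P e) e - ℓ with hq
  induction i with
  | zero => simp [LambdaOps.lam_zero]
  | succ i ih =>
    have h2 : LambdaOps.lam (i + 1) q =
        AdjoinRoot.of (KRR.extPoly P e) (LambdaOps.lam (i + 1) e) - LambdaOps.lam i q * ℓ := by
      rw [lam_step P e inst hext hroot i]; ring
    rw [h2, ih, Finset.sum_range_succ' _ (i + 1)]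
    have hA : ((-1 : K) ^ 0 * LambdaOps.lam (i + 1 - 0) e) • ℓ ^ 0 =
        AdjoinRoot.of (KRR.extPoly P e) (LambdaOps.lam (i + 1) e) := by
      rw [pow_zero, one_mul, Nat.sub_zero, pow_zero, smul_eq_of_mul, mul_one]
    have hB : ∑ k ∈ Finset.range (i + 1),
        ((-1 : K) ^ (k + 1) * LambdaOps.lam (i + 1 - (k + 1)) e) • ℓ ^ (k + 1) =
        -((∑ k ∈ Finset.range (i + 1), ((-1 : K) ^ k * LambdaOps.lam (i - k) e) • ℓ ^ k) * ℓ) := by
      rw [Finset.sum_mul, ← Finset.sum_neg_distrib]
      refine Finset.sum_congr rfl fun k _ => ?_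
      rw [show i + 1 - (k + 1) = i - k by omega, smul_eq_of_mul, smul_eq_of_mul, map_mul, map_mul,
        map_pow, map_pow, map_neg, map_one]
      ring
    rw [hA, hB]
    ring

include hext hroot in
/-- `λ^m(e - ℓ) = 0` for `m = ε(e)` -/
theorem lam_top_eq_zero (m : ℕ) (hm : (P.aug e).toNat = m) :
    @LambdaOps.lam _ _ inst m
        (AdjoinRoot.of (KRR.extPoly P e) e - AdjoinRoot.root (KRR.extPoly P e)) = 0 := by
  rw [lam_sub_root P e inst hext hroot m]
  have h1 := root_rel P e m hm
  have h2 := Finset.sum_flip (n := m)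
    (fun k => ((-1 : K) ^ k * LambdaOps.lam (m - k) e) • AdjoinRoot.root (KRR.extPoly P e) ^ k)
  rw [← h2]
  have h3 : ∀ k ∈ range (m + 1),
      ((-1 : K) ^ (m - k) * LambdaOps.lam (m - (m - k)) e) •
        AdjoinRoot.root (KRR.extPoly P e) ^ (m - k) =
      ((-1 : K) ^ m) • (c e k • AdjoinRoot.root (KRR.extPoly P e) ^ (m - k)) := by
    intro k hk
    rw [Finset.mem_range] at hk
    rw [show m - (m - k) = k by omega, smul_smul]
    congr 1
    unfold c
    have h4 : (-1 : K) ^ (m - k) = (-1) ^ m * (-1) ^ k := by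
      have : m = (m - k) + k := by omega
      conv_rhs => rw [this, pow_add]
      rw [mul_assoc, ← mul_pow]
      simp
    rw [h4]
    ring
  rw [Finset.sum_congr rfl h3, ← Finset.smul_sum, h1, smul_zero]

end lamq

end Groth.Agent.Helper4.ElemExt
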