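import Mathlib
import Groth.Prelude.Def_WeakSerre

/-! Essential image of a weak Serre subcategory under a fully faithful right adjoint `Ψ` of an
exact functor `Φ`, when `Ψ` is exact on short exact sequences with kernel in the subcategory. -/

set_option autoImplicit false
set_option linter.unusedSectionVars false
set_option linter.unusedVariables false
universe v v' u u'

open CategoryTheory Limits

namespace Groth.Agent.Helper4.EpsMod

variable {𝒜 : Type u} [Category.{v} 𝒜] [Abelian 𝒜] {ℬ : Type u'} [Category.{v'} ℬ] [Abelian ℬ]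
  (Φ : ℬ ⥤ 𝒜) {Ψ : 𝒜 ⥤ ℬ} (adj₀ : Φ ⊣ Ψ)

section unit

variable (hε₀ : ∀ F : 𝒜, IsIso (adj₀.counit.app F))

include hε₀ in
lemma isIso_unit_app_obj (F : 𝒜) : IsIso (adj₀.unit.app (Ψ.obj F)) := by
  have h := adj₀.right_triangle_components F
  haveI := hε₀ F
  haveI : IsIso (adj₀.unit.app (Ψ.obj F) ≫ Ψ.map (adj₀.counit.app F)) := by
    rw [h]; exact IsIso.id _
  exact IsIso.of_isIso_comp_right _ (Ψ.map (adj₀.counit.app F))

include hε₀ in
lemma isIso_unit_app_of_iso {F' : ℬ} {F : 𝒜} (e : Ψ.obj F ≅ F') : IsIso (adj₀.unit.app F') := by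
  haveI := isIso_unit_app_obj Φ adj₀ hε₀ F
  have h : adj₀.unit.app F' = e.inv ≫ adj₀.unit.app (Ψ.obj F) ≫ Ψ.map (Φ.map e.hom) := by
    have := adj₀.unit.naturality e.hom
    simp only [Functor.id_obj, Functor.id_map, Functor.comp_obj, Functor.comp_map] at this
    rw [← this, Iso.inv_hom_id_assoc]
  rw [h]
  infer_instance

include adj₀ in
/-- `Φ` is bijective on morphisms into an object where the unit is invertible -/
lemma bijective_map (N : ℬ) {G' : ℬ} (hG : IsIso (adj₀.unit.app G')) :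
    Function.Bijective (fun φ : N ⟶ G' => Φ.map φ) := by
  have h : (fun φ : N ⟶ G' => Φ.map φ) =
      (adj₀.homEquiv N (Φ.obj G')).symm ∘ (fun φ : N ⟶ G' => φ ≫ adj₀.unit.app G') := by
    funext φ
    simp only [Function.comp_apply]
    apply (adj₀.homEquiv N (Φ.obj G')).injective
    rw [Equiv.apply_symm_apply, Adjunction.homEquiv_unit]
    exact (adj₀.unit.naturality φ).symm
  rw [h]
  refine (adj₀.homEquiv N (Φ.obj G')).symm.bijective.comp ?_
  constructor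
  · intro a b hab
    exact (cancel_mono (adj₀.unit.app G')).1 hab
  · intro c
    exact ⟨c ≫ inv (adj₀.unit.app G'), by simp⟩

end unit

variable [Φ.Additive] [PreservesFiniteLimits Φ] [PreservesFiniteColimits Φ]
  (hε₀ : ∀ F : 𝒜, IsIso (adj₀.counit.app F))
  (A : ObjectProperty 𝒜) [WSerre.IsWeakSerre A]
  (hE : ∀ S : ShortComplex 𝒜, S.ShortExact → A S.X₁ → Epi (Ψ.map S.g))

include adj₀ hε₀ in
lemma exists_map_eq {F₁ F₂ : 𝒜} (g : Ψ.obj F₁ ⟶ Ψ.obj F₂) : ∃ ψ : F₁ ⟶ F₂, Ψ.map ψ = g := by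
  haveI : IsIso adj₀.counit := NatIso.isIso_of_isIso_app _
  exact ⟨(adj₀.fullyFaithfulROfIsIsoCounit).preimage g,
    (adj₀.fullyFaithfulROfIsIsoCounit).map_preimage g⟩

include adj₀ in
lemma containsZero : (A.map Ψ).ContainsZero := by
  haveI : Ψ.Additive := adj₀.right_adjoint_additive
  obtain ⟨Z, hZ, hAZ⟩ := A.exists_prop_of_containsZero
  exact ⟨⟨Ψ.obj Z, Ψ.map_isZero hZ, ⟨Z, hAZ, ⟨Iso.refl _⟩⟩⟩⟩

include adj₀ hε₀ in
lemma closedUnderKernels : (A.map Ψ).IsClosedUnderKernels := by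
  haveI : PreservesLimitsOfSize.{0, 0} Ψ := adj₀.rightAdjoint_preservesLimits
  haveI : Ψ.Additive := adj₀.right_adjoint_additive
  refine ⟨?_⟩
  rintro _ ⟨f, k, hk, ⟨⟨F₁, h₁, ⟨e₁⟩⟩, ⟨F₂, h₂, ⟨e₂⟩⟩⟩⟩
  obtain ⟨ψ, hψ⟩ := exists_map_eq Φ adj₀ hε₀ (e₁.hom ≫ f ≫ e₂.inv)
  refine ⟨kernel ψ, A.prop_kernel ψ h₁ h₂, ⟨?_⟩⟩
  refine PreservesKernel.iso Ψ ψ ≪≫ kernel.mapIso (Ψ.map ψ) f e₁ e₂ ?_ ≪≫
    (IsLimit.conePointUniqueUpToIso (limit.isLimit (parallelPair f 0)) hk : kernel f ≅ k.pt)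
  rw [hψ]
  simp

include adj₀ hε₀ hE in
lemma closedUnderCokernels : (A.map Ψ).IsClosedUnderCokernels := by
  haveI : PreservesLimitsOfSize.{0, 0} Ψ := adj₀.rightAdjoint_preservesLimits
  haveI : Ψ.Additive := adj₀.right_adjoint_additive
  refine ⟨?_⟩
  rintro _ ⟨f, k, hk, ⟨⟨F₁, h₁, ⟨e₁⟩⟩, ⟨F₂, h₂, ⟨e₂⟩⟩⟩⟩
  obtain ⟨ψ, hψ⟩ := exists_map_eq Φ adj₀ hε₀ (e₁.hom ≫ f ≫ e₂.inv)
  -- the two short exact sequences
  have hK : A (kernel ψ) := A.prop_kernel ψ h₁ h₂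
  have hQ : A (cokernel ψ) := A.prop_cokernel ψ h₁ h₂
  have hI : A (Abelian.image ψ) := A.prop_kernel (cokernel.π ψ) h₂ hQ
  let S₁ : ShortComplex 𝒜 := ShortComplex.mk (kernel.ι ψ) (Abelian.factorThruImage ψ) (by
    rw [← cancel_mono (Abelian.image.ι ψ), Category.assoc, Abelian.image.fac, kernel.condition,
      zero_comp])
  have hS₁ : S₁.ShortExact := by
    haveI : Mono S₁.f := inferInstanceAs (Mono (kernel.ι ψ))
    haveI : Epi S₁.g := inferInstanceAs (Epi (Abelian.factorThruImage ψ))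
    refine ShortComplex.ShortExact.mk' ?_ inferInstance inferInstance
    let φ : S₁ ⟶ ShortComplex.mk (kernel.ι ψ) ψ (kernel.condition ψ) :=
      { τ₁ := 𝟙 _
        τ₂ := 𝟙 _
        τ₃ := Abelian.image.ι ψ
        comm₁₂ := by
          change 𝟙 _ ≫ kernel.ι ψ = kernel.ι ψ ≫ 𝟙 _
          simp
        comm₂₃ := by
          change 𝟙 _ ≫ ψ = Abelian.factorThruImage ψ ≫ Abelian.image.ι ψ
          simp }
    haveI : Epi φ.τ₁ := inferInstanceAs (Epi (𝟙 (kernel ψ)))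
    haveI : IsIso φ.τ₂ := inferInstanceAs (IsIso (𝟙 F₁))
    haveI : Mono φ.τ₃ := inferInstanceAs (Mono (Abelian.image.ι ψ))
    exact (ShortComplex.exact_iff_of_epi_of_isIso_of_mono φ).2
      (ShortComplex.exact_of_f_is_kernel _ (kernelIsKernel ψ))
  let S₂ : ShortComplex 𝒜 := ShortComplex.mk (Abelian.image.ι ψ) (cokernel.π ψ) (by
    exact kernel.condition (cokernel.π ψ))
  have hS₂ : S₂.ShortExact := by
    haveI : Mono S₂.f := inferInstanceAs (Mono (Abelian.image.ι ψ))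
    haveI : Epi S₂.g := inferInstanceAs (Epi (cokernel.π ψ))
    exact ShortComplex.ShortExact.mk' (ShortComplex.exact_of_f_is_kernel _
      (kernelIsKernel (cokernel.π ψ))) inferInstance inferInstance
  haveI e₁' : Epi (Ψ.map (Abelian.factorThruImage ψ)) := hE S₁ hS₁ hK
  haveI e₂' : Epi (Ψ.map (cokernel.π ψ)) := hE S₂ hS₂ hI
  -- exactness of `Ψ F₁ ⟶ Ψ F₂ ⟶ Ψ Q`
  have hex₂ : (S₂.map Ψ).Exact := by
    haveI : Mono S₂.f := inferInstanceAs (Mono (Abelian.image.ι ψ))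
    exact hS₂.exact.map_of_mono_of_preservesKernel Ψ inferInstance inferInstance
  let S₃ : ShortComplex ℬ := ShortComplex.mk (Ψ.map ψ) (Ψ.map (cokernel.π ψ)) (by
    rw [← Functor.map_comp, cokernel.condition, Functor.map_zero])
  have hex₃ : S₃.Exact := by
    let φ : S₃ ⟶ S₂.map Ψ :=
      { τ₁ := Ψ.map (Abelian.factorThruImage ψ)
        τ₂ := 𝟙 _
        τ₃ := 𝟙 _
        comm₁₂ := by
          change Ψ.map (Abelian.factorThruImage ψ) ≫ Ψ.map (Abelian.image.ι ψ) = Ψ.map ψ ≫ 𝟙 _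
          rw [← Functor.map_comp, Abelian.image.fac, Category.comp_id]
        comm₂₃ := by
          change 𝟙 _ ≫ Ψ.map (cokernel.π ψ) = Ψ.map (cokernel.π ψ) ≫ 𝟙 _
          rw [Category.id_comp, Category.comp_id] }
    haveI : Epi φ.τ₁ := e₁'
    haveI : IsIso φ.τ₂ := inferInstanceAs (IsIso (𝟙 (Ψ.obj F₂)))
    haveI : Mono φ.τ₃ := inferInstanceAs (Mono (𝟙 (Ψ.obj (cokernel ψ))))
    exact (ShortComplex.exact_iff_of_epi_of_isIso_of_mono φ).2 hex₂
  haveI : Epi S₃.g := e₂'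
  have hcok : IsColimit (CokernelCofork.ofπ S₃.g S₃.zero) := hex₃.gIsCokernel
  -- transport to `f`
  refine ⟨cokernel ψ, hQ, ⟨?_⟩⟩
  have hcok' : IsColimit (CokernelCofork.ofπ (f := f) (e₂.inv ≫ Ψ.map (cokernel.π ψ)) (by
      have : f = e₁.inv ≫ Ψ.map ψ ≫ e₂.hom := by rw [hψ]; simp
      rw [this]
      simp only [Category.assoc, Iso.hom_inv_id_assoc]
      rw [← Functor.map_comp, cokernel.condition, Functor.map_zero, comp_zero])) := by
    refine CokernelCofork.IsColimit.ofπ _ _ (fun {Z} g hg => hcok.desc (CokernelCofork.ofπ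
      (e₂.hom ≫ g) (by
        change Ψ.map ψ ≫ e₂.hom ≫ g = 0
        rw [hψ]
        simp only [Category.assoc, Iso.inv_hom_id_assoc]
        rw [hg, comp_zero]))) ?_ ?_
    · intro Z g hg
      rw [Category.assoc]
      have := hcok.fac (CokernelCofork.ofπ (e₂.hom ≫ g) (by
        change Ψ.map ψ ≫ e₂.hom ≫ g = 0
        rw [hψ]
        simp only [Category.assoc, Iso.inv_hom_id_assoc]
        rw [hg, comp_zero])) WalkingParallelPair.one
      change Ψ.map (cokernel.π ψ) ≫ _ = e₂.hom ≫ g at this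
      rw [this, Iso.inv_hom_id_assoc]
    · intro Z g hg m hm
      apply Cofork.IsColimit.hom_ext hcok
      have := hcok.fac (CokernelCofork.ofπ (e₂.hom ≫ g) (by
        change Ψ.map ψ ≫ e₂.hom ≫ g = 0
        rw [hψ]
        simp only [Category.assoc, Iso.inv_hom_id_assoc]
        rw [hg, comp_zero])) WalkingParallelPair.one
      change Ψ.map (cokernel.π ψ) ≫ _ = e₂.hom ≫ g at this
      change Ψ.map (cokernel.π ψ) ≫ m = Ψ.map (cokernel.π ψ) ≫ _
      rw [this, ← hm, Category.assoc, Iso.hom_inv_id_assoc]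
  exact IsColimit.coconePointUniqueUpToIso hcok' hk

include adj₀ hε₀ hE in
lemma closedUnderExtensions : (A.map Ψ).IsClosedUnderExtensions := by
  haveI : PreservesLimitsOfSize.{0, 0} Ψ := adj₀.rightAdjoint_preservesLimits
  haveI : Ψ.Additive := adj₀.right_adjoint_additive
  refine ⟨?_⟩
  rintro S hS ⟨F₁, h₁, ⟨e₁⟩⟩ ⟨F₃, h₃, ⟨e₃⟩⟩
  have hT : (S.map Φ).ShortExact := hS.map_of_exact Φ
  haveI := hε₀ F₁
  haveI := hε₀ F₃
  have hA₁ : A ((S.map Φ).X₁) :=
    A.prop_of_iso (Φ.mapIso e₁.symm ≪≫ asIso (adj₀.counit.app F₁)).symm h₁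
  have hA₃ : A ((S.map Φ).X₃) :=
    A.prop_of_iso (Φ.mapIso e₃.symm ≪≫ asIso (adj₀.counit.app F₃)).symm h₃
  have hA₂ : A ((S.map Φ).X₂) := A.prop_X₂_of_shortExact hT hA₁ hA₃
  have hTΨ : ((S.map Φ).map Ψ).ShortExact := by
    haveI := hT.mono_f
    haveI : Mono ((S.map Φ).map Ψ).f := inferInstanceAs (Mono (Ψ.map (S.map Φ).f))
    haveI : Epi ((S.map Φ).map Ψ).g := hE _ hT hA₁
    exact ShortComplex.ShortExact.mk'
      (hT.exact.map_of_mono_of_preservesKernel Ψ inferInstance inferInstance)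
      inferInstance inferInstance
  let φ : S ⟶ (S.map Φ).map Ψ :=
    { τ₁ := adj₀.unit.app S.X₁
      τ₂ := adj₀.unit.app S.X₂
      τ₃ := adj₀.unit.app S.X₃
      comm₁₂ := (adj₀.unit.naturality S.f).symm
      comm₂₃ := (adj₀.unit.naturality S.g).symm }
  haveI : IsIso φ.τ₁ := isIso_unit_app_of_iso Φ adj₀ hε₀ e₁
  haveI : IsIso φ.τ₃ := isIso_unit_app_of_iso Φ adj₀ hε₀ e₃
  haveI : IsIso φ.τ₂ := ShortComplex.isIso₂_of_shortExact_of_isIso₁₃ φ hS hTΨ
  exact ⟨Φ.obj S.X₂, hA₂, ⟨(asIso φ.τ₂).symm⟩⟩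

include adj₀ hε₀ hE in
theorem isWeakSerre_map : WSerre.IsWeakSerre (A.map Ψ) :=
  { containsZero Φ adj₀ A, closedUnderKernels Φ adj₀ hε₀ A,
    closedUnderCokernels Φ adj₀ hε₀ A hE, closedUnderExtensions Φ adj₀ hε₀ A hE with }

end Groth.Agent.Helper4.EpsMod
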