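import Mathlib
import Groth.Prelude.Def_CohCx

/-! A triangulated functor preserving countable products preserves derived limits. -/

set_option autoImplicit false
set_option linter.unusedSectionVars false
universe v v' u u'

open CategoryTheory Limits Pretriangulated

namespace Groth.Agent.Helper4.RlimMap

variable {T : Type u} [Category.{v} T] [Preadditive T] [HasZeroObject T] [HasShift T ℤ]
  [∀ n : ℤ, (shiftFunctor T n).Additive] [Pretriangulated T]
  {T' : Type u'} [Category.{v'} T'] [Preadditive T'] [HasZeroObject T'] [HasShift T' ℤ]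
  [∀ n : ℤ, (shiftFunctor T' n).Additive] [Pretriangulated T']
  (F : T ⥤ T') [F.CommShift ℤ] [F.IsTriangulated] [F.Additive]
  {K : ℕ → T} {t : ∀ n, K (n + 1) ⟶ K n} [HasProduct K] [HasProduct (fun n => F.obj (K n))]
  [PreservesLimit (Discrete.functor K) F] {L : T} {a : ∀ n, L ⟶ K n}

theorem isRlimVia_map (h : CohCx.IsRlimVia K t L a) :
    CohCx.IsRlimVia (fun n => F.obj (K n)) (fun n => F.map (t n)) (F.obj L)
      (fun n => F.map (a n)) := by
  obtain ⟨c, hT⟩ := h
  let e : F.obj (∏ᶜ K) ≅ ∏ᶜ fun n => F.obj (K n) := PreservesProduct.iso F K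
  have he : ∀ n, e.hom ≫ Pi.π (fun n => F.obj (K n)) n = F.map (Pi.π K n) := by
    intro n
    simp only [e, PreservesProduct.iso_hom]
    exact piComparison_comp_π F K n
  refine ⟨e.inv ≫ F.map c ≫ (F.commShiftIso (1 : ℤ)).hom.app L, ?_⟩
  refine isomorphic_distinguished _ (F.map_distinguished _ hT) _ ?_
  refine Triangle.isoMk _ _ (Iso.refl _) e.symm e.symm ?_ ?_ ?_
  · change Pi.lift (fun n => F.map (a n)) ≫ e.inv = 𝟙 _ ≫ F.map (Pi.lift a)
    rw [Category.id_comp, ← cancel_mono e.hom, Category.assoc, Iso.inv_hom_id, Category.comp_id]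
    apply Pi.hom_ext
    intro n
    rw [Category.assoc, he, ← Functor.map_comp, Pi.lift_π, Pi.lift_π]
  · change Pi.lift (fun n => Pi.π (fun n => F.obj (K n)) n -
        Pi.π (fun n => F.obj (K n)) (n + 1) ≫ F.map (t n)) ≫ e.inv =
      e.inv ≫ F.map (Pi.lift fun n => Pi.π K n - Pi.π K (n + 1) ≫ t n)
    rw [← cancel_mono e.hom, Category.assoc, Category.assoc, Iso.inv_hom_id, Category.comp_id,
      ← cancel_epi e.hom, Iso.hom_inv_id_assoc]
    apply Pi.hom_ext
    intro n
    have he' : ∀ (n : ℕ) {Z : T'} (h : F.obj (K n) ⟶ Z),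
        e.hom ≫ Pi.π (fun n => F.obj (K n)) n ≫ h = F.map (Pi.π K n) ≫ h := by
      intro n Z h
      rw [← Category.assoc, he]
    simp only [Category.assoc, Pi.lift_π, Preadditive.comp_sub, he, he']
    rw [← Functor.map_comp F (Pi.lift _), Pi.lift_π, Functor.map_sub, Functor.map_comp]
  · change (e.inv ≫ F.map c ≫ (F.commShiftIso (1 : ℤ)).hom.app L) ≫ (𝟙 (F.obj L))⟦(1 : ℤ)⟧' =
      e.inv ≫ F.map c ≫ (F.commShiftIso (1 : ℤ)).hom.app L
    rw [CategoryTheory.Functor.map_id]
    exact Category.comp_id _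

end Groth.Agent.Helper4.RlimMap
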