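import Mathlib
import Groth.Prelude.Def_CohCx
import Groth.Agent.Helper4.MilnorSeq

/-! Derived limits: every class at a late stage lifts to the derived limit, when the transition
maps are eventually surjective on `Hom(X, -⟦m⟧)`. -/

set_option autoImplicit false
set_option linter.unusedSectionVars false
set_option linter.unusedVariables false
universe w v u

open CategoryTheory CategoryTheory.Limits Pretriangulated Opposite

namespace Groth.Agent.Helper4.MilnorSurj

/-- a compatible family through a given element of an eventually surjective tower -/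
theorem exists_compat : ∀ (N : ℕ) (A : ℕ → Type w) (σ : ∀ k, A (k + 1) → A k)
    (_ : ∀ k, N ≤ k → Function.Surjective (σ k)) (a : A N),
    ∃ x : ∀ k, A k, (∀ k, σ k (x (k + 1)) = x k) ∧ x N = a := by
  intro N
  induction N with
  | zero =>
    intro A σ hσ a
    let x : ∀ k, A k := fun k => Nat.rec (motive := A) a
      (fun k xk => Classical.choose (hσ k (Nat.zero_le k) xk)) k
    exact ⟨x, fun k => Classical.choose_spec (hσ k (Nat.zero_le k) (x k)), rfl⟩
  | succ N ih =>
    intro A σ hσ a
    obtain ⟨x', hx', hx'N⟩ := ih (fun k => A (k + 1)) (fun k => σ (k + 1))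
      (fun k hk => hσ (k + 1) (by omega)) a
    let x : ∀ k, A k := fun k => match k with
      | 0 => σ 0 (x' 0)
      | (k + 1) => x' k
    refine ⟨x, ?_, hx'N⟩
    intro k
    cases k with
    | zero => rfl
    | succ k => exact hx' k

variable {T : Type u} [Category.{v} T] [Preadditive T] [HasZeroObject T] [HasShift T ℤ]
  [∀ n : ℤ, (shiftFunctor T n).Additive] [Pretriangulated T]
  {K : ℕ → T} {t : ∀ n, K (n + 1) ⟶ K n} [HasProduct K] {L : T} {a : ∀ n, L ⟶ K n}

theorem exists_of_stage (hL : CohCx.IsRlimVia K t L a) (X : T) (m : ℤ) (N : ℕ)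
    (h : ∀ n : ℕ, N ≤ n → Function.Surjective (Preadditive.rightComp X ((t n)⟦m⟧')))
    (x : X ⟶ (K N)⟦m⟧) : ∃ y : X ⟶ L⟦m⟧, y ≫ (a N)⟦m⟧' = x := by
  obtain ⟨x', hx', hx'N⟩ := exists_compat N (fun n => X ⟶ (K n)⟦m⟧)
    (fun n => Preadditive.rightComp X ((t n)⟦m⟧')) h x
  obtain ⟨y, hy⟩ := Groth.Agent.Helper4.MilnorSeq.exists_lift hL X m x' hx'
  exact ⟨y, (hy N).trans hx'N⟩

end Groth.Agent.Helper4.MilnorSurj
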