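import Mathlib
import Groth.Agent.Helper4.KInjRes

/-! K-injective representatives of objects and morphisms of the derived category of a Grothendieck
abelian category (for an arbitrary `HasDerivedCategory` instance). -/

set_option autoImplicit false
set_option linter.unusedSectionVars false
universe w v u

open CategoryTheory Limits

namespace Groth.Agent.Helper4.HDUrep

variable {ℬ : Type u} [Category.{v} ℬ] [Abelian ℬ] [HasDerivedCategory.{w} ℬ]

theorem exists_Q_map_eq (I I' : CochainComplex ℬ ℤ) [I'.IsKInjective]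
    (φ : DerivedCategory.Q.obj I ⟶ DerivedCategory.Q.obj I') :
    ∃ α : I ⟶ I', DerivedCategory.Q.map α = φ := by
  obtain ⟨g, hg⟩ := (CochainComplex.IsKInjective.Qh_map_bijective
    ((HomotopyCategory.quotient _ _).obj I) I').surjective
    ((DerivedCategory.quotientCompQhIso ℬ).hom.app I ≫ φ ≫
      (DerivedCategory.quotientCompQhIso ℬ).inv.app I')
  obtain ⟨α, rfl⟩ := (HomotopyCategory.quotient _ _).map_surjective g
  refine ⟨α, ?_⟩
  have h := DerivedCategory.quotientCompQhIso_hom_naturality α
  rw [hg] at h
  simp only [Category.assoc, Iso.inv_hom_id_app, Category.comp_id] at h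
  exact ((cancel_epi _).1 h).symm

theorem exists_kinj_rep [IsGrothendieckAbelian.{v} ℬ] (E : DerivedCategory ℬ) :
    ∃ (I : CochainComplex ℬ ℤ), I.IsKInjective ∧ Nonempty (E ≅ DerivedCategory.Q.obj I) := by
  let K₀ := DerivedCategory.Q.objPreimage E
  obtain ⟨I, f, hI, hf, -, -⟩ := Groth.Agent.Helper4.KInjRes.exists_resolution K₀
  haveI : IsIso (DerivedCategory.Q.map f) := by
    rw [DerivedCategory.isIso_Q_map_iff_quasiIso]
    exact hf
  exact ⟨I, hI, ⟨(DerivedCategory.Q.objObjPreimageIso E).symm ≪≫
    asIso (DerivedCategory.Q.map f)⟩⟩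

end Groth.Agent.Helper4.HDUrep
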