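import Mathlib
import Groth.Agent.Helper4.HDUcls
import Groth.Agent.Helper4.HDUrep

/-! Abstract test objects on a site-like abelian category: local vanishing criterion for maps into
cohomology objects. -/

set_option autoImplicit false
set_option linter.unusedSectionVars false
universe w v' u' u

open CategoryTheory Limits Opposite

namespace Groth.Agent.Helper4.TestLoc

open Groth.Agent.Helper4.HDUcls

variable {𝒜 : Type u'} [Category.{v'} 𝒜] [Abelian 𝒜] [HasDerivedCategory.{w} 𝒜]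
  {C : Type u} [SmallCategory C] (J : GrothendieckTopology C)
  (G : C → 𝒜) (Gmap : ∀ {U V : C}, (V ⟶ U) → (G V ⟶ G U))

/-- `G U` behave like the free sheaves on the objects of the site -/
structure IsTest : Prop where
  lift : ∀ (U : C) {A' : 𝒜} (π : A' ⟶ G U) [Epi π], ∃ S ∈ J U, ∀ (V : C) (g : V ⟶ U),
    S.arrows g → ∃ l : G V ⟶ A', l ≫ π = Gmap g
  sep : ∀ (V : C) (F : 𝒜) (t : G V ⟶ F) {ι : Type u} (Yf : ι → C) (f : ∀ i, Yf i ⟶ V),
    Sieve.ofArrows Yf f ∈ J V → (∀ i, Gmap (f i) ≫ t = 0) → t = 0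

variable {J G Gmap}

/-- chain level: a map `G V ⟶ Hᵐ(I)` killed by `α` vanishes, if classes in `Hom(G Y[0], I⟦m⟧)`
killed by `α` vanish for `Y` in suitable coverings. -/
theorem eq_zero_of_local (hT : IsTest J G Gmap) (I I' : CochainComplex 𝒜 ℤ) [I.IsKInjective]
    [I'.IsKInjective] (α : I ⟶ I') (V : C) (m : ℤ)
    (hloc : ∀ T ∈ J V, ∃ (ι : Type u) (Yf : ι → C) (f : ∀ i, Yf i ⟶ V), (∀ i, T.arrows (f i)) ∧
      Sieve.ofArrows Yf f ∈ J V ∧ ∀ i,
        ∀ y : (DerivedCategory.singleFunctor 𝒜 0).obj (G (Yf i)) ⟶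
          (DerivedCategory.Q.obj I)⟦m⟧, y ≫ (DerivedCategory.Q.map α)⟦m⟧' = 0 → y = 0)
    (t : G V ⟶ I.homology m)
    (ht : t ≫ HomologicalComplex.homologyMap α m = 0) : t = 0 := by
  obtain ⟨A₁, π₁, _, z, hz, e1⟩ :=
    I.eq_liftCycles_homologyπ_up_to_refinements t (m + 1) (by simp)
  have hz' : (z ≫ α.f m) ≫ I'.d m (m + 1) = 0 := by
    rw [Category.assoc, α.comm, ← Category.assoc, hz, zero_comp]
  have e2 : I'.liftCycles (z ≫ α.f m) (m + 1) (by simp) hz' ≫ I'.homologyπ m = 0 := by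
    have h1 : I'.liftCycles (z ≫ α.f m) (m + 1) (by simp) hz' =
        I.liftCycles z (m + 1) (by simp) hz ≫ HomologicalComplex.cyclesMap α m := by
      rw [← cancel_mono (I'.iCycles m)]
      simp
    rw [h1, Category.assoc, ← HomologicalComplex.homologyπ_naturality, ← Category.assoc, ← e1,
      Category.assoc, ht, comp_zero]
  obtain ⟨A₂, π₂, _, w, e3⟩ := (I'.liftCycles_comp_homologyπ_eq_zero_iff_up_to_refinements
    (m - 1) m (m + 1) (by simp) (by simp) (z ≫ α.f m) hz').1 e2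
  haveI : Epi (π₂ ≫ π₁) := epi_comp _ _
  obtain ⟨S, hS, hl⟩ := hT.lift V (π₂ ≫ π₁)
  obtain ⟨ι, Yf, f, hfT, hcov, hY⟩ := hloc S hS
  apply hT.sep V _ t Yf f hcov
  intro i
  obtain ⟨l, hl⟩ := hl _ (f i) (hfT i)
  have hzi : (l ≫ π₂ ≫ z) ≫ I.d m (m + 1) = 0 := by
    simp only [Category.assoc, hz, comp_zero]
  have h1 : cls _ I' m ((l ≫ π₂ ≫ z) ≫ α.f m)
      (by rw [Category.assoc, α.comm, ← Category.assoc, hzi, zero_comp]) = 0 := by
    rw [cls_eq_zero_iff]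
    refine ⟨l ≫ w, ?_⟩
    simp only [Category.assoc]
    rw [← e3]
  rw [cls_postcomp α (l ≫ π₂ ≫ z) hzi] at h1
  have h2 := hY i _ h1
  rw [cls_eq_zero_iff] at h2
  obtain ⟨g, hg⟩ := h2
  rw [← hl, Category.assoc, Category.assoc, e1]
  have h3 : l ≫ π₂ ≫ I.liftCycles z (m + 1) (by simp) hz =
      I.liftCycles (l ≫ π₂ ≫ z) (m + 1) (by simp) hzi := by
    rw [← cancel_mono (I.iCycles m)]
    simp
  rw [← Category.assoc, ← Category.assoc, Category.assoc l, h3]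
  exact (I.liftCycles_comp_homologyπ_eq_zero_iff_up_to_refinements
    (m - 1) m (m + 1) (by simp) (by simp) (l ≫ π₂ ≫ z) hzi).2 ⟨_, 𝟙 _, inferInstance, g, by
      rw [Category.id_comp, hg]⟩

/-- derived-category level, for a general morphism `φ : L ⟶ K'` -/
theorem hom_eq_zero_of_local [IsGrothendieckAbelian.{v'} 𝒜] (hT : IsTest J G Gmap)
    (L K' : DerivedCategory 𝒜) (φ : L ⟶ K') (V : C) (m : ℤ)
    (hloc : ∀ T ∈ J V, ∃ (ι : Type u) (Yf : ι → C) (f : ∀ i, Yf i ⟶ V), (∀ i, T.arrows (f i)) ∧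
      Sieve.ofArrows Yf f ∈ J V ∧ ∀ i,
        ∀ y : (DerivedCategory.singleFunctor 𝒜 0).obj (G (Yf i)) ⟶ L⟦m⟧, y ≫ φ⟦m⟧' = 0 → y = 0)
    (t₀ : G V ⟶ (DerivedCategory.homologyFunctor 𝒜 m).obj L)
    (ht₀ : t₀ ≫ (DerivedCategory.homologyFunctor 𝒜 m).map φ = 0) : t₀ = 0 := by
  obtain ⟨I, hI, ⟨eL⟩⟩ := Groth.Agent.Helper4.HDUrep.exists_kinj_rep L
  obtain ⟨I', hI', ⟨eK⟩⟩ := Groth.Agent.Helper4.HDUrep.exists_kinj_rep K'
  obtain ⟨α, hα⟩ := Groth.Agent.Helper4.HDUrep.exists_Q_map_eq I I' (eL.inv ≫ φ ≫ eK.hom)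
  let H := DerivedCategory.homologyFunctor 𝒜 m
  let ψ : H.obj L ≅ I.homology m :=
    H.mapIso eL ≪≫ (DerivedCategory.homologyFunctorFactors _ m).app I
  let ψ' : H.obj K' ≅ I'.homology m :=
    H.mapIso eK ≪≫ (DerivedCategory.homologyFunctorFactors _ m).app I'
  have hsq : H.map φ ≫ ψ'.hom = ψ.hom ≫ HomologicalComplex.homologyMap α m := by
    have hn := (DerivedCategory.homologyFunctorFactors 𝒜 m).hom.naturality α
    have e : H.map φ ≫ H.map eK.hom = H.map eL.hom ≫ H.map (DerivedCategory.Q.map α) := by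
      rw [← Functor.map_comp, ← Functor.map_comp, hα]; simp
    exact (Category.assoc _ _ _).symm.trans ((congrArg (fun x => x ≫
      (DerivedCategory.homologyFunctorFactors 𝒜 m).hom.app I') e).trans
      ((Category.assoc _ _ _).trans ((congrArg (fun x => H.map eL.hom ≫ x) hn).trans
        (Category.assoc _ _ _).symm)))
  have h0 : t₀ ≫ ψ.hom = 0 := by
    refine eq_zero_of_local hT I I' α V m ?_ (t₀ ≫ ψ.hom) (by
      rw [Category.assoc, ← hsq, ← Category.assoc, ht₀, zero_comp])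
    intro T hT'
    obtain ⟨ι, Yf, f, hfT, hcov, hY⟩ := hloc T hT'
    refine ⟨ι, Yf, f, hfT, hcov, fun i y hy => ?_⟩
    have h1 := hY i (y ≫ eL.inv⟦m⟧') (by
      rw [Category.assoc, ← Functor.map_comp]
      have : eL.inv ≫ φ = DerivedCategory.Q.map α ≫ eK.inv := by
        rw [hα]; simp
      rw [this, Functor.map_comp, ← Category.assoc, hy, zero_comp])
    have h2 := congrArg (fun x => x ≫ eL.hom⟦m⟧') h1
    simpa [← Functor.map_comp] using h2
  rw [← cancel_mono ψ.hom, h0, zero_comp]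

end Groth.Agent.Helper4.TestLoc
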