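import Mathlib
import Groth.Agent.Helper4.TestLoc

/-! Abstract test objects: local criterion for a map into a cohomology object to be killed by a
morphism. -/

set_option autoImplicit false
set_option linter.unusedSectionVars false
universe w v' u' u

open CategoryTheory Limits Opposite

namespace Groth.Agent.Helper4.TestLoc

open Groth.Agent.Helper4.HDUcls

variable {𝒜 : Type u'} [Category.{v'} 𝒜] [Abelian 𝒜] [HasDerivedCategory.{w} 𝒜]
  {C : Type u} [SmallCategory C] {J : GrothendieckTopology C}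
  {G : C → 𝒜} {Gmap : ∀ {U V : C}, (V ⟶ U) → (G V ⟶ G U)}

/-- chain level: every map `G V ⟶ Hᵐ(I)` is killed by `α`, if all classes in `Hom(G Y[0], I⟦m⟧)`
are killed by `α` for `Y` in suitable coverings. -/
theorem comp_eq_zero_of_local_chain (hT : IsTest J G Gmap) (I I' : CochainComplex 𝒜 ℤ)
    [I.IsKInjective] [I'.IsKInjective] (α : I ⟶ I') (V : C) (m : ℤ)
    (hloc : ∀ T ∈ J V, ∃ (ι : Type u) (Yf : ι → C) (f : ∀ i, Yf i ⟶ V), (∀ i, T.arrows (f i)) ∧
      Sieve.ofArrows Yf f ∈ J V ∧ ∀ i,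
        ∀ y : (DerivedCategory.singleFunctor 𝒜 0).obj (G (Yf i)) ⟶
          (DerivedCategory.Q.obj I)⟦m⟧, y ≫ (DerivedCategory.Q.map α)⟦m⟧' = 0)
    (t : G V ⟶ I.homology m) : t ≫ HomologicalComplex.homologyMap α m = 0 := by
  obtain ⟨A₁, π₁, _, z, hz, e1⟩ :=
    I.eq_liftCycles_homologyπ_up_to_refinements t (m + 1) (by simp)
  obtain ⟨S, hS, hl⟩ := hT.lift V π₁
  obtain ⟨ι, Yf, f, hfT, hcov, hY⟩ := hloc S hS
  apply hT.sep V _ _ Yf f hcov
  intro i
  obtain ⟨l, hl⟩ := hl _ (f i) (hfT i)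
  have hzi : (l ≫ z) ≫ I.d m (m + 1) = 0 := by
    rw [Category.assoc, hz, comp_zero]
  have hzi' : ((l ≫ z) ≫ α.f m) ≫ I'.d m (m + 1) = 0 := by
    rw [Category.assoc, α.comm, ← Category.assoc, hzi, zero_comp]
  have h1 : cls _ I' m ((l ≫ z) ≫ α.f m) hzi' = 0 := by
    rw [cls_postcomp α (l ≫ z) hzi]
    exact hY i _
  rw [cls_eq_zero_iff] at h1
  obtain ⟨g, hg⟩ := h1
  have h3 : l ≫ I.liftCycles z (m + 1) (by simp) hz ≫ HomologicalComplex.cyclesMap α m =
      I'.liftCycles ((l ≫ z) ≫ α.f m) (m + 1) (by simp) hzi' := by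
    rw [← cancel_mono (I'.iCycles m)]
    simp
  have key : Gmap (f i) ≫ t ≫ HomologicalComplex.homologyMap α m =
      I'.liftCycles ((l ≫ z) ≫ α.f m) (m + 1) (by simp) hzi' ≫ I'.homologyπ m := by
    rw [← h3, ← hl]
    simp only [Category.assoc]
    rw [← Category.assoc π₁, e1]
    simp only [Category.assoc, HomologicalComplex.homologyπ_naturality]
  rw [key]
  exact (I'.liftCycles_comp_homologyπ_eq_zero_iff_up_to_refinements
    (m - 1) m (m + 1) (by simp) (by simp) ((l ≫ z) ≫ α.f m) hzi').2 ⟨_, 𝟙 _, inferInstance, g, by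
      rw [Category.id_comp, hg]⟩

/-- derived-category level, for a general morphism `φ : L ⟶ K'` -/
theorem comp_eq_zero_of_local [IsGrothendieckAbelian.{v'} 𝒜] (hT : IsTest J G Gmap)
    (L K' : DerivedCategory 𝒜) (φ : L ⟶ K') (V : C) (m : ℤ)
    (hloc : ∀ T ∈ J V, ∃ (ι : Type u) (Yf : ι → C) (f : ∀ i, Yf i ⟶ V), (∀ i, T.arrows (f i)) ∧
      Sieve.ofArrows Yf f ∈ J V ∧ ∀ i,
        ∀ y : (DerivedCategory.singleFunctor 𝒜 0).obj (G (Yf i)) ⟶ L⟦m⟧, y ≫ φ⟦m⟧' = 0)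
    (t₀ : G V ⟶ (DerivedCategory.homologyFunctor 𝒜 m).obj L) :
    t₀ ≫ (DerivedCategory.homologyFunctor 𝒜 m).map φ = 0 := by
  obtain ⟨I, hI, ⟨eL⟩⟩ := Groth.Agent.Helper4.HDUrep.exists_kinj_rep L
  obtain ⟨I', hI', ⟨eK⟩⟩ := Groth.Agent.Helper4.HDUrep.exists_kinj_rep K'
  obtain ⟨α, hα⟩ := Groth.Agent.Helper4.HDUrep.exists_Q_map_eq I I' (eL.inv ≫ φ ≫ eK.hom)
  let H := DerivedCategory.homologyFunctor 𝒜 m
  let ψ : H.obj L ≅ I.homology m :=
    H.mapIso eL ≪≫ (DerivedCategory.homologyFunctorFactors _ m).app I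
  let ψ' : H.obj K' ≅ I'.homology m :=
    H.mapIso eK ≪≫ (DerivedCategory.homologyFunctorFactors _ m).app I'
  have hsq : H.map φ ≫ ψ'.hom = ψ.hom ≫ HomologicalComplex.homologyMap α m := by
    have hn := (DerivedCategory.homologyFunctorFactors 𝒜 m).hom.naturality α
    have e : H.map φ ≫ H.map eK.hom = H.map eL.hom ≫ H.map (DerivedCategory.Q.map α) := by
      rw [← Functor.map_comp, ← Functor.map_comp, hα]; simp
    exact (Category.assoc _ _ _).symm.trans ((congrArg (fun x => x ≫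
      (DerivedCategory.homologyFunctorFactors 𝒜 m).hom.app I') e).trans
      ((Category.assoc _ _ _).trans ((congrArg (fun x => H.map eL.hom ≫ x) hn).trans
        (Category.assoc _ _ _).symm)))
  have h0 : (t₀ ≫ ψ.hom) ≫ HomologicalComplex.homologyMap α m = 0 := by
    refine comp_eq_zero_of_local_chain hT I I' α V m ?_ (t₀ ≫ ψ.hom)
    intro T hT'
    obtain ⟨ι, Yf, f, hfT, hcov, hY⟩ := hloc T hT'
    refine ⟨ι, Yf, f, hfT, hcov, fun i y => ?_⟩
    have h1 := hY i (y ≫ eL.inv⟦m⟧')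
    have : eL.inv ≫ φ = DerivedCategory.Q.map α ≫ eK.inv := by
      rw [hα]; simp
    rw [Category.assoc, ← Functor.map_comp, this, Functor.map_comp, ← Category.assoc] at h1
    have h2 := congrArg (fun x => x ≫ eK.hom⟦m⟧') h1
    simpa [← Functor.map_comp] using h2
  rw [← cancel_mono ψ'.hom, Category.assoc, hsq, ← Category.assoc, h0, zero_comp]

end Groth.Agent.Helper4.TestLoc
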