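import Mathlib
import Groth.Prelude.Def_CohCx
import Groth.Prelude.Def_WeakSerre
import Groth.Agent.Helper4.TestLoc2
import Groth.Agent.Helper4.DimBij
import Groth.Agent.Helper4.MilnorSurj
import Groth.Agent.Helper4.MilnorInj
import Groth.Agent.Helper9.LC1

/-! Cohomology of a derived limit of an inverse system in `D^+_P` with eventually constant
cohomology objects, under local finiteness of cohomological dimension. -/

set_option autoImplicit false
set_option linter.unusedSectionVars false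
set_option linter.unusedVariables false
universe w' w v' u' u

open CategoryTheory Limits Opposite DerivedCategory

namespace Groth.Agent.Helper4.RlimStab

open Groth.Agent.Helper9.LC3

section general

variable {𝒜 : Type u'} [Category.{v'} 𝒜] [Abelian 𝒜] [HasDerivedCategory.{w} 𝒜]
  (K : ℕ → DerivedCategory 𝒜) (t : ∀ n, K (n + 1) ⟶ K n)

lemma exists_range
    (hconst : ∀ j : ℤ, ∃ n₀ : ℕ, ∀ n, n₀ ≤ n → IsIso ((homologyFunctor 𝒜 j).map (t n)))
    (lo : ℤ) : ∀ c : ℕ, ∃ N : ℕ, ∀ q : ℤ, lo ≤ q → q < lo + c → ∀ n, N ≤ n →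
      IsIso ((homologyFunctor 𝒜 q).map (t n)) := by
  intro c
  induction c with
  | zero => exact ⟨0, fun q h1 h2 => by simp at h2; omega⟩
  | succ c ih =>
    obtain ⟨N, hN⟩ := ih
    obtain ⟨N', hN'⟩ := hconst (lo + c)
    refine ⟨max N N', fun q h1 h2 n hn => ?_⟩
    by_cases hq : q < lo + c
    · exact hN q h1 hq n (le_trans (le_max_left _ _) hn)
    · obtain rfl : q = lo + c := by push_cast at h2; omega
      exact hN' n (le_trans (le_max_right _ _) hn)

lemma isIso_transition (q : ℤ) (n : ℕ)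
    (h : ∀ n', n ≤ n' → IsIso ((homologyFunctor 𝒜 q).map (t n'))) (k : ℕ) :
    IsIso ((homologyFunctor 𝒜 q).map (CohCx.transition K t n k)) := by
  induction k with
  | zero =>
    change IsIso ((homologyFunctor 𝒜 q).map (𝟙 (K n)))
    rw [CategoryTheory.Functor.map_id]
    infer_instance
  | succ k ih =>
    change IsIso ((homologyFunctor 𝒜 q).map (t (n + k) ≫ CohCx.transition K t n k))
    rw [Functor.map_comp]
    haveI := h (n + k) (by omega)
    infer_instance

lemma injective_transition (X : DerivedCategory 𝒜) (m : ℤ) (N : ℕ)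
    (h : ∀ n, N ≤ n → Function.Injective (Preadditive.rightComp X ((t n)⟦m⟧'))) (k : ℕ) :
    Function.Injective (Preadditive.rightComp X
      ((shiftFunctor (DerivedCategory 𝒜) m).map (CohCx.transition K t N k))) := by
  induction k with
  | zero =>
    intro x x' hxx'
    change x ≫ (𝟙 (K N))⟦m⟧' = x' ≫ (𝟙 (K N))⟦m⟧' at hxx'
    simpa using hxx'
  | succ k ih =>
    intro x x' hxx'
    change x ≫ (t (N + k) ≫ CohCx.transition K t N k)⟦m⟧' =
      x' ≫ (t (N + k) ≫ CohCx.transition K t N k)⟦m⟧' at hxx'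
    rw [Functor.map_comp, ← Category.assoc, ← Category.assoc] at hxx'
    exact h (N + k) (by omega) (ih hxx')

lemma limOneIsZero (X : DerivedCategory 𝒜) (m : ℤ) (N : ℕ)
    (h : ∀ n, N ≤ n → Function.Bijective (Preadditive.rightComp X ((t n)⟦m⟧'))) :
    CohCx.LimOneIsZero (fun n => X ⟶ (K n)⟦m⟧)
      (fun n => Preadditive.rightComp _ ((t n)⟦m⟧')) := by
  intro y
  obtain ⟨x, hx⟩ := Groth.Agent.Helper9.LC1.surj_one_sub N (fun n => X ⟶ (K n)⟦m⟧)
    (fun n => Preadditive.rightComp _ ((t n)⟦m⟧')) h y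
  exact ⟨x, funext hx⟩

lemma exact_comp_eq_zero (S : ShortComplex 𝒜) (hS : S.Exact) {X Q : 𝒜} (s : X ⟶ S.X₂)
    (hs : s ≫ S.g = 0) (g' : S.X₂ ⟶ Q) (hg : S.f ≫ g' = 0) : s ≫ g' = 0 := by
  haveI := hS.epi_toCycles
  have h1 : S.iCycles ≫ g' = 0 := by
    rw [← cancel_epi S.toCycles, ← Category.assoc, S.toCycles_i, hg, comp_zero]
  rw [← S.liftCycles_i s hs, Category.assoc, h1, comp_zero]

end general

variable {𝒜 : Type u'} [Category.{v'} 𝒜] [Abelian 𝒜] [IsGrothendieckAbelian.{v'} 𝒜]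
  [HasDerivedCategory.{w} 𝒜] [HasExt.{w'} 𝒜]
  {C : Type u} [SmallCategory C] {J : GrothendieckTopology C}
  {G : C → 𝒜} {Gmap : ∀ {U V : C}, (V ⟶ U) → (G V ⟶ G U)}

theorem main (hT : Groth.Agent.Helper4.TestLoc.IsTest J G Gmap)
    (P : ObjectProperty 𝒜) [WSerre.IsWeakSerre P] (B : Set C)
    (hsep : ∀ {F F' : 𝒜} (f : F ⟶ F'), (∀ V ∈ B, ∀ s : G V ⟶ F, s ≫ f = 0) → f = 0)
    (hA : ∀ V ∈ B, ∃ d : ℕ, ∀ T ∈ J V, ∃ (ι : Type u) (Yf : ι → C) (f : ∀ i, Yf i ⟶ V),
      (∀ i, T.arrows (f i)) ∧ Sieve.ofArrows Yf f ∈ J V ∧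
      ∀ (i : ι) (F : 𝒜), P F → ∀ k : ℕ, d < k →
        Subsingleton (Abelian.Ext.{w'} (G (Yf i)) F k))
    (K : ℕ → DerivedCategory 𝒜) (t : ∀ n, K (n + 1) ⟶ K n) [HasProduct K]
    (hK : ∀ n, WSerre.cohInPlus P (K n))
    (hconst : ∀ j : ℤ, ∃ n₀ : ℕ, ∀ n, n₀ ≤ n → IsIso ((homologyFunctor 𝒜 j).map (t n)))
    (L : DerivedCategory 𝒜) (a : ∀ n, L ⟶ K n) (hL : CohCx.IsRlimVia K t L a) (j : ℤ) :
    ∃ n₀ : ℕ, ∀ n, n₀ ≤ n → IsIso ((homologyFunctor 𝒜 j).map (a n)) := by
  obtain ⟨n₁, hn₁⟩ := hconst j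
  refine ⟨n₁, fun n hn => ?_⟩
  -- for `V ∈ B`, a late stage where everything is bijective
  have hstage : ∀ V ∈ B, ∃ (k : ℕ), ∀ T ∈ J V, ∃ (ι : Type u) (Yf : ι → C) (f : ∀ i, Yf i ⟶ V),
      (∀ i, T.arrows (f i)) ∧ Sieve.ofArrows Yf f ∈ J V ∧
      ∀ (i : ι), (∀ n', n + k ≤ n' → Function.Bijective
          (Preadditive.rightComp (W (G (Yf i)) 0) ((t n')⟦j⟧'))) ∧
        (∀ n', n + k ≤ n' → Function.Bijective
          (Preadditive.rightComp (W (G (Yf i)) 0) ((t n')⟦j - 1⟧'))) := by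
    intro V hV
    obtain ⟨d, hd⟩ := hA V hV
    obtain ⟨N, hN⟩ := exists_range K t hconst (j - d - 2) (d + 4)
    refine ⟨N, fun T hT' => ?_⟩
    obtain ⟨ι, Yf, f, hfT, hcov, hY⟩ := hd T hT'
    refine ⟨ι, Yf, f, hfT, hcov, fun i => ⟨fun n' hn' => ?_, fun n' hn' => ?_⟩⟩
    · exact Groth.Agent.Helper4.DimBij.bijective_comp_of_isIso (G (Yf i)) d P (hY i) (t n')
        (hK _) (hK _) j (fun q h1 h2 => hN q (by omega) (by push_cast; omega) n' (by omega))
    · exact Groth.Agent.Helper4.DimBij.bijective_comp_of_isIso (G (Yf i)) d P (hY i) (t n')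
        (hK _) (hK _) (j - 1) (fun q h1 h2 => hN q (by omega) (by push_cast; omega) n' (by omega))
  have hcomp : ∀ k : ℕ, (homologyFunctor 𝒜 j).map (a (n + k)) ≫
      (homologyFunctor 𝒜 j).map (CohCx.transition K t n k) = (homologyFunctor 𝒜 j).map (a n) := by
    intro k
    rw [← Functor.map_comp, Groth.Agent.Helper4.MilnorInj.a_comp_transition hL n k]
  have hisoT : ∀ k : ℕ, IsIso ((homologyFunctor 𝒜 j).map (CohCx.transition K t n k)) :=
    fun k => isIso_transition K t j n (fun n' hn' => hn₁ n' (le_trans hn hn')) k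
  haveI : Mono ((homologyFunctor 𝒜 j).map (a n)) := by
    apply Preadditive.mono_of_cancel_zero
    intro Z g hg
    apply hsep
    intro V hV s
    obtain ⟨k, hk⟩ := hstage V hV
    haveI := hisoT k
    have ht₁ : (s ≫ g) ≫ (homologyFunctor 𝒜 j).map (a (n + k)) = 0 := by
      rw [← cancel_mono ((homologyFunctor 𝒜 j).map (CohCx.transition K t n k)), Category.assoc,
        hcomp, Category.assoc, hg, comp_zero, zero_comp]
    refine Groth.Agent.Helper4.TestLoc.hom_eq_zero_of_local hT L _ (a (n + k)) V j ?_ (s ≫ g) ht₁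
    intro S hS
    obtain ⟨ι, Yf, f, hfT, hcov, hY⟩ := hk S hS
    refine ⟨ι, Yf, f, hfT, hcov, fun i y hy => ?_⟩
    exact Groth.Agent.Helper4.MilnorInj.eq_zero_of_stage hL _ j (n + k)
      (limOneIsZero K t _ (j - 1) (n + k) (hY i).2)
      (injective_transition K t _ j (n + k) (fun n' hn' => ((hY i).1 n' hn').1)) y hy
  haveI : Epi ((homologyFunctor 𝒜 j).map (a n)) := by
    apply Preadditive.epi_of_cancel_zero
    intro Q g hg
    apply hsep
    intro V hV s
    obtain ⟨k, hk⟩ := hstage V hV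
    haveI := hisoT k
    obtain ⟨Cn, b, c, hTr⟩ := Pretriangulated.distinguished_cocone_triangle (a (n + k))
    let s' : G V ⟶ (homologyFunctor 𝒜 j).obj (K (n + k)) :=
      s ≫ inv ((homologyFunctor 𝒜 j).map (CohCx.transition K t n k))
    let g' : (homologyFunctor 𝒜 j).obj (K (n + k)) ⟶ Q :=
      (homologyFunctor 𝒜 j).map (CohCx.transition K t n k) ≫ g
    have hsg : s ≫ g = s' ≫ g' := by
      simp only [s', g', Category.assoc, IsIso.inv_hom_id_assoc]
    rw [hsg]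
    have hs'b : s' ≫ (homologyFunctor 𝒜 j).map b = 0 := by
      refine Groth.Agent.Helper4.TestLoc.comp_eq_zero_of_local hT _ _ b V j ?_ s'
      intro S hS
      obtain ⟨ι, Yf, f, hfT, hcov, hY⟩ := hk S hS
      refine ⟨ι, Yf, f, hfT, hcov, fun i y => ?_⟩
      obtain ⟨y', hy'⟩ := Groth.Agent.Helper4.MilnorSurj.exists_of_stage hL _ j (n + k)
        (fun n' hn' => ((hY i).1 n' hn').2) y
      rw [← hy', Category.assoc, ← Functor.map_comp]
      have h0 : a (n + k) ≫ b = 0 := Pretriangulated.comp_distTriang_mor_zero₁₂ _ hTr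
      rw [h0, Functor.map_zero, comp_zero]
    refine exact_comp_eq_zero _ (HomologySequence.exact₂ _ hTr j) s' hs'b g' ?_
    change (homologyFunctor 𝒜 j).map (a (n + k)) ≫ g' = 0
    simp only [g']
    rw [← Category.assoc, hcomp, hg]
  exact isIso_of_mono_of_epi _

end Groth.Agent.Helper4.RlimStab
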