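import Mathlib
import Groth.Agent.Helper4.RlimStab

/-! Variant of `RlimStab.main` taking the eventual bijectivity of the transition maps on classes
over the test objects as hypothesis. -/

set_option autoImplicit false
set_option linter.unusedSectionVars false
set_option linter.unusedVariables false
universe w v' u' u

open CategoryTheory Limits Opposite DerivedCategory

namespace Groth.Agent.Helper4.RlimStab

open Groth.Agent.Helper9.LC3

variable {𝒜 : Type u'} [Category.{v'} 𝒜] [Abelian 𝒜] [IsGrothendieckAbelian.{v'} 𝒜]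
  [HasDerivedCategory.{w} 𝒜]
  {C : Type u} [SmallCategory C] {J : GrothendieckTopology C}
  {G : C → 𝒜} {Gmap : ∀ {U V : C}, (V ⟶ U) → (G V ⟶ G U)}

theorem main' (hT : Groth.Agent.Helper4.TestLoc.IsTest J G Gmap) (B : Set C)
    (hsep : ∀ {F F' : 𝒜} (f : F ⟶ F'), (∀ V ∈ B, ∀ s : G V ⟶ F, s ≫ f = 0) → f = 0)
    (K : ℕ → DerivedCategory 𝒜) (t : ∀ n, K (n + 1) ⟶ K n) [HasProduct K]
    (L : DerivedCategory 𝒜) (a : ∀ n, L ⟶ K n) (hL : CohCx.IsRlimVia K t L a) (j : ℤ)
    (n₁ : ℕ) (hn₁ : ∀ n, n₁ ≤ n → IsIso ((homologyFunctor 𝒜 j).map (t n)))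
    (hstage : ∀ (n : ℕ), ∀ V ∈ B, ∃ (k : ℕ), ∀ T ∈ J V,
      ∃ (ι : Type u) (Yf : ι → C) (f : ∀ i, Yf i ⟶ V),
      (∀ i, T.arrows (f i)) ∧ Sieve.ofArrows Yf f ∈ J V ∧
      ∀ (i : ι), (∀ n', n + k ≤ n' → Function.Bijective
          (Preadditive.rightComp (W (G (Yf i)) 0) ((t n')⟦j⟧'))) ∧
        (∀ n', n + k ≤ n' → Function.Bijective
          (Preadditive.rightComp (W (G (Yf i)) 0) ((t n')⟦j - 1⟧'))))
    (n : ℕ) (hn : n₁ ≤ n) : IsIso ((homologyFunctor 𝒜 j).map (a n)) := by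
  have hstage := hstage n
  have hcomp : ∀ k : ℕ, (homologyFunctor 𝒜 j).map (a (n + k)) ≫
      (homologyFunctor 𝒜 j).map (CohCx.transition K t n k) = (homologyFunctor 𝒜 j).map (a n) := by
    intro k
    rw [← Functor.map_comp, Groth.Agent.Helper4.MilnorInj.a_comp_transition hL n k]
  have hisoT : ∀ k : ℕ, IsIso ((homologyFunctor 𝒜 j).map (CohCx.transition K t n k)) :=
    fun k => isIso_transition K t j n (fun n' hn' => hn₁ n' (le_trans hn hn')) k
  haveI : Mono ((homologyFunctor 𝒜 j).map (a n)) := by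
    apply Preadditive.mono_of_cancel_zero
    intro Z g hg
    apply hsep
    intro V hV s
    obtain ⟨k, hk⟩ := hstage V hV
    haveI := hisoT k
    have ht₁ : (s ≫ g) ≫ (homologyFunctor 𝒜 j).map (a (n + k)) = 0 := by
      rw [← cancel_mono ((homologyFunctor 𝒜 j).map (CohCx.transition K t n k)), Category.assoc,
        hcomp, Category.assoc, hg, comp_zero, zero_comp]
    refine Groth.Agent.Helper4.TestLoc.hom_eq_zero_of_local hT L _ (a (n + k)) V j ?_ (s ≫ g) ht₁
    intro S hS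
    obtain ⟨ι, Yf, f, hfT, hcov, hY⟩ := hk S hS
    refine ⟨ι, Yf, f, hfT, hcov, fun i y hy => ?_⟩
    exact Groth.Agent.Helper4.MilnorInj.eq_zero_of_stage hL _ j (n + k)
      (limOneIsZero K t _ (j - 1) (n + k) (hY i).2)
      (injective_transition K t _ j (n + k) (fun n' hn' => ((hY i).1 n' hn').1)) y hy
  haveI : Epi ((homologyFunctor 𝒜 j).map (a n)) := by
    apply Preadditive.epi_of_cancel_zero
    intro Q g hg
    apply hsep
    intro V hV s
    obtain ⟨k, hk⟩ := hstage V hV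
    haveI := hisoT k
    obtain ⟨Cn, b, c, hTr⟩ := Pretriangulated.distinguished_cocone_triangle (a (n + k))
    let s' : G V ⟶ (homologyFunctor 𝒜 j).obj (K (n + k)) :=
      s ≫ inv ((homologyFunctor 𝒜 j).map (CohCx.transition K t n k))
    let g' : (homologyFunctor 𝒜 j).obj (K (n + k)) ⟶ Q :=
      (homologyFunctor 𝒜 j).map (CohCx.transition K t n k) ≫ g
    have hsg : s ≫ g = s' ≫ g' := by
      simp only [s', g', Category.assoc, IsIso.inv_hom_id_assoc]
    rw [hsg]
    have hs'b : s' ≫ (homologyFunctor 𝒜 j).map b = 0 := by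
      refine Groth.Agent.Helper4.TestLoc.comp_eq_zero_of_local hT _ _ b V j ?_ s'
      intro S hS
      obtain ⟨ι, Yf, f, hfT, hcov, hY⟩ := hk S hS
      refine ⟨ι, Yf, f, hfT, hcov, fun i y => ?_⟩
      obtain ⟨y', hy'⟩ := Groth.Agent.Helper4.MilnorSurj.exists_of_stage hL _ j (n + k)
        (fun n' hn' => ((hY i).1 n' hn').2) y
      rw [← hy', Category.assoc, ← Functor.map_comp]
      have h0 : a (n + k) ≫ b = 0 := Pretriangulated.comp_distTriang_mor_zero₁₂ _ hTr
      rw [h0, Functor.map_zero, comp_zero]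
    refine exact_comp_eq_zero _ (HomologySequence.exact₂ _ hTr j) s' hs'b g' ?_
    change (homologyFunctor 𝒜 j).map (a (n + k)) ≫ g' = 0
    simp only [g']
    rw [← Category.assoc, hcomp, hg]
  exact isIso_of_mono_of_epi _

end Groth.Agent.Helper4.RlimStab
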