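import Mathlib
import Groth.Prelude.Def_CohCx
import Groth.Agent.Helper9.LC5
import Groth.Agent.Helper4.MilnorInj

/-! Abstract criterion: `E` is the derived limit of a tower `(En, s, τ)` computing its cohomology
in high degrees, as soon as for every derived limit `R` the maps `H^q(R) → H^q(En n)` are
monomorphisms for some large `n`. -/

set_option autoImplicit false
set_option linter.unusedSectionVars false
universe w v u

open CategoryTheory Limits Pretriangulated DerivedCategory

namespace Groth.Agent.Helper4.LCgen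

variable {A : Type u} [Category.{v} A] [Abelian A] [HasDerivedCategory.{w} A]

variable (E : DerivedCategory A) (En : ℕ → DerivedCategory A)
  (s : ∀ n, En (n + 1) ⟶ En n) (τ : ∀ n, E ⟶ En n)
  (hτs : ∀ n, τ (n + 1) ≫ s n = τ n)
  (hiso : ∀ (n : ℕ) (p : ℤ), -(n : ℤ) ≤ p → IsIso ((homologyFunctor A p).map (τ n)))

include hτs hiso in
lemma isIso_homology_transition (n : ℕ) (p : ℤ) (hp : -(n : ℤ) ≤ p) (k : ℕ) :
    IsIso ((homologyFunctor A p).map (CohCx.transition En s n k)) := by
  induction k with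
  | zero =>
    change IsIso ((homologyFunctor A p).map (𝟙 _))
    rw [CategoryTheory.Functor.map_id]
    infer_instance
  | succ k ih =>
    change IsIso ((homologyFunctor A p).map (s (n + k) ≫ CohCx.transition En s n k))
    rw [Functor.map_comp]
    haveI := ih
    haveI : IsIso ((homologyFunctor A p).map (s (n + k))) :=
      Groth.Agent.Helper9.LC4.isIso_homology_s E En s τ hτs hiso (n + k) p (by push_cast; omega)
    infer_instance

variable [HasProduct En]

include hτs hiso in
theorem isRlimVia_of_mono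
    (hmono : ∀ (q : ℤ) (R : DerivedCategory A) (a : ∀ n, R ⟶ En n),
      CohCx.IsRlimVia En s R a → ∃ n : ℕ, -(n : ℤ) ≤ q ∧ Mono ((homologyFunctor A q).map (a n))) :
    CohCx.IsRlimVia En s E τ := by
  let b : ∏ᶜ En ⟶ ∏ᶜ En := Pi.lift fun n => Pi.π En n - Pi.π En (n + 1) ≫ s n
  obtain ⟨R, f, h, hT⟩ := distinguished_cocone_triangle₁ b
  let a : ∀ n, R ⟶ En n := fun n => f ≫ Pi.π En n
  have hfa : Pi.lift a = f := by
    apply Pi.hom_ext
    intro n
    simp [a]
  have hR : CohCx.IsRlimVia En s R a := ⟨h, by rw [hfa]; exact hT⟩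
  have hb : Pi.lift τ ≫ b = 0 := by
    apply Pi.hom_ext
    intro k
    simp only [b, Category.assoc, Pi.lift_π, Preadditive.comp_sub, Pi.lift_π_assoc, hτs, sub_self,
      zero_comp]
  obtain ⟨c₀, hc₀⟩ : ∃ c₀ : E ⟶ R, Pi.lift τ = c₀ ≫ f := Triangle.coyoneda_exact₂ _ hT _ hb
  have hc₀a : ∀ n, c₀ ≫ a n = τ n := by
    intro n
    simp only [a]
    rw [← Category.assoc, ← hc₀, Pi.lift_π]
  have hciso : IsIso c₀ := by
    rw [DerivedCategory.isIso_iff]
    intro q
    obtain ⟨n, hn, hm⟩ := hmono q R a hR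
    haveI : IsIso ((homologyFunctor A q).map c₀ ≫ (homologyFunctor A q).map (a n)) := by
      rw [← Functor.map_comp, hc₀a]
      exact hiso n q hn
    haveI : Epi ((homologyFunctor A q).map (a n)) :=
      epi_of_epi ((homologyFunctor A q).map c₀) _
    haveI : IsIso ((homologyFunctor A q).map (a n)) := isIso_of_mono_of_epi _
    exact IsIso.of_isIso_comp_right _ ((homologyFunctor A q).map (a n))
  let ec : E ≅ R := @asIso _ _ _ _ c₀ hciso
  refine ⟨h ≫ ec.inv⟦(1 : ℤ)⟧', ?_⟩
  refine isomorphic_distinguished _ hT _ ?_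
  refine Triangle.isoMk _ _ ec (Iso.refl _) (Iso.refl _) ?_ ?_ ?_
  · change Pi.lift τ ≫ 𝟙 _ = c₀ ≫ f
    rw [Category.comp_id]
    exact hc₀
  · change b ≫ 𝟙 _ = 𝟙 _ ≫ b
    rw [Category.comp_id, Category.id_comp]
  · change (h ≫ ec.inv⟦(1 : ℤ)⟧') ≫ ec.hom⟦(1 : ℤ)⟧' = 𝟙 _ ≫ h
    rw [Category.assoc, ← Functor.map_comp, Iso.inv_hom_id, CategoryTheory.Functor.map_id,
      Category.comp_id, Category.id_comp]

end Groth.Agent.Helper4.LCgen
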