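import Mathlib
import Groth.Prelude.Def_CohCx
import Groth.Agent.Helper4.TestLoc
import Groth.Agent.Helper4.LCgen
import Groth.Agent.Helper4.LClocal
import Groth.Agent.Helper4.MilnorInj
import Groth.Agent.Helper9.LC6

/-! `E ≅ Rlim τ_{≥ -n} E` in the derived category of a Grothendieck abelian category with test
objects indexed by a site, under local cohomological dimension bounds (abstract form). -/

set_option autoImplicit false
set_option linter.unusedSectionVars false
set_option linter.unusedVariables false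
universe w' w v' u' u

open CategoryTheory Limits Opposite DerivedCategory

namespace Groth.Agent.Helper4.RlimTrunc

open Groth.Agent.Helper9.LC6

variable {𝒜 : Type u'} [Category.{v'} 𝒜] [Abelian 𝒜] [IsGrothendieckAbelian.{v'} 𝒜]
  [HasDerivedCategory.{w} 𝒜] [HasExt.{w'} 𝒜]
  {C : Type u} [SmallCategory C] {J : GrothendieckTopology C}
  {G : C → 𝒜} {Gmap : ∀ {U V : C}, (V ⟶ U) → (G V ⟶ G U)}

theorem isRlimVia_trunc (hT : Groth.Agent.Helper4.TestLoc.IsTest J G Gmap) (B : Set C)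
    (hsep : ∀ {F F' : 𝒜} (f : F ⟶ F'), (∀ V ∈ B, ∀ s : G V ⟶ F, s ≫ f = 0) → f = 0)
    (E : DerivedCategory 𝒜) [HasProduct (En E)]
    (h : ∀ V ∈ B, ∃ p : ℤ → ℤ, ∀ T ∈ J V, ∃ (ι : Type u) (Yf : ι → C) (f : ∀ i, Yf i ⟶ V),
      (∀ i, T.arrows (f i)) ∧ Sieve.ofArrows Yf f ∈ J V ∧
      ∀ (i : ι) (m : ℤ) (k : ℕ), p m < k → Subsingleton
        (Abelian.Ext.{w'} (G (Yf i)) ((homologyFunctor 𝒜 (m - k)).obj E) k)) :
    CohCx.IsRlimVia (En E) (sE E) E (τE E) := by
  refine Groth.Agent.Helper4.LCgen.isRlimVia_of_mono E (En E) (sE E) (τE E) (τE_sE E)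
    (fun n p hp => Groth.Agent.Helper9.LC2.isIso_homologyMap_truncGEπ E _ p hp) ?_
  intro q R a hR
  let n₀ : ℕ := (-q).toNat
  refine ⟨n₀, by omega, ?_⟩
  apply Preadditive.mono_of_cancel_zero
  intro Z g hg
  apply hsep
  intro V hV s
  obtain ⟨p, hp⟩ := h V hV
  let N : ℕ := (p q - q).toNat
  have hcomp : a (n₀ + N) ≫ CohCx.transition (En E) (sE E) n₀ N = a n₀ :=
    Groth.Agent.Helper4.MilnorInj.a_comp_transition hR n₀ N
  haveI : IsIso ((homologyFunctor _ q).map (CohCx.transition (En E) (sE E) n₀ N)) :=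
    Groth.Agent.Helper4.LCgen.isIso_homology_transition E (En E) (sE E) (τE E) (τE_sE E)
      (fun n p hp => Groth.Agent.Helper9.LC2.isIso_homologyMap_truncGEπ E _ p hp) n₀ q (by omega) N
  have ht₁ : (s ≫ g) ≫ (homologyFunctor _ q).map (a (n₀ + N)) = 0 := by
    rw [← cancel_mono ((homologyFunctor _ q).map (CohCx.transition (En E) (sE E) n₀ N)),
      Category.assoc, ← Functor.map_comp, hcomp, Category.assoc, hg, comp_zero, zero_comp]
  refine Groth.Agent.Helper4.TestLoc.hom_eq_zero_of_local hT R _ (a (n₀ + N)) V q ?_ (s ≫ g) ht₁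
  intro S hS
  obtain ⟨ι, Y, f, hfT, hcov, hY⟩ := hp S hS
  refine ⟨ι, Y, f, hfT, hcov, fun i y hy => ?_⟩
  exact Groth.Agent.Helper4.MilnorInj.eq_zero_of_stage hR _ q (n₀ + N)
    (Groth.Agent.Helper4.LClocal.limOneIsZero E (En E) (sE E) (τE E) (τE_sE E)
      (fun n => inferInstance)
      (fun n p hp => Groth.Agent.Helper9.LC2.isIso_homologyMap_truncGEπ E _ p hp)
      (G (Y i)) p (hY i) (q - 1))
    (Groth.Agent.Helper4.LClocal.injective_comp_transition E (En E) (sE E) (τE E) (τE_sE E)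
      (fun n => inferInstance)
      (fun n p hp => Groth.Agent.Helper9.LC2.isIso_homologyMap_truncGEπ E _ p hp)
      (G (Y i)) p (hY i) (n₀ + N) q (by push_cast; omega)) y hy

end Groth.Agent.Helper4.RlimTrunc
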