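import Mathlib
import Groth.Agent.Helper4.WSerreLib
import Groth.Agent.Helper4.AdjWayOut
import Groth.Agent.Helper4.MapDGE
import Groth.Agent.Lead.PcLib2

/-! Equivalence `D^+_{A'} ≃ D^+_A` induced by an exact functor with a derived right adjoint. -/

set_option autoImplicit false
set_option linter.unusedSectionVars false
universe w w' v v' u u'

open CategoryTheory Limits Pretriangulated Triangulated DerivedCategory

namespace Groth.Agent.Helper4.WSerreEq

open Groth.Agent.Helper4.WSerreLib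

variable {𝒜 : Type u} [Category.{v} 𝒜] [Abelian 𝒜] [HasDerivedCategory.{w} 𝒜]
  {ℬ : Type u'} [Category.{v'} ℬ] [Abelian ℬ] [HasDerivedCategory.{w'} ℬ]
  (Φ : ℬ ⥤ 𝒜) [Φ.Additive] [PreservesFiniteLimits Φ] [PreservesFiniteColimits Φ]
  {G : DerivedCategory 𝒜 ⥤ DerivedCategory ℬ} (adj : Φ.mapDerivedCategory ⊣ G)
  (A : ObjectProperty 𝒜) [WSerre.IsWeakSerre A] (A' : ObjectProperty ℬ) [WSerre.IsWeakSerre A']

include adj in
theorem equiv_plus
    (h2a : ∀ F' : ℬ, A' F' → A (Φ.obj F'))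
    (h2c : ∀ F : 𝒜, A F → ∃ F' : ℬ, A' F' ∧ Nonempty (Φ.obj F' ≅ F))
    (h3 : ∀ F' : ℬ, A' F' → IsIso (adj.unit.app ((singleFunctor ℬ 0).obj F'))) :
    (∀ Y : DerivedCategory ℬ, WSerre.cohInPlus A' Y →
      WSerre.cohInPlus A (Φ.mapDerivedCategory.obj Y) ∧ IsIso (adj.unit.app Y)) ∧
    (∀ X : DerivedCategory 𝒜, WSerre.cohInPlus A X →
      WSerre.cohInPlus A' (G.obj X) ∧ IsIso (adj.counit.app X)) := by
  have hFle : ∀ (Z : DerivedCategory ℬ) (b : ℤ), Z.IsLE b → (Φ.mapDerivedCategory.obj Z).IsLE b :=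
    fun Z b hZ => by haveI := hZ; exact MapDGE.isLE_mapD Φ Z b
  have hFge : ∀ (Z : DerivedCategory ℬ) (a : ℤ), Z.IsGE a → (Φ.mapDerivedCategory.obj Z).IsGE a :=
    fun Z a hZ => by haveI := hZ; exact MapDGE.isGE_mapD Φ Z a
  letI := adj.rightAdjointCommShift ℤ
  haveI := adj.commShift_of_leftAdjoint ℤ
  haveI := adj.isTriangulated_rightAdjoint
  constructor
  · rintro Y ⟨hY, ⟨n, hn⟩⟩
    refine ⟨⟨fun i => ?_, ⟨n, hFge Y n hn⟩⟩, ?_⟩
    · exact A.prop_of_iso ((Groth.Agent.Lead.PcLib.mapDerivedCategoryHomologyIso Φ i).app Y).symm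
        (h2a _ (hY i))
    · exact AdjWayOut.isIso_unit_app_of_isGE' adj hFle hFge Y n hn (fun i => h3 _ (hY i))
  · rintro X ⟨hX, ⟨n, hn⟩⟩
    -- the counit at `M[0]`, `M ∈ A`
    have key : ∀ M : 𝒜, A M → ∃ (F' : ℬ) (_ : A' F')
        (_ : (singleFunctor 𝒜 0).obj M ≅ Φ.mapDerivedCategory.obj ((singleFunctor ℬ 0).obj F')),
        True := by
      intro M hM
      obtain ⟨F', hF', ⟨e⟩⟩ := h2c M hM
      exact ⟨F', hF', (singleFunctor 𝒜 0).mapIso e.symm ≪≫
        ((Φ.mapDerivedCategorySingleFunctor 0).app F').symm, trivial⟩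
    have hcounit : ∀ M : 𝒜, A M → IsIso (adj.counit.app ((singleFunctor 𝒜 0).obj M)) := by
      intro M hM
      obtain ⟨F', hF', e, -⟩ := key M hM
      have h := h3 F' hF'
      have h1 : IsIso (adj.counit.app (Φ.mapDerivedCategory.obj ((singleFunctor ℬ 0).obj F'))) := by
        have ht := adj.left_triangle_components ((singleFunctor ℬ 0).obj F')
        have : IsIso (Φ.mapDerivedCategory.map (adj.unit.app ((singleFunctor ℬ 0).obj F'))) :=
          inferInstance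
        exact IsIso.of_isIso_fac_left ht
      exact Groth.Agent.Helper1.WayOut.isIso_app_of_iso adj.counit e.symm h1
    have hR : ∀ M : 𝒜, A M → WSerre.cohIn A' (G.obj ((singleFunctor 𝒜 0).obj M)) := by
      intro M hM
      obtain ⟨F', hF', e, -⟩ := key M hM
      have h := h3 F' hF'
      exact cohIn_of_iso A' ((asIso (adj.unit.app ((singleFunctor ℬ 0).obj F'))) ≪≫
        G.mapIso e.symm) (cohIn_single A' F' hF' 0)
    have hGge : ∀ (Z : DerivedCategory 𝒜) (a : ℤ), Z.IsGE a → (G.obj Z).IsGE a :=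
      fun Z a hZ => AdjWayOut.isGE_rightAdjoint adj hFle Z a hZ
    haveI := hn
    refine ⟨⟨cohIn_map_of_isGE A A' G hR hGge X n hX, ⟨n, hGge X n hn⟩⟩, ?_⟩
    exact AdjWayOut.isIso_counit_app_of_isGE' adj hFle hFge X n hn (fun i => hcounit _ (hX i))

end Groth.Agent.Helper4.WSerreEq
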