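import Mathlib
import Groth.Prelude.Def_CohCx
import Groth.Prelude.Def_WeakSerre
import Groth.Agent.Helper4.WSerreEq
import Groth.Agent.Helper4.RlimTrunc
import Groth.Agent.Helper4.RlimStab2
import Groth.Agent.Helper4.RlimMap
import Groth.Agent.Helper9.LCProd1

/-! Unbounded equivalence `D_{A'} ≃ D_A` induced by an exact functor `Φ` with derived right adjoint
`G`, under local cohomological dimension bounds (abstract form). -/

set_option autoImplicit false
set_option linter.unusedSectionVars false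
set_option linter.unusedVariables false
universe x x' w w' v v' u u' c c'

open CategoryTheory Limits Pretriangulated Triangulated DerivedCategory Opposite

namespace Groth.Agent.Helper4.UnbEq

open Groth.Agent.Helper4.WSerreLib Groth.Agent.Helper9.LC6 Groth.Agent.Helper9.LC3

variable {𝒜 : Type u} [Category.{v} 𝒜] [Abelian 𝒜] [HasDerivedCategory.{w} 𝒜]
  {ℬ : Type u'} [Category.{v'} ℬ] [Abelian ℬ] [HasDerivedCategory.{w'} ℬ]
  (Φ : ℬ ⥤ 𝒜) [Φ.Additive] [PreservesFiniteLimits Φ] [PreservesFiniteColimits Φ]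
  {G : DerivedCategory 𝒜 ⥤ DerivedCategory ℬ} (adj : Φ.mapDerivedCategory ⊣ G)
  (A : ObjectProperty 𝒜) [WSerre.IsWeakSerre A] (A' : ObjectProperty ℬ) [WSerre.IsWeakSerre A']

section basic

/-- a fully faithful functor on `A'` reflects isomorphisms between objects of `A'` -/
lemma isIso_of_isIso_map
    (h2b : ∀ F' G' : ℬ, A' F' → A' G' → Function.Bijective (fun φ : F' ⟶ G' => Φ.map φ))
    {F' G' : ℬ} (hF : A' F') (hG : A' G') (φ : F' ⟶ G') (h : IsIso (Φ.map φ)) : IsIso φ := by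
  obtain ⟨ψ, hψ⟩ := (h2b G' F' hG hF).2 (inv (Φ.map φ))
  dsimp only at hψ
  refine ⟨ψ, ?_, ?_⟩
  · apply (h2b F' F' hF hF).1
    dsimp only
    rw [Functor.map_comp, hψ, IsIso.hom_inv_id, CategoryTheory.Functor.map_id]
  · apply (h2b G' G' hG hG).1
    dsimp only
    rw [Functor.map_comp, hψ, IsIso.inv_hom_id, CategoryTheory.Functor.map_id]

/-- truncations of objects with cohomology in `A` are in `D^+_A` -/
lemma cohInPlus_trunc (X : DerivedCategory 𝒜) (hX : WSerre.cohIn A X) (n : ℕ) :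
    WSerre.cohInPlus A (En X n) := by
  refine ⟨fun i => ?_, ⟨-(n : ℤ), inferInstance⟩⟩
  by_cases hi : -(n : ℤ) ≤ i
  · haveI := Groth.Agent.Helper9.LC2.isIso_homologyMap_truncGEπ X (-(n : ℤ)) i hi
    exact A.prop_of_iso (asIso ((homologyFunctor 𝒜 i).map (τE X n))) (hX i)
  · exact prop_of_isZero A _ (isZero_of_isGE (En X n) (-(n : ℤ)) i (by omega))

include adj in
/-- `G` preserves isomorphisms on `H^j` between objects where the counit is invertible -/
lemma isIso_homology_G_map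
    (h2b : ∀ F' G' : ℬ, A' F' → A' G' → Function.Bijective (fun φ : F' ⟶ G' => Φ.map φ))
    {K' K'' : DerivedCategory 𝒜} (τ : K' ⟶ K'')
    (h' : WSerre.cohIn A' (G.obj K')) (h'' : WSerre.cohIn A' (G.obj K''))
    (e' : IsIso (adj.counit.app K')) (e'' : IsIso (adj.counit.app K'')) (j : ℤ)
    (hτ : IsIso ((homologyFunctor 𝒜 j).map τ)) : IsIso ((homologyFunctor ℬ j).map (G.map τ)) := by
  apply isIso_of_isIso_map Φ A' h2b (h' j) (h'' j)
  have hn : Φ.mapDerivedCategory.map (G.map τ) ≫ adj.counit.app K'' = adj.counit.app K' ≫ τ :=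
    adj.counit.naturality τ
  have h1 : IsIso ((homologyFunctor 𝒜 j).map (Φ.mapDerivedCategory.map (G.map τ))) := by
    have h2 : (homologyFunctor 𝒜 j).map (Φ.mapDerivedCategory.map (G.map τ)) =
        (homologyFunctor 𝒜 j).map (adj.counit.app K') ≫ (homologyFunctor 𝒜 j).map τ ≫
          inv ((homologyFunctor 𝒜 j).map (adj.counit.app K'')) := by
      rw [← Functor.map_comp_assoc, ← hn, Functor.map_comp, Category.assoc, IsIso.hom_inv_id,
        Category.comp_id]
    rw [h2]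
    infer_instance
  exact ((MorphismProperty.isomorphisms 𝒜).arrow_mk_iso_iff
    (Groth.Agent.Lead.PcLib.mapDerivedCategoryHomologyArrowIso Φ j (G.map τ))).mp h1

end basic

variable [IsGrothendieckAbelian.{v} 𝒜] [IsGrothendieckAbelian.{v'} ℬ] [HasExt.{x} 𝒜]
  {C : Type c} [SmallCategory C] {J : GrothendieckTopology C}
  {T₁ : C → 𝒜} {T₁map : ∀ {U V : C}, (V ⟶ U) → (T₁ V ⟶ T₁ U)}
  {D : Type c'} [SmallCategory D] {K : GrothendieckTopology D}
  {T₂ : D → ℬ} {T₂map : ∀ {U V : D}, (V ⟶ U) → (T₂ V ⟶ T₂ U)}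

include adj in
/-- the counit part -/
theorem counit_part
    (hT₁ : Groth.Agent.Helper4.TestLoc.IsTest J T₁ T₁map) (B : Set C)
    (hsep₁ : ∀ {F F' : 𝒜} (f : F ⟶ F'), (∀ V ∈ B, ∀ s : T₁ V ⟶ F, s ≫ f = 0) → f = 0)
    (hT₂ : Groth.Agent.Helper4.TestLoc.IsTest K T₂ T₂map) (B' : Set D)
    (hsep₂ : ∀ {F F' : ℬ} (f : F ⟶ F'), (∀ V ∈ B', ∀ s : T₂ V ⟶ F, s ≫ f = 0) → f = 0)
    (h2a : ∀ F' : ℬ, A' F' → A (Φ.obj F'))
    (h2b : ∀ F' G' : ℬ, A' F' → A' G' → Function.Bijective (fun φ : F' ⟶ G' => Φ.map φ))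
    (h2c : ∀ F : 𝒜, A F → ∃ F' : ℬ, A' F' ∧ Nonempty (Φ.obj F' ≅ F))
    (h3 : ∀ F' : ℬ, A' F' → IsIso (adj.unit.app ((singleFunctor ℬ 0).obj F')))
    (hA : ∀ V ∈ B, ∃ d : ℕ, ∀ T ∈ J V, ∃ (ι : Type c) (Yf : ι → C) (f : ∀ i, Yf i ⟶ V),
      (∀ i, T.arrows (f i)) ∧ Sieve.ofArrows Yf f ∈ J V ∧
      ∀ (i : ι) (F : 𝒜), A F → ∀ k : ℕ, d < k → Subsingleton (Abelian.Ext.{x} (T₁ (Yf i)) F k))
    (hH : ∀ V ∈ B', ∃ d : ℕ, ∀ T ∈ K V, ∃ (ι : Type c') (Yf : ι → D) (f : ∀ i, Yf i ⟶ V),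
      (∀ i, T.arrows (f i)) ∧ Sieve.ofArrows Yf f ∈ K V ∧
      ∀ (i : ι) (K' K'' : DerivedCategory 𝒜) (τ : K' ⟶ K''), WSerre.cohInPlus A K' →
        WSerre.cohInPlus A K'' → ∀ m : ℤ,
        (∀ q : ℤ, m - d - 1 ≤ q → q ≤ m + 1 → IsIso ((homologyFunctor 𝒜 q).map τ)) →
        Function.Bijective (Preadditive.rightComp (W (T₂ (Yf i)) 0) ((G.map τ)⟦m⟧')))
    (X : DerivedCategory 𝒜) (hX : WSerre.cohIn A X) :
    WSerre.cohIn A' (G.obj X) ∧ IsIso (adj.counit.app X) := by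
  letI := adj.rightAdjointCommShift ℤ
  haveI := adj.commShift_of_leftAdjoint ℤ
  haveI := adj.isTriangulated_rightAdjoint
  haveI : G.Additive := adj.right_adjoint_additive
  haveI : PreservesLimitsOfSize.{0, 0} G := adj.rightAdjoint_preservesLimits
  haveI : HasProduct (En X) := Groth.Agent.Helper9.LCProd1.hasProduct_nat _
  haveI : HasProduct (fun n => G.obj (En X n)) := Groth.Agent.Helper9.LCProd1.hasProduct_nat _
  obtain ⟨-, hplusX⟩ := Groth.Agent.Helper4.WSerreEq.equiv_plus Φ adj A A' h2a h2c h3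
  have hEn : ∀ n, WSerre.cohInPlus A (En X n) := cohInPlus_trunc A X hX
  have hGEn : ∀ n, WSerre.cohInPlus A' (G.obj (En X n)) := fun n => (hplusX _ (hEn n)).1
  have hεn : ∀ n, IsIso (adj.counit.app (En X n)) := fun n => (hplusX _ (hEn n)).2
  have hisos : ∀ (n : ℕ) (p : ℤ), -(n : ℤ) ≤ p → IsIso ((homologyFunctor 𝒜 p).map (sE X n)) :=
    fun n p hp => Groth.Agent.Helper9.LC4.isIso_homology_s X (En X) (sE X) (τE X) (τE_sE X)
      (fun n p hp => Groth.Agent.Helper9.LC2.isIso_homologyMap_truncGEπ X _ p hp) n p hp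
  have hR : CohCx.IsRlimVia (En X) (sE X) X (τE X) := by
    refine Groth.Agent.Helper4.RlimTrunc.isRlimVia_trunc hT₁ B hsep₁ X ?_
    intro V hV
    obtain ⟨d, hd⟩ := hA V hV
    refine ⟨fun _ => d, fun S hS => ?_⟩
    obtain ⟨ι, Yf, f, hfS, hcov, hY⟩ := hd S hS
    exact ⟨ι, Yf, f, hfS, hcov, fun i m k hk => hY i _ (hX _) k (by
      have hk' : (d : ℤ) < k := hk
      exact_mod_cast hk')⟩
  have hRG : CohCx.IsRlimVia (fun n => G.obj (En X n)) (fun n => G.map (sE X n)) (G.obj X)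
      (fun n => G.map (τE X n)) := Groth.Agent.Helper4.RlimMap.isRlimVia_map G hR
  -- stabilisation
  have hstab : ∀ (j : ℤ) (n : ℕ), (-j).toNat ≤ n →
      IsIso ((homologyFunctor ℬ j).map (G.map (τE X n))) := by
    intro j n hn
    refine Groth.Agent.Helper4.RlimStab.main' hT₂ B' hsep₂ (fun n => G.obj (En X n))
      (fun n => G.map (sE X n)) (G.obj X) (fun n => G.map (τE X n)) hRG j (-j).toNat ?_ ?_ n hn
    · intro n hn
      exact isIso_homology_G_map Φ adj A' h2b (sE X n) (hGEn _).1 (hGEn _).1 (hεn _) (hεn _) j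
        (hisos n j (by omega))
    · intro n V hV
      obtain ⟨d, hd⟩ := hH V hV
      refine ⟨(d + 2 - j).toNat, fun S hS => ?_⟩
      obtain ⟨ι, Yf, f, hfS, hcov, hY⟩ := hd S hS
      refine ⟨ι, Yf, f, hfS, hcov, fun i => ⟨fun n' hn' => ?_, fun n' hn' => ?_⟩⟩
      · exact hY i _ _ (sE X n') (hEn _) (hEn _) j (fun q h1 h2 => hisos n' q (by omega))
      · exact hY i _ _ (sE X n') (hEn _) (hEn _) (j - 1) (fun q h1 h2 => hisos n' q (by omega))
  constructor
  · intro j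
    haveI := hstab j (-j).toNat le_rfl
    exact A'.prop_of_iso (asIso ((homologyFunctor ℬ j).map (G.map (τE X (-j).toNat)))).symm
      ((hGEn _).1 j)
  · rw [DerivedCategory.isIso_iff]
    intro j
    let n := (-j).toNat
    have hn : Φ.mapDerivedCategory.map (G.map (τE X n)) ≫ adj.counit.app (En X n) =
        adj.counit.app X ≫ τE X n := adj.counit.naturality (τE X n)
    haveI h1 : IsIso ((homologyFunctor 𝒜 j).map (Φ.mapDerivedCategory.map (G.map (τE X n)))) :=
      Groth.Agent.Lead.PcLib.isIso_homology_mapDerivedCategory Φ j _ (hstab j n le_rfl)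
    haveI := hεn n
    haveI h3 : IsIso ((homologyFunctor 𝒜 j).map (τE X n)) :=
      Groth.Agent.Helper9.LC2.isIso_homologyMap_truncGEπ X _ j (by omega)
    have h4 : (homologyFunctor 𝒜 j).map (adj.counit.app X) =
        (homologyFunctor 𝒜 j).map (Φ.mapDerivedCategory.map (G.map (τE X n))) ≫
          (homologyFunctor 𝒜 j).map (adj.counit.app (En X n)) ≫
            inv ((homologyFunctor 𝒜 j).map (τE X n)) := by
      rw [← Functor.map_comp_assoc, hn, Functor.map_comp, Category.assoc, IsIso.hom_inv_id,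
        Category.comp_id]
    rw [h4]
    infer_instance

include adj in
/-- the unit part, from the counit part -/
theorem unit_part
    (h2a : ∀ F' : ℬ, A' F' → A (Φ.obj F'))
    (h2b : ∀ F' G' : ℬ, A' F' → A' G' → Function.Bijective (fun φ : F' ⟶ G' => Φ.map φ))
    (hcounit : ∀ X : DerivedCategory 𝒜, WSerre.cohIn A X →
      WSerre.cohIn A' (G.obj X) ∧ IsIso (adj.counit.app X))
    (Y : DerivedCategory ℬ) (hY : WSerre.cohIn A' Y) :
    WSerre.cohIn A (Φ.mapDerivedCategory.obj Y) ∧ IsIso (adj.unit.app Y) := by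
  have hΦY : WSerre.cohIn A (Φ.mapDerivedCategory.obj Y) := fun i =>
    A.prop_of_iso ((Groth.Agent.Lead.PcLib.mapDerivedCategoryHomologyIso Φ i).app Y).symm
      (h2a _ (hY i))
  refine ⟨hΦY, ?_⟩
  obtain ⟨hG, hε⟩ := hcounit _ hΦY
  have ht := adj.left_triangle_components Y
  haveI := hε
  haveI : IsIso (Φ.mapDerivedCategory.map (adj.unit.app Y) ≫
      adj.counit.app (Φ.mapDerivedCategory.obj Y)) := by
    rw [ht]; exact IsIso.id _
  have h1 : IsIso (Φ.mapDerivedCategory.map (adj.unit.app Y)) :=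
    IsIso.of_isIso_comp_right _ (adj.counit.app (Φ.mapDerivedCategory.obj Y))
  rw [DerivedCategory.isIso_iff]
  intro j
  apply isIso_of_isIso_map Φ A' h2b (hY j) (hG j)
  have h2 : IsIso ((homologyFunctor 𝒜 j).map (Φ.mapDerivedCategory.map (adj.unit.app Y))) :=
    inferInstance
  exact ((MorphismProperty.isomorphisms 𝒜).arrow_mk_iso_iff
    (Groth.Agent.Lead.PcLib.mapDerivedCategoryHomologyArrowIso Φ j (adj.unit.app Y))).mp h2

end Groth.Agent.Helper4.UnbEq
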