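import Mathlib
import Groth.Agent.Helper4.UnbEq
import Groth.Agent.Helper4.DimBij
import Groth.Agent.Helper4.AdjBij

/-! Unbounded equivalence `D_{A'} ≃ D_A`: the case where the images under `Φ` of the test objects
of the target have finite cohomological dimension relative to `A`. -/

set_option autoImplicit false
set_option linter.unusedSectionVars false
set_option linter.unusedVariables false
universe x w w' v v' u u' c c'

open CategoryTheory Limits Pretriangulated Triangulated DerivedCategory Opposite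

namespace Groth.Agent.Helper4.UnbEq

open Groth.Agent.Helper4.WSerreLib Groth.Agent.Helper9.LC6 Groth.Agent.Helper9.LC3

variable {𝒜 : Type u} [Category.{v} 𝒜] [Abelian 𝒜] [HasDerivedCategory.{w} 𝒜]
  {ℬ : Type u'} [Category.{v'} ℬ] [Abelian ℬ] [HasDerivedCategory.{w'} ℬ]
  (Φ : ℬ ⥤ 𝒜) [Φ.Additive] [PreservesFiniteLimits Φ] [PreservesFiniteColimits Φ]
  {G : DerivedCategory 𝒜 ⥤ DerivedCategory ℬ} (adj : Φ.mapDerivedCategory ⊣ G)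
  (A : ObjectProperty 𝒜) [WSerre.IsWeakSerre A] (A' : ObjectProperty ℬ) [WSerre.IsWeakSerre A']
  [IsGrothendieckAbelian.{v} 𝒜] [IsGrothendieckAbelian.{v'} ℬ] [HasExt.{x} 𝒜]
  {C : Type c} [SmallCategory C] {J : GrothendieckTopology C}
  {T₁ : C → 𝒜} {T₁map : ∀ {U V : C}, (V ⟶ U) → (T₁ V ⟶ T₁ U)}
  {D : Type c'} [SmallCategory D] {K : GrothendieckTopology D}
  {T₂ : D → ℬ} {T₂map : ∀ {U V : D}, (V ⟶ U) → (T₂ V ⟶ T₂ U)}

include adj in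
theorem main_of_ext_pull
    (hT₁ : Groth.Agent.Helper4.TestLoc.IsTest J T₁ T₁map) (B : Set C)
    (hsep₁ : ∀ {F F' : 𝒜} (f : F ⟶ F'), (∀ V ∈ B, ∀ s : T₁ V ⟶ F, s ≫ f = 0) → f = 0)
    (hT₂ : Groth.Agent.Helper4.TestLoc.IsTest K T₂ T₂map) (B' : Set D)
    (hsep₂ : ∀ {F F' : ℬ} (f : F ⟶ F'), (∀ V ∈ B', ∀ s : T₂ V ⟶ F, s ≫ f = 0) → f = 0)
    (h2a : ∀ F' : ℬ, A' F' → A (Φ.obj F'))
    (h2b : ∀ F' G' : ℬ, A' F' → A' G' → Function.Bijective (fun φ : F' ⟶ G' => Φ.map φ))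
    (h2c : ∀ F : 𝒜, A F → ∃ F' : ℬ, A' F' ∧ Nonempty (Φ.obj F' ≅ F))
    (h3 : ∀ F' : ℬ, A' F' → IsIso (adj.unit.app ((singleFunctor ℬ 0).obj F')))
    (hA : ∀ V ∈ B, ∃ d : ℕ, ∀ T ∈ J V, ∃ (ι : Type c) (Yf : ι → C) (f : ∀ i, Yf i ⟶ V),
      (∀ i, T.arrows (f i)) ∧ Sieve.ofArrows Yf f ∈ J V ∧
      ∀ (i : ι) (F : 𝒜), A F → ∀ k : ℕ, d < k → Subsingleton (Abelian.Ext.{x} (T₁ (Yf i)) F k))
    (hA' : ∀ V ∈ B', ∃ d : ℕ, ∀ T ∈ K V, ∃ (ι : Type c') (Yf : ι → D) (f : ∀ i, Yf i ⟶ V),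
      (∀ i, T.arrows (f i)) ∧ Sieve.ofArrows Yf f ∈ K V ∧
      ∀ (i : ι) (F : 𝒜), A F → ∀ k : ℕ, d < k →
        Subsingleton (Abelian.Ext.{x} (Φ.obj (T₂ (Yf i))) F k)) :
    (∀ Y : DerivedCategory ℬ, WSerre.cohIn A' Y →
      WSerre.cohIn A (Φ.mapDerivedCategory.obj Y) ∧ IsIso (adj.unit.app Y)) ∧
    (∀ X : DerivedCategory 𝒜, WSerre.cohIn A X →
      WSerre.cohIn A' (G.obj X) ∧ IsIso (adj.counit.app X)) := by
  have hcounit : ∀ X : DerivedCategory 𝒜, WSerre.cohIn A X →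
      WSerre.cohIn A' (G.obj X) ∧ IsIso (adj.counit.app X) := by
    refine counit_part Φ adj A A' hT₁ B hsep₁ hT₂ B' hsep₂ h2a h2b h2c h3 hA ?_
    intro V hV
    obtain ⟨d, hd⟩ := hA' V hV
    refine ⟨d, fun S hS => ?_⟩
    obtain ⟨ι, Yf, f, hfS, hcov, hY⟩ := hd S hS
    refine ⟨ι, Yf, f, hfS, hcov, fun i K' K'' τ hK' hK'' m hτ => ?_⟩
    exact Groth.Agent.Helper4.AdjBij.bijective_G_of_bijective Φ adj (T₂ (Yf i)) τ m
      (Groth.Agent.Helper4.DimBij.bijective_comp_of_isIso (Φ.obj (T₂ (Yf i))) d A (hY i) τ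
        hK' hK'' m hτ)
  exact ⟨unit_part Φ adj A A' h2a h2b hcounit, hcounit⟩

end Groth.Agent.Helper4.UnbEq
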