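import Mathlib
import Groth.Agent.Helper4.EpsMod
import Groth.Agent.Helper4.UnbEq3
import Groth.Agent.Helper4.MapDGE

/-! Comparison of two topologies, abstract form: `Φ ⊣ Ψ` with `Φ` exact and `Ψ` fully faithful,
a derived adjunction `Φ ⊣ G` with invertible counit, and a weak Serre subcategory `A` whose objects
are acyclic on a covering class. -/

set_option autoImplicit false
set_option linter.unusedSectionVars false
set_option linter.unusedVariables false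
universe x w w' v v' u u' c c'

open CategoryTheory Limits Pretriangulated Triangulated DerivedCategory Opposite ZeroObject

namespace Groth.Agent.Helper4.EpsDer

open Groth.Agent.Helper9.LC3 Groth.Agent.Helper4.HDUsec

variable {𝒜 : Type u} [Category.{v} 𝒜] [Abelian 𝒜] [HasDerivedCategory.{w} 𝒜]
  {ℬ : Type u'} [Category.{v'} ℬ] [Abelian ℬ] [HasDerivedCategory.{w'} ℬ]
  (Φ : ℬ ⥤ 𝒜) [Φ.Additive] [PreservesFiniteLimits Φ] [PreservesFiniteColimits Φ]
  {Ψ : 𝒜 ⥤ ℬ} (adj₀ : Φ ⊣ Ψ)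
  {G : DerivedCategory 𝒜 ⥤ DerivedCategory ℬ} (adj : Φ.mapDerivedCategory ⊣ G)

section

include adj in
/-- `Hom(Γ[0], (G K)⟦m⟧) ≃ Hom((ΦΓ)[0], K⟦m⟧)` -/
noncomputable def homEquivG (Γ : ℬ) (K : DerivedCategory 𝒜) (m : ℤ) :
    (W Γ 0 ⟶ (G.obj K)⟦m⟧) ≃ (W (Φ.obj Γ) 0 ⟶ K⟦m⟧) :=
  (shiftAddEquiv Γ (G.obj K) m).toEquiv.trans
    (((adj.homEquiv (W Γ m) K).symm.trans
      (Groth.Agent.Helper9.SpHyper.precompAddEquiv
        ((Φ.mapDerivedCategorySingleFunctor m).app Γ).symm K).toEquiv).trans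
      (shiftAddEquiv (Φ.obj Γ) K m).symm.toEquiv)

/-- `Φ` on morphisms `N[0] ⟶ (ΨF)[0]` is bijective when it is so on `N ⟶ ΨF` -/
lemma bijective_mapD (N : ℬ) (M : ℬ)
    (h : Function.Bijective (fun φ : N ⟶ M => Φ.map φ)) :
    Function.Bijective (fun y : (singleFunctor ℬ 0).obj N ⟶ (singleFunctor ℬ 0).obj M =>
      Φ.mapDerivedCategory.map y) := by
  let ν := Φ.mapDerivedCategorySingleFunctor 0
  have hnat : ∀ φ : N ⟶ M, Φ.mapDerivedCategory.map ((singleFunctor ℬ 0).map φ) =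
      ν.hom.app N ≫ (singleFunctor 𝒜 0).map (Φ.map φ) ≫ ν.inv.app M := by
    intro φ
    have := ν.hom.naturality φ
    simp only [Functor.comp_obj, Functor.comp_map] at this
    rw [← Category.assoc, ← this, Category.assoc, Iso.hom_inv_id_app]
    exact (Category.comp_id _).symm
  constructor
  · intro y₁ y₂ hy
    obtain ⟨φ₁, rfl⟩ := (singleFunctor ℬ 0).map_surjective y₁
    obtain ⟨φ₂, rfl⟩ := (singleFunctor ℬ 0).map_surjective y₂
    dsimp only at hy
    rw [hnat, hnat] at hy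
    have h1 : (singleFunctor 𝒜 0).map (Φ.map φ₁) = (singleFunctor 𝒜 0).map (Φ.map φ₂) := by
      have := congrArg (fun z => ν.inv.app N ≫ z ≫ ν.hom.app M) hy
      simpa using this
    rw [h.1 ((singleFunctor 𝒜 0).map_injective h1)]
  · intro z
    obtain ⟨ψ, hψ⟩ := (singleFunctor 𝒜 0).map_surjective (ν.inv.app N ≫ z ≫ ν.hom.app M)
    obtain ⟨φ, hφ⟩ := h.2 ψ
    dsimp only at hφ
    refine ⟨(singleFunctor ℬ 0).map φ, ?_⟩
    dsimp only
    rw [hnat, hφ, hψ]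
    simp

end

variable (A : ObjectProperty 𝒜)
  [IsGrothendieckAbelian.{v'} ℬ] [HasExt.{x} 𝒜]
  {D : Type c'} [SmallCategory D] {K : GrothendieckTopology D}
  {T₂ : D → ℬ} {T₂map : ∀ {U V : D}, (V ⟶ U) → (T₂ V ⟶ T₂ U)}

include adj₀ in
/-- `Ψ` is exact on short exact sequences with kernel in `A` -/
lemma epi_map_g (B' : Set D)
    (hsep₂ : ∀ {F F' : ℬ} (f : F ⟶ F'), (∀ V ∈ B', ∀ s : T₂ V ⟶ F, s ≫ f = 0) → f = 0)
    (hB'ext : ∀ V ∈ B', ∀ F : 𝒜, A F → Subsingleton (Abelian.Ext.{x} (Φ.obj (T₂ V)) F 1))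
    (S : ShortComplex 𝒜) (hS : S.ShortExact) (h₁ : A S.X₁) : Epi (Ψ.map S.g) := by
  apply Preadditive.epi_of_cancel_zero
  intro Q g hg
  apply hsep₂
  intro V hV s
  haveI := hB'ext V hV _ h₁
  obtain ⟨x₂, hx₂⟩ := Abelian.Ext.covariant_sequence_exact₃ (Φ.obj (T₂ V)) hS
    (Abelian.Ext.mk₀ ((adj₀.homEquiv _ _).symm s)) (rfl : 0 + 1 = 1) (Subsingleton.elim _ _)
  obtain ⟨s', rfl⟩ := (Abelian.Ext.mk₀_bijective _ _).2 x₂
  rw [Abelian.Ext.mk₀_comp_mk₀] at hx₂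
  have h2 : s' ≫ S.g = (adj₀.homEquiv _ _).symm s := (Abelian.Ext.mk₀_bijective _ _).1 hx₂
  have h3 : s = adj₀.homEquiv _ _ s' ≫ Ψ.map S.g := by
    rw [← Adjunction.homEquiv_naturality_right, h2, Equiv.apply_symm_apply]
  rw [h3, Category.assoc, hg, comp_zero]

include adj in
/-- higher cohomology of `G(F[0])` vanishes -/
lemma isZero_homology_G_single
    (hT₂ : Groth.Agent.Helper4.TestLoc.IsTest K T₂ T₂map) (B' : Set D)
    (hsep₂ : ∀ {F F' : ℬ} (f : F ⟶ F'), (∀ V ∈ B', ∀ s : T₂ V ⟶ F, s ≫ f = 0) → f = 0)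
    (hB'cov : ∀ (V : D), ∀ T ∈ K V, ∃ (ι : Type c') (Yf : ι → D) (f : ∀ i, Yf i ⟶ V),
      (∀ i, T.arrows (f i)) ∧ Sieve.ofArrows Yf f ∈ K V ∧ ∀ i, Yf i ∈ B')
    (hB'ext : ∀ V ∈ B', ∀ F : 𝒜, A F → ∀ k : ℕ, 0 < k →
      Subsingleton (Abelian.Ext.{x} (Φ.obj (T₂ V)) F k))
    (F : 𝒜) (hF : A F) (m : ℤ) (hm : 0 < m) :
    IsZero ((homologyFunctor ℬ m).obj (G.obj ((singleFunctor 𝒜 0).obj F))) := by
  obtain ⟨k, rfl⟩ : ∃ k : ℕ, m = (k : ℤ) := ⟨m.toNat, by omega⟩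
  have hk : 0 < k := by exact_mod_cast hm
  have hsub : ∀ V ∈ B', Subsingleton (W (T₂ V) 0 ⟶ (G.obj ((singleFunctor 𝒜 0).obj F))⟦(k : ℤ)⟧) := by
    intro V hV
    haveI : Subsingleton (W (Φ.obj (T₂ V)) 0 ⟶ ((singleFunctor 𝒜 0).obj F)⟦(k : ℤ)⟧) := by
      haveI := hB'ext V hV F hF k hk
      exact (Abelian.Ext.homEquiv (X := Φ.obj (T₂ V)) (Y := F) (n := k)).symm.subsingleton
    exact (homEquivG Φ adj (T₂ V) _ (k : ℤ)).subsingleton
  rw [IsZero.iff_id_eq_zero]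
  apply hsep₂
  intro V hV s
  rw [Category.comp_id]
  obtain ⟨Z₀, hZ₀⟩ : ∃ Z₀ : DerivedCategory ℬ, IsZero Z₀ := ⟨0, isZero_zero _⟩
  refine Groth.Agent.Helper4.TestLoc.hom_eq_zero_of_local hT₂ _ Z₀
    (0 : G.obj ((singleFunctor 𝒜 0).obj F) ⟶ Z₀) V (k : ℤ) ?_ s (by
      rw [Functor.map_zero, comp_zero])
  intro S hS
  obtain ⟨ι, Yf, f, hfS, hcov, hY⟩ := hB'cov V S hS
  refine ⟨ι, Yf, f, hfS, hcov, fun i y _ => ?_⟩
  haveI := hsub (Yf i) (hY i)
  exact Subsingleton.elim _ _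

variable [HasExt.{x} 𝒜]

include adj₀ adj in
/-- the unit is invertible on `(ΨF)[0]` when `G(F[0])` is concentrated in degree `0` -/
lemma isIso_unit_single
    (hε₀ : ∀ F : 𝒜, IsIso (adj₀.counit.app F))
    (F : 𝒜) (M : ℬ) (θ : G.obj ((singleFunctor 𝒜 0).obj F) ≅ (singleFunctor ℬ 0).obj M) :
    IsIso (adj.unit.app ((singleFunctor ℬ 0).obj (Ψ.obj F))) := by
  haveI := hε₀ F
  let Y := (singleFunctor ℬ 0).obj (Ψ.obj F)
  let X := (singleFunctor 𝒜 0).obj F
  let κ : Φ.mapDerivedCategory.obj Y ≅ X :=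
    (Φ.mapDerivedCategorySingleFunctor 0).app (Ψ.obj F) ≪≫
      (singleFunctor 𝒜 0).mapIso (asIso (adj₀.counit.app F))
  let u : Y ⟶ G.obj X := adj.unit.app Y ≫ G.map κ.hom
  have hu : ∀ N : ℬ, Function.Bijective
      (fun y : (singleFunctor ℬ 0).obj N ⟶ Y => y ≫ u) := by
    intro N
    have h1 : (fun y : (singleFunctor ℬ 0).obj N ⟶ Y => y ≫ u) =
        (adj.homEquiv _ X) ∘ (fun z => z ≫ κ.hom) ∘
          (fun y : (singleFunctor ℬ 0).obj N ⟶ Y => Φ.mapDerivedCategory.map y) := by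
      funext y
      simp only [Function.comp_apply, u]
      rw [Adjunction.homEquiv_unit, Functor.map_comp, ← Category.assoc, ← Category.assoc]
      congr 1
      exact (adj.unit.naturality y)
    rw [h1]
    refine (adj.homEquiv _ X).bijective.comp (Function.Bijective.comp ?_ ?_)
    · constructor
      · intro a b hab
        exact (cancel_mono κ.hom).1 hab
      · intro c
        exact ⟨c ≫ κ.inv, by simp⟩
    · exact bijective_mapD Φ N (Ψ.obj F)
        (Groth.Agent.Helper4.EpsMod.bijective_map Φ adj₀ N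
          (Groth.Agent.Helper4.EpsMod.isIso_unit_app_obj Φ adj₀ hε₀ F))
  obtain ⟨v, hv⟩ := (singleFunctor ℬ 0).map_surjective (u ≫ θ.hom)
  haveI : IsIso v := by
    rw [isIso_iff_yoneda_map_bijective]
    intro N
    constructor
    · intro a b hab
      dsimp only at hab
      have h2 := congrArg (fun z => (singleFunctor ℬ 0).map z ≫ θ.inv) hab
      simp only [Functor.map_comp, hv, Category.assoc, Iso.hom_inv_id, Category.comp_id] at h2
      exact (singleFunctor ℬ 0).map_injective ((hu N).1 h2)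
    · intro b
      obtain ⟨y, hy⟩ := (hu N).2 ((singleFunctor ℬ 0).map b ≫ θ.inv)
      dsimp only at hy
      obtain ⟨a, rfl⟩ := (singleFunctor ℬ 0).map_surjective y
      refine ⟨a, ?_⟩
      apply (singleFunctor ℬ 0).map_injective
      dsimp only
      rw [Functor.map_comp, hv, ← Category.assoc, hy, Category.assoc, Iso.inv_hom_id,
        Category.comp_id]
  haveI : IsIso u := by
    have : u = (singleFunctor ℬ 0).map v ≫ θ.inv := by
      rw [hv, Category.assoc, Iso.hom_inv_id, Category.comp_id]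
    rw [this]
    infer_instance
  have : adj.unit.app Y = u ≫ G.map κ.inv := by
    simp only [u, Category.assoc]
    rw [← Functor.map_comp, Iso.hom_inv_id, CategoryTheory.Functor.map_id]
    exact (Category.comp_id _).symm
  rw [this]
  infer_instance

end Groth.Agent.Helper4.EpsDer
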