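import Mathlib
import Groth.Prelude.Def_SiteCmp

set_option autoImplicit false
universe u
open CategoryTheory Limits Opposite

namespace Groth.Agent.Helper4.EpsFF

variable {C : Type u} [SmallCategory C] {J J' : GrothendieckTopology C} (h : J' ≤ J)
  (O : Sheaf J CommRingCat.{u})

noncomputable def under {M N : ModSite.Mod O}
    (g : (SiteCmp.eps h O).push.obj M ⟶ (SiteCmp.eps h O).push.obj N) :
    M.val.presheaf ⟶ N.val.presheaf :=
  (PresheafOfModules.toPresheaf _).map g.val

noncomputable def preimage {M N : ModSite.Mod O}
    (g : (SiteCmp.eps h O).push.obj M ⟶ (SiteCmp.eps h O).push.obj N) : M ⟶ N :=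
  ⟨PresheafOfModules.homMk (under h O g) (by
    intro X r m
    exact (g.val.app X).hom.map_smul r m)⟩

lemma map_preimage {M N : ModSite.Mod O}
    (g : (SiteCmp.eps h O).push.obj M ⟶ (SiteCmp.eps h O).push.obj N) :
    (SiteCmp.eps h O).push.map (preimage h O g) = g := by
  apply SheafOfModules.hom_ext
  apply PresheafOfModules.hom_ext
  intro X
  rfl

lemma preimage_map {M N : ModSite.Mod O} (f : M ⟶ N) :
    preimage h O ((SiteCmp.eps h O).push.map f) = f := by
  apply SheafOfModules.hom_ext
  apply PresheafOfModules.hom_ext
  intro X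
  rfl

noncomputable def fullyFaithful : (SiteCmp.eps h O).push.FullyFaithful where
  preimage g := preimage h O g
  map_preimage g := map_preimage h O g
  preimage_map f := preimage_map h O f

end Groth.Agent.Helper4.EpsFF
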