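import Mathlib
import Groth.Agent.Helper4.EpsDer
import Groth.Agent.Helper4.AdjWayOut

/-! Comparison of two topologies, abstract form: main statement. -/

set_option autoImplicit false
set_option linter.unusedSectionVars false
set_option linter.unusedVariables false
universe x w w' v v' u u' c c'

open CategoryTheory Limits Pretriangulated Triangulated DerivedCategory Opposite ZeroObject

namespace Groth.Agent.Helper4.EpsDer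

open Groth.Agent.Helper9.LC3 Groth.Agent.Helper4.HDUsec

variable {𝒜 : Type u} [Category.{v} 𝒜] [Abelian 𝒜] [HasDerivedCategory.{w} 𝒜]
  {ℬ : Type u'} [Category.{v'} ℬ] [Abelian ℬ] [HasDerivedCategory.{w'} ℬ]
  (Φ : ℬ ⥤ 𝒜) [Φ.Additive] [PreservesFiniteLimits Φ] [PreservesFiniteColimits Φ]
  {Ψ : 𝒜 ⥤ ℬ} (adj₀ : Φ ⊣ Ψ)
  {G : DerivedCategory 𝒜 ⥤ DerivedCategory ℬ} (adj : Φ.mapDerivedCategory ⊣ G)
  (A : ObjectProperty 𝒜) [WSerre.IsWeakSerre A]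
  [IsGrothendieckAbelian.{v} 𝒜] [IsGrothendieckAbelian.{v'} ℬ] [HasExt.{x} 𝒜]
  {C : Type c} [SmallCategory C] {J : GrothendieckTopology C}
  {T₁ : C → 𝒜} {T₁map : ∀ {U V : C}, (V ⟶ U) → (T₁ V ⟶ T₁ U)}
  {D : Type c'} [SmallCategory D] {K : GrothendieckTopology D}
  {T₂ : D → ℬ} {T₂map : ∀ {U V : D}, (V ⟶ U) → (T₂ V ⟶ T₂ U)}

include adj₀ adj in
theorem main
    (hε₀ : ∀ F : 𝒜, IsIso (adj₀.counit.app F))
    (hT₁ : Groth.Agent.Helper4.TestLoc.IsTest J T₁ T₁map) (B : Set C)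
    (hsep₁ : ∀ {F F' : 𝒜} (f : F ⟶ F'), (∀ V ∈ B, ∀ s : T₁ V ⟶ F, s ≫ f = 0) → f = 0)
    (hT₂ : Groth.Agent.Helper4.TestLoc.IsTest K T₂ T₂map) (B' : Set D)
    (hsep₂ : ∀ {F F' : ℬ} (f : F ⟶ F'), (∀ V ∈ B', ∀ s : T₂ V ⟶ F, s ≫ f = 0) → f = 0)
    (hBcov : ∀ (V : C), ∀ T ∈ J V, ∃ (ι : Type c) (Yf : ι → C) (f : ∀ i, Yf i ⟶ V),
      (∀ i, T.arrows (f i)) ∧ Sieve.ofArrows Yf f ∈ J V ∧ ∀ i, Yf i ∈ B)
    (hBext : ∀ V ∈ B, ∀ F : 𝒜, A F → ∀ k : ℕ, 0 < k →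
      Subsingleton (Abelian.Ext.{x} (T₁ V) F k))
    (hB'cov : ∀ (V : D), ∀ T ∈ K V, ∃ (ι : Type c') (Yf : ι → D) (f : ∀ i, Yf i ⟶ V),
      (∀ i, T.arrows (f i)) ∧ Sieve.ofArrows Yf f ∈ K V ∧ ∀ i, Yf i ∈ B')
    (hB'ext : ∀ V ∈ B', ∀ F : 𝒜, A F → ∀ k : ℕ, 0 < k →
      Subsingleton (Abelian.Ext.{x} (Φ.obj (T₂ V)) F k)) :
    WSerre.IsWeakSerre (A.map Ψ) ∧
    (∀ Y : DerivedCategory ℬ, WSerre.cohIn (A.map Ψ) Y →
      WSerre.cohIn A (Φ.mapDerivedCategory.obj Y) ∧ IsIso (adj.unit.app Y)) ∧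
    (∀ X : DerivedCategory 𝒜, WSerre.cohIn A X →
      WSerre.cohIn (A.map Ψ) (G.obj X) ∧ IsIso (adj.counit.app X)) := by
  have hE : ∀ S : ShortComplex 𝒜, S.ShortExact → A S.X₁ → Epi (Ψ.map S.g) :=
    epi_map_g Φ adj₀ A B' hsep₂ (fun V hV F hF => hB'ext V hV F hF 1 Nat.one_pos)
  haveI hWS : WSerre.IsWeakSerre (A.map Ψ) :=
    Groth.Agent.Helper4.EpsMod.isWeakSerre_map Φ adj₀ hε₀ A hE
  refine ⟨hWS, ?_⟩
  have hFle : ∀ (Z : DerivedCategory ℬ) (b : ℤ), Z.IsLE b → (Φ.mapDerivedCategory.obj Z).IsLE b :=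
    fun Z b hZ => by haveI := hZ; exact Groth.Agent.Helper4.MapDGE.isLE_mapD Φ Z b
  -- `G(F[0])` is concentrated in degree `0`
  have hconc : ∀ F : 𝒜, A F → ∃ M : ℬ,
      Nonempty (G.obj ((singleFunctor 𝒜 0).obj F) ≅ (singleFunctor ℬ 0).obj M) := by
    intro F hF
    haveI : (G.obj ((singleFunctor 𝒜 0).obj F)).IsGE 0 :=
      Groth.Agent.Helper4.AdjWayOut.isGE_rightAdjoint adj hFle _ 0 inferInstance
    haveI : (G.obj ((singleFunctor 𝒜 0).obj F)).IsLE 0 := by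
      rw [DerivedCategory.isLE_iff]
      intro i hi
      exact isZero_homology_G_single Φ adj A hT₂ B' hsep₂ hB'cov hB'ext F hF i hi
    obtain ⟨M, ⟨e⟩, -⟩ := Groth.Agent.Helper9.LC2.exists_iso_single
      (G.obj ((singleFunctor 𝒜 0).obj F)) 0
    exact ⟨M, ⟨e⟩⟩
  refine Groth.Agent.Helper4.UnbEq.main_of_ext_pull Φ adj A (A.map Ψ) hT₁ B hsep₁ hT₂ B' hsep₂
    ?_ ?_ ?_ ?_ ?_ ?_
  · -- h2a
    rintro F' ⟨F, hF, ⟨e⟩⟩
    haveI := hε₀ F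
    exact A.prop_of_iso (Φ.mapIso e.symm ≪≫ asIso (adj₀.counit.app F)).symm hF
  · -- h2b
    rintro F' G' hF' ⟨F, hF, ⟨e⟩⟩
    exact Groth.Agent.Helper4.EpsMod.bijective_map Φ adj₀ F'
      (Groth.Agent.Helper4.EpsMod.isIso_unit_app_of_iso Φ adj₀ hε₀ e)
  · -- h2c
    intro F hF
    haveI := hε₀ F
    exact ⟨Ψ.obj F, ⟨F, hF, ⟨Iso.refl _⟩⟩, ⟨asIso (adj₀.counit.app F)⟩⟩
  · -- h3
    rintro F' ⟨F, hF, ⟨e⟩⟩
    obtain ⟨M, ⟨θ⟩⟩ := hconc F hF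
    haveI := isIso_unit_single Φ adj₀ adj hε₀ F M θ
    have hn := adj.unit.naturality ((singleFunctor ℬ 0).map e.hom)
    simp only [Functor.id_obj, Functor.id_map, Functor.comp_obj, Functor.comp_map] at hn
    have h : adj.unit.app ((singleFunctor ℬ 0).obj F') =
        (singleFunctor ℬ 0).map e.inv ≫ adj.unit.app ((singleFunctor ℬ 0).obj (Ψ.obj F)) ≫
          G.map (Φ.mapDerivedCategory.map ((singleFunctor ℬ 0).map e.hom)) := by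
      rw [← hn, ← Category.assoc, ← Functor.map_comp, Iso.inv_hom_id,
        CategoryTheory.Functor.map_id]
      exact (Category.id_comp _).symm
    rw [h]
    infer_instance
  · -- hA
    intro V hV
    refine ⟨0, fun S hS => ?_⟩
    obtain ⟨ι, Yf, f, hfS, hcov, hY⟩ := hBcov V S hS
    exact ⟨ι, Yf, f, hfS, hcov, fun i F hF k hk => hBext _ (hY i) F hF k hk⟩
  · -- hA'
    intro V hV
    refine ⟨0, fun S hS => ?_⟩
    obtain ⟨ι, Yf, f, hfS, hcov, hY⟩ := hB'cov V S hS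
    exact ⟨ι, Yf, f, hfS, hcov, fun i F hF k hk => hB'ext _ (hY i) F hF k hk⟩

end Groth.Agent.Helper4.EpsDer
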