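import Mathlib

/-!
# A local, essentially finite type algebra with zero-dimensional closed fibre and finite residue
field extension is the localization of a finite algebra
-/

set_option autoImplicit false

namespace Groth.Agent.Helper4.EssLocFinite

open IsLocalRing

universe u

theorem finite_quot (R S : Type u) [CommRing R] [CommRing S]
    [IsLocalRing R] [IsLocalRing S] [Algebra R S] [IsLocalHom (algebraMap R S)]
    [Algebra.EssFiniteType R S]
    (hres : Module.Finite (IsLocalRing.ResidueField R) (IsLocalRing.ResidueField S))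
    (hdim : ringKrullDim (S ⧸ (IsLocalRing.maximalIdeal R).map (algebraMap R S)) = 0) :
    Module.Finite R (S ⧸ (IsLocalRing.maximalIdeal R).map (algebraMap R S)) := by
  set A := S ⧸ (IsLocalRing.maximalIdeal R).map (algebraMap R S) with hA
  haveI : Nontrivial A := by
    by_contra h
    rw [not_nontrivial_iff_subsingleton] at h
    rw [ringKrullDim_eq_bot_of_subsingleton] at hdim
    exact absurd hdim (by decide)
  haveI : IsLocalRing A :=
    IsLocalRing.of_surjective' (Ideal.Quotient.mk _) Ideal.Quotient.mk_surjective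
  haveI : Ring.KrullDimLE 0 A := by
    rw [Ring.krullDimLE_iff]
    exact le_of_eq hdim
  haveI : IsNoetherianRing (R ⧸ maximalIdeal R) := by
    letI : Field (R ⧸ maximalIdeal R) := Ideal.Quotient.field _
    infer_instance
  haveI : IsNoetherianRing A := Algebra.EssFiniteType.isNoetherianRing (R ⧸ maximalIdeal R) A
  haveI : Module.Finite R (ResidueField R) :=
    Module.Finite.of_surjective (Algebra.linearMap R (ResidueField R))
      IsLocalRing.residue_surjective
  haveI : Module.Finite R (ResidueField S) := Module.Finite.trans (ResidueField R) (ResidueField S)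
  let f : A →ₐ[R] ResidueField S :=
    Ideal.Quotient.liftₐ _ (IsScalarTower.toAlgHom R S (ResidueField S)) (by
      intro a ha
      have hle : (maximalIdeal R).map (algebraMap R S) ≤ maximalIdeal S :=
        ((local_hom_TFAE (algebraMap R S)).out 0 2).mp ‹_›
      exact (IsLocalRing.residue_eq_zero_iff a).mpr (hle ha))
  have hf : Function.Surjective f := by
    intro x
    obtain ⟨s, rfl⟩ := IsLocalRing.residue_surjective x
    exact ⟨Ideal.Quotient.mk _ s, rfl⟩
  refine Module.finite_of_surjective_of_ker_le_nilradical f hf ?_ (IsNoetherian.noetherian _)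
  rw [Ring.KrullDimLE.nilradical_eq_maximalIdeal]
  apply IsLocalRing.le_maximalIdeal
  intro h
  have : (1 : A) ∈ RingHom.ker f := h ▸ Submodule.mem_top
  rw [RingHom.mem_ker, map_one] at this
  exact one_ne_zero this

theorem main (R S : Type u) [CommRing R] [CommRing S]
    [IsLocalRing R] [IsLocalRing S] [Algebra R S] [IsLocalHom (algebraMap R S)]
    [Algebra.EssFiniteType R S]
    (hres : Module.Finite (IsLocalRing.ResidueField R) (IsLocalRing.ResidueField S))
    (hdim : ringKrullDim (S ⧸ (IsLocalRing.maximalIdeal R).map (algebraMap R S)) = 0) :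
    ∃ (S' : Type u) (_ : CommRing S') (_ : Algebra R S') (_ : Algebra S' S)
      (_ : IsScalarTower R S' S)
      (q : Ideal S') (_ : q.IsPrime), Module.Finite R S' ∧ IsLocalization.AtPrime S q := by
  classical
  have hfin := finite_quot R S hres hdim
  let T := Algebra.EssFiniteType.subalgebra R S
  let M := Algebra.EssFiniteType.submonoid R S
  haveI hloc : IsLocalization M S := Algebra.EssFiniteType.isLocalization R S
  let q₀ : Ideal T := (maximalIdeal S).comap (algebraMap T S)
  haveI : q₀.IsPrime := Ideal.comap_isPrime _ _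
  have hM : M = q₀.primeCompl := by
    ext x
    show IsUnit (algebraMap T S x) ↔ x ∉ q₀
    rw [Ideal.mem_comap, mem_maximalIdeal, mem_nonunits_iff, not_not]
  haveI hloc' : IsLocalization.AtPrime S q₀ := by
    show IsLocalization q₀.primeCompl S
    rw [← hM]
    exact hloc
  have hunder : q₀.under R = maximalIdeal R := by
    show (q₀.comap (algebraMap R T)) = _
    rw [Ideal.comap_comap, ← IsScalarTower.algebraMap_eq]
    exact ((local_hom_TFAE (algebraMap R S)).out 0 4).mp ‹_›
  haveI : Algebra.WeaklyQuasiFiniteAt R q₀ := by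
    rw [Algebra.weaklyQuasiFiniteAt_iff]
    let e : S ≃ₐ[T] Localization.AtPrime q₀ :=
      IsLocalization.algEquiv q₀.primeCompl S (Localization.AtPrime q₀)
    let g : S →ₐ[R] Localization.AtPrime q₀ ⧸
        (q₀.under R).map (algebraMap R (Localization.AtPrime q₀)) :=
      (Ideal.Quotient.mkₐ R _).comp (e.restrictScalars R).toAlgHom
    have hg : Function.Surjective g :=
      Ideal.Quotient.mk_surjective.comp (e.restrictScalars R).surjective
    let g' : (S ⧸ (IsLocalRing.maximalIdeal R).map (algebraMap R S)) →ₐ[R]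
        Localization.AtPrime q₀ ⧸ (q₀.under R).map (algebraMap R (Localization.AtPrime q₀)) :=
      Ideal.Quotient.liftₐ _ g (by
        intro a ha
        have : (maximalIdeal R).map (algebraMap R S) ≤ RingHom.ker g.toRingHom := by
          rw [Ideal.map_le_iff_le_comap]
          intro r hr
          rw [Ideal.mem_comap, RingHom.mem_ker]
          show g (algebraMap R S r) = 0
          rw [AlgHom.commutes]
          show Ideal.Quotient.mk _ (algebraMap R (Localization.AtPrime q₀) r) = 0
          rw [Ideal.Quotient.eq_zero_iff_mem]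
          exact Ideal.mem_map_of_mem _ (hunder ▸ hr)
        exact this ha)
    have hg' : Function.Surjective g' := by
      intro x
      obtain ⟨s, rfl⟩ := hg x
      exact ⟨Ideal.Quotient.mk _ s, rfl⟩
    haveI : Module.Finite R (Localization.AtPrime q₀ ⧸
        (q₀.under R).map (algebraMap R (Localization.AtPrime q₀))) :=
      Module.Finite.of_surjective g'.toLinearMap hg'
    infer_instance
  obtain ⟨S', hS', r, hr, hbij⟩ :=
    Algebra.QuasiFiniteAt.exists_fg_and_exists_notMem_and_awayMap_bijective (R := R) q₀
  have hsurj := (Localization.awayMap_surjective_iff).mp hbij.2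
  haveI : Module.Finite R S' := ⟨(Submodule.fg_top _).mpr hS'⟩
  let q : Ideal S' := q₀.comap (algebraMap S' T)
  haveI : q.IsPrime := Ideal.comap_isPrime _ _
  refine ⟨S', inferInstance, inferInstance, inferInstance, inferInstance, q, inferInstance,
    inferInstance, ?_⟩
  show IsLocalization q.primeCompl S
  have hrq : (r : T) ∉ q₀ := hr
  have hcoe : ∀ x : S', algebraMap S' S x = algebraMap T S (x : T) := fun _ => rfl
  have hsurj' : ∀ t : T, ∃ (b : S') (m : ℕ), (b : T) = (r : T) ^ m * t := by
    intro t
    obtain ⟨b, m, hb⟩ := hsurj t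
    exact ⟨b, m, hb⟩
  rw [isLocalization_iff]
  refine ⟨?_, ?_, ?_⟩
  · rintro ⟨y, hy⟩
    have h1 : algebraMap T S (y : T) ∉ maximalIdeal S := hy
    rw [mem_maximalIdeal, mem_nonunits_iff, not_not] at h1
    exact h1
  · intro z
    obtain ⟨⟨t, ⟨u, hu⟩⟩, htu⟩ := IsLocalization.surj q₀.primeCompl z
    obtain ⟨a, n, ha⟩ := hsurj' t
    obtain ⟨b, m, hb⟩ := hsurj' u
    have hbq : b * r ^ n ∈ q.primeCompl := by
      show ((b * r ^ n : S') : T) ∉ q₀
      push_cast
      rw [hb]
      intro hmem
      rcases Ideal.IsPrime.mem_or_mem ‹q₀.IsPrime› hmem with h | h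
      · rcases Ideal.IsPrime.mem_or_mem ‹q₀.IsPrime› h with h | h
        · exact hrq (Ideal.IsPrime.mem_of_pow_mem ‹q₀.IsPrime› _ h)
        · exact hu h
      · exact hrq (Ideal.IsPrime.mem_of_pow_mem ‹q₀.IsPrime› _ h)
    refine ⟨(a * r ^ m, ⟨b * r ^ n, hbq⟩), ?_⟩
    simp only [hcoe]
    push_cast
    rw [ha, hb]
    simp only [map_mul, map_pow]
    simp only at htu
    rw [← htu]
    ring
  · intro x y hxy
    rw [hcoe, hcoe] at hxy
    obtain ⟨⟨u, hu⟩, huxy⟩ := (IsLocalization.eq_iff_exists q₀.primeCompl S).mp hxy
    obtain ⟨b, m, hb⟩ := hsurj' u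
    have hbq : b ∈ q.primeCompl := by
      show (b : T) ∉ q₀
      rw [hb]
      intro hmem
      rcases Ideal.IsPrime.mem_or_mem ‹q₀.IsPrime› hmem with h | h
      · exact hrq (Ideal.IsPrime.mem_of_pow_mem ‹q₀.IsPrime› _ h)
      · exact hu h
    refine ⟨⟨b, hbq⟩, ?_⟩
    apply Subtype.ext
    push_cast
    simp only at huxy
    rw [hb, mul_assoc, huxy, mul_assoc]

end Groth.Agent.Helper4.EssLocFinite
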