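import Mathlib
import Groth.Agent.Helper4.ExtShiftR

/-! Vanishing of `Ext^n(A, R G)` for `G` in a class of objects stable under cokernels of
injective hulls, on which `R` and `Hom(A, R -)` are exact (dimension shifting). -/

set_option autoImplicit false
universe w u u' v v'

open CategoryTheory CategoryTheory.Limits Abelian

namespace Groth.Agent.Helper4.ExtShiftC

open Groth.Agent.Helper9.ExtNat Groth.Agent.Helper4.ExtShiftR

variable {𝒜 : Type u} [Category.{v} 𝒜] [Abelian 𝒜] [HasExt.{w} 𝒜]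
  {ℬ : Type u'} [Category.{v'} ℬ] [Abelian ℬ] [EnoughInjectives ℬ]

theorem main (𝒞 : ℬ → Prop) (R : ℬ ⥤ 𝒜) [R.Additive]
    (hQ : ∀ G, 𝒞 G → 𝒞 (sc G).X₃)
    (hR : ∀ G, 𝒞 G → ((sc G).map R).ShortExact)
    (hinj : ∀ (I : ℬ), Injective I → Injective (R.obj I)) (A : 𝒜)
    (h1 : ∀ G, 𝒞 G → ∀ y : A ⟶ R.obj (sc G).X₃,
      ∃ z : A ⟶ R.obj (sc G).X₂, z ≫ R.map (sc G).g = y) :
    ∀ (n : ℕ) (G : ℬ), 𝒞 G → ∀ x : Ext.{w} A (R.obj G) (n + 1), x = 0 := by
  intro n
  induction n with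
  | zero =>
    intro G hG x
    have hS' := hR G hG
    haveI : Injective ((sc G).map R).X₂ := hinj _ inferInstance
    refine eq_zero_of_shift _ hS' 0 x (fun y => ?_)
    obtain ⟨y₀, rfl⟩ := (Ext.mk₀_bijective _ _).2 y
    obtain ⟨z, hz⟩ := h1 G hG y₀
    exact comp_extClass_eq_zero _ hS' z y₀ hz
  | succ n ih =>
    intro G hG x
    have hS' := hR G hG
    haveI : Injective ((sc G).map R).X₂ := hinj _ inferInstance
    refine eq_zero_of_shift _ hS' (n + 1) x (fun y => ?_)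
    have hy0 : y = 0 := ih _ (hQ G hG) y
    rw [hy0, Ext.zero_comp]

end Groth.Agent.Helper4.ExtShiftC
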