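import Mathlib
import Groth.Agent.Helper4.EtSecPullEt
import Groth.Agent.Helper4.ExtShiftC
import Groth.Agent.Helper9.EtPushInj

/-! Abelian étale sheaves acyclic on every étale scheme over the base ("flasque"): direct images
are again such. -/

set_option autoImplicit false
universe u

open CategoryTheory CategoryTheory.Limits AlgebraicGeometry Opposite CategoryTheory.Abelian

namespace Groth.Agent.Helper4.EtFlasque

open Groth.Agent.Helper9.ExtNat

/-- acyclic on every étale scheme over the base -/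
def Flasque {X : Scheme.{u}} (F : EtCoh.Ab X) : Prop :=
  ∀ (W : X.Etale) (q : ℕ), 0 < q →
    Subsingleton (EtCoh.H W.left ((EtCoh.pull W.hom).obj F) q)

section

variable {U X : Scheme.{u}} (j : U ⟶ X) [Etale j]

instance : PreservesFiniteColimits (EtCoh.pull j) :=
  ⟨fun K _ _ => (EtCoh.pullPushAdj j).leftAdjoint_preservesColimits.1⟩

instance : (EtCoh.pull j).Additive := (EtCoh.pullPushAdj j).left_adjoint_additive

lemma H_cokernel_eq_zero (G : EtCoh.Ab X) (q : ℕ)
    (h : ∀ x : EtCoh.H U ((EtCoh.pull j).obj G) (q + 1 + 1), x = 0)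
    (x : EtCoh.H U ((EtCoh.pull j).obj (sc G).X₃) (q + 1)) : x = 0 := by
  have hS' : ((sc G).map (EtCoh.pull j)).ShortExact := (sc_shortExact G).map_of_exact _
  haveI : Injective ((sc G).map (EtCoh.pull j)).X₂ :=
    Groth.Agent.Helper9.EtPushInj.injective_pull_of_etale j (Injective.under G)
  obtain ⟨x₂, hx₂⟩ := Ext.covariant_sequence_exact₃ _ hS' x rfl (h _)
  have h2 : x₂ = 0 := Ext.eq_zero_of_injective _
  subst h2
  exact hx₂.symm.trans (Ext.zero_comp _ _ _ _ _)

end

variable {X : Scheme.{u}}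

lemma flasque_sc (G : EtCoh.Ab X) (hG : Flasque G) : Flasque (sc G).X₃ := by
  intro W q hq
  obtain ⟨n, rfl⟩ : ∃ n, q = n + 1 := ⟨q - 1, by omega⟩
  haveI : Etale (W.hom : W.left ⟶ X) := W.prop
  have h := @H_cokernel_eq_zero W.left X W.hom _ G n
    (fun x => (hG W (n + 1 + 1) (Nat.succ_pos _)).elim _ _)
  exact ⟨fun a b => (h a).trans (h b).symm⟩

variable {Y : Scheme.{u}} (f : X ⟶ Y)

/-- the direct image is exact on the canonical injective hull sequence of a flasque sheaf -/
lemma shortExact_push (G : EtCoh.Ab X) (hG : Flasque G) :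
    ((sc G).map (EtCoh.push f)).ShortExact := by
  have hS := sc_shortExact G
  haveI := hS.mono_f
  haveI : PreservesFiniteLimits (EtCoh.push f) :=
    ⟨fun K _ _ => (EtCoh.pullPushAdj f).rightAdjoint_preservesLimits.1⟩
  haveI : Mono ((EtCoh.push f).map (sc G).f) := inferInstance
  haveI : Sheaf.IsLocallySurjective ((EtCoh.push f).map (sc G).g) :=
    Presheaf.isLocallySurjective_of_surjective _ _ (fun V =>
      Groth.Agent.Helper4.EtSecPullEt.surj_of_H1 ((EtCoh.bc f).obj V.unop) (sc G) hS
        (fun x => (hG _ 1 Nat.one_pos).elim _ _))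
  haveI : Epi ((EtCoh.push f).map (sc G).g) :=
    (Sheaf.isLocallySurjective_iff_epi' (φ := (EtCoh.push f).map (sc G).g)).1 inferInstance
  exact
    { exact := hS.exact.map_of_mono_of_preservesKernel (EtCoh.push f) inferInstance inferInstance
      mono_f := inferInstanceAs (Mono ((EtCoh.push f).map (sc G).f))
      epi_g := inferInstanceAs (Epi ((EtCoh.push f).map (sc G).g)) }

variable {U : Scheme.{u}} (j : U ⟶ Y) [Etale j]

/-- the restriction to an étale `Y`-scheme of the direct image of a flasque sheaf is acyclic -/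
theorem main (F : EtCoh.Ab X) (hF : Flasque F) (n : ℕ)
    (x : EtCoh.H U ((EtShriek.restrAlong j).obj ((EtCoh.push f).obj F)) (n + 1)) : x = 0 := by
  refine Groth.Agent.Helper4.ExtShiftC.main Flasque (EtCoh.push f ⋙ EtShriek.restrAlong j)
    flasque_sc ?_ ?_ _ ?_ n F hF x
  · intro G hG
    exact (shortExact_push f G hG).map_of_exact (EtShriek.restrAlong j)
  · intro I hI
    haveI := Groth.Agent.Helper9.EtPushInj.injective_push f I
    exact Groth.Agent.Helper9.EtPushInj.injective_restrAlong j ((EtCoh.push f).obj I)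
  · intro G hG y
    have hS := sc_shortExact G
    obtain ⟨z', hz'⟩ := Groth.Agent.Helper4.EtSecPullEt.surj_of_H1
      ((EtCoh.bc f).obj ((EtShriek.compEtale j).obj (EtCoh.top U))) (sc G) hS
      (fun x => (hG _ 1 Nat.one_pos).elim _ _)
      (Sheaf.H.equiv₀ ((EtCoh.push f ⋙ EtShriek.restrAlong j).obj (sc G).X₃)
        (EtCore.topIsTerminal U) (Ext.mk₀ y))
    obtain ⟨z, hz⟩ := (Ext.mk₀_bijective _ _).2
      ((Sheaf.H.equiv₀ ((EtCoh.push f ⋙ EtShriek.restrAlong j).obj (sc G).X₂)
        (EtCore.topIsTerminal U)).symm z')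
    refine ⟨z, ?_⟩
    apply (Ext.mk₀_bijective _ _).1
    apply (Sheaf.H.equiv₀ ((EtCoh.push f ⋙ EtShriek.restrAlong j).obj (sc G).X₃)
      (EtCore.topIsTerminal U)).injective
    rw [← hz', ← Ext.mk₀_comp_mk₀, hz]
    have h1 := Sheaf.H.equiv₀_naturality (hT := EtCore.topIsTerminal U)
      ((EtCoh.push f ⋙ EtShriek.restrAlong j).map (sc G).g)
      ((Sheaf.H.equiv₀ ((EtCoh.push f ⋙ EtShriek.restrAlong j).obj (sc G).X₂)
        (EtCore.topIsTerminal U)).symm z')
    rw [AddEquiv.apply_symm_apply] at h1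
    exact h1.symm

end Groth.Agent.Helper4.EtFlasque
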