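import Mathlib

/-! Gluing two copies of a scheme along an open subscheme. -/

set_option autoImplicit false
universe u

open CategoryTheory CategoryTheory.Limits AlgebraicGeometry Opposite

namespace Groth.Agent.Helper4.EtGlueDouble

variable {A B X : Scheme.{u}} (g : A ⟶ B) [IsOpenImmersion g]

instance spanInst : ∀ {i j : WalkingSpan} (f : i ⟶ j), IsOpenImmersion ((span g g).map f) := by
  intro i j f
  rcases f with _ | k
  · show IsOpenImmersion ((span g g).map (𝟙 _))
    rw [CategoryTheory.Functor.map_id]
    infer_instance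
  · cases k
    · show IsOpenImmersion g
      infer_instance
    · show IsOpenImmersion g
      infer_instance

/-- the glued scheme -/
noncomputable abbrev P : Scheme.{u} := pushout g g

/-- first copy -/
noncomputable abbrev inl : B ⟶ P g := pushout.inl g g

/-- second copy -/
noncomputable abbrev inr : B ⟶ P g := pushout.inr g g

instance : IsOpenImmersion (inl g) :=
  inferInstanceAs (IsOpenImmersion (colimit.ι (span g g) WalkingSpan.left))

instance : IsOpenImmersion (inr g) :=
  inferInstanceAs (IsOpenImmersion (colimit.ι (span g g) WalkingSpan.right))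

lemma condition : g ≫ inl g = g ≫ inr g := pushout.condition

lemma jointly_surj (x : P g) : (∃ y, inl g y = x) ∨ (∃ y, inr g y = x) := by
  obtain ⟨i, xi, hxi⟩ := Scheme.IsLocallyDirected.ι_jointly_surjective (span g g) x
  rcases i with _ | k
  · left
    refine ⟨g xi, ?_⟩
    rw [← hxi, ← Scheme.Hom.comp_apply]
    have : g ≫ inl g = colimit.ι (span g g) WalkingSpan.zero :=
      colimit.w (span g g) WalkingSpan.Hom.fst
    rw [this]
    rfl
  · cases k
    · exact Or.inl ⟨xi, hxi⟩
    · exact Or.inr ⟨xi, hxi⟩

lemma mem_range_of_eq {y₁ y₂ : B} (h : inl g y₁ = inr g y₂) :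
    y₁ ∈ Set.range g ∧ y₂ ∈ Set.range g := by
  obtain ⟨k, fi, fj, x, hx1, hx2⟩ :=
    (Scheme.IsLocallyDirected.ι_eq_ι_iff (F := span g g) (i := WalkingSpan.left)
      (j := WalkingSpan.right) (xi := y₁) (xj := y₂)).1 h
  rcases k with _ | k
  · have h1 : (span g g).map fi = g := by
      rcases fi with _ | k'
      rfl
    have h2 : (span g g).map fj = g := by
      rcases fj with _ | k'
      rfl
    rw [h1] at hx1
    rw [h2] at hx2
    exact ⟨⟨x, hx1⟩, ⟨x, hx2⟩⟩
  · cases k
    · have fj' : WidePushoutShape.Hom (some WalkingPair.left) (some WalkingPair.right) := fj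
      cases fj'
    · have fi' : WidePushoutShape.Hom (some WalkingPair.right) (some WalkingPair.left) := fi
      cases fi'

/-- two morphisms to the two copies which agree in the glued scheme factor through the open
subscheme, by the same morphism -/
lemma lift_of_eq {Z : Scheme.{u}} (p₁ p₂ : Z ⟶ B) (h : p₁ ≫ inl g = p₂ ≫ inr g) :
    ∃ z : Z ⟶ A, z ≫ g = p₁ ∧ z ≫ g = p₂ := by
  have hz : ∀ z : Z, p₁ z ∈ Set.range g ∧ p₂ z ∈ Set.range g := by
    intro z
    apply mem_range_of_eq g
    have := congrArg (fun φ : Z ⟶ P g => φ z) h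
    simpa only [Scheme.Hom.comp_apply] using this
  have h1 : Set.range p₁ ⊆ Set.range g := by
    rintro _ ⟨z, rfl⟩
    exact (hz z).1
  have h2 : Set.range p₂ ⊆ Set.range g := by
    rintro _ ⟨z, rfl⟩
    exact (hz z).2
  refine ⟨IsOpenImmersion.lift g p₁ h1, IsOpenImmersion.lift_fac _ _ _, ?_⟩
  have e : IsOpenImmersion.lift g p₁ h1 = IsOpenImmersion.lift g p₂ h2 := by
    apply (cancel_mono (g ≫ inl g)).1
    rw [← Category.assoc, IsOpenImmersion.lift_fac, h, condition g, ← Category.assoc,
      IsOpenImmersion.lift_fac]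
  rw [e]
  exact IsOpenImmersion.lift_fac _ _ _

variable (b : B ⟶ X)

/-- the structure morphism of the glued scheme -/
noncomputable def str : P g ⟶ X := pushout.desc b b rfl

@[reassoc (attr := simp)]
lemma inl_str : inl g ≫ str g b = b := pushout.inl_desc _ _ _

@[reassoc (attr := simp)]
lemma inr_str : inr g ≫ str g b = b := pushout.inr_desc _ _ _

instance [Etale b] : Etale (str g b) := by
  rw [IsZariskiLocalAtSource.iff_of_openCover (P := @Etale)
    (Scheme.IsLocallyDirected.openCover (span g g))]
  intro i
  rcases i with _ | k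
  · have h1 : g ≫ inl g = colimit.ι (span g g) WalkingSpan.zero :=
      colimit.w (span g g) WalkingSpan.Hom.fst
    have h2 : colimit.ι (span g g) WalkingSpan.zero ≫ str g b = g ≫ b := by
      rw [← h1]
      show (g ≫ inl g) ≫ str g b = g ≫ b
      rw [Category.assoc, inl_str]
    have e : Etale (g ≫ b : A ⟶ X) := inferInstance
    show Etale (colimit.ι (span g g) WalkingSpan.zero ≫ str g b)
    rw [h2]
    exact e
  · cases k
    · show Etale (inl g ≫ str g b)
      rw [inl_str]
      infer_instance
    · show Etale (inr g ≫ str g b)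
      rw [inr_str]
      infer_instance

end Groth.Agent.Helper4.EtGlueDouble
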