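import Mathlib

/-! Sections of an injective abelian presheaf are divisible groups. -/

set_option autoImplicit false
universe w v u

open CategoryTheory CategoryTheory.Limits Opposite

namespace Groth.Agent.Helper4.InjDiv

variable {C : Type u} [Category.{v} C]

/-- the free abelian presheaf on the representable presheaf of `U` -/
noncomputable def Zf (U : C) : Cᵒᵖ ⥤ AddCommGrpCat.{max v w} where
  obj V := AddCommGrpCat.of (FreeAbelianGroup (ULift.{w} (V.unop ⟶ U)))
  map {V V'} f := AddCommGrpCat.ofHom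
    (FreeAbelianGroup.map (fun g : ULift.{w} (V.unop ⟶ U) => ULift.up (f.unop ≫ g.down)))
  map_id V := by
    apply AddCommGrpCat.hom_ext
    apply FreeAbelianGroup.lift_ext
    intro g
    show FreeAbelianGroup.map (fun g : ULift.{w} (V.unop ⟶ U) => ULift.up ((𝟙 V).unop ≫ g.down))
      (FreeAbelianGroup.of g) = FreeAbelianGroup.of g
    rw [FreeAbelianGroup.map_of_apply]
    congr 1
    cases g
    simp
  map_comp {V V' V''} f f' := by
    apply AddCommGrpCat.hom_ext
    apply FreeAbelianGroup.lift_ext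
    intro g
    show FreeAbelianGroup.map (fun g : ULift.{w} (V.unop ⟶ U) => ULift.up ((f ≫ f').unop ≫ g.down))
      (FreeAbelianGroup.of g) =
      FreeAbelianGroup.map (fun g : ULift.{w} (V'.unop ⟶ U) => ULift.up (f'.unop ≫ g.down))
        (FreeAbelianGroup.map (fun g : ULift.{w} (V.unop ⟶ U) => ULift.up (f.unop ≫ g.down))
          (FreeAbelianGroup.of g))
    rw [FreeAbelianGroup.map_of_apply, FreeAbelianGroup.map_of_apply,
      FreeAbelianGroup.map_of_apply]
    congr 1
    simp

/-- the generator -/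
noncomputable def gen (U : C) : (Zf.{w} U).obj (op U) :=
  FreeAbelianGroup.of (ULift.up (𝟙 U))

/-- the morphism from the free presheaf classified by a section -/
noncomputable def ofSection {U : C} (P : Cᵒᵖ ⥤ AddCommGrpCat.{max v w}) (t : P.obj (op U)) :
    Zf.{w} U ⟶ P where
  app V := AddCommGrpCat.ofHom
    (FreeAbelianGroup.lift (fun g : ULift.{w} (V.unop ⟶ U) => P.map g.down.op t))
  naturality V V' f := by
    apply AddCommGrpCat.hom_ext
    apply FreeAbelianGroup.lift_ext
    intro g
    show (FreeAbelianGroup.lift fun g : ULift.{w} (V'.unop ⟶ U) => P.map g.down.op t)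
          (FreeAbelianGroup.map (fun g : ULift.{w} (V.unop ⟶ U) => ULift.up (f.unop ≫ g.down))
            (FreeAbelianGroup.of g)) =
        P.map f ((FreeAbelianGroup.lift fun g : ULift.{w} (V.unop ⟶ U) => P.map g.down.op t)
          (FreeAbelianGroup.of g))
    rw [FreeAbelianGroup.map_of_apply, FreeAbelianGroup.lift_apply_of,
      FreeAbelianGroup.lift_apply_of]
    show P.map (f.unop ≫ g.down).op t = _
    rw [op_comp, P.map_comp, ConcreteCategory.comp_apply]
    rfl

lemma ofSection_gen {U : C} (P : Cᵒᵖ ⥤ AddCommGrpCat.{max v w}) (t : P.obj (op U)) :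
    (ofSection.{w} P t).app (op U) (gen.{w} U) = t := by
  show (FreeAbelianGroup.lift fun g : ULift.{w} (U ⟶ U) => P.map g.down.op t)
    (FreeAbelianGroup.of (ULift.up (𝟙 U))) = t
  rw [FreeAbelianGroup.lift_apply_of]
  show P.map (𝟙 U).op t = t
  rw [op_id, P.map_id]
  rfl

lemma nsmul_injective (α : Type w) (n : ℕ) (hn : 0 < n) :
    Function.Injective (fun x : FreeAbelianGroup α => n • x) := by
  intro x y hxy
  apply (FreeAbelianGroup.equivFinsupp α).injective
  apply nsmul_right_injective hn.ne'
  show n • (FreeAbelianGroup.equivFinsupp α) x = n • (FreeAbelianGroup.equivFinsupp α) y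
  rw [← map_nsmul, ← map_nsmul]
  exact congrArg _ hxy

instance mono_nsmul (U : C) (n : ℕ) [NeZero n] : Mono (n • 𝟙 (Zf.{w} U)) := by
  haveI : ∀ V, Mono ((n • 𝟙 (Zf.{w} U)).app V) := by
    intro V
    rw [AddCommGrpCat.mono_iff_injective]
    intro x y hxy
    apply nsmul_injective _ n (Nat.pos_of_ne_zero (NeZero.ne n))
    have h : ∀ z : (Zf.{w} U).obj V, (n • 𝟙 (Zf.{w} U)).app V z = n • z := by
      intro z
      rw [NatTrans.app_nsmul, NatTrans.id_app]
      rfl
    exact (h x).symm.trans (hxy.trans (h y))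
  exact NatTrans.mono_of_mono_app _

/-- sections of an injective presheaf of abelian groups are divisible -/
theorem divisible (P : Cᵒᵖ ⥤ AddCommGrpCat.{max v w}) [Injective P] (U : C) (t : P.obj (op U))
    (n : ℕ) (hn : 0 < n) : ∃ t' : P.obj (op U), n • t' = t := by
  haveI : NeZero n := ⟨hn.ne'⟩
  let τ := ofSection.{w} P t
  let τ' := Injective.factorThru τ (n • 𝟙 (Zf.{w} U))
  have hτ : (n • 𝟙 (Zf.{w} U)) ≫ τ' = τ := Injective.comp_factorThru _ _
  refine ⟨τ'.app (op U) (gen.{w} U), ?_⟩
  rw [← ofSection_gen.{w} P t]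
  show _ = τ.app (op U) (gen.{w} U)
  rw [← hτ, Preadditive.nsmul_comp, Category.id_comp, NatTrans.app_nsmul]
  rfl

end Groth.Agent.Helper4.InjDiv
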