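import Mathlib
import Groth.Agent.Helper4.InjDiv

/-! Restriction of sections of an injective abelian presheaf along a monomorphism is surjective. -/

set_option autoImplicit false
universe w v u

open CategoryTheory CategoryTheory.Limits Opposite

namespace Groth.Agent.Helper4.InjDiv

variable {C : Type u} [Category.{v} C]

/-- the map of free presheaves induced by a morphism -/
noncomputable def Zmap {V U : C} (g : V ⟶ U) : Zf.{w} V ⟶ Zf.{w} U where
  app T := AddCommGrpCat.ofHom
    (FreeAbelianGroup.map (fun a : ULift.{w} (T.unop ⟶ V) => (ULift.up (a.down ≫ g) :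
      ULift.{w} (T.unop ⟶ U))))
  naturality T T' f := by
    apply AddCommGrpCat.hom_ext
    apply FreeAbelianGroup.lift_ext
    intro a
    show FreeAbelianGroup.map (fun a : ULift.{w} (T'.unop ⟶ V) => (ULift.up (a.down ≫ g) :
        ULift.{w} (T'.unop ⟶ U)))
      (FreeAbelianGroup.map (fun a : ULift.{w} (T.unop ⟶ V) => (ULift.up (f.unop ≫ a.down) :
        ULift.{w} (T'.unop ⟶ V))) (FreeAbelianGroup.of a)) =
      FreeAbelianGroup.map (fun a : ULift.{w} (T.unop ⟶ U) => (ULift.up (f.unop ≫ a.down) :
        ULift.{w} (T'.unop ⟶ U)))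
      (FreeAbelianGroup.map (fun a : ULift.{w} (T.unop ⟶ V) => (ULift.up (a.down ≫ g) :
        ULift.{w} (T.unop ⟶ U))) (FreeAbelianGroup.of a))
    rw [FreeAbelianGroup.map_of_apply, FreeAbelianGroup.map_of_apply,
      FreeAbelianGroup.map_of_apply, FreeAbelianGroup.map_of_apply]
    congr 1
    simp

lemma Zmap_app_of {V U : C} (g : V ⟶ U) (T : Cᵒᵖ) (a : ULift.{w} (T.unop ⟶ V)) :
    (Zmap.{w} g).app T (FreeAbelianGroup.of a) =
      FreeAbelianGroup.of (ULift.up (a.down ≫ g) : ULift.{w} (T.unop ⟶ U)) :=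
  FreeAbelianGroup.map_of_apply _

lemma map_injective {α β : Type w} (f : α → β) (hf : Function.Injective f) :
    Function.Injective (FreeAbelianGroup.map f) := by
  classical
  let r : FreeAbelianGroup β →+ FreeAbelianGroup α :=
    FreeAbelianGroup.lift (fun b => if h : ∃ a, f a = b then FreeAbelianGroup.of h.choose else 0)
  have hr : ∀ x, r (FreeAbelianGroup.map f x) = x := by
    intro x
    have : r.comp (FreeAbelianGroup.map f) = AddMonoidHom.id _ := by
      apply FreeAbelianGroup.lift_ext
      intro a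
      show r (FreeAbelianGroup.map f (FreeAbelianGroup.of a)) = FreeAbelianGroup.of a
      rw [FreeAbelianGroup.map_of_apply]
      show (FreeAbelianGroup.lift _) (FreeAbelianGroup.of (f a)) = _
      rw [FreeAbelianGroup.lift_apply_of]
      have h : ∃ a', f a' = f a := ⟨a, rfl⟩
      rw [dif_pos h]
      exact congrArg _ (hf h.choose_spec)
    exact DFunLike.congr_fun this x
  intro x y hxy
  rw [← hr x, ← hr y, hxy]

instance mono_Zmap {V U : C} (g : V ⟶ U) [Mono g] : Mono (Zmap.{w} g) := by
  haveI : ∀ T, Mono ((Zmap.{w} g).app T) := by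
    intro T
    rw [AddCommGrpCat.mono_iff_injective]
    apply map_injective
    intro a b hab
    have h1 : a.down ≫ g = b.down ≫ g := congrArg ULift.down hab
    exact ULift.ext _ _ ((cancel_mono g).1 h1)
  exact NatTrans.mono_of_mono_app _

/-- sections of an injective presheaf of abelian groups extend along monomorphisms -/
theorem surjective_of_mono (P : Cᵒᵖ ⥤ AddCommGrpCat.{max v w}) [Injective P] {V U : C}
    (g : V ⟶ U) [Mono g] (t : P.obj (op V)) : ∃ t' : P.obj (op U), P.map g.op t' = t := by
  let τ := ofSection.{w} P t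
  let τ' := Injective.factorThru τ (Zmap.{w} g)
  have hτ : Zmap.{w} g ≫ τ' = τ := Injective.comp_factorThru _ _
  refine ⟨τ'.app (op U) (gen.{w} U), ?_⟩
  have h1 : P.map g.op (τ'.app (op U) (gen.{w} U)) =
      τ'.app (op V) ((Zf.{w} U).map g.op (gen.{w} U)) :=
    (NatTrans.naturality_apply τ' g.op (gen.{w} U)).symm
  have h2 : (Zf.{w} U).map g.op (gen.{w} U) = (Zmap.{w} g).app (op V) (gen.{w} V) := by
    show FreeAbelianGroup.map (fun a : ULift.{w} (U ⟶ U) => (ULift.up (g ≫ a.down) :
        ULift.{w} (V ⟶ U))) (FreeAbelianGroup.of (ULift.up (𝟙 U))) =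
      FreeAbelianGroup.map (fun a : ULift.{w} (V ⟶ V) => (ULift.up (a.down ≫ g) :
        ULift.{w} (V ⟶ U))) (FreeAbelianGroup.of (ULift.up (𝟙 V)))
    rw [FreeAbelianGroup.map_of_apply, FreeAbelianGroup.map_of_apply]
    congr 1
    simp
  rw [h1, h2, ← ConcreteCategory.comp_apply, ← NatTrans.comp_app, hτ]
  exact ofSection_gen.{w} P t

end Groth.Agent.Helper4.InjDiv
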