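import Mathlib
import Groth.Agent.Helper4.EtFlasque
import Groth.Agent.Helper4.EtGlueDouble
import Groth.Agent.Helper4.InjMono
import Groth.Agent.Helper4.EtGeom
import Groth.Agent.Helper4.CechGenB

/-! Sections of an abelian étale sheaf which is acyclic on every étale scheme over the base extend
along open immersions (gluing two copies along the open subscheme). -/

set_option autoImplicit false
universe u

open CategoryTheory CategoryTheory.Limits AlgebraicGeometry Opposite CategoryTheory.Abelian

namespace Groth.Agent.Helper4.EtFlasqueRestr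

open Groth.Agent.Helper9.ExtNat Groth.Agent.Helper4.EtFlasque Groth.Agent.Helper4.EtGlueDouble

variable {X : Scheme.{u}} {U V : X.Etale} (g : V ⟶ U) [IsOpenImmersion g.left]

/-- the two copies of `U` glued along `V` -/
noncomputable def W : X.Etale :=
  Scheme.Etale.mk (str g.left (U.hom : U.left ⟶ X))

/-- first copy -/
noncomputable def a₁ : U ⟶ W g :=
  MorphismProperty.Over.homMk (inl g.left) (inl_str g.left (U.hom : U.left ⟶ X)) trivial

/-- second copy -/
noncomputable def a₂ : U ⟶ W g :=
  MorphismProperty.Over.homMk (inr g.left) (inr_str g.left (U.hom : U.left ⟶ X)) trivial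

lemma comp_a : g ≫ a₁ g = g ≫ a₂ g :=
  MorphismProperty.Over.Hom.ext (condition g.left)

/-- the covering family -/
noncomputable def a : ULift.{u + 1} Bool → (U ⟶ W g)
  | ⟨true⟩ => a₁ g
  | ⟨false⟩ => a₂ g

lemma hom_ext_left {Z : X.Etale} {p q : Z ⟶ U} (h : p.left = q.left) : p = q :=
  MorphismProperty.Over.Hom.ext h

lemma mono_a₁ {Z : X.Etale} (p q : Z ⟶ U) (h : p ≫ a₁ g = q ≫ a₁ g) : p = q := by
  apply hom_ext_left
  have h1 : p.left ≫ inl g.left = q.left ≫ inl g.left := congrArg (fun t => t.left) h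
  exact (cancel_mono (inl g.left)).1 h1

lemma mono_a₂ {Z : X.Etale} (p q : Z ⟶ U) (h : p ≫ a₂ g = q ≫ a₂ g) : p = q := by
  apply hom_ext_left
  have h1 : p.left ≫ inr g.left = q.left ≫ inr g.left := congrArg (fun t => t.left) h
  exact (cancel_mono (inr g.left)).1 h1

/-- morphisms to the two copies agreeing in the glued object factor through `V` -/
lemma exists_lift {Z : X.Etale} (p q : Z ⟶ U) (h : p ≫ a₁ g = q ≫ a₂ g) :
    ∃ z : Z ⟶ V, z ≫ g = p ∧ z ≫ g = q := by
  have h1 : p.left ≫ inl g.left = q.left ≫ inr g.left := congrArg (fun t => t.left) h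
  obtain ⟨z, hz1, hz2⟩ := lift_of_eq g.left p.left q.left h1
  have hw : z ≫ (V.hom : V.left ⟶ X) = Z.hom := by
    have e1 : g.left ≫ (U.hom : U.left ⟶ X) = V.hom := MorphismProperty.Over.w g
    have e2 : p.left ≫ (U.hom : U.left ⟶ X) = Z.hom := MorphismProperty.Over.w p
    rw [← e1, ← Category.assoc, hz1, e2]
  refine ⟨MorphismProperty.Over.homMk z hw trivial, hom_ext_left hz1, hom_ext_left hz2⟩

instance : Mono g := by
  constructor
  intro Z p q h
  apply MorphismProperty.Over.Hom.ext
  have h1 : p.left ≫ g.left = q.left ≫ g.left := congrArg (fun t => t.left) h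
  exact (cancel_mono g.left).1 h1

lemma cover_mem : Sieve.ofArrows (fun _ : ULift.{u + 1} Bool => U) (a g) ∈
    X.smallEtaleTopology (W g) := by
  apply Groth.Agent.Helper4.EtGeom.ofArrows_mem
  intro x
  rcases jointly_surj g.left x with ⟨y, hy⟩ | ⟨y, hy⟩
  · exact ⟨⟨true⟩, y, hy⟩
  · exact ⟨⟨false⟩, y, hy⟩

/-- gluing a section on the first copy vanishing on `V` with zero on the second copy -/
lemma exists_glue (Q : EtCoh.Ab X) (q : Q.obj.obj (op U)) (hq : Q.obj.map g.op q = 0) :
    ∃ t : Q.obj.obj (op (W g)), Q.obj.map (a₁ g).op t = q ∧ Q.obj.map (a₂ g).op t = 0 := by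
  have hsh := Groth.Agent.Helper4.CechGenB.isSheafFor_of_mem Q
    (fun i : ULift.{u + 1} Bool => Over.mk (a g i)) (cover_mem g)
  rw [Presieve.isSheafFor_arrows_iff] at hsh
  let x : ∀ i : ULift.{u + 1} Bool, (Q.obj ⋙ forget AddCommGrpCat.{u + 1}).obj (op U)
    | ⟨true⟩ => q
    | ⟨false⟩ => (0 : Q.obj.obj (op U))
  have hx : Presieve.Arrows.Compatible (Q.obj ⋙ forget AddCommGrpCat.{u + 1})
      (fun i : ULift.{u + 1} Bool => (Over.mk (a g i)).hom) x := by
    rintro ⟨_ | _⟩ ⟨_ | _⟩ Z gi gj h
    · -- (false, false)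
      show Q.obj.map gi.op (0 : Q.obj.obj (op U)) = Q.obj.map gj.op (0 : Q.obj.obj (op U))
      rw [map_zero, map_zero]
    · -- (false, true)
      obtain ⟨z, hz1, -⟩ := exists_lift g gj gi h.symm
      show Q.obj.map gi.op (0 : Q.obj.obj (op U)) = Q.obj.map gj.op q
      rw [map_zero, ← hz1, op_comp, Q.obj.map_comp, ConcreteCategory.comp_apply, hq, map_zero]
    · -- (true, false)
      obtain ⟨z, hz1, -⟩ := exists_lift g gi gj h
      show Q.obj.map gi.op q = Q.obj.map gj.op (0 : Q.obj.obj (op U))
      rw [map_zero, ← hz1, op_comp, Q.obj.map_comp, ConcreteCategory.comp_apply, hq, map_zero]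
    · -- (true, true)
      have : gi = gj := mono_a₁ g gi gj h
      rw [this]
  obtain ⟨t, ht, -⟩ := hsh x hx
  exact ⟨t, ht ⟨true⟩, ht ⟨false⟩⟩

/-- sections of a flasque sheaf extend along open immersions -/
theorem surj_restrict (F : EtCoh.Ab X) (hF : Flasque F) :
    Function.Surjective (F.obj.map g.op) := by
  intro s
  have hS := sc_shortExact F
  haveI : (presheafToSheaf X.smallEtaleTopology AddCommGrpCat.{u + 1}).PreservesMonomorphisms :=
    inferInstance
  haveI : Injective (Injective.under F).obj :=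
    Injective.injective_of_adjoint (sheafificationAdjunction X.smallEtaleTopology
      AddCommGrpCat.{u + 1}) (Injective.under F)
  -- extend `s` to a section `t` of the injective hull over `U`
  obtain ⟨t, ht⟩ := Groth.Agent.Helper4.InjDiv.surjective_of_mono.{u + 1, u, u + 1}
    (Injective.under F).obj g ((sc F).f.hom.app (op V) s)
  -- its image in the quotient vanishes on `V`
  have hgf : ∀ (T : X.Etale) (y : F.obj.obj (op T)),
      (sc F).g.hom.app (op T) ((sc F).f.hom.app (op T) y) = 0 := by
    intro T y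
    have h0 : (sc F).f.hom ≫ (sc F).g.hom = 0 := by
      have := congrArg (sheafToPresheaf X.smallEtaleTopology AddCommGrpCat.{u + 1}).map (sc F).zero
      rw [Functor.map_comp, Functor.map_zero] at this
      exact this
    exact ConcreteCategory.congr_hom (NatTrans.congr_app h0 (op T)) y
  have hq : (sc F).X₃.obj.map g.op ((sc F).g.hom.app (op U) t) = 0 := by
    rw [← NatTrans.naturality_apply, ht]
    exact hgf V s
  obtain ⟨q', hq1, hq2⟩ := exists_glue g (sc F).X₃ _ hq
  -- lift over the glued object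
  obtain ⟨t', ht'⟩ := Groth.Agent.Helper4.EtSecPullEt.surj_of_H1 (W g) (sc F) hS
    (fun x => (hF _ 1 Nat.one_pos).elim _ _) q'
  -- the two corrections are sections of `F`
  obtain ⟨a', ha'⟩ := (Groth.Agent.Helper4.CechGenB.sections_exact (sc F) hS (op U)).2
    ((sc F).X₂.obj.map (a₁ g).op t' - t) (by
      rw [map_sub, NatTrans.naturality_apply, ht', hq1, sub_self])
  obtain ⟨b', hb'⟩ := (Groth.Agent.Helper4.CechGenB.sections_exact (sc F) hS (op U)).2
    ((sc F).X₂.obj.map (a₂ g).op t') (by
      rw [NatTrans.naturality_apply, ht', hq2])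
  refine ⟨b' - a', ?_⟩
  apply (Groth.Agent.Helper4.CechGenB.sections_exact (sc F) hS (op V)).1
  have e0 : (sc F).f.hom.app (op V) (F.obj.map g.op (b' - a')) =
      (sc F).X₂.obj.map g.op ((sc F).f.hom.app (op U) (b' - a')) :=
    NatTrans.naturality_apply _ _ _
  rw [e0, map_sub, ha', hb', map_sub, map_sub, ht]
  have e : (sc F).X₂.obj.map g.op ((sc F).X₂.obj.map (a₂ g).op t') =
      (sc F).X₂.obj.map g.op ((sc F).X₂.obj.map (a₁ g).op t') := by
    rw [← ConcreteCategory.comp_apply, ← ConcreteCategory.comp_apply, ← Functor.map_comp,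
      ← Functor.map_comp, ← op_comp, ← op_comp, comp_a]
  rw [e]
  abel

end Groth.Agent.Helper4.EtFlasqueRestr
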