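import Mathlib
import Groth.Prelude.Def_EtBaseX
import Groth.Agent.Helper4.EtLocRingA

set_option autoImplicit false

/-!
# The étale local ring at a geometric point is strictly henselian

Scheme version of the development `Helper5/EtSt2`–`EtSt4` (written there for algebraic spaces).
-/

universe u

open CategoryTheory CategoryTheory.Limits AlgebraicGeometry Opposite Polynomial

namespace Groth.Agent.Helper4.EtLocRing

set_option backward.isDefEq.respectTransparency false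

/-- scheme-level Hensel step: a simple root in `K` of a monic polynomial over an affine scheme
spreads out to a function on a standard étale neighbourhood -/
theorem exists_etale_root {K : Type u} [Field K] {Y : Scheme.{u}} [IsAffine Y]
    (l : Spec (CommRingCat.of K) ⟶ Y) (F₁ : Γ(Y, ⊤)[X]) (hF : F₁.Monic) (x₀ : K)
    (h0 : F₁.eval₂ (evSch l) x₀ = 0) (h1 : (derivative F₁).eval₂ (evSch l) x₀ ≠ 0) :
    ∃ (V₀ : Scheme.{u}) (π : V₀ ⟶ Y) (_ : Etale π) (v₀ : Spec (CommRingCat.of K) ⟶ V₀)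
      (t : Γ(V₀, ⊤)), v₀ ≫ π = l ∧ F₁.eval₂ π.appTop.hom t = 0 ∧ evSch v₀ t = x₀ := by
  let P : StandardEtalePair Γ(Y, ⊤) := ⟨F₁, hF, derivative F₁, ⟨1, 0, 1, by simp⟩⟩
  letI : Algebra Γ(Y, ⊤) K := (evSch l).toAlgebra
  have hmap : P.HasMap x₀ := ⟨h0, isUnit_iff_ne_zero.2 h1⟩
  let β : P.Ring →ₐ[Γ(Y, ⊤)] K := P.lift x₀ hmap
  let α : Γ(Y, ⊤) ⟶ CommRingCat.of P.Ring := CommRingCat.ofHom (algebraMap Γ(Y, ⊤) P.Ring)
  let β' : CommRingCat.of P.Ring ⟶ CommRingCat.of K := CommRingCat.ofHom β.toRingHom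
  have hαβ : α ≫ β' = l.appTop ≫ (Scheme.ΓSpecIso (CommRingCat.of K)).hom := by
    ext r
    show β (algebraMap Γ(Y, ⊤) P.Ring r) = evSch l r
    rw [β.commutes]
    rfl
  let π : Spec (CommRingCat.of P.Ring) ⟶ Y := Spec.map α ≫ Y.isoSpec.inv
  have hπe : Etale π := by
    have : Etale (Spec.map α) :=
      (HasRingHomProperty.Spec_iff (P := @Etale)).2 (RingHom.etale_algebraMap.2 inferInstance)
    infer_instance
  have hπ : π.appTop = α ≫ (Scheme.ΓSpecIso (CommRingCat.of P.Ring)).inv := by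
    show (Spec.map α ≫ Y.isoSpec.inv).appTop = _
    rw [Scheme.Hom.comp_appTop]
    have : Y.isoSpec.inv.appTop = (Scheme.ΓSpecIso Γ(Y, ⊤)).inv := by
      rw [← cancel_epi Y.isoSpec.hom.appTop, ← Scheme.Hom.comp_appTop, Iso.inv_hom_id]
      rw [Scheme.isoSpec_hom, Scheme.toSpecΓ_appTop, Iso.hom_inv_id]
      rfl
    rw [this, Scheme.ΓSpecIso_inv_naturality]
  let v₀ : Spec (CommRingCat.of K) ⟶ Spec (CommRingCat.of P.Ring) := Spec.map β'
  have hv₀ : (Scheme.ΓSpecIso (CommRingCat.of P.Ring)).inv ≫ v₀.appTop =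
      β' ≫ (Scheme.ΓSpecIso (CommRingCat.of K)).inv :=
    (Scheme.ΓSpecIso_inv_naturality β').symm
  refine ⟨Spec (CommRingCat.of P.Ring), π, hπe, v₀,
    (Scheme.ΓSpecIso (CommRingCat.of P.Ring)).inv.hom P.X, ?_, ?_, ?_⟩
  · apply ext_of_isAffine
    rw [Scheme.Hom.comp_appTop, hπ, Category.assoc, hv₀, ← Category.assoc, hαβ, Category.assoc,
      Iso.hom_inv_id, Category.comp_id]
  · rw [hπ]
    have : (α ≫ (Scheme.ΓSpecIso (CommRingCat.of P.Ring)).inv).hom =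
        (Scheme.ΓSpecIso (CommRingCat.of P.Ring)).inv.hom.comp (algebraMap Γ(Y, ⊤) P.Ring) := rfl
    rw [this, ← Polynomial.hom_eval₂]
    have h3 : F₁.eval₂ (algebraMap Γ(Y, ⊤) P.Ring) P.X = 0 := P.hasMap_X.1
    rw [h3, map_zero]
  · show (Scheme.ΓSpecIso (CommRingCat.of K)).hom.hom (v₀.appTop.hom
      ((Scheme.ΓSpecIso (CommRingCat.of P.Ring)).inv.hom P.X)) = x₀
    have h4 := congrArg (fun m => m.hom P.X) hv₀
    have h5 : v₀.appTop.hom ((Scheme.ΓSpecIso (CommRingCat.of P.Ring)).inv.hom P.X) =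
        (Scheme.ΓSpecIso (CommRingCat.of K)).inv.hom (β P.X) := h4
    rw [h5]
    have h6 : (Scheme.ΓSpecIso (CommRingCat.of K)).hom.hom
        ((Scheme.ΓSpecIso (CommRingCat.of K)).inv.hom (β P.X)) = β P.X := by
      show ((Scheme.ΓSpecIso (CommRingCat.of K)).inv ≫
        (Scheme.ΓSpecIso (CommRingCat.of K)).hom).hom (β P.X) = _
      rw [Iso.inv_hom_id]; rfl
    rw [h6]
    exact P.lift_X x₀ hmap

variable {X : Scheme.{u}} {Ω : Type u} [Field Ω] [IsSepClosed Ω]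
  (ξ : Spec (CommRingCat.of Ω) ⟶ X)

theorem germ_map {W U : X.Etale} (g : W ⟶ U) (w : (Φ ξ).fiber.obj W)
    (l : (Φ ξ).fiber.obj U) (hg : (Φ ξ).fiber.map g w = l) (s : Γ(U.left, ⊤)) :
    (germ ξ W w).hom (((EtBase.OO X).map g.op).hom s) = (germ ξ U l).hom s := by
  have hw := (Φ ξ).toPresheafFiber_w_apply g w (EtBase.OO X) s
  rw [hg] at hw
  exact hw

theorem range_germ_mono {W U : X.Etale} (g : W ⟶ U) (w : (Φ ξ).fiber.obj W)
    (l : (Φ ξ).fiber.obj U) (hg : (Φ ξ).fiber.map g w = l) :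
    Set.range (germ ξ U l).hom ⊆ Set.range (germ ξ W w).hom := by
  rintro _ ⟨s, rfl⟩
  exact ⟨_, germ_map ξ g w l hg s⟩

/-- finitely many elements of the stalk are germs on a common neighbourhood -/
theorem exists_nbhd_of_finset (T : Finset ↥(St ξ)) :
    ∃ (U : X.Etale) (l : (Φ ξ).fiber.obj U),
      (T : Set ↥(St ξ)) ⊆ Set.range (germ ξ U l).hom := by
  classical
  induction T using Finset.induction_on with
  | empty =>
    obtain ⟨⟨U, l⟩⟩ := IsCofiltered.nonempty (C := (Φ ξ).fiber.Elements)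
    exact ⟨U, l, by simp⟩
  | insert r T _ ih =>
    obtain ⟨U, l, hT⟩ := ih
    obtain ⟨U', l', s', hs'⟩ := (Φ ξ).toPresheafFiber_jointly_surjective (P := EtBase.OO X) r
    let e₁ : (Φ ξ).fiber.Elements := ⟨U, l⟩
    let e₂ : (Φ ξ).fiber.Elements := ⟨U', l'⟩
    let W := IsCofiltered.min e₁ e₂
    let g₁ : W ⟶ e₁ := IsCofiltered.minToLeft e₁ e₂
    let g₂ : W ⟶ e₂ := IsCofiltered.minToRight e₁ e₂
    refine ⟨W.1, W.2, ?_⟩
    rw [Finset.coe_insert, Set.insert_subset_iff]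
    constructor
    · exact range_germ_mono ξ g₂.1 W.2 l' g₂.2 ⟨s', hs'⟩
    · exact hT.trans (range_germ_mono ξ g₁.1 W.2 l g₁.2)

/-- every neighbourhood is refined by an affine one -/
theorem exists_affine_refinement (U : X.Etale) (l : (Φ ξ).fiber.obj U) :
    ∃ (W : X.Etale) (w : (Φ ξ).fiber.obj W) (g : W ⟶ U),
      (Φ ξ).fiber.map g w = l ∧ IsAffine W.left := by
  obtain ⟨_, ⟨(O : U.left.Opens), (hO : IsAffineOpen O), rfl⟩, hmem, -⟩ :=
    U.left.isBasis_affineOpens.exists_subset_of_mem_open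
    (Set.mem_univ ((ptLeft ξ l) (default : ↥(Spec (CommRingCat.of Ω))))) isOpen_univ
  have hr : Set.range (ptLeft ξ l) ⊆ (O : Set ↥U.left) := by
    rintro _ ⟨x, rfl⟩
    have hx : x = (default : ↥(Spec (CommRingCat.of Ω))) :=
      Subsingleton.elim (α := ↥(Spec (CommRingCat.of Ω))) x default
    rw [hx]; exact hmem
  obtain ⟨l', hl'⟩ := exists_lift_open ξ U l O hr
  exact ⟨etObj U O.ι, l', etObjHom U O.ι, hl', hO⟩

/-- Hensel's lemma for the étale local ring at a geometric point, in `Ω`-valued form -/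
theorem exists_root_of_simple_root (f : (↥(St ξ))[X]) (hf : f.Monic) (x₀ : Ω)
    (h0 : f.eval₂ (ev ξ) x₀ = 0) (h1 : (derivative f).eval₂ (ev ξ) x₀ ≠ 0) :
    ∃ a : ↥(St ξ), f.eval a = 0 ∧ ev ξ a = x₀ := by
  classical
  obtain ⟨U₀, l₀, hT⟩ := exists_nbhd_of_finset ξ f.coeffs
  obtain ⟨U, l, g₀, hg₀, hU⟩ := exists_affine_refinement ξ U₀ l₀
  have hT' : (f.coeffs : Set ↥(St ξ)) ⊆ Set.range (germ ξ U l).hom :=
    hT.trans (range_germ_mono ξ g₀ l l₀ hg₀)
  have hlifts : f ∈ Polynomial.lifts (germ ξ U l).hom :=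
    (Polynomial.lifts_iff_coeffs_subset_range _).2 hT'
  obtain ⟨F, hFf, -, hFm⟩ := Polynomial.lifts_and_natDegree_eq_and_monic hlifts hf
  have hcomp : (ev ξ).comp (germ ξ U l).hom = evSch (ptLeft ξ l) :=
    RingHom.ext fun s => ev_germ ξ U l s
  have e0 : (show Γ(U.left, ⊤)[X] from F).eval₂ (evSch (ptLeft ξ l)) x₀ = 0 := by
    rw [← hcomp, ← Polynomial.eval₂_map, hFf]; exact h0
  have e1 : (derivative (show Γ(U.left, ⊤)[X] from F)).eval₂ (evSch (ptLeft ξ l)) x₀ ≠ 0 := by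
    rw [← hcomp, ← Polynomial.eval₂_map, ← Polynomial.derivative_map, hFf]
    exact h1
  obtain ⟨V₀, π, hπ, v₀, t, hvπ, ht0, htx⟩ :=
    exists_etale_root (ptLeft ξ l) (show Γ(U.left, ⊤)[X] from F) hFm x₀ e0 e1
  haveI := hπ
  obtain ⟨v, hv, hv₀⟩ := exists_lift_etObj ξ U l π v₀ hvπ
  refine ⟨(germ ξ _ v).hom t, ?_, ?_⟩
  · have hgerm : (germ ξ U l).hom =
        (germ ξ _ v).hom.comp ((EtBase.OO X).map (etObjHom U π).op).hom :=
      RingHom.ext fun r => (germ_map ξ (etObjHom U π) v l hv r).symm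
    rw [← hFf, Polynomial.eval_map, hgerm, ← Polynomial.hom_eval₂]
    have hz : F.eval₂ ((EtBase.OO X).map (etObjHom U π).op).hom t = 0 := ht0
    rw [hz, map_zero]
  · rw [ev_germ, hv₀]
    exact htx

theorem henselian_St : HenselianLocalRing ↥(St ξ) := by
  have hloc := isLocalRing_St ξ
  refine { toIsLocalRing := hloc, is_henselian := ?_ }
  intro f hf a₀ h0 h1
  have e0 : f.eval₂ (ev ξ) (ev ξ a₀) = 0 := by
    rw [Polynomial.eval₂_at_apply]
    exact (mem_maximalIdeal_iff ξ _).1 h0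
  have e1 : (derivative f).eval₂ (ev ξ) (ev ξ a₀) ≠ 0 := by
    rw [Polynomial.eval₂_at_apply]
    exact (isUnit_iff_ev_ne_zero ξ _).1 h1
  obtain ⟨a, ha0, hax⟩ := exists_root_of_simple_root ξ f hf _ e0 e1
  refine ⟨a, ha0, ?_⟩
  rw [mem_maximalIdeal_iff, map_sub, hax, sub_self]

theorem isSepClosed_residueField_St :
    haveI := isLocalRing_St ξ
    IsSepClosed (IsLocalRing.ResidueField ↥(St ξ)) := by
  haveI := isLocalRing_St ξ
  haveI : IsLocalHom (ev ξ) :=
    ⟨fun a ha => isUnit_of_ev_ne_zero ξ a ha.ne_zero⟩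
  let ι : IsLocalRing.ResidueField ↥(St ξ) →+* Ω := IsLocalRing.ResidueField.lift (ev ξ)
  have hι : ι.comp (IsLocalRing.residue ↥(St ξ)) = ev ξ :=
    IsLocalRing.ResidueField.lift_comp_residue _
  apply IsSepClosed.of_exists_root
  intro q hqm hqi hqs
  have hlifts : q ∈ Polynomial.lifts (IsLocalRing.residue ↥(St ξ)) :=
    (Polynomial.mem_lifts q).2
      (Polynomial.map_surjective _ IsLocalRing.residue_surjective q)
  obtain ⟨f, hfq, -, hfm⟩ := Polynomial.lifts_and_natDegree_eq_and_monic hlifts hqm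
  have hdeg : (q.map ι).degree ≠ 0 := by
    rw [Polynomial.degree_map]
    exact (Polynomial.degree_pos_of_irreducible hqi).ne'
  obtain ⟨x₀, hx₀⟩ := IsSepClosed.exists_root (q.map ι) hdeg hqs.map
  have e0 : f.eval₂ (ev ξ) x₀ = 0 := by
    rw [← hι, ← Polynomial.eval₂_map, hfq, Polynomial.eval₂_eq_eval_map]
    exact hx₀
  have e1 : (derivative f).eval₂ (ev ξ) x₀ ≠ 0 := by
    rw [← hι, ← Polynomial.eval₂_map, ← Polynomial.derivative_map, hfq]
    apply hqs.eval₂_derivative_ne_zero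
    rw [Polynomial.eval₂_eq_eval_map]
    exact hx₀
  obtain ⟨a, ha0, -⟩ := exists_root_of_simple_root ξ f hfm x₀ e0 e1
  refine ⟨IsLocalRing.residue _ a, ?_⟩
  rw [← hfq, Polynomial.eval_map, Polynomial.eval₂_at_apply, ha0, map_zero]

theorem strictlyHenselian_St : EtCoh.IsStrictlyHenselianLocalRing ↥(St ξ) :=
  ⟨henselian_St ξ, isSepClosed_residueField_St ξ⟩

end Groth.Agent.Helper4.EtLocRing
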