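import Mathlib

/-!
# Helper4: étale pairs with trivial residue field extension

If `f : S → κ(p)` is an `R`-algebra map, then `q = ker f` is a prime over `p` with
`κ(p) → κ(q)` bijective.
-/

namespace Groth.Agent.Helper4.EtPairs

open TensorProduct

variable {R S : Type*} [CommRing R] [CommRing S] [Algebra R S]

theorem comap_ker_eq (p : Ideal R) [p.IsPrime]
    (f : S →+* p.ResidueField) (hf : f.comp (algebraMap R S) = algebraMap R p.ResidueField) :
    p = (RingHom.ker f).comap (algebraMap R S) := by
  ext r
  rw [Ideal.mem_comap, RingHom.mem_ker, ← RingHom.comp_apply, hf,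
    Ideal.algebraMap_residueField_eq_zero]

theorem bijective_map_of_ker (p : Ideal R) [p.IsPrime]
    (f : S →+* p.ResidueField) (hf : f.comp (algebraMap R S) = algebraMap R p.ResidueField)
    (q : Ideal S) [q.IsPrime] (hq : q = RingHom.ker f) (hpq : p = q.comap (algebraMap R S)) :
    Function.Bijective (Ideal.ResidueField.map p q (algebraMap R S) hpq) := by
  have h2 : q.primeCompl ≤ (IsUnit.submonoid p.ResidueField).comap f := by
    intro s hs
    have : f s ≠ 0 := fun h => hs (by rw [hq]; exact h)
    exact isUnit_iff_ne_zero.mpr this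
  let g : q.ResidueField →+* p.ResidueField := Ideal.ResidueField.lift q f (hq ▸ le_rfl) h2
  have hg : g.comp (Ideal.ResidueField.map p q (algebraMap R S) hpq) = RingHom.id _ := by
    apply Ideal.ResidueField.ringHom_ext
    ext r
    simp only [RingHom.comp_apply, RingHom.id_apply]
    rw [Ideal.ResidueField.map_algebraMap]
    rw [Ideal.ResidueField.lift_algebraMap]
    rw [← RingHom.comp_apply, hf]
  refine ⟨RingHom.injective _, fun y => ⟨g y, ?_⟩⟩
  apply g.injective
  have := congrArg (fun h => h (g y)) hg
  simpa using this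

/-- The ring map `S → κ(q) ≅ κ(p)` for a prime `q` over `p` with trivial residue field extension. -/
noncomputable def toRes (p : Ideal R) [p.IsPrime] (q : Ideal S) [q.IsPrime]
    (hq : p = q.comap (algebraMap R S))
    (hκ : Function.Bijective (Ideal.ResidueField.map p q (algebraMap R S) hq)) :
    S →ₐ[R] p.ResidueField where
  __ := ((RingEquiv.ofBijective _ hκ).symm.toRingHom).comp (algebraMap S q.ResidueField)
  commutes' r := by
    simp only [RingEquiv.toRingHom_eq_coe, RingHom.toMonoidHom_eq_coe, OneHom.toFun_eq_coe,
      MonoidHom.toOneHom_coe, MonoidHom.coe_coe, RingHom.coe_comp, RingHom.coe_coe,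
      Function.comp_apply]
    rw [RingEquiv.symm_apply_eq]
    simp [Ideal.ResidueField.map_algebraMap]

theorem ker_toRes (p : Ideal R) [p.IsPrime] (q : Ideal S) [q.IsPrime]
    (hq : p = q.comap (algebraMap R S))
    (hκ : Function.Bijective (Ideal.ResidueField.map p q (algebraMap R S) hq)) :
    RingHom.ker (toRes p q hq hκ).toRingHom = q := by
  ext s
  rw [RingHom.mem_ker]
  change (RingEquiv.ofBijective _ hκ).symm (algebraMap S q.ResidueField s) = 0 ↔ _
  rw [map_eq_zero_iff _ (RingEquiv.injective _), Ideal.algebraMap_residueField_eq_zero]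

theorem toRes_comp_algebraMap (p : Ideal R) [p.IsPrime] (q : Ideal S) [q.IsPrime]
    (hq : p = q.comap (algebraMap R S))
    (hκ : Function.Bijective (Ideal.ResidueField.map p q (algebraMap R S) hq)) :
    (toRes p q hq hκ).toRingHom.comp (algebraMap R S) = algebraMap R p.ResidueField := by
  ext r
  exact (toRes p q hq hκ).commutes r

/-- Main construction: an `R`-algebra map `f : S → κ(p)` yields a pair `(S, ker f)`. -/
theorem exists_pair_of_algHom (p : Ideal R) [p.IsPrime] (f : S →ₐ[R] p.ResidueField) :
    ∃ (q : Ideal S) (_ : q.IsPrime) (hq : p = q.comap (algebraMap R S)),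
      Function.Bijective (Ideal.ResidueField.map p q (algebraMap R S) hq) ∧
        q = RingHom.ker f.toRingHom := by
  have hf : f.toRingHom.comp (algebraMap R S) = algebraMap R p.ResidueField := by
    ext r; exact f.commutes r
  haveI : (RingHom.ker f.toRingHom).IsPrime := RingHom.ker_isPrime _
  exact ⟨RingHom.ker f.toRingHom, inferInstance, comap_ker_eq p _ hf,
    bijective_map_of_ker p _ hf _ rfl _, rfl⟩

end Groth.Agent.Helper4.EtPairs

namespace Groth.Agent.Helper4.EtPairs

open TensorProduct

variable {R S : Type*} [CommRing R] [CommRing S] [Algebra R S]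

/-- Uniqueness: an `R`-algebra map `S → κ(p)` with kernel `q` is `toRes`. -/
theorem eq_toRes (p : Ideal R) [p.IsPrime] (q : Ideal S) [q.IsPrime]
    (hq : p = q.comap (algebraMap R S))
    (hκ : Function.Bijective (Ideal.ResidueField.map p q (algebraMap R S) hq))
    (h : S →ₐ[R] p.ResidueField) (hker : RingHom.ker h.toRingHom = q) :
    h = toRes p q hq hκ := by
  have h2 : q.primeCompl ≤ (IsUnit.submonoid p.ResidueField).comap h.toRingHom := by
    intro s hs
    have : h s ≠ 0 := fun h0 => hs (by rw [← hker]; exact h0)
    exact isUnit_iff_ne_zero.mpr this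
  let g : q.ResidueField →+* p.ResidueField :=
    Ideal.ResidueField.lift q h.toRingHom (hker ▸ le_rfl) h2
  have hg : g.comp (Ideal.ResidueField.map p q (algebraMap R S) hq) = RingHom.id _ := by
    apply Ideal.ResidueField.ringHom_ext
    ext r
    simp only [RingHom.comp_apply, RingHom.id_apply]
    rw [Ideal.ResidueField.map_algebraMap]
    rw [Ideal.ResidueField.lift_algebraMap]
    exact h.commutes r
  ext s
  change h s = (RingEquiv.ofBijective _ hκ).symm (algebraMap S q.ResidueField s)
  rw [RingEquiv.eq_symm_apply]
  have h3 : h s = g (algebraMap S q.ResidueField s) :=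
    (Ideal.ResidueField.lift_algebraMap q h.toRingHom (hker ▸ le_rfl) h2 s).symm
  rw [h3]
  apply g.injective
  have := congrArg (fun k => k (g (algebraMap S q.ResidueField s))) hg
  simpa using this

end Groth.Agent.Helper4.EtPairs

namespace Groth.Agent.Helper4.EtPairs

variable {R S : Type*} [CommRing R] [CommRing S] [Algebra R S]

theorem toRes_eq_zero_iff (p : Ideal R) [p.IsPrime] (q : Ideal S) [q.IsPrime]
    (hq : p = q.comap (algebraMap R S))
    (hκ : Function.Bijective (Ideal.ResidueField.map p q (algebraMap R S) hq)) (s : S) :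
    toRes p q hq hκ s = 0 ↔ s ∈ q :=
  (RingHom.mem_ker (f := (toRes p q hq hκ).toRingHom)).symm.trans
    (Ideal.ext_iff.mp (ker_toRes p q hq hκ) s)

end Groth.Agent.Helper4.EtPairs
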