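import Mathlib
import Groth.Prelude.Def_EtBase
import Groth.Prelude.Def_EtCech
import Groth.Agent.Helper4.CechPost

set_option autoImplicit false

/-! Base change of a jointly surjective family of étale schemes is jointly surjective. -/

universe u

open CategoryTheory CategoryTheory.Limits AlgebraicGeometry Opposite

namespace Groth.Agent.Helper4.EtPostSurj

set_option backward.isDefEq.respectTransparency.types false in
theorem surj_bc {X Y : Scheme.{u}} (f : X ⟶ Y) (V : Y.Etale) {ι : Type (u + 1)} (Vf : ι → Over V)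
    (hV : ∀ x : ↥(V.left), ∃ (i : ι) (y : ↥((Vf i).left.left)), (Vf i).hom.left.base y = x) :
    ∀ x' : ↥(((EtCoh.bc f).obj V).left), ∃ (i : ι)
      (y : ↥((Groth.Agent.Helper4.CechPost.Uf (EtCoh.bc f) Vf i).left.left)),
      (Groth.Agent.Helper4.CechPost.Uf (EtCoh.bc f) Vf i).hom.left.base y = x' := by
  intro x'
  obtain ⟨i, y, hy⟩ := hV ((pullback.fst V.hom f : ((EtCoh.bc f).obj V).left ⟶ V.left).base x')
  have sq := EtCoh.isPullback_bc_map f (Vf i).hom
  obtain ⟨z, hz1, -⟩ := Scheme.Pullback.exists_preimage_pullback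
    (f := (pullback.fst V.hom f : ((EtCoh.bc f).obj V).left ⟶ V.left))
    (g := (Vf i).hom.left) x' y hy.symm
  refine ⟨i, sq.isoPullback.inv z, ?_⟩
  show ((EtCoh.bc f).map (Vf i).hom).left.base (sq.isoPullback.inv.base z) = x'
  rw [← hz1, ← Scheme.Hom.comp_apply, IsPullback.isoPullback_inv_fst]
  rfl

end Groth.Agent.Helper4.EtPostSurj
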