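import Mathlib
import Groth.Agent.Helper4.EtCartan
import Groth.Agent.Helper1.Adapted
import Groth.Agent.Helper1.TBridge

set_option autoImplicit false

/-!
# Čech-acyclic sheaves are acyclic for the direct image along a qcqs morphism
-/

universe u

open CategoryTheory CategoryTheory.Limits AlgebraicGeometry Opposite CategoryTheory.Abelian

namespace Groth.Agent.Helper4.EtPushAcyc

open Groth.Agent.Helper4.EtCartan Groth.Agent.Helper4.EtGeom Groth.Agent.Helper4.CechGenC

variable {X Y : Scheme.{u}} (f : X ⟶ Y)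

/-- an open subscheme of an object of the small étale site, as an object -/
noncomputable abbrev openObj (V : Y.Etale) (A : V.left.Opens) : Y.Etale :=
  Scheme.Etale.mk (A.ι ≫ (V.hom : V.left ⟶ Y))

/-- its inclusion -/
noncomputable abbrev openMap (V : Y.Etale) (A : V.left.Opens) : openObj V A ⟶ V :=
  MorphismProperty.Over.homMk A.ι rfl trivial

lemma qcqs_pullback {A B C : Scheme.{u}} (a : A ⟶ C) (b : B ⟶ C) [QuasiCompact b]
    [QuasiSeparated b] [CompactSpace A] [QuasiSeparatedSpace A] :
    CompactSpace ↥(pullback a b) ∧ QuasiSeparatedSpace ↥(pullback a b) :=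
  ⟨QuasiCompact.compactSpace_of_compactSpace (pullback.fst a b),
    quasiSeparatedSpace_of_quasiSeparated (pullback.fst a b)⟩

lemma qcqs_bc [QuasiCompact f] [QuasiSeparated f] (V : Y.Etale) [IsAffine V.left] :
    (EtCoh.bc f).obj V ∈ B X := by
  haveI : CompactSpace ↥V.left := inferInstance
  haveI : QuasiSeparatedSpace ↥V.left := inferInstance
  exact @qcqs_pullback V.left X Y V.hom f _ _ ‹_› ‹_›

variable [QuasiCompact f] [QuasiSeparated f]

/-- the direct image is exact on short exact sequences with Čech-acyclic kernel -/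
lemma epi_push (S : ShortComplex (EtCoh.Ab X)) (hS : S.ShortExact)
    (hF : CechAcyc (Cov X) S.X₁) : Epi ((EtCoh.push f).map S.g) := by
  haveI : Sheaf.IsLocallySurjective ((EtCoh.push f).map S.g) := by
    constructor
    intro V s
    rw [EtGeom.mem_iff]
    intro y
    obtain ⟨A, hA, hyA, -⟩ := TopologicalSpace.Opens.isBasis_iff_nbhd.mp
      V.left.isBasis_affineOpens (show y ∈ (⊤ : V.left.Opens) from trivial)
    haveI : IsAffine (openObj V A).left := hA
    refine ⟨openObj V A, openMap V A, ⟨y, hyA⟩, ?_, rfl⟩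
    obtain ⟨t, ht⟩ := surj_of_acyc (B X) (Cov X) h1 h2 S hS hF _ (qcqs_bc f (openObj V A))
      (S.X₃.obj.map ((EtCoh.bc f).map (openMap V A)).op s)
    exact ⟨t, ht⟩
  exact (Sheaf.isLocallySurjective_iff_epi' (φ := (EtCoh.push f).map S.g)).1 inferInstance

/-- the direct image of a short exact sequence with Čech-acyclic kernel is short exact -/
lemma shortExact_push (S : ShortComplex (EtCoh.Ab X)) (hS : S.ShortExact)
    (hF : CechAcyc (Cov X) S.X₁) : (S.map (EtCoh.push f)).ShortExact := by
  haveI := hS.mono_f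
  haveI : PreservesFiniteLimits (EtCoh.push f) :=
    (EtCoh.pullPushAdj f).rightAdjoint_preservesLimits.preservesFiniteLimits
  haveI : Mono ((EtCoh.push f).map S.f) := inferInstance
  haveI : Epi ((EtCoh.push f).map S.g) := epi_push f S hS hF
  exact
    { exact := hS.exact.map_of_mono_of_preservesKernel (EtCoh.push f) inferInstance inferInstance
      mono_f := inferInstanceAs (Mono ((EtCoh.push f).map S.f))
      epi_g := inferInstanceAs (Epi ((EtCoh.push f).map S.g)) }

/-- Čech-acyclic sheaves are acyclic for the direct image -/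
theorem isZero_Rpush (F : EtCoh.Ab X) (hF : CechAcyc (Cov X) F) (n : ℕ) (hn : 0 < n) :
    IsZero ((EtCoh.Rpush f n).obj F) := by
  let _ : HasDerivedCategory (EtCoh.Ab X) := HasDerivedCategory.standard _
  let _ : HasDerivedCategory (EtCoh.Ab Y) := HasDerivedCategory.standard _
  have hUA := Groth.Agent.Helper1.Adapted.UA_of_adapted (EtCoh.push f)
    (I := fun G : EtCoh.Ab X => CechAcyc (Cov X) G)
    (fun G => ⟨Injective.under G, Injective.ι G, acyc_injective _, inferInstance⟩)
    (fun S hS h₁ h₂ => ⟨acyc_X₃ (B X) (Cov X) h1 h2 S hS h₁ h₂, shortExact_push f S hS h₁⟩) F hF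
  rw [Groth.Agent.Helper1.Leray.UA_iff'] at hUA
  rw [Groth.Agent.Helper1.TBridge.isZero_rightDerived_iff]
  exact hUA.2 _ (by exact_mod_cast hn.ne')

end Groth.Agent.Helper4.EtPushAcyc
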