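import Mathlib
import Groth.Agent.Helper4.EtColimH

set_option autoImplicit false

/-!
# Torsion abelian étale sheaves are filtered colimits of sheaves killed by an integer;
cohomology of torsion sheaves on qcqs schemes is torsion
-/

universe w u

open CategoryTheory CategoryTheory.Limits AlgebraicGeometry Opposite CategoryTheory.Abelian

namespace Groth.Agent.Helper4.EtTorsion

section Ext

variable {𝒜 : Type*} [Category 𝒜] [Abelian 𝒜] [HasExt.{w} 𝒜]

lemma comp_mk₀_nsmul {A B C : 𝒜} {n : ℕ} (y : Ext.{w} A B n) (f : B ⟶ C) (k : ℕ) :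
    y.comp (Ext.mk₀ (k • f)) (add_zero n) = k • y.comp (Ext.mk₀ f) (add_zero n) := by
  induction k with
  | zero => rw [zero_smul, zero_smul, Ext.mk₀_zero, Ext.comp_zero]
  | succ k ih => rw [succ_nsmul, succ_nsmul, Ext.mk₀_add, Ext.comp_add, ih]

lemma nsmul_comp_mk₀ {A B C : 𝒜} {n : ℕ} (y : Ext.{w} A B n) (f : B ⟶ C) (k : ℕ) :
    (k • y).comp (Ext.mk₀ f) (add_zero n) = k • y.comp (Ext.mk₀ f) (add_zero n) :=
  map_nsmul ((Ext.mk₀ f).postcomp A (add_zero n)) k y

/-- a class with values in an object killed by `k` is killed by `k` -/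
lemma nsmul_eq_zero_of_killed {A B : 𝒜} {n : ℕ} (y : Ext.{w} A B n) (k : ℕ)
    (hk : k • 𝟙 B = 0) : k • y = 0 := by
  have h := comp_mk₀_nsmul y (𝟙 B) k
  rw [hk, Ext.mk₀_zero, Ext.comp_zero, Ext.comp_mk₀_id] at h
  exact h.symm

end Ext

/-- the integers `(m+1)!` -/
def N (m : ℕ) : ℕ := (m + 1).factorial

lemma N_dvd {m m' : ℕ} (h : m ≤ m') : N m ∣ N m' := Nat.factorial_dvd_factorial (by omega)

lemma dvd_N (k : ℕ) (hk : 0 < k) : k ∣ N k := Nat.dvd_factorial hk (by omega)

lemma N_pos (m : ℕ) : 0 < N m := Nat.factorial_pos _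

variable {X : Scheme.{u}} (F : EtCoh.Ab X)

/-- the subsheaf killed by `(m+1)!` -/
noncomputable abbrev K (m : ℕ) : EtCoh.Ab X := kernel (N m • 𝟙 F)

/-- the inclusion -/
noncomputable abbrev ι (m : ℕ) : K F m ⟶ F := kernel.ι _


lemma ι_mul (m k : ℕ) (h : N m ∣ k) : ι F m ≫ (k • 𝟙 F) = 0 := by
  obtain ⟨a, rfl⟩ := h
  have h0 : ι F m ≫ (N m • 𝟙 F) = 0 := kernel.condition _
  rw [mul_comm, mul_smul, Preadditive.comp_nsmul, h0, smul_zero]

lemma K_killed (m : ℕ) : N m • 𝟙 (K F m) = 0 := by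
  apply (cancel_mono (ι F m)).1
  rw [Preadditive.nsmul_comp, Category.id_comp, zero_comp]
  have h0 : ι F m ≫ (N m • 𝟙 F) = 0 := kernel.condition _
  rw [Preadditive.comp_nsmul, Category.comp_id] at h0
  exact h0

/-- the diagram of the subsheaves killed by `(m+1)!` -/
noncomputable def D₀ : ℕ ⥤ EtCoh.Ab X where
  obj m := K F m
  map {m m'} h := kernel.lift _ (ι F m) (ι_mul F m (N m') (N_dvd (leOfHom h)))
  map_id m := by
    apply (cancel_mono (kernel.ι _)).1
    rw [kernel.lift_ι, Category.id_comp]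
  map_comp f g := by
    apply (cancel_mono (kernel.ι _)).1
    rw [kernel.lift_ι, Category.assoc, kernel.lift_ι]
    exact (kernel.lift_ι _ _ _).symm

lemma D₀_map_ι {m m' : ℕ} (h : m ⟶ m') : (D₀ F).map h ≫ ι F m' = ι F m :=
  kernel.lift_ι _ _ _

/-- the diagram over a small filtered category in the universe of the sheaf category -/
noncomputable abbrev D : AsSmall.{u + 1} ℕ ⥤ EtCoh.Ab X := AsSmall.down ⋙ D₀ F

/-- the cocone of inclusions -/
noncomputable def c : Cocone (D F) where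
  pt := F
  ι := { app := fun l => ι F (AsSmall.down.obj l)
         naturality := fun l l' a => by
           dsimp
           rw [Category.comp_id]
           exact D₀_map_ι F _ }

instance : IsFiltered (AsSmall.{u + 1} ℕ) :=
  IsFiltered.of_equivalence (AsSmall.equiv : ℕ ≌ AsSmall.{u + 1} ℕ)

/-- the comparison morphism from the colimit -/
noncomputable def φ : colimit (D F) ⟶ F := colimit.desc (D F) (c F)

lemma ι_φ (l : AsSmall.{u + 1} ℕ) : colimit.ι (D F) l ≫ φ F = ι F (AsSmall.down.obj l) :=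
  colimit.ι_desc _ _

attribute [local instance] IsFiltered.isConnected in
instance : Mono (φ F) := by
  haveI : ∀ l, Mono ((c F).ι.app l) := fun l => by
    show Mono (ι F (AsSmall.down.obj l))
    infer_instance
  haveI : Mono (c F).ι := NatTrans.mono_of_mono_app _
  exact colim.map_mono' (c F).ι (colimit.isColimit (D F))
    (isColimitConstCocone (AsSmall.{u + 1} ℕ) F) (φ F) (fun l =>
      (ι_φ F l).trans (Category.comp_id _).symm)


/-- sections of `K F m` are the sections of `F` killed by `N m` -/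
lemma exists_section (m : ℕ) (V : X.Etale) (t : F.obj.obj (op V)) (ht : N m • t = 0) :
    ∃ t' : (K F m).obj.obj (op V), (ι F m).hom.app (op V) t' = t := by
  let Φ : EtCoh.Ab X ⥤ AddCommGrpCat.{u + 1} :=
    sheafToPresheaf X.smallEtaleTopology AddCommGrpCat.{u + 1} ⋙ (evaluation _ _).obj (op V)
  haveI : PreservesFiniteLimits (sheafToPresheaf X.smallEtaleTopology AddCommGrpCat.{u + 1}) :=
    ⟨fun K _ _ => (sheafificationAdjunction X.smallEtaleTopology
      AddCommGrpCat.{u + 1}).rightAdjoint_preservesLimits.1⟩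
  haveI : PreservesFiniteLimits Φ := by
    dsimp only [Φ]
    infer_instance
  haveI : Φ.Additive := by
    dsimp only [Φ]
    infer_instance
  let S : ShortComplex (EtCoh.Ab X) := ShortComplex.mk (ι F m) (N m • 𝟙 F) (kernel.condition _)
  have hS : S.Exact := ShortComplex.exact_of_f_is_kernel _ (kernelIsKernel _)
  have hS' : (S.map Φ).Exact :=
    hS.map_of_mono_of_preservesKernel Φ (by dsimp [S]; infer_instance) inferInstance
  rw [ShortComplex.ab_exact_iff] at hS'
  apply hS' t
  show (Φ.map (N m • 𝟙 F)) t = 0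
  rw [Functor.map_nsmul, CategoryTheory.Functor.map_id]
  exact ht

/-- the comparison morphism is an epimorphism for torsion sheaves -/
lemma epi_φ (hF : EtCoh.IsTorsion F) : Epi (φ F) := by
  haveI : Sheaf.IsLocallySurjective (φ F) := by
    constructor
    intro U s
    rw [Groth.Agent.Helper4.EtGeom.mem_iff]
    intro x
    obtain ⟨V, g, ⟨v, hv⟩, hfin⟩ := hF U s x
    obtain ⟨k, hk, hks⟩ := isOfFinAddOrder_iff_nsmul_eq_zero.1 hfin
    refine ⟨V, g, v, ?_, hv⟩
    have hN : N k • (F.obj.map g.op s) = 0 := by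
      obtain ⟨a, ha⟩ := dvd_N k hk
      rw [ha, mul_comm, mul_smul, hks, smul_zero]
    obtain ⟨t', ht'⟩ := exists_section F k V _ hN
    refine ⟨(colimit.ι (D F) (AsSmall.up.obj k)).hom.app (op V) t', ?_⟩
    have h1 : (colimit.ι (D F) (AsSmall.up.obj k)).hom ≫ (φ F).hom = (ι F k).hom := by
      rw [← ObjectProperty.FullSubcategory.comp_hom, ι_φ]
      rfl
    rw [← ConcreteCategory.comp_apply, ← NatTrans.comp_app, h1]
    exact ht'
  infer_instance

variable [CompactSpace X] [QuasiSeparatedSpace X]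

/-- cohomology classes of a torsion sheaf on a qcqs scheme are torsion -/
theorem torsion (hF : EtCoh.IsTorsion F) (n : ℕ) (x : EtCoh.H X F n) : IsOfFinAddOrder x := by
  haveI := epi_φ F hF
  haveI : IsIso (φ F) := isIso_of_mono_of_epi _
  obtain ⟨l, y, hy⟩ := (Groth.Agent.Helper4.EtColimH.hall X (AsSmall.{u + 1} ℕ) n (D F)).1
    (Groth.Agent.Helper6.CF.P _ (inv (φ F)) x)
  have hx : Groth.Agent.Helper6.CF.P (Groth.Agent.Helper4.EtColimH.Z X)
      (ι F (AsSmall.down.obj l)) y = x := by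
    have h := congrArg (Groth.Agent.Helper6.CF.P _ (φ F)) hy
    rw [Groth.Agent.Helper6.CF.P_comp, Groth.Agent.Helper6.CF.P_comp, IsIso.inv_hom_id, ι_φ] at h
    refine h.trans ?_
    unfold Groth.Agent.Helper6.CF.P
    rw [Ext.comp_mk₀_id]
  have hy0 : N (AsSmall.down.obj l) • (y : Abelian.Ext.{u + 1}
      (Groth.Agent.Helper4.EtColimH.Z X) (K F (AsSmall.down.obj l)) n) = 0 :=
    nsmul_eq_zero_of_killed _ _ (K_killed F _)
  rw [isOfFinAddOrder_iff_nsmul_eq_zero]
  refine ⟨N (AsSmall.down.obj l), N_pos _, ?_⟩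
  rw [← hx]
  refine (nsmul_comp_mk₀ (y : Abelian.Ext.{u + 1}
      (Groth.Agent.Helper4.EtColimH.Z X) (K F (AsSmall.down.obj l)) n)
    (ι F (AsSmall.down.obj l)) (N (AsSmall.down.obj l))).symm.trans ?_
  rw [hy0, Ext.zero_comp]

end Groth.Agent.Helper4.EtTorsion
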