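import Mathlib
import Groth.Prelude.Def_DerCA

/-!
# Contractibility lemmas for the extended alternating Čech complex
-/

set_option autoImplicit false

namespace Groth.Agent.Helper4.ExtCech

open CategoryTheory Limits Pretriangulated

universe u

variable {R : Type u} [CommRing R]

/-- Contractible complexes. -/
def Contractible (K : CochainComplex (ModuleCat.{u} R) ℤ) : Prop :=
  Nonempty (Homotopy (𝟙 K) 0)

theorem contractible_iff (K : CochainComplex (ModuleCat.{u} R) ℤ) :
    Contractible K ↔ IsZero ((HomotopyCategory.quotient _ _).obj K) :=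
  (HomotopyCategory.isZero_quotient_obj_iff K).symm

theorem contractible_mappingCone {K L : CochainComplex (ModuleCat.{u} R) ℤ} (φ : K ⟶ L)
    (h : IsIso ((HomotopyCategory.quotient _ _).map φ)) :
    Contractible (CochainComplex.mappingCone φ) := by
  rw [contractible_iff]
  have hT := HomotopyCategory.mappingCone_triangleh_distinguished φ
  exact (Triangle.isZero₃_iff_isIso₁ _ hT).mpr h

theorem contractible_shift (K : CochainComplex (ModuleCat.{u} R) ℤ) (n : ℤ)
    (h : Contractible K) : Contractible (K⟦n⟧) := by
  rw [contractible_iff] at h ⊢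
  have e := ((HomotopyCategory.quotient (ModuleCat.{u} R) (ComplexShape.up ℤ)).commShiftIso n).app K
  exact IsZero.of_iso ((shiftFunctor _ n).map_isZero h) e

theorem contractible_mappingCocone {K L : CochainComplex (ModuleCat.{u} R) ℤ} (φ : K ⟶ L)
    (h : IsIso ((HomotopyCategory.quotient _ _).map φ)) :
    Contractible (CochainComplex.mappingCocone φ) :=
  contractible_shift _ _ (contractible_mappingCone φ h)

theorem contractible_locCx (S : Submonoid R) (K : CochainComplex (ModuleCat.{u} R) ℤ)
    (h : Contractible K) : Contractible ((DerCA.locCx S).obj K) := by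
  obtain ⟨h⟩ := h
  have h' := (DerCA.locFunctor S).mapHomotopy h
  refine ⟨?_⟩
  have e1 : ((DerCA.locFunctor S).mapHomologicalComplex (ComplexShape.up ℤ)).map (𝟙 K) = 𝟙 _ :=
    CategoryTheory.Functor.map_id _ _
  have e2 : ((DerCA.locFunctor S).mapHomologicalComplex (ComplexShape.up ℤ)).map (0 : K ⟶ K) = 0 :=
    Functor.map_zero _ _ _
  exact (Homotopy.ofEq e1.symm).trans (h'.trans (Homotopy.ofEq e2))

theorem isIso_quotient_map_of_contractible {K L : CochainComplex (ModuleCat.{u} R) ℤ} (φ : K ⟶ L)
    (hK : Contractible K) (hL : Contractible L) :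
    IsIso ((HomotopyCategory.quotient _ _).map φ) := by
  rw [contractible_iff] at hK hL
  exact ⟨⟨0, hK.eq_of_src _ _, hL.eq_of_src _ _⟩⟩

theorem mkLinearMap_bijective_of_isUnit (f : R) (hf : IsUnit f) (M : Type u) [AddCommGroup M]
    [Module R M] :
    Function.Bijective (LocalizedModule.mkLinearMap (Submonoid.powers f) M) := by
  have hunit : ∀ s : Submonoid.powers f, IsUnit (s : R) := by
    rintro ⟨_, n, rfl⟩
    exact hf.pow n
  constructor
  · rw [injective_iff_map_eq_zero]
    intro m hm
    obtain ⟨s, hs⟩ := (IsLocalizedModule.eq_zero_iff (Submonoid.powers f)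
      (LocalizedModule.mkLinearMap (Submonoid.powers f) M)).mp hm
    obtain ⟨u, hu⟩ := hunit s
    have : u⁻¹.val • ((s : R) • m) = 0 := by rw [Submonoid.smul_def] at hs; rw [hs, smul_zero]
    rwa [← hu, smul_smul, Units.inv_mul, one_smul] at this
  · intro y
    obtain ⟨⟨m, s⟩, hms⟩ := IsLocalizedModule.surj (Submonoid.powers f)
      (LocalizedModule.mkLinearMap (Submonoid.powers f) M) y
    obtain ⟨u, hu⟩ := hunit s
    refine ⟨u⁻¹.val • m, ?_⟩
    rw [map_smul, ← hms]
    simp only [Submonoid.smul_def]
    rw [← hu, smul_smul, Units.inv_mul, one_smul]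

theorem isIso_locCxUnit_of_isUnit (f : R) (hf : IsUnit f)
    (K : CochainComplex (ModuleCat.{u} R) ℤ) :
    IsIso (DerCA.locCxUnit (Submonoid.powers f) K) := by
  have : ∀ i, IsIso ((DerCA.locCxUnit (Submonoid.powers f) K).f i) := by
    intro i
    exact (ConcreteCategory.isIso_iff_bijective _).mpr
      (mkLinearMap_bijective_of_isUnit f hf (K.X i))
  exact HomologicalComplex.Hom.isIso_of_components _

theorem contractible_extCech (M : ModuleCat.{u} R) (fs : List R) (hf : ∃ f ∈ fs, IsUnit f) :
    Contractible (DerCA.extCech M fs) := by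
  induction fs with
  | nil => obtain ⟨f, hf, -⟩ := hf; simp at hf
  | cons g fs ih =>
    show Contractible (CochainComplex.mappingCocone
      (DerCA.locCxUnit (Submonoid.powers g) (DerCA.extCech M fs)))
    by_cases hg : IsUnit g
    · apply contractible_mappingCocone
      have := isIso_locCxUnit_of_isUnit g hg (DerCA.extCech M fs)
      infer_instance
    · have hfs : ∃ f ∈ fs, IsUnit f := by
        obtain ⟨f, hf, hfu⟩ := hf
        rcases List.mem_cons.mp hf with rfl | h
        · exact absurd hfu hg
        · exact ⟨f, h, hfu⟩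
      have hK := ih hfs
      apply contractible_mappingCocone
      exact isIso_quotient_map_of_contractible _ hK (contractible_locCx _ _ hK)

end Groth.Agent.Helper4.ExtCech
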