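import Mathlib

set_option autoImplicit false
universe u

namespace Groth.Agent.Helper4.FEtLift

variable {S : Type u} [CommRing S] {S' : Type u} [CommRing S'] [Algebra S S']

/-- Lifting a ring map `w : S' → T` that is `S`-linear modulo a nilpotent ideal `N` to an honest
`S`-algebra map congruent to `w` mod `N`, for `S → S'` formally smooth. -/
theorem exists_lift [Algebra.FormallySmooth S S'] {T : Type u} [CommRing T] [Algebra S T]
    (N : Ideal T) (hN : IsNilpotent N) (w : S' →+* T)
    (hw : ∀ s, w (algebraMap S S' s) - algebraMap S T s ∈ N) :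
    ∃ v : S' →ₐ[S] T, ∀ s', v s' - w s' ∈ N := by
  let wbar : S' →ₐ[S] T ⧸ N :=
    { toRingHom := (Ideal.Quotient.mk N).comp w
      commutes' := by
        intro s
        change Ideal.Quotient.mk N (w (algebraMap S S' s)) = Ideal.Quotient.mk N (algebraMap S T s)
        rw [Ideal.Quotient.eq]
        exact hw s }
  refine ⟨Algebra.FormallySmooth.lift N hN wbar, fun s' => ?_⟩
  have := Algebra.FormallySmooth.mk_lift N hN wbar s'
  change _ = Ideal.Quotient.mk N (w s') at this
  rw [Ideal.Quotient.eq] at this
  exact this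

theorem lift_unique [Algebra.FormallyUnramified S S'] {T : Type u} [CommRing T] [Algebra S T]
    (N : Ideal T) (hN : IsNilpotent N) (v₁ v₂ : S' →ₐ[S] T) (h : ∀ s', v₁ s' - v₂ s' ∈ N) :
    v₁ = v₂ := by
  apply Algebra.FormallyUnramified.lift_unique N hN
  ext s'
  change Ideal.Quotient.mk N (v₁ s') = Ideal.Quotient.mk N (v₂ s')
  rw [Ideal.Quotient.eq]
  exact h s'

end Groth.Agent.Helper4.FEtLift
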