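import Mathlib

/-!
# Summands of finite free modules on a ringed site with terminal object vs finite projective
modules over the ring of global sections (helper4)
-/

set_option backward.isDefEq.respectTransparency false

namespace Groth.Agent.Helper4.FFSummand

open CategoryTheory CategoryTheory.Limits Opposite

universe v₁ v₂ u₁ u₂ w v' u'

section Abstract

variable {𝒜 : Type u₁} [Category.{v₁} 𝒜] [Preadditive 𝒜] {ℬ : Type u₂} [Category.{v₂} ℬ]
  [Preadditive ℬ] (G : 𝒜 ⥤ ℬ) [G.Additive]

/-- `P` is good for `G` if `G` is bijective on `Hom(P, -)`. -/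
def Good (P : 𝒜) : Prop := ∀ M : 𝒜, Function.Bijective (fun f : P ⟶ M => G.map f)

lemma good_of_retract {E P : 𝒜} (i : E ⟶ P) (p : P ⟶ E) (h : i ≫ p = 𝟙 E) (hP : Good G P) :
    Good G E := by
  intro M
  constructor
  · intro f g hfg
    have hfg' : G.map f = G.map g := hfg
    have : p ≫ f = p ≫ g := (hP M).1 (by
      change G.map (p ≫ f) = G.map (p ≫ g)
      rw [G.map_comp, G.map_comp, hfg'])
    calc f = (i ≫ p) ≫ f := by rw [h, Category.id_comp]
      _ = i ≫ p ≫ g := by rw [Category.assoc, this]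
      _ = g := by rw [← Category.assoc, h, Category.id_comp]
  · intro φ
    obtain ⟨ψ, hψ⟩ := (hP M).2 (G.map p ≫ φ)
    have hψ' : G.map ψ = G.map p ≫ φ := hψ
    refine ⟨i ≫ ψ, ?_⟩
    change G.map (i ≫ ψ) = φ
    rw [G.map_comp, hψ', ← Category.assoc, ← G.map_comp, h, G.map_id, Category.id_comp]

section Sigma

variable {I : Type w} [Fintype I] [DecidableEq I] (U : 𝒜) [HasCoproduct (fun _ : I => U)]

/-- the projections of a finite constant coproduct in a preadditive category -/
noncomputable def sigmaπ (i : I) : (∐ fun _ : I => U) ⟶ U :=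
  Sigma.desc (fun j => if j = i then 𝟙 U else 0)

lemma ι_sigmaπ (i j : I) :
    Sigma.ι (fun _ : I => U) j ≫ sigmaπ U i = if j = i then 𝟙 U else 0 := by
  simp [sigmaπ]

lemma sum_sigmaπ_ι : ∑ i : I, sigmaπ U i ≫ Sigma.ι (fun _ : I => U) i = 𝟙 _ := by
  apply Sigma.hom_ext
  intro j
  rw [Preadditive.comp_sum]
  simp_rw [← Category.assoc, ι_sigmaπ]
  rw [Finset.sum_eq_single j]
  · simp
  · intro b _ hb
    simp [Ne.symm hb]
  · simp

lemma good_sigma (hU : Good G U) : Good G (∐ fun _ : I => U) := by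
  intro M
  constructor
  · intro f g hfg
    have hfg' : G.map f = G.map g := hfg
    apply Sigma.hom_ext
    intro i
    apply (hU M).1
    change G.map (_ ≫ f) = G.map (_ ≫ g)
    rw [G.map_comp, G.map_comp, hfg']
  · intro φ
    choose ψ hψ using fun i : I => (hU M).2 (G.map (Sigma.ι (fun _ : I => U) i) ≫ φ)
    have hψ' : ∀ i, G.map (ψ i) = G.map (Sigma.ι (fun _ : I => U) i) ≫ φ := hψ
    refine ⟨Sigma.desc ψ, ?_⟩
    change G.map (Sigma.desc ψ) = φ
    have h1 : G.map (Sigma.desc ψ) =
        G.map ((∑ i : I, sigmaπ U i ≫ Sigma.ι (fun _ : I => U) i) ≫ Sigma.desc ψ) := by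
      rw [sum_sigmaπ_ι, Category.id_comp]
    rw [h1, Preadditive.sum_comp, G.map_sum]
    have h2 : ∀ i : I, G.map ((sigmaπ U i ≫ Sigma.ι (fun _ : I => U) i) ≫ Sigma.desc ψ) =
        G.map (sigmaπ U i ≫ Sigma.ι (fun _ : I => U) i) ≫ φ := by
      intro i
      rw [Category.assoc, Sigma.ι_desc, G.map_comp, hψ' i, G.map_comp, Category.assoc]
    simp_rw [h2]
    rw [← Preadditive.sum_comp, ← G.map_sum, sum_sigmaπ_ι, G.map_id, Category.id_comp]

end Sigma

lemma exists_retract_of_good [IsIdempotentComplete 𝒜] {P : 𝒜} (hP : Good G P) {Q M : ℬ}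
    (θ : G.obj P ≅ Q) (s : M ⟶ Q) (q : Q ⟶ M) (hsq : s ≫ q = 𝟙 M) :
    ∃ (E : 𝒜) (i : E ⟶ P) (p : P ⟶ E), i ≫ p = 𝟙 E ∧ Nonempty (G.obj E ≅ M) := by
  obtain ⟨ε, hε⟩ := (hP P).2 (θ.hom ≫ q ≫ s ≫ θ.inv)
  have hε' : G.map ε = θ.hom ≫ q ≫ s ≫ θ.inv := hε
  have hidem : ε ≫ ε = ε := by
    apply (hP P).1
    change G.map (ε ≫ ε) = G.map ε
    rw [G.map_comp, hε']
    simp only [Category.assoc, Iso.inv_hom_id_assoc]
    rw [reassoc_of% hsq]
  obtain ⟨E, i, p, h1, h2⟩ := IsIdempotentComplete.idempotents_split P ε hidem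
  refine ⟨E, i, p, h1, ⟨⟨G.map i ≫ θ.hom ≫ q, s ≫ θ.inv ≫ G.map p, ?_, ?_⟩⟩⟩
  · have : G.map i ≫ G.map ε ≫ G.map p = 𝟙 _ := by
      rw [← h2, ← G.map_comp, ← G.map_comp, Category.assoc, ← Category.assoc i p, h1,
        Category.id_comp, G.map_id]
    rw [hε'] at this
    simpa only [Category.assoc] using this
  · have : G.map p ≫ G.map i = θ.hom ≫ q ≫ s ≫ θ.inv := by
      rw [← G.map_comp, h2, hε']
    simp only [Category.assoc]
    rw [reassoc_of% this]
    simp only [Iso.inv_hom_id_assoc, Iso.inv_hom_id, Category.assoc]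
    rw [reassoc_of% hsq, hsq]

end Abstract

section ModuleCatLemma

lemma nonempty_iso_pi {A : Type w} [Ring A] {I : Type w} [Fintype I] [DecidableEq I]
    (N U' : ModuleCat.{w} A) (γ : U' ≅ ModuleCat.of A A) (ι : I → (U' ⟶ N)) (π : I → (N ⟶ U'))
    (h1 : ∀ i j, ι j ≫ π i = if j = i then 𝟙 U' else 0) (h2 : ∑ i, π i ≫ ι i = 𝟙 N) :
    Nonempty (N ≅ ModuleCat.of A (I → A)) := by
  refine ⟨⟨ModuleCat.ofHom (LinearMap.pi (fun i => (π i ≫ γ.hom).hom)),
    ModuleCat.ofHom (∑ i, (γ.inv ≫ ι i).hom ∘ₗ LinearMap.proj i), ?_, ?_⟩⟩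
  · ext x
    have := congrArg (fun f => f.hom x) h2
    simp only [ModuleCat.hom_sum, LinearMap.sum_apply] at this
    simp only [ModuleCat.hom_comp, ModuleCat.hom_ofHom, LinearMap.comp_apply,
      LinearMap.sum_apply, LinearMap.pi_apply, LinearMap.proj_apply, ModuleCat.hom_id,
      LinearMap.id_apply]
    simp only [ModuleCat.hom_id, LinearMap.id_apply] at this
    refine Eq.trans ?_ this
    refine Finset.sum_congr rfl (fun i _ => ?_)
    simp
  · apply ModuleCat.hom_ext
    apply LinearMap.ext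
    intro v
    funext i
    have h1' : ∀ (j : I) (y : U'), (π i).hom ((ι j).hom y) = if j = i then y else 0 := by
      intro j y
      have := congrArg (fun f => f.hom y) (h1 i j)
      simp only [ModuleCat.hom_comp, LinearMap.comp_apply] at this
      rw [this]
      split_ifs <;> simp
    simp only [ModuleCat.hom_comp, ModuleCat.hom_ofHom, LinearMap.comp_apply,
      LinearMap.sum_apply, LinearMap.pi_apply, LinearMap.proj_apply, ModuleCat.hom_id,
      LinearMap.id_apply, map_sum, h1']
    rw [Finset.sum_eq_single i]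
    · simp
    · intro b _ hb
      simp [hb]
    · simp

end ModuleCatLemma

section Site

variable {C : Type u'} [Category.{v'} C] {J : GrothendieckTopology C} (R : Sheaf J RingCat.{w})
  (X : C)

/-- evaluation at `X` of sheaves of modules -/
noncomputable abbrev ev : SheafOfModules.{w} R ⥤ ModuleCat.{w} (R.obj.obj (op X)) :=
  SheafOfModules.forget R ⋙ PresheafOfModules.evaluation R.obj (op X)

instance : (ev R X).Additive := by
  dsimp only [ev]
  infer_instance

variable {R X}

lemma good_unit (hX : IsTerminal X) : Good (ev R X) (SheafOfModules.unit R) := by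
  intro M
  constructor
  · intro f g hfg
    have hfg' : f.val.app (op X) = g.val.app (op X) := hfg
    apply M.unitHomEquiv.injective
    apply PresheafOfModules.sections_ext
    intro Y
    rw [SheafOfModules.unitHomEquiv_apply_coe, SheafOfModules.unitHomEquiv_apply_coe]
    have h1 : (1 : R.obj.obj Y) =
        (PresheafOfModules.unit R.obj).map (hX.from Y.unop).op (1 : R.obj.obj (op X)) :=
      (PresheafOfModules.unit_map_one R.obj _).symm
    rw [h1]
    erw [PresheafOfModules.naturality_apply f.val, PresheafOfModules.naturality_apply g.val]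
    rw [hfg']
  · intro φ
    let m : M.val.obj (op X) := φ.hom (1 : R.obj.obj (op X))
    let s : M.val.sections := PresheafOfModules.sectionsMk
      (fun Y => M.val.map (hX.from Y.unop).op m) (by
        intro Y Z g
        have : (hX.from Y.unop).op ≫ g = (hX.from Z.unop).op :=
          Quiver.Hom.unop_inj (hX.hom_ext _ _)
        rw [← this, PresheafOfModules.map_comp]
        rfl)
    refine ⟨M.unitHomEquiv.symm s, ?_⟩
    apply ModuleCat.hom_ext
    apply LinearMap.ext_ring
    have h1 := SheafOfModules.unitHomEquiv_apply_coe M (M.unitHomEquiv.symm s) (op X)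
    rw [Equiv.apply_symm_apply] at h1
    refine h1.symm.trans ?_
    change M.val.map (hX.from X).op m = m
    have : (hX.from X).op = 𝟙 (op X) := Quiver.Hom.unop_inj (hX.hom_ext _ _)
    rw [this, PresheafOfModules.map_id]
    rfl

variable [HasSheafify J AddCommGrpCat.{w}] [J.WEqualsLocallyBijective AddCommGrpCat.{w}]

lemma good_free (hX : IsTerminal X) (I : Type w) [Finite I] :
    Good (ev R X) (SheafOfModules.free (R := R) I) := by
  classical
  haveI := Fintype.ofFinite I
  exact good_sigma (ev R X) (SheafOfModules.unit R) (good_unit hX)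

variable (R X) in
lemma nonempty_ev_free_iso (I : Type w) [Finite I] :
    Nonempty ((ev R X).obj (SheafOfModules.free (R := R) I) ≅
      ModuleCat.of (R.obj.obj (op X)) (I → R.obj.obj (op X))) := by
  classical
  haveI := Fintype.ofFinite I
  refine nonempty_iso_pi _ ((ev R X).obj (SheafOfModules.unit R)) (Iso.refl _)
    (fun i => (ev R X).map (Sigma.ι (fun _ : I => SheafOfModules.unit R) i))
    (fun i => (ev R X).map (sigmaπ (SheafOfModules.unit R) i)) ?_ ?_
  · intro i j
    rw [← (ev R X).map_comp, ι_sigmaπ]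
    split_ifs
    · exact (ev R X).map_id _
    · exact (ev R X).map_zero _ _
  · simp_rw [← (ev R X).map_comp]
    rw [← (ev R X).map_sum, sum_sigmaπ_ι]
    exact (ev R X).map_id _

theorem bijective_of_summand (hX : IsTerminal X) {E : SheafOfModules.{w} R} (E' : SheafOfModules.{w} R)
    {I : Type w} [Finite I] (i : E ⟶ SheafOfModules.free (R := R) I)
    (p : SheafOfModules.free (R := R) I ⟶ E) (h : i ≫ p = 𝟙 E) :
    Function.Bijective (fun φ : E ⟶ E' => φ.val.app (op X)) :=
  good_of_retract (ev R X) i p h (good_free hX I) E'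

variable (X) in
theorem finite_projective_of_summand {E : SheafOfModules.{w} R}
    {I : Type w} [Finite I] (i : E ⟶ SheafOfModules.free (R := R) I)
    (p : SheafOfModules.free (R := R) I ⟶ E) (h : i ≫ p = 𝟙 E) :
    Module.Finite (R.obj.obj (op X)) (E.val.obj (op X)) ∧
      Module.Projective (R.obj.obj (op X)) (E.val.obj (op X)) := by
  obtain ⟨θ⟩ := nonempty_ev_free_iso R X I
  let a : E.val.obj (op X) →ₗ[R.obj.obj (op X)] (I → R.obj.obj (op X)) :=
    ((ev R X).map i ≫ θ.hom).hom
  let b : (I → R.obj.obj (op X)) →ₗ[R.obj.obj (op X)] E.val.obj (op X) :=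
    (θ.inv ≫ (ev R X).map p).hom
  have hba : b ∘ₗ a = LinearMap.id := by
    have : ((ev R X).map i ≫ θ.hom) ≫ (θ.inv ≫ (ev R X).map p) = 𝟙 _ := by
      rw [Category.assoc, Iso.hom_inv_id_assoc, ← (ev R X).map_comp, h, (ev R X).map_id]
    exact congrArg ModuleCat.Hom.hom this
  have hsurj : Function.Surjective b := fun x => ⟨a x, LinearMap.congr_fun hba x⟩
  haveI : Finite I := inferInstance
  exact ⟨Module.Finite.of_surjective b hsurj, Module.Projective.of_split a b hba⟩

theorem exists_summand (hX : IsTerminal X) (M : ModuleCat.{w} (R.obj.obj (op X)))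
    [Module.Finite (R.obj.obj (op X)) M] [Module.Projective (R.obj.obj (op X)) M] :
    ∃ (n : ℕ) (E : SheafOfModules.{w} R)
      (i : E ⟶ SheafOfModules.free (R := R) (ULift.{w} (Fin n)))
      (p : SheafOfModules.free (R := R) (ULift.{w} (Fin n)) ⟶ E), i ≫ p = 𝟙 E ∧
        Nonempty (E.val.obj (op X) ≅ M) := by
  obtain ⟨n, f, g, -, -, hfg⟩ :=
    Module.Finite.exists_comp_eq_id_of_projective (R.obj.obj (op X)) M
  obtain ⟨θ⟩ := nonempty_ev_free_iso R X (ULift.{w} (Fin n))
  let κ : (Fin n → R.obj.obj (op X)) ≃ₗ[R.obj.obj (op X)] (ULift.{w} (Fin n) → R.obj.obj (op X)) :=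
    LinearEquiv.funCongrLeft (R.obj.obj (op X)) (R.obj.obj (op X)) Equiv.ulift
  let s : M ⟶ ModuleCat.of (R.obj.obj (op X)) (ULift.{w} (Fin n) → R.obj.obj (op X)) :=
    ModuleCat.ofHom (κ.toLinearMap ∘ₗ g)
  let q : ModuleCat.of (R.obj.obj (op X)) (ULift.{w} (Fin n) → R.obj.obj (op X)) ⟶ M :=
    ModuleCat.ofHom (f ∘ₗ κ.symm.toLinearMap)
  have hsq : s ≫ q = 𝟙 M := by
    apply ModuleCat.hom_ext
    apply LinearMap.ext
    intro x
    have := LinearMap.congr_fun hfg x
    simpa [s, q] using this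
  obtain ⟨E, i, p, h, ⟨e⟩⟩ := exists_retract_of_good (ev R X)
    (good_free hX (ULift.{w} (Fin n))) θ s q hsq
  exact ⟨n, E, i, p, h, ⟨e⟩⟩

end Site

end Groth.Agent.Helper4.FFSummand
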