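import Mathlib

/-!
# Descent of a finite presentation of an algebra along a ring map, given lifts of the relations;
and common stages in filtered colimits of commutative rings.
-/

set_option autoImplicit false

namespace Groth.Agent.Helper4.FPAlgDescent

open TensorProduct CategoryTheory CategoryTheory.Limits

section Generic

variable {R A : Type*} [CommRing R] [CommRing A] [Algebra R A]

theorem span_eq {n : ℕ} {κ : Type*} (q : κ → MvPolynomial (Fin n) A)
    (w : κ → MvPolynomial (Fin n) R)
    (hw : ∀ k, MvPolynomial.map (algebraMap R A) (w k) = q k) :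
    Ideal.span (Set.range q) =
      ((Ideal.span (Set.range w)).map (Algebra.TensorProduct.includeRight
        (R := R) (A := A) (B := MvPolynomial (Fin n) R))).map
        (MvPolynomial.algebraTensorAlgEquiv (σ := Fin n) R A) := by
  rw [Ideal.map_span, Ideal.map_span]
  congr 1
  ext p
  constructor
  · rintro ⟨k, rfl⟩
    refine ⟨_, ⟨w k, ⟨k, rfl⟩, rfl⟩, ?_⟩
    simp [hw]
  · rintro ⟨_, ⟨_, ⟨k, rfl⟩, rfl⟩, rfl⟩
    exact ⟨k, by simp [hw]⟩

theorem nonempty_algEquiv {n : ℕ} {κ : Type*} (q : κ → MvPolynomial (Fin n) A)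
    (w : κ → MvPolynomial (Fin n) R)
    (hw : ∀ k, MvPolynomial.map (algebraMap R A) (w k) = q k) :
    Nonempty ((MvPolynomial (Fin n) A ⧸ Ideal.span (Set.range q)) ≃ₐ[A]
      A ⊗[R] (MvPolynomial (Fin n) R ⧸ Ideal.span (Set.range w))) := by
  refine ⟨AlgEquiv.symm ?_⟩
  refine (Algebra.TensorProduct.tensorQuotientEquiv A (MvPolynomial (Fin n) R) A
    (Ideal.span (Set.range w))).trans ?_
  exact Ideal.quotientEquivAlg _ _ (MvPolynomial.algebraTensorAlgEquiv (σ := Fin n) R A)
    (span_eq q w hw)

theorem finitePresentation_quot {n : ℕ} {κ : Type*} [Finite κ]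
    (w : κ → MvPolynomial (Fin n) R) :
    Algebra.FinitePresentation R (MvPolynomial (Fin n) R ⧸ Ideal.span (Set.range w)) :=
  Algebra.FinitePresentation.quotient (Submodule.fg_span (Set.finite_range w))

end Generic

section Filtered

universe u

variable {I : Type u} [SmallCategory I] [IsFiltered I] (D : I ⥤ CommRingCat.{u}) (c : Cocone D)

theorem range_mono {i k : I} (g : i ⟶ k) :
    Set.range (c.ι.app i).hom ⊆ Set.range (c.ι.app k).hom := by
  rintro _ ⟨x, rfl⟩
  refine ⟨(D.map g).hom x, ?_⟩
  have := c.w g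
  rw [← this]
  rfl

variable {D c}

theorem exists_rep (hc : IsColimit c) (a : c.pt) : ∃ i, a ∈ Set.range (c.ι.app i).hom := by
  obtain ⟨i, x, hx⟩ := Concrete.isColimit_exists_rep D hc a
  exact ⟨i, x, hx⟩

theorem exists_common (hc : IsColimit c) (S : Finset c.pt) :
    ∃ i, (S : Set c.pt) ⊆ Set.range (c.ι.app i).hom := by
  classical
  induction S using Finset.induction_on with
  | empty => exact ⟨IsFiltered.nonempty.some, by simp⟩
  | insert a S _ ih =>
    obtain ⟨i, hi⟩ := ih
    obtain ⟨j, hj⟩ := exists_rep hc a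
    refine ⟨IsFiltered.max j i, ?_⟩
    intro b hb
    rw [Finset.coe_insert, Set.mem_insert_iff] at hb
    rcases hb with rfl | hb
    · exact range_mono D c (IsFiltered.leftToMax j i) hj
    · exact range_mono D c (IsFiltered.rightToMax j i) (hi hb)

theorem zero_exact (hc : IsColimit c) {i : I} (x : D.obj i) (hx : (c.ι.app i).hom x = 0) :
    ∃ (k : I) (g : i ⟶ k), (D.map g).hom x = 0 := by
  have h : (ConcreteCategory.hom (c.ι.app i)) x = (ConcreteCategory.hom (c.ι.app i)) (0 : D.obj i) := by
    rw [map_zero]; exact hx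
  obtain ⟨k, f, g, hfg⟩ := Concrete.isColimit_exists_of_rep_eq D hc x 0 h
  refine ⟨k, f, ?_⟩
  rw [map_zero] at hfg
  exact hfg

theorem ι_map (c : Cocone D) {i k : I} (g : i ⟶ k) (x : D.obj i) :
    (c.ι.app k).hom ((D.map g).hom x) = (c.ι.app i).hom x := by
  have := c.w g
  rw [← this]
  rfl

end Filtered

end Groth.Agent.Helper4.FPAlgDescent
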