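import Mathlib

/-!
# Finitely presented modules over `S⁻¹(R/I)` come from finitely presented `R`-modules
-/

set_option autoImplicit false

namespace Groth.Agent.Helper4.FPQuotLoc

universe u

variable (R : Type u) [CommRing R] (I : Ideal R)

/-- reduction mod `I` of a quotient of `Rⁿ` -/
theorem quot_bijective (n r : ℕ) (v : Fin r → (Fin n → R)) :
    ∃ q : ((Fin n → R) ⧸ Submodule.span R (Set.range v)) ⧸
        (I • ⊤ : Submodule R ((Fin n → R) ⧸ Submodule.span R (Set.range v))) →ₗ[R]
        (Fin n → R ⧸ I) ⧸ Submodule.span (R ⧸ I)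
          (Set.range fun i => (fun l => Ideal.Quotient.mk I (v i l))),
      Function.Bijective q := by
  classical
  set V : Submodule R (Fin n → R) := Submodule.span R (Set.range v) with hV
  set vb : Fin r → (Fin n → R ⧸ I) := fun i => (fun l => Ideal.Quotient.mk I (v i l)) with hvb
  set Kb : Submodule (R ⧸ I) (Fin n → R ⧸ I) := Submodule.span (R ⧸ I) (Set.range vb) with hKb
  let π : (Fin n → R) →ₗ[R] (Fin n → R ⧸ I) := (Submodule.mkQ I).compLeft (Fin n)
  have hπ : ∀ w l, π w l = Ideal.Quotient.mk I (w l) := fun w l => rfl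
  have hπsurj : Function.Surjective π := by
    intro y
    refine ⟨fun l => (Ideal.Quotient.mk_surjective (y l)).choose, funext fun l => ?_⟩
    exact (Ideal.Quotient.mk_surjective (y l)).choose_spec
  let q₁ : (Fin n → R) →ₗ[R] (Fin n → R ⧸ I) ⧸ Kb := (Kb.mkQ.restrictScalars R) ∘ₗ π
  have hq₁surj : Function.Surjective q₁ := (Submodule.mkQ_surjective Kb).comp hπsurj
  have hVq₁ : V ≤ LinearMap.ker q₁ := by
    rw [hV, Submodule.span_le]
    rintro _ ⟨i, rfl⟩
    show Kb.mkQ (π (v i)) = 0
    rw [Submodule.mkQ_apply, Submodule.Quotient.mk_eq_zero]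
    exact Submodule.subset_span ⟨i, rfl⟩
  let q₂ : (Fin n → R) ⧸ V →ₗ[R] (Fin n → R ⧸ I) ⧸ Kb := V.liftQ q₁ hVq₁
  have hIq₂ : (I • ⊤ : Submodule R ((Fin n → R) ⧸ V)) ≤ LinearMap.ker q₂ := by
    rw [Submodule.smul_le]
    intro a ha m _
    rw [LinearMap.mem_ker, map_smul]
    have : a • q₂ m = (Ideal.Quotient.mk I a) • q₂ m := rfl
    rw [this, Ideal.Quotient.eq_zero_iff_mem.mpr ha, zero_smul]
  refine ⟨(I • ⊤ : Submodule R ((Fin n → R) ⧸ V)).liftQ q₂ hIq₂, ?_, ?_⟩
  · rw [injective_iff_map_eq_zero]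
    intro x hx
    obtain ⟨x, rfl⟩ := Submodule.Quotient.mk_surjective _ x
    obtain ⟨w, rfl⟩ := Submodule.Quotient.mk_surjective _ x
    have hq : q₁ w = 0 := hx
    have hmem : π w ∈ Kb := by
      have : Kb.mkQ (π w) = 0 := hq
      rwa [Submodule.mkQ_apply, Submodule.Quotient.mk_eq_zero] at this
    rw [hKb, Submodule.mem_span_range_iff_exists_fun] at hmem
    obtain ⟨cb, hcb⟩ := hmem
    have hc : ∀ i, ∃ c : R, Ideal.Quotient.mk I c = cb i := fun i =>
      Ideal.Quotient.mk_surjective _
    choose c hc using hc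
    set w' : Fin n → R := w - ∑ i, c i • v i with hw'
    have hw'I : ∀ l, w' l ∈ I := by
      intro l
      rw [← Ideal.Quotient.eq_zero_iff_mem, ← hπ, hw', map_sub, map_sum, ← hcb]
      have : ∀ i, π (c i • v i) = cb i • vb i := by
        intro i
        funext l'
        rw [hπ, Pi.smul_apply, Pi.smul_apply, smul_eq_mul, map_mul, hc, smul_eq_mul]
      simp only [this, sub_self, Pi.zero_apply]
    have hw'sum : w' = ∑ l, w' l • (Pi.single l (1 : R) : Fin n → R) := by
      funext l
      simp [Finset.sum_apply, Pi.single_apply]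
    have h1 : (Submodule.Quotient.mk w : (Fin n → R) ⧸ V) = Submodule.Quotient.mk w' := by
      rw [Submodule.Quotient.eq, hw', sub_sub_cancel]
      exact V.sum_mem fun i _ => V.smul_mem _ (Submodule.subset_span ⟨i, rfl⟩)
    rw [Submodule.Quotient.mk_eq_zero, h1, hw'sum]
    have h2 : (Submodule.Quotient.mk (∑ l, w' l • (Pi.single l (1 : R) : Fin n → R)) :
        (Fin n → R) ⧸ V) = ∑ l, w' l • Submodule.Quotient.mk (Pi.single l (1 : R) : Fin n → R) := by
      rw [← Submodule.mkQ_apply, map_sum]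
      simp only [map_smul, Submodule.mkQ_apply]
    rw [h2]
    exact Submodule.sum_mem _ fun l _ => Submodule.smul_mem_smul (hw'I l) Submodule.mem_top
  · intro y
    obtain ⟨w, rfl⟩ := hq₁surj y
    exact ⟨Submodule.Quotient.mk (Submodule.Quotient.mk w), rfl⟩

theorem main (Sb : Submonoid (R ⧸ I)) (M' : Type u) [AddCommGroup M']
    [Module (Localization Sb) M']
    [Module.FinitePresentation (Localization Sb) M'] :
    ∃ (M : Type u) (_ : AddCommGroup M) (_ : Module R M), Module.FinitePresentation R M ∧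
      Nonempty (LocalizedModule Sb (M ⧸ (I • ⊤ : Submodule R M))
        ≃ₗ[Localization Sb] M') := by
  classical
  obtain ⟨n, K, e, hK⟩ := Module.FinitePresentation.exists_fin (Localization Sb) M'
  obtain ⟨r, k, hk⟩ := Submodule.fg_iff_exists_fin_generating_family.mp hK
  let ψ : (Fin n → R ⧸ I) →ₗ[R ⧸ I] (Fin n → Localization Sb) :=
    LinearMap.pi fun i => Algebra.linearMap (R ⧸ I) (Localization Sb) ∘ₗ LinearMap.proj i
  haveI : IsLocalizedModule Sb ψ := IsLocalizedModule.pi Sb _
  have hnum : ∀ i : Fin r, ∃ (v : Fin n → R) (t : Sb),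
      t • k i = ψ (fun l => Ideal.Quotient.mk I (v l)) := fun i => by
    obtain ⟨⟨vb, t⟩, h⟩ := IsLocalizedModule.surj Sb ψ (k i)
    refine ⟨fun l => (Ideal.Quotient.mk_surjective (vb l)).choose, t, ?_⟩
    have : (fun l => Ideal.Quotient.mk I ((Ideal.Quotient.mk_surjective (vb l)).choose)) = vb :=
      funext fun l => (Ideal.Quotient.mk_surjective (vb l)).choose_spec
    rw [this]
    exact h
  choose v t htk using hnum
  set vb : Fin r → (Fin n → R ⧸ I) := fun i => (fun l => Ideal.Quotient.mk I (v i l)) with hvbdef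
  obtain ⟨q, hq⟩ := quot_bijective R I n r v
  let Kb : Submodule (R ⧸ I) (Fin n → R ⧸ I) := Submodule.span (R ⧸ I) (Set.range vb)
  have hKb : Kb = Submodule.span (R ⧸ I) (Set.range vb) := rfl
  have hKloc : Kb.localized' (Localization Sb) Sb ψ = K := by
    rw [Submodule.localized'_eq_span, ← hk]
    apply le_antisymm
    · rw [Submodule.span_le]
      rintro _ ⟨x, hx, rfl⟩
      have hle : Kb ≤ Submodule.comap ψ
          ((Submodule.span (Localization Sb) (Set.range k)).restrictScalars (R ⧸ I)) := by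
        rw [hKb, Submodule.span_le]
        rintro _ ⟨i, rfl⟩
        show ψ (vb i) ∈ Submodule.span (Localization Sb) (Set.range k)
        rw [← htk i]
        have : (t i • k i) = (algebraMap (R ⧸ I) (Localization Sb) (t i : R ⧸ I)) • k i := by
          rw [algebraMap_smul]; rfl
        rw [this]
        exact Submodule.smul_mem _ _ (Submodule.subset_span ⟨i, rfl⟩)
      exact hle hx
    · rw [Submodule.span_le]
      rintro _ ⟨i, rfl⟩
      obtain ⟨u, hu⟩ := IsLocalization.map_units (Localization Sb) (t i)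
      have h1 : (u : Localization Sb) • k i = ψ (vb i) := by
        rw [hu, algebraMap_smul, ← htk i]; rfl
      have h2 : k i = (↑(u⁻¹) : Localization Sb) • ψ (vb i) := by
        rw [← h1, smul_smul, Units.inv_mul, one_smul]
      rw [h2]
      exact Submodule.smul_mem _ _
        (Submodule.subset_span ⟨vb i, Submodule.subset_span ⟨i, rfl⟩, rfl⟩)
  refine ⟨(Fin n → R) ⧸ Submodule.span R (Set.range v), inferInstance, inferInstance, ?_, ?_⟩
  · refine Module.finitePresentation_of_free_of_surjective (Submodule.mkQ _)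
      (Submodule.mkQ_surjective _) ?_
    rw [Submodule.ker_mkQ]
    exact Submodule.fg_span (Set.finite_range v)
  · -- the R/I-linear equivalence
    let e₅R := LinearEquiv.ofBijective q hq
    let e₅ : (((Fin n → R) ⧸ Submodule.span R (Set.range v)) ⧸
        (I • ⊤ : Submodule R ((Fin n → R) ⧸ Submodule.span R (Set.range v)))) ≃ₗ[R ⧸ I]
        ((Fin n → R ⧸ I) ⧸ Kb) :=
      e₅R.extendScalarsOfSurjective Ideal.Quotient.mk_surjective
    let h := (Kb.toLocalizedQuotient' (Localization Sb) Sb ψ) ∘ₗ e₅.toLinearMap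
    haveI : IsLocalizedModule Sb h := inferInstance
    let iso := IsLocalizedModule.iso Sb h
    let iso' := iso.extendScalarsOfIsLocalization Sb (Localization Sb)
    exact ⟨iso' ≪≫ₗ Submodule.quotEquivOfEq _ _ hKloc ≪≫ₗ e.symm⟩

end Groth.Agent.Helper4.FPQuotLoc
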