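import Mathlib
import Groth.Prelude.Def_CohDer
import Groth.Agent.Helper1.Compact

/-! Finite support of maps `K ⟶ Φ(∐ X)` for a functor `Φ`, and its transfer along adjunctions,
natural isomorphisms and isomorphisms of the source. -/

set_option autoImplicit false
set_option linter.unusedSectionVars false

namespace Groth.Agent.Helper4.FSTrans
open CategoryTheory Limits CohDer Groth.Agent.Helper1.Compact

universe v u₁ u₂ u₃

variable {S : Type u₁} [Category.{v} S] [Preadditive S] {ι : Type v} (X : ι → S) [HasCoproduct X]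

/-- complementary projection -/
noncomputable def Pm (T : Finset ι) : (∐ X) ⟶ ∐ X := 𝟙 _ - proj X T

open scoped Classical in
lemma Pm_comp (A B : Finset ι) : Pm X A ≫ Pm X B = Pm X (A ∪ B) := one_sub_proj_comp X A B

variable {T' : Type u₂} [Category.{v} T'] [Preadditive T']

/-- every map `K ⟶ Φ(∐ X)` is killed by some `Φ(Pm T)` -/
def FS (K : T') (Φ : S ⥤ T') : Prop :=
  ∀ χ : K ⟶ Φ.obj (∐ X), ∃ T : Finset ι, χ ≫ Φ.map (Pm X T) = 0

variable {X}

lemma FS.of_natIso {K : T'} {Φ Φ' : S ⥤ T'} (e : Φ ≅ Φ') (h : FS X K Φ) : FS X K Φ' := by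
  intro χ
  obtain ⟨T, hT⟩ := h (χ ≫ e.inv.app _)
  refine ⟨T, ?_⟩
  have h1 : χ ≫ Φ'.map (Pm X T) = (χ ≫ e.inv.app _ ≫ Φ.map (Pm X T)) ≫ e.hom.app _ := by
    rw [Category.assoc, Category.assoc, e.hom.naturality, Iso.inv_hom_id_app_assoc]
  rw [h1, ← Category.assoc χ, hT, zero_comp]

lemma FS.of_iso {K K' : T'} {Φ : S ⥤ T'} (e : K ≅ K') (h : FS X K Φ) : FS X K' Φ := by
  intro χ
  obtain ⟨T, hT⟩ := h (e.hom ≫ χ)
  refine ⟨T, ?_⟩
  rw [← cancel_epi e.hom, ← Category.assoc, hT, comp_zero]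

/-- transfer along an adjunction -/
lemma FS.of_adj {T'' : Type u₃} [Category.{v} T''] [Preadditive T''] {L : T'' ⥤ T'} {Rr : T' ⥤ T''}
    (adj : L ⊣ Rr) [L.PreservesZeroMorphisms] {K : T''} {Φ : S ⥤ T'}
    (h : FS X (L.obj K) Φ) : FS X K (Φ ⋙ Rr) := by
  intro χ
  obtain ⟨T, hT⟩ := h ((adj.homEquiv K _).symm χ)
  refine ⟨T, ?_⟩
  apply (adj.homEquiv K _).symm.injective
  rw [Functor.comp_map, Adjunction.homEquiv_naturality_right_symm, hT,
    Adjunction.homEquiv_counit, Functor.map_zero, zero_comp]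

open scoped Classical in
/-- base case: a compact object and a coproduct-preserving additive functor -/
lemma FS.of_compact [HasCoproducts.{v} T'] {K : T'} (hK : IsCompactObject K) (Ψ : S ⥤ T')
    [Ψ.Additive] [IsIso (sigmaComparison Ψ X)] : FS X K Ψ := by
  intro χ
  obtain ⟨T, hT⟩ := exists_one_sub_proj_comp_eq_zero hK (fun i => Ψ.obj (X i))
    (χ ≫ inv (sigmaComparison Ψ X))
  refine ⟨T, ?_⟩
  have h0 : sigmaComparison Ψ X ≫ Ψ.map (proj X T) =
      proj (fun i => Ψ.obj (X i)) T ≫ sigmaComparison Ψ X := by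
    apply Sigma.hom_ext
    intro i
    rw [ι_comp_sigmaComparison_assoc, ← Ψ.map_comp, ι_proj, ι_proj_assoc]
    split_ifs
    · rw [ι_comp_sigmaComparison]
    · rw [Ψ.map_zero, zero_comp]
  have h1 : sigmaComparison Ψ X ≫ Ψ.map (Pm X T) =
      (𝟙 _ - proj (fun i => Ψ.obj (X i)) T) ≫ sigmaComparison Ψ X := by
    unfold Pm
    rw [Functor.map_sub, CategoryTheory.Functor.map_id, Preadditive.comp_sub,
      Preadditive.sub_comp, Category.comp_id, Category.id_comp, h0]
  have h2 : Ψ.map (Pm X T) =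
      inv (sigmaComparison Ψ X) ≫ (𝟙 _ - proj (fun i => Ψ.obj (X i)) T) ≫
        sigmaComparison Ψ X := by
    rw [← h1, IsIso.inv_hom_id_assoc]
  rw [h2, ← Category.assoc, ← Category.assoc, hT, zero_comp]

end Groth.Agent.Helper4.FSTrans
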