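import Groth.Agent.Helper4.GGQAff
import Groth.Agent.Helper4.SubExt3
import Mathlib

set_option autoImplicit false
universe u
open CategoryTheory CategoryTheory.Limits AlgebraicGeometry Opposite TopologicalSpace

namespace Groth.Agent.Helper4.FTIdeal

open Groth.Agent.Helper4.GenLoc Groth.Agent.Helper4.GGSec Groth.Agent.Helper4.AmpleIso
  Groth.Agent.Helper4.StalkExact Groth.Agent.Helper4.QAffSec Groth.Agent.Helper4.TensorInv

variable {X : Scheme.{u}}

/-- the ideal module of the reduced closed complement of an open `U`, with monomorphy recorded -/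
theorem exists_ideal_module_mono (U : X.Opens) :
    ∃ (J : X.Modules) (ιJ : J ⟶ Coh.structureModule X), Mono ιJ ∧ J.IsQuasicoherent ∧
      (∀ V : X.Opens, V ≤ U → Function.Bijective (ιJ.app V)) ∧
      (∀ (m : Γ(J, ⊤)), X.basicOpen (toFn (ιJ.app ⊤ m)) ≤ U) := by
  let Z : Closeds X := ⟨(U : Set X)ᶜ, U.isOpen.isClosed_compl⟩
  let I := Scheme.IdealSheafData.vanishingIdeal Z
  have hsupp : (I.support : Set X) = (U : Set X)ᶜ := Scheme.IdealSheafData.coe_support_vanishingIdeal Z
  let φ := ClSub.toSubscheme I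
  haveI : (Coh.structureModule X).IsQuasicoherent :=
    isQuasicoherent_of_isInvertible _ isInvertible_structureModule
  haveI : (Coh.structureModule I.subscheme).IsQuasicoherent :=
    isQuasicoherent_of_isInvertible _ isInvertible_structureModule
  haveI : ((Scheme.Modules.pushforward I.subschemeι).obj
      (Coh.structureModule I.subscheme)).IsQuasicoherent :=
    QcohGlue.isQuasicoherent_pushforward I.subschemeι _
  have hex : (ShortComplex.mk (kernel.ι φ) φ (kernel.condition φ)).Exact :=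
    ShortComplex.exact_of_f_is_kernel _ (kernelIsKernel φ)
  refine ⟨kernel φ, kernel.ι φ, inferInstance, QcohLimits.isQuasicoherent_kernel φ, ?_, ?_⟩
  · intro V hV
    refine ⟨AffineDict.app_injective_of_mono (kernel.ι φ) V, ?_⟩
    intro r
    have hempty : I.subschemeι ⁻¹ᵁ V = ⊥ := by
      ext z
      simp only [Opens.coe_bot, Set.mem_empty_iff_false, iff_false]
      intro hz
      have h1 : I.subschemeι z ∈ (I.support : Set X) := by
        rw [← Scheme.IdealSheafData.range_subschemeι]; exact ⟨z, rfl⟩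
      rw [hsupp] at h1
      exact h1 (hV hz)
    have hzero : φ.app V r = 0 := by
      have : Subsingleton Γ(I.subscheme, I.subschemeι ⁻¹ᵁ V) := by rw [hempty]; infer_instance
      exact Subsingleton.elim (α := Γ(I.subscheme, I.subschemeι ⁻¹ᵁ V)) _ _
    exact (app_exact _ hex V r).mp hzero
  · intro m y hy
    by_contra hyU
    have hyZ : y ∈ (I.support : Set X) := by rw [hsupp]; exact hyU
    rw [← Scheme.IdealSheafData.range_subschemeι] at hyZ
    obtain ⟨z, rfl⟩ := hyZ
    have h0 : φ.app ⊤ ((kernel.ι φ).app ⊤ m) = 0 := by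
      change ((kernel.ι φ) ≫ φ).app ⊤ m = 0
      rw [kernel.condition]; rfl
    have h1 : I.subschemeι.app ⊤ (toFn ((kernel.ι φ).app ⊤ m)) = 0 := h0
    have h2 : z ∈ I.subschemeι ⁻¹ᵁ X.basicOpen (toFn ((kernel.ι φ).app ⊤ m)) := hy
    rw [Scheme.preimage_basicOpen, h1, Scheme.basicOpen_zero] at h2
    exact h2

/-- a finite type quasi-coherent ideal which is the unit ideal over a given quasi-compact open `U`
and whose global sections vanish outside `U` -/
theorem exists_ft_ideal_module [CompactSpace X] [QuasiSeparatedSpace X] (U : X.Opens)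
    (hU : IsCompact (U : Set X)) :
    ∃ (G : X.Modules) (ιG : G ⟶ Coh.structureModule X), Mono ιG ∧ G.IsQuasicoherent ∧
      SheafOfModules.IsFiniteType (R := X.ringCatSheaf) G ∧
      (∀ V : X.Opens, V ≤ U → Function.Bijective (ιG.app V)) ∧
      (∀ (m : Γ(G, ⊤)), X.basicOpen (toFn (ιG.app ⊤ m)) ≤ U) := by
  obtain ⟨J, ιJ, hmono, hJq, hbij, hle⟩ := exists_ideal_module_mono U
  obtain ⟨s, hs⟩ := (hbij U le_rfl).2 (one X U)
  obtain ⟨G, i, hi, hGq, hGft, g, hg⟩ := SubExt.exists_submodule_through_section J U hU s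
  haveI := hi
  haveI := hmono
  haveI : Mono (i ≫ ιJ) := mono_comp i ιJ
  have hg' : (i ≫ ιJ).app U g = one X U := by
    change ιJ.app U (i.app U g) = one X U
    have : i.app U g = s := hg
    rw [this, hs]
  refine ⟨G, i ≫ ιJ, inferInstance, hGq, hGft, ?_, ?_⟩
  · intro V hV
    refine ⟨AffineDict.app_injective_of_mono (i ≫ ιJ) V, ?_⟩
    intro r
    refine ⟨toFn r • G.presheaf.map (homOfLE hV).op g, ?_⟩
    rw [Scheme.Modules.Hom.app_smul, app_res, hg']
    have h1 : (Coh.structureModule X).presheaf.map (homOfLE hV).op (one X U) = one X V :=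
      map_one (X.presheaf.map (homOfLE hV).op).hom
    rw [h1]
    exact mul_one (toFn r)
  · intro m
    exact hle (i.app ⊤ m)

/-- S4408 -/
theorem isQuasiAffine_of_ft_ideals_isGloballyGenerated [CompactSpace X] [QuasiSeparatedSpace X]
    (h : ∀ (J : X.Modules) (i : J ⟶ Coh.structureModule X), Mono i → Coh.IsQCoh J → CohB1.IsFT J →
      Curv2.IsGloballyGenerated J) :
    X.IsQuasiAffine := by
  apply Scheme.IsQuasiAffine.of_forall_exists_mem_basicOpen
  intro x
  obtain ⟨U, hU, hxU, -⟩ := exists_isAffineOpen_mem_and_subset (X := X) (x := x) (U := ⊤) trivial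
  obtain ⟨J, ιJ, hmono, hJq, hJft, hbij, hle⟩ := exists_ft_ideal_module U hU.isCompact
  obtain ⟨κ, p, hp⟩ := h J ιJ hmono hJq hJft
  have hiso : IsIso ((Scheme.Modules.restrictFunctor U.ι).map ιJ) :=
    (isIso_restrict_iff ιJ U).mpr hbij
  let ε : J.restrict U.ι ≅ Coh.structureModule (U : Scheme.{u}) :=
    @asIso _ _ _ _ ((Scheme.Modules.restrictFunctor U.ι).map ιJ) hiso ≪≫
      Scheme.Modules.restrictUnitIso U.ι
  obtain ⟨i, hi⟩ := exists_mem_genLocus_of_epi J p hp U ε x hxU
  obtain ⟨t, hi⟩ : ∃ t : Coh.structureModule X ⟶ J, x ∈ CohB1.genLocus J t := ⟨_, hi⟩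
  let f : Γ(X, ⊤) := fn (t ≫ ιJ)
  have hfle : X.basicOpen f ≤ U := hle (t.app ⊤ (one X ⊤))
  have hxf : x ∈ X.basicOpen f := by
    rw [← genLocus_unit]
    obtain ⟨V, hV, hxV⟩ : ∃ V : X.Opens,
        V ∈ {V : X.Opens | IsIso ((Scheme.Modules.restrictFunctor V.ι).map t)} ∧ x ∈ V :=
      Opens.mem_sSup.mp hi
    have hV' : IsIso ((Scheme.Modules.restrictFunctor V.ι).map t) := hV
    have hbt := (isIso_restrict_iff t V).mp hV'
    have hVU : IsIso ((Scheme.Modules.restrictFunctor (V ⊓ U).ι).map (t ≫ ιJ)) := by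
      rw [isIso_restrict_iff]
      intro V' hV'
      exact (hbij V' (hV'.trans inf_le_right)).comp (hbt V' (hV'.trans inf_le_left))
    exact Opens.mem_sSup.mpr ⟨V ⊓ U, hVU, hxV, hxU⟩
  refine ⟨f, ?_, hxf⟩
  have h1 : X.basicOpen (X.presheaf.map (homOfLE (le_top : U ≤ ⊤)).op f) = X.basicOpen f := by
    rw [Scheme.basicOpen_res]; exact inf_eq_right.mpr hfle
  rw [← h1]
  exact hU.basicOpen _

end Groth.Agent.Helper4.FTIdeal
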