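import Groth.Agent.Helper4.IdealSum
import Groth.Agent.Helper4.SubSec
import Groth.Agent.Helper1.SerreCritE
import Mathlib

set_option autoImplicit false
universe u
open CategoryTheory CategoryTheory.Limits AlgebraicGeometry Opposite TopologicalSpace

namespace Groth.Agent.Helper4.IdealSumCoh

open Groth.Agent.Helper4.GenLoc Groth.Agent.Helper4.StalkExact Groth.Agent.Helper4.QAffSec
  Groth.Agent.Helper4.RelSerre Groth.Agent.Helper4.IdealSum

variable {X : Scheme.{u}}

/-- the kernel of `A ⊕ B ⟶ A + B` is an ideal -/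
theorem mono_kerMap (A B : Idl X) :
    Mono (kernel.ι (A.addProj B) ≫ (biprod.fst : A.M ⊞ B.M ⟶ A.M) ≫ A.ι) := by
  haveI := A.mono
  haveI := B.mono
  apply Groth.Agent.Helper4.SubSec.mono_of_app_injective
  intro T
  rw [injective_iff_map_eq_zero]
  intro z hz
  apply Groth.Agent.Helper4.AffineDict.app_injective_of_mono (kernel.ι (A.addProj B)) T
  rw [map_zero]
  obtain ⟨w, hw⟩ : ∃ w, w = (kernel.ι (A.addProj B)).app T z := ⟨_, rfl⟩
  rw [← hw]
  have hz' : A.ι.app T ((biprod.fst : A.M ⊞ B.M ⟶ A.M).app T w) = 0 := by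
    rw [hw]; exact hz
  have hew : (A.addProj B).app T w = 0 := by
    rw [hw]
    exact congrArg (fun ψ : kernel (A.addProj B) ⟶ (A.add B).M => ψ.app T z)
      (kernel.condition (A.addProj B))
  have h1 := Idl.addProj_ι A B T w
  rw [hew, map_zero, hz', zero_add] at h1
  have hfst : (biprod.fst : A.M ⊞ B.M ⟶ A.M).app T w = 0 :=
    Groth.Agent.Helper4.AffineDict.app_injective_of_mono A.ι T (hz'.trans (map_zero _).symm)
  have hsnd : (biprod.snd : A.M ⊞ B.M ⟶ B.M).app T w = 0 :=
    Groth.Agent.Helper4.AffineDict.app_injective_of_mono B.ι T (h1.symm.trans (map_zero _).symm)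
  rw [← Groth.Agent.Helper4.SubSum.biprod_total_app T w, hfst, hsnd, map_zero, map_zero, add_zero]

/-- the kernel of `A ⊕ B ⟶ A + B`, as an ideal -/
noncomputable def kerIdl (A B : Idl X) : Idl X where
  M := kernel (A.addProj B)
  ι := kernel.ι (A.addProj B) ≫ (biprod.fst : A.M ⊞ B.M ⟶ A.M) ≫ A.ι
  mono := mono_kerMap A B
  qcoh := by
    haveI := A.qcoh
    haveI := B.qcoh
    haveI : (A.M ⊞ B.M).IsQuasicoherent :=
      Groth.Agent.Helper4.QcohLimits.isQuasicoherent_biprod _ _
    haveI := (A.add B).qcoh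
    exact Groth.Agent.Helper4.QcohLimits.isQuasicoherent_kernel _

open Groth.Agent.Helper1.SerreCrit Groth.Agent.Helper1.CohTopFun Groth.Agent.Helper1.MVSurj in
/-- vanishing of `H¹(X', K|X')` for all quasi-coherent ideals `K` of `O_X` gives the two-ideal
hypothesis -/
theorem H2_of_H1 {X' : X.Opens}
    (hH : ∀ K : Idl X, Subsingleton (Coh.HH (↑X') (K.M.restrict X'.ι) 1)) : H2 X' := by
  intro A B
  let e := A.addProj B
  let S : ShortComplex X.Modules := ShortComplex.mk (kernel.ι e) e (kernel.condition e)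
  have hS : S.ShortExact :=
    { exact := ShortComplex.exact_of_f_is_kernel _ (kernelIsKernel e)
      mono_f := inferInstanceAs (Mono (kernel.ι e))
      epi_g := inferInstanceAs (Epi (Abelian.factorThruImage (A.addMap B))) }
  have hS1 : (S.map (toAbF X)).ShortExact := hS.map_of_exact (toAbF X)
  have hS2 : ((S.map (toAbF X)).map (CohTop.restrFunctor X')).ShortExact :=
    hS1.map_of_exact _
  have hz : IsZero ((HSeq 1).obj ((S.map (toAbF X)).map (CohTop.restrFunctor X')).X₁) :=
    @AddCommGrpCat.isZero_of_subsingleton _ (hH (kerIdl A B))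
  have hsurj := surjective_sections_of_H1 _ hS2 hz
  intro c
  have heq : X'.ι ''ᵁ ⊤ = X' := X'.ι_image_top
  obtain ⟨w, hw⟩ := hsurj ((A.add B).M.presheaf.map (eqToHom (congrArg op heq.symm)) c)
  refine ⟨(A.M ⊞ B.M).presheaf.map (eqToHom (congrArg op heq)) w, ?_⟩
  have h1 := Groth.Agent.Helper4.StalkExact.app_res e (eqToHom heq.symm) w
  have hmor : (eqToHom (congrArg op heq) : op (X'.ι ''ᵁ ⊤) ⟶ op X') = (eqToHom heq.symm).op :=
    Subsingleton.elim _ _
  rw [hmor]
  refine h1.trans ?_
  have hw' : e.app (X'.ι ''ᵁ ⊤) w =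
      (A.add B).M.presheaf.map (eqToHom (congrArg op heq.symm)) c := hw
  rw [hw', ← ConcreteCategory.comp_apply, ← Functor.map_comp]
  have hid : (eqToHom (congrArg op heq.symm) ≫ (eqToHom heq.symm).op : op X' ⟶ op X') = 𝟙 _ :=
    Subsingleton.elim _ _
  rw [hid, CategoryTheory.Functor.map_id]
  rfl

/-- S4377: a separated quasi-compact morphism with `R¹f_* J = 0` for all quasi-coherent ideals
`J` is affine -/
theorem isAffineHom_of_R1_ideals {Y : Scheme.{u}} (f : X ⟶ Y) [IsSeparated f] [QuasiCompact f]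
    (h : ∀ (J : X.Modules) (i : J ⟶ Coh.structureModule X), Mono i → Coh.IsQCoh J →
      Limits.IsZero ((Coh.RpushAb f 1).obj (Coh.toAb J))) : IsAffineHom f := by
  constructor
  intro V hV
  apply isAffineOpen_of_H2 (QuasiCompact.isCompact_preimage (f := f) _ V.isOpen hV.isCompact)
  apply H2_of_H1
  intro K
  haveI := K.qcoh
  exact Groth.Agent.Helper1.SerreCrit.subsingleton_H1_restrict_preimage f K.M
    (h K.M K.ι K.mono K.qcoh) V hV

end Groth.Agent.Helper4.IdealSumCoh
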