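import Groth.Agent.Helper4.FTLift
import Groth.Agent.Helper4.IdealSumCoh
import Groth.Agent.Helper1.SerreCritC
import Mathlib

/-!
# Surjectivity on global sections from `H¹`-vanishing for finite type submodules
-/

set_option autoImplicit false
universe u
open CategoryTheory CategoryTheory.Limits AlgebraicGeometry Opposite TopologicalSpace

namespace Groth.Agent.Helper4.FTLiftCoh

open Groth.Agent.Helper4.FTLift Groth.Agent.Helper4.IdealSum Groth.Agent.Helper4.IdealSumCoh

variable {X : Scheme.{u}}

/-- on a qcqs scheme, if `H¹` vanishes for all quasi-coherent submodules of finite type of the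
(quasi-coherent) kernel of a short exact sequence, then the sequence is exact on global sections -/
theorem surjective_app_top_of_ft [CompactSpace X] [QuasiSeparatedSpace X]
    (S : ShortComplex X.Modules) (hS : S.ShortExact) [S.X₁.IsQuasicoherent]
    (h : ∀ (K' : X.Modules) (i' : K' ⟶ S.X₁), Mono i' → K'.IsQuasicoherent →
      SheafOfModules.IsFiniteType (R := X.ringCatSheaf) K' → Subsingleton (Coh.HH X K' 1)) :
    Function.Surjective (S.g.app ⊤) := by
  intro s
  obtain ⟨K', i', r, hi', hq', hft', hqr, s', hs'⟩ := exists_lift_mod_ft S hS s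
  haveI := hi'
  haveI := hS.mono_f
  let S' : ShortComplex X.Modules :=
    ShortComplex.mk (i' ≫ S.f) (cokernel.π (i' ≫ S.f)) (cokernel.condition _)
  have hS' : S'.ShortExact :=
    { exact := ShortComplex.exact_cokernel _
      mono_f := inferInstanceAs (Mono (i' ≫ S.f))
      epi_g := inferInstanceAs (Epi (cokernel.π (i' ≫ S.f))) }
  obtain ⟨p, hp⟩ := Groth.Agent.Helper1.SerreCrit.surjective_app_top S' hS'
    (h K' i' hi' hq' hft') s'
  refine ⟨p, ?_⟩
  have h1 := congrArg (fun ψ : S.X₂ ⟶ S.X₃ => ψ.app ⊤ p) hqr
  refine h1.symm.trans ?_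
  exact (congrArg (r.app ⊤) hp).trans hs'

/-- **Serre's criterion with finite type ideals** -/
theorem isAffine_of_H1_ft_ideals [CompactSpace X] [QuasiSeparatedSpace X]
    (h : ∀ (I : X.Modules) (i : I ⟶ Coh.structureModule X), Mono i →
      Coh.IsQCoh I → CohB1.IsFT I → Subsingleton (Coh.HH X I 1)) : IsAffine X := by
  have hc : IsCompact ((⊤ : X.Opens) : Set X) := isCompact_univ
  have h2 : H2 (⊤ : X.Opens) := by
    intro A B
    let e := A.addProj B
    let S : ShortComplex X.Modules := ShortComplex.mk (kernel.ι e) e (kernel.condition e)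
    have hS : S.ShortExact :=
      { exact := ShortComplex.exact_of_f_is_kernel _ (kernelIsKernel e)
        mono_f := inferInstanceAs (Mono (kernel.ι e))
        epi_g := inferInstanceAs (Epi (Abelian.factorThruImage (A.addMap B))) }
    haveI : S.X₁.IsQuasicoherent := (kerIdl A B).qcoh
    apply surjective_app_top_of_ft S hS
    intro K' i' hi' hq' hft'
    haveI := hi'
    haveI : Mono (kerIdl A B).ι := (kerIdl A B).mono
    have hm : Mono (show K' ⟶ (kerIdl A B).M from i') := hi'
    exact h K' ((show K' ⟶ (kerIdl A B).M from i') ≫ (kerIdl A B).ι) (mono_comp _ _) hq' hft'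
  have h3 := isAffineOpen_of_H2 hc h2
  haveI : IsAffine (↑(⊤ : X.Opens) : Scheme.{u}) := h3
  exact IsAffine.of_isIso X.topIso.inv

end Groth.Agent.Helper4.FTLiftCoh
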