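import Mathlib

/-!
# Fatou's lemma on rational power series with integer coefficients
-/

set_option autoImplicit false

namespace Groth.Agent.Helper4.Fatou

open Polynomial

/-- clearing denominators of a rational polynomial -/
lemma exists_int_multiple (p : ℚ[X]) :
    ∃ (b : ℤ) (p₀ : ℤ[X]), b ≠ 0 ∧ p₀.map (Int.castRingHom ℚ) = C (b : ℚ) * p := by
  obtain ⟨b, hb, h⟩ := IsLocalization.integerNormalization_spec (nonZeroDivisors ℤ) p
  refine ⟨b, IsLocalization.integerNormalization (nonZeroDivisors ℤ) p,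
    nonZeroDivisors.ne_zero hb, ?_⟩
  have h' : (IsLocalization.integerNormalization (nonZeroDivisors ℤ) p).map (Int.castRingHom ℚ) =
      b • p := h
  rw [h']
  ext i
  simp [Polynomial.coeff_smul, zsmul_eq_mul]

lemma map_ne_zero_of_isPrimitive {Q' : ℤ[X]} (hprim : Q'.IsPrimitive) (ℓ : ℕ) (hℓ : ℓ.Prime) :
    Q'.map (Int.castRingHom (ZMod ℓ)) ≠ 0 := by
  intro h0
  have hdvd : C (ℓ : ℤ) ∣ Q' := by
    rw [Polynomial.C_dvd_iff_dvd_coeff]
    intro i
    have := congrArg (fun q => Polynomial.coeff q i) h0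
    simp only [Polynomial.coeff_map, Polynomial.coeff_zero, eq_intCast] at this
    exact (ZMod.intCast_zmod_eq_zero_iff_dvd _ ℓ).mp this
  have hu := hprim _ hdvd
  rw [Int.isUnit_iff] at hu
  have h2 := hℓ.two_le
  rcases hu with hu | hu <;> omega

lemma isUnit_coeff_zero_of_mul_eq_C (Q' : ℤ[X]) (hprim : Q'.IsPrimitive) :
    ∀ (n : ℕ) (m : ℤ) (W : PowerSeries ℤ), m.natAbs = n → m ≠ 0 →
      (Q' : PowerSeries ℤ) * W = PowerSeries.C m → IsUnit (Q'.coeff 0) := by
  intro n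
  induction n using Nat.strong_induction_on with
  | _ n ih =>
  intro m W hmn hm0 hQW
  by_cases hn1 : n = 1
  · have h0 := congrArg (PowerSeries.coeff 0) hQW
    rw [PowerSeries.coeff_zero_eq_constantCoeff_apply, map_mul,
      ← PowerSeries.coeff_zero_eq_constantCoeff_apply, ← PowerSeries.coeff_zero_eq_constantCoeff_apply,
      Polynomial.coeff_coe, PowerSeries.coeff_zero_eq_constantCoeff_apply (PowerSeries.C m),
      PowerSeries.constantCoeff_C] at h0
    rw [Int.isUnit_iff_natAbs_eq]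
    have h1 : (Q'.coeff 0).natAbs * (PowerSeries.coeff 0 W).natAbs = 1 := by
      rw [← Int.natAbs_mul, h0, hmn, hn1]
    exact Nat.eq_one_of_mul_eq_one_right h1
  · obtain ⟨ℓ, hℓ, hℓn⟩ := Nat.exists_prime_and_dvd hn1
    haveI : Fact ℓ.Prime := ⟨hℓ⟩
    have hℓm : (ℓ : ℤ) ∣ m := by
      rw [Int.natCast_dvd, hmn]; exact hℓn
    have hmap := congrArg (PowerSeries.map (Int.castRingHom (ZMod ℓ))) hQW
    rw [map_mul, PowerSeries.map_C] at hmap
    have hm0' : (Int.castRingHom (ZMod ℓ)) m = 0 := by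
      rw [eq_intCast]; exact (ZMod.intCast_zmod_eq_zero_iff_dvd _ ℓ).mpr hℓm
    rw [hm0', map_zero] at hmap
    have hQne : PowerSeries.map (Int.castRingHom (ZMod ℓ)) (Q' : PowerSeries ℤ) ≠ 0 := by
      rw [← Polynomial.polynomial_map_coe]
      intro h
      exact map_ne_zero_of_isPrimitive hprim ℓ hℓ (Polynomial.coe_eq_zero_iff.mp h)
    have hW0 : PowerSeries.map (Int.castRingHom (ZMod ℓ)) W = 0 :=
      (mul_eq_zero.mp hmap).resolve_left hQne
    have hWdvd : ∀ i, (ℓ : ℤ) ∣ PowerSeries.coeff i W := by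
      intro i
      have := congrArg (PowerSeries.coeff i) hW0
      rw [PowerSeries.coeff_map, map_zero, eq_intCast] at this
      exact (ZMod.intCast_zmod_eq_zero_iff_dvd _ ℓ).mp this
    let W₁ : PowerSeries ℤ := PowerSeries.mk fun i => PowerSeries.coeff i W / ℓ
    have hW : W = PowerSeries.C (ℓ : ℤ) * W₁ := by
      ext i
      rw [PowerSeries.coeff_C_mul, PowerSeries.coeff_mk, Int.mul_ediv_cancel' (hWdvd i)]
    obtain ⟨m₁, rfl⟩ := hℓm
    have hℓ0 : (PowerSeries.C (ℓ : ℤ)) ≠ 0 := by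
      rw [Ne, ← map_zero PowerSeries.C]
      intro h
      have := PowerSeries.C_injective h
      exact hℓ.ne_zero (by exact_mod_cast this)
    have hQW₁ : (Q' : PowerSeries ℤ) * W₁ = PowerSeries.C m₁ := by
      apply mul_left_cancel₀ hℓ0
      rw [← map_mul, ← hQW, hW]
      ring
    have hm₁0 : m₁ ≠ 0 := right_ne_zero_of_mul hm0
    have hlt : m₁.natAbs < n := by
      rw [← hmn, Int.natAbs_mul, Int.natAbs_natCast]
      have : 0 < m₁.natAbs := Int.natAbs_pos.mpr hm₁0
      have := hℓ.two_le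
      nlinarith
    exact ih _ hlt m₁ W₁ rfl hm₁0 hQW₁

theorem main (P Q : Polynomial ℚ)
    (hPQ : IsCoprime P Q) (hP : P.coeff 0 = 1) (hQ : Q.coeff 0 = 1) (Z : PowerSeries ℤ)
    (hZ : (P : PowerSeries ℚ) = (Q : PowerSeries ℚ) * PowerSeries.map (Int.castRingHom ℚ) Z) :
    (∃ P₀ : Polynomial ℤ, P₀.map (Int.castRingHom ℚ) = P) ∧
      ∃ Q₀ : Polynomial ℤ, Q₀.map (Int.castRingHom ℚ) = Q := by
  obtain ⟨U, V, hUV⟩ := hPQ
  obtain ⟨bU, U₀, hbU, hU₀⟩ := exists_int_multiple U
  obtain ⟨bV, V₀, hbV, hV₀⟩ := exists_int_multiple V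
  obtain ⟨bQ, Q₁, hbQ, hQ₁⟩ := exists_int_multiple Q
  have hQne : Q ≠ 0 := by
    intro h; rw [h] at hQ; simp at hQ
  have hQ₁ne : Q₁ ≠ 0 := by
    intro h
    rw [h, Polynomial.map_zero] at hQ₁
    have : C (bQ : ℚ) ≠ 0 := by
      rw [Ne, Polynomial.C_eq_zero]; exact_mod_cast hbQ
    exact (mul_ne_zero this hQne) hQ₁.symm
  set Q' := Q₁.primPart with hQ'
  have hprim : Q'.IsPrimitive := Q₁.isPrimitive_primPart
  have hQ₁eq : Q₁ = C Q₁.content * Q' := Q₁.eq_C_content_mul_primPart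
  have hcont : Q₁.content ≠ 0 := by
    rw [Ne, Polynomial.content_eq_zero_iff]; exact hQ₁ne
  -- map Q' = C b * Q with b = Q'.coeff 0
  set b : ℤ := Q'.coeff 0 with hb
  have hmapQ' : C (Q₁.content : ℚ) * Q'.map (Int.castRingHom ℚ) = C (bQ : ℚ) * Q := by
    rw [← hQ₁]
    conv_rhs => rw [hQ₁eq]
    rw [Polynomial.map_mul, Polynomial.map_C]
    simp
  have hcb : (Q₁.content : ℚ) * (b : ℚ) = (bQ : ℚ) := by
    have := congrArg (fun q => Polynomial.coeff q 0) hmapQ'
    simp only [Polynomial.coeff_C_mul, Polynomial.coeff_map, eq_intCast, hQ, mul_one] at this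
    exact this
  have hcontQ : (Q₁.content : ℚ) ≠ 0 := by exact_mod_cast hcont
  have hb0 : b ≠ 0 := by
    intro h
    rw [h] at hcb
    simp only [Int.cast_zero, mul_zero] at hcb
    exact hbQ (by exact_mod_cast hcb.symm)
  have hmapQ'' : Q'.map (Int.castRingHom ℚ) = C (b : ℚ) * Q := by
    have hC : C (Q₁.content : ℚ) ≠ 0 := by rw [Ne, Polynomial.C_eq_zero]; exact hcontQ
    apply mul_left_cancel₀ hC
    rw [hmapQ', ← mul_assoc, ← C_mul, hcb]
  -- the integral power series identity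
  set W : PowerSeries ℤ := ((C bV * U₀ : ℤ[X]) : PowerSeries ℤ) * Z + ((C bU * V₀ : ℤ[X]) : PowerSeries ℤ)
    with hWdef
  have hinj : Function.Injective (PowerSeries.map (Int.castRingHom ℚ)) := by
    intro x y hxy
    ext i
    have := congrArg (PowerSeries.coeff i) hxy
    simp only [PowerSeries.coeff_map, eq_intCast] at this
    exact_mod_cast this
  have hUVps : (U : PowerSeries ℚ) * (P : PowerSeries ℚ) + (V : PowerSeries ℚ) * (Q : PowerSeries ℚ) = 1 := by
    rw [← Polynomial.coe_mul, ← Polynomial.coe_mul, ← Polynomial.coe_add, hUV, Polynomial.coe_one]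
  have hkey : (Q' : PowerSeries ℤ) * W = PowerSeries.C (b * (bU * bV)) := by
    apply hinj
    rw [map_mul, hWdef, map_add, map_mul, ← Polynomial.polynomial_map_coe,
      ← Polynomial.polynomial_map_coe, ← Polynomial.polynomial_map_coe, PowerSeries.map_C,
      hmapQ'', Polynomial.map_mul, Polynomial.map_mul, Polynomial.map_C, Polynomial.map_C, hU₀, hV₀]
    simp only [Polynomial.coe_mul, Polynomial.coe_C, eq_intCast, Int.cast_mul]
    have h1 : (Q : PowerSeries ℚ) * ((U : PowerSeries ℚ) *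
        PowerSeries.map (Int.castRingHom ℚ) Z + (V : PowerSeries ℚ)) = 1 := by
      rw [← hUVps, hZ]; ring
    rw [map_mul, map_mul]
    linear_combination (PowerSeries.C (b : ℚ) * PowerSeries.C (bU : ℚ) * PowerSeries.C (bV : ℚ)) * h1
  have hunit : IsUnit b :=
    isUnit_coeff_zero_of_mul_eq_C Q' hprim _ _ W rfl
      (mul_ne_zero hb0 (mul_ne_zero hbU hbV)) hkey
  have hbb : b * b = 1 := by
    rcases Int.isUnit_iff.mp hunit with h | h <;> rw [h] <;> norm_num
  have hQ₀ : (C b * Q').map (Int.castRingHom ℚ) = Q := by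
    rw [Polynomial.map_mul, Polynomial.map_C, hmapQ'', ← mul_assoc, ← C_mul, eq_intCast,
      ← Int.cast_mul, hbb]
    simp
  refine ⟨⟨PowerSeries.trunc (P.natDegree + 1) (((C b * Q' : ℤ[X]) : PowerSeries ℤ) * Z), ?_⟩,
    ⟨C b * Q', hQ₀⟩⟩
  ext i
  rw [Polynomial.coeff_map, PowerSeries.coeff_trunc]
  have hPi : P.coeff i = (Int.castRingHom ℚ)
      (PowerSeries.coeff i (((C b * Q' : ℤ[X]) : PowerSeries ℤ) * Z)) := by
    rw [← PowerSeries.coeff_map, map_mul, ← Polynomial.polynomial_map_coe, hQ₀, ← hZ,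
      Polynomial.coeff_coe]
  split_ifs with hi
  · exact hPi.symm
  · rw [map_zero]
    exact (Polynomial.coeff_eq_zero_of_natDegree_lt (by omega)).symm

end Groth.Agent.Helper4.Fatou
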