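import Mathlib
set_option autoImplicit false
universe u
open TensorProduct CategoryTheory CategoryTheory.Limits

namespace Groth.Agent.Helper4.FibFinA

/-- Finiteness of the base-changed map in a pasted pushout diagram of commutative rings, read off from
the tensor product model. -/
theorem finite_of_isPushout {A B K₀ W₀ : Type u} [CommRing A] [CommRing B] [CommRing K₀]
    [CommRing W₀] [Algebra A B] [Algebra A K₀] [Algebra A W₀] (π₀ : W₀ →ₐ[A] B)
    {K' W' T' P' : CommRingCat.{u}} {a : CommRingCat.of A ⟶ W'} {r : CommRingCat.of A ⟶ K'}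
    {i : W' ⟶ T'} {k : K' ⟶ T'} {γ : W' ⟶ CommRingCat.of B} {β : CommRingCat.of B ⟶ P'}
    {h' : T' ⟶ P'}
    (sq1 : IsPushout a r i k) (sq2 : IsPushout γ i β h')
    (eK : CommRingCat.of K₀ ≅ K') (eW : CommRingCat.of W₀ ≅ W')
    (hK : CommRingCat.ofHom (algebraMap A K₀) ≫ eK.hom = r)
    (hW : CommRingCat.ofHom (algebraMap A W₀) ≫ eW.hom = a)
    (hπ : eW.hom ≫ γ = CommRingCat.ofHom π₀.toRingHom)
    (hfin : (Algebra.TensorProduct.map (AlgHom.id K₀ K₀) π₀).toRingHom.Finite) :
    h'.hom.Finite := by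
  have hAB : a ≫ γ = CommRingCat.ofHom (algebraMap A B) := by
    rw [← hW, Category.assoc, hπ]
    ext x
    simp
  have tp1 : IsPushout a r
      (eW.inv ≫ CommRingCat.ofHom (S := K₀ ⊗[A] W₀) Algebra.TensorProduct.includeRight.toRingHom)
      (eK.inv ≫ CommRingCat.ofHom (S := K₀ ⊗[A] W₀) Algebra.TensorProduct.includeLeftRingHom) := by
    refine (CommRingCat.isPushout_tensorProduct A K₀ W₀).flip.of_iso (Iso.refl _) eW eK (Iso.refl _)
      ?_ ?_ ?_ ?_
    · simp [hW]
    · simp [hK]
    · simp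
    · simp
  have pasted : IsPushout (a ≫ γ) r β (k ≫ h') := sq1.paste_horiz sq2
  have tp2 : IsPushout (a ≫ γ) r
      (CommRingCat.ofHom (S := K₀ ⊗[A] B) Algebra.TensorProduct.includeRight.toRingHom)
      (eK.inv ≫ CommRingCat.ofHom (S := K₀ ⊗[A] B) Algebra.TensorProduct.includeLeftRingHom) := by
    refine (CommRingCat.isPushout_tensorProduct A K₀ B).flip.of_iso (Iso.refl _) (Iso.refl _) eK
      (Iso.refl _) ?_ ?_ ?_ ?_
    · simp [hAB]
    · simp [hK]
    · simp
    · simp
  let ET := sq1.isoIsPushout _ _ tp1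
  let EP := pasted.isoIsPushout _ _ tp2
  let m := CommRingCat.ofHom (Algebra.TensorProduct.map (AlgHom.id K₀ K₀) π₀).toRingHom
  have hm1 : CommRingCat.ofHom (S := K₀ ⊗[A] W₀) Algebra.TensorProduct.includeRight.toRingHom ≫ m =
      CommRingCat.ofHom π₀.toRingHom ≫
        CommRingCat.ofHom (S := K₀ ⊗[A] B) Algebra.TensorProduct.includeRight.toRingHom := by
    ext x
    simp [m]
  have hm2 : CommRingCat.ofHom (S := K₀ ⊗[A] W₀) Algebra.TensorProduct.includeLeftRingHom ≫ m =
      CommRingCat.ofHom (S := K₀ ⊗[A] B) Algebra.TensorProduct.includeLeftRingHom := by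
    ext x
    simp [m]
  have hcomm : h' ≫ EP.hom = ET.hom ≫ m := by
    apply sq1.hom_ext
    · have e1 : i ≫ h' ≫ EP.hom = γ ≫ β ≫ EP.hom := by
        rw [← Category.assoc, ← sq2.w, Category.assoc]
      rw [e1, IsPushout.inl_isoIsPushout_hom, ← Category.assoc, IsPushout.inl_isoIsPushout_hom,
        Category.assoc, hm1, ← hπ]
      simp
    · rw [← Category.assoc, IsPushout.inr_isoIsPushout_hom, ← Category.assoc,
        IsPushout.inr_isoIsPushout_hom, Category.assoc, hm2]
  have hh : h' = ET.hom ≫ m ≫ EP.inv := by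
    rw [← Category.assoc, ← hcomm, Category.assoc, Iso.hom_inv_id, Category.comp_id]
  rw [hh, CommRingCat.hom_comp, CommRingCat.hom_comp]
  refine RingHom.Finite.comp (RingHom.Finite.comp ?_ hfin) ?_
  · exact RingHom.Finite.of_surjective _ (ConcreteCategory.bijective_of_isIso EP.inv).2
  · exact RingHom.Finite.of_surjective _ (ConcreteCategory.bijective_of_isIso ET.hom).2

end Groth.Agent.Helper4.FibFinA
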