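import Mathlib
import Groth.Agent.Helper5.IntegralDim
set_option autoImplicit false
universe u
open TensorProduct

namespace Groth.Agent.Helper4.NNFibreGen

variable (A B K : Type u) [CommRing A] [CommRing B] [Field K] [Algebra A B] [Algebra A K]

/-- If every element of the field `K` is a quotient of images of elements of `A`, every element of
`K ⊗ B` is a unit multiple of a pure tensor `1 ⊗ b`. -/
theorem exists_smul_eq_one_tmul
    (hK : ∀ k : K, ∃ a s : A, algebraMap A K s ≠ 0 ∧ algebraMap A K s * k = algebraMap A K a)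
    (t : K ⊗[A] B) :
    ∃ s : A, algebraMap A K s ≠ 0 ∧ ∃ b : B, (algebraMap A K s) • t = 1 ⊗ₜ[A] b := by
  induction t using TensorProduct.induction_on with
  | zero => exact ⟨1, by simp, 0, by simp⟩
  | tmul x b =>
    obtain ⟨a, s, hs, hx'⟩ := hK x
    refine ⟨s, hs, a • b, ?_⟩
    calc algebraMap A K s • (x ⊗ₜ[A] b)
        = (algebraMap A K s * x) ⊗ₜ[A] b := by
          rw [TensorProduct.smul_tmul', smul_eq_mul]
      _ = (a • (1 : K)) ⊗ₜ[A] b := by
          rw [hx', Algebra.smul_def, mul_one]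
      _ = 1 ⊗ₜ[A] (a • b) := by
          rw [TensorProduct.smul_tmul]
  | add t₁ t₂ h₁ h₂ =>
    obtain ⟨s₁, hs₁, b₁, e₁⟩ := h₁
    obtain ⟨s₂, hs₂, b₂, e₂⟩ := h₂
    refine ⟨s₁ * s₂, by rw [map_mul]; exact mul_ne_zero hs₁ hs₂,
      s₂ • b₁ + s₁ • b₂, ?_⟩
    have h1 : algebraMap A K (s₁ * s₂) • t₁ = 1 ⊗ₜ[A] (s₂ • b₁) := by
      rw [mul_comm, map_mul, mul_smul, e₁, TensorProduct.tmul_smul, algebraMap_smul]
    have h2 : algebraMap A K (s₁ * s₂) • t₂ = 1 ⊗ₜ[A] (s₁ • b₂) := by
      rw [map_mul, mul_smul, e₂, TensorProduct.tmul_smul, algebraMap_smul]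
    rw [smul_add, h1, h2, TensorProduct.tmul_add]

theorem main [Algebra.FiniteType A B]
    (hK : ∀ k : K, ∃ a s : A, algebraMap A K s ≠ 0 ∧ algebraMap A K s * k = algebraMap A K a)
    (d : ℕ) (hd : ringKrullDim (K ⊗[A] B) = d) :
    ∃ π : MvPolynomial (Fin d) A →ₐ[A] B,
      (Algebra.TensorProduct.map (AlgHom.id K K) π).toRingHom.Finite := by
  classical
  have hnt : Nontrivial (K ⊗[A] B) := by
    by_contra hcon
    rw [not_nontrivial_iff_subsingleton] at hcon
    rw [ringKrullDim_eq_bot_of_subsingleton] at hd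
    exact WithBot.bot_ne_coe hd
  obtain ⟨s, g, hginj, hgfin⟩ := exists_finite_inj_algHom_of_fg K (K ⊗[A] B)
  have hsd : s = d := by
    have h1 : ringKrullDim (K ⊗[A] B) = ringKrullDim (MvPolynomial (Fin s) K) := by
      algebraize [g.toRingHom]
      haveI : Algebra.IsIntegral (MvPolynomial (Fin s) K) (K ⊗[A] B) := by
        haveI : Module.Finite (MvPolynomial (Fin s) K) (K ⊗[A] B) := hgfin
        infer_instance
      exact Groth.Agent.Helper5.IntegralDim.ringKrullDim_eq_of_isIntegral_of_injective hginj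
    rw [MvPolynomial.ringKrullDim_of_isNoetherianRing, ringKrullDim_eq_zero_of_field, zero_add,
      Nat.card_eq_fintype_card, Fintype.card_fin] at h1
    rw [h1] at hd
    exact_mod_cast hd
  subst hsd
  choose c hu b hb using fun i : Fin s =>
    exists_smul_eq_one_tmul A B K hK (g (MvPolynomial.X i))
  let π : MvPolynomial (Fin s) A →ₐ[A] B := MvPolynomial.aeval b
  refine ⟨π, ?_⟩
  let τ : MvPolynomial (Fin s) K →ₐ[K] MvPolynomial (Fin s) K :=
    MvPolynomial.aeval (fun i => MvPolynomial.C (algebraMap A K (c i)) * MvPolynomial.X i)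
  let τ' : MvPolynomial (Fin s) K →ₐ[K] MvPolynomial (Fin s) K :=
    MvPolynomial.aeval (fun i => MvPolynomial.C (algebraMap A K (c i))⁻¹ * MvPolynomial.X i)
  have hττ' : τ.comp τ' = AlgHom.id K _ := by
    apply MvPolynomial.algHom_ext
    intro i
    simp only [τ, τ', AlgHom.comp_apply, MvPolynomial.aeval_X, map_mul, MvPolynomial.aeval_C,
      AlgHom.id_apply, MvPolynomial.algebraMap_eq]
    rw [← mul_assoc, ← MvPolynomial.C_mul, inv_mul_cancel₀ (hu i), MvPolynomial.C_1, one_mul]
  have hτsurj : Function.Surjective τ := fun x => ⟨τ' x, congrFun (congrArg DFunLike.coe hττ') x⟩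
  let E := (MvPolynomial.algebraTensorAlgEquiv (σ := Fin s) A K)
  let Φ := Algebra.TensorProduct.map (AlgHom.id K K) π
  have hcomp : Φ.comp E.symm.toAlgHom = g.comp τ := by
    apply MvPolynomial.algHom_ext
    intro i
    change Φ (E.symm (MvPolynomial.X i)) = g (τ (MvPolynomial.X i))
    have e1 : E.symm (MvPolynomial.X i) = 1 ⊗ₜ[A] MvPolynomial.X i :=
      MvPolynomial.algebraTensorAlgEquiv_symm_X (R := A) (A := K) i
    rw [e1]
    simp only [Φ, τ, π, Algebra.TensorProduct.map_tmul, AlgHom.id_apply,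
      MvPolynomial.aeval_X, map_mul, map_one]
    rw [← MvPolynomial.algebraMap_eq, AlgHom.commutes, ← Algebra.smul_def, hb i]
  have hΦ : Φ = (g.comp τ).comp E.toAlgHom := by
    rw [← hcomp]
    ext x <;> simp
  have h1 : (g.comp τ).toRingHom.Finite :=
    RingHom.Finite.comp hgfin (RingHom.Finite.of_surjective _ hτsurj)
  have h2 : E.toAlgHom.toRingHom.Finite := RingHom.Finite.of_surjective _ E.surjective
  have h3 : ((g.comp τ).comp E.toAlgHom).toRingHom.Finite := RingHom.Finite.comp h1 h2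
  change Φ.toRingHom.Finite
  rw [hΦ]
  exact h3

end Groth.Agent.Helper4.NNFibreGen
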