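import Mathlib
import Groth.Agent.Helper4.FibFinA
import Groth.Agent.Helper4.NNFibreGen
set_option autoImplicit false
universe u
open TensorProduct CategoryTheory CategoryTheory.Limits AlgebraicGeometry

namespace Groth.Agent.Helper4.FibFinB

variable {Y : Scheme.{u}} (y : Y)

lemma fromSpecResidueField_appTop :
    (Y.fromSpecResidueField y).appTop =
      Y.Γevaluation y ≫ (Scheme.ΓSpecIso (Y.residueField y)).inv := by
  unfold Scheme.fromSpecResidueField
  rw [Scheme.Hom.comp_appTop, Scheme.fromSpecStalk_appTop]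
  simp only [Category.assoc]
  rw [Scheme.Γevaluation, Scheme.evaluation, Category.assoc,
    Scheme.ΓSpecIso_inv_naturality]
  rfl

/-- every element of `κ(y)` is a quotient of evaluations of global sections, `Y` affine. -/
lemma exists_evaluation_mul_eq [IsAffine Y] (k : Y.residueField y) :
    ∃ a s : Γ(Y, ⊤), (Y.Γevaluation y).hom s ≠ 0 ∧
      (Y.Γevaluation y).hom s * k = (Y.Γevaluation y).hom a := by
  obtain ⟨t, rfl⟩ := Y.residue_surjective y k
  letI := Y.presheaf.algebra_section_stalk (U := ⊤) ⟨y, trivial⟩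
  haveI := (isAffineOpen_top Y).isLocalization_stalk ⟨y, trivial⟩
  obtain ⟨⟨a, s⟩, hs⟩ := IsLocalization.surj
    ((isAffineOpen_top Y).primeIdealOf ⟨y, trivial⟩).asIdeal.primeCompl t
  have hunit : IsUnit (algebraMap Γ(Y, ⊤) (Y.presheaf.stalk y) s.1) :=
    IsLocalization.map_units (M := ((isAffineOpen_top Y).primeIdealOf
      ⟨y, trivial⟩).asIdeal.primeCompl) (Y.presheaf.stalk y) s
  refine ⟨a, s.1, ?_, ?_⟩
  · have : IsUnit ((Y.residue y).hom (algebraMap Γ(Y, ⊤) (Y.presheaf.stalk y) s.1)) :=
      hunit.map _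
    exact this.ne_zero
  · have := congrArg (Y.residue y).hom hs
    rw [map_mul] at this
    rw [mul_comm]
    exact this

end Groth.Agent.Helper4.FibFinB
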