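import Mathlib
import Groth.Agent.Helper4.FibFinA
import Groth.Agent.Helper4.FibFinB
import Groth.Agent.Helper4.NNFibreGen
set_option autoImplicit false
universe u
open TensorProduct CategoryTheory CategoryTheory.Limits AlgebraicGeometry

namespace Groth.Agent.Helper4.FibFinC
open Groth.Agent.Helper4.FibFinB

variable {X Y : Scheme.{u}} [IsAffine X] [IsAffine Y] (f : X ⟶ Y) (y : Y)

/-- the tensor-product model of the global sections of the fibre. -/
theorem exists_ringEquiv_fiber :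
    letI := f.appTop.hom.toAlgebra
    letI := (Y.Γevaluation y).hom.toAlgebra
    Nonempty (Γ(f.fiber y, ⊤) ≃+* (Y.residueField y) ⊗[Γ(Y, ⊤)] Γ(X, ⊤)) := by
  letI := f.appTop.hom.toAlgebra
  letI := (Y.Γevaluation y).hom.toAlgebra
  let ρ := Y.fromSpecResidueField y
  have sqF := isPushout_appTop_of_isPullback (IsPullback.of_hasPullback f ρ)
  let eK : CommRingCat.of (Y.residueField y) ≅ Γ(Spec (Y.residueField y), ⊤) :=
    (Scheme.ΓSpecIso (Y.residueField y)).symm
  have hK : CommRingCat.ofHom (algebraMap Γ(Y, ⊤) (Y.residueField y)) ≫ eK.hom = ρ.appTop := by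
    rw [fromSpecResidueField_appTop]
    rfl
  have hf : CommRingCat.ofHom (algebraMap Γ(Y, ⊤) Γ(X, ⊤)) = f.appTop := rfl
  have tpF : IsPushout f.appTop ρ.appTop
      (CommRingCat.ofHom (S := (Y.residueField y) ⊗[Γ(Y, ⊤)] Γ(X, ⊤))
        Algebra.TensorProduct.includeRight.toRingHom)
      (eK.inv ≫ CommRingCat.ofHom (S := (Y.residueField y) ⊗[Γ(Y, ⊤)] Γ(X, ⊤))
        Algebra.TensorProduct.includeLeftRingHom) := by
    refine (CommRingCat.isPushout_tensorProduct Γ(Y, ⊤) (Y.residueField y) Γ(X, ⊤)).flip.of_iso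
      (Iso.refl _) (Iso.refl _) eK (Iso.refl _) ?_ ?_ ?_ ?_
    · simp [hf]
    · simp [hK]
    · simp
    · simp
  exact ⟨(sqF.isoIsPushout _ _ tpF).commRingCatIsoToRingEquiv⟩

theorem dim_fiber_eq :
    letI := f.appTop.hom.toAlgebra
    letI := (Y.Γevaluation y).hom.toAlgebra
    ringKrullDim ((Y.residueField y) ⊗[Γ(Y, ⊤)] Γ(X, ⊤)) = topologicalKrullDim (f.fiber y) := by
  letI := f.appTop.hom.toAlgebra
  letI := (Y.Γevaluation y).hom.toAlgebra
  obtain ⟨e⟩ := exists_ringEquiv_fiber f y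
  rw [← ringKrullDim_eq_of_ringEquiv e, ← PrimeSpectrum.topologicalKrullDim_eq_ringKrullDim]
  exact (IsHomeomorph.topologicalKrullDim_eq _ (f.fiber y).isoSpec.hom.homeomorph.isHomeomorph).symm

end Groth.Agent.Helper4.FibFinC
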