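import Mathlib
import Groth.Agent.Helper4.FibFinA
import Groth.Agent.Helper4.FibFinB
import Groth.Agent.Helper4.NNFibreGen
set_option autoImplicit false
universe u
open TensorProduct CategoryTheory CategoryTheory.Limits AlgebraicGeometry

namespace Groth.Agent.Helper4.FibFinD
open Groth.Agent.Helper4.FibFinB

variable {X Y : Scheme.{u}} [IsAffine X] [IsAffine Y] (f : X ⟶ Y) (y : Y) (e : ℕ)

/-- The comparison map from the polynomial ring to the global sections of affine space. -/
noncomputable def Θ : MvPolynomial (Fin e) Γ(Y, ⊤) →+* Γ(𝔸(ULift.{u} (Fin e); Y), ⊤) :=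
  MvPolynomial.eval₂Hom ((𝔸(ULift.{u} (Fin e); Y) ↘ Y).appTop).hom
    (fun i => AffineSpace.coord Y (ULift.up i))

lemma Θ_bijective : Function.Bijective (Θ (Y := Y) e) := by
  have h1 : Function.Bijective (MvPolynomial.eval₂Hom
      ((𝔸(ULift.{u} (Fin e); Y) ↘ Y).appTop).hom (AffineSpace.coord Y)) := by
    have h := AffineSpace.isoOfIsAffine_hom_appTop (n := ULift.{u} (Fin e)) (S := Y)
    have h2 : CommRingCat.ofHom (MvPolynomial.eval₂Hom
        ((𝔸(ULift.{u} (Fin e); Y) ↘ Y).appTop).hom (AffineSpace.coord Y)) =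
        (Scheme.ΓSpecIso _).inv ≫ (AffineSpace.isoOfIsAffine (ULift.{u} (Fin e)) Y).hom.appTop := by
      rw [h, Iso.inv_hom_id_assoc]
    have h3 : IsIso (CommRingCat.ofHom (MvPolynomial.eval₂Hom
        ((𝔸(ULift.{u} (Fin e); Y) ↘ Y).appTop).hom (AffineSpace.coord Y))) := by
      rw [h2]
      haveI : IsIso (AffineSpace.isoOfIsAffine (ULift.{u} (Fin e)) Y).hom.appTop := by
        refine ⟨(AffineSpace.isoOfIsAffine (ULift.{u} (Fin e)) Y).inv.appTop, ?_, ?_⟩
        · rw [← Scheme.Hom.comp_appTop, Iso.inv_hom_id, Scheme.Hom.id_appTop]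
        · rw [← Scheme.Hom.comp_appTop, Iso.hom_inv_id, Scheme.Hom.id_appTop]
      infer_instance
    exact ConcreteCategory.bijective_of_isIso (CommRingCat.ofHom (MvPolynomial.eval₂Hom
        ((𝔸(ULift.{u} (Fin e); Y) ↘ Y).appTop).hom (AffineSpace.coord Y)))
  have h4 : (Θ (Y := Y) e : MvPolynomial (Fin e) Γ(Y, ⊤) → _) =
      (MvPolynomial.eval₂Hom ((𝔸(ULift.{u} (Fin e); Y) ↘ Y).appTop).hom (AffineSpace.coord Y)) ∘
        (MvPolynomial.rename (R := Γ(Y, ⊤)) (ULift.up : Fin e → ULift.{u} (Fin e))) := by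
    funext p
    simp only [Θ, Function.comp_apply, MvPolynomial.coe_eval₂Hom, MvPolynomial.eval₂_rename]
    rfl
  rw [h4]
  exact h1.comp (MvPolynomial.renameEquiv Γ(Y, ⊤) (Equiv.ulift.symm)).bijective


variable [Algebra Γ(Y, ⊤) Γ(X, ⊤)] [Algebra Γ(Y, ⊤) (Y.residueField y)]

/-- If the fibrewise map is finite at ring level, the base change of `g` to the fibre of affine
space over `y` is a finite morphism. -/
theorem isFinite_snd (halg : algebraMap Γ(Y, ⊤) Γ(X, ⊤) = f.appTop.hom)
    (hκ : algebraMap Γ(Y, ⊤) (Y.residueField y) = (Y.Γevaluation y).hom)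
    (π : MvPolynomial (Fin e) Γ(Y, ⊤) →ₐ[Γ(Y, ⊤)] Γ(X, ⊤))
    (hfin : (Algebra.TensorProduct.map (AlgHom.id (Y.residueField y) (Y.residueField y))
      π).toRingHom.Finite) :
    IsFinite (pullback.snd
      (AffineSpace.homOfVector f (fun i : ULift.{u} (Fin e) => π (MvPolynomial.X i.down)))
      ((𝔸(ULift.{u} (Fin e); Y) ↘ Y).fiberι y)) := by
  set v : ULift.{u} (Fin e) → Γ(X, ⊤) := fun i => π (MvPolynomial.X i.down) with hv
  set g := AffineSpace.homOfVector f v with hg
  let q := 𝔸(ULift.{u} (Fin e); Y) ↘ Y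
  let ρ := Y.fromSpecResidueField y
  have pbA : IsPullback (q.fiberι y) (q.fiberToSpecResidueField y) q ρ :=
    IsPullback.of_hasPullback q ρ
  have sqA := isPushout_appTop_of_isPullback pbA
  have pbB : IsPullback (pullback.fst g (q.fiberι y)) (pullback.snd g (q.fiberι y)) g
      (q.fiberι y) := IsPullback.of_hasPullback g (q.fiberι y)
  have sqB := isPushout_appTop_of_isPullback pbB
  let eK : CommRingCat.of (Y.residueField y) ≅ Γ(Spec (Y.residueField y), ⊤) :=
    (Scheme.ΓSpecIso (Y.residueField y)).symm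
  have hK : CommRingCat.ofHom (algebraMap Γ(Y, ⊤) (Y.residueField y)) ≫ eK.hom = ρ.appTop := by
    rw [fromSpecResidueField_appTop, hκ]
    rfl
  let eW : CommRingCat.of (MvPolynomial (Fin e) Γ(Y, ⊤)) ≅ Γ(𝔸(ULift.{u} (Fin e); Y), ⊤) :=
    (RingEquiv.ofBijective (Θ (Y := Y) e) (Θ_bijective e)).toCommRingCatIso
  have hW : CommRingCat.ofHom (algebraMap Γ(Y, ⊤) (MvPolynomial (Fin e) Γ(Y, ⊤))) ≫ eW.hom =
      q.appTop := by
    ext a
    change Θ (Y := Y) e (algebraMap Γ(Y, ⊤) (MvPolynomial (Fin e) Γ(Y, ⊤)) a) = _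
    rw [MvPolynomial.algebraMap_eq]
    simp only [Θ, MvPolynomial.coe_eval₂Hom, MvPolynomial.eval₂_C]
    rfl
  have hπ : eW.hom ≫ g.appTop = CommRingCat.ofHom π.toRingHom := by
    have : (g.appTop.hom.comp (Θ (Y := Y) e)) = π.toRingHom := by
      apply MvPolynomial.ringHom_ext
      · intro a
        simp only [RingHom.comp_apply, Θ, MvPolynomial.coe_eval₂Hom, MvPolynomial.eval₂_C]
        have h1 : (g ≫ q).appTop = f.appTop := by
          rw [hg, AffineSpace.homOfVector_over]
        rw [Scheme.Hom.comp_appTop] at h1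
        have h2 := congrArg (fun k => k.hom a) h1
        simp only [CommRingCat.hom_comp, RingHom.comp_apply] at h2
        rw [h2]
        have := π.commutes a
        rw [MvPolynomial.algebraMap_eq, halg] at this
        exact this.symm
      · intro i
        simp only [RingHom.comp_apply, Θ, MvPolynomial.coe_eval₂Hom, MvPolynomial.eval₂_X]
        exact AffineSpace.homOfVector_appTop_coord f v (ULift.up i)
    refine CommRingCat.hom_ext ?_
    rw [CommRingCat.hom_comp]
    exact this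
  have hfin' := Groth.Agent.Helper4.FibFinA.finite_of_isPushout π sqA sqB eK eW hK hW hπ hfin
  exact (HasAffineProperty.iff_of_isAffine (P := @IsFinite)).2 ⟨inferInstance, hfin'⟩

end Groth.Agent.Helper4.FibFinD
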