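import Mathlib
import Groth.Agent.Helper5.IntegralDim
set_option autoImplicit false
universe u

namespace Groth.Agent.Helper4.FibFinE

/-- An integral ring map from a domain of finite dimension `e` to a ring of the same dimension is
injective. -/
theorem injective_of_isIntegral_of_dim_eq {R S : Type*} [CommRing R] [CommRing S] [IsDomain R]
    (φ : R →+* S) (hφ : φ.IsIntegral) (e : ℕ) (hR : ringKrullDim R = e) (hS : ringKrullDim S = e) :
    Function.Injective φ := by
  rw [RingHom.injective_iff_ker_eq_bot]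
  by_contra hK
  obtain ⟨r, hrK, hr0⟩ : ∃ r ∈ RingHom.ker φ, r ≠ 0 := by
    by_contra hcon
    push Not at hcon
    exact hK ((Submodule.eq_bot_iff _).mpr hcon)
  have h1 : (RingHom.kerLift φ).IsIntegral := by
    refine RingHom.IsIntegral.tower_top (Ideal.Quotient.mk (RingHom.ker φ)) (RingHom.kerLift φ) ?_
    have : (RingHom.kerLift φ).comp (Ideal.Quotient.mk (RingHom.ker φ)) = φ := by
      ext x; simp
    rw [this]
    exact hφ
  have h2 : ringKrullDim S = ringKrullDim (R ⧸ RingHom.ker φ) := by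
    algebraize [RingHom.kerLift φ]
    haveI : Algebra.IsIntegral (R ⧸ RingHom.ker φ) S := ⟨h1⟩
    exact Groth.Agent.Helper5.IntegralDim.ringKrullDim_eq_of_isIntegral_of_injective
      (RingHom.kerLift_injective φ)
  have h3 : ringKrullDim (R ⧸ RingHom.ker φ) ≤ ringKrullDim (R ⧸ Ideal.span {r}) :=
    ringKrullDim_le_of_surjective
      (Ideal.Quotient.factor ((Ideal.span_singleton_le_iff_mem _).mpr hrK))
      (Ideal.Quotient.factor_surjective _)
  have h4 : ringKrullDim (R ⧸ Ideal.span {r}) + 1 ≤ ringKrullDim R :=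
    ringKrullDim_quotient_succ_le_of_nonZeroDivisor (mem_nonZeroDivisors_of_ne_zero hr0)
  have h5 : ((e : ℕ) : WithBot ℕ∞) + 1 ≤ e := by
    calc ((e : ℕ) : WithBot ℕ∞) + 1 = ringKrullDim (R ⧸ RingHom.ker φ) + 1 := by rw [← h2, hS]
      _ ≤ ringKrullDim (R ⧸ Ideal.span {r}) + 1 := by gcongr
      _ ≤ ringKrullDim R := h4
      _ = e := hR
  have h6 : ((e + 1 : ℕ) : WithBot ℕ∞) ≤ ((e : ℕ) : WithBot ℕ∞) := by
    simpa using h5
  rw [Nat.cast_le] at h6
  omega

end Groth.Agent.Helper4.FibFinE
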