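import Mathlib
import Groth.Agent.Helper4.FibFinC
import Groth.Agent.Helper4.FibFinD
import Groth.Agent.Helper4.FibFinE
set_option autoImplicit false
universe u
open TensorProduct CategoryTheory CategoryTheory.Limits AlgebraicGeometry

namespace Groth.Agent.Helper4.FibFinF
open Groth.Agent.Helper4.FibFinD

variable {Y : Scheme.{u}} [IsAffine Y] (y : Y) (e : ℕ)

/-- global sections of the fibre of affine space are a polynomial ring over the residue field -/
theorem exists_ringEquiv_affineSpace_fiber :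
    Nonempty (Γ((𝔸(ULift.{u} (Fin e); Y) ↘ Y).fiber y, ⊤) ≃+*
      MvPolynomial (Fin e) (Y.residueField y)) := by
  let q := 𝔸(ULift.{u} (Fin e); Y) ↘ Y
  letI := q.appTop.hom.toAlgebra
  letI := (Y.Γevaluation y).hom.toAlgebra
  obtain ⟨e1⟩ := FibFinC.exists_ringEquiv_fiber q y
  let θ : MvPolynomial (Fin e) Γ(Y, ⊤) ≃ₐ[Γ(Y, ⊤)] Γ(𝔸(ULift.{u} (Fin e); Y), ⊤) :=
    AlgEquiv.ofBijective
      { Θ (Y := Y) e with
        commutes' := by
          intro a
          change Θ (Y := Y) e (algebraMap Γ(Y, ⊤) (MvPolynomial (Fin e) Γ(Y, ⊤)) a) = _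
          rw [MvPolynomial.algebraMap_eq]
          simp only [Θ, MvPolynomial.coe_eval₂Hom, MvPolynomial.eval₂_C]
          rfl }
      (Θ_bijective e)
  let e2 : (Y.residueField y) ⊗[Γ(Y, ⊤)] Γ(𝔸(ULift.{u} (Fin e); Y), ⊤) ≃ₐ[Y.residueField y]
      (Y.residueField y) ⊗[Γ(Y, ⊤)] MvPolynomial (Fin e) Γ(Y, ⊤) :=
    Algebra.TensorProduct.congr AlgEquiv.refl θ.symm
  let e3 := MvPolynomial.algebraTensorAlgEquiv (σ := Fin e) Γ(Y, ⊤) (Y.residueField y)
  exact ⟨e1.trans (e2.toRingEquiv.trans e3.toRingEquiv)⟩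

theorem isDomain_affineSpace_fiber :
    IsDomain Γ((𝔸(ULift.{u} (Fin e); Y) ↘ Y).fiber y, ⊤) := by
  obtain ⟨φ⟩ := exists_ringEquiv_affineSpace_fiber y e
  exact φ.toMulEquiv.isDomain _

theorem dim_affineSpace_fiber :
    ringKrullDim Γ((𝔸(ULift.{u} (Fin e); Y) ↘ Y).fiber y, ⊤) = e := by
  obtain ⟨φ⟩ := exists_ringEquiv_affineSpace_fiber y e
  rw [ringKrullDim_eq_of_ringEquiv φ, MvPolynomial.ringKrullDim_of_isNoetherianRing]
  simp

end Groth.Agent.Helper4.FibFinF
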