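import Mathlib
import Groth.Agent.Helper4.FibFinF
set_option autoImplicit false
universe u
open TensorProduct CategoryTheory CategoryTheory.Limits AlgebraicGeometry

namespace Groth.Agent.Helper4.FibFinG
open Groth.Agent.Helper4.FibFinD Groth.Agent.Helper4.FibFinF

theorem surjective_snd {X Y : Scheme.{u}} [IsAffine X] [IsAffine Y]
    (f : X ⟶ Y) (y : Y) (e : ℕ)
    (he : topologicalKrullDim ↥(f.fiber y) = e) (g : X ⟶ 𝔸(ULift.{u} (Fin e); Y))
    (hg : g ≫ (𝔸(ULift.{u} (Fin e); Y) ↘ Y) = f)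
    (hfin : IsFinite (pullback.snd g ((𝔸(ULift.{u} (Fin e); Y) ↘ Y).fiberι y))) :
    Function.Surjective (pullback.snd g ((𝔸(ULift.{u} (Fin e); Y) ↘ Y).fiberι y)).base := by
  subst hg
  set q := 𝔸(ULift.{u} (Fin e); Y) ↘ Y with hq
  set h := pullback.snd g (q.fiberι y) with hh
  let iso : pullback g (q.fiberι y) ≅ (g ≫ q).fiber y :=
    pullbackRightPullbackFstIso q (Y.fromSpecResidueField y) g
  have hP : topologicalKrullDim ↥(pullback g (q.fiberι y)) = e := by
    rw [← he]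
    exact IsHomeomorph.topologicalKrullDim_eq _ iso.hom.homeomorph.isHomeomorph
  have hP' : ringKrullDim Γ(pullback g (q.fiberι y), ⊤) = e := by
    rw [← hP, ← PrimeSpectrum.topologicalKrullDim_eq_ringKrullDim]
    exact (IsHomeomorph.topologicalKrullDim_eq _
      (pullback g (q.fiberι y)).isoSpec.hom.homeomorph.isHomeomorph).symm
  obtain ⟨_, hfin'⟩ := (HasAffineProperty.iff_of_isAffine (P := @IsFinite)).1 hfin
  haveI := isDomain_affineSpace_fiber y e
  have hinj := FibFinE.injective_of_isIntegral_of_dim_eq h.appTop.hom hfin'.to_isIntegral e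
    (dim_affineSpace_fiber y e) hP'
  have hsurj := hfin'.to_isIntegral.comap_surjective hinj
  have hnat := Scheme.isoSpec_hom_naturality h
  intro t
  obtain ⟨p', hp'⟩ := hsurj ((q.fiber y).isoSpec.hom t)
  refine ⟨(pullback g (q.fiberι y)).isoSpec.inv p', ?_⟩
  have h1 : (q.fiber y).isoSpec.hom (h ((pullback g (q.fiberι y)).isoSpec.inv p')) =
      (q.fiber y).isoSpec.hom t := by
    rw [← Scheme.Hom.comp_apply, ← Scheme.Hom.comp_apply, ← hnat, Iso.inv_hom_id_assoc]
    exact hp'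
  have h2 := congrArg (fun z => (q.fiber y).isoSpec.inv z) h1
  simpa using h2

theorem exists_open {X Y : Scheme.{u}} [IsAffine X] [IsAffine Y]
    (f : X ⟶ Y) [LocallyOfFiniteType f] (y : Y) (e : ℕ)
    (g : X ⟶ 𝔸(ULift.{u} (Fin e); Y))
    (hg : g ≫ (𝔸(ULift.{u} (Fin e); Y) ↘ Y) = f)
    (hfin : IsFinite (pullback.snd g ((𝔸(ULift.{u} (Fin e); Y) ↘ Y).fiberι y))) :
    ∃ U : X.Opens, f.base ⁻¹' {y} ⊆ (U : Set X) ∧ LocallyQuasiFinite (U.ι ≫ g) := by
  subst hg
  set q := 𝔸(ULift.{u} (Fin e); Y) ↘ Y with hq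
  haveI : LocallyOfFiniteType g := locallyOfFiniteType_of_comp g q
  refine ⟨g.quasiFiniteLocus, ?_, inferInstance⟩
  intro x hx
  change g.QuasiFiniteAt x
  rw [Scheme.Hom.quasiFiniteAt_iff_isOpen_singleton_asFiber,
    ← (g.fiberHomeo (g x)).isOpen_image]
  simp only [Set.image_singleton, Scheme.Hom.asFiber, Homeomorph.apply_symm_apply]
  set ι := q.fiberι y with hι
  set h := pullback.snd g ι with hh
  have hgx : g x ∈ Set.range ι := by
    rw [q.range_fiberι y]
    exact hx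
  obtain ⟨t, ht⟩ := hgx
  obtain ⟨p, hp1, hp2⟩ := Scheme.Pullback.exists_preimage_pullback (f := g) (g := ι) x t ht.symm
  haveI : LocallyQuasiFinite h := inferInstance
  have hqf : h.QuasiFiniteAt p := h.quasiFiniteAt p
  rw [Scheme.Hom.quasiFiniteAt_iff_isOpen_singleton_asFiber,
    ← (h.fiberHomeo (h p)).isOpen_image] at hqf
  simp only [Set.image_singleton, Scheme.Hom.asFiber, Homeomorph.apply_symm_apply] at hqf
  obtain ⟨V, hVo, hV⟩ := isOpen_induced_iff.mp hqf
  have hemb : Topology.IsEmbedding (pullback.fst g ι) := (pullback.fst g ι).isEmbedding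
  obtain ⟨W, hWo, hW⟩ := hemb.isInducing.isOpen_iff.mp hVo
  refine isOpen_induced_iff.mpr ⟨W, hWo, ?_⟩
  have hpV : p ∈ V := by
    have : (⟨p, rfl⟩ : h ⁻¹' {h p}) ∈ Subtype.val ⁻¹' V := by rw [hV]; rfl
    exact this
  ext ⟨x', hx'⟩
  simp only [Set.mem_preimage, Set.mem_singleton_iff, Subtype.mk.injEq]
  constructor
  · intro hx'W
    have hx'' : g x' = ι t := (hx' : g x' = g x).trans ht.symm
    obtain ⟨p', hp'1, hp'2⟩ := Scheme.Pullback.exists_preimage_pullback (f := g) (g := ι) x' t hx''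
    have hp'V : p' ∈ V := by
      rw [← hW]
      change pullback.fst g ι p' ∈ W
      rw [hp'1]; exact hx'W
    have hp'h : p' ∈ h ⁻¹' {h p} := by
      change h p' = h p
      rw [hp'2, hp2]
    have : (⟨p', hp'h⟩ : h ⁻¹' {h p}) ∈ Subtype.val ⁻¹' V := hp'V
    rw [hV] at this
    have h3 : p' = p := congrArg Subtype.val this
    rw [← hp'1, h3, hp1]
  · rintro rfl
    have : p ∈ pullback.fst g ι ⁻¹' W := by rw [hW]; exact hpV
    change pullback.fst g ι p ∈ W at this
    rwa [hp1] at this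

end Groth.Agent.Helper4.FibFinG
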