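import Groth.Prelude.Def_FlatCA
import Groth.Agent.Helper4.WeakAss
import Mathlib

set_option autoImplicit false
universe u

namespace Groth.Agent.Helper4.FiberAss

open TensorProduct FlatCA

attribute [local instance] Algebra.TensorProduct.rightAlgebra

variable {R S : Type u} [CommRing R] [CommRing S] [Algebra R S] (N : Type u) [AddCommGroup N]
  [Module S N] [Module R N] [IsScalarTower R S N] (p : Ideal R) [p.IsPrime]

/-- the inclusion `S → κ(p) ⊗ S` -/
noncomputable abbrev incl : S →+* p.Fiber S :=
  (Algebra.TensorProduct.includeRight (R := R) (A := p.ResidueField) (B := S)).toRingHom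

theorem smul_eq_raw (s : S) (z : (p.Fiber S) ⊗[S] N) : s • z = (incl p s) • z := by
  induction z using TensorProduct.induction_on with
  | zero => rw [smul_zero, smul_zero]
  | tmul x n =>
    rw [TensorProduct.smul_tmul', TensorProduct.smul_tmul', Algebra.smul_def]
    rfl
  | add a b ha hb => rw [smul_add, smul_add, ha, hb]

theorem smul_eq (s : S) (z : fiberMod p S N) : s • z = (incl p s) • z :=
  smul_eq_raw N p s z

theorem comap_ann (z : fiberMod p S N) :
    (WeakAss.ann (p.Fiber S) z).comap (incl p) = WeakAss.ann S z := by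
  ext s
  rw [Ideal.mem_comap, WeakAss.mem_ann, WeakAss.mem_ann, smul_eq]

theorem isUnit_algebraMap_of_notMem {r : R} (hr : r ∉ p) :
    IsUnit (algebraMap R (p.Fiber S) r) := by
  have h1 : IsUnit (algebraMap R p.ResidueField r) := by
    rw [isUnit_iff_ne_zero]
    intro h0
    apply hr
    have : r ∈ RingHom.ker (algebraMap R p.ResidueField) := h0
    rwa [Ideal.ker_algebraMap_residueField] at this
  have h2 : algebraMap R (p.Fiber S) r =
      algebraMap p.ResidueField (p.Fiber S) (algebraMap R p.ResidueField r) := by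
    rw [← IsScalarTower.algebraMap_apply]
  rw [h2]
  exact h1.map _

theorem isPrime_ann_of_isPrime_comap (z : fiberMod p S N)
    (hq : (WeakAss.ann S z).IsPrime) : (WeakAss.ann (p.Fiber S) z).IsPrime := by
  have hc := comap_ann N p z
  rw [Ideal.isPrime_iff]
  constructor
  · intro htop
    apply hq.ne_top
    rw [← hc, htop, Ideal.comap_top]
  · intro x y hxy
    obtain ⟨r, hr, s, hrs⟩ := Ideal.Fiber.exists_smul_eq_one_tmul p x
    obtain ⟨r', hr', s', hrs'⟩ := Ideal.Fiber.exists_smul_eq_one_tmul p y
    have hmem : ∀ (r : R) (hr : r ∉ p) (x : p.Fiber S),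
        r • x ∈ WeakAss.ann (p.Fiber S) z → x ∈ WeakAss.ann (p.Fiber S) z := by
      intro r hr x hx
      rw [Algebra.smul_def] at hx
      obtain ⟨u, hu⟩ := (isUnit_algebraMap_of_notMem (S := S) p hr).exists_left_inv
      have : x = u * (algebraMap R (p.Fiber S) r * x) := by rw [← mul_assoc, hu, one_mul]
      rw [this]; exact Ideal.mul_mem_left _ _ hx
    have h1 : incl p (s * s') ∈ WeakAss.ann (p.Fiber S) z := by
      have : incl p (s * s') = (r • x) * (r' • y) := by
        rw [hrs, hrs', map_mul]; rfl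
      rw [this, smul_mul_smul_comm, Algebra.smul_def]
      exact Ideal.mul_mem_left _ _ hxy
    have h2 : s * s' ∈ WeakAss.ann S z := by rw [← hc]; exact h1
    rcases hq.mem_or_mem h2 with h3 | h3
    · left
      apply hmem r hr
      rw [hrs]
      have : s ∈ (WeakAss.ann (p.Fiber S) z).comap (incl p) := by rw [hc]; exact h3
      exact this
    · right
      apply hmem r' hr'
      rw [hrs']
      have : s' ∈ (WeakAss.ann (p.Fiber S) z).comap (incl p) := by rw [hc]; exact h3
      exact this

theorem mem_ass_iff (q : Ideal S) [q.IsPrime] :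
    q ∈ FlatCA.ass S (FlatCA.fiberMod p S N) ↔
      ∃ Q ∈ FlatCA.ass (p.Fiber S) (FlatCA.fiberMod p S N), Q.comap (incl p) = q := by
  constructor
  · rintro ⟨hq, z, hz⟩
    have hz' : q = WeakAss.ann S z := hz
    refine ⟨WeakAss.ann (p.Fiber S) z, ⟨?_, z, rfl⟩, ?_⟩
    · apply isPrime_ann_of_isPrime_comap
      rw [← hz']; exact hq
    · rw [comap_ann, ← hz']
  · rintro ⟨Q, ⟨hQ, z, hz⟩, rfl⟩
    have : Q.IsPrime := hQ
    refine ⟨Ideal.comap_isPrime _ _, z, ?_⟩
    rw [hz]
    exact comap_ann N p z

end Groth.Agent.Helper4.FiberAss
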