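import Groth.Agent.Helper4.FiberAss3
import Mathlib

/-!
# Associated primes of `N ⊗ M` for flat `N`
-/

set_option autoImplicit false
universe u

namespace Groth.Agent.Helper4.FiberAss

open TensorProduct FlatCA

attribute [local instance] Algebra.TensorProduct.rightAlgebra

variable {R S : Type u} [CommRing R] [CommRing S] [Algebra R S] (N : Type u) [AddCommGroup N]
  [Module S N] [Module R N] [IsScalarTower R S N] (p : Ideal R)

theorem ann_tmul_one (x : N) :
    WeakAss.ann S (x ⊗ₜ[R] (1 : R ⧸ p)) =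
      WeakAss.ann S (Submodule.Quotient.mk x : N ⧸ pN (S := S) N p) := by
  ext s
  rw [WeakAss.mem_ann, WeakAss.mem_ann, TensorProduct.smul_tmul', ← Submodule.Quotient.mk_smul,
    Submodule.Quotient.mk_eq_zero, mem_pN_iff]
  rw [← (TensorProduct.tensorQuotEquivQuotSMul N p).map_eq_zero_iff,
    ← map_one (Ideal.Quotient.mk p), TensorProduct.tensorQuotEquivQuotSMul_tmul_mk, one_smul,
    Submodule.Quotient.mk_eq_zero]

variable (M : Type u) [AddCommGroup M] [Module R M]

/-- the map `R ⧸ ann m → M`. -/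
noncomputable def quotToSpan (m : M) (hm : p = WeakAss.ann R m) : (R ⧸ p) →ₗ[R] M :=
  Submodule.liftQ p (LinearMap.toSpanSingleton R M m) (by
    intro a ha
    rw [hm, WeakAss.mem_ann] at ha
    exact ha)

theorem quotToSpan_one (m : M) (hm : p = WeakAss.ann R m) :
    quotToSpan p M m hm (1 : R ⧸ p) = m := by
  show quotToSpan p M m hm (Submodule.Quotient.mk 1) = m
  unfold quotToSpan
  rw [Submodule.liftQ_apply]
  simp

theorem quotToSpan_injective (m : M) (hm : p = WeakAss.ann R m) :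
    Function.Injective (quotToSpan p M m hm) := by
  rw [← LinearMap.ker_eq_bot]
  unfold quotToSpan
  rw [Submodule.ker_liftQ_eq_bot']
  ext a
  rw [LinearMap.mem_ker, LinearMap.toSpanSingleton_apply]
  constructor
  · intro ha
    have : a ∈ WeakAss.ann R m := by rw [← hm]; exact ha
    exact WeakAss.mem_ann.mp this
  · intro ha
    have : a ∈ WeakAss.ann R m := WeakAss.mem_ann.mpr ha
    rw [← hm] at this
    exact this

variable [Module.Flat R N]

theorem ann_tmul_of_ann (m : M) (hm : p = WeakAss.ann R m) (x : N) :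
    WeakAss.ann S (x ⊗ₜ[R] m) =
      WeakAss.ann S (Submodule.Quotient.mk x : N ⧸ pN (S := S) N p) := by
  rw [← ann_tmul_one]
  have hinj := Module.Flat.lTensor_preserves_injective_linearMap (M := N) (quotToSpan p M m hm)
    (quotToSpan_injective p M m hm)
  ext s
  rw [WeakAss.mem_ann, WeakAss.mem_ann, TensorProduct.smul_tmul', TensorProduct.smul_tmul']
  have e : (s • x) ⊗ₜ[R] m = (quotToSpan p M m hm).lTensor N ((s • x) ⊗ₜ[R] (1 : R ⧸ p)) := by
    rw [LinearMap.lTensor_tmul, quotToSpan_one]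
  rw [e]
  constructor
  · intro h
    exact hinj (by rw [h, map_zero])
  · intro h
    rw [h, map_zero]

/-- S9648. -/
theorem comap_mem_ass_tensor [p.IsPrime] (hp : p ∈ FlatCA.ass R M) (Q : Ideal (p.Fiber S))
    (hQ : Q ∈ FlatCA.ass (p.Fiber S) (FlatCA.fiberMod p S N)) :
    Q.comap (incl (S := S) p) ∈ FlatCA.ass S (N ⊗[R] M) := by
  have hQp : Q.IsPrime := hQ.1
  have hq : (Q.comap (incl (S := S) p)).IsPrime := Ideal.comap_isPrime _ _
  have h1 : Q.comap (incl (S := S) p) ∈ FlatCA.ass S (fiberMod p S N) :=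
    (mem_ass_iff N p _).mpr ⟨Q, hQ, rfl⟩
  rw [← (ass_quot_eq_ass_fiberMod N p).1] at h1
  obtain ⟨_, x, hx⟩ := h1
  obtain ⟨x, rfl⟩ := Submodule.Quotient.mk_surjective _ x
  obtain ⟨_, m, hm⟩ := hp
  refine ⟨hq, x ⊗ₜ[R] m, ?_⟩
  exact hx.trans (ann_tmul_of_ann N p M m hm x).symm

end Groth.Agent.Helper4.FiberAss
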