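import Groth.Agent.Helper4.FiberAss4
import Mathlib

/-!
# Associated primes of `N ⊗ M` for flat `N` and finite `M` over a Noetherian ring
-/

set_option autoImplicit false
universe u

namespace Groth.Agent.Helper4.FiberAss

open TensorProduct FlatCA

attribute [local instance] Algebra.TensorProduct.rightAlgebra

variable {R S : Type u} [CommRing R] [CommRing S] [Algebra R S] (N : Type u) [AddCommGroup N]
  [Module S N] [Module R N] [IsScalarTower R S N]

section

variable {M₁ M₂ : Type u} [AddCommGroup M₁] [Module R M₁] [AddCommGroup M₂] [Module R M₂]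

theorem lTensor_smulS (f : M₁ →ₗ[R] M₂) (s : S) (y : N ⊗[R] M₁) :
    f.lTensor N (s • y) = s • f.lTensor N y := by
  induction y using TensorProduct.induction_on with
  | zero => rw [smul_zero, map_zero, smul_zero]
  | tmul x m =>
    rw [TensorProduct.smul_tmul', LinearMap.lTensor_tmul, LinearMap.lTensor_tmul,
      TensorProduct.smul_tmul']
  | add a b ha hb => rw [smul_add, map_add, ha, hb, map_add, smul_add]

theorem ann_lTensor_of_injective (f : M₁ →ₗ[R] M₂) (hf : Function.Injective (f.lTensor N))
    (y : N ⊗[R] M₁) : WeakAss.ann S (f.lTensor N y) = WeakAss.ann S y := by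
  ext s
  rw [WeakAss.mem_ann, WeakAss.mem_ann, ← lTensor_smulS]
  constructor
  · intro h
    exact hf (by rw [h, map_zero])
  · intro h
    rw [h, map_zero]

end

/-- The motive of the induction. -/
def Motive (M : Type u) [AddCommGroup M] [Module R M] : Prop :=
  ∀ q : Ideal S, q ∈ FlatCA.ass S (N ⊗[R] M) →
    q ∈ FlatCA.ass S (N ⧸ pN (S := S) N (q.comap (algebraMap R S)))

variable [Module.Flat R N]

theorem motive_quotient (M : Type u) [AddCommGroup M] [Module R M] (p' : Ideal R) [p'.IsPrime]
    (e : M ≃ₗ[R] R ⧸ p') : Motive (R := R) (S := S) N M := by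
  rintro q ⟨hqp, y, hy⟩
  have hinj : Function.Injective (e.toLinearMap.lTensor N) :=
    (LinearEquiv.lTensor N e).injective
  have h1 := ann_lTensor_of_injective (S := S) N e.toLinearMap hinj y
  obtain ⟨x, hx⟩ := Submodule.Quotient.mk_surjective _
    (TensorProduct.tensorQuotEquivQuotSMul N p' (e.toLinearMap.lTensor N y))
  have h2 : e.toLinearMap.lTensor N y = x ⊗ₜ[R] (1 : R ⧸ p') := by
    rw [← TensorProduct.tensorQuotEquivQuotSMul_symm_mk, LinearEquiv.eq_symm_apply]
    exact hx.symm
  rw [h2, ann_tmul_one] at h1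
  have h3 : q ∈ FlatCA.ass S (N ⧸ pN (S := S) N p') := ⟨hqp, Submodule.Quotient.mk x, by
    rw [hy]; exact h1.symm⟩
  have h4 := (ass_quot_eq_ass_fiberMod N p').2 q h3
  rw [h4]
  exact h3

theorem motive_subsingleton (M : Type u) [AddCommGroup M] [Module R M] [Subsingleton M] :
    Motive (R := R) (S := S) N M := by
  rintro q ⟨hqp, y, hy⟩
  exfalso
  apply hqp.ne_top
  have hy0 : ∀ y : N ⊗[R] M, y = 0 := by
    intro y
    induction y using TensorProduct.induction_on with
    | zero => rfl
    | tmul x m => rw [Subsingleton.elim m 0, TensorProduct.tmul_zero]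
    | add a b ha hb => rw [ha, hb, add_zero]
  rw [hy]
  exact WeakAss.ann_eq_top_iff.mpr (hy0 y)

theorem motive_exact (M₁ M₂ M₃ : Type u) [AddCommGroup M₁] [Module R M₁] [AddCommGroup M₂]
    [Module R M₂] [AddCommGroup M₃] [Module R M₃] (f : M₁ →ₗ[R] M₂) (g : M₂ →ₗ[R] M₃)
    (hf : Function.Injective f) (hg : Function.Surjective g) (hfg : Function.Exact f g)
    (h1 : Motive (R := R) (S := S) N M₁) (h3 : Motive (R := R) (S := S) N M₃) : Motive (R := R) (S := S) N M₂ := by
  rintro q ⟨hqp, y, hy⟩
  have hy' : q = WeakAss.ann S y := hy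
  have hfinj := Module.Flat.lTensor_preserves_injective_linearMap (M := N) f hf
  have hex : Function.Exact (f.lTensor N) (g.lTensor N) := lTensor_exact N hfg hg
  by_cases h : ∃ s : S, s • y ≠ 0 ∧ s • y ∈ Set.range (f.lTensor N)
  · obtain ⟨s, hs0, y₁, hy₁⟩ := h
    apply h1 q
    refine ⟨hqp, y₁, ?_⟩
    have hsq : s ∉ q := by
      rw [hy', WeakAss.mem_ann]
      exact hs0
    have e1 := ann_lTensor_of_injective (S := S) N f hfinj y₁
    rw [hy₁] at e1
    show q = WeakAss.ann S y₁
    rw [← e1]
    ext t
    rw [WeakAss.mem_ann, ← mul_smul, ← WeakAss.mem_ann, ← hy']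
    constructor
    · intro ht
      exact Ideal.mul_mem_right _ _ ht
    · intro ht
      rcases hqp.mem_or_mem ht with h | h
      · exact h
      · exact absurd h hsq
  · push_neg at h
    apply h3 q
    refine ⟨hqp, g.lTensor N y, ?_⟩
    show q = WeakAss.ann S (g.lTensor N y)
    rw [hy']
    ext t
    rw [WeakAss.mem_ann, WeakAss.mem_ann, ← lTensor_smulS]
    constructor
    · intro ht
      rw [ht, map_zero]
    · intro ht
      have h5 : t • y ∈ Set.range (f.lTensor N) := (hex (t • y)).mp ht
      by_contra h6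
      exact h t h6 h5

variable [IsNoetherianRing R]

theorem motive_finite (M : Type u) [AddCommGroup M] [Module R M] [hM : Module.Finite R M] :
    Motive (R := R) (S := S) N M := by
  induction hM using IsNoetherianRing.induction_on_isQuotientEquivQuotientPrime with
  | subsingleton M => exact motive_subsingleton N M
  | quotient M p' e =>
    have : p'.asIdeal.IsPrime := p'.2
    exact motive_quotient N M p'.asIdeal e
  | exact M₁ M₂ M₃ f g hf hg hfg h1 h3 => exact motive_exact N M₁ M₂ M₃ f g hf hg hfg h1 h3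

/-- S9670. -/
theorem mem_ass_quot_of_mem_ass_tensor (M : Type u) [AddCommGroup M] [Module R M]
    [Module.Finite R M] (p : Ideal R) (q : Ideal S) (hq : q.comap (algebraMap R S) = p)
    (h : q ∈ FlatCA.ass S (N ⊗[R] M)) : q ∈ FlatCA.ass S (N ⧸ pN (S := S) N p) := by
  have := motive_finite (R := R) (S := S) N M q h
  rw [hq] at this
  exact this

end Groth.Agent.Helper4.FiberAss
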