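import Mathlib

/-!
# Filtered modules over an adically complete ring: finiteness from the associated graded
-/

set_option autoImplicit false

namespace Groth.Agent.Helper4.FiltComplete

open Finset

variable {S : Type*} [CommRing S] (J : Ideal S) {M : Type*} [AddCommGroup M] [Module S M]
variable (G : ℕ → Submodule S M)

/-- Hypotheses on an `ℕ`-indexed filtration. -/
structure Hyp : Prop where
  anti : Antitone G
  mul : ∀ k, J • G k ≤ G (k + 1)
  gen : ∀ k, G (k + 1) ≤ J • G k ⊔ G (k + 2)
  sep : ⨅ k, G k = ⊥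

variable {J G}

theorem pow_smul_le (h : Hyp J G) (n k : ℕ) : J ^ n • G k ≤ G (k + n) := by
  induction n with
  | zero => simp
  | succ n ih =>
    rw [pow_succ', mul_smul]
    exact (Submodule.smul_mono le_rfl ih).trans (h.mul (k + n))

theorem C1 (h : Hyp J G) (k n : ℕ) : G (k + 1) ≤ J • G k ⊔ G (k + 1 + n) := by
  induction n with
  | zero => exact le_sup_right
  | succ n ih =>
    refine ih.trans (sup_le le_sup_left ?_)
    have h1 := h.gen (k + n)
    have e1 : k + n + 1 = k + 1 + n := by omega
    have e2 : k + n + 2 = k + 1 + (n + 1) := by omega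
    rw [e1, e2] at h1
    refine h1.trans (sup_le ?_ le_sup_right)
    exact (Submodule.smul_mono le_rfl (h.anti (Nat.le_add_right k n))).trans le_sup_left

theorem C2 (h : Hyp J G) (k : ℕ) : ∀ n : ℕ, G k ≤ J ^ k • G 0 ⊔ G (k + n) := by
  induction k with
  | zero => intro n; simp
  | succ k ih =>
    intro n
    refine (C1 h k n).trans (sup_le ?_ le_sup_right)
    have h1 := ih (n + 1)
    have h2 : J • G k ≤ J • (J ^ k • G 0 ⊔ G (k + (n + 1))) := Submodule.smul_mono le_rfl h1
    refine h2.trans ?_
    rw [Submodule.smul_sup, ← mul_smul, ← pow_succ']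
    refine sup_le le_sup_left ?_
    have h3 := h.mul (k + (n + 1))
    have h4 : G (k + (n + 1) + 1) ≤ G (k + 1 + n) := h.anti (by omega)
    exact (h3.trans h4).trans le_sup_right

variable {r : ℕ} (x : Fin r → M)

theorem C2' (h : Hyp J G) (hgen : G 0 ≤ Submodule.span S (Set.range x) ⊔ G 1) (k : ℕ) :
    G k ≤ J ^ k • Submodule.span S (Set.range x) ⊔ G (k + 1) := by
  refine (C2 h k 1).trans (sup_le ?_ le_sup_right)
  have h2 : J ^ k • G 0 ≤ J ^ k • (Submodule.span S (Set.range x) ⊔ G 1) :=
    Submodule.smul_mono le_rfl hgen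
  refine h2.trans ?_
  rw [Submodule.smul_sup]
  refine sup_le le_sup_left ?_
  have := pow_smul_le h k 1
  rw [Nat.add_comm 1 k] at this
  exact this.trans le_sup_right

theorem step (h : Hyp J G) (hgen : G 0 ≤ Submodule.span S (Set.range x) ⊔ G 1) (m : ℕ)
    (y : M) (hy : y ∈ G m) :
    ∃ b : Fin r → S, (∀ i, b i ∈ J ^ m) ∧ y - ∑ i, b i • x i ∈ G (m + 1) := by
  have h1 := C2' x h hgen m hy
  obtain ⟨z, hz, y', hy', rfl⟩ := Submodule.mem_sup.mp h1
  obtain ⟨a, ha, rfl⟩ := (Submodule.mem_ideal_smul_span_iff_exists_sum (J ^ m) x z).mp hz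
  refine ⟨fun i => a i, ha, ?_⟩
  have e : (a.sum fun i c => c • x i) = ∑ i, a i • x i :=
    Finsupp.sum_fintype _ _ (fun i => zero_smul _ _)
  rw [e]
  simpa using hy'

theorem main [IsAdicComplete J S] (h : Hyp J G) (hx : ∀ i, x i ∈ G 0)
    (hgen : G 0 ≤ Submodule.span S (Set.range x) ⊔ G 1) (k : ℕ) (y : M) (hy : y ∈ G k) :
    y ∈ J ^ k • Submodule.span S (Set.range x) := by
  classical
  -- recursive construction of the coefficients
  have key : ∀ (n : ℕ) (c : Fin r → S), y - ∑ i, c i • x i ∈ G (k + n) →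
      ∃ c' : Fin r → S, (∀ i, c' i - c i ∈ J ^ (k + n)) ∧ y - ∑ i, c' i • x i ∈ G (k + n + 1) := by
    intro n c hc
    obtain ⟨b, hb, hb'⟩ := step x h hgen (k + n) _ hc
    refine ⟨fun i => c i + b i, fun i => by simpa using hb i, ?_⟩
    have : y - ∑ i, (c i + b i) • x i = y - ∑ i, c i • x i - ∑ i, b i • x i := by
      simp only [add_smul, Finset.sum_add_distrib]
      abel
    rw [this]
    exact hb'
  let T : ℕ → Type _ := fun n => {c : Fin r → S // y - ∑ i, c i • x i ∈ G (k + n)}
  let A : (n : ℕ) → T n := fun n => Nat.rec (motive := T) ⟨0, by simpa using hy⟩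
    (fun n c => ⟨Classical.choose (key n c.1 c.2), (Classical.choose_spec (key n c.1 c.2)).2⟩) n
  have hA : ∀ n i, (A (n + 1)).1 i - (A n).1 i ∈ J ^ (k + n) := fun n i =>
    (Classical.choose_spec (key n (A n).1 (A n).2)).1 i
  have hA0 : ∀ i, (A 0).1 i = 0 := fun i => rfl
  -- the coefficients are Cauchy
  have hdiff : ∀ (m n : ℕ), m ≤ n → ∀ i, (A n).1 i - (A m).1 i ∈ J ^ (k + m) := by
    intro m n hmn i
    induction n, hmn using Nat.le_induction with
    | base => simp
    | succ n hmn ih =>
      have : (A (n + 1)).1 i - (A m).1 i =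
          ((A (n + 1)).1 i - (A n).1 i) + ((A n).1 i - (A m).1 i) := by ring
      rw [this]
      exact Ideal.add_mem _ (Ideal.pow_le_pow_right (by omega) (hA n i)) ih
  have hJk : ∀ n i, (A n).1 i ∈ J ^ k := by
    intro n i
    have := hdiff 0 n (Nat.zero_le n) i
    rw [hA0, sub_zero, Nat.add_zero] at this
    exact this
  have hlim : ∀ i, ∃ a : S, ∀ n, (A n).1 i ≡ a [SMOD (J ^ n • ⊤ : Submodule S S)] := by
    intro i
    apply IsPrecomplete.prec (IsAdicComplete.toIsPrecomplete (I := J) (M := S))
    intro m n hmn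
    rw [SModEq.sub_mem]
    have h1 := hdiff m n hmn i
    have h2 : (A m).1 i - (A n).1 i ∈ J ^ (k + m) := by
      have := Ideal.neg_mem_iff (J ^ (k + m)) |>.mpr h1
      simpa using this
    have h3 : (A m).1 i - (A n).1 i ∈ J ^ m := Ideal.pow_le_pow_right (by omega) h2
    simpa using h3
  choose a ha using hlim
  have ha' : ∀ n i, (A n).1 i - a i ∈ J ^ n := by
    intro n i
    have := (ha i n)
    rw [SModEq.sub_mem] at this
    simpa using this
  have hak : ∀ i, a i ∈ J ^ k := by
    intro i
    have h1 := ha' k i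
    have h2 := hJk k i
    have : a i = (A k).1 i - ((A k).1 i - a i) := by ring
    rw [this]
    exact Ideal.sub_mem _ h2 h1
  -- the limit represents y
  have hy0 : y - ∑ i, a i • x i = 0 := by
    have hmem : ∀ n, y - ∑ i, a i • x i ∈ G n := by
      intro n
      have e : y - ∑ i, a i • x i =
          (y - ∑ i, (A n).1 i • x i) + ∑ i, ((A n).1 i - a i) • x i := by
        simp only [sub_smul, Finset.sum_sub_distrib]
        abel
      rw [e]
      apply Submodule.add_mem
      · exact h.anti (Nat.le_add_left n k) (A n).2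
      · apply Submodule.sum_mem
        intro i _
        have := pow_smul_le h n 0
        rw [Nat.zero_add] at this
        exact this (Submodule.smul_mem_smul (ha' n i) (hx i))
    have : y - ∑ i, a i • x i ∈ ⨅ k, G k := by
      rw [Submodule.mem_iInf]
      exact hmem
    rw [h.sep] at this
    exact this
  have hy1 : y = ∑ i, a i • x i := sub_eq_zero.mp hy0
  rw [hy1]
  apply Submodule.sum_mem
  intro i _
  exact Submodule.smul_mem_smul (hak i) (Submodule.subset_span (Set.mem_range_self i))

/-- Conclusion: the filtration is `J`-good and generated by the `x i`. -/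
theorem eq_pow_smul [IsAdicComplete J S] (h : Hyp J G) (hx : ∀ i, x i ∈ G 0)
    (hgen : G 0 ≤ Submodule.span S (Set.range x) ⊔ G 1) (k : ℕ) :
    G k = J ^ k • Submodule.span S (Set.range x) := by
  apply le_antisymm
  · intro y hy
    exact main x h hx hgen k y hy
  · have h1 : Submodule.span S (Set.range x) ≤ G 0 := by
      rw [Submodule.span_le]
      rintro _ ⟨i, rfl⟩
      exact hx i
    have h2 := pow_smul_le h k 0
    rw [Nat.zero_add] at h2
    exact (Submodule.smul_mono le_rfl h1).trans h2

end Groth.Agent.Helper4.FiltComplete
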