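import Mathlib
import Groth.Agent.Helper6.CF2
import Groth.Agent.Helper6.FiltQC
import Groth.Agent.Helper2.TF1

set_option autoImplicit false
set_option backward.isDefEq.respectTransparency false
set_option backward.isDefEq.respectTransparency.types false

/-!
# Sections of a filtered colimit of abelian sheaves: local lifting and local vanishing
-/

universe u

open CategoryTheory CategoryTheory.Limits Opposite

namespace Groth.Agent.Helper4.FiltSecA

variable {C : Type u} [SmallCategory C] {J : GrothendieckTopology C}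
  {Λ : Type u} [SmallCategory Λ] [IsFiltered Λ] (D : Λ ⥤ Sheaf J AddCommGrpCat.{u})
  {c : Cocone D} (hc : IsColimit c)

include hc in
/-- every section of the colimit sheaf locally comes from a stage -/
theorem loc_surj {V : C} (s : c.pt.obj.obj (op V)) :
    ∃ T ∈ J V, ∀ ⦃W : C⦄ (g : W ⟶ V), T g →
      ∃ (l : Λ) (y : (D.obj l).obj.obj (op W)),
        (c.ι.app l).hom.app (op W) y = c.pt.obj.map g.op s := by
  have hc' : IsColimit ((Groth.Agent.Helper6.CF.U J).mapCocone c) := isColimitOfPreserves _ hc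
  have hje : Groth.Agent.Helper2.TF1.JE (fun l => (D ⋙ Groth.Agent.Helper6.CF.U J).obj l)
      (fun l => ((Groth.Agent.Helper6.CF.U J).mapCocone c).ι.app l) := by
    intro Z a b hab
    exact hc'.hom_ext hab
  obtain ⟨T, hT, h⟩ := hje.ljs V s
  refine ⟨T, hT, fun W g hg => ?_⟩
  obtain ⟨l, y, hy⟩ := h g hg
  exact ⟨l, y, hy⟩

include hc in
/-- a section of a stage dying in the colimit sheaf dies locally at later stages -/
theorem loc_inj {V : C} {l : Λ} (y : (D.obj l).obj.obj (op V))
    (h : (c.ι.app l).hom.app (op V) y = 0) :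
    ∃ T ∈ J V, ∀ ⦃W : C⦄ (g : W ⟶ V), T g →
      ∃ (m : Λ) (a : l ⟶ m), (D.map a).hom.app (op W) ((D.obj l).obj.map g.op y) = 0 := by
  have hc' : IsColimit ((Groth.Agent.Helper6.CF.U J).mapCocone c) := isColimitOfPreserves _ hc
  have h' : (c.ι.app l).hom.app (op V) y = (c.ι.app l).hom.app (op V) 0 := by
    rw [h, map_zero]
  obtain ⟨T, hT, hTT⟩ := Groth.Agent.Helper6.FiltQC.locally_eventually_eq
    (D ⋙ Groth.Agent.Helper6.CF.U J) hc' (k := l) (U := V) y (0 : (D.obj l).obj.obj (op V)) h'
  refine ⟨T, hT, fun W g hg => ?_⟩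
  obtain ⟨m, a, ha⟩ := hTT g hg
  refine ⟨m, a, ?_⟩
  have ha' : (D.map a).hom.app (op W) ((D.obj l).obj.map g.op y) =
      (D.map a).hom.app (op W) ((D.obj l).obj.map g.op 0) := ha
  rw [ha', map_zero, map_zero]

end Groth.Agent.Helper4.FiltSecA
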