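import Mathlib
import Groth.Agent.Helper4.FiltSecA
import Groth.Agent.Helper9.CechH1Surj

set_option autoImplicit false
set_option backward.isDefEq.respectTransparency false
set_option backward.isDefEq.respectTransparency.types false

/-!
# Sections over members of a collection `(B, Cov)` of quasi-compact objects commute with
filtered colimits; Čech cochains of a filtered colimit
-/

universe u

open CategoryTheory CategoryTheory.Limits Opposite

namespace Groth.Agent.Helper4.FiltSecB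

open Groth.Agent.Helper1.Cech Groth.Agent.Helper9.CechEdgeA Groth.Agent.Helper9.CechH1Surj
  Groth.Agent.Helper4.FiltSecA

section common

variable {Λ : Type u} [SmallCategory Λ] [IsFiltered Λ]

lemma exists_common {κ : Type*} [Finite κ] (l : Λ) (m : κ → Λ) (a : ∀ i, l ⟶ m i) :
    ∃ (n : Λ) (b : l ⟶ n) (e : ∀ i, m i ⟶ n), ∀ i, a i ≫ e i = b := by
  classical
  haveI := Fintype.ofFinite κ
  let O : Finset Λ := insert l (Finset.univ.image m)
  have hl : l ∈ O := Finset.mem_insert_self _ _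
  have hm : ∀ i, m i ∈ O := fun i =>
    Finset.mem_insert_of_mem (Finset.mem_image_of_mem m (Finset.mem_univ i))
  let H : Finset (Σ' (X Y : Λ) (_ : X ∈ O) (_ : Y ∈ O), X ⟶ Y) :=
    Finset.univ.image (fun i => ⟨l, m i, hl, hm i, a i⟩)
  obtain ⟨S, T, hT⟩ := IsFiltered.sup_exists O H
  refine ⟨S, T hl, fun i => T (hm i), fun i => ?_⟩
  exact hT hl (hm i) (Finset.mem_image_of_mem _ (Finset.mem_univ i))

lemma exists_common_obj {κ : Type*} [Finite κ] (m : κ → Λ) :
    ∃ (n : Λ), ∀ i, Nonempty (m i ⟶ n) := by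
  classical
  haveI := Fintype.ofFinite κ
  obtain ⟨S, hS⟩ := IsFiltered.sup_objs_exists (Finset.univ.image m)
  exact ⟨S, fun i => hS (Finset.mem_image_of_mem m (Finset.mem_univ i))⟩

end common

variable {C : Type u} [SmallCategory C] [HasPullbacks C] {J : GrothendieckTopology C}

/-- separatedness of an abelian sheaf for a covering family -/
lemma sep (F : Sheaf J AddCommGrpCat.{u}) {U : C} {ι : Type u} (Y : ι → Over U)
    (hY : Sieve.ofArrows (fun i => (Y i).left) (fun i => (Y i).hom) ∈ J U)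
    (t : F.obj.obj (op U)) (ht : ∀ i, F.obj.map (Y i).hom.op t = 0) : t = 0 := by
  have h := Groth.Agent.Helper2.TF1.sheaf_sep ((Groth.Agent.Helper6.CF.U J).obj F) hY
    (t₁ := t) (t₂ := (0 : F.obj.obj (op U))) ?_
  · exact h
  · intro V g hg
    obtain ⟨i, a, rfl⟩ := (Sieve.mem_ofArrows_iff _ _ _).1 hg
    show F.obj.map (a ≫ (Y i).hom).op t = F.obj.map (a ≫ (Y i).hom).op 0
    rw [op_comp, F.obj.map_comp, ConcreteCategory.comp_apply, ht i, map_zero, map_zero]

variable {Λ : Type u} [SmallCategory Λ] [IsFiltered Λ] (D : Λ ⥤ Sheaf J AddCommGrpCat.{u})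
  {c : Cocone D} (hc : IsColimit c)
  (B : Set C) (Cov : ∀ (U : C) (ι : Type u), (ι → Over U) → Prop)
  (h1 : ∀ (U : C) (ι : Type u) (Y : ι → Over U), Cov U ι Y → Finite ι ∧ U ∈ B ∧
      Sieve.ofArrows (fun i => (Y i).left) (fun i => (Y i).hom) ∈ J U ∧
      ∀ (p : ℕ) (a : Fin (p + 1) → ι), (∏ᶜ fun k => Y (a k)).left ∈ B)
  (h2 : ∀ U ∈ B, ∀ T ∈ J U, ∃ (ι : Type u) (Y : ι → Over U), Cov U ι Y ∧ ∀ i, T.arrows (Y i).hom)

/-- the cocone leg on underlying presheaves -/
abbrev ιh (c : Cocone D) (l : Λ) : (D.obj l).obj ⟶ c.pt.obj := (c.ι.app l).hom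

lemma ιh_w (c : Cocone D) {l m : Λ} (a : l ⟶ m) : (D.map a).hom ≫ ιh D c m = ιh D c l := by
  show (D.map a ≫ c.ι.app m).hom = (c.ι.app l).hom
  rw [c.w a]

lemma map_naturality {F G : Sheaf J AddCommGrpCat.{u}} (φ : F ⟶ G) {V W : C} (g : W ⟶ V)
    (y : F.obj.obj (op V)) :
    φ.hom.app (op W) (F.obj.map g.op y) = G.obj.map g.op (φ.hom.app (op V) y) := by
  have h := ConcreteCategory.congr_hom (φ.hom.naturality g.op) y
  rw [ConcreteCategory.comp_apply, ConcreteCategory.comp_apply] at h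
  exact h

lemma map_comp_apply {l m n : Λ} (a : l ⟶ m) (b : m ⟶ n) (V : C)
    (y : (D.obj l).obj.obj (op V)) :
    (D.map (a ≫ b)).hom.app (op V) y = (D.map b).hom.app (op V) ((D.map a).hom.app (op V) y) := by
  rw [D.map_comp]
  rfl

lemma ι_map_apply {l m : Λ} (a : l ⟶ m) (V : C) (y : (D.obj l).obj.obj (op V)) :
    (ιh D c m).app (op V) ((D.map a).hom.app (op V) y) = (ιh D c l).app (op V) y := by
  rw [← ιh_w D c a]
  rfl

include hc h1 h2 in
/-- injectivity over members of `B` -/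
theorem inj_B {U : C} (hU : U ∈ B) {l : Λ} (y : (D.obj l).obj.obj (op U))
    (h : (ιh D c l).app (op U) y = 0) :
    ∃ (m : Λ) (a : l ⟶ m), (D.map a).hom.app (op U) y = 0 := by
  obtain ⟨T, hT, hTT⟩ := loc_inj D hc y h
  obtain ⟨ι, Y, hY, hYT⟩ := h2 U hU T hT
  haveI : Finite ι := (h1 U ι Y hY).1
  choose m a ha using fun i => hTT (Y i).hom (hYT i)
  obtain ⟨n, b, e, he⟩ := exists_common l m a
  refine ⟨n, b, sep (D.obj n) Y (h1 U ι Y hY).2.2.1 _ (fun i => ?_)⟩
  rw [← map_naturality, ← he i, map_comp_apply, ha i, map_zero]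

variable {U : C} {ι : Type u} (Y : ι → Over U)

lemma mapC_comp {P P' P'' : Cᵒᵖ ⥤ AddCommGrpCat.{u}} (φ : P ⟶ P') (ψ : P' ⟶ P'') (n : ℕ)
    (z : (cx Y (Q P)).X n) :
    (mapC Y (φ ≫ ψ)).f n z = (mapC Y ψ).f n ((mapC Y φ).f n z) := by
  apply Groth.Agent.Helper1.Cech.ext
  intro x
  rw [comp_mapC, comp_mapC, comp_mapC]
  rfl

include hc h1 h2 in
/-- a cochain at a stage dying in the colimit dies at a later stage -/
theorem cochain_inj (hY : Cov U ι Y) {l : Λ} (n : ℕ) (z : (cx Y (Q (D.obj l).obj)).X n)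
    (hz : (mapC Y (ιh D c l)).f n z = 0) :
    ∃ (m : Λ) (a : l ⟶ m), (mapC Y (D.map a).hom).f n z = 0 := by
  haveI : Finite ι := (h1 U ι Y hY).1
  have hx : ∀ x : Fin (n + 1) → ι, ∃ (m : Λ) (a : l ⟶ m),
      (D.map a).hom.app (op (prodU Y x).left) (comp Y (Q (D.obj l).obj) n x z) = 0 := by
    intro x
    refine inj_B D hc B Cov h1 h2 ((h1 U ι Y hY).2.2.2 n x) _ ?_
    have := comp_mapC Y (ιh D c l) n x z
    rw [hz, map_zero] at this
    exact this.symm
  choose m a ha using hx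
  obtain ⟨k, b, e, he⟩ := exists_common l m a
  refine ⟨k, b, ?_⟩
  apply Groth.Agent.Helper1.Cech.ext
  intro x
  rw [comp_mapC, map_zero, ← he x]
  exact (map_comp_apply D (a x) (e x) _ _).trans (by rw [ha x, map_zero])

include hc h1 h2 in
/-- surjectivity over members of `B` -/
theorem surj_B {U : C} (hU : U ∈ B) (s : c.pt.obj.obj (op U)) :
    ∃ (l : Λ) (y : (D.obj l).obj.obj (op U)), (ιh D c l).app (op U) y = s := by
  obtain ⟨T, hT, hTT⟩ := loc_surj D hc s
  obtain ⟨ι, Y, hY, hYT⟩ := h2 U hU T hT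
  haveI : Finite ι := (h1 U ι Y hY).1
  have hcov := (h1 U ι Y hY).2.2.1
  -- local lifts on the `prodU Y x`, `x : Fin 1 → ι`
  have hx : ∀ x : Fin 1 → ι, ∃ (l : Λ) (y : (D.obj l).obj.obj (op (prodU Y x).left)),
      (ιh D c l).app (op (prodU Y x).left) y = c.pt.obj.map (prodU Y x).hom.op s := by
    intro x
    have hmem : T.arrows (prodU Y x).hom := by
      have e : (prodU Y x).hom = (Pi.π (Y ∘ x) 0).left ≫ (Y (x 0)).hom :=
        (Over.w (Pi.π (Y ∘ x) 0)).symm
      rw [e]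
      exact T.downward_closed (hYT (x 0)) _
    exact hTT _ hmem
  choose lx yx hyx using hx
  obtain ⟨l, hl⟩ := exists_common_obj lx
  let e : ∀ x, lx x ⟶ l := fun x => (hl x).some
  let z : (cx Y (Q (D.obj l).obj)).X 0 :=
    mk (fun x => (D.map (e x)).hom.app (op (prodU Y x).left) (yx x))
  have hz : (mapC Y (ιh D c l)).f 0 z = CechEdge.toCech₀ c.pt.obj Y s := by
    apply Groth.Agent.Helper1.Cech.ext
    intro x
    rw [comp_mapC, comp_toCech₀]
    dsimp only [z]
    rw [comp_mk]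
    exact (ι_map_apply D (e x) _ _).trans (hyx x)
  have hdz : (mapC Y (ιh D c l)).f 1 ((cx Y (Q (D.obj l).obj)).d 0 1 z) = 0 := by
    rw [mapC_d, hz]
    have h := ConcreteCategory.congr_hom (CechEdge.toCech₀_d c.pt.obj Y) s
    rw [ConcreteCategory.comp_apply] at h
    exact h
  obtain ⟨m, a, ha⟩ := cochain_inj D hc B Cov h1 h2 Y hY 1 _ hdz
  rw [mapC_d] at ha
  obtain ⟨hex, -⟩ := (bijective_toCech_iff Y (D.obj m).obj).1
    (Groth.Agent.Helper9.CechEdgeB.bijective_toCech_of_isSheaf Y hcov (D.obj m))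
  obtain ⟨t, ht⟩ := hex _ ha
  refine ⟨m, t, ?_⟩
  obtain ⟨-, hinj⟩ := (bijective_toCech_iff Y c.pt.obj).1
    (Groth.Agent.Helper9.CechEdgeB.bijective_toCech_of_isSheaf Y hcov c.pt)
  apply hinj
  rw [← hz]
  have e1 : CechEdge.toCech₀ c.pt.obj Y ((ιh D c m).app (op U) t) =
      (mapC Y (ιh D c m)).f 0 (CechEdge.toCech₀ (D.obj m).obj Y t) := by
    apply Groth.Agent.Helper1.Cech.ext
    intro x
    rw [comp_mapC, comp_toCech₀, comp_toCech₀]
    exact (map_naturality (c.ι.app m) _ t).symm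
  rw [e1, ht, ← mapC_comp, ιh_w]

include hc h1 h2 in
/-- every cochain of the colimit comes from a stage -/
theorem cochain_surj (hY : Cov U ι Y) (n : ℕ) (z : (cx Y (Q c.pt.obj)).X n) :
    ∃ (l : Λ) (z' : (cx Y (Q (D.obj l).obj)).X n), (mapC Y (ιh D c l)).f n z' = z := by
  haveI : Finite ι := (h1 U ι Y hY).1
  have hx : ∀ x : Fin (n + 1) → ι, ∃ (l : Λ) (y : (D.obj l).obj.obj (op (prodU Y x).left)),
      (ιh D c l).app (op (prodU Y x).left) y = comp Y (Q c.pt.obj) n x z :=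
    fun x => surj_B D hc B Cov h1 h2 ((h1 U ι Y hY).2.2.2 n x) _
  choose lx yx hyx using hx
  obtain ⟨l, hl⟩ := exists_common_obj lx
  let e : ∀ x, lx x ⟶ l := fun x => (hl x).some
  refine ⟨l, mk (fun x => (D.map (e x)).hom.app (op (prodU Y x).left) (yx x)), ?_⟩
  apply Groth.Agent.Helper1.Cech.ext
  intro x
  rw [comp_mapC, comp_mk]
  exact (ι_map_apply D (e x) _ _).trans (hyx x)

include hc h1 h2 in
/-- Čech-acyclicity passes to filtered colimits -/
theorem isZero_cechH (hY : Cov U ι Y) (p : ℕ)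
    (hD : ∀ l, IsZero (CohCx.cechH (D.obj l).obj Y (p + 1))) :
    IsZero (CohCx.cechH c.pt.obj Y (p + 1)) := by
  apply isZero_homology_of_exists
  intro z hz
  obtain ⟨l, z', rfl⟩ := cochain_surj D hc B Cov h1 h2 Y hY (p + 1) z
  rw [← mapC_d] at hz
  obtain ⟨m, a, ha⟩ := cochain_inj D hc B Cov h1 h2 Y hY (p + 2) _ hz
  rw [mapC_d] at ha
  obtain ⟨b, hb⟩ := exists_of_isZero_homology _ p (hD m) _ ha
  refine ⟨(mapC Y (ιh D c m)).f p b, ?_⟩
  rw [← mapC_d, hb, ← mapC_comp, ιh_w]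

end Groth.Agent.Helper4.FiltSecB
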