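import Groth.Agent.Helper4.GalGeom
import Mathlib

set_option autoImplicit false
universe u
open CategoryTheory CategoryTheory.Limits AlgebraicGeometry Opposite

namespace Groth.Agent.Helper4.GalGeomIrr

open Groth.Agent.Helper4.GalTrans Groth.Agent.Helper4.GeomConnSch Groth.Agent.Helper4.IrrCompBC
  Groth.Agent.Helper4.GalDesc Groth.Agent.Helper4.GeomBC Groth.Agent.Helper4.ConnFinSep
  Groth.Agent.Helper4.GalStable Groth.Agent.Helper4.GeomConnSub Groth.Agent.Helper4.GeomIrrSch
  Groth.Agent.Helper4.ConnImage Groth.Agent.Helper4.ConnGal Groth.Agent.Helper4.FinLevelOpen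
  Groth.Agent.Helper4.GalGeom

variable (k : Type u) [Field k] (X : Scheme.{u}) [X.Over (Spec (CommRingCat.of k))]
  (K : Type u) [Field K] [Algebra k K]

/-- If `X_K` has finitely many irreducible components (`K / k` normal, separably closed), then
over some finite subextension `E` all irreducible components of `X_E` are geometrically
irreducible. -/
theorem exists_level_geomIrr [Normal k K] [IsSepClosed K]
    (hfin : (irreducibleComponents ↥(Curv2.bc k X K)).Finite) :
    ∃ E : IntermediateField k K, FiniteDimensional k E ∧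
      ∀ (T : Set ↥(Curv2.bc k X E)) (_ : T ∈ irreducibleComponents ↥(Curv2.bc k X E))
        {Z : Scheme.{u}} (ι : Z ⟶ Curv2.bc k X E) [IsClosedImmersion ι], Set.range ι = T →
        GeometricallyIrreducible (ι ≫ Curv2.bcSnd k X E) := by
  choose! EZ hEZ hst using fun Z (hZ : Z ∈ irreducibleComponents ↥(Curv2.bc k X K)) =>
    exists_stable_irreducibleComponent hfin Z hZ
  obtain ⟨E₀, hE₀, hle⟩ := exists_fd_sup _ hfin EZ hEZ
  refine ⟨E₀, hE₀, ?_⟩
  intro T hT Z ι _ hr
  set f := X ↘ Spec (CommRingCat.of k) with hf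
  obtain ⟨Z'', hZ'', himg⟩ := exists_image_eq_of_mem_irreducibleComponents (q k X K E₀)
    (q k X K E₀).continuous (isClosedMap_bcMap f E₀ K) (Flat.generalizingMap _)
    (bcMap_surjective f E₀ K) hT
  have hstab : Stable k X K E₀ Z'' := (hst Z'' hZ'').mono (hle Z'' hZ'')
  have hpre : q k X K E₀ ⁻¹' Set.range ι = Z'' := by
    rw [hr, ← himg]
    exact hstab.preimage_image
  refine geometricallyIrreducible_of_isPullback K (Curv2.bcSnd k X E₀) (q k X K E₀)
    (Curv2.bcSnd k X K) (isPullback_bcMap f E₀ K) ι ?_
  rw [hpre]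
  exact hZ''.1

/-- S1654 -/
theorem main [LocallyOfFiniteType (X ↘ Spec (CommRingCat.of k))]
    (hirr : (irreducibleComponents ↥X).Finite) :
    ∃ E : IntermediateField k (SeparableClosure k), FiniteDimensional k E ∧
      ∀ (T : Set ↥(Curv2.bc k X E)) (hT : T ∈ irreducibleComponents ↥(Curv2.bc k X E)),
        GeometricallyIrreducible
          ((Scheme.IdealSheafData.vanishingIdeal
              ⟨T, isClosed_of_mem_irreducibleComponents T hT⟩).subschemeι ≫
            Curv2.bcSnd k X E) := by
  haveI : Normal k (SeparableClosure k) := IsGalois.to_normal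
  have hfinK : (irreducibleComponents ↥(Curv2.bc k X (SeparableClosure k))).Finite := by
    refine (hirr.biUnion (fun T hT =>
      GalOrbit.finite_components_over k X (SeparableClosure k) hT)).subset ?_
    intro Z hZ
    refine Set.mem_biUnion
      ((irreducibleComponents_bc (X ↘ Spec (CommRingCat.of k)) (SeparableClosure k)).1 Z hZ) ?_
    exact ⟨hZ, subset_rfl⟩
  obtain ⟨E, hE, h⟩ := exists_level_geomIrr k X (SeparableClosure k) hfinK
  refine ⟨E, hE, fun T hT => h T hT _ ?_⟩
  rw [Scheme.IdealSheafData.range_subschemeι]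
  simp

end Groth.Agent.Helper4.GalGeomIrr
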