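import Mathlib
import Groth.Agent.Helper3.QFResFin
import Groth.Prelude.Def_MoreMor

set_option autoImplicit false
universe u
open CategoryTheory CategoryTheory.Limits AlgebraicGeometry Opposite

namespace Groth.Agent.Helper4.WtA

/-- Separable degree of the residue field extension at `x`. -/
noncomputable def sd {P V : Scheme.{u}} (p : P ⟶ V) (x : P) : ℕ :=
  letI := (p.residueFieldMap x).hom.toAlgebra
  Field.finSepDegree (V.residueField (p x)) (P.residueField x)

/-- The weighted sum over the points of `S` in the fibre over `v`. -/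
noncomputable def FI {P V : Scheme.{u}} (p : P ⟶ V) (w : P → ℤ) (S : Set P) (v : V) : ℤ :=
  ∑ᶠ x ∈ S ∩ p ⁻¹' {v}, w x * (sd p x : ℤ)

/-- The closed point of the spectrum of a field. -/
noncomputable abbrev pt (Ω : Type u) [Field Ω] : Spec (CommRingCat.of Ω) :=
  IsLocalRing.closedPoint Ω

theorem spec_eq {Ω : Type u} [Field Ω] {Q : Scheme.{u}} (t : Spec (CommRingCat.of Ω) ⟶ Q) :
    Spec.map (Q.descResidueField (Scheme.stalkClosedPointTo t)) ≫
      Q.fromSpecResidueField (t (pt Ω)) = t :=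
  Scheme.descResidueField_stalkClosedPointTo_fromSpecResidueField Ω Q t

theorem congr_inv_from {Q : Scheme.{u}} {a b : Q} (h : a = b) :
    Spec.map (Q.residueFieldCongr h).inv ≫ Q.fromSpecResidueField b = Q.fromSpecResidueField a := by
  subst h; simp

/-- Counting geometric points: the number of `Ω`-points of `Q` at `y` over a given `Ω`-point of
`W` is the separable degree of the residue field extension. -/
theorem card_pts {Q W : Scheme.{u}} (q : Q ⟶ W) (Ω : Type u) [Field Ω] [IsAlgClosed Ω]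
    (ω : Spec (CommRingCat.of Ω) ⟶ W) (y : Q) (hy : ω (pt Ω) = q y)
    (halg : letI := (q.residueFieldMap y).hom.toAlgebra
      Algebra.IsAlgebraic (W.residueField (q y)) (Q.residueField y)) :
    Nat.card {t : Spec (CommRingCat.of Ω) ⟶ Q // t ≫ q = ω ∧ t (pt Ω) = y} = sd q y := by
  letI := (q.residueFieldMap y).hom.toAlgebra
  set ψ : W.residueField (ω (pt Ω)) ⟶ CommRingCat.of Ω :=
    W.descResidueField (Scheme.stalkClosedPointTo ω) with hψ
  set ψ' : W.residueField (q y) ⟶ CommRingCat.of Ω := (W.residueFieldCongr hy).inv ≫ ψ with hψ'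
  have hω : Spec.map ψ' ≫ W.fromSpecResidueField (q y) = ω := by
    rw [hψ', Spec.map_comp, Category.assoc, congr_inv_from hy]
    exact spec_eq ω
  letI : Algebra (W.residueField (q y)) Ω := ψ'.hom.toAlgebra
  unfold sd
  rw [Field.finSepDegree_eq_of_isAlgClosed (W.residueField (q y)) (Q.residueField y) Ω]
  symm
  -- forward map
  have hfwd : ∀ φ : (Q.residueField y) →ₐ[W.residueField (q y)] Ω,
      (Spec.map (CommRingCat.ofHom (φ : (Q.residueField y) →+* Ω)) ≫ Q.fromSpecResidueField y) ≫ q = ω ∧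
      (Spec.map (CommRingCat.ofHom (φ : (Q.residueField y) →+* Ω)) ≫ Q.fromSpecResidueField y) (pt Ω) = y := by
    intro φ
    refine ⟨?_, Scheme.fromSpecResidueField_apply y _⟩
    rw [Category.assoc, ← Scheme.Hom.SpecMap_residueFieldMap_fromSpecResidueField, ← Category.assoc,
      ← Spec.map_comp, ← hω]
    congr 2
    ext a
    exact φ.commutes a
  refine Nat.card_congr (Equiv.ofBijective (fun φ => ⟨_, hfwd φ⟩) ⟨?_, ?_⟩)
  · intro φ₁ φ₂ h
    have h1 := congrArg Subtype.val h
    simp only at h1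
    rw [cancel_mono, Spec.map_inj] at h1
    ext a
    have := congrArg (fun m => m.hom a) h1
    simpa using this
  · rintro ⟨t, ht1, ht2⟩
    set χ : Q.residueField y ⟶ CommRingCat.of Ω :=
      (Q.residueFieldCongr ht2).inv ≫ Q.descResidueField (Scheme.stalkClosedPointTo t) with hχ
    have hb : Spec.map χ ≫ Q.fromSpecResidueField y = t := by
      rw [hχ, Spec.map_comp, Category.assoc, congr_inv_from ht2]
      exact spec_eq t
    have ha : q.residueFieldMap y ≫ χ = ψ' := by
      rw [← Spec.map_inj, ← cancel_mono (W.fromSpecResidueField (q y)), hω, Spec.map_comp,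
        Category.assoc, Scheme.Hom.SpecMap_residueFieldMap_fromSpecResidueField, ← Category.assoc, hb, ht1]
    refine ⟨⟨χ.hom, ?_⟩, ?_⟩
    · intro a
      exact congrArg (fun m => m.hom a) ha
    · apply Subtype.ext
      exact hb

/-- Finite-dimensionality of residue field extensions. -/
def ResFin {P V : Scheme.{u}} (p : P ⟶ V) (x : P) : Prop :=
  letI := (p.residueFieldMap x).hom.toAlgebra
  Module.Finite (V.residueField (p x)) (P.residueField x)

theorem resFin_of_lqf {P V : Scheme.{u}} (p : P ⟶ V) [LocallyQuasiFinite p] (x : P) :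
    ResFin p x :=
  Groth.Agent.Helper3.QFResFin.finite_residueFieldMap p x (p.quasiFiniteAt x)

theorem sd_pos {P V : Scheme.{u}} (p : P ⟶ V) (x : P) (hx : ResFin p x) : 0 < sd p x := by
  letI := (p.residueFieldMap x).hom.toAlgebra
  haveI : Module.Finite (V.residueField (p x)) (P.residueField x) := hx
  exact Nat.pos_of_ne_zero (NeZero.ne (Field.finSepDegree (V.residueField (p x)) (P.residueField x)))

/-- The key identity: the separable degrees of the points of a base change above a given point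
add up to the separable degree below. -/
theorem key_identity {P' P V' V : Scheme.{u}} {h : P' ⟶ P} {p' : P' ⟶ V'} {p : P ⟶ V}
    {g : V' ⟶ V} (hc : IsPullback h p' p g) (x : P) (v' : V') (hx : p x = g v')
    (hfin : ResFin p x) (hfin' : ∀ x' : P', h x' = x → p' x' = v' → ResFin p' x') :
    ∃ hB : {x' : P' | h x' = x ∧ p' x' = v'}.Finite,
      ∑ x' ∈ hB.toFinset, sd p' x' = sd p x := by
  classical
  set Ω := AlgebraicClosure (V'.residueField v') with hΩ
  set ω' : Spec (CommRingCat.of Ω) ⟶ V' :=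
    Spec.map (CommRingCat.ofHom (algebraMap (V'.residueField v') Ω)) ≫ V'.fromSpecResidueField v'
    with hω'
  have hω'pt : ω' (pt Ω) = v' := Scheme.fromSpecResidueField_apply v' _
  set ω : Spec (CommRingCat.of Ω) ⟶ V := ω' ≫ g with hω
  have hωpt : ω (pt Ω) = p x := by
    rw [hx]
    show g (ω' (pt Ω)) = g v'
    exact congrArg (fun z => g z) hω'pt
  -- the two sets of points
  let T' := {t : Spec (CommRingCat.of Ω) ⟶ P' // t ≫ p' = ω' ∧ h (t (pt Ω)) = x}
  let T := {s : Spec (CommRingCat.of Ω) ⟶ P // s ≫ p = ω ∧ s (pt Ω) = x}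
  have e : T' ≃ T :=
    { toFun := fun t => ⟨t.1 ≫ h, by
        rw [Category.assoc, hc.w, ← Category.assoc, t.2.1], t.2.2⟩
      invFun := fun s => ⟨hc.lift s.1 ω' s.2.1, hc.lift_snd _ _ _, by
        have : hc.lift s.1 ω' s.2.1 ≫ h = s.1 := hc.lift_fst _ _ _
        have h2 : h ((hc.lift s.1 ω' s.2.1) (pt Ω)) = (hc.lift s.1 ω' s.2.1 ≫ h) (pt Ω) := rfl
        rw [h2, this]; exact s.2.2⟩
      left_inv := fun t => by
        apply Subtype.ext
        apply hc.hom_ext
        · exact hc.lift_fst _ _ _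
        · rw [hc.lift_snd]; exact t.2.1.symm
      right_inv := fun s => by
        apply Subtype.ext
        exact hc.lift_fst _ _ _ }
  have hT : Nat.card T = sd p x := by
    letI := (p.residueFieldMap x).hom.toAlgebra
    haveI : Module.Finite (V.residueField (p x)) (P.residueField x) := hfin
    exact card_pts p Ω ω x hωpt inferInstance
  have hTfin : Finite T := Nat.finite_of_card_ne_zero (by rw [hT]; exact (sd_pos p x hfin).ne')
  have hT'fin : Finite T' := Finite.of_equiv _ e.symm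
  -- the fibres
  let B := {x' : P' // h x' = x ∧ p' x' = v'}
  let Fb : B → Type u := fun b => {t : Spec (CommRingCat.of Ω) ⟶ P' // t ≫ p' = ω' ∧ t (pt Ω) = b.1}
  have hFb : ∀ b : B, Nat.card (Fb b) = sd p' b.1 := by
    intro b
    letI := (p'.residueFieldMap b.1).hom.toAlgebra
    haveI : Module.Finite (V'.residueField (p' b.1)) (P'.residueField b.1) := hfin' b.1 b.2.1 b.2.2
    exact card_pts p' Ω ω' b.1 (by rw [hω'pt, b.2.2]) inferInstance
  let π : T' → B := fun t => ⟨t.1 (pt Ω), t.2.2, by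
    have : p' (t.1 (pt Ω)) = (t.1 ≫ p') (pt Ω) := rfl
    rw [this, t.2.1, hω'pt]⟩
  have e3 : ∀ b : B, {t : T' // π t = b} ≃ Fb b := fun b =>
    { toFun := fun t => ⟨t.1.1, t.1.2.1, congrArg Subtype.val t.2⟩
      invFun := fun s => ⟨⟨s.1, s.2.1, by rw [s.2.2]; exact b.2.1⟩, Subtype.ext s.2.2⟩
      left_inv := fun t => rfl
      right_inv := fun s => rfl }
  have hFbne : ∀ b : B, Nonempty (Fb b) := by
    intro b
    have : Nat.card (Fb b) ≠ 0 := by
      rw [hFb]; exact (sd_pos p' b.1 (hfin' b.1 b.2.1 b.2.2)).ne'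
    exact (Nat.card_pos_iff.mp (Nat.pos_of_ne_zero this)).1
  have hBfin : Finite B := by
    refine Finite.of_surjective π (fun b => ?_)
    obtain ⟨t⟩ := hFbne b
    exact ⟨((e3 b).symm t).1, ((e3 b).symm t).2⟩
  haveI : Finite ↥{x' : P' | h x' = x ∧ p' x' = v'} := hBfin
  have hBset : {x' : P' | h x' = x ∧ p' x' = v'}.Finite := Set.toFinite _
  refine ⟨hBset, ?_⟩
  haveI : Fintype B := Fintype.ofFinite B
  rw [← hT, ← Nat.card_congr e, ← Nat.card_congr (Equiv.sigmaFiberEquiv π), Nat.card_sigma]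
  simp only [fun b => Nat.card_congr (e3 b), hFb]
  rw [Finset.sum_subtype hBset.toFinset (p := fun x' => h x' = x ∧ p' x' = v') (fun a => by simp)]

theorem lqf_of_isPullback {P' P V' V : Scheme.{u}} {h : P' ⟶ P} {p' : P' ⟶ V'} {p : P ⟶ V}
    {g : V' ⟶ V} (hc : IsPullback h p' p g) [LocallyQuasiFinite p] : LocallyQuasiFinite p' :=
  MorphismProperty.of_isPullback hc ‹LocallyQuasiFinite p›

theorem map_apply_of_isPullback {P' P V' V : Scheme.{u}} {h : P' ⟶ P} {p' : P' ⟶ V'} {p : P ⟶ V}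
    {g : V' ⟶ V} (hc : IsPullback h p' p g) (x' : P') : p (h x') = g (p' x') := by
  have : (h ≫ p) x' = (p' ≫ g) x' := by rw [hc.w]
  exact this

/-- Base change for the weighted fibre sums. -/
theorem FI_bc {P' P V' V : Scheme.{u}} {h : P' ⟶ P} {p' : P' ⟶ V'} {p : P ⟶ V} {g : V' ⟶ V}
    (hc : IsPullback h p' p g) [LocallyQuasiFinite p] (w : P → ℤ) (S : Set P) (v' : V')
    (hS : (S ∩ p ⁻¹' {g v'}).Finite) :
    FI p' (w ∘ h) (h ⁻¹' S) v' = FI p w S (g v') := by
  classical
  haveI := lqf_of_isPullback hc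
  have hKI : ∀ x ∈ S ∩ p ⁻¹' {g v'}, ∃ hB : {x' : P' | h x' = x ∧ p' x' = v'}.Finite,
      ∑ x' ∈ hB.toFinset, sd p' x' = sd p x := fun x hx =>
    key_identity hc x v' hx.2 (resFin_of_lqf p x) (fun x' _ _ => resFin_of_lqf p' x')
  have hBsub : h ⁻¹' S ∩ p' ⁻¹' {v'} ⊆
      ⋃ x ∈ S ∩ p ⁻¹' {g v'}, {x' : P' | h x' = x ∧ p' x' = v'} := by
    rintro x' ⟨hx'1, hx'2⟩
    simp only [Set.mem_iUnion]
    refine ⟨h x', ⟨hx'1, ?_⟩, rfl, hx'2⟩
    show p (h x') = g v'
    rw [map_apply_of_isPullback hc, hx'2]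
  have hB : (h ⁻¹' S ∩ p' ⁻¹' {v'}).Finite :=
    (hS.biUnion (fun x hx => (hKI x hx).choose)).subset hBsub
  unfold FI
  rw [finsum_mem_eq_finite_toFinset_sum _ hB, finsum_mem_eq_finite_toFinset_sum _ hS]
  rw [← Finset.sum_fiberwise_of_maps_to (s := hB.toFinset) (t := hS.toFinset) (g := fun x' => h x')]
  · refine Finset.sum_congr rfl (fun x hx => ?_)
    rw [Set.Finite.mem_toFinset] at hx
    obtain ⟨hBx, hsum⟩ := hKI x hx
    have hset : hB.toFinset.filter (fun x' => h x' = x) = hBx.toFinset := by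
      ext x'
      simp only [Finset.mem_filter, Set.Finite.mem_toFinset, Set.mem_inter_iff, Set.mem_preimage,
        Set.mem_singleton_iff, Set.mem_setOf_eq]
      constructor
      · rintro ⟨⟨_, h2⟩, h3⟩; exact ⟨h3, h2⟩
      · rintro ⟨h3, h2⟩; exact ⟨⟨by rw [h3]; exact hx.1, h2⟩, h3⟩
    rw [hset, ← hsum, Nat.cast_sum, Finset.mul_sum]
    refine Finset.sum_congr rfl (fun x' hx' => ?_)
    rw [Set.Finite.mem_toFinset] at hx'
    simp only [Function.comp_apply, hx'.1]
  · intro x' hx'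
    rw [Set.Finite.mem_toFinset] at hx' ⊢
    refine ⟨hx'.1, ?_⟩
    show p (h x') = g v'
    rw [map_apply_of_isPullback hc, hx'.2]

theorem sd_comp_of_isIso {U P V : Scheme.{u}} (j : U ⟶ P) (p : P ⟶ V) (u : U)
    [IsIso (j.residueFieldMap u)] : sd (j ≫ p) u = sd p (j u) := by
  unfold sd
  letI i1 : Algebra (V.residueField (p (j u))) (P.residueField (j u)) :=
    (p.residueFieldMap (j u)).hom.toAlgebra
  letI i2 : Algebra (V.residueField (p (j u))) (U.residueField u) :=
    ((j ≫ p).residueFieldMap u).hom.toAlgebra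
  symm
  refine Field.finSepDegree_eq_of_equiv (V.residueField (p (j u))) (P.residueField (j u))
    (U.residueField u) ?_
  refine { (asIso (j.residueFieldMap u)).commRingCatIsoToRingEquiv with commutes' := ?_ }
  intro a
  have := Scheme.residueFieldMap_comp j p u
  exact congrArg (fun m => m.hom a) this.symm

theorem fibreIntegral_eq_FI {P V : Scheme.{u}} (p : P ⟶ V) (w : P → ℤ) (v : V) :
    MoreMor.fibreIntegral p w v = FI p w Set.univ v := by
  unfold MoreMor.fibreIntegral FI
  rw [Set.univ_inter]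
  exact finsum_set_coe_eq_finsum_mem (p ⁻¹' {v}) (f := fun x => w x * (sd p x : ℤ))

theorem FI_openImm {U P V : Scheme.{u}} (j : U ⟶ P) [IsOpenImmersion j] (p : P ⟶ V) (w : P → ℤ)
    (S : Set P) (v : V) :
    FI (j ≫ p) (w ∘ j) (j ⁻¹' S) v = FI p w (S ∩ Set.range j) v := by
  unfold FI
  refine finsum_mem_eq_of_bijOn (fun u => j u) ⟨?_, ?_, ?_⟩ ?_
  · rintro u ⟨hu1, hu2⟩
    exact ⟨⟨hu1, u, rfl⟩, hu2⟩
  · intro a _ b _ hab
    exact j.isOpenEmbedding.injective hab
  · rintro x ⟨⟨hx1, u, rfl⟩, hx2⟩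
    exact ⟨u, ⟨hx1, hx2⟩, rfl⟩
  · intro u _
    simp only [Function.comp_apply]
    rw [sd_comp_of_isIso]

theorem fibreIntegral_openImm {U P V : Scheme.{u}} (j : U ⟶ P) [IsOpenImmersion j] (p : P ⟶ V)
    (w : P → ℤ) (v : V) :
    MoreMor.fibreIntegral (j ≫ p) (fun u => w (j u)) v = FI p w (Set.range j) v := by
  rw [fibreIntegral_eq_FI]
  have := FI_openImm j p w Set.univ v
  rw [Set.preimage_univ, Set.univ_inter] at this
  exact this

theorem fibreIntegral_opens {P V : Scheme.{u}} (U : P.Opens) (p : P ⟶ V) (w : P → ℤ) (v : V) :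
    MoreMor.fibreIntegral (U.ι ≫ p) (fun u => w (U.ι u)) v = FI p w (U : Set P) v := by
  rw [fibreIntegral_openImm U.ι p w v, Scheme.Opens.range_ι]

end Groth.Agent.Helper4.WtA
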