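import Mathlib
import Groth.Agent.Helper4.WtA

set_option autoImplicit false
universe u
open CategoryTheory CategoryTheory.Limits AlgebraicGeometry Opposite
open Groth.Agent.Helper4.WtA

namespace Groth.Agent.Helper4.WtB

/-- Fibres of an open finite over the base are finite. -/
theorem finite_fibre_of_isFinite {P V : Scheme.{u}} (p : P ⟶ V) (U : P.Opens)
    (hU : IsFinite (U.ι ≫ p)) (v : V) : ((U : Set P) ∩ p ⁻¹' {v}).Finite := by
  have h1 : ((U.ι ≫ p) ⁻¹' {v}).Finite := Scheme.Hom.finite_preimage_singleton (U.ι ≫ p) v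
  refine (h1.image (fun u => U.ι u)).subset ?_
  rintro x ⟨hxU, hxv⟩
  exact ⟨⟨x, hxU⟩, hxv, rfl⟩

/-- The image of a closed set under an open finite over the base is closed. -/
theorem isClosed_image_inter {P V : Scheme.{u}} (p : P ⟶ V) (U : P.Opens)
    (hU : IsFinite (U.ι ≫ p)) (C : Set P) (hC : IsClosed C) : IsClosed (p '' (C ∩ U)) := by
  have h1 : IsClosed ((U.ι ≫ p) '' (U.ι ⁻¹' C)) :=
    (U.ι ≫ p).isClosedMap _ (hC.preimage U.ι.continuous)
  convert h1 using 1
  ext v
  constructor
  · rintro ⟨x, ⟨hxC, hxU⟩, rfl⟩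
    exact ⟨⟨x, hxU⟩, hxC, rfl⟩
  · rintro ⟨u, huC, rfl⟩
    exact ⟨U.ι u, ⟨huC, u.2⟩, rfl⟩

/-- Finiteness of the restriction of a morphism to an open subscheme only depends on the
image of the open immersion. -/
theorem isFinite_of_openImm {U P V : Scheme.{u}} (j : U ⟶ P) [IsOpenImmersion j] (p : P ⟶ V)
    (h : IsFinite (j ≫ p)) : IsFinite (j.opensRange.ι ≫ p) := by
  have : j.opensRange.ι ≫ p = j.isoOpensRange.inv ≫ (j ≫ p) := by
    rw [← Category.assoc, Scheme.Hom.isoOpensRange_inv_comp]
  rw [this]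
  infer_instance

theorem isFinite_of_opensRange {U P V : Scheme.{u}} (j : U ⟶ P) [IsOpenImmersion j] (p : P ⟶ V)
    (h : IsFinite (j.opensRange.ι ≫ p)) : IsFinite (j ≫ p) := by
  have : j ≫ p = j.isoOpensRange.hom ≫ (j.opensRange.ι ≫ p) := by
    rw [← Category.assoc, Scheme.Hom.isoOpensRange_hom_ι]
  rw [this]
  infer_instance

/-- Master form of the weighting property: arbitrary pullback squares and arbitrary open
immersions. -/
theorem IsWeighting.locConst {X Y : Scheme.{u}} {f : X ⟶ Y} [LocallyQuasiFinite f] {w : X → ℤ}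
    (hw : MoreMor.IsWeighting f w) {V P : Scheme.{u}} (g : V ⟶ Y) [Etale g] (h : P ⟶ X)
    (π : P ⟶ V) (hc : IsPullback h π f g) (U : P.Opens) (hU : IsFinite (U.ι ≫ π)) :
    IsLocallyConstant (FI π (w ∘ h) (U : Set P)) := by
  set i := hc.isoPullback with hi
  have hi1 : i.hom ≫ pullback.fst f g = h := hc.isoPullback_hom_fst
  have hi2 : i.hom ≫ pullback.snd f g = π := hc.isoPullback_hom_snd
  set j : (U : Scheme.{u}) ⟶ pullback f g := U.ι ≫ i.hom with hj
  have hjfin : IsFinite (j.opensRange.ι ≫ pullback.snd f g) := by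
    apply isFinite_of_openImm
    rw [hj, Category.assoc, hi2]
    exact hU
  have h1 := hw V g j.opensRange hjfin
  have h2 : MoreMor.fibreIntegral (j.opensRange.ι ≫ pullback.snd f g)
      (fun u => w (pullback.fst f g (j.opensRange.ι u))) =
      FI (pullback.snd f g) (w ∘ pullback.fst f g) (j.opensRange : Set _) := by
    funext v
    exact fibreIntegral_opens j.opensRange (pullback.snd f g) (w ∘ pullback.fst f g) v
  rw [h2] at h1
  have hsq : IsPullback i.hom π (pullback.snd f g) (𝟙 V) :=
    IsPullback.of_horiz_isIso ⟨by rw [hi2, Category.comp_id]⟩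
  haveI : LocallyQuasiFinite (pullback.snd f g) := inferInstance
  have h3 : ∀ v, FI π (w ∘ h) (U : Set P) v =
      FI (pullback.snd f g) (w ∘ pullback.fst f g) (j.opensRange : Set _) v := by
    intro v
    have := FI_bc hsq (w ∘ pullback.fst f g) (j.opensRange : Set _) v
      (finite_fibre_of_isFinite _ _ hjfin _)
    have e1 : (w ∘ pullback.fst f g) ∘ i.hom = w ∘ h := by
      funext x
      show w (pullback.fst f g (i.hom x)) = w (h x)
      rw [← hi1]; rfl
    have e2 : (i.hom ⁻¹' (j.opensRange : Set _)) = (U : Set P) := by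
      ext x
      simp only [Set.mem_preimage, SetLike.mem_coe]
      constructor
      · rintro ⟨u, hu⟩
        have : U.ι u = x := i.hom.isOpenEmbedding.injective hu
        rw [← this]; exact u.2
      · intro hx
        exact ⟨⟨x, hx⟩, rfl⟩
    rw [e1, e2] at this
    exact this
  have h4 : FI π (w ∘ h) (U : Set P) =
      FI (pullback.snd f g) (w ∘ pullback.fst f g) (j.opensRange : Set _) := funext h3
  rw [h4]
  exact h1

theorem isWeighting_of {X Y : Scheme.{u}} {f : X ⟶ Y} {w : X → ℤ}
    (H : ∀ (V : Scheme.{u}) (g : V ⟶ Y) [Etale g] (U : (pullback f g).Opens),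
      IsFinite (U.ι ≫ pullback.snd f g) →
        IsLocallyConstant (FI (pullback.snd f g) (w ∘ pullback.fst f g) (U : Set _))) :
    MoreMor.IsWeighting f w := by
  intro V g _ U hU
  have h2 : MoreMor.fibreIntegral (U.ι ≫ pullback.snd f g)
      (fun u => w (pullback.fst f g (U.ι u))) =
      FI (pullback.snd f g) (w ∘ pullback.fst f g) (U : Set _) := by
    funext v
    exact fibreIntegral_opens U (pullback.snd f g) (w ∘ pullback.fst f g) v
  rw [h2]
  exact H V g U hU

/-- Restriction of a weighting to an open subscheme (S7185). -/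
theorem isWeighting_restrict {X Y : Scheme.{u}} (f : X ⟶ Y) [LocallyQuasiFinite f] (w : X → ℤ)
    (hw : MoreMor.IsWeighting f w) (X' : X.Opens) :
    MoreMor.IsWeighting (X'.ι ≫ f) (fun x => w (X'.ι x)) := by
  apply isWeighting_of
  intro V g _ U hU
  set k : pullback (X'.ι ≫ f) g ⟶ pullback f g :=
    pullback.map (X'.ι ≫ f) g f g X'.ι (𝟙 V) (𝟙 Y) (by simp) (by simp) with hk
  have hk1 : k ≫ pullback.fst f g = pullback.fst (X'.ι ≫ f) g ≫ X'.ι :=
    pullback.lift_fst _ _ _
  have hk2 : k ≫ pullback.snd f g = pullback.snd (X'.ι ≫ f) g := by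
    have := pullback.lift_snd (f := f) (g := g) (pullback.fst (X'.ι ≫ f) g ≫ X'.ι)
      (pullback.snd (X'.ι ≫ f) g ≫ 𝟙 V)
      (by simp only [Category.assoc, Category.comp_id]
          exact pullback.condition)
    exact this.trans (Category.comp_id _)
  set j : (U : Scheme.{u}) ⟶ pullback f g := U.ι ≫ k with hj
  have hjfin : IsFinite (j.opensRange.ι ≫ pullback.snd f g) := by
    apply isFinite_of_openImm
    rw [hj, Category.assoc, hk2]
    exact hU
  have h1 := IsWeighting.locConst hw g (pullback.fst f g) (pullback.snd f g)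
    (IsPullback.of_hasPullback f g) j.opensRange hjfin
  have h3 : ∀ v, FI (pullback.snd (X'.ι ≫ f) g)
      ((fun x => w (X'.ι x)) ∘ pullback.fst (X'.ι ≫ f) g) (U : Set _) v =
      FI (pullback.snd f g) (w ∘ pullback.fst f g) (j.opensRange : Set _) v := by
    intro v
    have := FI_openImm k (pullback.snd f g) (w ∘ pullback.fst f g) (j.opensRange : Set _) v
    have e1 : (w ∘ pullback.fst f g) ∘ k =
        (fun x => w (X'.ι x)) ∘ pullback.fst (X'.ι ≫ f) g := by
      funext x
      show w (pullback.fst f g (k x)) = w (X'.ι (pullback.fst (X'.ι ≫ f) g x))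
      have : (k ≫ pullback.fst f g) x = (pullback.fst (X'.ι ≫ f) g ≫ X'.ι) x := by rw [hk1]
      exact congrArg w this
    have e2 : (k ⁻¹' (j.opensRange : Set _)) = (U : Set _) := by
      ext x
      simp only [Set.mem_preimage, SetLike.mem_coe]
      constructor
      · rintro ⟨u, hu⟩
        have : U.ι u = x := k.isOpenEmbedding.injective hu
        rw [← this]; exact u.2
      · intro hx
        exact ⟨⟨x, hx⟩, rfl⟩
    have e3 : (j.opensRange : Set _) ∩ Set.range k = (j.opensRange : Set _) := by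
      apply Set.inter_eq_left.mpr
      rintro _ ⟨u, rfl⟩
      exact ⟨U.ι u, rfl⟩
    rw [e1, e2, e3, hk2] at this
    exact this
  rw [funext h3]
  exact h1

end Groth.Agent.Helper4.WtB
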