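import Mathlib
import Groth.Agent.Helper4.WtB
import Groth.Agent.Helper3.QFFinal

set_option autoImplicit false
universe u
open CategoryTheory CategoryTheory.Limits AlgebraicGeometry Opposite
open Groth.Agent.Helper4.WtA Groth.Agent.Helper4.WtB

namespace Groth.Agent.Helper4.WtC

/-- Étale localisation at one point: a piece with a single point in the fibre, of separable
degree one. -/
theorem exists_piece {X Y : Scheme.{u}} (f : X ⟶ Y) [LocallyQuasiFinite f] [LocallyOfFiniteType f]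
    (x : X) :
    ∃ (V : Scheme.{u}) (g : V ⟶ Y) (v : V) (W : (pullback f g).Opens) (z : ↑(pullback f g)),
      Etale g ∧ g v = f x ∧ z ∈ W ∧ IsFinite (W.ι ≫ pullback.snd f g) ∧
      pullback.snd f g z = v ∧ pullback.fst f g z = x ∧
      (∀ z' : ↑(pullback f g), z' ∈ W → pullback.snd f g z' = v → z' = z) ∧
      sd (pullback.snd f g) z = 1 := by
  obtain ⟨V, g, v, hg, hgv, J, _, W, vv, H1, _, H3⟩ :=
    Groth.Agent.Helper3.QFFinal.main f (f x) (fun _ : Unit => x) (fun _ _ _ => rfl)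
      (fun _ => rfl) (fun _ => f.quasiFiniteAt x)
  obtain ⟨z₀, hz₀1, hz₀2⟩ := Scheme.Pullback.exists_preimage_pullback (f := f) (g := g) x v hgv.symm
  obtain ⟨j, rfl⟩ := H3 z₀ () hz₀2 hz₀1
  obtain ⟨h1, h2, h3, h4, ⟨h5, h6⟩, h7⟩ := H1 () j
  refine ⟨V, g, v, W () j, vv () j, hg, hgv, h1, h2, h3, h7, h4, ?_⟩
  unfold sd
  letI := ((pullback.snd f g).residueFieldMap (vv () j)).hom.toAlgebra
  exact IsPurelyInseparable.finSepDegree_eq_one _ _

/-- The value of the fibre sum at a point where the fibre is a single point. -/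
theorem FI_of_fibre_singleton {P V : Scheme.{u}} (p : P ⟶ V) (w : P → ℤ) (S : Set P) (v : V)
    (z : P) (hz : z ∈ S) (hzv : p z = v) (huniq : ∀ z' ∈ S, p z' = v → z' = z) :
    FI p w S v = w z * (sd p z : ℤ) := by
  unfold FI
  have : S ∩ p ⁻¹' {v} = {z} := by
    ext z'
    constructor
    · rintro ⟨h1, h2⟩; exact huniq z' h1 h2
    · rintro rfl; exact ⟨hz, hzv⟩
  rw [this, finsum_mem_singleton]

/-- With positive weights, each term is bounded by the whole fibre sum. -/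
theorem le_FI_of_pos {P V : Scheme.{u}} (p : P ⟶ V) [LocallyQuasiFinite p] (w : P → ℤ)
    (S : Set P) (hw : ∀ z ∈ S, 0 < w z) (z : P) (hz : z ∈ S)
    (hfin : (S ∩ p ⁻¹' {p z}).Finite) : w z ≤ FI p w S (p z) := by
  unfold FI
  rw [finsum_mem_eq_finite_toFinset_sum _ hfin]
  have hmem : z ∈ hfin.toFinset := by
    rw [Set.Finite.mem_toFinset]; exact ⟨hz, rfl⟩
  have hnn : ∀ z' ∈ hfin.toFinset, 0 ≤ w z' * (sd p z' : ℤ) := by
    intro z' hz'
    rw [Set.Finite.mem_toFinset] at hz'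
    exact mul_nonneg (hw z' hz'.1).le (Int.natCast_nonneg _)
  refine le_trans ?_ (Finset.single_le_sum hnn hmem)
  have h1 : (1 : ℤ) ≤ (sd p z : ℤ) := by
    exact_mod_cast sd_pos p z (resFin_of_lqf p z)
  nlinarith [hw z hz]

/-- Finiteness of fibres is preserved by base change (locally quasi-finite case). -/
theorem finite_fibre_bc {P' P V' V : Scheme.{u}} {h : P' ⟶ P} {p' : P' ⟶ V'} {p : P ⟶ V}
    {g : V' ⟶ V} (hc : IsPullback h p' p g) [LocallyQuasiFinite p] (S : Set P) (v' : V')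
    (hS : (S ∩ p ⁻¹' {g v'}).Finite) : (h ⁻¹' S ∩ p' ⁻¹' {v'}).Finite := by
  haveI := lqf_of_isPullback hc
  have hKI : ∀ x ∈ S ∩ p ⁻¹' {g v'}, {x' : P' | h x' = x ∧ p' x' = v'}.Finite := fun x hx =>
    (key_identity hc x v' hx.2 (resFin_of_lqf p x) (fun x' _ _ => resFin_of_lqf p' x')).choose
  refine (hS.biUnion hKI).subset ?_
  rintro x' ⟨hx'1, hx'2⟩
  simp only [Set.mem_iUnion]
  refine ⟨h x', ⟨hx'1, ?_⟩, rfl, hx'2⟩
  show p (h x') = g v'
  rw [map_apply_of_isPullback hc, hx'2]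

theorem FI_union {P V : Scheme.{u}} (p : P ⟶ V) (w : P → ℤ) (S₁ S₂ : Set P) (v : V)
    (hd : Disjoint S₁ S₂) (h1 : (S₁ ∩ p ⁻¹' {v}).Finite) (h2 : (S₂ ∩ p ⁻¹' {v}).Finite) :
    FI p w (S₁ ∪ S₂) v = FI p w S₁ v + FI p w S₂ v := by
  unfold FI
  rw [Set.union_inter_distrib_right]
  exact finsum_mem_union (hd.mono Set.inter_subset_left Set.inter_subset_left) h1 h2

theorem FI_nonneg {P V : Scheme.{u}} (p : P ⟶ V) (w : P → ℤ) (S : Set P) (v : V)
    (hw : ∀ z ∈ S, 0 ≤ w z) : 0 ≤ FI p w S v := by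
  unfold FI
  exact finsum_nonneg fun z => finsum_nonneg fun hz =>
    mul_nonneg (hw z hz.1) (Int.natCast_nonneg _)

theorem FI_empty_fibre {P V : Scheme.{u}} (p : P ⟶ V) (w : P → ℤ) (S : Set P) (v : V)
    (h : S ∩ p ⁻¹' {v} = ∅) : FI p w S v = 0 := by
  unfold FI
  rw [h]; exact finsum_mem_empty

end Groth.Agent.Helper4.WtC
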