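import Mathlib
import Groth.Agent.Helper4.WtC

set_option autoImplicit false
universe u
open CategoryTheory CategoryTheory.Limits AlgebraicGeometry Opposite
open Groth.Agent.Helper4.WtA Groth.Agent.Helper4.WtB Groth.Agent.Helper4.WtC

namespace Groth.Agent.Helper4.WtD

/-- Restriction of a finite open piece over an open of the base. -/
theorem isFinite_restrict {P V : Scheme.{u}} (p : P ⟶ V) (B : P.Opens) (hB : IsFinite (B.ι ≫ p))
    (N : V.Opens) :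
    ∃ pB : ((B ⊓ p ⁻¹ᵁ N : P.Opens) : Scheme.{u}) ⟶ (N : Scheme.{u}),
      pB ≫ N.ι = (B ⊓ p ⁻¹ᵁ N).ι ≫ p ∧ IsFinite pB := by
  have hr : Set.range ((B ⊓ p ⁻¹ᵁ N).ι ≫ p) ⊆ Set.range N.ι := by
    rintro _ ⟨z, rfl⟩
    rw [Scheme.Opens.range_ι]
    exact z.2.2
  set pB := IsOpenImmersion.lift N.ι ((B ⊓ p ⁻¹ᵁ N).ι ≫ p) hr with hpB
  have hfac : pB ≫ N.ι = (B ⊓ p ⁻¹ᵁ N).ι ≫ p := IsOpenImmersion.lift_fac _ _ _
  refine ⟨pB, hfac, ?_⟩
  have hsq : IsPullback pB (P.homOfLE (inf_le_left : B ⊓ p ⁻¹ᵁ N ≤ B)) N.ι (B.ι ≫ p) := by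
    apply IsOpenImmersion.isPullback
    · rw [hfac, ← Category.assoc, Scheme.homOfLE_ι]
    · ext u
      simp only [Scheme.Hom.coe_preimage, Set.mem_preimage, SetLike.mem_coe,
        Scheme.Hom.coe_opensRange, Scheme.Opens.range_ι]
      constructor
      · intro hu
        refine ⟨⟨u.1, u.2, hu⟩, ?_⟩
        apply Subtype.ext
        rw [Scheme.homOfLE_apply]
      · rintro ⟨z, rfl⟩
        show p ((P.homOfLE (inf_le_left : B ⊓ p ⁻¹ᵁ N ≤ B) z).1) ∈ N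
        rw [Scheme.homOfLE_apply]
        exact z.2.2
  exact MorphismProperty.of_isPullback hsq.flip hB

/-- A finite open piece is relatively closed in a finite open piece containing it, locally over
the base. -/
theorem closed_in {P V : Scheme.{u}} (p : P ⟶ V) (A B : P.Opens) (hA : IsFinite (A.ι ≫ p))
    (hB : IsFinite (B.ι ≫ p)) (N : V.Opens) (hBA : ∀ z ∈ B, p z ∈ N → z ∈ A) (z : P)
    (hzA : z ∈ A) (hzN : p z ∈ N) (hz : z ∈ closure ((B : Set P) ∩ p ⁻¹' (N : Set V))) :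
    z ∈ B := by
  obtain ⟨pA, hpA, hpAfin⟩ := isFinite_restrict p A hA N
  obtain ⟨pB, hpB, hpBfin⟩ := isFinite_restrict p B hB N
  have hle : B ⊓ p ⁻¹ᵁ N ≤ A ⊓ p ⁻¹ᵁ N := fun y hy => ⟨hBA y hy.1 hy.2, hy.2⟩
  set j := P.homOfLE hle with hj
  have hjp : j ≫ pA = pB := by
    rw [← cancel_mono N.ι, Category.assoc, hpA, hpB, ← Category.assoc, Scheme.homOfLE_ι]
  haveI : IsFinite (j ≫ pA) := by rw [hjp]; exact hpBfin
  haveI : IsSeparated pA := inferInstance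
  haveI : IsFinite j := IsFinite.of_comp j pA
  have hcl : IsClosed (Set.range j) := j.isClosedMap.isClosed_range
  set z' : ((A ⊓ p ⁻¹ᵁ N : P.Opens) : Scheme.{u}) := ⟨z, hzA, hzN⟩ with hz'
  have hz'cl : z' ∈ closure (Set.range j) := by
    rw [(A ⊓ p ⁻¹ᵁ N).ι.isEmbedding.closure_eq_preimage_closure_image]
    show (A ⊓ p ⁻¹ᵁ N).ι z' ∈ closure _
    have h1 : (A ⊓ p ⁻¹ᵁ N).ι '' Set.range j = (B : Set P) ∩ p ⁻¹' (N : Set V) := by
      rw [← Set.range_comp]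
      have : (fun x => (A ⊓ p ⁻¹ᵁ N).ι x) ∘ (fun x => j x) = fun x => (B ⊓ p ⁻¹ᵁ N).ι x := by
        funext b
        have := congrArg (fun m : _ ⟶ P => m b) (Scheme.homOfLE_ι P hle)
        exact this
      rw [this]
      exact Scheme.Opens.range_ι _
    rw [h1]
    exact hz
  rw [hcl.closure_eq] at hz'cl
  obtain ⟨b, hb⟩ := hz'cl
  have : (j b).1 = z := by rw [hb]
  rw [Scheme.homOfLE_apply] at this
  rw [← this]
  exact b.2.1

/-- Topological decomposition: near `v`, a finite open piece `A` is the disjoint union of the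
finite open pieces `S t` through its fibre points. -/
theorem exists_nbhd_decomp {P V : Scheme.{u}} (p : P ⟶ V) (A : P.Opens)
    (hA : IsFinite (A.ι ≫ p)) {T : Type} [Finite T] (S : T → P.Opens)
    (hS : ∀ t, IsFinite ((S t).ι ≫ p)) (v : V) (pt : T → P) (h2 : ∀ t, pt t ∈ A)
    (h4 : Function.Injective pt) (h5 : ∀ t z, z ∈ S t → p z = v → z = pt t)
    (h6 : ∀ z ∈ A, p z = v → ∃ t, z ∈ S t) :
    ∃ N : V.Opens, v ∈ N ∧ (∀ z, p z ∈ N → (z ∈ A ↔ ∃ t, z ∈ S t)) ∧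
      (∀ z, p z ∈ N → ∀ t t', z ∈ S t → z ∈ S t' → t = t') := by
  classical
  -- N₁
  have hC1 : ∀ t, IsClosed (p '' (((A : Set P)ᶜ) ∩ (S t : Set P))) := fun t =>
    isClosed_image_inter p (S t) (hS t) _ A.2.isClosed_compl
  set N₁ : V.Opens := ⟨⋂ t, (p '' (((A : Set P)ᶜ) ∩ (S t : Set P)))ᶜ,
    isOpen_iInter_of_finite fun t => (hC1 t).isOpen_compl⟩ with hN₁
  have hvN₁ : v ∈ N₁ := by
    show v ∈ ⋂ t, (p '' (((A : Set P)ᶜ) ∩ (S t : Set P)))ᶜ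
    simp only [Set.mem_iInter, Set.mem_compl_iff]
    rintro t ⟨z, ⟨hzA, hzS⟩, hzv⟩
    exact hzA (by rw [h5 t z hzS hzv]; exact h2 t)
  have hN₁A : ∀ t, ∀ z ∈ S t, p z ∈ N₁ → z ∈ A := by
    intro t z hzS hzN
    by_contra hzA
    have : p z ∈ ⋂ t, (p '' (((A : Set P)ᶜ) ∩ (S t : Set P)))ᶜ := hzN
    simp only [Set.mem_iInter, Set.mem_compl_iff] at this
    exact this t ⟨z, ⟨hzA, hzS⟩, rfl⟩
  -- N₂
  have hC2 : IsClosed (p '' (((⋃ t, (S t : Set P))ᶜ) ∩ (A : Set P))) :=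
    isClosed_image_inter p A hA _ (isOpen_iUnion fun t => (S t).2).isClosed_compl
  set N₂ : V.Opens := ⟨(p '' (((⋃ t, (S t : Set P))ᶜ) ∩ (A : Set P)))ᶜ, hC2.isOpen_compl⟩ with hN₂
  have hvN₂ : v ∈ N₂ := by
    show v ∈ (p '' (((⋃ t, (S t : Set P))ᶜ) ∩ (A : Set P)))ᶜ
    rintro ⟨z, ⟨hzS, hzA⟩, hzv⟩
    obtain ⟨t, ht⟩ := h6 z hzA hzv
    exact hzS (Set.mem_iUnion.mpr ⟨t, ht⟩)
  -- N₃
  have hC3 : ∀ q : T × T, IsClosed (p '' (closure (((S q.1 : Set P) ∩ (S q.2 : Set P)) ∩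
      p ⁻¹' (N₁ : Set V)) ∩ (A : Set P))) := fun q =>
    isClosed_image_inter p A hA _ isClosed_closure
  set N₃ : V.Opens := ⟨⋂ q : {q : T × T // q.1 ≠ q.2},
    (p '' (closure (((S q.1.1 : Set P) ∩ (S q.1.2 : Set P)) ∩ p ⁻¹' (N₁ : Set V)) ∩
      (A : Set P)))ᶜ, isOpen_iInter_of_finite fun q => (hC3 q.1).isOpen_compl⟩ with hN₃
  have hvN₃ : v ∈ N₃ := by
    show v ∈ ⋂ q : {q : T × T // q.1 ≠ q.2}, _
    simp only [Set.mem_iInter, Set.mem_compl_iff]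
    rintro ⟨⟨t, t'⟩, hne⟩ ⟨z, ⟨hzD, hzA⟩, hzv⟩
    apply hne
    replace hzv : p z = v := hzv
    have hzN : p z ∈ N₁ := by rw [hzv]; exact hvN₁
    have hz1 : z ∈ S t := by
      refine closed_in p A (S t) hA (hS t) N₁ (hN₁A t) z hzA hzN ?_
      refine closure_mono ?_ hzD
      rintro y ⟨⟨hy1, _⟩, hy3⟩
      exact ⟨hy1, hy3⟩
    have hz2 : z ∈ S t' := by
      refine closed_in p A (S t') hA (hS t') N₁ (hN₁A t') z hzA hzN ?_
      refine closure_mono ?_ hzD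
      rintro y ⟨⟨_, hy2⟩, hy3⟩
      exact ⟨hy2, hy3⟩
    exact h4 ((h5 t z hz1 hzv).symm.trans (h5 t' z hz2 hzv))
  refine ⟨N₁ ⊓ N₂ ⊓ N₃, ⟨⟨hvN₁, hvN₂⟩, hvN₃⟩, ?_, ?_⟩
  · rintro z ⟨⟨hz1, hz2⟩, _⟩
    constructor
    · intro hzA
      by_contra hne
      push Not at hne
      apply hz2
      refine ⟨z, ⟨?_, hzA⟩, rfl⟩
      simp only [Set.mem_compl_iff, Set.mem_iUnion, not_exists]
      exact hne
    · rintro ⟨t, ht⟩
      exact hN₁A t z ht hz1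
  · rintro z ⟨⟨hz1, _⟩, hz3⟩ t t' hzt hzt'
    by_contra hne
    have hz3' : p z ∈ ⋂ q : {q : T × T // q.1 ≠ q.2}, (p '' (closure (((S q.1.1 : Set P) ∩
      (S q.1.2 : Set P)) ∩ p ⁻¹' (N₁ : Set V)) ∩ (A : Set P)))ᶜ := hz3
    simp only [Set.mem_iInter, Set.mem_compl_iff] at hz3'
    apply hz3' ⟨(t, t'), hne⟩
    exact ⟨z, ⟨subset_closure ⟨⟨hzt, hzt'⟩, hz1⟩, hN₁A t z hzt hz1⟩, rfl⟩

theorem FI_decomp {P V : Scheme.{u}} (p : P ⟶ V) (ω : P → ℤ) (A : Set P) {T : Type} [Finite T]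
    (S : T → Set P) (v₁ : V) (hSfin : ∀ t, (S t ∩ p ⁻¹' {v₁}).Finite)
    (hcov : ∀ z, p z = v₁ → (z ∈ A ↔ ∃ t, z ∈ S t))
    (hdisj : ∀ z, p z = v₁ → ∀ t t', z ∈ S t → z ∈ S t' → t = t') :
    FI p ω A v₁ = ∑ᶠ t, FI p ω (S t) v₁ := by
  unfold FI
  have h1 : A ∩ p ⁻¹' {v₁} = ⋃ t, (S t ∩ p ⁻¹' {v₁}) := by
    ext z
    simp only [Set.mem_inter_iff, Set.mem_preimage, Set.mem_singleton_iff, Set.mem_iUnion]
    constructor
    · rintro ⟨hzA, hzv⟩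
      obtain ⟨t, ht⟩ := (hcov z hzv).mp hzA
      exact ⟨t, ht, hzv⟩
    · rintro ⟨t, ht, hzv⟩
      exact ⟨(hcov z hzv).mpr ⟨t, ht⟩, hzv⟩
  rw [h1]
  refine finsum_mem_iUnion ?_ hSfin
  intro t t' hne
  rw [Function.onFun, Set.disjoint_iff_inter_eq_empty]
  ext z
  simp only [Set.mem_inter_iff, Set.mem_preimage, Set.mem_singleton_iff, Set.mem_empty_iff_false,
    iff_false, not_and]
  rintro ⟨hz1, hzv⟩ hz2 _
  exact hne (hdisj z hzv t t' hz1 hz2)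

theorem isFinite_preimage_of_isPullback {P' P V' V : Scheme.{u}} {h : P' ⟶ P} {p' : P' ⟶ V'}
    {p : P ⟶ V} {g : V' ⟶ V} (hc : IsPullback h p' p g) (U : P.Opens)
    (hU : IsFinite (U.ι ≫ p)) : IsFinite ((h ⁻¹ᵁ U).ι ≫ p') :=
  MorphismProperty.of_isPullback ((isPullback_morphismRestrict h U).paste_vert hc) hU

/-- A point of separable degree one has exactly one point above it in any base change. -/
theorem exists_unique_over_of_sd_one {P' P V' V : Scheme.{u}} {h : P' ⟶ P} {p' : P' ⟶ V'}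
    {p : P ⟶ V} {g : V' ⟶ V} (hc : IsPullback h p' p g) [LocallyQuasiFinite p] (x : P)
    (v' : V') (hx : p x = g v') (hsd : sd p x = 1) :
    ∃ z : P', h z = x ∧ p' z = v' ∧ ∀ z' : P', h z' = x → p' z' = v' → z' = z := by
  haveI := lqf_of_isPullback hc
  obtain ⟨hB, hsum⟩ := key_identity hc x v' hx (resFin_of_lqf p x)
    (fun x' _ _ => resFin_of_lqf p' x')
  obtain ⟨z, hz1, hz2⟩ := Scheme.exists_preimage_of_isPullback hc x v' hx
  refine ⟨z, hz1, hz2, ?_⟩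
  have hcard : hB.toFinset.card ≤ 1 := by
    have := Finset.card_nsmul_le_sum hB.toFinset (fun x' => sd p' x') 1
      (fun x' _ => sd_pos p' x' (resFin_of_lqf p' x'))
    rw [hsum, hsd] at this
    simpa using this
  intro z' hz'1 hz'2
  exact Finset.card_le_one.mp hcard z' (by rw [Set.Finite.mem_toFinset]; exact ⟨hz'1, hz'2⟩) z
    (by rw [Set.Finite.mem_toFinset]; exact ⟨hz1, hz2⟩)

end Groth.Agent.Helper4.WtD
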