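import Mathlib
import Groth.Agent.Helper4.IsolFib
import Groth.Agent.Helper4.WtD
import Groth.Agent.Helper4.SchLQF
import Groth.Agent.Helper3.QFUnion
import Groth.Agent.S1354

set_option autoImplicit false
universe u
open CategoryTheory CategoryTheory.Limits AlgebraicGeometry Opposite
open Groth.Agent.Helper4.WtA Groth.Agent.Helper4.WtD Groth.Agent.Helper4.IsolFib

namespace Groth.Agent.Helper4.IsolFibB

theorem sd_eq_one_of_bijective {P V : Scheme.{u}} (p : P ⟶ V) (x : P)
    (h : Function.Bijective (p.residueFieldMap x)) : sd p x = 1 := by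
  unfold sd
  letI := (p.residueFieldMap x).hom.toAlgebra
  have hbij : Function.Bijective (algebraMap (V.residueField (p x)) (P.residueField x)) := h
  rw [← Field.finSepDegree_eq_of_equiv (V.residueField (p x)) (V.residueField (p x)) _
    (AlgEquiv.ofBijective (Algebra.ofId _ _) hbij)]
  exact Field.finSepDegree_self _

set_option maxHeartbeats 1000000 in
theorem main {X S : Scheme.{u}} (f : X ⟶ S) [LocallyOfFiniteType f] [IsSeparated f] (s : S)
    (hfin : {x : ↑(f.fiber s) | IsOpen ({x} : Set ↑(f.fiber s))}.Finite) :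
    ∃ (U : Scheme.{u}) (g : U ⟶ S) (u : U), Hens2.IsEtaleNbhd g u s ∧
      ∃ V : (pullback f g).Opens, IsClopen (V : Set ↑(pullback f g)) ∧ IsFinite (V.ι ≫ pullback.snd f g) ∧
        ∀ w : ↑((pullback.snd f g).fiber u), (pullback.snd f g).fiberι u w ∉ V →
          ¬ IsOpen ({w} : Set ↑((pullback.snd f g).fiber u)) := by
  classical
  obtain ⟨n, xx, hxxinj, hxxr⟩ := hfin.fin_param
  set x : Fin n → X := fun i => f.fiberι s (xx i) with hxdef
  have hmemfib : ∀ w : ↑(f.fiber s), f (f.fiberι s w) = s := by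
    intro w
    have : f.fiberι s w ∈ Set.range (f.fiberι s) := ⟨w, rfl⟩
    rw [f.range_fiberι s] at this
    exact this
  have hs : ∀ i, f (x i) = s := fun i => hmemfib (xx i)
  have hqf : ∀ i, f.QuasiFiniteAt (x i) := by
    intro i
    rw [quasiFiniteAt_iff, hs i]
    have : xx i ∈ {x : ↑(f.fiber s) | IsOpen ({x} : Set ↑(f.fiber s))} := by
      rw [← hxxr]; exact ⟨i, rfl⟩
    exact (isOpen_singleton_fiber_iff f s (xx i)).mp this
  obtain ⟨U, g, u, hg, V, v, hV⟩ := Groth.Agent.S1354.result f s x hs hqf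
  haveI : Etale g := hg.etale
  have hgu : g u = s := hg.base_eq
  set π := pullback.snd f g with hπ
  have hsq : IsPullback (pullback.fst f g) π f g := IsPullback.of_hasPullback f g
  set W : (pullback f g).Opens := ⨆ i, V i with hW
  have hWfin : IsFinite (W.ι ≫ π) :=
    Groth.Agent.Helper3.QFUnion.isFinite_iSup π V (fun i => (hV i).2.1)
  have hWclosed : IsClosed (W : Set ↑(pullback f g)) := by
    haveI : IsFinite (W.ι ≫ π) := hWfin
    haveI : IsFinite W.ι := IsFinite.of_comp W.ι π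
    rw [← Scheme.Opens.range_ι W]
    exact W.ι.isClosedMap.isClosed_range
  refine ⟨U, g, u, hg, W, ⟨hWclosed, W.2⟩, hWfin, ?_⟩
  intro w hwW hopen
  set z := π.fiberι u w with hz
  have hzu : π z = u := by
    have : z ∈ Set.range (π.fiberι u) := ⟨w, rfl⟩
    rw [π.range_fiberι u] at this
    exact this
  obtain ⟨O, hO, hOz⟩ := (isOpen_singleton_fiber_iff π u w).mp hopen
  haveI : LocallyQuasiFinite g := Groth.Agent.Helper4.SchLQF.locallyQuasiFinite_of_etale g
  obtain ⟨U₀, hU₀, hU₀u⟩ := (quasiFiniteAt_iff g u).mp (g.quasiFiniteAt u)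
  set x₀ := pullback.fst f g z with hx₀
  have hx₀s : f x₀ = s := by rw [map_apply_of_isPullback hsq, hzu, hgu]
  have hzO : z ∈ O := by
    have : z ∈ O ∩ π ⁻¹' {u} := by rw [hOz]; rfl
    exact this.1
  have huU₀ : u ∈ U₀ := by
    have : u ∈ U₀ ∩ g ⁻¹' {g u} := by rw [hU₀u]; rfl
    exact this.1
  have hqf₀ : ∃ O' : Set X, IsOpen O' ∧ O' ∩ f ⁻¹' {s} = {x₀} := by
    refine ⟨pullback.fst f g '' (O ∩ π ⁻¹' U₀),
      (pullback.fst f g).isOpenMap _ (hO.inter (hU₀.preimage π.continuous)), ?_⟩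
    ext x'
    simp only [Set.mem_inter_iff, Set.mem_image, Set.mem_preimage, Set.mem_singleton_iff]
    constructor
    · rintro ⟨⟨z', ⟨hz'O, hz'U⟩, rfl⟩, hx's⟩
      have h1 : π z' ∈ U₀ ∩ g ⁻¹' {g u} := by
        refine ⟨hz'U, ?_⟩
        show g (π z') = g u
        rw [← map_apply_of_isPullback hsq, hx's, hgu]
      rw [hU₀u] at h1
      have h2 : z' ∈ O ∩ π ⁻¹' {u} := ⟨hz'O, h1⟩
      rw [hOz] at h2
      rw [Set.mem_singleton_iff.mp h2]
    · rintro rfl
      exact ⟨⟨z, ⟨hzO, by rw [hzu]; exact huU₀⟩, rfl⟩, hx₀s⟩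
  -- `x₀` is one of the isolated points
  have hx₀r : x₀ ∈ Set.range (f.fiberι s) := by rw [f.range_fiberι s]; exact hx₀s
  obtain ⟨w₀, hw₀⟩ := hx₀r
  have hw₀open : IsOpen ({w₀} : Set ↑(f.fiber s)) := by
    rw [isOpen_singleton_fiber_iff, hw₀]
    exact hqf₀
  have hw₀mem : w₀ ∈ Set.range xx := by rw [hxxr]; exact hw₀open
  obtain ⟨i, hi⟩ := hw₀mem
  have hx₀i : x₀ = x i := by rw [← hw₀, ← hi]
  -- uniqueness of the point over `(x i, u)`
  have hsd : sd g u = 1 := sd_eq_one_of_bijective g u hg.residue_bijective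
  obtain ⟨z₀, -, -, hz₀⟩ := exists_unique_over_of_sd_one hsq.flip u (x i)
    (by rw [hgu, hs i]) hsd
  have h1 : z = z₀ := hz₀ z hzu hx₀i
  have h2 : v i = z₀ := hz₀ (v i) (hV i).2.2.1 (hV i).2.2.2.2.1
  apply hwW
  rw [h1, ← h2]
  exact (le_iSup V i) (hV i).1

end Groth.Agent.Helper4.IsolFibB
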