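import Mathlib
import Groth.Agent.Helper4.WtE

set_option autoImplicit false
universe u
open CategoryTheory CategoryTheory.Limits AlgebraicGeometry Opposite
open Groth.Agent.Helper4.WtA Groth.Agent.Helper4.WtB Groth.Agent.Helper4.WtC
  Groth.Agent.Helper4.WtD Groth.Agent.Helper4.WtE

namespace Groth.Agent.Helper4.WtF

/-- Base change of a weighting (S1419). -/
theorem isWeighting_baseChange {X Y : Scheme.{u}} (f : X ⟶ Y) [LocallyQuasiFinite f]
    [LocallyOfFiniteType f] (w : X → ℤ) (hw : MoreMor.IsWeighting f w) {X' Y' : Scheme.{u}}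
    (f' : X' ⟶ Y') (h : X' ⟶ X) (g : Y' ⟶ Y) (hc : IsPullback h f' f g) :
    MoreMor.IsWeighting f' (w ∘ h) := by
  apply isWeighting_of
  intro V g₁ _ U hU
  have hsq : IsPullback (pullback.fst f' g₁ ≫ h) (pullback.snd f' g₁) f (g₁ ≫ g) :=
    (IsPullback.of_hasPullback f' g₁).paste_horiz hc
  exact univ_locConst f w hw (g₁ ≫ g) (pullback.fst f' g₁ ≫ h) (pullback.snd f' g₁) hsq U hU

/-- The image of a morphism with a positive weighting is a neighbourhood of each of its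
points. -/
theorem range_mem_nhds {X Y : Scheme.{u}} (f : X ⟶ Y) [LocallyQuasiFinite f]
    [LocallyOfFiniteType f] (w : X → ℤ) (hw : MoreMor.IsWeighting f w) (hpos : ∀ x, 0 < w x)
    (x : X) : Set.range f ∈ nhds (f x) := by
  obtain ⟨V, g, v, W, z, hg, hgv, hzW, hfin, hzv, hzx, huniq, hsd⟩ := exists_piece f x
  have hφ := IsWeighting.locConst hw g (pullback.fst f g) (pullback.snd f g)
    (IsPullback.of_hasPullback f g) W hfin
  set φ := FI (pullback.snd f g) (w ∘ pullback.fst f g) (W : Set _) with hφdef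
  have hφv : φ v = w x := by
    rw [hφdef, FI_of_fibre_singleton (pullback.snd f g) _ _ v z hzW hzv huniq, hsd]
    simp [hzx]
  have hN : IsOpen (φ ⁻¹' {φ v}) := hφ.isOpen_fiber _
  have hO : IsOpen (g '' (φ ⁻¹' {φ v})) := g.isOpenMap _ hN
  have hxO : f x ∈ g '' (φ ⁻¹' {φ v}) := ⟨v, rfl, hgv⟩
  refine Filter.mem_of_superset (hO.mem_nhds hxO) ?_
  rintro _ ⟨v₁, hv₁, rfl⟩
  have h1 : φ v₁ = w x := by rw [← hφv]; exact hv₁
  have hne : ((W : Set _) ∩ (pullback.snd f g) ⁻¹' {v₁}).Nonempty := by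
    by_contra hemp
    rw [Set.not_nonempty_iff_eq_empty] at hemp
    have := FI_empty_fibre (pullback.snd f g) (w ∘ pullback.fst f g) (W : Set _) v₁ hemp
    rw [← hφdef, h1] at this
    exact (hpos x).ne' this
  obtain ⟨z₁, _, hz₁⟩ := hne
  refine ⟨pullback.fst f g z₁, ?_⟩
  have : (pullback.fst f g ≫ f) z₁ = (pullback.snd f g ≫ g) z₁ := by rw [pullback.condition]
  rw [← (hz₁ : pullback.snd f g z₁ = v₁)]
  exact this

/-- A morphism with a positive weighting is open. -/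
theorem isOpenMap_of_pos {X Y : Scheme.{u}} (f : X ⟶ Y) [LocallyQuasiFinite f]
    [LocallyOfFiniteType f] (w : X → ℤ) (hw : MoreMor.IsWeighting f w) (hpos : ∀ x, 0 < w x) :
    IsOpenMap f := by
  intro U hU
  rw [isOpen_iff_mem_nhds]
  rintro _ ⟨x, hxU, rfl⟩
  set U' : X.Opens := ⟨U, hU⟩ with hU'
  have h1 := range_mem_nhds (U'.ι ≫ f) (fun u => w (U'.ι u))
    (isWeighting_restrict f w hw U') (fun u => hpos _) ⟨x, hxU⟩
  refine Filter.mem_of_superset h1 ?_
  rintro _ ⟨u, rfl⟩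
  exact ⟨u.1, u.2, rfl⟩

theorem universallyOpen_of_pos {X Y : Scheme.{u}} (f : X ⟶ Y) [LocallyQuasiFinite f]
    [LocallyOfFiniteType f] (w : X → ℤ) (hw : MoreMor.IsWeighting f w) (hpos : ∀ x, 0 < w x) :
    UniversallyOpen f := by
  rw [UniversallyOpen.eq]
  intro X' Y' i₁ i₂ f' hpb
  have hc : IsPullback i₁ f' f i₂ := hpb.flip
  haveI : LocallyQuasiFinite f' := lqf_of_isPullback hc
  haveI : LocallyOfFiniteType f' := MorphismProperty.of_isPullback hc ‹LocallyOfFiniteType f›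
  exact isOpenMap_of_pos f' (w ∘ i₁) (isWeighting_baseChange f w hw f' i₁ i₂ hc) (fun x' => hpos _)

end Groth.Agent.Helper4.WtF
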