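import Mathlib
import Groth.Agent.Helper4.WtF
import Groth.Agent.Helper3.QFFibre
import Groth.Agent.Lead.SchDescent2

set_option autoImplicit false
universe u
open CategoryTheory CategoryTheory.Limits AlgebraicGeometry Opposite
open Groth.Agent.Helper4.WtA Groth.Agent.Helper4.WtB Groth.Agent.Helper4.WtC
  Groth.Agent.Helper4.WtD Groth.Agent.Helper4.WtE

namespace Groth.Agent.Helper4.WtG

theorem FI_pos_of_nonempty {P V : Scheme.{u}} (p : P ⟶ V) [LocallyQuasiFinite p] (w : P → ℤ)
    (S : Set P) (v : V) (hw : ∀ z ∈ S, 0 < w z) (hfin : (S ∩ p ⁻¹' {v}).Finite)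
    (hne : (S ∩ p ⁻¹' {v}).Nonempty) : 0 < FI p w S v := by
  obtain ⟨z, hz⟩ := hne
  have h1 := le_FI_of_pos p w S hw z hz.1 (by rw [hz.2]; exact hfin)
  rw [hz.2] at h1
  exact lt_of_lt_of_le (hw z hz.1) h1

/-- Restricting over an open of the base whose preimage lies in a finite piece. -/
theorem isFinite_morphismRestrict_of_le {P V : Scheme.{u}} (p : P ⟶ V) (B : P.Opens)
    (hB : IsFinite (B.ι ≫ p)) (N : V.Opens) (hle : p ⁻¹ᵁ N ≤ B) : IsFinite (p ∣_ N) := by
  have hsq : IsPullback (p ∣_ N) (P.homOfLE hle) N.ι (B.ι ≫ p) := by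
    apply IsOpenImmersion.isPullback
    · rw [morphismRestrict_ι, ← Category.assoc, Scheme.homOfLE_ι]
    · ext u
      simp only [Scheme.Hom.coe_preimage, Set.mem_preimage, SetLike.mem_coe,
        Scheme.Hom.coe_opensRange, Scheme.Opens.range_ι]
      constructor
      · intro hu
        refine ⟨⟨u.1, hu⟩, ?_⟩
        apply Subtype.ext
        rw [Scheme.homOfLE_apply]
      · rintro ⟨z, rfl⟩
        show p ((P.homOfLE hle z).1) ∈ N
        rw [Scheme.homOfLE_apply]
        exact z.2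
  exact MorphismProperty.of_isPullback hsq.flip hB

/-- Descent of finiteness along the étale cover of an open given by the image of an open. -/
theorem isFinite_restrict_of_etale_cover {X Y Y' : Scheme.{u}} (f : X ⟶ Y) (g : Y' ⟶ Y) [Etale g]
    (N' : Y'.Opens) (O : Y.Opens) (hO : (O : Set Y) = g '' (N' : Set Y'))
    (hfin : IsFinite ((pullback.snd f g) ∣_ N')) : IsFinite (f ∣_ O) := by
  have hr : Set.range (N'.ι ≫ g) ⊆ Set.range O.ι := by
    rintro _ ⟨z, rfl⟩
    rw [Scheme.Opens.range_ι, hO]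
    exact ⟨z.1, z.2, rfl⟩
  set gN := IsOpenImmersion.lift O.ι (N'.ι ≫ g) hr with hgN
  have hgNfac : gN ≫ O.ι = N'.ι ≫ g := IsOpenImmersion.lift_fac _ _ _
  have hgNet : Etale gN := by
    have h1 : Etale (gN ≫ O.ι) := by rw [hgNfac]; infer_instance
    exact MorphismProperty.of_postcomp (W := @Etale) (W' := @Etale) gN O.ι inferInstance h1
  have hgNsurj : Surjective gN := by
    constructor
    intro o
    have : o.1 ∈ g '' (N' : Set Y') := by rw [← hO]; exact o.2
    obtain ⟨z, hz, hzo⟩ := this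
    refine ⟨⟨z, hz⟩, ?_⟩
    apply O.ι.isOpenEmbedding.injective
    have : (gN ≫ O.ι) ⟨z, hz⟩ = (N'.ι ≫ g) ⟨z, hz⟩ := by rw [hgNfac]
    exact this.trans hzo
  -- the pullback square
  set A := (pullback.snd f g) ⁻¹ᵁ N' with hA
  have hleft : IsPullback A.ι ((pullback.snd f g) ∣_ N') (pullback.snd f g) N'.ι :=
    (isPullback_morphismRestrict _ _).flip
  have hbig : IsPullback (A.ι ≫ pullback.fst f g) ((pullback.snd f g) ∣_ N') f (N'.ι ≫ g) :=
    hleft.paste_horiz (IsPullback.of_hasPullback f g)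
  have hright : IsPullback (f ⁻¹ᵁ O).ι (f ∣_ O) f O.ι := (isPullback_morphismRestrict f O).flip
  have hw : (A.ι ≫ pullback.fst f g) ≫ f = (((pullback.snd f g) ∣_ N') ≫ gN) ≫ O.ι := by
    rw [hbig.w, Category.assoc, hgNfac]
  set sA := hright.lift (A.ι ≫ pullback.fst f g) (((pullback.snd f g) ∣_ N') ≫ gN) hw with hsA
  have hsA1 : sA ≫ (f ⁻¹ᵁ O).ι = A.ι ≫ pullback.fst f g := hright.lift_fst _ _ _
  have hsA2 : sA ≫ (f ∣_ O) = ((pullback.snd f g) ∣_ N') ≫ gN := hright.lift_snd _ _ _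
  have hsq : IsPullback sA ((pullback.snd f g) ∣_ N') (f ∣_ O) gN := by
    refine IsPullback.of_right ?_ hsA2 hright
    rw [hsA1, hgNfac]
    exact hbig
  haveI := Groth.Agent.Lead.SchDescent2.descendsAlong_isFinite_fpqc.{u}
  exact MorphismProperty.of_isPullback_of_descendsAlong
    (Q := @Surjective ⊓ @Flat ⊓ @LocallyOfFinitePresentation) hsq.flip
    ⟨⟨hgNsurj, inferInstance⟩, inferInstance⟩ hfin

set_option maxHeartbeats 1600000 in
/-- Near a point where the fibre integral attains its maximum, the morphism is finite and the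
fibre integral is constant. -/
theorem exists_finite_nbhd {X Y : Scheme.{u}} (f : X ⟶ Y) [LocallyQuasiFinite f]
    [LocallyOfFiniteType f] [IsSeparated f] (hfin : ∀ y : Y, (f ⁻¹' {y}).Finite) (w : X → ℤ)
    (hw : MoreMor.IsWeighting f w) (hpos : ∀ x, 0 < w x) (d : ℤ)
    (hmax : ∀ y : Y, MoreMor.fibreIntegral f w y ≤ d) (y : Y)
    (hy : MoreMor.fibreIntegral f w y = d) :
    ∃ O : Y.Opens, y ∈ O ∧ (∀ y₁ ∈ O, MoreMor.fibreIntegral f w y₁ = d) ∧ IsFinite (f ∣_ O) := by
  obtain ⟨Y', g, y', hg, hgy, _, V, W, hVW, hVfin, hV⟩ :=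
    Groth.Agent.Helper3.QFFibre.main f y (hfin y)
  have hφ := IsWeighting.locConst hw g (pullback.fst f g)
    (pullback.snd f g) (IsPullback.of_hasPullback f g) V hVfin
  set ω := w ∘ pullback.fst f g with hω
  set φ := FI (pullback.snd f g) ω (V : Set _) with hφdef
  have hfib' : ∀ y₁ : Y', ((pullback.snd f g) ⁻¹' {y₁}).Finite := by
    intro y₁
    have hfib : ((Set.univ : Set X) ∩ f ⁻¹' {g y₁}).Finite := by
      rw [Set.univ_inter]; exact hfin _
    have := finite_fibre_bc (IsPullback.of_hasPullback f g) Set.univ y₁ hfib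
    rwa [Set.preimage_univ, Set.univ_inter] at this
  have hdec : ∀ y₁ : Y', MoreMor.fibreIntegral f w (g y₁) =
      φ y₁ + FI (pullback.snd f g) ω (W : Set _) y₁ := by
    intro y₁
    have hfib : ((Set.univ : Set X) ∩ f ⁻¹' {g y₁}).Finite := by
      rw [Set.univ_inter]; exact hfin _
    rw [fibreIntegral_eq_FI, ← FI_bc (IsPullback.of_hasPullback f g) w Set.univ y₁ hfib,
      Set.preimage_univ]
    have huniv : (Set.univ : Set ↑(pullback f g)) = (V : Set _) ∪ (W : Set _) := by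
      have := hVW.sup_eq_top
      rw [← TopologicalSpace.Opens.coe_sup, this]; rfl
    rw [huniv]
    apply FI_union
    · rw [Set.disjoint_iff_inter_eq_empty, ← TopologicalSpace.Opens.coe_inf, hVW.inf_eq_bot]; rfl
    · exact (hfib' y₁).subset Set.inter_subset_right
    · exact (hfib' y₁).subset Set.inter_subset_right
  have hW0 : FI (pullback.snd f g) ω (W : Set _) y' = 0 := by
    apply FI_empty_fibre
    ext z
    simp only [Set.mem_inter_iff, SetLike.mem_coe, Set.mem_preimage, Set.mem_singleton_iff,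
      Set.mem_empty_iff_false, iff_false, not_and]
    intro hzW hzy
    have hzV := hV z hzy
    have : z ∈ V ⊓ W := ⟨hzV, hzW⟩
    rw [hVW.inf_eq_bot] at this
    exact this
  have hφy' : φ y' = d := by
    rw [← hy, ← hgy, hdec y', hW0, add_zero]
  set N' : Y'.Opens := ⟨φ ⁻¹' {φ y'}, hφ.isOpen_fiber _⟩ with hN'
  have hN'1 : ∀ y₁ ∈ N', MoreMor.fibreIntegral f w (g y₁) = d ∧
      FI (pullback.snd f g) ω (W : Set _) y₁ = 0 := by
    intro y₁ hy₁
    have h1 : φ y₁ = d := by rw [← hφy']; exact hy₁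
    have h2 : 0 ≤ FI (pullback.snd f g) ω (W : Set _) y₁ :=
      FI_nonneg _ _ _ _ (fun z _ => (hpos _).le)
    have h3 := hmax (g y₁)
    rw [hdec y₁, h1] at h3
    have h4 : FI (pullback.snd f g) ω (W : Set _) y₁ = 0 := by linarith
    refine ⟨?_, h4⟩
    rw [hdec y₁, h1, h4, add_zero]
  have hle : (pullback.snd f g) ⁻¹ᵁ N' ≤ V := by
    intro z hz
    have hzN : pullback.snd f g z ∈ N' := hz
    by_contra hzV
    have hzW : z ∈ W := by
      have : z ∈ (V ⊔ W : (pullback f g).Opens) := by rw [hVW.sup_eq_top]; trivial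
      rcases this with h | h
      · exact absurd h hzV
      · exact h
    have hpos' := FI_pos_of_nonempty (pullback.snd f g) ω (W : Set _) (pullback.snd f g z)
      (fun z' _ => hpos _) ((hfib' _).subset Set.inter_subset_right) ⟨z, hzW, rfl⟩
    rw [(hN'1 _ hzN).2] at hpos'
    exact lt_irrefl _ hpos'
  have hfinN : IsFinite ((pullback.snd f g) ∣_ N') :=
    isFinite_morphismRestrict_of_le _ V hVfin N' hle
  set O : Y.Opens := ⟨g '' (N' : Set Y'), g.isOpenMap _ N'.2⟩ with hO
  refine ⟨O, ⟨y', rfl, hgy⟩, ?_, isFinite_restrict_of_etale_cover f g N' O rfl hfinN⟩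
  rintro _ ⟨y₁, hy₁, rfl⟩
  exact (hN'1 y₁ hy₁).1

end Groth.Agent.Helper4.WtG
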