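import Mathlib
import Groth.Agent.Helper4.WtG
import Groth.Agent.Helper4.IsolFibB

set_option autoImplicit false
universe u
open CategoryTheory CategoryTheory.Limits AlgebraicGeometry Opposite
open Groth.Agent.Helper4.WtA Groth.Agent.Helper4.WtB Groth.Agent.Helper4.WtC
  Groth.Agent.Helper4.WtD Groth.Agent.Helper4.WtG

namespace Groth.Agent.Helper4.FinEtCount

/-- At a point in the image of a section, the residue field extension is trivial. -/
theorem sd_section {P P' : Scheme.{u}} (j : P ⟶ P') (q : P' ⟶ P) (hjq : j ≫ q = 𝟙 P) (x : P) :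
    sd q (j x) = 1 := by
  apply Groth.Agent.Helper4.IsolFibB.sd_eq_one_of_bijective
  set a := q.residueFieldMap (j x) with ha
  set b := j.residueFieldMap x with hb
  have hab : IsIso (a ≫ b) := by
    rw [ha, hb, ← Scheme.residueFieldMap_comp, Scheme.Hom.residueFieldMap_congr hjq]
    haveI : IsIso (Scheme.Hom.residueFieldMap (𝟙 P) x) := inferInstance
    exact IsIso.comp_isIso
  have hbij : Function.Bijective (a ≫ b).hom := by
    have := (ConcreteCategory.isIso_iff_bijective (a ≫ b)).mp hab
    exact this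
  have hcomp : ⇑(a ≫ b).hom = ⇑b.hom ∘ ⇑a.hom := by
    ext t; simp
  rw [hcomp] at hbij
  have hbinj : Function.Injective b.hom := b.hom.injective
  have hbsurj : Function.Surjective b.hom := hbij.2.of_comp
  have hbb : Function.Bijective b.hom := ⟨hbinj, hbsurj⟩
  exact (Function.Bijective.of_comp_iff' hbb _).mp hbij


set_option maxHeartbeats 1600000 in
/-- For a finite étale morphism the number of geometric points of the fibres inside a clopen
subset is locally constant. -/
theorem aux (d : ℕ) : ∀ {P V : Scheme.{u}} (p : P ⟶ V) [IsFinite p] [Etale p] (A : Set P),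
    IsClopen A → ∀ v : V, FI p (fun _ => 1) A v = (d : ℤ) →
      ∃ O : Set V, IsOpen O ∧ v ∈ O ∧ ∀ v' ∈ O, FI p (fun _ => 1) A v' = (d : ℤ) := by
  induction d with
  | zero =>
    intro P V p _ _ A hA v hv
    haveI : LocallyQuasiFinite p := inferInstance
    have hfib : ∀ v' : V, (A ∩ p ⁻¹' {v'}).Finite := fun v' =>
      (p.finite_preimage_singleton v').subset Set.inter_subset_right
    have hempty : A ∩ p ⁻¹' {v} = ∅ := by
      by_contra hne
      have hne' : (A ∩ p ⁻¹' {v}).Nonempty := Set.nonempty_iff_ne_empty.mpr hne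
      have := FI_pos_of_nonempty p (fun _ => (1 : ℤ)) A v (fun _ _ => zero_lt_one) (hfib v) hne'
      rw [hv] at this
      exact lt_irrefl _ this
    refine ⟨(p '' A)ᶜ, (p.isClosedMap _ hA.1).isOpen_compl, ?_, ?_⟩
    · rintro ⟨x, hxA, hxv⟩
      have : x ∈ A ∩ p ⁻¹' {v} := ⟨hxA, hxv⟩
      rw [hempty] at this
      exact this
    · intro v' hv'
      rw [Nat.cast_zero]
      apply FI_empty_fibre
      ext x
      simp only [Set.mem_inter_iff, Set.mem_preimage, Set.mem_singleton_iff,
        Set.mem_empty_iff_false, iff_false, not_and]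
      intro hxA hxv
      exact hv' ⟨x, hxA, hxv⟩
  | succ d ih =>
    intro P V p _ _ A hA v hv
    haveI : LocallyQuasiFinite p := inferInstance
    haveI : UniversallyOpen p := UniversallyOpen.of_flat p
    have hfib : ∀ v' : V, (p ⁻¹' {v'}).Finite := fun v' => p.finite_preimage_singleton v'
    -- a point of the fibre
    have hne : (A ∩ p ⁻¹' {v}).Nonempty := by
      by_contra hne
      rw [Set.not_nonempty_iff_eq_empty] at hne
      rw [FI_empty_fibre p _ A v hne] at hv
      have : (0 : ℤ) < ((d + 1 : ℕ) : ℤ) := by positivity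
      rw [← hv] at this
      exact lt_irrefl _ this
    obtain ⟨x, hxA, hxv⟩ := hne
    replace hxv : p x = v := hxv
    -- the fibre square
    set pr₁ := pullback.fst p p with hpr₁
    set pr₂ := pullback.snd p p with hpr₂
    have hsq : IsPullback pr₁ pr₂ p p := IsPullback.of_hasPullback p p
    set Δ := pullback.diagonal p with hΔ
    have hΔ1 : Δ ≫ pr₁ = 𝟙 P := pullback.diagonal_fst p
    have hΔ2 : Δ ≫ pr₂ = 𝟙 P := pullback.diagonal_snd p
    haveI : IsFinite pr₂ := inferInstance
    haveI : Etale pr₂ := inferInstance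
    haveI : LocallyQuasiFinite pr₂ := inferInstance
    set R : Set ↑(pullback p p) := Set.range Δ with hR
    have hRclopen : IsClopen R :=
      ⟨Δ.isClosedEmbedding.isClosed_range, Δ.isOpenEmbedding.isOpen_range⟩
    set A₁ : Set ↑(pullback p p) := pr₁ ⁻¹' A with hA₁
    have hA₁clopen : IsClopen A₁ := hA.preimage pr₁.continuous
    set A₂ : Set ↑(pullback p p) := A₁ \ R with hA₂
    have hA₂clopen : IsClopen A₂ := hA₁clopen.diff hRclopen
    have hfib' : ∀ x' : P, (pr₂ ⁻¹' {x'}).Finite := fun x' => pr₂.finite_preimage_singleton x'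
    have hΔ1' : ∀ z : P, pr₁ (Δ z) = z := fun z => by
      have : (Δ ≫ pr₁) z = (𝟙 P : P ⟶ P) z := by rw [hΔ1]
      exact this
    have hΔ2' : ∀ z : P, pr₂ (Δ z) = z := fun z => by
      have : (Δ ≫ pr₂) z = (𝟙 P : P ⟶ P) z := by rw [hΔ2]
      exact this
    -- the key formula
    have hkey : ∀ x' ∈ A, FI p (fun _ => 1) A (p x') = 1 + FI pr₂ (fun _ => 1) A₂ x' := by
      intro x' hx'A
      have h1 := FI_bc hsq (fun _ => (1 : ℤ)) A x'
        ((hfib _).subset Set.inter_subset_right)
      have h1' : FI pr₂ (fun _ => 1) A₁ x' = FI p (fun _ => 1) A (p x') := h1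
      rw [← h1']
      have hsplit : A₁ = (A₁ ∩ R) ∪ A₂ := by
        rw [hA₂, Set.inter_union_diff]
      have hdisj : Disjoint (A₁ ∩ R) A₂ := by
        rw [hA₂]
        exact Set.disjoint_left.mpr fun z hz hz' => hz'.2 hz.2
      have h2 : FI pr₂ (fun _ => 1) A₁ x' =
          FI pr₂ (fun _ => 1) (A₁ ∩ R) x' + FI pr₂ (fun _ => 1) A₂ x' := by
        conv_lhs => rw [hsplit]
        exact FI_union pr₂ _ _ _ x' hdisj ((hfib' x').subset Set.inter_subset_right)
          ((hfib' x').subset Set.inter_subset_right)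
      rw [h2]
      congr 1
      rw [FI_of_fibre_singleton pr₂ (fun _ => 1) (A₁ ∩ R) x' (Δ x')
        ⟨by show pr₁ (Δ x') ∈ A; rw [hΔ1']; exact hx'A, x', rfl⟩ (hΔ2' x')
        (by
          rintro z' ⟨_, z, rfl⟩ hz'
          rw [hΔ2'] at hz'
          rw [hz']),
        sd_section Δ pr₂ hΔ2 x']
      simp
    -- apply the induction hypothesis at `x`
    have hx : FI pr₂ (fun _ => 1) A₂ x = (d : ℤ) := by
      have := hkey x hxA
      rw [hxv, hv] at this
      push_cast at this
      linarith
    obtain ⟨W, hW, hxW, hWc⟩ := ih pr₂ A₂ hA₂clopen x hx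
    refine ⟨p '' (W ∩ A), p.isOpenMap _ (hW.inter hA.2), ⟨x, ⟨hxW, hxA⟩, hxv⟩, ?_⟩
    rintro _ ⟨x', ⟨hx'W, hx'A⟩, rfl⟩
    rw [hkey x' hx'A, hWc x' hx'W]
    push_cast
    ring

end Groth.Agent.Helper4.FinEtCount
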