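import Groth.Prelude.Def_MoreMor
import Groth.Agent.Helper4.BddFib8
import Mathlib

set_option autoImplicit false
universe u
open CategoryTheory CategoryTheory.Limits AlgebraicGeometry Opposite TensorProduct

namespace Groth.Agent.Helper4.GeomFibQF

open Groth Groth.Agent.Helper4

/-- In a discrete space the irreducible components are the singletons. -/
theorem encard_irreducibleComponents_of_discrete (T : Type*) [TopologicalSpace T]
    [DiscreteTopology T] : (irreducibleComponents T).encard = ENat.card T := by
  have h : irreducibleComponents T = Set.range (fun x : T => ({x} : Set T)) := by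
    ext s
    constructor
    · intro hs
      obtain ⟨x, hx⟩ := hs.1.1
      refine ⟨x, ?_⟩
      have h1 : IsIrreducible ({x} : Set T) := isIrreducible_singleton
      have h2 : ({x} : Set T) ≤ s := Set.singleton_subset_iff.mpr hx
      refine le_antisymm h2 ?_
      intro z hz
      by_contra hne
      have hne' : z ≠ x := hne
      obtain ⟨w, hw, hw1, hw2⟩ := hs.1.2 {x} {z} (isOpen_discrete _) (isOpen_discrete _)
        ⟨x, hx, rfl⟩ ⟨z, hz, rfl⟩
      rw [Set.mem_singleton_iff] at hw1 hw2
      exact hne' (hw2.symm.trans hw1)
    · rintro ⟨x, rfl⟩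
      refine ⟨isIrreducible_singleton, fun t ht hle => ?_⟩
      intro z hz
      by_contra hne
      have hne' : z ≠ x := hne
      obtain ⟨w, hw, hw1, hw2⟩ := ht.2 {x} {z} (isOpen_discrete _) (isOpen_discrete _)
        ⟨x, hle rfl, rfl⟩ ⟨z, hz, rfl⟩
      rw [Set.mem_singleton_iff] at hw1 hw2
      exact hne' (hw2.symm.trans hw1)
  rw [h, ← Set.image_univ, Function.Injective.encard_image
    (fun a b hab => Set.singleton_injective hab), Set.encard_univ]

/-- In a discrete space the connected components are the points. -/
theorem card_connectedComponents_of_discrete (T : Type*) [TopologicalSpace T]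
    [DiscreteTopology T] : ENat.card (_root_.ConnectedComponents T) = ENat.card T := by
  refine (ENat.card_congr (Equiv.ofBijective (ConnectedComponents.mk (α := T))
    ⟨fun a b hab => ?_, ConnectedComponents.surjective_coe⟩)).symm
  rw [ConnectedComponents.coe_eq_coe'] at hab
  rw [connectedComponent_eq_singleton] at hab
  exact hab

/-- The geometric fibres of a locally quasi-finite morphism are discrete. -/
theorem discreteTopology_geomFiber {X Y : Scheme.{u}} (f : X ⟶ Y) [LocallyQuasiFinite f]
    (y : Y) : DiscreteTopology ↥(MoreMor.geomFiber f y) := by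
  haveI : LocallyQuasiFinite (f.fiberToSpecResidueField y) := by
    unfold Scheme.Hom.fiberToSpecResidueField
    exact MorphismProperty.pullback_snd (P := @LocallyQuasiFinite) _ _ inferInstance
  have h := Scheme.Hom.isDiscrete_preimage_singleton
    (pullback.snd (f.fiberToSpecResidueField y) (Spec.map (CommRingCat.ofHom
      (algebraMap (Y.residueField y) (SeparableClosure (Y.residueField y)))))) default
  have h2 : (pullback.snd (f.fiberToSpecResidueField y) (Spec.map (CommRingCat.ofHom
      (algebraMap (Y.residueField y) (SeparableClosure (Y.residueField y)))))) ⁻¹' {default}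
      = Set.univ := by
    ext z
    simp only [Set.mem_preimage, Set.mem_singleton_iff, Set.mem_univ, iff_true]
    haveI : Subsingleton ↥(Spec (CommRingCat.of (SeparableClosure (Y.residueField y)))) :=
      inferInstanceAs (Subsingleton (PrimeSpectrum (SeparableClosure (Y.residueField y))))
    exact Subsingleton.elim _ _
  rw [h2] at h
  exact isDiscrete_univ_iff.mp h

/-- Bounded fibre degree bounds the number of points of the geometric fibres. -/
theorem card_geomFiber_le {X Y : Scheme.{u}} (f : X ⟶ Y) (n : ℕ) (hf : BddFib.FibreDegLE f n)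
    (y : Y) : Finite ↥(MoreMor.geomFiber f y) ∧ Nat.card ↥(MoreMor.geomFiber f y) ≤ n := by
  have h1 := hf y
  have sq : IsPullback (pullback.fst (f.fiberToSpecResidueField y) (Spec.map (CommRingCat.ofHom
      (algebraMap (Y.residueField y) (SeparableClosure (Y.residueField y))))))
      (pullback.snd _ _) (f.fiberToSpecResidueField y) (Spec.map (CommRingCat.ofHom
      (algebraMap (Y.residueField y) (SeparableClosure (Y.residueField y))))) :=
    IsPullback.of_hasPullback _ _
  have h2 := BddFib1.finiteOfDegLE_of_isPullback (Y.residueField y)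
    (SeparableClosure (Y.residueField y)) _ _ _ _ sq n h1
  obtain ⟨a, _, c⟩ := BddFib3.count _ _ n h2
  exact ⟨a, c⟩

theorem main {X Y : Scheme.{u}} (f : X ⟶ Y) [LocallyQuasiFinite f] [LocallyOfFiniteType f] :
    (∀ y : Y, MoreMor.nGeomIrredComp f y = MoreMor.nGeomConnComp f y) ∧
      (CompactSpace ↑X → ∃ d : ℕ, ∀ y : Y, MoreMor.nGeomConnComp f y ≤ d) := by
  refine ⟨fun y => ?_, fun hX => ?_⟩
  · haveI := discreteTopology_geomFiber f y
    unfold MoreMor.nGeomIrredComp MoreMor.nGeomConnComp
    rw [encard_irreducibleComponents_of_discrete, card_connectedComponents_of_discrete]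
  · obtain ⟨n, hn⟩ := BddFib8.s7441 f
    refine ⟨n, fun y => ?_⟩
    haveI := discreteTopology_geomFiber f y
    obtain ⟨hfin, hle⟩ := card_geomFiber_le f n hn y
    unfold MoreMor.nGeomConnComp
    rw [card_connectedComponents_of_discrete, ENat.card_eq_coe_natCard]
    exact_mod_cast hle

end Groth.Agent.Helper4.GeomFibQF
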