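import Mathlib
import Groth.Agent.Helper4.WtC
import Groth.Agent.Helper4.GeomFibQF

set_option autoImplicit false
universe u
open CategoryTheory CategoryTheory.Limits AlgebraicGeometry Opposite
open Groth.Agent.Helper4.WtA Groth.Agent.Helper4.WtC

namespace Groth.Agent.Helper4.GeomPtsA

/-- The residue field of the spectrum of a separably closed field is separably closed. -/
theorem isSepClosed_residueField (Ω : Type u) [Field Ω] [IsSepClosed Ω]
    (v : Spec (CommRingCat.of Ω)) : IsSepClosed ((Spec (CommRingCat.of Ω)).residueField v) := by
  haveI : v.asIdeal.IsMaximal := inferInstance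
  have h1 : Function.Surjective (algebraMap Ω v.asIdeal.ResidueField) :=
    Ideal.algebraMap_residueField_surjective v.asIdeal
  haveI : Algebra.IsAlgebraic Ω v.asIdeal.ResidueField :=
    (Algebra.isIntegral_of_surjective h1).isAlgebraic
  haveI : IsSepClosed v.asIdeal.ResidueField := Algebra.IsAlgebraic.isSepClosed (F := Ω)
  let e := Scheme.Spec.residueFieldIso (CommRingCat.of Ω) v
  letI : Algebra v.asIdeal.ResidueField ((Spec (CommRingCat.of Ω)).residueField v) :=
    e.inv.hom.toAlgebra
  have h2 : Function.Surjective (algebraMap v.asIdeal.ResidueField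
      ((Spec (CommRingCat.of Ω)).residueField v)) := by
    intro a
    refine ⟨e.hom.hom a, ?_⟩
    show e.inv.hom (e.hom.hom a) = a
    have := congrArg (fun m => m.hom a) e.hom_inv_id
    simpa using this
  haveI : Algebra.IsAlgebraic v.asIdeal.ResidueField
      ((Spec (CommRingCat.of Ω)).residueField v) :=
    (Algebra.isIntegral_of_surjective h2).isAlgebraic
  exact Algebra.IsAlgebraic.isSepClosed (F := v.asIdeal.ResidueField)

/-- Over a separably closed field all separable degrees are one. -/
theorem sd_eq_one_of_isSepClosed {P : Scheme.{u}} (Ω : Type u) [Field Ω] [IsSepClosed Ω]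
    (p : P ⟶ Spec (CommRingCat.of Ω)) (x : P) (hx : ResFin p x) : sd p x = 1 := by
  unfold sd
  letI := (p.residueFieldMap x).hom.toAlgebra
  haveI : Module.Finite ((Spec (CommRingCat.of Ω)).residueField (p x)) (P.residueField x) := hx
  haveI := isSepClosed_residueField Ω (p x)
  haveI : Algebra.IsAlgebraic ((Spec (CommRingCat.of Ω)).residueField (p x))
    (P.residueField x) := Algebra.IsAlgebraic.of_finite _ _
  exact IsPurelyInseparable.finSepDegree_eq_one _ _

end Groth.Agent.Helper4.GeomPtsA
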