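import Mathlib
import Groth.Agent.Helper4.GeomPtsA

set_option autoImplicit false
universe u
open CategoryTheory CategoryTheory.Limits AlgebraicGeometry Opposite
open Groth.Agent.Helper4.WtA Groth.Agent.Helper4.WtC Groth.Agent.Helper4.GeomPtsA

namespace Groth.Agent.Helper4.GeomPtsB

/-- The geometric number of points of the fibre, as a weighted fibre sum. -/
noncomputable def N {X Y : Scheme.{u}} (f : X ⟶ Y) (y : Y) : ℤ :=
  FI f (fun _ => 1) Set.univ y

theorem N_nonneg {X Y : Scheme.{u}} (f : X ⟶ Y) (y : Y) : 0 ≤ N f y :=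
  FI_nonneg _ _ _ _ (fun _ _ => zero_le_one)

set_option maxHeartbeats 1000000 in
theorem nGeomConnComp_eq {X Y : Scheme.{u}} (f : X ⟶ Y) [LocallyQuasiFinite f]
    [LocallyOfFiniteType f] (y : Y) (hfin : (f ⁻¹' {y}).Finite) :
    MoreMor.nGeomConnComp f y = ((N f y).toNat : ℕ∞) := by
  classical
  set Ω := SeparableClosure (Y.residueField y) with hΩ
  set σ : Spec (CommRingCat.of Ω) ⟶ Spec (Y.residueField y) :=
    Spec.map (CommRingCat.ofHom (algebraMap (Y.residueField y) Ω)) with hσ
  set g : Spec (CommRingCat.of Ω) ⟶ Y := σ ≫ Y.fromSpecResidueField y with hg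
  set h : MoreMor.geomFiber f y ⟶ X :=
    pullback.fst (f.fiberToSpecResidueField y) σ ≫ f.fiberι y with hh
  set p' : MoreMor.geomFiber f y ⟶ Spec (CommRingCat.of Ω) :=
    pullback.snd (f.fiberToSpecResidueField y) σ with hp'
  have hc : IsPullback h p' f g :=
    (IsPullback.of_hasPullback (f.fiberToSpecResidueField y) σ).paste_horiz
      (IsPullback.of_hasPullback f (Y.fromSpecResidueField y))
  haveI : LocallyQuasiFinite p' := lqf_of_isPullback hc
  have hgy : g (pt Ω) = y := Scheme.fromSpecResidueField_apply y _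
  have hS : ((Set.univ : Set X) ∩ f ⁻¹' {g (pt Ω)}).Finite := by
    rw [Set.univ_inter, hgy]; exact hfin
  have hbc := FI_bc hc (fun _ => (1 : ℤ)) Set.univ (pt Ω) hS
  have hfinP := finite_fibre_bc hc Set.univ (pt Ω) hS
  have huniv : (h ⁻¹' (Set.univ : Set X) ∩ p' ⁻¹' {pt Ω}) = Set.univ := by
    ext z
    simp only [Set.preimage_univ, Set.univ_inter, Set.mem_preimage, Set.mem_singleton_iff,
      Set.mem_univ, iff_true]
    haveI : Subsingleton ↥(Spec (CommRingCat.of Ω)) :=
      inferInstanceAs (Subsingleton (PrimeSpectrum Ω))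
    exact Subsingleton.elim _ _
  rw [huniv] at hfinP
  haveI : Finite ↥(MoreMor.geomFiber f y) := Set.finite_univ_iff.mp hfinP
  have hN : N f y = (Nat.card ↥(MoreMor.geomFiber f y) : ℤ) := by
    unfold N
    have hy' : FI f (fun _ => (1 : ℤ)) Set.univ y = FI f (fun _ => (1 : ℤ)) Set.univ (g (pt Ω)) := by
      rw [hgy]
    rw [hy', ← hbc]
    unfold FI
    rw [huniv]
    haveI := Fintype.ofFinite ↥(MoreMor.geomFiber f y)
    have h1 : ∀ z : ↥(MoreMor.geomFiber f y),
        ((fun _ => (1 : ℤ)) ∘ h) z * (sd p' z : ℤ) = 1 := by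
      intro z
      rw [sd_eq_one_of_isSepClosed Ω p' z (resFin_of_lqf p' z)]
      simp
    simp only [h1]
    rw [finsum_mem_univ, finsum_eq_sum_of_fintype]
    simp [Nat.card_eq_fintype_card]
  haveI := Groth.Agent.Helper4.GeomFibQF.discreteTopology_geomFiber f y
  unfold MoreMor.nGeomConnComp
  rw [Groth.Agent.Helper4.GeomFibQF.card_connectedComponents_of_discrete, hN,
    ENat.card_eq_coe_natCard]
  simp

end Groth.Agent.Helper4.GeomPtsB
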