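import Mathlib
import Groth.Agent.Helper4.GeomPtsB
import Groth.Agent.Helper4.WtG
import Groth.Agent.Helper3.QFFinal
import Groth.Agent.Helper3.QFUnion

set_option autoImplicit false
universe u
open CategoryTheory CategoryTheory.Limits AlgebraicGeometry Opposite
open Groth.Agent.Helper4.WtA Groth.Agent.Helper4.WtB Groth.Agent.Helper4.WtC
  Groth.Agent.Helper4.WtD Groth.Agent.Helper4.WtG Groth.Agent.Helper4.GeomPtsB

namespace Groth.Agent.Helper4.GeomPtsC

set_option maxHeartbeats 1600000 in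
/-- The core: for a separated quasi-finite morphism that is universally open at the points of the
fibre over `y`, the geometric number of points is lower semicontinuous at `y`, and if it is
constant near `y` then the morphism is finite over a neighbourhood of `y`. -/
theorem core {X Y : Scheme.{u}} (f : X ⟶ Y) [LocallyQuasiFinite f] [LocallyOfFiniteType f]
    [IsSeparated f] (hfin : ∀ y : Y, (f ⁻¹' {y}).Finite) (y : Y)
    (hopen : ∀ (Y' : Scheme.{u}) (g : Y' ⟶ Y) (x' : ↑(pullback f g)),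
      f (pullback.fst f g x') = y → ∀ S : (pullback f g).Opens, x' ∈ S →
        (pullback.snd f g) '' (S : Set ↑(pullback f g)) ∈ nhds (pullback.snd f g x')) :
    (∃ O : Y.Opens, y ∈ O ∧ ∀ z ∈ O, N f y ≤ N f z) ∧
    ((∃ V ∈ nhds y, ∀ z ∈ V, N f z = N f y) → ∃ O : Y.Opens, y ∈ O ∧ IsFinite (f ∣_ O)) := by
  classical
  obtain ⟨n, x, hxinj, hxr⟩ := (hfin y).fin_param
  have hs : ∀ i, f (x i) = y := fun i => by
    have : x i ∈ Set.range x := Set.mem_range_self i
    rw [hxr] at this
    exact this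
  obtain ⟨U, g, u, hg, hgu, J, hJ, W, vv, H1, H2, H3⟩ :=
    Groth.Agent.Helper3.QFFinal.main f y x hxinj hs (fun i => f.quasiFiniteAt _)
  set π := pullback.snd f g with hπ
  haveI : LocallyQuasiFinite π := inferInstance
  haveI : IsSeparated π := inferInstance
  haveI : LocallyOfFiniteType π := inferInstance
  haveI : ∀ i, Finite (J i) := hJ
  let T := Σ i, J i
  let S : T → (pullback f g).Opens := fun t => W t.1 t.2
  let ptt : T → ↑(pullback f g) := fun t => vv t.1 t.2
  have hSfin : ∀ t, IsFinite ((S t).ι ≫ π) := fun t => (H1 t.1 t.2).2.1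
  have hsd : ∀ t : T, sd π (ptt t) = 1 := by
    intro t
    unfold sd
    letI := ((pullback.snd f g).residueFieldMap (vv t.1 t.2)).hom.toAlgebra
    haveI := (H1 t.1 t.2).2.2.2.2.1.2
    exact IsPurelyInseparable.finSepDegree_eq_one _ _
  have hptu : ∀ t, π (ptt t) = u := fun t => (H1 t.1 t.2).2.2.1
  have hptS : ∀ t, ptt t ∈ S t := fun t => (H1 t.1 t.2).1
  have huniq : ∀ t, ∀ w : ↑(pullback f g), w ∈ S t → π w = u → w = ptt t :=
    fun t => (H1 t.1 t.2).2.2.2.1
  have hfst : ∀ t, pullback.fst f g (ptt t) = x t.1 := fun t => (H1 t.1 t.2).2.2.2.2.2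
  have hsq : IsPullback (pullback.fst f g) π f g := IsPullback.of_hasPullback f g
  have hall : ∀ w : ↑(pullback f g), π w = u → ∃ t, w = ptt t := by
    intro w hw
    have h1 : f (pullback.fst f g w) = y := by
      rw [map_apply_of_isPullback hsq, hw, hgu]
    have h2 : pullback.fst f g w ∈ Set.range x := by rw [hxr]; exact h1
    obtain ⟨i, hi⟩ := h2
    obtain ⟨j, hj⟩ := H3 w i hw hi.symm
    exact ⟨⟨i, j⟩, hj⟩
  have hinjpt : Function.Injective ptt := by
    intro t t' htt
    obtain ⟨h2, h3⟩ := H2 _ _ _ _ htt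
    exact Sigma.ext h2 h3
  set A : (pullback f g).Opens := ⨆ t, S t with hA
  have hAfin : IsFinite (A.ι ≫ π) := Groth.Agent.Helper3.QFUnion.isFinite_iSup π S hSfin
  have hSA : ∀ t, S t ≤ A := fun t => le_iSup S t
  obtain ⟨N₀, huN₀, hcov, hdisj⟩ := exists_nbhd_decomp π A hAfin S hSfin u ptt
    (fun t => hSA t (hptS t)) hinjpt (fun t z hz hzu => huniq t z hz hzu)
    (fun z hzA _ => by
      have : z ∈ (⨆ t, S t : (pullback f g).Opens) := hzA
      rw [TopologicalSpace.Opens.mem_iSup] at this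
      exact this)
  have hnb : ∀ t, π '' (S t : Set ↑(pullback f g)) ∈ nhds u := by
    intro t
    have := hopen U g (ptt t) (by rw [hfst, hs]) (S t) (hptS t)
    rwa [hptu] at this
  set N₁ : U.Opens := ⟨(N₀ : Set U) ∩ ⋂ t, interior (π '' (S t : Set ↑(pullback f g))),
    N₀.2.inter (isOpen_iInter_of_finite fun t => isOpen_interior)⟩ with hN₁
  have huN₁ : u ∈ N₁ := ⟨huN₀, Set.mem_iInter.mpr fun t => mem_interior_iff_mem_nhds.mpr (hnb t)⟩
  have hfib' : ∀ u' : U, (π ⁻¹' {u'}).Finite := by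
    intro u'
    have hfib : ((Set.univ : Set X) ∩ f ⁻¹' {g u'}).Finite := by
      rw [Set.univ_inter]; exact hfin _
    have := finite_fibre_bc hsq Set.univ u' hfib
    rwa [Set.preimage_univ, Set.univ_inter] at this
  have hNbc : ∀ u' : U, N π u' = N f (g u') := by
    intro u'
    have hfib : ((Set.univ : Set X) ∩ f ⁻¹' {g u'}).Finite := by
      rw [Set.univ_inter]; exact hfin _
    have := FI_bc hsq (fun _ => (1 : ℤ)) Set.univ u' hfib
    rw [Set.preimage_univ] at this
    exact this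
  have hdecomp : ∀ u' : U, N π u' = FI π (fun _ => 1) (A : Set _) u' +
      FI π (fun _ => 1) ((A : Set ↑(pullback f g))ᶜ) u' := by
    intro u'
    unfold N
    rw [← Set.union_compl_self (A : Set ↑(pullback f g))]
    exact FI_union π _ _ _ u' disjoint_compl_right
      ((hfib' u').subset Set.inter_subset_right) ((hfib' u').subset Set.inter_subset_right)
  haveI : Fintype T := Fintype.ofFinite T
  have hAdec : ∀ u' ∈ N₀, FI π (fun _ => 1) (A : Set _) u' =
      ∑ t : T, FI π (fun _ => 1) (S t : Set _) u' := by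
    intro u' hu'
    rw [FI_decomp π (fun _ => 1) (A : Set _) (fun t : T => (S t : Set _)) u'
      (fun t => finite_fibre_of_isFinite _ _ (hSfin t) _)
      (fun z hz => hcov z (by rw [hz]; exact hu'))
      (fun z hz => hdisj z (by rw [hz]; exact hu'))]
    exact finsum_eq_sum_of_fintype _
  have hAlow : ∀ u' ∈ N₁, (Fintype.card T : ℤ) ≤ FI π (fun _ => 1) (A : Set _) u' := by
    intro u' hu'
    rw [hAdec u' hu'.1]
    have h1 : ∀ t : T, (1 : ℤ) ≤ FI π (fun _ => 1) (S t : Set _) u' := by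
      intro t
      have h2 : u' ∈ π '' (S t : Set ↑(pullback f g)) :=
        interior_subset (Set.mem_iInter.mp hu'.2 t)
      obtain ⟨z, hzS, hzu⟩ := h2
      have h3 := le_FI_of_pos π (fun _ => (1 : ℤ)) (S t : Set _) (fun _ _ => zero_lt_one) z hzS
        (finite_fibre_of_isFinite _ _ (hSfin t) _)
      replace hzu : π z = u' := hzu
      rwa [hzu] at h3
    calc (Fintype.card T : ℤ) = ∑ _t : T, (1 : ℤ) := by simp
      _ ≤ ∑ t : T, FI π (fun _ => 1) (S t : Set _) u' := Finset.sum_le_sum fun t _ => h1 t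
  have hAu : FI π (fun _ => 1) (A : Set _) u = (Fintype.card T : ℤ) := by
    rw [hAdec u huN₀]
    have h1 : ∀ t : T, FI π (fun _ => 1) (S t : Set _) u = 1 := by
      intro t
      rw [FI_of_fibre_singleton π (fun _ => 1) (S t : Set _) u (ptt t) (hptS t) (hptu t)
        (fun z hz hzu => huniq t z hz hzu), hsd t]
      simp
    simp [h1]
  have hAcu : FI π (fun _ => 1) ((A : Set ↑(pullback f g))ᶜ) u = 0 := by
    apply FI_empty_fibre
    ext z
    simp only [Set.mem_inter_iff, Set.mem_compl_iff, SetLike.mem_coe, Set.mem_preimage,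
      Set.mem_singleton_iff, Set.mem_empty_iff_false, iff_false, not_and]
    intro hzA hzu
    obtain ⟨t, rfl⟩ := hall z hzu
    exact hzA (hSA t (hptS t))
  have hNy : N f y = (Fintype.card T : ℤ) := by
    rw [← hgu, ← hNbc u, hdecomp u, hAu, hAcu, add_zero]
  refine ⟨⟨⟨g '' (N₁ : Set U), g.isOpenMap _ N₁.2⟩, ⟨u, huN₁, hgu⟩, ?_⟩, ?_⟩
  · rintro _ ⟨u', hu', rfl⟩
    rw [hNy, ← hNbc u', hdecomp u']
    have h1 := hAlow u' hu'
    have h2 : 0 ≤ FI π (fun _ => 1) ((A : Set ↑(pullback f g))ᶜ) u' :=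
      FI_nonneg _ _ _ _ (fun _ _ => zero_le_one)
    linarith
  · rintro ⟨V, hV, hVc⟩
    have hgV : g ⁻¹' (interior V) ∈ nhds u := by
      apply g.continuous.continuousAt.preimage_mem_nhds
      rw [hgu]
      exact isOpen_interior.mem_nhds (mem_interior_iff_mem_nhds.mpr hV)
    set N₂ : U.Opens := ⟨(N₁ : Set U) ∩ g ⁻¹' (interior V),
      N₁.2.inter (isOpen_interior.preimage g.continuous)⟩ with hN₂
    have huN₂ : u ∈ N₂ := ⟨huN₁, mem_of_mem_nhds hgV⟩
    have hzero : ∀ u' ∈ N₂, FI π (fun _ => 1) ((A : Set ↑(pullback f g))ᶜ) u' = 0 := by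
      intro u' hu'
      have h1 := hAlow u' hu'.1
      have h2 : 0 ≤ FI π (fun _ => 1) ((A : Set ↑(pullback f g))ᶜ) u' :=
        FI_nonneg _ _ _ _ (fun _ _ => zero_le_one)
      have h3 : N π u' = (Fintype.card T : ℤ) := by
        rw [hNbc u', hVc (g u') (interior_subset hu'.2), hNy]
      rw [hdecomp u'] at h3
      linarith
    have hle : π ⁻¹ᵁ N₂ ≤ A := by
      intro z hz
      have hzN : π z ∈ N₂ := hz
      by_contra hzA
      have hpos' := FI_pos_of_nonempty π (fun _ => (1 : ℤ)) ((A : Set ↑(pullback f g))ᶜ) (π z)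
        (fun _ _ => zero_lt_one) ((hfib' _).subset Set.inter_subset_right) ⟨z, hzA, rfl⟩
      rw [hzero _ hzN] at hpos'
      exact lt_irrefl _ hpos'
    have hfinN : IsFinite (π ∣_ N₂) := isFinite_morphismRestrict_of_le π A hAfin N₂ hle
    exact ⟨⟨g '' (N₂ : Set U), g.isOpenMap _ N₂.2⟩, ⟨u, huN₂, hgu⟩,
      isFinite_restrict_of_etale_cover f g N₂ _ rfl hfinN⟩

end Groth.Agent.Helper4.GeomPtsC
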