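import Mathlib
import Groth.Agent.Helper4.GeomPtsC
import Groth.Prelude.Def_EGA43

set_option autoImplicit false
universe u
open CategoryTheory CategoryTheory.Limits AlgebraicGeometry Opposite
open Groth.Agent.Helper4.WtA Groth.Agent.Helper4.GeomPtsB Groth.Agent.Helper4.GeomPtsC

namespace Groth.Agent.Helper4.GeomPtsD

theorem hopen_of_univOpenAt {X Y : Scheme.{u}} (f : X ⟶ Y) (y : Y)
    (h : ∀ x : X, f.base x = y → EGA43.IsUnivOpenAt f x) :
    ∀ (Y' : Scheme.{u}) (g : Y' ⟶ Y) (x' : ↑(pullback f g)),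
      f (pullback.fst f g x') = y → ∀ S : (pullback f g).Opens, x' ∈ S →
        (pullback.snd f g) '' (S : Set ↑(pullback f g)) ∈ nhds (pullback.snd f g x') := by
  intro Y' g x' hx' S hS
  exact h (pullback.fst f g x') hx' Y' g x' rfl (S : Set ↑(pullback f g)) (S.2.mem_nhds hS)

theorem hopen_of_universallyOpen {X Y : Scheme.{u}} (f : X ⟶ Y) [UniversallyOpen f] (y : Y) :
    ∀ (Y' : Scheme.{u}) (g : Y' ⟶ Y) (x' : ↑(pullback f g)),
      f (pullback.fst f g x') = y → ∀ S : (pullback f g).Opens, x' ∈ S →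
        (pullback.snd f g) '' (S : Set ↑(pullback f g)) ∈ nhds (pullback.snd f g x') := by
  intro Y' g x' _ S hS
  have : IsOpen ((pullback.snd f g) '' (S : Set ↑(pullback f g))) :=
    (pullback.snd f g).isOpenMap _ S.2
  exact this.mem_nhds ⟨x', hS, rfl⟩

theorem nGeom_le_of_N_le {X Y : Scheme.{u}} (f : X ⟶ Y) [LocallyQuasiFinite f]
    [LocallyOfFiniteType f] (hfin : ∀ y : Y, (f ⁻¹' {y}).Finite) (y z : Y)
    (h : N f y ≤ N f z) : MoreMor.nGeomConnComp f y ≤ MoreMor.nGeomConnComp f z := by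
  rw [nGeomConnComp_eq f y (hfin y), nGeomConnComp_eq f z (hfin z)]
  exact_mod_cast Int.toNat_le_toNat h

theorem N_eq_of_nGeom_eq {X Y : Scheme.{u}} (f : X ⟶ Y) [LocallyQuasiFinite f]
    [LocallyOfFiniteType f] (hfin : ∀ y : Y, (f ⁻¹' {y}).Finite) (y z : Y)
    (h : MoreMor.nGeomConnComp f z = MoreMor.nGeomConnComp f y) : N f z = N f y := by
  rw [nGeomConnComp_eq f y (hfin y), nGeomConnComp_eq f z (hfin z)] at h
  have h1 : (N f z).toNat = (N f y).toNat := by exact_mod_cast h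
  have h2 := Int.toNat_of_nonneg (N_nonneg f z)
  have h3 := Int.toNat_of_nonneg (N_nonneg f y)
  rw [← h2, ← h3, h1]

/-- Lower semicontinuity at `y`. -/
theorem lsc_at {X Y : Scheme.{u}} (f : X ⟶ Y) [LocallyQuasiFinite f] [LocallyOfFiniteType f]
    [IsSeparated f] [QuasiCompact f] (y : Y)
    (hopen : ∀ (Y' : Scheme.{u}) (g : Y' ⟶ Y) (x' : ↑(pullback f g)),
      f (pullback.fst f g x') = y → ∀ S : (pullback f g).Opens, x' ∈ S →
        (pullback.snd f g) '' (S : Set ↑(pullback f g)) ∈ nhds (pullback.snd f g x')) :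
    ∃ V ∈ nhds y, ∀ z ∈ V, MoreMor.nGeomConnComp f y ≤ MoreMor.nGeomConnComp f z := by
  have hfin : ∀ y : Y, (f ⁻¹' {y}).Finite := fun y => f.finite_preimage_singleton y
  obtain ⟨⟨O, hyO, hO⟩, -⟩ := core f hfin y hopen
  exact ⟨O, O.2.mem_nhds hyO, fun z hz => nGeom_le_of_N_le f hfin y z (hO z hz)⟩

/-- Finiteness near `y` when the number of geometric points is constant near `y`. -/
theorem finite_nhd {X Y : Scheme.{u}} (f : X ⟶ Y) [LocallyQuasiFinite f] [LocallyOfFiniteType f]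
    [IsSeparated f] [QuasiCompact f] (y : Y)
    (hopen : ∀ (Y' : Scheme.{u}) (g : Y' ⟶ Y) (x' : ↑(pullback f g)),
      f (pullback.fst f g x') = y → ∀ S : (pullback f g).Opens, x' ∈ S →
        (pullback.snd f g) '' (S : Set ↑(pullback f g)) ∈ nhds (pullback.snd f g x'))
    (hc : ∃ V ∈ nhds y, ∀ z ∈ V, MoreMor.nGeomConnComp f z = MoreMor.nGeomConnComp f y) :
    ∃ O : Y.Opens, y ∈ O ∧ IsFinite (f ∣_ O) := by
  have hfin : ∀ y : Y, (f ⁻¹' {y}).Finite := fun y => f.finite_preimage_singleton y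
  obtain ⟨-, h2⟩ := core f hfin y hopen
  obtain ⟨V, hV, hVc⟩ := hc
  exact h2 ⟨V, hV, fun z hz => N_eq_of_nGeom_eq f hfin y z (hVc z hz)⟩

end Groth.Agent.Helper4.GeomPtsD
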