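import Mathlib
import Groth.Agent.Helper4.FinEtCount
import Groth.Agent.Helper4.GeomPtsD
import Groth.Agent.Helper4.SchLQF

set_option autoImplicit false
universe u
open CategoryTheory CategoryTheory.Limits AlgebraicGeometry Opposite
open Groth.Agent.Helper4.WtA Groth.Agent.Helper4.WtC Groth.Agent.Helper4.GeomPtsB
  Groth.Agent.Helper4.GeomPtsD

namespace Groth.Agent.Helper4.FinEtCountB

/-- For a finite étale morphism the geometric number of points is locally constant. -/
theorem N_locConst {P V : Scheme.{u}} (p : P ⟶ V) [IsFinite p] [Etale p] (v : V) :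
    ∃ O : Set V, IsOpen O ∧ v ∈ O ∧ ∀ v' ∈ O, N p v' = N p v := by
  have h := Groth.Agent.Helper4.FinEtCount.aux (N p v).toNat p Set.univ isClopen_univ v
    (by rw [Int.toNat_of_nonneg (N_nonneg p v)]; rfl)
  obtain ⟨O, hO, hvO, hOc⟩ := h
  refine ⟨O, hO, hvO, fun v' hv' => ?_⟩
  have := hOc v' hv'
  rw [Int.toNat_of_nonneg (N_nonneg p v)] at this
  exact this

/-- The count for the restriction over an open. -/
theorem N_restrict {X Y : Scheme.{u}} (f : X ⟶ Y) [LocallyQuasiFinite f] (U : Y.Opens) (z : U)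
    (hfin : (f ⁻¹' {U.ι z}).Finite) : N (f ∣_ U) z = N f (U.ι z) := by
  have hc : IsPullback (f ⁻¹ᵁ U).ι (f ∣_ U) f U.ι := (isPullback_morphismRestrict f U).flip
  have := FI_bc hc (fun _ => (1 : ℤ)) Set.univ z (by rw [Set.univ_inter]; exact hfin)
  rw [Set.preimage_univ] at this
  exact this

theorem card_geomFiber_eq {X Y : Scheme.{u}} (f : X ⟶ Y) [LocallyQuasiFinite f]
    [LocallyOfFiniteType f] (y : Y) (hfin : (f ⁻¹' {y}).Finite) :
    ENat.card ↥(MoreMor.geomFiber f y) = ((N f y).toNat : ℕ∞) := by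
  rw [← nGeomConnComp_eq f y hfin]
  haveI := Groth.Agent.Helper4.GeomFibQF.discreteTopology_geomFiber f y
  unfold MoreMor.nGeomConnComp
  rw [Groth.Agent.Helper4.GeomFibQF.card_connectedComponents_of_discrete]

/-- If the restriction over an open neighbourhood is finite étale, the count is constant near the
point. -/
theorem N_const_nhd_of_finite {X Y : Scheme.{u}} (f : X ⟶ Y) [Etale f] [QuasiCompact f]
    (U : Y.Opens) (y : Y) (hy : y ∈ U) (hU : IsFinite (f ∣_ U)) :
    ∃ U' : Y.Opens, y ∈ U' ∧ ∀ y' ∈ U', N f y' = N f y := by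
  haveI : LocallyQuasiFinite f := Groth.Agent.Helper4.SchLQF.locallyQuasiFinite_of_etale f
  haveI : Etale (f ∣_ U) := inferInstance
  have hfin : ∀ y : Y, (f ⁻¹' {y}).Finite := fun y => f.finite_preimage_singleton y
  obtain ⟨O, hO, hyO, hOc⟩ := N_locConst (f ∣_ U) ⟨y, hy⟩
  refine ⟨⟨U.ι '' O, U.ι.isOpenEmbedding.isOpenMap _ hO⟩, ⟨⟨y, hy⟩, hyO, rfl⟩, ?_⟩
  rintro _ ⟨z, hz, rfl⟩
  rw [← N_restrict f U z (hfin _), hOc z hz, N_restrict f U ⟨y, hy⟩ (hfin _)]
  rfl

end Groth.Agent.Helper4.FinEtCountB
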