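import Groth.Agent.Helper4.GalStable
import Mathlib

set_option autoImplicit false
universe u
open CategoryTheory CategoryTheory.Limits AlgebraicGeometry Opposite TensorProduct

namespace Groth.Agent.Helper4.FinLevelOpen

open Groth.Agent.Helper4.GalTrans Groth.Agent.Helper4.GeomConnSch Groth.Agent.Helper4.IrrCompBC
  Groth.Agent.Helper4.GalDesc Groth.Agent.Helper4.GeomBC Groth.Agent.Helper4.ConnFinSep
  Groth.Agent.Helper4.GalStable Groth.Agent.Helper4.GeomConnSub
  Groth.Agent.Helper8.GeomIrr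

section affine
variable {k : Type u} [Field k]

/-- Open neighbourhoods in the base change of an affine scheme to an algebraic extension contain
finite level open neighbourhoods. -/
theorem exists_fd_open_Spec' (R : Type u) [CommRing R] [Algebra k R] (Ω : Type u) [Field Ω]
    [Algebra k Ω] [Algebra.IsAlgebraic k Ω]
    (V : Set ↥(pullback (Spec.map (CommRingCat.ofHom (algebraMap k R)))
      (Spec.map (CommRingCat.ofHom (algebraMap k Ω))))) (hV : IsOpen V)
    (b : ↥(pullback (Spec.map (CommRingCat.ofHom (algebraMap k R)))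
      (Spec.map (CommRingCat.ofHom (algebraMap k Ω))))) (hb : b ∈ V) :
    ∃ E : IntermediateField k Ω, FiniteDimensional k E ∧
      ∃ C' : Set ↥(pullback (Spec.map (CommRingCat.ofHom (algebraMap k R)))
        (Spec.map (CommRingCat.ofHom (algebraMap k E)))),
        IsOpen C' ∧ b ∈ (bcMap (Spec.map (CommRingCat.ofHom (algebraMap k R))) E Ω) ⁻¹' C' ∧
          (bcMap (Spec.map (CommRingCat.ofHom (algebraMap k R))) E Ω) ⁻¹' C' ⊆ V := by
  let V₁ : Set (PrimeSpectrum (Ω ⊗[k] R)) := (specIso R Ω).inv ⁻¹' V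
  have hV₁ : IsOpen V₁ := hV.preimage (specIso R Ω).inv.continuous
  let p : PrimeSpectrum (Ω ⊗[k] R) := (specIso R Ω).hom b
  have hpb : (specIso R Ω).inv p = b := by
    show (specIso R Ω).inv ((specIso R Ω).hom b) = b
    rw [← Scheme.Hom.comp_apply, Iso.hom_inv_id]; rfl
  have hp : p ∈ V₁ := by
    show (specIso R Ω).inv p ∈ V
    rw [hpb]; exact hb
  obtain ⟨_, ⟨s, rfl⟩, hps, hsV⟩ :=
    PrimeSpectrum.isTopologicalBasis_basic_opens.exists_subset_of_mem_open hp hV₁
  obtain ⟨E, hE, ⟨s', hs'⟩⟩ := exists_fd_mem_range Ω R s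
  let B : Set (PrimeSpectrum (↥E ⊗[k] R)) := PrimeSpectrum.basicOpen s'
  have hB : IsOpen B := (PrimeSpectrum.basicOpen s').isOpen
  let φ : ↥E ⊗[k] R →+* Ω ⊗[k] R := (jE Ω R E).toRingHom
  have hφ : φ s' = s := hs'
  have key : ∀ w : ↥(Spec (CommRingCat.of (Ω ⊗[k] R))),
      (specIso R E).hom (bcMap (Spec.map (CommRingCat.ofHom (algebraMap k R))) E Ω
        ((specIso R Ω).inv w)) ∈ B ↔
        w ∈ ((PrimeSpectrum.basicOpen s : TopologicalSpace.Opens (PrimeSpectrum (Ω ⊗[k] R))) :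
          Set (PrimeSpectrum (Ω ⊗[k] R))) := by
    intro w
    have h2a : bcMap (Spec.map (CommRingCat.ofHom (algebraMap k R))) E Ω
        ((specIso R Ω).inv w) =
        (specIso R E).inv (Spec.map (CommRingCat.ofHom (jE Ω R E).toRingHom) w) := by
      rw [← Scheme.Hom.comp_apply, ← Scheme.Hom.comp_apply, specIso_bcMap]
    have h2 : (specIso R E).hom (bcMap (Spec.map (CommRingCat.ofHom (algebraMap k R))) E Ω
        ((specIso R Ω).inv w)) = Spec.map (CommRingCat.ofHom (jE Ω R E).toRingHom) w := by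
      rw [h2a, ← Scheme.Hom.comp_apply, Iso.inv_hom_id]
      rfl
    have h2' : (specIso R E).hom (bcMap (Spec.map (CommRingCat.ofHom (algebraMap k R))) E Ω
        ((specIso R Ω).inv w)) = PrimeSpectrum.comap φ w := h2
    rw [h2']
    show s' ∉ (PrimeSpectrum.comap φ w).asIdeal ↔ s ∉ w.asIdeal
    rw [PrimeSpectrum.comap_asIdeal, Ideal.mem_comap, hφ]
  refine ⟨E, hE, (specIso R E).hom ⁻¹' B, hB.preimage (specIso R E).hom.continuous, ?_, ?_⟩
  · show (specIso R E).hom (bcMap _ E Ω b) ∈ B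
    have := (key p).mpr hps
    rwa [hpb] at this
  · intro z hz
    obtain ⟨w, rfl⟩ : ∃ w, (specIso R Ω).inv w = z :=
      ⟨(specIso R Ω).hom z, by rw [← Scheme.Hom.comp_apply, Iso.hom_inv_id]; rfl⟩
    have hz' : (specIso R E).hom (bcMap _ E Ω ((specIso R Ω).inv w)) ∈ B := hz
    exact hsV ((key w).mp hz')

theorem exists_fd_open_Spec (R : CommRingCat.{u}) (g : Spec R ⟶ Spec (CommRingCat.of k))
    (Ω : Type u) [Field Ω] [Algebra k Ω] [Algebra.IsAlgebraic k Ω]
    (V : Set ↥(pullback g (Spec.map (CommRingCat.ofHom (algebraMap k Ω))))) (hV : IsOpen V)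
    (b : ↥(pullback g (Spec.map (CommRingCat.ofHom (algebraMap k Ω))))) (hb : b ∈ V) :
    ∃ E : IntermediateField k Ω, FiniteDimensional k E ∧
      ∃ C' : Set ↥(pullback g (Spec.map (CommRingCat.ofHom (algebraMap k E)))),
        IsOpen C' ∧ b ∈ (bcMap g E Ω) ⁻¹' C' ∧ (bcMap g E Ω) ⁻¹' C' ⊆ V := by
  obtain ⟨φ, rfl⟩ := Spec.map_surjective g
  algebraize [φ.hom]
  exact exists_fd_open_Spec' R Ω V hV b hb

end affine

variable {k : Type u} [Field k] {X : Scheme.{u}} [X.Over (Spec (CommRingCat.of k))]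
  {K : Type u} [Field K] [Algebra k K]

/-- Images of finite level subsets of the base change of an open subscheme are stable. -/
theorem stable_image_bcHom {W : Scheme.{u}} (j : W ⟶ X) [IsOpenImmersion j]
    (E : IntermediateField k K)
    (C' : Set ↥(pullback (j ≫ (X ↘ Spec (CommRingCat.of k)))
      (Spec.map (CommRingCat.ofHom (algebraMap k E))))) :
    Stable k X K E (bcHom j (X ↘ Spec (CommRingCat.of k)) K ''
      ((bcMap (j ≫ (X ↘ Spec (CommRingCat.of k))) E K) ⁻¹' C')) := by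
  have hrange : Set.range (bcHom j (X ↘ Spec (CommRingCat.of k)) K) =
      Curv2.bcFst k X K ⁻¹' Set.range j := range_bcHom j _ K
  rintro σ hσ _ ⟨_, ⟨a', ha', rfl⟩, rfl⟩
  have hmem : Curv2.galAct k X K σ (bcHom j (X ↘ Spec (CommRingCat.of k)) K a') ∈
      Set.range (bcHom j (X ↘ Spec (CommRingCat.of k)) K) := by
    rw [hrange]
    show Curv2.bcFst k X K (Curv2.galAct k X K σ (bcHom j _ K a')) ∈ Set.range j
    rw [galAct_fst_apply]
    have : bcHom j (X ↘ Spec (CommRingCat.of k)) K a' ∈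
        Set.range (bcHom j (X ↘ Spec (CommRingCat.of k)) K) := ⟨a', rfl⟩
    rw [hrange] at this
    exact this
  obtain ⟨a'', ha''⟩ := hmem
  refine ⟨a'', ?_, ha''⟩
  have h2 : bcHom j (X ↘ Spec (CommRingCat.of k)) E
        (bcMap (j ≫ (X ↘ Spec (CommRingCat.of k))) E K a'') =
      bcHom j (X ↘ Spec (CommRingCat.of k)) E
        (bcMap (j ≫ (X ↘ Spec (CommRingCat.of k))) E K a') := by
    rw [← Scheme.Hom.comp_apply, ← Scheme.Hom.comp_apply, ← bcHom_bcMap,
      Scheme.Hom.comp_apply, Scheme.Hom.comp_apply]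
    show q k X K E (bcHom j _ K a'') = q k X K E (bcHom j _ K a')
    rw [ha'', galAct_q_apply k X K E σ hσ]
  have h3 : bcMap (j ≫ (X ↘ Spec (CommRingCat.of k))) E K a'' =
      bcMap (j ≫ (X ↘ Spec (CommRingCat.of k))) E K a' :=
    (bcHom j (X ↘ Spec (CommRingCat.of k)) E).isOpenEmbedding.injective h2
  rw [Set.mem_preimage, h3]
  exact ha'

/-- Finite level open subsets form a basis of the topology of `X_K`. -/
theorem exists_stable_open_nhds [Algebra.IsAlgebraic k K] (V : Set ↥(Curv2.bc k X K))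
    (hV : IsOpen V) (b : ↥(Curv2.bc k X K)) (hb : b ∈ V) :
    ∃ E : IntermediateField k K, FiniteDimensional k E ∧ ∃ N : Set ↥(Curv2.bc k X K),
      IsOpen N ∧ b ∈ N ∧ N ⊆ V ∧ Stable k X K E N := by
  set f := X ↘ Spec (CommRingCat.of k) with hf
  let p := Curv2.bcFst k X K
  let 𝒰 := X.affineCover
  let i := 𝒰.idx (p b)
  let j := 𝒰.f i
  let β := bcHom j f K
  have hrange : Set.range β = p ⁻¹' Set.range j := range_bcHom j f K
  have hbr : b ∈ Set.range β := by
    rw [hrange]; exact 𝒰.covers (p b)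
  obtain ⟨b', hb'⟩ := hbr
  obtain ⟨E, hE, C', hC', hbC', hsub⟩ := exists_fd_open_Spec _ (j ≫ f) K (β ⁻¹' V)
    (hV.preimage β.continuous) b' (by show β b' ∈ V; rw [hb']; exact hb)
  refine ⟨E, hE, β '' ((bcMap (j ≫ f) E K) ⁻¹' C'),
    β.isOpenEmbedding.isOpenMap _ (hC'.preimage (bcMap (j ≫ f) E K).continuous),
    ⟨b', hbC', hb'⟩, ?_, stable_image_bcHom j E C'⟩
  rintro _ ⟨a', ha', rfl⟩
  exact hsub ha'

theorem exists_fd_sup {α : Type*} (t : Set α) (ht : t.Finite) (E : α → IntermediateField k K)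
    (hE : ∀ b ∈ t, FiniteDimensional k (E b)) :
    ∃ E₀ : IntermediateField k K, FiniteDimensional k E₀ ∧ ∀ b ∈ t, E b ≤ E₀ := by
  induction t, ht using Set.Finite.induction_on with
  | empty => exact ⟨⊥, inferInstance, fun _ h => h.elim⟩
  | @insert a t' _ _ ih =>
    obtain ⟨E₁, hE₁, hle⟩ := ih (fun b hb => hE b (Set.mem_insert_of_mem _ hb))
    haveI := hE a (Set.mem_insert _ _)
    refine ⟨E a ⊔ E₁, IntermediateField.finiteDimensional_sup _ _, ?_⟩
    rintro b (rfl | hb)
    · exact le_sup_left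
    · exact (hle b hb).trans le_sup_right

/-- S7621: quasi-compact opens of `X_K` are stabilised by an open subgroup. -/
theorem exists_stable_of_isCompact [Algebra.IsAlgebraic k K] (V : Set ↥(Curv2.bc k X K))
    (hV : IsOpen V) (hVc : IsCompact V) :
    ∃ E : IntermediateField k K, FiniteDimensional k E ∧ Stable k X K E V := by
  choose! E hE N hNo hbN hNV hNs using fun b (hb : b ∈ V) => exists_stable_open_nhds V hV b hb
  obtain ⟨t, htV, htfin, hcov⟩ := hVc.elim_finite_subcover_image (b := V) (c := N)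
    (fun b hb => hNo b hb) (fun b hb => Set.mem_biUnion hb (hbN b hb))
  obtain ⟨E₀, hE₀, hle⟩ := exists_fd_sup t htfin E (fun b hb => hE b (htV hb))
  refine ⟨E₀, hE₀, ?_⟩
  rintro σ hσ _ ⟨v, hv, rfl⟩
  obtain ⟨b, hbt, hvb⟩ := Set.mem_iUnion₂.mp (hcov hv)
  exact hNV b (htV hbt) (((hNs b (htV hbt)).mono (hle b hbt)).mem_of_mem hσ hvb)

end Groth.Agent.Helper4.FinLevelOpen
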