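import Mathlib

set_option autoImplicit false
universe u
open CategoryTheory CategoryTheory.Limits AlgebraicGeometry

namespace Groth.Agent.Helper4.FlatIrrConn

section top
variable {Z X P : Type*} [TopologicalSpace Z] [TopologicalSpace X] [TopologicalSpace P]

/-- If a generalizing map to an irreducible quasi-sober space has finite generic fibre, the source
has finitely many irreducible components. -/
theorem finite_irreducibleComponents_of_generalizing [QuasiSober Z] [QuasiSober X]
    [IrreducibleSpace X] (g : Z → X) (hgen : GeneralizingMap g)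
    (hfin : (g ⁻¹' {genericPoint X}).Finite) : (irreducibleComponents Z).Finite := by
  refine (hfin.image (fun ζ => closure {ζ})).subset ?_
  intro T hT
  obtain ⟨ζ, hζ⟩ := QuasiSober.sober hT.1 (isClosed_of_mem_irreducibleComponents T hT)
  have h1 : genericPoint X ⤳ g ζ := genericPoint_specializes _
  obtain ⟨ζ', hζ', hg⟩ := hgen h1
  refine ⟨ζ', hg, ?_⟩
  have h2 : T ⊆ closure {ζ'} := by
    rw [← hζ.def]
    exact closure_minimal (Set.singleton_subset_iff.mpr (specializes_iff_mem_closure.mp hζ'))
      isClosed_closure
  exact Set.Subset.antisymm (hT.2 isIrreducible_singleton.closure h2) h2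

/-- A generalizing surjection with preconnected fibres onto a connected quasi-sober space with
finitely many irreducible components has connected source. -/
theorem connectedSpace_of_generalizing [QuasiSober Z] [ConnectedSpace Z]
    (hZfin : (irreducibleComponents Z).Finite) (q : P → Z) (hq : Continuous q)
    (hgen : GeneralizingMap q) (hsurj : Function.Surjective q)
    (hfib : ∀ z, IsPreconnected (q ⁻¹' {z})) : ConnectedSpace P := by
  have key : ∀ U : Set P, IsClopen U → IsClosed (q '' U) := by
    intro U hU
    have hgenU : StableUnderGeneralization (q '' U) :=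
      hgen.stableUnderGeneralization_image hU.2.stableUnderGeneralization
    have hgenV : StableUnderGeneralization (q '' Uᶜ) :=
      hgen.stableUnderGeneralization_image hU.compl.2.stableUnderGeneralization
    have hdisj : ∀ z, z ∈ q '' U → z ∈ q '' Uᶜ → False := by
      rintro z ⟨u, hu, rfl⟩ ⟨v, hv, hvz⟩
      have := (hfib (q u)).subset_isClopen hU ⟨u, rfl, hu⟩
      exact hv (this hvz)
    have hspec : StableUnderSpecialization (q '' U) := by
      intro z z' hzz' hz
      obtain ⟨p, rfl⟩ := hsurj z'
      by_cases hp : p ∈ U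
      · exact ⟨p, hp, rfl⟩
      · exact (hdisj z hz (hgenV hzz' ⟨p, hp, rfl⟩)).elim
    have heq : q '' U = ⋃₀ {T | T ∈ irreducibleComponents Z ∧ (T ∩ q '' U).Nonempty} := by
      apply Set.Subset.antisymm
      · intro z hz
        exact ⟨irreducibleComponent z, ⟨irreducibleComponent_mem_irreducibleComponents z,
          ⟨z, mem_irreducibleComponent, hz⟩⟩, mem_irreducibleComponent⟩
      · rintro z ⟨T, ⟨hT, ⟨t, htT, htU⟩⟩, hzT⟩
        obtain ⟨ζ, hζ⟩ := QuasiSober.sober hT.1 (isClosed_of_mem_irreducibleComponents T hT)
        have h1 : ζ ⤳ t := by rw [specializes_iff_mem_closure, hζ.def]; exact htT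
        have h2 : ζ ⤳ z := by rw [specializes_iff_mem_closure, hζ.def]; exact hzT
        exact hspec h2 (hgenU h1 htU)
    rw [heq, Set.sUnion_eq_biUnion]
    exact (hZfin.subset (fun T hT => hT.1)).isClosed_biUnion
      (fun T hT => isClosed_of_mem_irreducibleComponents T hT.1)
  rw [connectedSpace_iff_clopen]
  refine ⟨?_, fun U hU => ?_⟩
  · obtain ⟨z⟩ := (inferInstance : Nonempty Z)
    obtain ⟨p, -⟩ := hsurj z
    exact ⟨p⟩
  · have h1 : IsClosed (q '' U) := key U hU
    have h2 : IsClosed (q '' Uᶜ) := key Uᶜ hU.compl
    have hcompl : (q '' U)ᶜ = q '' Uᶜ := by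
      ext z
      constructor
      · intro hz
        obtain ⟨p, rfl⟩ := hsurj z
        exact ⟨p, fun hp => hz ⟨p, hp, rfl⟩, rfl⟩
      · rintro ⟨v, hv, rfl⟩ ⟨u, hu, huv⟩
        have := (hfib (q u)).subset_isClopen hU ⟨u, rfl, hu⟩
        exact hv (this huv.symm)
    have hclopen : IsClopen (q '' U) := ⟨h1, by rw [← isClosed_compl_iff, hcompl]; exact h2⟩
    rcases isClopen_iff.mp hclopen with h | h
    · left
      rw [Set.image_eq_empty] at h
      exact h
    · right
      rw [Set.eq_univ_iff_forall]
      intro p
      by_contra hp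
      have : q p ∈ q '' Uᶜ := ⟨p, hp, rfl⟩
      rw [← hcompl, h] at this
      exact this trivial

end top

end Groth.Agent.Helper4.FlatIrrConn
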