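import Mathlib

/-! Flatness of `B_q` over `A` when `Q(A) ⊗ B` is flat over `Q(A)` and `q` misses the
nonzerodivisors of `A`. -/

namespace Groth.Agent.Helper4.FracFlat

open TensorProduct

attribute [local instance] Algebra.TensorProduct.rightAlgebra

theorem flat_atPrime {A B : Type*} [CommRing A] [CommRing B] [Algebra A B]
    (h2 : Module.Flat (FractionRing A) (FractionRing A ⊗[A] B))
    (q : Ideal B) [q.IsPrime]
    (hq : ∀ s ∈ nonZeroDivisors A, algebraMap A B s ∉ q) :
    Module.Flat A (Localization.AtPrime q) := by
  let T := FractionRing A ⊗[A] B
  let M' : Submonoid B := Algebra.algebraMapSubmonoid B (nonZeroDivisors A)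
  haveI : IsLocalization M' T := IsLocalization.tensorRight (FractionRing A) (nonZeroDivisors A)
  have hle : M' ≤ q.primeCompl := by
    rintro _ ⟨s, hs, rfl⟩
    exact hq s hs
  have hunits : ∀ y : M', IsUnit (algebraMap B (Localization.AtPrime q) y) := fun y =>
    IsLocalization.map_units (Localization.AtPrime q) (⟨y.1, hle y.2⟩ : q.primeCompl)
  letI : Algebra T (Localization.AtPrime q) :=
    (IsLocalization.lift (M := M') (S := T) (g := algebraMap B (Localization.AtPrime q)) hunits).toAlgebra
  haveI : IsScalarTower B T (Localization.AtPrime q) :=
    IsScalarTower.of_algebraMap_eq fun x => (IsLocalization.lift_eq hunits x).symm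
  haveI : IsLocalization (q.primeCompl.map (algebraMap B T)) (Localization.AtPrime q) :=
    IsLocalization.isLocalization_of_submonoid_le T (Localization.AtPrime q) M' q.primeCompl hle
  haveI : Module.Flat T (Localization.AtPrime q) :=
    IsLocalization.flat _ (q.primeCompl.map (algebraMap B T))
  haveI : IsScalarTower A B T := IsScalarTower.of_algebraMap_eq fun a => by
    rw [Algebra.TensorProduct.algebraMap_apply, Algebra.TensorProduct.right_algebraMap_apply,
      Algebra.algebraMap_eq_smul_one (A := B), TensorProduct.tmul_smul,
      Algebra.algebraMap_eq_smul_one (A := FractionRing A), TensorProduct.smul_tmul']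
  haveI : IsScalarTower A T (Localization.AtPrime q) := IsScalarTower.of_algebraMap_eq fun a => by
    change algebraMap A (Localization.AtPrime q) a = algebraMap T (Localization.AtPrime q) (algebraMap A T a)
    rw [IsScalarTower.algebraMap_apply A B T, ← IsScalarTower.algebraMap_apply B T (Localization.AtPrime q),
      ← IsScalarTower.algebraMap_apply A B (Localization.AtPrime q)]
  haveI : Module.Flat A T := Module.Flat.trans A (FractionRing A) T
  exact Module.Flat.trans A T (Localization.AtPrime q)

end Groth.Agent.Helper4.FracFlat
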