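import Mathlib

/-! Converse: going-up + flatness at primes over associated primes ⇒ `Q(A) ⊗ B` flat over `Q(A)`. -/

namespace Groth.Agent.Helper4.FracFlat2

open TensorProduct

attribute [local instance] Algebra.TensorProduct.rightAlgebra

lemma flat_of_isLocalization_le {A B : Type*} [CommRing A] [CommRing B] [Algebra A B]
    (M N : Submonoid B) (h : M ≤ N) (T U : Type*) [CommRing T] [CommRing U]
    [Algebra B T] [Algebra B U] [IsLocalization M T] [IsLocalization N U]
    [Algebra A T] [IsScalarTower A B T] [Algebra A U] [IsScalarTower A B U]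
    [Module.Flat A T] : Module.Flat A U := by
  have hunits : ∀ y : M, IsUnit (algebraMap B U y) := fun y =>
    IsLocalization.map_units U (⟨y.1, h y.2⟩ : N)
  letI : Algebra T U :=
    (IsLocalization.lift (M := M) (S := T) (g := algebraMap B U) hunits).toAlgebra
  haveI : IsScalarTower B T U :=
    IsScalarTower.of_algebraMap_eq fun x => (IsLocalization.lift_eq hunits x).symm
  haveI : IsLocalization (N.map (algebraMap B T)) U :=
    IsLocalization.isLocalization_of_submonoid_le T U M N h
  haveI : Module.Flat T U := IsLocalization.flat _ (N.map (algebraMap B T))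
  haveI : IsScalarTower A T U := IsScalarTower.of_algebraMap_eq fun a => by
    change algebraMap A U a = algebraMap T U (algebraMap A T a)
    rw [IsScalarTower.algebraMap_apply A B T, ← IsScalarTower.algebraMap_apply B T U,
      ← IsScalarTower.algebraMap_apply A B U]
  exact Module.Flat.trans A T U

theorem main (A B : Type*) [CommRing A] [CommRing B] [IsNoetherianRing A] [Algebra A B]
    [Algebra.HasGoingUp A B]
    (h4 : ∀ (q : Ideal B) [q.IsPrime], IsAssociatedPrime (q.comap (algebraMap A B)) A →
      Module.Flat A (Localization.AtPrime q)) :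
    Module.Flat (FractionRing A) (FractionRing A ⊗[A] B) := by
  classical
  let T := FractionRing A ⊗[A] B
  rw [Module.flat_iff_of_isLocalization (FractionRing A) (nonZeroDivisors A) T]
  let M' : Submonoid B := Algebra.algebraMapSubmonoid B (nonZeroDivisors A)
  haveI : IsLocalization M' T := IsLocalization.tensorRight (FractionRing A) (nonZeroDivisors A)
  haveI : IsScalarTower A B T := IsScalarTower.of_algebraMap_eq fun a => by
    rw [Algebra.TensorProduct.algebraMap_apply, Algebra.TensorProduct.right_algebraMap_apply,
      Algebra.algebraMap_eq_smul_one (A := B), TensorProduct.tmul_smul,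
      Algebra.algebraMap_eq_smul_one (A := FractionRing A), TensorProduct.smul_tmul']
  refine Module.flat_of_isLocalized_maximal (R := A) T T (fun P _ => Localization.AtPrime P)
    (fun P _ => Algebra.linearMap T (Localization.AtPrime P)) ?_
  intro P hP
  let q : Ideal B := P.comap (algebraMap B T)
  haveI : q.IsPrime := Ideal.comap_isPrime _ _
  haveI : IsScalarTower B T (Localization.AtPrime P) := inferInstance
  haveI : IsLocalization.AtPrime (Localization.AtPrime P) q :=
    IsLocalization.isLocalization_isLocalization_atPrime_isLocalization M' (Localization.AtPrime P) P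
  have hdisj : ∀ s ∈ nonZeroDivisors A, algebraMap A B s ∉ q := by
    intro s hs hsq
    have hu : IsUnit (algebraMap B T (algebraMap A B s)) :=
      IsLocalization.map_units T (⟨_, s, hs, rfl⟩ : M')
    exact hP.ne_top (Ideal.eq_top_of_isUnit_mem _ hsq hu)
  let p : Ideal A := q.comap (algebraMap A B)
  haveI : p.IsPrime := Ideal.comap_isPrime _ _
  have hfin := associatedPrimes.finite A A
  have hp : (p : Set A) ⊆ ⋃ p' ∈ (hfin.toFinset : Set (Ideal A)), ((id p' : Ideal A) : Set A) := by
    have := biUnion_associatedPrimes_eq_compl_nonZeroDivisors A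
    simp only [Set.Finite.coe_toFinset, id]
    rw [this]
    intro s hs hs'
    exact hdisj s hs' hs
  obtain ⟨p', hp', hpp'⟩ := (Ideal.subset_union_prime (s := hfin.toFinset) (f := id) p p
    (fun i hi _ _ => (hfin.mem_toFinset.mp hi).isPrime)).mp hp
  rw [Set.Finite.mem_toFinset] at hp'
  haveI : p'.IsPrime := hp'.isPrime
  haveI : q.LiesOver p := ⟨rfl⟩
  obtain ⟨Q, hqQ, hQprime, hQ⟩ := Ideal.exists_ideal_ge_liesOver_of_le (p := p) (q := p') q hpp'
  haveI := hQprime
  have hQass : IsAssociatedPrime (Q.comap (algebraMap A B)) A := by
    have : p' = Q.comap (algebraMap A B) := hQ.over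
    rw [← this]; exact hp'
  haveI : Module.Flat A (Localization.AtPrime Q) := h4 Q hQass
  haveI : IsScalarTower A B (Localization.AtPrime P) := IsScalarTower.of_algebraMap_eq fun a => by
    rw [IsScalarTower.algebraMap_apply A T (Localization.AtPrime P),
      IsScalarTower.algebraMap_apply A B T, ← IsScalarTower.algebraMap_apply B T (Localization.AtPrime P)]
  exact flat_of_isLocalization_le (A := A) Q.primeCompl q.primeCompl
    (fun x hx hxq => hx (hqQ hxq)) (Localization.AtPrime Q) (Localization.AtPrime P)

end Groth.Agent.Helper4.FracFlat2
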