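import Groth.Agent.Helper4.FreeLawC
import Groth.Agent.Helper4.FreeGamma

/-!
# For a free algebra, every multiplicative law (arbitrary target) factors through the values of the
tensor power law (helper4; generalisation of `FreeGamma`)
-/

set_option autoImplicit false
universe u
open scoped TensorProduct

namespace Groth.Agent.Helper4.FreeGammaC

open Groth.Agent.Helper4.GammaSpan Groth.Agent.Helper4.PolLaw1 Groth.Agent.Helper4.FreeLaw
  Groth.Agent.Helper4.FreeLawC Groth.Agent.Helper4.PolarTS

variable {A : Type u} [CommRing A] {B : Type u} [CommRing B] [Algebra A B]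
  {Ct : Type u} [CommRing Ct] [Algebra A Ct]
  {I : Type u} (e : Module.Basis I A B) {d : ℕ} (F : PolLaw.MulLaw A B Ct d)

theorem g_ev (S : Type u) [CommRing S] [Algebra A S] (ℓ : S →ₗ[A] A) (x : S ⊗[A] B) :
    g e F.law d (ev ℓ ((SymTen.tpowLaw A B d).law.toFun' S x)) = ev ℓ (F.law.toFun' S x) := by
  rw [← ev_lTensor, g_tpow e F.law d F.homog]

theorem g_one : g e F.law d 1 = 1 := by
  have h1 : (1 : ⨂[A] _ : Fin d, B) = ev (LinearMap.id : A →ₗ[A] A)
      ((SymTen.tpowLaw A B d).law.toFun' A 1) := by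
    rw [((SymTen.tpowLaw A B d).mult A).1, Algebra.TensorProduct.one_def, ev_tmul]
    simp
  rw [h1, g_ev, (F.mult A).1, Algebra.TensorProduct.one_def, ev_tmul]
  simp

theorem g_mul_GenSet {c c' : ⨂[A] _ : Fin d, B} (hc : c ∈ GenSet (SymTen.tpowLaw A B d).law)
    (hc' : c' ∈ GenSet (SymTen.tpowLaw A B d).law) :
    g e F.law d (c * c') = g e F.law d c * g e F.law d c' := by
  obtain ⟨S, _, _, ℓ, x, rfl⟩ := hc
  obtain ⟨S', _, _, ℓ', x', rfl⟩ := hc'
  have h1 : ev ℓ ((SymTen.tpowLaw A B d).law.toFun' S x) *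
      ev ℓ' ((SymTen.tpowLaw A B d).law.toFun' S' x') =
      ev (ℓ₂ ℓ ℓ') ((SymTen.tpowLaw A B d).law.toFun' (S ⊗[A] S')
        (Algebra.TensorProduct.map (Algebra.TensorProduct.includeLeft : S →ₐ[A] S ⊗[A] S')
          (AlgHom.id A B) x *
        Algebra.TensorProduct.map (Algebra.TensorProduct.includeRight : S' →ₐ[A] S ⊗[A] S')
          (AlgHom.id A B) x')) := by
    rw [((SymTen.tpowLaw A B d).mult _).2, compat, compat, ev_mul]
  rw [h1, g_ev, g_ev, g_ev, (F.mult _).2, compat, compat, ev_mul]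

theorem g_mul_span {c c' : ⨂[A] _ : Fin d, B}
    (hc : c ∈ Submodule.span A (GenSet (SymTen.tpowLaw A B d).law))
    (hc' : c' ∈ Submodule.span A (GenSet (SymTen.tpowLaw A B d).law)) :
    g e F.law d (c * c') = g e F.law d c * g e F.law d c' := by
  induction hc using Submodule.span_induction with
  | zero => simp
  | add x y _ _ hx hy => rw [add_mul, map_add, hx, hy, map_add, add_mul]
  | smul a x _ hx => rw [smul_mul_assoc, map_smul, hx, map_smul, smul_mul_assoc]
  | mem x hx =>
    induction hc' using Submodule.span_induction with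
    | zero => simp
    | add y z _ _ hy hz => rw [mul_add, map_add, hy, hz, map_add, mul_add]
    | smul a y _ hy => rw [mul_smul_comm, map_smul, hy, map_smul, mul_smul_comm]
    | mem y hy => exact g_mul_GenSet e F hx hy

/-- powers -/
theorem g_pow_span {c : ⨂[A] _ : Fin d, B}
    (hc : c ∈ Submodule.span A (GenSet (SymTen.tpowLaw A B d).law)) (n : ℕ) :
    g e F.law d (c ^ n) = g e F.law d c ^ n := by
  induction n with
  | zero => rw [pow_zero, pow_zero, g_one]
  | succ n ih =>
    have hcn : c ^ n ∈ Submodule.span A (GenSet (SymTen.tpowLaw A B d).law) := by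
      have : (⟨c, hc⟩ : Cgen (SymTen.tpowLaw A B d)) ^ n ∈ (⊤ : Subalgebra A (Cgen (SymTen.tpowLaw A B d))) :=
        trivial
      exact ((⟨c, hc⟩ : Cgen (SymTen.tpowLaw A B d)) ^ n).2
    rw [pow_succ, pow_succ, g_mul_span e F hcn hc, ih]

end Groth.Agent.Helper4.FreeGammaC
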