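import Mathlib

/-!
# Coefficients under killing / scaling substitutions (helper4)
-/

set_option autoImplicit false
open MvPolynomial

namespace Groth.Agent.Helper4.PolarCoeff

section kill

variable {σ : Type*} [DecidableEq σ] {R : Type*} [CommSemiring R]

/-- kill the variable `k` -/
noncomputable def kill (k : σ) : MvPolynomial σ R →ₐ[R] MvPolynomial σ R :=
  aeval (fun i => if i = k then 0 else X i)

theorem kill_X_self (k : σ) : kill (R := R) k (X k) = 0 := by simp [kill]

theorem kill_X_ne (k : σ) {i : σ} (h : i ≠ k) : kill (R := R) k (X i) = X i := by simp [kill, h]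

theorem kill_C (k : σ) (a : R) : kill (R := R) k (C a) = C a := by simp [kill]

theorem kill_monomial (k : σ) (n : σ →₀ ℕ) (a : R) :
    kill k (monomial n a) = if n k = 0 then monomial n a else 0 := by
  rw [kill, aeval_monomial]
  split_ifs with h
  · rw [monomial_eq]
    congr 1
    refine Finsupp.prod_congr fun i hi => ?_
    have : i ≠ k := by
      rintro rfl
      exact (Finsupp.mem_support_iff.1 hi) h
    rw [if_neg this]
  · have hk : k ∈ n.support := Finsupp.mem_support_iff.2 h
    rw [Finsupp.prod, Finset.prod_eq_zero hk, mul_zero]
    rw [if_pos rfl, zero_pow h]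

theorem coeff_kill (k : σ) (m : σ →₀ ℕ) (q : MvPolynomial σ R) :
    coeff m (kill k q) = if m k = 0 then coeff m q else 0 := by
  induction q using MvPolynomial.induction_on' with
  | monomial n a =>
    rw [kill_monomial]
    by_cases hn : n k = 0
    · rw [if_pos hn, coeff_monomial]
      by_cases hnm : n = m
      · subst hnm; rw [if_pos rfl, if_pos hn]
      · rw [if_neg hnm]; split_ifs <;> rfl
    · rw [if_neg hn, coeff_zero, coeff_monomial]
      by_cases hnm : n = m
      · subst hnm; rw [if_neg hn]
      · rw [if_neg hnm]; split_ifs <;> rfl
  | add p q hp hq =>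
    rw [map_add, coeff_add, coeff_add, hp, hq]
    split_ifs <;> simp

/-- the functional identity behind additivity of polarisation in one slot -/
theorem coeff_eval_split (k : σ) (m : σ →₀ ℕ) (hm : m k = 1)
    (p : Polynomial (MvPolynomial σ R)) :
    coeff m (p.eval (X k)) =
      coeff m (p.eval 0) + coeff m ((p.map (kill (R := R) k).toRingHom).eval (X k)) := by
  induction p using Polynomial.induction_on' with
  | add p q hp hq =>
    rw [Polynomial.eval_add, Polynomial.eval_add, Polynomial.map_add, Polynomial.eval_add,
      coeff_add, coeff_add, coeff_add, hp, hq]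
    ring
  | monomial a q =>
    rw [Polynomial.eval_monomial, Polynomial.eval_monomial, Polynomial.map_monomial,
      Polynomial.eval_monomial]
    rcases Nat.eq_zero_or_pos a with rfl | ha
    · simp only [pow_zero, mul_one]
      have : coeff m ((kill (R := R) k).toRingHom q) = 0 := by
        show coeff m (kill k q) = 0
        rw [coeff_kill, if_neg (by omega)]
      rw [this, add_zero]
    · rw [zero_pow (by omega), mul_zero, coeff_zero, zero_add, X_pow_eq_monomial,
        coeff_mul_monomial', coeff_mul_monomial']
      by_cases hle : Finsupp.single k a ≤ m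
      · rw [if_pos hle, if_pos hle]
        have ha1 : a = 1 := by
          have := hle k
          rw [Finsupp.single_eq_same] at this
          omega
        subst ha1
        show _ = coeff _ (kill k q) * 1
        rw [coeff_kill, if_pos]
        rw [Finsupp.tsub_apply, Finsupp.single_eq_same, hm]
      · rw [if_neg hle, if_neg hle]

end kill

section scale

variable {τ : Type*} {A S : Type*} [CommSemiring A] [CommSemiring S] [Algebra A S]

/-- scale the variables -/
noncomputable def scale (s : τ → S) : MvPolynomial τ A →ₐ[A] MvPolynomial τ S :=
  aeval (fun i => C (s i) * X i)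

theorem scale_monomial (s : τ → S) (n : τ →₀ ℕ) (a : A) :
    scale s (monomial n a) = monomial n (algebraMap A S a * n.prod fun i e => s i ^ e) := by
  rw [scale, aeval_monomial, monomial_eq (a := algebraMap A S a * _), C_mul, mul_assoc]
  congr 1
  simp only [mul_pow, Finsupp.prod_mul, ← C_pow]
  congr 1
  rw [Finsupp.prod, Finsupp.prod, map_prod]

theorem coeff_scale (s : τ → S) (m : τ →₀ ℕ) (p : MvPolynomial τ A) :
    coeff m (scale s p) = (m.prod fun i e => s i ^ e) * algebraMap A S (coeff m p) := by
  classical
  induction p using MvPolynomial.induction_on' with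
  | monomial n a =>
    rw [scale_monomial, coeff_monomial, coeff_monomial]
    by_cases hnm : n = m
    · subst hnm; rw [if_pos rfl, if_pos rfl, mul_comm]
    · rw [if_neg hnm, if_neg hnm, map_zero, mul_zero]
  | add p q hp hq =>
    rw [map_add, coeff_add, coeff_add, hp, hq, map_add, mul_add]

end scale

end Groth.Agent.Helper4.PolarCoeff
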