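import Groth.Agent.Helper4.GammaSpan
import Groth.Agent.Helper4.PolarCoeff

/-!
# Homogeneous laws on a free module factor linearly through the tensor power law (helper4)
-/

set_option autoImplicit false
universe u
open scoped TensorProduct
open MvPolynomial

namespace Groth.Agent.Helper4.FreeLaw

section killOut

variable {σ : Type*} {R : Type*} [CommSemiring R]

open Classical in
/-- kill the variables outside `J` -/
noncomputable def killOut (J : Finset σ) : MvPolynomial σ R →ₐ[R] MvPolynomial σ R :=
  aeval (fun i => if i ∈ J then X i else 0)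

open Classical in
theorem killOut_X (J : Finset σ) (i : σ) :
    killOut (R := R) J (X i) = if i ∈ J then X i else 0 := by
  simp [killOut]

open Classical in
theorem killOut_monomial (J : Finset σ) (n : σ →₀ ℕ) (a : R) :
    killOut J (monomial n a) = if n.support ⊆ J then monomial n a else 0 := by
  rw [killOut, aeval_monomial]
  split_ifs with h
  · rw [monomial_eq]
    congr 1
    refine Finset.prod_congr rfl fun i hi => ?_
    simp only [if_pos (h hi)]
  · rw [Finset.not_subset] at h
    obtain ⟨i, hi, hiJ⟩ := h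
    rw [Finsupp.prod, Finset.prod_eq_zero hi, mul_zero]
    rw [if_neg hiJ, zero_pow (Finsupp.mem_support_iff.1 hi)]

open Classical in
theorem coeff_killOut (J : Finset σ) (ν : σ →₀ ℕ) (p : MvPolynomial σ R) :
    coeff ν (killOut J p) = if ν.support ⊆ J then coeff ν p else 0 := by
  induction p using MvPolynomial.induction_on' with
  | monomial n a =>
    rw [killOut_monomial]
    by_cases hn : n = ν
    · subst hn
      split_ifs <;> simp
    · split_ifs <;> simp [coeff_monomial, hn]
  | add p q hp hq =>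
    rw [map_add, coeff_add, hp, hq, coeff_add]
    split_ifs <;> simp

end killOut

section cfI

open Groth.Agent.Helper4.GammaSpan Groth.Agent.Helper4.PolarCoeff

variable {A : Type u} [CommRing A] {C : Type u} [AddCommGroup C] [Module A C]
  {I : Type u}

open Classical in
theorem cf_map_killOut (J : Finset I) (ν : I →₀ ℕ) (w : MvPolynomial I A ⊗[A] C) :
    cf ν ((killOut (R := A) J).toLinearMap.rTensor C w) =
      if ν.support ⊆ J then cf ν w else 0 := by
  induction w using TensorProduct.induction_on with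
  | zero => simp
  | tmul p c =>
    rw [LinearMap.rTensor_tmul, cf_tmul, cf_tmul, AlgHom.toLinearMap_apply, coeff_killOut]
    split_ifs <;> simp
  | add x y hx hy =>
    rw [map_add, map_add, hx, hy, map_add]
    split_ifs <;> simp

variable (S : Type u) [CommRing S] [Algebra A S]

/-- `S`-coefficient extraction `S[X_i] ⊗ C → S ⊗ C` -/
noncomputable def cfI (m : I →₀ ℕ) : MvPolynomial I S ⊗[A] C →ₗ[A] S ⊗[A] C :=
  ((MvPolynomial.lcoeff S m).restrictScalars A).rTensor C

@[simp] theorem cfI_tmul (m : I →₀ ℕ) (p : MvPolynomial I S) (c : C) :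
    cfI (A := A) S m (p ⊗ₜ[A] c) = (coeff m p) ⊗ₜ[A] c := rfl

theorem cfI_scale (σ : I → S) (m : I →₀ ℕ) (w : MvPolynomial I A ⊗[A] C) :
    cfI S m ((scale (A := A) σ).toLinearMap.rTensor C w) =
      (m.prod fun i k => σ i ^ k) ⊗ₜ[A] cf m w := by
  induction w using TensorProduct.induction_on with
  | zero => simp
  | tmul p c =>
    rw [LinearMap.rTensor_tmul, cfI_tmul, AlgHom.toLinearMap_apply, coeff_scale, cf_tmul,
      Algebra.algebraMap_eq_smul_one, mul_smul_comm, mul_one, TensorProduct.smul_tmul]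
  | add g₁ g₂ h₁ h₂ => rw [map_add, map_add, h₁, h₂, map_add, TensorProduct.tmul_add]

theorem cfI_C_smul (s : S) (m : I →₀ ℕ) (w : MvPolynomial I S ⊗[A] C) :
    cfI (A := A) S m ((MvPolynomial.C s : MvPolynomial I S) • w) = s • cfI S m w := by
  induction w using TensorProduct.induction_on with
  | zero => simp
  | tmul p c =>
    rw [TensorProduct.smul_tmul', cfI_tmul, cfI_tmul, smul_eq_mul, coeff_C_mul,
      TensorProduct.smul_tmul', smul_eq_mul]
  | add g₁ g₂ h₁ h₂ => rw [smul_add, map_add, map_add, h₁, h₂, smul_add]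

end cfI

section law

open Groth.Agent.Helper4.GammaSpan Groth.Agent.Helper4.PolarCoeff Groth.Agent.Helper4.PolLaw1

variable {A : Type u} [CommRing A] {B : Type u} [CommRing B] [Algebra A B]
  {I : Type u} (e : I → B) (F : B →ₚₗ[A] A)

/-- the combination `∑ i ∈ J, s i ⊗ e i` -/
noncomputable def genJ (S : Type u) [CommSemiring S] [Algebra A S] (J : Finset I) (s : I → S) :
    S ⊗[A] B := ∑ i ∈ J, s i ⊗ₜ[A] e i

theorem map_genJ {S S' : Type u} [CommSemiring S] [Algebra A S] [CommSemiring S'] [Algebra A S']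
    (ψ : S →ₐ[A] S') (J : Finset I) (s : I → S) :
    ψ.toLinearMap.rTensor B (genJ e S J s) = genJ e S' J (fun i => ψ (s i)) := by
  simp [genJ, map_sum]

theorem genJ_congr (S : Type u) [CommSemiring S] [Algebra A S] (J : Finset I) (s s' : I → S)
    (h : ∀ i ∈ J, s i = s' i) : genJ (A := A) e S J s = genJ e S J s' := by
  unfold genJ
  exact Finset.sum_congr rfl fun i hi => by rw [h i hi]

/-- coefficients of `F` at the generic combination on `J` -/
noncomputable def cJ (J : Finset I) (ν : I →₀ ℕ) : A :=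
  cf ν (F.toFun' (MvPolynomial I A) (genJ e (MvPolynomial I A) J X))

/-- the canonical coefficients of `F` -/
noncomputable def c (ν : I →₀ ℕ) : A := cJ e F ν.support ν

theorem cJ_eq_zero_of_not_subset (J : Finset I) (ν : I →₀ ℕ) (h : ¬ ν.support ⊆ J) :
    cJ e F J ν = 0 := by
  classical
  have h1 : (killOut (R := A) J).toLinearMap.rTensor B (genJ e (MvPolynomial I A) J X) =
      genJ e (MvPolynomial I A) J X := by
    rw [map_genJ]
    apply genJ_congr
    intro i hi
    rw [killOut_X, if_pos hi]
  have h2 := F.isCompat_apply' (killOut (R := A) J) (genJ e (MvPolynomial I A) J X)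
  rw [h1] at h2
  rw [cJ, ← h2, cf_map_killOut, if_neg h]

theorem cJ_eq_c (J : Finset I) (ν : I →₀ ℕ) (h : ν.support ⊆ J) : cJ e F J ν = c e F ν := by
  classical
  have h1 : (killOut (R := A) ν.support).toLinearMap.rTensor B (genJ e (MvPolynomial I A) J X) =
      genJ e (MvPolynomial I A) ν.support X := by
    rw [map_genJ]
    unfold genJ
    rw [← Finset.sum_subset h]
    · refine Finset.sum_congr rfl fun i hi => ?_
      beta_reduce
      rw [killOut_X, if_pos hi]
    · intro i _ hi
      beta_reduce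
      rw [killOut_X, if_neg hi, TensorProduct.zero_tmul]
  have h2 := F.isCompat_apply' (killOut (R := A) ν.support) (genJ e (MvPolynomial I A) J X)
  rw [h1] at h2
  rw [c, cJ, cJ, ← h2, cf_map_killOut, if_pos (Finset.Subset.refl _)]

theorem prod_const_pow {S : Type*} [CommSemiring S] (x : S) (ν : I →₀ ℕ) :
    (ν.prod fun _ k => x ^ k) = x ^ ν.degree := by
  rw [Finsupp.prod, Finset.prod_pow_eq_pow_sum, Finsupp.degree_apply]

theorem cJ_eq_zero_of_degree {d : ℕ} (hF : PolLaw.IsHomog F d) (J : Finset I) (ν : I →₀ ℕ)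
    (h : ν.degree ≠ d) : cJ e F J ν = 0 := by
  classical
  set w := F.toFun' (MvPolynomial I A) (genJ e (MvPolynomial I A) J X) with hw
  have h1 : (scale (A := A) (fun _ : I => (Polynomial.X : Polynomial A))).toLinearMap.rTensor B
      (genJ e (MvPolynomial I A) J X) =
      (C (Polynomial.X : Polynomial A) : MvPolynomial I (Polynomial A)) •
        genJ e (MvPolynomial I (Polynomial A)) J X := by
    rw [map_genJ]
    unfold genJ
    rw [Finset.smul_sum]
    refine Finset.sum_congr rfl fun i _ => ?_
    rw [TensorProduct.smul_tmul', smul_eq_mul]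
    simp [scale]
  have h0 : (scale (A := A) (fun _ : I => (1 : Polynomial A))).toLinearMap.rTensor B
      (genJ e (MvPolynomial I A) J X) = genJ e (MvPolynomial I (Polynomial A)) J X := by
    rw [map_genJ]
    apply genJ_congr
    intro i _
    simp [scale]
  have e1 := F.isCompat_apply' (scale (A := A) (fun _ : I => (Polynomial.X : Polynomial A)))
    (genJ e (MvPolynomial I A) J X)
  have e0 := F.isCompat_apply' (scale (A := A) (fun _ : I => (1 : Polynomial A)))
    (genJ e (MvPolynomial I A) J X)
  rw [h1, hF, ← h0, ← e0, ← hw, ← C_pow] at e1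
  have e2 := congrArg (cfI (A := A) (Polynomial A) ν) e1
  rw [cfI_scale, cfI_C_smul, cfI_scale, prod_const_pow, prod_const_pow, one_pow,
    TensorProduct.smul_tmul', smul_eq_mul, mul_one] at e2
  have e3 := congrArg (ev (Polynomial.lcoeff A ν.degree)) e2
  rw [ev_tmul, ev_tmul, Polynomial.lcoeff_apply, Polynomial.lcoeff_apply, Polynomial.coeff_X_pow,
    Polynomial.coeff_X_pow, if_pos rfl, if_neg h, one_smul, zero_smul] at e3
  exact e3

theorem exists_expansion (J : Finset I) : ∃ t : Finset (I →₀ ℕ), ∀ t' : Finset (I →₀ ℕ), t ⊆ t' →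
    ∀ (S : Type u) [CommSemiring S] [Algebra A S] (s : I → S),
      F.toFun' S (genJ e S J s) = ∑ ν ∈ t', (ν.prod fun i k => s i ^ k) ⊗ₜ[A] cJ e F J ν := by
  obtain ⟨t, ht⟩ := expansion (F.toFun' (MvPolynomial I A) (genJ e (MvPolynomial I A) J X))
  refine ⟨t, fun t' ht' S _ _ s => ?_⟩
  have h1 : genJ e S J s = (aeval s : MvPolynomial I A →ₐ[A] S).toLinearMap.rTensor B
      (genJ e (MvPolynomial I A) J X) := by
    rw [map_genJ]
    apply genJ_congr
    intro i _
    simp
  rw [h1, ← F.isCompat_apply']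
  conv_lhs => rw [ht t' ht']
  rw [map_sum]
  refine Finset.sum_congr rfl fun ν _ => ?_
  rw [LinearMap.rTensor_tmul, AlgHom.toLinearMap_apply, aeval_monomial, map_one, one_mul]
  rfl

end law

section tuples

variable {I : Type u} {d : ℕ}

/-- the multi-index of a tuple -/
noncomputable def nu (p : Fin d → I) : I →₀ ℕ := ∑ k, Finsupp.single (p k) 1

theorem degree_nu (p : Fin d → I) : (nu p).degree = d := by
  simp [nu, map_sum, Finsupp.degree_single]

theorem prod_nu {S : Type*} [CommSemiring S] (s : I → S) (p : Fin d → I) :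
    ((nu p).prod fun i k => s i ^ k) = ∏ k, s (p k) := by
  rw [nu, ← Finsupp.prod_finset_sum_index (fun a => pow_zero _) (fun a b₁ b₂ => pow_add _ _ _)]
  refine Finset.prod_congr rfl fun k _ => ?_
  rw [Finsupp.prod_single_index (h := fun i k => s i ^ k) (pow_zero _), pow_one]

theorem mem_support_nu (p : Fin d → I) (i : I) : i ∈ (nu p).support ↔ ∃ k, p k = i := by
  classical
  rw [Finsupp.mem_support_iff, nu, Finsupp.finsetSum_apply]
  simp only [Finsupp.single_apply]
  constructor
  · intro h
    by_contra hne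
    have hne' : ∀ k, p k ≠ i := fun k hk => hne ⟨k, hk⟩
    exact h (Finset.sum_eq_zero fun k _ => by rw [if_neg (hne' k)])
  · rintro ⟨k, rfl⟩ h
    have := (Finset.sum_eq_zero_iff.1 h) k (Finset.mem_univ k)
    simp at this

theorem exists_tuple : ∀ (d : ℕ) (ν : I →₀ ℕ), ν.degree = d → ∃ p : Fin d → I, nu p = ν := by
  classical
  intro d
  induction d with
  | zero =>
    intro ν h
    refine ⟨Fin.elim0, ?_⟩
    rw [Finsupp.degree_eq_zero_iff] at h
    simp [nu, h]
  | succ d ih =>
    intro ν h
    have hne : ν ≠ 0 := by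
      rintro rfl
      simp at h
    obtain ⟨i, hi⟩ := Finsupp.support_nonempty_iff.2 hne
    have hi1 : 1 ≤ ν i := Nat.one_le_iff_ne_zero.2 (Finsupp.mem_support_iff.1 hi)
    have hle : Finsupp.single i 1 ≤ ν := by
      rw [Finsupp.single_le_iff]
      exact hi1
    have hν : ν = Finsupp.single i 1 + (ν - Finsupp.single i 1) := (add_tsub_cancel_of_le hle).symm
    have hdeg : (ν - Finsupp.single i 1).degree = d := by
      have := congrArg Finsupp.degree hν
      rw [map_add, Finsupp.degree_single, h] at this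
      omega
    obtain ⟨p', hp'⟩ := ih _ hdeg
    refine ⟨Fin.cons i p', ?_⟩
    rw [nu, Fin.sum_univ_succ, Fin.cons_zero]
    simp only [Fin.cons_succ]
    rw [hν]
    congr 1

/-- a chosen tuple with given multi-index -/
noncomputable def repOf (ν : I →₀ ℕ) (h : ∃ q : Fin d → I, nu q = ν) : Fin d → I := h.choose

theorem nu_repOf (ν : I →₀ ℕ) (h : ∃ q : Fin d → I, nu q = ν) : nu (repOf ν h) = ν := h.choose_spec

end tuples

section main

open Groth.Agent.Helper4.GammaSpan Groth.Agent.Helper4.PolLaw1

variable {A : Type u} [CommRing A] {B : Type u} [CommRing B] [Algebra A B]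
  {I : Type u}

theorem prod_tmul {ι : Type*} {S T' : Type*} [CommSemiring S] [Algebra A S] [CommSemiring T']
    [Algebra A T'] (t : Finset ι) (f : ι → S) (h : ι → T') :
    ∏ i ∈ t, (f i ⊗ₜ[A] h i) = (∏ i ∈ t, f i) ⊗ₜ[A] (∏ i ∈ t, h i) := by
  classical
  induction t using Finset.induction_on with
  | empty => simp [Algebra.TensorProduct.one_def]
  | insert j s hj ih => rw [Finset.prod_insert hj, Finset.prod_insert hj, Finset.prod_insert hj, ih,
      Algebra.TensorProduct.tmul_mul_tmul]

theorem tpow_genJ (d : ℕ) (S : Type u) [CommSemiring S] [Algebra A S] (J : Finset I) (s : I → S)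
    (b : I → B) :
    (SymTen.tpowLaw A B d).law.toFun' S (genJ b S J s) =
      ∑ p ∈ Fintype.piFinset (fun _ : Fin d => J),
        (∏ k, s (p k)) ⊗ₜ[A] PiTensorProduct.tprod A (fun k => b (p k)) := by
  classical
  rw [SymTen.tpowLaw, PolLaw.MulLaw.prodMap_toFun']
  simp only [genJ, map_sum, Algebra.TensorProduct.map_tmul, AlgHom.id_apply]
  rw [Finset.prod_univ_sum]
  refine Finset.sum_congr rfl fun p _ => ?_
  rw [prod_tmul]
  congr 1
  simp only [PiTensorProduct.singleAlgHom_apply, MonoidHom.mulSingle_apply]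
  rw [← PiTensorProduct.tprod_prod]
  exact congrArg _ (Finset.univ_prod_mulSingle (fun k : Fin d => b (p k)))

variable (e : Module.Basis I A B) (F : B →ₚₗ[A] A) (d : ℕ)

open Classical in
/-- the linear functional on the tensor power representing `F` -/
noncomputable def g : (⨂[A] _ : Fin d, B) →ₗ[A] A :=
  (Basis.piTensorProduct (fun _ : Fin d => e)).constr A
    (fun p : Fin d → I => if p = repOf (nu p) ⟨p, rfl⟩ then c (⇑e) F (nu p) else 0)

open Classical in
theorem g_tprod (p : Fin d → I) :
    g e F d (PiTensorProduct.tprod A (fun k => e (p k))) =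
      if p = repOf (nu p) ⟨p, rfl⟩ then c (⇑e) F (nu p) else 0 := by
  rw [← Basis.piTensorProduct_apply (fun _ : Fin d => e) p, g, Module.Basis.constr_basis]

theorem exists_genJ (S : Type u) [CommSemiring S] [Algebra A S] (x : S ⊗[A] B) :
    ∃ (J : Finset I) (s : I → S), x = genJ (⇑e) S J s := by
  refine ⟨((Algebra.TensorProduct.basis S e).repr x).support,
    fun i => (Algebra.TensorProduct.basis S e).repr x i, ?_⟩
  conv_lhs => rw [← (Algebra.TensorProduct.basis S e).linearCombination_repr x]
  rw [Finsupp.linearCombination_apply, Finsupp.sum, genJ]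
  refine Finset.sum_congr rfl fun i _ => ?_
  rw [Algebra.TensorProduct.basis_apply, TensorProduct.smul_tmul', smul_eq_mul, mul_one]

theorem mem_piFinset_of_nu {J : Finset I} {ν : I →₀ ℕ} (hν : ν.support ⊆ J) (p : Fin d → I)
    (hp : nu p = ν) : p ∈ Fintype.piFinset (fun _ : Fin d => J) := by
  rw [Fintype.mem_piFinset]
  intro k
  apply hν
  rw [← hp, mem_support_nu]
  exact ⟨k, rfl⟩

theorem support_nu_subset {J : Finset I} (p : Fin d → I)
    (hp : p ∈ Fintype.piFinset (fun _ : Fin d => J)) : (nu p).support ⊆ J := by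
  intro i hi
  rw [mem_support_nu] at hi
  obtain ⟨k, rfl⟩ := hi
  exact Fintype.mem_piFinset.1 hp k

/-- the key factorisation: `F = g ∘ (x ↦ x ⊗ ⋯ ⊗ x)` -/
theorem g_tpow (hF : PolLaw.IsHomog F d) (S : Type u) [CommSemiring S] [Algebra A S]
    (x : S ⊗[A] B) :
    (g e F d).lTensor S ((SymTen.tpowLaw A B d).law.toFun' S x) = F.toFun' S x := by
  classical
  obtain ⟨J, s, rfl⟩ := exists_genJ e S x
  obtain ⟨t, ht⟩ := exists_expansion (⇑e) F J
  set P := Fintype.piFinset (fun _ : Fin d => J) with hP
  set N := P.image nu with hN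
  rw [ht (t ∪ N) Finset.subset_union_left S s, tpow_genJ, map_sum]
  simp only [LinearMap.lTensor_tmul, g_tprod]
  -- right-hand side: restrict to `N`
  rw [← Finset.sum_subset (Finset.subset_union_right : N ⊆ t ∪ N)]
  swap
  · intro ν _ hνN
    by_cases hsub : ν.support ⊆ J
    · have hdeg : ν.degree ≠ d := by
        intro hdeg
        obtain ⟨p, hp⟩ := exists_tuple d ν hdeg
        exact hνN (Finset.mem_image.2 ⟨p, mem_piFinset_of_nu d hsub p hp, hp⟩)
      rw [cJ_eq_zero_of_degree (⇑e) F hF J ν hdeg, TensorProduct.tmul_zero]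
    · rw [cJ_eq_zero_of_not_subset (⇑e) F J ν hsub, TensorProduct.tmul_zero]
  -- left-hand side: sum over fibres
  rw [← Finset.sum_fiberwise_of_maps_to (s := P) (t := N) (g := nu)
    (fun p hp => Finset.mem_image_of_mem _ hp)]
  refine Finset.sum_congr rfl fun ν hν => ?_
  obtain ⟨p₀, hp₀P, hp₀⟩ := Finset.mem_image.1 hν
  have hsub : ν.support ⊆ J := by rw [← hp₀]; exact support_nu_subset d p₀ hp₀P
  have hex : ∃ q : Fin d → I, nu q = ν := ⟨p₀, hp₀⟩
  have h1 : ∀ p ∈ P.filter (fun p => nu p = ν),
      (∏ k, s (p k)) ⊗ₜ[A] (if p = repOf (nu p) ⟨p, rfl⟩ then c (⇑e) F (nu p) else 0) =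
      if p = repOf ν hex then (ν.prod fun i k => s i ^ k) ⊗ₜ[A] cJ (⇑e) F J ν else 0 := by
    intro p hp
    obtain ⟨_, hpν⟩ := Finset.mem_filter.1 hp
    subst hpν
    rw [cJ_eq_c (⇑e) F J _ hsub, prod_nu]
    split_ifs with h
    · rfl
    · rw [TensorProduct.tmul_zero]
  rw [Finset.sum_congr rfl h1, Finset.sum_ite_eq', if_pos]
  rw [Finset.mem_filter]
  exact ⟨mem_piFinset_of_nu d hsub _ (nu_repOf ν hex), nu_repOf ν hex⟩

end main

end Groth.Agent.Helper4.FreeLaw
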