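import Groth.Agent.Helper4.FreeLaw

/-!
# Homogeneous laws on a free module with values in an arbitrary module factor linearly through
the tensor power law (helper4; generalisation of `FreeLaw` from target `A` to target `C`)
-/

set_option autoImplicit false
universe u
open scoped TensorProduct
open MvPolynomial

namespace Groth.Agent.Helper4.FreeLawC

open Groth.Agent.Helper4.FreeLaw

section law

open Groth.Agent.Helper4.GammaSpan Groth.Agent.Helper4.PolarCoeff Groth.Agent.Helper4.PolLaw1

variable {A : Type u} [CommRing A] {B : Type u} [CommRing B] [Algebra A B]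
  {Ct : Type u} [CommRing Ct] [Algebra A Ct]
  {I : Type u} (e : I → B) (F : B →ₚₗ[A] Ct)

/-- coefficients of `F` at the generic combination on `J` -/
noncomputable def cJ (J : Finset I) (ν : I →₀ ℕ) : Ct :=
  cf ν (F.toFun' (MvPolynomial I A) (genJ e (MvPolynomial I A) J X))

/-- the canonical coefficients of `F` -/
noncomputable def c (ν : I →₀ ℕ) : Ct := cJ e F ν.support ν

theorem cJ_eq_zero_of_not_subset (J : Finset I) (ν : I →₀ ℕ) (h : ¬ ν.support ⊆ J) :
    cJ e F J ν = 0 := by
  classical
  have h1 : (killOut (R := A) J).toLinearMap.rTensor B (genJ e (MvPolynomial I A) J X) =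
      genJ e (MvPolynomial I A) J X := by
    rw [map_genJ]
    apply genJ_congr
    intro i hi
    rw [killOut_X, if_pos hi]
  have h2 := F.isCompat_apply' (killOut (R := A) J) (genJ e (MvPolynomial I A) J X)
  rw [h1] at h2
  rw [cJ, ← h2, cf_map_killOut, if_neg h]

theorem cJ_eq_c (J : Finset I) (ν : I →₀ ℕ) (h : ν.support ⊆ J) : cJ e F J ν = c e F ν := by
  classical
  have h1 : (killOut (R := A) ν.support).toLinearMap.rTensor B (genJ e (MvPolynomial I A) J X) =
      genJ e (MvPolynomial I A) ν.support X := by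
    rw [map_genJ]
    unfold genJ
    rw [← Finset.sum_subset h]
    · refine Finset.sum_congr rfl fun i hi => ?_
      beta_reduce
      rw [killOut_X, if_pos hi]
    · intro i _ hi
      beta_reduce
      rw [killOut_X, if_neg hi, TensorProduct.zero_tmul]
  have h2 := F.isCompat_apply' (killOut (R := A) ν.support) (genJ e (MvPolynomial I A) J X)
  rw [h1] at h2
  rw [c, cJ, cJ, ← h2, cf_map_killOut, if_pos (Finset.Subset.refl _)]

theorem cJ_eq_zero_of_degree {d : ℕ} (hF : PolLaw.IsHomog F d) (J : Finset I) (ν : I →₀ ℕ)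
    (h : ν.degree ≠ d) : cJ e F J ν = 0 := by
  classical
  set w := F.toFun' (MvPolynomial I A) (genJ e (MvPolynomial I A) J X) with hw
  have h1 : (scale (A := A) (fun _ : I => (Polynomial.X : Polynomial A))).toLinearMap.rTensor B
      (genJ e (MvPolynomial I A) J X) =
      (C (Polynomial.X : Polynomial A) : MvPolynomial I (Polynomial A)) •
        genJ e (MvPolynomial I (Polynomial A)) J X := by
    rw [map_genJ]
    unfold genJ
    rw [Finset.smul_sum]
    refine Finset.sum_congr rfl fun i _ => ?_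
    rw [TensorProduct.smul_tmul', smul_eq_mul]
    simp [scale]
  have h0 : (scale (A := A) (fun _ : I => (1 : Polynomial A))).toLinearMap.rTensor B
      (genJ e (MvPolynomial I A) J X) = genJ e (MvPolynomial I (Polynomial A)) J X := by
    rw [map_genJ]
    apply genJ_congr
    intro i _
    simp [scale]
  have e1 := F.isCompat_apply' (scale (A := A) (fun _ : I => (Polynomial.X : Polynomial A)))
    (genJ e (MvPolynomial I A) J X)
  have e0 := F.isCompat_apply' (scale (A := A) (fun _ : I => (1 : Polynomial A)))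
    (genJ e (MvPolynomial I A) J X)
  rw [h1, hF, ← h0, ← e0, ← hw, ← C_pow] at e1
  have e2 := congrArg (cfI (A := A) (Polynomial A) ν) e1
  rw [cfI_scale, cfI_C_smul, cfI_scale, prod_const_pow, prod_const_pow, one_pow,
    TensorProduct.smul_tmul', smul_eq_mul, mul_one] at e2
  have e3 := congrArg (ev (Polynomial.lcoeff A ν.degree)) e2
  rw [ev_tmul, ev_tmul, Polynomial.lcoeff_apply, Polynomial.lcoeff_apply, Polynomial.coeff_X_pow,
    Polynomial.coeff_X_pow, if_pos rfl, if_neg h, one_smul, zero_smul] at e3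
  exact e3

theorem exists_expansion (J : Finset I) : ∃ t : Finset (I →₀ ℕ), ∀ t' : Finset (I →₀ ℕ), t ⊆ t' →
    ∀ (S : Type u) [CommSemiring S] [Algebra A S] (s : I → S),
      F.toFun' S (genJ e S J s) = ∑ ν ∈ t', (ν.prod fun i k => s i ^ k) ⊗ₜ[A] cJ e F J ν := by
  obtain ⟨t, ht⟩ := expansion (F.toFun' (MvPolynomial I A) (genJ e (MvPolynomial I A) J X))
  refine ⟨t, fun t' ht' S _ _ s => ?_⟩
  have h1 : genJ e S J s = (aeval s : MvPolynomial I A →ₐ[A] S).toLinearMap.rTensor B
      (genJ e (MvPolynomial I A) J X) := by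
    rw [map_genJ]
    apply genJ_congr
    intro i _
    simp
  rw [h1, ← F.isCompat_apply']
  conv_lhs => rw [ht t' ht']
  rw [map_sum]
  refine Finset.sum_congr rfl fun ν _ => ?_
  rw [LinearMap.rTensor_tmul, AlgHom.toLinearMap_apply, aeval_monomial, map_one, one_mul]
  rfl

end law

section main

open Groth.Agent.Helper4.GammaSpan Groth.Agent.Helper4.PolLaw1

variable {A : Type u} [CommRing A] {B : Type u} [CommRing B] [Algebra A B]
  {I : Type u}

variable {Ct : Type u} [CommRing Ct] [Algebra A Ct]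
variable (e : Module.Basis I A B) (F : B →ₚₗ[A] Ct) (d : ℕ)

open Classical in
/-- the linear functional on the tensor power representing `F` -/
noncomputable def g : (⨂[A] _ : Fin d, B) →ₗ[A] Ct :=
  (Basis.piTensorProduct (fun _ : Fin d => e)).constr A
    (fun p : Fin d → I => if p = repOf (nu p) ⟨p, rfl⟩ then c (⇑e) F (nu p) else 0)

open Classical in
theorem g_tprod (p : Fin d → I) :
    g e F d (PiTensorProduct.tprod A (fun k => e (p k))) =
      if p = repOf (nu p) ⟨p, rfl⟩ then c (⇑e) F (nu p) else 0 := by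
  rw [← Basis.piTensorProduct_apply (fun _ : Fin d => e) p, g, Module.Basis.constr_basis]

/-- the key factorisation: `F = g ∘ (x ↦ x ⊗ ⋯ ⊗ x)` -/
theorem g_tpow (hF : PolLaw.IsHomog F d) (S : Type u) [CommSemiring S] [Algebra A S]
    (x : S ⊗[A] B) :
    (g e F d).lTensor S ((SymTen.tpowLaw A B d).law.toFun' S x) = F.toFun' S x := by
  classical
  obtain ⟨J, s, rfl⟩ := exists_genJ e S x
  obtain ⟨t, ht⟩ := exists_expansion (⇑e) F J
  set P := Fintype.piFinset (fun _ : Fin d => J) with hP
  set N := P.image nu with hN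
  rw [ht (t ∪ N) Finset.subset_union_left S s, tpow_genJ, map_sum]
  simp only [LinearMap.lTensor_tmul, g_tprod]
  -- right-hand side: restrict to `N`
  rw [← Finset.sum_subset (Finset.subset_union_right : N ⊆ t ∪ N)]
  swap
  · intro ν _ hνN
    by_cases hsub : ν.support ⊆ J
    · have hdeg : ν.degree ≠ d := by
        intro hdeg
        obtain ⟨p, hp⟩ := exists_tuple d ν hdeg
        exact hνN (Finset.mem_image.2 ⟨p, mem_piFinset_of_nu d hsub p hp, hp⟩)
      rw [cJ_eq_zero_of_degree (⇑e) F hF J ν hdeg, TensorProduct.tmul_zero]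
    · rw [cJ_eq_zero_of_not_subset (⇑e) F J ν hsub, TensorProduct.tmul_zero]
  -- left-hand side: sum over fibres
  rw [← Finset.sum_fiberwise_of_maps_to (s := P) (t := N) (g := nu)
    (fun p hp => Finset.mem_image_of_mem _ hp)]
  refine Finset.sum_congr rfl fun ν hν => ?_
  obtain ⟨p₀, hp₀P, hp₀⟩ := Finset.mem_image.1 hν
  have hsub : ν.support ⊆ J := by rw [← hp₀]; exact support_nu_subset d p₀ hp₀P
  have hex : ∃ q : Fin d → I, nu q = ν := ⟨p₀, hp₀⟩
  have h1 : ∀ p ∈ P.filter (fun p => nu p = ν),
      (∏ k, s (p k)) ⊗ₜ[A] (if p = repOf (nu p) ⟨p, rfl⟩ then c (⇑e) F (nu p) else 0) =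
      if p = repOf ν hex then (ν.prod fun i k => s i ^ k) ⊗ₜ[A] cJ (⇑e) F J ν else 0 := by
    intro p hp
    obtain ⟨_, hpν⟩ := Finset.mem_filter.1 hp
    subst hpν
    rw [cJ_eq_c (⇑e) F J _ hsub, prod_nu]
    split_ifs with h
    · rfl
    · rw [TensorProduct.tmul_zero]
  rw [Finset.sum_congr rfl h1, Finset.sum_ite_eq', if_pos]
  rw [Finset.mem_filter]
  exact ⟨mem_piFinset_of_nu d hsub _ (nu_repOf ν hex), nu_repOf ν hex⟩

end main

end Groth.Agent.Helper4.FreeLawC
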