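import Mathlib

/-! Frobenius-semilinear bijections on finite modules over a noetherian local ring force `𝔪 M = 0`. -/

namespace Groth.Agent.Helper4.FrobDvrA

open IsLocalRing

theorem injective_of_surjective_semilinear {κ V : Type*} [Field κ] [AddCommGroup V] [Module κ V]
    [FiniteDimensional κ V] (p : ℕ) (hp : p ≠ 0) (S : V →+ V)
    (hS : ∀ (c : κ) (v : V), S (c • v) = c ^ p • S v)
    (hsurj : Function.Surjective S) : Function.Injective S := by
  classical
  let b := Module.finBasis κ V
  have hsum : ∀ c : Fin (Module.finrank κ V) → κ,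
      S (∑ i, c i • b i) = ∑ i, c i ^ p • S (b i) := by
    intro c
    rw [map_sum]
    exact Finset.sum_congr rfl fun i _ => hS _ _
  have hspan : ⊤ ≤ Submodule.span κ (Set.range (fun i => S (b i))) := by
    intro v _
    obtain ⟨w, rfl⟩ := hsurj v
    rw [← b.sum_repr w, hsum]
    exact Submodule.sum_mem _ fun i _ =>
      Submodule.smul_mem _ _ (Submodule.subset_span ⟨i, rfl⟩)
  have hli : LinearIndependent κ (fun i => S (b i)) :=
    linearIndependent_of_top_le_span_of_card_eq_finrank hspan (by simp)
  rw [injective_iff_map_eq_zero]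
  intro w hw
  rw [← b.sum_repr w, hsum] at hw
  have h0 := Fintype.linearIndependent_iff.mp hli _ hw
  rw [← b.sum_repr w]
  refine Finset.sum_eq_zero fun i _ => ?_
  rw [(pow_eq_zero_iff hp).mp (h0 i), zero_smul]

variable {R : Type*} [CommRing R] [IsLocalRing R]
  {M : Type*} [AddCommGroup M] [Module R M]

/-- the induced map on `M ⧸ 𝔪 M`. -/
noncomputable def quotMap (T : M →+ M)
    (hN : ∀ x ∈ (maximalIdeal R • (⊤ : Submodule R M)), T x ∈ (maximalIdeal R • (⊤ : Submodule R M))) :
    (M ⧸ (maximalIdeal R • (⊤ : Submodule R M))) →+ (M ⧸ (maximalIdeal R • (⊤ : Submodule R M))) :=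
  AddMonoidHom.mk'
    (fun v => Quotient.liftOn' v (fun m => Submodule.Quotient.mk (T m)) (by
      intro a b hab
      rw [Submodule.quotientRel_def] at hab
      rw [Submodule.Quotient.eq, ← map_sub]
      exact hN _ hab))
    (by
      intro a b
      induction a using Submodule.Quotient.induction_on with
      | _ a =>
      induction b using Submodule.Quotient.induction_on with
      | _ b =>
      change Submodule.Quotient.mk (T (a + b)) = Submodule.Quotient.mk (T a) + Submodule.Quotient.mk (T b)
      rw [map_add, Submodule.Quotient.mk_add])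

theorem quotMap_mk (T : M →+ M)
    (hN : ∀ x ∈ (maximalIdeal R • (⊤ : Submodule R M)), T x ∈ (maximalIdeal R • (⊤ : Submodule R M)))
    (m : M) : quotMap T hN (Submodule.Quotient.mk m) = Submodule.Quotient.mk (T m) := rfl

theorem smul_top_eq_bot [IsNoetherianRing R] [Module.Finite R M] (p : ℕ) (hp : 2 ≤ p)
    (T : M →+ M) (hT : ∀ (r : R) (m : M), T (r • m) = r ^ p • T m)
    (hbij : Function.Bijective T) :
    maximalIdeal R • (⊤ : Submodule R M) = ⊥ := by
  set N : Submodule R M := maximalIdeal R • (⊤ : Submodule R M) with hNdef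
  -- (a)
  have ha : ∀ x ∈ N, T x ∈ maximalIdeal R • N := by
    intro x hx
    refine Submodule.smul_induction_on hx (fun r hr m _ => ?_) (fun x y hx hy => ?_)
    · rw [hT]
      have : r ^ p = r * r ^ (p - 1) := by
        rw [← pow_succ']; congr 1; omega
      rw [this, mul_smul]
      refine Submodule.smul_mem_smul hr ?_
      exact Submodule.smul_mem_smul (Ideal.pow_mem_of_mem _ hr _ (by omega)) trivial
    · rw [map_add]; exact add_mem hx hy
  have hN : ∀ x ∈ N, T x ∈ N := fun x hx => Submodule.smul_le_right (ha x hx)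
  -- (b)
  letI : Field (R ⧸ maximalIdeal R) := Ideal.Quotient.field _
  haveI : Module.Finite (R ⧸ maximalIdeal R) (M ⧸ N) :=
    Module.Finite.of_restrictScalars_finite R _ _
  have hS : ∀ (c : R ⧸ maximalIdeal R) (v : M ⧸ N), quotMap T hN (c • v) = c ^ p • quotMap T hN v := by
    intro c v
    obtain ⟨r, rfl⟩ := Ideal.Quotient.mk_surjective c
    induction v using Submodule.Quotient.induction_on with
    | _ m =>
    rw [Module.Quotient.mk_smul_mk, quotMap_mk, quotMap_mk, hT, ← map_pow, Module.Quotient.mk_smul_mk]
  have hsurj : Function.Surjective (quotMap T hN) := by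
    intro v
    induction v using Submodule.Quotient.induction_on with
    | _ m =>
    obtain ⟨m', rfl⟩ := hbij.2 m
    exact ⟨Submodule.Quotient.mk m', rfl⟩
  have hinj := injective_of_surjective_semilinear p (by omega) (quotMap T hN) hS hsurj
  have hb : ∀ m, T m ∈ N → m ∈ N := by
    intro m hm
    have h1 : quotMap T hN (Submodule.Quotient.mk m) = 0 := by
      rw [quotMap_mk]; exact (Submodule.Quotient.mk_eq_zero N).mpr hm
    have h2 := hinj (h1.trans (map_zero _).symm)
    exact (Submodule.Quotient.mk_eq_zero N).mp h2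
  -- (c)
  have hc : N ≤ maximalIdeal R • N := by
    intro x hx
    obtain ⟨y, rfl⟩ := hbij.2 x
    exact ha y (hb y hx)
  -- (d)
  haveI : IsNoetherian R M := isNoetherian_of_isNoetherianRing_of_finite R M
  refine Submodule.eq_bot_of_le_smul_of_le_jacobson_bot (maximalIdeal R) N
    (IsNoetherian.noetherian N) hc ?_
  rw [IsLocalRing.jacobson_eq_maximalIdeal ⊥ bot_ne_top]

end Groth.Agent.Helper4.FrobDvrA
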