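import Mathlib

set_option autoImplicit false

/-!
# Local structure of sections of constant sheaves on a general site
-/

universe v u w

open CategoryTheory CategoryTheory.Limits Opposite

namespace Groth.Agent.Helper4.SiteConst

variable {C : Type u} [Category.{v} C] (J : GrothendieckTopology C)
  {A : Type*} [Category A] {FA : A → A → Type*} {CA : A → Type w}
  [∀ X Y, FunLike (FA X Y) (CA X) (CA Y)] [ConcreteCategory.{w} A FA]
  [HasWeakSheafify J A] [J.WEqualsLocallyBijective A] [J.HasSheafCompose (forget A)]

/-- the constant presheaf -/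
abbrev P (N : A) : Cᵒᵖ ⥤ A := (Functor.const _).obj N

/-- the constant sheaf -/
noncomputable abbrev cS (N : A) : Sheaf J A := (constantSheaf J A).obj N

/-- constants as sections of the constant sheaf -/
noncomputable abbrev η (N : A) : P (C := C) N ⟶ (cS J N).obj := toSheafify J (P N)

instance (N : A) : Presheaf.IsLocallySurjective J (η J N) :=
  inferInstanceAs (Presheaf.IsLocallySurjective J (toSheafify J (P N)))

instance (N : A) : Presheaf.IsLocallyInjective J (η J N) :=
  inferInstanceAs (Presheaf.IsLocallyInjective J (toSheafify J (P N)))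

lemma η_map (N : A) {W W' : C} (g : W' ⟶ W) (n : ToType N) :
    (cS J N).obj.map g.op ((η J N).app (op W) n) = (η J N).app (op W') n := by
  have := NatTrans.naturality_apply (η J N) g.op n
  simpa using this.symm

/-- sections of a constant sheaf are locally constant -/
lemma exists_const (N : A) (W : C) (t : ToType ((cS J N).obj.obj (op W))) :
    ∃ S ∈ J W, ∀ {W' : C} (g : W' ⟶ W), S g →
      ∃ n : ToType N, (cS J N).obj.map g.op t = (η J N).app (op W') n := by
  refine ⟨_, Presheaf.imageSieve_mem J (η J N) t, ?_⟩
  rintro W' g ⟨n, hn⟩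
  exact ⟨n, hn.symm⟩

/-- constants are determined by their sections over an object not covered by the empty sieve -/
lemma const_injective (N : A) (W : C) (hW : ⊥ ∉ J W) (n n' : ToType N)
    (h : (η J N).app (op W) n = (η J N).app (op W) n') : n = n' := by
  have h1 := Presheaf.equalizerSieve_mem J (η J N) n n' h
  by_contra hne
  apply hW
  refine J.superset_covering ?_ h1
  intro W' g hg
  exfalso
  apply hne
  simpa using hg

/-- sections of a sheaf which agree locally are equal -/
lemma sec_ext (H : Sheaf J A) (W : C) (s s' : ToType (H.obj.obj (op W))) (S : Sieve W)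
    (hS : S ∈ J W) (h : ∀ {W' : C} (g : W' ⟶ W), S g → H.obj.map g.op s = H.obj.map g.op s') :
    s = s' :=
  Sheaf.isSeparated H W S hS s s' (fun _ g hg => h g hg)

lemma sec_eq_of_bot (H : Sheaf J A) (W : C) (hW : ⊥ ∈ J W) (s s' : ToType (H.obj.obj (op W))) :
    s = s' :=
  sec_ext J H W s s' ⊥ hW (fun _ hg => hg.elim)

/-- the map of constant sheaves induced by a morphism, on constants -/
lemma const_map_η {M N : A} (h : M ⟶ N) (W : C) (m : ToType M) :
    ((constantSheaf J A).map h).hom.app (op W) ((η J M).app (op W) m) =
      (η J N).app (op W) (h m) := by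
  have h1 : η J M ≫ ((constantSheaf J A).map h).hom = (Functor.const _).map h ≫ η J N :=
    (toSheafify_naturality J ((Functor.const _).map h)).symm
  have := ConcreteCategory.congr_hom (congrArg (fun t => t.app (op W)) h1) m
  simpa using this

lemma hom_map {F G : Sheaf J A} (ψ : F ⟶ G) {W W' : C} (g : W' ⟶ W)
    (t : ToType (F.obj.obj (op W))) :
    ψ.hom.app (op W') (F.obj.map g.op t) = G.obj.map g.op (ψ.hom.app (op W) t) :=
  NatTrans.naturality_apply ψ.hom g.op t

/-- a map of constant sheaves which is given by `h` on the constants over `W` is induced by `h`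
on all sections over objects above `W` -/
theorem eq_const_of_η {M N : A} (ψ : cS J M ⟶ cS J N) (h : M ⟶ N) (W : C)
    (hh : ∀ m : ToType M, ψ.hom.app (op W) ((η J M).app (op W) m) = (η J N).app (op W) (h m))
    {W' : C} (g : W' ⟶ W) (t : ToType ((cS J M).obj.obj (op W'))) :
    ψ.hom.app (op W') t = ((constantSheaf J A).map h).hom.app (op W') t := by
  obtain ⟨S, hS, hS'⟩ := exists_const J M W' t
  refine sec_ext J _ W' _ _ S hS ?_
  intro W'' g' hg'
  obtain ⟨m, hm⟩ := hS' g' hg'
  rw [← hom_map, ← hom_map, hm, const_map_η]
  have h1 : (η J M).app (op W'') m = (cS J M).obj.map (g' ≫ g).op ((η J M).app (op W) m) :=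
    (η_map J M _ m).symm
  rw [h1, hom_map, hh, η_map]

end Groth.Agent.Helper4.SiteConst
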