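import Mathlib
import Groth.Agent.Helper4.SiteConst

set_option autoImplicit false

/-!
# Maps of constant sheaves are locally induced by homomorphisms (general site)
-/

universe v u w

open CategoryTheory CategoryTheory.Limits Opposite

namespace Groth.Agent.Helper4.SiteConst

section generic

variable {C : Type u} [Category.{v} C] (J : GrothendieckTopology C)
  {A : Type*} [Category A] {FA : A → A → Type*} {CA : A → Type w}
  [∀ X Y, FunLike (FA X Y) (CA X) (CA Y)] [ConcreteCategory.{w} A FA]
  [HasWeakSheafify J A] [J.WEqualsLocallyBijective A] [J.HasSheafCompose (forget A)]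

/-- finitely many sections of a constant sheaf are simultaneously locally constant -/
lemma exists_const_fin (N : A) (k : ℕ) :
    ∀ (W : C) (t : Fin k → ToType ((cS J N).obj.obj (op W))),
    ∃ S ∈ J W, ∀ {W' : C} (g : W' ⟶ W), S g →
      ∃ n : Fin k → ToType N, ∀ i, (cS J N).obj.map g.op (t i) = (η J N).app (op W') (n i) := by
  induction k with
  | zero =>
    intro W t
    exact ⟨⊤, J.top_mem W, fun g _ => ⟨fun i => i.elim0, fun i => i.elim0⟩⟩
  | succ k ih =>
    intro W t
    obtain ⟨S₁, hS₁, h₁⟩ := ih W (fun i => t i.succ)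
    obtain ⟨S₂, hS₂, h₂⟩ := exists_const J N W (t 0)
    refine ⟨S₁ ⊓ S₂, J.intersection_covering hS₁ hS₂, ?_⟩
    intro W' g hg
    obtain ⟨n₁, hn₁⟩ := h₁ g hg.1
    obtain ⟨n₂, hn₂⟩ := h₂ g hg.2
    refine ⟨Fin.cons n₂ n₁, fun i => ?_⟩
    refine Fin.cases ?_ (fun j => ?_) i
    · simpa using hn₂
    · simpa using hn₁ j

lemma bot_mem_of_hom {W W' : C} (g : W' ⟶ W) (hW : ⊥ ∈ J W) : ⊥ ∈ J W' := by
  have := J.pullback_stable g hW
  refine J.superset_covering ?_ this
  intro Z f hf
  exact hf.elim

end generic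

section ab

variable {C : Type u} [Category.{v} C] (J : GrothendieckTopology C)
  [HasWeakSheafify J AddCommGrpCat.{w}] [J.WEqualsLocallyBijective AddCommGrpCat.{w}]
  [J.HasSheafCompose (forget AddCommGrpCat.{w})]

/-- a map of constant abelian sheaves with finite source is locally induced by a homomorphism -/
theorem exists_local_hom_ab {M N : AddCommGrpCat.{w}} [Finite M] (ψ : cS J M ⟶ cS J N) (W : C) :
    ∃ S ∈ J W, ∀ {W' : C} (g : W' ⟶ W), S g → ∃ h : M ⟶ N,
      ∀ {W'' : C} (_ : W'' ⟶ W') (t : (cS J M).obj.obj (op W'')),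
        ψ.hom.app (op W'') t = ((constantSheaf J AddCommGrpCat.{w}).map h).hom.app (op W'') t := by
  obtain ⟨k, ⟨e⟩⟩ := Finite.exists_equiv_fin M
  obtain ⟨S, hS, hS'⟩ := exists_const_fin J N k W
    (fun i => ψ.hom.app (op W) ((η J M).app (op W) (e.symm i)))
  refine ⟨S, hS, ?_⟩
  intro W' g hg
  obtain ⟨n, hn⟩ := hS' g hg
  by_cases hW' : ⊥ ∈ J W'
  · refine ⟨0, ?_⟩
    intro W'' g' t
    exact sec_eq_of_bot J _ W'' (bot_mem_of_hom J g' hW') _ _
  · have hc : ∀ m : M, ψ.hom.app (op W') ((η J M).app (op W') m) =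
        (η J N).app (op W') (n (e m)) := by
      intro m
      have := hn (e m)
      rw [Equiv.symm_apply_apply, ← hom_map, η_map] at this
      exact this
    have hadd : ∀ m m' : M, n (e (m + m')) = n (e m) + n (e m') := by
      intro m m'
      apply const_injective J N W' hW'
      rw [← hc, map_add, map_add, map_add, hc, hc]
    refine ⟨AddCommGrpCat.ofHom (AddMonoidHom.mk' (fun m => n (e m)) hadd), ?_⟩
    intro W'' g' t
    exact eq_const_of_η J ψ _ W' hc g' t

end ab

section mod

variable {C : Type u} [Category.{v} C] (J : GrothendieckTopology C)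
  (Λ : Type*) [Ring Λ]
  [HasWeakSheafify J (ModuleCat.{w} Λ)] [J.WEqualsLocallyBijective (ModuleCat.{w} Λ)]
  [J.HasSheafCompose (forget (ModuleCat.{w} Λ))]

/-- a map of constant sheaves of modules with finitely generated source is locally induced by a
linear map -/
theorem exists_local_hom_mod {M N : ModuleCat.{w} Λ} [Module.Finite Λ M]
    (ψ : cS J M ⟶ cS J N) (W : C) :
    ∃ S ∈ J W, ∀ {W' : C} (g : W' ⟶ W), S g → ∃ h : M ⟶ N,
      ∀ {W'' : C} (_ : W'' ⟶ W') (t : (cS J M).obj.obj (op W'')),
        ψ.hom.app (op W'') t =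
          ((constantSheaf J (ModuleCat.{w} Λ)).map h).hom.app (op W'') t := by
  obtain ⟨k, s, hs⟩ := Module.Finite.exists_fin (R := Λ) (M := M)
  obtain ⟨S, hS, hS'⟩ := exists_const_fin J N k W
    (fun i => ψ.hom.app (op W) ((η J M).app (op W) (s i)))
  refine ⟨S, hS, ?_⟩
  intro W' g hg
  obtain ⟨n, hn⟩ := hS' g hg
  by_cases hW' : ⊥ ∈ J W'
  · refine ⟨0, ?_⟩
    intro W'' g' t
    exact sec_eq_of_bot J _ W'' (bot_mem_of_hom J g' hW') _ _
  · have hex : ∀ m : M, ∃ n' : N, ψ.hom.app (op W') ((η J M).app (op W') m) =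
        (η J N).app (op W') n' := by
      intro m
      have hm : m ∈ Submodule.span Λ (Set.range s) := by rw [hs]; trivial
      induction hm using Submodule.span_induction with
      | mem x hx =>
        obtain ⟨i, rfl⟩ := hx
        refine ⟨n i, ?_⟩
        have := hn i
        rw [← hom_map, η_map] at this
        exact this
      | zero => exact ⟨0, by rw [map_zero, map_zero, map_zero]⟩
      | add x y _ _ hx hy =>
        obtain ⟨a, ha⟩ := hx
        obtain ⟨b, hb⟩ := hy
        exact ⟨a + b, by rw [map_add, map_add, ha, hb, map_add]⟩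
      | smul r x _ hx =>
        obtain ⟨a, ha⟩ := hx
        exact ⟨r • a, by rw [map_smul, map_smul, ha, map_smul]⟩
    choose c hc using hex
    have hadd : ∀ m m' : M, c (m + m') = c m + c m' := by
      intro m m'
      apply const_injective J N W' hW'
      rw [← hc, map_add, map_add, map_add, hc, hc]
    have hsmul : ∀ (r : Λ) (m : M), c (r • m) = r • c m := by
      intro r m
      apply const_injective J N W' hW'
      rw [← hc, map_smul, map_smul, map_smul, hc]
    refine ⟨ModuleCat.ofHom ⟨⟨c, hadd⟩, hsmul⟩, ?_⟩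
    intro W'' g' t
    exact eq_const_of_η J ψ _ W' hc g' t

end mod

end Groth.Agent.Helper4.SiteConst
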