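import Mathlib
import Groth.Agent.Helper4.SiteConstB

set_option autoImplicit false

/-!
# Restriction between localized sites, and local constancy of maps of locally constant sheaves
-/

universe v u w

open CategoryTheory CategoryTheory.Limits Opposite

namespace Groth.Agent.Helper4.SiteConst

section transport

variable {C : Type u} [Category.{v} C] (J : GrothendieckTopology C)
  (A : Type*) [Category A] {T T' : C} (g : T' ⟶ T)
  [HasWeakSheafify (J.over T) A] [HasWeakSheafify (J.over T') A]
  [∀ F : (Over T')ᵒᵖ ⥤ A, (Over.map g).op.HasPointwiseRightKanExtension F]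

/-- restriction of constant presheaves along `Over.map g` -/
def constWhisker : Functor.const (Over T)ᵒᵖ ⋙ (Functor.whiskeringLeft _ _ A).obj (Over.map g).op ≅
    Functor.const (Over T')ᵒᵖ :=
  NatIso.ofComponents (fun M => NatIso.ofComponents (fun _ => Iso.refl _))

/-- the restriction of a constant sheaf along `Over.map g` is the constant sheaf -/
noncomputable def overMapConst :
    constantSheaf (J.over T) A ⋙ J.overMapPullback A g ≅ constantSheaf (J.over T') A :=
  Functor.associator _ _ _ ≪≫
    Functor.isoWhiskerLeft (Functor.const _)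
      ((Over.map g).pushforwardContinuousSheafificationCompatibility A (J.over T') (J.over T)).symm ≪≫
    (Functor.associator _ _ _).symm ≪≫
    Functor.isoWhiskerRight (constWhisker A g) (presheafToSheaf (J.over T') A)

variable {A}

lemma pushforwardOverMapIso_naturality {F G : Sheaf J A} (φ : F ⟶ G) :
    (J.overMapPullback A g).map ((J.overPullback A T).map φ) ≫ (G.pushforwardOverMapIso g).hom =
      (F.pushforwardOverMapIso g).hom ≫ (J.overPullback A T').map φ := by
  ext W
  simp
  exact (Category.comp_id _).trans (Category.id_comp _).symm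

/-- transport of a trivialization along a morphism -/
noncomputable def trivOfHom (F : Sheaf J A) {M : A}
    (e : F.over T ≅ (constantSheaf (J.over T) A).obj M) :
    F.over T' ≅ (constantSheaf (J.over T') A).obj M :=
  (F.pushforwardOverMapIso g).symm ≪≫ (J.overMapPullback A g).mapIso e ≪≫
    (overMapConst J A g).app M

end transport

section assembly

variable {C : Type u} [Category.{v} C] (J : GrothendieckTopology C)
  {A : Type*} [Category A] {FA : A → A → Type*} {CA : A → Type w}
  [∀ X Y, FunLike (FA X Y) (CA X) (CA Y)] [ConcreteCategory.{w} A FA]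

/-- two maps of sheaves on `J.over T` agreeing on all sections over objects coming from `Over T'`
have the same restriction to `J.over T'` -/
lemma overMapPullback_map_eq {T T' : C} (g : T' ⟶ T) {P Q : Sheaf (J.over T) A} (ψ ψ' : P ⟶ Q)
    (h : ∀ (W : Over T') (t : ToType (P.obj.obj (op ((Over.map g).obj W)))),
      ψ.hom.app (op ((Over.map g).obj W)) t = ψ'.hom.app (op ((Over.map g).obj W)) t) :
    (J.overMapPullback A g).map ψ = (J.overMapPullback A g).map ψ' := by
  ext W
  apply DFunLike.ext
  intro t
  exact h W.unop t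

variable [∀ T : C, HasWeakSheafify (J.over T) A]
  [∀ {T T' : C} (g : T' ⟶ T) (F : (Over T')ᵒᵖ ⥤ A), (Over.map g).op.HasPointwiseRightKanExtension F]

theorem local_hom_of_triv {F G : Sheaf J A} (φ : F ⟶ G) (T : C) {M N : A}
    (α₀ : F.over T ≅ (constantSheaf (J.over T) A).obj M)
    (β₀ : G.over T ≅ (constantSheaf (J.over T) A).obj N)
    (hloc : ∀ ψ : (constantSheaf (J.over T) A).obj M ⟶ (constantSheaf (J.over T) A).obj N,
      ∃ S ∈ (J.over T) (Over.mk (𝟙 T)), ∀ {W' : Over T} (g : W' ⟶ Over.mk (𝟙 T)), S g →
        ∃ h : M ⟶ N, ∀ {W'' : Over T} (_ : W'' ⟶ W')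
          (t : ToType (((constantSheaf (J.over T) A).obj M).obj.obj (op W''))),
          ψ.hom.app (op W'') t = ((constantSheaf (J.over T) A).map h).hom.app (op W'') t) :
    ∃ S ∈ J T, ∀ {T' : C} (g : T' ⟶ T), S g →
      ∃ (h : M ⟶ N) (α : F.over T' ≅ (constantSheaf (J.over T') A).obj M)
        (β : G.over T' ≅ (constantSheaf (J.over T') A).obj N),
        (J.overPullback A T').map φ ≫ β.hom = α.hom ≫ (constantSheaf (J.over T') A).map h := by
  obtain ⟨S, hS, hS'⟩ := hloc (α₀.inv ≫ (J.overPullback A T).map φ ≫ β₀.hom)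
  refine ⟨Sieve.overEquiv _ S, (J.mem_over_iff S).1 hS, ?_⟩
  intro T' g hg
  obtain ⟨h, hh⟩ := hS' _ ((Sieve.overEquiv_iff S g).1 hg)
  refine ⟨h, trivOfHom J g F α₀, trivOfHom J g G β₀, ?_⟩
  have e1 : (J.overMapPullback A g).map (α₀.inv ≫ (J.overPullback A T).map φ ≫ β₀.hom) =
      (J.overMapPullback A g).map ((constantSheaf (J.over T) A).map h) := by
    apply overMapPullback_map_eq
    intro W t
    exact hh (W'' := (Over.map g).obj W) (Over.homMk W.hom (by simp)) t
  have e2 : (J.overPullback A T).map φ ≫ β₀.hom =
      α₀.hom ≫ (α₀.inv ≫ (J.overPullback A T).map φ ≫ β₀.hom) := by simp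
  have e3 : (J.overPullback A T').map φ ≫ (G.pushforwardOverMapIso g).inv =
      (F.pushforwardOverMapIso g).inv ≫ (J.overMapPullback A g).map ((J.overPullback A T).map φ) := by
    rw [Iso.comp_inv_eq, Category.assoc, pushforwardOverMapIso_naturality, Iso.inv_hom_id_assoc]
  have e4 := (overMapConst J A g).hom.naturality h
  simp only [Functor.comp_map] at e4
  simp only [trivOfHom, Iso.trans_hom, Iso.symm_hom, Functor.mapIso_hom, Iso.app_hom,
    Category.assoc]
  rw [reassoc_of% e3, ← Functor.map_comp_assoc, e2, Functor.map_comp_assoc, e1, e4]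

end assembly

end Groth.Agent.Helper4.SiteConst
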