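import Mathlib
import Groth.Prelude.Def_EtBase
import Groth.Prelude.Def_EtRestW
import Groth.Prelude.Def_EtMod2
import Groth.Agent.Helper4.SiteConstC
import Groth.Agent.Helper4.EtGeom

set_option autoImplicit false

/-!
# Maps of locally constant sheaves on the small étale site are locally maps of constant sheaves
-/

universe u

open CategoryTheory CategoryTheory.Limits AlgebraicGeometry Opposite

namespace Groth.Agent.Helper4.LocHomEt

open Groth.Agent.Helper4.SiteConst Groth.Agent.Helper4.EtGeom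

variable {X : Scheme.{u}}

/-- common refinement of two étale neighbourhoods -/
lemma exists_common (V₁ V₂ : X.Etale) (y₁ : V₁.left) (y₂ : V₂.left) (h : V₁.hom y₁ = V₂.hom y₂) :
    ∃ (T : X.Etale) (p₁ : T ⟶ V₁) (p₂ : T ⟶ V₂) (z : T.left),
      p₁.left z = y₁ ∧ p₂.left z = y₂ := by
  induction V₁ with
  | mk U₁ j₁ hj₁ =>
  induction V₂ with
  | mk U₂ j₂ hj₂ =>
  obtain ⟨z, hz1, hz2⟩ := Scheme.Pullback.exists_preimage_pullback (f := j₁) (g := j₂) y₁ y₂ h
  haveI : Etale j₁ := hj₁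
  haveI : Etale j₂ := hj₂
  exact ⟨Scheme.Etale.mk (pullback.fst j₁ j₂ ≫ j₁),
    MorphismProperty.Over.homMk (pullback.fst j₁ j₂) rfl,
    MorphismProperty.Over.homMk (pullback.snd j₁ j₂) pullback.condition.symm, z, hz1, hz2⟩

/-- pointwise form of the local structure of maps between locally constant sheaves -/
theorem exists_local {A : Type*} [Category A] {FA : A → A → Type*} {CA : A → Type (u + 1)}
    [∀ X Y, FunLike (FA X Y) (CA X) (CA Y)] [ConcreteCategory.{u + 1} A FA]
    [∀ T : X.Etale, HasWeakSheafify (X.smallEtaleTopology.over T) A]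
    [∀ {T T' : X.Etale} (g : T' ⟶ T) (F : (Over T')ᵒᵖ ⥤ A),
      (Over.map g).op.HasPointwiseRightKanExtension F]
    {F G : Sheaf X.smallEtaleTopology A} (φ : F ⟶ G) {M N : A}
    (hloc : ∀ (T : X.Etale) (ψ : (constantSheaf (X.smallEtaleTopology.over T) A).obj M ⟶
        (constantSheaf (X.smallEtaleTopology.over T) A).obj N),
      ∃ S ∈ (X.smallEtaleTopology.over T) (Over.mk (𝟙 T)),
        ∀ {W' : Over T} (g : W' ⟶ Over.mk (𝟙 T)), S g →
        ∃ h : M ⟶ N, ∀ {W'' : Over T} (_ : W'' ⟶ W')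
          (t : ToType (((constantSheaf (X.smallEtaleTopology.over T) A).obj M).obj.obj (op W''))),
          ψ.hom.app (op W'') t =
            ((constantSheaf (X.smallEtaleTopology.over T) A).map h).hom.app (op W'') t)
    (x : X) (V₁ V₂ : X.Etale) (y₁ : V₁.left) (y₂ : V₂.left) (h₁ : V₁.hom y₁ = x)
    (h₂ : V₂.hom y₂ = x)
    (α₁ : F.over V₁ ≅ (constantSheaf (X.smallEtaleTopology.over V₁) A).obj M)
    (β₂ : G.over V₂ ≅ (constantSheaf (X.smallEtaleTopology.over V₂) A).obj N) :
    ∃ (U : X.Etale) (y : U.left), U.hom y = x ∧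
      ∃ (h : M ⟶ N) (α : F.over U ≅ (constantSheaf (X.smallEtaleTopology.over U) A).obj M)
        (β : G.over U ≅ (constantSheaf (X.smallEtaleTopology.over U) A).obj N),
        (X.smallEtaleTopology.overPullback A U).map φ ≫ β.hom =
          α.hom ≫ (constantSheaf (X.smallEtaleTopology.over U) A).map h := by
  obtain ⟨T, p₁, p₂, z, hz1, hz2⟩ := exists_common V₁ V₂ y₁ y₂ (h₁.trans h₂.symm)
  obtain ⟨S, hS, hS'⟩ := local_hom_of_triv X.smallEtaleTopology φ T
    (trivOfHom X.smallEtaleTopology p₁ F α₁) (trivOfHom X.smallEtaleTopology p₂ G β₂) (hloc T)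
  obtain ⟨U, g, y, hg, hy⟩ := (mem_iff T S).1 hS z
  refine ⟨U, y, ?_, hS' g hg⟩
  have e1 : g.left ≫ T.hom = U.hom := MorphismProperty.Over.w g
  have e2 : p₁.left ≫ V₁.hom = T.hom := MorphismProperty.Over.w p₁
  rw [← e1, ← e2]
  change V₁.hom (p₁.left (g.left y)) = x
  rw [hy, hz1, h₁]

end Groth.Agent.Helper4.LocHomEt
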