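import Mathlib
import Groth.Agent.Helper4.SiteConstC

set_option autoImplicit false

/-!
# A criterion for the restriction of a sheaf to a localized site to be constant
-/

universe v u w

open CategoryTheory CategoryTheory.Limits Opposite

namespace Groth.Agent.Helper4.SiteConst

section criterion

variable {C : Type u} [Category.{v} C] (J : GrothendieckTopology C)
  {A : Type*} [Category A] {FA : A → A → Type*} {CA : A → Type w}
  [∀ X Y, FunLike (FA X Y) (CA X) (CA Y)] [ConcreteCategory.{w} A FA]

/-- a locally bijective map from a constant presheaf exhibits the target as a constant sheaf -/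
noncomputable def isoOfLocallyBijective [HasWeakSheafify J A] [J.WEqualsLocallyBijective A]
    (N : A) (R : Sheaf J A) (φ : (Functor.const Cᵒᵖ).obj N ⟶ R.obj)
    [Presheaf.IsLocallyInjective J φ] [Presheaf.IsLocallySurjective J φ] :
    (constantSheaf J A).obj N ≅ R := by
  have h1 : IsIso ((presheafToSheaf J A).map φ) := (J.W_iff φ).1 (J.W_of_isLocallyBijective φ)
  exact (@asIso _ _ _ _ _ h1) ≪≫ asIso ((sheafificationAdjunction J A).counit.app R)

lemma bot_mem_over_iff {W : C} (q : Over W) : ⊥ ∈ (J.over W) q ↔ ⊥ ∈ J q.left := by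
  rw [J.mem_over_iff]
  have : Sieve.overEquiv q ⊥ = ⊥ := (Sieve.overEquiv q).map_bot
  rw [this]

variable (W : C) (E : Sheaf J A) (N : A) (σ : N ⟶ E.obj.obj (op W))

/-- the map from the constant presheaf on `Over W` given by sections over `W` -/
noncomputable def φ : (Functor.const (Over W)ᵒᵖ).obj N ⟶ (E.over W).obj where
  app q := σ ≫ E.obj.map q.unop.hom.op
  naturality q q' k := by
    show 𝟙 N ≫ σ ≫ E.obj.map q'.unop.hom.op =
      (σ ≫ E.obj.map q.unop.hom.op) ≫ E.obj.map k.unop.left.op
    rw [Category.id_comp, Category.assoc, ← Functor.map_comp, ← op_comp, Over.w]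

lemma φ_app (q : Over W) (n : ToType N) :
    (φ J W E N σ).app (op q) n = E.obj.map q.hom.op (σ n) :=
  ConcreteCategory.comp_apply _ _ _

variable [HasWeakSheafify (J.over W) A] [(J.over W).WEqualsLocallyBijective A]

theorem iso_const_of_sections
    (hinj : ∀ {W' : C} (q : W' ⟶ W), ⊥ ∉ J W' → ∀ n n' : ToType N,
      E.obj.map q.op (σ n) = E.obj.map q.op (σ n') → n = n')
    (hsurj : ∀ {W' : C} (q : W' ⟶ W) (e : ToType (E.obj.obj (op W'))), ∃ R ∈ J W',
      ∀ {W'' : C} (r : W'' ⟶ W'), R r →
        ∃ n : ToType N, E.obj.map r.op e = E.obj.map (r ≫ q).op (σ n)) :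
    Nonempty ((constantSheaf (J.over W) A).obj N ≅ E.over W) := by
  haveI : Presheaf.IsLocallyInjective (J.over W) (φ J W E N σ) := by
    refine ⟨fun {q} x y h => ?_⟩
    by_cases hb : ⊥ ∈ J q.unop.left
    · exact (J.over W).superset_covering bot_le ((bot_mem_over_iff J q.unop).2 hb)
    · have hxy : x = y := by
        apply hinj q.unop.hom hb
        have h1 := φ_app J W E N σ q.unop x
        have h2 := φ_app J W E N σ q.unop y
        rw [← h1, ← h2]
        exact h
      rw [hxy]
      refine (J.over W).superset_covering ?_ ((J.over W).top_mem _)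
      intro Z f _
      rfl
  haveI : Presheaf.IsLocallySurjective (J.over W) (φ J W E N σ) := by
    refine ⟨fun {q} e => ?_⟩
    obtain ⟨R, hR, hR'⟩ := hsurj q.hom (show ToType (E.obj.obj (op q.left)) from e)
    rw [J.mem_over_iff]
    refine J.superset_covering ?_ hR
    intro Z r hr
    rw [Sieve.overEquiv_iff]
    obtain ⟨n, hn⟩ := hR' r hr
    refine ⟨n, ?_⟩
    rw [φ_app]
    exact hn.symm
  exact ⟨isoOfLocallyBijective (J.over W) N (E.over W) (φ J W E N σ)⟩

end criterion

end Groth.Agent.Helper4.SiteConst
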