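import Mathlib
import Groth.Agent.Helper4.SiteConstD

set_option autoImplicit false

/-!
# Extensions of constant sheaves of finitely generated modules over a Noetherian ring are locally
constant (general site)
-/

universe v u w

open CategoryTheory CategoryTheory.Limits Opposite

namespace Groth.Agent.Helper4.SiteExtMod

open Groth.Agent.Helper4.SiteConst

section generic

variable {D : Type u} [Category.{v} D] (K : GrothendieckTopology D)

/-- finitely many covering sieves have a common covering refinement -/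
lemma fin_inf_mem (k : ℕ) : ∀ (Y : D) (S : Fin k → Sieve Y), (∀ i, S i ∈ K Y) →
    ∃ R ∈ K Y, ∀ {Z : D} (r : Z ⟶ Y), R r → ∀ i, S i r := by
  induction k with
  | zero =>
    intro Y S _
    exact ⟨⊤, K.top_mem Y, fun _ _ i => i.elim0⟩
  | succ k ih =>
    intro Y S hS
    obtain ⟨R, hR, hR'⟩ := ih Y (fun i => S i.succ) (fun i => hS i.succ)
    refine ⟨R ⊓ S 0, K.intersection_covering hR (hS 0), ?_⟩
    intro Z r hr i
    refine Fin.cases ?_ (fun j => ?_) i
    · exact hr.2
    · exact hR' r hr.1 j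

end generic

variable {D : Type u} [Category.{v} D] (K : GrothendieckTopology D)
  (Λ : Type w) [CommRing Λ]
  [HasSheafify K (ModuleCat.{w} Λ)] [K.WEqualsLocallyBijective (ModuleCat.{w} Λ)]
  [K.HasSheafCompose (forget (ModuleCat.{w} Λ))]

/-- sections over `Y` -/
noncomputable abbrev Gs (Y : D) : Sheaf K (ModuleCat.{w} Λ) ⥤ ModuleCat.{w} Λ :=
  sheafToPresheaf K (ModuleCat.{w} Λ) ⋙ (evaluation _ _).obj (op Y)

variable {K Λ}

lemma mono_sec_injective {A B : Sheaf K (ModuleCat.{w} Λ)} (φ : A ⟶ B) [Mono φ] (Y : D) :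
    Function.Injective (φ.hom.app (op Y)) := by
  have : Mono ((Gs K Λ Y).map φ) := inferInstance
  exact (ModuleCat.mono_iff_injective _).1 this

variable {M' M'' : ModuleCat.{w} Λ} {E : Sheaf K (ModuleCat.{w} Λ)}
  (f : cS K M' ⟶ E) (g : E ⟶ cS K M'') (w : f ≫ g = 0)
  (hS : (ShortComplex.mk f g w).ShortExact)

include hS

lemma sec_exact (Y : D) (e : E.obj.obj (op Y)) (h : g.hom.app (op Y) e = 0) :
    ∃ a, f.hom.app (op Y) a = e := by
  haveI := hS.mono_f
  have h1 : ((ShortComplex.mk f g w).map (Gs K Λ Y)).Exact :=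
    hS.exact.map_of_mono_of_preservesKernel (Gs K Λ Y) inferInstance inferInstance
  rw [ShortComplex.moduleCat_exact_iff] at h1
  exact h1 e h

omit hS in
include w in
lemma gf_zero (Y : D) (t : (cS K M').obj.obj (op Y)) :
    g.hom.app (op Y) (f.hom.app (op Y) t) = 0 := by
  have h1 : (f ≫ g).hom.app (op Y) t = 0 := by rw [w]; rfl
  exact h1

omit hS in
lemma f_η (Y Y' : D) (q : Y' ⟶ Y) (m : M') :
    E.obj.map q.op (f.hom.app (op Y) ((η K M').app (op Y) m)) =
      f.hom.app (op Y') ((η K M').app (op Y') m) := by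
  rw [← hom_map, η_map]

omit hS

section data

variable {k l : ℕ} (gen : Fin k → M'') (rel : Fin l → (Fin k → Λ))

/-- lifts of the generators and constants for the relations, over `Y` -/
structure Data (Y : D) where
  s : Fin k → E.obj.obj (op Y)
  z : Fin l → M'
  hs : ∀ i, g.hom.app (op Y) (s i) = (η K M'').app (op Y) (gen i)
  hz : ∀ j, ∑ i, rel j i • s i = f.hom.app (op Y) ((η K M').app (op Y) (z j))

variable {f g gen rel} {Y : D} (d : Data f g gen rel Y)

/-- the parametrisation of the module of sections generated by the constants of `M'` and the lifts -/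
noncomputable def θ : (M' × (Fin k → Λ)) →ₗ[Λ] E.obj.obj (op Y) :=
  LinearMap.coprod ((f.hom.app (op Y)).hom ∘ₗ ((η K M').app (op Y)).hom)
    (Fintype.linearCombination Λ d.s)

lemma θ_apply (m' : M') (a : Fin k → Λ) :
    θ d (m', a) = f.hom.app (op Y) ((η K M').app (op Y) m') + ∑ i, a i • d.s i := by
  simp [θ, Fintype.linearCombination_apply]

include w in
lemma g_θ (m' : M') (a : Fin k → Λ) :
    g.hom.app (op Y) (θ d (m', a)) = (η K M'').app (op Y) (∑ i, a i • gen i) := by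
  rw [θ_apply, map_add, gf_zero f g w, zero_add, map_sum, map_sum]
  refine Finset.sum_congr rfl (fun i _ => ?_)
  rw [map_smul, map_smul, d.hs]

lemma θ_rel (m' : M') (c : Fin l → Λ) :
    θ d (m', fun i => ∑ j, c j * rel j i) =
      f.hom.app (op Y) ((η K M').app (op Y) (m' + ∑ j, c j • d.z j)) := by
  rw [θ_apply]
  have h1 : ∑ i, (∑ j, c j * rel j i) • d.s i = ∑ j, c j • ∑ i, rel j i • d.s i := by
    simp only [Finset.sum_smul, Finset.smul_sum, mul_smul]
    exact Finset.sum_comm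
  rw [h1, map_add, map_add, map_sum, map_sum]
  congr 1
  refine Finset.sum_congr rfl (fun j _ => ?_)
  rw [d.hz, map_smul, map_smul]

/-- the module of sections -/
noncomputable abbrev N : ModuleCat.{w} Λ := ModuleCat.of Λ (LinearMap.range (θ d))

/-- the inclusion of the module of sections -/
noncomputable abbrev σ : N d ⟶ E.obj.obj (op Y) := ModuleCat.ofHom (LinearMap.range (θ d)).subtype

instance [Module.Finite Λ M'] : Module.Finite Λ (N d) :=
  inferInstanceAs (Module.Finite Λ (LinearMap.range (θ d)))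

variable (hrel : ∀ a : Fin k → Λ, ∑ i, a i • gen i = 0 →
    ∃ c : Fin l → Λ, ∀ i, a i = ∑ j, c j * rel j i)
  (hgen : ∀ m'' : M'', ∃ a : Fin k → Λ, ∑ i, a i • gen i = m'')

include w hS hrel in
theorem inj (Y' : D) (q : Y' ⟶ Y) (hb : ⊥ ∉ K Y') (n n' : N d)
    (h : E.obj.map q.op (σ d n) = E.obj.map q.op (σ d n')) : n = n' := by
  haveI := hS.mono_f
  obtain ⟨⟨m₁, a₁⟩, h₁⟩ := n.2
  obtain ⟨⟨m₂, a₂⟩, h₂⟩ := n'.2
  have hσ : ∀ x : N d, σ d x = x.1 := fun _ => rfl
  rw [hσ, hσ, ← h₁, ← h₂, ← sub_eq_zero, ← map_sub, ← map_sub] at h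
  have h3 : (m₁, a₁) - (m₂, a₂) = (m₁ - m₂, a₁ - a₂) := rfl
  rw [h3] at h
  -- the coefficients are a relation
  have h4 := congrArg (g.hom.app (op Y')) h
  rw [hom_map, g_θ w, η_map, map_zero] at h4
  have h5 : ∑ i, (a₁ - a₂) i • gen i = 0 := by
    apply const_injective K M'' Y' hb
    rw [h4, map_zero]
  obtain ⟨c, hc⟩ := hrel _ h5
  have h6 : a₁ - a₂ = fun i => ∑ j, c j * rel j i := funext hc
  rw [h6, θ_rel, f_η] at h
  have h7 : (η K M').app (op Y') (m₁ - m₂ + ∑ j, c j • d.z j) = 0 := by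
    apply mono_sec_injective f Y'
    rw [h, map_zero]
  have h8 : m₁ - m₂ + ∑ j, c j • d.z j = 0 := by
    apply const_injective K M' Y' hb
    rw [h7, map_zero]
  have h9 : θ d (m₁, a₁) - θ d (m₂, a₂) = 0 := by
    rw [← map_sub, h3, h6, θ_rel, h8, map_zero, map_zero]
  apply Subtype.ext
  rw [← h₁, ← h₂]
  exact sub_eq_zero.1 h9

include w hS hgen in
theorem surj (Y' : D) (q : Y' ⟶ Y) (e : E.obj.obj (op Y')) :
    ∃ R ∈ K Y', ∀ {Y'' : D} (r : Y'' ⟶ Y'), R r →
      ∃ n : N d, E.obj.map r.op e = E.obj.map (r ≫ q).op (σ d n) := by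
  let S : Sieve Y' :=
    { arrows := fun Y'' r => ∃ n : N d, E.obj.map r.op e = E.obj.map (r ≫ q).op (σ d n)
      downward_closed := by
        rintro Z Z' r ⟨n, hn⟩ r'
        refine ⟨n, ?_⟩
        rw [op_comp, Functor.map_comp, ConcreteCategory.comp_apply, hn, Category.assoc,
          op_comp (f := r'), Functor.map_comp, ConcreteCategory.comp_apply] }
  refine ⟨S, ?_, fun r hr => hr⟩
  obtain ⟨R₁, hR₁, hR₁'⟩ := exists_const K M'' Y' (g.hom.app (op Y') e)
  refine K.transitive hR₁ S ?_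
  intro Y₁ r₁ hr₁
  obtain ⟨m'', hm''⟩ := hR₁' r₁ hr₁
  obtain ⟨a, ha⟩ := hgen m''
  let e₁ : E.obj.obj (op Y₁) := E.obj.map r₁.op e - E.obj.map (r₁ ≫ q).op (θ d (0, a))
  have he₁ : g.hom.app (op Y₁) e₁ = 0 := by
    show g.hom.app (op Y₁) (E.obj.map r₁.op e - E.obj.map (r₁ ≫ q).op (θ d (0, a))) = 0
    rw [map_sub, hom_map, hom_map, hm'', g_θ w, η_map, ha, sub_self]
  obtain ⟨ζ, hζ⟩ := sec_exact f g w hS Y₁ e₁ he₁
  obtain ⟨R₂, hR₂, hR₂'⟩ := exists_const K M' Y₁ ζ
  refine K.superset_covering ?_ hR₂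
  intro Y₂ r₂ hr₂
  obtain ⟨m', hm'⟩ := hR₂' r₂ hr₂
  refine ⟨⟨θ d (m', a), ⟨(m', a), rfl⟩⟩, ?_⟩
  show E.obj.map (r₂ ≫ r₁).op e = E.obj.map ((r₂ ≫ r₁) ≫ q).op (θ d (m', a))
  have h1 : E.obj.map r₂.op e₁ = f.hom.app (op Y₂) ((η K M').app (op Y₂) m') := by
    rw [← hζ, ← hom_map, hm']
  have h2 : θ d (m', a) = f.hom.app (op Y) ((η K M').app (op Y) m') + θ d (0, a) := by
    rw [θ_apply, θ_apply, map_zero, map_zero, zero_add]
  rw [h2, map_add, f_η, ← h1]
  show _ = E.obj.map r₂.op (E.obj.map r₁.op e - E.obj.map (r₁ ≫ q).op (θ d (0, a))) + _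
  rw [map_sub, Category.assoc, op_comp (f := r₂), Functor.map_comp, ConcreteCategory.comp_apply,
    op_comp (f := r₂), Functor.map_comp, ConcreteCategory.comp_apply, sub_add_cancel]

/-- restriction of the data -/
noncomputable def Data.restrict {Y' : D} (q : Y' ⟶ Y) : Data f g gen rel Y' where
  s := fun i => E.obj.map q.op (d.s i)
  z := d.z
  hs := fun i => by rw [hom_map, d.hs, η_map]
  hz := fun j => by
    have h1 : ∑ i, rel j i • E.obj.map q.op (d.s i) = E.obj.map q.op (∑ i, rel j i • d.s i) := by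
      rw [map_sum]
      refine Finset.sum_congr rfl (fun i _ => ?_)
      rw [map_smul]
    rw [h1, d.hz, f_η]

variable (f g gen rel)

include w hS in
theorem exists_data (hrel0 : ∀ j, ∑ i, rel j i • gen i = 0) (Y₀ : D) :
    ∃ R ∈ K Y₀, ∀ {Y : D} (p : Y ⟶ Y₀), R p → Nonempty (Data f g gen rel Y) := by
  haveI : Epi g := hS.epi_g
  haveI : Sheaf.IsLocallySurjective g :=
    (Sheaf.isLocallySurjective_iff_epi' (φ := g)).2 inferInstance
  let S₀ : Sieve Y₀ :=
    { arrows := fun Y _ => Nonempty (Data f g gen rel Y)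
      downward_closed := by
        rintro Z Z' r ⟨d⟩ r'
        exact ⟨d.restrict r'⟩ }
  refine ⟨S₀, ?_, fun p hp => hp⟩
  obtain ⟨R₁, hR₁, hR₁'⟩ := fin_inf_mem K k Y₀
    (fun i => Presheaf.imageSieve g.hom ((η K M'').app (op Y₀) (gen i)))
    (fun i => Presheaf.imageSieve_mem K g.hom _)
  refine K.transitive hR₁ S₀ ?_
  intro Y₁ p₁ hp₁
  have h1 := hR₁' p₁ hp₁
  choose s hs using h1
  have hs' : ∀ i, g.hom.app (op Y₁) (s i) = (η K M'').app (op Y₁) (gen i) := by
    intro i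
    rw [hs, η_map]
  have ht : ∀ j, g.hom.app (op Y₁) (∑ i, rel j i • s i) = 0 := by
    intro j
    have h2 : g.hom.app (op Y₁) (∑ i, rel j i • s i) =
        (η K M'').app (op Y₁) (∑ i, rel j i • gen i) := by
      rw [map_sum, map_sum]
      refine Finset.sum_congr rfl (fun i _ => ?_)
      rw [map_smul, map_smul, hs']
    rw [h2, hrel0, map_zero]
  choose ζ hζ using fun j => sec_exact f g w hS Y₁ _ (ht j)
  obtain ⟨R₂, hR₂, hR₂'⟩ := exists_const_fin K M' l Y₁ ζ
  refine K.superset_covering ?_ hR₂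
  intro Y₂ p₂ hp₂
  obtain ⟨z, hz⟩ := hR₂' p₂ hp₂
  refine ⟨{ s := fun i => E.obj.map p₂.op (s i), z := z, hs := fun i => ?_, hz := fun j => ?_ }⟩
  · rw [hom_map, hs', η_map]
  · have h3 : ∑ i, rel j i • E.obj.map p₂.op (s i) = E.obj.map p₂.op (∑ i, rel j i • s i) := by
      rw [map_sum]
      refine Finset.sum_congr rfl (fun i _ => ?_)
      rw [map_smul]
    rw [h3, ← hζ, ← hom_map, hz]

end data

end Groth.Agent.Helper4.SiteExtMod
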