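import Mathlib
import Groth.Agent.Helper4.SiteExtMod

set_option autoImplicit false

/-!
# Extensions of locally constant sheaves of finitely generated modules: the localized form
-/

universe v u w

open CategoryTheory CategoryTheory.Limits Opposite

namespace Groth.Agent.Helper4.SiteExtMod

open Groth.Agent.Helper4.SiteConst

/-- a finite presentation of a finitely generated module over a Noetherian ring -/
lemma exists_presentation (Λ : Type w) [CommRing Λ] [IsNoetherianRing Λ] (M'' : Type w)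
    [AddCommGroup M''] [Module Λ M''] [Module.Finite Λ M''] :
    ∃ (k l : ℕ) (gen : Fin k → M'') (rel : Fin l → Fin k → Λ),
      (∀ m'' : M'', ∃ a : Fin k → Λ, ∑ i, a i • gen i = m'') ∧
      (∀ j, ∑ i, rel j i • gen i = 0) ∧
      (∀ a : Fin k → Λ, ∑ i, a i • gen i = 0 → ∃ c : Fin l → Λ, ∀ i, a i = ∑ j, c j * rel j i) := by
  obtain ⟨k, gen, hgen⟩ := Module.Finite.exists_fin (R := Λ) (M := M'')
  have hfg : (LinearMap.ker (Fintype.linearCombination Λ gen)).FG := IsNoetherian.noetherian _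
  obtain ⟨l, rel, hrel⟩ := Submodule.fg_iff_exists_fin_generating_family.1 hfg
  refine ⟨k, l, gen, rel, ?_, ?_, ?_⟩
  · intro m''
    have : m'' ∈ Submodule.span Λ (Set.range gen) := by rw [hgen]; trivial
    exact (Submodule.mem_span_range_iff_exists_fun Λ).1 this
  · intro j
    have : rel j ∈ LinearMap.ker (Fintype.linearCombination Λ gen) := by
      rw [← hrel]
      exact Submodule.subset_span ⟨j, rfl⟩
    rw [LinearMap.mem_ker, Fintype.linearCombination_apply] at this
    exact this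
  · intro a ha
    have : a ∈ LinearMap.ker (Fintype.linearCombination Λ gen) := by
      rw [LinearMap.mem_ker, Fintype.linearCombination_apply]
      exact ha
    rw [← hrel] at this
    obtain ⟨c, hc⟩ := (Submodule.mem_span_range_iff_exists_fun Λ).1 this
    refine ⟨c, fun i => ?_⟩
    rw [← hc]
    simp [Finset.sum_apply]

variable {C : Type u} [Category.{v} C] (J : GrothendieckTopology C) (Λ : Type w) [CommRing Λ]
  [IsNoetherianRing Λ]
  [∀ W : C, HasSheafify (J.over W) (ModuleCat.{w} Λ)]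
  [∀ W : C, (J.over W).WEqualsLocallyBijective (ModuleCat.{w} Λ)]
  [∀ W : C, (J.over W).HasSheafCompose (forget (ModuleCat.{w} Λ))]

theorem exists_iso_const_over (T : C) {M' M'' : ModuleCat.{w} Λ} [Module.Finite Λ M']
    [Module.Finite Λ M''] (E : Sheaf J (ModuleCat.{w} Λ))
    (f : cS (J.over T) M' ⟶ E.over T) (g : E.over T ⟶ cS (J.over T) M'') (w' : f ≫ g = 0)
    (hS : (ShortComplex.mk f g w').ShortExact) :
    ∃ R ∈ J T, ∀ {W : C} (p : W ⟶ T), R p → ∃ (N : ModuleCat.{w} Λ), Module.Finite Λ N ∧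
      Nonempty ((constantSheaf (J.over W) (ModuleCat.{w} Λ)).obj N ≅ E.over W) := by
  obtain ⟨k, l, gen, rel, hgen, hrel0, hrel⟩ := exists_presentation Λ M''
  obtain ⟨R₀, hR₀, hR₀'⟩ := exists_data f g w' hS gen rel hrel0 (Over.mk (𝟙 T))
  refine ⟨Sieve.overEquiv _ R₀, (J.mem_over_iff R₀).1 hR₀, ?_⟩
  intro W p hp
  obtain ⟨d⟩ := hR₀' _ ((Sieve.overEquiv_iff R₀ p).1 hp)
  refine ⟨N d, inferInstance, ?_⟩
  refine iso_const_of_sections J W E (N d) (σ d) ?_ ?_
  · intro W' q hb n n' h
    have hb' : ⊥ ∉ (J.over T) (Over.mk (q ≫ p ≫ 𝟙 T)) := fun hbot =>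
      hb ((bot_mem_over_iff J _).1 hbot)
    exact inj w' hS d hrel (Over.mk (q ≫ p ≫ 𝟙 T)) (Over.homMk q) hb' n n' h
  · intro W' q e
    obtain ⟨R', hR', hR''⟩ := surj w' hS d hgen (Over.mk (q ≫ p ≫ 𝟙 T)) (Over.homMk q) e
    refine ⟨Sieve.overEquiv _ R', (J.mem_over_iff R').1 hR', ?_⟩
    intro W'' r hr
    exact hR'' _ ((Sieve.overEquiv_iff R' r).1 hr)

end Groth.Agent.Helper4.SiteExtMod
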