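import Mathlib
import Groth.Prelude.Def_EtMod2
import Groth.Agent.Helper4.SiteExtModB
import Groth.Agent.Helper4.LocHomEt

set_option autoImplicit false

/-!
# Finite type locally constant sheaves of modules over a Noetherian ring form a weak Serre
subcategory
-/

universe u

open CategoryTheory CategoryTheory.Limits AlgebraicGeometry Opposite

namespace Groth.Agent.Helper4.FtlcSerre

open Groth.Agent.Helper4.SiteConst Groth.Agent.Helper4.EtGeom Groth.Agent.Helper4.LocHomEt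
open Groth.Agent.Helper4.SiteExtMod

variable (Λ : Type (u + 1)) [CommRing Λ] {X : Scheme.{u}}

instance (T : X.Etale) :
    PreservesFiniteColimits (X.smallEtaleTopology.overPullback (ModuleCat.{u + 1} Λ) T) := by
  have adj := (Over.forget T).sheafAdjunctionCocontinuous (ModuleCat.{u + 1} Λ)
    (X.smallEtaleTopology.over T) X.smallEtaleTopology
  have : PreservesColimitsOfSize.{0, 0}
      (X.smallEtaleTopology.overPullback (ModuleCat.{u + 1} Λ) T) :=
    adj.leftAdjoint_preservesColimits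
  exact PreservesColimitsOfSize.preservesFiniteColimits _

instance (T : X.Etale) :
    (X.smallEtaleTopology.overPullback (ModuleCat.{u + 1} Λ) T).Additive := by
  have : PreservesBinaryBiproducts (X.smallEtaleTopology.overPullback (ModuleCat.{u + 1} Λ) T) :=
    preservesBinaryBiproducts_of_preservesBinaryProducts _
  exact Functor.additive_of_preservesBinaryBiproducts _

instance (T : X.Etale) :
    PreservesFiniteLimits (constantSheaf (X.smallEtaleTopology.over T) (ModuleCat.{u + 1} Λ)) := by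
  unfold constantSheaf
  infer_instance

instance (T : X.Etale) :
    PreservesFiniteColimits (constantSheaf (X.smallEtaleTopology.over T) (ModuleCat.{u + 1} Λ)) := by
  unfold constantSheaf
  infer_instance

/-- pointwise form of finite type local constancy -/
def LCM (F : EtModW.Mod Λ X) (x : X) : Prop :=
  ∃ (U : X.Etale) (y : U.left), U.hom y = x ∧ ∃ (M : ModuleCat.{u + 1} Λ), Module.Finite Λ M ∧
    Nonempty (F.over U ≅ (constantSheaf (X.smallEtaleTopology.over U) (ModuleCat.{u + 1} Λ)).obj M)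

lemma ftlc_iff_forall_LCM (F : EtModW.Mod Λ X) :
    EtModW.IsFTLocConst Λ F ↔ ∀ x, LCM Λ F x := by
  constructor
  · rintro ⟨ι, U, hU, h⟩ x
    obtain ⟨i, y, hy⟩ := hU x
    obtain ⟨M, i1, i2, i3, hM⟩ := h i
    exact ⟨U i, y, hy, ModuleCat.of Λ M, i3, hM⟩
  · intro h
    choose U y hy M hM hiso using h
    exact ⟨↥X, U, fun x => ⟨x, y x, hy x⟩, fun x => ⟨M x, inferInstance, inferInstance, hM x, hiso x⟩⟩

variable [IsNoetherianRing Λ]

theorem lcm_ext (S : ShortComplex (EtModW.Mod Λ X)) (hS : S.ShortExact) {x : X}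
    (h1 : LCM Λ S.X₁ x) (h3 : LCM Λ S.X₃ x) : LCM Λ S.X₂ x := by
  obtain ⟨V₁, y₁, hy₁, M', fM', ⟨α'⟩⟩ := h1
  obtain ⟨V₂, y₂, hy₂, M'', fM'', ⟨α''⟩⟩ := h3
  obtain ⟨T, p₁, p₂, z, hz1, hz2⟩ := exists_common V₁ V₂ y₁ y₂ (hy₁.trans hy₂.symm)
  let αT' := trivOfHom X.smallEtaleTopology p₁ S.X₁ α'
  let αT'' := trivOfHom X.smallEtaleTopology p₂ S.X₃ α''
  let oP := X.smallEtaleTopology.overPullback (ModuleCat.{u + 1} Λ) T
  have hS' : (S.map oP).ShortExact := hS.map_of_exact oP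
  have w' : (αT'.inv ≫ oP.map S.f) ≫ (oP.map S.g ≫ αT''.hom) = 0 := by
    rw [Category.assoc, ← Category.assoc (oP.map S.f), ← Functor.map_comp, S.zero,
      Functor.map_zero, zero_comp, comp_zero]
  have e : S.map oP ≅ ShortComplex.mk (αT'.inv ≫ oP.map S.f) (oP.map S.g ≫ αT''.hom) w' :=
    ShortComplex.isoMk αT' (Iso.refl _) αT''
      (by
        show αT'.hom ≫ αT'.inv ≫ oP.map S.f = oP.map S.f ≫ 𝟙 _
        rw [Iso.hom_inv_id_assoc, Category.comp_id])
      (by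
        show 𝟙 _ ≫ oP.map S.g ≫ αT''.hom = oP.map S.g ≫ αT''.hom
        rw [Category.id_comp])
  have hS'' := ShortComplex.shortExact_of_iso e hS'
  obtain ⟨R, hR, hR'⟩ := exists_iso_const_over X.smallEtaleTopology Λ T S.X₂ _ _ w' hS''
  obtain ⟨U, q, y, hq, hy⟩ := (mem_iff T R).1 hR z
  obtain ⟨N, fN, ⟨β⟩⟩ := hR' q hq
  refine ⟨U, y, ?_, N, fN, ⟨β.symm⟩⟩
  have e1 : q.left ≫ T.hom = U.hom := MorphismProperty.Over.w q
  have e2 : p₁.left ≫ V₁.hom = T.hom := MorphismProperty.Over.w p₁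
  rw [← e1, ← e2]
  change V₁.hom (p₁.left (q.left y)) = x
  rw [hy, hz1, hy₁]

theorem ftlc_ext (S : ShortComplex (EtModW.Mod Λ X)) (hS : S.ShortExact)
    (h1 : EtModW.IsFTLocConst Λ S.X₁) (h3 : EtModW.IsFTLocConst Λ S.X₃) :
    EtModW.IsFTLocConst Λ S.X₂ := by
  rw [ftlc_iff_forall_LCM] at h1 h3 ⊢
  exact fun x => lcm_ext Λ S hS (h1 x) (h3 x)

omit [IsNoetherianRing Λ] in
lemma finite_cokernel {M N : ModuleCat.{u + 1} Λ} [Module.Finite Λ N] (h : M ⟶ N) :
    Module.Finite Λ (cokernel h : ModuleCat.{u + 1} Λ) :=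
  Module.Finite.equiv (ModuleCat.cokernelIsoRangeQuotient h).symm.toLinearEquiv

lemma finite_kernel {M N : ModuleCat.{u + 1} Λ} [Module.Finite Λ M] (h : M ⟶ N) :
    Module.Finite Λ (kernel h : ModuleCat.{u + 1} Λ) := by
  haveI : IsNoetherian Λ M := isNoetherian_of_isNoetherianRing_of_finite Λ M
  exact Module.Finite.equiv (ModuleCat.kernelIsoKer h).symm.toLinearEquiv

theorem lcm_kernel_cokernel {F G : EtModW.Mod Λ X} (φ : F ⟶ G) {x : X}
    (hF : LCM Λ F x) (hG : LCM Λ G x) : LCM Λ (kernel φ) x ∧ LCM Λ (cokernel φ) x := by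
  obtain ⟨V₁, y₁, hy₁, M, fM, ⟨α₁⟩⟩ := hF
  obtain ⟨V₂, y₂, hy₂, N, fN, ⟨β₂⟩⟩ := hG
  obtain ⟨U, y, hy, h, α, β, e⟩ := exists_local (A := ModuleCat.{u + 1} Λ) φ (M := M) (N := N)
    (fun T ψ => exists_local_hom_mod (X.smallEtaleTopology.over T) Λ ψ (Over.mk (𝟙 T)))
    x V₁ V₂ y₁ y₂ hy₁ hy₂ α₁ β₂
  let oP := X.smallEtaleTopology.overPullback (ModuleCat.{u + 1} Λ) U
  let cst := constantSheaf (X.smallEtaleTopology.over U) (ModuleCat.{u + 1} Λ)
  constructor
  · refine ⟨U, y, hy, kernel h, finite_kernel Λ h, ⟨?_⟩⟩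
    exact PreservesKernel.iso oP φ ≪≫ kernel.mapIso (oP.map φ) (cst.map h) α β e ≪≫
      (PreservesKernel.iso cst h).symm
  · refine ⟨U, y, hy, cokernel h, finite_cokernel Λ h, ⟨?_⟩⟩
    exact PreservesCokernel.iso oP φ ≪≫ cokernel.mapIso (oP.map φ) (cst.map h) α β e ≪≫
      (PreservesCokernel.iso cst h).symm

theorem ftlc_kernel_cokernel {F G : EtModW.Mod Λ X} (φ : F ⟶ G)
    (hF : EtModW.IsFTLocConst Λ F) (hG : EtModW.IsFTLocConst Λ G) :
    EtModW.IsFTLocConst Λ (kernel φ) ∧ EtModW.IsFTLocConst Λ (cokernel φ) := by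
  rw [ftlc_iff_forall_LCM] at hF hG
  rw [ftlc_iff_forall_LCM, ftlc_iff_forall_LCM]
  exact ⟨fun x => (lcm_kernel_cokernel Λ φ (hF x) (hG x)).1,
    fun x => (lcm_kernel_cokernel Λ φ (hF x) (hG x)).2⟩

end Groth.Agent.Helper4.FtlcSerre
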