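import Mathlib
import Groth.Prelude.Def_Curv2

set_option autoImplicit false
open CategoryTheory Limits AlgebraicGeometry TopologicalSpace Opposite
universe u

namespace Groth.Agent.Helper4.GGExt

section Cat
universe v w
variable {C : Type w} [Category.{v} C] [HasZeroMorphisms C]

theorem epi_desc_sum (U : C) (I J : Type u) [HasCoproduct (fun _ : I => U)]
    [HasCoproduct (fun _ : J => U)] [HasCoproduct (fun _ : I ⊕ J => U)] {A B : C}
    [HasBinaryBiproduct A B] (a : (∐ fun _ : I => U) ⟶ A) (b : (∐ fun _ : J => U) ⟶ B)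
    [Epi a] [Epi b] :
    Epi (Sigma.desc (fun k : I ⊕ J => Sum.elim
      (fun i => Sigma.ι (fun _ : I => U) i ≫ a ≫ biprod.inl)
      (fun j => Sigma.ι (fun _ : J => U) j ≫ b ≫ biprod.inr) k) :
        (∐ fun _ : I ⊕ J => U) ⟶ A ⊞ B) := by
  refine ⟨fun {Z} h k hhk => ?_⟩
  apply biprod.hom_ext'
  · rw [← cancel_epi a]
    apply Sigma.hom_ext
    intro i
    have := congrArg (fun m => Sigma.ι (fun _ : I ⊕ J => U) (Sum.inl i) ≫ m) hhk
    simpa using this
  · rw [← cancel_epi b]
    apply Sigma.hom_ext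
    intro j
    have := congrArg (fun m => Sigma.ι (fun _ : I ⊕ J => U) (Sum.inr j) ≫ m) hhk
    simpa using this

end Cat

variable {X : Scheme.{u}}

/-- lift a compatible family of sections along a morphism surjective on global sections. -/
theorem exists_sections_lift {F G : X.Modules} (g : F ⟶ G)
    (hsurj : Function.Surjective (g.val.app (op ⊤)).hom)
    (s : SheafOfModules.sections (R := X.ringCatSheaf) G) :
    ∃ t : SheafOfModules.sections (R := X.ringCatSheaf) F,
      SheafOfModules.sectionsMap (R := X.ringCatSheaf) g t = s := by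
  obtain ⟨t0, ht0⟩ := hsurj (s.1 (op ⊤))
  refine ⟨PresheafOfModules.sectionsMk
    (fun U => F.val.map (homOfLE (le_top : U.unop ≤ ⊤)).op t0) ?_, ?_⟩
  · intro U V f
    rw [← PresheafOfModules.map_comp_apply]
    rfl
  · apply PresheafOfModules.sections_ext
    intro U
    change (g.val.app U).hom (F.val.map (homOfLE (le_top : U.unop ≤ ⊤)).op t0) = s.1 U
    rw [PresheafOfModules.naturality_apply, ht0]
    exact s.2 _


section Ab
universe v w
variable {C : Type w} [Category.{v} C] [Abelian C]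

theorem epi_biprod_desc_of_shortExact (S : ShortComplex C) (hS : S.ShortExact) {P₁ P₃ : C}
    (p₁ : P₁ ⟶ S.X₁) (q : P₃ ⟶ S.X₂) [Epi p₁] [Epi (q ≫ S.g)] :
    Epi (biprod.desc (p₁ ≫ S.f) q) := by
  let S₁ : ShortComplex C :=
    ShortComplex.mk (biprod.inl : P₁ ⟶ P₁ ⊞ P₃) (biprod.snd : P₁ ⊞ P₃ ⟶ P₃) biprod.inl_snd
  let φ : S₁ ⟶ S := ShortComplex.homMk p₁ (biprod.desc (p₁ ≫ S.f) q) (q ≫ S.g)
    (by simp [S₁])
    (by
      apply biprod.hom_ext'
      · simp [S₁]
      · simp [S₁])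
  haveI : Epi S₁.g := by dsimp [S₁]; infer_instance
  haveI : Epi S.g := hS.epi_g
  haveI : Epi φ.τ₁ := ‹Epi p₁›
  haveI : Epi φ.τ₃ := ‹Epi (q ≫ S.g)›
  exact ShortComplex.epi_τ₂_of_exact_of_epi φ hS.exact

end Ab


set_option backward.isDefEq.respectTransparency false in
theorem isGloballyGenerated_of_shortExact (S : ShortComplex X.Modules) (hS : S.ShortExact)
    (hsurj : Function.Surjective (S.g.val.app (op ⊤)).hom)
    (h1 : Curv2.IsGloballyGenerated S.X₁) (h3 : Curv2.IsGloballyGenerated S.X₃) :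
    Curv2.IsGloballyGenerated S.X₂ := by
  obtain ⟨I, p₁, hp₁⟩ := h1
  obtain ⟨J, p₃, hp₃⟩ := h3
  let s₃ := SheafOfModules.freeHomEquiv (R := X.ringCatSheaf) S.X₃ p₃
  choose t ht using fun j => exists_sections_lift S.g hsurj (s₃ j)
  let q : (SheafOfModules.free J : X.Modules) ⟶ S.X₂ :=
    (SheafOfModules.freeHomEquiv (R := X.ringCatSheaf) S.X₂).symm t
  have hq : q ≫ S.g = p₃ := by
    have h := SheafOfModules.freeHomEquiv_symm_comp (R := X.ringCatSheaf) t S.g
    refine h.trans ?_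
    apply (SheafOfModules.freeHomEquiv (R := X.ringCatSheaf) S.X₃).injective
    rw [Equiv.apply_symm_apply]
    funext j
    exact ht j
  let P₁ : X.Modules := SheafOfModules.free I
  let P₃ : X.Modules := SheafOfModules.free J
  haveI : Epi (q ≫ S.g) := by rw [hq]; exact hp₃
  haveI hp₁' : @Epi X.Modules _ P₁ S.X₁ p₁ := hp₁
  have hφ₂ := epi_biprod_desc_of_shortExact (C := X.Modules) S hS (P₁ := P₁) (P₃ := P₃) p₁ q
  have hr := epi_desc_sum (C := X.Modules) (Coh.structureModule X) I J (A := P₁) (B := P₃)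
    (𝟙 _) (𝟙 _)
  exact ⟨I ⊕ J, _ ≫ _, @epi_comp _ _ _ _ _ _ hr _ hφ₂⟩


end Groth.Agent.Helper4.GGExt
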