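import Mathlib
import Groth.Prelude.Def_CohTop

/-!
# Grothendieck vanishing, part 1: subsheaves cut out by a local condition
-/

set_option autoImplicit false

namespace Groth.Agent.Helper4.GV

open CategoryTheory Limits TopologicalSpace Opposite

universe u
variable {X : TopCat.{u}}

/-- restriction of sections -/
noncomputable abbrev rs (F : CohTop.Ab X) {W W' : Opens X} (h : W' ≤ W) :
    F.obj.obj (op W) →+ F.obj.obj (op W') := (F.obj.map (homOfLE h).op).hom

lemma rs_rs (F : CohTop.Ab X) {W W' W'' : Opens X} (h : W' ≤ W) (h' : W'' ≤ W')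
    (s : F.obj.obj (op W)) : rs F h' (rs F h s) = rs F (h'.trans h) s := by
  show (F.obj.map (homOfLE h').op).hom ((F.obj.map (homOfLE h).op).hom s) = _
  rw [← AddCommGrpCat.comp_apply, ← F.obj.map_comp]
  rfl

lemma rs_self (F : CohTop.Ab X) {W : Opens X} (s : F.obj.obj (op W)) : rs F le_rfl s = s := by
  show (F.obj.map (homOfLE le_rfl).op).hom s = s
  have : (homOfLE (le_refl W)).op = 𝟙 (op W) := rfl
  rw [this, F.obj.map_id]
  rfl

lemma map_eq_rs (F : CohTop.Ab X) {A B : (Opens X)ᵒᵖ} (i : A ⟶ B) (s : F.obj.obj A) :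
    (F.obj.map i).hom s = rs F (W := A.unop) (W' := B.unop) i.unop.le s := rfl

lemma hom_rs {F G : CohTop.Ab X} (φ : F ⟶ G) {W W' : Opens X} (h : W' ≤ W)
    (s : F.obj.obj (op W)) :
    (φ.hom.app (op W')).hom (rs F h s) = rs G h ((φ.hom.app (op W)).hom s) := by
  have := congrArg (fun f => f.hom s) (φ.hom.naturality (homOfLE h).op)
  exact this

/-- separatedness -/
lemma eq_zero_of_locally (F : CohTop.Ab X) {W : Opens X} (s : F.obj.obj (op W))
    (h : ∀ x ∈ W, ∃ (N : Opens X) (hN : N ≤ W), x ∈ N ∧ rs F hN s = 0) : s = 0 := by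
  choose N hN hx hs using h
  refine TopCat.Sheaf.eq_of_locally_eq' (C := AddCommGrpCat.{u}) F
    (fun x : W => N x.1 x.2) W (fun x => homOfLE (hN x.1 x.2)) ?_ s 0 (fun x => ?_)
  · intro x hxW
    exact Opens.mem_iSup.mpr ⟨⟨x, hxW⟩, hx x hxW⟩
  · rw [map_zero]
    exact hs x.1 x.2

lemma eq_of_locally (F : CohTop.Ab X) {W : Opens X} (s t : F.obj.obj (op W))
    (h : ∀ x ∈ W, ∃ (N : Opens X) (hN : N ≤ W), x ∈ N ∧ rs F hN s = rs F hN t) : s = t := by
  rw [← sub_eq_zero]
  refine eq_zero_of_locally F _ (fun x hx => ?_)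
  obtain ⟨N, hN, hxN, he⟩ := h x hx
  exact ⟨N, hN, hxN, by rw [map_sub, he, sub_self]⟩

/-- A local condition on sections of `F` cutting out subgroups. -/
structure LocPred (F : CohTop.Ab X) where
  S : ∀ W : Opens X, AddSubgroup (F.obj.obj (op W))
  res : ∀ {W W' : Opens X} (h : W' ≤ W) (s : F.obj.obj (op W)), s ∈ S W → rs F h s ∈ S W'
  loc : ∀ (W : Opens X) (s : F.obj.obj (op W)),
    (∀ x ∈ W, ∃ (V : Opens X) (hV : V ≤ W), x ∈ V ∧ rs F hV s ∈ S V) → s ∈ S W

namespace LocPred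

variable {F : CohTop.Ab X} (P : LocPred F)

/-- the restriction maps of the subpresheaf -/
noncomputable def resHom {W W' : Opens X} (h : W' ≤ W) : P.S W →+ P.S W' :=
  ((rs F h).comp (P.S W).subtype).codRestrict (P.S W') (fun s => P.res h s.1 s.2)

@[simp] lemma resHom_coe {W W' : Opens X} (h : W' ≤ W) (s : P.S W) :
    ((P.resHom h s : P.S W') : F.obj.obj (op W')) = rs F h s.1 := rfl

/-- the subpresheaf -/
noncomputable def presheaf : (Opens X)ᵒᵖ ⥤ AddCommGrpCat.{u} where
  obj A := AddCommGrpCat.of (P.S A.unop)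
  map {A B} i := AddCommGrpCat.ofHom (P.resHom i.unop.le)
  map_id A := by
    ext s
    exact rs_self F s.1
  map_comp {A B C} i j := by
    ext s
    exact (rs_rs F _ _ s.1).symm

lemma isSheaf : TopCat.Presheaf.IsSheaf P.presheaf := by
  rw [TopCat.Presheaf.isSheaf_iff_isSheafUniqueGluing]
  intro ι U sf hsf
  let sf' : ∀ i, F.obj.obj (op (U i)) := fun i => (sf i).1
  have hc : TopCat.Presheaf.IsCompatible F.obj U sf' := fun i j =>
    congrArg Subtype.val (hsf i j)
  obtain ⟨s, hs, hu⟩ := TopCat.Sheaf.existsUnique_gluing F U sf' hc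
  have hsP : s ∈ P.S (iSup U) := P.loc _ s (fun x hx => by
    obtain ⟨i, hi⟩ := Opens.mem_iSup.mp hx
    refine ⟨U i, le_iSup U i, hi, ?_⟩
    have : rs F (le_iSup U i) s = sf' i := hs i
    rw [this]
    exact (sf i).2)
  refine ⟨⟨s, hsP⟩, fun i => Subtype.ext (hs i), fun t ht => Subtype.ext (hu t.1 (fun i => ?_))⟩
  exact congrArg Subtype.val (ht i)

/-- the subsheaf -/
noncomputable def sheaf : CohTop.Ab X := ⟨P.presheaf, P.isSheaf⟩

/-- the inclusion of the subsheaf -/
noncomputable def ι : P.sheaf ⟶ F :=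
  ⟨{ app := fun A => AddCommGrpCat.ofHom (P.S A.unop).subtype
     naturality := fun A B i => by
      ext s
      rfl }⟩

@[simp] lemma ι_app_apply (W : Opens X) (s : P.S W) :
    (P.ι.hom.app (op W)).hom s = s.1 := rfl

instance mono_ι : Mono P.ι := by
  have : ∀ A, Mono (P.ι.hom.app A) := fun A => by
    rw [AddCommGrpCat.mono_iff_injective]
    exact Subtype.val_injective
  have : Mono P.ι.hom := NatTrans.mono_of_mono_app _
  exact Sheaf.Hom.mono_of_presheaf_mono _ _ _

/-- inclusion between subsheaves -/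
noncomputable def incl (P Q : LocPred F) (h : ∀ W, P.S W ≤ Q.S W) : P.sheaf ⟶ Q.sheaf :=
  ⟨{ app := fun A => AddCommGrpCat.ofHom (AddSubgroup.inclusion (h A.unop))
     naturality := fun A B i => by
      ext s
      rfl }⟩

@[simp] lemma incl_app_apply (P Q : LocPred F) (h : ∀ W, P.S W ≤ Q.S W) (W : Opens X)
    (s : P.S W) : ((incl P Q h).hom.app (op W)).hom s = ⟨s.1, h W s.2⟩ := rfl

@[reassoc (attr := simp)]
lemma incl_ι (P Q : LocPred F) (h : ∀ W, P.S W ≤ Q.S W) : incl P Q h ≫ Q.ι = P.ι := rfl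

end LocPred

end Groth.Agent.Helper4.GV
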