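import Groth.Agent.Helper4.GV2

/-!
# Grothendieck vanishing, part 3: `j_* j^* F`
-/

set_option autoImplicit false

namespace Groth.Agent.Helper4.GV

open CategoryTheory Limits TopologicalSpace Opposite

universe u
variable {X : TopCat.{u}}

/-- `W ∩ V`, as the image of the preimage -/
noncomputable abbrev capV (V W : Opens X) : Opens X :=
  V.isOpenEmbedding.isOpenMap.functor.obj ((Opens.map V.inclusion').obj W)

lemma mem_capV {V W : Opens X} {x : X} : x ∈ capV V W ↔ x ∈ W ∧ x ∈ V := by
  constructor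
  · rintro ⟨y, hy, rfl⟩
    exact ⟨hy, y.2⟩
  · rintro ⟨hW, hV⟩
    exact ⟨⟨x, hV⟩, hW, rfl⟩

lemma capV_le_left (V W : Opens X) : capV V W ≤ W := fun _ hx => (mem_capV.mp hx).1

lemma capV_le_right (V W : Opens X) : capV V W ≤ V := fun _ hx => (mem_capV.mp hx).2

lemma le_capV {V W N : Opens X} (h : N ≤ W) (h' : N ≤ V) : N ≤ capV V W :=
  fun _ hx => mem_capV.mpr ⟨h hx, h' hx⟩

lemma capV_mono (V : Opens X) {W W' : Opens X} (h : W' ≤ W) : capV V W' ≤ capV V W :=
  fun _ hx => mem_capV.mpr ⟨h (mem_capV.mp hx).1, (mem_capV.mp hx).2⟩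

/-- `j_* j^* F` for the inclusion `j` of the open `V` -/
noncomputable abbrev pushU (F : CohTop.Ab X) (V : Opens X) : CohTop.Ab X :=
  (CohTop.push V.inclusion').obj (CohTop.restr F V)

lemma pushU_map (F : CohTop.Ab X) (V : Opens X) {W W' : Opens X} (h : W' ≤ W)
    (s : F.obj.obj (op (capV V W))) :
    rs (pushU F V) h s = rs F (capV_mono V h) s := rfl

/-- the restriction map `F ⟶ j_* j^* F` -/
noncomputable def toPush (F : CohTop.Ab X) (V : Opens X) : F ⟶ pushU F V :=
  ⟨{ app := fun A => F.obj.map (homOfLE (capV_le_left V A.unop)).op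
     naturality := fun A B i => by
      ext s
      show rs F (capV_le_left V B.unop) (rs F i.unop.le s) =
        rs F (capV_mono V i.unop.le) (rs F (capV_le_left V A.unop) s)
      rw [rs_rs, rs_rs] }⟩

lemma toPush_apply (F : CohTop.Ab X) (V : Opens X) (W : Opens X) (s : F.obj.obj (op W)) :
    ((toPush F V).hom.app (op W)).hom s = rs F (capV_le_left V W) s := rfl

/-- the inclusion `j_! j^* F ⟶ j_* j^* F` -/
noncomputable def subToPush (F : CohTop.Ab X) (V : Opens X) : subU F V ⟶ pushU F V :=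
  (subUPred F V).ι ≫ toPush F V

lemma subToPush_apply (F : CohTop.Ab X) (V : Opens X) (W : Opens X) (s : (subUPred F V).S W) :
    ((subToPush F V).hom.app (op W)).hom s = rs F (capV_le_left V W) s.1 := rfl

lemma subToPush_injective (F : CohTop.Ab X) (V : Opens X) (W : Opens X) :
    Function.Injective ((subToPush F V).hom.app (op W)).hom := by
  rw [injective_iff_map_eq_zero]
  intro s hs
  have hs' : rs F (capV_le_left V W) s.1 = 0 := hs
  apply Subtype.ext
  refine eq_zero_of_locally F s.1 (fun x hx => ?_)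
  by_cases hxV : x ∈ V
  · exact ⟨capV V W, capV_le_left V W, mem_capV.mpr ⟨hx, hxV⟩, hs'⟩
  · exact s.2 x hx hxV

instance mono_subToPush (F : CohTop.Ab X) (V : Opens X) : Mono (subToPush F V) := by
  have : ∀ A, Mono ((subToPush F V).hom.app A) := fun A => by
    rw [AddCommGrpCat.mono_iff_injective]
    exact subToPush_injective F V A.unop
  have : Mono (subToPush F V).hom := NatTrans.mono_of_mono_app _
  exact Sheaf.Hom.mono_of_presheaf_mono _ _ _

lemma suppIn_pushU {F : CohTop.Ab X} {Y : Set X} (hF : SuppIn F Y) (V : Opens X) :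
    SuppIn (pushU F V) Y := by
  intro W hW s
  exact hF (capV V W) (hW.mono_left (capV_le_left V W)) s

/-- the quotient `j_* j^* F / j_! j^* F` is supported outside `V` and inside the support of `F` -/
lemma suppIn_cokernel_subToPush {F : CohTop.Ab X} {Y : Set X} (hY : IsClosed Y)
    (hF : SuppIn F Y) (V : Opens X) :
    SuppIn (cokernel (subToPush F V)) (Y ∩ (V : Set X)ᶜ) := by
  apply suppIn_cokernel
  intro x hx
  by_cases hxV : x ∈ V
  · refine ⟨V, hxV, fun W' hW' (s : F.obj.obj (op (capV V W'))) => ?_⟩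
    have hle : W' ≤ capV V W' := le_capV le_rfl hW'
    refine ⟨⟨rs F hle s, by rw [subUPred_eq_top F V hW']; trivial⟩, ?_⟩
    show rs F (capV_le_left V W') (rs F hle s) = s
    rw [rs_rs]
    exact rs_self F s
  · have hxY : x ∉ Y := fun hxY => hx ⟨hxY, hxV⟩
    refine ⟨⟨Yᶜ, hY.isOpen_compl⟩, hxY, fun W' hW' s => ⟨0, ?_⟩⟩
    rw [map_zero]
    refine (suppIn_pushU hF V W' ?_ s).symm
    rw [Set.disjoint_left]
    intro y hy hyY
    exact hW' hy hyY

/-- the short complex `0 → j_! j^* F → j_* j^* F → Q → 0` -/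
noncomputable def pushSC (F : CohTop.Ab X) (V : Opens X) : ShortComplex (CohTop.Ab X) :=
  ShortComplex.mk (subToPush F V) (cokernel.π (subToPush F V)) (cokernel.condition _)

lemma pushSC_shortExact (F : CohTop.Ab X) (V : Opens X) : (pushSC F V).ShortExact where
  exact := ShortComplex.exact_cokernel _
  mono_f := by dsimp [pushSC]; infer_instance
  epi_g := by dsimp [pushSC]; infer_instance

/-- flasqueness of `j_* j^* F` in terms of sections -/
lemma isFlasque_pushU (F : CohTop.Ab X) (V : Opens X)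
    (h : ∀ (W W' : Opens X) (hW : W' ≤ W) (hWV : W ≤ V) (s : F.obj.obj (op W')),
      ∃ t : F.obj.obj (op W), rs F hW t = s) :
    TopCat.Sheaf.IsFlasque (pushU F V) where
  epi {A B} i := by
    rw [AddCommGrpCat.epi_iff_surjective]
    intro s
    obtain ⟨t, ht⟩ := h (capV V A.unop) (capV V B.unop) (capV_mono V i.unop.le)
      (capV_le_right V A.unop) s
    exact ⟨t, ht⟩

end Groth.Agent.Helper4.GV
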