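import Groth.Agent.Helper4.GV3
import Groth.Agent.S0453
import Groth.Agent.Helper1.ColimCoh
import Groth.Agent.Helper1.MVTop6

/-!
# Grothendieck vanishing, part 4: bookkeeping of vanishing ranges
-/

set_option autoImplicit false

namespace Groth.Agent.Helper4.GV

open CategoryTheory Limits TopologicalSpace Opposite Abelian

universe u
variable {X : TopCat.{u}}

/-- cohomology of `F` vanishes in degrees `≥ n` -/
def Van (F : CohTop.Ab X) (n : ℕ) : Prop := ∀ p, n ≤ p → Subsingleton (CohTop.H F p)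

lemma Van.mono {F : CohTop.Ab X} {n m : ℕ} (h : Van F n) (hnm : n ≤ m) : Van F m :=
  fun p hp => h p (hnm.trans hp)

lemma van_of_isZero {F : CohTop.Ab X} (h : IsZero F) (n : ℕ) : Van F n :=
  fun p _ => Sheaf.subsingleton_H_of_isZero h p

lemma van_of_isFlasque (F : CohTop.Ab X) [TopCat.Sheaf.IsFlasque F] : Van F 1 := by
  intro p hp
  obtain ⟨q, rfl⟩ : ∃ q, p = q + 1 := ⟨p - 1, by omega⟩
  exact Groth.Agent.S0453.result F q

lemma van_mid {S : ShortComplex (CohTop.Ab X)} (hS : S.ShortExact) {n : ℕ}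
    (h1 : Van S.X₁ n) (h3 : Van S.X₃ n) : Van S.X₂ n := by
  intro p hp
  have := h1 p hp
  have := h3 p hp
  refine subsingleton_of_forall_eq 0 (fun x₂ => ?_)
  obtain ⟨x₁, hx₁⟩ := Ext.covariant_sequence_exact₂ _ hS x₂ (Subsingleton.elim _ _)
  rw [← hx₁, Subsingleton.elim x₁ 0, Ext.zero_comp]

lemma van_left {S : ShortComplex (CohTop.Ab X)} (hS : S.ShortExact) {m : ℕ}
    (h2 : Van S.X₂ (m + 1)) (h3 : Van S.X₃ m) : Van S.X₁ (m + 1) := by
  intro p hp
  obtain ⟨q, rfl⟩ : ∃ q, p = q + 1 := ⟨p - 1, by omega⟩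
  have := h2 (q + 1) hp
  have := h3 q (by omega)
  refine subsingleton_of_forall_eq 0 (fun x₁ => ?_)
  obtain ⟨x₃, hx₃⟩ := Ext.covariant_sequence_exact₁ _ hS x₁ (Subsingleton.elim _ _) rfl
  rw [← hx₃, Subsingleton.elim x₃ 0, Ext.zero_comp]

open Groth.Agent.Helper1.MVTop in
/-- vanishing passes to directed colimits on a Noetherian space -/
lemma van_of_isColimit [NoetherianSpace X] {ι : Type u} [Preorder ι] [IsDirected ι (· ≤ ·)]
    [Nonempty ι] (D : ι ⥤ CohTop.Ab X) (c : Cocone D) (hc : IsColimit c) (n : ℕ)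
    (h : ∀ i, Van (D.obj i) n) : Van c.pt n := by
  intro p hp
  let Φ : CohTop.Ab X ⥤ AddCommGrpCat.{u} :=
    (Sheaf.cohomologyPresheafFunctor (Opens.grothendieckTopology X) p).flip.obj (op ⊤)
  have hpres : PreservesColimitsOfShape ι Φ :=
    Groth.Agent.Helper1.ColimCoh.preservesColimitsOfShape_cohomology ⊤
      (NoetherianSpace.isCompact _) (fun _ _ _ _ _ _ _ _ => NoetherianSpace.isCompact _) p
  have hc' : IsColimit (Φ.mapCocone c) := isColimitOfPreserves Φ hc
  have hsub : Subsingleton (CohTop.HU c.pt p ⊤) := by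
    refine subsingleton_of_forall_eq 0 (fun x => ?_)
    obtain ⟨i, y, hy⟩ := Concrete.isColimit_exists_rep (D ⋙ Φ) hc' x
    have : Subsingleton (CohTop.HU (D.obj i) p ⊤) :=
      have := h i p hp
      (globEquiv (D.obj i) p).symm.toEquiv.subsingleton
    have hy0 : y = 0 := Subsingleton.elim (α := CohTop.HU (D.obj i) p ⊤) y 0
    rw [← hy, hy0, map_zero]
  exact (globEquiv c.pt p).toEquiv.subsingleton

end Groth.Agent.Helper4.GV
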