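import Groth.Agent.Helper4.GalTrans
import Groth.Agent.Helper4.IrrCompBC
import Groth.Agent.Helper4.GeomConnSub
import Mathlib

set_option autoImplicit false
universe u
open CategoryTheory CategoryTheory.Limits AlgebraicGeometry Opposite

namespace Groth.Agent.Helper4.GalDesc

open Groth.Agent.Helper4.GalTrans Groth.Agent.Helper4.GeomConnSch Groth.Agent.Helper4.IrrCompBC
  Groth.Agent.Helper4.GeomConnSub Groth.Agent.Helper4.GeomIrrSch

theorem irreducibleSpace_of_isInducing {A B : Type*} [TopologicalSpace A] [TopologicalSpace B]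
    (e : A → B) (he : Topology.IsInducing e) (h : IsIrreducible (Set.range e)) :
    IrreducibleSpace A := by
  have hpre : IsPreirreducible (Set.univ : Set A) := by
    intro u v hu hv ⟨a, _, ha⟩ ⟨b, _, hb⟩
    obtain ⟨u', hu', rfl⟩ := he.isOpen_iff.mp hu
    obtain ⟨v', hv', rfl⟩ := he.isOpen_iff.mp hv
    obtain ⟨_, ⟨c, rfl⟩, hc1, hc2⟩ := h.2 u' v' hu' hv' ⟨e a, ⟨a, rfl⟩, ha⟩ ⟨e b, ⟨b, rfl⟩, hb⟩
    exact ⟨c, trivial, hc1, hc2⟩
  obtain ⟨_, z, -⟩ := h.nonempty
  exact @IrreducibleSpace.mk _ _ ⟨hpre⟩ ⟨z⟩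

variable (k : Type u) [Field k] (X : Scheme.{u}) [X.Over (Spec (CommRingCat.of k))]
  (K : Type u) [Field K] [Algebra k K]

theorem galAct_comp (σ τ : K ≃ₐ[k] K) :
    Curv2.galAct k X K σ ≫ Curv2.galAct k X K τ = Curv2.galAct k X K (σ * τ) := by
  refine pullback.hom_ext ?_ ?_
  · show (Curv2.galAct k X K σ ≫ Curv2.galAct k X K τ) ≫ Curv2.bcFst k X K =
      Curv2.galAct k X K (σ * τ) ≫ Curv2.bcFst k X K
    rw [Category.assoc, galAct_fst, galAct_fst, galAct_fst]
  · show (Curv2.galAct k X K σ ≫ Curv2.galAct k X K τ) ≫ Curv2.bcSnd k X K =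
      Curv2.galAct k X K (σ * τ) ≫ Curv2.bcSnd k X K
    rw [Category.assoc, galAct_snd, ← Category.assoc, galAct_snd, galAct_snd, Category.assoc,
      ← Spec.map_comp]
    rfl

theorem galAct_one : Curv2.galAct k X K (1 : K ≃ₐ[k] K) = 𝟙 _ := by
  refine pullback.hom_ext ?_ ?_
  · show Curv2.galAct k X K 1 ≫ Curv2.bcFst k X K = 𝟙 _ ≫ Curv2.bcFst k X K
    rw [galAct_fst, Category.id_comp]
  · show Curv2.galAct k X K 1 ≫ Curv2.bcSnd k X K = 𝟙 _ ≫ Curv2.bcSnd k X K
    rw [galAct_snd, Category.id_comp]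
    have : CommRingCat.ofHom ((1 : K ≃ₐ[k] K) : K →ₐ[k] K).toRingHom = 𝟙 (CommRingCat.of K) := rfl
    rw [this, Spec.map_id, Category.comp_id]

theorem galAct_inv_apply (σ : K ≃ₐ[k] K) (t : ↥(Curv2.bc k X K)) :
    Curv2.galAct k X K σ⁻¹ (Curv2.galAct k X K σ t) = t := by
  rw [← Scheme.Hom.comp_apply, galAct_comp, mul_inv_cancel, galAct_one]
  rfl

theorem galAct_apply_inv (σ : K ≃ₐ[k] K) (t : ↥(Curv2.bc k X K)) :
    Curv2.galAct k X K σ (Curv2.galAct k X K σ⁻¹ t) = t := by
  rw [← Scheme.Hom.comp_apply, galAct_comp, inv_mul_cancel, galAct_one]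
  rfl

theorem galAct_fst_apply (σ : K ≃ₐ[k] K) (t : ↥(Curv2.bc k X K)) :
    Curv2.bcFst k X K (Curv2.galAct k X K σ t) = Curv2.bcFst k X K t := by
  rw [← Scheme.Hom.comp_apply, galAct_fst]

/-- The Galois action as a homeomorphism. -/
noncomputable def galHomeo (σ : K ≃ₐ[k] K) : ↥(Curv2.bc k X K) ≃ₜ ↥(Curv2.bc k X K) where
  toFun := Curv2.galAct k X K σ
  invFun := Curv2.galAct k X K σ⁻¹
  left_inv := galAct_inv_apply k X K σ
  right_inv := galAct_apply_inv k X K σ
  continuous_toFun := (Curv2.galAct k X K σ).continuous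
  continuous_invFun := (Curv2.galAct k X K σ⁻¹).continuous

/-- The preimage of a set of `X` is stable under the Galois action. -/
theorem galAct_image_preimage (σ : K ≃ₐ[k] K) (T : Set X) :
    Curv2.galAct k X K σ '' (Curv2.bcFst k X K ⁻¹' T) = Curv2.bcFst k X K ⁻¹' T := by
  ext t
  constructor
  · rintro ⟨s, hs, rfl⟩
    show Curv2.bcFst k X K (Curv2.galAct k X K σ s) ∈ T
    rw [galAct_fst_apply]
    exact hs
  · intro ht
    refine ⟨Curv2.galAct k X K σ⁻¹ t, ?_, galAct_apply_inv k X K σ t⟩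
    show Curv2.bcFst k X K (Curv2.galAct k X K σ⁻¹ t) ∈ T
    rw [galAct_fst_apply]
    exact ht

/-- A Galois-stable subset is saturated for the projection. -/
theorem preimage_image_eq_of_invariant [Normal k K] (T' : Set ↥(Curv2.bc k X K))
    (hinv : ∀ σ : K ≃ₐ[k] K, Curv2.galAct k X K σ '' T' ⊆ T') :
    Curv2.bcFst k X K ⁻¹' (Curv2.bcFst k X K '' T') = T' := by
  refine Set.Subset.antisymm ?_ (Set.subset_preimage_image _ _)
  rintro t ⟨t', ht', h⟩
  obtain ⟨σ, hσ⟩ := exists_galAct_eq k X K t' t h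
  rw [← hσ]
  exact hinv σ ⟨t', ht', rfl⟩

theorem isClosedMap_bcFst [Algebra.IsAlgebraic k K] : IsClosedMap (Curv2.bcFst k X K) :=
  isClosedMap_bc_fst_of_isAlgebraic (X ↘ Spec (CommRingCat.of k)) K

/-- S1584 -/
theorem descend_closed [Normal k K] (T' : Set ↥(Curv2.bc k X K)) (hT' : IsClosed T')
    (hinv : ∀ σ : K ≃ₐ[k] K, Curv2.galAct k X K σ '' T' = T') :
    ∃ T : Set X, IsClosed T ∧ Curv2.bcFst k X K ⁻¹' T = T' := by
  haveI : Algebra.IsAlgebraic k K := inferInstance
  exact ⟨Curv2.bcFst k X K '' T', isClosedMap_bcFst k X K _ hT',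
    preimage_image_eq_of_invariant k X K T' (fun σ => (hinv σ).le)⟩

/-- S7598 -/
theorem image_eq_iff_conj [Normal k K] (Z' Z'' : Set ↥(Curv2.bc k X K))
    (hZ' : Z' ∈ irreducibleComponents ↥(Curv2.bc k X K))
    (hZ'' : Z'' ∈ irreducibleComponents ↥(Curv2.bc k X K)) :
    Curv2.bcFst k X K '' Z' = Curv2.bcFst k X K '' Z'' ↔
      ∃ σ : K ≃ₐ[k] K, Curv2.galAct k X K σ '' Z' = Z'' := by
  haveI : Algebra.IsAlgebraic k K := inferInstance
  constructor
  · intro h
    have hcl' : IsClosed Z' := isClosed_of_mem_irreducibleComponents Z' hZ'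
    have hcl'' : IsClosed Z'' := isClosed_of_mem_irreducibleComponents Z'' hZ''
    obtain ⟨ξ', hξ'⟩ := QuasiSober.sober hZ'.1 hcl'
    obtain ⟨ξ'', hξ''⟩ := QuasiSober.sober hZ''.1 hcl''
    have hπ := isClosedMap_bcFst k X K
    have hc := (Curv2.bcFst k X K).continuous
    have h1 : IsGenericPoint (Curv2.bcFst k X K ξ') (Curv2.bcFst k X K '' Z') := by
      have := hξ'.image hc
      rwa [hπ.closure_image_eq_of_continuous hc Z', hcl'.closure_eq] at this
    have h2 : IsGenericPoint (Curv2.bcFst k X K ξ'') (Curv2.bcFst k X K '' Z'') := by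
      have := hξ''.image hc
      rwa [hπ.closure_image_eq_of_continuous hc Z'', hcl''.closure_eq] at this
    rw [h] at h1
    have heq : Curv2.bcFst k X K ξ' = Curv2.bcFst k X K ξ'' := h1.eq h2
    obtain ⟨σ, hσ⟩ := exists_galAct_eq k X K ξ' ξ'' heq
    refine ⟨σ, ?_⟩
    have h3 : IsGenericPoint (galHomeo k X K σ ξ') (galHomeo k X K σ '' Z') := by
      have := hξ'.image (galHomeo k X K σ).continuous
      rwa [← (galHomeo k X K σ).image_closure, hcl'.closure_eq] at this
    have h4 : galHomeo k X K σ ξ' = ξ'' := hσ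
    rw [h4] at h3
    have : closure {ξ''} = galHomeo k X K σ '' Z' := h3
    rw [hξ''.def] at this
    exact this.symm
  · rintro ⟨σ, rfl⟩
    rw [Set.image_image]
    refine Set.image_congr fun t _ => ?_
    exact (galAct_fst_apply k X K σ t).symm

/-- A closed subset of `X` whose preimage in `X_{k^sep}` is irreducible has irreducible preimage
in every `X_K`. -/
theorem isIrreducible_preimage_of_sepClosure (T : Set X) (hT : IsClosed T)
    (hirr : IsIrreducible (Curv2.bcFst k X (SeparableClosure k) ⁻¹' T))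
    (L : Type u) [Field L] [Algebra k L] :
    IsIrreducible (Curv2.bcFst k X L ⁻¹' T) := by
  obtain ⟨Z, ι, hι, hr⟩ := exists_closedImmersion_range X T hT
  set f := X ↘ Spec (CommRingCat.of k) with hf
  haveI : IrreducibleSpace ↥(pullback (ι ≫ f)
      (Spec.map (CommRingCat.ofHom (algebraMap k (SeparableClosure k))))) := by
    have hemb := (bcHom ι f (SeparableClosure k)).isEmbedding
    have hrange : Set.range (bcHom ι f (SeparableClosure k)) =
        Curv2.bcFst k X (SeparableClosure k) ⁻¹' T := by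
      rw [range_bcHom, hr]
    rw [← hrange] at hirr
    exact irreducibleSpace_of_isInducing _ hemb.isInducing hirr
  haveI : GeometricallyIrreducible (ι ≫ f) := geometricallyIrreducible_of_sepClosure (ι ≫ f)
  haveI : IrreducibleSpace ↥(pullback (ι ≫ f) (Spec.map (CommRingCat.ofHom (algebraMap k L)))) :=
    (GeomIrrSch.geometricallyIrreducible_iff (ι ≫ f)).mp inferInstance L
  have hrange : Set.range (bcHom ι f L) = Curv2.bcFst k X L ⁻¹' T := by
    rw [range_bcHom, hr]
  rw [← hrange, ← Set.image_univ]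
  exact (IrreducibleSpace.isIrreducible_univ _).image _ (bcHom ι f L).continuous.continuousOn

/-- S7597 -/
theorem invariant_iff_geomIrr (Z : Set ↥(Curv2.bc k X (SeparableClosure k)))
    (hZ : Z ∈ irreducibleComponents ↥(Curv2.bc k X (SeparableClosure k))) :
    (∀ σ : SeparableClosure k ≃ₐ[k] SeparableClosure k,
        Curv2.galAct k X (SeparableClosure k) σ '' Z = Z) ↔
      ∃ T ∈ irreducibleComponents ↥X, Curv2.bcFst k X (SeparableClosure k) ⁻¹' T = Z ∧
        ∀ (L : Type u) [Field L] [Algebra k L], IsIrreducible (Curv2.bcFst k X L ⁻¹' T) := by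
  haveI : Normal k (SeparableClosure k) := IsGalois.to_normal
  constructor
  · intro hinv
    have hpre := preimage_image_eq_of_invariant k X (SeparableClosure k) Z
      (fun σ => (hinv σ).le)
    have hT := (irreducibleComponents_bc (X ↘ Spec (CommRingCat.of k)) (SeparableClosure k)).1 Z hZ
    refine ⟨_, hT, hpre, fun L _ _ => ?_⟩
    refine isIrreducible_preimage_of_sepClosure k X _
      (isClosed_of_mem_irreducibleComponents _ hT) ?_ L
    rw [hpre]
    exact hZ.1
  · rintro ⟨T, -, rfl, -⟩ σ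
    exact galAct_image_preimage k X (SeparableClosure k) σ T

end Groth.Agent.Helper4.GalDesc
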