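import Groth.Agent.Helper4.GalDesc
import Mathlib

set_option autoImplicit false
universe u
open CategoryTheory CategoryTheory.Limits AlgebraicGeometry Opposite

namespace Groth.Agent.Helper4.GalDescMor

open Groth.Agent.Helper4.GalTrans Groth.Agent.Helper4.GalDesc

variable (k K : Type u) [Field k] [Field K] [Algebra k K]

/-- `Spec K → Spec k`. -/
noncomputable abbrev c : Spec (CommRingCat.of K) ⟶ Spec (CommRingCat.of k) :=
  Spec.map (CommRingCat.ofHom (algebraMap k K))

/-- `Spec σ`. -/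
noncomputable abbrev specσ (σ : K ≃ₐ[k] K) : Spec (CommRingCat.of K) ⟶ Spec (CommRingCat.of K) :=
  Spec.map (CommRingCat.ofHom (σ : K →ₐ[k] K).toRingHom)

theorem specσ_c (σ : K ≃ₐ[k] K) : specσ k K σ ≫ c k K = c k K := by
  rw [← Spec.map_comp, ← CommRingCat.ofHom_comp, AlgHom.toRingHom_eq_coe, AlgHom.comp_algebraMap]

theorem specσ_comp (σ τ : K ≃ₐ[k] K) : specσ k K σ ≫ specσ k K τ = specσ k K (σ * τ) := by
  rw [← Spec.map_comp, ← CommRingCat.ofHom_comp]
  rfl

theorem specσ_one : specσ k K 1 = 𝟙 _ := by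
  have : CommRingCat.ofHom ((1 : K ≃ₐ[k] K) : K →ₐ[k] K).toRingHom = 𝟙 (CommRingCat.of K) := rfl
  rw [specσ, this, Spec.map_id]

/-- The twist of `Spec K ×_k Spec K` by `σ` on the second factor. -/
noncomputable def twist (σ : K ≃ₐ[k] K) : pullback (c k K) (c k K) ⟶ pullback (c k K) (c k K) :=
  pullback.map _ _ _ _ (𝟙 _) (specσ k K σ) (𝟙 _) (by simp) (by rw [Category.comp_id, specσ_c])

@[reassoc]
theorem twist_fst (σ : K ≃ₐ[k] K) : twist k K σ ≫ pullback.fst _ _ = pullback.fst _ _ := by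
  unfold twist pullback.map
  rw [pullback.lift_fst]
  exact Category.comp_id _

@[reassoc]
theorem twist_snd (σ : K ≃ₐ[k] K) :
    twist k K σ ≫ pullback.snd _ _ = pullback.snd _ _ ≫ specσ k K σ := by
  unfold twist pullback.map
  rw [pullback.lift_snd]

theorem twist_comp (σ τ : K ≃ₐ[k] K) : twist k K σ ≫ twist k K τ = twist k K (σ * τ) := by
  refine pullback.hom_ext ?_ ?_
  · rw [Category.assoc, twist_fst, twist_fst, twist_fst]
  · rw [Category.assoc, twist_snd, twist_snd_assoc, twist_snd, specσ_comp]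

theorem twist_one : twist k K 1 = 𝟙 _ := by
  refine pullback.hom_ext ?_ ?_
  · rw [twist_fst, Category.id_comp]
  · rw [twist_snd, specσ_one, Category.comp_id, Category.id_comp]

instance (σ : K ≃ₐ[k] K) : IsIso (twist k K σ) :=
  ⟨twist k K σ⁻¹, by rw [twist_comp, mul_inv_cancel, twist_one],
    by rw [twist_comp, inv_mul_cancel, twist_one]⟩

/-- The graph of `Spec σ`. -/
noncomputable def graph (σ : K ≃ₐ[k] K) : Spec (CommRingCat.of K) ⟶ pullback (c k K) (c k K) :=
  pullback.lift (𝟙 _) (specσ k K σ) (by rw [Category.id_comp, specσ_c])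

@[reassoc]
theorem graph_fst (σ : K ≃ₐ[k] K) : graph k K σ ≫ pullback.fst _ _ = 𝟙 _ := by
  unfold graph
  rw [pullback.lift_fst]

@[reassoc]
theorem graph_snd (σ : K ≃ₐ[k] K) : graph k K σ ≫ pullback.snd _ _ = specσ k K σ := by
  unfold graph
  rw [pullback.lift_snd]

theorem graph_eq (σ : K ≃ₐ[k] K) : graph k K σ = pullback.diagonal (c k K) ≫ twist k K σ := by
  refine pullback.hom_ext ?_ ?_
  · rw [graph_fst, Category.assoc, twist_fst, pullback.diagonal_fst]
  · rw [graph_snd, Category.assoc, twist_snd, pullback.diagonal_snd_assoc]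

instance [FiniteDimensional k K] [Algebra.IsSeparable k K] (σ : K ≃ₐ[k] K) :
    IsOpenImmersion (graph k K σ) := by
  haveI : FormallyUnramified (c k K) := by
    rw [HasRingHomProperty.Spec_iff (P := @FormallyUnramified)]
    show (algebraMap k K).FormallyUnramified
    rw [RingHom.formallyUnramified_algebraMap]
    exact Algebra.FormallyUnramified.of_isSeparable k K
  haveI : LocallyOfFiniteType (c k K) := by
    rw [HasRingHomProperty.Spec_iff (P := @LocallyOfFiniteType)]
    show (algebraMap k K).FiniteType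
    exact RingHom.FiniteType.of_finite (RingHom.finite_algebraMap.mpr inferInstance)
  rw [graph_eq]
  infer_instance

/-- Every point of `Spec K ×_k Spec K` lies on the graph of an automorphism (`K / k` normal). -/
theorem exists_mem_range_graph [Normal k K] (w : ↥(pullback (c k K) (c k K))) :
    ∃ σ : K ≃ₐ[k] K, w ∈ Set.range (graph k K σ) := by
  let W := pullback (c k K) (c k K)
  let Ω := W.residueField w
  let ι : Spec Ω ⟶ W := W.fromSpecResidueField w
  obtain ⟨a, ha⟩ : ∃ a : Spec Ω ⟶ Spec (CommRingCat.of K), a = ι ≫ pullback.fst _ _ := ⟨_, rfl⟩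
  obtain ⟨a', ha'd⟩ : ∃ a' : Spec Ω ⟶ Spec (CommRingCat.of K), a' = ι ≫ pullback.snd _ _ :=
    ⟨_, rfl⟩
  have haa' : a ≫ c k K = a' ≫ c k K := by
    simp only [ha, ha'd, Category.assoc, pullback.condition]
  obtain ⟨φ, hφ⟩ := Spec.map_surjective a
  obtain ⟨φ', hφ'⟩ := Spec.map_surjective a'
  have hcomm : CommRingCat.ofHom (algebraMap k K) ≫ φ = CommRingCat.ofHom (algebraMap k K) ≫ φ' := by
    apply Spec.map_injective
    rw [Spec.map_comp, Spec.map_comp, hφ, hφ']
    exact haa'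
  letI : Algebra k Ω := (φ.hom.comp (algebraMap k K)).toAlgebra
  let j : K →ₐ[k] Ω := { φ.hom with commutes' := fun _ => rfl }
  let j' : K →ₐ[k] Ω := { φ'.hom with
    commutes' := fun c => by
      have := congrArg (fun m => m.hom c) hcomm
      exact this.symm }
  obtain ⟨σ, hσ⟩ := exists_algEquiv_comp_eq j j'
  refine ⟨σ, ?_⟩
  have hφσ : φ' = CommRingCat.ofHom (σ : K →ₐ[k] K).toRingHom ≫ φ := by
    refine CommRingCat.hom_ext (RingHom.ext fun x => ?_)
    exact (hσ x).symm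
  have ha'a : a' = a ≫ specσ k K σ := by
    rw [← hφ', ← hφ, hφσ, Spec.map_comp]
  have hι : ι = a ≫ graph k K σ := by
    refine pullback.hom_ext ?_ ?_
    · rw [Category.assoc, graph_fst, Category.comp_id, ha]
    · rw [Category.assoc, graph_snd, ← ha'a, ha'd]
  have hw : w ∈ Set.range ι := by
    rw [Scheme.range_fromSpecResidueField]
    exact Set.mem_singleton _
  obtain ⟨t, ht⟩ := hw
  refine ⟨a t, ?_⟩
  rw [← ht, hι]
  rfl

/-- (KL) Two `K`-structures on a scheme which agree over `k` differ locally by an automorphism. -/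
theorem exists_cover [FiniteDimensional k K] [IsGalois k K] {Z : Scheme.{u}}
    (s₁ s₂ : Z ⟶ Spec (CommRingCat.of K)) (h : s₁ ≫ c k K = s₂ ≫ c k K) :
    ∃ U : (K ≃ₐ[k] K) → Z.Opens, (⨆ σ, U σ = ⊤) ∧
      ∀ σ, (U σ).ι ≫ s₂ = ((U σ).ι ≫ s₁) ≫ specσ k K σ := by
  haveI : Normal k K := IsGalois.to_normal
  let m : Z ⟶ pullback (c k K) (c k K) := pullback.lift s₁ s₂ h
  refine ⟨fun σ => m ⁻¹ᵁ (graph k K σ).opensRange, ?_, ?_⟩
  · rw [eq_top_iff]
    intro z _
    obtain ⟨σ, hσ⟩ := exists_mem_range_graph k K (m z)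
    exact TopologicalSpace.Opens.mem_iSup.mpr ⟨σ, hσ⟩
  · intro σ
    set U := m ⁻¹ᵁ (graph k K σ).opensRange with hU
    have hrange : Set.range (U.ι ≫ m) ⊆ Set.range (graph k K σ) := by
      rintro _ ⟨x, rfl⟩
      exact x.2
    let l := IsOpenImmersion.lift (graph k K σ) (U.ι ≫ m) hrange
    have hl : l ≫ graph k K σ = U.ι ≫ m := IsOpenImmersion.lift_fac _ _ _
    have h1 : U.ι ≫ s₁ = l := by
      have : s₁ = m ≫ pullback.fst _ _ := (pullback.lift_fst _ _ _).symm
      rw [this, ← Category.assoc, ← hl, Category.assoc, graph_fst, Category.comp_id]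
    have h2 : U.ι ≫ s₂ = l ≫ specσ k K σ := by
      have : s₂ = m ≫ pullback.snd _ _ := (pullback.lift_snd _ _ _).symm
      rw [this, ← Category.assoc, ← hl, Category.assoc, graph_snd]
    rw [h2, h1]

variable (X : Scheme.{u}) [X.Over (Spec (CommRingCat.of k))]

instance surjective_c : Surjective (c k K) := by
  haveI : Subsingleton ↥(Spec (CommRingCat.of k)) :=
    inferInstanceAs (Subsingleton (PrimeSpectrum k))
  haveI : Nonempty ↥(Spec (CommRingCat.of K)) := inferInstanceAs (Nonempty (PrimeSpectrum K))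
  obtain ⟨s⟩ := (inferInstance : Nonempty ↥(Spec (CommRingCat.of K)))
  exact ⟨fun y => ⟨s, Subsingleton.elim _ _⟩⟩

/-- Galois descent of morphisms: an invariant morphism from `X_K` descends to `X`. -/
theorem descend [FiniteDimensional k K] [IsGalois k K] {Y : Scheme.{u}} (h : Curv2.bc k X K ⟶ Y)
    (hinv : ∀ σ : K ≃ₐ[k] K, Curv2.galAct k X K σ ≫ h = h) :
    ∃ f : X ⟶ Y, Curv2.bcFst k X K ≫ f = h := by
  haveI : Flat (c k K) := Groth.Agent.Helper4.IrrCompBC.flat_SpecMap_field K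
  haveI : Flat (Curv2.bcFst k X K) := MorphismProperty.pullback_fst (P := @Flat) _ _ inferInstance
  haveI : Surjective (Curv2.bcFst k X K) :=
    MorphismProperty.pullback_fst (P := @Surjective) _ _ inferInstance
  haveI : QuasiCompact (Curv2.bcFst k X K) :=
    MorphismProperty.pullback_fst (P := @QuasiCompact) _ _ inferInstance
  have key : ∀ {Z : Scheme.{u}} (g₁ g₂ : Z ⟶ Curv2.bc k X K),
      g₁ ≫ Curv2.bcFst k X K = g₂ ≫ Curv2.bcFst k X K → g₁ ≫ h = g₂ ≫ h := by
    intro Z g₁ g₂ hg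
    have hs : (g₁ ≫ Curv2.bcSnd k X K) ≫ c k K = (g₂ ≫ Curv2.bcSnd k X K) ≫ c k K := by
      have hc : Curv2.bcSnd k X K ≫ c k K =
          Curv2.bcFst k X K ≫ (X ↘ Spec (CommRingCat.of k)) := pullback.condition.symm
      rw [Category.assoc, Category.assoc, hc, ← Category.assoc, ← Category.assoc, hg]
    obtain ⟨U, hU, hσ⟩ := exists_cover k K _ _ hs
    refine Scheme.hom_ext_of_forall _ _ fun z => ?_
    have hz : z ∈ (⨆ σ, U σ : Z.Opens) := hU ▸ trivial
    obtain ⟨σ, hzσ⟩ := TopologicalSpace.Opens.mem_iSup.mp hz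
    refine ⟨U σ, hzσ, ?_⟩
    have h1 : (U σ).ι ≫ g₂ = ((U σ).ι ≫ g₁) ≫ Curv2.galAct k X K σ := by
      refine pullback.hom_ext ?_ ?_
      · show ((U σ).ι ≫ g₂) ≫ Curv2.bcFst k X K =
          (((U σ).ι ≫ g₁) ≫ Curv2.galAct k X K σ) ≫ Curv2.bcFst k X K
        rw [Category.assoc, Category.assoc, Category.assoc, galAct_fst, hg]
      · show ((U σ).ι ≫ g₂) ≫ Curv2.bcSnd k X K =
          (((U σ).ι ≫ g₁) ≫ Curv2.galAct k X K σ) ≫ Curv2.bcSnd k X K
        rw [Category.assoc, Category.assoc, Category.assoc, galAct_snd]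
        have := hσ σ
        simp only [Category.assoc] at this ⊢
        exact this
    rw [← Category.assoc, ← Category.assoc, h1, Category.assoc ((U σ).ι ≫ g₁), hinv]
  exact ⟨EffectiveEpi.desc (Curv2.bcFst k X K) h key, EffectiveEpi.fac _ _ _⟩

/-- S14400 -/
theorem main [FiniteDimensional k K] [IsGalois k K] (Y : Scheme.{u})
    [Y.Over (Spec (CommRingCat.of k))]
    (g : Curv2.bc k X K ⟶ Curv2.bc k Y K) (hg : g ≫ Curv2.bcSnd k Y K = Curv2.bcSnd k X K) :
    (∃ f : X ⟶ Y, f ≫ (Y ↘ Spec (CommRingCat.of k)) = X ↘ Spec (CommRingCat.of k) ∧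
        g ≫ Curv2.bcFst k Y K = Curv2.bcFst k X K ≫ f) ↔
      ∀ σ : K ≃ₐ[k] K, Curv2.galAct k X K σ ≫ g = g ≫ Curv2.galAct k Y K σ := by
  constructor
  · rintro ⟨f, hf, hgf⟩ σ
    refine pullback.hom_ext ?_ ?_
    · show (Curv2.galAct k X K σ ≫ g) ≫ Curv2.bcFst k Y K =
        (g ≫ Curv2.galAct k Y K σ) ≫ Curv2.bcFst k Y K
      rw [Category.assoc, Category.assoc, galAct_fst, hgf, ← Category.assoc, galAct_fst]
    · show (Curv2.galAct k X K σ ≫ g) ≫ Curv2.bcSnd k Y K =
        (g ≫ Curv2.galAct k Y K σ) ≫ Curv2.bcSnd k Y K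
      rw [Category.assoc, Category.assoc, galAct_snd, hg, ← Category.assoc, hg, galAct_snd]
  · intro hσ
    have hinv : ∀ σ : K ≃ₐ[k] K,
        Curv2.galAct k X K σ ≫ (g ≫ Curv2.bcFst k Y K) = g ≫ Curv2.bcFst k Y K := by
      intro σ
      rw [← Category.assoc, hσ σ, Category.assoc, galAct_fst]
    obtain ⟨f, hf⟩ := descend k K X (g ≫ Curv2.bcFst k Y K) hinv
    refine ⟨f, ?_, hf.symm⟩
    haveI : Flat (c k K) := Groth.Agent.Helper4.IrrCompBC.flat_SpecMap_field K
    haveI : Flat (Curv2.bcFst k X K) :=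
      MorphismProperty.pullback_fst (P := @Flat) _ _ inferInstance
    haveI : Surjective (Curv2.bcFst k X K) :=
      MorphismProperty.pullback_fst (P := @Surjective) _ _ inferInstance
    haveI : QuasiCompact (Curv2.bcFst k X K) :=
      MorphismProperty.pullback_fst (P := @QuasiCompact) _ _ inferInstance
    rw [← cancel_epi (Curv2.bcFst k X K), ← Category.assoc, hf, Category.assoc]
    have h1 : Curv2.bcFst k Y K ≫ (Y ↘ Spec (CommRingCat.of k)) = Curv2.bcSnd k Y K ≫ c k K :=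
      pullback.condition
    have h2 : Curv2.bcFst k X K ≫ (X ↘ Spec (CommRingCat.of k)) = Curv2.bcSnd k X K ≫ c k K :=
      pullback.condition
    rw [h1, h2, ← Category.assoc, hg]

end Groth.Agent.Helper4.GalDescMor
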