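import Groth.Agent.Helper4.GalDesc
import Mathlib

set_option autoImplicit false
universe u
open CategoryTheory CategoryTheory.Limits AlgebraicGeometry Opposite

namespace Groth.Agent.Helper4.GalOrbit

open Groth.Agent.Helper4.GalTrans Groth.Agent.Helper4.GeomConnSch Groth.Agent.Helper4.IrrCompBC
  Groth.Agent.Helper4.GalDesc

variable (k : Type u) [Field k] (X : Scheme.{u}) [X.Over (Spec (CommRingCat.of k))]
  (K : Type u) [Field K] [Algebra k K]

/-- An irreducible component of `X_K` mapping into an irreducible component `T` of `X` maps onto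
`T`. -/
theorem image_eq_of_subset {T : Set X} (hT : T ∈ irreducibleComponents ↥X)
    {T' : Set ↥(Curv2.bc k X K)} (hT' : T' ∈ irreducibleComponents ↥(Curv2.bc k X K))
    (hsub : Curv2.bcFst k X K '' T' ⊆ T) : Curv2.bcFst k X K '' T' = T := by
  have h1 := (irreducibleComponents_bc (X ↘ Spec (CommRingCat.of k)) K).1 T' hT'
  exact Set.Subset.antisymm hsub (h1.2 hT.1 hsub)

/-- Finiteness of the set of irreducible components over a given one, in the finite type case. -/
theorem finite_components_over [LocallyOfFiniteType (X ↘ Spec (CommRingCat.of k))]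
    {T : Set X} (hT : T ∈ irreducibleComponents ↥X) :
    {T' : Set ↥(Curv2.bc k X K) | T' ∈ irreducibleComponents ↥(Curv2.bc k X K) ∧
        Curv2.bcFst k X K '' T' ⊆ T}.Finite := by
  have hTcl : IsClosed T := isClosed_of_mem_irreducibleComponents T hT
  obtain ⟨η, hη⟩ := QuasiSober.sober hT.1 hTcl
  obtain ⟨_, ⟨U : X.Opens, hU, rfl⟩, hηU, -⟩ := X.isBasis_affineOpens.exists_subset_of_mem_open
    (Set.mem_univ η) isOpen_univ
  let π := Curv2.bcFst k X K
  let W : (Curv2.bc k X K).Opens := π ⁻¹ᵁ U
  haveI : IsAffineHom π :=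
    MorphismProperty.pullback_fst (P := @IsAffineHom) _ _ inferInstance
  have hW : IsAffineOpen W := hU.preimage π
  haveI : IsNoetherianRing (CommRingCat.of K) := inferInstanceAs (IsNoetherianRing K)
  haveI : IsLocallyNoetherian (Curv2.bc k X K) := inferInstance
  haveI : IsNoetherianRing Γ(Curv2.bc k X K, W) :=
    IsLocallyNoetherian.component_noetherian ⟨W, hW⟩
  haveI : TopologicalSpace.NoetherianSpace ↥W := noetherianSpace_of_isAffineOpen W hW
  have hfin := TopologicalSpace.NoetherianSpace.finite_irreducibleComponents (α := ↥W)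
  have hemb : Topology.IsOpenEmbedding (Subtype.val : ↥W → ↥(Curv2.bc k X K)) :=
    W.isOpen.isOpenEmbedding_subtypeVal
  have hne : ∀ T' : Set ↥(Curv2.bc k X K), T' ∈ irreducibleComponents ↥(Curv2.bc k X K) →
      Curv2.bcFst k X K '' T' ⊆ T → ((Subtype.val : ↥W → _) ⁻¹' T').Nonempty := by
    intro T' hT' hsub
    have himg := image_eq_of_subset k X K hT hT' hsub
    have hηT : η ∈ T := hη.mem
    rw [← himg] at hηT
    obtain ⟨t, ht, hte⟩ := hηT
    refine ⟨⟨t, ?_⟩, ht⟩
    show π t ∈ U
    rw [show π t = η from hte]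
    exact hηU
  refine Set.Finite.of_finite_image (f := fun T' => (Subtype.val : ↥W → _) ⁻¹' T')
    (hfin.subset ?_) ?_
  · rintro _ ⟨T', ⟨hT', hsub⟩, rfl⟩
    refine preimage_mem_irreducibleComponents hT' hemb ?_
    obtain ⟨w, hw⟩ := hne T' hT' hsub
    exact ⟨w.1, hw, w, rfl⟩
  · rintro T' ⟨hT', hsub⟩ T'' ⟨hT'', hsub''⟩ (heq : (Subtype.val : ↥W → _) ⁻¹' T' = _ ⁻¹' T'')
    have h1 := closure_image_preimage_of_isPreirreducible (Subtype.val : ↥W → _) hemb.isOpenMap T'
      (hne T' hT' hsub) hT'.1.isPreirreducible (isClosed_of_mem_irreducibleComponents T' hT')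
    have h2 := closure_image_preimage_of_isPreirreducible (Subtype.val : ↥W → _) hemb.isOpenMap T''
      (hne T'' hT'' hsub'') hT''.1.isPreirreducible
      (isClosed_of_mem_irreducibleComponents T'' hT'')
    rw [← h1, ← h2, heq]

/-- S1670 -/
theorem main [LocallyOfFiniteType (X ↘ Spec (CommRingCat.of k))]
    (T : Set X) (hT : T ∈ irreducibleComponents ↥X) :
    {T' : Set ↥(Curv2.bc k X (SeparableClosure k)) |
        T' ∈ irreducibleComponents ↥(Curv2.bc k X (SeparableClosure k)) ∧
        Curv2.bcFst k X (SeparableClosure k) '' T' ⊆ T}.Finite ∧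
      Curv2.bcFst k X (SeparableClosure k) ⁻¹' T =
        ⋃₀ {T' : Set ↥(Curv2.bc k X (SeparableClosure k)) |
          T' ∈ irreducibleComponents ↥(Curv2.bc k X (SeparableClosure k)) ∧
          Curv2.bcFst k X (SeparableClosure k) '' T' ⊆ T} ∧
      ∀ T' T'' : Set ↥(Curv2.bc k X (SeparableClosure k)),
        T' ∈ irreducibleComponents ↥(Curv2.bc k X (SeparableClosure k)) →
        T'' ∈ irreducibleComponents ↥(Curv2.bc k X (SeparableClosure k)) →
        Curv2.bcFst k X (SeparableClosure k) '' T' ⊆ T →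
        Curv2.bcFst k X (SeparableClosure k) '' T'' ⊆ T →
        ∃ σ : SeparableClosure k ≃ₐ[k] SeparableClosure k,
          Curv2.galAct k X (SeparableClosure k) σ '' T' = T'' := by
  haveI : Normal k (SeparableClosure k) := IsGalois.to_normal
  refine ⟨finite_components_over k X _ hT, ?_, ?_⟩
  · have h := preimage_eq_sUnion_irreducibleComponents (Curv2.bcFst k X (SeparableClosure k))
      (Curv2.bcFst k X (SeparableClosure k)).continuous
      (generalizingMap_bc_fst (X ↘ Spec (CommRingCat.of k)) (SeparableClosure k)) hT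
    rw [h]
    congr 1
    ext Z
    simp only [Set.mem_setOf_eq, Set.image_subset_iff]
  · intro T' T'' hT' hT'' h1 h2
    refine (image_eq_iff_conj k X (SeparableClosure k) T' T'' hT' hT'').mp ?_
    rw [image_eq_of_subset k X _ hT hT' h1, image_eq_of_subset k X _ hT hT'' h2]

end Groth.Agent.Helper4.GalOrbit
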