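import Groth.Agent.Helper4.ConnGal
import Groth.Agent.Helper4.FinLevelOpen
import Groth.Agent.Helper4.GalOrbit
import Mathlib

set_option autoImplicit false
universe u
open CategoryTheory CategoryTheory.Limits AlgebraicGeometry Opposite

namespace Groth.Agent.Helper4.GalGeom

open Groth.Agent.Helper4.GalTrans Groth.Agent.Helper4.GeomConnSch Groth.Agent.Helper4.IrrCompBC
  Groth.Agent.Helper4.GalDesc Groth.Agent.Helper4.GeomBC Groth.Agent.Helper4.ConnFinSep
  Groth.Agent.Helper4.GalStable Groth.Agent.Helper4.GeomConnSub Groth.Agent.Helper4.GeomIrrSch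
  Groth.Agent.Helper4.ConnImage Groth.Agent.Helper4.ConnGal Groth.Agent.Helper4.FinLevelOpen

section general
variable {k : Type u} [Field k]

/-- Irreducibility after base change to some separably closed extension implies geometric
irreducibility. -/
theorem geometricallyIrreducible_of_isSepClosed_bc {X : Scheme.{u}}
    (f : X ⟶ Spec (CommRingCat.of k)) (Ω₀ : Type u) [Field Ω₀] [Algebra k Ω₀] [IsSepClosed Ω₀]
    [IrreducibleSpace ↥(pullback f (Spec.map (CommRingCat.ofHom (algebraMap k Ω₀))))] :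
    GeometricallyIrreducible f := by
  let ψ : SeparableClosure k →ₐ[k] Ω₀ := IsSepClosed.lift
  letI : Algebra (SeparableClosure k) Ω₀ := ψ.toRingHom.toAlgebra
  haveI : IsScalarTower k (SeparableClosure k) Ω₀ :=
    IsScalarTower.of_algebraMap_eq (fun x => (ψ.commutes x).symm)
  haveI : IrreducibleSpace
      ↥(pullback f (Spec.map (CommRingCat.ofHom (algebraMap k (SeparableClosure k))))) :=
    Function.Surjective.irreducibleSpace (bcMap f (SeparableClosure k) Ω₀).continuous
      (bcMap_surjective f (SeparableClosure k) Ω₀)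
  exact geometricallyIrreducible_of_sepClosure f

/-- Connectedness after base change to some separably closed extension implies geometric
connectedness. -/
theorem geometricallyConnected_of_isSepClosed_bc {X : Scheme.{u}}
    (f : X ⟶ Spec (CommRingCat.of k)) (Ω₀ : Type u) [Field Ω₀] [Algebra k Ω₀] [IsSepClosed Ω₀]
    [ConnectedSpace ↥(pullback f (Spec.map (CommRingCat.ofHom (algebraMap k Ω₀))))] :
    GeometricallyConnected f := by
  let ψ : SeparableClosure k →ₐ[k] Ω₀ := IsSepClosed.lift
  letI : Algebra (SeparableClosure k) Ω₀ := ψ.toRingHom.toAlgebra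
  haveI : IsScalarTower k (SeparableClosure k) Ω₀ :=
    IsScalarTower.of_algebraMap_eq (fun x => (ψ.commutes x).symm)
  haveI : ConnectedSpace
      ↥(pullback f (Spec.map (CommRingCat.ofHom (algebraMap k (SeparableClosure k))))) :=
    (bcMap_surjective f (SeparableClosure k) Ω₀).connectedSpace
      (bcMap f (SeparableClosure k) Ω₀).continuous
  exact geometricallyConnected_of_sepClosure f

/-- (GI) A closed subscheme whose preimage in a separably closed base change is irreducible is
geometrically irreducible. -/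
theorem geometricallyIrreducible_of_isPullback (Ω₀ : Type u) [Field Ω₀] [Algebra k Ω₀]
    [IsSepClosed Ω₀] {Y Y₀ Z : Scheme.{u}} (g : Y ⟶ Spec (CommRingCat.of k)) (ρ : Y₀ ⟶ Y)
    (g₀ : Y₀ ⟶ Spec (CommRingCat.of Ω₀))
    (h : IsPullback ρ g₀ g (Spec.map (CommRingCat.ofHom (algebraMap k Ω₀))))
    (ι : Z ⟶ Y) [IsClosedImmersion ι] (hirr : IsIrreducible (ρ ⁻¹' Set.range ι)) :
    GeometricallyIrreducible (ι ≫ g) := by
  let e := h.isoPullback
  have he : e.hom ≫ pullback.fst g _ = ρ := h.isoPullback_hom_fst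
  let β := bcHom ι g Ω₀
  have hrange : Set.range β = e.hom '' (ρ ⁻¹' Set.range ι) := by
    rw [range_bcHom]
    ext y
    constructor
    · intro hy
      refine ⟨e.inv y, ?_, ?_⟩
      · show ρ (e.inv y) ∈ Set.range ι
        rw [← he, ← Scheme.Hom.comp_apply, Iso.inv_hom_id_assoc]
        exact hy
      · rw [← Scheme.Hom.comp_apply, Iso.inv_hom_id]; rfl
    · rintro ⟨y₀, hy₀, rfl⟩
      show pullback.fst g _ (e.hom y₀) ∈ Set.range ι
      rw [← Scheme.Hom.comp_apply, he]
      exact hy₀
  haveI : IrreducibleSpace ↥(pullback (ι ≫ g)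
      (Spec.map (CommRingCat.ofHom (algebraMap k Ω₀)))) := by
    refine irreducibleSpace_of_isInducing β β.isEmbedding.isInducing ?_
    rw [hrange]
    exact hirr.image _ e.hom.continuous.continuousOn
  exact geometricallyIrreducible_of_isSepClosed_bc (ι ≫ g) Ω₀

/-- (GC) A closed subscheme whose preimage in a separably closed base change is connected is
geometrically connected. -/
theorem geometricallyConnected_of_isPullback (Ω₀ : Type u) [Field Ω₀] [Algebra k Ω₀]
    [IsSepClosed Ω₀] {Y Y₀ Z : Scheme.{u}} (g : Y ⟶ Spec (CommRingCat.of k)) (ρ : Y₀ ⟶ Y)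
    (g₀ : Y₀ ⟶ Spec (CommRingCat.of Ω₀))
    (h : IsPullback ρ g₀ g (Spec.map (CommRingCat.ofHom (algebraMap k Ω₀))))
    (ι : Z ⟶ Y) [IsClosedImmersion ι] (hconn : _root_.IsConnected (ρ ⁻¹' Set.range ι)) :
    GeometricallyConnected (ι ≫ g) := by
  let e := h.isoPullback
  have he : e.hom ≫ pullback.fst g _ = ρ := h.isoPullback_hom_fst
  let β := bcHom ι g Ω₀
  have hrange : Set.range β = e.hom '' (ρ ⁻¹' Set.range ι) := by
    rw [range_bcHom]
    ext y
    constructor
    · intro hy
      refine ⟨e.inv y, ?_, ?_⟩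
      · show ρ (e.inv y) ∈ Set.range ι
        rw [← he, ← Scheme.Hom.comp_apply, Iso.inv_hom_id_assoc]
        exact hy
      · rw [← Scheme.Hom.comp_apply, Iso.inv_hom_id]; rfl
    · rintro ⟨y₀, hy₀, rfl⟩
      show pullback.fst g _ (e.hom y₀) ∈ Set.range ι
      rw [← Scheme.Hom.comp_apply, he]
      exact hy₀
  haveI : ConnectedSpace ↥(pullback (ι ≫ g)
      (Spec.map (CommRingCat.ofHom (algebraMap k Ω₀)))) := by
    refine connectedSpace_of_isInducing β β.isEmbedding.isInducing ?_
    rw [hrange]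
    exact hconn.image _ e.hom.continuous.continuousOn
  exact geometricallyConnected_of_isSepClosed_bc (ι ≫ g) Ω₀

end general

variable {k : Type u} [Field k] {X : Scheme.{u}} [X.Over (Spec (CommRingCat.of k))]
  {K : Type u} [Field K] [Algebra k K]

/-- If `X_K` has finitely many irreducible components, each is stable under an open subgroup. -/
theorem exists_stable_irreducibleComponent [Algebra.IsAlgebraic k K]
    (hfin : (irreducibleComponents ↥(Curv2.bc k X K)).Finite)
    (Z : Set ↥(Curv2.bc k X K)) (hZ : Z ∈ irreducibleComponents ↥(Curv2.bc k X K)) :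
    ∃ E : IntermediateField k K, FiniteDimensional k E ∧ Stable k X K E Z := by
  let S : Set (Set ↥(Curv2.bc k X K)) := irreducibleComponents ↥(Curv2.bc k X K) \ {Z}
  have hSfin : S.Finite := hfin.subset Set.diff_subset
  have hScl : IsClosed (⋃₀ S) := by
    rw [Set.sUnion_eq_biUnion]
    exact hSfin.isClosed_biUnion (fun Z' hZ' => isClosed_of_mem_irreducibleComponents Z' hZ'.1)
  let V : Set ↥(Curv2.bc k X K) := (⋃₀ S)ᶜ
  have hVo : IsOpen V := hScl.isOpen_compl
  have hVZ : V ⊆ Z := by
    intro v hv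
    have hv' : v ∈ ⋃₀ irreducibleComponents ↥(Curv2.bc k X K) := by
      rw [sUnion_irreducibleComponents]; trivial
    obtain ⟨Z', hZ', hvZ'⟩ := hv'
    by_cases h : Z' = Z
    · exact h ▸ hvZ'
    · exact (hv ⟨Z', ⟨hZ', h⟩, hvZ'⟩).elim
  have hVne : V.Nonempty := by
    by_contra hcon
    rw [Set.not_nonempty_iff_eq_empty, Set.compl_empty_iff] at hcon
    have hsub : Z ⊆ ⋃₀ S := hcon ▸ Set.subset_univ Z
    obtain ⟨Z', hZ'S, hZZ'⟩ := (isIrreducible_iff_sUnion_isClosed.mp hZ.1) hSfin.toFinset
      (fun Z' hZ' => isClosed_of_mem_irreducibleComponents Z'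
        ((hSfin.mem_toFinset.mp hZ').1))
      (by simpa using hsub)
    have hZ'S' : Z' ∈ S := hSfin.mem_toFinset.mp hZ'S
    exact hZ'S'.2 (Set.mem_singleton_iff.mpr
      (Set.Subset.antisymm (hZ.2 hZ'S'.1.1 hZZ') hZZ'))
  obtain ⟨b, hb⟩ := hVne
  obtain ⟨E, hE, N, hNo, hbN, hNV, hNs⟩ := exists_stable_open_nhds V hVo b hb
  refine ⟨E, hE, ?_⟩
  rintro σ hσ _ ⟨z, hz, rfl⟩
  -- `σ Z` is an irreducible component containing `σ b ∈ V`
  have hσZ : galHomeo k X K σ '' Z ∈ irreducibleComponents ↥(Curv2.bc k X K) := by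
    have h1 := preimage_mem_irreducibleComponents (f := (galHomeo k X K σ).symm) hZ
      (galHomeo k X K σ).symm.isOpenEmbedding
      (by
        have : Set.range ((galHomeo k X K σ).symm : _ → _) = Set.univ :=
          (galHomeo k X K σ).symm.surjective.range_eq
        rw [this, Set.inter_univ]; exact hZ.1.nonempty)
    rwa [← (galHomeo k X K σ).image_eq_preimage_symm] at h1
  have hσb : galHomeo k X K σ b ∈ V := hNV (hNs.mem_of_mem hσ hbN)
  have hσbZ : galHomeo k X K σ b ∈ galHomeo k X K σ '' Z := ⟨b, hVZ hb, rfl⟩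
  have heq : galHomeo k X K σ '' Z = Z := by
    by_contra hne
    exact hσb ⟨_, ⟨hσZ, hne⟩, hσbZ⟩
  rw [← heq]
  exact ⟨z, hz, rfl⟩

end Groth.Agent.Helper4.GalGeom
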