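import Groth.Agent.Helper4.GalDesc
import Groth.Agent.Helper4.ConnFinSep
import Mathlib

set_option autoImplicit false
universe u
open CategoryTheory CategoryTheory.Limits AlgebraicGeometry Opposite

namespace Groth.Agent.Helper4.GalStable

open Groth.Agent.Helper4.GalTrans Groth.Agent.Helper4.GeomConnSch Groth.Agent.Helper4.IrrCompBC
  Groth.Agent.Helper4.GalDesc Groth.Agent.Helper4.GeomBC Groth.Agent.Helper4.ConnFinSep

variable (k : Type u) [Field k] (X : Scheme.{u}) [X.Over (Spec (CommRingCat.of k))]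
  (K : Type u) [Field K] [Algebra k K]

/-- The projection to the intermediate level `E`. -/
noncomputable abbrev q (E : IntermediateField k K) :
    Curv2.bc k X K ⟶ Curv2.bc k X E :=
  bcMap (X ↘ Spec (CommRingCat.of k)) E K

theorem galAct_q (E : IntermediateField k K) (σ : K ≃ₐ[k] K) (hσ : σ ∈ E.fixingSubgroup) :
    Curv2.galAct k X K σ ≫ q k X K E = q k X K E := by
  refine pullback.hom_ext ?_ ?_
  · rw [Category.assoc, bcMap_fst]
    exact galAct_fst k X K σ
  · rw [Category.assoc, bcMap_snd, ← Category.assoc]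
    erw [galAct_snd k X K σ]
    rw [Category.assoc, ← Spec.map_comp]
    congr 2
    refine CommRingCat.hom_ext (RingHom.ext fun x => ?_)
    exact (IntermediateField.mem_fixingSubgroup_iff E σ).mp hσ x x.2

theorem galAct_q_apply (E : IntermediateField k K) (σ : K ≃ₐ[k] K) (hσ : σ ∈ E.fixingSubgroup)
    (t : ↥(Curv2.bc k X K)) : q k X K E (Curv2.galAct k X K σ t) = q k X K E t := by
  rw [← Scheme.Hom.comp_apply, galAct_q k X K E σ hσ]

/-- The fibres of `X_K → X_E` are the orbits of the automorphisms fixing `E`. -/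
theorem exists_galAct_eq_of_q_eq [Normal k K] (E : IntermediateField k K)
    (t t' : ↥(Curv2.bc k X K)) (h : q k X K E t = q k X K E t') :
    ∃ σ : K ≃ₐ[k] K, σ ∈ E.fixingSubgroup ∧ Curv2.galAct k X K σ t = t' := by
  let p := q k X K E
  obtain ⟨w, hw1, hw2⟩ := Scheme.Pullback.exists_preimage_pullback (f := p) (g := p) t t' h
  let W := pullback p p
  let Ω := W.residueField w
  let ι : Spec Ω ⟶ W := W.fromSpecResidueField w
  obtain ⟨a, ha⟩ : ∃ a : Spec Ω ⟶ Curv2.bc k X K, a = ι ≫ pullback.fst p p := ⟨_, rfl⟩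
  obtain ⟨a', ha'd⟩ : ∃ a' : Spec Ω ⟶ Curv2.bc k X K, a' = ι ≫ pullback.snd p p := ⟨_, rfl⟩
  have haa' : a ≫ p = a' ≫ p := by
    simp only [ha, ha'd, Category.assoc, pullback.condition]
  have hfst : a ≫ Curv2.bcFst k X K = a' ≫ Curv2.bcFst k X K := by
    have h1 : p ≫ Curv2.bcFst k X E = Curv2.bcFst k X K := bcMap_fst _ _ _
    rw [← h1, ← Category.assoc, ← Category.assoc, haa']
  obtain ⟨φ, hφ⟩ := Spec.map_surjective (a ≫ Curv2.bcSnd k X K)
  obtain ⟨φ', hφ'⟩ := Spec.map_surjective (a' ≫ Curv2.bcSnd k X K)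
  have hE : CommRingCat.ofHom (algebraMap E K) ≫ φ = CommRingCat.ofHom (algebraMap E K) ≫ φ' := by
    apply Spec.map_injective
    rw [Spec.map_comp, Spec.map_comp]
    have hc : Curv2.bcSnd k X K ≫ Spec.map (CommRingCat.ofHom (algebraMap E K)) =
        p ≫ Curv2.bcSnd k X E := (bcMap_snd _ _ _).symm
    calc Spec.map φ ≫ Spec.map (CommRingCat.ofHom (algebraMap E K))
        = a ≫ Curv2.bcSnd k X K ≫ Spec.map (CommRingCat.ofHom (algebraMap E K)) := by
          rw [hφ, Category.assoc]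
      _ = (a ≫ p) ≫ Curv2.bcSnd k X E := by rw [hc, Category.assoc]
      _ = (a' ≫ p) ≫ Curv2.bcSnd k X E := by rw [haa']
      _ = a' ≫ Curv2.bcSnd k X K ≫ Spec.map (CommRingCat.ofHom (algebraMap E K)) := by
          rw [hc, Category.assoc]
      _ = Spec.map φ' ≫ Spec.map (CommRingCat.ofHom (algebraMap E K)) := by
          rw [hφ', Category.assoc]
  have hEx : ∀ x : E, φ.hom (algebraMap E K x) = φ'.hom (algebraMap E K x) := fun x =>
    congrArg (fun m => m.hom x) hE
  letI : Algebra k Ω := (φ.hom.comp (algebraMap k K)).toAlgebra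
  let j : K →ₐ[k] Ω := { φ.hom with commutes' := fun _ => rfl }
  let j' : K →ₐ[k] Ω := { φ'.hom with
    commutes' := fun c => by
      have := hEx (algebraMap k E c)
      exact this.symm }
  obtain ⟨σ, hσ⟩ := exists_algEquiv_comp_eq j j'
  have hσE : σ ∈ E.fixingSubgroup := by
    rw [IntermediateField.mem_fixingSubgroup_iff]
    intro x hx
    have h1 : j (σ x) = j' x := hσ x
    have h2 : j' x = j x := (hEx ⟨x, hx⟩).symm
    exact j.injective (h1.trans h2)
  refine ⟨σ, hσE, ?_⟩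
  have hφσ : CommRingCat.ofHom (σ : K →ₐ[k] K).toRingHom ≫ φ = φ' := by
    refine CommRingCat.hom_ext (RingHom.ext fun x => ?_)
    exact hσ x
  have ha' : a' = a ≫ Curv2.galAct k X K σ := by
    refine pullback.hom_ext ?_ ?_
    · show a' ≫ Curv2.bcFst k X K = (a ≫ Curv2.galAct k X K σ) ≫ Curv2.bcFst k X K
      rw [Category.assoc, galAct_fst]
      exact hfst.symm
    · show a' ≫ Curv2.bcSnd k X K = (a ≫ Curv2.galAct k X K σ) ≫ Curv2.bcSnd k X K
      rw [Category.assoc, galAct_snd, ← Category.assoc, ← hφ, ← hφ', ← Spec.map_comp, hφσ]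
  have hpt : ∀ z : ↥(Spec Ω), ι z = w := fun z => by
    have := Scheme.range_fromSpecResidueField w
    have hz : ι z ∈ Set.range ι := ⟨z, rfl⟩
    rw [this] at hz
    exact hz
  obtain ⟨z⟩ : Nonempty ↥(Spec Ω) := inferInstance
  have h1 : a z = t := by
    rw [ha, Scheme.Hom.comp_apply, hpt z, hw1]
  have h2 : a' z = t' := by
    rw [ha'd, Scheme.Hom.comp_apply, hpt z, hw2]
  rw [← h1, ← h2, ha']
  exact (Scheme.Hom.comp_apply _ _ _).symm

/-- A subset of `X_K` stable under the automorphisms fixing `E`. -/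
def Stable (E : IntermediateField k K) (D : Set ↥(Curv2.bc k X K)) : Prop :=
  ∀ σ : K ≃ₐ[k] K, σ ∈ E.fixingSubgroup → Curv2.galAct k X K σ '' D ⊆ D

variable {k X K}

theorem Stable.mono {E E' : IntermediateField k K} (h : E ≤ E') {D : Set ↥(Curv2.bc k X K)}
    (hD : Stable k X K E D) : Stable k X K E' D :=
  fun σ hσ => hD σ (IntermediateField.fixingSubgroup_antitone h hσ)

theorem Stable.inter {E : IntermediateField k K} {D D' : Set ↥(Curv2.bc k X K)}
    (hD : Stable k X K E D) (hD' : Stable k X K E D') : Stable k X K E (D ∩ D') := by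
  rintro σ hσ _ ⟨t, ⟨ht, ht'⟩, rfl⟩
  exact ⟨hD σ hσ ⟨t, ht, rfl⟩, hD' σ hσ ⟨t, ht', rfl⟩⟩

theorem stable_univ (E : IntermediateField k K) : Stable k X K E Set.univ :=
  fun _ _ _ _ => trivial

theorem stable_preimage_q (E : IntermediateField k K) (S : Set ↥(Curv2.bc k X E)) :
    Stable k X K E (q k X K E ⁻¹' S) := by
  rintro σ hσ _ ⟨t, ht, rfl⟩
  show q k X K E (Curv2.galAct k X K σ t) ∈ S
  rw [galAct_q_apply k X K E σ hσ]
  exact ht

theorem stable_preimage_fst (E : IntermediateField k K) (S : Set ↥X) :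
    Stable k X K E (Curv2.bcFst k X K ⁻¹' S) := by
  rintro σ _ _ ⟨t, ht, rfl⟩
  show Curv2.bcFst k X K (Curv2.galAct k X K σ t) ∈ S
  rw [galAct_fst_apply]
  exact ht

theorem Stable.mem_of_mem {E : IntermediateField k K} {D : Set ↥(Curv2.bc k X K)}
    (hD : Stable k X K E D) {σ : K ≃ₐ[k] K} (hσ : σ ∈ E.fixingSubgroup) {t : ↥(Curv2.bc k X K)}
    (ht : t ∈ D) : Curv2.galAct k X K σ t ∈ D := hD σ hσ ⟨t, ht, rfl⟩

/-- Stable subsets are saturated for `q`. -/
theorem Stable.preimage_image [Normal k K] {E : IntermediateField k K}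
    {D : Set ↥(Curv2.bc k X K)} (hD : Stable k X K E D) :
    q k X K E ⁻¹' (q k X K E '' D) = D := by
  refine Set.Subset.antisymm ?_ (Set.subset_preimage_image _ _)
  rintro t ⟨t', ht', h⟩
  obtain ⟨σ, hσ, hσt⟩ := exists_galAct_eq_of_q_eq k X K E t' t h
  rw [← hσt]
  exact hD.mem_of_mem hσ ht'

/-- The saturation of a subset with respect to `q`. -/
def sat (E : IntermediateField k K) (S : Set ↥(Curv2.bc k X K)) : Set ↥(Curv2.bc k X K) :=
  q k X K E ⁻¹' (q k X K E '' S)

theorem subset_sat (E : IntermediateField k K) (S : Set ↥(Curv2.bc k X K)) : S ⊆ sat E S :=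
  Set.subset_preimage_image _ _

theorem stable_sat (E : IntermediateField k K) (S : Set ↥(Curv2.bc k X K)) :
    Stable k X K E (sat E S) := stable_preimage_q E _

theorem isClosed_sat [Algebra.IsAlgebraic k K] (E : IntermediateField k K)
    {S : Set ↥(Curv2.bc k X K)} (hS : IsClosed S) : IsClosed (sat E S) :=
  (isClosedMap_bcMap _ E K S hS).preimage (q k X K E).continuous

theorem isOpen_sat (E : IntermediateField k K) {S : Set ↥(Curv2.bc k X K)} (hS : IsOpen S) :
    IsOpen (sat E S) :=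
  (isOpenMap_bcMap _ E K S hS).preimage (q k X K E).continuous

theorem mem_sat_iff [Normal k K] (E : IntermediateField k K) (S : Set ↥(Curv2.bc k X K))
    (t : ↥(Curv2.bc k X K)) :
    t ∈ sat E S ↔ ∃ σ : K ≃ₐ[k] K, σ ∈ E.fixingSubgroup ∧ ∃ s ∈ S,
      Curv2.galAct k X K σ s = t := by
  constructor
  · rintro ⟨s, hs, h⟩
    obtain ⟨σ, hσ, hσt⟩ := exists_galAct_eq_of_q_eq k X K E s t h
    exact ⟨σ, hσ, s, hs, hσt⟩
  · rintro ⟨σ, hσ, s, hs, rfl⟩
    exact ⟨s, hs, (galAct_q_apply k X K E σ hσ s).symm⟩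

theorem sat_subset_of_stable [Normal k K] {E : IntermediateField k K}
    {S D : Set ↥(Curv2.bc k X K)} (hD : Stable k X K E D) (hSD : S ⊆ D) : sat E S ⊆ D := by
  intro t ht
  obtain ⟨σ, hσ, s, hs, rfl⟩ := (mem_sat_iff E S t).mp ht
  exact hD.mem_of_mem hσ (hSD hs)

theorem sat_mono_level {E E' : IntermediateField k K} [Normal k K] (h : E ≤ E')
    (S : Set ↥(Curv2.bc k X K)) : sat E' S ⊆ sat E S :=
  sat_subset_of_stable ((stable_sat E S).mono h) (subset_sat E S)

instance quasiCompact_q (E : IntermediateField k K) : QuasiCompact (q k X K E) :=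
  MorphismProperty.of_isPullback (P := @QuasiCompact) (isPullback_bcMap _ E K).flip inferInstance

theorem isCompact_fibre_q (E : IntermediateField k K) (c : ↥(Curv2.bc k X E)) :
    IsCompact (q k X K E ⁻¹' {c}) :=
  (q k X K E).isCompact_preimage_singleton c

end Groth.Agent.Helper4.GalStable
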