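import Groth.Prelude.Def_Curv2
import Mathlib

set_option autoImplicit false
universe u
open CategoryTheory CategoryTheory.Limits AlgebraicGeometry Opposite

namespace Groth.Agent.Helper4.GalTrans

/-- Two embeddings of a normal extension differ by an automorphism. -/
theorem exists_algEquiv_comp_eq {k K Ω : Type*} [Field k] [Field K] [Field Ω] [Algebra k K]
    [Algebra k Ω] [Normal k K] (j j' : K →ₐ[k] Ω) : ∃ σ : K ≃ₐ[k] K, ∀ x, j (σ x) = j' x := by
  let E : IntermediateField k Ω := j.fieldRange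
  let e : K ≃ₐ[k] E := AlgEquiv.ofInjectiveField j
  haveI : Normal k E := Normal.of_algEquiv e
  have hE : (j'.comp (e.symm : E →ₐ[k] K)).fieldRange = E := AlgHom.fieldRange_of_normal _
  have hmem : ∀ x, j' x ∈ E := by
    intro x
    rw [← hE]
    exact ⟨e x, by simp⟩
  let j'' : K →ₐ[k] E := j'.codRestrict E.toSubalgebra hmem
  let σ₀ : K →ₐ[k] K := (e.symm : E →ₐ[k] K).comp j''
  have hbij : Function.Bijective σ₀ := Algebra.IsAlgebraic.algHom_bijective σ₀
  refine ⟨AlgEquiv.ofBijective σ₀ hbij, fun x => ?_⟩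
  show j (e.symm (j'' x)) = j' x
  have h1 : (e (e.symm (j'' x)) : Ω) = j (e.symm (j'' x)) := rfl
  rw [← h1, e.apply_symm_apply]
  rfl

variable (k : Type u) [Field k] (X : Scheme.{u}) [X.Over (Spec (CommRingCat.of k))]
  (K : Type u) [Field K] [Algebra k K]

theorem galAct_fst (σ : K ≃ₐ[k] K) :
    Curv2.galAct k X K σ ≫ Curv2.bcFst k X K = Curv2.bcFst k X K := by
  unfold Curv2.galAct
  rw [pullback.lift_fst]
  exact Category.comp_id _

theorem galAct_snd (σ : K ≃ₐ[k] K) :
    Curv2.galAct k X K σ ≫ Curv2.bcSnd k X K =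
      Curv2.bcSnd k X K ≫ Spec.map (CommRingCat.ofHom (σ : K →ₐ[k] K).toRingHom) := by
  unfold Curv2.galAct
  rw [pullback.lift_snd]

/-- The fibres of `X_K → X` are the orbits of the automorphism group when `K / k` is normal. -/
theorem exists_galAct_eq [Normal k K] (t t' : ↥(Curv2.bc k X K))
    (h : Curv2.bcFst k X K t = Curv2.bcFst k X K t') :
    ∃ σ : K ≃ₐ[k] K, Curv2.galAct k X K σ t = t' := by
  let p := Curv2.bcFst k X K
  obtain ⟨w, hw1, hw2⟩ := Scheme.Pullback.exists_preimage_pullback (f := p) (g := p) t t' h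
  let W := pullback p p
  let Ω := W.residueField w
  let ι : Spec Ω ⟶ W := W.fromSpecResidueField w
  obtain ⟨a, ha⟩ : ∃ a : Spec Ω ⟶ Curv2.bc k X K, a = ι ≫ pullback.fst p p := ⟨_, rfl⟩
  obtain ⟨a', ha'd⟩ : ∃ a' : Spec Ω ⟶ Curv2.bc k X K, a' = ι ≫ pullback.snd p p := ⟨_, rfl⟩
  have haa' : a ≫ p = a' ≫ p := by
    simp only [ha, ha'd, Category.assoc, pullback.condition]
  obtain ⟨φ, hφ⟩ := Spec.map_surjective (a ≫ Curv2.bcSnd k X K)
  obtain ⟨φ', hφ'⟩ := Spec.map_surjective (a' ≫ Curv2.bcSnd k X K)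
  have hcomm : CommRingCat.ofHom (algebraMap k K) ≫ φ = CommRingCat.ofHom (algebraMap k K) ≫ φ' := by
    apply Spec.map_injective
    rw [Spec.map_comp, Spec.map_comp]
    have hc : Curv2.bcSnd k X K ≫ Spec.map (CommRingCat.ofHom (algebraMap k K)) =
        p ≫ (X ↘ Spec (CommRingCat.of k)) := pullback.condition.symm
    calc Spec.map φ ≫ Spec.map (CommRingCat.ofHom (algebraMap k K))
        = a ≫ Curv2.bcSnd k X K ≫ Spec.map (CommRingCat.ofHom (algebraMap k K)) := by
          rw [hφ, Category.assoc]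
      _ = (a ≫ p) ≫ (X ↘ Spec (CommRingCat.of k)) := by rw [hc, Category.assoc]
      _ = (a' ≫ p) ≫ (X ↘ Spec (CommRingCat.of k)) := by rw [haa']
      _ = a' ≫ Curv2.bcSnd k X K ≫ Spec.map (CommRingCat.ofHom (algebraMap k K)) := by
          rw [hc, Category.assoc]
      _ = Spec.map φ' ≫ Spec.map (CommRingCat.ofHom (algebraMap k K)) := by
          rw [hφ', Category.assoc]
  letI : Algebra k Ω := (φ.hom.comp (algebraMap k K)).toAlgebra
  let j : K →ₐ[k] Ω := { φ.hom with commutes' := fun _ => rfl }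
  let j' : K →ₐ[k] Ω := { φ'.hom with
    commutes' := fun c => by
      have := congrArg (fun m => m.hom c) hcomm
      exact this.symm }
  obtain ⟨σ, hσ⟩ := exists_algEquiv_comp_eq j j'
  refine ⟨σ, ?_⟩
  have hφσ : CommRingCat.ofHom (σ : K →ₐ[k] K).toRingHom ≫ φ = φ' := by
    refine CommRingCat.hom_ext (RingHom.ext fun x => ?_)
    exact hσ x
  have ha' : a' = a ≫ Curv2.galAct k X K σ := by
    refine pullback.hom_ext ?_ ?_
    · show a' ≫ p = (a ≫ Curv2.galAct k X K σ) ≫ Curv2.bcFst k X K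
      rw [Category.assoc, galAct_fst]
      exact haa'.symm
    · show a' ≫ Curv2.bcSnd k X K = (a ≫ Curv2.galAct k X K σ) ≫ Curv2.bcSnd k X K
      rw [Category.assoc, galAct_snd, ← Category.assoc, ← hφ, ← hφ', ← Spec.map_comp, hφσ]
  have hpt : ∀ z : ↥(Spec Ω), ι z = w := fun z => by
    have := Scheme.range_fromSpecResidueField w
    have hz : ι z ∈ Set.range ι := ⟨z, rfl⟩
    rw [this] at hz
    exact hz
  obtain ⟨z⟩ : Nonempty ↥(Spec Ω) := inferInstance
  have h1 : a z = t := by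
    rw [ha, Scheme.Hom.comp_apply, hpt z, hw1]
  have h2 : a' z = t' := by
    rw [ha'd, Scheme.Hom.comp_apply, hpt z, hw2]
  rw [← h1, ← h2, ha']
  exact (Scheme.Hom.comp_apply _ _ _).symm

end Groth.Agent.Helper4.GalTrans
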