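import Mathlib
import Groth.Agent.Helper9.LDeriv2

/-! Weakly K-injective objects: in a triangulated category `C` with triangulated subcategories
`A` ("K-flat") and `B` ("acyclic") such that `A` has enough resolutions relative to `B`, the
objects right orthogonal to `A ⊓ B` which lie in `B` receive no nonzero map from `A`. -/

set_option autoImplicit false
set_option linter.unusedSectionVars false

namespace Groth.Agent.Helper4.WOrth

open CategoryTheory Category Limits Pretriangulated ObjectProperty Groth.Agent.Helper9.LDeriv2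

variable {C : Type*} [Category C] [HasZeroObject C] [HasShift C ℤ] [Preadditive C]
  [∀ n : ℤ, (shiftFunctor C n).Additive] [Pretriangulated C] [IsTriangulated C]
  {A B : ObjectProperty C} [A.IsTriangulated] [A.IsClosedUnderIsomorphisms]
  [B.IsTriangulated] [B.IsClosedUnderIsomorphisms]

/-- the key vanishing -/
theorem hom_eq_zero (h : HasRelRes A B) (M : C) (hMW : (A ⊓ B).rightOrthogonal M) (hMB : B M)
    (F : C) (hF : A F) (a : F ⟶ M) : a = 0 := by
  obtain ⟨F', s, c, hT⟩ := distinguished_cocone_triangle₁ a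
  have hs : B.trW s := ⟨M, a, c, hT, hMB⟩
  obtain ⟨P, q, hP, hq⟩ := exists_res₀ h F'
  have hqs : B.trW (q ≫ s) := B.trW.comp_mem _ _ hq hs
  obtain ⟨N', b, d, hT', hN'⟩ := trW_inf_of_trW h (q ≫ s) hP hF hqs
  have hsa : s ≫ a = 0 := comp_distTriang_mor_zero₁₂ _ hT
  have h0 : (q ≫ s) ≫ a = 0 := by rw [assoc, hsa, comp_zero]
  obtain ⟨(a' : N' ⟶ M), (ha' : a = b ≫ a')⟩ := Triangle.yoneda_exact₂ _ hT' a h0
  have : a' = 0 := hMW a' hN'
  rw [ha', this, comp_zero]

/-- the cone of a `B.trW`-morphism from a weakly K-injective object to a `B`-local object is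
weakly K-injective and in `B` -/
theorem cone_mem (T : Triangle C) (hT : T ∈ distTriang C)
    (h₁ : (A ⊓ B).rightOrthogonal T.obj₁) (h₂ : B.rightOrthogonal T.obj₂) :
    (A ⊓ B).rightOrthogonal T.obj₃ := by
  have h₂' : (A ⊓ B).rightOrthogonal T.obj₂ := fun X f hX => h₂ f hX.2
  exact (A ⊓ B).rightOrthogonal.ext_of_isTriangulatedClosed₃ T hT h₁ h₂'

end Groth.Agent.Helper4.WOrth
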