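import Mathlib
import Groth.Agent.Helper4.SubExt3
import Groth.Agent.Helper4.WOrth
import Groth.Agent.Helper9.LDeriv3
import Groth.Agent.Helper9.KFlat12
import Groth.Agent.Helper9.QuotOnFlat
import Groth.Prelude.Def_DCoh2

/-! Global sections of complexes receiving no nonzero homotopy class from shifts of `O_X`. -/

set_option autoImplicit false
universe u
open CategoryTheory CategoryTheory.Limits AlgebraicGeometry TopologicalSpace Opposite

namespace Groth.Agent.Helper4.GammaAcyc

variable (X : Scheme.{u})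

/-- the structure sheaf as a module -/
noncomputable abbrev OX : X.Modules := SheafOfModules.unit X.ringCatSheaf

theorem unit_hom_ext {X : Scheme.{u}} (M : X.Modules)
    (σ τ : OX X ⟶ M)
    (h : (σ.val.app (op ⊤)).hom (1 : X.ringCatSheaf.obj.obj (op ⊤)) =
      (τ.val.app (op ⊤)).hom (1 : X.ringCatSheaf.obj.obj (op ⊤))) : σ = τ := by
  apply (SheafOfModules.unitHomEquiv (R := X.ringCatSheaf) M).injective
  apply Subtype.ext
  funext U
  rw [SheafOfModules.unitHomEquiv_apply_coe, SheafOfModules.unitHomEquiv_apply_coe]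
  have key : ∀ ρ : OX X ⟶ M,
      (ρ.val.app U).hom (1 : X.ringCatSheaf.obj.obj U) =
        M.val.map (homOfLE (le_top : U.unop ≤ ⊤)).op
          ((ρ.val.app (op ⊤)).hom (1 : X.ringCatSheaf.obj.obj (op ⊤))) := by
    intro ρ
    have := PresheafOfModules.naturality_apply ρ.val (homOfLE (le_top : U.unop ≤ ⊤)).op
      (1 : X.ringCatSheaf.obj.obj (op ⊤))
    rw [← this]
    congr 1
    exact (PresheafOfModules.unit_map_one _ _).symm
  rw [key σ, key τ, h]

/-- exactness of sections -/
theorem acyclic_gamma (M : CochainComplex X.Modules ℤ)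
    (hM : ∀ (n : ℤ) (ψ : (HomologicalComplex.single X.Modules (ComplexShape.up ℤ) n).obj (OX X) ⟶ M),
      Nonempty (Homotopy ψ 0)) :
    (((DCoh.gammaAb X).mapHomologicalComplex (ComplexShape.up ℤ)).obj M).Acyclic := by
  intro n
  rw [HomologicalComplex.exactAt_iff' _ (n - 1) n (n + 1) (by simp) (by simp),
    ShortComplex.ab_exact_iff]
  intro x hx
  have hx' : ((M.d n (n + 1)).val.app (op ⊤)).hom x = 0 := hx
  obtain ⟨σ, hσ⟩ := Groth.Agent.Helper4.SubExt.exists_unit_hom_of_section (M.X n) x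
  have hσd : ∀ k, (ComplexShape.up ℤ).Rel n k → σ ≫ M.d n k = 0 := by
    intro k hk
    obtain rfl : n + 1 = k := hk
    apply unit_hom_ext
    show ((M.d n (n + 1)).val.app (op ⊤)).hom
      ((σ.val.app (op ⊤)).hom (1 : X.ringCatSheaf.obj.obj (op ⊤))) = 0
    rw [hσ, hx']
  obtain ⟨H⟩ := hM n (HomologicalComplex.mkHomFromSingle σ hσd)
  have hc := H.comm n
  rw [HomologicalComplex.mkHomFromSingle_f] at hc
  let h : OX X ⟶ M.X (n - 1) :=
    (HomologicalComplex.singleObjXSelf (ComplexShape.up ℤ) n (OX X)).inv ≫ H.hom n (n - 1)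
  have hh : σ = h ≫ M.d (n - 1) n := by
    rw [dNext_eq H.hom (show (ComplexShape.up ℤ).Rel n (n + 1) from rfl),
      prevD_eq H.hom (show (ComplexShape.up ℤ).Rel (n - 1) n by simp),
      HomologicalComplex.single_obj_d, zero_comp, zero_add, HomologicalComplex.zero_f,
      add_zero] at hc
    rw [Category.assoc, ← hc, Iso.inv_hom_id_assoc]
  refine ⟨(h.val.app (op ⊤)).hom (1 : X.ringCatSheaf.obj.obj (op ⊤)), ?_⟩
  show ((M.d (n - 1) n).val.app (op ⊤)).hom
    ((h.val.app (op ⊤)).hom (1 : X.ringCatSheaf.obj.obj (op ⊤))) = x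
  rw [← hσ, hh]
  rfl

open Groth.Agent.Helper9.LDeriv3 in
theorem isFlat_unit : ModSite.IsFlat (O := X.sheaf) (ModSite.unit X.sheaf) :=
  ⟨preservesFiniteLimits_of_natIso (Groth.Agent.Helper9.QuotOnFlat.rightUnitIso X.sheaf).symm,
    preservesFiniteColimits_of_natIso (Groth.Agent.Helper9.QuotOnFlat.rightUnitIso X.sheaf).symm⟩

open Groth.Agent.Helper9.LDeriv3 in
theorem kf_single (n : ℤ) : KF X.sheaf ((HomotopyCategory.quotient (ModSite.Mod X.sheaf)
    (ComplexShape.up ℤ)).obj ((HomologicalComplex.single (ModSite.Mod X.sheaf)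
      (ComplexShape.up ℤ) n).obj (ModSite.unit X.sheaf))) := by
  rw [kf_quotient_obj_iff]
  apply Groth.Agent.Helper9.KFlat12.isKFlat_of_concentrated _ n
  intro k
  by_cases hk : k = n
  · subst hk
    exact Groth.Agent.Helper9.KFlat12.isFlat_of_iso
      (HomologicalComplex.singleObjXSelf (ComplexShape.up ℤ) k (ModSite.unit X.sheaf)).symm
      (isFlat_unit X)
  · exact Groth.Agent.Helper9.FlatCx.isFlat_of_isZero _
      (HomologicalComplex.isZero_single_obj_X (ComplexShape.up ℤ) n _ k hk)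

open Groth.Agent.Helper9.LDeriv3 in
/-- sections of an acyclic weakly K-injective complex are acyclic -/
theorem acyclic_gamma_of_orth (M : HomotopyCategory X.Modules (ComplexShape.up ℤ))
    (hW : (KF X.sheaf ⊓ HomotopyCategory.subcategoryAcyclic (ModSite.Mod X.sheaf)).rightOrthogonal M)
    (hB : HomotopyCategory.subcategoryAcyclic (ModSite.Mod X.sheaf) M) :
    (((DCoh.gammaAb X).mapHomologicalComplex (ComplexShape.up ℤ)).obj M.as).Acyclic := by
  apply acyclic_gamma
  intro n ψ
  have h0 := Groth.Agent.Helper4.WOrth.hom_eq_zero (hasRelRes X.sheaf) M hW hB _ (kf_single X n)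
    ((HomotopyCategory.quotient _ _).map ψ)
  exact ⟨HomotopyCategory.homotopyOfEq ψ 0 (h0.trans (Functor.map_zero _ _ _).symm)⟩

end Groth.Agent.Helper4.GammaAcyc
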