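import Mathlib
import Groth.Agent.Helper4.GammaAcyc
import Groth.Agent.Helper4.RDerComp
import Groth.Agent.Helper4.SchAdj

/-! The unit of `RΓ` is an isomorphism on weakly K-injective complexes. -/

set_option autoImplicit false
universe u
open CategoryTheory CategoryTheory.Limits AlgebraicGeometry TopologicalSpace Opposite Pretriangulated

namespace Groth.Agent.Helper4.GammaAcyc

attribute [local instance] HasDerivedCategory.standard

open Groth.Agent.Helper9.LDeriv3

variable (X : Scheme.{u})

theorem isIso_unit_of_orth [DCoh.HasRΓ X] (C : CochainComplex X.Modules ℤ)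
    (hC : (KF X.sheaf ⊓ HomotopyCategory.subcategoryAcyclic (ModSite.Mod X.sheaf)).rightOrthogonal
      ((HomotopyCategory.quotient _ _).obj C)) :
    IsIso (((DCoh.gammaKh X).totalRightDerivedUnit DerivedCategory.Qh
      (HomotopyCategory.quasiIso X.Modules (ComplexShape.up ℤ))).app
        ((HomotopyCategory.quotient _ _).obj C)) := by
  haveI := Groth.Agent.Helper4.SchAdj.isGrothendieckAbelian_modules X
  obtain ⟨J, φ, hJ, hφ⟩ := Groth.Agent.Helper4.KDerAdj.hKinj C
  let η := (DCoh.gammaKh X).totalRightDerivedUnit DerivedCategory.Qh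
      (HomotopyCategory.quasiIso X.Modules (ComplexShape.up ℤ))
  let φh := (HomotopyCategory.quotient X.Modules (ComplexShape.up ℤ)).map φ
  obtain ⟨M, g, h, hT⟩ := distinguished_cocone_triangle φh
  have hφq : HomotopyCategory.quasiIso X.Modules (ComplexShape.up ℤ) φh :=
    (HomotopyCategory.quotient_map_mem_quasiIso_iff φ).2 hφ
  have hMB : HomotopyCategory.subcategoryAcyclic X.Modules M := by
    rw [HomotopyCategory.quasiIso_eq_trW_subcategoryAcyclic] at hφq
    exact ((HomotopyCategory.subcategoryAcyclic X.Modules).trW_iff_of_distinguished _ hT).1 hφq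
  have hJ' : (HomotopyCategory.subcategoryAcyclic X.Modules).rightOrthogonal
      ((HomotopyCategory.quotient _ _).obj J) :=
    (CochainComplex.isKInjective_iff_rightOrthogonal J).1 hJ
  have hMW := Groth.Agent.Helper4.WOrth.cone_mem (A := KF X.sheaf) _ hT hC hJ'
  have hΓM := acyclic_gamma_of_orth X M hMW hMB
  -- the image triangle
  have hT' := ((DCoh.gammaAb X).mapHomotopyCategory (ComplexShape.up ℤ)).map_distinguished _ hT
  have hq : HomotopyCategory.quasiIso AddCommGrpCat.{u} (ComplexShape.up ℤ)
      (((DCoh.gammaAb X).mapHomotopyCategory (ComplexShape.up ℤ)).map φh) := by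
    rw [HomotopyCategory.quasiIso_eq_trW_subcategoryAcyclic]
    refine ((HomotopyCategory.subcategoryAcyclic AddCommGrpCat.{u}).trW_iff_of_distinguished _
      hT').2 ?_
    exact (HomotopyCategory.quotient_obj_mem_subcategoryAcyclic_iff_acyclic _).2 hΓM
  have h1 : IsIso ((DCoh.gammaKh X).map φh) :=
    Localization.inverts DerivedCategory.Qh
      (HomotopyCategory.quasiIso AddCommGrpCat.{u} (ComplexShape.up ℤ)) _ hq
  have h2 : IsIso (η.app ((HomotopyCategory.quotient _ _).obj J)) := by
    have hP : (Groth.Agent.Helper1.KInjDer.P X.Modules) ((HomotopyCategory.quotient _ _).obj J) :=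
      hJ'
    exact Groth.Agent.Helper4.RDerComp.isIso_β_app' (DCoh.gammaKh X) (DCoh.RΓ X) η ⟨_, hP⟩
  have h3 : IsIso ((DCoh.RΓ X).map (DerivedCategory.Qh.map φh)) := by
    have : IsIso (DerivedCategory.Qh.map φh) :=
      Localization.inverts DerivedCategory.Qh
        (HomotopyCategory.quasiIso X.Modules (ComplexShape.up ℤ)) _ hφq
    infer_instance
  have nat := η.naturality φh
  have h4 : IsIso (η.app ((HomotopyCategory.quotient _ _).obj C) ≫
      (DCoh.RΓ X).map (DerivedCategory.Qh.map φh)) := by
    have : η.app ((HomotopyCategory.quotient _ _).obj C) ≫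
        (DCoh.RΓ X).map (DerivedCategory.Qh.map φh) =
        (DCoh.gammaKh X).map φh ≫ η.app ((HomotopyCategory.quotient _ _).obj J) := nat.symm
    rw [this]
    infer_instance
  exact IsIso.of_isIso_comp_right _ ((DCoh.RΓ X).map (DerivedCategory.Qh.map φh))

end Groth.Agent.Helper4.GammaAcyc
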