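import Groth.Agent.Helper4.LamApply
import Groth.Agent.Helper1.LambdaGamma
import Mathlib

set_option autoImplicit false

/-!
# The γ-filtration of an augmented λ-algebra over a binomial ring
-/

namespace Groth.Agent.Helper4.GammaFilt

open LambdaRing MvPolynomial Finset LamTerm LamTransfer LamModel LamApply

universe u v

variable {K : Type u} [CommRing K] [LambdaOps K]
variable {A : Type v} [CommRing A] [LambdaOps A] [Algebra K A]

section Basic

variable (ε : A →+* K)

theorem gammaFil_anti {a b : ℕ} (h : a ≤ b) : gammaFil ε b ≤ gammaFil ε a := by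
  apply Ideal.span_mono
  rintro y ⟨l, hl, hw, rfl⟩
  exact ⟨l, hl, le_trans h hw, rfl⟩

theorem gammaFil_zero : gammaFil ε 0 = ⊤ := by
  rw [Ideal.eq_top_iff_one]
  apply Ideal.subset_span
  exact ⟨[], by simp, by simp, by simp⟩

theorem gamma_mem_gammaFil (i : ℕ) {x : A} (hx : ε x = 0) : gamma i x ∈ gammaFil ε i := by
  apply Ideal.subset_span
  refine ⟨[(i, x)], ?_, by simp, by simp⟩
  intro p hp
  rw [List.mem_singleton] at hp
  rw [hp]; exact hx

theorem mul_mem_gammaFil {a b : ℕ} {y y' : A} (hy : y ∈ gammaFil ε a) (hy' : y' ∈ gammaFil ε b) :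
    y * y' ∈ gammaFil ε (a + b) := by
  have h := Ideal.mul_mem_mul hy hy'
  refine (?_ : gammaFil ε a * gammaFil ε b ≤ gammaFil ε (a + b)) h
  unfold gammaFil
  rw [Ideal.span_mul_span]
  apply Ideal.span_le.mpr
  rintro _ ⟨g, ⟨l, hl, hw, rfl⟩, g', ⟨l', hl', hw', rfl⟩, rfl⟩
  apply Ideal.subset_span
  refine ⟨l ++ l', ?_, ?_, ?_⟩
  · intro p hp
    rcases List.mem_append.mp hp with h | h
    · exact hl p h
    · exact hl' p h
  · rw [List.map_append, List.sum_append]; omega
  · rw [List.map_append, List.prod_append]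

theorem pow_mem_gammaFil {a : ℕ} {y : A} (hy : y ∈ gammaFil ε a) (k : ℕ) :
    y ^ k ∈ gammaFil ε (k * a) := by
  induction k with
  | zero => rw [Nat.zero_mul, gammaFil_zero]; trivial
  | succ k ih =>
    rw [pow_succ, Nat.succ_mul]
    exact mul_mem_gammaFil ε ih hy

theorem finsupp_prod_mem {r : ℕ} (x : Fin r → A) (hx : ∀ s, ε (x s) = 0) (m : Fin r × ℕ →₀ ℕ) :
    ∏ v ∈ m.support, gamma (v.2 + 1) (x v.1) ^ m v ∈
      gammaFil ε (Finsupp.weight (wt (r := r)) m) := by
  classical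
  rw [Finsupp.weight_apply, Finsupp.sum]
  have : ∀ S : Finset (Fin r × ℕ), ∏ v ∈ S, gamma (v.2 + 1) (x v.1) ^ m v ∈
      gammaFil ε (∑ v ∈ S, m v • wt v) := by
    intro S
    induction S using Finset.induction_on with
    | empty => simp [gammaFil_zero]
    | insert a S ha ih =>
      rw [Finset.prod_insert ha, Finset.sum_insert ha]
      refine mul_mem_gammaFil ε ?_ ih
      rw [smul_eq_mul]
      exact pow_mem_gammaFil ε (gamma_mem_gammaFil ε _ (hx a.1)) (m a)
  exact this m.support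

end Basic

section UL

variable [BinomialRing K] (hKb : IsBinomial K) (hA : IsSpecial A)
  (ε : A →ₐ[K] K) (hε : IsAugLambdaAlg K A ε)

include hKb hε in
theorem lam_algebraMap (κ : K) (n : ℕ) :
    LambdaOps.lam n (algebraMap K A κ) =
      ((algebraMap K A).comp (evK K κ)) (X n) := by
  rw [← hε.isLambdaAlg n κ, hKb n κ]
  simp [evK]

include hKb hA hε in
/-- **Universal lemma.**  For `x_s` of augmentation zero, `w = Σ e_s ≥ 1` and `j ≥ 1`,
`γ^j(κ ∏ γ^{e_s}(x_s)) ≡ c_{j,w} κ ∏ γ^{e_s}(x_s)` modulo `Fil^{w+1}`. -/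
theorem UL {r : ℕ} (x : Fin r → A) (hx : ∀ s, ε (x s) = 0) (e : Fin r → ℕ) (w : ℕ)
    (hw : w = ∑ s, e s) (hw1 : 1 ≤ w) (j : ℕ) (hj : 1 ≤ j) (κ : K) :
    gamma j (algebraMap K A κ * ∏ s, gamma (e s) (x s)) -
        ((cZ j w : ℤ) : A) * (algebraMap K A κ * ∏ s, gamma (e s) (x s)) ∈
      gammaFil (ε : A →+* K) (w + 1) := by
  classical
  set φ : C₀ →+* A := (algebraMap K A).comp (evK K κ) with hφ
  have hκ := lam_algebraMap hKb ε hε κ
  have hev : (scalMono e).eval x (algebraMap K A κ) =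
      algebraMap K A κ * ∏ s, gamma (e s) (x s) := by
    unfold scalMono
    rw [Term.eval, eval_monoT]
    rfl
  have h1 : gamma j (algebraMap K A κ * ∏ s, gamma (e s) (x s)) -
        ((cZ j w : ℤ) : A) * (algebraMap K A κ * ∏ s, gamma (e s) (x s)) =
      eval₂ φ (fun v : Fin r × ℕ => gamma (v.2 + 1) (x v.1)) (Gpoly (scalMono e) j w) := by
    rw [Gpoly, eval₂_sub, eval₂_mul, ← eval_gammaP hA φ x _ hκ, ← eval_L_one hA φ x _ hκ, hev,
      ← coe_eval₂Hom, map_intCast]
  rw [h1, eval₂_eq]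
  apply Ideal.sum_mem
  intro m _
  by_cases hm : Finsupp.weight (wt (r := r)) m < w + 1
  · have := coeff_Gpoly_scalMono e w hw hw1 j hj K κ m hm
    rw [hφ, RingHom.comp_apply, this, map_zero, zero_mul]
    exact zero_mem _
  · apply Ideal.mul_mem_left
    exact gammaFil_anti (ε : A →+* K) (by omega) (finsupp_prod_mem (ε : A →+* K) x hx m)

end UL

end Groth.Agent.Helper4.GammaFilt
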