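import Groth.Agent.Helper4.GammaFilt
import Mathlib

set_option autoImplicit false

/-!
# The γ-filtration is a λ-filtration, and `γ^m ≡ (-1)^(m-1) (m-1)!` on `Gr^m`
-/

namespace Groth.Agent.Helper4.GammaFilt

open LambdaRing MvPolynomial Finset LamModel

universe u v

variable {K : Type u} [CommRing K] [LambdaOps K]
variable {A : Type v} [CommRing A] [LambdaOps A] [Algebra K A]

/-- the monomial attached to a list -/
def mono (l : List (ℕ × A)) : A := (l.map fun p => gamma p.1 p.2).prod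

/-- the weight of a list -/
def wtl (l : List (ℕ × A)) : ℕ := (l.map Prod.fst).sum

theorem gamma_one' (x : A) : gamma 1 x = x := by
  unfold gamma
  simp [Finset.sum_range_succ, LambdaOps.lam_one]

theorem gamma_zero' (x : A) : gamma 0 x = 1 := by
  unfold gamma; simp

theorem mono_cons (p : ℕ × A) (l : List (ℕ × A)) : mono (p :: l) = gamma p.1 p.2 * mono l := by
  unfold mono; rw [List.map_cons, List.prod_cons]

theorem wtl_cons (p : ℕ × A) (l : List (ℕ × A)) : wtl (p :: l) = p.1 + wtl l := by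
  unfold wtl; rw [List.map_cons, List.sum_cons]

theorem mono_mem (ε : A →+* K) (l : List (ℕ × A)) (hl : ∀ p ∈ l, ε p.2 = 0) :
    mono l ∈ gammaFil ε (wtl l) :=
  Ideal.subset_span ⟨l, hl, le_rfl, rfl⟩

section Main

variable [BinomialRing K] (hKb : IsBinomial K) (hA : IsSpecial A)
  (ε : A →ₐ[K] K) (hε : IsAugLambdaAlg K A ε)

include hKb hA hε in
theorem UL_list (l : List (ℕ × A)) (hl : ∀ p ∈ l, ε p.2 = 0) (hw1 : 1 ≤ wtl l) (j : ℕ)
    (hj : 1 ≤ j) (κ : K) :
    gamma j (algebraMap K A κ * mono l) -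
        ((cZ j (wtl l) : ℤ) : A) * (algebraMap K A κ * mono l) ∈
      gammaFil (ε : A →+* K) (wtl l + 1) := by
  have hprod : ∏ s : Fin l.length, gamma (l.get s).1 (l.get s).2 = mono l := by
    unfold mono
    rw [← List.prod_ofFn]
    congr 1
    exact List.ofFn_getElem_eq_map l (fun p => gamma p.1 p.2)
  have hsum : wtl l = ∑ s : Fin l.length, (l.get s).1 := by
    unfold wtl
    rw [← List.sum_ofFn]
    congr 1
    exact (List.ofFn_getElem_eq_map l Prod.fst).symm
  have := UL hKb hA ε hε (fun s : Fin l.length => (l.get s).2)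
    (fun s => hl _ (List.get_mem l s)) (fun s => (l.get s).1) (wtl l) hsum hw1 j hj κ
  rw [hprod] at this
  exact this

include hKb hA hε in
/-- `γ^j(κ · mono) ∈ Fil^w` for a monomial of weight `w ≥ 1`. -/
theorem gamma_smul_mono_mem (l : List (ℕ × A)) (hl : ∀ p ∈ l, ε p.2 = 0) (hw1 : 1 ≤ wtl l)
    (j : ℕ) (hj : 1 ≤ j) (κ : K) :
    gamma j (algebraMap K A κ * mono l) ∈ gammaFil (ε : A →+* K) (wtl l) := by
  have h1 := gammaFil_anti (ε : A →+* K) (Nat.le_succ (wtl l)) (UL_list hKb hA ε hε l hl hw1 j hj κ)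
  have h2 : ((cZ j (wtl l) : ℤ) : A) * (algebraMap K A κ * mono l) ∈
      gammaFil (ε : A →+* K) (wtl l) :=
    Ideal.mul_mem_left _ _ (Ideal.mul_mem_left _ _ (mono_mem (ε : A →+* K) l hl))
  have := add_mem h1 h2
  simpa using this

theorem gamma_add_mem (I : Ideal A) {x y : A} (hx : ∀ k, 1 ≤ k → gamma k x ∈ I)
    (hy : ∀ k, 1 ≤ k → gamma k y ∈ I) (k : ℕ) (hk : 1 ≤ k) : gamma k (x + y) ∈ I := by
  rw [Groth.Agent.Helper1.Lambda.gamma_add]
  apply Ideal.sum_mem
  intro i hi
  rw [Finset.mem_range] at hi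
  by_cases h0 : i = 0
  · subst h0
    exact Ideal.mul_mem_left _ _ (hy _ (by omega))
  · exact Ideal.mul_mem_right _ _ (hx i (by omega))

/-- decomposition `a · mono l = κ · mono l + 1 · mono ((1, a') :: l)` -/
theorem smul_mono_decomp (a : A) (l : List (ℕ × A)) :
    a • mono l = algebraMap K A (ε a) * mono l +
      algebraMap K A 1 * mono ((1, a - algebraMap K A (ε a)) :: l) := by
  rw [mono_cons, gamma_one', map_one, smul_eq_mul]
  ring

theorem aug_sub (a : A) : (ε : A →+* K) (a - algebraMap K A (ε a)) = 0 := by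
  rw [map_sub]
  change ε a - ε (algebraMap K A (ε a)) = 0
  rw [AlgHom.commutes]
  simp

include hKb hA hε in
/-- elements `a · mono l` of `Fil^n` have all `γ^k`, `k ≥ 1`, in `Fil^n` -/
theorem gamma_smul_gen_mem (n : ℕ) (hn : 1 ≤ n) (a : A) (l : List (ℕ × A))
    (hl : ∀ p ∈ l, (ε : A →+* K) p.2 = 0) (hw : n ≤ wtl l) (k : ℕ) (hk : 1 ≤ k) :
    gamma k (a • mono l) ∈ gammaFil (ε : A →+* K) n := by
  rw [smul_mono_decomp ε a l]
  have hl' : ∀ p ∈ ((1, a - algebraMap K A (ε a)) :: l), ε p.2 = 0 := by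
    intro p hp
    rcases List.mem_cons.mp hp with h | h
    · rw [h]; exact aug_sub ε a
    · exact hl p h
  apply gamma_add_mem _ _ _ k hk
  · intro j hj
    exact gammaFil_anti (ε : A →+* K) hw
      (gamma_smul_mono_mem hKb hA ε hε l hl (by omega) j hj _)
  · intro j hj
    refine gammaFil_anti (ε : A →+* K) ?_
      (gamma_smul_mono_mem hKb hA ε hε _ hl' (by rw [wtl_cons]; omega) j hj 1)
    rw [wtl_cons]; omega

include hKb hA hε in
/-- **The γ-filtration consists of γ-ideals.** -/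
theorem gamma_mem_of_mem (n : ℕ) (hn : 1 ≤ n) {z : A} (hz : z ∈ gammaFil (ε : A →+* K) n) :
    ∀ k, 1 ≤ k → gamma k z ∈ gammaFil (ε : A →+* K) n := by
  unfold gammaFil at hz
  induction hz using Submodule.closure_induction with
  | zero =>
    intro k hk
    rw [GammaOps.gamma_zero_arg, if_neg (by omega)]
    exact zero_mem _
  | add x y _ _ hx hy => exact gamma_add_mem _ hx hy
  | smul_mem a g hg =>
    obtain ⟨l, hl, hw, rfl⟩ := hg
    intro k hk
    exact gamma_smul_gen_mem hKb hA ε hε n hn a l hl hw k hk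

/-- the defect `γ^m z - c z` -/
noncomputable def Dm (m : ℕ) (z : A) : A := gamma m z - ((cZ m m : ℤ) : A) * z

include hKb hA hε in
theorem Dm_add (m : ℕ) (hm : 1 ≤ m) {x y : A} (hx : x ∈ gammaFil (ε : A →+* K) m)
    (hy : y ∈ gammaFil (ε : A →+* K) m) (hDx : Dm m x ∈ gammaFil (ε : A →+* K) (m + 1))
    (hDy : Dm m y ∈ gammaFil (ε : A →+* K) (m + 1)) :
    Dm m (x + y) ∈ gammaFil (ε : A →+* K) (m + 1) := by
  obtain ⟨m', rfl⟩ : ∃ m', m = m' + 1 := ⟨m - 1, by omega⟩
  have hsplit : Dm (m' + 1) (x + y) = Dm (m' + 1) x + Dm (m' + 1) y +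
      ∑ i ∈ range m', gamma (i + 1) x * gamma (m' + 1 - (i + 1)) y := by
    unfold Dm
    rw [Groth.Agent.Helper1.Lambda.gamma_add, Finset.sum_range_succ, Finset.sum_range_succ']
    rw [Nat.sub_self, gamma_zero', gamma_zero', Nat.sub_zero]
    ring
  rw [hsplit]
  refine add_mem (add_mem hDx hDy) ?_
  apply Ideal.sum_mem
  intro i hi
  rw [Finset.mem_range] at hi
  have h1 := gamma_mem_of_mem hKb hA ε hε (m' + 1) hm hx (i + 1) (by omega)
  have h2 := gamma_mem_of_mem hKb hA ε hε (m' + 1) hm hy (m' + 1 - (i + 1)) (by omega)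
  exact gammaFil_anti (ε : A →+* K) (by omega) (mul_mem_gammaFil (ε : A →+* K) h1 h2)

include hKb hA hε in
theorem Dm_smul_mono (m : ℕ) (hm : 1 ≤ m) (κ : K) (l : List (ℕ × A))
    (hl : ∀ p ∈ l, (ε : A →+* K) p.2 = 0) (hw : m ≤ wtl l) :
    Dm m (algebraMap K A κ * mono l) ∈ gammaFil (ε : A →+* K) (m + 1) := by
  rcases Nat.eq_or_lt_of_le hw with h | h
  · have := UL_list hKb hA ε hε l hl (by omega) m hm κ
    rw [← h] at this
    exact this
  · unfold Dm
    refine sub_mem ?_ (Ideal.mul_mem_left _ _ (Ideal.mul_mem_left _ _ ?_))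
    · exact gammaFil_anti (ε : A →+* K) h
        (gamma_smul_mono_mem hKb hA ε hε l hl (by omega) m hm κ)
    · exact gammaFil_anti (ε : A →+* K) h (mono_mem (ε : A →+* K) l hl)

include hKb hA hε in
/-- **Main theorem**: `γ^m z ≡ c_{m,m} z` modulo `Fil^{m+1}` for `z ∈ Fil^m`. -/
theorem Dm_mem (m : ℕ) (hm : 1 ≤ m) {z : A} (hz : z ∈ gammaFil (ε : A →+* K) m) :
    Dm m z ∈ gammaFil (ε : A →+* K) (m + 1) := by
  have hz' := hz
  unfold gammaFil at hz'
  induction hz' using Submodule.closure_induction with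
  | zero =>
    unfold Dm
    rw [GammaOps.gamma_zero_arg, if_neg (by omega)]
    simp
  | add x y hx hy ihx ihy =>
    have hx' : x ∈ gammaFil (ε : A →+* K) m := hx
    have hy' : y ∈ gammaFil (ε : A →+* K) m := hy
    exact Dm_add hKb hA ε hε m hm hx' hy' (ihx hx') (ihy hy')
  | smul_mem a g hg =>
    obtain ⟨l, hl, hw, rfl⟩ := hg
    replace hw : m ≤ wtl l := hw
    change Dm m (a • mono l) ∈ _
    rw [smul_mono_decomp ε a l]
    have hl' : ∀ p ∈ ((1, a - algebraMap K A (ε a)) :: l), (ε : A →+* K) p.2 = 0 := by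
      intro p hp
      rcases List.mem_cons.mp hp with h | h
      · rw [h]; exact aug_sub ε a
      · exact hl p h
    have hw' : m ≤ wtl ((1, a - algebraMap K A (ε a)) :: l) := by rw [wtl_cons]; omega
    apply Dm_add hKb hA ε hε m hm
    · exact Ideal.mul_mem_left _ _ (gammaFil_anti (ε : A →+* K) hw (mono_mem (ε : A →+* K) l hl))
    · exact Ideal.mul_mem_left _ _ (gammaFil_anti (ε : A →+* K) hw' (mono_mem (ε : A →+* K) _ hl'))
    · exact Dm_smul_mono hKb hA ε hε m hm _ l hl hw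
    · exact Dm_smul_mono hKb hA ε hε m hm _ _ hl' hw'

end Main

end Groth.Agent.Helper4.GammaFilt
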