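import Groth.Agent.Helper4.GammaOps
import Groth.Agent.Helper1.LambdaGamma
import Mathlib

set_option autoImplicit false

/-!
# Elements all of whose `γ^p` lie in the `p`-th step of a multiplicative filtration
-/

namespace Groth.Agent.Helper4.GammaGood

open LambdaRing Finset

variable {R : Type*} [CommRing R] [LambdaOps R]

theorem gamma_zero' (x : R) : gamma 0 x = 1 := by
  unfold gamma; simp

/-- the elements `z` with `γ^p z ∈ F p` for all `p`, for a multiplicative filtration `F` -/
def good (F : ℕ → Ideal R) (h0 : (1 : R) ∈ F 0)
    (hmul : ∀ a b x y, x ∈ F a → y ∈ F b → x * y ∈ F (a + b)) : AddSubgroup R where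
  carrier := {z | ∀ p, gamma p z ∈ F p}
  zero_mem' := by
    intro p
    rw [GammaOps.gamma_zero_arg]
    split_ifs with h
    · subst h; exact h0
    · exact zero_mem _
  add_mem' := by
    intro x y hx hy p
    rw [Groth.Agent.Helper1.Lambda.gamma_add]
    apply Ideal.sum_mem
    intro k hk
    rw [Finset.mem_range] at hk
    have := hmul k (p - k) _ _ (hx k) (hy (p - k))
    have e : k + (p - k) = p := by omega
    rwa [e] at this
  neg_mem' := by
    intro x hx p
    induction p using Nat.strong_induction_on with
    | _ i ih =>
      have h := Groth.Agent.Helper1.Lambda.gamma_add i x (-x)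
      rw [add_neg_cancel, GammaOps.gamma_zero_arg, Finset.sum_range_succ', gamma_zero' x, one_mul,
        Nat.sub_zero] at h
      have h2 : gamma i (-x) = (if i = 0 then (1 : R) else 0) -
          ∑ k ∈ range i, gamma (k + 1) x * gamma (i - (k + 1)) (-x) := by
        rw [h]; ring
      rw [h2]
      apply sub_mem
      · split_ifs with h0'
        · subst h0'; exact h0
        · exact zero_mem _
      · apply Ideal.sum_mem
        intro k hk
        rw [Finset.mem_range] at hk
        have := hmul (k + 1) (i - (k + 1)) _ _ (hx (k + 1)) (ih (i - (k + 1)) (by omega))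
        have e : k + 1 + (i - (k + 1)) = i := by omega
        rwa [e] at this

theorem mem_good {F : ℕ → Ideal R} {h0 : (1 : R) ∈ F 0}
    {hmul : ∀ a b x y, x ∈ F a → y ∈ F b → x * y ∈ F (a + b)} {z : R} :
    z ∈ good F h0 hmul ↔ ∀ p, gamma p z ∈ F p := Iff.rfl

end Groth.Agent.Helper4.GammaGood
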