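import Groth.Agent.Helper4.LamModel3
import Groth.Agent.Helper4.GammaGood
import Groth.Agent.Helper4.InvSplit
import Mathlib

set_option autoImplicit false

/-! # `γ^p z ∈ J^p` for integral combinations of line monomials in the split model -/

namespace Groth.Agent.Helper4.LamModel

open LambdaRing MvPolynomial Finset

variable (ι : Type)

attribute [local instance] ops

/-- line monomials of the model -/
def lineMon : Submonoid (MvPolynomial ι ℚ) where
  carrier := {y | (∀ k, 1 ≤ k → psiHom ι k y = y ^ k) ∧ constantCoeff y = 1}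
  one_mem' := ⟨fun k _ => by simp, by simp⟩
  mul_mem' := by
    rintro a b ⟨h1, h2⟩ ⟨h1', h2'⟩
    exact ⟨fun k hk => by rw [map_mul, h1 k hk, h1' k hk, mul_pow],
      by rw [map_mul, h2, h2', one_mul]⟩

theorem one_add_X_mem_lineMon (i : ι) : (1 + X i : MvPolynomial ι ℚ) ∈ lineMon ι :=
  ⟨fun k _ => psiHom_one_add_X ι k i, by simp⟩

theorem mem_J_iff (z : MvPolynomial ι ℚ) : z ∈ J ι ↔ constantCoeff z = 0 := by
  have := mem_pow_idealOfVars_iff' (σ := ι) (R := ℚ) 1 z
  rw [pow_one] at this
  rw [this]
  constructor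
  · intro h
    exact h 0 (by simp)
  · intro h x hx
    have : x = 0 := by
      rw [Nat.lt_one_iff, Finsupp.degree_eq_zero_iff] at hx
      exact hx
    rw [this]; exact h

/-- the additive group of elements with `γ^p z ∈ J^p` for all `p` -/
noncomputable def Jgood : AddSubgroup (MvPolynomial ι ℚ) :=
  GammaGood.good (fun p => J ι ^ p) (by simp)
    (fun a b x y hx hy => by rw [pow_add]; exact Ideal.mul_mem_mul hx hy)

theorem line_sub_one_mem {y : MvPolynomial ι ℚ} (hy : y ∈ lineMon ι) : y - 1 ∈ Jgood ι := by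
  intro p
  have hlam : ∀ j : ℕ, 2 ≤ j → LambdaOps.lam j y = 0 :=
    fun j hj => lam_eq_zero_of_psi_pow ι y hy.1 j hj
  have h := GammaOps.gamma_sum_sub_one (K := MvPolynomial ι ℚ) (lam_one_eq_zero ι) {y}
    (by intro z hz j hj; rw [Multiset.mem_singleton] at hz; rw [hz]; exact hlam j hj) p
  simp only [Multiset.map_singleton, Multiset.sum_singleton] at h
  change gamma p (y - 1) ∈ J ι ^ p
  rw [h]
  rcases p with _ | _ | p
  · simp
  · rw [pow_one, mem_J_iff]
    simp [Multiset.esymm, Multiset.powersetCard_one, hy.2]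
  · rw [InvSplit.esymm_eq_zero_of_card_lt _ _ (by simp)]
    exact zero_mem _

theorem sub_C_mem_of_mem_closure {z : MvPolynomial ι ℚ}
    (hz : z ∈ Subring.closure (lineMon ι : Set (MvPolynomial ι ℚ))) :
    z - C (constantCoeff z) ∈ Jgood ι := by
  rw [Subring.mem_closure_iff, Submonoid.closure_eq] at hz
  induction hz using AddSubgroup.closure_induction with
  | mem y hy =>
    have h1 : constantCoeff y = 1 := hy.2
    rw [h1, C_1]
    exact line_sub_one_mem ι hy
  | zero => simp
  | add x y _ _ hx hy =>
    have : x + y - C (constantCoeff (x + y)) =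
        (x - C (constantCoeff x)) + (y - C (constantCoeff y)) := by
      rw [map_add, C_add]; ring
    rw [this]; exact add_mem hx hy
  | neg x _ hx =>
    have : -x - C (constantCoeff (-x)) = -(x - C (constantCoeff x)) := by
      rw [map_neg, C_neg]; ring
    rw [this]; exact neg_mem hx

theorem gamma_mem_of_mem_closure {z : MvPolynomial ι ℚ}
    (hz : z ∈ Subring.closure (lineMon ι : Set (MvPolynomial ι ℚ))) (h0 : constantCoeff z = 0)
    (p : ℕ) : gamma p z ∈ J ι ^ p := by
  have := sub_C_mem_of_mem_closure ι hz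
  rw [h0, C_0, sub_zero] at this
  exact this p

theorem X_mem_closure (i : ι) :
    (X i : MvPolynomial ι ℚ) ∈ Subring.closure (lineMon ι : Set (MvPolynomial ι ℚ)) := by
  have : (X i : MvPolynomial ι ℚ) = (1 + X i) - 1 := by ring
  rw [this]
  exact sub_mem (Subring.subset_closure (one_add_X_mem_lineMon ι i)) (one_mem _)

theorem esymm_X_mem_closure (s : Multiset ι) (k : ℕ) :
    (s.map (fun i => (X i : MvPolynomial ι ℚ))).esymm k ∈
      Subring.closure (lineMon ι : Set (MvPolynomial ι ℚ)) := by
  unfold Multiset.esymm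
  apply multiset_sum_mem
  intro y hy
  rw [Multiset.mem_map] at hy
  obtain ⟨t, ht, rfl⟩ := hy
  apply multiset_prod_mem
  intro a ha
  rw [Multiset.mem_powersetCard] at ht
  have := Multiset.mem_of_le ht.1 ha
  rw [Multiset.mem_map] at this
  obtain ⟨i, _, rfl⟩ := this
  exact X_mem_closure ι i

end Groth.Agent.Helper4.LamModel
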