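import Groth.Agent.Helper4.LamApply
import Groth.Agent.Helper4.LamModel4
import Mathlib

set_option autoImplicit false

/-! # Weights of the γ-polynomials of scalar multiples of monomials -/

namespace Groth.Agent.Helper4.LamApply

open LambdaRing MvPolynomial Finset LamTerm LamTransfer LamModel

attribute [local instance] LamModel.ops

variable {r : ℕ} (n : ℕ)

theorem model_gammaP (T : Term r) (j M : ℕ) :
    aeval (LamED.rho r n) (MvPolynomial.map ((Int.castRingHom ℚ).comp (evNat M)) (gammaP T j)) =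
      gamma j (T.eval (xΩ n) ((M : ℕ) : MvPolynomial (Fin r × Fin n) ℚ)) := by
  rw [← model_eval₂,
    ← eval_gammaP (isSpecial _) (φΩ r n M) (xΩ n) _ (lam_natCast_Ω n M) T j]

theorem gamma_xΩ_mem_closure (s : Fin r) (k : ℕ) :
    gamma k (xΩ n s) ∈ Subring.closure (lineMon (Fin r × Fin n) : Set (MvPolynomial (Fin r × Fin n) ℚ)) := by
  have := gamma_sum_X (Fin r × Fin n)
    ((Finset.univ : Finset (Fin n)).val.map fun a => (s, a)) k
  rw [Multiset.map_map] at this
  unfold xΩ
  have e : ((fun i => (X i : MvPolynomial (Fin r × Fin n) ℚ)) ∘ fun a : Fin n => (s, a)) =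
      fun a => X (s, a) := rfl
  rw [e] at this
  rw [this]
  have h2 := esymm_X_mem_closure (Fin r × Fin n)
    ((Finset.univ : Finset (Fin n)).val.map fun a => (s, a)) k
  rw [Multiset.map_map, e] at h2
  exact h2

theorem scalMono_eval_mem_closure (e : Fin r → ℕ) (M : ℕ) :
    (scalMono e).eval (xΩ n) ((M : ℕ) : MvPolynomial (Fin r × Fin n) ℚ) ∈
      Subring.closure (lineMon (Fin r × Fin n) : Set (MvPolynomial (Fin r × Fin n) ℚ)) := by
  unfold scalMono
  rw [Term.eval, eval_monoT]
  refine mul_mem (natCast_mem _ M) (prod_mem fun s _ => gamma_xΩ_mem_closure n s (e s))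

/-- coefficients of weight `< i` of the polynomial of `γ^i(κ ∏ γ^{e_s}(x_s))` vanish, when
`Σ e_s ≥ 1`. -/
theorem coeff_gammaP_scalMono (e : Fin r → ℕ) (he : 1 ≤ ∑ s, e s) (i : ℕ)
    (K : Type*) [CommRing K] [BinomialRing K] (κ : K) (m : Fin r × ℕ →₀ ℕ)
    (hm : Finsupp.weight (wt (r := r)) m < i) :
    evK K κ (coeff m (gammaP (scalMono e) i)) = 0 := by
  apply GTT (gammaP (scalMono e) i) i ?_ K κ m hm
  intro M
  rw [model_gammaP]
  apply gamma_mem_of_mem_closure _ (scalMono_eval_mem_closure i e M)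
  rw [← mem_J_iff]
  have := scalMono_eval_mem i e M
  exact Ideal.pow_le_self (by omega) this

end Groth.Agent.Helper4.LamApply
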