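import Groth.Agent.Helper4.GammaFilt2
import Groth.Agent.Helper4.LamApply2
import Groth.Agent.Helper4.GammaGood
import Mathlib

set_option autoImplicit false

/-!
# Multiplicative filtrations containing the `γ^i` of given elements
-/

namespace Groth.Agent.Helper4.GammaFilt

open LambdaRing MvPolynomial Finset LamTerm LamTransfer LamModel LamApply

universe u v

variable {K : Type u} [CommRing K] [LambdaOps K]
variable {A : Type v} [CommRing A] [LambdaOps A] [Algebra K A]

/-- a ring hom commuting with the `λ^n` commutes with the `γ^i` -/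
theorem map_gamma' {R S : Type*} [CommRing R] [LambdaOps R] [CommRing S] [LambdaOps S]
    (f : R →+* S) (hf : ∀ (n : ℕ) (a : R), f (LambdaOps.lam n a) = LambdaOps.lam n (f a)) (i : ℕ)
    (a : R) : f (gamma i a) = gamma i (f a) := by
  unfold gamma
  split_ifs with h
  · rw [map_one]
  · rw [map_sum]
    apply Finset.sum_congr rfl
    intro j _
    rw [map_mul, map_natCast]
    congr 1
    split_ifs with hj
    · rw [map_zero]
    · exact hf j a

section

variable (F : ℕ → Ideal A) (h0 : (1 : A) ∈ F 0)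
  (hmul : ∀ a b x y, x ∈ F a → y ∈ F b → x * y ∈ F (a + b))
  (hanti : ∀ a b, a ≤ b → F b ≤ F a)

include h0 hmul in
theorem pow_mem_F {a : ℕ} {y : A} (hy : y ∈ F a) (k : ℕ) : y ^ k ∈ F (k * a) := by
  induction k with
  | zero => rw [Nat.zero_mul, pow_zero]; exact h0
  | succ k ih =>
    rw [pow_succ, Nat.succ_mul]
    exact hmul _ _ _ _ ih hy

include h0 hmul in
theorem finsupp_prod_mem_F {r : ℕ} (x : Fin r → A) (hx : ∀ s i, gamma i (x s) ∈ F i)
    (m : Fin r × ℕ →₀ ℕ) :
    ∏ v ∈ m.support, gamma (v.2 + 1) (x v.1) ^ m v ∈ F (Finsupp.weight (wt (r := r)) m) := by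
  classical
  rw [Finsupp.weight_apply, Finsupp.sum]
  have : ∀ S : Finset (Fin r × ℕ), ∏ v ∈ S, gamma (v.2 + 1) (x v.1) ^ m v ∈
      F (∑ v ∈ S, m v • wt v) := by
    intro S
    induction S using Finset.induction_on with
    | empty => simpa using h0
    | insert a S ha ih =>
      rw [Finset.prod_insert ha, Finset.sum_insert ha]
      refine hmul _ _ _ _ ?_ ih
      rw [smul_eq_mul]
      exact pow_mem_F F h0 hmul (hx a.1 _) (m a)
  exact this m.support

variable [BinomialRing K] (hKb : IsBinomial K) (hA : IsSpecial A)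
  (ε : A →ₐ[K] K) (hε : IsAugLambdaAlg K A ε)

include hKb hA hε hanti in
/-- If all `γ^i(x_s)` lie in `F i`, then all `γ^i(κ ∏ γ^{e_s}(x_s))` lie in `F i` (`Σ e_s ≥ 1`). -/
theorem smul_prod_mem_good {r : ℕ} (x : Fin r → A) (hx : ∀ s i, gamma i (x s) ∈ F i)
    (e : Fin r → ℕ) (he : 1 ≤ ∑ s, e s) (κ : K) :
    algebraMap K A κ * ∏ s, gamma (e s) (x s) ∈ GammaGood.good F h0 hmul := by
  classical
  intro i
  set φ : C₀ →+* A := (algebraMap K A).comp (evK K κ) with hφ
  have hκ := lam_algebraMap hKb ε hε κ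
  have hev : (scalMono e).eval x (algebraMap K A κ) =
      algebraMap K A κ * ∏ s, gamma (e s) (x s) := by
    unfold scalMono
    rw [Term.eval, eval_monoT]
    rfl
  have h1 : gamma i (algebraMap K A κ * ∏ s, gamma (e s) (x s)) =
      eval₂ φ (fun v : Fin r × ℕ => gamma (v.2 + 1) (x v.1)) (gammaP (scalMono e) i) := by
    rw [← eval_gammaP hA φ x _ hκ, hev]
  rw [h1, eval₂_eq]
  apply Ideal.sum_mem
  intro m _
  by_cases hm : Finsupp.weight (wt (r := r)) m < i
  · have := coeff_gammaP_scalMono e he i K κ m hm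
    rw [hφ, RingHom.comp_apply, this, map_zero, zero_mul]
    exact zero_mem _
  · apply Ideal.mul_mem_left
    exact hanti _ _ (by omega) (finsupp_prod_mem_F F h0 hmul x hx m)

end

end Groth.Agent.Helper4.GammaFilt
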