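import Groth.Agent.Helper4.GammaSpan

/-!
# Finiteness for universal multiplicative laws (helper4)
-/

set_option autoImplicit false
universe u
open scoped TensorProduct
open MvPolynomial

namespace Groth.Agent.Helper4.GammaFin

open Groth.Agent.Helper4.PolLaw1 Groth.Agent.Helper4.GammaSpan

variable {A : Type u} [CommRing A] {B C : Type u} [CommRing B] [Algebra A B] [CommRing C] [Algebra A C]

/-- the element `∑ j, s j ⊗ e j` -/
noncomputable def gen (S : Type u) [CommSemiring S] [Algebra A S] {r : ℕ} (s : Fin r → S)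
    (e : Fin r → B) : S ⊗[A] B := ∑ j, s j ⊗ₜ[A] e j

theorem map_gen {S S' : Type u} [CommSemiring S] [Algebra A S] [CommSemiring S'] [Algebra A S']
    (ψ : S →ₐ[A] S') {r : ℕ} (s : Fin r → S) (e : Fin r → B) :
    Algebra.TensorProduct.map ψ (AlgHom.id A B) (gen S s e) = gen S' (fun j => ψ (s j)) e := by
  simp [gen, map_sum]

variable {d : ℕ} (γ : PolLaw.MulLaw A B C d) {r : ℕ} (e : Fin r → B)

/-- the coefficients of `γ` at the family `e` -/
noncomputable def coefG (m : Fin r →₀ ℕ) : C :=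
  cf m (γ.law.toFun' (MvPolynomial (Fin r) A) (gen (MvPolynomial (Fin r) A) X e))

/-- expansion of `γ` at `∑ s j ⊗ e j` -/
theorem exists_expansion : ∃ t : Finset (Fin r →₀ ℕ),
    ∀ (S : Type u) [CommSemiring S] [Algebra A S] (s : Fin r → S),
      γ.law.toFun' S (gen S s e) =
        ∑ m ∈ t, (aeval s (monomial m (1 : A))) ⊗ₜ[A] coefG γ e m := by
  obtain ⟨t, ht⟩ := expansion (γ.law.toFun' (MvPolynomial (Fin r) A)
    (gen (MvPolynomial (Fin r) A) X e))
  refine ⟨t, ?_⟩
  intro S _ _ s
  have h1 : gen S s e = Algebra.TensorProduct.map (aeval s : MvPolynomial (Fin r) A →ₐ[A] S)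
      (AlgHom.id A B) (gen (MvPolynomial (Fin r) A) X e) := by
    rw [map_gen]
    simp
  rw [h1, compat]
  conv_lhs => rw [ht t (Finset.Subset.refl _)]
  rw [map_sum]
  refine Finset.sum_congr rfl fun m _ => ?_
  rw [Algebra.TensorProduct.map_tmul]
  rfl

/-- the values of `γ` on combinations of the `e j` -/
def V : Set C :=
  {c | ∃ (S : Type u) (_ : CommRing S) (_ : Algebra A S) (ℓ : S →ₗ[A] A) (s : Fin r → S),
      c = ev ℓ (γ.law.toFun' S (gen S s e))}

theorem coefG_mem_V (m : Fin r →₀ ℕ) : coefG γ e m ∈ V γ e :=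
  ⟨MvPolynomial (Fin r) A, inferInstance, inferInstance, MvPolynomial.lcoeff A m, X, rfl⟩

theorem exists_finset_span : ∃ t : Finset (Fin r →₀ ℕ),
    Submodule.span A (V γ e) = Submodule.span A ((coefG γ e) '' (t : Set (Fin r →₀ ℕ))) := by
  obtain ⟨t, ht⟩ := exists_expansion γ e
  refine ⟨t, le_antisymm ?_ ?_⟩
  · apply Submodule.span_le.mpr
    rintro c ⟨S, _, _, ℓ, s, rfl⟩
    rw [ht S s, map_sum]
    refine Submodule.sum_mem _ fun m hm => ?_
    rw [ev_tmul]
    exact Submodule.smul_mem _ _ (Submodule.subset_span ⟨m, hm, rfl⟩)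
  · apply Submodule.span_le.mpr
    rintro c ⟨m, _, rfl⟩
    exact Submodule.subset_span (coefG_mem_V γ e m)

theorem span_V_fg : (Submodule.span A (V γ e)).FG := by
  obtain ⟨t, ht⟩ := exists_finset_span γ e
  rw [ht]
  exact Submodule.fg_span ((t.finite_toSet).image _)

/-- every tensor over the span of `e` is a combination of the `e j` -/
theorem exists_gen (S : Type u) [CommSemiring S] [Algebra A S] (x : S ⊗[A] B)
    (hx : x ∈ LinearMap.range (LinearMap.lTensor S (Submodule.span A (Set.range e)).subtype)) :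
    ∃ s : Fin r → S, x = gen S s e := by
  obtain ⟨y, rfl⟩ := hx
  induction y using TensorProduct.induction_on with
  | zero => exact ⟨0, by simp [gen]⟩
  | tmul s b =>
    obtain ⟨c, hc⟩ := (Submodule.mem_span_range_iff_exists_fun A).mp b.2
    refine ⟨fun j => c j • s, ?_⟩
    rw [LinearMap.lTensor_tmul, Submodule.subtype_apply, ← hc, gen, TensorProduct.tmul_sum]
    refine Finset.sum_congr rfl fun j _ => ?_
    rw [TensorProduct.tmul_smul, TensorProduct.smul_tmul']
  | add y₁ y₂ h₁ h₂ =>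
    obtain ⟨s₁, hs₁⟩ := h₁
    obtain ⟨s₂, hs₂⟩ := h₂
    refine ⟨s₁ + s₂, ?_⟩
    rw [map_add, hs₁, hs₂, gen, gen, gen, ← Finset.sum_add_distrib]
    refine Finset.sum_congr rfl fun j _ => ?_
    rw [Pi.add_apply, TensorProduct.add_tmul]


theorem one_mem_V (h1 : (1 : B) ∈ Submodule.span A (Set.range e)) : (1 : C) ∈ V γ e := by
  obtain ⟨c, hc⟩ := (Submodule.mem_span_range_iff_exists_fun A).mp h1
  refine ⟨A, inferInstance, inferInstance, LinearMap.id, c, ?_⟩
  have : gen (A := A) A c e = 1 := by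
    rw [gen, Algebra.TensorProduct.one_def (R := A) (A := A) (B := B), ← hc, TensorProduct.tmul_sum]
    refine Finset.sum_congr rfl fun j _ => ?_
    rw [TensorProduct.tmul_smul, TensorProduct.smul_tmul', smul_eq_mul, mul_one]
  rw [this, (γ.mult A).1, Algebra.TensorProduct.one_def, ev_tmul]
  simp

theorem mul_mem_V (hmul : ∀ j k, e j * e k ∈ Submodule.span A (Set.range e)) {c c' : C}
    (hc : c ∈ V γ e) (hc' : c' ∈ V γ e) : c * c' ∈ V γ e := by
  obtain ⟨S, _, _, ℓ, s, rfl⟩ := hc
  obtain ⟨S', _, _, ℓ', s', rfl⟩ := hc'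
  have hex : ∀ j k, ∃ a : Fin r → A, ∑ l, a l • e l = e j * e k := fun j k =>
    (Submodule.mem_span_range_iff_exists_fun A).mp (hmul j k)
  choose a ha using hex
  refine ⟨S ⊗[A] S', inferInstance, inferInstance, ℓ₂ ℓ ℓ',
    fun l => ∑ j, ∑ k, a j k l • (s j ⊗ₜ[A] s' k), ?_⟩
  have hgen : gen (S ⊗[A] S') (fun l => ∑ j, ∑ k, a j k l • (s j ⊗ₜ[A] s' k)) e =
      Algebra.TensorProduct.map (Algebra.TensorProduct.includeLeft : S →ₐ[A] S ⊗[A] S')
          (AlgHom.id A B) (gen S s e) *
        Algebra.TensorProduct.map (Algebra.TensorProduct.includeRight : S' →ₐ[A] S ⊗[A] S')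
          (AlgHom.id A B) (gen S' s' e) := by
    rw [map_gen, map_gen, gen, gen, gen, Finset.sum_mul_sum]
    simp only [TensorProduct.sum_tmul]
    rw [Finset.sum_comm]
    refine Finset.sum_congr rfl fun j _ => ?_
    rw [Finset.sum_comm]
    refine Finset.sum_congr rfl fun k _ => ?_
    rw [Algebra.TensorProduct.tmul_mul_tmul, ← ha j k, TensorProduct.tmul_sum]
    refine Finset.sum_congr rfl fun l _ => ?_
    rw [TensorProduct.tmul_smul, TensorProduct.smul_tmul']
    simp [TensorProduct.smul_tmul']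
  rw [hgen, (γ.mult _).2, compat, compat, ev_mul]

/-- the span of `V γ e` as a subalgebra when `e` spans a subalgebra -/
noncomputable def Nsub (h1 : (1 : B) ∈ Submodule.span A (Set.range e))
    (hmul : ∀ j k, e j * e k ∈ Submodule.span A (Set.range e)) : Subalgebra A C :=
  (Submodule.span A (V γ e)).toSubalgebra (Submodule.subset_span (one_mem_V γ e h1))
    (fun x y hx hy => by
      have h : x * y ∈ Submodule.span A (V γ e) * Submodule.span A (V γ e) :=
        Submodule.mul_mem_mul hx hy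
      rw [Submodule.span_mul_span] at h
      refine Submodule.span_mono ?_ h
      rintro _ ⟨a, ha, b, hb, rfl⟩
      exact mul_mem_V γ e hmul ha hb)

theorem isIntegral_of_mem_V (h1 : (1 : B) ∈ Submodule.span A (Set.range e))
    (hmul : ∀ j k, e j * e k ∈ Submodule.span A (Set.range e)) {c : C} (hc : c ∈ V γ e) :
    IsIntegral A c :=
  IsIntegral.of_mem_of_fg (Nsub γ e h1 hmul) (span_V_fg γ e) c (Submodule.subset_span hc)

end Groth.Agent.Helper4.GammaFin
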