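import Groth.Agent.Helper4.GammaWeight
import Mathlib

set_option autoImplicit false

/-!
# The γ-filtration of the free λ-algebra on one generator over an augmented λ-algebra
-/

namespace Groth.Agent.Helper4.GammaFree

open LambdaRing Finset Groth.Agent.Helper4.GammaFilt

universe u v w

variable {K : Type u} [CommRing K] [LambdaOps K]
variable {A : Type v} [CommRing A] [LambdaOps A] [Algebra K A]
variable {B : Type w} [CommRing B] [LambdaOps B] [Algebra K B] [Algebra A B] [IsScalarTower K A B]

variable (εA : A →ₐ[K] K) (x : B)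

/-- the candidate filtration -/
def V (k : ℕ) : Ideal B :=
  Ideal.span {b : B | ∃ (e : ℕ →₀ ℕ) (a : A),
    a ∈ gammaFil (εA : A →+* K) (k - e.sum fun j n => (j + 1) * n) ∧
    b = algebraMap A B a * e.prod fun j n => gamma (j + 1) x ^ n}

theorem V_anti (a b : ℕ) (h : a ≤ b) : V εA x b ≤ V εA x a := by
  apply Ideal.span_mono
  rintro m ⟨e, a', ha', rfl⟩
  exact ⟨e, a', gammaFil_anti (εA : A →+* K) (by omega) ha', rfl⟩

theorem one_mem_V0 : (1 : B) ∈ V εA x 0 := by
  apply Ideal.subset_span
  refine ⟨0, 1, ?_, by simp⟩
  rw [Nat.zero_sub, gammaFil_zero]; trivial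

theorem V_mul (a b : ℕ) (y y' : B) (hy : y ∈ V εA x a) (hy' : y' ∈ V εA x b) :
    y * y' ∈ V εA x (a + b) := by
  have h := Ideal.mul_mem_mul hy hy'
  refine (?_ : V εA x a * V εA x b ≤ V εA x (a + b)) h
  unfold V
  rw [Ideal.span_mul_span]
  apply Ideal.span_le.mpr
  rintro _ ⟨g, ⟨e, c, hc, rfl⟩, g', ⟨e', c', hc', rfl⟩, rfl⟩
  apply Ideal.subset_span
  refine ⟨e + e', c * c', ?_, ?_⟩
  · have hs : ((e + e').sum fun j n => (j + 1) * n) =
        (e.sum fun j n => (j + 1) * n) + (e'.sum fun j n => (j + 1) * n) := by
      apply Finsupp.sum_add_index'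
      · intro j; simp
      · intro j m n; ring
    rw [hs]
    refine gammaFil_anti (εA : A →+* K) ?_ (mul_mem_gammaFil (εA : A →+* K) hc hc')
    omega
  · show _ * _ = _
    have hp : ((e + e').prod fun j n => gamma (j + 1) x ^ n) =
        (e.prod fun j n => gamma (j + 1) x ^ n) * (e'.prod fun j n => gamma (j + 1) x ^ n) := by
      apply Finsupp.prod_add_index'
      · intro j; simp
      · intro j m n; rw [pow_add]
    rw [hp, map_mul]; ring

theorem gamma_x_mem_V (i : ℕ) : gamma i x ∈ V εA x i := by
  classical
  rcases i with _ | i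
  · rw [GammaFilt.gamma_zero']; exact one_mem_V0 εA x
  · apply Ideal.subset_span
    refine ⟨Finsupp.single i 1, 1, ?_, ?_⟩
    · rw [Finsupp.sum_single_index (by simp), mul_one, Nat.sub_self, gammaFil_zero]; trivial
    · rw [Finsupp.prod_single_index (by simp)]; simp

section Main

variable [BinomialRing K] (hKb : IsBinomial K) (hA : IsSpecial A) (hεA : IsAugLambdaAlg K A εA)
  (hB : IsSpecial B) (hAB : IsLambdaAlg A B)
  (εB : B →ₐ[K] K) (hεB : IsAugLambdaAlg K B εB) (hεAB : ∀ a : A, εB (algebraMap A B a) = εA a)

omit [IsScalarTower K A B] [BinomialRing K] in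
include hAB hεAB in
/-- the structure map sends `Fil^d A` into `Fil^d B` -/
theorem map_mem_gammaFil (d : ℕ) {a : A} (ha : a ∈ gammaFil (εA : A →+* K) d) :
    algebraMap A B a ∈ gammaFil (εB : B →+* K) d := by
  unfold gammaFil at ha
  induction ha using Submodule.span_induction with
  | zero => rw [map_zero]; exact zero_mem _
  | add y y' _ _ hy hy' => rw [map_add]; exact add_mem hy hy'
  | smul r y _ hy => rw [smul_eq_mul, map_mul]; exact Ideal.mul_mem_left _ _ hy
  | mem y hy =>
    obtain ⟨l, hl, hw, rfl⟩ := hy
    apply Ideal.subset_span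
    refine ⟨l.map fun p => (p.1, algebraMap A B p.2), ?_, ?_, ?_⟩
    · intro p hp
      rw [List.mem_map] at hp
      obtain ⟨q, hq, rfl⟩ := hp
      have := hl q hq
      simp only [RingHom.coe_coe] at this ⊢
      rw [hεAB, this]
    · rw [List.map_map]
      exact hw
    · rw [map_list_prod, List.map_map, List.map_map]
      congr 1
      apply List.map_congr_left
      intro p _
      simp only [Function.comp_apply]
      exact map_gamma' (algebraMap A B) (fun n a => hAB n a) p.1 p.2

omit [IsScalarTower K A B] [BinomialRing K] in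
include hAB in
theorem gamma_algebraMap_mem_V {a : A} (ha : εA a = 0) (i : ℕ) :
    gamma i (algebraMap A B a) ∈ V εA x i := by
  rw [← map_gamma' (algebraMap A B) (fun n a => hAB n a) i a]
  apply Ideal.subset_span
  refine ⟨0, gamma i a, ?_, by simp⟩
  rw [Finsupp.sum_zero_index, Nat.sub_zero]
  exact gamma_mem_gammaFil (εA : A →+* K) i ha

omit [IsScalarTower K A B] [BinomialRing K] in
include hAB hεAB in
theorem V_le_gammaFil (hx : εB x = 0) (k : ℕ) : V εA x k ≤ gammaFil (εB : B →+* K) k := by
  apply Ideal.span_le.mpr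
  rintro y ⟨e, a, ha, rfl⟩
  have h1 := map_mem_gammaFil εA hAB εB hεAB _ ha
  have h2 : (e.prod fun j n => gamma (j + 1) x ^ n) ∈
      gammaFil (εB : B →+* K) (e.sum fun j n => (j + 1) * n) := by
    classical
    unfold Finsupp.prod Finsupp.sum
    have : ∀ S : Finset ℕ, ∏ j ∈ S, gamma (j + 1) x ^ e j ∈
        gammaFil (εB : B →+* K) (∑ j ∈ S, (j + 1) * e j) := by
      intro S
      induction S using Finset.induction_on with
      | empty => simp [gammaFil_zero]
      | insert a S ha ih =>
        rw [Finset.prod_insert ha, Finset.sum_insert ha]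
        refine mul_mem_gammaFil (εB : B →+* K) ?_ ih
        rw [mul_comm]
        exact pow_mem_gammaFil (εB : B →+* K) (gamma_mem_gammaFil (εB : B →+* K) _ hx) (e a)
    exact this e.support
  exact gammaFil_anti (εB : B →+* K) (by omega) (mul_mem_gammaFil (εB : B →+* K) h1 h2)

omit [BinomialRing K] in
include hεB in
theorem aug_gamma (hx : εB x = 0) (i : ℕ) (hi : 1 ≤ i) : εB (gamma i x) = 0 := by
  have := map_gamma' (εB : B →+* K) (fun n a => hεB.map_lam n a) i x
  rw [RingHom.coe_coe] at this
  rw [this, hx, GammaOps.gamma_zero_arg, if_neg (by omega)]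

include hKb hB hAB hεB hεAB in
/-- every element of augmentation zero has `γ^i z ∈ V_i` -/
theorem mem_good_of_aug_zero (hx : εB x = 0)
    (hgen : Algebra.adjoin A (Set.range fun j : ℕ => gamma (j + 1) x) = ⊤)
    (z : B) : z - algebraMap K B (εB z) ∈
      GammaGood.good (V εA x) (one_mem_V0 εA x) (V_mul εA x) := by
  have hz : z ∈ Subalgebra.toSubmodule
      (Algebra.adjoin A (Set.range fun j : ℕ => gamma (j + 1) x)) := by
    rw [hgen]; trivial
  rw [Algebra.adjoin_eq_span] at hz
  induction hz using Submodule.closure_induction with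
  | zero => simp
  | add y y' _ _ hy hy' =>
    have : y + y' - algebraMap K B (εB (y + y')) =
        (y - algebraMap K B (εB y)) + (y' - algebraMap K B (εB y')) := by
      rw [map_add, map_add]; ring
    rw [this]; exact add_mem hy hy'
  | smul_mem a μ hμ =>
    obtain ⟨l, hl, rfl⟩ := Submonoid.exists_list_of_mem_closure hμ
    -- split a = κ + a'
    set κ : K := εA a with hκ
    set a' : A := a - algebraMap K A κ with ha'
    have hεa' : εA a' = 0 := by
      rw [ha', map_sub, AlgHom.commutes, hκ]; simp
    have hgood_a' : algebraMap A B a' ∈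
        GammaGood.good (V εA x) (one_mem_V0 εA x) (V_mul εA x) := by
      intro i
      exact gamma_algebraMap_mem_V εA x hAB hεa' i
    rcases l with _ | ⟨b, l⟩
    · -- the constant term
      have : a • (([] : List B).prod) - algebraMap K B (εB (a • (([] : List B).prod))) =
          algebraMap A B a' := by
        rw [List.prod_nil, Algebra.smul_def, mul_one, hεAB, ha', map_sub,
          ← IsScalarTower.algebraMap_apply]
      rw [this]
      exact hgood_a'
    · -- a nonempty product of generators
      have hxs : ∀ s : Fin (b :: l).length, ∃ j : ℕ, (b :: l).get s = gamma (j + 1) x := by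
        intro s
        obtain ⟨j, hj⟩ := hl _ (List.get_mem (b :: l) s)
        exact ⟨j, hj.symm⟩
      choose jf hjf using hxs
      have hprod : (b :: l).prod = ∏ s : Fin (b :: l).length, gamma (jf s + 1) x := by
        calc (b :: l).prod = (List.ofFn (b :: l).get).prod := by rw [List.ofFn_get]
          _ = ∏ s, (b :: l).get s := List.prod_ofFn
          _ = _ := Finset.prod_congr rfl (fun s _ => hjf s)
      have hε0 : εB ((b :: l).prod) = 0 := by
        have hmem : b ∈ b :: l := by simp
        obtain ⟨j, hj⟩ := hl b hmem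
        rw [List.prod_cons, map_mul, ← hj]
        simp only
        rw [aug_gamma x εB hεB hx _ (by omega), zero_mul]
      have hsum1 : 1 ≤ ∑ s : Fin (b :: l).length, (jf s + 1) := by
        have : (fun s : Fin (b :: l).length => jf s + 1) ⟨0, by simp⟩ ≤
            ∑ s : Fin (b :: l).length, (jf s + 1) :=
          Finset.single_le_sum (f := fun s : Fin (b :: l).length => jf s + 1)
            (fun _ _ => Nat.zero_le _) (Finset.mem_univ _)
        simp only at this
        omega
      have hsplit : a • (b :: l).prod - algebraMap K B (εB (a • (b :: l).prod)) =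
          algebraMap K B κ * ∏ s : Fin (b :: l).length, gamma (jf s + 1) x +
          algebraMap K B 1 * ∏ s : Fin ((b :: l).length + 1),
            gamma ((Fin.cons 1 (fun s => jf s + 1) : Fin ((b :: l).length + 1) → ℕ) s)
              ((Fin.cons (algebraMap A B a') (fun _ => x) : Fin ((b :: l).length + 1) → B) s) := by
        rw [Algebra.smul_def, map_mul, hε0, mul_zero, map_zero, sub_zero, hprod,
          Fin.prod_univ_succ]
        simp only [Fin.cons_zero, Fin.cons_succ]
        rw [GammaFilt.gamma_one', map_one, one_mul, ha', map_sub,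
          ← IsScalarTower.algebraMap_apply]
        ring
      rw [hsplit]
      apply add_mem
      · exact smul_prod_mem_good (V εA x) (one_mem_V0 εA x) (V_mul εA x) (V_anti εA x) hKb hB εB hεB
          (fun _ => x) (fun _ i => gamma_x_mem_V εA x i) (fun s => jf s + 1) hsum1 κ
      · refine smul_prod_mem_good (V εA x) (one_mem_V0 εA x) (V_mul εA x) (V_anti εA x) hKb hB εB hεB
          (Fin.cons (algebraMap A B a') (fun _ => x)) ?_ (Fin.cons 1 (fun s => jf s + 1)) ?_ 1
        · intro s i
          refine Fin.cases ?_ ?_ s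
          · simp only [Fin.cons_zero]; exact hgood_a' i
          · intro s'; simp only [Fin.cons_succ]; exact gamma_x_mem_V εA x i
        · rw [Fin.sum_univ_succ]; simp only [Fin.cons_zero]; omega

include hKb hB hAB hεB hεAB in
theorem gamma_mem_V (hx : εB x = 0)
    (hgen : Algebra.adjoin A (Set.range fun j : ℕ => gamma (j + 1) x) = ⊤)
    {z : B} (hz : εB z = 0) (i : ℕ) : gamma i z ∈ V εA x i := by
  have := mem_good_of_aug_zero εA x hKb hB hAB εB hεB hεAB hx hgen z
  rw [hz, map_zero, sub_zero] at this
  exact this i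

include hKb hB hAB hεB hεAB in
theorem gammaFil_eq_V (hx : εB x = 0)
    (hgen : Algebra.adjoin A (Set.range fun j : ℕ => gamma (j + 1) x) = ⊤) (k : ℕ) :
    gammaFil (εB : B →+* K) k = V εA x k := by
  apply le_antisymm
  · apply Ideal.span_le.mpr
    rintro y ⟨l, hl, hw, rfl⟩
    refine V_anti εA x _ _ hw ?_
    clear hw
    induction l with
    | nil => simpa using one_mem_V0 εA x
    | cons p l ih =>
      simp only [List.map_cons, List.prod_cons, List.sum_cons]
      refine V_mul εA x _ _ _ _ ?_ (ih fun q hq => hl q (List.mem_cons_of_mem _ hq))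
      exact gamma_mem_V εA x hKb hB hAB εB hεB hεAB hx hgen (hl p (by simp)) p.1
  · exact V_le_gammaFil εA x hAB εB hεAB hx k

end Main

end Groth.Agent.Helper4.GammaFree
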