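import Groth.Agent.Helper4.LamSeries
import Mathlib

set_option autoImplicit false
universe u

/-! γ-operations of a pre-λ-ring with λ_t(1) = 1 + t. -/

namespace Groth.Agent.Helper4.GammaOps

open LambdaRing PowerSeries Finset

variable {K : Type u} [CommRing K] [LambdaOps K]

theorem lam_zero_arg (j : ℕ) (hj : 1 ≤ j) : LambdaOps.lam j (0 : K) = 0 := by
  rw [← LamSeries.coeff_lamSeries, LamSeries.lamSeries_zero, coeff_one, if_neg (by lia)]

/-- γ^n(x) = λ^n(x + n − 1). -/
theorem gamma_eq_lam (h1 : ∀ k : ℕ, 2 ≤ k → LambdaOps.lam k (1 : K) = 0) (n : ℕ) (x : K) :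
    gamma n x = LambdaOps.lam n (x + (n : K) - 1) := by
  rcases n with _ | n
  · simp [gamma, LambdaOps.lam_zero]
  · have hx : x + ((n + 1 : ℕ) : K) - 1 = x + (n : K) := by push_cast; ring
    rw [hx, LambdaOps.lam_add]
    unfold gamma
    rw [if_neg (by lia)]
    refine Finset.sum_congr rfl fun j hj => ?_
    rw [Finset.mem_range] at hj
    rw [LamSeries.lam_natCast h1]
    rcases j with _ | j
    · simp
    · rw [if_neg (by lia)]
      have h1' : n + 1 - 1 = n := by lia
      have h2' : j + 1 - 1 = j := by lia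
      have h3' : n + 1 - (j + 1) = n - j := by lia
      rw [h1', h2', h3', Nat.choose_symm (by lia)]
      ring

theorem gamma_zero_arg (k : ℕ) : gamma k (0 : K) = if k = 0 then 1 else 0 := by
  unfold gamma
  split_ifs with hk
  · rfl
  · refine Finset.sum_eq_zero fun j _ => ?_
    split_ifs with hj
    · simp
    · rw [lam_zero_arg j (by lia), mul_zero]

/-- λ^{k+1}(y + w) = λ^{k+1}(w) + y λ^k(w) when λ^j(y) = 0 for j ≥ 2. -/
theorem lam_succ_line_add (y w : K) (hy : ∀ j : ℕ, 2 ≤ j → LambdaOps.lam j y = 0) (k : ℕ) :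
    LambdaOps.lam (k + 1) (y + w) = LambdaOps.lam (k + 1) w + y * LambdaOps.lam k w := by
  rw [LambdaOps.lam_add, Finset.sum_range_succ', Finset.sum_range_succ']
  rw [Finset.sum_eq_zero (fun i _ => by rw [hy (i + 1 + 1) (by lia), zero_mul])]
  simp [LambdaOps.lam_zero, LambdaOps.lam_one]
  ring

/-- γ^{k+1}(z + (y − 1)) = γ^{k+1}(z) + (y − 1) γ^k(z) for a "line-like" element y. -/
theorem gamma_succ_add_line (h1 : ∀ k : ℕ, 2 ≤ k → LambdaOps.lam k (1 : K) = 0) (y z : K)
    (hy : ∀ j : ℕ, 2 ≤ j → LambdaOps.lam j y = 0) (k : ℕ) :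
    gamma (k + 1) (z + (y - 1)) = gamma (k + 1) z + (y - 1) * gamma k z := by
  rw [gamma_eq_lam h1 (k + 1) (z + (y - 1)), gamma_eq_lam h1 (k + 1) z, gamma_eq_lam h1 k z]
  have e1 : z + (y - 1) + ((k + 1 : ℕ) : K) - 1 = y + (z + (k : K) - 1) := by push_cast; ring
  have e2 : z + ((k + 1 : ℕ) : K) - 1 = 1 + (z + (k : K) - 1) := by push_cast; ring
  rw [e1, e2, lam_succ_line_add y _ hy, lam_succ_line_add 1 _ h1]
  ring

omit [LambdaOps K] in
theorem esymm_cons (a : K) (s : Multiset K) (n : ℕ) :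
    (a ::ₘ s).esymm (n + 1) = s.esymm (n + 1) + a * s.esymm n := by
  unfold Multiset.esymm
  rw [Multiset.powersetCard_cons, Multiset.map_add, Multiset.sum_add, Multiset.map_map]
  congr 1
  have : (Multiset.prod ∘ Multiset.cons a) = fun t : Multiset K => a * t.prod := by
    funext t; simp
  rw [this, Multiset.sum_map_mul_left]

/-- γ^k(Σ (y_i − 1)) = e_k(y_i − 1) for line-like y_i. -/
theorem gamma_sum_sub_one (h1 : ∀ k : ℕ, 2 ≤ k → LambdaOps.lam k (1 : K) = 0) (m : Multiset K)
    (hm : ∀ y ∈ m, ∀ j : ℕ, 2 ≤ j → LambdaOps.lam j y = 0) (k : ℕ) :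
    gamma k ((m.map (fun y => y - 1)).sum) = (m.map (fun y => y - 1)).esymm k := by
  induction m using Multiset.induction_on generalizing k with
  | empty =>
    rw [Multiset.map_zero, Multiset.sum_zero, gamma_zero_arg]
    rcases k with _ | k
    · simp [Multiset.esymm]
    · simp [Multiset.esymm]
  | cons a s ih =>
    have hs : ∀ y ∈ s, ∀ j : ℕ, 2 ≤ j → LambdaOps.lam j y = 0 :=
      fun y hy => hm y (Multiset.mem_cons_of_mem hy)
    rw [Multiset.map_cons, Multiset.sum_cons]
    rcases k with _ | k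
    · simp [gamma, Multiset.esymm]
    · rw [add_comm (a - 1), gamma_succ_add_line h1 a _ (hm a (Multiset.mem_cons_self a s)),
        esymm_cons, ih hs, ih hs]

end Groth.Agent.Helper4.GammaOps
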