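import Mathlib

/-!
# Pairing the divided power algebra with the symmetric algebra of the dual (helper4)

`Φ : Γ_R(V) → (Sym_R(V*))^*` (convolution algebra), `dp n v ↦ (P ↦ coeff_n (E_v P))` where
`E_v : Sym(V*) → R[X]`, `ι w ↦ w(v) X`.
-/

set_option autoImplicit false
universe u
open scoped TensorProduct
open Polynomial

namespace Groth.Agent.Helper4.GammaPair

variable {R : Type u} [CommRing R] {V : Type u} [AddCommGroup V] [Module R V]

/-- `E_v : Sym(V*) → R[X]`, `ι w ↦ w(v) X` -/
noncomputable def E (v : V) : SymmetricAlgebra R (Module.Dual R V) →ₐ[R] R[X] :=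
  SymmetricAlgebra.lift ((LinearMap.toSpanSingleton R R[X] X) ∘ₗ (Module.Dual.eval R V v))

@[simp] theorem E_ι (v : V) (w : Module.Dual R V) :
    E v (SymmetricAlgebra.ι R _ w) = w v • (X : R[X]) := by
  simp [E]

variable (R) in
/-- the additive comultiplication of `R[X]` -/
noncomputable def δ : R[X] →ₐ[R] R[X] ⊗[R] R[X] :=
  Polynomial.aeval ((X : R[X]) ⊗ₜ[R] (1 : R[X]) + (1 : R[X]) ⊗ₜ[R] (X : R[X]))

theorem δ_X : δ R (X : R[X]) = (X : R[X]) ⊗ₜ[R] (1 : R[X]) + (1 : R[X]) ⊗ₜ[R] (X : R[X]) := by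
  simp [δ]

/-- the coefficient functional on a tensor -/
noncomputable def cc (n m : ℕ) : R[X] ⊗[R] R[X] →ₗ[R] R :=
  LinearMap.mul' R R ∘ₗ TensorProduct.map (lcoeff R n) (lcoeff R m)

@[simp] theorem cc_tmul (n m : ℕ) (p q : R[X]) : cc n m (p ⊗ₜ[R] q) = p.coeff n * q.coeff m := by
  simp [cc]

theorem cc_δ (n m : ℕ) : (cc n m) ∘ₗ (δ R).toLinearMap = (n + m).choose n • lcoeff R (n + m) := by
  apply Polynomial.lhom_ext'
  intro r
  apply LinearMap.ext_ring
  simp only [LinearMap.coe_comp, Function.comp_apply, monomial_one_right_eq_X_pow,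
    AlgHom.toLinearMap_apply, map_pow, δ_X, LinearMap.smul_apply, lcoeff_apply, coeff_X_pow]
  have hcomm : Commute ((X : R[X]) ⊗ₜ[R] (1 : R[X])) ((1 : R[X]) ⊗ₜ[R] (X : R[X])) := by
    rw [Commute, SemiconjBy, Algebra.TensorProduct.tmul_mul_tmul, Algebra.TensorProduct.tmul_mul_tmul]
    simp
  rw [hcomm.add_pow, map_sum]
  have h1 : ∀ i ∈ Finset.range (r + 1), cc n m (((X : R[X]) ⊗ₜ[R] (1 : R[X])) ^ i *
      ((1 : R[X]) ⊗ₜ[R] (X : R[X])) ^ (r - i) * (r.choose i : R[X] ⊗[R] R[X])) =
      if i = n ∧ r - i = m then (r.choose i : R) else 0 := by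
    intro i _
    rw [Algebra.TensorProduct.tmul_pow, Algebra.TensorProduct.tmul_pow, one_pow, one_pow,
      Algebra.TensorProduct.tmul_mul_tmul, mul_one, one_mul]
    have : (r.choose i : R[X] ⊗[R] R[X]) = (r.choose i : R) • (1 : R[X] ⊗[R] R[X]) := by
      rw [Nat.cast_smul_eq_nsmul, nsmul_eq_mul, mul_one]
    rw [this, mul_smul_comm, mul_one, map_smul, cc_tmul, coeff_X_pow, coeff_X_pow]
    by_cases h1 : n = i <;> by_cases h2 : m = r - i <;> simp [h1, h2, eq_comm]
  rw [Finset.sum_congr rfl h1]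
  by_cases hr : n + m = r
  · subst hr
    rw [Finset.sum_eq_single n]
    · simp
    · intro i _ hi
      rw [if_neg]
      exact fun h => hi h.1
    · intro h
      exact absurd (Finset.mem_range.2 (by omega)) h
  · rw [Finset.sum_eq_zero]
    · simp [hr]
    · intro i hi
      rw [if_neg]
      rintro ⟨rfl, h2⟩
      have := Finset.mem_range.1 hi
      omega

variable (R V) in
/-- the symmetric algebra of the dual -/
abbrev Sy := SymmetricAlgebra R (Module.Dual R V)

variable (R) in
/-- the divided power functionals -/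
noncomputable def F (n : ℕ) (v : V) : WithConv (Sy R V →ₗ[R] R) :=
  WithConv.toConv ((lcoeff R n) ∘ₗ (E v).toLinearMap)

theorem F_apply (n : ℕ) (v : V) (P : Sy R V) : F R n v P = (E v P).coeff n := rfl

theorem F_zero (v : V) : F R 0 v = 1 := by
  have h : (Polynomial.aeval (0 : R)).comp (E v) = Bialgebra.counitAlgHom R (Sy R V) := by
    apply SymmetricAlgebra.algHom_ext
    ext w
    simp [SymmetricAlgebra.algebraMapInv_ι]
  ext P
  rw [F_apply, Polynomial.coeff_zero_eq_eval_zero]
  have := DFunLike.congr_fun h P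
  rw [AlgHom.comp_apply, Polynomial.coe_aeval_eq_eval] at this
  exact this

theorem F_smul (n : ℕ) (r : R) (v : V) : F R n (r • v) = r ^ n • F R n v := by
  have h : E (r • v) = (Polynomial.aeval (C r * X : R[X])).comp (E v) := by
    apply SymmetricAlgebra.algHom_ext
    refine LinearMap.ext fun w => ?_
    simp only [LinearMap.coe_comp, Function.comp_apply, LinearMap.coe_coe, E_ι,
      AlgHom.comp_apply, map_smul, aeval_X, smul_eq_mul, Polynomial.C_mul', smul_smul]
    rw [mul_comm]
  ext P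
  rw [F_apply, h, AlgHom.comp_apply, ← Polynomial.comp_eq_aeval, Polynomial.comp_C_mul_X_coeff]
  change _ = r ^ n • (F R n v P)
  rw [F_apply, smul_eq_mul, mul_comm]

variable (R) in
/-- comultiplication followed by `E u ⊗ E v` -/
noncomputable def EE (u v : V) : Sy R V →ₐ[R] R[X] ⊗[R] R[X] :=
  (Algebra.TensorProduct.map (E u) (E v)).comp (Bialgebra.comulAlgHom R (Sy R V))

theorem EE_ι (u v : V) (w : Module.Dual R V) :
    EE R u v (SymmetricAlgebra.ι R _ w) =
      (w u • (X : R[X])) ⊗ₜ[R] (1 : R[X]) + (1 : R[X]) ⊗ₜ[R] (w v • (X : R[X])) := by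
  simp [EE]

theorem mul_apply (n m : ℕ) (u v : V) (P : Sy R V) :
    (F R n u * F R m v) P = cc n m (EE R u v P) := by
  rw [LinearMap.convMul_apply]
  simp only [cc, EE, LinearMap.coe_comp, Function.comp_apply, AlgHom.comp_apply,
    Bialgebra.comulAlgHom_apply]
  congr 1
  generalize Coalgebra.comul (R := R) P = z
  induction z using TensorProduct.induction_on with
  | zero => simp
  | tmul a b => rfl
  | add x y hx hy => simp only [map_add, hx, hy]

theorem F_mul (n m : ℕ) (v : V) : F R n v * F R m v = (n + m).choose n • F R (n + m) v := by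
  have h : EE R v v = (δ R).comp (E v) := by
    apply SymmetricAlgebra.algHom_ext
    refine LinearMap.ext fun w => ?_
    simp only [LinearMap.coe_comp, Function.comp_apply, LinearMap.coe_coe, EE_ι,
      AlgHom.comp_apply, E_ι, map_smul, δ_X, smul_add, TensorProduct.smul_tmul',
      TensorProduct.tmul_smul]
  ext P
  rw [mul_apply, h, AlgHom.comp_apply]
  have := LinearMap.congr_fun (cc_δ (R := R) n m) (E v P)
  simp only [LinearMap.coe_comp, Function.comp_apply, AlgHom.toLinearMap_apply,
    LinearMap.smul_apply, lcoeff_apply] at this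
  rw [this]
  rfl

theorem F_add (n : ℕ) (u v : V) :
    F R n (u + v) = ∑ kl ∈ Finset.HasAntidiagonal.antidiagonal n, F R kl.1 u * F R kl.2 v := by
  have h : E (u + v) = (Algebra.TensorProduct.lmul' R).comp (EE R u v) := by
    apply SymmetricAlgebra.algHom_ext
    refine LinearMap.ext fun w => ?_
    simp only [LinearMap.coe_comp, Function.comp_apply, LinearMap.coe_coe, EE_ι,
      AlgHom.comp_apply, E_ι, map_add, LinearMap.add_apply, add_smul,
      Algebra.TensorProduct.lmul'_apply_tmul, mul_one, one_mul]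
  have h2 : ∀ z : R[X] ⊗[R] R[X], (Algebra.TensorProduct.lmul' R z).coeff n =
      ∑ kl ∈ Finset.HasAntidiagonal.antidiagonal n, cc kl.1 kl.2 z := by
    intro z
    induction z using TensorProduct.induction_on with
    | zero => simp
    | tmul a b => simp [Polynomial.coeff_mul]
    | add x y hx hy => simp only [map_add, Polynomial.coeff_add, hx, hy, Finset.sum_add_distrib]
  ext P
  rw [F_apply, h, AlgHom.comp_apply, h2]
  change _ = (∑ kl ∈ Finset.HasAntidiagonal.antidiagonal n, F R kl.1 u * F R kl.2 v).ofConv P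
  rw [WithConv.ofConv_sum, LinearMap.sum_apply]
  exact Finset.sum_congr rfl fun kl _ => (mul_apply kl.1 kl.2 u v P).symm

variable (R V) in
/-- the pairing map `Γ_R(V) → (Sym_R(V*))^*` -/
noncomputable def Φ : DividedPowerAlgebra R V →ₐ[R] WithConv (Sy R V →ₗ[R] R) :=
  DividedPowerAlgebra.lift' (f := fun nm => F R nm.1 nm.2) (fun v => F_zero v)
    (fun n r v => F_smul n r v) (fun n m v => F_mul n m v) (fun n u v => F_add n u v)

@[simp] theorem Φ_dp (n : ℕ) (v : V) : Φ R V (DividedPowerAlgebra.dp R n v) = F R n v :=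
  DividedPowerAlgebra.lift'_apply_dp _ _ _ _ n v

section eval

variable (x y : Module.Dual R V)

/-- the monomial `x^a y^b` in the symmetric algebra of the dual -/
noncomputable def mono (a b : ℕ) : Sy R V :=
  (SymmetricAlgebra.ι R _ x) ^ a * (SymmetricAlgebra.ι R _ y) ^ b

theorem E_mono (v : V) (a b : ℕ) :
    E v (mono x y a b) = ((x v) ^ a * (y v) ^ b) • (X : R[X]) ^ (a + b) := by
  rw [mono, map_mul, map_pow, map_pow, E_ι, E_ι, _root_.smul_pow, _root_.smul_pow,
    smul_mul_smul_comm, pow_add]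

theorem F_mono (d : ℕ) (v : V) (a b : ℕ) (hab : a + b = d) :
    F R d v (mono x y a b) = (x v) ^ a * (y v) ^ b := by
  rw [F_apply, E_mono, Polynomial.coeff_smul, hab, Polynomial.coeff_X_pow, if_pos rfl, smul_eq_mul,
    mul_one]

theorem EE_mono (u₁ u₂ : V) (h11 : x u₁ = 1) (h12 : x u₂ = 0) (h21 : y u₁ = 0) (h22 : y u₂ = 1)
    (a b : ℕ) : EE R u₁ u₂ (mono x y a b) = ((X : R[X]) ^ a) ⊗ₜ[R] ((X : R[X]) ^ b) := by
  rw [mono, map_mul, map_pow, map_pow, EE_ι, EE_ι, h11, h12, h21, h22]
  simp only [one_smul, zero_smul, TensorProduct.tmul_zero, TensorProduct.zero_tmul, add_zero,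
    zero_add, Algebra.TensorProduct.tmul_pow, one_pow, Algebra.TensorProduct.tmul_mul_tmul,
    mul_one, one_mul]

theorem mul_mono (u₁ u₂ : V) (h11 : x u₁ = 1) (h12 : x u₂ = 0) (h21 : y u₁ = 0) (h22 : y u₂ = 1)
    (n m a b : ℕ) :
    (F R n u₁ * F R m u₂) (mono x y a b) = if a = n ∧ b = m then 1 else 0 := by
  rw [mul_apply, EE_mono x y u₁ u₂ h11 h12 h21 h22, cc_tmul, Polynomial.coeff_X_pow,
    Polynomial.coeff_X_pow]
  by_cases h1 : n = a <;> by_cases h2 : m = b <;> simp [h1, h2, eq_comm]

end eval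

section finiteField

variable {A k M W : Type u} [CommRing A] [Field k] [Fintype k] [Algebra A k]
  [AddCommGroup M] [Module A M] [AddCommGroup W] [Module k W] [Module A W] [IsScalarTower A k W]

/-- Over a finite field with `q < d` elements, a module map to a `k`-space hitting a dual pair
obstructs `Γ^d` being spanned by pure divided powers. -/
theorem false_of_span_dp (ψ : M →ₗ[A] W) (x y : Module.Dual k W) (m₁ m₂ : M)
    (h11 : x (ψ m₁) = 1) (h12 : x (ψ m₂) = 0) (h21 : y (ψ m₁) = 0) (h22 : y (ψ m₂) = 1)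
    (d : ℕ) (hd : Fintype.card k < d)
    (h : (DividedPowerAlgebra.dp A 1 m₁ * DividedPowerAlgebra.dp A (d - 1) m₂ :
        DividedPowerAlgebra A M) ∈
      Submodule.span A (Set.range (DividedPowerAlgebra.dp A d : M → DividedPowerAlgebra A M))) :
    False := by
  set q := Fintype.card k with hq
  have hq2 : 2 ≤ q := by
    have := Fintype.one_lt_card (α := k)
    omega
  set P₀ : Sy k W := mono x y q (d - q) - mono x y 1 (d - 1) with hP₀
  have hF : ∀ v : W, (F k d v) P₀ = 0 := by
    intro v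
    rw [hP₀, map_sub, F_mono x y d v q (d - q) (by omega), F_mono x y d v 1 (d - 1) (by omega)]
    have h1 : (x v) ^ q = x v := FiniteField.pow_card (x v)
    have h2 : (y v) ^ (d - 1) = (y v) ^ (d - q) := by
      have : d - 1 = (d - q - 1) + q := by omega
      rw [this, pow_add, FiniteField.pow_card, ← pow_succ]
      congr 1
      omega
    rw [h1, h2, pow_one, sub_self]
  have key : ∀ z ∈ Submodule.span A
      (Set.range (DividedPowerAlgebra.dp A d : M → DividedPowerAlgebra A M)),
      (Φ k W (DividedPowerAlgebra.map k ψ z)) P₀ = 0 := by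
    intro z hz
    induction hz using Submodule.span_induction with
    | mem z hz =>
      obtain ⟨m, rfl⟩ := hz
      rw [DividedPowerAlgebra.map_apply_dp, Φ_dp]
      exact hF _
    | zero => simp
    | add a b _ _ ha hb =>
      rw [map_add, map_add]
      change ((Φ k W ((DividedPowerAlgebra.map k ψ) a)).ofConv +
        (Φ k W ((DividedPowerAlgebra.map k ψ) b)).ofConv) P₀ = 0
      rw [LinearMap.add_apply]
      rw [show (Φ k W ((DividedPowerAlgebra.map k ψ) a)).ofConv P₀ = 0 from ha,
        show (Φ k W ((DividedPowerAlgebra.map k ψ) b)).ofConv P₀ = 0 from hb, add_zero]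
    | smul r a _ ha =>
      rw [map_smul, algebra_compatible_smul k r, map_smul]
      change ((algebraMap A k r) • (Φ k W ((DividedPowerAlgebra.map k ψ) a)).ofConv) P₀ = 0
      rw [LinearMap.smul_apply,
        show (Φ k W ((DividedPowerAlgebra.map k ψ) a)).ofConv P₀ = 0 from ha, smul_zero]
  have h0 := key _ h
  rw [map_mul, DividedPowerAlgebra.map_apply_dp, DividedPowerAlgebra.map_apply_dp, map_mul, Φ_dp,
    Φ_dp, hP₀] at h0
  have e1 := mul_mono x y (ψ m₁) (ψ m₂) h11 h12 h21 h22 1 (d - 1) q (d - q)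
  have e2 := mul_mono x y (ψ m₁) (ψ m₂) h11 h12 h21 h22 1 (d - 1) 1 (d - 1)
  rw [if_neg (by omega)] at e1
  rw [if_pos ⟨rfl, rfl⟩] at e2
  rw [map_sub] at h0
  rw [e1, e2] at h0
  simp at h0

end finiteField

end Groth.Agent.Helper4.GammaPair
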