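import Mathlib
import Groth.Agent.Helper4.GammaAcyc2
import Groth.Agent.Helper4.OpenBC
import Groth.Agent.Helper4.RestrKInj

/-! Direct images of K-injective complexes are weakly K-injective (right orthogonal to acyclic
K-flat complexes), also after restriction to an open. -/

set_option autoImplicit false
universe u
open CategoryTheory CategoryTheory.Limits AlgebraicGeometry TopologicalSpace Opposite Pretriangulated

namespace Groth.Agent.Helper4.PushOrth

open Groth.Agent.Helper9.LDeriv3

variable {X Y : Scheme.{u}} (f : X ⟶ Y)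

theorem orth_push (I : CochainComplex X.Modules ℤ) [I.IsKInjective] :
    (KF Y.sheaf ⊓ HomotopyCategory.subcategoryAcyclic (ModSite.Mod Y.sheaf)).rightOrthogonal
      (((Scheme.Modules.pushforward f).mapHomotopyCategory (ComplexShape.up ℤ)).obj
        ((HomotopyCategory.quotient _ _).obj I)) := by
  intro P a hP
  let adjK := Groth.Agent.Helper6.HtpyAdj.adjK (Scheme.Modules.pullbackPushforwardAdjunction f)
  have h1 : HomotopyCategory.subcategoryAcyclic X.Modules
      (((Scheme.Modules.pullback f).mapHomotopyCategory (ComplexShape.up ℤ)).obj P) := by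
    obtain ⟨K, rfl⟩ := HomotopyCategory.quotient_obj_surjective P
    have hK : DCoh.IsKFlat K := hP.1
    have hac : K.Acyclic := (HomotopyCategory.quotient_obj_mem_subcategoryAcyclic_iff_acyclic K).1 hP.2
    exact (HomotopyCategory.quotient_obj_mem_subcategoryAcyclic_iff_acyclic _).2
      (Groth.Agent.Helper9.Lpull1.acyclic_pullback f K hK hac)
  have hI : (HomotopyCategory.subcategoryAcyclic X.Modules).rightOrthogonal
      ((HomotopyCategory.quotient _ _).obj I) :=
    (CochainComplex.isKInjective_iff_rightOrthogonal I).1 inferInstance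
  have h2 : (adjK.homEquiv P _).symm a = 0 := hI _ h1
  have h3 := congrArg (adjK.homEquiv P _) h2
  rw [Equiv.apply_symm_apply] at h3
  rw [h3, Adjunction.homEquiv_unit, Functor.map_zero, comp_zero]
  rfl

theorem orth_restrict_push (B : CochainComplex X.Modules ℤ) [B.IsKInjective] (U : Y.Opens) :
    (KF (U : Scheme.{u}).sheaf ⊓
        HomotopyCategory.subcategoryAcyclic (ModSite.Mod (U : Scheme.{u}).sheaf)).rightOrthogonal
      ((HomotopyCategory.quotient _ _).obj ((DCoh.restrictCx U).obj
        (((Scheme.Modules.pushforward f).mapHomologicalComplex (ComplexShape.up ℤ)).obj B))) := by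
  haveI := Groth.Agent.Helper4.RestrKInj.isKInjective_restrict (f ⁻¹ᵁ U) B
  have h := orth_push (f ∣_ U)
    (((Scheme.Modules.restrictFunctor (f ⁻¹ᵁ U).ι).mapHomologicalComplex (ComplexShape.up ℤ)).obj B)
  let e : (Scheme.Modules.pushforward f).mapHomotopyCategory (ComplexShape.up ℤ) ⋙
      (Scheme.Modules.restrictFunctor U.ι).mapHomotopyCategory (ComplexShape.up ℤ) ≅
      (Scheme.Modules.restrictFunctor (f ⁻¹ᵁ U).ι).mapHomotopyCategory (ComplexShape.up ℤ) ⋙
      (Scheme.Modules.pushforward (f ∣_ U)).mapHomotopyCategory (ComplexShape.up ℤ) :=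
    Functor.mapHomotopyCategoryCompIso (Groth.Agent.Helper4.OpenBC.iso f U) (ComplexShape.up ℤ) ≪≫
      (Functor.mapHomotopyCategoryCompIso (Iso.refl _) (ComplexShape.up ℤ)).symm
  exact ObjectProperty.prop_of_iso _ (e.app ((HomotopyCategory.quotient _ _).obj B)).symm h

end Groth.Agent.Helper4.PushOrth
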