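import Mathlib
import Groth.Agent.Helper4.RDerComp

/-! Composition of total right derived functors. -/

set_option autoImplicit false
set_option linter.unusedSectionVars false
universe w w' v v' u u'

open CategoryTheory Limits

namespace Groth.Agent.Helper4.RDerComp

open Groth.Agent.Helper1 Groth.Agent.Helper4.KDerAdj

variable {A : Type u} [Category.{v} A] [Abelian A] [IsGrothendieckAbelian.{v} A]
  [HasDerivedCategory.{w} A]
  {B : Type u'} [Category.{v'} B] [Abelian B] [HasDerivedCategory.{w'} B]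
  {H : Type*} [Category H]
  (𝓕 : HomotopyCategory A (ComplexShape.up ℤ) ⥤ HomotopyCategory B (ComplexShape.up ℤ))
  (RF : DerivedCategory A ⥤ DerivedCategory B)
  (α : 𝓕 ⋙ DerivedCategory.Qh ⟶ DerivedCategory.Qh ⋙ RF)
  [RF.IsRightDerivedFunctor α (HomotopyCategory.quasiIso A (ComplexShape.up ℤ))]
  (𝓖 : HomotopyCategory B (ComplexShape.up ℤ) ⥤ H) (RG : DerivedCategory B ⥤ H)
  (β : 𝓖 ⟶ DerivedCategory.Qh ⋙ RG)

/-- `RF ⋙ RG` is the right derived functor of `𝓕 ⋙ 𝓖` if `𝓕` sends K-injectives to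
`RG`-acyclic objects -/
lemma comp (hβ : ∀ X : (KInjDer.P A).FullSubcategory,
      IsIso (β.app (𝓕.obj ((KInjDer.Φ A).functor.obj X)))) :
    (RF ⋙ RG).IsRightDerivedFunctor
      (Functor.whiskerLeft 𝓕 β ≫ (Functor.associator _ _ _).inv ≫
        Functor.whiskerRight α RG ≫ (Functor.associator _ _ _).hom)
      (HomotopyCategory.quasiIso A (ComplexShape.up ℤ)) := by
  apply LocalizerMorphism.Derives.isRightDerivedFunctor_of_isIso (Φ := KInjDer.Φ A)
  · exact derives _
  · intro X
    have h1 := hβ X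
    have h2 := isIso_β_app' (𝓕 ⋙ DerivedCategory.Qh) RF α X
    dsimp
    infer_instance

end Groth.Agent.Helper4.RDerComp
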