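import Mathlib
import Groth.Agent.Helper4.PushOrth
import Groth.Agent.Helper4.RDerComp2
import Groth.Agent.Helper4.HasRD

/-! `RΓ(Y, Rf_* -) ≅ RΓ(X, -)`. -/

set_option autoImplicit false
universe u
open CategoryTheory CategoryTheory.Limits AlgebraicGeometry TopologicalSpace Opposite

namespace Groth.Agent.Helper4.GammaPush

attribute [local instance] HasDerivedCategory.standard

variable {X Y : Scheme.{u}} (f : X ⟶ Y)

/-- `Γ(Y, f_* -) = Γ(X, -)` -/
noncomputable def gammaPushIso : Scheme.Modules.pushforward f ⋙ DCoh.gammaAb Y ≅ DCoh.gammaAb X :=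
  NatIso.ofComponents (fun F => Iso.refl _) (by intro F G φ; rfl)

theorem nonempty_iso [DCoh.HasRpush f] [DCoh.HasRΓ X] [DCoh.HasRΓ Y] :
    Nonempty (DCoh.Rpush f ⋙ DCoh.RΓ Y ≅ DCoh.RΓ X) := by
  haveI := Groth.Agent.Helper4.SchAdj.isGrothendieckAbelian_modules X
  let βf := (DCoh.pushKh f).totalRightDerivedUnit DerivedCategory.Qh
      (HomotopyCategory.quasiIso X.Modules (ComplexShape.up ℤ))
  let ηY := (DCoh.gammaKh Y).totalRightDerivedUnit DerivedCategory.Qh
      (HomotopyCategory.quasiIso Y.Modules (ComplexShape.up ℤ))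
  let ηX := (DCoh.gammaKh X).totalRightDerivedUnit DerivedCategory.Qh
      (HomotopyCategory.quasiIso X.Modules (ComplexShape.up ℤ))
  let α := Functor.whiskerLeft
      ((Scheme.Modules.pushforward f).mapHomotopyCategory (ComplexShape.up ℤ)) ηY ≫
      (Functor.associator _ _ _).inv ≫
      Functor.whiskerRight βf (DCoh.RΓ Y) ≫ (Functor.associator _ _ _).hom
  have h : (DCoh.Rpush f ⋙ DCoh.RΓ Y).IsRightDerivedFunctor α
      (HomotopyCategory.quasiIso X.Modules (ComplexShape.up ℤ)) := by
    refine Groth.Agent.Helper4.RDerComp.comp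
      ((Scheme.Modules.pushforward f).mapHomotopyCategory (ComplexShape.up ℤ))
      (DCoh.Rpush f) βf (DCoh.gammaKh Y) (DCoh.RΓ Y) ηY ?_
    intro I
    obtain ⟨K, hK⟩ : ∃ K : CochainComplex X.Modules ℤ,
        (HomotopyCategory.quotient _ _).obj K = I.obj := ⟨I.obj.as, rfl⟩
    haveI : K.IsKInjective := by
      rw [CochainComplex.isKInjective_iff_rightOrthogonal, hK]
      exact I.property
    have h1 := Groth.Agent.Helper4.GammaAcyc.isIso_unit_of_orth Y
      (((Scheme.Modules.pushforward f).mapHomologicalComplex (ComplexShape.up ℤ)).obj K)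
      (Groth.Agent.Helper4.PushOrth.orth_push f K)
    have h2 : (Groth.Agent.Helper1.KInjDer.Φ X.Modules).functor.obj I =
        (HomotopyCategory.quotient _ _).obj K := hK.symm
    rw [h2]
    exact h1
  let τ : DCoh.gammaKh X ≅
      (Scheme.Modules.pushforward f).mapHomotopyCategory (ComplexShape.up ℤ) ⋙ DCoh.gammaKh Y :=
    Functor.isoWhiskerRight
      (Functor.mapHomotopyCategoryCompIso (gammaPushIso f) (ComplexShape.up ℤ)).symm
      DerivedCategory.Qh ≪≫ Functor.associator _ _ _
  exact ⟨Functor.rightDerivedNatIso _ _ α ηX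
    (HomotopyCategory.quasiIso X.Modules (ComplexShape.up ℤ)) τ.symm⟩

end Groth.Agent.Helper4.GammaPush
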