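import Groth.Agent.Helper4.PolLaw1
import Groth.Agent.Helper4.PolLawExt

/-!
# The values of a universal multiplicative law span the target (helper4)
-/

set_option autoImplicit false
universe u
open scoped TensorProduct
open MvPolynomial

namespace Groth.Agent.Helper4.GammaSpan

section cf

variable {A : Type u} [CommRing A] {σ : Type*} {C : Type*} [AddCommGroup C] [Module A C]

/-- coefficient extraction `A[X] ⊗ C → C` -/
noncomputable def cf (m : σ →₀ ℕ) : MvPolynomial σ A ⊗[A] C →ₗ[A] C :=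
  (TensorProduct.lid A C).toLinearMap ∘ₗ (MvPolynomial.lcoeff A m).rTensor C

@[simp] theorem cf_tmul (m : σ →₀ ℕ) (p : MvPolynomial σ A) (c : C) :
    cf m (p ⊗ₜ[A] c) = coeff m p • c := by
  simp [cf]

theorem expansion (w : MvPolynomial σ A ⊗[A] C) :
    ∃ s : Finset (σ →₀ ℕ), ∀ s' : Finset (σ →₀ ℕ), s ⊆ s' →
      w = ∑ m ∈ s', (monomial m (1 : A)) ⊗ₜ[A] cf m w := by
  classical
  induction w using TensorProduct.induction_on with
  | zero => exact ⟨∅, fun s' _ => by simp⟩
  | tmul p c =>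
    refine ⟨p.support, fun s' hs' => ?_⟩
    have h1 : ∀ m ∈ s', (monomial m (1 : A)) ⊗ₜ[A] cf m (p ⊗ₜ[A] c) =
        (monomial m (coeff m p)) ⊗ₜ[A] c := by
      intro m _
      rw [cf_tmul, ← TensorProduct.smul_tmul, smul_monomial, smul_eq_mul, mul_one]
    rw [Finset.sum_congr rfl h1, ← TensorProduct.sum_tmul]
    congr 1
    rw [← Finset.sum_subset hs']
    · exact (support_sum_monomial_coeff p).symm
    · intro m _ hm
      rw [notMem_support_iff.mp hm, monomial_zero]
  | add w₁ w₂ h₁ h₂ =>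
    obtain ⟨s₁, hs₁⟩ := h₁
    obtain ⟨s₂, hs₂⟩ := h₂
    refine ⟨s₁ ∪ s₂, fun s' hs' => ?_⟩
    have e1 := hs₁ s' (Finset.union_subset_left hs')
    have e2 := hs₂ s' (Finset.union_subset_right hs')
    conv_lhs => rw [e1, e2]
    rw [← Finset.sum_add_distrib]
    refine Finset.sum_congr rfl fun m _ => ?_
    rw [map_add, TensorProduct.tmul_add]

end cf


section gen

variable {A : Type u} [CommRing A] {B C : Type u} [CommRing B] [Algebra A B] [CommRing C] [Algebra A C]

/-- evaluate a functional on the test algebra: `S ⊗ C → C` -/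
noncomputable def ev {S : Type u} [CommRing S] [Algebra A S] (ℓ : S →ₗ[A] A) : S ⊗[A] C →ₗ[A] C :=
  (TensorProduct.lid A C).toLinearMap ∘ₗ ℓ.rTensor C

@[simp] theorem ev_tmul {S : Type u} [CommRing S] [Algebra A S] (ℓ : S →ₗ[A] A) (s : S) (c : C) :
    ev ℓ (s ⊗ₜ[A] c) = ℓ s • c := by
  simp [ev]

/-- the set of all "values" of the law `γ` -/
def GenSet (γ : B →ₚₗ[A] C) : Set C :=
  {c | ∃ (S : Type u) (_ : CommRing S) (_ : Algebra A S) (ℓ : S →ₗ[A] A) (x : S ⊗[A] B),
      c = ev ℓ (γ.toFun' S x)}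

theorem cf_mem_GenSet (γ : B →ₚₗ[A] C) (n : ℕ) (m : Fin n →₀ ℕ)
    (x : MvPolynomial (Fin n) A ⊗[A] B) :
    cf m (γ.toFun' (MvPolynomial (Fin n) A) x) ∈ GenSet γ :=
  ⟨MvPolynomial (Fin n) A, inferInstance, inferInstance, MvPolynomial.lcoeff A m, x, rfl⟩

variable {d : ℕ} (γ : PolLaw.MulLaw A B C d)

theorem one_mem_GenSet : (1 : C) ∈ GenSet γ.law := by
  refine ⟨A, inferInstance, inferInstance, LinearMap.id, 1, ?_⟩
  rw [(γ.mult A).1, Algebra.TensorProduct.one_def, ev_tmul]
  simp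

/-- the combined functional on `S ⊗ S'` -/
noncomputable def ℓ₂ {S S' : Type u} [CommRing S] [Algebra A S] [CommRing S'] [Algebra A S']
    (ℓ : S →ₗ[A] A) (ℓ' : S' →ₗ[A] A) : S ⊗[A] S' →ₗ[A] A :=
  (TensorProduct.lid A A).toLinearMap ∘ₗ TensorProduct.map ℓ ℓ'

theorem ev_mul {S S' : Type u} [CommRing S] [Algebra A S] [CommRing S'] [Algebra A S']
    (ℓ : S →ₗ[A] A) (ℓ' : S' →ₗ[A] A) (w : S ⊗[A] C) (w' : S' ⊗[A] C) :
    ev (ℓ₂ ℓ ℓ')
      (Algebra.TensorProduct.map (Algebra.TensorProduct.includeLeft : S →ₐ[A] S ⊗[A] S')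
          (AlgHom.id A C) w *
        Algebra.TensorProduct.map (Algebra.TensorProduct.includeRight : S' →ₐ[A] S ⊗[A] S')
          (AlgHom.id A C) w') = ev ℓ w * ev ℓ' w' := by
  induction w using TensorProduct.induction_on with
  | zero => simp
  | tmul s c =>
    induction w' using TensorProduct.induction_on with
    | zero => simp
    | tmul s' c' =>
      simp only [Algebra.TensorProduct.map_tmul, Algebra.TensorProduct.includeLeft_apply,
        Algebra.TensorProduct.includeRight_apply, AlgHom.coe_id, id_eq,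
        Algebra.TensorProduct.tmul_mul_tmul, mul_one, one_mul, ev_tmul]
      simp only [ℓ₂, LinearMap.coe_comp, LinearEquiv.coe_coe, Function.comp_apply,
        TensorProduct.map_tmul, TensorProduct.lid_tmul, smul_eq_mul]
      rw [smul_mul_smul_comm]
    | add x y hx hy => simp only [map_add, mul_add, hx, hy]
  | add x y hx hy => simp only [map_add, add_mul, hx, hy]

theorem mul_mem_GenSet {c c' : C} (hc : c ∈ GenSet γ.law) (hc' : c' ∈ GenSet γ.law) :
    c * c' ∈ GenSet γ.law := by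
  obtain ⟨S, _, _, ℓ, x, rfl⟩ := hc
  obtain ⟨S', _, _, ℓ', x', rfl⟩ := hc'
  refine ⟨S ⊗[A] S', inferInstance, inferInstance, ℓ₂ ℓ ℓ',
    Algebra.TensorProduct.map (Algebra.TensorProduct.includeLeft : S →ₐ[A] S ⊗[A] S')
        (AlgHom.id A B) x *
      Algebra.TensorProduct.map (Algebra.TensorProduct.includeRight : S' →ₐ[A] S ⊗[A] S')
        (AlgHom.id A B) x', ?_⟩
  rw [(γ.mult _).2, PolLaw1.compat, PolLaw1.compat, ev_mul]

/-- the span of the values, as a subalgebra -/
noncomputable def Cgen : Subalgebra A C :=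
  (Submodule.span A (GenSet γ.law)).toSubalgebra (Submodule.subset_span (one_mem_GenSet γ))
    (fun x y hx hy => by
      have h : x * y ∈ Submodule.span A (GenSet γ.law) * Submodule.span A (GenSet γ.law) :=
        Submodule.mul_mem_mul hx hy
      rw [Submodule.span_mul_span] at h
      refine Submodule.span_mono ?_ h
      rintro _ ⟨a, ha, b, hb, rfl⟩
      exact mul_mem_GenSet γ ha hb)

theorem mem_Cgen_iff (c : C) : c ∈ Cgen γ ↔ c ∈ Submodule.span A (GenSet γ.law) := Iff.rfl

theorem cf_mem_Cgen (n : ℕ) (m : Fin n →₀ ℕ) (x : MvPolynomial (Fin n) A ⊗[A] B) :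
    cf m (γ.law.toFun' (MvPolynomial (Fin n) A) x) ∈ Cgen γ :=
  Submodule.subset_span (cf_mem_GenSet γ.law n m x)

end gen


section law

open Groth.Agent.Helper4.PolLaw1

variable {A : Type u} [CommRing A] {B C : Type u} [CommRing B] [Algebra A B] [CommRing C] [Algebra A C]
variable {d : ℕ} (γ : PolLaw.MulLaw A B C d)

/-- `S ⊗ Cgen → S ⊗ C` -/
noncomputable abbrev J (S : Type u) [CommSemiring S] [Algebra A S] :
    S ⊗[A] (Cgen γ) →ₐ[A] S ⊗[A] C :=
  Algebra.TensorProduct.map (AlgHom.id A S) (Cgen γ).val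

theorem J_injective (n : ℕ) : Function.Injective (J γ (MvPolynomial (Fin n) A)) := by
  have h := Module.Flat.lTensor_preserves_injective_linearMap (M := MvPolynomial (Fin n) A)
    (Cgen γ).val.toLinearMap Subtype.val_injective
  intro a b hab
  apply h
  rw [PolLaw.lTensor_algHom_apply, PolLaw.lTensor_algHom_apply]
  exact hab

theorem J_smul (S : Type u) [CommSemiring S] [Algebra A S] (s : S) (w : S ⊗[A] (Cgen γ)) :
    J γ S (s • w) = s • J γ S w := by
  rw [smul_eq_tmul_one_mul, smul_eq_tmul_one_mul, map_mul, Algebra.TensorProduct.map_tmul]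
  simp

theorem J_map {S S' : Type u} [CommSemiring S] [Algebra A S] [CommSemiring S'] [Algebra A S']
    (ψ : S →ₐ[A] S') (w : S ⊗[A] (Cgen γ)) :
    J γ S' (Algebra.TensorProduct.map ψ (AlgHom.id A (Cgen γ)) w) =
      Algebra.TensorProduct.map ψ (AlgHom.id A C) (J γ S w) := by
  rw [← AlgHom.comp_apply, ← AlgHom.comp_apply, ← Algebra.TensorProduct.map_comp,
    ← Algebra.TensorProduct.map_comp]
  simp

theorem exists_preimage (n : ℕ) (x : MvPolynomial (Fin n) A ⊗[A] B) :
    ∃ w : MvPolynomial (Fin n) A ⊗[A] (Cgen γ),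
      J γ (MvPolynomial (Fin n) A) w = γ.law.toFun' (MvPolynomial (Fin n) A) x := by
  obtain ⟨s, hs⟩ := expansion (γ.law.toFun' (MvPolynomial (Fin n) A) x)
  refine ⟨∑ m ∈ s, (monomial m (1 : A)) ⊗ₜ[A]
    (⟨cf m (γ.law.toFun' (MvPolynomial (Fin n) A) x), cf_mem_Cgen γ n m x⟩ : Cgen γ), ?_⟩
  conv_rhs => rw [hs s (Finset.Subset.refl _)]
  rw [map_sum]
  refine Finset.sum_congr rfl fun m _ => ?_
  rw [Algebra.TensorProduct.map_tmul]
  rfl

/-- the lifted family on polynomial rings -/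
noncomputable def T (n : ℕ) (x : MvPolynomial (Fin n) A ⊗[A] B) :
    MvPolynomial (Fin n) A ⊗[A] (Cgen γ) := (exists_preimage γ n x).choose

theorem J_T (n : ℕ) (x : MvPolynomial (Fin n) A ⊗[A] B) :
    J γ (MvPolynomial (Fin n) A) (T γ n x) = γ.law.toFun' (MvPolynomial (Fin n) A) x :=
  (exists_preimage γ n x).choose_spec

theorem T_compat (n m : ℕ) (φ : MvPolynomial (Fin n) A →ₐ[A] MvPolynomial (Fin m) A) :
    φ.toLinearMap.rTensor (Cgen γ) ∘ T γ n = T γ m ∘ φ.toLinearMap.rTensor B := by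
  funext x
  simp only [Function.comp_apply]
  apply J_injective γ m
  rw [rT_apply, rT_apply, J_map, J_T, J_T, compat]

/-- the law `γ` with values restricted to `Cgen γ` -/
noncomputable def law' : B →ₚₗ[A] (Cgen γ) := PolLawExt.ofPoly (T γ) (T_compat γ)

theorem law'_map {S : Type u} [CommSemiring S] [Algebra A S] {n : ℕ}
    (ψ : MvPolynomial (Fin n) A →ₐ[A] S) (p : MvPolynomial (Fin n) A ⊗[A] B) :
    (law' γ).toFun' S (Algebra.TensorProduct.map ψ (AlgHom.id A B) p) =
      Algebra.TensorProduct.map ψ (AlgHom.id A (Cgen γ)) (T γ n p) := by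
  rw [← rT_apply, ← rT_apply]
  exact PolLawExt.ofPoly_apply (T γ) (T_compat γ) ψ p

theorem J_law' (S : Type u) [CommSemiring S] [Algebra A S] (x : S ⊗[A] B) :
    J γ S ((law' γ).toFun' S x) = γ.law.toFun' S x := by
  obtain ⟨n, ψ, p, rfl⟩ := exists_lift₁ x
  rw [law'_map, J_map, J_T, compat]

theorem T_one (n : ℕ) : T γ n 1 = 1 := by
  apply J_injective γ n
  rw [J_T, (γ.mult _).1, map_one]

theorem T_mul (n : ℕ) (p q : MvPolynomial (Fin n) A ⊗[A] B) : T γ n (p * q) = T γ n p * T γ n q := by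
  apply J_injective γ n
  rw [J_T, (γ.mult _).2, map_mul, J_T, J_T]

theorem T_smul (n : ℕ) (a : MvPolynomial (Fin n) A) (p : MvPolynomial (Fin n) A ⊗[A] B) :
    T γ n (a • p) = a ^ d • T γ n p := by
  apply J_injective γ n
  rw [J_T, γ.homog, J_smul, J_T]

/-- the restricted law as a multiplicative law -/
noncomputable def mulLaw' : PolLaw.MulLaw A B (Cgen γ) d where
  law := law' γ
  homog S _ _ s x := by
    obtain ⟨n, ψ, p, q, rfl, rfl⟩ := exists_lift_smul x s
    rw [← map_smul', law'_map, law'_map, T_smul, map_smul', map_pow]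
  mult S _ _ := by
    constructor
    · have h1 : (1 : S ⊗[A] B) = Algebra.TensorProduct.map
          (MvPolynomial.aeval (fun _ : Fin 0 => (0 : S)) : MvPolynomial (Fin 0) A →ₐ[A] S)
          (AlgHom.id A B) 1 := by rw [map_one]
      rw [h1, law'_map, T_one, map_one]
    · intro x y
      obtain ⟨n, ψ, p, q, rfl, rfl⟩ := exists_lift₂ x y
      rw [← map_mul, law'_map, law'_map, law'_map, T_mul, map_mul]

/-- If `γ` is universal, its values span the target. -/
theorem Cgen_eq_top (hγ : PolLaw.IsGammaD γ) : Cgen γ = ⊤ := by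
  obtain ⟨f, hf, -⟩ := hγ (Cgen γ) (mulLaw' γ)
  have hf' : ∀ (S : Type u) [CommSemiring S] [Algebra A S] (x : S ⊗[A] B),
      f.toLinearMap.lTensor S (γ.law.toFun' S x) = (law' γ).toFun' S x := by
    intro S _ _ x
    have := congrArg (fun F : B →ₚₗ[A] (Cgen γ) => F.toFun' S x) hf
    exact this
  have h1 : PolLaw.postcomp ((Cgen γ).val.comp f).toLinearMap γ.law = γ.law := by
    ext S _ _ x
    show ((Cgen γ).val.comp f).toLinearMap.lTensor S (γ.law.toFun' S x) = γ.law.toFun' S x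
    rw [AlgHom.comp_toLinearMap, LinearMap.lTensor_comp, LinearMap.comp_apply, hf',
      PolLaw.lTensor_algHom_apply]
    exact J_law' γ S x
  have h2 : PolLaw.postcomp (AlgHom.id A C).toLinearMap γ.law = γ.law := by
    ext S _ _ x
    show (AlgHom.id A C).toLinearMap.lTensor S (γ.law.toFun' S x) = γ.law.toFun' S x
    simp
  have huniq := (hγ C γ).unique h1 h2
  rw [eq_top_iff]
  intro c _
  have : c = (Cgen γ).val (f c) := by
    have := congrArg (fun g : C →ₐ[A] C => g c) huniq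
    simpa using this.symm
  rw [this]
  exact (f c).2

end law

end Groth.Agent.Helper4.GammaSpan
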