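import Mathlib
import Groth.Agent.Helper4.GammaOps
import Groth.Agent.Helper1.LambdaGamma

/-!
# The γ-filtration is spanned by products of γ's of generators
-/

set_option autoImplicit false

namespace Groth.Agent.Helper4.GammaSpanLam

open Finset LambdaRing
open Groth.Agent.Helper1.Lambda (gamma_add)

universe u v

variable {K : Type u} [CommRing K] {A : Type v} [CommRing A] [LambdaOps A] [Algebra K A]
variable (ε : A →ₐ[K] K) (S : Set A)

/-- Generators of weight at least `n`. -/
def G (n : ℕ) : Set A :=
  {y | ∃ l : List (ℕ × A), (∀ p ∈ l, p.2 ∈ S) ∧ n ≤ (l.map Prod.fst).sum ∧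
    y = (l.map fun p => gamma p.1 (p.2 - algebraMap K A (ε p.2))).prod}

/-- Their `K`-span. -/
def T (n : ℕ) : Submodule K A := Submodule.span K (G ε S n)

theorem T_anti {n m : ℕ} (h : n ≤ m) : T ε S m ≤ T ε S n := by
  apply Submodule.span_mono
  rintro y ⟨l, h1, h2, h3⟩
  exact ⟨l, h1, h.trans h2, h3⟩

theorem mul_mem_T {n m : ℕ} {a b : A} (ha : a ∈ T ε S n) (hb : b ∈ T ε S m) :
    a * b ∈ T ε S (n + m) := by
  have h1 : a * b ∈ T ε S n * T ε S m := Submodule.mul_mem_mul ha hb
  have h2 : T ε S n * T ε S m ≤ T ε S (n + m) := by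
    rw [T, T, Submodule.span_mul_span]
    apply Submodule.span_mono
    rintro y ⟨y1, ⟨l1, h11, h12, h13⟩, y2, ⟨l2, h21, h22, h23⟩, rfl⟩
    refine ⟨l1 ++ l2, ?_, ?_, ?_⟩
    · intro p hp
      rcases List.mem_append.mp hp with hp | hp
      · exact h11 p hp
      · exact h21 p hp
    · rw [List.map_append, List.sum_append]
      exact Nat.add_le_add h12 h22
    · simp only [List.map_append, List.prod_append]
      show y1 * y2 = _
      rw [h13, h23]
  exact h2 h1

theorem one_mem_T0 : (1 : A) ∈ T ε S 0 :=
  Submodule.subset_span ⟨[], by simp, by simp, by simp⟩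

theorem gamma_one (x : A) : gamma 1 x = x := by
  unfold gamma
  simp [Finset.sum_range_succ, LambdaOps.lam_one]

theorem gamma_zero' (x : A) : gamma 0 x = 1 := by
  unfold gamma
  simp

theorem gamma_gen_mem (i : ℕ) {s : A} (hs : s ∈ S) :
    gamma i (s - algebraMap K A (ε s)) ∈ T ε S i :=
  Submodule.subset_span ⟨[(i, s)], by simpa using hs, by simp, by simp⟩

theorem T0_eq_top (hS : AddSubgroup.closure S = ⊤) : T ε S 0 = ⊤ := by
  rw [eq_top_iff]
  intro a ha'
  clear ha'
  have ha : a ∈ AddSubgroup.closure S := by rw [hS]; trivial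
  induction ha using AddSubgroup.closure_induction with
  | mem s hs =>
    have h1 : s - algebraMap K A (ε s) ∈ T ε S 0 := by
      have := gamma_gen_mem ε S 1 hs
      rw [gamma_one] at this
      exact T_anti ε S (Nat.zero_le 1) this
    have h2 : algebraMap K A (ε s) ∈ T ε S 0 := by
      rw [Algebra.algebraMap_eq_smul_one]
      exact Submodule.smul_mem _ _ (one_mem_T0 ε S)
    have := Submodule.add_mem _ h1 h2
    rwa [sub_add_cancel] at this
  | zero => exact Submodule.zero_mem _
  | add x y _ _ hx hy => exact Submodule.add_mem _ hx hy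
  | neg x _ hx => exact Submodule.neg_mem _ hx

/-- The elements all of whose γ's have the right weight. -/
theorem gamma_neg_mem {x : A} (hx : ∀ i, gamma i x ∈ T ε S i) (i : ℕ) :
    gamma i (-x) ∈ T ε S i := by
  induction i using Nat.strong_induction_on with
  | _ i ih =>
    have h := gamma_add i x (-x)
    rw [add_neg_cancel, GammaOps.gamma_zero_arg, Finset.sum_range_succ', gamma_zero' x, one_mul,
      Nat.sub_zero] at h
    have h2 : gamma i (-x) = (if i = 0 then (1 : A) else 0) -
        ∑ k ∈ range i, gamma (k + 1) x * gamma (i - (k + 1)) (-x) := by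
      rw [h]; ring
    rw [h2]
    apply Submodule.sub_mem
    · split_ifs with h0
      · subst h0; exact one_mem_T0 ε S
      · exact Submodule.zero_mem _
    · apply Submodule.sum_mem
      intro k hk
      rw [Finset.mem_range] at hk
      have := mul_mem_T ε S (hx (k + 1)) (ih (i - (k + 1)) (by omega))
      have e : k + 1 + (i - (k + 1)) = i := by omega
      rwa [e] at this

theorem gamma_mem_of_closure {x : A}
    (hx : x ∈ AddSubgroup.closure ((fun s => s - algebraMap K A (ε s)) '' S)) :
    ∀ i, gamma i x ∈ T ε S i := by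
  induction hx using AddSubgroup.closure_induction with
  | mem y hy =>
    obtain ⟨s, hs, rfl⟩ := hy
    exact fun i => gamma_gen_mem ε S i hs
  | zero =>
    intro i
    rw [GammaOps.gamma_zero_arg]
    split_ifs with h0
    · subst h0; exact one_mem_T0 ε S
    · exact Submodule.zero_mem _
  | add x y _ _ hx hy =>
    intro i
    rw [gamma_add]
    apply Submodule.sum_mem
    intro k hk
    rw [Finset.mem_range] at hk
    have := mul_mem_T ε S (hx k) (hy (i - k))
    have e : k + (i - k) = i := by omega
    rwa [e] at this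
  | neg x _ hx => exact gamma_neg_mem ε S hx

theorem mem_closure_of_aug_zero (hS : AddSubgroup.closure S = ⊤) {x : A} (hx : ε x = 0) :
    x ∈ AddSubgroup.closure ((fun s => s - algebraMap K A (ε s)) '' S) := by
  let φ : A →+ A := AddMonoidHom.id A -
    ((algebraMap K A : K →+* A).toAddMonoidHom.comp (ε : A →+* K).toAddMonoidHom)
  have hφ : ∀ a, φ a = a - algebraMap K A (ε a) := fun a => rfl
  have h1 := AddMonoidHom.map_closure φ S
  have h2 : x ∈ (AddSubgroup.closure S).map φ := by
    rw [hS]
    refine ⟨x, trivial, ?_⟩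
    rw [hφ, hx, map_zero, sub_zero]
  rw [h1] at h2
  exact h2

theorem gammaFil_le (hS : AddSubgroup.closure S = ⊤) (n : ℕ) :
    ∀ y ∈ gammaFil (ε : A →+* K) n, y ∈ T ε S n := by
  let I' : Ideal A :=
    { carrier := T ε S n
      add_mem' := fun ha hb => Submodule.add_mem _ ha hb
      zero_mem' := Submodule.zero_mem _
      smul_mem' := by
        intro a b hb
        have ha : a ∈ T ε S 0 := by rw [T0_eq_top ε S hS]; trivial
        have := mul_mem_T ε S ha hb
        rw [zero_add] at this
        exact this }
  have hI : gammaFil (ε : A →+* K) n ≤ I' := by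
    rw [gammaFil, Ideal.span_le]
    rintro y ⟨l, h1, h2, rfl⟩
    show _ ∈ T ε S n
    apply T_anti ε S h2
    clear h2
    induction l with
    | nil => simpa using one_mem_T0 ε S
    | cons p l ih =>
      simp only [List.map_cons, List.prod_cons, List.sum_cons]
      apply mul_mem_T
      · exact gamma_mem_of_closure ε S
          (mem_closure_of_aug_zero ε S hS (h1 p (List.mem_cons_self))) p.1
      · exact ih fun q hq => h1 q (List.mem_cons_of_mem _ hq)
  exact fun y hy => hI hy

theorem T_le_gammaFil (n : ℕ) : ∀ y ∈ T ε S n, y ∈ gammaFil (ε : A →+* K) n := by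
  intro y hy
  have : T ε S n ≤ (gammaFil (ε : A →+* K) n).restrictScalars K := by
    apply Submodule.span_le.mpr
    rintro y ⟨l, h1, h2, rfl⟩
    show _ ∈ gammaFil (ε : A →+* K) n
    apply Ideal.subset_span
    refine ⟨l.map fun p => (p.1, p.2 - algebraMap K A (ε p.2)), ?_, ?_, ?_⟩
    · intro p hp
      obtain ⟨q, _, rfl⟩ := List.mem_map.mp hp
      simp
    · simpa [List.map_map, Function.comp_def] using h2
    · simp [List.map_map, Function.comp_def]
  exact this hy

end Groth.Agent.Helper4.GammaSpanLam
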