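import Groth.Agent.Helper4.GammaFilt3
import Mathlib

set_option autoImplicit false

/-!
# The γ-filtration of a truncated free λ-algebra on one generator is the weight filtration
-/

namespace Groth.Agent.Helper4.GammaWeight

open LambdaRing Finset Groth.Agent.Helper4.GammaFilt

universe u v

variable {K : Type u} [CommRing K] [LambdaOps K]
variable {B : Type v} [CommRing B] [LambdaOps B] [Algebra K B]

/-- the weight filtration -/
def W (n : ℕ) (x : B) (k : ℕ) : Ideal B :=
  Ideal.span {m : B | ∃ e : Fin n → ℕ, k ≤ ∑ j : Fin n, ((j : ℕ) + 1) * e j ∧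
    m = ∏ j : Fin n, gamma ((j : ℕ) + 1) x ^ e j}

variable (n : ℕ) (x : B)

theorem W_anti (a b : ℕ) (h : a ≤ b) : W n x b ≤ W n x a := by
  apply Ideal.span_mono
  rintro m ⟨e, he, rfl⟩
  exact ⟨e, le_trans h he, rfl⟩

theorem one_mem_W0 : (1 : B) ∈ W n x 0 := by
  apply Ideal.subset_span
  exact ⟨0, by simp, by simp⟩

theorem W_mul (a b : ℕ) (y y' : B) (hy : y ∈ W n x a) (hy' : y' ∈ W n x b) :
    y * y' ∈ W n x (a + b) := by
  have h := Ideal.mul_mem_mul hy hy'
  refine (?_ : W n x a * W n x b ≤ W n x (a + b)) h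
  unfold W
  rw [Ideal.span_mul_span]
  apply Ideal.span_le.mpr
  rintro _ ⟨g, ⟨e, he, rfl⟩, g', ⟨e', he', rfl⟩, rfl⟩
  apply Ideal.subset_span
  refine ⟨e + e', ?_, ?_⟩
  · have : ∑ j : Fin n, ((j : ℕ) + 1) * (e + e') j =
        ∑ j : Fin n, ((j : ℕ) + 1) * e j + ∑ j : Fin n, ((j : ℕ) + 1) * e' j := by
      rw [← Finset.sum_add_distrib]
      apply Finset.sum_congr rfl
      intro j _
      rw [Pi.add_apply, mul_add]
    rw [this]; omega
  · show _ * _ = _
    rw [← Finset.prod_mul_distrib]
    apply Finset.prod_congr rfl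
    intro j _
    rw [Pi.add_apply, pow_add]

theorem gamma_x_mem_W (hγ : ∀ k : ℕ, n < k → gamma k x = 0) (i : ℕ) : gamma i x ∈ W n x i := by
  classical
  rcases i with _ | i
  · rw [GammaFilt.gamma_zero']; exact one_mem_W0 n x
  · by_cases hi : i < n
    · apply Ideal.subset_span
      refine ⟨Pi.single ⟨i, hi⟩ 1, ?_, ?_⟩
      · rw [Finset.sum_eq_single ⟨i, hi⟩]
        · simp
        · intro b _ hb
          rw [Pi.single_eq_of_ne hb, mul_zero]
        · intro h; exact absurd (Finset.mem_univ _) h
      · rw [Finset.prod_eq_single ⟨i, hi⟩]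
        · simp
        · intro b _ hb
          rw [Pi.single_eq_of_ne hb, pow_zero]
        · intro h; exact absurd (Finset.mem_univ _) h
    · rw [hγ (i + 1) (by omega)]
      exact zero_mem _

section Main

variable [BinomialRing K] (hKb : IsBinomial K) (hB : IsSpecial B)
  (ε : B →ₐ[K] K) (hε : IsAugLambdaAlg K B ε)

omit [BinomialRing K] in
include hε in
theorem aug_gamma (hx : ε x = 0) (i : ℕ) (hi : 1 ≤ i) : ε (gamma i x) = 0 := by
  have := map_gamma' (ε : B →+* K) (fun n a => hε.map_lam n a) i x
  rw [RingHom.coe_coe] at this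
  rw [this, hx, GammaOps.gamma_zero_arg, if_neg (by omega)]

include hKb hB hε in
/-- every element of augmentation zero has `γ^i z ∈ W_i` -/
theorem mem_good_of_aug_zero (hx : ε x = 0) (hγ : ∀ k : ℕ, n < k → gamma k x = 0)
    (hgen : Algebra.adjoin K (Set.range fun j : Fin n => gamma ((j : ℕ) + 1) x) = ⊤)
    (z : B) : z - algebraMap K B (ε z) ∈
      GammaGood.good (W n x) (one_mem_W0 n x) (W_mul n x) := by
  have hz : z ∈ Subalgebra.toSubmodule
      (Algebra.adjoin K (Set.range fun j : Fin n => gamma ((j : ℕ) + 1) x)) := by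
    rw [hgen]; trivial
  rw [Algebra.adjoin_eq_span] at hz
  induction hz using Submodule.closure_induction with
  | zero => simp
  | add y y' _ _ hy hy' =>
    have : y + y' - algebraMap K B (ε (y + y')) =
        (y - algebraMap K B (ε y)) + (y' - algebraMap K B (ε y')) := by
      rw [map_add, map_add]; ring
    rw [this]; exact add_mem hy hy'
  | smul_mem κ μ hμ =>
    obtain ⟨l, hl, rfl⟩ := Submonoid.exists_list_of_mem_closure hμ
    rcases l with _ | ⟨a, l⟩
    · simp [Algebra.smul_def]
    · -- a nonempty product of generators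
      have hxs : ∀ s : Fin (a :: l).length, ∃ j : Fin n, (a :: l).get s = gamma ((j : ℕ) + 1) x := by
        intro s
        obtain ⟨j, hj⟩ := hl _ (List.get_mem (a :: l) s)
        exact ⟨j, hj.symm⟩
      choose jf hjf using hxs
      have hprod : (a :: l).prod = ∏ s : Fin (a :: l).length, gamma ((jf s : ℕ) + 1) x := by
        calc (a :: l).prod = (List.ofFn (a :: l).get).prod := by rw [List.ofFn_get]
          _ = ∏ s, (a :: l).get s := List.prod_ofFn
          _ = _ := Finset.prod_congr rfl (fun s _ => hjf s)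
      have hε0 : ε ((a :: l).prod) = 0 := by
        have hmem : a ∈ a :: l := by simp
        obtain ⟨j, hj⟩ := hl a hmem
        rw [List.prod_cons, map_mul, ← hj]
        simp only
        rw [aug_gamma x ε hε hx _ (by omega), zero_mul]
      rw [Algebra.smul_def, map_mul, hε0, mul_zero, map_zero, sub_zero, hprod]
      refine smul_prod_mem_good (W n x) (one_mem_W0 n x) (W_mul n x) (W_anti n x) hKb hB ε hε
        (fun _ => x) (fun _ i => gamma_x_mem_W n x hγ i) (fun s => (jf s : ℕ) + 1) ?_ κ
      have : (fun s : Fin (a :: l).length => (jf s : ℕ) + 1) ⟨0, by simp⟩ ≤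
          ∑ s : Fin (a :: l).length, ((jf s : ℕ) + 1) :=
        Finset.single_le_sum (f := fun s : Fin (a :: l).length => (jf s : ℕ) + 1)
          (fun _ _ => Nat.zero_le _) (Finset.mem_univ _)
      simp only at this
      omega

include hKb hB hε in
theorem gamma_mem_W (hx : ε x = 0) (hγ : ∀ k : ℕ, n < k → gamma k x = 0)
    (hgen : Algebra.adjoin K (Set.range fun j : Fin n => gamma ((j : ℕ) + 1) x) = ⊤)
    {z : B} (hz : ε z = 0) (i : ℕ) : gamma i z ∈ W n x i := by
  have := mem_good_of_aug_zero n x hKb hB ε hε hx hγ hgen z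
  rw [hz, map_zero, sub_zero] at this
  exact this i

include hKb hB hε in
theorem gammaFil_eq_W (hx : ε x = 0) (hγ : ∀ k : ℕ, n < k → gamma k x = 0)
    (hgen : Algebra.adjoin K (Set.range fun j : Fin n => gamma ((j : ℕ) + 1) x) = ⊤) (k : ℕ) :
    gammaFil (ε : B →+* K) k = W n x k := by
  apply le_antisymm
  · apply Ideal.span_le.mpr
    rintro y ⟨l, hl, hw, rfl⟩
    refine W_anti n x _ _ hw ?_
    clear hw
    induction l with
    | nil => simpa using one_mem_W0 n x
    | cons p l ih =>
      simp only [List.map_cons, List.prod_cons, List.sum_cons]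
      refine W_mul n x _ _ _ _ ?_ (ih fun q hq => hl q (List.mem_cons_of_mem _ hq))
      exact gamma_mem_W n x hKb hB ε hε hx hγ hgen (hl p (by simp)) p.1
  · apply Ideal.span_le.mpr
    rintro y ⟨e, he, rfl⟩
    refine gammaFil_anti (ε : B →+* K) he ?_
    have : ∀ S : Finset (Fin n), ∏ j ∈ S, gamma ((j : ℕ) + 1) x ^ e j ∈
        gammaFil (ε : B →+* K) (∑ j ∈ S, ((j : ℕ) + 1) * e j) := by
      intro S
      classical
      induction S using Finset.induction_on with
      | empty => simp [gammaFil_zero]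
      | insert a S ha ih =>
        rw [Finset.prod_insert ha, Finset.sum_insert ha]
        refine mul_mem_gammaFil (ε : B →+* K) ?_ ih
        rw [mul_comm]
        exact pow_mem_gammaFil (ε : B →+* K) (gamma_mem_gammaFil (ε : B →+* K) _ hx) (e a)
    exact this Finset.univ

end Main

end Groth.Agent.Helper4.GammaWeight
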