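import Mathlib
import Groth.Prelude.Def_CxOX

/-! `Γ_Z` for an open immersion `j` agrees with `Γ_Z` for the inclusion of its open range;
consequences for the derived functors `RΓ_Z`. -/

set_option autoImplicit false
universe u

open CategoryTheory CategoryTheory.Limits AlgebraicGeometry
attribute [local instance] HasDerivedCategory.standard

namespace Groth.Agent.Helper4.GammaZIso

section adj

variable {C D : Type*} [Category C] [Category D] [Preadditive C] [Preadditive D]
  {L : C ⥤ D} {R : D ⥤ C} (adj : L ⊣ R) [R.PreservesZeroMorphisms] [L.PreservesZeroMorphisms]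

include adj in
lemma comp_unit_eq_zero_iff {G F : C} (g : G ⟶ F) : g ≫ adj.unit.app F = 0 ↔ L.map g = 0 := by
  constructor
  · intro h
    have h1 : L.map g = L.map (g ≫ adj.unit.app F) ≫ adj.counit.app (L.obj F) := by
      rw [L.map_comp, Category.assoc, adj.left_triangle_components, Category.comp_id]
    rw [h1, h, L.map_zero, zero_comp]
  · intro h
    have h2 := adj.unit.naturality g
    simp only [Functor.id_map, Functor.comp_map] at h2
    rw [h2, h, R.map_zero, comp_zero]

end adj

variable {U X : Scheme.{u}} (j : U ⟶ X) [IsOpenImmersion j]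

instance (f : U ⟶ X) [IsOpenImmersion f] : (Scheme.Modules.restrictFunctor f).PreservesZeroMorphisms :=
  Functor.preservesZeroMorphisms_of_isLeftAdjoint _

instance (f : U ⟶ X) : (Scheme.Modules.pushforward f).PreservesZeroMorphisms :=
  Functor.preservesZeroMorphisms_of_isRightAdjoint _

/-- restriction along an isomorphism is faithful -/
lemma faithful_restrictFunctor_of_iso {V V' : Scheme.{u}} (e : V ≅ V') :
    (Scheme.Modules.restrictFunctor e.hom).Faithful := by
  have κ : Scheme.Modules.restrictFunctor e.hom ⋙ Scheme.Modules.restrictFunctor e.inv ≅ 𝟭 _ :=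
    (Scheme.Modules.restrictFunctorComp e.inv e.hom).symm ≪≫
      Scheme.Modules.restrictFunctorCongr e.inv_hom_id ≪≫ Scheme.Modules.restrictFunctorId
  haveI : (Scheme.Modules.restrictFunctor e.hom ⋙ Scheme.Modules.restrictFunctor e.inv).Faithful :=
    Functor.Faithful.of_iso κ.symm
  exact Functor.Faithful.of_comp _ (Scheme.Modules.restrictFunctor e.inv)

lemma map_eq_zero_iff {G F : X.Modules} (g : G ⟶ F) :
    (Scheme.Modules.restrictFunctor j).map g = 0 ↔
      (Scheme.Modules.restrictFunctor j.opensRange.ι).map g = 0 := by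
  let e := j.isoOpensRange
  have hj : j = e.hom ≫ j.opensRange.ι := (Scheme.Hom.isoOpensRange_hom_ι j).symm
  let κ : Scheme.Modules.restrictFunctor j ≅
      Scheme.Modules.restrictFunctor j.opensRange.ι ⋙ Scheme.Modules.restrictFunctor e.hom :=
    Scheme.Modules.restrictFunctorCongr hj ≪≫ Scheme.Modules.restrictFunctorComp e.hom j.opensRange.ι
  haveI := faithful_restrictFunctor_of_iso e
  have hn := κ.hom.naturality g
  constructor
  · intro h
    rw [h, zero_comp] at hn
    have h2 : (Scheme.Modules.restrictFunctor e.hom).map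
        ((Scheme.Modules.restrictFunctor j.opensRange.ι).map g) = 0 := by
      rw [← cancel_epi (κ.hom.app G)]
      rw [comp_zero]
      exact hn.symm
    apply (Scheme.Modules.restrictFunctor e.hom).map_injective
    rw [h2, Functor.map_zero]
  · intro h
    have h3 : (Scheme.Modules.restrictFunctor j).map g ≫ κ.hom.app F = 0 := by
      rw [hn]
      change _ ≫ (Scheme.Modules.restrictFunctor e.hom).map
        ((Scheme.Modules.restrictFunctor j.opensRange.ι).map g) = 0
      rw [h, Functor.map_zero, comp_zero]
    rw [← cancel_mono (κ.hom.app F), h3, zero_comp]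

lemma comp_unit_iff {G F : X.Modules} (g : G ⟶ F) :
    g ≫ (Scheme.Modules.restrictAdjunction j).unit.app F = 0 ↔
      g ≫ (Scheme.Modules.restrictAdjunction j.opensRange.ι).unit.app F = 0 := by
  rw [comp_unit_eq_zero_iff (Scheme.Modules.restrictAdjunction j),
    comp_unit_eq_zero_iff (Scheme.Modules.restrictAdjunction j.opensRange.ι), map_eq_zero_iff]

/-- comparison map -/
noncomputable def φ (F : X.Modules) :
    (DCoh.gammaZ j).obj F ⟶ (DCoh.gammaZ j.opensRange.ι).obj F :=
  kernel.lift _ (kernel.ι ((Scheme.Modules.restrictAdjunction j).unit.app F))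
    ((comp_unit_iff j _).1 (kernel.condition _))

/-- comparison map -/
noncomputable def ψ (F : X.Modules) :
    (DCoh.gammaZ j.opensRange.ι).obj F ⟶ (DCoh.gammaZ j).obj F :=
  kernel.lift _ (kernel.ι ((Scheme.Modules.restrictAdjunction j.opensRange.ι).unit.app F))
    ((comp_unit_iff j _).2 (kernel.condition _))

@[reassoc]
lemma φ_ι (F : X.Modules) : φ j F ≫ (CxOX.gammaZι j.opensRange.ι).app F = (CxOX.gammaZι j).app F :=
  kernel.lift_ι _ _ _

@[reassoc]
lemma ψ_ι (F : X.Modules) : ψ j F ≫ (CxOX.gammaZι j).app F = (CxOX.gammaZι j.opensRange.ι).app F :=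
  kernel.lift_ι _ _ _

instance mono_gammaZι {T : Scheme.{u}} (i : T ⟶ X) [IsOpenImmersion i] (F : X.Modules) :
    Mono ((CxOX.gammaZι i).app F) :=
  inferInstanceAs (Mono (kernel.ι _))

/-- the comparison isomorphism on objects -/
noncomputable def objIso (F : X.Modules) :
    (DCoh.gammaZ j).obj F ≅ (DCoh.gammaZ j.opensRange.ι).obj F where
  hom := φ j F
  inv := ψ j F
  hom_inv_id := by
    rw [← cancel_mono ((CxOX.gammaZι j).app F), Category.assoc, ψ_ι, φ_ι, Category.id_comp]
  inv_hom_id := by
    rw [← cancel_mono ((CxOX.gammaZι j.opensRange.ι).app F), Category.assoc, φ_ι, ψ_ι,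
      Category.id_comp]

/-- `Γ_Z` for `j` and for the inclusion of its open range -/
noncomputable def gammaZIso : DCoh.gammaZ j ≅ DCoh.gammaZ j.opensRange.ι :=
  NatIso.ofComponents (objIso j) (by
    intro F F' f
    rw [← cancel_mono ((CxOX.gammaZι j.opensRange.ι).app F')]
    change ((DCoh.gammaZ j).map f ≫ φ j F') ≫ _ = (φ j F ≫ (DCoh.gammaZ j.opensRange.ι).map f) ≫ _
    rw [Category.assoc, φ_ι, Category.assoc]
    have h1 := (CxOX.gammaZι j).naturality f
    have h2 := (CxOX.gammaZι j.opensRange.ι).naturality f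
    simp only [Functor.id_map] at h1 h2
    rw [h1, h2, φ_ι_assoc])

lemma gammaZIso_hom_ι : (gammaZIso j).hom ≫ CxOX.gammaZι j.opensRange.ι = CxOX.gammaZι j := by
  ext F : 2
  exact φ_ι j F

end Groth.Agent.Helper4.GammaZIso
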