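import Mathlib
import Groth.Prelude.Def_CxOX
import Groth.Agent.Helper4.KDerAdj
import Groth.Agent.Helper4.SchAdj
import Groth.Agent.Helper4.SuppLib

/-! `RΓ_Z(G)` vanishes over the open complement of `Z`. -/

set_option autoImplicit false
universe u

open CategoryTheory CategoryTheory.Limits AlgebraicGeometry Opposite
attribute [local instance] HasDerivedCategory.standard

namespace Groth.Agent.Helper4.RGammaZLib

variable {X : Scheme.{u}}

/-- the restriction of `Γ_Z(F)` to the open complement of `Z` vanishes -/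
theorem isZero_restrict_gammaZ {U : Scheme.{u}} (j : U ⟶ X) [IsOpenImmersion j] (F : X.Modules) :
    IsZero ((Scheme.Modules.restrictFunctor j).obj ((DCoh.gammaZ j).obj F)) := by
  have h1 : IsIso ((Scheme.Modules.restrictFunctor j).map
      ((Scheme.Modules.restrictAdjunction j).unit.app F)) := by
    have h := (Scheme.Modules.restrictAdjunction j).left_triangle_components F
    haveI : IsIso ((Scheme.Modules.restrictAdjunction j).counit.app
      ((Scheme.Modules.restrictFunctor j).obj F)) := inferInstance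
    rw [IsIso.eq_inv_of_inv_hom_id h]
    infer_instance
  have e := PreservesKernel.iso (Scheme.Modules.restrictFunctor j)
    ((Scheme.Modules.restrictAdjunction j).unit.app F)
  refine IsZero.of_iso ?_ e
  rw [IsZero.iff_id_eq_zero, ← cancel_mono (kernel.ι _), zero_comp, Category.id_comp]
  rw [← cancel_mono ((Scheme.Modules.restrictFunctor j).map
      ((Scheme.Modules.restrictAdjunction j).unit.app F)), kernel.condition, zero_comp]

theorem isZero_of_forall_isZero_X {C : Type*} [Category C] [Preadditive C] [HasZeroObject C]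
    (K : CochainComplex C ℤ) (h : ∀ n, IsZero (K.X n)) : IsZero K := by
  rw [IsZero.iff_id_eq_zero]
  ext n
  exact (h n).eq_of_src _ _

variable (W : X.Opens) [CxOX.HasRgammaZ W.ι]

theorem isZero_restrictD_RgammaZ (G : DCoh.D X) :
    IsZero ((DCoh.restrictD W.ι).obj ((CxOX.RgammaZ W.ι).obj G)) := by
  haveI := Groth.Agent.Helper4.SchAdj.isGrothendieckAbelian_modules X
  have := (Groth.Agent.Helper1.KInjDer.Φ X.Modules).essSurj_of_hasRightResolutions
    (DerivedCategory.Qh (C := X.Modules))
  let X' := ((Groth.Agent.Helper1.KInjDer.Φ X.Modules).functor ⋙ DerivedCategory.Qh).objPreimage G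
  let eG := ((Groth.Agent.Helper1.KInjDer.Φ X.Modules).functor ⋙
    DerivedCategory.Qh).objObjPreimageIso G
  let β := (CxOX.gammaZKh W.ι).totalRightDerivedUnit DerivedCategory.Qh
    (HomotopyCategory.quasiIso X.Modules (ComplexShape.up ℤ))
  haveI : IsIso (β.app ((Groth.Agent.Helper1.KInjDer.Φ X.Modules).functor.obj X')) :=
    Groth.Agent.Helper4.KDerAdj.isIso_β_app (CxOX.RgammaZ W.ι) β X'
  obtain ⟨I, hI⟩ : ∃ I : CochainComplex X.Modules ℤ, (HomotopyCategory.quotient _ _).obj I =
      (Groth.Agent.Helper1.KInjDer.Φ X.Modules).functor.obj X' := ⟨X'.obj.as, rfl⟩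
  -- `RΓ_Z(G) ≅ Q(Γ_Z(I))`
  have e1 : (CxOX.RgammaZ W.ι).obj G ≅
      DerivedCategory.Q.obj (((DCoh.gammaZ W.ι).mapHomologicalComplex (ComplexShape.up ℤ)).obj I) :=
    (CxOX.RgammaZ W.ι).mapIso eG.symm ≪≫
      (asIso (β.app ((Groth.Agent.Helper1.KInjDer.Φ X.Modules).functor.obj X'))).symm ≪≫
      eqToIso (by rw [← hI]; rfl)
  have e2 : (DCoh.restrictD W.ι).obj (DerivedCategory.Q.obj
        (((DCoh.gammaZ W.ι).mapHomologicalComplex (ComplexShape.up ℤ)).obj I)) ≅
      DerivedCategory.Q.obj (((Scheme.Modules.restrictFunctor W.ι).mapHomologicalComplex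
        (ComplexShape.up ℤ)).obj
        (((DCoh.gammaZ W.ι).mapHomologicalComplex (ComplexShape.up ℤ)).obj I)) :=
    (Scheme.Modules.restrictFunctor W.ι).mapDerivedCategoryFactors.app
      (((DCoh.gammaZ W.ι).mapHomologicalComplex (ComplexShape.up ℤ)).obj I)
  have hz : IsZero (((Scheme.Modules.restrictFunctor W.ι).mapHomologicalComplex
      (ComplexShape.up ℤ)).obj
      (((DCoh.gammaZ W.ι).mapHomologicalComplex (ComplexShape.up ℤ)).obj I)) :=
    isZero_of_forall_isZero_X _ (fun n => isZero_restrict_gammaZ W.ι (I.X n))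
  exact IsZero.of_iso (Functor.map_isZero _ hz) ((DCoh.restrictD W.ι).mapIso e1 ≪≫ e2)

end Groth.Agent.Helper4.RGammaZLib
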