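import Mathlib
import Groth.Prelude.Def_CxOX
import Groth.Agent.Helper4.RGammaZTri
import Groth.Agent.Helper4.RDerTri
import Groth.Agent.Helper4.LocalObj

/-! The distinguished triangle `RΓ_Z(G) ⟶ G ⟶ Rι_* ι^* G` with first map `RgammaZToId`. -/

set_option autoImplicit false
universe u

open CategoryTheory CategoryTheory.Limits AlgebraicGeometry Opposite Pretriangulated
attribute [local instance] HasDerivedCategory.standard

namespace Groth.Agent.Helper4.RGammaZTri2

open Groth.Agent.Helper4.RGammaZTri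

variable {X : Scheme.{u}} (W : X.Opens) [CxOX.HasRgammaZ W.ι]

theorem gammaZKhι_app (I : CochainComplex X.Modules ℤ) :
    (CxOX.gammaZKhι W.ι).app ((HomotopyCategory.quotient _ _).obj I) =
      DerivedCategory.Q.map (fI W.ι I) := by
  have h1 : (CxOX.gammaZKhι W.ι).app ((HomotopyCategory.quotient _ _).obj I) =
    𝟙 _ ≫ DerivedCategory.Qh.map
        (((DCoh.gammaZ W.ι).mapHomotopyCategoryFactors (ComplexShape.up ℤ)).hom.app I) ≫ 𝟙 _ ≫
      DerivedCategory.Qh.map ((HomotopyCategory.quotient _ _).map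
        ((NatTrans.mapHomologicalComplex (CxOX.gammaZι W.ι) (ComplexShape.up ℤ)).app I)) ≫
      DerivedCategory.Qh.map ((HomotopyCategory.quotient _ _).map
        ((Functor.mapHomologicalComplexIdIso X.Modules (ComplexShape.up ℤ)).hom.app I)) ≫ 𝟙 _ := rfl
  rw [h1]
  have h2 : ((DCoh.gammaZ W.ι).mapHomotopyCategoryFactors (ComplexShape.up ℤ)).hom.app I = 𝟙 _ := rfl
  rw [h2]
  erw [CategoryTheory.Functor.map_id]
  simp only [Category.id_comp, Category.comp_id]
  rw [← CategoryTheory.Functor.map_comp, ← CategoryTheory.Functor.map_comp]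
  have h3 : (NatTrans.mapHomologicalComplex (CxOX.gammaZι W.ι) (ComplexShape.up ℤ)).app I ≫
      (Functor.mapHomologicalComplexIdIso X.Modules (ComplexShape.up ℤ)).hom.app I = fI W.ι I := by
    apply HomologicalComplex.hom_ext
    intro n
    simp [fI, Functor.mapHomologicalComplexIdIso]
    exact Category.comp_id _
  rw [h3]
  rfl

/-- `RgammaZToId` on `Q I` is `Γ_Z(I) ⟶ I` up to the structure 2-cell. -/
theorem unit_comp_RgammaZToId (I : CochainComplex X.Modules ℤ) :
    ((CxOX.gammaZKh W.ι).totalRightDerivedUnit DerivedCategory.Qh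
      (HomotopyCategory.quasiIso X.Modules (ComplexShape.up ℤ))).app
        ((HomotopyCategory.quotient _ _).obj I) ≫
      (CxOX.RgammaZToId W.ι).app (DerivedCategory.Q.obj I) = DerivedCategory.Q.map (fI W.ι I) := by
  have h := Functor.rightDerived_fac_app (CxOX.RgammaZ W.ι)
    ((CxOX.gammaZKh W.ι).totalRightDerivedUnit DerivedCategory.Qh
      (HomotopyCategory.quasiIso X.Modules (ComplexShape.up ℤ)))
    (HomotopyCategory.quasiIso X.Modules (ComplexShape.up ℤ)) (𝟭 (DCoh.D X))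
    (CxOX.gammaZKhι W.ι ≫ (Functor.rightUnitor _).inv) ((HomotopyCategory.quotient _ _).obj I)
  refine h.trans ?_
  rw [NatTrans.comp_app, gammaZKhι_app]
  exact Category.comp_id _

/-- the triangle `RΓ_Z(G) ⟶ G ⟶ Rι_* N ⟶` -/
theorem exists_triangle [DCoh.HasRpush W.ι] (G : DCoh.D X) :
    ∃ (N : DCoh.D (W : Scheme.{u})) (g : G ⟶ (DCoh.Rpush W.ι).obj N)
      (h : (DCoh.Rpush W.ι).obj N ⟶ ((CxOX.RgammaZ W.ι).obj G)⟦(1 : ℤ)⟧),
      Triangle.mk ((CxOX.RgammaZToId W.ι).app G) g h ∈ distTriang (DCoh.D X) := by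
  obtain ⟨I, hI, hinj, ⟨eG⟩⟩ := exists_kinj_rep G
  haveI := Groth.Agent.Helper4.RestrKInj.isKInjective_restrict W I
  obtain ⟨e2⟩ := nonempty_Rpush_iso W
    (((Scheme.Modules.restrictFunctor W.ι).mapHomologicalComplex (ComplexShape.up ℤ)).obj I)
  have hT := DerivedCategory.triangleOfSES_distinguished (ses_shortExact W.ι I hinj)
  haveI := Groth.Agent.Helper4.SchAdj.isGrothendieckAbelian_modules X
  let X' : (Groth.Agent.Helper1.KInjDer.P X.Modules).FullSubcategory :=
    ⟨(HomotopyCategory.quotient _ _).obj I,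
      (CochainComplex.isKInjective_iff_rightOrthogonal _).1 inferInstance⟩
  let β := (CxOX.gammaZKh W.ι).totalRightDerivedUnit DerivedCategory.Qh
    (HomotopyCategory.quasiIso X.Modules (ComplexShape.up ℤ))
  haveI hβ : IsIso (β.app ((HomotopyCategory.quotient _ _).obj I)) :=
    Groth.Agent.Helper4.KDerAdj.isIso_β_app (CxOX.RgammaZ W.ι) β X'
  let e1 : DerivedCategory.Q.obj
      (((DCoh.gammaZ W.ι).mapHomologicalComplex (ComplexShape.up ℤ)).obj I) ≅
      (CxOX.RgammaZ W.ι).obj (DerivedCategory.Q.obj I) :=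
    @asIso _ _ _ _ (β.app ((HomotopyCategory.quotient _ _).obj I)) hβ
  have he1 : e1.hom ≫ (CxOX.RgammaZToId W.ι).app (DerivedCategory.Q.obj I) =
      DerivedCategory.Q.map (fI W.ι I) := unit_comp_RgammaZToId W I
  let g0 : DerivedCategory.Q.obj I ⟶ DerivedCategory.Q.obj
      (((Scheme.Modules.pushforward W.ι).mapHomologicalComplex (ComplexShape.up ℤ)).obj
        (((Scheme.Modules.restrictFunctor W.ι).mapHomologicalComplex (ComplexShape.up ℤ)).obj I)) :=
    DerivedCategory.Q.map (gI W.ι I)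
  refine ⟨DerivedCategory.Q.obj
    (((Scheme.Modules.restrictFunctor W.ι).mapHomologicalComplex (ComplexShape.up ℤ)).obj I),
    eG.hom ≫ g0 ≫ e2.inv, ?_⟩
  refine Groth.Agent.Helper4.RDerTri.exists_of_isos _ hT _ _
    ((CxOX.RgammaZ W.ι).mapIso eG ≪≫ e1.symm) eG e2 ?_ ?_
  · change (CxOX.RgammaZToId W.ι).app G ≫ eG.hom =
      ((CxOX.RgammaZ W.ι).map eG.hom ≫ e1.inv) ≫ DerivedCategory.Q.map (fI W.ι I)
    rw [← he1, Category.assoc, Iso.inv_hom_id_assoc]
    exact ((CxOX.RgammaZToId W.ι).naturality eG.hom).symm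
  · change (eG.hom ≫ g0 ≫ e2.inv) ≫ e2.hom = eG.hom ≫ g0
    rw [Category.assoc, Category.assoc, Iso.inv_hom_id, Category.comp_id]

open Groth.Agent.Helper4.LocalObj

omit [CxOX.HasRgammaZ W.ι] in
theorem IsLocal.of_iso {M M' : DCoh.D X} (e : M ≅ M') (hM : IsLocal W M) : IsLocal W M' := by
  intro S hS f
  have h := hM S hS (f ≫ e.inv)
  rw [← cancel_mono e.inv, h, zero_comp]

section coloc

omit [CxOX.HasRgammaZ W.ι]

variable {A G C : DCoh.D X} (a : A ⟶ G) (g : G ⟶ C) (h : C ⟶ A⟦(1 : ℤ)⟧)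
  (hT : Triangle.mk a g h ∈ distTriang (DCoh.D X)) (hC : IsLocal W C)

include hT hC in
/-- maps from objects vanishing on `W` factor through the colocalization -/
theorem exists_factor {M : DCoh.D X} (hM : IsZero ((DCoh.restrictD W.ι).obj M)) (m : M ⟶ G) :
    ∃ α : M ⟶ A, α ≫ a = m := by
  have h0 : m ≫ g = 0 := hC M hM _
  obtain ⟨α, hα⟩ := Triangle.coyoneda_exact₂ _ hT m h0
  exact ⟨α, hα.symm⟩

include hT hC in
theorem factor_unique {M : DCoh.D X} (hM : IsZero ((DCoh.restrictD W.ι).obj M)) (α β : M ⟶ A)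
    (hαβ : α ≫ a = β ≫ a) : α = β := by
  have hT' := inv_rot_of_distTriang _ hT
  have h0 : (α - β) ≫ (Triangle.mk a g h).invRotate.mor₂ = 0 := by
    change (α - β) ≫ a = 0
    rw [Preadditive.sub_comp, hαβ, sub_self]
  obtain ⟨γ, hγ⟩ := Triangle.coyoneda_exact₂ _ hT' (α - β) h0
  have hγ0 : γ = 0 := (hC.shift (-1)) M hM γ
  rw [hγ0, zero_comp] at hγ
  exact sub_eq_zero.1 hγ

variable {A' C' : DCoh.D X} (a' : A' ⟶ G) (g' : G ⟶ C') (h' : C' ⟶ A'⟦(1 : ℤ)⟧)
  (hT' : Triangle.mk a' g' h' ∈ distTriang (DCoh.D X)) (hC' : IsLocal W C')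

include hT hC hT' hC' in
/-- two colocalizations of the same object are uniquely isomorphic -/
theorem isIso_of_colocal (hA : IsZero ((DCoh.restrictD W.ι).obj A))
    (hA' : IsZero ((DCoh.restrictD W.ι).obj A')) (α : A ⟶ A') (hα : α ≫ a' = a) : IsIso α := by
  obtain ⟨β, hβ⟩ := exists_factor W a g h hT hC hA' a'
  have h1 : α ≫ β = 𝟙 A := by
    apply factor_unique W a g h hT hC hA
    rw [Category.assoc, hβ, hα, Category.id_comp]
  have h2 : β ≫ α = 𝟙 A' := by
    apply factor_unique W a' g' h' hT' hC' hA'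
    rw [Category.assoc, hα, hβ, Category.id_comp]
  exact ⟨⟨β, h1, h2⟩⟩

end coloc

end Groth.Agent.Helper4.RGammaZTri2
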