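import Mathlib
import Groth.Agent.Helper4.RDerComp2
import Groth.Agent.Helper4.HasRD
import Groth.Agent.Helper4.SchAdj
import Groth.Agent.Helper9.KInjAdj
import Groth.Prelude.Def_CxOX

/-! `Rf_* ∘ Rj_* ≅ R(f ∘ j)_*` for an open immersion `j`. -/

set_option autoImplicit false
universe u
open CategoryTheory CategoryTheory.Limits AlgebraicGeometry TopologicalSpace Opposite

namespace Groth.Agent.Helper4.RpushComp

attribute [local instance] HasDerivedCategory.standard

variable {U X Y : Scheme.{u}} (j : U ⟶ X) [IsOpenImmersion j] (f : X ⟶ Y)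

theorem nonempty_iso [DCoh.HasRpush j] [DCoh.HasRpush f] [DCoh.HasRpush (j ≫ f)] :
    Nonempty (DCoh.Rpush j ⋙ DCoh.Rpush f ≅ DCoh.Rpush (j ≫ f)) := by
  haveI := Groth.Agent.Helper4.SchAdj.isGrothendieckAbelian_modules U
  haveI := Groth.Agent.Helper4.SchAdj.isGrothendieckAbelian_modules X
  let βj := (DCoh.pushKh j).totalRightDerivedUnit DerivedCategory.Qh
      (HomotopyCategory.quasiIso U.Modules (ComplexShape.up ℤ))
  let βf := (DCoh.pushKh f).totalRightDerivedUnit DerivedCategory.Qh
      (HomotopyCategory.quasiIso X.Modules (ComplexShape.up ℤ))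
  let βjf := (DCoh.pushKh (j ≫ f)).totalRightDerivedUnit DerivedCategory.Qh
      (HomotopyCategory.quasiIso U.Modules (ComplexShape.up ℤ))
  let α := Functor.whiskerLeft
      ((Scheme.Modules.pushforward j).mapHomotopyCategory (ComplexShape.up ℤ)) βf ≫
      (Functor.associator _ _ _).inv ≫
      Functor.whiskerRight βj (DCoh.Rpush f) ≫ (Functor.associator _ _ _).hom
  have h : (DCoh.Rpush j ⋙ DCoh.Rpush f).IsRightDerivedFunctor α
      (HomotopyCategory.quasiIso U.Modules (ComplexShape.up ℤ)) := by
    refine Groth.Agent.Helper4.RDerComp.comp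
      ((Scheme.Modules.pushforward j).mapHomotopyCategory (ComplexShape.up ℤ))
      (DCoh.Rpush j) βj (DCoh.pushKh f) (DCoh.Rpush f) βf ?_
    intro I
    obtain ⟨K, hK⟩ : ∃ K : CochainComplex U.Modules ℤ,
        (HomotopyCategory.quotient _ _).obj K = I.obj := ⟨I.obj.as, rfl⟩
    haveI : K.IsKInjective := by
      rw [CochainComplex.isKInjective_iff_rightOrthogonal, hK]
      exact I.property
    haveI : CochainComplex.IsKInjective
        (((Scheme.Modules.pushforward j).mapHomologicalComplex (ComplexShape.up ℤ)).obj K) :=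
      Groth.Agent.Helper9.KInjAdj.isKInjective_map (Scheme.Modules.restrictAdjunction j) K
    let J : (Groth.Agent.Helper1.KInjDer.P X.Modules).FullSubcategory :=
      ⟨(HomotopyCategory.quotient _ _).obj
        (((Scheme.Modules.pushforward j).mapHomologicalComplex (ComplexShape.up ℤ)).obj K),
        (CochainComplex.isKInjective_iff_rightOrthogonal _).1 inferInstance⟩
    have h1 := Groth.Agent.Helper4.KDerAdj.isIso_β_app (DCoh.Rpush f) βf J
    have h2 : (Groth.Agent.Helper1.KInjDer.Φ U.Modules).functor.obj I =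
        (HomotopyCategory.quotient _ _).obj K := hK.symm
    rw [h2]
    exact h1
  let τ : DCoh.pushKh (j ≫ f) ≅
      (Scheme.Modules.pushforward j).mapHomotopyCategory (ComplexShape.up ℤ) ⋙ DCoh.pushKh f :=
    Functor.isoWhiskerRight
      (Functor.mapHomotopyCategoryCompIso (Scheme.Modules.pushforwardComp j f)
        (ComplexShape.up ℤ)).symm
      DerivedCategory.Qh ≪≫ Functor.associator _ _ _
  exact ⟨Functor.rightDerivedNatIso _ _ α βjf
    (HomotopyCategory.quasiIso U.Modules (ComplexShape.up ℤ)) τ.symm⟩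

end Groth.Agent.Helper4.RpushComp
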