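import Mathlib
import Groth.Prelude.Def_CxOX
import Groth.Agent.S6508
import Groth.Agent.Helper4.RjSuppGen
import Groth.Agent.Helper4.RpushComp
import Groth.Agent.Helper4.TriSplit2
import Groth.Agent.Helper4.HasRD

/-! Gluing objects of `D(O_U)` and `D(O_V)` over `X = U ∪ V`. -/

set_option autoImplicit false
universe u

open CategoryTheory CategoryTheory.Limits AlgebraicGeometry Opposite Pretriangulated
attribute [local instance] HasDerivedCategory.standard

namespace Groth.Agent.Helper4.GlueLib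

open Groth.Agent.Helper4.SuppLib Groth.Agent.Helper4.RjSupp Groth.Agent.Helper4.RjSuppGen

/-- a morphism invertible after restriction along an open immersion `i` is invertible over every
open contained in the range of `i` -/
theorem isIso_restrictD_map_of_range {Y Z : Scheme.{u}} (i : Z ⟶ Y) [IsOpenImmersion i]
    (O : Y.Opens) (hO : ∀ y : Y, y ∈ O → y ∈ Set.range i) {M M' : DCoh.D Y} (g : M ⟶ M')
    (hg : IsIso ((DCoh.restrictD i).map g)) : IsIso ((DCoh.restrictD O.ι).map g) := by
  obtain ⟨C, a, b, hT⟩ := distinguished_cocone_triangle g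
  have hT' := (DCoh.restrictD i).map_distinguished _ hT
  have hz : IsZero ((DCoh.restrictD i).obj C) := (Triangle.isZero₃_iff_isIso₁ _ hT').2 hg
  have hz' : IsZero ((DCoh.restrictD O.ι).obj C) := by
    rw [isZero_restrictD_iff] at hz ⊢
    intro n u hu
    obtain ⟨z, hz'⟩ := hO _ u.2
    have : O.ι u = i z := hz'.symm
    rw [this] at hu
    exact hz n z hu
  have hT'' := (DCoh.restrictD O.ι).map_distinguished _ hT
  exact (Triangle.isZero₃_iff_isIso₁ _ hT'').1 hz'

/-- `Rf_*` of a morphism invertible over `f⁻¹ U` is invertible over `U` -/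
theorem isIso_restrict_Rpush_map {X Y : Scheme.{u}} (f : Y ⟶ X) [DCoh.HasRpush f] (U : X.Opens)
    {M M' : DCoh.D Y} (g : M ⟶ M') (hg : IsIso ((DCoh.restrictD (f ⁻¹ᵁ U).ι).map g)) :
    IsIso ((DCoh.restrictD U.ι).map ((DCoh.Rpush f).map g)) := by
  haveI : DCoh.HasRpush (f ∣_ U) := Groth.Agent.Helper4.HasRD.hasRpush _
  obtain ⟨e⟩ := Groth.Agent.S6508.result f U
  have h : IsIso ((DCoh.restrictD (f ⁻¹ᵁ U).ι ⋙ DCoh.Rpush (f ∣_ U)).map g) := by
    dsimp only [Functor.comp_map]
    infer_instance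
  exact (NatIso.isIso_map_iff e g).2 h

theorem nonempty_RpushComp_iso {U X Y : Scheme.{u}} (j : U ⟶ X) [IsOpenImmersion j] (f : X ⟶ Y)
    (g : U ⟶ Y) (h : j ≫ f = g) [DCoh.HasRpush j] [DCoh.HasRpush f] [DCoh.HasRpush g] :
    Nonempty (DCoh.Rpush j ⋙ DCoh.Rpush f ≅ DCoh.Rpush g) := by
  subst h
  exact Groth.Agent.Helper4.RpushComp.nonempty_iso j f

end Groth.Agent.Helper4.GlueLib
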