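import Mathlib
import Groth.Prelude.Def_CxOX
import Groth.Prelude.Def_DDual2
import Groth.Agent.Helper4.SuppLib
import Groth.Agent.Helper4.RjSupp
import Groth.Agent.Helper4.RjSuppGen
import Groth.Agent.Helper4.GlueLib
import Groth.Agent.Helper4.RGammaZTri
import Groth.Agent.Helper4.QcohLimits

/-! Lemmas for the equivalence `D_{qc,Z}(X) ≃ {G ∈ D_{qc,Z̄}(X̄) | RΓ_{Z̄∖X} G = 0}`. -/

set_option autoImplicit false
universe u

open CategoryTheory CategoryTheory.Limits AlgebraicGeometry Opposite Pretriangulated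
attribute [local instance] HasDerivedCategory.standard

namespace Groth.Agent.Helper4.RjEquivLib

open Groth.Agent.Helper4.SuppLib

/-- if the counit is invertible, the unit is invertible on the essential image of `R` -/
theorem isIso_unit_of_iso_obj {C D : Type*} [Category C] [Category D] {L : C ⥤ D} {R : D ⥤ C}
    (adj : L ⊣ R) [IsIso adj.counit] (G : C) (N : D) (e : G ≅ R.obj N) :
    IsIso (adj.unit.app G) := by
  rw [NatTrans.isIso_app_iff_of_iso adj.unit e]
  have h := adj.right_triangle_components N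
  haveI : IsIso (R.map (adj.counit.app N)) := inferInstance
  have h2 : adj.unit.app (R.obj N) = inv (R.map (adj.counit.app N)) :=
    IsIso.eq_inv_of_inv_hom_id h
  change IsIso (adj.unit.app (R.obj N))
  rw [h2]
  infer_instance

variable {X Xbar : Scheme.{u}} (j : X ⟶ Xbar) [IsOpenImmersion j] (U : X.Opens) (U' : Xbar.Opens)
  (hU' : (U' : Set Xbar) = (closure (j.base '' ((U : Set X)ᶜ)))ᶜ)

include hU' in
theorem isSuppD_Rpush [DCoh.HasRpush j] (F : DCoh.D X) (hF : CxOX.IsSuppD U.ι F) :
    CxOX.IsSuppD U'.ι ((DCoh.Rpush j).obj F) := by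
  have hz : IsZero ((DCoh.restrictD U'.ι).obj ((DCoh.Rpush j).obj F)) := by
    apply Groth.Agent.Helper4.RjSupp.isZero_restrictD_Rpush
    rw [isZero_restrictD_iff]
    intro i x hx
    have h1 := hF i hx
    have hxU : (j ⁻¹ᵁ U').ι x ∉ (U : Set X) := by
      intro h2
      apply h1
      rw [Scheme.Opens.range_ι]
      exact h2
    have h3 : j ((j ⁻¹ᵁ U').ι x) ∈ (U' : Set Xbar) := x.2
    rw [hU'] at h3
    exact h3 (subset_closure ⟨_, hxU, rfl⟩)
  rw [isZero_restrictD_iff] at hz
  intro i y hy hy'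
  rw [Scheme.Opens.range_ι] at hy'
  exact hz i ⟨y, hy'⟩ hy

include hU' in
theorem isSuppD_restrictD (G : DCoh.D Xbar) (hG : CxOX.IsSuppD U'.ι G) :
    CxOX.IsSuppD U.ι ((DCoh.restrictD j).obj G) := by
  intro i x hx hx'
  rw [support_HD_restrictD] at hx
  rw [Scheme.Opens.range_ι] at hx'
  have h1 := hG i hx
  rw [Scheme.Opens.range_ι] at h1
  apply h1
  show j x ∈ (U' : Set Xbar)
  rw [hU']
  intro h2
  have hcl : IsClosed ((U : Set X)ᶜ) := U.2.isClosed_compl
  have hind : Topology.IsInducing j.base := j.isOpenEmbedding.isInducing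
  have h3 := hind.closure_eq_preimage_closure_image ((U : Set X)ᶜ)
  rw [hcl.closure_eq] at h3
  have h4 : x ∈ (U : Set X)ᶜ := by
    rw [h3]
    exact h2
  exact h4 hx'

theorem isQCohD_restrictD (G : DCoh.D Xbar) (hG : DCoh.IsQCohD G) :
    DCoh.IsQCohD ((DCoh.restrictD j).obj G) := by
  intro i
  haveI : (DCoh.HD G i).IsQuasicoherent := hG i
  haveI h1 : ((Scheme.Modules.restrictFunctor j).obj (DCoh.HD G i)).IsQuasicoherent :=
    Scheme.Modules.isQuasicoherent_restrictFunctor j (DCoh.HD G i)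
  exact Groth.Agent.Helper4.QcohLimits.isQuasicoherent_of_iso (HDRestrictIso j G i).symm

end Groth.Agent.Helper4.RjEquivLib
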