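import Mathlib
import Groth.Prelude.Def_CxOX
import Groth.Agent.Helper4.RGammaZTri2
import Groth.Agent.Helper4.RGammaZLib
import Groth.Agent.Helper4.CoprodTri
import Groth.Agent.Helper4.RjSupp
import Groth.Agent.Helper4.RjEquivLib
import Groth.Agent.Helper4.HasRD
import Groth.Agent.Helper4.LocalObj
import Groth.Agent.Helper1.DCoprod
import Groth.Agent.Helper9.CP5

/-! `RΓ_Z` commutes with coproducts of objects of `D_QCoh` when the open complement of `Z` is
retrocompact (opens version). -/

set_option autoImplicit false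
universe u

open CategoryTheory CategoryTheory.Limits AlgebraicGeometry Opposite Pretriangulated
attribute [local instance] HasDerivedCategory.standard

namespace Groth.Agent.Helper4.RGammaZCoprod

open Groth.Agent.Helper4.LocalObj

variable {X : Scheme.{u}}

theorem isQCohD_of_iso {M M' : DCoh.D X} (e : M ≅ M') (h : DCoh.IsQCohD M) : DCoh.IsQCohD M' :=
  fun n => (SheafOfModules.isQuasicoherent X.ringCatSheaf).prop_of_iso
    ((DerivedCategory.homologyFunctor X.Modules n).mapIso e) (h n)

/-- a functor preserving coproducts sends a coproduct of objects with zero image to an object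
with zero image -/
theorem isZero_map_sigma {C D : Type*} [Category C] [Category D] [HasZeroMorphisms D]
    (R : C ⥤ D) {ι : Type*} (A : ι → C) [HasCoproduct A]
    [PreservesColimit (Discrete.functor A) R] (hz : ∀ i, IsZero (R.obj (A i))) :
    IsZero (R.obj (∐ A)) := by
  have hl : IsColimit (R.mapCocone (colimit.cocone (Discrete.functor A))) :=
    isColimitOfPreserves R (colimit.isColimit _)
  rw [IsZero.iff_id_eq_zero]
  apply hl.hom_ext
  rintro ⟨i⟩
  exact (hz i).eq_of_src _ _

variable (W : X.Opens) [QuasiCompact W.ι] [CxOX.HasRgammaZ W.ι]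

theorem isIso_sigma {ι : Type u} (E : ι → DCoh.D X) (hE : ∀ i, DCoh.IsQCohD (E i))
    [HasCoproduct E] [HasCoproduct (fun i => (CxOX.RgammaZ W.ι).obj (E i))] :
    IsIso (Sigma.desc (fun i => (CxOX.RgammaZ W.ι).map (Sigma.ι E i))) := by
  haveI : DCoh.HasRpush W.ι := Groth.Agent.Helper4.HasRD.hasRpush W.ι
  haveI := Groth.Agent.Helper4.SchAdj.isGrothendieckAbelian_modules X
  haveI := Groth.Agent.Helper4.SchAdj.isGrothendieckAbelian_modules (W : Scheme.{u})
  haveI : HasExactColimitsOfShape (Discrete ι) X.Modules := inferInstance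
  haveI : HasExactColimitsOfShape (Discrete ι) (W : Scheme.{u}).Modules := inferInstance
  haveI : HasColimitsOfShape (Discrete ι) (DCoh.D X) :=
    Groth.Agent.Helper1.DCoprod.hasColimitsOfShape_discrete
  haveI : HasColimitsOfShape (Discrete ι) (DCoh.D (W : Scheme.{u})) :=
    Groth.Agent.Helper1.DCoprod.hasColimitsOfShape_discrete
  choose N g h hT using fun i => Groth.Agent.Helper4.RGammaZTri2.exists_triangle W (E i)
  -- the `N i` have quasi-coherent cohomology
  have hN : ∀ i, DCoh.IsQCohD (N i) := by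
    intro i
    have hT1 := (DCoh.restrictD W.ι).map_distinguished _ (hT i)
    have hz : IsZero ((DCoh.restrictD W.ι).obj ((CxOX.RgammaZ W.ι).obj (E i))) :=
      Groth.Agent.Helper4.RGammaZLib.isZero_restrictD_RgammaZ W (E i)
    have hiso : IsIso ((DCoh.restrictD W.ι).map (g i)) :=
      (Triangle.isZero₁_iff_isIso₂ _ hT1).1 hz
    have e : (DCoh.restrictD W.ι).obj (E i) ≅ N i :=
      @asIso _ _ _ _ _ hiso ≪≫ asIso ((Groth.Agent.Helper4.RjSupp.dAdj W).counit.app (N i))
    exact isQCohD_of_iso e (Groth.Agent.Helper4.RjEquivLib.isQCohD_restrictD W.ι (E i) (hE i))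
  let T : ι → Triangle (DCoh.D X) := fun i =>
    Triangle.mk ((CxOX.RgammaZToId W.ι).app (E i)) (g i) (h i)
  have hT' := Groth.Agent.Helper4.CoprodTri.coproductTriangle_distinguished T hT
  have hC : IsLocal W (∐ fun i => (DCoh.Rpush W.ι).obj (N i)) := by
    have hiso : IsIso (Sigma.desc (fun i => (DCoh.Rpush W.ι).map (Sigma.ι N i))) :=
      Groth.Agent.Helper9.CP5.isIso_sigma_Rpush W.ι N hN
    exact Groth.Agent.Helper4.RGammaZTri2.IsLocal.of_iso W (@asIso _ _ _ _ _ hiso).symm
      (isLocal_Rpush W _)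
  obtain ⟨N', g', h', hT''⟩ := Groth.Agent.Helper4.RGammaZTri2.exists_triangle W (∐ E)
  have hC' : IsLocal W ((DCoh.Rpush W.ι).obj N') := isLocal_Rpush W N'
  haveI : (DCoh.restrictD W.ι).IsLeftAdjoint := (Groth.Agent.Helper4.RjSupp.dAdj W).isLeftAdjoint
  have hA : IsZero ((DCoh.restrictD W.ι).obj (∐ fun i => (CxOX.RgammaZ W.ι).obj (E i))) :=
    isZero_map_sigma _ _ (fun i => Groth.Agent.Helper4.RGammaZLib.isZero_restrictD_RgammaZ W (E i))
  have hA' : IsZero ((DCoh.restrictD W.ι).obj ((CxOX.RgammaZ W.ι).obj (∐ E))) :=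
    Groth.Agent.Helper4.RGammaZLib.isZero_restrictD_RgammaZ W _
  have hα : Sigma.desc (fun i => (CxOX.RgammaZ W.ι).map (Sigma.ι E i)) ≫
      (CxOX.RgammaZToId W.ι).app (∐ E) =
      Limits.Sigma.map (fun i => (CxOX.RgammaZToId W.ι).app (E i)) := by
    apply Sigma.hom_ext
    intro i
    rw [Sigma.ι_desc_assoc, Sigma.ι_map]
    exact (CxOX.RgammaZToId W.ι).naturality (Sigma.ι E i)
  exact Groth.Agent.Helper4.RGammaZTri2.isIso_of_colocal W _ _ _ hT' hC _ _ _ hT'' hC' hA hA' _ hα

end Groth.Agent.Helper4.RGammaZCoprod
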