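import Mathlib
import Groth.Prelude.Def_CxOX
import Groth.Agent.Helper4.GammaZIso
import Groth.Agent.Helper4.RGammaZCoprod

/-! Transfer of `RΓ_Z` along `Γ_Z^j ≅ Γ_Z^{range j}`, and commutation of `RΓ_Z` with coproducts
for a quasi-compact open immersion `j`. -/

set_option autoImplicit false
universe u

open CategoryTheory CategoryTheory.Limits AlgebraicGeometry
attribute [local instance] HasDerivedCategory.standard

namespace Groth.Agent.Helper4.GammaZIso

section general

variable {V W : Type*} [Category V] [Category W] [Preadditive V] [Preadditive W]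
  {ι : Type*} (c : ComplexShape ι)

/-- isomorphic additive functors induce isomorphic functors on homotopy categories -/
noncomputable def mapHtpyIso {F G : V ⥤ W} [F.Additive] [G.Additive] (e : F ≅ G) :
    F.mapHomotopyCategory c ≅ G.mapHomotopyCategory c where
  hom := NatTrans.mapHomotopyCategory e.hom c
  inv := NatTrans.mapHomotopyCategory e.inv c
  hom_inv_id := by
    rw [← NatTrans.mapHomotopyCategory_comp, e.hom_inv_id, NatTrans.mapHomotopyCategory_id]
  inv_hom_id := by
    rw [← NatTrans.mapHomotopyCategory_comp, e.inv_hom_id, NatTrans.mapHomotopyCategory_id]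

end general

section sigma

variable {C D : Type*} [Category C] [Category D]

theorem isIso_sigma_of_natIso {F F' : C ⥤ D} (e : F ≅ F') {ι : Type*} (E : ι → C) [HasCoproduct E]
    [HasCoproduct (fun i => F.obj (E i))] [HasCoproduct (fun i => F'.obj (E i))]
    (h : IsIso (Sigma.desc (fun i => F'.map (Sigma.ι E i)))) :
    IsIso (Sigma.desc (fun i => F.map (Sigma.ι E i))) := by
  let m : (∐ fun i => F.obj (E i)) ≅ ∐ fun i => F'.obj (E i) :=
    { hom := Limits.Sigma.map (fun i => e.hom.app (E i))
      inv := Limits.Sigma.map (fun i => e.inv.app (E i))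
      hom_inv_id := by
        apply Sigma.hom_ext
        intro i
        rw [Sigma.ι_map_assoc, Sigma.ι_map, Iso.hom_inv_id_app_assoc, Category.comp_id]
      inv_hom_id := by
        apply Sigma.hom_ext
        intro i
        rw [Sigma.ι_map_assoc, Sigma.ι_map, Iso.inv_hom_id_app_assoc, Category.comp_id] }
  have h1 : Sigma.desc (fun i => F.map (Sigma.ι E i)) =
      m.hom ≫ Sigma.desc (fun i => F'.map (Sigma.ι E i)) ≫ e.inv.app (∐ E) := by
    apply Sigma.hom_ext
    intro i
    rw [Sigma.ι_desc]
    change _ = _ ≫ Limits.Sigma.map (fun i => e.hom.app (E i)) ≫ _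
    rw [Sigma.ι_map_assoc, Sigma.ι_desc_assoc, e.inv.naturality, Iso.hom_inv_id_app_assoc]
  rw [h1]
  haveI := h
  haveI : IsIso m.hom := ⟨⟨m.inv, m.hom_inv_id, m.inv_hom_id⟩⟩
  haveI : IsIso (e.inv.app (∐ E)) := inferInstance
  haveI : IsIso (Sigma.desc (fun i => F'.map (Sigma.ι E i)) ≫ e.inv.app (∐ E)) :=
    IsIso.comp_isIso
  exact IsIso.comp_isIso

theorem hasCoproduct_of_natIso {F F' : C ⥤ D} (e : F ≅ F') {ι : Type*} (E : ι → C)
    [HasCoproduct (fun i => F.obj (E i))] : HasCoproduct (fun i => F'.obj (E i)) :=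
  hasColimit_of_iso (F := Discrete.functor (fun i => F.obj (E i)))
    (G := Discrete.functor (fun i => F'.obj (E i)))
    (Discrete.natIso (fun ⟨i⟩ => (e.app (E i)).symm))

end sigma

variable {U X : Scheme.{u}} (j : U ⟶ X) [IsOpenImmersion j]

/-- the comparison on `K(O_X) ⥤ D(O_X)` -/
noncomputable def khIso : CxOX.gammaZKh j ≅ CxOX.gammaZKh j.opensRange.ι :=
  Functor.isoWhiskerRight (mapHtpyIso (ComplexShape.up ℤ) (gammaZIso j)) DerivedCategory.Qh

theorem hasRgammaZ_range [CxOX.HasRgammaZ j] : CxOX.HasRgammaZ j.opensRange.ι :=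
  (Functor.hasRightDerivedFunctor_iff_of_iso (khIso j)
    (HomotopyCategory.quasiIso X.Modules (ComplexShape.up ℤ))).1 inferInstance

/-- `RΓ_Z` for `j` and for the inclusion of its range -/
noncomputable def RgammaZIso [CxOX.HasRgammaZ j] [CxOX.HasRgammaZ j.opensRange.ι] :
    CxOX.RgammaZ j ≅ CxOX.RgammaZ j.opensRange.ι :=
  Functor.rightDerivedNatIso _ _
    ((CxOX.gammaZKh j).totalRightDerivedUnit DerivedCategory.Qh
      (HomotopyCategory.quasiIso X.Modules (ComplexShape.up ℤ)))
    ((CxOX.gammaZKh j.opensRange.ι).totalRightDerivedUnit DerivedCategory.Qh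
      (HomotopyCategory.quasiIso X.Modules (ComplexShape.up ℤ)))
    (HomotopyCategory.quasiIso X.Modules (ComplexShape.up ℤ)) (khIso j)

theorem quasiCompact_range_ι [QuasiCompact j] : QuasiCompact j.opensRange.ι := by
  have h : j.opensRange.ι = j.isoOpensRange.inv ≫ j :=
    ((Iso.inv_comp_eq _).2 (Scheme.Hom.isoOpensRange_hom_ι j).symm).symm
  rw [h]
  infer_instance

/-- `RΓ_Z` commutes with coproducts of objects with quasi-coherent cohomology -/
theorem isIso_sigma_RgammaZ [QuasiCompact j] [CxOX.HasRgammaZ j] {ι : Type u}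
    (E : ι → DCoh.D X) (hE : ∀ i, DCoh.IsQCohD (E i)) [HasCoproduct E]
    [HasCoproduct (fun i => (CxOX.RgammaZ j).obj (E i))] :
    IsIso (Sigma.desc (fun i => (CxOX.RgammaZ j).map (Sigma.ι E i))) := by
  haveI := hasRgammaZ_range j
  haveI := quasiCompact_range_ι j
  haveI := hasCoproduct_of_natIso (RgammaZIso j) E
  exact isIso_sigma_of_natIso (RgammaZIso j) E
    (Groth.Agent.Helper4.RGammaZCoprod.isIso_sigma j.opensRange E hE)

end Groth.Agent.Helper4.GammaZIso
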