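import Mathlib

/-! Helper lemmas for S3129 (Gauss–Jacobi product formula): elementary character-sum manipulations. -/

open BigOperators

namespace Groth.Agent.Helper4.GaussJacobi

variable {F : Type} [Field F] [Fintype F] [DecidableEq F] {R : Type} [CommRing R] [IsDomain R]

lemma sum_units_of_zero (g : F → R) (hg : g 0 = 0) : ∑ t : F, g t = ∑ t : Fˣ, g (t : F) := by
  symm
  refine Fintype.sum_of_injective (fun t : Fˣ => (t : F)) Units.val_injective _ _ ?_ (fun _ => rfl)
  intro y hy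
  have : y = 0 := by
    by_contra h
    exact hy ⟨Units.mk0 y h, rfl⟩
  rw [this, hg]

lemma sum_eq_add_units (g : F → R) : ∑ t : F, g t = g 0 + ∑ t : Fˣ, g (t : F) := by
  have h1 := sum_units_of_zero (fun t => if t = 0 then 0 else g t) (by simp)
  have h2 : ∑ t : F, g t = ∑ t : F, ((if t = 0 then g 0 else 0) + (if t = 0 then 0 else g t)) := by
    refine Finset.sum_congr rfl (fun t _ => ?_)
    by_cases h : t = 0 <;> simp [h]
  rw [h2, Finset.sum_add_distrib, h1]
  congr 1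
  · simp
  · refine Finset.sum_congr rfl (fun t _ => ?_)
    simp [t.ne_zero]

lemma prod_apply {ι : Type} (s : Finset ι) (f : ι → MulChar F R) (a : Fˣ) :
    (∏ i ∈ s, f i) (a : F) = ∏ i ∈ s, f i (a : F) := by
  classical
  induction s using Finset.induction_on with
  | empty => simp [MulChar.one_apply_coe]
  | insert i s hi ih => rw [Finset.prod_insert hi, Finset.prod_insert hi, MulChar.mul_apply, ih]

lemma addChar_sum {ι : Type} (Ψ : AddChar F R) (s : Finset ι) (f : ι → F) :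
    Ψ (∑ i ∈ s, f i) = ∏ i ∈ s, Ψ (f i) := by
  classical
  induction s using Finset.induction_on with
  | empty => simp
  | insert i s hi ih => rw [Finset.sum_insert hi, Finset.prod_insert hi, AddChar.map_add_eq_mul, ih]

lemma sum_units_addChar (Ψ : AddChar F R) (hΨ : Ψ ≠ 1) (b : F) :
    ∑ t : Fˣ, Ψ ((t : F) * b) = (if b = 0 then (Fintype.card F : R) else 0) - 1 := by
  have h := AddChar.sum_mulShift b (AddChar.IsPrimitive.of_ne_one hΨ)
  rw [sum_eq_add_units (fun t => Ψ (t * b))] at h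
  simp only [zero_mul, AddChar.map_zero_eq_one] at h
  by_cases hb : b = 0
  · simp only [hb, if_true] at h ⊢
    rw [← h]; ring
  · simp only [hb, if_false, Nat.cast_zero] at h ⊢
    rw [← h]; ring

end Groth.Agent.Helper4.GaussJacobi

namespace Groth.Agent.Helper4.GaussJacobi
variable {F : Type} [Field F] [Fintype F] [DecidableEq F] {R : Type} [CommRing R] [IsDomain R]

lemma exists_succ_ne_one (N : ℕ) (c : Fin (N + 1) → MulChar F R) (hprod : ∏ i, c i = 1)
    (hnt : ∃ i, c i ≠ 1) : ∃ i : Fin N, c i.succ ≠ 1 := by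
  by_contra h
  push Not at h
  obtain ⟨j, hj⟩ := hnt
  rw [Fin.prod_univ_succ] at hprod
  simp only [h, Finset.prod_const_one, mul_one] at hprod
  refine Fin.cases ?_ (fun i => ?_) j (motive := fun j => c j ≠ 1 → False) hj
  · intro h0; exact h0 hprod
  · intro hi; exact hi (h i)

lemma sum_P_eq_zero (N : ℕ) (c : Fin (N + 1) → MulChar F R) (hprod : ∏ i, c i = 1)
    (hnt : ∃ i, c i ≠ 1) :
    ∑ x : Fin N → Fˣ, ∏ i : Fin N, c i.succ ((x i : Fˣ) : F) = 0 := by
  obtain ⟨i, hi⟩ := exists_succ_ne_one N c hprod hnt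
  rw [← Fintype.prod_sum (fun (i : Fin N) (y : Fˣ) => c i.succ (y : F))]
  refine Finset.prod_eq_zero (Finset.mem_univ i) ?_
  rw [← sum_units_of_zero (fun y => c i.succ y) (MulChar.map_zero _)]
  exact MulChar.sum_eq_zero_of_ne_one hi

theorem main (N : ℕ) (c : Fin (N + 1) → MulChar F R) (hprod : ∏ i, c i = 1) (hnt : ∃ i, c i ≠ 1)
    (Ψ : AddChar F R) (hΨ : Ψ ≠ 1) :
    ∏ i : Fin (N + 1), (∑ y : F, Ψ y * c i y) =
      (Fintype.card F : R) *
        ∑ x ∈ (Finset.univ : Finset (Fin N → Fˣ)).filter (fun x => ∑ i, ((x i : Fˣ) : F) = -1),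
          ∏ i : Fin N, c i.succ ((x i : Fˣ) : F) := by
  have h1 : ∀ i, ∑ y : F, Ψ y * c i y = ∑ y : Fˣ, Ψ (y : F) * c i (y : F) := fun i =>
    sum_units_of_zero _ (by simp [MulChar.map_zero])
  simp_rw [h1]
  calc ∏ i, ∑ y : Fˣ, Ψ (y : F) * c i (y : F)
      = ∑ y : Fin (N + 1) → Fˣ, ∏ i, (Ψ ((y i : Fˣ) : F) * c i ((y i : Fˣ) : F)) :=
        Fintype.prod_sum (fun (i : Fin (N+1)) (y : Fˣ) => Ψ (y : F) * c i (y : F))
    _ = ∑ p : Fˣ × (Fin N → Fˣ), ∏ i, (Ψ (((Fin.cons p.1 p.2 : Fin (N + 1) → Fˣ) i : Fˣ) : F) *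
          c i (((Fin.cons p.1 p.2 : Fin (N + 1) → Fˣ) i : Fˣ) : F)) :=
        (Fintype.sum_equiv (Fin.consEquiv (fun _ => Fˣ)) _ _ (fun _ => rfl)).symm
    _ = ∑ t : Fˣ, ∑ x : Fin N → Fˣ, ∏ i, (Ψ (((Fin.cons t x : Fin (N + 1) → Fˣ) i : Fˣ) : F) *
          c i (((Fin.cons t x : Fin (N + 1) → Fˣ) i : Fˣ) : F)) := Fintype.sum_prod_type _
    _ = ∑ t : Fˣ, ∑ x : Fin N → Fˣ, Ψ ((t : F) * (1 + ∑ i, ((x i : Fˣ) : F))) *
          ∏ i : Fin N, c i.succ ((x i : Fˣ) : F) := by
        refine Finset.sum_congr rfl (fun t _ => ?_)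
        rw [← Equiv.sum_comp (Equiv.mulLeft (fun _ : Fin N => t))]
        refine Finset.sum_congr rfl (fun x _ => ?_)
        rw [Finset.prod_mul_distrib, ← addChar_sum, Fin.sum_univ_succ, Fin.prod_univ_succ]
        simp only [Fin.cons_zero, Fin.cons_succ, Equiv.coe_mulLeft, Pi.mul_apply, Units.val_mul,
          map_mul]
        rw [Finset.prod_mul_distrib, ← mul_assoc (c 0 (t : F))]
        have : c 0 (t : F) * ∏ i : Fin N, c i.succ (t : F) = 1 := by
          rw [← Fin.prod_univ_succ (fun i => c i (t : F)), ← prod_apply, hprod, MulChar.one_apply_coe]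
        rw [this, one_mul, ← Finset.mul_sum, mul_add, mul_one]
    _ = ∑ x : Fin N → Fˣ, (∏ i : Fin N, c i.succ ((x i : Fˣ) : F)) *
          ∑ t : Fˣ, Ψ ((t : F) * (1 + ∑ i, ((x i : Fˣ) : F))) := by
        rw [Finset.sum_comm]
        refine Finset.sum_congr rfl (fun x _ => ?_)
        rw [Finset.mul_sum]
        exact Finset.sum_congr rfl (fun t _ => mul_comm _ _)
    _ = ∑ x : Fin N → Fˣ, (∏ i : Fin N, c i.succ ((x i : Fˣ) : F)) *
          ((if 1 + ∑ i, ((x i : Fˣ) : F) = 0 then (Fintype.card F : R) else 0) - 1) := by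
        simp_rw [sum_units_addChar Ψ hΨ]
    _ = (Fintype.card F : R) *
        ∑ x ∈ (Finset.univ : Finset (Fin N → Fˣ)).filter (fun x => ∑ i, ((x i : Fˣ) : F) = -1),
          ∏ i : Fin N, c i.succ ((x i : Fˣ) : F) := by
        simp_rw [mul_sub, mul_one, Finset.sum_sub_distrib]
        rw [sum_P_eq_zero N c hprod hnt, sub_zero, Finset.mul_sum, Finset.sum_filter]
        refine Finset.sum_congr rfl (fun x _ => ?_)
        have : (1 + ∑ i, ((x i : Fˣ) : F) = 0) ↔ (∑ i, ((x i : Fˣ) : F) = -1) := by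
          constructor
          · intro h; linear_combination h
          · intro h; linear_combination h
        by_cases h : ∑ i, ((x i : Fˣ) : F) = -1
        · rw [if_pos h, if_pos (this.2 h), mul_comm]
        · rw [if_neg h, if_neg (fun h' => h (this.1 h')), mul_zero]

end Groth.Agent.Helper4.GaussJacobi
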