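import Mathlib
import Groth.Prelude.Def_PBC
import Groth.Agent.Helper4.SuppA
import Groth.Agent.Helper4.MuConstC

set_option autoImplicit false

/-!
# Sheaves squeezed between constant sheaves on an irreducible scheme
-/

universe u

open CategoryTheory CategoryTheory.Limits AlgebraicGeometry Opposite Topology

namespace Groth.Agent.Helper4.GenStalk

open Groth.Agent.Helper4.ConstLoc Groth.Agent.Helper4.EtGeom Groth.Agent.Helper4.SuppA
open Groth.Agent.Helper9.EtStalkExact

variable {X : Scheme.{u}} {Ω : Type u} [Field Ω] [IsSepClosed Ω]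

attribute [local instance] preservesFilteredColimits_forget_ab ab5_ab

/-- a nonempty étale scheme over an irreducible scheme has a lift of any geometric generic point -/
theorem exists_fiber_of_generic [IrreducibleSpace ↥X] (ξ : Spec (CommRingCat.of Ω) ⟶ X)
    (hξ : ξ default = genericPoint ↥X) (W : X.Etale) (w₀ : W.left) :
    Nonempty ((Scheme.pointSmallEtale ξ).fiber.obj W) := by
  have hopen : IsOpen (Set.range W.hom) := W.hom.isOpenMap.isOpen_range
  have hgen : genericPoint ↥X ∈ Set.range W.hom := by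
    rw [(genericPoint_spec ↥X).mem_open_set_iff hopen]
    exact ⟨W.hom w₀, Set.mem_univ _, ⟨w₀, rfl⟩⟩
  obtain ⟨w, hw⟩ := hgen
  obtain ⟨l, hl, -⟩ := Scheme.exists_fac_of_etale_of_isSepClosed W.hom ξ w (hw.trans hξ.symm)
  exact ⟨Over.homMk l hl⟩

set_option backward.isDefEq.respectTransparency.types false in
theorem isIso_of_stalk_generic [IrreducibleSpace ↥X] (ξ : Spec (CommRingCat.of Ω) ⟶ X)
    (hξ : ξ default = genericPoint ↥X) {N' N : AddCommGrpCat.{u + 1}} (i : N' ⟶ N)
    (G : EtCoh.Ab X) (a : cS X N' ⟶ G) (b : G ⟶ cS X N) [Mono a] [Mono b]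
    (hab : a ≫ b = (constantSheaf X.smallEtaleTopology AddCommGrpCat.{u + 1}).map i)
    (hst : Function.Surjective ((EtCoh.stalk ξ).map a)) : IsIso a := by
  have hab' : ∀ (W : X.Etale) (s : (cS X N').obj.obj (op W)),
      b.hom.app (op W) (a.hom.app (op W) s) =
        ((constantSheaf X.smallEtaleTopology AddCommGrpCat.{u + 1}).map i).hom.app (op W) s := by
    intro W s
    rw [← hab]
    rfl
  have hls : Presheaf.IsLocallySurjective X.smallEtaleTopology a.hom := by
    refine ⟨fun {U} t => ?_⟩
    rw [mem_iff]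
    intro x
    obtain ⟨W, g, x', α, hx', hα⟩ := exists_const N U (b.hom.app (op U) t) x
    obtain ⟨l⟩ := exists_fiber_of_generic ξ hξ W x'
    obtain ⟨Y, f, ⟨σ, hσ⟩, y, -⟩ := exists_of_surjective (Scheme.pointSmallEtale ξ) a.hom hst
      (G.obj.map g.op t) l
    have y₀ : Y.left := (show Spec (CommRingCat.of Ω) ⟶ Y.left from y.left) default
    obtain ⟨Y', f', y'', α', -, hα'⟩ := exists_const N' Y σ y₀
    -- compare constants
    have h1 : (η X N).app (op Y') (i α') = (η X N).app (op Y') α := by
      rw [← const_map_η i Y' α', ← hα', ← hab', hom_map a f' σ, hσ, hom_map b f', hom_map b f,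
        hom_map b g, hα, η_map, η_map]
    have h2 : i α' = α := const_injective N Y' y'' _ _ h1
    refine ⟨W, g, x', ⟨(η X N').app (op W) α', ?_⟩, hx'⟩
    apply Groth.Agent.Helper4.MuConstC.mono_sec_injective b W
    rw [hab', const_map_η, h2, hom_map b g, hα]
  haveI : Epi a := Sheaf.epi_of_isLocallySurjective a
  exact isIso_of_mono_of_epi a

end Groth.Agent.Helper4.GenStalk
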