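import Mathlib
import Groth.Prelude.Def_EtMod2
import Groth.Agent.Helper4.SiteConstB
import Groth.Agent.Helper4.GenStalk

set_option autoImplicit false

/-!
# Sheaves of modules squeezed between constant sheaves on an irreducible scheme
-/

universe u

open CategoryTheory CategoryTheory.Limits AlgebraicGeometry Opposite Topology

namespace Groth.Agent.Helper4.GenStalkMod

open Groth.Agent.Helper4.SiteConst Groth.Agent.Helper4.EtGeom
open Groth.Agent.Helper9.EtStalkExact

variable {X : Scheme.{u}}

section generic

variable {A : Type*} [Category A] {FA : A → A → Type*} {CA : A → Type (u + 1)}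
  [∀ X Y, FunLike (FA X Y) (CA X) (CA Y)] [ConcreteCategory.{u + 1} A FA]
  [HasWeakSheafify X.smallEtaleTopology A] [X.smallEtaleTopology.WEqualsLocallyBijective A]
  [X.smallEtaleTopology.HasSheafCompose (forget A)]

/-- sections of a constant sheaf are locally constant, pointwise form -/
lemma exists_const_pt (N : A) (W : X.Etale)
    (t : ToType ((cS X.smallEtaleTopology N).obj.obj (op W))) (x : W.left) :
    ∃ (W' : X.Etale) (g : W' ⟶ W) (x' : W'.left) (n : ToType N), g.left x' = x ∧
      (cS X.smallEtaleTopology N).obj.map g.op t = (η X.smallEtaleTopology N).app (op W') n := by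
  obtain ⟨S, hS, hS'⟩ := exists_const X.smallEtaleTopology N W t
  obtain ⟨W', g, x', hg, hx⟩ := (mem_iff W S).1 hS x
  obtain ⟨n, hn⟩ := hS' g hg
  exact ⟨W', g, x', n, hx, hn⟩

lemma bot_not_mem (W : X.Etale) (x : W.left) : ⊥ ∉ X.smallEtaleTopology W := by
  intro h
  obtain ⟨W', g, x', hg, -⟩ := (mem_iff W ⊥).1 h x
  exact hg

/-- constants are determined by their sections over a nonempty scheme -/
lemma const_injective_pt (N : A) (W : X.Etale) (x : W.left) (n n' : ToType N)
    (h : (η X.smallEtaleTopology N).app (op W) n = (η X.smallEtaleTopology N).app (op W) n') :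
    n = n' :=
  const_injective X.smallEtaleTopology N W (bot_not_mem W x) n n' h

end generic

variable (Λ : Type (u + 1)) [CommRing Λ]

theorem preservesFilteredColimits_forget_mod :
    PreservesFilteredColimitsOfSize.{u, u} (forget (ModuleCat.{u + 1} Λ)) :=
  preservesFilteredColimitsOfSize_shrink.{u, u + 1, u, u + 1} _

/-- sections over `W` -/
noncomputable abbrev Gs (W : X.Etale) : EtModW.Mod Λ X ⥤ ModuleCat.{u + 1} Λ :=
  sheafToPresheaf X.smallEtaleTopology (ModuleCat.{u + 1} Λ) ⋙ (evaluation _ _).obj (op W)

lemma mono_sec_injective {A B : EtModW.Mod Λ X} (φ : A ⟶ B) [Mono φ] (W : X.Etale) :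
    Function.Injective (φ.hom.app (op W)) := by
  have : Mono ((Gs Λ W).map φ) := inferInstance
  exact (ModuleCat.mono_iff_injective _).1 this

variable {Ω : Type u} [Field Ω] [IsSepClosed Ω]

attribute [local instance] preservesFilteredColimits_forget_mod

set_option backward.isDefEq.respectTransparency.types false in
theorem isIso_of_stalk_generic [IrreducibleSpace ↥X] (ξ : Spec (CommRingCat.of Ω) ⟶ X)
    (hξ : ξ default = genericPoint ↥X) {N' N : ModuleCat.{u + 1} Λ} (i : N' ⟶ N)
    (G : EtModW.Mod Λ X) (a : cS X.smallEtaleTopology N' ⟶ G) (b : G ⟶ cS X.smallEtaleTopology N)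
    [Mono a] [Mono b]
    (hab : a ≫ b = (constantSheaf X.smallEtaleTopology (ModuleCat.{u + 1} Λ)).map i)
    (hst : Function.Surjective ((EtModW.stalk Λ ξ).map a)) : IsIso a := by
  have hab' : ∀ (W : X.Etale) (s : (cS X.smallEtaleTopology N').obj.obj (op W)),
      b.hom.app (op W) (a.hom.app (op W) s) =
        ((constantSheaf X.smallEtaleTopology (ModuleCat.{u + 1} Λ)).map i).hom.app (op W) s := by
    intro W s
    rw [← hab]
    rfl
  have hls : Presheaf.IsLocallySurjective X.smallEtaleTopology a.hom := by
    refine ⟨fun {U} t => ?_⟩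
    rw [mem_iff]
    intro x
    obtain ⟨W, g, x', α, hx', hα⟩ := exists_const_pt N U (b.hom.app (op U) t) x
    obtain ⟨l⟩ := Groth.Agent.Helper4.GenStalk.exists_fiber_of_generic ξ hξ W x'
    obtain ⟨Y, f, ⟨σ, hσ⟩, y, -⟩ := exists_of_surjective (Scheme.pointSmallEtale ξ) a.hom hst
      (G.obj.map g.op t) l
    have y₀ : Y.left := (show Spec (CommRingCat.of Ω) ⟶ Y.left from y.left) default
    obtain ⟨Y', f', y'', α', -, hα'⟩ := exists_const_pt N' Y σ y₀
    -- compare constants
    have h1 : (η X.smallEtaleTopology N).app (op Y') (i α') =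
        (η X.smallEtaleTopology N).app (op Y') α := by
      rw [← const_map_η X.smallEtaleTopology i Y' α', ← hα', ← hab',
        hom_map X.smallEtaleTopology a f' σ, hσ, hom_map X.smallEtaleTopology b f',
        hom_map X.smallEtaleTopology b f, hom_map X.smallEtaleTopology b g, hα, η_map, η_map]
    have h2 : i α' = α := const_injective_pt N Y' y'' _ _ h1
    refine ⟨W, g, x', ⟨(η X.smallEtaleTopology N').app (op W) α', ?_⟩, hx'⟩
    apply mono_sec_injective Λ b W
    rw [hab', const_map_η, h2, hom_map X.smallEtaleTopology b g, hα]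
  haveI : Epi a := Sheaf.epi_of_isLocallySurjective a
  exact isIso_of_mono_of_epi a

end Groth.Agent.Helper4.GenStalkMod
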