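import Mathlib

set_option autoImplicit false

/-!
# Tensoring with a geometrically irreducible algebra: minimal primes
-/

namespace Groth.Agent.Helper4.GeomIrr

open TensorProduct

universe u

variable {k R S : Type u} [Field k] [CommRing R] [CommRing S] [Algebra k R] [Algebra k S]

/-- over every prime `p` of `R` there is a least prime of `R ⊗ S` -/
theorem exists_least_over
    (hS : ∀ (k' : Type u) [Field k'] [Algebra k k'], IrreducibleSpace (PrimeSpectrum (k' ⊗[k] S)))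
    (p : Ideal R) [p.IsPrime] :
    ∃ Q₀ : Ideal (R ⊗[k] S), Q₀.IsPrime ∧ Q₀.comap (algebraMap R (R ⊗[k] S)) = p ∧
      ∀ Q : Ideal (R ⊗[k] S), Q.IsPrime → Q.comap (algebraMap R (R ⊗[k] S)) = p → Q₀ ≤ Q := by
  have hirr := hS p.ResidueField
  rw [PrimeSpectrum.irreducibleSpace_iff_isPrime_nilradical] at hirr
  let e : p.Fiber (R ⊗[k] S) ≃ₐ[R] p.ResidueField ⊗[k] S :=
    Algebra.TensorProduct.cancelBaseChange k R R p.ResidueField S
  let n' : Ideal (p.Fiber (R ⊗[k] S)) := (nilradical (p.ResidueField ⊗[k] S)).comap e.toRingEquiv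
  have hn' : n'.IsPrime := Ideal.comap_isPrime _ _
  have hle : ∀ q : PrimeSpectrum (p.Fiber (R ⊗[k] S)), (⟨n', hn'⟩ : PrimeSpectrum _) ≤ q := by
    intro q
    change n' ≤ q.asIdeal
    intro x hx
    have h1 : (e.toRingEquiv x) ∈ nilradical (p.ResidueField ⊗[k] S) := hx
    have h2 : IsNilpotent x := by
      have : IsNilpotent (e.toRingEquiv x) := h1
      exact (IsNilpotent.map_iff e.toRingEquiv.injective).mp this
    exact (nilradical_le_prime q.asIdeal) h2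
  let o := PrimeSpectrum.primesOverOrderIsoFiber R (R ⊗[k] S) p
  let Q₀ := o.symm ⟨n', hn'⟩
  refine ⟨Q₀.1, Q₀.2.1, ?_, ?_⟩
  · have := Q₀.2.2
    exact (this.over).symm
  · intro Q hQ hQp
    have hQmem : Q ∈ p.primesOver (R ⊗[k] S) := ⟨hQ, ⟨hQp.symm⟩⟩
    have h1 : (⟨n', hn'⟩ : PrimeSpectrum _) ≤ o ⟨Q, hQmem⟩ := hle _
    have h2 : Q₀ ≤ ⟨Q, hQmem⟩ := by
      rw [← o.le_iff_le]
      simpa [Q₀] using h1
    exact h2

theorem bijOn
    (hS : ∀ (k' : Type u) [Field k'] [Algebra k k'], IrreducibleSpace (PrimeSpectrum (k' ⊗[k] S))) :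
    Set.BijOn (Ideal.comap (algebraMap R (R ⊗[k] S))) (minimalPrimes (R ⊗[k] S))
      (minimalPrimes R) := by
  refine ⟨?_, ?_, ?_⟩
  · -- maps to: going down
    intro Q hQ
    have hQp : Q.IsPrime := hQ.1.1
    refine ⟨⟨Ideal.comap_isPrime _ _, bot_le⟩, ?_⟩
    rintro p ⟨hp, -⟩ hpq
    by_contra hcon
    have hlt : p < Q.comap (algebraMap R (R ⊗[k] S)) := lt_of_le_of_ne hpq (fun h => hcon h.ge)
    haveI : Q.LiesOver (Q.comap (algebraMap R (R ⊗[k] S))) := ⟨rfl⟩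
    haveI := hp
    obtain ⟨P, hPQ, hP, -⟩ := Ideal.exists_ideal_lt_liesOver_of_lt (S := R ⊗[k] S) Q hlt
    exact absurd (hQ.2 ⟨hP, bot_le⟩ hPQ.le) (not_le_of_gt hPQ)
  · -- injective
    intro Q₁ hQ₁ Q₂ hQ₂ h
    have hp₁ : Q₁.IsPrime := hQ₁.1.1
    have hp₂ : Q₂.IsPrime := hQ₂.1.1
    haveI : (Q₁.comap (algebraMap R (R ⊗[k] S))).IsPrime := Ideal.comap_isPrime _ _
    obtain ⟨Q₀, hQ₀, hQ₀p, hmin⟩ := exists_least_over hS (Q₁.comap (algebraMap R (R ⊗[k] S)))
    have h1 : Q₀ ≤ Q₁ := hmin Q₁ hp₁ rfl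
    have h2 : Q₀ ≤ Q₂ := hmin Q₂ hp₂ h.symm
    have e1 : Q₁ = Q₀ := le_antisymm (hQ₁.2 ⟨hQ₀, bot_le⟩ h1) h1
    have e2 : Q₂ = Q₀ := le_antisymm (hQ₂.2 ⟨hQ₀, bot_le⟩ h2) h2
    rw [e1, e2]
  · -- surjective
    intro p hp
    haveI : p.IsPrime := hp.1.1
    obtain ⟨Q₀, hQ₀, hQ₀p, hmin⟩ := exists_least_over hS p
    refine ⟨Q₀, ⟨⟨hQ₀, bot_le⟩, ?_⟩, hQ₀p⟩
    rintro Q' ⟨hQ', -⟩ hle
    have h1 : Q'.comap (algebraMap R (R ⊗[k] S)) ≤ p := by
      rw [← hQ₀p]; exact Ideal.comap_mono hle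
    have h2 : p ≤ Q'.comap (algebraMap R (R ⊗[k] S)) :=
      hp.2 ⟨Ideal.comap_isPrime _ _, bot_le⟩ h1
    exact hmin Q' hQ' (le_antisymm h1 h2)

end Groth.Agent.Helper4.GeomIrr

namespace Groth.Agent.Helper4.GeomIrr

open TensorProduct

universe u

theorem irr_iff_minimalPrimes_singleton (A : Type*) [CommRing A] :
    IrreducibleSpace (PrimeSpectrum A) ↔ ∃ P : Ideal A, minimalPrimes A = {P} := by
  rw [PrimeSpectrum.irreducibleSpace_iff_isPrime_nilradical]
  constructor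
  · intro hN
    refine ⟨nilradical A, ?_⟩
    ext P
    simp only [Set.mem_singleton_iff]
    constructor
    · intro hP
      haveI : P.IsPrime := hP.1.1
      have h1 : nilradical A ≤ P := nilradical_le_prime P
      exact le_antisymm (hP.2 ⟨hN, bot_le⟩ h1) h1
    · rintro rfl
      refine ⟨⟨hN, bot_le⟩, ?_⟩
      rintro Q ⟨hQ, -⟩ _
      haveI := hQ
      exact nilradical_le_prime Q
  · rintro ⟨P, hP⟩
    have h1 : sInf (minimalPrimes A) = nilradical A := by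
      unfold minimalPrimes
      rw [Ideal.sInf_minimalPrimes]
      rfl
    rw [hP, sInf_singleton] at h1
    rw [← h1]
    have : P ∈ minimalPrimes A := by rw [hP]; rfl
    exact this.1.1

theorem irr_of_ringEquiv {A B : Type*} [CommRing A] [CommRing B] (e : A ≃+* B)
    (h : IrreducibleSpace (PrimeSpectrum A)) : IrreducibleSpace (PrimeSpectrum B) := by
  rw [PrimeSpectrum.irreducibleSpace_iff_isPrime_nilradical] at h ⊢
  have : nilradical B = (nilradical A).comap e.symm.toRingHom := by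
    ext x
    simp only [Ideal.mem_comap, mem_nilradical]
    exact (IsNilpotent.map_iff e.symm.injective).symm
  rw [this]
  exact Ideal.comap_isPrime _ _

theorem geomIrr_trans {k K S : Type u} [Field k] [Field K] [Algebra k K] [CommRing S] [Algebra K S]
    [Algebra k S] [IsScalarTower k K S]
    (hK : ∀ (k' : Type u) [Field k'] [Algebra k k'], IrreducibleSpace (PrimeSpectrum (k' ⊗[k] K)))
    (hS : ∀ (K' : Type u) [Field K'] [Algebra K K'], IrreducibleSpace (PrimeSpectrum (K' ⊗[K] S)))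
    (k' : Type u) [Field k'] [Algebra k k'] : IrreducibleSpace (PrimeSpectrum (k' ⊗[k] S)) := by
  have h1 : IrreducibleSpace (PrimeSpectrum (K ⊗[k] k')) :=
    irr_of_ringEquiv (Algebra.TensorProduct.comm k k' K).toRingEquiv (hK k')
  obtain ⟨P, hP⟩ := (irr_iff_minimalPrimes_singleton _).mp h1
  have hb := bijOn (k := K) (R := K ⊗[k] k') (S := S) hS
  have h2 : IrreducibleSpace (PrimeSpectrum ((K ⊗[k] k') ⊗[K] S)) := by
    rw [irr_iff_minimalPrimes_singleton]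
    rw [hP] at hb
    obtain ⟨Q, hQ, hQP⟩ := hb.2.2 (Set.mem_singleton P)
    refine ⟨Q, ?_⟩
    ext Q'
    simp only [Set.mem_singleton_iff]
    constructor
    · intro hQ'
      have := hb.1 hQ'
      rw [Set.mem_singleton_iff] at this
      exact hb.2.1 hQ' hQ (this.trans hQP.symm)
    · rintro rfl; exact hQ
  let e1 : ((K ⊗[k] k') ⊗[K] S) ≃+* (S ⊗[K] (K ⊗[k] k')) :=
    (Algebra.TensorProduct.comm K (K ⊗[k] k') S).toRingEquiv
  let e2 : (S ⊗[K] (K ⊗[k] k')) ≃+* (S ⊗[k] k') :=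
    (Algebra.TensorProduct.cancelBaseChange k K K S k').toRingEquiv
  let e3 : (S ⊗[k] k') ≃+* (k' ⊗[k] S) := (Algebra.TensorProduct.comm k S k').toRingEquiv
  exact irr_of_ringEquiv ((e1.trans e2).trans e3) h2

end Groth.Agent.Helper4.GeomIrr
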