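import Groth.Prelude.Def_Curv2
import Groth.Agent.Helper4.GeomIrrGen
import Mathlib

set_option autoImplicit false
universe u
open CategoryTheory CategoryTheory.Limits AlgebraicGeometry Opposite TensorProduct

namespace Groth.Agent.Helper4.GeomIrrRat

open Groth.Agent.Helper4.GeomIrrSch Groth.Agent.Helper4.GeomIrrGen

variable {k : Type u} [Field k]

/-- An open map onto a preirreducible space whose fibres over a dense set are subsingletons has
preirreducible source. -/
theorem preirreducibleSpace_of_isOpenMap {A B : Type*} [TopologicalSpace A] [TopologicalSpace B]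
    [PreirreducibleSpace B] (p : A → B) (hp : IsOpenMap p) (D : Set B) (hD : Dense D)
    (hfib : ∀ x ∈ D, (p ⁻¹' {x}).Subsingleton) : PreirreducibleSpace A := by
  apply PreirreducibleSpace.of_forall_nonempty_inter
  intro U V hU hV hUne hVne
  obtain ⟨x, hxU, hxV⟩ := nonempty_preirreducible_inter (hp U hU) (hp V hV) (hUne.image p)
    (hVne.image p)
  obtain ⟨y, ⟨hyU, hyV⟩, hyD⟩ := hD.inter_open_nonempty _ ((hp U hU).inter (hp V hV)) ⟨x, hxU, hxV⟩
  obtain ⟨a, haU, ha⟩ := hyU
  obtain ⟨b, hbV, hb⟩ := hyV
  have hab : a = b := hfib y hyD ha hb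
  exact ⟨a, haU, hab ▸ hbV⟩

/-- The fibre of a base change over a rational point is a subsingleton. -/
theorem subsingleton_fibre_of_rational {X : Scheme.{u}} (f : X ⟶ Spec (CommRingCat.of k))
    (K : Type u) [Field K] [Algebra k K] (x : X) (φ : k →+* X.residueField x)
    (hφ : Spec.map (CommRingCat.ofHom φ) = X.fromSpecResidueField x ≫ f)
    (hsurj : Function.Surjective φ) :
    ((pullback.fst f (Spec.map (CommRingCat.ofHom (algebraMap k K)))) ⁻¹' {x}).Subsingleton := by
  set g := Spec.map (CommRingCat.ofHom (algebraMap k K)) with hg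
  letI := φ.toAlgebra
  have hs : Function.Surjective (algebraMap k (X.residueField x)) := hsurj
  have h1 : Function.Surjective
      (Algebra.TensorProduct.includeRight : K →ₐ[k] (X.residueField x) ⊗[k] K) :=
    Algebra.TensorProduct.includeRight_surjective K hs
  haveI : Subsingleton (PrimeSpectrum ((X.residueField x) ⊗[k] K)) :=
    (PrimeSpectrum.comap_injective_of_surjective _ h1).subsingleton
  let e : (pullback.fst f g).fiber x ≅ pullback (X.fromSpecResidueField x ≫ f) g :=
    pullbackSymmetry _ _ ≪≫ pullbackRightPullbackFstIso f g (X.fromSpecResidueField x)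
  have e2 : pullback (X.fromSpecResidueField x ≫ f) g ≅ Spec (.of ((X.residueField x) ⊗[k] K)) := by
    rw [← hφ]
    exact pullbackSpecIso k (X.residueField x) K
  haveI : Subsingleton ↥(Spec (.of ((X.residueField x) ⊗[k] K))) :=
    inferInstanceAs (Subsingleton (PrimeSpectrum ((X.residueField x) ⊗[k] K)))
  haveI : Subsingleton ↥((pullback.fst f g).fiber x) :=
    (e ≪≫ e2).hom.homeomorph.injective.subsingleton
  intro a ha b hb
  have h := Subsingleton.elim (((pullback.fst f g).fiberHomeo x).symm ⟨a, ha⟩)
    (((pullback.fst f g).fiberHomeo x).symm ⟨b, hb⟩)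
  have h2 := ((pullback.fst f g).fiberHomeo x).symm.injective h
  exact congrArg Subtype.val h2

/-- An irreducible `k`-scheme with a dense set of rational points is geometrically irreducible. -/
theorem geometricallyIrreducible_of_dense_rational (X : Scheme.{u})
    [X.Over (Spec (CommRingCat.of k))] [IrreducibleSpace X]
    (hd : Dense {x : X | Function.Surjective (Curv2.resMap k X x)}) :
    GeometricallyIrreducible (X ↘ Spec (CommRingCat.of k)) := by
  rw [Groth.Agent.Helper4.GeomIrrSch.geometricallyIrreducible_iff]
  intro K _ _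
  haveI : Subsingleton ↥(Spec (CommRingCat.of k)) :=
    inferInstanceAs (Subsingleton (PrimeSpectrum k))
  set p := pullback.fst (X ↘ Spec (CommRingCat.of k))
    (Spec.map (CommRingCat.ofHom (algebraMap k K))) with hp
  haveI : PreirreducibleSpace ↥(pullback (X ↘ Spec (CommRingCat.of k))
      (Spec.map (CommRingCat.ofHom (algebraMap k K)))) :=
    preirreducibleSpace_of_isOpenMap p p.isOpenMap _ hd (fun x hx =>
      subsingleton_fibre_of_rational (X ↘ Spec (CommRingCat.of k)) K x (Curv2.resMap k X x)
        (specMap_resMap x) hx)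
  haveI : Nonempty ↥(pullback (X ↘ Spec (CommRingCat.of k))
      (Spec.map (CommRingCat.ofHom (algebraMap k K)))) := by
    obtain ⟨x⟩ := (inferInstance : Nonempty X)
    obtain ⟨z, -⟩ := bc_fst_surjective (X ↘ Spec (CommRingCat.of k)) K x
    exact ⟨z⟩
  exact ⟨inferInstance⟩

end Groth.Agent.Helper4.GeomIrrRat
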