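import Groth.Prelude.Def_Curv2
import Groth.Agent.Helper4.GeomIrrGen
import Groth.Agent.Helper8.GeomIrrB
import Mathlib

set_option autoImplicit false
universe u
open TensorProduct

namespace Groth.Agent.Helper4.GeomIrrSelf

open Groth.Agent.Helper8.GeomIrr

section ring
open Polynomial
variable {k K : Type u} [Field k] [Field K] [Algebra k K]

/-- Variant of `Helper8.GeomIrr.mem_range_of_geomIrr` (same proof) using only the simple
extension generated by the element. -/
theorem mem_range_of_nilPrime_adjoin (α : K) (hα : IsSeparable k α)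
    (h : NilPrime ((IntermediateField.adjoin k {α}) ⊗[k] K)) :
    α ∈ Set.range (algebraMap k K) := by
  classical
  by_contra hnot
  have hint : IsIntegral k α := hα.isIntegral
  let f := minpoly k α
  have hnot' : α ∉ (algebraMap k K).range := fun h' => hnot (by simpa using h')
  have hdeg : 2 ≤ f.natDegree := (minpoly.two_le_natDegree_iff hint).mpr hnot'
  let F := f.map (algebraMap k K)
  have hroot : F.IsRoot α := by
    change eval α (f.map (algebraMap k K)) = 0
    rw [eval_map, ← aeval_def, minpoly.aeval]
  obtain ⟨g, hg⟩ := dvd_iff_isRoot.mpr hroot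
  have hsepF : F.Separable := Separable.map hα
  have hcop : IsCoprime (X - C α) g := (hg ▸ hsepF).isCoprime
  have hF0 : F ≠ 0 := hsepF.ne_zero
  have hg0 : g ≠ 0 := fun h0 => hF0 (by rw [hg, h0, mul_zero])
  have hgdeg : g.natDegree ≠ 0 := by
    have h1 : F.natDegree = f.natDegree := natDegree_map _
    rw [hg, natDegree_mul (X_sub_C_ne_zero α) hg0, natDegree_X_sub_C] at h1
    omega
  have hgdeg' : g.degree ≠ 0 := fun h0 => hgdeg (natDegree_eq_of_degree_eq_some h0)
  have hlift : f.eval₂ (Algebra.ofId k (AdjoinRoot g)) (AdjoinRoot.root g) = 0 := by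
    change eval₂ (algebraMap k (AdjoinRoot g)) (AdjoinRoot.root g) f = 0
    rw [← aeval_def, ← aeval_map_algebraMap K, AdjoinRoot.aeval_eq, AdjoinRoot.mk_eq_zero]
    exact ⟨X - C α, by change F = _; rw [hg, mul_comm]⟩
  let ψ : IntermediateField.adjoin k {α} →ₐ[k] AdjoinRoot g :=
    (AdjoinRoot.liftAlgHom f (Algebra.ofId k (AdjoinRoot g)) (AdjoinRoot.root g) hlift).comp
      (IntermediateField.adjoinRootEquivAdjoin k hint).symm.toAlgHom
  have hψ : ψ (IntermediateField.AdjoinSimple.gen k α) = AdjoinRoot.root g := by
    change (AdjoinRoot.liftAlgHom f (Algebra.ofId k (AdjoinRoot g)) (AdjoinRoot.root g) hlift)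
      ((IntermediateField.adjoinRootEquivAdjoin k hint).symm
        (IntermediateField.AdjoinSimple.gen k α)) = _
    rw [IntermediateField.adjoinRootEquivAdjoin_symm_apply_gen]
    exact AdjoinRoot.liftAlgHom_root f (Algebra.ofId k (AdjoinRoot g)) (AdjoinRoot.root g) hlift
  exact not_nilPrime_aux α f g hg hcop hgdeg' (IntermediateField.adjoin k {α})
    (IntermediateField.AdjoinSimple.gen k α) (IntermediateField.aeval_gen_minpoly k α)
    (IntermediateField.adjoin k {α}).val rfl ψ hψ h

theorem mem_range_of_irreducible_self (h : IrreducibleSpace (PrimeSpectrum (K ⊗[k] K)))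
    (α : K) (hα : IsSeparable k α) : α ∈ Set.range (algebraMap k K) := by
  apply mem_range_of_nilPrime_adjoin α hα
  have h1 : NilPrime (K ⊗[k] K) := (nilPrime_iff_irreducibleSpace _).mpr h
  exact NilPrime.of_injective
    (Algebra.TensorProduct.map (IntermediateField.adjoin k {α}).val (AlgHom.id k K)).toRingHom
    (injective_map_of_field _ K) h1

end ring

open CategoryTheory CategoryTheory.Limits AlgebraicGeometry Opposite
open Groth.Agent.Helper4.GeomIrrSch Groth.Agent.Helper4.GeomIrrGen

/-- The generic fibre of an open projection is dense. -/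
theorem dense_generic_fibre' {X Y S : Scheme.{u}} (f : X ⟶ S) (g : Y ⟶ S) [UniversallyOpen g]
    [IrreducibleSpace X] : Dense ((pullback.fst f g) ⁻¹' {genericPoint X}) := by
  have hopen : IsOpenMap (pullback.fst f g) := (pullback.fst f g).isOpenMap
  rw [dense_iff_inter_open]
  intro V hV hVne
  have h1 : IsOpen ((pullback.fst f g) '' V) := hopen V hV
  have h2 : ((pullback.fst f g) '' V).Nonempty := hVne.image _
  have h3 : genericPoint X ∈ (pullback.fst f g) '' V := by
    rw [(genericPoint_spec X).mem_open_set_iff h1]
    simpa using h2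
  obtain ⟨z, hzV, hz⟩ := h3
  exact ⟨z, hzV, hz⟩

/-- Irreducibility of a fibre product can be tested on the generic fibre of the first factor. -/
theorem irreducibleSpace_pullback_iff_generic {X Y S : Scheme.{u}} (f : X ⟶ S) (g : Y ⟶ S)
    [UniversallyOpen g] [IrreducibleSpace X] :
    IrreducibleSpace ↥(pullback f g) ↔
      IrreducibleSpace ↥(pullback (X.fromSpecResidueField (genericPoint X) ≫ f) g) := by
  rw [irreducibleSpace_iff_of_dense (dense_generic_fibre' f g)]
  rw [← ((pullback.fst f g).fiberHomeo (genericPoint X)).irreducibleSpace_iff]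
  let e : (pullback.fst f g).fiber (genericPoint X) ≅
      pullback (X.fromSpecResidueField (genericPoint X) ≫ f) g :=
    pullbackSymmetry _ _ ≪≫ pullbackRightPullbackFstIso f g (X.fromSpecResidueField (genericPoint X))
  exact e.hom.homeomorph.irreducibleSpace_iff

variable {k : Type u} [Field k]

instance universallyOpen_to_field' {X : Scheme.{u}} (f : X ⟶ Spec (CommRingCat.of k)) :
    UniversallyOpen f := by
  haveI : Subsingleton ↥(Spec (CommRingCat.of k)) :=
    inferInstanceAs (Subsingleton (PrimeSpectrum k))
  infer_instance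

/-- A `k`-scheme is geometrically irreducible iff its self-product is irreducible. -/
theorem geometricallyIrreducible_iff_self (X : Scheme.{u}) [X.Over (Spec (CommRingCat.of k))] :
    GeometricallyIrreducible (X ↘ Spec (CommRingCat.of k)) ↔
      IrreducibleSpace ↥(pullback (X ↘ Spec (CommRingCat.of k)) (X ↘ Spec (CommRingCat.of k))) := by
  haveI : Subsingleton ↥(Spec (CommRingCat.of k)) :=
    inferInstanceAs (Subsingleton (PrimeSpectrum k))
  haveI : Nonempty ↥(Spec (CommRingCat.of k)) := inferInstanceAs (Nonempty (PrimeSpectrum k))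
  set f := X ↘ Spec (CommRingCat.of k) with hf
  constructor
  · intro h
    haveI : IrreducibleSpace X := GeometricallyIrreducible.irreducibleSpace_of_subsingleton f
    infer_instance
  · intro h
    haveI : IrreducibleSpace X :=
      Function.Surjective.irreducibleSpace (pullback.fst f f).continuous (fun x => by
        obtain ⟨z, hz, -⟩ := Scheme.Pullback.exists_preimage_pullback (f := f) (g := f) x x rfl
        exact ⟨z, hz⟩)
    set ι := X.fromSpecResidueField (genericPoint X) with hι
    have h1 : IrreducibleSpace ↥(pullback (ι ≫ f) f) :=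
      (irreducibleSpace_pullback_iff_generic f f).mp h
    have h2 : IrreducibleSpace ↥(pullback f (ι ≫ f)) :=
      (pullbackSymmetry (ι ≫ f) f).hom.homeomorph.irreducibleSpace_iff.mp h1
    have h3 : IrreducibleSpace ↥(pullback (ι ≫ f) (ι ≫ f)) :=
      (irreducibleSpace_pullback_iff_generic f (ι ≫ f)).mp h2
    rw [geometricallyIrreducible_iff_generic X]
    letI := Curv2.resAlgebra k X (genericPoint X)
    rw [hι, hf, ← specMap_resMap] at h3
    have h4 : IrreducibleSpace (PrimeSpectrum
        (X.residueField (genericPoint X) ⊗[k] X.residueField (genericPoint X))) :=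
      (irreducibleSpace_pullback_Spec_iff (k := k) (X.residueField (genericPoint X))
        (X.residueField (genericPoint X))).mp h3
    exact (Groth.Agent.S2150.result (k := k) (K := X.residueField (genericPoint X))).mpr
      (mem_range_of_irreducible_self h4)

end Groth.Agent.Helper4.GeomIrrSelf
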