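import Mathlib

/-!
# Helper4: for a separable algebraic extension `k'/k`, the multiplication `k' ⊗ k' → k'`
is a localization.
-/

set_option autoImplicit false

universe u

namespace Groth.Agent.Helper4.SepDiag

open TensorProduct

variable {k k' : Type u} [Field k] [Field k'] [Algebra k k']

/-- the map `L ⊗ L → k' ⊗ k'` for an intermediate field `L`. -/
noncomputable def ι (L : IntermediateField k k') : L ⊗[k] L →ₐ[k] k' ⊗[k] k' :=
  Algebra.TensorProduct.map L.val L.val

theorem lmul_ι (L : IntermediateField k k') (y : L ⊗[k] L) :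
    Algebra.TensorProduct.lmul' (S := k') k (ι L y) =
      L.val (Algebra.TensorProduct.lmul' (S := L) k y) := by
  induction y using TensorProduct.induction_on with
  | zero => simp
  | tmul a b => simp [ι]
  | add x y hx hy => rw [map_add, map_add, map_add, map_add, hx, hy]

theorem range_ι_mono {L₁ L₂ : IntermediateField k k'} (h : L₁ ≤ L₂) :
    (ι L₁).range ≤ (ι L₂).range := by
  rintro _ ⟨y, rfl⟩
  refine ⟨Algebra.TensorProduct.map (IntermediateField.inclusion h) (IntermediateField.inclusion h) y,
    ?_⟩
  show (ι L₂) _ = (ι L₁) y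
  induction y using TensorProduct.induction_on with
  | zero => simp
  | tmul a b => simp [ι]
  | add x y hx hy => simp only [map_add, hx, hy]

theorem exists_fd_mem_range [Algebra.IsAlgebraic k k'] (x : k' ⊗[k] k') :
    ∃ L : IntermediateField k k', FiniteDimensional k L ∧ x ∈ (ι L).range := by
  induction x using TensorProduct.induction_on with
  | zero => exact ⟨⊥, inferInstance, Subalgebra.zero_mem _⟩
  | tmul a b =>
    refine ⟨IntermediateField.adjoin k {a, b}, ?_, ?_⟩
    · exact IntermediateField.finiteDimensional_adjoin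
        (fun x _ => Algebra.IsIntegral.isIntegral x)
    · refine ⟨(⟨a, IntermediateField.subset_adjoin k _ (by simp)⟩ : IntermediateField.adjoin k {a, b})
        ⊗ₜ[k] (⟨b, IntermediateField.subset_adjoin k _ (by simp)⟩ : IntermediateField.adjoin k {a, b}),
        ?_⟩
      simp [ι]
  | add x y hx hy =>
    obtain ⟨L₁, h₁, hx⟩ := hx
    obtain ⟨L₂, h₂, hy⟩ := hy
    refine ⟨L₁ ⊔ L₂, IntermediateField.finiteDimensional_sup L₁ L₂, ?_⟩
    exact Subalgebra.add_mem _ (range_ι_mono le_sup_left hx) (range_ι_mono le_sup_right hy)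

theorem exists_mul_eq_zero [Algebra.IsSeparable k k'] (x : k' ⊗[k] k')
    (hx : Algebra.TensorProduct.lmul' (S := k') k x = 0) :
    ∃ t : k' ⊗[k] k', Algebra.TensorProduct.lmul' (S := k') k t = 1 ∧ t * x = 0 := by
  obtain ⟨L, hL, hmem⟩ := exists_fd_mem_range x
  obtain ⟨y, hyx⟩ := (AlgHom.mem_range (ι L)).mp hmem
  haveI : Algebra.IsSeparable k L := Algebra.isSeparable_tower_bot_of_isSeparable k L k'
  haveI : Algebra.FormallyUnramified k L := Algebra.FormallyUnramified.of_isSeparable k L
  obtain ⟨t, ht1, ht2⟩ := Algebra.FormallyUnramified.iff_exists_tensorProduct.mp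
    (inferInstance : Algebra.FormallyUnramified k L)
  have hy : Algebra.TensorProduct.lmul' (S := L) k y = 0 := by
    have := lmul_ι L y
    rw [hyx, hx] at this
    exact (map_eq_zero_iff L.val L.val.toRingHom.injective).mp this.symm
  have key : ∀ z ∈ Ideal.span (Set.range fun s : L => (1 : L) ⊗ₜ[k] s - s ⊗ₜ[k] (1 : L)),
      t * z = 0 := by
    intro z hz
    induction hz using Submodule.span_induction with
    | mem z hz =>
      obtain ⟨s, rfl⟩ := hz
      rw [mul_comm]; exact ht1 s
    | zero => simp
    | add a b _ _ ha hb => rw [mul_add, ha, hb, add_zero]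
    | smul c a _ ha => rw [smul_eq_mul, mul_left_comm, ha, mul_zero]
  have hy' : y ∈ KaehlerDifferential.ideal k L := hy
  rw [← KaehlerDifferential.span_range_eq_ideal] at hy'
  have hty : t * y = 0 := key y hy'
  refine ⟨ι L t, ?_, ?_⟩
  · rw [lmul_ι, ht2, map_one]
  · rw [← hyx, ← map_mul, hty, map_zero]

end Groth.Agent.Helper4.SepDiag
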