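import Mathlib
import Groth.Agent.Helper4.GeomRed2
import Groth.Agent.Helper4.SepDiag

/-!
# Geometric reducedness: zero-dimensional reduced test algebras, and the kernel of
`K ⊗[k] A → K ⊗[k'] A` for separable algebraic `k'/k`
-/

set_option autoImplicit false
universe u v w

namespace Groth.Agent.Helper4.GeomRed

open TensorProduct

/-- Lemma C: if `K ⊗ A` is reduced for all fields `K`, then `T ⊗ A` is reduced for every reduced
zero-dimensional `T`. -/
theorem isReduced_tensor_of_krullDimLE_zero {k : Type u} [Field k] (T : Type v) (A : Type w)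
    [CommRing T] [Algebra k T] [IsReduced T] [Ring.KrullDimLE 0 T] [CommRing A] [Algebra k A]
    (hA : ∀ (K : Type v) [Field K] [Algebra k K], IsReduced (K ⊗[k] A)) :
    IsReduced (T ⊗[k] A) := by
  constructor
  intro z hz
  by_contra hz0
  let I : Ideal T := LinearMap.ker (LinearMap.toSpanSingleton T (T ⊗[k] A) z)
  have hI : I ≠ ⊤ := by
    intro h
    have h1 : (1 : T) ∈ I := h ▸ Submodule.mem_top
    have h2 : (1 : T) • z = 0 := by simpa [I] using h1
    rw [one_smul] at h2
    exact hz0 h2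
  obtain ⟨q, hq, hIq⟩ := Ideal.exists_le_maximal I hI
  haveI := hq.isPrime
  haveI : Ring.KrullDimLE 0 (Localization.AtPrime q) :=
    Ring.KrullDimLE.of_isLocalization q (Ideal.mem_minimalPrimes_of_krullDimLE_zero q)
      (Localization.AtPrime q)
  letI : Field (Localization.AtPrime q) := (Ring.KrullDimLE.isField_of_isReduced).toField
  haveI := hA (Localization.AtPrime q)
  letI : Algebra (T ⊗[k] A) (Localization.AtPrime q ⊗[k] A) :=
    (Algebra.TensorProduct.map (IsScalarTower.toAlgHom k T (Localization.AtPrime q))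
      (AlgHom.id k A)).toRingHom.toAlgebra
  haveI : IsScalarTower T (T ⊗[k] A) (Localization.AtPrime q ⊗[k] A) :=
    IsScalarTower.of_algebraMap_eq (fun x => by
      change algebraMap T (Localization.AtPrime q ⊗[k] A) x =
        Algebra.TensorProduct.map (IsScalarTower.toAlgHom k T (Localization.AtPrime q))
          (AlgHom.id k A) (x ⊗ₜ 1)
      rw [Algebra.TensorProduct.map_tmul]
      rfl)
  haveI := IsLocalization.tensorProduct_tensorProduct k A q.primeCompl (Localization.AtPrime q) (by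
    ext c
    change Algebra.TensorProduct.map (IsScalarTower.toAlgHom k T (Localization.AtPrime q))
      (AlgHom.id k A) (1 ⊗ₜ c) = 1 ⊗ₜ c
    simp)
  have h0 : algebraMap (T ⊗[k] A) (Localization.AtPrime q ⊗[k] A) z = 0 :=
    (hz.map _).eq_zero
  obtain ⟨⟨_, t, ht, rfl⟩, hc⟩ := (IsLocalization.map_eq_zero_iff
    (Algebra.algebraMapSubmonoid (T ⊗[k] A) q.primeCompl) _ z).mp h0
  refine ht (hIq ?_)
  change t • z = 0
  rw [Algebra.smul_def]
  exact hc

section Ker

variable {k k' : Type u} [Field k] [Field k'] [Algebra k k']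
  {K : Type v} {A : Type w} [CommRing K] [Algebra k' K] [Algebra k K] [IsScalarTower k k' K]
  [CommRing A] [Algebra k' A] [Algebra k A] [IsScalarTower k k' A]

variable (k k' K A) in
/-- the map `k' ⊗[k] k' → K ⊗[k] A` -/
noncomputable def ψ : k' ⊗[k] k' →ₐ[k] K ⊗[k] A :=
  Algebra.TensorProduct.map (IsScalarTower.toAlgHom k k' K) (IsScalarTower.toAlgHom k k' A)

variable (k k' K A) in
/-- the projection `K ⊗[k] A → K ⊗[k'] A` -/
noncomputable def π : K ⊗[k] A →ₐ[K] K ⊗[k'] A :=
  Algebra.TensorProduct.mapOfCompatibleSMul k' k K K A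

theorem π_surjective : Function.Surjective (π k k' K A) :=
  Algebra.TensorProduct.mapOfCompatibleSMul_surjective k' k K K A

theorem π_ψ (t : k' ⊗[k] k') :
    π k k' K A (ψ k k' K A t) =
      algebraMap k' (K ⊗[k'] A) (Algebra.TensorProduct.lmul' (S := k') k t) := by
  induction t using TensorProduct.induction_on with
  | zero => simp
  | tmul c d =>
    simp only [ψ, π, Algebra.TensorProduct.map_tmul, IsScalarTower.coe_toAlgHom',
      Algebra.TensorProduct.mapOfCompatibleSMul_tmul, Algebra.TensorProduct.lmul'_apply_tmul]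
    rw [Algebra.algebraMap_eq_smul_one d, ← TensorProduct.smul_tmul, Algebra.TensorProduct.algebraMap_apply,
      map_mul, Algebra.smul_def, mul_comm]
  | add x y hx hy => simp only [map_add, hx, hy]

/-- the ideal of relations -/
noncomputable def J : Ideal (K ⊗[k] A) :=
  Ideal.span (Set.range fun c : k' => ψ k k' K A (c ⊗ₜ[k] (1 : k') - (1 : k') ⊗ₜ[k] c))

theorem ker_π_le : RingHom.ker (π k k' K A).toRingHom ≤ J (k := k) (k' := k') (K := K) (A := A) := by
  intro w hw
  let Jd : Ideal (K ⊗[k] A) := J (k := k) (k' := k') (K := K) (A := A)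
  have hrel : ∀ (c : k') (x : K) (a : A), (c • x) ⊗ₜ[k] a - x ⊗ₜ[k] (c • a) ∈ Jd := by
    intro c x a
    have h1 : (c • x) ⊗ₜ[k] a - x ⊗ₜ[k] (c • a) =
        (x ⊗ₜ[k] a) * ψ k k' K A (c ⊗ₜ[k] (1 : k') - (1 : k') ⊗ₜ[k] c) := by
      simp only [ψ, map_sub, Algebra.TensorProduct.map_tmul, IsScalarTower.coe_toAlgHom', map_one,
        mul_sub, Algebra.TensorProduct.tmul_mul_tmul, mul_one]
      rw [Algebra.smul_def, Algebra.smul_def, mul_comm x, mul_comm a]
    rw [h1]
    exact Ideal.mul_mem_left _ _ (Ideal.subset_span ⟨c, rfl⟩)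
  let f : K ⊗[k'] A →ₗ[k'] (K ⊗[k] A) ⧸ Jd :=
    TensorProduct.lift (LinearMap.mk₂ k' (fun x a => Ideal.Quotient.mk Jd (x ⊗ₜ[k] a))
      (fun x y a => by rw [TensorProduct.add_tmul, map_add])
      (fun c x a => by
        rw [← TensorProduct.smul_tmul']
        exact map_smul (Ideal.Quotient.mkₐ k' Jd) c (x ⊗ₜ[k] a))
      (fun x a b => by rw [TensorProduct.tmul_add, map_add])
      (fun c x a => by
        have h2 : Ideal.Quotient.mk Jd (x ⊗ₜ[k] (c • a)) = Ideal.Quotient.mk Jd ((c • x) ⊗ₜ[k] a) := by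
          rw [eq_comm, Ideal.Quotient.eq]
          exact hrel c x a
        rw [h2, ← TensorProduct.smul_tmul']
        exact map_smul (Ideal.Quotient.mkₐ k' Jd) c (x ⊗ₜ[k] a)))
  have hf : ∀ y : K ⊗[k] A, f (π k k' K A y) = Ideal.Quotient.mk Jd y := by
    intro y
    induction y using TensorProduct.induction_on with
    | zero => simp
    | tmul x a => simp [f, π]
    | add x y hx hy => simp only [map_add, hx, hy]
  have h3 : Ideal.Quotient.mk Jd w = 0 := by
    rw [← hf w]
    have : π k k' K A w = 0 := hw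
    rw [this, map_zero]
  exact Ideal.Quotient.eq_zero_iff_mem.mp h3

/-- elements of the kernel of `K ⊗[k] A → K ⊗[k'] A` are killed by some `ψ t` with `μ t = 1` -/
theorem exists_mul_eq_zero_of_π_eq_zero [Algebra.IsSeparable k k'] (w : K ⊗[k] A)
    (hw : π k k' K A w = 0) :
    ∃ t : k' ⊗[k] k', Algebra.TensorProduct.lmul' (S := k') k t = 1 ∧ ψ k k' K A t * w = 0 := by
  have hJ : w ∈ J (k := k) (k' := k') (K := K) (A := A) := ker_π_le hw
  clear hw
  unfold J at hJ
  induction hJ using Submodule.span_induction with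
  | mem x hx =>
    obtain ⟨c, rfl⟩ := hx
    obtain ⟨t, ht1, ht2⟩ := Groth.Agent.Helper4.SepDiag.exists_mul_eq_zero
      (c ⊗ₜ[k] (1 : k') - (1 : k') ⊗ₜ[k] c) (by simp)
    exact ⟨t, ht1, by rw [← map_mul, ht2, map_zero]⟩
  | zero => exact ⟨1, map_one _, mul_zero _⟩
  | add x y _ _ hx hy =>
    obtain ⟨t1, h1, h1'⟩ := hx
    obtain ⟨t2, h2, h2'⟩ := hy
    refine ⟨t1 * t2, by rw [map_mul, h1, h2, one_mul], ?_⟩
    rw [map_mul, mul_add]
    have e1 : ψ k k' K A t1 * ψ k k' K A t2 * x = ψ k k' K A t2 * (ψ k k' K A t1 * x) := by ring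
    have e2 : ψ k k' K A t1 * ψ k k' K A t2 * y = ψ k k' K A t1 * (ψ k k' K A t2 * y) := by ring
    rw [e1, e2, h1', h2', mul_zero, mul_zero, add_zero]
  | smul r x _ hx =>
    obtain ⟨t, h1, h1'⟩ := hx
    refine ⟨t, h1, ?_⟩
    rw [smul_eq_mul, mul_left_comm, h1', mul_zero]

end Ker

end Groth.Agent.Helper4.GeomRed
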