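import Groth.Prelude.Def_AlgSp2
import Groth.Prelude.Def_FDesc
import Groth.Agent.Helper5.StalkRed
import Groth.Agent.Helper4.AlgSpPts
import Groth.Agent.Helper4.AlgSpQC2
import Mathlib

set_option autoImplicit false
universe u
open CategoryTheory CategoryTheory.Limits AlgebraicGeometry Opposite

namespace Groth.Agent.Helper4.GeomRedSp

open AlgSp

variable {S : Scheme.{u}}

/-- A chart of `X` induces a chart of `X ⨯ h_T` whose underlying scheme is the fibre product. -/
theorem exists_chart_prod {X : Sp S} {U : Over S} (a : (yon S).obj U ⟶ X) (ha : RepWith @Etale a)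
    (hs : RepWith @Surjective a) (T : Over S) :
    ∃ (W : Over S) (b : (yon S).obj W ⟶ X ⨯ (yon S).obj T),
      RepWith @Etale b ∧ RepWith @Surjective b ∧ Nonempty (W.left ≅ pullback U.hom T.hom) := by
  haveI : HasBinaryProducts (Over S) := Over.ConstructProducts.over_binaryProduct_of_pullback
  let e := PreservesLimitPair.iso (yon S) U T
  have sq := IsPullback.of_prod_fst_with_id a ((yon S).obj T)
  have sq' : IsPullback (e.hom ≫ prod.fst) (e.hom ≫ prod.map a (𝟙 _)) a prod.fst :=
    IsPullback.of_iso sq e.symm (Iso.refl _) (Iso.refl _) (Iso.refl _) (by simp) (by simp)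
      (by simp) (by simp)
  refine ⟨U ⨯ T, e.hom ≫ prod.map a (𝟙 _), ?_, ?_, ⟨Over.prodLeftIsoPullback U T⟩⟩
  · exact MorphismProperty.of_isPullback (P := RepWith @Etale) sq' ha
  · exact MorphismProperty.of_isPullback (P := RepWith @Surjective) sq' hs

/-- Reducedness of an étale chart of an étale-locally reduced sheaf. -/
theorem isReduced_chart_of_etaleLocally {F : Sp S}
    (hF : EtaleLocally (fun U => IsReduced U) F)
    {W : Over S} (b : (yon S).obj W ⟶ F) (hb : RepWith @Etale b) : IsReduced W.left := by
  obtain ⟨V, p, hpe, hps, hV⟩ := hF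
  have sq := hpe.rep.isPullback b
  obtain ⟨e, he⟩ := (yon S).map_surjective (hpe.rep.fst b)
  rw [← he] at sq
  have het2 : Etale (hpe.rep.snd b).left := hpe.property b _ _ sq
  have hsu2 : Surjective (hpe.rep.snd b).left := hps.property b _ _ sq
  have het1 : Etale e.left := hb.property p _ _ sq.flip
  clear he
  generalize hpe.rep.snd b = s at sq het2 hsu2
  generalize hpe.rep.pullback b = T at e s sq het1 het2 hsu2
  haveI : IsReduced V.left := hV
  have hT : ∀ t : ↥T.left, _root_.IsReduced (T.left.presheaf.stalk t) := fun t =>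
    Groth.Agent.Helper5.StalkRed.isReduced_stalk_of_smooth e.left t inferInstance
  have hW : ∀ w : ↥W.left, _root_.IsReduced (W.left.presheaf.stalk w) := by
    intro w
    obtain ⟨t, rfl⟩ := hsu2.surj w
    exact Groth.Agent.Helper5.StalkRed.isReduced_stalk_of_flat s.left t (hT t)
  exact isReduced_of_isReduced_stalk _

variable {k : Type u} [Field k]

/-- The `k`-scheme `Spec K` for a field extension `K/k`. -/
noncomputable abbrev specK (K : Type u) [Field K] [Algebra k K] : Over (Spec (CommRingCat.of k)) :=
  Over.mk (Spec.map (CommRingCat.ofHom (algebraMap k K)))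

/-- `X_K` is reduced iff `U_K` is reduced for an étale atlas `U` of `X`. -/
theorem etaleLocally_isReduced_prod_iff {X : Sp (Spec (CommRingCat.of k))}
    {U : Over (Spec (CommRingCat.of k))} (a : (yon (Spec (CommRingCat.of k))).obj U ⟶ X)
    (ha : RepWith @Etale a) (hs : RepWith @Surjective a) (K : Type u) [Field K] [Algebra k K] :
    EtaleLocally (fun U => IsReduced U)
        (X ⨯ (yon (Spec (CommRingCat.of k))).obj (specK (k := k) K)) ↔
      IsReduced (FBase.bc U.hom K) := by
  obtain ⟨W, b, hbe, hbs, ⟨i⟩⟩ := exists_chart_prod a ha hs (specK (k := k) K)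
  constructor
  · intro h
    haveI : IsReduced W.left := isReduced_chart_of_etaleLocally h b hbe
    exact isReduced_of_isOpenImmersion i.inv
  · intro h
    refine ⟨W, b, hbe, hbs, ?_⟩
    haveI : IsReduced (pullback U.hom (specK (k := k) K).hom) := h
    exact isReduced_of_isOpenImmersion i.hom

end Groth.Agent.Helper4.GeomRedSp
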