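import Groth.Prelude.Def_AlgSp2
import Groth.Prelude.Def_FDesc
import Groth.Agent.Helper5.GeomRed
import Groth.Agent.Helper4.GeomBC2
import Groth.Agent.Helper4.AlgSpPtsDesc
import Mathlib

set_option autoImplicit false
universe u
open CategoryTheory CategoryTheory.Limits AlgebraicGeometry Opposite

namespace Groth.Agent.Helper4.GeomRedSp2

open AlgSp

variable {S : Scheme.{u}}

/-- The fibre product `U ×_S T` as an object over `S`. -/
noncomputable abbrev pbOver (U T : Over S) : Over S := Over.mk (pullback.fst U.hom T.hom ≫ U.hom)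

noncomputable abbrev pbFst (U T : Over S) : pbOver U T ⟶ U := Over.homMk (pullback.fst U.hom T.hom) rfl

noncomputable abbrev pbSnd (U T : Over S) : pbOver U T ⟶ T :=
  Over.homMk (pullback.snd U.hom T.hom) (by simp [pullback.condition])

/-- The chart of `X ⨯ h_T` induced by a chart of `X`. -/
noncomputable abbrev chartProd {X : Sp S} {U : Over S} (a : (yon S).obj U ⟶ X) (T : Over S) :
    (yon S).obj (pbOver U T) ⟶ X ⨯ (yon S).obj T :=
  prod.lift ((yon S).map (pbFst U T) ≫ a) ((yon S).map (pbSnd U T))

theorem isPullback_over (U T : Over S) :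
    IsPullback (pbFst U T) (pbSnd U T) (Over.mkIdTerminal.from U) (Over.mkIdTerminal.from T) := by
  apply IsPullback.of_map (Over.forget S)
  · exact Over.mkIdTerminal.hom_ext _ _
  · have := IsPullback.of_hasPullback U.hom T.hom
    convert this using 1 <;> simp

theorem isPullback_chartProd {X : Sp S} {U : Over S} (a : (yon S).obj U ⟶ X) (T : Over S) :
    IsPullback ((yon S).map (pbFst U T)) (chartProd a T) a prod.fst := by
  have hT : IsTerminal ((yon S).obj (Over.mk (𝟙 S))) :=
    IsTerminal.isTerminalObj (yon S) _ Over.mkIdTerminal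
  have hright : IsPullback (prod.snd : X ⨯ (yon S).obj T ⟶ _) prod.fst (hT.from _) (hT.from _) :=
    (IsPullback.of_is_product (prodIsProd X ((yon S).obj T)) hT).flip
  have hbig0 := (isPullback_over U T).map (yon S)
  have hbig : IsPullback (chartProd a T ≫ prod.snd) ((yon S).map (pbFst U T)) (hT.from _)
      (a ≫ hT.from _) := by
    have h1 : chartProd a T ≫ prod.snd = (yon S).map (pbSnd U T) := prod.lift_snd _ _
    have h2 : a ≫ hT.from X = (yon S).map (Over.mkIdTerminal.from U) := hT.hom_ext _ _
    have h3 : hT.from ((yon S).obj T) = (yon S).map (Over.mkIdTerminal.from T) := hT.hom_ext _ _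
    rw [h1, h2, h3]
    exact hbig0.flip
  exact (IsPullback.of_right hbig (prod.lift_fst _ _) hright).flip


theorem repWith_chartProd (Q : MorphismProperty Scheme.{u}) {X : Sp S} {U : Over S}
    (a : (yon S).obj U ⟶ X) (ha : RepWith Q a) (T : Over S) : RepWith Q (chartProd a T) :=
  MorphismProperty.of_isPullback (P := RepWith Q) (isPullback_chartProd a T) ha

/-- Points of the product chart over a given point of the chart and a given point of the product. -/
theorem exists_point_chartProd {X : Sp S} {U : Over S} (a : (yon S).obj U ⟶ X) (T : Over S)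
    (u : ↥U.left) (x' : Points (X ⨯ (yon S).obj T))
    (h : Points.ofPt a u = Points.map prod.fst x') :
    ∃ w : ↥(pullback U.hom T.hom), (pullback.fst U.hom T.hom) w = u ∧
      Points.ofPt (chartProd a T) (w : ↥(pbOver U T).left) = x' := by
  have h' : Points.map a (Points.schemeHomeo U u) = Points.map prod.fst x' := by
    rw [Groth.Agent.Helper4.AlgSpQC2.ofPt_eq_map_schemeHomeo, h]
  obtain ⟨p, hp1, hp2⟩ := Groth.Agent.Helper4.AlgSpPtsDesc.exists_point_of_isPullback
    (isPullback_chartProd a T) _ _ h'
  obtain ⟨w, rfl⟩ := (Points.schemeHomeo (pbOver U T)).surjective p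
  rw [Points.map_yon_map_apply] at hp1
  refine ⟨w, (Points.schemeHomeo U).injective hp1, ?_⟩
  rw [← Groth.Agent.Helper4.AlgSpQC2.ofPt_eq_map_schemeHomeo, hp2]

variable {k : Type u} [Field k]

/-- Chart independence of geometric reducedness relative to a morphism to `h_T`. -/
theorem chart_indep_rel {K : Type u} [Field K] {F : Sp S} {T : Over S}
    (eT : T.left = Spec (CommRingCat.of K)) (π : F ⟶ (yon S).obj T) {U V : Over S}
    (a : (yon S).obj U ⟶ F) (b : (yon S).obj V ⟶ F) (qU : U ⟶ T) (qV : V ⟶ T)
    (haq : a ≫ π = (yon S).map qU) (hbq : b ≫ π = (yon S).map qV)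
    (ha : RepWith @Etale a) (hb : RepWith @Etale b) (u : ↥U.left) (v : ↥V.left)
    (h : Points.ofPt a u = Points.ofPt b v)
    (hu : FBase.IsGeomReducedAt (qU.left ≫ eqToHom eT) u) :
    FBase.IsGeomReducedAt (qV.left ≫ eqToHom eT) v := by
  have sq := ha.rep.isPullback b
  obtain ⟨e, he⟩ := (yon S).map_surjective (ha.rep.fst b)
  rw [← he] at sq
  have het2 : Etale (ha.rep.snd b).left := ha.property b _ _ sq
  have het1 : Etale e.left := hb.property a _ _ sq.flip
  clear he
  generalize ha.rep.snd b = s at sq het2
  generalize ha.rep.pullback b = W at e s sq het1 het2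
  obtain ⟨r, hr1, hr2⟩ := Groth.Agent.Helper5.Decent2.exists_scheme_point_of_isPullback sq u v h
  subst hr1 hr2
  have hcomm : e ≫ qU = s ≫ qV := by
    apply (yon S).map_injective
    rw [Functor.map_comp, Functor.map_comp, ← haq, ← hbq, ← Category.assoc, ← Category.assoc, sq.w]
  have hcomm' : e.left ≫ qU.left = s.left ≫ qV.left := by
    rw [← Over.comp_left, ← Over.comp_left, hcomm]
  have h1 := Groth.Agent.Helper5.GeomRed.geomReducedAt_comp_of_etale (qU.left ≫ eqToHom eT)
    e.left r hu
  rw [← Category.assoc, hcomm', Category.assoc] at h1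
  exact Groth.Agent.Helper5.GeomRed.geomReducedAt_of_comp_etale (qV.left ≫ eqToHom eT) s.left r h1

end Groth.Agent.Helper4.GeomRedSp2
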