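import Groth.Agent.Helper4.GeomRed3
import Mathlib

/-!
# Tensor products of algebras with geometrically reduced fibres (helper4)
-/

set_option autoImplicit false
universe u
open scoped TensorProduct

namespace Groth.Agent.Helper4.GeomRedT

/-- a reduced algebra tensored with an algebra all of whose field base changes are reduced is
reduced -/
theorem isReduced_tensor_of_forall_field {K : Type u} [Field K] (R S : Type u) [CommRing R]
    [Algebra K R] [IsReduced R] [CommRing S] [Algebra K S]
    (hS : ∀ (L : Type u) [Field L] [Algebra K L], IsReduced (L ⊗[K] S)) :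
    IsReduced (R ⊗[K] S) := by
  suffices h : IsReduced (S ⊗[K] R) from
    isReduced_of_injective (Algebra.TensorProduct.comm K R S).toRingEquiv.toRingHom
      (Algebra.TensorProduct.comm K R S).injective
  apply IsReduced.tensorProduct_of_flat_of_forall_fg
  intro R' hR'
  haveI : Algebra.FiniteType K ↥R' := (Subalgebra.fg_iff_finiteType R').1 hR'
  haveI : IsNoetherianRing ↥R' := Algebra.FiniteType.isNoetherianRing K ↥R'
  haveI : IsReduced ↥R' := isReduced_of_injective R'.val Subtype.val_injective
  have hfin : (minimalPrimes ↥R').Finite := minimalPrimes.finite_of_isNoetherianRing ↥R'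
  haveI : Finite {p // p ∈ minimalPrimes ↥R'} := hfin.to_subtype
  haveI : ∀ p : {p // p ∈ minimalPrimes ↥R'}, p.1.IsPrime :=
    fun p => Ideal.minimalPrimes_isPrime p.2
  let φa : ↥R' →ₐ[K] (∀ p : {p // p ∈ minimalPrimes ↥R'}, FractionRing (↥R' ⧸ p.1)) :=
    Pi.algHom K _ fun p => (IsScalarTower.toAlgHom K (↥R' ⧸ p.1) (FractionRing (↥R' ⧸ p.1))).comp
      (Ideal.Quotient.mkₐ K p.1)
  have hφ : Function.Injective φa := by
    rw [injective_iff_map_eq_zero]
    intro x hx
    have hmem : ∀ p : {p // p ∈ minimalPrimes ↥R'}, x ∈ p.1 := by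
      intro p
      have h1 : algebraMap (↥R' ⧸ p.1) (FractionRing (↥R' ⧸ p.1)) (Ideal.Quotient.mk p.1 x) = 0 :=
        congrFun hx p
      rw [map_eq_zero_iff _ (IsFractionRing.injective (↥R' ⧸ p.1) (FractionRing (↥R' ⧸ p.1)))] at h1
      exact Ideal.Quotient.eq_zero_iff_mem.1 h1
    have h2 : x ∈ sInf (minimalPrimes ↥R') := by
      rw [Ideal.mem_sInf]
      intro p hp
      exact hmem ⟨p, hp⟩
    have h3 : sInf (minimalPrimes ↥R') = (⊥ : Ideal ↥R') := by
      unfold minimalPrimes
      rw [Ideal.sInf_minimalPrimes]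
      exact nilradical_eq_zero ↥R'
    rw [h3] at h2
    exact h2
  haveI h4 : IsReduced ((∀ p : {p // p ∈ minimalPrimes ↥R'}, FractionRing (↥R' ⧸ p.1)) ⊗[K] S) :=
    Groth.Agent.Helper4.GeomRed.isReduced_tensor_of_krullDimLE_zero _ S hS
  haveI h5 : IsReduced (S ⊗[K] (∀ p : {p // p ∈ minimalPrimes ↥R'}, FractionRing (↥R' ⧸ p.1))) :=
    isReduced_of_injective (Algebra.TensorProduct.comm K S _).toRingEquiv.toRingHom
      (Algebra.TensorProduct.comm K S _).injective
  exact isReduced_of_injective (Algebra.TensorProduct.map (AlgHom.id K S) φa)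
    (Module.Flat.lTensor_preserves_injective_linearMap (M := S) φa.toLinearMap hφ)

/-- all field base changes are reduced -/
def GR (A : Type u) (T : Type u) [CommRing A] [CommRing T] [Algebra A T] : Prop :=
  ∀ (K : Type u) [Field K] [Algebra A K], IsReduced (K ⊗[A] T)

variable {A : Type u} [CommRing A]

theorem GR_of_algEquiv {T T' : Type u} [CommRing T] [Algebra A T] [CommRing T'] [Algebra A T']
    (e : T ≃ₐ[A] T') (h : GR A T) : GR A T' := by
  intro K _ _
  haveI := h K
  exact isReduced_of_injective
    (Algebra.TensorProduct.map (AlgHom.id K K) e.symm.toAlgHom)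
    (Algebra.TensorProduct.congr (AlgEquiv.refl : K ≃ₐ[K] K) e.symm).injective

theorem GR_self : GR A A := by
  intro K _ _
  exact isReduced_of_injective (Algebra.TensorProduct.rid A K K).toAlgHom
    (Algebra.TensorProduct.rid A K K).injective

theorem GR_tensor {T B : Type u} [CommRing T] [Algebra A T] [CommRing B] [Algebra A B]
    (hT : GR A T) (hB : GR A B) : GR A (T ⊗[A] B) := by
  intro K _ _
  haveI := hT K
  have h1 : IsReduced ((K ⊗[A] T) ⊗[K] (K ⊗[A] B)) := by
    apply isReduced_tensor_of_forall_field
    intro L _ _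
    letI : Algebra A L := ((algebraMap K L).comp (algebraMap A K)).toAlgebra
    haveI : IsScalarTower A K L := IsScalarTower.of_algebraMap_eq fun _ => rfl
    haveI := hB L
    exact isReduced_of_injective (Algebra.TensorProduct.cancelBaseChange A K K L B).toAlgHom
      (Algebra.TensorProduct.cancelBaseChange A K K L B).injective
  have h2 : IsReduced ((K ⊗[A] T) ⊗[A] B) :=
    isReduced_of_injective
      (Algebra.TensorProduct.cancelBaseChange A K K (K ⊗[A] T) B).symm.toAlgHom
      (Algebra.TensorProduct.cancelBaseChange A K K (K ⊗[A] T) B).symm.injective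
  exact isReduced_of_injective
    (Algebra.TensorProduct.assoc A A K K T B).symm.toAlgHom
    (Algebra.TensorProduct.assoc A A K K T B).symm.injective

end Groth.Agent.Helper4.GeomRedT
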