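import Mathlib

/-!
# Glueing modules along a family of elements (no condition on the ideal they generate)
-/

set_option autoImplicit false

namespace Groth.Agent.Helper4.GlueLoc

universe u

section

variable {R : Type u} [CommRing R] {ι : Type u} (f : ι → R)
  (Mi : ι → Type u) [∀ i, AddCommGroup (Mi i)] [∀ i, Module R (Mi i)]
  (Mij : ι → ι → Type u) [∀ i j, AddCommGroup (Mij i j)] [∀ i j, Module R (Mij i j)]
  (g : ∀ i j, Mi i →ₗ[R] Mij i j) [∀ i j, IsLocalizedModule (Submonoid.powers (f j)) (g i j)]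

omit [∀ i j, IsLocalizedModule (Submonoid.powers (f j)) (g i j)] in
theorem smul_injective_Mi (hMi : ∀ i, IsUnit (algebraMap R (Module.End R (Mi i)) (f i)))
    (i : ι) (n : ℕ) : Function.Injective fun m : Mi i => f i ^ n • m := by
  have h : IsUnit (algebraMap R (Module.End R (Mi i)) (f i ^ n)) := by
    rw [map_pow]; exact (hMi i).pow n
  exact ((Module.End.isUnit_iff _).mp h).injective

omit [∀ i j, IsLocalizedModule (Submonoid.powers (f j)) (g i j)] in
theorem smul_surjective_Mi (hMi : ∀ i, IsUnit (algebraMap R (Module.End R (Mi i)) (f i)))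
    (i : ι) (n : ℕ) : Function.Surjective fun m : Mi i => f i ^ n • m := by
  have h : IsUnit (algebraMap R (Module.End R (Mi i)) (f i ^ n)) := by
    rw [map_pow]; exact (hMi i).pow n
  exact ((Module.End.isUnit_iff _).mp h).surjective

include g in
theorem smul_injective_Mij (i j : ι) (n : ℕ) :
    Function.Injective fun c : Mij i j => f j ^ n • c :=
  IsLocalizedModule.smul_injective (g i j) (⟨f j ^ n, n, rfl⟩ : Submonoid.powers (f j))

theorem surj_g (i j : ι) (c : Mij i j) : ∃ (n : ℕ) (m : Mi i), f j ^ n • c = g i j m := by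
  obtain ⟨⟨m, ⟨_, n, rfl⟩⟩, h⟩ := IsLocalizedModule.surj (Submonoid.powers (f j)) (g i j) c
  exact ⟨n, m, h⟩

theorem ker_g (i j : ι) (m : Mi i) (h : g i j m = 0) : ∃ n : ℕ, f j ^ n • m = 0 := by
  obtain ⟨⟨_, n, rfl⟩, hs⟩ := (IsLocalizedModule.eq_zero_iff (Submonoid.powers (f j)) (g i j)).mp h
  exact ⟨n, hs⟩

theorem g_surjective_diag (hMi : ∀ i, IsUnit (algebraMap R (Module.End R (Mi i)) (f i)))
    (i : ι) : Function.Surjective (g i i) := by
  intro c
  obtain ⟨n, m, hm⟩ := surj_g f Mi Mij g i i c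
  obtain ⟨m', rfl⟩ := smul_surjective_Mi f Mi hMi i n m
  refine ⟨m', ?_⟩
  apply smul_injective_Mij f Mi Mij g i i n
  show f i ^ n • g i i m' = f i ^ n • c
  rw [hm, map_smul]

theorem g_injective_diag (hMi : ∀ i, IsUnit (algebraMap R (Module.End R (Mi i)) (f i)))
    (i : ι) : Function.Injective (g i i) := by
  rw [← LinearMap.ker_eq_bot, LinearMap.ker_eq_bot']
  intro m hm
  obtain ⟨n, hn⟩ := ker_g f Mi Mij g i i m hm
  apply smul_injective_Mi f Mi hMi i n
  show f i ^ n • m = f i ^ n • 0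
  rw [hn, smul_zero]

variable (T : ι → ι → ι → Type u) [∀ i j k, AddCommGroup (T i j k)] [∀ i j k, Module R (T i j k)]
  (t : ∀ i j k, Mi i →ₗ[R] T i j k)
  [∀ i j k, IsLocalizedModule (Submonoid.powers (f j * f k)) (t i j k)]
  (v : ∀ i j k, Mij i k →ₗ[R] T i j k) (hv : ∀ i j k, v i j k ∘ₗ g i k = t i j k)

include hv in
/-- The kernel of `v i j k : (M_i)_{f_k} → (M_i)_{f_j f_k}` is `f_j`-power torsion. -/
theorem ker_v (i j k : ι) (c : Mij i k) (h : v i j k c = 0) : ∃ N : ℕ, f j ^ N • c = 0 := by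
  obtain ⟨a, m, hm⟩ := surj_g f Mi Mij g i k c
  have h1 : t i j k m = 0 := by
    rw [← hv, LinearMap.comp_apply, ← hm, map_smul, h, smul_zero]
  obtain ⟨⟨_, N, rfl⟩, hN⟩ :=
    (IsLocalizedModule.eq_zero_iff (Submonoid.powers (f j * f k)) (t i j k)).mp h1
  refine ⟨N, ?_⟩
  have hN' : (f j * f k) ^ N • m = 0 := hN
  have h2 : f k ^ (N + a) • (f j ^ N • c) = 0 := by
    have : f k ^ (N + a) • (f j ^ N • c) = (f j * f k) ^ N • (f k ^ a • c) := by
      rw [smul_smul, smul_smul]; congr 1; ring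
    rw [this, hm, ← map_smul, hN', map_zero]
  apply smul_injective_Mij f Mi Mij g i k (N + a)
  show f k ^ (N + a) • (f j ^ N • c) = f k ^ (N + a) • 0
  rw [h2, smul_zero]


variable (ψ : ∀ i j, Mij i j ≃ₗ[R] Mij j i)
  (u : ∀ i j k, Mij i j →ₗ[R] T i j k) (hu : ∀ i j k, u i j k ∘ₗ g i j = t i j k)
  (Ψ₁ : ∀ i j k, T i j k →ₗ[R] T j i k)
  (hΨ₁ : ∀ i j k, Ψ₁ i j k ∘ₗ u i j k = u j i k ∘ₗ (ψ i j).toLinearMap)
  (Ψ₂ : ∀ i j k, T j i k →ₗ[R] T k i j)
  (hΨ₂ : ∀ i j k, Ψ₂ i j k ∘ₗ v j i k = v k i j ∘ₗ (ψ j k).toLinearMap)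
  (Ψ₃ : ∀ i j k, T i j k →ₗ[R] T k i j)
  (hΨ₃ : ∀ i j k, Ψ₃ i j k ∘ₗ v i j k = u k i j ∘ₗ (ψ i k).toLinearMap)
  (hcoc : ∀ i j k, Ψ₂ i j k ∘ₗ Ψ₁ i j k = Ψ₃ i j k)

include hv hu hΨ₁ hΨ₂ hΨ₃ hcoc in
/-- `ψ i i` is the identity. -/
theorem psi_diag (hMi : ∀ i, IsUnit (algebraMap R (Module.End R (Mi i)) (f i)))
    (i : ι) (c : Mij i i) : ψ i i c = c := by
  -- `u i i i = v i i i`
  have huv : ∀ c : Mij i i, u i i i c = v i i i c := by
    intro c
    obtain ⟨m, rfl⟩ := g_surjective_diag f Mi Mij g hMi i c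
    rw [← LinearMap.comp_apply, ← LinearMap.comp_apply, hu, hv]
  have hvinj : Function.Injective (v i i i) := by
    rw [← LinearMap.ker_eq_bot, LinearMap.ker_eq_bot']
    intro c hc
    obtain ⟨N, hN⟩ := ker_v f Mi Mij g T t v hv i i i c hc
    apply smul_injective_Mij f Mi Mij g i i N
    show f i ^ N • c = f i ^ N • 0
    rw [hN, smul_zero]
  have h1 : ∀ c, Ψ₁ i i i (v i i i c) = v i i i (ψ i i c) := by
    intro c
    have := LinearMap.congr_fun (hΨ₁ i i i) c
    simp only [LinearMap.comp_apply, LinearEquiv.coe_coe] at this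
    rw [← huv, this, huv]
  have h2 : ∀ c, Ψ₂ i i i (v i i i c) = v i i i (ψ i i c) := by
    intro c
    have := LinearMap.congr_fun (hΨ₂ i i i) c
    simpa only [LinearMap.comp_apply, LinearEquiv.coe_coe] using this
  have h3 : ∀ c, Ψ₃ i i i (v i i i c) = v i i i (ψ i i c) := by
    intro c
    have := LinearMap.congr_fun (hΨ₃ i i i) c
    simp only [LinearMap.comp_apply, LinearEquiv.coe_coe] at this
    rw [this, huv]
  have h4 := LinearMap.congr_fun (hcoc i i i) (v i i i c)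
  rw [LinearMap.comp_apply, h1, h2, h3] at h4
  exact (ψ i i).injective (hvinj h4)

include hv hu hΨ₁ hΨ₂ hΨ₃ hcoc in
/-- The key compatibility. -/
theorem compat (i j k : ι) (y : Mi i) (n : ℕ) (mj : Mi j) (mk : Mi k)
    (hj : g j i mj = f i ^ n • ψ i j (g i j y)) (hk : g k i mk = f i ^ n • ψ i k (g i k y)) :
    ∃ N : ℕ, f i ^ N • g k j mk = f i ^ N • ψ j k (g j k mj) := by
  have key : v k i j (g k j mk - ψ j k (g j k mj)) = 0 := by
    have e1 : v k i j (g k j mk) = f i ^ n • Ψ₃ i j k (t i j k y) := by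
      have a1 : v k i j (g k j mk) = t k i j mk := by
        rw [← hv k i j, LinearMap.comp_apply]
      have a2 : t k i j mk = u k i j (g k i mk) := by
        rw [← hu k i j, LinearMap.comp_apply]
      have a3 : u k i j (ψ i k (g i k y)) = Ψ₃ i j k (v i j k (g i k y)) := by
        have := LinearMap.congr_fun (hΨ₃ i j k) (g i k y)
        simpa only [LinearMap.comp_apply, LinearEquiv.coe_coe] using this.symm
      have a4 : v i j k (g i k y) = t i j k y := by
        rw [← hv i j k, LinearMap.comp_apply]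
      rw [a1, a2, hk, map_smul, a3, a4]
    have e2 : v k i j (ψ j k (g j k mj)) = f i ^ n • Ψ₃ i j k (t i j k y) := by
      have b1 : v k i j (ψ j k (g j k mj)) = Ψ₂ i j k (v j i k (g j k mj)) := by
        have := LinearMap.congr_fun (hΨ₂ i j k) (g j k mj)
        simpa only [LinearMap.comp_apply, LinearEquiv.coe_coe] using this.symm
      have b2 : v j i k (g j k mj) = t j i k mj := by
        rw [← hv j i k, LinearMap.comp_apply]
      have b3 : t j i k mj = u j i k (g j i mj) := by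
        rw [← hu j i k, LinearMap.comp_apply]
      have b4 : u j i k (ψ i j (g i j y)) = Ψ₁ i j k (u i j k (g i j y)) := by
        have := LinearMap.congr_fun (hΨ₁ i j k) (g i j y)
        simpa only [LinearMap.comp_apply, LinearEquiv.coe_coe] using this.symm
      have b5 : u i j k (g i j y) = t i j k y := by
        rw [← hu i j k, LinearMap.comp_apply]
      have b6 : Ψ₂ i j k (Ψ₁ i j k (t i j k y)) = Ψ₃ i j k (t i j k y) := by
        rw [← LinearMap.comp_apply, hcoc]
      rw [b1, b2, b3, hj, map_smul, map_smul, b4, b5, b6]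
    rw [map_sub, e1, e2, sub_self]
  obtain ⟨N, hN⟩ := ker_v f Mi Mij g T t v hv k i j _ key
  refine ⟨N, ?_⟩
  rw [smul_sub, sub_eq_zero] at hN
  exact hN

end

end Groth.Agent.Helper4.GlueLoc
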