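import Mathlib
import Groth.Agent.Helper4.GlueLoc

/-!
# Glueing modules: the projection is a localization
-/

set_option autoImplicit false

namespace Groth.Agent.Helper4.GlueLoc

universe u

theorem isLocalizedModule_proj {R : Type u} [CommRing R] {ι : Type u} [Finite ι] (f : ι → R)
    (Mi : ι → Type u) [∀ i, AddCommGroup (Mi i)] [∀ i, Module R (Mi i)]
    (hMi : ∀ i, IsUnit (algebraMap R (Module.End R (Mi i)) (f i)))
    (Mij : ι → ι → Type u) [∀ i j, AddCommGroup (Mij i j)] [∀ i j, Module R (Mij i j)]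
    (g : ∀ i j, Mi i →ₗ[R] Mij i j) [∀ i j, IsLocalizedModule (Submonoid.powers (f j)) (g i j)]
    (ψ : ∀ i j, Mij i j ≃ₗ[R] Mij j i)
    (T : ι → ι → ι → Type u) [∀ i j k, AddCommGroup (T i j k)] [∀ i j k, Module R (T i j k)]
    (t : ∀ i j k, Mi i →ₗ[R] T i j k)
    [∀ i j k, IsLocalizedModule (Submonoid.powers (f j * f k)) (t i j k)]
    (u : ∀ i j k, Mij i j →ₗ[R] T i j k) (hu : ∀ i j k, u i j k ∘ₗ g i j = t i j k)
    (v : ∀ i j k, Mij i k →ₗ[R] T i j k) (hv : ∀ i j k, v i j k ∘ₗ g i k = t i j k)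
    (Ψ₁ : ∀ i j k, T i j k →ₗ[R] T j i k)
    (hΨ₁ : ∀ i j k, Ψ₁ i j k ∘ₗ u i j k = u j i k ∘ₗ (ψ i j).toLinearMap)
    (Ψ₂ : ∀ i j k, T j i k →ₗ[R] T k i j)
    (hΨ₂ : ∀ i j k, Ψ₂ i j k ∘ₗ v j i k = v k i j ∘ₗ (ψ j k).toLinearMap)
    (Ψ₃ : ∀ i j k, T i j k →ₗ[R] T k i j)
    (hΨ₃ : ∀ i j k, Ψ₃ i j k ∘ₗ v i j k = u k i j ∘ₗ (ψ i k).toLinearMap)
    (hcoc : ∀ i j k, Ψ₂ i j k ∘ₗ Ψ₁ i j k = Ψ₃ i j k)
    (M : Submodule R (∀ i, Mi i))
    (hM : ∀ m : ∀ i, Mi i, m ∈ M ↔ ∀ i j, g i j (m i) = ψ j i (g j i (m j))) (i : ι) :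
    IsLocalizedModule (Submonoid.powers (f i))
      ((LinearMap.proj i).comp M.subtype : ↥M →ₗ[R] Mi i) := by
  classical
  haveI : Fintype ι := Fintype.ofFinite ι
  refine ⟨?_, ?_, ?_⟩
  · -- units
    rintro ⟨_, n, rfl⟩
    show IsUnit (algebraMap R (Module.End R (Mi i)) (f i ^ n))
    rw [map_pow]; exact (hMi i).pow n
  · -- surjectivity up to powers
    intro y
    -- Step 1
    have h1 : ∀ j, ∃ (n : ℕ) (m : Mi j), f i ^ n • ψ i j (g i j y) = g j i m :=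
      fun j => surj_g f Mi Mij g j i _
    choose n₀ m₀ hm₀ using h1
    set n : ℕ := ∑ j, n₀ j with hn
    have hn₀ : ∀ j, n₀ j ≤ n := fun j => Finset.single_le_sum (f := n₀) (fun _ _ => Nat.zero_le _)
      (Finset.mem_univ j)
    obtain ⟨m', hm'def⟩ : ∃ m' : ∀ j, Mi j, ∀ j, m' j = f i ^ (n - n₀ j) • m₀ j :=
      ⟨fun j => f i ^ (n - n₀ j) • m₀ j, fun _ => rfl⟩
    have hm' : ∀ j, g j i (m' j) = f i ^ n • ψ i j (g i j y) := by
      intro j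
      rw [hm'def, map_smul, ← hm₀ j, smul_smul, ← pow_add, Nat.sub_add_cancel (hn₀ j)]
    -- Step 2
    have h2 : ∀ j k, ∃ N : ℕ, f i ^ N • g k j (m' k) = f i ^ N • ψ j k (g j k (m' j)) :=
      fun j k => compat f Mi Mij g T t v hv ψ u hu Ψ₁ hΨ₁ Ψ₂ hΨ₂ Ψ₃ hΨ₃ hcoc i j k y n (m' j) (m' k)
        (hm' j) (hm' k)
    choose N₀ hN₀ using h2
    set N : ℕ := ∑ j, ∑ k, N₀ j k with hN
    have hNle : ∀ j k, N₀ j k ≤ N := by
      intro j k
      have a1 : N₀ j k ≤ ∑ k, N₀ j k :=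
        Finset.single_le_sum (f := N₀ j) (fun _ _ => Nat.zero_le _) (Finset.mem_univ k)
      have a2 : ∑ k, N₀ j k ≤ N :=
        Finset.single_le_sum (f := fun j => ∑ k, N₀ j k) (fun _ _ => Nat.zero_le _)
          (Finset.mem_univ j)
      exact a1.trans a2
    obtain ⟨x, hxdef⟩ : ∃ x : ∀ j, Mi j, ∀ j, x j = f i ^ N • m' j :=
      ⟨fun j => f i ^ N • m' j, fun _ => rfl⟩
    have hxM : x ∈ M := by
      rw [hM]
      intro k j
      rw [hxdef, hxdef, map_smul, map_smul, map_smul]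
      have : f i ^ N = f i ^ (N - N₀ j k) * f i ^ N₀ j k := by
        rw [← pow_add, Nat.sub_add_cancel (hNle j k)]
      rw [this, mul_smul, mul_smul, hN₀ j k]
    -- Step 4
    have hxi : m' i = f i ^ n • y := by
      have h3 : g i i (m' i) = g i i (f i ^ n • y) := by
        rw [hm' i, psi_diag f Mi Mij g T t v hv ψ u hu Ψ₁ hΨ₁ Ψ₂ hΨ₂ Ψ₃ hΨ₃ hcoc hMi, map_smul]
      exact g_injective_diag f Mi Mij g hMi i h3
    refine ⟨⟨⟨x, hxM⟩, ⟨f i ^ (N + n), N + n, rfl⟩⟩, ?_⟩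
    show f i ^ (N + n) • y = x i
    rw [hxdef, hxi, smul_smul, ← pow_add]
  · -- kernel
    intro x₁ x₂ h
    have hx : (x₁ : ∀ j, Mi j) i = (x₂ : ∀ j, Mi j) i := h
    have h1 : ∀ j, ∃ N : ℕ, f i ^ N • ((x₁ : ∀ j, Mi j) j - (x₂ : ∀ j, Mi j) j) = 0 := by
      intro j
      apply ker_g f Mi Mij g j i
      rw [map_sub, ((hM _).mp x₁.2) j i, ((hM _).mp x₂.2) j i, hx, sub_self]
    choose N₀ hN₀ using h1
    set N : ℕ := ∑ j, N₀ j with hN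
    have hNle : ∀ j, N₀ j ≤ N := fun j =>
      Finset.single_le_sum (f := N₀) (fun _ _ => Nat.zero_le _) (Finset.mem_univ j)
    refine ⟨⟨f i ^ N, N, rfl⟩, ?_⟩
    apply Subtype.ext
    funext j
    show f i ^ N • (x₁ : ∀ j, Mi j) j = f i ^ N • (x₂ : ∀ j, Mi j) j
    rw [← sub_eq_zero, ← smul_sub]
    have : f i ^ N = f i ^ (N - N₀ j) * f i ^ N₀ j := by
      rw [← pow_add, Nat.sub_add_cancel (hNle j)]
    rw [this, mul_smul, hN₀ j, smul_zero]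

end Groth.Agent.Helper4.GlueLoc
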