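import Mathlib

set_option autoImplicit false
universe u

namespace Groth.Agent.Helper4.GradedMod

open DirectSum Finset

variable {R S : Type u} [CommRing R] [CommRing S] [Algebra R S] (𝒜 : ℕ → Submodule R S)
  [GradedAlgebra 𝒜]
  {M : Type u} [AddCommGroup M] [Module R M] [Module S M] [IsScalarTower R S M]
  (ℳ : ℕ → Submodule R M) [DirectSum.Decomposition ℳ] [SetLike.GradedSMul 𝒜 ℳ]

/-- degree-`d` component of `s • m`. -/
theorem decompose_smul_apply (s : S) (m : M) (d : ℕ) :
    (decompose ℳ (s • m) d : M) =
      ∑ p ∈ antidiagonal d, (decompose 𝒜 s p.1 : S) • (decompose ℳ m p.2 : M) := by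
  classical
  induction s using DirectSum.Decomposition.inductionOn 𝒜 with
  | zero => simp
  | @homogeneous a s =>
    induction m using DirectSum.Decomposition.inductionOn ℳ with
    | zero => simp
    | @homogeneous b m =>
      have hsm : (s : S) • (m : M) ∈ ℳ (a + b) := SetLike.GradedSMul.smul_mem s.2 m.2
      have hs : ∀ a', (decompose 𝒜 (s : S) a' : S) = if a = a' then (s : S) else 0 := by
        intro a'
        split_ifs with h
        · subst h; exact decompose_of_mem_same 𝒜 s.2
        · exact decompose_of_mem_ne 𝒜 s.2 h
      have hm : ∀ b', (decompose ℳ (m : M) b' : M) = if b = b' then (m : M) else 0 := by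
        intro b'
        split_ifs with h
        · subst h; exact decompose_of_mem_same ℳ m.2
        · exact decompose_of_mem_ne ℳ m.2 h
      simp only [hs, hm]
      by_cases hd : a + b = d
      · subst hd
        rw [decompose_of_mem_same ℳ hsm]
        rw [Finset.sum_eq_single (a, b)]
        · simp
        · rintro ⟨a', b'⟩ _ hne
          by_cases ha : a = a'
          · by_cases hb : b = b'
            · subst ha; subst hb; exact absurd rfl hne
            · simp [hb]
          · simp [ha]
        · intro h; exact absurd (HasAntidiagonal.mem_antidiagonal.mpr (show (a, b).1 + (a, b).2 = a + b from rfl)) h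
      · rw [decompose_of_mem_ne ℳ hsm hd]
        symm
        apply Finset.sum_eq_zero
        rintro ⟨a', b'⟩ hp
        rw [HasAntidiagonal.mem_antidiagonal] at hp
        by_cases ha : a = a'
        · by_cases hb : b = b'
          · subst ha; subst hb; exact absurd hp hd
          · simp [hb]
        · simp [ha]
    | add m m' hm hm' =>
      rw [smul_add, decompose_add, DirectSum.add_apply, Submodule.coe_add, hm, hm',
        ← Finset.sum_add_distrib]
      refine Finset.sum_congr rfl fun p _ => ?_
      rw [decompose_add, DirectSum.add_apply, Submodule.coe_add, smul_add]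
  | add s s' hs hs' =>
    rw [add_smul, decompose_add, DirectSum.add_apply, Submodule.coe_add, hs, hs',
      ← Finset.sum_add_distrib]
    refine Finset.sum_congr rfl fun p _ => ?_
    rw [decompose_add, DirectSum.add_apply, Submodule.coe_add, add_smul]

/-- Graded Nakayama. -/
theorem span_eq_top_of_sup_irrelevant {ι : Type*} (x : ι → M)
    (hx : ∀ i, SetLike.IsHomogeneousElem ℳ (x i))
    (h : Submodule.span S (Set.range x) ⊔
      (HomogeneousIdeal.irrelevant 𝒜).toIdeal • (⊤ : Submodule S M) = ⊤) :
    Submodule.span S (Set.range x) = ⊤ := by
  classical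
  set N := Submodule.span S (Set.range x) with hN
  -- components of elements of N are in N
  have hC1 : ∀ n ∈ N, ∀ d, (decompose ℳ n d : M) ∈ N := by
    intro n hn
    induction hn using Submodule.span_induction with
    | mem y hy =>
      obtain ⟨i, rfl⟩ := hy
      obtain ⟨e, he⟩ := hx i
      intro d
      by_cases hd : e = d
      · subst hd; rw [decompose_of_mem_same ℳ he]; exact Submodule.subset_span ⟨i, rfl⟩
      · rw [decompose_of_mem_ne ℳ he hd]; exact Submodule.zero_mem _
    | zero => intro d; simp
    | add a b _ _ ha hb =>
      intro d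
      rw [decompose_add, DirectSum.add_apply, Submodule.coe_add]
      exact Submodule.add_mem _ (ha d) (hb d)
    | smul s a _ ha =>
      intro d
      rw [decompose_smul_apply 𝒜 ℳ]
      exact Submodule.sum_mem _ fun p _ => Submodule.smul_mem _ _ (ha p.2)
  -- main induction
  have main : ∀ d, ∀ m ∈ ℳ d, m ∈ N := by
    intro d
    induction d using Nat.strong_induction_on with
    | _ d ih =>
      intro m hm
      have hC2 : ∀ z ∈ (HomogeneousIdeal.irrelevant 𝒜).toIdeal • (⊤ : Submodule S M),
          (decompose ℳ z d : M) ∈ N := by
        intro z hz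
        refine Submodule.smul_induction_on hz ?_ ?_
        · intro s hs y _
          rw [decompose_smul_apply 𝒜 ℳ]
          refine Submodule.sum_mem _ fun p hp => ?_
          rw [HasAntidiagonal.mem_antidiagonal] at hp
          by_cases hp1 : p.1 = 0
          · have : (decompose 𝒜 s p.1 : S) = 0 := by
              rw [hp1]
              exact (HomogeneousIdeal.mem_irrelevant_iff 𝒜 s).mp hs
            rw [this, zero_smul]; exact Submodule.zero_mem _
          · apply Submodule.smul_mem
            exact ih p.2 (by lia) _ (decompose ℳ y p.2).2
        · intro a b ha hb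
          rw [decompose_add, DirectSum.add_apply, Submodule.coe_add]
          exact Submodule.add_mem _ ha hb
      have hmem : m ∈ N ⊔ (HomogeneousIdeal.irrelevant 𝒜).toIdeal • (⊤ : Submodule S M) := by
        rw [h]; trivial
      obtain ⟨n, hn, z, hz, rfl⟩ := Submodule.mem_sup.mp hmem
      have e : n + z = (decompose ℳ (n + z) d : M) := (decompose_of_mem_same ℳ hm).symm
      rw [e, decompose_add, DirectSum.add_apply, Submodule.coe_add]
      exact Submodule.add_mem _ (hC1 n hn d) (hC2 z hz)
  rw [eq_top_iff]
  intro m _
  rw [← DirectSum.sum_support_decompose ℳ m]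
  exact Submodule.sum_mem _ fun d _ => main d _ (decompose ℳ m d).2

end Groth.Agent.Helper4.GradedMod
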