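import Mathlib

/-!
# A graded algebra structure from an internal direct sum decomposition (on a subalgebra)
-/

set_option autoImplicit false

namespace Groth.Agent.Helper4

universe u v

theorem isInternal_of_subalgebra {R : Type u} {A : Type v} [CommRing R] [CommRing A] [Algebra R A]
    (S : Subalgebra R A) (ℬ : ℕ → Submodule R S) (h1 : iSupIndep ℬ) (h2 : iSup ℬ = ⊤) :
    DirectSum.IsInternal ℬ :=
  DirectSum.isInternal_submodule_of_iSupIndep_of_iSup_eq_top h1 h2

/-- A graded algebra structure on a subalgebra from independence and spanning. -/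
noncomputable def gradedAlgebraOfSubalgebra {R : Type u} {A : Type v} [CommRing R] [CommRing A]
    [Algebra R A] (S : Subalgebra R A) (ℬ : ℕ → Submodule R S) [SetLike.GradedMonoid ℬ]
    (h1 : iSupIndep ℬ) (h2 : iSup ℬ = ⊤) : GradedAlgebra ℬ :=
  { toDecomposition := (isInternal_of_subalgebra S ℬ h1 h2).chooseDecomposition }

end Groth.Agent.Helper4
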