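import Mathlib

set_option autoImplicit false
universe u v
open CategoryTheory MonoidalCategory CartesianMonoidalCategory MonObj GrpObj

namespace Groth.Agent.Helper4.GrpAffA

variable {C : Type u} [Category.{v} C] [CartesianMonoidalCategory C] {G : C} [GrpObj G]

/-- left translation by a point -/
def L (x : 𝟙_ C ⟶ G) : G ⟶ G := (toUnit G ≫ x) * 𝟙 G

omit [GrpObj G] in
lemma pt_toUnit (y : 𝟙_ C ⟶ G) : y ≫ toUnit G = 𝟙 _ := toUnit_unique _ _

lemma pt_L (x y : 𝟙_ C ⟶ G) : y ≫ L x = x * y := by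
  rw [L, MonObj.comp_mul, Category.comp_id, ← Category.assoc, pt_toUnit, Category.id_comp]

lemma L_L (x y : 𝟙_ C ⟶ G) : L x ≫ L y = L (y * x) := by
  have h1 : L x ≫ toUnit G = toUnit G := toUnit_unique _ _
  rw [L, L, L, MonObj.comp_mul, Category.comp_id, ← Category.assoc, ← L, h1, L, ← _root_.mul_assoc,
    MonObj.comp_mul]

lemma L_one : L (1 : 𝟙_ C ⟶ G) = 𝟙 G := by
  rw [L, MonObj.comp_one, _root_.one_mul]

instance isIso_L (x : 𝟙_ C ⟶ G) : IsIso (L x) :=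
  ⟨L x⁻¹, by rw [L_L, inv_mul_cancel, L_one], by rw [L_L, mul_inv_cancel, L_one]⟩

lemma inv_L (x : 𝟙_ C ⟶ G) : inv (L x) = L x⁻¹ := by
  apply IsIso.inv_eq_of_hom_inv_id
  rw [L_L, inv_mul_cancel, L_one]

/-- `u ↦ x u⁻¹` -/
def R (x : 𝟙_ C ⟶ G) : G ⟶ G := ι[G] ≫ L x

lemma pt_R (x y : 𝟙_ C ⟶ G) : y ≫ R x = x * y⁻¹ := by
  rw [R, ← Category.assoc, ← Hom.inv_def, pt_L]

instance isIso_R (x : 𝟙_ C ⟶ G) : IsIso (R x) := by
  unfold R; infer_instance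

end Groth.Agent.Helper4.GrpAffA
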