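import Mathlib
import Groth.Agent.Helper2.HS6
import Groth.Agent.Helper2.HS8
import Groth.Agent.Helper2.HS10
import Groth.Agent.Lead.ConnHartogs
import Groth.Agent.Helper4.GrpAffA

set_option autoImplicit false
universe u
open CategoryTheory CategoryTheory.Limits MonoidalCategory CartesianMonoidalCategory MonObj GrpObj AlgebraicGeometry
open Groth.Agent.Helper2 Groth.Agent.Helper4.GrpAffA

namespace Groth.Agent.Helper4.GrpAffB

variable {K : Type u} [Field K] (G : Over (Spec (CommRingCat.of K))) [GrpObj G]

/-- the point of the unit object -/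
noncomputable abbrev pt : ↥(𝟙_ (Over (Spec (CommRingCat.of K)))).left := IsLocalRing.closedPoint K

omit [GrpObj G] in
lemma left_inv_apply (φ : G ⟶ G) [IsIso φ] (z : G.left) : (inv φ).left (φ.left z) = z := by
  rw [← Scheme.Hom.comp_apply, ← Over.comp_left, IsIso.hom_inv_id]
  rfl

omit [GrpObj G] in
lemma left_apply_inv (φ : G ⟶ G) [IsIso φ] (z : G.left) : φ.left ((inv φ).left z) = z := by
  rw [← Scheme.Hom.comp_apply, ← Over.comp_left, IsIso.inv_hom_id]
  rfl

omit [GrpObj G] in
lemma isClosed_map (φ : G ⟶ G) [IsIso φ] (z : G.left) (hz : IsClosed ({z} : Set G.left)) :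
    IsClosed ({φ.left z} : Set G.left) := by
  haveI : IsIso φ.left := (Over.forget _).map_isIso φ
  have := φ.left.homeomorph.isClosedMap _ hz
  rwa [Set.image_singleton] at this

variable [IsAlgClosed K] [LocallyOfFiniteType G.hom]

/-- K-point from a closed point -/
noncomputable def kpt (g : G.left) (hg : IsClosed ({g} : Set G.left)) :
    𝟙_ (Over (Spec (CommRingCat.of K))) ⟶ G :=
  Over.homMk (pointOfClosedPoint G.hom g hg) (by
    rw [pointOfClosedPoint_comp]; rfl)

omit [GrpObj G] in
lemma kpt_apply (g : G.left) (hg : IsClosed ({g} : Set G.left)) : (kpt G g hg).left pt = g := by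
  simp [kpt]

omit [GrpObj G] in
lemma kpt_ext (x y : 𝟙_ (Over (Spec (CommRingCat.of K))) ⟶ G) (h : x.left pt = y.left pt) :
    x = y := by
  apply Over.OverMorphism.ext
  refine ext_of_apply_closedPoint_eq G.hom ?_ ?_ h
  · exact Over.w x
  · exact Over.w y

end Groth.Agent.Helper4.GrpAffB
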