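import Mathlib
import Groth.Agent.Helper4.GrpAffB

set_option autoImplicit false
universe u
open CategoryTheory CategoryTheory.Limits MonoidalCategory CartesianMonoidalCategory MonObj GrpObj AlgebraicGeometry
open Groth.Agent.Helper2 Groth.Agent.Helper4.GrpAffA Groth.Agent.Helper4.GrpAffB

namespace Groth.Agent.Helper4.GrpAffC

variable {K : Type u} [Field K] (G : Over (Spec (CommRingCat.of K))) [GrpObj G]

lemma eta_eq_one : (η[G] : 𝟙_ (Over (Spec (CommRingCat.of K))) ⟶ G) = 1 := by
  rw [Hom.one_def]; simp

/-- unit as a `K`-point -/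
lemma eta_apply_L (y : 𝟙_ (Over (Spec (CommRingCat.of K))) ⟶ G) :
    (L y).left (η[G].left pt) = y.left pt := by
  have h1 : (η[G] : 𝟙_ (Over (Spec (CommRingCat.of K))) ⟶ G) ≫ L y = y := by
    rw [pt_L, eta_eq_one, _root_.mul_one]
  rw [← Scheme.Hom.comp_apply, ← Over.comp_left, h1]

lemma eta_apply_R (y : 𝟙_ (Over (Spec (CommRingCat.of K))) ⟶ G) :
    (R y).left (η[G].left pt) = y.left pt := by
  have h1 : (η[G] : 𝟙_ (Over (Spec (CommRingCat.of K))) ⟶ G) ≫ R y = y := by
    rw [pt_R, eta_eq_one, inv_one, _root_.mul_one]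
  rw [← Scheme.Hom.comp_apply, ← Over.comp_left, h1]

variable [IsAlgClosed K] [LocallyOfFiniteType G.hom]

/-- the structural facts about components of `G` -/
theorem comp_facts :
    (∀ x : G.left, IsOpen (irreducibleComponent x)) ∧
    (∀ x : G.left, connectedComponent x = irreducibleComponent x) ∧
    (∀ (x : G.left) (Y : Set G.left), Y ∈ irreducibleComponents G.left → x ∈ Y →
      Y = irreducibleComponent x) := by
  haveI : IsLocallyNoetherian G.left := LocallyOfFiniteType.isLocallyNoetherian G.hom
  haveI : LocallyConnectedSpace G.left := Groth.Agent.Lead.ConnHartogs.locallyConnectedSpace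
  set e := η[G].left (pt (K := K))
  set C0 := irreducibleComponent e
  have hC0 : C0 ∈ irreducibleComponents G.left := irreducibleComponent_mem_irreducibleComponents e
  have he : e ∈ C0 := mem_irreducibleComponent
  have hΦ := HS6.surjective_selfAction G
  have hcc : ∀ x : G.left, connectedComponent x = irreducibleComponent x :=
    HS10.connectedComponent_eq (HS2.selfAction G) C0 hC0 pt he hΦ
  refine ⟨fun x => hcc x ▸ isOpen_connectedComponent, hcc, fun x Y hY hx => ?_⟩
  exact HS8.unique_comp (HS2.selfAction G) C0 hC0 pt he hΦ x Y (irreducibleComponent x) hY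
    (irreducibleComponent_mem_irreducibleComponents x) hx mem_irreducibleComponent

theorem main (n : ℕ) (g : Fin n → G.left) (hg : ∀ i, IsClosed ({g i} : Set G.left)) :
    ∃ U : G.left.Opens, IsAffineOpen U ∧ ∀ i, g i ∈ U := by
  classical
  haveI : JacobsonSpace G.left := LocallyOfFiniteType.jacobsonSpace G.hom
  obtain ⟨hopen, hcc, huniq⟩ := comp_facts G
  set e := η[G].left (pt (K := K)) with hedef
  have he : e ∈ irreducibleComponent e := mem_irreducibleComponent
  obtain ⟨_, ⟨U, hU, rfl⟩, heU, hUC0⟩ :=
    G.left.isBasis_affineOpens.exists_subset_of_mem_open he (hopen e)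
  let x : Fin n → (𝟙_ (Over (Spec (CommRingCat.of K))) ⟶ G) := fun i => kpt G (g i) (hg i)
  let W : Fin n → G.left.Opens := fun i => (inv (R (x i))).left ⁻¹ᵁ U
  have hgW : ∀ i, g i ∈ W i := by
    intro i
    change (inv (R (x i))).left (g i) ∈ U
    have h1 : (R (x i)).left e = g i := by
      rw [hedef, eta_apply_R, kpt_apply]
    rw [← h1, left_inv_apply]
    exact heU
  have key : ∀ Y : Set G.left, ∃ V : G.left.Opens, IsAffineOpen V ∧ (V : Set G.left) ⊆ Y ∧
      (Y ∈ irreducibleComponents G.left → ∀ i, g i ∈ Y → g i ∈ V) := by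
    intro Y
    by_cases hY : Y ∈ irreducibleComponents G.left
    swap
    · exact ⟨⊥, isAffineOpen_bot _, by simp, fun h => absurd h hY⟩
    have hYcl : IsClosed Y := isClosed_of_mem_irreducibleComponents Y hY
    set 𝒲 : Finset (Set G.left) :=
      Finset.image (fun i => (W i : Set G.left)) (Finset.univ.filter (fun i => g i ∈ Y)) with h𝒲
    have hne : (Y ∩ ⋂₀ (↑𝒲 : Set (Set G.left))).Nonempty := by
      refine isIrreducible_iff_sInter.mp hY.1 𝒲 ?_ ?_
      · intro u hu
        simp only [h𝒲, Finset.mem_image, Finset.mem_filter, Finset.mem_univ, true_and] at hu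
        obtain ⟨i, -, rfl⟩ := hu
        exact (W i).2
      · intro u hu
        simp only [h𝒲, Finset.mem_image, Finset.mem_filter, Finset.mem_univ, true_and] at hu
        obtain ⟨i, hi, rfl⟩ := hu
        exact ⟨g i, hi, hgW i⟩
    have hlc : IsLocallyClosed (Y ∩ ⋂₀ (↑𝒲 : Set (Set G.left))) := by
      refine hYcl.isLocallyClosed.inter (IsOpen.isLocallyClosed ?_)
      refine 𝒲.finite_toSet.isOpen_sInter ?_
      intro u hu
      simp only [h𝒲, Finset.coe_image, Set.mem_image] at hu
      obtain ⟨i, -, rfl⟩ := hu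
      exact (W i).2
    obtain ⟨h, ⟨hhY, hhW⟩, hhcl⟩ := nonempty_inter_closedPoints hne hlc
    have hhcl' : IsClosed ({h} : Set G.left) := hhcl
    let y := kpt G h hhcl'
    have hyh : y.left pt = h := kpt_apply G h hhcl'
    refine ⟨(inv (L y)).left ⁻¹ᵁ U, ?_, ?_, fun _ i hi => ?_⟩
    · haveI : IsIso (inv (L y)).left := (Over.forget _).map_isIso (inv (L y))
      exact hU.preimage_of_isIso _
    · intro z hz
      have hz' : (inv (L y)).left z ∈ irreducibleComponent e := hUC0 hz
      rw [← hcc] at hz'
      have h1 : (L y).left ((inv (L y)).left z) ∈ connectedComponent ((L y).left e) :=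
        (L y).left.continuous.image_connectedComponent_subset e ⟨_, hz', rfl⟩
      rw [left_apply_inv, hedef, eta_apply_L, hyh, hcc, ← huniq h Y hY hhY] at h1
      exact h1
    · -- g i ∈ V
      have hhWi : h ∈ W i := by
        apply hhW
        simp only [h𝒲, Finset.coe_image, Set.mem_image]
        exact ⟨i, by simp [hi], rfl⟩
      set ui := (inv (R (x i))).left h with hui
      have huiU : ui ∈ U := hhWi
      have huicl : IsClosed ({ui} : Set G.left) := isClosed_map G _ h hhcl'
      let xu := kpt G ui huicl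
      have hxu : xu.left pt = ui := kpt_apply G ui huicl
      have h1 : xu ≫ R (x i) = y := by
        apply kpt_ext
        rw [Over.comp_left, Scheme.Hom.comp_apply, hxu, hui, left_apply_inv, hyh]
      rw [pt_R] at h1
      have h2 : xu ≫ L y = x i := by
        rw [pt_L, ← h1, inv_mul_cancel_right]
      have h3 : (L y).left ui = g i := by
        rw [← hxu, ← Scheme.Hom.comp_apply, ← Over.comp_left, h2]
        exact kpt_apply G (g i) (hg i)
      change (inv (L y)).left (g i) ∈ U
      rw [← h3, left_inv_apply]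
      exact huiU
  choose V hV1 hV2 hV3 using key
  set s : Set (Set G.left) := Set.range (fun i => irreducibleComponent (g i)) with hs
  have hsfin : s.Finite := Set.finite_range _
  refine ⟨⨆ Y ∈ s, V Y, ?_, fun i => ?_⟩
  · refine IsAffineOpen.biSup_of_disjoint hsfin (fun Y _ => hV1 Y) ?_
    rintro _ ⟨i, rfl⟩ _ ⟨j, rfl⟩ hne
    change Disjoint (V _) (V _)
    rw [← TopologicalSpace.Opens.coe_disjoint, Set.disjoint_left]
    intro z hz1 hz2
    apply hne
    have h1 := huniq z _ (irreducibleComponent_mem_irreducibleComponents (g i)) (hV2 _ hz1)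
    have h2 := huniq z _ (irreducibleComponent_mem_irreducibleComponents (g j)) (hV2 _ hz2)
    change irreducibleComponent (g i) = irreducibleComponent (g j)
    rw [h1, h2]
  · have h1 : g i ∈ V (irreducibleComponent (g i)) :=
      hV3 _ (irreducibleComponent_mem_irreducibleComponents (g i)) i mem_irreducibleComponent
    have h2 : V (irreducibleComponent (g i)) ≤ ⨆ Y ∈ s, V Y :=
      le_iSup₂_of_le (irreducibleComponent (g i)) ⟨i, rfl⟩ le_rfl
    exact h2 h1

end Groth.Agent.Helper4.GrpAffC
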