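import Mathlib
import Groth.Agent.Helper4.GrpAffC
import Groth.Agent.Helper2.GrpClopen

set_option autoImplicit false
universe u
open CategoryTheory CategoryTheory.Limits MonoidalCategory CartesianMonoidalCategory MonObj GrpObj AlgebraicGeometry
open Groth.Agent.Helper2 Groth.Agent.Helper4.GrpAffA Groth.Agent.Helper4.GrpAffB
  Groth.Agent.Helper4.GrpAffC

namespace Groth.Agent.Helper4.GrpAffD

variable {K : Type u} [Field K] (G : Over (Spec (CommRingCat.of K))) [GrpObj G]

/-- the map `(g, h) ↦ g h⁻¹` on `U × U` -/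
noncomputable abbrev divMap (U : G.left.Opens) :
    Over.mk (U.ι ≫ G.hom) ⊗ Over.mk (U.ι ≫ G.hom) ⟶ G :=
  ((Over.homMk U.ι rfl : Over.mk (U.ι ≫ G.hom) ⟶ G) ⊗ₘ
    ((Over.homMk U.ι rfl : Over.mk (U.ι ≫ G.hom) ⟶ G) ≫ ι[G])) ≫ μ[G]

lemma range_divMap (U : G.left.Opens) :
    Set.range (divMap G U).left = μ[G].left '' ((fst G G).left ⁻¹' (U : Set G.left) ∩
      (snd G G).left ⁻¹' (ι[G].left '' (U : Set G.left))) := by
  rw [divMap, Over.comp_left, Scheme.Hom.comp_base, TopCat.coe_comp, Set.range_comp]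
  congr 1
  rw [Over.tensorHom_left, Scheme.Pullback.range_map]
  congr 2
  · simp
  · rw [Over.comp_left, Scheme.Hom.comp_base, TopCat.coe_comp, Set.range_comp]
    simp


lemma isOpen_range_divMap (U : G.left.Opens) : IsOpen (Set.range (divMap G U).left) := by
  rw [range_divMap]
  apply GrpClopen.isOpenMap_mul G
  refine (U.2.preimage (fst G G).left.continuous).inter (IsOpen.preimage (snd G G).left.continuous ?_)
  haveI : IsIso ι[G].left := (Over.forget _).map_isIso ι[G]
  exact ι[G].left.homeomorph.isOpenMap _ U.2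

variable [IsAlgClosed K] [LocallyOfFiniteType G.hom]

theorem main (U : G.left.Opens) (hne : (U : Set ↥G.left).Nonempty)
    (hU : (U : Set ↥G.left) ⊆ connectedComponent (η[G].left (pt (K := K)))) :
    connectedComponent (η[G].left (pt (K := K))) ⊆ Set.range (divMap G U).left := by
  haveI : JacobsonSpace G.left := LocallyOfFiniteType.jacobsonSpace G.hom
  obtain ⟨hopen, hcc, huniq⟩ := comp_facts G
  set e := η[G].left (pt (K := K)) with hedef
  set C0 := connectedComponent e with hC0
  have hirr : IsIrreducible C0 := by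
    rw [hC0, hcc]; exact isIrreducible_irreducibleComponent
  -- closed points of C0 are in the range
  have hclosed : ∀ z ∈ C0, IsClosed ({z} : Set G.left) → z ∈ Set.range (divMap G U).left := by
    intro z hz hzcl
    let xz := kpt G z hzcl
    have hxz : xz.left pt = z := kpt_apply G z hzcl
    have hφe : (L xz).left e = z := by rw [hedef, eta_apply_L, hxz]
    have hφC0 : ∀ c ∈ C0, (L xz).left c ∈ C0 := by
      intro c hc
      have h1 : (L xz).left c ∈ connectedComponent ((L xz).left e) :=
        (L xz).left.continuous.image_connectedComponent_subset e ⟨c, hc, rfl⟩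
      rw [hφe, ← connectedComponent_eq hz] at h1
      exact h1
    let O2 : G.left.Opens := (inv (L xz)).left ⁻¹ᵁ U
    have hne1 : (C0 ∩ (U : Set G.left)).Nonempty := by
      obtain ⟨u, hu⟩ := hne
      exact ⟨u, hU hu, hu⟩
    have hne2 : (C0 ∩ (O2 : Set G.left)).Nonempty := by
      obtain ⟨u, hu⟩ := hne
      refine ⟨(L xz).left u, hφC0 u (hU hu), ?_⟩
      change (inv (L xz)).left ((L xz).left u) ∈ U
      rw [left_inv_apply]; exact hu
    obtain ⟨a0, -, ha0U, ha0O⟩ := hirr.2 _ _ U.2 O2.2 hne1 hne2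
    obtain ⟨a, ⟨haU, haO⟩, hacl⟩ := nonempty_inter_closedPoints (X := G.left)
      (Z := (U : Set G.left) ∩ (O2 : Set G.left)) ⟨a0, ha0U, ha0O⟩
      (U.2.inter O2.2).isLocallyClosed
    have hacl' : IsClosed ({a} : Set G.left) := hacl
    set h := (inv (L xz)).left a with hh
    have hhU : h ∈ U := haO
    have hhcl : IsClosed ({h} : Set G.left) := isClosed_map G _ a hacl'
    let xa := kpt G a hacl'
    let xh := kpt G h hhcl
    have hxa : xa.left pt = a := kpt_apply G a hacl'
    have hxh : xh.left pt = h := kpt_apply G h hhcl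
    have h1 : xh ≫ L xz = xa := by
      apply kpt_ext
      rw [Over.comp_left, Scheme.Hom.comp_apply, hxh, hh, left_apply_inv, hxa]
    rw [pt_L] at h1
    have h2 : xz = xa * xh⁻¹ := by rw [← h1, mul_inv_cancel_right]
    rw [range_divMap]
    refine ⟨(lift xa (xh ≫ ι[G])).left pt, ⟨?_, ?_⟩, ?_⟩
    · rw [Set.mem_preimage, ← Scheme.Hom.comp_apply, ← Over.comp_left, lift_fst, hxa]
      exact haU
    · rw [Set.mem_preimage, ← Scheme.Hom.comp_apply, ← Over.comp_left, lift_snd, Over.comp_left,
        Scheme.Hom.comp_apply, hxh]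
      exact ⟨h, hhU, rfl⟩
    · rw [← Scheme.Hom.comp_apply, ← Over.comp_left, ← Hom.mul_def, ← Hom.inv_def, ← h2, hxz]
  -- conclude by the Jacobson property
  intro z hz
  by_contra hzr
  have hcl : IsClosed (C0 ∩ (Set.range (divMap G U).left)ᶜ) :=
    isClosed_connectedComponent.inter (isOpen_range_divMap G U).isClosed_compl
  obtain ⟨c, ⟨hcC0, hcr⟩, hccl⟩ := nonempty_inter_closedPoints (X := G.left)
    (Z := C0 ∩ (Set.range (divMap G U).left)ᶜ) ⟨z, hz, hzr⟩ hcl.isLocallyClosed
  exact hcr (hclosed c hcC0 hccl)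

end Groth.Agent.Helper4.GrpAffD
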