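import Mathlib
import Groth.Agent.Helper4.GrpConnA
import Groth.Agent.Helper4.GrpAffC
import Groth.Agent.Helper2.SmoothRegSch

set_option autoImplicit false
universe u
open CategoryTheory CategoryTheory.Limits MonoidalCategory CartesianMonoidalCategory MonObj GrpObj AlgebraicGeometry
open Groth.Agent.Helper2 Groth.Agent.Helper4.GrpAffA Groth.Agent.Helper4.GrpAffB
  Groth.Agent.Helper4.GrpAffC

namespace Groth.Agent.Helper4.GrpConnB

section cat

variable {S : Scheme.{u}} {G X : Over S} [GrpObj G] (a : AlgGrp.Action G X)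

/-- translation on `X` by a point of `G` -/
noncomputable def τ (x : 𝟙_ (Over S) ⟶ G) : X ⟶ X := HS2.smul a (toUnit X ≫ x) (𝟙 X)

lemma τ_τ (x y : 𝟙_ (Over S) ⟶ G) : τ a x ≫ τ a y = τ a (y * x) := by
  have h1 : τ a x ≫ toUnit X = toUnit X := toUnit_unique _ _
  rw [τ, τ, τ, HS2.comp_smul, Category.comp_id, ← Category.assoc, ← τ, h1, τ, ← HS2.mul_smul,
    MonObj.comp_mul]

lemma τ_one : τ a (1 : 𝟙_ (Over S) ⟶ G) = 𝟙 X := by
  rw [τ, MonObj.comp_one, HS2.one_smul]

instance isIso_τ (x : 𝟙_ (Over S) ⟶ G) : IsIso (τ a x) :=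
  ⟨τ a x⁻¹, by rw [τ_τ, inv_mul_cancel, τ_one], by rw [τ_τ, mul_inv_cancel, τ_one]⟩

lemma comp_orbitMap {T : Over S} (g : T ⟶ G) (x₀ : 𝟙_ (Over S) ⟶ X) :
    g ≫ a.orbitMap x₀ = HS2.smul a g (toUnit T ≫ x₀) := by
  have : a.orbitMap x₀ = HS2.smul a (𝟙 G) (toUnit G ≫ x₀) := rfl
  rw [this, HS2.comp_smul, Category.comp_id, ← Category.assoc]
  congr 2
  exact toUnit_unique _ _

lemma L_orbitMap (x : 𝟙_ (Over S) ⟶ G) (x₀ : 𝟙_ (Over S) ⟶ X) :
    L x ≫ a.orbitMap x₀ = a.orbitMap x₀ ≫ τ a x := by
  rw [comp_orbitMap, L, HS2.mul_smul, ← comp_orbitMap, Category.id_comp, τ, HS2.comp_smul,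
    Category.comp_id, ← Category.assoc]
  congr 2
  exact toUnit_unique _ _

end cat


section main

variable {k : Type u} [Field k] [IsAlgClosed k] (G X : Over (Spec (CommRingCat.of k))) [GrpObj G]
  [LocallyOfFiniteType G.hom] (a : AlgGrp.Action G X) (x₀ : 𝟙_ (Over (Spec (CommRingCat.of k))) ⟶ X)
  (H : Over (Spec (CommRingCat.of k))) [GrpObj H] (i : H ⟶ G) [IsMonHom i]
  (hH : ∀ (T : Over (Spec (CommRingCat.of k))) (g : T ⟶ G),
    (∃ h : T ⟶ H, h ≫ i = g) ↔ g ≫ a.orbitMap x₀ = toUnit T ≫ x₀)
  [ConnectedSpace ↥H.left]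

include hH in
/-- points of `G` with the same image in `X` lie in the same connected component -/
theorem fibre_claim (q₁ q₂ : G.left) (hq₁ : (a.orbitMap x₀).left q₁ = (a.orbitMap x₀).left q₂) :
    q₂ ∈ connectedComponent q₁ := by
  obtain ⟨hopen, hcc, huniq⟩ := comp_facts G
  set π := a.orbitMap x₀ with hπ
  set e := η[G].left (pt (K := k)) with hedef
  set C0 := irreducibleComponent e with hC0def
  have hC0 : C0 ∈ irreducibleComponents G.left := irreducibleComponent_mem_irreducibleComponents e
  have he : e ∈ C0 := mem_irreducibleComponent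
  -- a field valued point of the fibre product over (q₁, q₂)
  obtain ⟨w, hw1, hw2⟩ := Scheme.Pullback.exists_preimage_pullback (f := π.left) (g := π.left)
    q₁ q₂ hq₁
  let P := pullback π.left π.left
  let tmap : Spec (P.residueField w) ⟶ P := P.fromSpecResidueField w
  have hcond : pullback.fst π.left π.left ≫ G.hom = pullback.snd π.left π.left ≫ G.hom := by
    rw [← Over.w π, ← Category.assoc, pullback.condition, Category.assoc]
  let T : Over (Spec (CommRingCat.of k)) := Over.mk (tmap ≫ pullback.fst π.left π.left ≫ G.hom)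
  let a' : T ⟶ G := Over.homMk (tmap ≫ pullback.fst π.left π.left) (by simp [T])
  let b' : T ⟶ G := Over.homMk (tmap ≫ pullback.snd π.left π.left) (by
    simp only [T, Over.mk_hom, Over.mk_left, Category.assoc]
    rw [hcond])
  have hab : a' ≫ π = b' ≫ π := by
    apply Over.OverMorphism.ext
    simp only [Over.comp_left, a', b', Over.homMk_left, Category.assoc]
    rw [pullback.condition]
  set c := a'⁻¹ * b' with hc
  have hcπ : c ≫ π = toUnit T ≫ x₀ := by
    rw [hπ, comp_orbitMap, hc, HS2.mul_smul, ← comp_orbitMap, ← hπ, ← hab, hπ, comp_orbitMap,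
      HS2.smul_inv_smul]
  obtain ⟨h, hh⟩ := (hH T c).mpr hcπ
  let t : T.left := IsLocalRing.closedPoint (P.residueField w)
  have hat : a'.left t = q₁ := by
    simp only [a', Over.homMk_left, Scheme.Hom.comp_apply]
    rw [← hw1]
    congr 1
    exact Scheme.fromSpecResidueField_apply _ _
  have hbt : b'.left t = q₂ := by
    simp only [b', Over.homMk_left, Scheme.Hom.comp_apply]
    rw [← hw2]
    congr 1
    exact Scheme.fromSpecResidueField_apply _ _
  -- the point of `c` lies in the identity component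
  have hct : c.left t ∈ C0 := by
    rw [← hh, Over.comp_left, Scheme.Hom.comp_apply, hC0def, ← hcc]
    have h1 : Set.range i.left ⊆ connectedComponent (i.left (η[H].left pt)) :=
      (isPreconnected_range i.left.continuous).subset_connectedComponent ⟨_, rfl⟩
    have h2 : i.left (η[H].left (pt (K := k))) = e := by
      rw [← Scheme.Hom.comp_apply, ← Over.comp_left, IsMonHom.one_hom]
    rw [h2] at h1
    exact h1 ⟨_, rfl⟩
  have hb' : b'⁻¹ = c⁻¹ * a'⁻¹ := by
    rw [hc, _root_.mul_inv_rev, _root_.inv_inv, _root_.mul_assoc, mul_inv_cancel, _root_.mul_one]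
  set z' := (lift c⁻¹ a'⁻¹).left t with hz'
  have hz1 : (fst G G).left z' ∈ C0 := by
    rw [hz', ← Scheme.Hom.comp_apply, ← Over.comp_left, lift_fst, Hom.inv_def, Over.comp_left,
      Scheme.Hom.comp_apply]
    exact HS6.inv_mem G C0 hC0 pt he hct
  have hz2 : (snd G G).left z' = ι[G].left q₁ := by
    rw [hz', ← Scheme.Hom.comp_apply, ← Over.comp_left, lift_snd, Hom.inv_def, Over.comp_left,
      Scheme.Hom.comp_apply, hat]
  have hz3 : μ[G].left z' = ι[G].left q₂ := by
    rw [hz', ← Scheme.Hom.comp_apply, ← Over.comp_left, ← Hom.mul_def, ← hb', Hom.inv_def,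
      Over.comp_left, Scheme.Hom.comp_apply, hbt]
  have hstab := HS5.stable (HS2.selfAction G) C0 hC0 pt he (irreducibleComponent (ι[G].left q₁))
    (irreducibleComponent_mem_irreducibleComponents _)
  have hmem : ι[G].left q₂ ∈ irreducibleComponent (ι[G].left q₁) := by
    rw [← hz3]
    exact hstab ⟨z', ⟨hz1, by rw [Set.mem_preimage, hz2]; exact mem_irreducibleComponent⟩, rfl⟩
  rw [← hcc] at hmem
  have h3 : ι[G].left (ι[G].left q₂) ∈ connectedComponent (ι[G].left (ι[G].left q₁)) :=
    ι[G].left.continuous.image_connectedComponent_subset _ ⟨_, hmem, rfl⟩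
  have hιι : ∀ z : G.left, ι[G].left (ι[G].left z) = z := by
    intro z
    rw [← Scheme.Hom.comp_apply, ← Over.comp_left, GrpObj.inv_comp_inv]
    rfl
  rwa [hιι, hιι] at h3


include hH in
theorem main [QuasiCompact G.hom] [Smooth X.hom] [ConnectedSpace ↥X.left]
    (hsurj : Surjective (a.orbitMap x₀).left) : ConnectedSpace ↥G.left := by
  haveI : JacobsonSpace G.left := LocallyOfFiniteType.jacobsonSpace G.hom
  obtain ⟨hopen, hcc, huniq⟩ := comp_facts G
  set π := a.orbitMap x₀ with hπ
  -- `X` is irreducible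
  haveI : CompactSpace G.left := QuasiCompact.compactSpace_of_compactSpace G.hom
  haveI : CompactSpace X.left := π.left.surjective.compactSpace π.left.continuous
  haveI : IsLocallyNoetherian X.left := LocallyOfFiniteType.isLocallyNoetherian X.hom
  haveI : IsNoetherian X.left := {}
  haveI : IrreducibleSpace X.left := by
    apply GrpConnA.irreducibleSpace_of_domain_stalks
    intro z
    haveI := SmoothRegSch.stalk_regular_of_smooth k X.left X.hom z
    exact Groth.Agent.Lead.RegLocal.isDomain_of_isRegularLocalRing _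
  set ξ := genericPoint X.left with hξ
  have hτξ : ∀ x : 𝟙_ (Over (Spec (CommRingCat.of k))) ⟶ G, (τ a x).left ξ = ξ := by
    intro x
    haveI : IsIso (τ a x).left := (Over.forget _).map_isIso (τ a x)
    have h1 := (genericPoint_spec X.left).image (τ a x).left.continuous
    have h2 : Set.range ⇑(τ a x).left = Set.univ := (τ a x).left.homeomorph.surjective.range_eq
    rw [Set.image_univ, h2, closure_univ] at h1
    exact h1.eq (genericPoint_spec X.left)
  obtain ⟨q₀, hq₀⟩ := π.left.surjective ξ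
  -- every translate of `q₀` by a closed point lies in the component of `q₀`
  have hkey : ∀ x : 𝟙_ (Over (Spec (CommRingCat.of k))) ⟶ G,
      (L x).left q₀ ∈ connectedComponent q₀ := by
    intro x
    apply fibre_claim G X a x₀ H i hH
    rw [← Scheme.Hom.comp_apply (L x).left, ← Over.comp_left, L_orbitMap, Over.comp_left,
      Scheme.Hom.comp_apply, hq₀, hτξ]
  -- conclude
  rw [connectedSpace_iff_connectedComponent]
  refine ⟨q₀, Set.eq_univ_of_forall fun y => ?_⟩
  have hoY : IsOpen (connectedComponent y) := by rw [hcc]; exact hopen y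
  have hoY0 : IsOpen (connectedComponent q₀) := by rw [hcc]; exact hopen q₀
  obtain ⟨y₁, hy₁Y, hy₁cl⟩ := nonempty_inter_closedPoints (X := G.left)
    (Z := connectedComponent y) ⟨y, mem_connectedComponent⟩ hoY.isLocallyClosed
  obtain ⟨y₀, hy₀Y, hy₀cl⟩ := nonempty_inter_closedPoints (X := G.left)
    (Z := connectedComponent q₀) ⟨q₀, mem_connectedComponent⟩ hoY0.isLocallyClosed
  have hy₁cl' : IsClosed ({y₁} : Set G.left) := hy₁cl
  have hy₀cl' : IsClosed ({y₀} : Set G.left) := hy₀cl
  let x₁ := kpt G y₁ hy₁cl'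
  let x₀' := kpt G y₀ hy₀cl'
  set g := x₁ * x₀'⁻¹ with hg
  have hLg : (L g).left y₀ = y₁ := by
    rw [← kpt_apply G y₀ hy₀cl', ← Scheme.Hom.comp_apply, ← Over.comp_left, pt_L, hg,
      inv_mul_cancel_right]
    exact kpt_apply G y₁ hy₁cl'
  have h1 : (L g).left q₀ ∈ connectedComponent ((L g).left y₀) := by
    refine (L g).left.continuous.image_connectedComponent_subset y₀ ⟨q₀, ?_, rfl⟩
    rw [← connectedComponent_eq hy₀Y]
    exact mem_connectedComponent
  rw [hLg, ← connectedComponent_eq hy₁Y] at h1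
  have h2 := hkey g
  rw [connectedComponent_eq h2, ← connectedComponent_eq h1]
  exact mem_connectedComponent

end main

end Groth.Agent.Helper4.GrpConnB
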