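import Mathlib
import Groth.Prelude.Def_CohCx
import Groth.Agent.Helper1.SiteCoh

/-! Free abelian sheaves `ℤ_U` on a small site as test objects: refinement along epimorphisms,
separatedness. -/

set_option autoImplicit false
set_option linter.unusedSectionVars false
universe u

open CategoryTheory Limits Opposite

namespace Groth.Agent.Helper4.HDUsite

open Groth.Agent.Helper1.SiteCoh

variable {C : Type u} [SmallCategory C] {J : GrothendieckTopology C}

/-- an epimorphism onto `ℤ_U` splits locally -/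
theorem exists_covering_of_epi (U : C) {A' : Sheaf J AddCommGrpCat.{u}}
    (π : A' ⟶ CohCx.freeSheaf J U) [Epi π] :
    ∃ S ∈ J U, ∀ (V : C) (g : V ⟶ U), S.arrows g →
      ∃ l : CohCx.freeSheaf J V ⟶ A', l ≫ π = CohCx.freeSheafMap J g := by
  haveI hls : Sheaf.IsLocallySurjective π :=
    (Sheaf.isLocallySurjective_iff_epi' (A := AddCommGrpCat.{u}) π).mpr inferInstance
  refine ⟨Presheaf.imageSieve π.hom (univ (J := J) U), Presheaf.imageSieve_mem J π.hom _, ?_⟩
  intro V g hg
  obtain ⟨a, ha⟩ := hg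
  refine ⟨(homEquiv V A').symm a, ?_⟩
  apply (homEquiv V (CohCx.freeSheaf J U)).injective
  rw [homEquiv_comp, Equiv.apply_symm_apply]
  refine ha.trans ?_
  have h := homEquiv_map (J := J) g (𝟙 (freeY J U))
  rw [Category.comp_id] at h
  exact h.symm

/-- a morphism `ℤ_V ⟶ G` vanishing on a covering family is zero -/
theorem eq_zero_of_cover (V : C) (G : Sheaf J AddCommGrpCat.{u}) (t : CohCx.freeSheaf J V ⟶ G)
    {ι : Type u} (Yf : ι → C) (f : ∀ i, Yf i ⟶ V) (hf : Sieve.ofArrows Yf f ∈ J V)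
    (h : ∀ i, CohCx.freeSheafMap J (f i) ≫ t = 0) : t = 0 := by
  apply (homEquiv V G).injective
  have hsep := ((isSheaf_iff_isSheaf_of_type J _).1
    ((Presheaf.isSheaf_iff_isSheaf_forget J G.obj (forget AddCommGrpCat.{u})).1 G.property)).isSeparated
  refine (hsep _ hf).ext ?_
  intro W g hg
  obtain ⟨Z, k, q, ⟨i⟩, rfl⟩ := hg
  have h1 := homEquiv_map (J := J) (f i) t
  have h2 : homEquiv (Yf i) G (freeMap J (f i) ≫ t) = homEquiv (Yf i) G 0 := congrArg _ (h i)
  have h0 : ∀ (T : C), homEquiv T G (0 : freeY J T ⟶ G) = 0 := fun T => (homAddEquiv T G).map_zero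
  have h3 : homEquiv V G (0 : freeY J V ⟶ G) = 0 := h0 V
  change G.obj.map (k ≫ f i).op (homEquiv V G t) = G.obj.map (k ≫ f i).op (homEquiv V G 0)
  rw [h3, op_comp, G.obj.map_comp]
  change G.obj.map k.op (G.obj.map (f i).op (homEquiv V G t)) = _
  rw [← h1, h2, h0, map_zero, map_zero]

end Groth.Agent.Helper4.HDUsite
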