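import Mathlib
import Groth.Prelude.Def_CohCx
import Groth.Agent.Helper4.HDUcls
import Groth.Agent.Helper4.HDUsite
import Groth.Agent.Helper4.HDUrep
import Groth.Agent.Helper4.MilnorInj

/-! Injectivity on sections of cohomology sheaves from injectivity of hypercohomology on a
cofinal system of coverings. -/

set_option autoImplicit false
set_option linter.unusedSectionVars false
universe w u

open CategoryTheory Limits Opposite

namespace Groth.Agent.Helper4.HDUinj

open Groth.Agent.Helper4.HDUcls Groth.Agent.Helper4.HDUsite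

variable {C : Type u} [SmallCategory C] {J : GrothendieckTopology C}
  [HasDerivedCategory.{w} (Sheaf J AddCommGrpCat.{u})]

/-- chain level: a "section" of `Hᵐ(I)` killed by `α` vanishes, if classes in `Hᵐ(Y, I)` killed
by `α` vanish for `Y` in suitable coverings. -/
theorem eq_zero_of_local (I I' : CochainComplex (Sheaf J AddCommGrpCat.{u}) ℤ) [I.IsKInjective]
    [I'.IsKInjective] (α : I ⟶ I') (V : C) (m : ℤ)
    (hloc : ∀ T ∈ J V, ∃ (ι : Type u) (Y : ι → C) (f : ∀ i, Y i ⟶ V), (∀ i, T.arrows (f i)) ∧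
      Sieve.ofArrows Y f ∈ J V ∧ ∀ i,
        ∀ y : (DerivedCategory.singleFunctor _ 0).obj (CohCx.freeSheaf J (Y i)) ⟶
          (DerivedCategory.Q.obj I)⟦m⟧, y ≫ (DerivedCategory.Q.map α)⟦m⟧' = 0 → y = 0)
    (t : CohCx.freeSheaf J V ⟶ I.homology m)
    (ht : t ≫ HomologicalComplex.homologyMap α m = 0) : t = 0 := by
  obtain ⟨A₁, π₁, _, z, hz, e1⟩ :=
    I.eq_liftCycles_homologyπ_up_to_refinements t (m + 1) (by simp)
  have hz' : (z ≫ α.f m) ≫ I'.d m (m + 1) = 0 := by
    rw [Category.assoc, α.comm, ← Category.assoc, hz, zero_comp]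
  have e2 : I'.liftCycles (z ≫ α.f m) (m + 1) (by simp) hz' ≫ I'.homologyπ m = 0 := by
    have h1 : I'.liftCycles (z ≫ α.f m) (m + 1) (by simp) hz' =
        I.liftCycles z (m + 1) (by simp) hz ≫ HomologicalComplex.cyclesMap α m := by
      rw [← cancel_mono (I'.iCycles m)]
      simp
    rw [h1, Category.assoc, ← HomologicalComplex.homologyπ_naturality, ← Category.assoc, ← e1,
      Category.assoc, ht, comp_zero]
  obtain ⟨A₂, π₂, _, w, e3⟩ := (I'.liftCycles_comp_homologyπ_eq_zero_iff_up_to_refinements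
    (m - 1) m (m + 1) (by simp) (by simp) (z ≫ α.f m) hz').1 e2
  haveI : Epi (π₂ ≫ π₁) := epi_comp _ _
  obtain ⟨S, hS, hl⟩ := exists_covering_of_epi V (π₂ ≫ π₁)
  obtain ⟨ι, Y, f, hfT, hcov, hY⟩ := hloc S hS
  apply eq_zero_of_cover V _ t Y f hcov
  intro i
  obtain ⟨l, hl⟩ := hl _ (f i) (hfT i)
  have hzi : (l ≫ π₂ ≫ z) ≫ I.d m (m + 1) = 0 := by
    simp only [Category.assoc, hz, comp_zero]
  have h1 : cls _ I' m ((l ≫ π₂ ≫ z) ≫ α.f m)
      (by rw [Category.assoc, α.comm, ← Category.assoc, hzi, zero_comp]) = 0 := by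
    rw [cls_eq_zero_iff]
    refine ⟨l ≫ w, ?_⟩
    simp only [Category.assoc]
    rw [← e3]
  rw [cls_postcomp α (l ≫ π₂ ≫ z) hzi] at h1
  have h2 := hY i _ h1
  rw [cls_eq_zero_iff] at h2
  obtain ⟨g, hg⟩ := h2
  rw [← hl, Category.assoc, Category.assoc, e1]
  have h3 : l ≫ π₂ ≫ I.liftCycles z (m + 1) (by simp) hz =
      I.liftCycles (l ≫ π₂ ≫ z) (m + 1) (by simp) hzi := by
    rw [← cancel_mono (I.iCycles m)]
    simp
  rw [← Category.assoc, ← Category.assoc, Category.assoc l, h3]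
  exact (I.liftCycles_comp_homologyπ_eq_zero_iff_up_to_refinements
    (m - 1) m (m + 1) (by simp) (by simp) (l ≫ π₂ ≫ z) hzi).2 ⟨_, 𝟙 _, inferInstance, g, by
      rw [Category.id_comp, hg]⟩

instance : IsGrothendieckAbelian.{u} (Sheaf J AddCommGrpCat.{u}) := inferInstance

/-- derived-category level, for a general morphism `φ : L ⟶ K'` -/
theorem injective_sections_of_local (L K' : DerivedCategory (Sheaf J AddCommGrpCat.{u}))
    (φ : L ⟶ K') (V : C) (m : ℤ)
    (hloc : ∀ T ∈ J V, ∃ (ι : Type u) (Y : ι → C) (f : ∀ i, Y i ⟶ V), (∀ i, T.arrows (f i)) ∧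
      Sieve.ofArrows Y f ∈ J V ∧ ∀ i,
        ∀ y : CohCx.HDU L m (Y i), y ≫ φ⟦m⟧' = 0 → y = 0) :
    Function.Injective (((DerivedCategory.homologyFunctor _ m).map φ).hom.app (op V)) := by
  obtain ⟨I, hI, ⟨eL⟩⟩ := Groth.Agent.Helper4.HDUrep.exists_kinj_rep L
  obtain ⟨I', hI', ⟨eK⟩⟩ := Groth.Agent.Helper4.HDUrep.exists_kinj_rep K'
  obtain ⟨α, hα⟩ := Groth.Agent.Helper4.HDUrep.exists_Q_map_eq I I' (eL.inv ≫ φ ≫ eK.hom)
  rw [injective_iff_map_eq_zero]
  intro s hs
  let G := DerivedCategory.homologyFunctor (Sheaf J AddCommGrpCat.{u}) m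
  let t₀ : CohCx.freeSheaf J V ⟶ G.obj L := (Groth.Agent.Helper1.SiteCoh.homEquiv V _).symm s
  let ψ : G.obj L ≅ I.homology m :=
    G.mapIso eL ≪≫ (DerivedCategory.homologyFunctorFactors _ m).app I
  let ψ' : G.obj K' ≅ I'.homology m :=
    G.mapIso eK ≪≫ (DerivedCategory.homologyFunctorFactors _ m).app I'
  have hsq : G.map φ ≫ ψ'.hom = ψ.hom ≫ HomologicalComplex.homologyMap α m := by
    have hn := (DerivedCategory.homologyFunctorFactors (Sheaf J AddCommGrpCat.{u}) m).hom.naturality α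
    have e : G.map φ ≫ G.map eK.hom = G.map eL.hom ≫ G.map (DerivedCategory.Q.map α) := by
      rw [← Functor.map_comp, ← Functor.map_comp, hα]; simp
    exact (Category.assoc _ _ _).symm.trans ((congrArg (fun x => x ≫
      (DerivedCategory.homologyFunctorFactors (Sheaf J AddCommGrpCat.{u}) m).hom.app I') e).trans
      ((Category.assoc _ _ _).trans ((congrArg (fun x => G.map eL.hom ≫ x) hn).trans
        (Category.assoc _ _ _).symm)))
  have ht₀ : t₀ ≫ G.map φ = 0 := by
    apply (Groth.Agent.Helper1.SiteCoh.homEquiv V _).injective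
    rw [Groth.Agent.Helper1.SiteCoh.homEquiv_comp, Equiv.apply_symm_apply]
    exact hs.trans ((Groth.Agent.Helper1.SiteCoh.homAddEquiv V _).map_zero).symm
  have h0 : t₀ ≫ ψ.hom = 0 := by
    refine eq_zero_of_local I I' α V m ?_ (t₀ ≫ ψ.hom) (by
      rw [Category.assoc, ← hsq, ← Category.assoc, ht₀, zero_comp])
    intro T hT
    obtain ⟨ι, Y, f, hfT, hcov, hY⟩ := hloc T hT
    refine ⟨ι, Y, f, hfT, hcov, fun i y hy => ?_⟩
    have h1 := hY i (y ≫ eL.inv⟦m⟧') (by
      rw [Category.assoc, ← Functor.map_comp]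
      have : eL.inv ≫ φ = DerivedCategory.Q.map α ≫ eK.inv := by
        rw [hα]; simp
      rw [this, Functor.map_comp, ← Category.assoc, hy, zero_comp])
    have h2 := congrArg (fun x => x ≫ eL.hom⟦m⟧') h1
    simpa [← Functor.map_comp] using h2
  have h1 : t₀ = 0 := by rw [← cancel_mono ψ.hom, h0, zero_comp]
  have h2 : s = Groth.Agent.Helper1.SiteCoh.homEquiv V _ t₀ := (Equiv.apply_symm_apply _ _).symm
  rw [h2, h1]
  exact (Groth.Agent.Helper1.SiteCoh.homAddEquiv V _).map_zero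

end Groth.Agent.Helper4.HDUinj
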