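import Mathlib
import Groth.Prelude.Def_CohCx
import Groth.Agent.Helper1.SiteCoh
import Groth.Agent.Helper4.HDUcls

/-! The map `Zᵠ(L)(U) → Hᵠ(U, L)` (cocycle ↦ class), for an arbitrary `HasDerivedCategory`
instance. -/

set_option autoImplicit false
set_option linter.unusedSectionVars false
universe w u

open CategoryTheory Limits Opposite

namespace Groth.Agent.Helper4.HDUkap

open Groth.Agent.Helper4.HDUcls Groth.Agent.Helper1.SiteCoh

section
variable {C : Type u} [SmallCategory C] {J : GrothendieckTopology C}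

lemma symm_map {U V : C} (g : V ⟶ U) (G : Sheaf J AddCommGrpCat.{u}) (s : G.obj.obj (op U)) :
    (homEquiv V G).symm (G.obj.map g.op s) = CohCx.freeSheafMap J g ≫ (homEquiv U G).symm s := by
  apply (homEquiv V G).injective
  rw [Equiv.apply_symm_apply]
  have h := homEquiv_map g ((homEquiv U G).symm s)
  rw [Equiv.apply_symm_apply] at h
  exact h.symm

lemma symm_comp (U : C) {G G' : Sheaf J AddCommGrpCat.{u}} (φ : G ⟶ G') (s : G.obj.obj (op U)) :
    (homEquiv U G').symm (φ.hom.app (op U) s) = (homEquiv U G).symm s ≫ φ := by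
  apply (homEquiv U G').injective
  rw [Equiv.apply_symm_apply, homEquiv_comp, Equiv.apply_symm_apply]

variable (L : CochainComplex (Sheaf J AddCommGrpCat.{u}) ℤ) (q : ℤ)

/-- the cocycle `ℤ_U ⟶ Lᵠ` of a section of `Zᵠ(L)` over `U` -/
noncomputable def cocyc (U : C) (s : (L.cycles q).obj.obj (op U)) :
    CohCx.freeSheaf J U ⟶ L.X q :=
  (homEquiv U (L.cycles q)).symm s ≫ L.iCycles q

lemma cocyc_d (U : C) (s : (L.cycles q).obj.obj (op U)) :
    cocyc L q U s ≫ L.d q (q + 1) = 0 := by
  simp [cocyc]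

lemma cocyc_add (U : C) (s t : (L.cycles q).obj.obj (op U)) :
    cocyc L q U (s + t) = cocyc L q U s + cocyc L q U t := by
  unfold cocyc
  rw [← Preadditive.add_comp]
  congr 1
  exact (homAddEquiv U (L.cycles q)).symm.map_add s t

lemma cocyc_map {U V : C} (g : V ⟶ U) (s : (L.cycles q).obj.obj (op U)) :
    cocyc L q V ((L.cycles q).obj.map g.op s) = CohCx.freeSheafMap J g ≫ cocyc L q U s := by
  unfold cocyc
  rw [symm_map, Category.assoc]

lemma cocyc_cyclesMap {L' : CochainComplex (Sheaf J AddCommGrpCat.{u}) ℤ} (α : L ⟶ L') (U : C)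
    (s : (L.cycles q).obj.obj (op U)) :
    cocyc L' q U ((HomologicalComplex.cyclesMap α q).hom.app (op U) s) =
      cocyc L q U s ≫ α.f q := by
  unfold cocyc
  rw [symm_comp, Category.assoc, Category.assoc, HomologicalComplex.cyclesMap_i]

end

variable {C : Type u} [SmallCategory C] {J : GrothendieckTopology C}
  [HasDerivedCategory.{w} (Sheaf J AddCommGrpCat.{u})]
  (L : CochainComplex (Sheaf J AddCommGrpCat.{u}) ℤ) (q : ℤ)

lemma cls_congr {A : Sheaf J AddCommGrpCat.{u}} {f g : A ⟶ L.X q} (h : f = g)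
    (hf : f ≫ L.d q (q + 1) = 0) (hg : g ≫ L.d q (q + 1) = 0) :
    cls A L q f hf = cls A L q g hg := by
  subst h; rfl

/-- `Zᵠ(L)(U) → Hᵠ(U, L)` -/
noncomputable def κ (U : C) :
    (L.cycles q).obj.obj (op U) →+ CohCx.HDU (DerivedCategory.Q.obj L) q U :=
  AddMonoidHom.mk' (fun s => cls _ L q (cocyc L q U s) (cocyc_d L q U s)) (by
    intro s t
    rw [← cls_add]
    exact cls_congr L q (cocyc_add L q U s t) _ _)

lemma κ_apply (U : C) (s : (L.cycles q).obj.obj (op U)) :
    κ L q U s = cls _ L q (cocyc L q U s) (cocyc_d L q U s) := rfl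

lemma κ_map {U V : C} (g : V ⟶ U) (s : (L.cycles q).obj.obj (op U)) :
    κ L q V ((L.cycles q).obj.map g.op s) =
      (DerivedCategory.singleFunctor _ 0).map (CohCx.freeSheafMap J g) ≫ κ L q U s := by
  rw [κ_apply, κ_apply, ← cls_precomp]
  exact cls_congr L q (cocyc_map L q g s) _ _

lemma κ_cyclesMap {L' : CochainComplex (Sheaf J AddCommGrpCat.{u}) ℤ} (α : L ⟶ L') (U : C)
    (s : (L.cycles q).obj.obj (op U)) :
    κ L' q U ((HomologicalComplex.cyclesMap α q).hom.app (op U) s) =
      κ L q U s ≫ (DerivedCategory.Q.map α)⟦q⟧' := by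
  rw [κ_apply, κ_apply, ← cls_postcomp]
  exact cls_congr L' q (cocyc_cyclesMap L q α U s) _ _

variable [L.IsKInjective]

lemma κ_surjective (U : C) : Function.Surjective (κ L q U) := by
  intro y
  obtain ⟨f, hf, rfl⟩ := cls_surjective (A := CohCx.freeSheaf J U) (I := L) (n := q) y
  have hf' : f ≫ L.d q (q + 1) = 0 := hf
  refine ⟨homEquiv U (L.cycles q) (L.liftCycles f (q + 1) (by simp) hf'), ?_⟩
  rw [κ_apply]
  apply cls_congr
  unfold cocyc
  rw [Equiv.symm_apply_apply, HomologicalComplex.liftCycles_i]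

lemma κ_eq_zero_iff (U : C) (s : (L.cycles q).obj.obj (op U)) :
    κ L q U s = 0 ↔ ∃ x : (L.X (q - 1)).obj.obj (op U),
      (L.toCycles (q - 1) q).hom.app (op U) x = s := by
  rw [κ_apply, cls_eq_zero_iff]
  constructor
  · rintro ⟨g, hg⟩
    refine ⟨homEquiv U (L.X (q - 1)) g, ?_⟩
    apply (homEquiv U (L.cycles q)).symm.injective
    rw [symm_comp, Equiv.symm_apply_apply, ← cancel_mono (L.iCycles q), Category.assoc,
      HomologicalComplex.toCycles_i, hg]
    rfl
  · rintro ⟨x, rfl⟩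
    refine ⟨(homEquiv U (L.X (q - 1))).symm x, ?_⟩
    unfold cocyc
    rw [symm_comp, Category.assoc, HomologicalComplex.toCycles_i]

end Groth.Agent.Helper4.HDUkap
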