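import Mathlib
import Groth.Prelude.Def_CohCx
import Groth.Agent.Helper4.HDUcls
import Groth.Agent.Helper4.HDUsite
import Groth.Agent.Helper4.HDUrep
import Groth.Agent.Helper4.HDUinj

/-! A section of `Hᵐ(L)` killed by `φ : L ⟶ K'` vanishes on every member `Y` of a covering sieve
on which `Hᵐ(Y, L) ⟶ Hᵐ(Y, K')` is injective. -/

set_option autoImplicit false
set_option linter.unusedSectionVars false
universe w u

open CategoryTheory Limits Opposite

namespace Groth.Agent.Helper4.HDUloc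

open Groth.Agent.Helper4.HDUcls Groth.Agent.Helper4.HDUsite

variable {C : Type u} [SmallCategory C] {J : GrothendieckTopology C}
  [HasDerivedCategory.{w} (Sheaf J AddCommGrpCat.{u})]

theorem exists_sieve_chain (I I' : CochainComplex (Sheaf J AddCommGrpCat.{u}) ℤ) [I.IsKInjective]
    [I'.IsKInjective] (α : I ⟶ I') (V : C) (m : ℤ)
    (t : CohCx.freeSheaf J V ⟶ I.homology m)
    (ht : t ≫ HomologicalComplex.homologyMap α m = 0) :
    ∃ S ∈ J V, ∀ (Y : C) (g : Y ⟶ V), S.arrows g →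
      (∀ y : (DerivedCategory.singleFunctor _ 0).obj (CohCx.freeSheaf J Y) ⟶
          (DerivedCategory.Q.obj I)⟦m⟧, y ≫ (DerivedCategory.Q.map α)⟦m⟧' = 0 → y = 0) →
      CohCx.freeSheafMap J g ≫ t = 0 := by
  obtain ⟨A₁, π₁, _, z, hz, e1⟩ :=
    I.eq_liftCycles_homologyπ_up_to_refinements t (m + 1) (by simp)
  have hz' : (z ≫ α.f m) ≫ I'.d m (m + 1) = 0 := by
    rw [Category.assoc, α.comm, ← Category.assoc, hz, zero_comp]
  have e2 : I'.liftCycles (z ≫ α.f m) (m + 1) (by simp) hz' ≫ I'.homologyπ m = 0 := by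
    have h1 : I'.liftCycles (z ≫ α.f m) (m + 1) (by simp) hz' =
        I.liftCycles z (m + 1) (by simp) hz ≫ HomologicalComplex.cyclesMap α m := by
      rw [← cancel_mono (I'.iCycles m)]
      simp
    rw [h1, Category.assoc, ← HomologicalComplex.homologyπ_naturality, ← Category.assoc, ← e1,
      Category.assoc, ht, comp_zero]
  obtain ⟨A₂, π₂, _, w, e3⟩ := (I'.liftCycles_comp_homologyπ_eq_zero_iff_up_to_refinements
    (m - 1) m (m + 1) (by simp) (by simp) (z ≫ α.f m) hz').1 e2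
  haveI : Epi (π₂ ≫ π₁) := epi_comp _ _
  obtain ⟨S, hS, hl⟩ := exists_covering_of_epi V (π₂ ≫ π₁)
  refine ⟨S, hS, fun Y g hg hY => ?_⟩
  obtain ⟨l, hl⟩ := hl _ g hg
  have hzi : (l ≫ π₂ ≫ z) ≫ I.d m (m + 1) = 0 := by
    simp only [Category.assoc, hz, comp_zero]
  have h1 : cls _ I' m ((l ≫ π₂ ≫ z) ≫ α.f m)
      (by rw [Category.assoc, α.comm, ← Category.assoc, hzi, zero_comp]) = 0 := by
    rw [cls_eq_zero_iff]
    refine ⟨l ≫ w, ?_⟩
    simp only [Category.assoc]
    rw [← e3]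
  rw [cls_postcomp α (l ≫ π₂ ≫ z) hzi] at h1
  have h2 := hY _ h1
  rw [cls_eq_zero_iff] at h2
  obtain ⟨g', hg'⟩ := h2
  rw [← hl, Category.assoc, Category.assoc, e1]
  have h3 : l ≫ π₂ ≫ I.liftCycles z (m + 1) (by simp) hz =
      I.liftCycles (l ≫ π₂ ≫ z) (m + 1) (by simp) hzi := by
    rw [← cancel_mono (I.iCycles m)]
    simp
  rw [← Category.assoc, ← Category.assoc, Category.assoc l, h3]
  exact (I.liftCycles_comp_homologyπ_eq_zero_iff_up_to_refinements
    (m - 1) m (m + 1) (by simp) (by simp) (l ≫ π₂ ≫ z) hzi).2 ⟨_, 𝟙 _, inferInstance, g', by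
      rw [Category.id_comp, hg']⟩

theorem exists_sieve (L K' : DerivedCategory (Sheaf J AddCommGrpCat.{u}))
    (φ : L ⟶ K') (V : C) (m : ℤ)
    (s : ((DerivedCategory.homologyFunctor _ m).obj L).obj.obj (op V))
    (hs : ((DerivedCategory.homologyFunctor _ m).map φ).hom.app (op V) s = 0) :
    ∃ S ∈ J V, ∀ (Y : C) (g : Y ⟶ V), S.arrows g →
      (∀ y : CohCx.HDU L m Y, y ≫ φ⟦m⟧' = 0 → y = 0) →
      ((DerivedCategory.homologyFunctor _ m).obj L).obj.map g.op s = 0 := by
  obtain ⟨I, hI, ⟨eL⟩⟩ := Groth.Agent.Helper4.HDUrep.exists_kinj_rep L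
  obtain ⟨I', hI', ⟨eK⟩⟩ := Groth.Agent.Helper4.HDUrep.exists_kinj_rep K'
  obtain ⟨α, hα⟩ := Groth.Agent.Helper4.HDUrep.exists_Q_map_eq I I' (eL.inv ≫ φ ≫ eK.hom)
  let G := DerivedCategory.homologyFunctor (Sheaf J AddCommGrpCat.{u}) m
  let t₀ : CohCx.freeSheaf J V ⟶ G.obj L := (Groth.Agent.Helper1.SiteCoh.homEquiv V _).symm s
  let ψ : G.obj L ≅ I.homology m :=
    G.mapIso eL ≪≫ (DerivedCategory.homologyFunctorFactors _ m).app I
  let ψ' : G.obj K' ≅ I'.homology m :=
    G.mapIso eK ≪≫ (DerivedCategory.homologyFunctorFactors _ m).app I'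
  have hsq : G.map φ ≫ ψ'.hom = ψ.hom ≫ HomologicalComplex.homologyMap α m := by
    have hn := (DerivedCategory.homologyFunctorFactors (Sheaf J AddCommGrpCat.{u}) m).hom.naturality α
    have e : G.map φ ≫ G.map eK.hom = G.map eL.hom ≫ G.map (DerivedCategory.Q.map α) := by
      rw [← Functor.map_comp, ← Functor.map_comp, hα]; simp
    exact (Category.assoc _ _ _).symm.trans ((congrArg (fun x => x ≫
      (DerivedCategory.homologyFunctorFactors (Sheaf J AddCommGrpCat.{u}) m).hom.app I') e).trans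
      ((Category.assoc _ _ _).trans ((congrArg (fun x => G.map eL.hom ≫ x) hn).trans
        (Category.assoc _ _ _).symm)))
  have ht₀ : t₀ ≫ G.map φ = 0 := by
    apply (Groth.Agent.Helper1.SiteCoh.homEquiv V _).injective
    rw [Groth.Agent.Helper1.SiteCoh.homEquiv_comp, Equiv.apply_symm_apply]
    exact hs.trans ((Groth.Agent.Helper1.SiteCoh.homAddEquiv V _).map_zero).symm
  obtain ⟨S, hS, hSY⟩ := exists_sieve_chain I I' α V m (t₀ ≫ ψ.hom) (by
      rw [Category.assoc, ← hsq, ← Category.assoc, ht₀, zero_comp])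
  refine ⟨S, hS, fun Y g hg hY => ?_⟩
  have h0 := hSY Y g hg (fun y hy => by
    have h1 := hY (y ≫ eL.inv⟦m⟧') (by
      rw [Category.assoc, ← Functor.map_comp]
      have : eL.inv ≫ φ = DerivedCategory.Q.map α ≫ eK.inv := by
        rw [hα]; simp
      rw [this, Functor.map_comp, ← Category.assoc, hy, zero_comp])
    have h2 := congrArg (fun x => x ≫ eL.hom⟦m⟧') h1
    simpa [← Functor.map_comp] using h2)
  have h1 : CohCx.freeSheafMap J g ≫ t₀ = 0 := by
    rw [← cancel_mono ψ.hom, Category.assoc, h0, zero_comp]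
  have h2 := Groth.Agent.Helper1.SiteCoh.homEquiv_map (J := J) g t₀
  rw [Equiv.apply_symm_apply] at h2
  rw [← h2]
  exact (congrArg _ h1).trans ((Groth.Agent.Helper1.SiteCoh.homAddEquiv Y _).map_zero)

end Groth.Agent.Helper4.HDUloc
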