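import Mathlib
import Groth.Prelude.Def_CohCx
import Groth.Agent.Helper1.SiteCoh
import Groth.Agent.Helper4.HDUcls
import Groth.Agent.Helper4.HDUrep
import Groth.Agent.Helper4.HDUinj

/-! The sheafification of `U ↦ Hᵠ(U, K)` is the cohomology sheaf `Hᵠ(K)`. -/

set_option autoImplicit false
set_option linter.unusedSectionVars false
universe u

open CategoryTheory Limits Opposite

namespace Groth.Agent.Helper4.HDUshf

open Groth.Agent.Helper4.HDUcls Groth.Agent.Helper1.SiteCoh

variable {C : Type u} [SmallCategory C] {J : GrothendieckTopology C}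
  [HasDerivedCategory.{u} (Sheaf J AddCommGrpCat.{u})]
  (I : CochainComplex (Sheaf J AddCommGrpCat.{u}) ℤ) (q : ℤ)

lemma cls_congr {A : Sheaf J AddCommGrpCat.{u}} {f g : A ⟶ I.X q} (h : f = g)
    (hf : f ≫ I.d q (q + 1) = 0) (hg : g ≫ I.d q (q + 1) = 0) :
    cls A I q f hf = cls A I q g hg := by
  subst h; rfl

/-- the cocycle `ℤ_U ⟶ Iᵠ` of a section of `Zᵠ(I)` over `U` -/
noncomputable def cocyc (U : C) (s : (I.cycles q).obj.obj (op U)) :
    CohCx.freeSheaf J U ⟶ I.X q :=
  (homEquiv U (I.cycles q)).symm s ≫ I.iCycles q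

lemma cocyc_d (U : C) (s : (I.cycles q).obj.obj (op U)) :
    cocyc I q U s ≫ I.d q (q + 1) = 0 := by
  simp [cocyc]

lemma cocyc_add (U : C) (s t : (I.cycles q).obj.obj (op U)) :
    cocyc I q U (s + t) = cocyc I q U s + cocyc I q U t := by
  unfold cocyc
  rw [← Preadditive.add_comp]
  congr 1
  exact (homAddEquiv U (I.cycles q)).symm.map_add s t

lemma symm_map {U V : C} (g : V ⟶ U) (G : Sheaf J AddCommGrpCat.{u}) (s : G.obj.obj (op U)) :
    (homEquiv V G).symm (G.obj.map g.op s) = CohCx.freeSheafMap J g ≫ (homEquiv U G).symm s := by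
  apply (homEquiv V G).injective
  rw [Equiv.apply_symm_apply]
  have h := homEquiv_map g ((homEquiv U G).symm s)
  rw [Equiv.apply_symm_apply] at h
  exact h.symm

lemma symm_comp (U : C) {G G' : Sheaf J AddCommGrpCat.{u}} (φ : G ⟶ G') (s : G.obj.obj (op U)) :
    (homEquiv U G').symm (φ.hom.app (op U) s) = (homEquiv U G).symm s ≫ φ := by
  apply (homEquiv U G').injective
  rw [Equiv.apply_symm_apply, homEquiv_comp, Equiv.apply_symm_apply]

lemma cocyc_map {U V : C} (g : V ⟶ U) (s : (I.cycles q).obj.obj (op U)) :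
    cocyc I q V ((I.cycles q).obj.map g.op s) = CohCx.freeSheafMap J g ≫ cocyc I q U s := by
  unfold cocyc
  rw [symm_map, Category.assoc]

/-- `Zᵠ(I)(U) → Hᵠ(U, I)` -/
noncomputable def cApp (U : C) :
    (I.cycles q).obj.obj (op U) →+ CohCx.HDU (DerivedCategory.Q.obj I) q U :=
  AddMonoidHom.mk' (fun s => cls _ I q (cocyc I q U s) (cocyc_d I q U s)) (by
    intro s t
    rw [← cls_add]
    exact cls_congr I q (cocyc_add I q U s t) _ _)

/-- the map of presheaves `Zᵠ(I) ⟶ Hᵠ(-, I)` -/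
noncomputable def c : (I.cycles q).obj ⟶ CohCx.HDUPresheaf (DerivedCategory.Q.obj I) q where
  app U := AddCommGrpCat.ofHom (cApp I q U.unop)
  naturality U V g := by
    ext s
    change cls _ I q (cocyc I q V.unop ((I.cycles q).obj.map g s)) _ =
      (DerivedCategory.singleFunctor _ 0).map (CohCx.freeSheafMap J g.unop) ≫
        cls _ I q (cocyc I q U.unop s) (cocyc_d I q U.unop s)
    rw [← cls_precomp]
    exact cls_congr I q (cocyc_map I q g.unop s) _ _

variable [I.IsKInjective]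

lemma c_zero : (sheafToPresheaf J AddCommGrpCat.{u}).map (I.toCycles (q - 1) q) ≫ c I q = 0 := by
  ext U x
  change cls _ I q (cocyc I q U.unop ((I.toCycles (q - 1) q).hom.app U x)) _ = 0
  rw [cls_eq_zero_iff]
  refine ⟨(homEquiv U.unop (I.X (q - 1))).symm x, ?_⟩
  unfold cocyc
  rw [← I.toCycles_i (q - 1) q, ← Category.assoc]
  congr 1
  exact (symm_comp U.unop (I.toCycles (q - 1) q) x).symm

/-- the presheaf-level right exact sequence `Iᵠ⁻¹ → Zᵠ(I) → Hᵠ(-, I) → 0` -/
noncomputable def S₁ : ShortComplex (Cᵒᵖ ⥤ AddCommGrpCat.{u}) :=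
  ShortComplex.mk _ _ (c_zero I q)

lemma S₁_exact : (S₁ I q).Exact := by
  apply exact_of_evaluation
  intro U
  rw [ShortComplex.ab_exact_iff]
  intro (s : (I.cycles q).obj.obj U) hs
  have hs' : cls _ I q (cocyc I q U.unop s) (cocyc_d I q U.unop s) = 0 := hs
  rw [cls_eq_zero_iff] at hs'
  obtain ⟨g, hg⟩ := hs'
  refine ⟨homEquiv U.unop (I.X (q - 1)) g, ?_⟩
  change (I.toCycles (q - 1) q).hom.app (op U.unop) (homEquiv U.unop (I.X (q - 1)) g) = s
  apply (homEquiv U.unop (I.cycles q)).symm.injective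
  rw [symm_comp, Equiv.symm_apply_apply, ← cancel_mono (I.iCycles q), Category.assoc,
    HomologicalComplex.toCycles_i, hg]
  rfl

instance : Epi (S₁ I q).g := by
  change Epi (c I q)
  haveI : ∀ U, Epi ((c I q).app U) := by
    intro U
    rw [AddCommGrpCat.epi_iff_surjective]
    intro y
    obtain ⟨f, hf, rfl⟩ := cls_surjective (A := CohCx.freeSheaf J U.unop) (I := I) (n := q) y
    have hf' : f ≫ I.d q (q + 1) = 0 := hf
    refine ⟨homEquiv U.unop (I.cycles q) (I.liftCycles f (q + 1) (by simp) hf'), ?_⟩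
    change cls _ I q (cocyc I q U.unop _) _ = _
    apply cls_congr
    unfold cocyc
    rw [Equiv.symm_apply_apply, HomologicalComplex.liftCycles_i]
  exact NatTrans.epi_of_epi_app _

/-- sheafification of `U ↦ Hᵠ(U, I)` is `Hᵠ(I)`, for `I` K-injective -/
theorem nonempty_iso_homology :
    Nonempty ((presheafToSheaf J AddCommGrpCat.{u}).obj
      (CohCx.HDUPresheaf (DerivedCategory.Q.obj I) q) ≅ I.homology q) := by
  let F := presheafToSheaf J AddCommGrpCat.{u}
  have hex : ((S₁ I q).map F).Exact := (S₁_exact I q).map F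
  haveI : Epi ((S₁ I q).map F).g := by
    change Epi (F.map (S₁ I q).g)
    infer_instance
  have hcok := hex.gIsCokernel
  let ε := asIso (sheafificationAdjunction J AddCommGrpCat.{u}).counit
  have hnat : F.map ((sheafToPresheaf J AddCommGrpCat.{u}).map (I.toCycles (q - 1) q)) ≫
      (ε.app (I.cycles q)).hom = (ε.app (I.X (q - 1))).hom ≫ I.toCycles (q - 1) q :=
    ε.hom.naturality (I.toCycles (q - 1) q)
  have w' : I.toCycles (q - 1) q ≫ ((ε.app (I.cycles q)).inv ≫ F.map (c I q)) = 0 := by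
    have h0 : F.map ((sheafToPresheaf J AddCommGrpCat.{u}).map (I.toCycles (q - 1) q)) ≫
        F.map (c I q) = 0 := ((S₁ I q).map F).zero
    rw [← cancel_epi (ε.app (I.X (q - 1))).hom, ← Category.assoc, ← hnat, Category.assoc,
      Iso.hom_inv_id_assoc, h0, comp_zero]
  have hz : ∀ {Z' : Sheaf J AddCommGrpCat.{u}} (g' : I.cycles q ⟶ Z'),
      I.toCycles (q - 1) q ≫ g' = 0 →
      ((S₁ I q).map F).f ≫ ((ε.app (I.cycles q)).hom ≫ g') = 0 := by
    intro Z' g' hg'
    have e1 : F.map ((sheafToPresheaf J AddCommGrpCat.{u}).map (I.toCycles (q - 1) q)) ≫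
        ((ε.app (I.cycles q)).hom ≫ g') = 0 := by
      rw [← Category.assoc, hnat, Category.assoc, hg', comp_zero]
    exact e1
  have hfac : ∀ {Z' : Sheaf J AddCommGrpCat.{u}} (g' : I.cycles q ⟶ Z')
      (hg' : I.toCycles (q - 1) q ≫ g' = 0),
      F.map (c I q) ≫ hcok.desc (CokernelCofork.ofπ ((ε.app (I.cycles q)).hom ≫ g') (hz g' hg')) =
        (ε.app (I.cycles q)).hom ≫ g' := fun g' hg' =>
    hcok.fac (CokernelCofork.ofπ ((ε.app (I.cycles q)).hom ≫ g') (hz g' hg'))
      WalkingParallelPair.one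
  have hcok' : IsColimit (CokernelCofork.ofπ ((ε.app (I.cycles q)).inv ≫ F.map (c I q)) w') := by
    refine CokernelCofork.IsColimit.ofπ _ _
      (fun {Z'} g' hg' => hcok.desc (CokernelCofork.ofπ ((ε.app (I.cycles q)).hom ≫ g')
        (hz g' hg'))) ?_ ?_
    · intro Z' g' hg'
      rw [Category.assoc, hfac g' hg', Iso.inv_hom_id_assoc]
    · intro Z' g' hg' m hm
      apply Cofork.IsColimit.hom_ext hcok
      change F.map (c I q) ≫ m = F.map (c I q) ≫ _
      rw [hfac g' hg', ← hm, Category.assoc, Iso.hom_inv_id_assoc]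
  exact ⟨IsColimit.coconePointUniqueUpToIso hcok' (I.homologyIsCokernel (q - 1) q (by simp))⟩

end Groth.Agent.Helper4.HDUshf
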