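import Mathlib
import Groth.Prelude.Def_CohCx
import Groth.Prelude.Def_CohTop
import Groth.Agent.Helper4.HDUloc

/-! Stalkwise injectivity of `Hᵐ(φ)` from injectivity of hypercohomology on a fundamental system
of neighbourhoods. -/

set_option autoImplicit false
set_option linter.unusedSectionVars false
universe u

open CategoryTheory Limits Opposite TopologicalSpace

namespace Groth.Agent.Helper4.HDUstalk

variable {X : TopCat.{u}} [HasDerivedCategory.{u} (CohTop.Ab X)]

theorem stalk_injective_of_local (L K' : DerivedCategory (CohTop.Ab X)) (φ : L ⟶ K') (x : X)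
    (m : ℤ)
    (hloc : ∀ V : Opens X, x ∈ V → ∃ U : Opens X, x ∈ U ∧ U ≤ V ∧
      ∀ y : CohCx.HDU L m U, y ≫ φ⟦m⟧' = 0 → y = 0) :
    Function.Injective ((TopCat.Presheaf.stalkFunctor AddCommGrpCat.{u} x).map
      ((DerivedCategory.homologyFunctor (CohTop.Ab X) m).map φ).hom) := by
  let F := (DerivedCategory.homologyFunctor (CohTop.Ab X) m).obj L
  let G := (DerivedCategory.homologyFunctor (CohTop.Ab X) m).obj K'
  let ψ : F ⟶ G := (DerivedCategory.homologyFunctor (CohTop.Ab X) m).map φ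
  change Function.Injective ((TopCat.Presheaf.stalkFunctor AddCommGrpCat.{u} x).map ψ.hom)
  rw [injective_iff_map_eq_zero]
  intro g hg
  obtain ⟨V, hxV, s, rfl⟩ := TopCat.Presheaf.exists_germ_eq F.obj g
  rw [TopCat.Presheaf.stalkFunctor_map_germ_apply V x hxV ψ.hom s] at hg
  have hg' : TopCat.Presheaf.germ G.obj V x hxV (ψ.hom.app (Opposite.op V) s) =
      TopCat.Presheaf.germ G.obj V x hxV 0 := by
    exact hg.trans (map_zero _).symm
  obtain ⟨W, hxW, iU, iV, hW⟩ := TopCat.Presheaf.germ_eq G.obj x hxV hxV _ _ hg'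
  have hs' : ψ.hom.app (Opposite.op W) (F.obj.map iU.op s) = 0 := by
    have hn := CategoryTheory.NatTrans.naturality_apply ψ.hom iU.op s
    rw [hn, hW, map_zero]
  obtain ⟨S, hS, hSY⟩ := Groth.Agent.Helper4.HDUloc.exists_sieve L K' φ W m
    (F.obj.map iU.op s) hs'
  obtain ⟨W', g', hg', hxW'⟩ := hS x hxW
  obtain ⟨U, hxU, hUW', hU⟩ := hloc W' hxW'
  have hzero := hSY U (CategoryTheory.homOfLE hUW' ≫ g') (S.downward_closed hg' _) hU
  have e1 := TopCat.Presheaf.germ_res_apply F.obj iU x hxW s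
  have e2 := TopCat.Presheaf.germ_res_apply F.obj (CategoryTheory.homOfLE hUW' ≫ g') x hxU
    (F.obj.map iU.op s)
  rw [← e1, ← e2]
  exact (congrArg _ hzero).trans (map_zero _)

end Groth.Agent.Helper4.HDUstalk
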