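import Mathlib
import Groth.Agent.Helper9.LC3

/-! The canonical map `Hom(G[0], E⟦q⟧) → Hom(G, Hᵠ(E))`. -/

set_option autoImplicit false
set_option linter.unusedSectionVars false
universe w v u

open CategoryTheory Limits DerivedCategory

namespace Groth.Agent.Helper4.HDUxi

open Groth.Agent.Helper9.LC3

variable {A : Type u} [Category.{v} A] [Abelian A] [HasDerivedCategory.{w} A]

/-- `H⁰(E⟦q⟧) ≅ Hᵠ(E)` -/
noncomputable def σ (q : ℤ) :
    shiftFunctor (DerivedCategory A) q ⋙ homologyFunctor A 0 ≅ homologyFunctor A q :=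
  (homologyFunctor A 0).shiftIso q 0 q (add_zero q)

/-- the canonical map `Hom(G[0], E⟦q⟧) → Hom(G, Hᵠ(E))` -/
noncomputable def Ξ (G : A) (E : DerivedCategory A) (q : ℤ) :
    (W G 0 ⟶ E⟦q⟧) →+ (G ⟶ (homologyFunctor A q).obj E) where
  toFun x := (singleFunctorCompHomologyFunctorIso A 0).inv.app G ≫
    (homologyFunctor A 0).map x ≫ (σ q).hom.app E
  map_zero' := by simp
  map_add' x y := by simp [Functor.map_add]

lemma Ξ_apply (G : A) (E : DerivedCategory A) (q : ℤ) (x : W G 0 ⟶ E⟦q⟧) :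
    Ξ G E q x = (singleFunctorCompHomologyFunctorIso A 0).inv.app G ≫
      (homologyFunctor A 0).map x ≫ (σ q).hom.app E := rfl

lemma Ξ_comp (G : A) {E E' : DerivedCategory A} (τ : E ⟶ E') (q : ℤ) (x : W G 0 ⟶ E⟦q⟧) :
    Ξ G E' q (x ≫ τ⟦q⟧') = Ξ G E q x ≫ (homologyFunctor A q).map τ := by
  rw [Ξ_apply, Ξ_apply, Functor.map_comp]
  have h := (σ (A := A) q).hom.naturality τ
  dsimp at h
  simp only [Category.assoc]
  rw [h]

lemma Ξ_precomp {G G' : A} (g : G' ⟶ G) (E : DerivedCategory A) (q : ℤ) (x : W G 0 ⟶ E⟦q⟧) :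
    Ξ G' E q ((singleFunctor A 0).map g ≫ x) = g ≫ Ξ G E q x := by
  rw [Ξ_apply, Ξ_apply, Functor.map_comp]
  have h := (singleFunctorCompHomologyFunctorIso A 0).inv.naturality g
  dsimp at h
  simp only [Category.assoc]
  rw [← Category.assoc, ← h, Category.assoc]

theorem Ξ_bijective (G : A) (E : DerivedCategory A) (q : ℤ)
    (h : Function.Bijective (fun f : W G q ⟶ E => (homologyFunctor A q).map f)) :
    Function.Bijective (Ξ G E q) := by
  let e := wShift G q 0 q (by omega)
  let β : (W G q ⟶ E) → (W G 0 ⟶ E⟦q⟧) := fun y => e.inv ≫ y⟦q⟧'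
  have hβ : Function.Bijective β := by
    constructor
    · intro y y' hy
      have : y⟦q⟧' = y'⟦q⟧' := (cancel_epi e.inv).1 hy
      exact (shiftFunctor (DerivedCategory A) q).map_injective this
    · intro x
      obtain ⟨y, hy⟩ := (shiftFunctor (DerivedCategory A) q).map_surjective (e.hom ≫ x)
      exact ⟨y, by simp [β, hy]⟩
  let j : G ⟶ (homologyFunctor A q).obj (W G q) :=
    (singleFunctorCompHomologyFunctorIso A 0).inv.app G ≫ (homologyFunctor A 0).map e.inv ≫
      (σ q).hom.app (W G q)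
  haveI : IsIso j := by dsimp only [j]; infer_instance
  have hcomp : (fun x => Ξ G E q x) ∘ β =
      (fun φ : (homologyFunctor A q).obj (W G q) ⟶ (homologyFunctor A q).obj E => j ≫ φ) ∘
        (fun f : W G q ⟶ E => (homologyFunctor A q).map f) := by
    funext y
    change Ξ G E q (e.inv ≫ y⟦q⟧') = j ≫ (homologyFunctor A q).map y
    rw [Ξ_apply, Functor.map_comp]
    have hn := (σ (A := A) q).hom.naturality y
    dsimp at hn
    dsimp only [j]
    simp only [Category.assoc]
    rw [hn]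
  have hb : Function.Bijective ((fun x => Ξ G E q x) ∘ β) := by
    rw [hcomp]
    refine Function.Bijective.comp ?_ h
    constructor
    · intro φ φ' hφ
      exact (cancel_epi j).1 hφ
    · intro φ
      exact ⟨inv j ≫ φ, by simp⟩
  exact (Function.Bijective.of_comp_iff _ hβ).1 hb

end Groth.Agent.Helper4.HDUxi
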