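import Mathlib
import Groth.Prelude.Def_Hensel
import Groth.Agent.Helper1.HensIsHens
import Groth.Agent.Helper1.HensElts

/-!
# Helper4: `Hens R κ(p)` is a henselization of `R_p`
(uses helper1's henselization library)
-/

set_option autoImplicit false
set_option linter.dupNamespace false

universe u

noncomputable section

namespace Groth.Agent.Helper4.HensPrime

open Groth.Agent.Helper1.Hens IsLocalRing

variable {R : Type u} [CommRing R] (p : Ideal R) [p.IsPrime]

lemma γ_algebraMap_ne_zero {s : R} (hs : s ∉ p) :
    Hens.γ (algebraMap R (Hens R p.ResidueField) s) ≠ 0 := by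
  rw [Hens.γ_algebraMap, Ne, Ideal.algebraMap_residueField_eq_zero]; exact hs

/-- the `R_p`-algebra structure on `Hens R κ(p)`. -/
def algLoc : Algebra (Localization.AtPrime p) (Hens R p.ResidueField) :=
  (IsLocalization.lift (M := p.primeCompl) (g := algebraMap R (Hens R p.ResidueField))
    (fun s => (Hens.isUnit_iff _).mpr (γ_algebraMap_ne_zero p s.2))).toAlgebra

attribute [local instance] algLoc

instance isScalarTower_algLoc :
    IsScalarTower R (Localization.AtPrime p) (Hens R p.ResidueField) :=
  IsScalarTower.of_algebraMap_eq (fun r => (IsLocalization.lift_eq _ r).symm)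

lemma γ_algebraMapLoc (x : Localization.AtPrime p) :
    Hens.γ (algebraMap (Localization.AtPrime p) (Hens R p.ResidueField) x) =
      algebraMap (Localization.AtPrime p) p.ResidueField x := by
  have : (Hens.γ : Hens R p.ResidueField →ₐ[R] p.ResidueField).toRingHom.comp
      (algebraMap (Localization.AtPrime p) (Hens R p.ResidueField)) =
      algebraMap (Localization.AtPrime p) p.ResidueField := by
    apply IsLocalization.ringHom_ext p.primeCompl
    ext r
    simp only [RingHom.comp_apply, AlgHom.toRingHom_eq_coe, RingHom.coe_coe]
    rw [← IsScalarTower.algebraMap_apply, ← IsScalarTower.algebraMap_apply, Hens.γ_algebraMap]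
  exact congr($this x)

instance isLocalHom_algLoc :
    IsLocalHom (algebraMap (Localization.AtPrime p) (Hens R p.ResidueField)) := by
  constructor
  intro x hx
  rw [Hens.isUnit_iff, γ_algebraMapLoc] at hx
  by_contra h
  exact hx ((residue_eq_zero_iff x).mpr h)

section Index

variable (i : Idx R p.ResidueField)

lemma isUnit_algebraMap_L (s : p.primeCompl) : IsUnit (algebraMap R i.L (s : R)) := by
  rw [isUnit_iff_γLoc_ne_zero, AlgHom.commutes, Ne, Ideal.algebraMap_residueField_eq_zero]
  exact s.2

/-- the `R_p`-algebra structure on the local rings `i.L`. -/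
def algLocL : Algebra (Localization.AtPrime p) i.L :=
  (IsLocalization.lift (M := p.primeCompl) (g := algebraMap R i.L) (isUnit_algebraMap_L p i)).toAlgebra

attribute [local instance] algLocL

instance isScalarTower_algLocL : IsScalarTower R (Localization.AtPrime p) i.L :=
  IsScalarTower.of_algebraMap_eq (fun r => (IsLocalization.lift_eq _ r).symm)

lemma γLoc_algebraMapLoc (x : Localization.AtPrime p) :
    γLoc i.γ (algebraMap (Localization.AtPrime p) i.L x) =
      algebraMap (Localization.AtPrime p) p.ResidueField x := by
  have : (γLoc i.γ).toRingHom.comp (algebraMap (Localization.AtPrime p) i.L) =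
      algebraMap (Localization.AtPrime p) p.ResidueField := by
    apply IsLocalization.ringHom_ext p.primeCompl
    ext r
    simp only [RingHom.comp_apply, AlgHom.toRingHom_eq_coe, RingHom.coe_coe]
    rw [← IsScalarTower.algebraMap_apply, ← IsScalarTower.algebraMap_apply, AlgHom.commutes]
  exact congr($this x)

instance isLocalHom_algLocL : IsLocalHom (algebraMap (Localization.AtPrime p) i.L) := by
  constructor
  intro x hx
  rw [isUnit_iff_γLoc_ne_zero, γLoc_algebraMapLoc] at hx
  by_contra h
  exact hx ((residue_eq_zero_iff x).mpr h)

lemma of_comp_algebraMapLoc :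
    (Hens.of i).comp (algebraMap (Localization.AtPrime p) i.L) =
      algebraMap (Localization.AtPrime p) (Hens R p.ResidueField) := by
  apply IsLocalization.ringHom_ext p.primeCompl
  ext r
  simp only [RingHom.comp_apply]
  rw [← IsScalarTower.algebraMap_apply, ← IsScalarTower.algebraMap_apply]
  exact (Hens.algebraMap_eq i r).symm

lemma map_maximalIdeal_L :
    (maximalIdeal (Localization.AtPrime p)).map (algebraMap (Localization.AtPrime p) i.L) =
      maximalIdeal i.L := by
  haveI : Algebra.FormallyUnramified R i.L := inferInstance
  haveI : Algebra.FormallyUnramified (Localization.AtPrime p) i.L :=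
    Algebra.FormallyUnramified.of_restrictScalars R _ _
  haveI : Algebra.EssFiniteType (Localization.AtPrime p) i.L := Algebra.EssFiniteType.of_comp R _ _
  exact Algebra.FormallyUnramified.map_maximalIdeal

end Index

theorem map_maximalIdeal :
    (maximalIdeal (Localization.AtPrime p)).map
      (algebraMap (Localization.AtPrime p) (Hens R p.ResidueField)) =
      maximalIdeal (Hens R p.ResidueField) := by
  apply le_antisymm
  · exact ((local_hom_TFAE (algebraMap (Localization.AtPrime p) (Hens R p.ResidueField))).out 0 2
      rfl rfl).mp inferInstance
  · intro z hz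
    obtain ⟨i, x, rfl⟩ := Hens.exists_of z
    letI := algLocL p i
    rw [← Hens.γ_eq_zero_iff, Hens.γ_of, γLoc_eq_zero_iff, ← map_maximalIdeal_L p i] at hz
    have h1 : ((maximalIdeal (Localization.AtPrime p)).map
        (algebraMap (Localization.AtPrime p) i.L)).map (Hens.of i) =
        (maximalIdeal (Localization.AtPrime p)).map
          (algebraMap (Localization.AtPrime p) (Hens R p.ResidueField)) := by
      rw [Ideal.map_map, of_comp_algebraMapLoc]
    rw [← h1]
    exact Ideal.mem_map_of_mem _ hz

/-- Any ring map from `Hens R κ(p)` to a local ring restricting to a local map on `R_p` is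
compatible with residue fields. -/
lemma residue_ringHom {T : Type u} [CommRing T] [IsLocalRing T]
    (f : Localization.AtPrime p →+* T) [IsLocalHom f]
    (g : Hens R p.ResidueField →+* T)
    (hg : g.comp (algebraMap (Localization.AtPrime p) (Hens R p.ResidueField)) = f)
    (z : Hens R p.ResidueField) :
    residue T (g z) = ResidueField.map f (Hens.γ z) := by
  obtain ⟨a, ha⟩ := residue_surjective (R := Localization.AtPrime p) (Hens.γ z)
  have h1 : z - algebraMap (Localization.AtPrime p) (Hens R p.ResidueField) a ∈
      maximalIdeal (Hens R p.ResidueField) := by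
    rw [← Hens.γ_eq_zero_iff, map_sub, γ_algebraMapLoc, ← ha]
    exact sub_self _
  rw [← map_maximalIdeal] at h1
  have h2 : (maximalIdeal (Localization.AtPrime p)).map
      (algebraMap (Localization.AtPrime p) (Hens R p.ResidueField)) ≤ (maximalIdeal T).comap g := by
    rw [Ideal.map_le_iff_le_comap]
    intro b hb
    simp only [Ideal.mem_comap]
    have : g (algebraMap (Localization.AtPrime p) (Hens R p.ResidueField) b) = f b := congr($hg b)
    rw [this]
    exact ((local_hom_TFAE f).out 0 2 rfl rfl).mp inferInstance (Ideal.mem_map_of_mem _ hb)
  have h3 := h2 h1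
  simp only [Ideal.mem_comap, map_sub] at h3
  have h4 : g (algebraMap (Localization.AtPrime p) (Hens R p.ResidueField) a) = f a := congr($hg a)
  rw [h4, ← residue_eq_zero_iff, map_sub, sub_eq_zero] at h3
  rw [h3, ← ha, ResidueField.map_residue]

instance isHenselization :
    Hensel.IsHenselization (Localization.AtPrime p) (Hens R p.ResidueField) where
  henselian := inferInstance
  universal T _ _ f hf := by
    letI : Algebra R T := (f.comp (algebraMap R (Localization.AtPrime p))).toAlgebra
    haveI : IsLocalHom f := hf
    have hτ : ∀ r, ResidueField.map f (algebraMap R p.ResidueField r) =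
        residue T (algebraMap R T r) := fun r => by
      rw [IsScalarTower.algebraMap_apply R (Localization.AtPrime p) p.ResidueField]
      exact ResidueField.map_residue _ _
    refine ⟨(Hens.lift (ResidueField.map f) hτ).toRingHom, ?_, ?_⟩
    · apply IsLocalization.ringHom_ext p.primeCompl
      ext r
      simp only [RingHom.comp_apply, AlgHom.toRingHom_eq_coe, RingHom.coe_coe]
      rw [← IsScalarTower.algebraMap_apply]
      exact (Hens.lift _ hτ).commutes r
    · intro g hg
      let g' : Hens R p.ResidueField →ₐ[R] T :=
        { g with
          commutes' := fun r => by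
            have := congr($hg (algebraMap R (Localization.AtPrime p) r))
            simp only [RingHom.comp_apply] at this
            rw [← IsScalarTower.algebraMap_apply] at this
            exact this }
      have : g' = Hens.lift _ hτ := Hens.lift_unique _ hτ g' (residue_ringHom p f g hg)
      ext z
      exact congr($this z)

/-- Two henselizations of a local ring are isomorphic. -/
def equivOfTwo (A S S' : Type u) [CommRing A] [IsLocalRing A]
    [CommRing S] [IsLocalRing S] [Algebra A S] [IsLocalHom (algebraMap A S)]
    [hS : Hensel.IsHenselization A S]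
    [CommRing S'] [IsLocalRing S'] [Algebra A S'] [IsLocalHom (algebraMap A S')]
    [hS' : Hensel.IsHenselization A S'] : S ≃ₐ[A] S' := by
  haveI : HenselianLocalRing S := hS.henselian
  haveI : HenselianLocalRing S' := hS'.henselian
  have h1 := hS.universal S' (algebraMap A S') inferInstance
  have h2 := hS'.universal S (algebraMap A S) inferInstance
  have h3 := hS.universal S (algebraMap A S) inferInstance
  have h4 := hS'.universal S' (algebraMap A S') inferInstance
  let g := h1.choose
  have hg : g.comp (algebraMap A S) = algebraMap A S' := h1.choose_spec.1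
  let g' := h2.choose
  have hg' : g'.comp (algebraMap A S') = algebraMap A S := h2.choose_spec.1
  have e1 : g'.comp g = RingHom.id S := by
    refine h3.unique ?_ rfl
    rw [RingHom.comp_assoc, hg, hg']
  have e2 : g.comp g' = RingHom.id S' := by
    refine h4.unique ?_ rfl
    rw [RingHom.comp_assoc, hg', hg]
  exact
    { toFun := g
      invFun := g'
      left_inv := fun x => congr($e1 x)
      right_inv := fun x => congr($e2 x)
      map_mul' := map_mul g
      map_add' := map_add g
      commutes' := fun r => congr($hg r) }

end Groth.Agent.Helper4.HensPrime
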