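import Mathlib

set_option autoImplicit false

namespace Groth.Agent.Helper4.HodgeGen

open Finset

variable {R : Type*} [CommRing R]

/-- `H y z N k = ∑_{i+j+1=k} y^i z^j` (summed over a box of size `N`). -/
def H (y z : R) (N k : ℕ) : R :=
  ∑ i ∈ range N, ∑ j ∈ range N, if k = i + j + 1 then y ^ i * z ^ j else 0

lemma H_mul (y z : R) (N k : ℕ) (hk : k ≤ N) : H y z N k * (y - z) = y ^ k - z ^ k := by
  cases k with
  | zero => simp [H]
  | succ m =>
    rw [← geom_sum₂_mul]
    congr 1
    unfold H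
    have : ∀ i ∈ range N, (∑ j ∈ range N, if m + 1 = i + j + 1 then y ^ i * z ^ j else 0) =
        if i < m + 1 then y ^ i * z ^ (m + 1 - 1 - i) else 0 := by
      intro i hi
      split_ifs with h
      · rw [Finset.sum_eq_single (m - i)]
        · rw [if_pos (by omega)]; simp
        · intro j _ hj; rw [if_neg (by omega)]
        · intro hn; exfalso; apply hn; rw [mem_range]; omega
      · apply Finset.sum_eq_zero; intro j _; rw [if_neg (by omega)]
    rw [Finset.sum_congr rfl this, ← Finset.sum_filter]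
    congr 1
    ext i; simp only [mem_filter, mem_range]; omega

lemma id1 (y z : R) (n N : ℕ) (hN : n ≤ N) :
    (1 + y) ^ n - (1 + z) ^ n = (y - z) * ∑ i ∈ range N, ∑ j ∈ range N,
      if i + j + 1 ≤ n then ((n.choose (i + j + 1) : ℕ) : R) * y ^ i * z ^ j else 0 := by
  have h1 : (1 + y) ^ n - (1 + z) ^ n = ∑ k ∈ range (n + 1), (y ^ k - z ^ k) * (n.choose k : R) := by
    rw [add_comm 1 y, add_comm 1 z, add_pow, add_pow, ← Finset.sum_sub_distrib]
    apply Finset.sum_congr rfl; intro k _; simp only [one_pow, mul_one]; ring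
  have h2 : ∀ i j : ℕ, (if i + j + 1 ≤ n then ((n.choose (i + j + 1) : ℕ) : R) * y ^ i * z ^ j else 0) =
      ∑ k ∈ range (n + 1), (if k = i + j + 1 then y ^ i * z ^ j else 0) * (n.choose k : R) := by
    intro i j
    split_ifs with h
    · rw [Finset.sum_eq_single (i + j + 1)]
      · rw [if_pos rfl]; ring
      · intro k _ hk; rw [if_neg hk, zero_mul]
      · intro hn; exfalso; apply hn; rw [mem_range]; omega
    · symm; apply Finset.sum_eq_zero; intro k hk; rw [mem_range] at hk; rw [if_neg (by omega), zero_mul]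
  rw [h1]
  simp_rw [h2]
  rw [Finset.sum_congr rfl (fun i _ => Finset.sum_comm), Finset.sum_comm, Finset.mul_sum]
  apply Finset.sum_congr rfl
  intro k hk
  rw [mem_range] at hk
  have h5 : ∑ i ∈ range N, ∑ j ∈ range N, (if k = i + j + 1 then y ^ i * z ^ j else 0) *
      (n.choose k : R) = H y z N k * (n.choose k : R) := by
    unfold H; rw [Finset.sum_mul]; apply Finset.sum_congr rfl; intro i _; rw [Finset.sum_mul]
  rw [h5, ← H_mul y z N k (by omega)]
  ring

/-- `G y z N k = ∑_{i+j=k, i,j≥1} y^i z^j` (summed over a box of size `N+1`). -/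
def G (y z : R) (N k : ℕ) : R :=
  ∑ i ∈ range (N + 1), ∑ j ∈ range (N + 1), if k = i + j ∧ 1 ≤ i ∧ 1 ≤ j then y ^ i * z ^ j else 0

lemma G_zero (y z : R) (N : ℕ) : G y z N 0 = 0 := by
  unfold G
  apply Finset.sum_eq_zero; intro i _; apply Finset.sum_eq_zero; intro j _
  rw [if_neg (by omega)]

lemma G_succ (y z : R) (N m : ℕ) : G y z N (m + 1) = y * z * H y z N m := by
  unfold G H
  rw [Finset.sum_range_succ', Finset.mul_sum]
  have h0 : (∑ j ∈ range (N + 1), if m + 1 = 0 + j ∧ 1 ≤ 0 ∧ 1 ≤ j then y ^ 0 * z ^ j else 0) = 0 := by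
    apply Finset.sum_eq_zero; intro j _; rw [if_neg (by omega)]
  rw [h0, add_zero]
  apply Finset.sum_congr rfl; intro i _
  rw [Finset.sum_range_succ', Finset.mul_sum, if_neg (by omega), add_zero]
  apply Finset.sum_congr rfl; intro j _
  by_cases h : m = i + j + 1
  · rw [if_pos (by omega), if_pos h]; ring
  · rw [if_neg (by omega), if_neg h, mul_zero]

lemma G_mul (y z : R) (N k : ℕ) (hk : k ≤ N + 1) :
    G y z N k * (y - z) = y ^ k * z - z ^ k * y + (if k = 0 then (y - z) else 0) := by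
  cases k with
  | zero => rw [G_zero]; simp
  | succ m =>
    rw [G_succ, mul_assoc, H_mul y z N m (by omega), if_neg (by omega)]
    ring

lemma id2 (y z : R) (a : ℕ) :
    (1 + y) ^ a * z - (1 + z) ^ a * y = (y - z) * (-1 + ∑ i ∈ range (a + 1), ∑ j ∈ range (a + 1),
      if 1 ≤ i ∧ 1 ≤ j ∧ i + j ≤ a then ((a.choose (i + j) : ℕ) : R) * y ^ i * z ^ j else 0) := by
  have h1 : (1 + y) ^ a * z - (1 + z) ^ a * y =
      ∑ k ∈ range (a + 1), (y ^ k * z - z ^ k * y) * (a.choose k : R) := by
    rw [add_comm 1 y, add_comm 1 z, add_pow, add_pow, Finset.sum_mul, Finset.sum_mul,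
      ← Finset.sum_sub_distrib]
    apply Finset.sum_congr rfl; intro k _; simp only [one_pow, mul_one]; ring
  have h2 : ∀ i j : ℕ, (if 1 ≤ i ∧ 1 ≤ j ∧ i + j ≤ a then ((a.choose (i + j) : ℕ) : R) * y ^ i * z ^ j
      else 0) = ∑ k ∈ range (a + 1), (if k = i + j ∧ 1 ≤ i ∧ 1 ≤ j then y ^ i * z ^ j else 0) *
        (a.choose k : R) := by
    intro i j
    split_ifs with h
    · rw [Finset.sum_eq_single (i + j)]
      · rw [if_pos ⟨rfl, h.1, h.2.1⟩]; ring
      · intro k _ hk; rw [if_neg (fun h' => hk h'.1), zero_mul]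
      · intro hn; exfalso; apply hn; rw [mem_range]; omega
    · symm; apply Finset.sum_eq_zero; intro k hk; rw [mem_range] at hk
      rw [if_neg (by omega), zero_mul]
  have h3 : ∑ k ∈ range (a + 1), (if k = 0 then (y - z) else 0) * (a.choose k : R) = y - z := by
    rw [Finset.sum_eq_single 0]
    · simp
    · intro k _ hk; rw [if_neg hk, zero_mul]
    · intro hn; exfalso; apply hn; simp
  simp_rw [h2]
  rw [Finset.sum_congr rfl (fun i _ => Finset.sum_comm), Finset.sum_comm, mul_add, Finset.mul_sum]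
  have h4 : ∀ k ∈ range (a + 1), (y - z) * ∑ i ∈ range (a + 1), ∑ j ∈ range (a + 1),
      (if k = i + j ∧ 1 ≤ i ∧ 1 ≤ j then y ^ i * z ^ j else 0) * (a.choose k : R) =
      (y ^ k * z - z ^ k * y) * (a.choose k : R) + (if k = 0 then (y - z) else 0) * (a.choose k : R) := by
    intro k hk
    rw [mem_range] at hk
    have h5 : ∑ i ∈ range (a + 1), ∑ j ∈ range (a + 1),
        (if k = i + j ∧ 1 ≤ i ∧ 1 ≤ j then y ^ i * z ^ j else 0) * (a.choose k : R) =
        G y z a k * (a.choose k : R) := by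
      unfold G; rw [Finset.sum_mul]; apply Finset.sum_congr rfl; intro i _; rw [Finset.sum_mul]
    rw [h5, ← add_mul, ← G_mul y z a k (by omega)]
    ring
  rw [Finset.sum_congr rfl h4, Finset.sum_add_distrib, h3, h1]
  ring

end Groth.Agent.Helper4.HodgeGen
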