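import Mathlib

/-! Homology of a filtered colimit of cochain complexes of abelian groups, elementwise. -/

set_option autoImplicit false
universe w w₁ w₂

open CategoryTheory CategoryTheory.Limits Opposite

namespace Groth.Agent.Helper4.HomColim

section single

variable (K : CochainComplex AddCommGrpCat.{w} ℕ) (q : ℕ)

lemma surj_π : Function.Surjective (K.homologyπ q) :=
  (AddCommGrpCat.epi_iff_surjective _).1 inferInstance

lemma inj_i : Function.Injective (K.iCycles q) :=
  (AddCommGrpCat.mono_iff_injective _).1 inferInstance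

lemma exact_π (p : ℕ) (hp : (ComplexShape.up ℕ).prev q = p) (c : K.cycles q)
    (h : K.homologyπ q c = 0) : ∃ w : K.X p, K.toCycles p q w = c := by
  have hex : (ShortComplex.mk (K.toCycles p q) (K.homologyπ q)
      (K.toCycles_comp_homologyπ p q)).Exact :=
    ShortComplex.exact_of_g_is_cokernel _ (K.homologyIsCokernel p q hp)
  exact (ShortComplex.ab_exact_iff _).1 hex c h

lemma exists_cycle (z : K.X q) (hz : K.d q (q + 1) z = 0) : ∃ c : K.cycles q, K.iCycles q c = z := by
  have hex : (ShortComplex.mk (K.iCycles q) (K.d q (q + 1)) (K.iCycles_d q (q + 1))).Exact :=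
    ShortComplex.exact_of_f_is_kernel _ (K.cyclesIsKernel q (q + 1) (by simp))
  exact (ShortComplex.ab_exact_iff _).1 hex z hz

lemma i_d (c : K.cycles q) (j : ℕ) : K.d q j (K.iCycles q c) = 0 := by
  have := ConcreteCategory.congr_hom (K.iCycles_d q j) c
  rw [ConcreteCategory.comp_apply] at this
  exact this

lemma toCycles_i_apply (p : ℕ) (w : K.X p) : K.iCycles q (K.toCycles p q w) = K.d p q w := by
  have := ConcreteCategory.congr_hom (K.toCycles_i p q) w
  rw [ConcreteCategory.comp_apply] at this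
  exact this

lemma π_toCycles (p : ℕ) (w : K.X p) : K.homologyπ q (K.toCycles p q w) = 0 := by
  have := ConcreteCategory.congr_hom (K.toCycles_comp_homologyπ p q) w
  rw [ConcreteCategory.comp_apply] at this
  exact this

end single

section map

variable {K L : CochainComplex AddCommGrpCat.{w} ℕ} (φ : K ⟶ L) (q : ℕ)

lemma cyclesMap_i_apply (c : K.cycles q) :
    L.iCycles q (HomologicalComplex.cyclesMap φ q c) = φ.f q (K.iCycles q c) := by
  have := ConcreteCategory.congr_hom (HomologicalComplex.cyclesMap_i φ q) c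
  rw [ConcreteCategory.comp_apply, ConcreteCategory.comp_apply] at this
  exact this

lemma π_nat_apply (c : K.cycles q) :
    HomologicalComplex.homologyMap φ q (K.homologyπ q c) =
      L.homologyπ q (HomologicalComplex.cyclesMap φ q c) := by
  have := ConcreteCategory.congr_hom (HomologicalComplex.homologyπ_naturality φ q) c
  rw [ConcreteCategory.comp_apply, ConcreteCategory.comp_apply] at this
  exact this

lemma f_d_apply (i j : ℕ) (z : K.X i) : φ.f j (K.d i j z) = L.d i j (φ.f i z) := by
  have := ConcreteCategory.congr_hom (φ.comm i j) z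
  rw [ConcreteCategory.comp_apply, ConcreteCategory.comp_apply] at this
  exact this.symm

end map

variable {Λ : Type w₁} [Category.{w₂} Λ] [IsFiltered Λ]
  (G : Λ ⥤ CochainComplex AddCommGrpCat.{w} ℕ) (t : Cocone G)

/-- the legs of the cocone -/
abbrev tι (l : Λ) : G.obj l ⟶ t.pt := t.ι.app l

variable
  (hs : ∀ (n : ℕ) (z : t.pt.X n), ∃ (l : Λ) (y : (G.obj l).X n), (tι G t l).f n y = z)
  (hi : ∀ (n : ℕ) (l : Λ) (y : (G.obj l).X n), (tι G t l).f n y = 0 →
    ∃ (m : Λ) (a : l ⟶ m), (G.map a).f n y = 0)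

omit [IsFiltered Λ] in
lemma t_w {l m : Λ} (a : l ⟶ m) (n : ℕ) (y : (G.obj l).X n) :
    (tι G t m).f n ((G.map a).f n y) = (tι G t l).f n y := by
  have h : (G.map a ≫ tι G t m).f n = (tι G t l).f n := by
    show (G.map a ≫ t.ι.app m).f n = (t.ι.app l).f n
    rw [t.w a]
  rw [← h, HomologicalComplex.comp_f, ConcreteCategory.comp_apply]

omit [IsFiltered Λ] in
lemma G_comp {l m k : Λ} (a : l ⟶ m) (b : m ⟶ k) (n : ℕ) (y : (G.obj l).X n) :
    (G.map (a ≫ b)).f n y = (G.map b).f n ((G.map a).f n y) := by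
  rw [G.map_comp, HomologicalComplex.comp_f, ConcreteCategory.comp_apply]

include hs hi in
theorem surj (q : ℕ) (h : t.pt.homology q) :
    ∃ (m : Λ) (h' : (G.obj m).homology q),
      HomologicalComplex.homologyMap (tι G t m) q h' = h := by
  obtain ⟨c, rfl⟩ := surj_π t.pt q h
  obtain ⟨l, y, hy⟩ := hs q (t.pt.iCycles q c)
  have h1 : (tι G t l).f (q + 1) ((G.obj l).d q (q + 1) y) = 0 := by
    rw [f_d_apply, hy, i_d]
  obtain ⟨m, a, ha⟩ := hi (q + 1) l _ h1
  rw [f_d_apply] at ha
  obtain ⟨c', hc'⟩ := exists_cycle (G.obj m) q _ ha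
  refine ⟨m, (G.obj m).homologyπ q c', ?_⟩
  rw [π_nat_apply]
  congr 1
  apply inj_i t.pt q
  rw [cyclesMap_i_apply, hc', t_w, hy]

include hs hi in
theorem inj (q : ℕ) (l : Λ) (h : (G.obj l).homology q)
    (hh : HomologicalComplex.homologyMap (tι G t l) q h = 0) :
    ∃ (m : Λ) (a : l ⟶ m), HomologicalComplex.homologyMap (G.map a) q h = 0 := by
  obtain ⟨c, rfl⟩ := surj_π (G.obj l) q h
  rw [π_nat_apply] at hh
  obtain ⟨p, hp⟩ : ∃ p, (ComplexShape.up ℕ).prev q = p := ⟨_, rfl⟩
  obtain ⟨w, hw⟩ := exact_π t.pt q p hp _ hh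
  obtain ⟨m, w', hw'⟩ := hs _ w
  obtain ⟨k, a, b, -⟩ : ∃ (k : Λ) (_ : l ⟶ k) (_ : m ⟶ k), True :=
    ⟨IsFiltered.max l m, IsFiltered.leftToMax l m, IsFiltered.rightToMax l m, trivial⟩
  have e1 : (tι G t k).f q ((G.map a).f q ((G.obj l).iCycles q c)) =
      t.pt.d p q w := by
    rw [t_w, ← toCycles_i_apply, hw, cyclesMap_i_apply]
  have e2 : (tι G t k).f q ((G.obj k).d p q ((G.map b).f p w')) = t.pt.d p q w := by
    rw [f_d_apply, t_w, hw']
  have h1 : (tι G t k).f q ((G.map a).f q ((G.obj l).iCycles q c) -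
      (G.obj k).d p q ((G.map b).f p w')) = 0 := by
    rw [map_sub, e1, e2, sub_self]
  obtain ⟨k', e, he⟩ := hi q k _ h1
  rw [map_sub, sub_eq_zero, ← G_comp, f_d_apply, ← G_comp] at he
  refine ⟨k', a ≫ e, ?_⟩
  rw [π_nat_apply]
  have h2 : HomologicalComplex.cyclesMap (G.map (a ≫ e)) q c =
      (G.obj k').toCycles p q ((G.map (b ≫ e)).f p w') := by
    apply inj_i (G.obj k') q
    rw [cyclesMap_i_apply, toCycles_i_apply, he]
  rw [h2, π_toCycles]

include hs hi in
/-- the homology of the colimit is the colimit of the homologies -/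
theorem isColimit_homology [HasColimitsOfShape Λ AddCommGrpCat.{w}]
    [PreservesColimitsOfShape Λ (forget AddCommGrpCat.{w})] (q : ℕ) :
    Nonempty (IsColimit ((HomologicalComplex.homologyFunctor AddCommGrpCat.{w}
      (ComplexShape.up ℕ) q).mapCocone t)) := by
  haveI : ReflectsColimitsOfShape Λ (forget AddCommGrpCat.{w}) :=
    reflectsColimitsOfShape_of_reflectsIsomorphisms
  constructor
  refine isColimitOfReflects (forget AddCommGrpCat.{w}) ?_
  refine Types.FilteredColimit.isColimitOf' _ _ ?_ ?_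
  · intro x
    obtain ⟨m, h', hh'⟩ := surj G t hs hi q x
    exact ⟨m, h', hh'.symm⟩
  · intro l (x : (G.obj l).homology q) (y : (G.obj l).homology q) hxy
    have hxy' : HomologicalComplex.homologyMap (tι G t l) q x =
        HomologicalComplex.homologyMap (tι G t l) q y := hxy
    obtain ⟨m, a, ha⟩ := inj G t hs hi q l (x - y) (by rw [map_sub, hxy', sub_self])
    refine ⟨m, a, ?_⟩
    rw [map_sub, sub_eq_zero] at ha
    exact ha

end Groth.Agent.Helper4.HomColim
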