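import Mathlib
import Groth.Agent.Helper4.GradedOfInternal

/-!
# A graded algebra `S` generated in degree one with `S_(f) ≅ R'` for a finite type algebra `R'`
-/

set_option autoImplicit false

namespace Groth.Agent.Helper4.Homog

universe u

open Polynomial

/-- A type synonym for `R × R'` (to keep instance paths uniform). -/
def Q (R R' : Type u) := R × R'

section Q

variable (R R' : Type u) [CommRing R] [CommRing R'] [Algebra R R']

noncomputable instance : CommRing (Q R R') := inferInstanceAs (CommRing (R × R'))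
noncomputable instance : Algebra R (Q R R') := inferInstanceAs (Algebra R (R × R'))

variable {R R'}

/-- The second projection. -/
def Q.sndHom : Q R R' →+* R' where
  toFun q := q.2
  map_one' := rfl
  map_mul' _ _ := rfl
  map_zero' := rfl
  map_add' _ _ := rfl

/-- The inclusion of the second factor (not unital). -/
def Q.inr (x : R') : Q R R' := ((0 : R), x)

theorem Q.sndHom_inr (x : R') : Q.sndHom (Q.inr (R := R) x) = x := rfl

theorem Q.sndHom_algebraMap (r : R) : Q.sndHom (algebraMap R (Q R R') r) = algebraMap R R' r := rfl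

theorem Q.fst_algebraMap (r : R) : (algebraMap R (Q R R') r).1 = r := rfl

theorem Q.inr_one_mul (q : Q R R') (h : Q.sndHom q = 0) : Q.inr (R := R) 1 * q = 0 := by
  refine Prod.ext ?_ ?_
  · show (0 : R) * q.1 = 0
    rw [zero_mul]
  · show (1 : R') * q.2 = 0
    rw [one_mul]; exact h

end Q

variable (R R' : Type u) [CommRing R] [CommRing R'] [Algebra R R'] (G : Finset R')

/-- The generators: `(0,1) T` and `(0,x) T` for `x ∈ G`. -/
noncomputable def gens : Set (Polynomial (Q R R')) :=
  insert (monomial 1 (Q.inr 1 : Q R R')) ((fun x : R' => monomial 1 (Q.inr x : Q R R')) '' (G : Set R'))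

/-- The graded algebra. -/
noncomputable def S : Subalgebra R (Polynomial (Q R R')) := Algebra.adjoin R (gens R R' G)

/-- The grading. -/
noncomputable def ℬ (d : ℕ) : Submodule R (S R R' G) :=
  Submodule.comap (S R R' G).val.toLinearMap
    (LinearMap.range ((monomial d : (Q R R') →ₗ[Q R R'] Polynomial (Q R R')).restrictScalars R))

variable {R R' G}

theorem mem_ℬ {d : ℕ} {s : S R R' G} :
    s ∈ ℬ R R' G d ↔ ∃ q : Q R R', monomial d q = (s : Polynomial (Q R R')) := by
  simp only [ℬ, Submodule.mem_comap, LinearMap.mem_range]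
  rfl

theorem mem_ℬ_iff {d : ℕ} {s : S R R' G} :
    s ∈ ℬ R R' G d ↔ monomial d ((s : Polynomial (Q R R')).coeff d) = (s : Polynomial (Q R R')) := by
  rw [mem_ℬ]
  constructor
  · rintro ⟨q, hq⟩
    rw [← hq, coeff_monomial, if_pos rfl]
  · intro h
    exact ⟨_, h⟩

theorem gens_monomial {x : Polynomial (Q R R')} (hx : x ∈ gens R R' G) :
    ∃ q : Q R R', x = monomial 1 q := by
  rcases hx with rfl | ⟨y, -, rfl⟩
  · exact ⟨_, rfl⟩
  · exact ⟨_, rfl⟩

/-- The homogeneous components of an element of `S` lie in `S`. -/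
theorem monomial_coeff_mem {p : Polynomial (Q R R')} (hp : p ∈ S R R' G) (d : ℕ) :
    monomial d (p.coeff d) ∈ S R R' G := by
  classical
  induction hp using Algebra.adjoin_induction generalizing d with
  | mem x hx =>
    obtain ⟨q, rfl⟩ := gens_monomial hx
    rw [coeff_monomial]
    split_ifs with h
    · subst h
      exact Algebra.subset_adjoin hx
    · rw [map_zero]; exact zero_mem _
  | algebraMap r =>
    rw [Polynomial.algebraMap_apply, coeff_C]
    split_ifs with h
    · subst h
      rw [monomial_zero_left, ← Polynomial.algebraMap_apply]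
      exact Subalgebra.algebraMap_mem _ r
    · rw [map_zero]; exact zero_mem _
  | add p q _ _ ihp ihq =>
    rw [coeff_add, map_add]
    exact add_mem (ihp d) (ihq d)
  | mul p q _ _ ihp ihq =>
    rw [coeff_mul, map_sum]
    refine Subalgebra.sum_mem _ fun x hx => ?_
    have hx' := Finset.HasAntidiagonal.mem_antidiagonal.mp hx
    rw [← hx', ← monomial_mul_monomial]
    exact mul_mem (ihp _) (ihq _)

/-- The degree zero coefficient of an element of `S` comes from `R`. -/
theorem coeff_zero_mem {p : Polynomial (Q R R')} (hp : p ∈ S R R' G) :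
    p.coeff 0 ∈ Set.range (algebraMap R (Q R R')) := by
  induction hp using Algebra.adjoin_induction with
  | mem x hx =>
    obtain ⟨q, rfl⟩ := gens_monomial hx
    rw [coeff_monomial, if_neg (by norm_num)]
    exact ⟨0, map_zero _⟩
  | algebraMap r =>
    rw [Polynomial.algebraMap_apply, coeff_C_zero]
    exact ⟨r, rfl⟩
  | add p q _ _ ihp ihq =>
    obtain ⟨a, ha⟩ := ihp
    obtain ⟨b, hb⟩ := ihq
    exact ⟨a + b, by rw [map_add, ha, hb, coeff_add]⟩
  | mul p q _ _ ihp ihq =>
    obtain ⟨a, ha⟩ := ihp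
    obtain ⟨b, hb⟩ := ihq
    exact ⟨a * b, by rw [map_mul, ha, hb, mul_coeff_zero]⟩

instance : SetLike.GradedMonoid (ℬ R R' G) where
  one_mem := by
    rw [mem_ℬ]
    exact ⟨1, by rw [monomial_zero_left]; rfl⟩
  mul_mem := by
    intro i j a b ha hb
    rw [mem_ℬ] at ha hb ⊢
    obtain ⟨q, hq⟩ := ha
    obtain ⟨q', hq'⟩ := hb
    refine ⟨q * q', ?_⟩
    rw [Subalgebra.coe_mul, ← hq, ← hq', monomial_mul_monomial]

theorem iSup_ℬ : iSup (ℬ R R' G) = ⊤ := by
  rw [eq_top_iff]
  rintro ⟨p, hp⟩ -
  have : (⟨p, hp⟩ : S R R' G) =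
      ∑ d ∈ p.support, (⟨monomial d (p.coeff d), monomial_coeff_mem hp d⟩ : S R R' G) := by
    apply Subtype.ext
    rw [AddSubmonoidClass.coe_finsetSum]
    exact p.as_sum_support
  rw [this]
  refine Submodule.sum_mem _ fun d _ => ?_
  refine Submodule.mem_iSup_of_mem d ?_
  rw [mem_ℬ]
  exact ⟨_, rfl⟩

theorem iSupIndep_ℬ : iSupIndep (ℬ R R' G) := by
  rw [iSupIndep_def]
  intro i
  rw [Submodule.disjoint_def]
  intro x hxi hx
  -- the `i`-th coefficient functional
  let c : S R R' G →ₗ[R] (Q R R') :=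
    ((lcoeff (Q R R') i).restrictScalars R).comp (S R R' G).val.toLinearMap
  have hc : ∀ y : S R R' G, c y = (y : Polynomial (Q R R')).coeff i := fun _ => rfl
  have hle : (⨆ j, ⨆ (_ : j ≠ i), ℬ R R' G j) ≤ LinearMap.ker c := by
    refine iSup₂_le fun j hj y hy => ?_
    rw [mem_ℬ] at hy
    obtain ⟨q, hq⟩ := hy
    rw [LinearMap.mem_ker, hc, ← hq, coeff_monomial, if_neg hj]
  have h0 : (x : Polynomial (Q R R')).coeff i = 0 := by
    have := hle hx
    rw [LinearMap.mem_ker, hc] at this
    exact this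
  rw [mem_ℬ_iff, h0, map_zero] at hxi
  exact Subtype.ext hxi.symm

noncomputable instance instGradedAlgebra : GradedAlgebra (ℬ R R' G) :=
  Groth.Agent.Helper4.gradedAlgebraOfSubalgebra (S R R' G) (ℬ R R' G) iSupIndep_ℬ iSup_ℬ

variable (R R' G) in
/-- The element `T₀ = (0,1) T` of degree one. -/
noncomputable def T₀ : S R R' G :=
  ⟨monomial 1 (Q.inr 1 : Q R R'), Algebra.subset_adjoin (Set.mem_insert _ _)⟩

theorem T₀_mem : T₀ R R' G ∈ ℬ R R' G 1 := mem_ℬ.mpr ⟨_, rfl⟩

variable (R R' G) in
/-- The element `(0,x) T` of degree one, for `x ∈ G`. -/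
noncomputable def Tx (x : R') (hx : x ∈ G) : S R R' G :=
  ⟨monomial 1 (Q.inr x : Q R R'),
    Algebra.subset_adjoin (Set.mem_insert_of_mem _ ⟨x, Finset.mem_coe.mpr hx, rfl⟩)⟩

theorem Tx_mem (x : R') (hx : x ∈ G) : Tx R R' G x hx ∈ ℬ R R' G 1 := mem_ℬ.mpr ⟨_, rfl⟩

theorem algebraMap_injective : Function.Injective (algebraMap R (S R R' G)) := by
  intro a b hab
  have h1 : (algebraMap R (Polynomial (Q R R')) a) = algebraMap R (Polynomial (Q R R')) b :=
    congrArg Subtype.val hab
  rw [Polynomial.algebraMap_apply, Polynomial.algebraMap_apply] at h1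
  have h2 := Polynomial.C_injective h1
  have h3 := congrArg (fun q : Q R R' => q.1) h2
  simpa only [Q.fst_algebraMap] using h3

theorem mem_range_of_mem_zero {x : S R R' G} (hx : x ∈ ℬ R R' G 0) :
    x ∈ Set.range (algebraMap R (S R R' G)) := by
  obtain ⟨r, hr⟩ := coeff_zero_mem x.2
  rw [mem_ℬ_iff] at hx
  refine ⟨r, Subtype.ext ?_⟩
  show algebraMap R (Polynomial (Q R R')) r = x
  rw [← hx, ← hr, monomial_zero_left, Polynomial.algebraMap_apply]

variable (R R' G) in
/-- Evaluation at `T = 1` followed by the second projection. -/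
noncomputable def ev : S R R' G →+* R' :=
  (Q.sndHom (R := R) (R' := R')).comp ((Polynomial.evalRingHom (1 : Q R R')).comp (S R R' G).val.toRingHom)

theorem ev_apply (s : S R R' G) : ev R R' G s = Q.sndHom ((s : Polynomial (Q R R')).eval 1) := rfl

theorem ev_T₀ : ev R R' G (T₀ R R' G) = 1 := by
  rw [ev_apply]
  show Q.sndHom ((monomial 1 (Q.inr 1 : Q R R')).eval 1) = 1
  rw [eval_monomial, one_pow, mul_one, Q.sndHom_inr]

theorem ev_Tx (x : R') (hx : x ∈ G) : ev R R' G (Tx R R' G x hx) = x := by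
  rw [ev_apply]
  show Q.sndHom ((monomial 1 (Q.inr x : Q R R')).eval 1) = x
  rw [eval_monomial, one_pow, mul_one, Q.sndHom_inr]

theorem ev_algebraMap (r : R) : ev R R' G (algebraMap R (S R R' G) r) = algebraMap R R' r := by
  rw [ev_apply]
  show Q.sndHom ((algebraMap R (Polynomial (Q R R')) r).eval 1) = _
  rw [Polynomial.algebraMap_apply, eval_C, Q.sndHom_algebraMap]

/-- A homogeneous element killed by `ev` is killed by `T₀`. -/
theorem T₀_mul_eq_zero {d : ℕ} {a : S R R' G} (ha : a ∈ ℬ R R' G d) (h : ev R R' G a = 0) :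
    T₀ R R' G * a = 0 := by
  rw [mem_ℬ] at ha
  obtain ⟨q, hq⟩ := ha
  rw [ev_apply, ← hq, eval_monomial, one_pow, mul_one] at h
  apply Subtype.ext
  rw [Subalgebra.coe_mul, ← hq]
  show monomial 1 (Q.inr 1 : Q R R') * monomial d q = 0
  rw [monomial_mul_monomial, Q.inr_one_mul q h, map_zero]

end Groth.Agent.Helper4.Homog
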