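import Mathlib
import Groth.Agent.Helper4.Homog

/-!
# `S_(T₀) ≅ R'`
-/

set_option autoImplicit false

namespace Groth.Agent.Helper4.Homog

universe u

open Polynomial

variable {R R' : Type u} [CommRing R] [CommRing R'] [Algebra R R'] {G : Finset R'}

theorem isUnit_ev_T₀ : IsUnit (ev R R' G (T₀ R R' G)) := by
  rw [ev_T₀]; exact isUnit_one

variable (R R' G) in
/-- The map `S_{T₀} → R'`. -/
noncomputable def L : Localization.Away (T₀ R R' G) →+* R' :=
  IsLocalization.Away.lift (T₀ R R' G) isUnit_ev_T₀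

theorem L_algebraMap (a : S R R' G) : L R R' G (algebraMap _ _ a) = ev R R' G a :=
  IsLocalization.Away.lift_eq _ isUnit_ev_T₀ a

theorem L_mk (a : S R R' G) (n : ℕ) :
    L R R' G (Localization.mk a ⟨T₀ R R' G ^ n, n, rfl⟩) = ev R R' G a := by
  have h1 : Localization.mk a (⟨T₀ R R' G ^ n, n, rfl⟩ : Submonoid.powers (T₀ R R' G)) *
      algebraMap _ _ (T₀ R R' G ^ n) = algebraMap _ _ a := by
    rw [Localization.mk_eq_mk']
    exact IsLocalization.mk'_spec _ _ _
  have h2 := congrArg (L R R' G) h1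
  rw [map_mul, L_algebraMap, L_algebraMap, map_pow, ev_T₀, one_pow, mul_one] at h2
  exact h2

variable (R R' G) in
/-- The map `S_(T₀) → R'`. -/
noncomputable def θ : HomogeneousLocalization.Away (ℬ R R' G) (T₀ R R' G) →+* R' :=
  (L R R' G).comp (algebraMap _ (Localization.Away (T₀ R R' G)))

theorem θ_mk (n : ℕ) (a : S R R' G) (ha : a ∈ ℬ R R' G (n • 1)) :
    θ R R' G (HomogeneousLocalization.Away.mk (ℬ R R' G) T₀_mem n a ha) = ev R R' G a := by
  show L R R' G ((HomogeneousLocalization.Away.mk (ℬ R R' G) T₀_mem n a ha).val) = _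
  rw [HomogeneousLocalization.Away.val_mk]
  exact L_mk a n

theorem θ_injective : Function.Injective (θ R R' G) := by
  rw [injective_iff_map_eq_zero]
  intro z hz
  obtain ⟨n, a, ha, rfl⟩ := HomogeneousLocalization.Away.mk_surjective (ℬ R R' G) T₀_mem z
  rw [θ_mk] at hz
  have h0 := T₀_mul_eq_zero ha hz
  apply HomogeneousLocalization.val_injective
  rw [HomogeneousLocalization.Away.val_mk, HomogeneousLocalization.val_zero,
    Localization.mk_eq_mk', IsLocalization.mk'_eq_zero_iff]
  exact ⟨⟨T₀ R R' G, 1, pow_one _⟩, h0⟩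

variable (R R' G) in
/-- The element `r/1`. -/
noncomputable def zr (r : R) : HomogeneousLocalization.Away (ℬ R R' G) (T₀ R R' G) :=
  HomogeneousLocalization.Away.mk (ℬ R R' G) T₀_mem 0 (algebraMap R (S R R' G) r) (by
    rw [zero_smul]
    exact SetLike.algebraMap_mem_graded (ℬ R R' G) r)

theorem θ_zr (r : R) : θ R R' G (zr R R' G r) = algebraMap R R' r := by
  rw [zr, θ_mk, ev_algebraMap]

theorem zr_val (r : R) : (zr R R' G r).val =
    algebraMap (S R R' G) (Localization.Away (T₀ R R' G)) (algebraMap R (S R R' G) r) := by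
  rw [zr, HomogeneousLocalization.Away.val_mk, ← Localization.mk_one_eq_algebraMap]
  congr 1

theorem θ_surjective (hG : Algebra.adjoin R (G : Set R') = ⊤) :
    Function.Surjective (θ R R' G) := by
  let T : Subalgebra R R' :=
    { (θ R R' G).range with
      algebraMap_mem' := fun r => ⟨zr R R' G r, θ_zr r⟩ }
  have hT : ∀ x, x ∈ T ↔ ∃ z, θ R R' G z = x := fun x => Iff.rfl
  have hle : Algebra.adjoin R (G : Set R') ≤ T := by
    rw [Algebra.adjoin_le_iff]
    intro x hx
    rw [SetLike.mem_coe, hT]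
    refine ⟨HomogeneousLocalization.Away.mk (ℬ R R' G) T₀_mem 1 (Tx R R' G x hx) ?_, ?_⟩
    · rw [one_smul]; exact Tx_mem x hx
    · rw [θ_mk, ev_Tx]
  intro x
  have : x ∈ T := hle (hG ▸ Algebra.mem_top)
  exact (hT x).mp this

end Groth.Agent.Helper4.Homog
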