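import Groth.Agent.Helper4.RelSerre
import Groth.Agent.Helper4.SubSum
import Mathlib

set_option autoImplicit false
universe u
open CategoryTheory CategoryTheory.Limits AlgebraicGeometry Opposite TopologicalSpace

namespace Groth.Agent.Helper4.IdealSum

open Groth.Agent.Helper4.GenLoc Groth.Agent.Helper4.StalkExact Groth.Agent.Helper4.QAffSec
  Groth.Agent.Helper4.RelSerre

variable {X : Scheme.{u}}

/-- a quasi-coherent ideal, as a module with a monomorphism to the structure sheaf -/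
structure Idl (X : Scheme.{u}) where
  M : X.Modules
  ι : M ⟶ Coh.structureModule X
  mono : Mono ι
  qcoh : M.IsQuasicoherent

/-- the map `A ⊕ B ⟶ O` -/
noncomputable def Idl.addMap (A B : Idl X) : A.M ⊞ B.M ⟶ Coh.structureModule X :=
  biprod.desc A.ι B.ι

/-- sum of two ideals -/
noncomputable def Idl.add (A B : Idl X) : Idl X where
  M := Abelian.image (A.addMap B)
  ι := Abelian.image.ι (A.addMap B)
  mono := inferInstance
  qcoh := by
    haveI := A.qcoh
    haveI := B.qcoh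
    haveI : (A.M ⊞ B.M).IsQuasicoherent :=
      Groth.Agent.Helper4.QcohLimits.isQuasicoherent_biprod _ _
    haveI : (Coh.structureModule X).IsQuasicoherent :=
      isQuasicoherent_of_isInvertible _ Groth.Agent.Helper4.TensorInv.isInvertible_structureModule
    exact Groth.Agent.Helper4.QcohLimits.isQuasicoherent_image _

/-- the projection `A ⊕ B ⟶ A + B` -/
noncomputable def Idl.addProj (A B : Idl X) : A.M ⊞ B.M ⟶ (A.add B).M :=
  Abelian.factorThruImage (A.addMap B)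

theorem Idl.addProj_ι (A B : Idl X) (T : X.Opens) (w : Γ(A.M ⊞ B.M, T)) :
    (A.add B).ι.app T ((A.addProj B).app T w) =
      A.ι.app T ((biprod.fst : A.M ⊞ B.M ⟶ A.M).app T w) +
        B.ι.app T ((biprod.snd : A.M ⊞ B.M ⟶ B.M).app T w) := by
  have h1 : (A.addProj B) ≫ (A.add B).ι = A.addMap B := Abelian.image.fac _
  have h2 : (A.add B).ι.app T ((A.addProj B).app T w) = (A.addMap B).app T w :=
    congrArg (fun ψ : A.M ⊞ B.M ⟶ Coh.structureModule X => ψ.app T w) h1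
  rw [h2]
  conv_lhs => rw [← Groth.Agent.Helper4.SubSum.biprod_total_app T w, map_add]
  have e1 : (biprod.inl : A.M ⟶ A.M ⊞ B.M) ≫ A.addMap B = A.ι := biprod.inl_desc _ _
  have e2 : (biprod.inr : B.M ⟶ A.M ⊞ B.M) ≫ A.addMap B = B.ι := biprod.inr_desc _ _
  have e1' : ∀ z, (A.addMap B).app T ((biprod.inl : A.M ⟶ A.M ⊞ B.M).app T z) = A.ι.app T z :=
    fun z => congrArg (fun ψ : A.M ⟶ Coh.structureModule X => ψ.app T z) e1
  have e2' : ∀ z, (A.addMap B).app T ((biprod.inr : B.M ⟶ A.M ⊞ B.M).app T z) = B.ι.app T z :=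
    fun z => congrArg (fun ψ : B.M ⟶ Coh.structureModule X => ψ.app T z) e2
  rw [e1', e2']

theorem Idl.addProj_inl (A B : Idl X) (T : X.Opens) (a : Γ(A.M, T)) :
    (A.add B).ι.app T ((A.addProj B).app T ((biprod.inl : A.M ⟶ A.M ⊞ B.M).app T a)) =
      A.ι.app T a := by
  rw [Idl.addProj_ι]
  have e3 : (biprod.inl : A.M ⟶ A.M ⊞ B.M) ≫ (biprod.fst : A.M ⊞ B.M ⟶ A.M) = 𝟙 _ :=
    biprod.inl_fst
  have e4 : (biprod.inl : A.M ⟶ A.M ⊞ B.M) ≫ (biprod.snd : A.M ⊞ B.M ⟶ B.M) = 0 :=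
    biprod.inl_snd
  have e3' : (biprod.fst : A.M ⊞ B.M ⟶ A.M).app T ((biprod.inl : A.M ⟶ A.M ⊞ B.M).app T a) = a :=
    congrArg (fun ψ : A.M ⟶ A.M => ψ.app T a) e3
  have e4' : (biprod.snd : A.M ⊞ B.M ⟶ B.M).app T ((biprod.inl : A.M ⟶ A.M ⊞ B.M).app T a) = 0 :=
    congrArg (fun ψ : A.M ⟶ B.M => ψ.app T a) e4
  rw [e3', e4', map_zero, add_zero]

theorem Idl.addProj_inr (A B : Idl X) (T : X.Opens) (b : Γ(B.M, T)) :
    (A.add B).ι.app T ((A.addProj B).app T ((biprod.inr : B.M ⟶ A.M ⊞ B.M).app T b)) =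
      B.ι.app T b := by
  rw [Idl.addProj_ι]
  have e3 : (biprod.inr : B.M ⟶ A.M ⊞ B.M) ≫ (biprod.fst : A.M ⊞ B.M ⟶ A.M) = 0 :=
    biprod.inr_fst
  have e4 : (biprod.inr : B.M ⟶ A.M ⊞ B.M) ≫ (biprod.snd : A.M ⊞ B.M ⟶ B.M) = 𝟙 _ :=
    biprod.inr_snd
  have e3' : (biprod.fst : A.M ⊞ B.M ⟶ A.M).app T ((biprod.inr : B.M ⟶ A.M ⊞ B.M).app T b) = 0 :=
    congrArg (fun ψ : B.M ⟶ A.M => ψ.app T b) e3
  have e4' : (biprod.snd : A.M ⊞ B.M ⟶ B.M).app T ((biprod.inr : B.M ⟶ A.M ⊞ B.M).app T b) = b :=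
    congrArg (fun ψ : B.M ⟶ B.M => ψ.app T b) e4
  rw [e3', e4', map_zero, zero_add]

/-- iterated sum of a list of ideals -/
noncomputable def sumIdl (A : Idl X) : List (Idl X) → Idl X
  | [] => A
  | B :: l => (sumIdl A l).add B

/-- the hypothesis: sums of two ideals are surjective on sections over `X'` -/
def H2 (X' : X.Opens) : Prop :=
  ∀ A B : Idl X, Function.Surjective ((A.addProj B).app X')

/-- the functions on `X'` coming from the ideals of a list -/
def fnSet (X' : X.Opens) (L : List (Idl X)) : Set Γ(X, X') :=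
  {h | ∃ J ∈ L, ∃ a : Γ(J.M, X'), toFn (J.ι.app X' a) = h}

theorem fnSet_mono (X' : X.Opens) {L L' : List (Idl X)} (h : ∀ J ∈ L, J ∈ L') :
    fnSet X' L ⊆ fnSet X' L' := by
  rintro _ ⟨J, hJ, a, rfl⟩
  exact ⟨J, h J hJ, a, rfl⟩

theorem mem_span_fnSet {X' : X.Opens} (h : H2 X') (A : Idl X) :
    ∀ (l : List (Idl X)) (c : Γ((sumIdl A l).M, X')),
      toFn ((sumIdl A l).ι.app X' c) ∈ Ideal.span (fnSet X' (A :: l))
  | [], c => Ideal.subset_span ⟨A, List.mem_cons_self, c, rfl⟩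
  | B :: l, c => by
    obtain ⟨w, hw⟩ := h (sumIdl A l) B c
    change toFn (((sumIdl A l).add B).ι.app X' c) ∈ _
    rw [← hw, Idl.addProj_ι]
    change toFn ((sumIdl A l).ι.app X' _) + toFn (B.ι.app X' _) ∈ _
    apply Ideal.add_mem
    · refine Ideal.span_mono (fnSet_mono X' ?_) (mem_span_fnSet h A l _)
      intro J hJ
      rcases List.mem_cons.mp hJ with rfl | hJ
      · exact List.mem_cons_self
      · exact List.mem_cons_of_mem _ (List.mem_cons_of_mem _ hJ)
    · exact Ideal.subset_span ⟨B, List.mem_cons_of_mem _ List.mem_cons_self, _, rfl⟩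

theorem exists_section_sumIdl (A : Idl X) :
    ∀ (l : List (Idl X)) (J : Idl X), J ∈ A :: l → ∀ (W : X.Opens) (a : Γ(J.M, W)),
      ∃ c : Γ((sumIdl A l).M, W), (sumIdl A l).ι.app W c = J.ι.app W a
  | [], J, hJ, W, a => by
    have : J = A := by simpa using hJ
    subst this
    exact ⟨a, rfl⟩
  | B :: l, J, hJ, W, a => by
    by_cases hJB : J = B
    · subst hJB
      exact ⟨((sumIdl A l).addProj J).app W ((biprod.inr : J.M ⟶ (sumIdl A l).M ⊞ J.M).app W a),
        Idl.addProj_inr _ _ _ _⟩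
    · have hJ' : J ∈ A :: l := by
        rcases List.mem_cons.mp hJ with rfl | hJ
        · exact List.mem_cons_self
        · rcases List.mem_cons.mp hJ with rfl | hJ
          · exact absurd rfl hJB
          · exact List.mem_cons_of_mem _ hJ
      obtain ⟨c', hc'⟩ := exists_section_sumIdl A l J hJ' W a
      refine ⟨((sumIdl A l).addProj B).app W
        ((biprod.inl : (sumIdl A l).M ⟶ (sumIdl A l).M ⊞ B.M).app W c'), ?_⟩
      change ((sumIdl A l).add B).ι.app W _ = _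
      rw [Idl.addProj_inl, hc']

/-- the ideal of the complement of an open, bundled -/
theorem exists_idl (U : X.Opens) :
    ∃ J : Idl X, (∀ V : X.Opens, V ≤ U → Function.Bijective (J.ι.app V)) ∧
      (∀ (D : X.Opens) (m : Γ(J.M, D)), X.basicOpen (toFn (J.ι.app D m)) ≤ U) := by
  obtain ⟨J, ιJ, hmono, hJq, hbij, hvan⟩ := Groth.Agent.Helper4.FTIdeal2.exists_ideal_module_mono' U
  exact ⟨⟨J, ιJ, hmono, hJq⟩, hbij, hvan⟩

/-- **Serre's criterion, relative form with two ideals**: a quasi-compact open `X'` of `X` is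
affine as soon as sums of two quasi-coherent ideals of `O_X` are surjective on sections over
`X'`. -/
theorem isAffineOpen_of_H2 {X' : X.Opens} (hc : IsCompact (X' : Set X)) (h : H2 X') :
    IsAffineOpen X' := by
  classical
  have hex : ∀ y : X', ∃ U : X.Opens, IsAffineOpen U ∧ y.1 ∈ U ∧ U ≤ X' := by
    intro y
    obtain ⟨U, hU, hyU, hUX'⟩ :=
      exists_isAffineOpen_mem_and_subset (X := X) (x := y.1) (U := X') y.2
    exact ⟨U, hU, hyU, hUX'⟩
  choose U hU hyU hUX' using hex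
  obtain ⟨t, ht⟩ := hc.elim_nhds_subcover' (fun y hy => (U ⟨y, hy⟩ : Set X))
    (fun y hy => (U ⟨y, hy⟩).isOpen.mem_nhds (hyU ⟨y, hy⟩))
  choose idl hbij hvan using fun y : X' => exists_idl (U y)
  obtain ⟨A₀, -, hvan₀⟩ := exists_idl (X := X) ⊥
  let l : List (Idl X) := t.toList.map idl
  let S := sumIdl A₀ l
  haveI := S.mono
  obtain ⟨c₁, hc₁⟩ := exists_section_of_local_sections S.ι X' (one X X') (by
    intro y hy
    obtain ⟨z, hzt, hyz⟩ := Set.mem_iUnion₂.mp (ht hy)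
    refine ⟨U z, hUX' z, hyz, ?_⟩
    obtain ⟨s, hs⟩ := (hbij z (U z) le_rfl).2 (one X (U z))
    have hmem : idl z ∈ A₀ :: l :=
      List.mem_cons_of_mem _ (List.mem_map.mpr ⟨z, Finset.mem_toList.mpr hzt, rfl⟩)
    obtain ⟨c, hc⟩ := exists_section_sumIdl A₀ l (idl z) hmem (U z) s
    refine ⟨c, ?_⟩
    rw [Groth.Agent.Helper4.SecRatio.one_res, hc, hs])
  have hone : (1 : Γ(X, X')) ∈ Ideal.span (fnSet X' (A₀ :: l)) := by
    have := mem_span_fnSet h A₀ l c₁
    rw [hc₁] at this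
    exact this
  refine isAffineOpen_of_isAffineOpen_basicOpen X' (fnSet X' (A₀ :: l))
    ((Ideal.eq_top_iff_one _).mpr hone) ?_
  rintro _ ⟨J, hJ, a, rfl⟩
  rcases List.mem_cons.mp hJ with rfl | hJ
  · have hle : X.basicOpen (toFn (J.ι.app X' a)) ≤ ⊥ := hvan₀ X' a
    rw [le_bot_iff.mp hle]
    exact isAffineOpen_bot X
  · obtain ⟨z, -, rfl⟩ := List.mem_map.mp hJ
    have hle : X.basicOpen (toFn ((idl z).ι.app X' a)) ≤ U z := hvan z X' a
    have := (hU z).basicOpen (X.presheaf.map (homOfLE (hUX' z)).op (toFn ((idl z).ι.app X' a)))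
    rwa [Scheme.basicOpen_res, inf_eq_right.mpr hle] at this

/-- the relative Serre hypothesis implies the two-ideal hypothesis -/
theorem H2_of_relHyp {X' : X.Opens} (h : RelHyp X') : H2 X' := by
  intro A B
  haveI := A.qcoh
  haveI := B.qcoh
  haveI : (A.M ⊞ B.M).IsQuasicoherent :=
    Groth.Agent.Helper4.QcohLimits.isQuasicoherent_biprod _ _
  exact h _ _ (A.addProj B) inferInstance (A.add B).qcoh
    (inferInstanceAs (Epi (Abelian.factorThruImage (A.addMap B))))

end Groth.Agent.Helper4.IdealSum
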