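import Mathlib

/-!
# Coefficients of `∏ σ, (T - σ x)` for `x ∈ J R`
-/

set_option autoImplicit false

namespace Groth.Agent.Helper4.InvCharPoly

open Polynomial

universe u

variable (A R G : Type u) [CommRing A] [CommRing R] [Algebra A R] [Group G] [Fintype G]
  [MulSemiringAction G R] [SMulCommClass G A R] [Algebra.IsInvariant A R G]

lemma core {ι : Type u} [Fintype ι] (J : Ideal A) (j : ι → A) (hj : ∀ i, j i ∈ J) (r : ι → R)
    (k : ℕ) (hk : k < Fintype.card G) :
    ∃ c ∈ J, algebraMap A R c =
      (∏ τ : G, (X - C (τ • ∑ i, algebraMap A R (j i) * r i))).coeff k := by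
  classical
  let φ : G → (MvPolynomial ι R →+* MvPolynomial ι R) := fun σ =>
    MvPolynomial.map (MulSemiringAction.toRingHom G R σ)
  let L : G → MvPolynomial ι R := fun τ => ∑ i, MvPolynomial.X i * MvPolynomial.C (τ • r i)
  let F : (MvPolynomial ι R)[X] := ∏ τ : G, (X - C (L τ))
  have hφL : ∀ σ τ, φ σ (L τ) = L (σ * τ) := by
    intro σ τ
    simp only [φ, L, map_sum, map_mul, MvPolynomial.map_X, MvPolynomial.map_C,
      MulSemiringAction.toRingHom_apply, mul_smul]
  have hFinv : ∀ σ, F.map (φ σ) = F := by
    intro σ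
    simp only [F, Polynomial.map_prod, Polynomial.map_sub, Polynomial.map_X, Polynomial.map_C, hφL]
    exact Fintype.prod_equiv (Equiv.mulLeft σ) _ _ (fun τ => rfl)
  have hcoeff_inv : ∀ (α : ι →₀ ℕ) (σ : G),
      σ • (MvPolynomial.coeff α (F.coeff k)) = MvPolynomial.coeff α (F.coeff k) := by
    intro α σ
    have := congrArg (fun p => MvPolynomial.coeff α (p.coeff k)) (hFinv σ)
    simp only [Polynomial.coeff_map, φ, MvPolynomial.coeff_map,
      MulSemiringAction.toRingHom_apply] at this
    exact this
  have hconst : MvPolynomial.coeff 0 (F.coeff k) = 0 := by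
    have hL0 : ∀ τ, MvPolynomial.constantCoeff (L τ) = 0 := by
      intro τ
      simp only [L, map_sum, map_mul, MvPolynomial.constantCoeff_X, zero_mul,
        Finset.sum_const_zero]
    have hfac : ∀ τ, (X - C (L τ)).map (MvPolynomial.constantCoeff) = (X : R[X]) := by
      intro τ
      rw [Polynomial.map_sub, Polynomial.map_X, Polynomial.map_C, hL0, Polynomial.C_0, sub_zero]
    have h1 : F.map (MvPolynomial.constantCoeff) = X ^ Fintype.card G := by
      simp only [F, Polynomial.map_prod, hfac, Finset.prod_const, Finset.card_univ]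
    have := congrArg (fun p => p.coeff k) h1
    simp only [Polynomial.coeff_map, Polynomial.coeff_X_pow, if_neg hk.ne] at this
    exact this
  choose a ha using fun α => Algebra.IsInvariant.isInvariant (A := A) (G := G)
    (MvPolynomial.coeff α (F.coeff k)) (hcoeff_inv α)
  refine ⟨∑ α ∈ (F.coeff k).support, a α * ∏ i, j i ^ α i, ?_, ?_⟩
  · refine J.sum_mem fun α hα => J.mul_mem_left _ ?_
    have hα0 : α ≠ 0 := by
      rintro rfl
      exact (MvPolynomial.mem_support_iff.mp hα) hconst
    obtain ⟨i, hi⟩ : ∃ i, α i ≠ 0 := by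
      by_contra h
      push Not at h
      exact hα0 (Finsupp.ext h)
    have : ∏ i, j i ^ α i = j i ^ α i * ∏ i' ∈ Finset.univ.erase i, j i' ^ α i' :=
      (Finset.mul_prod_erase _ _ (Finset.mem_univ i)).symm
    rw [this]
    exact J.mul_mem_right _ (J.pow_mem_of_mem (hj i) _ (Nat.pos_of_ne_zero hi))
  · rw [map_sum]
    simp only [map_mul, map_prod, map_pow, ha]
    rw [← MvPolynomial.eval_eq' (fun i => algebraMap A R (j i)) (F.coeff k)]
    rw [← Polynomial.coeff_map (MvPolynomial.eval fun i => algebraMap A R (j i))]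
    congr 1
    have hLe : ∀ τ, MvPolynomial.eval (fun i => algebraMap A R (j i)) (L τ) =
        τ • ∑ i, algebraMap A R (j i) * r i := by
      intro τ
      simp only [L, map_sum, map_mul, MvPolynomial.eval_X, MvPolynomial.eval_C, Finset.smul_sum,
        smul_mul', smul_algebraMap]
    have hfac : ∀ τ, (X - C (L τ)).map (MvPolynomial.eval fun i => algebraMap A R (j i)) =
        X - C (τ • ∑ i, algebraMap A R (j i) * r i) := by
      intro τ
      rw [Polynomial.map_sub, Polynomial.map_X, Polynomial.map_C, hLe]
    simp only [F, Polynomial.map_prod, hfac]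

theorem main (J : Ideal A) (x : R) (hx : x ∈ Ideal.map (algebraMap A R) J) :
    ∃ P : Polynomial A, P.Monic ∧ P.natDegree ≤ Fintype.card G ∧
      (∀ i : ℕ, i < Fintype.card G → P.coeff i ∈ J) ∧
      Polynomial.map (algebraMap A R) P = ∏ σ : G, (Polynomial.X - Polynomial.C (σ • x)) := by
  classical
  -- representation of x
  have hx' : x ∈ Submodule.span R ((algebraMap A R) '' (J : Set A)) := hx
  obtain ⟨t, ht, c, hc⟩ := (Submodule.mem_span_image_iff_exists_fun R).mp hx'
  have hxeq : x = ∑ i : t, algebraMap A R (i : A) * c i := by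
    rw [← hc]
    exact Finset.sum_congr rfl fun i _ => by rw [smul_eq_mul, mul_comm]
  set n := Fintype.card G with hn
  set T : R[X] := ∏ σ : G, (X - C (σ • x)) with hT
  have hTmonic : T.Monic := Polynomial.monic_prod_of_monic _ _ fun σ _ => monic_X_sub_C _
  have hcore : ∀ k : ℕ, k < n → ∃ c ∈ J, algebraMap A R c = T.coeff k := by
    intro k hk
    have := core A R G (ι := t) J (fun i => (i : A)) (fun i => ht i.2) c k hk
    rw [← hxeq] at this
    exact this
  choose! cf hcfJ hcf using hcore
  let Q : A[X] := ∑ k ∈ Finset.range n, monomial k (cf k)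
  have hQcoeff : ∀ i, Q.coeff i = if i < n then cf i else 0 := by
    intro i
    simp only [Q, Polynomial.finset_sum_coeff, Polynomial.coeff_monomial]
    rw [Finset.sum_ite_eq' (Finset.range n) i]
    simp [Finset.mem_range]
  have hQdeg : Q.degree < n := by
    rw [Polynomial.degree_lt_iff_coeff_zero]
    intro m hm
    rw [hQcoeff, if_neg (not_lt.mpr hm)]
  refine ⟨X ^ n + Q, Polynomial.monic_X_pow_add hQdeg, ?_, ?_, ?_⟩
  · refine (Polynomial.natDegree_add_le _ _).trans (max_le (Polynomial.natDegree_X_pow_le n) ?_)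
    exact Polynomial.natDegree_le_of_degree_le hQdeg.le
  · intro i hi
    rw [Polynomial.coeff_add, Polynomial.coeff_X_pow, if_neg hi.ne, zero_add, hQcoeff, if_pos hi]
    exact hcfJ i hi
  · rcases subsingleton_or_nontrivial R with hR | hR
    · exact Subsingleton.elim _ _
    have hTdeg : T.natDegree = n := by
      rw [hT, Polynomial.natDegree_prod_of_monic _ _ fun σ _ => monic_X_sub_C _]
      simp [hn]
    ext i
    rw [Polynomial.coeff_map, Polynomial.coeff_add, Polynomial.coeff_X_pow, hQcoeff]
    rcases lt_trichotomy i n with hi | hi | hi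
    · rw [if_neg hi.ne, if_pos hi, zero_add, hcf i hi]
    · subst hi
      rw [if_pos rfl, if_neg (lt_irrefl _), add_zero, map_one]
      have := hTmonic.coeff_natDegree
      rw [hTdeg] at this
      exact this.symm
    · rw [if_neg hi.ne', if_neg (not_lt.mpr hi.le), add_zero, map_zero]
      exact (Polynomial.coeff_eq_zero_of_natDegree_lt (by omega)).symm

end Groth.Agent.Helper4.InvCharPoly
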