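import Groth.Agent.Helper4.GammaFin

/-!
# Coefficient lemmas used for Iversen's map (helper4)
-/

set_option autoImplicit false
universe u
open scoped TensorProduct
open MvPolynomial

namespace Groth.Agent.Helper4.Iversen

open Groth.Agent.Helper4.PolLaw1 Groth.Agent.Helper4.GammaSpan Groth.Agent.Helper4.GammaFin

section cf

variable {A : Type u} [CommRing A] {σ : Type*}

theorem cf_lTensor {C C' : Type*} [AddCommGroup C] [Module A C] [AddCommGroup C'] [Module A C']
    (f : C →ₗ[A] C') (M : σ →₀ ℕ) (W : MvPolynomial σ A ⊗[A] C) :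
    cf M (f.lTensor (MvPolynomial σ A) W) = f (cf M W) := by
  induction W using TensorProduct.induction_on with
  | zero => simp
  | tmul p c => simp
  | add w₁ w₂ h₁ h₂ => simp only [map_add, h₁, h₂]

theorem cf_X_mul [DecidableEq σ] {C : Type*} [CommRing C] [Algebra A C] (j : σ) (M : σ →₀ ℕ)
    (W : MvPolynomial σ A ⊗[A] C) :
    cf M ((X j ⊗ₜ[A] (1 : C)) * W) = if 0 < M j then cf (M - Finsupp.single j 1) W else 0 := by
  induction W using TensorProduct.induction_on with
  | zero => simp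
  | tmul p c =>
    rw [Algebra.TensorProduct.tmul_mul_tmul, one_mul, cf_tmul, coeff_X_mul']
    by_cases h : 0 < M j
    · have : j ∈ M.support := by
        rw [Finsupp.mem_support_iff]; omega
      rw [if_pos this, if_pos h, cf_tmul]
    · have : j ∉ M.support := by
        rw [Finsupp.mem_support_iff]; omega
      rw [if_neg this, if_neg h, zero_smul]
  | add w₁ w₂ h₁ h₂ =>
    rw [mul_add, map_add, h₁, h₂]
    split_ifs <;> simp

end cf

section gen

variable {A : Type u} [CommRing A] {B : Type u} [CommRing B] [Algebra A B]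

theorem exists_gen_one (S : Type u) [CommSemiring S] [Algebra A S] (x : S ⊗[A] B) :
    ∃ (r : ℕ) (e : Fin (r + 1) → B) (s : Fin (r + 1) → S), e 0 = 1 ∧ x = gen S s e := by
  induction x using TensorProduct.induction_on with
  | zero => exact ⟨0, fun _ => 1, fun _ => 0, rfl, by simp [gen]⟩
  | tmul a b =>
    refine ⟨1, ![1, b], ![0, a], rfl, ?_⟩
    simp [gen, Fin.sum_univ_two]
  | add x₁ x₂ h₁ h₂ =>
    obtain ⟨r₁, e₁, s₁, he₁, rfl⟩ := h₁
    obtain ⟨r₂, e₂, s₂, he₂, rfl⟩ := h₂
    refine ⟨r₁ + 1 + r₂, (Fin.append e₁ e₂ : Fin ((r₁ + 1) + (r₂ + 1)) → B),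
      (Fin.append s₁ s₂ : Fin ((r₁ + 1) + (r₂ + 1)) → S), ?_, ?_⟩
    · have : (0 : Fin (r₁ + 1 + r₂ + 1)) = Fin.castAdd (r₂ + 1) (0 : Fin (r₁ + 1)) := rfl
      rw [this, Fin.append_left, he₁]
    · show _ = ∑ j : Fin ((r₁ + 1) + (r₂ + 1)), _
      rw [Fin.sum_univ_add]
      simp only [Fin.append_left, Fin.append_right]
      rfl

end gen

end Groth.Agent.Helper4.Iversen
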