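import Mathlib

set_option autoImplicit false
universe u
open CategoryTheory TopologicalSpace Opposite

namespace Groth.Agent.Helper4.JShriek1

variable {X : TopCat.{u}} (U : Opens X)

/-- the inclusion of `U` -/
abbrev jmap : TopCat.of U ⟶ X := TopCat.ofHom ⟨Subtype.val, continuous_subtype_val⟩

theorem jemb : Topology.IsOpenEmbedding (TopCat.Hom.hom (jmap U)) := U.isOpenEmbedding

/-- the image functor on opens -/
abbrev jf : Opens (TopCat.of U) ⥤ Opens X := (jemb U).isOpenMap.functor

instance : (jf U).IsContinuous (Opens.grothendieckTopology (TopCat.of U))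
    (Opens.grothendieckTopology X) := (jemb U).functor_isContinuous

instance : (jf U).IsCocontinuous (Opens.grothendieckTopology (TopCat.of U))
    (Opens.grothendieckTopology X) := by
  rw [((jemb U).isOpenMap.adjunction).isCocontinuous_iff_coverPreserving]
  exact coverPreserving_opens_map (jmap U)

instance : (jf U).Full :=
  have : Mono (jmap U) := (TopCat.mono_iff_injective (jmap U)).mpr (jemb U).injective
  IsOpenMap.functorFullOfMono (jemb U).isOpenMap

instance : (jf U).Faithful := inferInstance

theorem sheafRestrict_eq : U.sheafRestrict (C := Type u) =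
    (jf U).sheafPushforwardContinuous (Type u) (Opens.grothendieckTopology (TopCat.of U))
      (Opens.grothendieckTopology X) := rfl

/-- the right adjoint of restriction -/
noncomputable abbrev jstar : (TopCat.of U).Sheaf (Type u) ⥤ X.Sheaf (Type u) :=
  (jf U).sheafPushforwardCocontinuous (Type u) (Opens.grothendieckTopology (TopCat.of U))
      (Opens.grothendieckTopology X)

noncomputable def adj₂ : U.sheafRestrict (C := Type u) ⊣ jstar U :=
  (jf U).sheafAdjunctionCocontinuous (Type u) (Opens.grothendieckTopology (TopCat.of U))
      (Opens.grothendieckTopology X)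

instance counit_iso : IsIso (adj₂ U).counit := by
  apply +allowSynthFailures NatIso.isIso_of_isIso_app
  intro F
  have h : IsIso ((sheafToPresheaf (Opens.grothendieckTopology (TopCat.of U)) (Type u)).map
      ((adj₂ U).counit.app F)) := by
    change IsIso ((adj₂ U).counit.app F).hom
    rw [adj₂, Functor.sheafAdjunctionCocontinuous_counit_app_hom]
    exact inferInstanceAs (IsIso (((jf U).op.ranAdjunction (Type u)).counit.app F.obj))
  exact isIso_of_reflects_iso _ (sheafToPresheaf (Opens.grothendieckTopology (TopCat.of U)) (Type u))

noncomputable def jstarFF : (jstar U).FullyFaithful :=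
  (adj₂ U).fullyFaithfulROfIsIsoCounit

variable (L : (TopCat.of U).Sheaf (Type u) ⥤ X.Sheaf (Type u))
  (adj : L ⊣ U.sheafRestrict (C := Type u))

noncomputable def LFF : L.FullyFaithful :=
  (Adjunction.Triple.fullyFaithfulEquiv ⟨adj, adj₂ U⟩).symm (jstarFF U)

end Groth.Agent.Helper4.JShriek1
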