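import Mathlib
import Groth.Agent.Helper4.JShriek1

set_option autoImplicit false
universe u
open CategoryTheory TopologicalSpace Opposite

namespace Groth.Agent.Helper4.JShriek2

open Groth.Agent.Helper4.JShriek1

variable {X : TopCat.{u}} (U : Opens X)

/-- the subterminal presheaf attached to `U` -/
def Spre : (Opens X)ᵒᵖ ⥤ Type u where
  obj V := ULift.{u} (PLift (V.unop ≤ U))
  map f := ↾(fun h => ⟨⟨f.unop.le.trans h.down.down⟩⟩)
  map_id _ := by ext; exact Subsingleton.elim _ _
  map_comp _ _ := by ext; exact Subsingleton.elim _ _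

instance (V : (Opens X)ᵒᵖ) : Subsingleton ((Spre U).obj V) :=
  inferInstanceAs (Subsingleton (ULift.{u} (PLift (V.unop ≤ U))))

instance (V : (Opens X)ᵒᵖ) : Subsingleton (ToType ((Spre U).obj V)) :=
  inferInstanceAs (Subsingleton (ULift.{u} (PLift (V.unop ≤ U))))

theorem Spre_isSheaf : TopCat.Presheaf.IsSheaf (Spre U) := by
  apply TopCat.Presheaf.isSheaf_of_isSheafUniqueGluing_types
  intro ι V sf _
  refine ⟨⟨⟨iSup_le (fun i => (sf i).down.down)⟩⟩, fun i => Subsingleton.elim _ _,
    fun _ _ => Subsingleton.elim _ _⟩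

/-- the subterminal sheaf attached to `U` -/
def S : X.Sheaf (Type u) := ⟨Spre U, Spre_isSheaf U⟩

/-- the canonical morphism from any sheaf on `U` to the restriction of `S` -/
def toRS (F : (TopCat.of U).Sheaf (Type u)) : F ⟶ (U.sheafRestrict (C := Type u)).obj (S U) :=
  Sheaf.Hom.mk
    { app := fun W => ↾(fun _ => ⟨⟨by
        rintro _ ⟨y, -, rfl⟩
        exact y.2⟩⟩)
      naturality := fun _ _ _ => by
        ext
        exact ULift.ext _ _ (Subsingleton.elim (α := PLift _) _ _) }

variable (L : (TopCat.of U).Sheaf (Type u) ⥤ X.Sheaf (Type u))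
  (adj : L ⊣ U.sheafRestrict (C := Type u))

include adj in
theorem le_of_section_L (F : (TopCat.of U).Sheaf (Type u)) (V : Opens X)
    (s : (L.obj F).1.obj (op V)) : V ≤ U := by
  let φ : L.obj F ⟶ S U := (adj.homEquiv F (S U)).symm (toRS U F)
  exact (φ.1.app (op V) s).down.down

include adj in
theorem le_of_section_essImage (G : X.Sheaf (Type u)) (hG : L.essImage G) (V : Opens X)
    (s : G.1.obj (op V)) : V ≤ U := by
  obtain ⟨F, ⟨e⟩⟩ := hG
  exact le_of_section_L U L adj F V (e.inv.1.app (op V) s)

theorem stalk_isEmpty_iff (G : X.Sheaf (Type u)) :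
    (∀ x : X, x ∉ U → IsEmpty (G.presheaf.stalk x)) ↔
      ∀ (V : Opens X), Nonempty (G.1.obj (op V)) → V ≤ U := by
  constructor
  · rintro h V ⟨s⟩ x hxV
    by_contra hxU
    exact (h x hxU).false (G.presheaf.germ V x hxV s)
  · intro h x hxU
    constructor
    intro t
    obtain ⟨V, m, s, -⟩ := TopCat.Presheaf.exists_germ_eq G.presheaf t
    exact hxU (h V ⟨s⟩ m)

theorem exists_eq_jf_obj (V : Opens X) (hV : V ≤ U) : ∃ W, V = (jf U).obj W := by
  refine ⟨(Opens.map (jmap U)).obj V, ?_⟩
  ext x
  constructor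
  · intro hx
    exact ⟨⟨x, hV hx⟩, hx, rfl⟩
  · rintro ⟨y, hy, rfl⟩
    exact hy

include adj in
theorem counit_isIso (G : X.Sheaf (Type u))
    (hG : ∀ (V : Opens X), Nonempty (G.1.obj (op V)) → V ≤ U) : IsIso (adj.counit.app G) := by
  haveI := (LFF U L adj).full
  haveI := (LFF U L adj).faithful
  -- `R ε` is an isomorphism by the triangle identity
  have hR : IsIso ((U.sheafRestrict (C := Type u)).map (adj.counit.app G)) := by
    have tri := adj.right_triangle_components G
    haveI : IsIso adj.unit := Adjunction.unit_isIso_of_L_fully_faithful adj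
    have hu : IsIso (adj.unit.app ((U.sheafRestrict (C := Type u)).obj G)) :=
      NatIso.isIso_app_of_isIso adj.unit _
    exact @IsIso.of_isIso_fac_left _ _ _ _ _ _ _ _ hu (IsIso.id _) tri
  have h : IsIso ((TopCat.Sheaf.forget (Type u) X).map
      (adj.counit.app G)) := by
    apply +allowSynthFailures NatIso.isIso_of_isIso_app
    rintro ⟨V⟩
    by_cases hV : V ≤ U
    · obtain ⟨W, rfl⟩ := exists_eq_jf_obj U V hV
      have h1 : IsIso ((sheafToPresheaf _ _).map
          ((U.sheafRestrict (C := Type u)).map (adj.counit.app G))) := inferInstance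
      exact inferInstanceAs (IsIso (((sheafToPresheaf _ _).map
          ((U.sheafRestrict (C := Type u)).map (adj.counit.app G))).app (op W)))
    · rw [isIso_iff_bijective]
      constructor
      · intro a
        exact absurd (le_of_section_L U L adj _ V a) hV
      · intro b
        exact absurd (hG V ⟨b⟩) hV
  exact isIso_of_reflects_iso _ (TopCat.Sheaf.forget (Type u) X)

include adj in
theorem main :
    L.Full ∧ L.Faithful ∧
    ∀ G : X.Sheaf (Type u), L.essImage G ↔ ∀ x : X, x ∉ U → IsEmpty (G.presheaf.stalk x) := by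
  refine ⟨(LFF U L adj).full, (LFF U L adj).faithful, fun G => ?_⟩
  rw [stalk_isEmpty_iff]
  constructor
  · rintro hG V ⟨s⟩
    exact le_of_section_essImage U L adj G hG V s
  · intro hG
    haveI := counit_isIso U L adj G hG
    exact ⟨_, ⟨asIso (adj.counit.app G)⟩⟩

end Groth.Agent.Helper4.JShriek2
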