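import Mathlib

/-! A right derived functor with respect to `Q : Ch(B) ⥤ D(B)` is also a right derived functor with
respect to `Qh : K(B) ⥤ D(B)`. -/

set_option autoImplicit false
set_option linter.unusedSectionVars false
universe w w' v v' u u'

open CategoryTheory Limits

namespace Groth.Agent.Helper4.KDerCh

variable {A : Type u} [Category.{v} A] [Abelian A] [HasDerivedCategory.{w} A]
  {B : Type u'} [Category.{v'} B] [Abelian B] [HasDerivedCategory.{w'} B]
  (G : B ⥤ A) [G.Additive]
  (RG : DerivedCategory B ⥤ DerivedCategory A)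
  (γ : G.mapHomologicalComplex (ComplexShape.up ℤ) ⋙ DerivedCategory.Q ⟶ DerivedCategory.Q ⋙ RG)
  [RG.IsRightDerivedFunctor γ (HomologicalComplex.quasiIso B (ComplexShape.up ℤ))]

/-- the comparison isomorphism -/
noncomputable def e₀ : HomotopyCategory.quotient B (ComplexShape.up ℤ) ⋙
      (G.mapHomotopyCategory (ComplexShape.up ℤ) ⋙ DerivedCategory.Qh) ≅
    G.mapHomologicalComplex (ComplexShape.up ℤ) ⋙ DerivedCategory.Q :=
  (Functor.associator _ _ _).symm ≪≫
    Functor.isoWhiskerRight (G.mapHomotopyCategoryFactors (ComplexShape.up ℤ)) DerivedCategory.Qh ≪≫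
    Functor.associator _ _ _ ≪≫
    Functor.isoWhiskerLeft _ (DerivedCategory.quotientCompQhIso A)

/-- the natural transformation on the homotopy category -/
noncomputable def β : G.mapHomotopyCategory (ComplexShape.up ℤ) ⋙ DerivedCategory.Qh ⟶
    DerivedCategory.Qh ⋙ RG :=
  Quotient.natTransLift _ ((e₀ G).hom ≫ γ ≫
    Functor.whiskerRight (DerivedCategory.quotientCompQhIso B).inv RG ≫
    (Functor.associator _ _ _).hom)

theorem isRightDerivedFunctor_β :
    RG.IsRightDerivedFunctor (β G RG γ) (HomotopyCategory.quasiIso B (ComplexShape.up ℤ)) := by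
  have h0 : (G.mapHomotopyCategory (ComplexShape.up ℤ) ⋙ DerivedCategory.Qh).IsLeftKanExtension
      (e₀ G).inv :=
    (Functor.isRightDerivedFunctor_of_inverts
      (HomologicalComplex.homotopyEquivalences B (ComplexShape.up ℤ)) _ (e₀ G)).isLeftKanExtension
  have h1 : RG.IsLeftKanExtension γ :=
    Functor.IsRightDerivedFunctor.isLeftKanExtension RG γ
      (HomologicalComplex.quasiIso B (ComplexShape.up ℤ))
  refine ⟨(Functor.isLeftKanExtension_iff_postcompose (e₀ G).inv DerivedCategory.Q
    (DerivedCategory.quotientCompQhIso B) (β G RG γ) γ ?_).2 h1⟩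
  ext K
  simp only [β, NatTrans.comp_app, Functor.whiskerRight_app, Functor.whiskerLeft_app,
    Functor.comp_obj]
  have h2 := Quotient.natTransLift_app (homotopic B (ComplexShape.up ℤ)) _ _
    ((e₀ G).hom ≫ γ ≫ Functor.whiskerRight (DerivedCategory.quotientCompQhIso B).inv RG ≫
      (Functor.associator _ _ _).hom) K
  have h3 : ((e₀ G).hom ≫ γ ≫ Functor.whiskerRight (DerivedCategory.quotientCompQhIso B).inv RG ≫
      (Functor.associator _ _ _).hom).app K =
      (e₀ G).hom.app K ≫ γ.app K ≫ RG.map ((DerivedCategory.quotientCompQhIso B).inv.app K) := by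
    simp
  have h4 := Eq.trans h2 h3
  erw [h4]
  rw [Category.assoc, Category.assoc, Iso.inv_hom_id_app_assoc, Functor.associator_inv_app]
  erw [Category.id_comp]
  rw [← RG.map_comp, Iso.inv_hom_id_app]
  simp

end Groth.Agent.Helper4.KDerCh
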