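import Mathlib

/-! Small homologically pure subcomplexes of complexes of modules (Löwenheim–Skolem type closure). -/

set_option autoImplicit false
universe v

namespace Groth.Agent.Helper4.KInjMod

variable (R : Type v) [Ring R]

/-- the index types of the successive generating families -/
def Tk : ℕ → Type v
  | 0 => PUnit
  | (k + 1) => Tk k ⊕ ((ℤ × Tk k) ⊕ (Tk k →₀ R))

/-- the index type of the final generating family -/
def Tω : Type v := Σ k, Tk R k

variable {R} (Y : ℤ → Type v) [∀ n, AddCommGroup (Y n)] [∀ n, Module R (Y n)]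
  (d : ∀ i j, Y i →ₗ[R] Y j) (X : ∀ n, Submodule R (Y n)) (m : ℤ) (y : Y m)

open Classical in
/-- a Skolem function choosing witnesses of being a boundary modulo `X` -/
noncomputable def ω (n : ℤ) (z : Y (n + 1)) : Y n :=
  if h : ∃ w : Y n, z - d n (n + 1) w ∈ X (n + 1) then h.choose else 0

lemma ω_spec (n : ℤ) (z : Y (n + 1)) (h : ∃ w : Y n, z - d n (n + 1) w ∈ X (n + 1)) :
    z - d n (n + 1) (ω Y d X n z) ∈ X (n + 1) := by
  unfold ω
  rw [dif_pos h]
  exact h.choose_spec

open Classical in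
/-- the successive generating families -/
noncomputable def σ : ∀ (k : ℕ) (n : ℤ), Tk R k → Y n
  | 0, n, _ => if h : m = n then h ▸ y else 0
  | (k + 1), n, t => Sum.elim (σ k n) (Sum.elim (fun p => d p.1 n (σ k p.1 p.2))
      (fun c => ω Y d X n (Finsupp.linearCombination R (σ k (n + 1)) c))) t

/-- the final generating family -/
noncomputable def σω (n : ℤ) (t : Tω R) : Y n := σ Y d X m y t.1 n t.2

/-- the degree `n` part of the small subcomplex -/
noncomputable def N (n : ℤ) : Submodule R (Y n) := Submodule.span R (Set.range (σω Y d X m y n))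

lemma σ_mem_N (k : ℕ) (n : ℤ) (t : Tk R k) : σ Y d X m y k n t ∈ N Y d X m y n :=
  Submodule.subset_span ⟨⟨k, t⟩, rfl⟩

lemma y_mem : y ∈ N Y d X m y m := by
  have := σ_mem_N Y d X m y 0 m PUnit.unit
  simpa [σ] using this

lemma d_mem (n j : ℤ) (z : Y n) (hz : z ∈ N Y d X m y n) : d n j z ∈ N Y d X m y j := by
  have key : ∀ z ∈ Submodule.span R (Set.range (σω Y d X m y n)), d n j z ∈ N Y d X m y j := by
    intro z hz
    induction hz using Submodule.span_induction with
    | mem x hx =>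
      obtain ⟨⟨k, t⟩, rfl⟩ := hx
      exact σ_mem_N Y d X m y (k + 1) j (Sum.inr (Sum.inl (n, t)))
    | zero => simp
    | add a b _ _ ha hb => rw [map_add]; exact Submodule.add_mem _ ha hb
    | smul r a _ ha => rw [map_smul]; exact Submodule.smul_mem _ r ha
  exact key z hz

lemma range_σ_mono (n : ℤ) : Monotone (fun k => Set.range (σ Y d X m y k n)) := by
  apply monotone_nat_of_le_succ
  rintro k _ ⟨t, rfl⟩
  exact ⟨Sum.inl t, rfl⟩

lemma N_eq_iSup (n : ℤ) :
    N Y d X m y n = ⨆ k, Submodule.span R (Set.range (σ Y d X m y k n)) := by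
  unfold N
  rw [← Submodule.span_iUnion]
  congr 1
  ext z
  simp only [Set.mem_range, Set.mem_iUnion]
  constructor
  · rintro ⟨⟨k, t⟩, rfl⟩
    exact ⟨k, t, rfl⟩
  · rintro ⟨k, t, rfl⟩
    exact ⟨⟨k, t⟩, rfl⟩

/-- purity -/
lemma pure (n : ℤ) (z : Y (n + 1)) (hz : z ∈ N Y d X m y (n + 1))
    (h : ∃ w : Y n, z - d n (n + 1) w ∈ X (n + 1)) :
    ∃ w' ∈ N Y d X m y n, z - d n (n + 1) w' ∈ X (n + 1) := by
  rw [N_eq_iSup] at hz
  have hdir : Directed (· ≤ ·) (fun k => Submodule.span R (Set.range (σ Y d X m y k (n + 1)))) :=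
    Monotone.directed_le (fun a b hab => Submodule.span_mono (range_σ_mono Y d X m y (n + 1) hab))
  obtain ⟨k, hk⟩ := (Submodule.mem_iSup_of_directed _ hdir).1 hz
  obtain ⟨c, rfl⟩ := (Finsupp.mem_span_range_iff_exists_finsupp).1 hk
  refine ⟨ω Y d X n (Finsupp.linearCombination R (σ Y d X m y k (n + 1)) c), ?_, ?_⟩
  · exact σ_mem_N Y d X m y (k + 1) n (Sum.inr (Sum.inr c))
  · exact ω_spec Y d X n _ h

end Groth.Agent.Helper4.KInjMod
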