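import Mathlib
import Groth.Agent.Helper4.KInjMod

/-! Small complexes of modules presented as quotients of a fixed free module, and the small
pure subcomplex of a complex of modules through a given element. -/

set_option autoImplicit false
set_option linter.unusedSectionVars false
universe v

open CategoryTheory Limits

namespace Groth.Agent.Helper4.KInjSD

open KInjMod

variable (R : Type v) [Ring R]

/-- the fixed free module -/
abbrev F : Type v := Tω R →₀ R

/-- data of a complex whose terms are quotients of the fixed free module -/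
structure SDL where
  S : ℤ → Submodule R (F R)
  δ : ∀ i j, (F R ⧸ S i) →ₗ[R] (F R ⧸ S j)
  shape : ∀ i j, ¬ (i + 1 = j) → δ i j = 0
  dd : ∀ i j k, δ j k ∘ₗ δ i j = 0

variable {R}

/-- the complex attached to the data -/
noncomputable def SDL.L (D : SDL R) : CochainComplex (ModuleCat.{v} R) ℤ where
  X n := ModuleCat.of R (F R ⧸ D.S n)
  d i j := ModuleCat.ofHom (D.δ i j)
  shape i j h := by
    rw [D.shape i j h]
    rfl
  d_comp_d' i j k _ _ := by
    rw [← ModuleCat.ofHom_comp, D.dd i j k]
    rfl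

section construct

variable {X' Y' : CochainComplex (ModuleCat.{v} R) ℤ} (g : X' ⟶ Y') (m : ℤ) (y : Y'.X m)

/-- the generating families -/
noncomputable abbrev gen (n : ℤ) : Tω R → Y'.X n :=
  σω (fun n => Y'.X n) (fun i j => (Y'.d i j).hom) (fun n => LinearMap.range (g.f n).hom) m y n

/-- the parametrisation of the degree `n` part -/
noncomputable abbrev e (n : ℤ) : F R →ₗ[R] Y'.X n := Finsupp.linearCombination R (gen g m y n)

lemma range_e (n : ℤ) : LinearMap.range (e g m y n) =
    N (fun n => Y'.X n) (fun i j => (Y'.d i j).hom) (fun n => LinearMap.range (g.f n).hom) m y n :=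
  Finsupp.range_linearCombination _

/-- the embedding of the quotient -/
noncomputable def ι (n : ℤ) : (F R ⧸ LinearMap.ker (e g m y n)) →ₗ[R] Y'.X n :=
  (LinearMap.ker (e g m y n)).liftQ (e g m y n) le_rfl

lemma ι_injective (n : ℤ) : Function.Injective (ι g m y n) := by
  rw [← LinearMap.ker_eq_bot]
  exact Submodule.ker_liftQ_eq_bot _ _ _ le_rfl

lemma range_ι (n : ℤ) : LinearMap.range (ι g m y n) =
    N (fun n => Y'.X n) (fun i j => (Y'.d i j).hom) (fun n => LinearMap.range (g.f n).hom) m y n := by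
  rw [← range_e]
  exact Submodule.range_liftQ _ _ _

lemma d_ι_mem (i j : ℤ) (q : F R ⧸ LinearMap.ker (e g m y i)) :
    (Y'.d i j).hom (ι g m y i q) ∈ LinearMap.range (ι g m y j) := by
  rw [range_ι]
  apply d_mem
  rw [← range_ι]
  exact ⟨q, rfl⟩

/-- the differential on the quotients -/
noncomputable def δ (i j : ℤ) :
    (F R ⧸ LinearMap.ker (e g m y i)) →ₗ[R] (F R ⧸ LinearMap.ker (e g m y j)) :=
  (LinearEquiv.ofInjective (ι g m y j) (ι_injective g m y j)).symm.toLinearMap ∘ₗ
    LinearMap.codRestrict (LinearMap.range (ι g m y j)) ((Y'.d i j).hom ∘ₗ ι g m y i)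
      (d_ι_mem g m y i j)

lemma ι_δ (i j : ℤ) (q : F R ⧸ LinearMap.ker (e g m y i)) :
    ι g m y j (δ g m y i j q) = (Y'.d i j).hom (ι g m y i q) := by
  have := (LinearEquiv.ofInjective (ι g m y j) (ι_injective g m y j)).apply_symm_apply
    (LinearMap.codRestrict (LinearMap.range (ι g m y j)) ((Y'.d i j).hom ∘ₗ ι g m y i)
      (d_ι_mem g m y i j) q)
  exact congrArg Subtype.val this

/-- the small data -/
noncomputable def D : SDL R where
  S n := LinearMap.ker (e g m y n)
  δ := δ g m y
  shape i j h := by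
    refine LinearMap.ext (fun q => ι_injective g m y j ?_)
    rw [ι_δ, Y'.shape i j h]
    simp
  dd i j k := by
    refine LinearMap.ext (fun q => ι_injective g m y k ?_)
    simp only [LinearMap.comp_apply, ι_δ]
    have : ∀ z : Y'.X i, (Y'.d j k).hom ((Y'.d i j).hom z) = 0 := fun z => by
      rw [← LinearMap.comp_apply, ← ModuleCat.hom_comp, Y'.d_comp_d]
      rfl
    rw [this]
    simp

/-- the inclusion of the small complex -/
noncomputable def φ : (D g m y).L ⟶ Y' where
  f n := ModuleCat.ofHom (ι g m y n)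
  comm' i j _ := by
    ext q
    exact (ι_δ g m y i j q).symm


instance : Mono (φ g m y) := HomologicalComplex.mono_of_mono_f _ (fun n => by
  rw [ModuleCat.mono_iff_injective]
  exact ι_injective g m y n)

lemma y_mem_range : ∃ l : (D g m y).L.X m, ((φ g m y).f m).hom l = y := by
  have h := y_mem (fun n => Y'.X n) (fun i j => (Y'.d i j).hom)
    (fun n => LinearMap.range (g.f n).hom) m y
  rw [← range_ι] at h
  exact h

lemma pure_φ (n : ℤ) (l : (D g m y).L.X (n + 1))
    (h : ∃ w : Y'.X n, ((φ g m y).f (n + 1)).hom l - (Y'.d n (n + 1)).hom w ∈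
      LinearMap.range (g.f (n + 1)).hom) :
    ∃ l' : (D g m y).L.X n, ((φ g m y).f (n + 1)).hom l -
      (Y'.d n (n + 1)).hom (((φ g m y).f n).hom l') ∈ LinearMap.range (g.f (n + 1)).hom := by
  have hz : ι g m y (n + 1) l ∈ N (fun n => Y'.X n) (fun i j => (Y'.d i j).hom)
      (fun n => LinearMap.range (g.f n).hom) m y (n + 1) := by
    rw [← range_ι]
    exact ⟨l, rfl⟩
  obtain ⟨w', hw', hw''⟩ := pure (fun n => Y'.X n) (fun i j => (Y'.d i j).hom)
    (fun n => LinearMap.range (g.f n).hom) m y n _ hz h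
  rw [← range_ι] at hw'
  obtain ⟨l', rfl⟩ := hw'
  exact ⟨l', hw''⟩


lemma pure_φ' (i j : ℤ) (hij : i + 1 = j) (l : (D g m y).L.X j)
    (h : ∃ w : Y'.X i, ((φ g m y).f j).hom l - (Y'.d i j).hom w ∈
      LinearMap.range (g.f j).hom) :
    ∃ l' : (D g m y).L.X i, ((φ g m y).f j).hom l -
      (Y'.d i j).hom (((φ g m y).f i).hom l') ∈ LinearMap.range (g.f j).hom := by
  subst hij
  exact pure_φ g m y i l h

end construct


section pure

variable {X' Y' L : CochainComplex (ModuleCat.{v} R) ℤ} (g : X' ⟶ Y') [Mono g] (φ : L ⟶ Y')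

/-- elementwise description of the pullback of complexes of modules -/
lemma mem_range_fst (j : ℤ) (l : L.X j) (x : X'.X j) (h : (φ.f j).hom l = (g.f j).hom x) :
    ∃ k : (pullback φ g).X j, ((pullback.fst φ g).f j).hom k = l := by
  have sq := (IsPullback.of_hasPullback φ g).map
    (HomologicalComplex.eval (ModuleCat.{v} R) (ComplexShape.up ℤ) j)
  let a : ModuleCat.of R R ⟶ L.X j := ModuleCat.ofHom (LinearMap.toSpanSingleton R _ l)
  let b : ModuleCat.of R R ⟶ X'.X j := ModuleCat.ofHom (LinearMap.toSpanSingleton R _ x)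
  have hab : a ≫ φ.f j = b ≫ g.f j := by
    ext
    simpa [a, b] using h
  refine ⟨(sq.lift a b hab).hom (1 : R), ?_⟩
  have h2 : sq.lift a b hab ≫ (pullback.fst φ g).f j = a := sq.lift_fst a b hab
  calc ((pullback.fst φ g).f j).hom ((sq.lift a b hab).hom 1)
      = (sq.lift a b hab ≫ (pullback.fst φ g).f j).hom 1 := rfl
    _ = a.hom 1 := by rw [h2]
    _ = l := by simp [a]


omit [Mono g] in
lemma ker_cokernelπ (j : ℤ) [Mono g] (z : Y'.X j) (hz : ((cokernel.π g).f j).hom z = 0) :
    z ∈ LinearMap.range (g.f j).hom := by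
  have hS : (ShortComplex.mk g (cokernel.π g) (cokernel.condition g)).ShortExact :=
    { exact := ShortComplex.exact_cokernel g }
  have hj := (HomologicalComplex.shortExact_iff_degreewise_shortExact _).1 hS j
  have := hj.exact.moduleCat_range_eq_ker
  have h2 : z ∈ LinearMap.ker ((cokernel.π g).f j).hom := hz
  exact this.ge h2

/-- purity gives injectivity on homology of the map between the quotient complexes -/
lemma mono_homologyMap_θ
    (hp : ∀ (i j : ℤ) (_ : i + 1 = j) (l : L.X j),
      (∃ w : Y'.X i, (φ.f j).hom l - (Y'.d i j).hom w ∈ LinearMap.range (g.f j).hom) →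
      ∃ l' : L.X i, (φ.f j).hom l - (Y'.d i j).hom ((φ.f i).hom l') ∈
        LinearMap.range (g.f j).hom)
    (j : ℤ) :
    Mono (HomologicalComplex.homologyMap
      (cokernel.map (pullback.fst φ g) g (pullback.snd φ g) φ pullback.condition) j) := by
  set θ := cokernel.map (pullback.fst φ g) g (pullback.snd φ g) φ pullback.condition with hθ
  set p := cokernel.π (pullback.fst φ g) with hpdef
  set pQ := cokernel.π g with hpQdef
  have hpθ : p ≫ θ = φ ≫ pQ := by simp [θ, p, pQ]
  have hθp : ∀ n (l : L.X n), (θ.f n).hom ((p.f n).hom l) = (pQ.f n).hom ((φ.f n).hom l) := by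
    intro n l
    exact congrArg (fun (t : L ⟶ cokernel g) => (t.f n).hom l) hpθ
  have hp_surj : ∀ n, Function.Surjective (p.f n).hom := fun n =>
    (ModuleCat.epi_iff_surjective _).1 inferInstance
  have hpQ_surj : ∀ n, Function.Surjective (pQ.f n).hom := fun n =>
    (ModuleCat.epi_iff_surjective _).1 inferInstance
  have E : ∀ q : (cokernel (pullback.fst φ g)).X j,
      (∃ c : (cokernel g).X (j - 1), (θ.f j).hom q = ((cokernel g).d (j - 1) j).hom c) →
      ∃ q' : (cokernel (pullback.fst φ g)).X (j - 1),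
        ((cokernel (pullback.fst φ g)).d (j - 1) j).hom q' = q := by
    rintro q ⟨c, hc⟩
    obtain ⟨l, rfl⟩ := hp_surj j q
    obtain ⟨w, rfl⟩ := hpQ_surj (j - 1) c
    have hcomm : ∀ z : Y'.X (j - 1), ((cokernel g).d (j - 1) j).hom ((pQ.f (j - 1)).hom z) =
        (pQ.f j).hom ((Y'.d (j - 1) j).hom z) := fun z =>
      congrArg (fun t => (ModuleCat.Hom.hom t) z) (pQ.comm (j - 1) j)
    have hcomm' : ∀ z : L.X (j - 1),
        ((cokernel (pullback.fst φ g)).d (j - 1) j).hom ((p.f (j - 1)).hom z) =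
        (p.f j).hom ((L.d (j - 1) j).hom z) := fun z =>
      congrArg (fun t => (ModuleCat.Hom.hom t) z) (p.comm (j - 1) j)
    have hφcomm : ∀ z : L.X (j - 1), (Y'.d (j - 1) j).hom ((φ.f (j - 1)).hom z) =
        (φ.f j).hom ((L.d (j - 1) j).hom z) := fun z =>
      congrArg (fun t => (ModuleCat.Hom.hom t) z) (φ.comm (j - 1) j)
    have h0 : (pQ.f j).hom ((φ.f j).hom l - (Y'.d (j - 1) j).hom w) = 0 := by
      rw [map_sub, ← hθp, hc, hcomm, sub_self]
    obtain ⟨l', x, hx⟩ := hp (j - 1) j (by simp) l ⟨w, ker_cokernelπ g j _ h0⟩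
    have h1 : (φ.f j).hom (l - (L.d (j - 1) j).hom l') = (g.f j).hom x := by
      rw [map_sub, ← hφcomm, hx]
    obtain ⟨k, hk⟩ := mem_range_fst g φ j _ x h1
    refine ⟨(p.f (j - 1)).hom l', ?_⟩
    rw [hcomm']
    have h2 : (p.f j).hom (l - (L.d (j - 1) j).hom l') = 0 := by
      rw [← hk]
      exact congrArg (fun (t : pullback φ g ⟶ cokernel (pullback.fst φ g)) => (t.f j).hom k)
        (cokernel.condition (pullback.fst φ g))
    rw [map_sub, sub_eq_zero] at h2
    exact h2.symm
  rw [HomologicalComplex.mono_homologyMap_iff_up_to_refinements θ (j - 1) j (j + 1) (by simp)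
    (by simp)]
  intro A₀ x₂ _ y₁ hxy
  have hE : ∀ a : A₀, ∃ q' : (cokernel (pullback.fst φ g)).X (j - 1),
      ((cokernel (pullback.fst φ g)).d (j - 1) j).hom q' = x₂.hom a := fun a =>
    E _ ⟨y₁.hom a, congrArg (fun t => (ModuleCat.Hom.hom t) a) hxy⟩
  choose q' hq' using hE
  refine ⟨ModuleCat.of R (A₀ →₀ R), ModuleCat.ofHom (Finsupp.linearCombination R id), ?_,
    ModuleCat.ofHom (Finsupp.linearCombination R q'), ?_⟩
  · rw [ModuleCat.epi_iff_surjective]
    intro a
    exact ⟨Finsupp.single a 1, by simp⟩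
  · ext a
    simp [hq']

end pure

end Groth.Agent.Helper4.KInjSD
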