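import Mathlib

/-! Monomorphisms of cochain complexes with acyclic cokernel: closure properties. -/

set_option autoImplicit false
universe w w' v u

open CategoryTheory Limits

namespace Groth.Agent.Helper4.KInjW

variable {A : Type u} [Category.{v} A] [Abelian A]

/-- exactness in functor categories is pointwise -/
lemma exact_of_evaluation {J : Type w} [Category.{w'} J] (S : ShortComplex (J ⥤ A))
    (h : ∀ j, (S.map ((evaluation J A).obj j)).Exact) : S.Exact := by
  rw [ShortComplex.exact_iff_isZero_homology, Functor.isZero_iff]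
  intro j
  have := h j
  rw [ShortComplex.exact_iff_isZero_homology] at this
  exact this.of_iso (S.mapHomologyIso ((evaluation J A).obj j)).symm

variable {J : Type w} [Category.{w'} J] [HasColimitsOfShape J A] [HasExactColimitsOfShape J A]

/-- the short complex of functors given by three consecutive degrees -/
@[simps]
def scFunctor (D : J ⥤ CochainComplex A ℤ) (i j k : ℤ) : ShortComplex (J ⥤ A) where
  X₁ := D ⋙ HomologicalComplex.eval A (ComplexShape.up ℤ) i
  X₂ := D ⋙ HomologicalComplex.eval A (ComplexShape.up ℤ) j
  X₃ := D ⋙ HomologicalComplex.eval A (ComplexShape.up ℤ) k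
  f := { app := fun a => (D.obj a).d i j
         naturality := fun a b φ => by
           dsimp
           exact (D.map φ).comm i j }
  g := { app := fun a => (D.obj a).d j k
         naturality := fun a b φ => by
           dsimp
           exact (D.map φ).comm j k }
  zero := by
    ext a
    dsimp
    exact (D.obj a).d_comp_d i j k

/-- acyclic complexes are stable under colimits of shape `J` when these are exact -/
lemma acyclic_of_isColimit (D : J ⥤ CochainComplex A ℤ) (hD : ∀ j, (D.obj j).Acyclic)
    (c : Cocone D) (hc : IsColimit c) : c.pt.Acyclic := by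
  intro n
  rw [HomologicalComplex.exactAt_iff' _ (n - 1) n (n + 1) (by simp) (by simp)]
  have hS : (scFunctor D (n - 1) n (n + 1)).Exact := exact_of_evaluation _ (fun j => by
    have := hD j n
    rw [HomologicalComplex.exactAt_iff' _ (n - 1) n (n + 1) (by simp) (by simp)] at this
    exact this)
  exact colim.exact_mapShortComplex hS
    (isColimitOfPreserves (HomologicalComplex.eval A (ComplexShape.up ℤ) (n - 1)) hc)
    (isColimitOfPreserves (HomologicalComplex.eval A (ComplexShape.up ℤ) n) hc)
    (isColimitOfPreserves (HomologicalComplex.eval A (ComplexShape.up ℤ) (n + 1)) hc)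
    (c.pt.d (n - 1) n) (c.pt.d n (n + 1)) (fun j => by
      dsimp
      exact (c.ι.app j).comm _ _) (fun j => by
      dsimp
      exact (c.ι.app j).comm _ _)


omit [HasColimitsOfShape J A] [HasExactColimitsOfShape J A] in
/-- a short exact sequence of complexes with acyclic third term has quasi-iso first map -/
lemma quasiIso_f_of_acyclic {S : ShortComplex (CochainComplex A ℤ)} (hS : S.ShortExact)
    (h : S.X₃.Acyclic) : QuasiIso S.f := by
  rw [quasiIso_iff]
  intro n
  rw [quasiIsoAt_iff_isIso_homologyMap]
  have hz : ∀ i, IsZero (S.X₃.homology i) := fun i =>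
    (HomologicalComplex.exactAt_iff_isZero_homology _ _).1 (h i)
  have hmono : Mono (HomologicalComplex.homologyMap S.f n) :=
    (hS.homology_exact₁ (n - 1) n (by simp)).mono_g ((hz (n - 1)).eq_of_src _ _)
  have hepi : Epi (HomologicalComplex.homologyMap S.f n) :=
    (hS.homology_exact₂ n).epi_f ((hz n).eq_of_tgt _ _)
  exact isIso_of_mono_of_epi _


omit [HasColimitsOfShape J A] [HasExactColimitsOfShape J A] in
lemma acyclic_of_iso {K L : CochainComplex A ℤ} (e : K ≅ L) (h : K.Acyclic) : L.Acyclic := fun n => by
  rw [HomologicalComplex.exactAt_iff_isZero_homology]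
  exact ((HomologicalComplex.exactAt_iff_isZero_homology _ _).1 (h n)).of_iso
    ((HomologicalComplex.homologyFunctor A _ n).mapIso e).symm

variable (A) in
/-- monomorphisms of complexes which are quasi-isomorphisms -/
def W : MorphismProperty (CochainComplex A ℤ) :=
  MorphismProperty.monomorphisms _ ⊓ HomologicalComplex.quasiIso A (ComplexShape.up ℤ)

omit [HasColimitsOfShape J A] [HasExactColimitsOfShape J A] in
lemma W_iff_mono_quasiIso {X Y : CochainComplex A ℤ} (f : X ⟶ Y) :
    W A f ↔ Mono f ∧ QuasiIso f := by
  simp [W, MorphismProperty.inf_iff, MorphismProperty.monomorphisms.iff,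
    HomologicalComplex.mem_quasiIso_iff]

omit [HasColimitsOfShape J A] [HasExactColimitsOfShape J A] in
lemma shortExact_cokernel {X Y : CochainComplex A ℤ} (f : X ⟶ Y) [Mono f] :
    (ShortComplex.mk f (cokernel.π f) (cokernel.condition f)).ShortExact :=
  { exact := ShortComplex.exact_cokernel f }

omit [HasColimitsOfShape J A] [HasExactColimitsOfShape J A] in
lemma W_iff_of_shortExact {S : ShortComplex (CochainComplex A ℤ)} (hS : S.ShortExact) :
    W A S.f ↔ S.X₃.Acyclic := by
  rw [W_iff_mono_quasiIso]
  haveI := hS.mono_f
  constructor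
  · rintro ⟨_, h⟩
    exact hS.acyclic_X₃ h
  · intro h
    exact ⟨inferInstance, quasiIso_f_of_acyclic hS h⟩

omit [HasColimitsOfShape J A] [HasExactColimitsOfShape J A] in
lemma W_iff {X Y : CochainComplex A ℤ} (f : X ⟶ Y) :
    W A f ↔ Mono f ∧ (cokernel f).Acyclic := by
  constructor
  · intro h
    haveI : Mono f := ((W_iff_mono_quasiIso f).1 h).1
    exact ⟨inferInstance, (W_iff_of_shortExact (shortExact_cokernel f)).1 h⟩
  · rintro ⟨_, h⟩
    exact (W_iff_of_shortExact (shortExact_cokernel f)).2 h


section
variable {C : Type*} [Category C] [Abelian C]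

/-- the cokernels of parallel maps in a pushout square are isomorphic -/
noncomputable def cokernelIsoOfIsPushout {X X' Y Y' : C} {f : X ⟶ X'} {g : X ⟶ Y} {f' : Y ⟶ Y'}
    {g' : X' ⟶ Y'} (sq : IsPushout g f f' g') : cokernel f ≅ cokernel f' where
  hom := cokernel.map f f' g g' sq.w.symm
  inv := cokernel.desc f' (sq.desc 0 (cokernel.π f) (by simp)) (by simp)
  hom_inv_id := by
    rw [← cancel_epi (cokernel.π f)]
    simp
  inv_hom_id := by
    rw [← cancel_epi (cokernel.π f')]
    apply sq.hom_ext
    · simp
    · simp

end

instance : (W A).RespectsIso := by unfold W; infer_instance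
instance : (W A).IsMultiplicative := by unfold W; infer_instance
instance : (W A).IsStableUnderRetracts := by unfold W; infer_instance

instance : (W A).IsStableUnderCobaseChange where
  of_isPushout {X X' Y Y' f g f' g'} sq hf := by
    rw [W_iff] at hf ⊢
    obtain ⟨hm, hac⟩ := hf
    refine ⟨?_, acyclic_of_iso (cokernelIsoOfIsPushout sq) hac⟩
    exact (MorphismProperty.monomorphisms _).of_isPushout sq hm


instance stableColimits : (W A).IsStableUnderColimitsOfShape J where
  condition X₁ X₂ c₁ c₂ hc₁ hc₂ f hf φ hφ := by
    have hf' : ∀ j, Mono (f.app j) ∧ (cokernel (f.app j)).Acyclic := fun j => (W_iff _).1 (hf j)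
    haveI : ∀ j, Mono (f.app j) := fun j => (hf' j).1
    haveI : Mono f := NatTrans.mono_of_mono_app f
    haveI : Mono φ := colim.map_mono' f hc₁ hc₂ φ hφ
    let S : ShortComplex (J ⥤ CochainComplex A ℤ) :=
      ShortComplex.mk f (cokernel.π f) (cokernel.condition f)
    have hS : S.Exact := ShortComplex.exact_cokernel f
    let c₃ := colimit.cocone (cokernel f)
    have hc₃ : IsColimit c₃ := colimit.isColimit _
    let g : c₂.pt ⟶ c₃.pt := hc₂.desc (Cocone.mk c₃.pt ((cokernel.π f) ≫ c₃.ι))
    have hg : ∀ j, c₂.ι.app j ≫ g = (cokernel.π f).app j ≫ c₃.ι.app j := fun j => hc₂.fac _ j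
    have hex := colim.exact_mapShortComplex hS hc₁ hc₂ hc₃ φ g hφ hg
    haveI : Epi g := colim.map_epi' (cokernel.π f) c₂ hc₃ g hg
    have hSE : (colim.mapShortComplex S hc₁ c₂ c₃ φ g hφ hg).ShortExact :=
      { exact := hex
        mono_f := (inferInstance : Mono φ)
        epi_g := (inferInstance : Epi g) }
    refine (W_iff_of_shortExact hSE).2 ?_
    apply acyclic_of_isColimit (cokernel f) _ c₃ hc₃
    intro j
    exact acyclic_of_iso (PreservesCokernel.iso ((evaluation J _).obj j) f).symm (hf' j).2


omit [HasColimitsOfShape J A] [HasExactColimitsOfShape J A] in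
lemma W_of_comp_left {X Y Z : CochainComplex A ℤ} (i : X ⟶ Y) (p : Y ⟶ Z) (hi : W A i)
    (hip : W A (i ≫ p)) [Mono p] : W A p := by
  rw [W_iff_mono_quasiIso] at *
  haveI := hi.2
  haveI := hip.2
  exact ⟨inferInstance, quasiIso_of_comp_left i p⟩

section Groth

variable [IsGrothendieckAbelian.{v} A]

instance : MorphismProperty.IsStableUnderCoproducts.{v} (W A) where
  isStableUnderCoproductsOfShape J := by
    haveI : HasExactColimitsOfShape (Discrete J) A := inferInstance
    exact stableColimits

instance : MorphismProperty.IsStableUnderFilteredColimits.{v, v} (W A) where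
  isStableUnderColimitsOfShape J _ _ := by
    haveI : HasExactColimitsOfShape J A := inferInstance
    exact stableColimits

instance : MorphismProperty.IsStableUnderTransfiniteComposition.{v} (W A) := inferInstance

end Groth

end Groth.Agent.Helper4.KInjW
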