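import Mathlib
import Groth.Agent.Helper4.KInjW
import Groth.Agent.Helper4.KInjSD

/-! Gabriel–Popescu transfer: a small family of monic quasi-isomorphisms in `Ch(A)` detecting all of them. -/

set_option autoImplicit false
set_option linter.unusedSectionVars false
universe v u

open CategoryTheory Limits

namespace Groth.Agent.Helper4.KInjGP

variable (A : Type u) [Category.{v} A] [Abelian A] [IsGrothendieckAbelian.{v} A]

/-- a separator -/
noncomputable abbrev U : A := separator A
/-- the Gabriel–Popescu ring -/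
def R : Type v := (End (U A))ᵐᵒᵖ
noncomputable instance : Ring (R A) := inferInstanceAs (Ring (End (U A))ᵐᵒᵖ)
/-- `Hom(U, -)` -/
noncomputable def H : A ⥤ ModuleCat.{v} (R A) := preadditiveCoyonedaObj (U A)
/-- its exact left adjoint -/
noncomputable def T : ModuleCat.{v} (R A) ⥤ A := IsGrothendieckAbelian.tensorObj (U A)
/-- the adjunction -/
noncomputable def adj : T A ⊣ H A :=
  IsGrothendieckAbelian.tensorObjPreadditiveCoyonedaObjAdjunction (U A)

instance : (H A).Additive := inferInstanceAs (preadditiveCoyonedaObj (U A)).Additive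
instance : (H A).Full := IsGrothendieckAbelian.GabrielPopescu.full _ (isSeparator_separator A)
instance : (H A).Faithful :=
  (isSeparator_iff_faithful_preadditiveCoyonedaObj _).1 (isSeparator_separator A)
instance : (T A).Additive := (adj A).left_adjoint_additive
instance : PreservesFiniteLimits (T A) :=
  IsGrothendieckAbelian.GabrielPopescu.preservesFiniteLimits _ (isSeparator_separator A)
instance : PreservesFiniteColimits (T A) := by
  have := (adj A).leftAdjoint_preservesColimits
  infer_instance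
instance : IsIso (adj A).counit := inferInstance
lemma isIso_counit_app (X : A) : IsIso ((adj A).counit.app X) := inferInstance
instance : (H A).PreservesMonomorphisms :=
  (H A).preservesMonomorphisms_of_adjunction (adj A)

/-- `T` on complexes -/
noncomputable abbrev Tc := (T A).mapHomologicalComplex (ComplexShape.up ℤ)
/-- `H` on complexes -/
noncomputable abbrev Hc := (H A).mapHomologicalComplex (ComplexShape.up ℤ)

variable {A}

/-- the counit on complexes -/
noncomputable def εc (Y : CochainComplex A ℤ) : (Tc A).obj ((Hc A).obj Y) ≅ Y :=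
  HomologicalComplex.Hom.isoOfComponents
    (fun n => @asIso _ _ _ _ ((adj A).counit.app (Y.X n)) (isIso_counit_app A (Y.X n)))
    (fun i j _ => by
      dsimp
      exact ((adj A).counit.naturality (Y.d i j)).symm)

lemma εc_naturality {X Y : CochainComplex A ℤ} (f : X ⟶ Y) :
    (Tc A).map ((Hc A).map f) ≫ (εc Y).hom = (εc X).hom ≫ f := by
  ext n
  dsimp [εc]
  exact (adj A).counit.naturality (f.f n)

instance {X Y : CochainComplex A ℤ} (f : X ⟶ Y) [Mono f] : Mono ((Hc A).map f) :=
  HomologicalComplex.mono_of_mono_f _ (fun n => by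
    change Mono ((H A).map (f.f n))
    infer_instance)


section general

variable {B₁ B₂ : Type*} [Category B₁] [Category B₂] [Abelian B₁] [Abelian B₂]
  (F : B₁ ⥤ B₂) [F.Additive] [F.PreservesHomology]

lemma exactAt_map_iff (Z : CochainComplex B₁ ℤ) (n : ℤ) :
    ((F.mapHomologicalComplex (ComplexShape.up ℤ)).obj Z).ExactAt n ↔
      IsZero (F.obj (Z.homology n)) := by
  rw [HomologicalComplex.exactAt_iff, ShortComplex.exact_iff_isZero_homology]
  exact ((Z.sc n).mapHomologyIso F).isZero_iff

/-- an exact functor sends a complex mapping injectively on homology to a complex with acyclic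
image again to a complex with acyclic image -/
lemma acyclic_map_of_mono_homologyMap [F.PreservesMonomorphisms] {Z₁ Z₂ : CochainComplex B₁ ℤ}
    (θ : Z₁ ⟶ Z₂) (hθ : ∀ n, Mono (HomologicalComplex.homologyMap θ n))
    (h : ((F.mapHomologicalComplex (ComplexShape.up ℤ)).obj Z₂).Acyclic) :
    ((F.mapHomologicalComplex (ComplexShape.up ℤ)).obj Z₁).Acyclic := by
  intro n
  rw [exactAt_map_iff]
  have h2 := (exactAt_map_iff F Z₂ n).1 (h n)
  haveI := hθ n
  exact IsZero.of_mono (F.map (HomologicalComplex.homologyMap θ n)) h2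

end general


section family

open KInjW

variable (A)

/-- index type of the small family, before imposing the condition -/
def Idx₀ : Type v := Σ D : KInjSD.SDL (R A), Shrink.{v} (Subobject D.L)

variable {A} in
/-- the source complex of modules -/
noncomputable def src (i : Idx₀ A) : CochainComplex (ModuleCat.{v} (R A)) ℤ :=
  (((equivShrink (Subobject i.1.L)).symm i.2 : Subobject i.1.L) : _)

variable {A} in
/-- the inclusion of complexes of modules -/
noncomputable def arr (i : Idx₀ A) : src i ⟶ i.1.L :=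
  ((equivShrink (Subobject i.1.L)).symm i.2).arrow

/-- index type of the small family -/
def Idx : Type v := {i : Idx₀ A // W A ((Tc A).map (arr i))}

/-- the small family of monic quasi-isomorphisms -/
def J : MorphismProperty (CochainComplex A ℤ) :=
  MorphismProperty.ofHoms (fun i : Idx A => (Tc A).map (arr i.1))

instance : MorphismProperty.IsSmall.{v} (J A) := by
  unfold J
  infer_instance

lemma J_le_W : J A ≤ W A := by
  rintro _ _ _ ⟨i⟩
  exact i.2

variable {A} in
lemma J_of_mono (D : KInjSD.SDL (R A)) {K : CochainComplex (ModuleCat.{v} (R A)) ℤ}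
    (κ : K ⟶ D.L) [Mono κ] (h : W A ((Tc A).map κ)) :
    ∃ (K' : CochainComplex (ModuleCat.{v} (R A)) ℤ) (κ' : K' ⟶ D.L) (e : K ≅ K'),
      e.hom ≫ κ' = κ ∧ J A ((Tc A).map κ') := by
  let i₀ : Idx₀ A := ⟨D, equivShrink _ (Subobject.mk κ)⟩
  have key : ∀ s' : Subobject D.L, s' = Subobject.mk κ →
      ∃ e : K ≅ (s' : CochainComplex (ModuleCat.{v} (R A)) ℤ), e.hom ≫ s'.arrow = κ := by
    rintro _ rfl
    exact ⟨(Subobject.underlyingIso κ).symm, by simp⟩
  obtain ⟨e, he⟩ := key ((equivShrink (Subobject D.L)).symm (equivShrink _ (Subobject.mk κ)))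
    (Equiv.symm_apply_apply _ _)
  have he' : e.hom ≫ arr i₀ = κ := he
  have hW : W A ((Tc A).map (arr i₀)) := by
    refine ((W A).arrow_mk_iso_iff (Arrow.isoMk ((Tc A).mapIso e) (Iso.refl _) ?_)).1 h
    dsimp
    rw [Category.comp_id]
    exact ((Tc A).map_comp _ _).symm.trans (congrArg _ he')
  exact ⟨_, arr i₀, e, he', ⟨(⟨i₀, hW⟩ : Idx A)⟩⟩

end family


section key

open KInjW

lemma exists_elt {X Y : CochainComplex A ℤ} (f : X ⟶ Y) [Mono f] (hf : ¬ IsIso f) :
    ∃ (m : ℤ) (y : U A ⟶ Y.X m), ∀ x : U A ⟶ X.X m, x ≫ f.f m ≠ y := by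
  have h1 : ∃ m, ¬ IsIso (f.f m) := by
    by_contra h
    push Not at h
    exact hf (HomologicalComplex.Hom.isIso_of_components f)
  obtain ⟨m, hm⟩ := h1
  rw [(isSeparator_separator A).isDetector.isIso_iff_of_mono] at hm
  simp only [ObjectProperty.singleton_iff, Function.Surjective, Functor.flip_obj_map, forall_eq',
    not_forall, not_exists] at hm
  obtain ⟨y, hy⟩ := hm
  exact ⟨m, y, hy⟩


lemma W_Tc_fst {X Y : CochainComplex A ℤ} (f : X ⟶ Y) [Mono f] (hW : W A f)
    {L : CochainComplex (ModuleCat.{v} (R A)) ℤ} (φ : L ⟶ (Hc A).obj Y)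
    (hp : ∀ (i j : ℤ) (_ : i + 1 = j) (l : L.X j),
      (∃ w : ((Hc A).obj Y).X i, (φ.f j).hom l - (((Hc A).obj Y).d i j).hom w ∈
        LinearMap.range (((Hc A).map f).f j).hom) →
      ∃ l' : L.X i, (φ.f j).hom l - (((Hc A).obj Y).d i j).hom ((φ.f i).hom l') ∈
        LinearMap.range (((Hc A).map f).f j).hom) :
    W A ((Tc A).map (pullback.fst φ ((Hc A).map f))) := by
  rw [W_iff]
  refine ⟨inferInstance, ?_⟩
  refine acyclic_of_iso (PreservesCokernel.iso (Tc A) (pullback.fst φ ((Hc A).map f))) ?_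
  apply acyclic_map_of_mono_homologyMap (T A)
    (cokernel.map (pullback.fst φ ((Hc A).map f)) ((Hc A).map f)
      (pullback.snd φ ((Hc A).map f)) φ pullback.condition)
    (KInjSD.mono_homologyMap_θ ((Hc A).map f) φ hp)
  refine acyclic_of_iso (PreservesCokernel.iso (Tc A) ((Hc A).map f)).symm ?_
  refine acyclic_of_iso (cokernel.mapIso f ((Tc A).map ((Hc A).map f)) (εc X).symm (εc Y).symm ?_)
    ((W_iff f).1 hW).2
  dsimp
  rw [Iso.comp_inv_eq, Category.assoc, εc_naturality, Iso.inv_hom_id_assoc]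


theorem key {X Y : CochainComplex A ℤ} (f : X ⟶ Y) (hW : W A f) (hm : Mono f) (hni : ¬ IsIso f) :
    ∃ (X' : CochainComplex A ℤ) (i : X ⟶ X') (p' : X' ⟶ Y),
      (J A).pushouts i ∧ ¬ IsIso i ∧ Mono p' ∧ i ≫ p' = f := by
  obtain ⟨m, y, hy⟩ := exists_elt f hni
  let g := (Hc A).map f
  let y' : ((Hc A).obj Y).X m := y
  let D := KInjSD.D g m y'
  let φ : D.L ⟶ (Hc A).obj Y := KInjSD.φ g m y'
  obtain ⟨l₀, hl₀⟩ := KInjSD.y_mem_range g m y'
  have hWfst : W A ((Tc A).map (pullback.fst φ g)) := W_Tc_fst f hW φ (KInjSD.pure_φ' g m y')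
  obtain ⟨K', κ', e, he, hJ⟩ := J_of_mono D (pullback.fst φ g) hWfst
  have sq₀ : IsPullback (pullback.fst φ g) (pullback.snd φ g) φ g := IsPullback.of_hasPullback φ g
  have sq₁ := sq₀.map (Tc A)
  let a : (Tc A).obj (pullback φ g) ⟶ X := (Tc A).map (pullback.snd φ g) ≫ (εc X).hom
  let b : (Tc A).obj D.L ⟶ Y := (Tc A).map φ ≫ (εc Y).hom
  have sq₂ : IsPullback ((Tc A).map (pullback.fst φ g)) a b f :=
    sq₁.of_iso (Iso.refl _) (Iso.refl _) (εc X) (εc Y) (by simp) (by simp [a]) (by simp [b])
      (εc_naturality f)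
  haveI : Mono b := mono_comp _ _
  let j := (Tc A).map (pullback.fst φ g)
  let X' := pushout j a
  let i : X ⟶ X' := pushout.inr j a
  let p' : X' ⟶ Y := pushout.desc b f sq₂.w
  have hpo : IsPushout j a (pushout.inl j a) i := IsPushout.of_hasPushout j a
  have hip : i ≫ p' = f := pushout.inr_desc _ _ _
  have hlp : pushout.inl j a ≫ p' = b := pushout.inl_desc _ _ _
  refine ⟨X', i, p', ?_, ?_, ?_, hip⟩
  · refine ⟨_, _, (Tc A).map κ', (Tc A).map e.inv ≫ a, pushout.inl j a, hJ, ?_⟩
    refine hpo.flip.of_iso ((Tc A).mapIso e) (Iso.refl _) (Iso.refl _) (Iso.refl _) ?_ ?_ ?_ ?_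
    · dsimp
      rw [Category.comp_id, ← Functor.map_comp_assoc, Iso.hom_inv_id,
        CategoryTheory.Functor.map_id, Category.id_comp]
    · dsimp
      rw [Category.comp_id, ← Functor.map_comp, he]
    · simp
    · simp
  · intro hi
    let t : (Tc A).obj D.L ⟶ X := pushout.inl j a ≫ inv i
    have hb : b = t ≫ f := by
      rw [← hlp, ← hip]
      simp [t]
    let tm : (T A).obj (D.L.X m) ⟶ X.X m := t.f m
    let bm : (T A).obj (D.L.X m) ⟶ Y.X m := b.f m
    have hbm : bm = tm ≫ f.f m := by
      change b.f m = t.f m ≫ f.f m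
      rw [hb]
      rfl
    have hbm' : bm = ((adj A).homEquiv _ _).symm (φ.f m) := by
      rw [Adjunction.homEquiv_counit]
      rfl
    have hφ : φ.f m = (adj A).homEquiv _ _ tm ≫ (H A).map (f.f m) := by
      rw [← Adjunction.homEquiv_naturality_right, ← hbm, hbm', Equiv.apply_symm_apply]
    have hy' : y' = ((adj A).homEquiv _ _ tm).hom l₀ ≫ f.f m := by
      rw [← hl₀]
      exact congrArg (fun (u : D.L.X m ⟶ (H A).obj (Y.X m)) => u.hom l₀) hφ
    exact hy _ hy'.symm
  · exact hpo.mono_of_isPullback_of_mono sq₂ p' hlp hip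

end key

end Groth.Agent.Helper4.KInjGP
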