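import Mathlib

/-! Transfinite filtration argument: if every non-invertible map of a class `W` of monomorphisms
admits a first step which is a pushout of a map in `Jm`, then `W ≤ Jm.rlp.llp`. -/

set_option autoImplicit false
set_option linter.unusedSectionVars false
universe w v u

open CategoryTheory Limits Category

namespace Groth.Agent.Helper4.KInjTF

variable {C : Type u} [Category.{v} C] [Abelian C] [IsGrothendieckAbelian.{w} C]
variable {X : C} (φ : Subobject X → Subobject X) (hφ : ∀ A, A ≤ φ A)

section

variable (A₀ : Subobject X) (J : Type w) [LinearOrder J] [OrderBot J] [SuccOrder J]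
  [WellFoundedLT J]

/-- the functor `J ⥤ MonoOver X` given by transfinite iteration of `φ` -/
@[simps]
noncomputable def functorToMonoOver : J ⥤ MonoOver X where
  obj j := MonoOver.mk (transfiniteIterate φ j A₀).arrow
  map {j j'} f := MonoOver.homMk (Subobject.ofLE _ _
      (monotone_transfiniteIterate _ _ hφ (leOfHom f)))

/-- the underlying functor to `C` -/
noncomputable abbrev functor : J ⥤ C :=
  functorToMonoOver φ hφ A₀ J ⋙ MonoOver.forget _ ⋙ Over.forget _

set_option backward.defeqAttrib.useBackward true in
instance : (functor φ hφ A₀ J).IsWellOrderContinuous where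
  nonempty_isColimit m hm := ⟨by
    have := hm.nonempty_Iio.to_subtype
    let c := (Set.principalSegIio m).cocone (functorToMonoOver φ hφ A₀ J ⋙ MonoOver.forget _)
    have : Mono c.pt.hom := by dsimp [c]; infer_instance
    apply IsGrothendieckAbelian.isColimitMapCoconeOfSubobjectMkEqISup
      ((Set.principalSegIio m).monotone.functor ⋙ functorToMonoOver φ hφ A₀ J) c
    dsimp [c]
    simp only [Subobject.mk_arrow]
    exact transfiniteIterate_limit φ A₀ m hm⟩

set_option backward.isDefEq.respectTransparency.types false in
set_option backward.defeqAttrib.useBackward true in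
variable {J} in
/-- the map from the bottom stage to stage `j` is a transfinite composition of the steps -/
noncomputable def tcMapFromBot (P : MorphismProperty C) (j : J)
    (hP : ∀ k : J, k < j →
      P (Subobject.ofLE _ _ (hφ (transfiniteIterate φ k A₀)))) :
    P.TransfiniteCompositionOfShape (Set.Iic j)
    ((functor φ hφ A₀ J).map (homOfLE bot_le : ⊥ ⟶ j)) where
  F := (Set.initialSegIic j).monotone.functor ⋙ functor φ hφ A₀ J
  isoBot := Iso.refl _
  incl :=
    { app k := (functor φ hφ A₀ J).map (homOfLE k.2)
      naturality k k' h := by simp [MonoOver.forget] }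
  isColimit := colimitOfDiagramTerminal isTerminalTop _
  map_mem k hk := by
    dsimp [MonoOver.forget]
    have hk' : k.1 < j := lt_of_le_of_ne k.2 (fun h => hk (by
      rw [isMax_iff_eq_top]
      exact Subtype.ext h))
    convert! hP k.1 hk' using 2
    all_goals
      rw [Set.Iic.succ_eq_of_not_isMax hk,
        transfiniteIterate_succ _ _ _ (Set.not_isMax_coe _ hk)]

end


section main

variable (W Jm : MorphismProperty C) [W.RespectsIso] [W.IsMultiplicative]
  [MorphismProperty.IsStableUnderTransfiniteComposition.{w} W]
  (hJW : Jm.pushouts ≤ W)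
  (cancel : ∀ {X Y Z : C} (i : X ⟶ Y) (p : Y ⟶ Z), W i → W (i ≫ p) → Mono p → W p)
  (key : ∀ {X Y : C} (f : X ⟶ Y), W f → Mono f → ¬ IsIso f →
    ∃ (X' : C) (i : X ⟶ X') (p' : X' ⟶ Y), Jm.pushouts i ∧ ¬ IsIso i ∧ Mono p' ∧ i ≫ p' = f)

include key in
set_option backward.defeqAttrib.useBackward true in
lemma exists_larger (A : Subobject X) (hA : A ≠ ⊤) (hW : W A.arrow) :
    ∃ (A' : Subobject X) (h : A < A'), Jm.pushouts (Subobject.ofLE A A' h.le) := by
  induction A using Subobject.ind with | _ f
  have hWf : W f := by
    rw [← Subobject.underlyingIso_hom_comp_eq_mk f] at hW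
    exact (W.cancel_left_of_respectsIso _ _).1 hW
  obtain ⟨X', i, p', hi, hi', hp', fac⟩ := key f hWf inferInstance
    (by simpa only [Subobject.isIso_iff_mk_eq_top] using hA)
  refine ⟨Subobject.mk p', Subobject.mk_lt_mk_of_comm i fac hi',
    (MorphismProperty.arrow_mk_iso_iff _ ?_).2 hi⟩
  refine Arrow.isoMk (Subobject.underlyingIso f) (Subobject.underlyingIso p') ?_
  dsimp
  simp only [← cancel_mono p', assoc, fac,
    Subobject.underlyingIso_hom_comp_eq_mk, Subobject.ofLE_arrow]

open scoped Classical in
/-- a larger subobject when possible -/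
noncomputable def larger (A : Subobject X) : Subobject X :=
  if h : A ≠ ⊤ ∧ W A.arrow then (exists_larger W Jm key A h.1 h.2).choose else ⊤

lemma lt_larger (A : Subobject X) (hA : A ≠ ⊤) : A < larger W Jm key A := by
  dsimp only [larger]
  split_ifs with h
  · exact (exists_larger W Jm key A h.1 h.2).choose_spec.choose
  · exact lt_top_iff_ne_top.2 hA

lemma le_larger (A : Subobject X) : A ≤ larger W Jm key A := by
  by_cases hA : A = ⊤
  · subst hA
    exact le_of_eq (by simp [larger])
  · exact (lt_larger W Jm key A hA).le

set_option backward.defeqAttrib.useBackward true in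
set_option backward.isDefEq.respectTransparency false in
lemma pushouts_ofLE_larger (A : Subobject X) (hA : A ≠ ⊤) (hW : W A.arrow) :
    Jm.pushouts (Subobject.ofLE _ _ (le_larger W Jm key A)) := by
  have h : A ≠ ⊤ ∧ W A.arrow := ⟨hA, hW⟩
  refine (MorphismProperty.arrow_mk_iso_iff _ ?_).1
    (exists_larger W Jm key A h.1 h.2).choose_spec.choose_spec
  exact Arrow.isoMk (Iso.refl _)
    (Subobject.isoOfEq _ _ ((by simp [larger, dif_pos h])))


@[simp]
lemma larger_top : larger W Jm key (⊤ : Subobject X) = ⊤ := by simp [larger]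

lemma exists_ordinal (A₀ : Subobject X) :
    ∃ (o : Ordinal.{w}) (j : o.ToType),
      transfiniteIterate (larger W Jm key) j A₀ = ⊤ := by
  let κ := Order.succ (Cardinal.mk (Shrink.{w} (Subobject X)))
  have : Nonempty κ.ord.ToType := by simp [κ]
  have := WellFoundedLT.toOrderBot κ.ord.ToType
  have hJ : HasCardinalLT (Subobject X) (Cardinal.mk κ.ord.ToType) :=
    lt_of_lt_of_le (Order.lt_succ _) (by simp [κ])
  exact ⟨κ.ord, top_mem_range_transfiniteIterate (larger W Jm key) A₀ (lt_larger W Jm key)
    (by simp) (fun h ↦ by simpa [hasCardinalLT_iff_cardinal_mk_lt] using hJ.of_injective _ h)⟩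

section

variable (A₀ : Subobject X) (hA₀ : W A₀.arrow) {J : Type w} [LinearOrder J] [OrderBot J]
  [SuccOrder J] [WellFoundedLT J]

include hA₀ cancel in
set_option backward.defeqAttrib.useBackward true in
set_option backward.isDefEq.respectTransparency false in
lemma W_arrow_of_W_map (j : J)
    (h : W ((functor (larger W Jm key) (le_larger W Jm key) A₀ J).map
      (homOfLE bot_le : ⊥ ⟶ j))) :
    W (transfiniteIterate (larger W Jm key) j A₀).arrow := by
  refine cancel _ _ h ?_ inferInstance
  have : ((functor (larger W Jm key) (le_larger W Jm key) A₀ J).map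
      (homOfLE bot_le : ⊥ ⟶ j)) ≫ (transfiniteIterate (larger W Jm key) j A₀).arrow =
      (transfiniteIterate (larger W Jm key) ⊥ A₀).arrow := by
    dsimp [MonoOver.forget]
    rw [Subobject.ofLE_arrow]
  rw [this]
  have e : transfiniteIterate (larger W Jm key) (⊥ : J) A₀ = A₀ := transfiniteIterate_bot _ _
  have h' : W (transfiniteIterate (larger W Jm key) (⊥ : J) A₀).arrow := by
    rw [e]
    exact hA₀
  exact h'

include hJW in
set_option backward.defeqAttrib.useBackward true in
lemma step_mem (P : MorphismProperty C) [P.RespectsIso] [P.ContainsIdentities]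
    (hP : Jm.pushouts ≤ P) (A : Subobject X) (hA : W A.arrow) :
    P (Subobject.ofLE _ _ (le_larger W Jm key A)) := by
  by_cases hAt : A = ⊤
  · subst hAt
    have : IsIso (Subobject.ofLE _ _ (le_larger W Jm key (⊤ : Subobject X))) := by
      have h1 : IsIso ((Subobject.ofLE _ _ (le_larger W Jm key (⊤ : Subobject X))) ≫
          (larger W Jm key (⊤ : Subobject X)).arrow) := by
        rw [Subobject.ofLE_arrow]
        exact (Subobject.isIso_arrow_iff_eq_top _).2 rfl
      have h2 : IsIso (larger W Jm key (⊤ : Subobject X)).arrow :=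
        (Subobject.isIso_arrow_iff_eq_top _).2 (larger_top W Jm key)
      exact IsIso.of_isIso_comp_right _ (larger W Jm key (⊤ : Subobject X)).arrow
    exact P.of_isIso _
  · exact hP _ (pushouts_ofLE_larger W Jm key A hAt hA)

include hA₀ cancel hJW in
set_option backward.defeqAttrib.useBackward true in
lemma W_map_bot (j : J) :
    W ((functor (larger W Jm key) (le_larger W Jm key) A₀ J).map
      (homOfLE bot_le : ⊥ ⟶ j)) := by
  induction j using WellFoundedLT.induction with
  | ind j IH =>
    have tc := tcMapFromBot (larger W Jm key) (le_larger W Jm key) A₀ W j (fun k hk =>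
      step_mem W Jm hJW key W hJW _ (W_arrow_of_W_map W Jm cancel key A₀ hA₀ k (IH k hk)))
    exact MorphismProperty.transfiniteCompositionsOfShape_le W _ _ tc.mem

end

include hJW cancel key in
set_option backward.defeqAttrib.useBackward true in
set_option backward.isDefEq.respectTransparency false in
theorem W_le_llp_rlp (hWm : W ≤ MorphismProperty.monomorphisms C) : W ≤ Jm.rlp.llp := by
  intro X₀ Y f hf
  haveI : Mono f := hWm _ hf
  have hA₀ : W (Subobject.mk f).arrow := by
    rw [← Subobject.underlyingIso_hom_comp_eq_mk f]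
    exact (W.cancel_left_of_respectsIso _ _).2 hf
  obtain ⟨o, j, hj⟩ := exists_ordinal W Jm key (Subobject.mk f)
  have : Nonempty o.ToType := ⟨j⟩
  have : OrderBot o.ToType := WellFoundedLT.toOrderBot _
  have tc := tcMapFromBot (larger W Jm key) (le_larger W Jm key) (Subobject.mk f) Jm.rlp.llp j
    (fun k hk => step_mem W Jm hJW key Jm.rlp.llp Jm.pushouts_le_llp_rlp _
      (W_arrow_of_W_map W Jm cancel key _ hA₀ k (W_map_bot W Jm hJW cancel key _ hA₀ k)))
  have hQ := MorphismProperty.transfiniteCompositionsOfShape_le Jm.rlp.llp _ _ tc.mem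
  let t := transfiniteIterate (larger W Jm key) j (Subobject.mk f)
  have := (Subobject.isIso_arrow_iff_eq_top t).2 hj
  refine (MorphismProperty.arrow_mk_iso_iff _ ?_).1 hQ
  refine Arrow.isoMk ((Subobject.isoOfEq _ _ (transfiniteIterate_bot _ _) ≪≫
    Subobject.underlyingIso f)) (asIso t.arrow) ?_
  dsimp [MonoOver.forget]
  rw [assoc, Subobject.underlyingIso_hom_comp_eq_mk, Subobject.ofLE_arrow,
    Subobject.ofLE_arrow]

end main

end Groth.Agent.Helper4.KInjTF
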