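import Groth.Agent.Helper4.KerPoly
import Groth.Agent.Helper4.GammaFin

/-!
# Universal test points for kernels of laws on a finite algebra (helper4)
-/

set_option autoImplicit false
universe u
open scoped TensorProduct
open MvPolynomial

namespace Groth.Agent.Helper4.KerFin

open Groth.Agent.Helper4.PolLaw1 Groth.Agent.Helper4.GammaFin Groth.Agent.Helper4.KerPoly

variable {A : Type u} [CommRing A] {B : Type u} [CommRing B] [Algebra A B]

theorem exists_gen_of_span_top {r : ℕ} (e : Fin r → B) (he : Submodule.span A (Set.range e) = ⊤)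
    (S : Type u) [CommSemiring S] [Algebra A S] (x : S ⊗[A] B) :
    ∃ s : Fin r → S, x = gen S s e := by
  induction x using TensorProduct.induction_on with
  | zero => exact ⟨0, by simp [gen]⟩
  | tmul s b =>
    have hb : b ∈ Submodule.span A (Set.range e) := by rw [he]; trivial
    obtain ⟨c, hc⟩ := (Submodule.mem_span_range_iff_exists_fun A).mp hb
    refine ⟨fun j => c j • s, ?_⟩
    rw [← hc, gen, TensorProduct.tmul_sum]
    refine Finset.sum_congr rfl fun j _ => ?_
    rw [TensorProduct.tmul_smul, TensorProduct.smul_tmul']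
  | add y₁ y₂ h₁ h₂ =>
    obtain ⟨s₁, hs₁⟩ := h₁
    obtain ⟨s₂, hs₂⟩ := h₂
    refine ⟨s₁ + s₂, ?_⟩
    rw [hs₁, hs₂, gen, gen, gen, ← Finset.sum_add_distrib]
    refine Finset.sum_congr rfl fun j _ => ?_
    rw [Pi.add_apply, TensorProduct.add_tmul]

section univ

variable {r : ℕ} (e : Fin r → B) (A₀ : Type u) [CommRing A₀] [Algebra A A₀]

/-- the universal first point -/
noncomputable def xu : MvPolynomial (Fin r ⊕ Fin r) A₀ ⊗[A] B :=
  gen (MvPolynomial (Fin r ⊕ Fin r) A₀) (fun j => X (Sum.inl j)) e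

/-- the universal second point -/
noncomputable def wu : MvPolynomial (Fin r ⊕ Fin r) A₀ ⊗[A] B :=
  gen (MvPolynomial (Fin r ⊕ Fin r) A₀) (fun j => X (Sum.inr j)) e

variable {A₀}

/-- the specialisation map -/
noncomputable def spc {R : Type u} [CommSemiring R] [Algebra A R] [Algebra A₀ R] [IsScalarTower A A₀ R]
    (s t : Fin r → R) : MvPolynomial (Fin r ⊕ Fin r) A₀ →ₐ[A] R :=
  (aeval (Sum.elim s t) : MvPolynomial (Fin r ⊕ Fin r) A₀ →ₐ[A₀] R).restrictScalars A

theorem spc_xu {R : Type u} [CommSemiring R] [Algebra A R] [Algebra A₀ R] [IsScalarTower A A₀ R]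
    (s t : Fin r → R) :
    Algebra.TensorProduct.map (spc (A := A) (A₀ := A₀) s t) (AlgHom.id A B) (xu e A₀) = gen R s e := by
  rw [xu, map_gen]
  congr 1
  funext j
  simp [spc]

theorem spc_wu {R : Type u} [CommSemiring R] [Algebra A R] [Algebra A₀ R] [IsScalarTower A A₀ R]
    (s t : Fin r → R) :
    Algebra.TensorProduct.map (spc (A := A) (A₀ := A₀) s t) (AlgHom.id A B) (wu e A₀) = gen R t e := by
  rw [wu, map_gen]
  congr 1
  funext j
  simp [spc]

theorem spc_comp {R : Type u} [CommSemiring R] [Algebra A R] [Algebra A₀ R] [IsScalarTower A A₀ R]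
    (s t : Fin r → R) :
    (spc (A := A) (A₀ := A₀) s t).comp
      (IsScalarTower.toAlgHom A A₀ (MvPolynomial (Fin r ⊕ Fin r) A₀)) =
      IsScalarTower.toAlgHom A A₀ R := by
  apply AlgHom.ext
  intro a
  simp [spc, MvPolynomial.algebraMap_eq]

end univ

/-- universal criterion for membership in the kernel of the base change -/
theorem mem_kerBC_of_univ {r : ℕ} (e : Fin r → B) (he : Submodule.span A (Set.range e) = ⊤)
    (F : B →ₚₗ[A] A) (A₀ : Type u) [CommRing A₀] [Algebra A A₀] (b' : A₀ ⊗[A] B)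
    (h : F.toFun' (MvPolynomial (Fin r ⊕ Fin r) A₀) (xu e A₀ + wu e A₀ *
      Algebra.TensorProduct.map (IsScalarTower.toAlgHom A A₀ (MvPolynomial (Fin r ⊕ Fin r) A₀))
        (AlgHom.id A B) b') = F.toFun' (MvPolynomial (Fin r ⊕ Fin r) A₀) (xu e A₀)) :
    b' ∈ PolLaw.kerBC F A₀ := by
  intro R _ _ _ _ x w
  obtain ⟨s, rfl⟩ := exists_gen_of_span_top e he R x
  obtain ⟨t, rfl⟩ := exists_gen_of_span_top e he R w
  have h1 := congrArg (Algebra.TensorProduct.map (spc (A := A) (A₀ := A₀) s t) (AlgHom.id A A)) h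
  rw [← compat, ← compat, map_add, map_mul, spc_xu, spc_wu, ← AlgHom.comp_apply,
    ← Algebra.TensorProduct.map_comp, spc_comp] at h1
  simpa using h1

/-- universal criterion for membership in the kernel -/
theorem mem_ker_of_univ {r : ℕ} (e : Fin r → B) (he : Submodule.span A (Set.range e) = ⊤)
    (F : B →ₚₗ[A] A) (b : B)
    (h : F.toFun' (MvPolynomial (Fin r ⊕ Fin r) A) (xu e A + wu e A * ((1 : MvPolynomial (Fin r ⊕ Fin r) A) ⊗ₜ[A] b)) =
      F.toFun' (MvPolynomial (Fin r ⊕ Fin r) A) (xu e A)) :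
    b ∈ PolLaw.ker F := by
  intro R _ _ x w
  obtain ⟨s, rfl⟩ := exists_gen_of_span_top e he R x
  obtain ⟨t, rfl⟩ := exists_gen_of_span_top e he R w
  have h1 := congrArg (Algebra.TensorProduct.map (spc (A := A) (A₀ := A) s t) (AlgHom.id A A)) h
  rw [← compat, ← compat, map_add, map_mul, spc_xu, spc_wu, Algebra.TensorProduct.map_tmul] at h1
  simpa using h1

end Groth.Agent.Helper4.KerFin
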