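import Mathlib

/-!
# Auxiliary lemmas on one-variable polynomials (helper4)
-/

set_option autoImplicit false
open Polynomial

namespace Groth.Agent.Helper4.PolyAux

theorem coeff_one_eval_split {R : Type*} [CommSemiring R] (p : R[X][X]) :
    (p.eval (X : R[X])).coeff 1 =
      (p.eval (0 : R[X])).coeff 1 + (p.map (Polynomial.evalRingHom (0 : R))).coeff 1 := by
  induction p using Polynomial.induction_on' with
  | add p q hp hq =>
    rw [eval_add, eval_add, Polynomial.map_add, coeff_add, coeff_add, coeff_add, hp, hq]
    ring
  | monomial n q =>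
    rw [eval_monomial, eval_monomial, map_monomial, coeff_monomial, coeff_mul_X_pow']
    rcases Nat.lt_trichotomy n 1 with h | h | h
    · have : n = 0 := by omega
      subst this
      simp
    · subst h
      simp [coeff_zero_eq_eval_zero]
    · rw [if_neg (by omega), if_neg (by omega), zero_pow (by omega), mul_zero, coeff_zero, add_zero]

theorem coeff_one_taylor {R : Type*} [CommRing R] (H : R[X]) :
    ((H.map (C : R →+* R[X])).comp (X + C X)).coeff 1 = H.derivative := by
  rw [← taylor_apply, taylor_coeff_one, derivative_map, eval_map, eval₂_C_X]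

theorem eval_one_eq_eval_zero_of_derivative_eq_zero {R : Type*} [CommRing R] [Algebra ℚ R]
    (H : R[X]) (h : H.derivative = 0) : H.eval 1 = H.eval 0 := by
  have hc : ∀ k, H.coeff (k + 1) = 0 := by
    intro k
    have h1 := congrArg (fun q => q.coeff k) h
    simp only [coeff_derivative, coeff_zero] at h1
    have hu : IsUnit ((k : R) + 1) := by
      have : ((k : R) + 1) = algebraMap ℚ R ((k : ℚ) + 1) := by simp
      rw [this]
      exact (isUnit_iff_ne_zero.2 (by positivity)).map _
    exact (hu.mul_left_eq_zero).1 h1
  have hH : H = C (H.coeff 0) := by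
    ext k
    rcases Nat.eq_zero_or_pos k with rfl | hk
    · simp
    · obtain ⟨j, rfl⟩ : ∃ j, k = j + 1 := ⟨k - 1, by omega⟩
      rw [hc j, coeff_C, if_neg (by omega)]
  rw [hH, eval_C, eval_C]

end Groth.Agent.Helper4.PolyAux
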