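import Groth.Agent.Helper4.KerLim
import Groth.Agent.Helper4.PolyAux

/-!
# Kernel of a law and flat base change in characteristic zero (helper4)
-/

set_option autoImplicit false
universe u
open scoped TensorProduct
open Polynomial

namespace Groth.Agent.Helper4.KerFlat

open Groth.Agent.Helper4.PolLaw1 Groth.Agent.Helper4.GammaFin Groth.Agent.Helper4.KerPoly
  Groth.Agent.Helper4.KerFin Groth.Agent.Helper4.KerLim

variable {A : Type u} [CommRing A] {B : Type u} [CommRing B] [Algebra A B]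
variable {r : ℕ} (e : Fin r → B)

section defs

variable (F : B →ₚₗ[A] A) (A₀ : Type u) [CommRing A₀] [Algebra A A₀]

/-- the polynomial `F(x_u + U w_u b₀)` -/
noncomputable def Hp (b₀ : A₀ ⊗[A] B) : (MvPolynomial (Fin r ⊕ Fin r) A₀)[X] :=
  Algebra.TensorProduct.rid A (MvPolynomial (Fin r ⊕ Fin r) A₀)[X] (MvPolynomial (Fin r ⊕ Fin r) A₀)[X]
    (F.toFun' (MvPolynomial (Fin r ⊕ Fin r) A₀)[X]
      (Algebra.TensorProduct.map (cst (A := A) (MvPolynomial (Fin r ⊕ Fin r) A₀)) (AlgHom.id A B) (xu e A₀) +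
        ((X : (MvPolynomial (Fin r ⊕ Fin r) A₀)[X]) ⊗ₜ[A] (1 : B)) *
          Algebra.TensorProduct.map (cst (A := A) (MvPolynomial (Fin r ⊕ Fin r) A₀)) (AlgHom.id A B) (wu e A₀) *
          Algebra.TensorProduct.map
            (IsScalarTower.toAlgHom A A₀ (MvPolynomial (Fin r ⊕ Fin r) A₀)[X]) (AlgHom.id A B) b₀))

/-- the linear coefficient -/
noncomputable def Lp (b₀ : A₀ ⊗[A] B) : MvPolynomial (Fin r ⊕ Fin r) A₀ := (Hp e F A₀ b₀).coeff 1

theorem evl_ι (c : MvPolynomial (Fin r ⊕ Fin r) A₀) (y : MvPolynomial (Fin r ⊕ Fin r) A₀ ⊗[A] B) :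
    Algebra.TensorProduct.map (evl (A := A) c) (AlgHom.id A B)
      (Algebra.TensorProduct.map (cst (A := A) (MvPolynomial (Fin r ⊕ Fin r) A₀)) (AlgHom.id A B) y) = y := by
  rw [← AlgHom.comp_apply, ← Algebra.TensorProduct.map_comp]
  have : (evl (A := A) c).comp (cst (A := A) (MvPolynomial (Fin r ⊕ Fin r) A₀)) = AlgHom.id A _ :=
    AlgHom.ext fun s => by simp
  rw [this]
  simp

theorem evl_tower (c : MvPolynomial (Fin r ⊕ Fin r) A₀) (b₀ : A₀ ⊗[A] B) :
    Algebra.TensorProduct.map (evl (A := A) c) (AlgHom.id A B)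
      (Algebra.TensorProduct.map
        (IsScalarTower.toAlgHom A A₀ (MvPolynomial (Fin r ⊕ Fin r) A₀)[X]) (AlgHom.id A B) b₀) =
      Algebra.TensorProduct.map
        (IsScalarTower.toAlgHom A A₀ (MvPolynomial (Fin r ⊕ Fin r) A₀)) (AlgHom.id A B) b₀ := by
  rw [← AlgHom.comp_apply, ← Algebra.TensorProduct.map_comp]
  congr 2
  apply AlgHom.ext
  intro a
  simp [Polynomial.algebraMap_apply]

theorem Hp_eval_one (b₀ : A₀ ⊗[A] B) : (Hp e F A₀ b₀).eval 1 = Dl e F A₀ b₀ := by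
  rw [← evl_apply (A := A), Hp, ← rid_map, ← compat, Dl, map_add, map_mul, map_mul, evl_ι, evl_ι,
    evl_tower, Algebra.TensorProduct.map_tmul]
  simp only [evl_apply, eval_X, map_one]
  rw [← Algebra.TensorProduct.one_def, one_mul]

theorem Hp_eval_zero (b₀ : A₀ ⊗[A] B) : (Hp e F A₀ b₀).eval 0 = Dr e F A₀ := by
  rw [← evl_apply (A := A), Hp, ← rid_map, ← compat, Dr, map_add, map_mul, map_mul, evl_ι,
    Algebra.TensorProduct.map_tmul]
  simp

theorem Hp_eq_C_of_mem (b₀ : A₀ ⊗[A] B) (hb : b₀ ∈ PolLaw.kerBC F A₀) :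
    Hp e F A₀ b₀ = C (Dr e F A₀) := by
  rw [Hp, hb (MvPolynomial (Fin r ⊕ Fin r) A₀)[X], compat, rid_map, Dr]
  rfl

theorem Lp_eq_zero_of_mem (b₀ : A₀ ⊗[A] B) (hb : b₀ ∈ PolLaw.kerBC F A₀) : Lp e F A₀ b₀ = 0 := by
  rw [Lp, Hp_eq_C_of_mem e F A₀ b₀ hb, coeff_C, if_neg one_ne_zero]


/-- the argument of `Hp` -/
noncomputable def zp (b₀ : A₀ ⊗[A] B) : (MvPolynomial (Fin r ⊕ Fin r) A₀)[X] ⊗[A] B :=
  Algebra.TensorProduct.map (cst (A := A) (MvPolynomial (Fin r ⊕ Fin r) A₀)) (AlgHom.id A B) (xu e A₀) +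
    ((X : (MvPolynomial (Fin r ⊕ Fin r) A₀)[X]) ⊗ₜ[A] (1 : B)) *
      Algebra.TensorProduct.map (cst (A := A) (MvPolynomial (Fin r ⊕ Fin r) A₀)) (AlgHom.id A B) (wu e A₀) *
      Algebra.TensorProduct.map
        (IsScalarTower.toAlgHom A A₀ (MvPolynomial (Fin r ⊕ Fin r) A₀)[X]) (AlgHom.id A B) b₀

theorem Hp_def (b₀ : A₀ ⊗[A] B) : Hp e F A₀ b₀ =
    Algebra.TensorProduct.rid A (MvPolynomial (Fin r ⊕ Fin r) A₀)[X] (MvPolynomial (Fin r ⊕ Fin r) A₀)[X]
      (F.toFun' (MvPolynomial (Fin r ⊕ Fin r) A₀)[X] (zp e A₀ b₀)) := rfl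

/-- homogeneity of `Hp` in `b₀` -/
theorem Hp_smul (a : A₀) (b₀ : A₀ ⊗[A] B) :
    Hp e F A₀ (a • b₀) = (Hp e F A₀ b₀).comp (C (MvPolynomial.C a) * X) := by
  have h1 : (Hp e F A₀ b₀).comp (C (MvPolynomial.C a) * X) =
      sbs (A := A) (C (MvPolynomial.C a) * X) (Hp e F A₀ b₀) := rfl
  rw [h1, Hp_def, Hp_def, ← rid_map, ← compat]
  congr 2
  have hσι : ∀ y : MvPolynomial (Fin r ⊕ Fin r) A₀ ⊗[A] B,
      Algebra.TensorProduct.map (sbs (A := A) (C (MvPolynomial.C a) * X)) (AlgHom.id A B)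
        (Algebra.TensorProduct.map (cst (A := A) (MvPolynomial (Fin r ⊕ Fin r) A₀)) (AlgHom.id A B) y) =
      Algebra.TensorProduct.map (cst (A := A) (MvPolynomial (Fin r ⊕ Fin r) A₀)) (AlgHom.id A B) y := by
    intro y
    rw [← AlgHom.comp_apply, ← Algebra.TensorProduct.map_comp]
    congr 2
    exact AlgHom.ext fun s => by simp
  have hσt : Algebra.TensorProduct.map (sbs (A := A) (C (MvPolynomial.C a) * X)) (AlgHom.id A B)
      (Algebra.TensorProduct.map
        (IsScalarTower.toAlgHom A A₀ (MvPolynomial (Fin r ⊕ Fin r) A₀)[X]) (AlgHom.id A B) b₀) =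
      Algebra.TensorProduct.map
        (IsScalarTower.toAlgHom A A₀ (MvPolynomial (Fin r ⊕ Fin r) A₀)[X]) (AlgHom.id A B) b₀ := by
    rw [← AlgHom.comp_apply, ← Algebra.TensorProduct.map_comp]
    congr 2
    apply AlgHom.ext
    intro a'
    simp [Polynomial.algebraMap_apply]
  rw [zp, zp, map_add, map_mul, map_mul, hσι, hσι, hσt, Algebra.TensorProduct.map_tmul, map_smul',
    smul_eq_tmul_one_mul]
  simp only [sbs_apply, X_comp, map_one, IsScalarTower.coe_toAlgHom', Polynomial.algebraMap_apply,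
    MvPolynomial.algebraMap_eq]
  have : ((C (MvPolynomial.C a) * X : (MvPolynomial (Fin r ⊕ Fin r) A₀)[X]) ⊗ₜ[A] (1 : B)) =
      ((C (MvPolynomial.C a) : (MvPolynomial (Fin r ⊕ Fin r) A₀)[X]) ⊗ₜ[A] (1 : B)) *
        ((X : (MvPolynomial (Fin r ⊕ Fin r) A₀)[X]) ⊗ₜ[A] (1 : B)) := by
    rw [Algebra.TensorProduct.tmul_mul_tmul, mul_one]
  rw [this]
  ring

theorem Lp_smul (a : A₀) (b₀ : A₀ ⊗[A] B) :
    Lp e F A₀ (a • b₀) = MvPolynomial.C a * Lp e F A₀ b₀ := by
  rw [Lp, Hp_smul, comp_C_mul_X_coeff, pow_one, mul_comm, Lp]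

/-- additivity of the linear coefficient -/
theorem Lp_add (b₀ b₁ : A₀ ⊗[A] B) :
    Lp e F A₀ (b₀ + b₁) = Lp e F A₀ b₀ + Lp e F A₀ b₁ := by
  -- the two-variable element
  set R := MvPolynomial (Fin r ⊕ Fin r) A₀ with hR
  set ιU : R ⊗[A] B →ₐ[A] R[X] ⊗[A] B :=
    Algebra.TensorProduct.map (cst (A := A) R) (AlgHom.id A B) with hιU
  set ιV : R[X] ⊗[A] B →ₐ[A] R[X][X] ⊗[A] B :=
    Algebra.TensorProduct.map (cst (A := A) R[X]) (AlgHom.id A B) with hιV
  set tw : ∀ (b : A₀ ⊗[A] B), R[X][X] ⊗[A] B := fun b =>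
    Algebra.TensorProduct.map (IsScalarTower.toAlgHom A A₀ R[X][X]) (AlgHom.id A B) b with htw
  set zz : R[X][X] ⊗[A] B := ιV (ιU (xu e A₀)) +
    ((C (X : R[X]) : R[X][X]) ⊗ₜ[A] (1 : B)) * ιV (ιU (wu e A₀)) * tw b₀ +
    ((X : R[X][X]) ⊗ₜ[A] (1 : B)) * ιV (ιU (wu e A₀)) * tw b₁ with hzz
  set HH : R[X][X] := Algebra.TensorProduct.rid A R[X][X] R[X][X] (F.toFun' R[X][X] zz) with hHH
  -- generic facts
  have hevι : ∀ (c : R[X]) (y : R[X] ⊗[A] B),
      Algebra.TensorProduct.map (evl (A := A) c) (AlgHom.id A B) (ιV y) = y := by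
    intro c y
    rw [hιV, ← AlgHom.comp_apply, ← Algebra.TensorProduct.map_comp]
    have : (evl (A := A) c).comp (cst (A := A) R[X]) = AlgHom.id A _ :=
      AlgHom.ext fun s => by simp
    rw [this]
    simp
  have hevtw : ∀ (c : R[X]) (b : A₀ ⊗[A] B),
      Algebra.TensorProduct.map (evl (A := A) c) (AlgHom.id A B) (tw b) =
        Algebra.TensorProduct.map (IsScalarTower.toAlgHom A A₀ R[X]) (AlgHom.id A B) b := by
    intro c b
    rw [htw]
    simp only
    rw [← AlgHom.comp_apply, ← Algebra.TensorProduct.map_comp]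
    congr 2
    apply AlgHom.ext
    intro a
    simp [Polynomial.algebraMap_apply]
  -- first specialisation: V ↦ U
  have h1 : Algebra.TensorProduct.map (evl (A := A) (X : R[X])) (AlgHom.id A B) zz =
      zp e A₀ (b₀ + b₁) := by
    rw [hzz, map_add, map_add, map_mul, map_mul, map_mul, map_mul, hevι, hevι, hevtw, hevtw,
      Algebra.TensorProduct.map_tmul, Algebra.TensorProduct.map_tmul, zp, map_add]
    simp only [evl_apply, eval_C, eval_X, map_one]
    rw [hιU]
    ring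
  -- second specialisation: V ↦ 0
  have h0 : Algebra.TensorProduct.map (evl (A := A) (0 : R[X])) (AlgHom.id A B) zz =
      zp e A₀ b₀ := by
    rw [hzz, map_add, map_add, map_mul, map_mul, map_mul, map_mul, hevι, hevι, hevtw, hevtw,
      Algebra.TensorProduct.map_tmul, Algebra.TensorProduct.map_tmul, zp]
    simp only [evl_apply, eval_C, eval_X, map_one]
    rw [hιU]
    simp
    rfl
  -- third specialisation: U ↦ 0
  have hmι : ∀ (y : R ⊗[A] B),
      Algebra.TensorProduct.map (Polynomial.mapAlgHom (evl (A := A) (0 : R))) (AlgHom.id A B)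
        (ιV (ιU y)) = ιU y := by
    intro y
    rw [hιV, hιU, ← AlgHom.comp_apply, ← AlgHom.comp_apply, ← Algebra.TensorProduct.map_comp,
      ← Algebra.TensorProduct.map_comp]
    congr 2
    exact AlgHom.ext fun s => by simp
  have hmtw : ∀ (b : A₀ ⊗[A] B),
      Algebra.TensorProduct.map (Polynomial.mapAlgHom (evl (A := A) (0 : R))) (AlgHom.id A B) (tw b) =
        Algebra.TensorProduct.map (IsScalarTower.toAlgHom A A₀ R[X]) (AlgHom.id A B) b := by
    intro b
    rw [htw]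
    simp only
    rw [← AlgHom.comp_apply, ← Algebra.TensorProduct.map_comp]
    congr 2
    apply AlgHom.ext
    intro a
    simp [Polynomial.algebraMap_apply]
  have h2 : Algebra.TensorProduct.map (Polynomial.mapAlgHom (evl (A := A) (0 : R))) (AlgHom.id A B) zz =
      zp e A₀ b₁ := by
    rw [hzz, map_add, map_add, map_mul, map_mul, map_mul, map_mul, hmι, hmι, hmtw, hmtw,
      Algebra.TensorProduct.map_tmul, Algebra.TensorProduct.map_tmul, zp]
    simp only [Polynomial.coe_mapAlgHom, Polynomial.map_C, Polynomial.map_X, map_one]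
    rw [hιU]
    simp
    rfl
  have e1 : Hp e F A₀ (b₀ + b₁) = HH.eval (X : R[X]) := by
    rw [Hp_def, ← h1, compat, rid_map, evl_apply]
  have e0 : Hp e F A₀ b₀ = HH.eval (0 : R[X]) := by
    rw [Hp_def, ← h0, compat, rid_map, evl_apply]
  have e2 : Hp e F A₀ b₁ = HH.map (Polynomial.evalRingHom (0 : R)) := by
    rw [Hp_def, ← h2, compat, rid_map]
    show Polynomial.mapAlgHom (evl (A := A) (0 : R)) HH = _
    rw [Polynomial.coe_mapAlgHom]
    rfl
  rw [Lp, Lp, Lp, e1, e0, e2]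
  exact PolyAux.coeff_one_eval_split HH

end defs

section nat

variable (F : B →ₚₗ[A] A) {A₁ A₂ : Type u} [CommRing A₁] [Algebra A A₁] [CommRing A₂] [Algebra A A₂]

theorem map_Hp (f : A₁ →ₐ[A] A₂) (b₁ : A₁ ⊗[A] B) :
    Polynomial.mapAlgHom (MvPolynomial.mapAlgHom f :
      MvPolynomial (Fin r ⊕ Fin r) A₁ →ₐ[A] MvPolynomial (Fin r ⊕ Fin r) A₂) (Hp e F A₁ b₁) =
      Hp e F A₂ (Algebra.TensorProduct.map f (AlgHom.id A B) b₁) := by
  rw [Hp_def, Hp_def, ← rid_map, ← compat]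
  congr 2
  have hι : ∀ y : MvPolynomial (Fin r ⊕ Fin r) A₁ ⊗[A] B,
      Algebra.TensorProduct.map (Polynomial.mapAlgHom (MvPolynomial.mapAlgHom f :
        MvPolynomial (Fin r ⊕ Fin r) A₁ →ₐ[A] MvPolynomial (Fin r ⊕ Fin r) A₂)) (AlgHom.id A B)
        (Algebra.TensorProduct.map (cst (A := A) (MvPolynomial (Fin r ⊕ Fin r) A₁)) (AlgHom.id A B) y) =
      Algebra.TensorProduct.map (cst (A := A) (MvPolynomial (Fin r ⊕ Fin r) A₂)) (AlgHom.id A B)
        (Algebra.TensorProduct.map (MvPolynomial.mapAlgHom f :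
          MvPolynomial (Fin r ⊕ Fin r) A₁ →ₐ[A] MvPolynomial (Fin r ⊕ Fin r) A₂) (AlgHom.id A B) y) := by
    intro y
    rw [← AlgHom.comp_apply, ← AlgHom.comp_apply, ← Algebra.TensorProduct.map_comp,
      ← Algebra.TensorProduct.map_comp]
    congr 2
    exact AlgHom.ext fun s => by simp
  have ht : Algebra.TensorProduct.map (Polynomial.mapAlgHom (MvPolynomial.mapAlgHom f :
        MvPolynomial (Fin r ⊕ Fin r) A₁ →ₐ[A] MvPolynomial (Fin r ⊕ Fin r) A₂)) (AlgHom.id A B)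
        (Algebra.TensorProduct.map
          (IsScalarTower.toAlgHom A A₁ (MvPolynomial (Fin r ⊕ Fin r) A₁)[X]) (AlgHom.id A B) b₁) =
      Algebra.TensorProduct.map
        (IsScalarTower.toAlgHom A A₂ (MvPolynomial (Fin r ⊕ Fin r) A₂)[X]) (AlgHom.id A B)
        (Algebra.TensorProduct.map f (AlgHom.id A B) b₁) := by
    rw [← AlgHom.comp_apply, ← AlgHom.comp_apply, ← Algebra.TensorProduct.map_comp,
      ← Algebra.TensorProduct.map_comp]
    congr 2
    apply AlgHom.ext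
    intro a
    simp [Polynomial.algebraMap_apply, MvPolynomial.algebraMap_eq]
  have h1 : Algebra.TensorProduct.map (MvPolynomial.mapAlgHom f :
      MvPolynomial (Fin r ⊕ Fin r) A₁ →ₐ[A] _) (AlgHom.id A B) (xu e A₁) = xu e A₂ := map_gen' e f _
  have h2 : Algebra.TensorProduct.map (MvPolynomial.mapAlgHom f :
      MvPolynomial (Fin r ⊕ Fin r) A₁ →ₐ[A] _) (AlgHom.id A B) (wu e A₁) = wu e A₂ := map_gen' e f _
  rw [zp, zp, map_add, map_mul, map_mul, hι, hι, ht, h1, h2, Algebra.TensorProduct.map_tmul]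
  simp

theorem map_Lp (f : A₁ →ₐ[A] A₂) (b₁ : A₁ ⊗[A] B) :
    MvPolynomial.mapAlgHom f (Lp e F A₁ b₁) =
      Lp e F A₂ (Algebra.TensorProduct.map f (AlgHom.id A B) b₁) := by
  rw [Lp, Lp, ← map_Hp, Polynomial.coe_mapAlgHom, Polynomial.coeff_map]
  rfl

end nat

section charZero

variable (F : B →ₚₗ[A] A) [Algebra ℚ A]

theorem mem_ker_of_Lp_eq_zero (he : Submodule.span A (Set.range e) = ⊤) (b : B)
    (h : Lp e F A ((1 : A) ⊗ₜ[A] b) = 0) : b ∈ PolLaw.ker F := by
  set P := MvPolynomial (Fin r ⊕ Fin r) A with hP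
  set H : P[X] := Hp e F A ((1 : A) ⊗ₜ[A] b) with hH
  set z : P[X] ⊗[A] B := zp e A ((1 : A) ⊗ₜ[A] b) with hz
  set ιU : P ⊗[A] B →ₐ[A] P[X] ⊗[A] B :=
    Algebra.TensorProduct.map (cst (A := A) P) (AlgHom.id A B) with hιU
  set ιV : P[X] ⊗[A] B →ₐ[A] P[X][X] ⊗[A] B :=
    Algebra.TensorProduct.map (cst (A := A) P[X]) (AlgHom.id A B) with hιV
  have hz' : z = ιU (xu e A) + ((X : P[X]) ⊗ₜ[A] (1 : B)) * ιU (wu e A) * ((1 : P[X]) ⊗ₜ[A] b) := by
    rw [hz, zp, Algebra.TensorProduct.map_tmul]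
    simp
    rfl
  obtain ⟨s, hs⟩ := exists_gen_of_span_top e he P[X] z
  obtain ⟨t, ht⟩ := exists_gen_of_span_top e he P[X] (ιU (wu e A))
  set ψ : P →ₐ[A] P[X] := spc (A := A) (A₀ := A) s t with hψ
  have hψx : Algebra.TensorProduct.map ψ (AlgHom.id A B) (xu e A) = z := by
    rw [hψ, spc_xu, ← hs]
  have hψw : Algebra.TensorProduct.map ψ (AlgHom.id A B) (wu e A) = ιU (wu e A) := by
    rw [hψ, spc_wu, ← ht]
  -- the two maps
  set τ : P[X] →ₐ[A] P[X][X] :=
    (sbs (A := A) (X + C X : P[X][X])).comp (Polynomial.mapAlgHom (cst (A := A) P)) with hτ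
  set ψh : P[X] →ₐ[A] P[X][X] := Polynomial.mapAlgHom ψ with hψh
  have hτι : ∀ y : P ⊗[A] B, Algebra.TensorProduct.map τ (AlgHom.id A B) (ιU y) = ιV (ιU y) := by
    intro y
    rw [hιU, hιV, ← AlgHom.comp_apply, ← AlgHom.comp_apply, ← Algebra.TensorProduct.map_comp,
      ← Algebra.TensorProduct.map_comp]
    congr 2
    exact AlgHom.ext fun q => by simp [hτ]
  have hψι : ∀ y : P ⊗[A] B, Algebra.TensorProduct.map ψh (AlgHom.id A B) (ιU y) =
      ιV (Algebra.TensorProduct.map ψ (AlgHom.id A B) y) := by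
    intro y
    rw [hιU, hιV, ← AlgHom.comp_apply, ← AlgHom.comp_apply, ← Algebra.TensorProduct.map_comp,
      ← Algebra.TensorProduct.map_comp]
    congr 2
    exact AlgHom.ext fun q => by simp [hψh]
  have hτz : Algebra.TensorProduct.map τ (AlgHom.id A B) z =
      Algebra.TensorProduct.map ψh (AlgHom.id A B) z := by
    have hVz : ιV z = ιV (ιU (xu e A)) + ((C X : P[X][X]) ⊗ₜ[A] (1 : B)) * ιV (ιU (wu e A)) *
        ((1 : P[X][X]) ⊗ₜ[A] b) := by
      rw [hz', map_add, map_mul, map_mul, hιV, Algebra.TensorProduct.map_tmul,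
        Algebra.TensorProduct.map_tmul]
      simp
    conv_lhs => rw [hz']
    conv_rhs => rw [hz']
    rw [map_add, map_mul, map_mul, hτι, hτι, map_add, map_mul, map_mul, hψι, hψι, hψx, hψw, hVz,
      Algebra.TensorProduct.map_tmul, Algebra.TensorProduct.map_tmul,
      Algebra.TensorProduct.map_tmul, Algebra.TensorProduct.map_tmul]
    have e1 : τ (X : P[X]) = X + C X := by simp [hτ]
    have e2 : ψh (X : P[X]) = X := by simp [hψh]
    rw [e1, e2]
    simp only [map_one, AlgHom.coe_id, id_eq, TensorProduct.add_tmul]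
    rw [add_mul, add_mul, add_assoc]
    congr 1
    rw [add_comm]
  have hτH1 : τ H = Algebra.TensorProduct.rid A P[X][X] P[X][X]
      (F.toFun' P[X][X] (Algebra.TensorProduct.map τ (AlgHom.id A B) z)) := by
    rw [hH, Hp_def, ← rid_map, ← compat]
  have hψH1 : ψh H = Algebra.TensorProduct.rid A P[X][X] P[X][X]
      (F.toFun' P[X][X] (Algebra.TensorProduct.map ψh (AlgHom.id A B) z)) := by
    have h1 := rid_map (A := A) (S := P[X]) (S' := P[X][X]) ψh (F.toFun' P[X] z)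
    have h2 := compat (S := P[X]) (S' := P[X][X]) F ψh z
    rw [← h2] at h1
    exact h1.symm
  have hτH : τ H = ψh H := by
    rw [hτH1, hψH1, hτz]
  have hder : H.derivative = 0 := by
    have h1 : (τ H).coeff 1 = H.derivative := by
      have : τ H = (H.map (C : P →+* P[X])).comp (X + C X) := by
        simp [hτ]
        rfl
      rw [this]
      exact PolyAux.coeff_one_taylor H
    have h2 : (ψh H).coeff 1 = 0 := by
      rw [hψh, Polynomial.coe_mapAlgHom, Polynomial.coeff_map]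
      have : H.coeff 1 = 0 := h
      rw [this, map_zero]
    rw [← h1, hτH, h2]
  have heval := PolyAux.eval_one_eq_eval_zero_of_derivative_eq_zero H hder
  rw [hH, Hp_eval_one, Hp_eval_zero, Dl, Dr] at heval
  apply mem_ker_of_univ e he F b
  have := (Algebra.TensorProduct.rid A P P).injective heval
  simpa using this

end charZero

section main

variable (F : B →ₚₗ[A] A)

theorem Lp_zero (A₀ : Type u) [CommRing A₀] [Algebra A A₀] : Lp e F A₀ 0 = 0 := by
  have := Lp_smul e F A₀ (0 : A₀) 0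
  rw [smul_zero] at this
  rw [this, map_zero, zero_mul]

/-- the linearised law as a linear map -/
noncomputable def lam : B →ₗ[A] MvPolynomial (Fin r ⊕ Fin r) A where
  toFun b := Lp e F A ((1 : A) ⊗ₜ[A] b)
  map_add' x y := by rw [TensorProduct.tmul_add, Lp_add]
  map_smul' a x := by
    rw [TensorProduct.tmul_smul, Lp_smul, RingHom.id_apply, MvPolynomial.smul_eq_C_mul]

theorem Lp_eq (A' : Type u) [CommRing A'] [Algebra A A'] (b' : A' ⊗[A] B) :
    Lp e F A' b' = MvPolynomial.algebraTensorAlgEquiv A A' ((lam e F).lTensor A' b') := by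
  induction b' using TensorProduct.induction_on with
  | zero => rw [Lp_zero, map_zero, map_zero]
  | tmul a' b =>
    rw [LinearMap.lTensor_tmul, MvPolynomial.algebraTensorAlgEquiv_tmul]
    have h1 : a' ⊗ₜ[A] b = a' • ((1 : A') ⊗ₜ[A] b) := by
      rw [TensorProduct.smul_tmul', smul_eq_mul, mul_one]
    have h2 : (1 : A') ⊗ₜ[A] b =
        Algebra.TensorProduct.map (Algebra.ofId A A') (AlgHom.id A B) ((1 : A) ⊗ₜ[A] b) := by
      simp
    rw [h1, Lp_smul, h2, ← map_Lp, MvPolynomial.smul_eq_C_mul]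
    rfl
  | add z₁ z₂ h₁ h₂ => rw [Lp_add, h₁, h₂, map_add, map_add]

theorem kerBC_eq_of_flat [Algebra ℚ A] [Module.Finite A B] (A' : Type u) [CommRing A']
    [Algebra A A'] [Module.Flat A A'] :
    (PolLaw.ker F).map (Algebra.TensorProduct.includeRight : B →ₐ[A] A' ⊗[A] B) =
      PolLaw.kerBC F A' := by
  apply le_antisymm (map_ker_le_kerBC F A')
  intro b' hb'
  obtain ⟨r, e, he⟩ := Module.Finite.exists_fin (R := A) (M := B)
  have h0 := Lp_eq_zero_of_mem e F A' b' hb'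
  rw [Lp_eq] at h0
  have h1 : (lam e F).lTensor A' b' = 0 :=
    (MvPolynomial.algebraTensorAlgEquiv A A').injective (by rw [h0, map_zero])
  have hex := Module.Flat.lTensor_exact A' (LinearMap.exact_subtype_ker_map (lam e F))
  obtain ⟨y, hy⟩ := (hex b').1 h1
  rw [← hy]
  clear hy h1 h0 hb'
  induction y using TensorProduct.induction_on with
  | zero => rw [map_zero]; exact Ideal.zero_mem _
  | tmul a' k =>
    have hk : (k : B) ∈ PolLaw.ker F := mem_ker_of_Lp_eq_zero e F he _ k.2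
    rw [LinearMap.lTensor_tmul]
    have : a' ⊗ₜ[A] ((LinearMap.ker (lam e F)).subtype k) = (a' ⊗ₜ[A] (1 : B)) *
        (Algebra.TensorProduct.includeRight : B →ₐ[A] A' ⊗[A] B) (k : B) := by
      rw [Algebra.TensorProduct.includeRight_apply, Algebra.TensorProduct.tmul_mul_tmul, mul_one,
        one_mul]
      rfl
    rw [this]
    exact Ideal.mul_mem_left _ _ (Ideal.mem_map_of_mem _ hk)
  | add y₁ y₂ h₁ h₂ => rw [map_add]; exact Ideal.add_mem _ h₁ h₂

end main

end Groth.Agent.Helper4.KerFlat
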