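import Groth.Agent.Helper4.KerFin

/-!
# Kernel of a law and filtered colimits of base rings (helper4)
-/

set_option autoImplicit false
universe u
open scoped TensorProduct

namespace Groth.Agent.Helper4.KerLim

open Groth.Agent.Helper4.PolLaw1 Groth.Agent.Helper4.GammaFin Groth.Agent.Helper4.KerPoly
  Groth.Agent.Helper4.KerFin

variable {A : Type u} [CommRing A] {B : Type u} [CommRing B] [Algebra A B]

section functorial

variable {A₁ A₂ : Type u} [CommRing A₁] [Algebra A A₁] [CommRing A₂] [Algebra A A₂]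

/-- functoriality of the kernel of the base change -/
theorem map_mem_kerBC (F : B →ₚₗ[A] A) (f : A₁ →ₐ[A] A₂) (b₁ : A₁ ⊗[A] B)
    (hb : b₁ ∈ PolLaw.kerBC F A₁) :
    Algebra.TensorProduct.map f (AlgHom.id A B) b₁ ∈ PolLaw.kerBC F A₂ := by
  intro R _ _ _ _ x w
  letI : Algebra A₁ R := ((algebraMap A₂ R).comp f.toRingHom).toAlgebra
  haveI : IsScalarTower A A₁ R := IsScalarTower.of_algebraMap_eq (fun a => by
    show algebraMap A R a = algebraMap A₂ R (f (algebraMap A A₁ a))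
    rw [f.commutes, ← IsScalarTower.algebraMap_apply])
  have h := hb R x w
  have he : (IsScalarTower.toAlgHom A A₂ R).comp f = IsScalarTower.toAlgHom A A₁ R :=
    AlgHom.ext (fun a => rfl)
  rw [← AlgHom.comp_apply, ← Algebra.TensorProduct.map_comp, AlgHom.comp_id, he]
  exact h

variable {r : ℕ} (e : Fin r → B)

/-- left side of the universal identity -/
noncomputable def Dl (F : B →ₚₗ[A] A) (A₀ : Type u) [CommRing A₀] [Algebra A A₀] (b₀ : A₀ ⊗[A] B) :
    MvPolynomial (Fin r ⊕ Fin r) A₀ :=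
  Algebra.TensorProduct.rid A (MvPolynomial (Fin r ⊕ Fin r) A₀) (MvPolynomial (Fin r ⊕ Fin r) A₀) (F.toFun' (MvPolynomial (Fin r ⊕ Fin r) A₀) (xu e A₀ + wu e A₀ *
      Algebra.TensorProduct.map (IsScalarTower.toAlgHom A A₀ (MvPolynomial (Fin r ⊕ Fin r) A₀))
        (AlgHom.id A B) b₀))

/-- right side of the universal identity -/
noncomputable def Dr (F : B →ₚₗ[A] A) (A₀ : Type u) [CommRing A₀] [Algebra A A₀] :
    MvPolynomial (Fin r ⊕ Fin r) A₀ :=
  Algebra.TensorProduct.rid A (MvPolynomial (Fin r ⊕ Fin r) A₀) (MvPolynomial (Fin r ⊕ Fin r) A₀) (F.toFun' (MvPolynomial (Fin r ⊕ Fin r) A₀) (xu e A₀))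

theorem map_gen' (f : A₁ →ₐ[A] A₂) (v : Fin r → Fin r ⊕ Fin r) :
    Algebra.TensorProduct.map (MvPolynomial.mapAlgHom f : MvPolynomial (Fin r ⊕ Fin r) A₁ →ₐ[A] _)
      (AlgHom.id A B) (gen _ (fun j => MvPolynomial.X (v j)) e) =
      gen (MvPolynomial (Fin r ⊕ Fin r) A₂) (fun j => MvPolynomial.X (v j)) e := by
  rw [map_gen]
  congr 1
  funext j
  rw [MvPolynomial.mapAlgHom_apply, MvPolynomial.map_X]

theorem map_Dr (F : B →ₚₗ[A] A) (f : A₁ →ₐ[A] A₂) :
    MvPolynomial.mapAlgHom f (Dr e F A₁) = Dr e F A₂ := by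
  rw [Dr, Dr, ← rid_map, ← compat]
  congr 2
  exact map_gen' e f _

theorem map_Dl (F : B →ₚₗ[A] A) (f : A₁ →ₐ[A] A₂) (b₁ : A₁ ⊗[A] B) :
    MvPolynomial.mapAlgHom f (Dl e F A₁ b₁) =
      Dl e F A₂ (Algebra.TensorProduct.map f (AlgHom.id A B) b₁) := by
  rw [Dl, Dl, ← rid_map, ← compat]
  congr 2
  rw [map_add, map_mul]
  have h1 : Algebra.TensorProduct.map (MvPolynomial.mapAlgHom f :
      MvPolynomial (Fin r ⊕ Fin r) A₁ →ₐ[A] _) (AlgHom.id A B) (xu e A₁) = xu e A₂ := map_gen' e f _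
  have h2 : Algebra.TensorProduct.map (MvPolynomial.mapAlgHom f :
      MvPolynomial (Fin r ⊕ Fin r) A₁ →ₐ[A] _) (AlgHom.id A B) (wu e A₁) = wu e A₂ := map_gen' e f _
  rw [h1, h2]
  congr 2
  rw [← AlgHom.comp_apply, ← AlgHom.comp_apply, ← Algebra.TensorProduct.map_comp,
    ← Algebra.TensorProduct.map_comp]
  congr 2
  apply AlgHom.ext
  intro a
  simp [MvPolynomial.algebraMap_eq]

theorem Dl_eq_Dr_of_mem (F : B →ₚₗ[A] A) (A₀ : Type u) [CommRing A₀] [Algebra A A₀] (b₀ : A₀ ⊗[A] B)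
    (hb : b₀ ∈ PolLaw.kerBC F A₀) : Dl e F A₀ b₀ = Dr e F A₀ := by
  rw [Dl, Dr, hb (MvPolynomial (Fin r ⊕ Fin r) A₀)]

theorem mem_of_Dl_eq_Dr (he : Submodule.span A (Set.range e) = ⊤) (F : B →ₚₗ[A] A)
    (A₀ : Type u) [CommRing A₀] [Algebra A A₀] (b₀ : A₀ ⊗[A] B)
    (h : Dl e F A₀ b₀ = Dr e F A₀) : b₀ ∈ PolLaw.kerBC F A₀ :=
  mem_kerBC_of_univ e he F A₀ b₀ ((Algebra.TensorProduct.rid A (MvPolynomial (Fin r ⊕ Fin r) A₀) (MvPolynomial (Fin r ⊕ Fin r) A₀)).injective h)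

end functorial

section system

variable {A' : Type u} [CommRing A'] [Algebra A A'] {ι : Type u} [Preorder ι]
  [IsDirected ι (fun i j => i ≤ j)] [Nonempty ι]
  (Ai : ι → Type u) [∀ i, CommRing (Ai i)] [∀ i, Algebra A (Ai i)]
  (t : ∀ i j : ι, i ≤ j → (Ai i →ₐ[A] Ai j)) (φ : ∀ i : ι, Ai i →ₐ[A] A')

include t in
theorem exists_common_index
    (hzero : ∀ (i : ι) (x : Ai i), φ i x = 0 → ∃ (j : ι) (h : i ≤ j), t i j h x = 0)
    (htrans : ∀ (i j k : ι) (hij : i ≤ j) (hjk : j ≤ k),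
      (t j k hjk).comp (t i j hij) = t i k (hij.trans hjk))
    (i : ι) (T : Finset (Ai i)) (hT : ∀ c ∈ T, φ i c = 0) :
    ∃ (j : ι) (h : i ≤ j), ∀ c ∈ T, t i j h c = 0 := by
  classical
  induction T using Finset.induction_on with
  | empty => exact ⟨i, le_rfl, by simp⟩
  | insert a T _ ih =>
    obtain ⟨j₁, h₁, hj₁⟩ := ih (fun c hc => hT c (Finset.mem_insert_of_mem hc))
    obtain ⟨j₂, h₂, hj₂⟩ := hzero i a (hT a (Finset.mem_insert_self _ _))
    obtain ⟨k, hk₁, hk₂⟩ := exists_ge_ge j₁ j₂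
    refine ⟨k, h₁.trans hk₁, fun c hc => ?_⟩
    rcases Finset.mem_insert.1 hc with rfl | hc
    · have : t i k (h₂.trans hk₂) c = 0 := by
        rw [← htrans i j₂ k h₂ hk₂, AlgHom.comp_apply, hj₂, map_zero]
      exact this
    · rw [← htrans i j₁ k h₁ hk₁, AlgHom.comp_apply, hj₁ c hc, map_zero]

include t in
theorem exists_lift_tensor
    (hcomp : ∀ (i j : ι) (h : i ≤ j), (φ j).comp (t i j h) = φ i)
    (hsurj : ∀ a : A', ∃ (i : ι) (x : Ai i), φ i x = a) (b' : A' ⊗[A] B) :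
    ∃ (i : ι) (b₁ : Ai i ⊗[A] B), Algebra.TensorProduct.map (φ i) (AlgHom.id A B) b₁ = b' := by
  induction b' using TensorProduct.induction_on with
  | zero => exact ⟨Classical.arbitrary ι, 0, by simp⟩
  | tmul a β =>
    obtain ⟨i, x, rfl⟩ := hsurj a
    exact ⟨i, x ⊗ₜ[A] β, by simp⟩
  | add z₁ z₂ h₁ h₂ =>
    obtain ⟨i₁, b₁, rfl⟩ := h₁
    obtain ⟨i₂, b₂, rfl⟩ := h₂
    obtain ⟨k, hk₁, hk₂⟩ := exists_ge_ge i₁ i₂
    refine ⟨k, Algebra.TensorProduct.map (t i₁ k hk₁) (AlgHom.id A B) b₁ +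
      Algebra.TensorProduct.map (t i₂ k hk₂) (AlgHom.id A B) b₂, ?_⟩
    rw [map_add, ← AlgHom.comp_apply, ← AlgHom.comp_apply, ← Algebra.TensorProduct.map_comp,
      ← Algebra.TensorProduct.map_comp, hcomp, hcomp]
    simp

theorem kerBC_eq_iSup [Module.Finite A B]
    (hcomp : ∀ (i j : ι) (h : i ≤ j), (φ j).comp (t i j h) = φ i)
    (hsurj : ∀ a : A', ∃ (i : ι) (x : Ai i), φ i x = a)
    (hzero : ∀ (i : ι) (x : Ai i), φ i x = 0 → ∃ (j : ι) (h : i ≤ j), t i j h x = 0)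
    (htrans : ∀ (i j k : ι) (hij : i ≤ j) (hjk : j ≤ k),
      (t j k hjk).comp (t i j hij) = t i k (hij.trans hjk))
    (F : B →ₚₗ[A] A) :
    PolLaw.kerBC F A' =
      ⨆ i : ι, (PolLaw.kerBC F (Ai i)).map (Algebra.TensorProduct.map (φ i) (AlgHom.id A B)) := by
  classical
  apply le_antisymm
  · intro b' hb'
    obtain ⟨r, e, he⟩ := Module.Finite.exists_fin (R := A) (M := B)
    obtain ⟨i, b₁, rfl⟩ := exists_lift_tensor Ai t φ hcomp hsurj b'
    set p := Dl e F (Ai i) b₁ with hp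
    set q := Dr e F (Ai i) with hq
    have hpq : MvPolynomial.mapAlgHom (φ i) p = MvPolynomial.mapAlgHom (φ i) q := by
      rw [hp, hq, map_Dl, map_Dr]
      exact Dl_eq_Dr_of_mem e F A' _ hb'
    obtain ⟨j, hij, hj⟩ := exists_common_index Ai t φ hzero htrans i
      ((p.support ∪ q.support).image (fun n => MvPolynomial.coeff n p - MvPolynomial.coeff n q))
      (by
        intro c hc
        obtain ⟨n, _, rfl⟩ := Finset.mem_image.1 hc
        have := congrArg (MvPolynomial.coeff n) hpq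
        rw [MvPolynomial.mapAlgHom_apply, MvPolynomial.mapAlgHom_apply, MvPolynomial.coeff_map,
          MvPolynomial.coeff_map] at this
        rw [map_sub, sub_eq_zero]
        exact this)
    have hpq' : MvPolynomial.mapAlgHom (t i j hij) p = MvPolynomial.mapAlgHom (t i j hij) q := by
      ext n
      rw [MvPolynomial.mapAlgHom_apply, MvPolynomial.mapAlgHom_apply, MvPolynomial.coeff_map,
        MvPolynomial.coeff_map]
      by_cases hn : n ∈ p.support ∪ q.support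
      · have := hj _ (Finset.mem_image_of_mem _ hn)
        rw [map_sub, sub_eq_zero] at this
        exact this
      · rw [Finset.mem_union, not_or] at hn
        rw [MvPolynomial.notMem_support_iff.1 hn.1, MvPolynomial.notMem_support_iff.1 hn.2]
    rw [hp, hq, map_Dl, map_Dr] at hpq'
    have hmem := mem_of_Dl_eq_Dr e he F (Ai j) _ hpq'
    have hb : Algebra.TensorProduct.map (φ i) (AlgHom.id A B) b₁ =
        Algebra.TensorProduct.map (φ j) (AlgHom.id A B)
          (Algebra.TensorProduct.map (t i j hij) (AlgHom.id A B) b₁) := by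
      rw [← AlgHom.comp_apply, ← Algebra.TensorProduct.map_comp, hcomp]
      simp
    rw [hb]
    exact (le_iSup (fun i => (PolLaw.kerBC F (Ai i)).map
      (Algebra.TensorProduct.map (φ i) (AlgHom.id A B))) j) (Ideal.mem_map_of_mem _ hmem)
  · apply iSup_le
    intro i
    rw [Ideal.map_le_iff_le_comap]
    intro b₁ hb₁
    exact map_mem_kerBC F (φ i) b₁ hb₁

end system

end Groth.Agent.Helper4.KerLim
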