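import Groth.Agent.Helper4.KerFin

/-!
# Kernel of a law and localisation (helper4)
-/

set_option autoImplicit false
universe u
open scoped TensorProduct

namespace Groth.Agent.Helper4.KerLoc

open Groth.Agent.Helper4.PolLaw1 Groth.Agent.Helper4.GammaFin Groth.Agent.Helper4.KerPoly
  Groth.Agent.Helper4.KerFin

variable {A : Type u} [CommRing A] {B : Type u} [CommRing B] [Algebra A B]

theorem exists_common_annihilator (M : Submonoid A) (T : Finset A)
    (h : ∀ t ∈ T, ∃ m : M, (m : A) * t = 0) : ∃ m : M, ∀ t ∈ T, (m : A) * t = 0 := by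
  classical
  induction T using Finset.induction_on with
  | empty => exact ⟨1, by simp⟩
  | insert a T _ ih =>
    obtain ⟨m₁, hm₁⟩ := ih (fun t ht => h t (Finset.mem_insert_of_mem ht))
    obtain ⟨m₂, hm₂⟩ := h a (Finset.mem_insert_self _ _)
    refine ⟨m₁ * m₂, fun t ht => ?_⟩
    rcases Finset.mem_insert.1 ht with rfl | ht
    · rw [Submonoid.coe_mul, mul_assoc, hm₂, mul_zero]
    · rw [Submonoid.coe_mul, mul_comm (m₁ : A), mul_assoc, hm₁ t ht, mul_zero]

variable (M : Submonoid A) (A' : Type u) [CommRing A'] [Algebra A A'] [IsLocalization M A']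

theorem exists_denominator (b' : A' ⊗[A] B) :
    ∃ (m : M) (b : B), ((algebraMap A A' m) ⊗ₜ[A] (1 : B)) * b' = (1 : A') ⊗ₜ[A] b := by
  induction b' using TensorProduct.induction_on with
  | zero => exact ⟨1, 0, by simp⟩
  | tmul a' β =>
    obtain ⟨⟨a, m⟩, ham⟩ := IsLocalization.surj M a'
    refine ⟨m, a • β, ?_⟩
    rw [Algebra.TensorProduct.tmul_mul_tmul, one_mul, mul_comm]
    simp only at ham
    rw [ham, Algebra.algebraMap_eq_smul_one, TensorProduct.smul_tmul]
  | add z₁ z₂ h₁ h₂ =>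
    obtain ⟨m₁, b₁, h₁⟩ := h₁
    obtain ⟨m₂, b₂, h₂⟩ := h₂
    refine ⟨m₁ * m₂, (m₂ : A) • b₁ + (m₁ : A) • b₂, ?_⟩
    have e1 : ((algebraMap A A' ((m₁ * m₂ : M) : A)) ⊗ₜ[A] (1 : B)) =
        ((algebraMap A A' m₂) ⊗ₜ[A] (1 : B)) * ((algebraMap A A' m₁) ⊗ₜ[A] (1 : B)) := by
      rw [Algebra.TensorProduct.tmul_mul_tmul, one_mul, Submonoid.coe_mul, map_mul, mul_comm]
    have e2 : ∀ (m : A) (b : B), ((algebraMap A A' m) ⊗ₜ[A] (1 : B)) * ((1 : A') ⊗ₜ[A] b) =
        (1 : A') ⊗ₜ[A] (m • b) := by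
      intro m b
      rw [Algebra.TensorProduct.tmul_mul_tmul, one_mul, mul_one, Algebra.algebraMap_eq_smul_one,
        TensorProduct.smul_tmul]
    rw [mul_add, TensorProduct.tmul_add, ← e2, ← e2, ← h₁, ← h₂, e1]
    ring


open Polynomial in
/-- the core: a numerator in the base-changed kernel has a multiple in the kernel -/
theorem core {r : ℕ} (e : Fin r → B) (he : Submodule.span A (Set.range e) = ⊤)
    (F : B →ₚₗ[A] A) (b : B) (hb : (1 : A') ⊗ₜ[A] b ∈ PolLaw.kerBC F A') :
    ∃ m : M, (m : A) • b ∈ PolLaw.ker F := by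
  classical
  -- notation
  let P := MvPolynomial (Fin r ⊕ Fin r) A
  let P' := MvPolynomial (Fin r ⊕ Fin r) A'
  let φ' : P →ₐ[A] P' := MvPolynomial.mapAlgHom (Algebra.ofId A A')
  let Φ : P[X] →ₐ[A] P'[X] := Polynomial.mapAlgHom φ'
  let ι : P ⊗[A] B →ₐ[A] P[X] ⊗[A] B := Algebra.TensorProduct.map (cst (A := A) P) (AlgHom.id A B)
  let ι' : P' ⊗[A] B →ₐ[A] P'[X] ⊗[A] B :=
    Algebra.TensorProduct.map (cst (A := A) P') (AlgHom.id A B)
  let z : P[X] ⊗[A] B := ι (xu e A) + ((X : P[X]) ⊗ₜ[A] (1 : B)) * ι (wu e A) * ((1 : P[X]) ⊗ₜ[A] b)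
  let H : P[X] := Algebra.TensorProduct.rid A P[X] P[X] (F.toFun' P[X] z)
  let h' : P' := Algebra.TensorProduct.rid A P' P' (F.toFun' P' (xu e A'))
  -- Step 1
  have hφgen : ∀ (v : Fin r → Fin r ⊕ Fin r),
      Algebra.TensorProduct.map φ' (AlgHom.id A B) (gen P (fun j => MvPolynomial.X (v j)) e) =
        gen P' (fun j => MvPolynomial.X (v j)) e := by
    intro v
    rw [map_gen]
    congr 1
    funext j
    show MvPolynomial.mapAlgHom (Algebra.ofId A A') (MvPolynomial.X (v j)) = _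
    rw [MvPolynomial.mapAlgHom_apply, MvPolynomial.map_X]
  have hφxu : Algebra.TensorProduct.map φ' (AlgHom.id A B) (xu e A) = xu e A' := hφgen _
  have hφwu : Algebra.TensorProduct.map φ' (AlgHom.id A B) (wu e A) = wu e A' := hφgen _
  have hΦι : ∀ y : P ⊗[A] B, Algebra.TensorProduct.map Φ (AlgHom.id A B) (ι y) =
      ι' (Algebra.TensorProduct.map φ' (AlgHom.id A B) y) := by
    intro y
    simp only [ι, ι']
    rw [← AlgHom.comp_apply, ← AlgHom.comp_apply, ← Algebra.TensorProduct.map_comp,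
      ← Algebra.TensorProduct.map_comp]
    congr 2
    exact AlgHom.ext fun s => by simp [Φ]
  have hΦz : Algebra.TensorProduct.map Φ (AlgHom.id A B) z =
      ι' (xu e A') + (((X : P'[X]) ⊗ₜ[A] (1 : B)) * ι' (wu e A')) *
        Algebra.TensorProduct.map (IsScalarTower.toAlgHom A A' P'[X]) (AlgHom.id A B)
          ((1 : A') ⊗ₜ[A] b) := by
    simp only [z]
    rw [map_add, map_mul, map_mul, hΦι, hΦι, Algebra.TensorProduct.map_tmul,
      Algebra.TensorProduct.map_tmul, Algebra.TensorProduct.map_tmul, hφxu, hφwu]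
    simp [Φ]
  have hΦH : Φ H = C h' := by
    simp only [H, h']
    rw [← rid_map, ← compat, hΦz, hb P'[X] (ι' (xu e A')) _]
    simp only [ι']
    rw [compat, rid_map]
    rfl
  -- Step 2
  have hzero : ∀ k, 1 ≤ k → ∀ n, algebraMap A A' (MvPolynomial.coeff n (H.coeff k)) = 0 := by
    intro k hk n
    have h1 : (Φ H).coeff k = 0 := by
      rw [hΦH, coeff_C, if_neg (by omega)]
    have h2 : (Φ H).coeff k = φ' (H.coeff k) := by
      simp [Φ, Polynomial.coeff_map]
    rw [h2] at h1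
    have h3 := congrArg (MvPolynomial.coeff n) h1
    simp only [φ'] at h3
    rw [MvPolynomial.mapAlgHom_apply, MvPolynomial.coeff_map, MvPolynomial.coeff_zero] at h3
    exact h3
  -- Step 3
  obtain ⟨m, hm⟩ := exists_common_annihilator M
    ((H.support.filter (1 ≤ ·)).biUnion
      (fun k => (H.coeff k).support.image (fun n => MvPolynomial.coeff n (H.coeff k))))
    (by
      intro t ht
      simp only [Finset.mem_biUnion, Finset.mem_image, Finset.mem_filter] at ht
      obtain ⟨k, ⟨_, hk⟩, n, _, rfl⟩ := ht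
      exact (IsLocalization.map_eq_zero_iff M A' _).1 (hzero k hk n))
  have hmk : ∀ k, 1 ≤ k → (MvPolynomial.C (m : A) : P) * H.coeff k = 0 := by
    intro k hk
    ext n
    rw [MvPolynomial.coeff_C_mul, MvPolynomial.coeff_zero]
    by_cases hks : k ∈ H.support
    · by_cases hn : n ∈ (H.coeff k).support
      · apply hm
        simp only [Finset.mem_biUnion, Finset.mem_image, Finset.mem_filter]
        exact ⟨k, ⟨hks, hk⟩, n, hn, rfl⟩
      · rw [MvPolynomial.notMem_support_iff.1 hn, mul_zero]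
    · rw [Polynomial.notMem_support_iff.1 hks, MvPolynomial.coeff_zero, mul_zero]
  -- Step 4
  have heval : H.eval (MvPolynomial.C (m : A) : P) = H.eval 0 := by
    rw [Polynomial.eval_eq_sum_range, Polynomial.eval_eq_sum_range]
    refine Finset.sum_congr rfl fun k _ => ?_
    rcases Nat.eq_zero_or_pos k with rfl | hk
    · simp
    · obtain ⟨j, rfl⟩ : ∃ j, k = j + 1 := ⟨k - 1, by omega⟩
      have : H.coeff (j + 1) * (MvPolynomial.C (m : A) : P) ^ (j + 1) =
          ((MvPolynomial.C (m : A) : P) * H.coeff (j + 1)) * (MvPolynomial.C (m : A) : P) ^ j := by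
        ring
      rw [this, hmk (j + 1) (by omega), zero_mul, zero_pow (by omega), mul_zero]
  have hει : ∀ (c : P) (y : P ⊗[A] B), Algebra.TensorProduct.map (evl (A := A) c)
      (AlgHom.id A B) (ι y) = y := by
    intro c y
    simp only [ι]
    rw [← AlgHom.comp_apply, ← Algebra.TensorProduct.map_comp]
    have : (evl (A := A) c).comp (cst (A := A) P) = AlgHom.id A P :=
      AlgHom.ext fun s => by simp
    rw [this]
    simp
  have hz1 : Algebra.TensorProduct.map (evl (A := A) (MvPolynomial.C (m : A) : P)) (AlgHom.id A B) z =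
      xu e A + wu e A * ((1 : P) ⊗ₜ[A] ((m : A) • b)) := by
    simp only [z]
    rw [map_add, map_mul, map_mul, hει, hει, Algebra.TensorProduct.map_tmul,
      Algebra.TensorProduct.map_tmul]
    simp only [evl_apply, eval_X, map_one, AlgHom.coe_id, id_eq]
    have : ((MvPolynomial.C (m : A) : P) ⊗ₜ[A] (1 : B)) * ((1 : P) ⊗ₜ[A] b) =
        (1 : P) ⊗ₜ[A] ((m : A) • b) := by
      rw [Algebra.TensorProduct.tmul_mul_tmul, mul_one, one_mul, ← MvPolynomial.algebraMap_eq,
        Algebra.algebraMap_eq_smul_one, TensorProduct.smul_tmul]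
    rw [← this]
    ring
  have hz0 : Algebra.TensorProduct.map (evl (A := A) (0 : P)) (AlgHom.id A B) z = xu e A := by
    simp only [z]
    rw [map_add, map_mul, map_mul, hει, hει, Algebra.TensorProduct.map_tmul]
    simp
  refine ⟨m, mem_ker_of_univ e he F _ ?_⟩
  apply (Algebra.TensorProduct.rid A P P).injective
  rw [← hz1, compat, rid_map]
  conv_rhs => rw [← hz0, compat, rid_map]
  show evl (A := A) _ H = evl (A := A) _ H
  rw [evl_apply, evl_apply, heval]

include M in
theorem kerBC_eq [Module.Finite A B] (F : B →ₚₗ[A] A) :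
    (PolLaw.ker F).map (Algebra.TensorProduct.includeRight : B →ₐ[A] A' ⊗[A] B) =
      PolLaw.kerBC F A' := by
  apply le_antisymm (map_ker_le_kerBC F A')
  intro b' hb'
  obtain ⟨r, e, he⟩ := Module.Finite.exists_fin (R := A) (M := B)
  obtain ⟨m₁, b, hmb⟩ := exists_denominator M A' b'
  have hb : (1 : A') ⊗ₜ[A] b ∈ PolLaw.kerBC F A' := by
    rw [← hmb]
    exact Ideal.mul_mem_left _ _ hb'
  obtain ⟨m, hm⟩ := core M A' e he F b hb
  have hunit : IsUnit (((algebraMap A A' ((m * m₁ : M) : A)) ⊗ₜ[A] (1 : B)) : A' ⊗[A] B) := by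
    have := (IsLocalization.map_units A' (m * m₁)).map
      (Algebra.TensorProduct.includeLeft : A' →ₐ[A] A' ⊗[A] B)
    simpa using this
  rw [← Ideal.unit_mul_mem_iff_mem _ hunit]
  have : ((algebraMap A A' ((m * m₁ : M) : A)) ⊗ₜ[A] (1 : B)) * b' =
      (Algebra.TensorProduct.includeRight : B →ₐ[A] A' ⊗[A] B) ((m : A) • b) := by
    have e1 : ((algebraMap A A' ((m * m₁ : M) : A)) ⊗ₜ[A] (1 : B)) =
        ((algebraMap A A' m) ⊗ₜ[A] (1 : B)) * ((algebraMap A A' m₁) ⊗ₜ[A] (1 : B)) := by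
      rw [Algebra.TensorProduct.tmul_mul_tmul, one_mul, Submonoid.coe_mul, map_mul]
    rw [e1, mul_assoc, hmb, Algebra.TensorProduct.tmul_mul_tmul, one_mul, mul_one,
      Algebra.algebraMap_eq_smul_one, TensorProduct.smul_tmul]
    rfl
  rw [this]
  exact Ideal.mem_map_of_mem _ hm

end Groth.Agent.Helper4.KerLoc
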