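import Mathlib
import Groth.Prelude.Def_EtAcyc
import Groth.Agent.Helper4.EtGeom
import Groth.Agent.Helper4.SecLoc

set_option autoImplicit false

/-!
# The `L`-torsion part of an abelian étale sheaf as a filtered colimit of subsheaves killed by
`L`-integers
-/

universe u

open CategoryTheory CategoryTheory.Limits AlgebraicGeometry Opposite

namespace Groth.Agent.Helper4.LTors

variable (L : Set ℕ)

lemma primesIn_one : EtAcyc.PrimesIn L 1 :=
  ⟨Nat.one_pos, fun p hp hd => absurd (Nat.dvd_one.1 hd) hp.one_lt.ne'⟩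

variable {L} in
lemma primesIn_mul {a b : ℕ} (ha : EtAcyc.PrimesIn L a) (hb : EtAcyc.PrimesIn L b) :
    EtAcyc.PrimesIn L (a * b) :=
  ⟨Nat.mul_pos ha.1 hb.1, fun p hp hd =>
    (hp.dvd_mul.1 hd).elim (fun h => ha.2 p hp h) (fun h => hb.2 p hp h)⟩

/-- `L`-integers -/
structure Idx where
  val : ℕ
  mem : EtAcyc.PrimesIn L val

instance : Preorder (Idx L) where
  le a b := a.val ∣ b.val
  le_refl a := dvd_refl _
  le_trans a b c := dvd_trans

instance : Nonempty (Idx L) := ⟨⟨1, primesIn_one L⟩⟩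

instance : IsDirected (Idx L) (· ≤ ·) :=
  ⟨fun a b => ⟨⟨a.val * b.val, primesIn_mul a.mem b.mem⟩, Dvd.intro _ rfl, Dvd.intro_left _ rfl⟩⟩

instance : IsFiltered (Idx L) := isFiltered_of_directed_le_nonempty _

instance : IsFiltered (AsSmall.{u + 1} (Idx L)) :=
  IsFiltered.of_equivalence (AsSmall.equiv : Idx L ≌ AsSmall.{u + 1} (Idx L))

variable {X : Scheme.{u}} (F : EtCoh.Ab X)

/-- the subsheaf killed by `a` -/
noncomputable abbrev K (a : Idx L) : EtCoh.Ab X := kernel (a.val • 𝟙 F)

/-- the inclusion -/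
noncomputable abbrev ι (a : Idx L) : K L F a ⟶ F := kernel.ι _

lemma ι_mul (a : Idx L) (k : ℕ) (h : a.val ∣ k) : ι L F a ≫ (k • 𝟙 F) = 0 := by
  obtain ⟨b, rfl⟩ := h
  have h0 : ι L F a ≫ (a.val • 𝟙 F) = 0 := kernel.condition _
  rw [mul_comm, mul_smul, Preadditive.comp_nsmul, h0, smul_zero]

lemma K_killed (a : Idx L) : a.val • 𝟙 (K L F a) = 0 := by
  apply (cancel_mono (ι L F a)).1
  rw [Preadditive.nsmul_comp, Category.id_comp, zero_comp]
  have h0 : ι L F a ≫ (a.val • 𝟙 F) = 0 := kernel.condition _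
  rw [Preadditive.comp_nsmul, Category.comp_id] at h0
  exact h0

/-- the diagram of the subsheaves killed by `L`-integers -/
noncomputable def D₀ : Idx L ⥤ EtCoh.Ab X where
  obj a := K L F a
  map {a b} h := kernel.lift _ (ι L F a) (ι_mul L F a b.val (leOfHom h))
  map_id a := by
    apply (cancel_mono (kernel.ι _)).1
    rw [kernel.lift_ι, Category.id_comp]
  map_comp f g := by
    apply (cancel_mono (kernel.ι _)).1
    rw [kernel.lift_ι, Category.assoc, kernel.lift_ι]
    exact (kernel.lift_ι _ _ _).symm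

lemma D₀_map_ι {a b : Idx L} (h : a ⟶ b) : (D₀ L F).map h ≫ ι L F b = ι L F a :=
  kernel.lift_ι _ _ _

/-- the diagram over a small filtered category in the universe of the sheaf category -/
noncomputable abbrev D : AsSmall.{u + 1} (Idx L) ⥤ EtCoh.Ab X := AsSmall.down ⋙ D₀ L F

/-- the cocone of inclusions -/
noncomputable def c : Cocone (D L F) where
  pt := F
  ι := { app := fun l => ι L F (AsSmall.down.obj l)
         naturality := fun l l' a => by
           dsimp
           rw [Category.comp_id]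
           exact D₀_map_ι L F _ }

/-- the `L`-torsion part -/
noncomputable abbrev T : EtCoh.Ab X := colimit (D L F)

/-- the comparison morphism from the colimit -/
noncomputable def φ : T L F ⟶ F := colimit.desc (D L F) (c L F)

lemma ι_φ (l : AsSmall.{u + 1} (Idx L)) :
    colimit.ι (D L F) l ≫ φ L F = ι L F (AsSmall.down.obj l) :=
  colimit.ι_desc _ _

attribute [local instance] IsFiltered.isConnected in
instance : Mono (φ L F) := by
  haveI : ∀ l, Mono ((c L F).ι.app l) := fun l => by
    show Mono (ι L F (AsSmall.down.obj l))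
    infer_instance
  haveI : Mono (c L F).ι := NatTrans.mono_of_mono_app _
  exact colim.map_mono' (c L F).ι (colimit.isColimit (D L F))
    (isColimitConstCocone (AsSmall.{u + 1} (Idx L)) F) (φ L F) (fun l =>
      (ι_φ L F l).trans (Category.comp_id _).symm)

/-- sections of `K F a` are the sections of `F` killed by `a` -/
lemma exists_section (a : Idx L) (V : X.Etale) (t : F.obj.obj (op V)) (ht : a.val • t = 0) :
    ∃ t' : (K L F a).obj.obj (op V), (ι L F a).hom.app (op V) t' = t := by
  let Φ : EtCoh.Ab X ⥤ AddCommGrpCat.{u + 1} :=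
    sheafToPresheaf X.smallEtaleTopology AddCommGrpCat.{u + 1} ⋙ (evaluation _ _).obj (op V)
  haveI : PreservesFiniteLimits (sheafToPresheaf X.smallEtaleTopology AddCommGrpCat.{u + 1}) :=
    ⟨fun K _ _ => (sheafificationAdjunction X.smallEtaleTopology
      AddCommGrpCat.{u + 1}).rightAdjoint_preservesLimits.1⟩
  haveI : PreservesFiniteLimits Φ := by
    dsimp only [Φ]
    infer_instance
  haveI : Φ.Additive := by
    dsimp only [Φ]
    infer_instance
  let S : ShortComplex (EtCoh.Ab X) :=
    ShortComplex.mk (ι L F a) (a.val • 𝟙 F) (kernel.condition _)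
  have hS : S.Exact := ShortComplex.exact_of_f_is_kernel _ (kernelIsKernel _)
  have hS' : (S.map Φ).Exact :=
    hS.map_of_mono_of_preservesKernel Φ (by dsimp [S]; infer_instance) inferInstance
  rw [ShortComplex.ab_exact_iff] at hS'
  apply hS' t
  show (Φ.map (a.val • 𝟙 F)) t = 0
  rw [Functor.map_nsmul, CategoryTheory.Functor.map_id]
  exact ht

/-- sections of `K F a` are killed by `a` -/
lemma K_section_killed (a : Idx L) (V : X.Etale) (t : (K L F a).obj.obj (op V)) :
    a.val • t = 0 := by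
  let Φ : EtCoh.Ab X ⥤ AddCommGrpCat.{u + 1} :=
    sheafToPresheaf X.smallEtaleTopology AddCommGrpCat.{u + 1} ⋙ (evaluation _ _).obj (op V)
  haveI : Φ.Additive := by
    dsimp only [Φ]
    infer_instance
  have h : Φ.map (a.val • 𝟙 (K L F a)) = 0 := by rw [K_killed, Functor.map_zero]
  rw [Functor.map_nsmul, CategoryTheory.Functor.map_id] at h
  have h2 : (a.val • 𝟙 (Φ.obj (K L F a))) t = (0 : Φ.obj (K L F a) ⟶ Φ.obj (K L F a)) t := by
    rw [h]
  simpa using h2

/-- the comparison morphism is an epimorphism for `L`-torsion sheaves -/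
lemma epi_φ (hF : EtAcyc.IsLTorsion L F) : Epi (φ L F) := by
  haveI : Sheaf.IsLocallySurjective (φ L F) := by
    constructor
    intro U s
    rw [Groth.Agent.Helper4.EtGeom.mem_iff]
    intro x
    obtain ⟨V, g, m, ⟨v, hv⟩, hm, hms⟩ := hF U s x
    refine ⟨V, g, v, ?_, hv⟩
    obtain ⟨t', ht'⟩ := exists_section L F ⟨m, hm⟩ V _ hms
    refine ⟨(colimit.ι (D L F) (AsSmall.up.obj ⟨m, hm⟩)).hom.app (op V) t', ?_⟩
    have h1 : (colimit.ι (D L F) (AsSmall.up.obj ⟨m, hm⟩)).hom ≫ (φ L F).hom =
        (ι L F ⟨m, hm⟩).hom := by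
      rw [← ObjectProperty.FullSubcategory.comp_hom, ι_φ]
      rfl
    rw [← ConcreteCategory.comp_apply, ← NatTrans.comp_app, h1]
    exact ht'
  infer_instance

lemma isIso_φ (hF : EtAcyc.IsLTorsion L F) : IsIso (φ L F) := by
  haveI := epi_φ L F hF
  exact isIso_of_mono_of_epi _

/-- the `L`-torsion part is `L`-torsion -/
lemma isLTorsion_T : EtAcyc.IsLTorsion L (T L F) := by
  intro U s x
  obtain ⟨S, hS, hS'⟩ := Groth.Agent.Helper4.SecLoc.loc_surj (D L F) (colimit.isColimit (D L F)) s
  obtain ⟨V, g, v, hg, hv⟩ := (Groth.Agent.Helper4.EtGeom.mem_iff U S).1 hS x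
  obtain ⟨l, y, hy⟩ := hS' g hg
  refine ⟨V, g, (AsSmall.down.obj l).val, ⟨v, hv⟩, (AsSmall.down.obj l).mem, ?_⟩
  have hy' : (colimit.ι (D L F) l).hom.app (op V) y = (T L F).obj.map g.op s := hy
  rw [← hy', ← map_nsmul]
  have : (AsSmall.down.obj l).val • y = 0 := K_section_killed L F (AsSmall.down.obj l) V y
  rw [this, map_zero]

end Groth.Agent.Helper4.LTors
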