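import Mathlib
import Groth.Agent.Helper4.LTorsA
import Groth.Agent.Helper4.EtPushAcyc
import Groth.Agent.Helper9.LTorsCompact

set_option autoImplicit false

/-!
# Functoriality of the `L`-torsion part; stability of `L`-torsion sheaves under quotients and
direct images along quasi-compact morphisms
-/

universe u

open CategoryTheory CategoryTheory.Limits AlgebraicGeometry Opposite

namespace Groth.Agent.Helper4.LTors

variable (L : Set ℕ) {X : Scheme.{u}}

section Functoriality

variable {F G : EtCoh.Ab X} (g : F ⟶ G)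

/-- the induced map on the subsheaves killed by `a` -/
noncomputable def kmap (a : Idx L) : K L F a ⟶ K L G a :=
  kernel.lift _ (ι L F a ≫ g) (by
    have h0 : ι L F a ≫ (a.val • 𝟙 F) = 0 := kernel.condition _
    rw [Category.assoc, Preadditive.comp_nsmul, Category.comp_id, ← Category.id_comp g,
      ← Preadditive.nsmul_comp, ← Category.assoc, h0, zero_comp])

lemma kmap_ι (a : Idx L) : kmap L g a ≫ ι L G a = ι L F a ≫ g := kernel.lift_ι _ _ _

lemma kmap_nat {a b : Idx L} (h : a ⟶ b) :
    (D₀ L F).map h ≫ kmap L g b = kmap L g a ≫ (D₀ L G).map h := by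
  apply (cancel_mono (ι L G b)).1
  have e1 : ((D₀ L F).map h ≫ kmap L g b) ≫ ι L G b = ι L F a ≫ g :=
    (Category.assoc _ _ _).trans ((congrArg (fun z => (D₀ L F).map h ≫ z) (kmap_ι L g b)).trans
      ((Category.assoc _ _ _).symm.trans (congrArg (fun z => z ≫ g) (D₀_map_ι L F h))))
  have e2 : (kmap L g a ≫ (D₀ L G).map h) ≫ ι L G b = ι L F a ≫ g :=
    (Category.assoc _ _ _).trans ((congrArg (fun z => kmap L g a ≫ z) (D₀_map_ι L G h)).trans
      (kmap_ι L g a))
  exact e1.trans e2.symm

/-- the induced map on `L`-torsion parts -/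
noncomputable def Tmap : T L F ⟶ T L G :=
  colimit.desc (D L F)
    { pt := T L G
      ι := { app := fun l => kmap L g (AsSmall.down.obj l) ≫ colimit.ι (D L G) l
             naturality := fun l l' a => by
               have e1 : (D L F).map a ≫ kmap L g (AsSmall.down.obj l') ≫ colimit.ι (D L G) l' =
                   kmap L g (AsSmall.down.obj l) ≫ colimit.ι (D L G) l :=
                 (Category.assoc _ _ _).symm.trans
                   ((congrArg (fun z => z ≫ colimit.ι (D L G) l')
                     (kmap_nat L g (AsSmall.down.map a))).trans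
                   ((Category.assoc _ _ _).trans
                     (congrArg (fun z => kmap L g (AsSmall.down.obj l) ≫ z)
                       (colimit.w (D L G) a))))
               exact e1.trans (Category.comp_id _).symm } }

lemma ι_Tmap (l : AsSmall.{u + 1} (Idx L)) :
    colimit.ι (D L F) l ≫ Tmap L g = kmap L g (AsSmall.down.obj l) ≫ colimit.ι (D L G) l :=
  colimit.ι_desc _ _

lemma Tmap_φ : Tmap L g ≫ φ L G = φ L F ≫ g := by
  apply colimit.hom_ext
  intro l
  have e1 : colimit.ι (D L F) l ≫ Tmap L g ≫ φ L G = ι L F (AsSmall.down.obj l) ≫ g :=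
    (Category.assoc _ _ _).symm.trans
      ((congrArg (fun z => z ≫ φ L G) (ι_Tmap L g l)).trans
        ((Category.assoc _ _ _).trans
          ((congrArg (fun z => kmap L g (AsSmall.down.obj l) ≫ z) (ι_φ L G l)).trans
            (kmap_ι L g (AsSmall.down.obj l)))))
  have e2 : colimit.ι (D L F) l ≫ φ L F ≫ g = ι L F (AsSmall.down.obj l) ≫ g :=
    (Category.assoc _ _ _).symm.trans (congrArg (fun z => z ≫ g) (ι_φ L F l))
  exact e1.trans e2.symm

end Functoriality

/-- an `L`-torsion sheaf embeds into the `L`-torsion part of an injective sheaf -/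
noncomputable def hull (F : EtCoh.Ab X) (hF : EtAcyc.IsLTorsion L F) :
    F ⟶ T L (Injective.under F) :=
  haveI := isIso_φ L F hF
  inv (φ L F) ≫ Tmap L (Injective.ι F)

lemma hull_φ (F : EtCoh.Ab X) (hF : EtAcyc.IsLTorsion L F) :
    hull L F hF ≫ φ L (Injective.under F) = Injective.ι F := by
  haveI := isIso_φ L F hF
  unfold hull
  rw [Category.assoc, Tmap_φ, IsIso.inv_hom_id_assoc]

instance (F : EtCoh.Ab X) (hF : EtAcyc.IsLTorsion L F) : Mono (hull L F hF) := by
  haveI : Mono (hull L F hF ≫ φ L (Injective.under F)) := by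
    rw [hull_φ]
    infer_instance
  exact mono_of_mono (hull L F hF) (φ L (Injective.under F))

variable {L}

/-- quotients of `L`-torsion sheaves are `L`-torsion -/
lemma isLTorsion_of_epi {F G : EtCoh.Ab X} (p : F ⟶ G) [Epi p] (hF : EtAcyc.IsLTorsion L F) :
    EtAcyc.IsLTorsion L G := by
  haveI : Sheaf.IsLocallySurjective p :=
    (Sheaf.isLocallySurjective_iff_epi' (φ := p)).2 inferInstance
  intro U s x
  obtain ⟨V, g, v, ⟨t, ht⟩, hv⟩ := (Groth.Agent.Helper4.EtGeom.mem_iff U _).1
    (Presheaf.imageSieve_mem X.smallEtaleTopology p.hom s) x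
  obtain ⟨V', g', m, ⟨v', hv'⟩, hm, hmt⟩ := hF V t v
  refine ⟨V', g' ≫ g, m, ⟨v', ?_⟩, hm, ?_⟩
  · show (g'.left ≫ g.left).base v' = x
    rw [Scheme.Hom.comp_base, TopCat.comp_app, hv']
    exact hv
  · have h1 : G.obj.map (g' ≫ g).op s = G.obj.map g'.op (G.obj.map g.op s) := by
      rw [op_comp, G.obj.map_comp, ConcreteCategory.comp_apply]
    have ht' : p.hom.app (op V) t = G.obj.map g.op s := ht
    rw [h1, ← ht', ← NatTrans.naturality_apply, ← map_nsmul, hmt, map_zero]

lemma isLTorsion_of_iso {F G : EtCoh.Ab X} (e : F ≅ G) (hF : EtAcyc.IsLTorsion L F) :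
    EtAcyc.IsLTorsion L G :=
  isLTorsion_of_epi e.hom hF

/-- the direct image of an `L`-torsion sheaf along a qcqs morphism is `L`-torsion -/
lemma isLTorsion_push {Y : Scheme.{u}} (f : X ⟶ Y) [QuasiCompact f] [QuasiSeparated f]
    (F : EtCoh.Ab X) (hF : EtAcyc.IsLTorsion L F) :
    EtAcyc.IsLTorsion L ((EtCoh.push f).obj F) := by
  intro U s y
  obtain ⟨A, hA, hyA, -⟩ := TopologicalSpace.Opens.isBasis_iff_nbhd.mp
    U.left.isBasis_affineOpens (show y ∈ (⊤ : U.left.Opens) from trivial)
  haveI : IsAffine (EtPushAcyc.openObj U A).left := hA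
  haveI : CompactSpace ((EtCoh.bc f).obj (EtPushAcyc.openObj U A)).left :=
    (EtPushAcyc.qcqs_bc f (EtPushAcyc.openObj U A)).1
  obtain ⟨m, hm, hms⟩ := Groth.Agent.Helper9.LTorsCompact.main L F hF
    ((EtCoh.bc f).obj (EtPushAcyc.openObj U A))
    (F.obj.map ((EtCoh.bc f).map (EtPushAcyc.openMap U A)).op s)
  exact ⟨EtPushAcyc.openObj U A, EtPushAcyc.openMap U A, m, ⟨⟨y, hyA⟩, rfl⟩, hm, hms⟩

end Groth.Agent.Helper4.LTors
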