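import Mathlib
import Groth.Agent.Helper4.LTorsB
import Groth.Agent.Helper4.EtCartan
import Groth.Agent.Helper4.CechGenD
import Groth.Agent.Helper4.InjDiv

set_option autoImplicit false

/-!
# The `L`-torsion part of an injective abelian étale sheaf is Čech-acyclic
-/

universe u

open CategoryTheory CategoryTheory.Limits AlgebraicGeometry Opposite

namespace Groth.Agent.Helper4.LTors

open Groth.Agent.Helper4.EtCartan Groth.Agent.Helper4.CechGenC

variable (L : Set ℕ) {X : Scheme.{u}} (I : EtCoh.Ab X)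

lemma nsmul_app (n : ℕ) (V : X.Etale) (t : I.obj.obj (op V)) :
    (n • 𝟙 I : I ⟶ I).hom.app (op V) t = n • t := by
  let Φ : EtCoh.Ab X ⥤ AddCommGrpCat.{u + 1} :=
    sheafToPresheaf X.smallEtaleTopology AddCommGrpCat.{u + 1} ⋙ (evaluation _ _).obj (op V)
  haveI : Φ.Additive := by
    dsimp only [Φ]
    infer_instance
  have h : Φ.map (n • 𝟙 I) = n • 𝟙 (Φ.obj I) := by
    rw [Functor.map_nsmul, CategoryTheory.Functor.map_id]
  have h2 : (Φ.map (n • 𝟙 I)) t = (n • 𝟙 (Φ.obj I)) t := by rw [h]
  exact h2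

variable [Injective I]

lemma divisible_sections (V : X.Etale) (t : I.obj.obj (op V)) (n : ℕ) (hn : 0 < n) :
    ∃ t' : I.obj.obj (op V), n • t' = t := by
  haveI : (presheafToSheaf X.smallEtaleTopology AddCommGrpCat.{u + 1}).PreservesMonomorphisms :=
    inferInstance
  haveI : Injective I.obj :=
    Injective.injective_of_adjoint (sheafificationAdjunction X.smallEtaleTopology
      AddCommGrpCat.{u + 1}) I
  exact Groth.Agent.Helper4.InjDiv.divisible.{u + 1, u, u + 1} I.obj V t n hn

lemma surj_nsmul (n : ℕ) (hn : 0 < n) (V : X.Etale) :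
    Function.Surjective ((n • 𝟙 I : I ⟶ I).hom.app (op V)) := by
  intro t
  obtain ⟨t', ht'⟩ := divisible_sections I V t n hn
  exact ⟨t', (nsmul_app I n V t').trans ht'⟩

lemma epi_nsmul (n : ℕ) (hn : 0 < n) : Epi (n • 𝟙 I : I ⟶ I) := by
  haveI : Sheaf.IsLocallySurjective (n • 𝟙 I : I ⟶ I) :=
    Presheaf.isLocallySurjective_of_surjective _ _ (fun U => surj_nsmul I n hn U.unop)
  exact (Sheaf.isLocallySurjective_iff_epi' (φ := (n • 𝟙 I : I ⟶ I))).1 inferInstance

/-- the subsheaf of an injective sheaf killed by an `L`-integer is Čech-acyclic -/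
lemma acyc_K (a : Idx L) : CechAcyc (Cov X) (K L I a) := by
  let S : ShortComplex (EtCoh.Ab X) :=
    ShortComplex.mk (ι L I a) (a.val • 𝟙 I) (kernel.condition _)
  have hS : S.ShortExact :=
    { exact := ShortComplex.exact_of_f_is_kernel _ (kernelIsKernel _)
      mono_f := inferInstanceAs (Mono (kernel.ι _))
      epi_g := epi_nsmul I a.val a.mem.1 }
  exact Groth.Agent.Helper4.CechGenD.acyc_X₁ (B X) (Cov X) h1 S hS
    (fun V _ => surj_nsmul I a.val a.mem.1 V) (acyc_injective I) (acyc_injective I)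

/-- the `L`-torsion part of an injective sheaf is Čech-acyclic -/
lemma acyc_T : CechAcyc (Cov X) (T L I) :=
  acyc_colimit (D L I) (colimit.isColimit (D L I)) (fun l => acyc_K L I (AsSmall.down.obj l))

end Groth.Agent.Helper4.LTors
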