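import Mathlib
import Groth.Agent.Helper4.LTorsC
import Groth.Agent.Helper4.EtPushAcyc
import Groth.Agent.Helper1.Horseshoe

set_option autoImplicit false

/-!
# Higher direct images of `L`-torsion sheaves along qcqs morphisms are `L`-torsion
-/

universe u

open CategoryTheory CategoryTheory.Limits AlgebraicGeometry Opposite

namespace Groth.Agent.Helper4.LTors

variable {X Y : Scheme.{u}} (f : X ⟶ Y) [QuasiCompact f] [QuasiSeparated f] (L : Set ℕ)

theorem isLTorsion_Rpush (n : ℕ) : ∀ (F : EtCoh.Ab X), EtAcyc.IsLTorsion L F →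
    EtAcyc.IsLTorsion L ((EtCoh.Rpush f n).obj F) := by
  induction n with
  | zero =>
    intro F hF
    haveI : PreservesFiniteLimits (EtCoh.push f) :=
      ⟨fun K _ _ => (EtCoh.pullPushAdj f).rightAdjoint_preservesLimits.1⟩
    exact isLTorsion_of_iso ((EtCoh.push f).rightDerivedZeroIsoSelf.app F).symm
      (isLTorsion_push f F hF)
  | succ n ih =>
    intro F hF
    let S : ShortComplex (EtCoh.Ab X) :=
      ShortComplex.mk (hull L F hF) (cokernel.π (hull L F hF)) (cokernel.condition _)
    have hS : S.ShortExact :=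
      { exact := ShortComplex.exact_of_g_is_cokernel _ (cokernelIsCokernel _)
        mono_f := inferInstanceAs (Mono (hull L F hF))
        epi_g := inferInstanceAs (Epi (cokernel.π (hull L F hF))) }
    have hQ : EtAcyc.IsLTorsion L S.X₃ :=
      isLTorsion_of_epi (cokernel.π (hull L F hF)) (isLTorsion_T L (Injective.under F))
    obtain ⟨δ, w₁, w₂, -, hex⟩ :=
      Groth.Agent.Helper1.Horseshoe.hasLES_rightDerived (F := EtCoh.push f) S hS n
    have hz : IsZero ((EtCoh.Rpush f (n + 1)).obj (T L (Injective.under F))) :=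
      Groth.Agent.Helper4.EtPushAcyc.isZero_Rpush f (T L (Injective.under F))
        (acyc_T L (Injective.under F)) (n + 1) (Nat.succ_pos n)
    haveI : Epi δ := hex.epi_f (hz.eq_of_tgt _ _)
    exact isLTorsion_of_epi δ (ih _ hQ)

end Groth.Agent.Helper4.LTors
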