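import Groth.Agent.Helper4.LamModel2
import Mathlib

set_option autoImplicit false

/-! # γ-operations modulo `J^(m+1)` in the split model, and the constant `c_{j,m}` -/

namespace Groth.Agent.Helper4.LamModel

open LambdaRing MvPolynomial Finset

/-- `c_{j,m} = Σ_{k=1}^{j} C(j-1,k-1) (-1)^(k-1) k^(m-1)`. -/
def cZ (j m : ℕ) : ℤ :=
  ∑ k ∈ range (j + 1), ((j - 1).choose (k - 1) : ℤ) *
    (if k = 0 then 0 else (-1) ^ (k - 1) * (k : ℤ) ^ (m - 1))

theorem cZ_self (m : ℕ) (hm : 1 ≤ m) : cZ m m = (-1) ^ (m - 1) * ((m - 1).factorial : ℤ) := by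
  obtain ⟨n, rfl⟩ : ∃ n, m = n + 1 := ⟨m - 1, by omega⟩
  unfold cZ
  rw [Finset.sum_range_succ', Nat.add_sub_cancel]
  simp only [if_true, mul_zero, add_zero]
  have h1 := congrFun (fwdDiff_iter_eq_factorial (R := ℤ) (n := n)) 1
  rw [fwdDiff_iter_eq_sum_shift] at h1
  have h2 : ∑ k ∈ range (n + 1), ((n.choose (k + 1 - 1) : ℕ) : ℤ) *
      (if k + 1 = 0 then 0 else (-1) ^ (k + 1 - 1) * ((k + 1 : ℕ) : ℤ) ^ n) =
      (-1) ^ n * ∑ k ∈ range (n + 1), ((-1 : ℤ) ^ (n - k) * n.choose k) • ((1 : ℤ) + k • 1) ^ n := by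
    rw [Finset.mul_sum]
    apply Finset.sum_congr rfl
    intro k hk
    rw [Finset.mem_range] at hk
    rw [if_neg (by omega), Nat.add_sub_cancel]
    have e : (-1 : ℤ) ^ k = (-1) ^ n * (-1) ^ (n - k) := by
      rw [← pow_add]
      have : n + (n - k) = k + 2 * (n - k) := by omega
      rw [this, pow_add, pow_mul]; simp
    rw [e]
    simp only [smul_eq_mul, nsmul_eq_mul, mul_one]
    push_cast
    ring
  rw [h2, h1]
  simp

variable (ι : Type)

attribute [local instance] ops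

/-- `γ^j z ≡ c_{j,m} z` modulo `J^(m+1)` for `z ∈ J^m`, `m, j ≥ 1`. -/
theorem gamma_sub_mem (m : ℕ) (hm : 1 ≤ m) {z : MvPolynomial ι ℚ} (hz : z ∈ J ι ^ m) (j : ℕ)
    (hj : 1 ≤ j) :
    gamma j z - ((cZ j m : ℤ) : ℚ) • z ∈ J ι ^ (m + 1) := by
  unfold gamma cZ
  rw [if_neg (by omega)]
  push_cast
  rw [Finset.sum_smul, ← Finset.sum_sub_distrib]
  apply Ideal.sum_mem
  intro k hk
  rcases k with _ | k
  · simp
  · rw [if_neg (by omega), if_neg (by omega), Nat.add_sub_cancel]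
    have h := lam_sub_mem ι m hm hz k
    have e : ((((j - 1).choose k : ℕ) : ℚ) * ((-1) ^ k * ((k + 1 : ℕ) : ℚ) ^ (m - 1))) • z =
        (((j - 1).choose k : ℕ) : MvPolynomial ι ℚ) * (((-1 : ℚ) ^ k * ((k : ℚ) + 1) ^ (m - 1)) • z) := by
      rw [mul_smul]
      push_cast
      rw [Nat.cast_smul_eq_nsmul, nsmul_eq_mul]
    rw [e, ← mul_sub]
    exact Ideal.mul_mem_left _ _ h

theorem gamma_mem (m : ℕ) (hm : 1 ≤ m) {z : MvPolynomial ι ℚ} (hz : z ∈ J ι ^ m) (j : ℕ)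
    (hj : 1 ≤ j) : gamma j z ∈ J ι ^ m := by
  have h1 := Ideal.pow_le_pow_right (Nat.le_succ m) (gamma_sub_mem ι m hm hz j hj)
  have h2 : ((cZ j m : ℤ) : ℚ) • z ∈ J ι ^ m := Submodule.smul_of_tower_mem _ _ hz
  have := add_mem h1 h2
  simpa using this

end Groth.Agent.Helper4.LamModel
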