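import Groth.Agent.Helper4.BinomSpecial
import Mathlib

set_option autoImplicit false

/-!
# Binomial extension: an integer polynomial identity in the binomial coefficients `C(M, n)` valid
for all natural `M` holds for the elements `C(κ, n)` of any binomial ring.
-/

namespace Groth.Agent.Helper4.LamBE

open Polynomial TensorProduct

theorem aeval_descPochhammer (K' : Type*) [CommRing K'] [Algebra ℚ K'] [BinomialRing K'] (κ : K')
    (n : ℕ) :
    Polynomial.aeval κ (descPochhammer ℚ n) = (n.factorial : K') * Ring.choose κ n := by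
  have h := Ring.descPochhammer_eq_factorial_smul_choose κ n
  rw [nsmul_eq_mul] at h
  rw [← h, ← Polynomial.aeval_eq_smeval, Polynomial.aeval_def, Polynomial.aeval_def,
    ← Polynomial.eval_map, ← Polynomial.eval_map, descPochhammer_map, descPochhammer_map]

/-- the polynomial `C(T, n) ∈ ℚ[T]` -/
noncomputable def chooseT (n : ℕ) : ℚ[X] := C (1 / (n.factorial : ℚ)) * descPochhammer ℚ n

/-- substitution `X_n ↦ C(T, n)` -/
noncomputable def phiQ : MvPolynomial ℕ ℤ →+* ℚ[X] :=
  MvPolynomial.eval₂Hom (Int.castRingHom ℚ[X]) chooseT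

theorem eval_phiQ (M : ℕ) (g : MvPolynomial ℕ ℤ) :
    (phiQ g).eval (M : ℚ) = ((MvPolynomial.eval (fun n => (M.choose n : ℤ)) g : ℤ) : ℚ) := by
  have : (Polynomial.evalRingHom (M : ℚ)).comp phiQ =
      (Int.castRingHom ℚ).comp (MvPolynomial.eval (fun n => (M.choose n : ℤ))) := by
    apply MvPolynomial.ringHom_ext
    · intro a
      simp [phiQ]
    · intro n
      simp only [phiQ, RingHom.comp_apply, MvPolynomial.coe_eval₂Hom, MvPolynomial.eval₂_X,
        chooseT, Polynomial.coe_evalRingHom, Polynomial.eval_mul, Polynomial.eval_C,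
        MvPolynomial.eval_X, eq_intCast, Int.cast_natCast]
      rw [descPochhammer_eval_eq_descFactorial, Nat.descFactorial_eq_factorial_mul_choose]
      push_cast
      have : (n.factorial : ℚ) ≠ 0 := by positivity
      field_simp
  exact RingHom.congr_fun this g

theorem phiQ_eq_zero (g : MvPolynomial ℕ ℤ)
    (hg : ∀ M : ℕ, MvPolynomial.eval (fun n => (M.choose n : ℤ)) g = 0) : phiQ g = 0 := by
  apply Polynomial.eq_zero_of_infinite_isRoot
  apply Set.Infinite.mono (s := Set.range (Nat.cast : ℕ → ℚ))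
  · rintro _ ⟨M, rfl⟩
    change (phiQ g).eval (M : ℚ) = 0
    rw [eval_phiQ, hg M, Int.cast_zero]
  · exact Set.infinite_range_of_injective Nat.cast_injective

theorem aeval_phiQ (K' : Type*) [CommRing K'] [Algebra ℚ K'] [BinomialRing K'] (κ : K')
    (g : MvPolynomial ℕ ℤ) :
    Polynomial.aeval κ (phiQ g) =
      MvPolynomial.eval₂ (Int.castRingHom K') (fun n => Ring.choose κ n) g := by
  have : ((Polynomial.aeval κ : ℚ[X] →ₐ[ℚ] K') : ℚ[X] →+* K').comp phiQ =
      MvPolynomial.eval₂Hom (Int.castRingHom K') (fun n => Ring.choose κ n) := by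
    apply MvPolynomial.ringHom_ext
    · intro a
      simp [phiQ]
    · intro n
      simp only [phiQ, RingHom.comp_apply, MvPolynomial.coe_eval₂Hom, MvPolynomial.eval₂_X,
        chooseT, RingHom.coe_coe, map_mul, Polynomial.aeval_C]
      rw [aeval_descPochhammer, ← mul_assoc]
      have : (algebraMap ℚ K') (1 / (n.factorial : ℚ)) * (n.factorial : K') = 1 := by
        have h : (n.factorial : K') = algebraMap ℚ K' (n.factorial : ℚ) := by simp
        rw [h, ← map_mul, one_div, inv_mul_cancel₀ (by positivity), map_one]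
      rw [this, one_mul]
  exact RingHom.congr_fun this g

/-- Binomial extension. -/
theorem BE (K : Type*) [CommRing K] [BinomialRing K] (g : MvPolynomial ℕ ℤ)
    (hg : ∀ M : ℕ, MvPolynomial.eval (fun n => (M.choose n : ℤ)) g = 0) (κ : K) :
    MvPolynomial.eval₂ (Int.castRingHom K) (fun n => Ring.choose κ n) g = 0 := by
  let K' := ℚ ⊗[ℤ] K
  letI : BinomialRing K' := BinomSpecial.binomialRingOfRat K'
  let ι : K →+* K' := (Algebra.TensorProduct.includeRight : K →ₐ[ℤ] ℚ ⊗[ℤ] K)
  have hflat : Module.Flat ℤ K := by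
    rw [IsDedekindDomain.flat_iff_torsion_eq_bot]
    rw [Submodule.eq_bot_iff]
    intro x hx
    rw [Submodule.mem_torsion_iff] at hx
    obtain ⟨a, ha⟩ := hx
    have ha0 : (a : ℤ) ≠ 0 := nonZeroDivisors.coe_ne_zero a
    have := BinomialRing.toIsAddTorsionFree (R := K)
    exact (smul_eq_zero_iff_right ha0).mp ha
  have hι : Function.Injective ι :=
    Algebra.TensorProduct.includeRight_injective (R := ℤ) (A := ℚ) (B := K)
      (RingHom.injective_int (algebraMap ℤ ℚ))
  apply hι
  rw [map_zero, MvPolynomial.eval₂_comp_left ι]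
  have h2 : (ι ∘ fun n => Ring.choose κ n) = fun n => Ring.choose (ι κ) n := by
    funext n
    exact Ring.map_choose ι κ n
  have h3 : ι.comp (Int.castRingHom K) = Int.castRingHom K' := RingHom.ext_int _ _
  rw [h2, h3, ← aeval_phiQ K' (ι κ) g, phiQ_eq_zero g hg, map_zero]

end Groth.Agent.Helper4.LamBE
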