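import Groth.Agent.Helper4.LamTerm
import Groth.Agent.Helper4.LamED
import Groth.Agent.Helper4.LamBE
import Groth.Agent.Helper4.SymPoly2
import Mathlib

set_option autoImplicit false

/-!
# Transfer from the split model to arbitrary augmented λ-algebras over a binomial ring
-/

namespace Groth.Agent.Helper4.LamTransfer

open MvPolynomial LamTerm

section General

variable {σ τ R M : Type*} [CommRing R] [AddCommMonoid M]

/-- weighted homogeneous components commute with substitution of weighted homogeneous polynomials -/
theorem whc_aeval [DecidableEq M] (w : σ → M) (v : τ → M) (e : σ → MvPolynomial τ R)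
    (he : ∀ k, IsWeightedHomogeneous v (e k) (w k)) (Q₀ : MvPolynomial σ R) (m : M) :
    weightedHomogeneousComponent v m (aeval e Q₀) =
      aeval e (weightedHomogeneousComponent w m Q₀) := by
  classical
  have hfin := weightedHomogeneousComponent_finsupp (w := w) Q₀
  have hsum : Q₀ = ∑ m' ∈ hfin.toFinset, weightedHomogeneousComponent w m' Q₀ := by
    conv_lhs => rw [← sum_weightedHomogeneousComponent w Q₀]
    rw [finsum_eq_sum _ hfin]
  have h2 : aeval e Q₀ = ∑ m' ∈ hfin.toFinset, aeval e (weightedHomogeneousComponent w m' Q₀) := by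
    conv_lhs => rw [hsum]
    rw [map_sum]
  have h4 : ∀ m', weightedHomogeneousComponent v m
      (aeval e (weightedHomogeneousComponent w m' Q₀)) =
      if m = m' then aeval e (weightedHomogeneousComponent w m' Q₀) else 0 := by
    intro m'
    apply weightedHomogeneousComponent_of_mem
    rw [mem_weightedHomogeneousSubmodule]
    exact SymPoly.aeval_isWeightedHomogeneous w v e he
      (weightedHomogeneousComponent_isWeightedHomogeneous m' Q₀)
  conv_lhs => rw [h2, map_sum]
  simp_rw [h4]
  rw [Finset.sum_ite_eq]
  split_ifs with hm
  · rfl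
  · have : weightedHomogeneousComponent w m Q₀ = 0 := by
      by_contra h
      exact hm (by simpa [Set.Finite.mem_toFinset, Function.mem_support] using h)
    rw [this, map_zero]

end General

variable {r : ℕ}

/-- the weight of the variable `Y_{s,j} ↔ γ^{j+1}(x_s)` -/
def wt : Fin r × ℕ → ℕ := fun v => v.2 + 1

/-- evaluation of the scalar variables at a natural number -/
noncomputable def evNat (M : ℕ) : C₀ →+* ℤ := MvPolynomial.eval (fun n => (M.choose n : ℤ))

/-- evaluation of the scalar variables at an element of a binomial ring -/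
noncomputable def evK (K : Type*) [CommRing K] [BinomialRing K] (κ : K) : C₀ →+* K :=
  eval₂Hom (Int.castRingHom K) (fun n => Ring.choose κ n)

theorem rho_isHomogeneous (n : ℕ) (v : Fin r × ℕ) :
    IsWeightedHomogeneous (1 : Fin r × Fin n → ℕ) (LamED.rho r n v) (wt v) := by
  have := SymPoly.esymm_map_val_isWeightedHomogeneous (R := ℚ) (1 : Fin r × Fin n → ℕ)
    (fun a : Fin n => (X (v.1, a) : MvPolynomial (Fin r × Fin n) ℚ)) Finset.univ 1
    (fun a _ => isHomogeneous_X ℚ (v.1, a)) (v.2 + 1)
  rw [smul_eq_mul, mul_one] at this
  exact this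

theorem homogeneousComponent_eq_zero_of_mem {ι : Type*} (n d : ℕ) (hd : d < n)
    {p : MvPolynomial ι ℚ} (hp : p ∈ idealOfVars ι ℚ ^ n) : homogeneousComponent d p = 0 := by
  ext x
  rw [coeff_homogeneousComponent, coeff_zero]
  split_ifs with h
  · exact (mem_pow_idealOfVars_iff' n p).mp hp x (by omega)
  · rfl

/-- **Transfer, core form.**  If in the split model with `n` variables per group, and for every
natural value `M` of the scalar, the polynomial `G` evaluates into `J^n`, then every coefficient of
`G` at a monomial of weight `< n` vanishes at every scalar `κ` of every binomial ring. -/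
theorem GTT (G : Poly r) (n : ℕ)
    (hmodel : ∀ M : ℕ, aeval (LamED.rho r n) (map ((Int.castRingHom ℚ).comp (evNat M)) G) ∈
      idealOfVars (Fin r × Fin n) ℚ ^ n)
    (K : Type*) [CommRing K] [BinomialRing K] (κ : K) (m : Fin r × ℕ →₀ ℕ)
    (hm : Finsupp.weight (wt (r := r)) m < n) : evK K κ (coeff m G) = 0 := by
  classical
  apply LamBE.BE K (coeff m G)
  intro M
  change evNat M (coeff m G) = 0
  set ψ : C₀ →+* ℚ := (Int.castRingHom ℚ).comp (evNat M) with hψ
  set H : MvPolynomial (Fin r × ℕ) ℚ := map ψ G with hH
  set d := Finsupp.weight (wt (r := r)) m with hd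
  have hHd : weightedHomogeneousComponent (wt (r := r)) d H = 0 := by
    apply LamED.ED r n
    · intro c hc v hv
      have hw : Finsupp.weight (wt (r := r)) c = d :=
        weightedHomogeneousComponent_isWeightedHomogeneous (w := wt (r := r)) d H
          (mem_support_iff.mp hc)
      by_contra hne
      have h1 : c v * wt v ≤ Finsupp.weight (wt (r := r)) c := by
        rw [Finsupp.weight_apply, Finsupp.sum]
        have hv' : v ∈ c.support := Finsupp.mem_support_iff.mpr hne
        have := Finset.single_le_sum (f := fun i => c i • wt i) (fun i _ => Nat.zero_le _) hv'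
        simpa [smul_eq_mul] using this
      have h2 : 1 ≤ c v := Nat.one_le_iff_ne_zero.mpr hne
      have h3 : n + 1 ≤ wt v := by unfold wt; omega
      have : n + 1 ≤ c v * wt v := by nlinarith
      omega
    · rw [← whc_aeval (wt (r := r)) (1 : Fin r × Fin n → ℕ) (LamED.rho r n) (rho_isHomogeneous n)]
      exact homogeneousComponent_eq_zero_of_mem n d hm (hmodel M)
  have h5 : coeff m H = 0 := by
    have := congrArg (coeff m) hHd
    rwa [coeff_weightedHomogeneousComponent, if_pos rfl, coeff_zero] at this
  rw [hH, coeff_map, hψ, RingHom.comp_apply, eq_intCast] at h5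
  exact_mod_cast h5

end Groth.Agent.Helper4.LamTransfer
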