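import Groth.Agent.Helper4.LamTerm2
import Groth.Agent.Helper4.LamTransfer
import Groth.Agent.Helper4.LamModel3
import Mathlib

set_option autoImplicit false

/-! # Evaluating term polynomials in the split model -/

namespace Groth.Agent.Helper4.LamApply

open LambdaRing MvPolynomial Finset LamTerm LamTransfer LamModel

attribute [local instance] LamModel.ops

variable {r : ℕ} (n : ℕ)

/-- the generic elements `x_s = Σ_a u_{s,a}` of the model -/
noncomputable def xΩ (s : Fin r) : MvPolynomial (Fin r × Fin n) ℚ :=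
  ((Finset.univ : Finset (Fin n)).val.map
    fun a => (X (s, a) : MvPolynomial (Fin r × Fin n) ℚ)).sum

/-- evaluation of scalars in the model at the natural number `M` -/
noncomputable def φΩ (r : ℕ) (n : ℕ) (M : ℕ) : C₀ →+* MvPolynomial (Fin r × Fin n) ℚ :=
  (algebraMap ℚ _).comp ((Int.castRingHom ℚ).comp (evNat M))

theorem gamma_xΩ (v : Fin r × ℕ) : gamma (v.2 + 1) (xΩ n v.1) = LamED.rho r n v := by
  have := gamma_sum_X (Fin r × Fin n)
    ((Finset.univ : Finset (Fin n)).val.map fun a => (v.1, a)) (v.2 + 1)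
  rw [Multiset.map_map] at this
  exact this

theorem lam_natCast_Ω (M k : ℕ) :
    LambdaOps.lam k ((M : ℕ) : MvPolynomial (Fin r × Fin n) ℚ) = φΩ r n M (X k) := by
  rw [LamSeries.lam_natCast (lam_one_eq_zero _)]
  simp [φΩ, evNat]

theorem model_eval₂ (M : ℕ) (G : Poly r) :
    eval₂ (φΩ r n M) (fun v : Fin r × ℕ => gamma (v.2 + 1) (xΩ n v.1)) G =
      aeval (LamED.rho r n) (MvPolynomial.map ((Int.castRingHom ℚ).comp (evNat M)) G) := by
  rw [aeval_def, eval₂_map]
  congr 1
  funext v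
  exact gamma_xΩ n v

theorem esymm_mem_pow {ι : Type} (s : Multiset (MvPolynomial ι ℚ)) (hs : ∀ a ∈ s, a ∈ J ι) (k : ℕ) :
    s.esymm k ∈ J ι ^ k := by
  unfold Multiset.esymm
  apply multiset_sum_mem
  intro y hy
  rw [Multiset.mem_map] at hy
  obtain ⟨t, ht, rfl⟩ := hy
  rw [Multiset.mem_powersetCard] at ht
  rw [← ht.2]
  have : ∀ t : Multiset (MvPolynomial ι ℚ), (∀ a ∈ t, a ∈ J ι) → t.prod ∈ J ι ^ (Multiset.card t) := by
    intro t
    induction t using Multiset.induction_on with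
    | empty => intro _; simp
    | cons a t ih =>
      intro h
      rw [Multiset.prod_cons, Multiset.card_cons, pow_succ']
      exact Ideal.mul_mem_mul (h a (Multiset.mem_cons_self a t))
        (ih fun b hb => h b (Multiset.mem_cons_of_mem hb))
  exact this t fun a ha => hs a (Multiset.mem_of_le ht.1 ha)

theorem gamma_xΩ_mem (s : Fin r) (k : ℕ) : gamma k (xΩ n s) ∈ J (Fin r × Fin n) ^ k := by
  have := gamma_sum_X (Fin r × Fin n)
    ((Finset.univ : Finset (Fin n)).val.map fun a => (s, a)) k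
  rw [Multiset.map_map] at this
  unfold xΩ
  have e : ((fun i => (X i : MvPolynomial (Fin r × Fin n) ℚ)) ∘ fun a : Fin n => (s, a)) =
      fun a => X (s, a) := rfl
  rw [e] at this
  rw [this]
  apply esymm_mem_pow
  intro a ha
  rw [Multiset.mem_map] at ha
  obtain ⟨b, _, rfl⟩ := ha
  exact X_mem_J _ _

/-- the polynomial of `γ^j(T) - c_{j,w} T` -/
noncomputable def Gpoly (T : Term r) (j w : ℕ) : Poly r :=
  gammaP T j - ((cZ j w : ℤ) : Poly r) * L T 1

theorem model_Gpoly (T : Term r) (j w M : ℕ) :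
    aeval (LamED.rho r n) (MvPolynomial.map ((Int.castRingHom ℚ).comp (evNat M)) (Gpoly T j w)) =
      gamma j (T.eval (xΩ n) ((M : ℕ) : MvPolynomial (Fin r × Fin n) ℚ)) -
        ((cZ j w : ℤ) : ℚ) • (T.eval (xΩ n) ((M : ℕ) : MvPolynomial (Fin r × Fin n) ℚ)) := by
  rw [← model_eval₂, Gpoly, eval₂_sub, eval₂_mul,
    ← eval_gammaP (isSpecial _) (φΩ r n M) (xΩ n) _ (lam_natCast_Ω n M) T j,
    ← eval_L_one (isSpecial _) (φΩ r n M) (xΩ n) _ (lam_natCast_Ω n M) T]
  congr 1
  rw [Algebra.smul_def]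
  congr 1
  rw [← coe_eval₂Hom, map_intCast, map_intCast]

/-- the term `κ · ∏_s γ^{e_s}(x_s)` -/
def scalMono (e : Fin r → ℕ) : Term r := .mul .scal (monoT e)

theorem scalMono_eval_mem (e : Fin r → ℕ) (M : ℕ) :
    (scalMono e).eval (xΩ n) ((M : ℕ) : MvPolynomial (Fin r × Fin n) ℚ) ∈
      J (Fin r × Fin n) ^ (∑ s, e s) := by
  unfold scalMono
  rw [Term.eval, eval_monoT]
  apply Ideal.mul_mem_left
  have : ∀ S : Finset (Fin r), ∏ s ∈ S, gamma (e s) (xΩ n s) ∈
      J (Fin r × Fin n) ^ (∑ s ∈ S, e s) := by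
    intro S
    classical
    induction S using Finset.induction_on with
    | empty => simp
    | insert a S ha ih =>
      rw [Finset.prod_insert ha, Finset.sum_insert ha, pow_add]
      exact Ideal.mul_mem_mul (gamma_xΩ_mem n a (e a)) ih
  exact this Finset.univ

/-- **Vanishing of low-weight coefficients** of the polynomial of
`γ^j(κ ∏ γ^{e_s}(x_s)) - c_{j,w} κ ∏ γ^{e_s}(x_s)`. -/
theorem coeff_Gpoly_scalMono (e : Fin r → ℕ) (w : ℕ) (hw : w = ∑ s, e s) (hw1 : 1 ≤ w) (j : ℕ)
    (hj : 1 ≤ j) (K : Type*) [CommRing K] [BinomialRing K] (κ : K) (m : Fin r × ℕ →₀ ℕ)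
    (hm : Finsupp.weight (wt (r := r)) m < w + 1) :
    evK K κ (coeff m (Gpoly (scalMono e) j w)) = 0 := by
  apply GTT (Gpoly (scalMono e) j w) (w + 1) ?_ K κ m hm
  intro M
  rw [model_Gpoly]
  have hz := scalMono_eval_mem (w + 1) e M
  rw [← hw] at hz
  exact gamma_sub_mem (Fin r × Fin (w + 1)) w hw1 hz j hj

end Groth.Agent.Helper4.LamApply
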