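import Groth.Agent.Helper4.LamED
import Mathlib

set_option autoImplicit false

/-!
# Dominance of the elementary symmetric functions, groups of variables of different sizes
-/

namespace Groth.Agent.Helper4.LamED2

open MvPolynomial LamED

variable (r : ℕ) (n : Fin r → ℕ)

/-- `ρ(s,j) = e_{j+1}(u_{s,0}, …, u_{s,n_s-1})` -/
noncomputable def rho2 (v : Fin r × ℕ) : MvPolynomial (Σ s : Fin r, Fin (n s)) ℚ :=
  ((Finset.univ : Finset (Fin (n v.1))).val.map
    fun a => (X (⟨v.1, a⟩ : Σ s : Fin r, Fin (n s)) :
      MvPolynomial (Σ s : Fin r, Fin (n s)) ℚ)).esymm (v.2 + 1)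

theorem rho2_eq_zero (v : Fin r × ℕ) (hv : n v.1 ≤ v.2) : rho2 r n v = 0 := by
  unfold rho2
  apply InvSplit.esymm_eq_zero_of_card_lt
  simp
  omega

theorem ED2 (P : MvPolynomial (Fin r × ℕ) ℚ)
    (hP : ∀ d ∈ P.support, ∀ v : Fin r × ℕ, n v.1 ≤ v.2 → d v = 0)
    (h0 : aeval (rho2 r n) P = 0) : P = 0 := by
  by_contra hne
  have hinj : Function.Injective (algebraMap ℚ ℂ) := (algebraMap ℚ ℂ).injective
  have hne' : MvPolynomial.map (algebraMap ℚ ℂ) P ≠ 0 := by
    intro h
    apply hne
    apply MvPolynomial.map_injective _ hinj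
    rw [h, map_zero]
  obtain ⟨y, hy⟩ : ∃ y : Fin r × ℕ → ℂ, MvPolynomial.eval y (MvPolynomial.map (algebraMap ℚ ℂ) P) ≠ 0 := by
    by_contra hcon
    push_neg at hcon
    exact hne' (MvPolynomial.funext (fun x => by rw [hcon x, map_zero]))
  choose a ha using fun s : Fin r => exists_roots (n s) (fun k => y (s, (k : ℕ)))
  let pt : (Σ s : Fin r, Fin (n s)) → ℂ := fun i => a i.1 i.2
  let y' : Fin r × ℕ → ℂ := fun v => if v.2 < n v.1 then y v else 0
  have hy' : MvPolynomial.eval y' (MvPolynomial.map (algebraMap ℚ ℂ) P) =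
      MvPolynomial.eval y (MvPolynomial.map (algebraMap ℚ ℂ) P) := by
    apply MvPolynomial.eval₂_congr
    intro i c hi hc
    have hc' : c ∈ P.support := by
      have : c ∈ (MvPolynomial.map (algebraMap ℚ ℂ) P).support := MvPolynomial.mem_support_iff.mpr hc
      exact MvPolynomial.support_map_subset _ _ this
    simp only [y']
    split_ifs with h
    · rfl
    · exfalso
      have := hP c hc' i (by omega)
      rw [Finsupp.mem_support_iff] at hi
      exact hi this
  have hE : ∀ v : Fin r × ℕ, aeval pt (rho2 r n v) = y' v := by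
    intro v
    unfold rho2
    rw [← AlgHom.coe_toRingHom, SymPoly.map_multiset_esymm, Multiset.map_map]
    have e : (⇑((aeval pt : MvPolynomial (Σ s : Fin r, Fin (n s)) ℚ →ₐ[ℚ] ℂ) :
        MvPolynomial (Σ s : Fin r, Fin (n s)) ℚ →+* ℂ) ∘
        fun a => (X (⟨v.1, a⟩ : Σ s : Fin r, Fin (n s)) :
          MvPolynomial (Σ s : Fin r, Fin (n s)) ℚ)) = a v.1 := by
      funext b
      simp [pt]
    rw [e]
    simp only [y']
    split_ifs with h
    · exact ha v.1 ⟨v.2, h⟩
    · apply InvSplit.esymm_eq_zero_of_card_lt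
      simp
      omega
  have h1 : aeval pt (aeval (rho2 r n) P) = MvPolynomial.eval y' (MvPolynomial.map (algebraMap ℚ ℂ) P) := by
    rw [← AlgHom.comp_apply, MvPolynomial.comp_aeval, MvPolynomial.eval_map, MvPolynomial.aeval_def]
    congr 1
    funext v
    exact hE v
  rw [h0, map_zero, hy'] at h1
  exact hy h1.symm

/-- coefficient version: no support hypothesis -/
theorem ED2' (P : MvPolynomial (Fin r × ℕ) ℚ) (h0 : aeval (rho2 r n) P = 0)
    (m : Fin r × ℕ →₀ ℕ) (hm : ∀ v ∈ m.support, v.2 < n v.1) : coeff m P = 0 := by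
  classical
  set allowed : (Fin r × ℕ →₀ ℕ) → Prop := fun c => ∀ v ∈ c.support, v.2 < n v.1 with hall
  set P' : MvPolynomial (Fin r × ℕ) ℚ :=
    ∑ c ∈ P.support.filter allowed, monomial c (coeff c P) with hP'
  have hbad : ∀ c : Fin r × ℕ →₀ ℕ, ¬ allowed c → ∀ q : ℚ, aeval (rho2 r n) (monomial c q) = 0 := by
    intro c hc q
    simp only [hall] at hc
    push_neg at hc
    obtain ⟨v, hv, hvn⟩ := hc
    rw [aeval_monomial]
    apply mul_eq_zero_of_right
    rw [Finsupp.prod]
    apply Finset.prod_eq_zero hv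
    rw [rho2_eq_zero r n v hvn, zero_pow]
    exact Finsupp.mem_support_iff.mp hv
  have h1 : aeval (rho2 r n) P' = aeval (rho2 r n) P := by
    conv_rhs => rw [P.as_sum]
    rw [hP', map_sum, map_sum, Finset.sum_filter]
    apply Finset.sum_congr rfl
    intro c _
    split_ifs with h
    · rfl
    · exact (hbad c h _).symm
  have h2 : P' = 0 := by
    apply ED2 r n P'
    · intro d hd v hv
      have hd' : d ∈ P.support.filter allowed := by
        by_contra hcon
        rw [mem_support_iff, hP', coeff_sum] at hd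
        apply hd
        apply Finset.sum_eq_zero
        intro c hc
        rw [coeff_monomial, if_neg]
        rintro rfl
        exact hcon hc
      rw [Finset.mem_filter] at hd'
      by_contra hne
      have := hd'.2 v (Finsupp.mem_support_iff.mpr hne)
      omega
    · rw [h1, h0]
  have h3 : coeff m P' = coeff m P := by
    rw [hP', coeff_sum]
    by_cases hmP : m ∈ P.support
    · rw [Finset.sum_eq_single m]
      · rw [coeff_monomial, if_pos rfl]
      · intro c _ hc
        rw [coeff_monomial, if_neg hc]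
      · intro h
        exfalso; apply h
        rw [Finset.mem_filter]
        exact ⟨hmP, hm⟩
    · rw [notMem_support_iff.mp hmP]
      apply Finset.sum_eq_zero
      intro c hc
      rw [coeff_monomial, if_neg]
      rintro rfl
      exact hmP (Finset.mem_filter.mp hc).1
  rw [← h3, h2, coeff_zero]

end Groth.Agent.Helper4.LamED2
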