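import Groth.Agent.Helper4.LamApply2
import Groth.Agent.Helper4.LamED2
import Mathlib

set_option autoImplicit false

/-! # Evaluating term polynomials in split models with groups of different sizes -/

namespace Groth.Agent.Helper4.LamApply3

open LambdaRing MvPolynomial Finset LamTerm LamTransfer LamModel LamED2

attribute [local instance] LamModel.ops

variable {r : ℕ} (n : Fin r → ℕ)

/-- index type of the sized model -/
abbrev Idx (n : Fin r → ℕ) := Σ s : Fin r, Fin (n s)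

/-- the generic elements `x_s = Σ_a u_{s,a}` of the sized model -/
noncomputable def xΩ2 (s : Fin r) : MvPolynomial (Idx n) ℚ :=
  ((Finset.univ : Finset (Fin (n s))).val.map
    fun a => (X (⟨s, a⟩ : Idx n) : MvPolynomial (Idx n) ℚ)).sum

/-- evaluation of scalars in the model at the natural number `M` -/
noncomputable def φΩ2 (M : ℕ) : C₀ →+* MvPolynomial (Idx n) ℚ :=
  (algebraMap ℚ _).comp ((Int.castRingHom ℚ).comp (evNat M))

theorem gamma_xΩ2' (s : Fin r) (k : ℕ) : gamma k (xΩ2 n s) =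
    ((Finset.univ : Finset (Fin (n s))).val.map
      fun a => (X (⟨s, a⟩ : Idx n) : MvPolynomial (Idx n) ℚ)).esymm k := by
  have := gamma_sum_X (Idx n)
    ((Finset.univ : Finset (Fin (n s))).val.map fun a => (⟨s, a⟩ : Idx n)) k
  rw [Multiset.map_map] at this
  exact this

theorem gamma_xΩ2 (v : Fin r × ℕ) : gamma (v.2 + 1) (xΩ2 n v.1) = rho2 r n v :=
  gamma_xΩ2' n v.1 (v.2 + 1)

theorem gamma_xΩ2_eq_zero (s : Fin r) (k : ℕ) (hk : n s < k) : gamma k (xΩ2 n s) = 0 := by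
  rw [gamma_xΩ2']
  apply InvSplit.esymm_eq_zero_of_card_lt
  simp
  omega

theorem lam_natCast_Ω2 (M k : ℕ) :
    LambdaOps.lam k ((M : ℕ) : MvPolynomial (Idx n) ℚ) = φΩ2 n M (X k) := by
  rw [LamSeries.lam_natCast (lam_one_eq_zero _)]
  simp [φΩ2, evNat]

theorem model_eval₂2 (M : ℕ) (G : Poly r) :
    eval₂ (φΩ2 n M) (fun v : Fin r × ℕ => gamma (v.2 + 1) (xΩ2 n v.1)) G =
      aeval (rho2 r n) (MvPolynomial.map ((Int.castRingHom ℚ).comp (evNat M)) G) := by
  rw [aeval_def, eval₂_map]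
  congr 1
  funext v
  exact gamma_xΩ2 n v

/-- **Sized transfer at a natural scalar.** -/
theorem coeff_evNat_eq_zero (G : Poly r) (M : ℕ)
    (hmodel : eval₂ (φΩ2 n M) (fun v : Fin r × ℕ => gamma (v.2 + 1) (xΩ2 n v.1)) G = 0)
    (m : Fin r × ℕ →₀ ℕ) (hm : ∀ v ∈ m.support, v.2 < n v.1) : evNat M (coeff m G) = 0 := by
  rw [model_eval₂2] at hmodel
  have := ED2' r n _ hmodel m hm
  rw [coeff_map, RingHom.comp_apply, eq_intCast] at this
  exact_mod_cast this

/-- **Sized transfer.** -/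
theorem coeff_evK_eq_zero (G : Poly r)
    (hmodel : ∀ M : ℕ,
      eval₂ (φΩ2 n M) (fun v : Fin r × ℕ => gamma (v.2 + 1) (xΩ2 n v.1)) G = 0)
    (K : Type*) [CommRing K] [BinomialRing K] (κ : K)
    (m : Fin r × ℕ →₀ ℕ) (hm : ∀ v ∈ m.support, v.2 < n v.1) : evK K κ (coeff m G) = 0 := by
  apply LamBE.BE K (coeff m G)
  intro M
  exact coeff_evNat_eq_zero n G M (hmodel M) m hm

theorem gamma_pos_zero {R : Type*} [CommRing R] [LambdaOps R] (p : ℕ) (hp : 1 ≤ p) :
    gamma p (0 : R) = 0 := by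
  rw [GammaOps.gamma_zero_arg, if_neg (by omega)]

theorem lam_pos_zero {R : Type*} [CommRing R] [LambdaOps R] (p : ℕ) (hp : 1 ≤ p) :
    LambdaOps.lam p (0 : R) = 0 := GammaOps.lam_zero_arg p hp

/-- If the term vanishes in the sized model at the scalar `M`, the allowed coefficients of its
`λ^p`-polynomial vanish at `M`. -/
theorem coeff_L_evNat (T : Term r) (M : ℕ)
    (hT : T.eval (xΩ2 n) ((M : ℕ) : MvPolynomial (Idx n) ℚ) = 0) (p : ℕ) (hp : 1 ≤ p)
    (m : Fin r × ℕ →₀ ℕ) (hm : ∀ v ∈ m.support, v.2 < n v.1) :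
    evNat M (coeff m (L T p)) = 0 := by
  apply coeff_evNat_eq_zero n (L T p) M ?_ m hm
  rw [← eval_L (isSpecial _) (φΩ2 n M) (xΩ2 n) _ (lam_natCast_Ω2 n M) T p, hT]
  exact lam_pos_zero p hp

theorem coeff_gammaP_evNat (T : Term r) (M : ℕ)
    (hT : T.eval (xΩ2 n) ((M : ℕ) : MvPolynomial (Idx n) ℚ) = 0) (p : ℕ) (hp : 1 ≤ p)
    (m : Fin r × ℕ →₀ ℕ) (hm : ∀ v ∈ m.support, v.2 < n v.1) :
    evNat M (coeff m (gammaP T p)) = 0 := by
  apply coeff_evNat_eq_zero n (gammaP T p) M ?_ m hm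
  rw [← eval_gammaP (isSpecial _) (φΩ2 n M) (xΩ2 n) _ (lam_natCast_Ω2 n M) T p, hT]
  exact gamma_pos_zero p hp

end Groth.Agent.Helper4.LamApply3
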