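import Groth.Agent.Helper4.GammaFilt3
import Mathlib

set_option autoImplicit false

/-!
# Dividing a two-group polynomial expression by the top γ-class of the second variable
-/

namespace Groth.Agent.Helper4.LamDiv

open LambdaRing MvPolynomial Finset LamTerm LamTransfer

variable {R : Type*} [CommRing R]

/-- evaluation of a monomial -/
noncomputable def mprod (y : Fin 2 × ℕ → R) (m : Fin 2 × ℕ →₀ ℕ) : R :=
  m.prod fun v k => y v ^ k

theorem mprod_zero (y : Fin 2 × ℕ → R) : mprod y 0 = 1 := by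
  unfold mprod; simp

theorem mprod_add (y : Fin 2 × ℕ → R) (m m' : Fin 2 × ℕ →₀ ℕ) :
    mprod y (m + m') = mprod y m * mprod y m' := by
  unfold mprod
  apply Finsupp.prod_add_index'
  · intro a; simp
  · intro a b c; rw [pow_add]

theorem mprod_single (y : Fin 2 × ℕ → R) (v : Fin 2 × ℕ) : mprod y (Finsupp.single v 1) = y v := by
  unfold mprod
  rw [Finsupp.prod_single_index (by simp), pow_one]

theorem mprod_eq_zero (y : Fin 2 × ℕ → R) (m : Fin 2 × ℕ →₀ ℕ) (v : Fin 2 × ℕ) (hv : v ∈ m.support)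
    (hy : y v = 0) : mprod y m = 0 := by
  unfold mprod
  rw [Finsupp.prod]
  apply Finset.prod_eq_zero hv
  rw [hy, zero_pow (Finsupp.mem_support_iff.mp hv)]

/-- split off a variable in the support -/
theorem split_single (m : Fin 2 × ℕ →₀ ℕ) (v : Fin 2 × ℕ) (hv : m v ≠ 0) :
    m = Finsupp.single v 1 + (m - Finsupp.single v 1) := by
  rw [add_tsub_cancel_of_le]
  rw [Finsupp.single_le_iff]
  omega

theorem mprod_split (y : Fin 2 × ℕ → R) (m : Fin 2 × ℕ →₀ ℕ) (v : Fin 2 × ℕ) (hv : m v ≠ 0) :
    mprod y m = y v * mprod y (m - Finsupp.single v 1) := by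
  rw [← mprod_single y v, ← mprod_add, ← split_single m v hv]

/-- the distinguished monomial `Y_{1,d-1} ↔ γ^d(x_1)` -/
noncomputable def δ (d : ℕ) : Fin 2 × ℕ →₀ ℕ := Finsupp.single ((1 : Fin 2), d - 1) 1

/-- the quotient by `y (1, d-1)` -/
noncomputable def quot (φ : C₀ →+* R) (y : Fin 2 × ℕ → R) (d : ℕ) (G : Poly 2) : R :=
  ∑ m ∈ G.support.filter (fun m => m ((1 : Fin 2), d - 1) ≠ 0),
    φ (coeff m G) * mprod y (m - δ d)

theorem eval_eq_mul_quot (φ : C₀ →+* R) (y : Fin 2 × ℕ → R) (d : ℕ) (hd : 1 ≤ d) (G : Poly 2)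
    (hA : ∀ m : Fin 2 × ℕ →₀ ℕ, (∀ v ∈ m.support, v.1 = 1 → v.2 + 1 < d) → φ (coeff m G) = 0)
    (hy1 : ∀ j : ℕ, d ≤ j → y (1, j) = 0) :
    eval₂ φ y G = y (1, d - 1) * quot φ y d G := by
  classical
  rw [eval₂_eq, quot, Finset.mul_sum, Finset.sum_filter]
  apply Finset.sum_congr rfl
  intro m _
  change φ (coeff m G) * mprod y m = _
  split_ifs with h
  · rw [mprod_split y m _ h]
    unfold δ
    ring
  · push Not at h
    by_cases hall : ∀ v ∈ m.support, v.1 = 1 → v.2 + 1 < d
    · rw [hA m hall, zero_mul]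
    · push Not at hall
      obtain ⟨v, hv, hv1, hvd⟩ := hall
      have hv2 : d ≤ v.2 := by
        by_contra hcon
        have : v = ((1 : Fin 2), d - 1) := by
          ext
          · simp [hv1]
          · simp; omega
        rw [this] at hv
        exact (Finsupp.mem_support_iff.mp hv) h
      have : y v = 0 := by
        have := hy1 v.2 hv2
        rw [← hv1] at this
        exact this
      rw [mprod_eq_zero y m v hv this, mul_zero]

/-- modulo an ideal containing all the `y v`, the quotient is its constant term -/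
theorem quot_sub_const_mem (φ : C₀ →+* R) (y : Fin 2 × ℕ → R) (d : ℕ) (G : Poly 2)
    (I : Ideal R) (hy : ∀ v, y v ∈ I) : quot φ y d G - φ (coeff (δ d) G) ∈ I := by
  classical
  have hterm : ∀ m ∈ G.support.filter (fun m => m ((1 : Fin 2), d - 1) ≠ 0), m ≠ δ d →
      φ (coeff m G) * mprod y (m - δ d) ∈ I := by
    intro m hm hne
    rw [Finset.mem_filter] at hm
    apply Ideal.mul_mem_left
    have hsplit : m = δ d + (m - δ d) := split_single m _ hm.2
    obtain ⟨v1, hv1⟩ : ∃ v1, (m - δ d) v1 ≠ 0 := by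
      by_contra hcon
      push Not at hcon
      have : m - δ d = 0 := Finsupp.ext hcon
      rw [this, add_zero] at hsplit
      exact hne hsplit
    rw [mprod_split y _ v1 hv1]
    exact Ideal.mul_mem_right _ _ (hy v1)
  by_cases hstar : δ d ∈ G.support.filter (fun m => m ((1 : Fin 2), d - 1) ≠ 0)
  · unfold quot
    rw [← Finset.add_sum_erase _ _ hstar, tsub_self, mprod_zero, mul_one, add_sub_cancel_left]
    apply Ideal.sum_mem
    intro m hm
    rw [Finset.mem_erase] at hm
    exact hterm m hm.2 hm.1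
  · have hcoef : coeff (δ d) G = 0 := by
      by_contra hne
      apply hstar
      rw [Finset.mem_filter]
      refine ⟨mem_support_iff.mpr hne, ?_⟩
      unfold δ
      simp
    rw [hcoef, map_zero, sub_zero]
    unfold quot
    apply Ideal.sum_mem
    intro m hm
    apply hterm m hm
    rintro rfl
    exact hstar hm

theorem weight_δ (d : ℕ) (hd : 1 ≤ d) : Finsupp.weight (wt (r := 2)) (δ d) = d := by
  unfold δ
  rw [Finsupp.weight_single, smul_eq_mul, one_mul]
  unfold wt
  simp only
  omega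

theorem weight_split (d : ℕ) (hd : 1 ≤ d) (m : Fin 2 × ℕ →₀ ℕ) (hm : m ((1 : Fin 2), d - 1) ≠ 0) :
    Finsupp.weight (wt (r := 2)) m = d + Finsupp.weight (wt (r := 2)) (m - δ d) := by
  have h1 : m = δ d + (m - δ d) := split_single m _ hm
  have h2 : Finsupp.weight (wt (r := 2)) m =
      Finsupp.weight (wt (r := 2)) (δ d) + Finsupp.weight (wt (r := 2)) (m - δ d) := by
    conv_lhs => rw [h1, map_add]
  rw [h2, weight_δ d hd]

section Filt

variable (F : ℕ → Ideal R) (h0 : (1 : R) ∈ F 0)
  (hmul : ∀ a b x y, x ∈ F a → y ∈ F b → x * y ∈ F (a + b))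
  (hanti : ∀ a b, a ≤ b → F b ≤ F a)

include h0 in
theorem mem_F0 (z : R) : z ∈ F 0 := by
  have := Ideal.mul_mem_left (F 0) z h0
  rwa [mul_one] at this

include h0 hmul in
theorem mprod_mem (y : Fin 2 × ℕ → R) (hy : ∀ v, y v ∈ F (wt v)) (m : Fin 2 × ℕ →₀ ℕ) :
    mprod y m ∈ F (Finsupp.weight (wt (r := 2)) m) := by
  classical
  unfold mprod
  rw [Finsupp.weight_apply, Finsupp.sum, Finsupp.prod]
  have : ∀ S : Finset (Fin 2 × ℕ), ∏ v ∈ S, y v ^ m v ∈ F (∑ v ∈ S, m v • wt v) := by
    intro S
    induction S using Finset.induction_on with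
    | empty => simpa using h0
    | insert a S ha ih =>
      rw [Finset.prod_insert ha, Finset.sum_insert ha]
      refine hmul _ _ _ _ ?_ ih
      rw [smul_eq_mul]
      have hpow : ∀ k : ℕ, y a ^ k ∈ F (k * wt a) := by
        intro k
        induction k with
        | zero => rw [Nat.zero_mul, pow_zero]; exact h0
        | succ k ih =>
          rw [pow_succ, Nat.succ_mul]
          exact hmul _ _ _ _ ih (hy a)
      exact hpow (m a)
  exact this m.support

include h0 hmul hanti in
theorem quot_mem (φ : C₀ →+* R) (y : Fin 2 × ℕ → R) (d : ℕ) (hd : 1 ≤ d) (G : Poly 2) (p : ℕ)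
    (hB : ∀ m : Fin 2 × ℕ →₀ ℕ, Finsupp.weight (wt (r := 2)) m < p → φ (coeff m G) = 0)
    (hy : ∀ v, y v ∈ F (wt v)) : quot φ y d G ∈ F (p - d) := by
  classical
  unfold quot
  apply Ideal.sum_mem
  intro m hm
  rw [Finset.mem_filter] at hm
  by_cases hw : Finsupp.weight (wt (r := 2)) m < p
  · rw [hB m hw, zero_mul]; exact zero_mem _
  · apply Ideal.mul_mem_left
    have hwt := weight_split d hd m hm.2
    exact hanti _ _ (by omega) (mprod_mem F h0 hmul y hy (m - δ d))

/-- the monomial `Y_{0,i-1} Y_{1,d-1}` -/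
noncomputable def mstar (d i : ℕ) : Fin 2 × ℕ →₀ ℕ := Finsupp.single ((0 : Fin 2), i - 1) 1 + δ d

include h0 hmul hanti in
theorem quot_sub_mem (φ : C₀ →+* R) (y : Fin 2 × ℕ → R) (d : ℕ) (hd : 1 ≤ d) (G : Poly 2) (i : ℕ)
    (hi : 1 ≤ i)
    (hB : ∀ m : Fin 2 × ℕ →₀ ℕ, Finsupp.weight (wt (r := 2)) m < d + i → φ (coeff m G) = 0)
    (hC : ∀ m : Fin 2 × ℕ →₀ ℕ, (∀ v ∈ m.support, v.1 = 1) → φ (coeff m G) = 0)
    (hy0 : ∀ j : ℕ, y (0, j) ∈ F (max i (j + 1)))
    (hy1 : ∀ j : ℕ, y (1, j) ∈ F (j + 1)) :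
    quot φ y d G - φ (coeff (mstar d i) G) * y (0, i - 1) ∈ F (i + 1) := by
  classical
  have hyF1 : ∀ v : Fin 2 × ℕ, y v ∈ F 1 := by
    rintro ⟨s, j⟩
    fin_cases s
    · exact hanti _ _ (by omega) (hy0 j)
    · exact hanti _ _ (by omega) (hy1 j)
  -- each term other than `mstar` lies in `F (i+1)`
  have hterm : ∀ m ∈ G.support.filter (fun m => m ((1 : Fin 2), d - 1) ≠ 0), m ≠ mstar d i →
      φ (coeff m G) * mprod y (m - δ d) ∈ F (i + 1) := by
    intro m hm hne
    rw [Finset.mem_filter] at hm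
    by_cases hw : Finsupp.weight (wt (r := 2)) m < d + i
    · rw [hB m hw, zero_mul]; exact zero_mem _
    by_cases hc : ∀ v ∈ m.support, v.1 = 1
    · rw [hC m hc, zero_mul]; exact zero_mem _
    apply Ideal.mul_mem_left
    push Not at hc
    obtain ⟨v0, hv0, hv01⟩ := hc
    have hv00 : v0.1 = 0 := by
      rcases v0 with ⟨s, j⟩
      fin_cases s
      · rfl
      · exact absurd rfl hv01
    have hsplit : m = δ d + (m - δ d) := split_single m _ hm.2
    have hwt := weight_split d hd m hm.2
    set m' := m - δ d with hm'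
    have hm'v0 : m' v0 ≠ 0 := by
      rw [hm', Finsupp.tsub_apply]
      unfold δ
      rw [Finsupp.single_apply, if_neg]
      · simpa using Finsupp.mem_support_iff.mp hv0
      · intro h
        rw [← h] at hv01
        exact hv01 rfl
    have hsplit' := split_single m' v0 hm'v0
    set m'' := m' - Finsupp.single v0 1 with hm''
    have hy_v0 : y v0 ∈ F (max i (v0.2 + 1)) := by
      have := hy0 v0.2
      rw [← hv00] at this
      exact this
    rw [hsplit', mprod_add, mprod_single]
    by_cases hz : m'' = 0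
    · rw [hz, mprod_zero, mul_one]
      -- m' = single v0 1
      have hm'eq : m' = Finsupp.single v0 1 := by rw [hsplit', hz, add_zero]
      have hwt' : Finsupp.weight (wt (r := 2)) m' = v0.2 + 1 := by
        rw [hm'eq, Finsupp.weight_single, smul_eq_mul, one_mul]
        rfl
      have hne' : v0.2 + 1 ≠ i := by
        intro h
        apply hne
        rw [hsplit, hm'eq]
        unfold mstar
        rw [add_comm]
        congr 2
        ext
        · simp [hv00]
        · simp; omega
      refine hanti _ _ ?_ hy_v0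
      omega
    · obtain ⟨v1, hv1⟩ : ∃ v1, m'' v1 ≠ 0 := by
        by_contra hcon
        push Not at hcon
        exact hz (Finsupp.ext hcon)
      have hsplit'' := split_single m'' v1 hv1
      rw [hsplit'', mprod_add, mprod_single]
      have h1 : y v0 * (y v1 * mprod y (m'' - Finsupp.single v1 1)) ∈
          F (max i (v0.2 + 1) + (1 + 0)) :=
        hmul _ _ _ _ hy_v0 (hmul _ _ _ _ (hyF1 v1) (mem_F0 F h0 _))
      exact hanti _ _ (by omega) h1
  by_cases hstar : mstar d i ∈ G.support.filter (fun m => m ((1 : Fin 2), d - 1) ≠ 0)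
  · unfold quot
    rw [← Finset.add_sum_erase _ _ hstar]
    have e1 : mstar d i - δ d = Finsupp.single ((0 : Fin 2), i - 1) 1 := by
      unfold mstar
      rw [add_tsub_cancel_right]
    rw [e1, mprod_single, add_sub_cancel_left]
    apply Ideal.sum_mem
    intro m hm
    rw [Finset.mem_erase] at hm
    exact hterm m hm.2 hm.1
  · have hcoef : coeff (mstar d i) G = 0 := by
      by_contra hne
      apply hstar
      rw [Finset.mem_filter]
      refine ⟨mem_support_iff.mpr hne, ?_⟩
      unfold mstar δ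
      simp
    rw [hcoef, map_zero, zero_mul, sub_zero]
    unfold quot
    apply Ideal.sum_mem
    intro m hm
    apply hterm m hm
    rintro rfl
    exact hstar hm

end Filt

end Groth.Agent.Helper4.LamDiv
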