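import Groth.Agent.Helper4.LamDivModel
import Groth.Agent.Helper4.GammaRank
import Mathlib

set_option autoImplicit false

/-!
# Dividing `γ^p(x λ_{-1}(N))` by `λ_{-1}(N)` in an augmented λ-algebra over a binomial ring
-/

namespace Groth.Agent.Helper4.LamDivAug

open LambdaRing MvPolynomial Finset LamTerm LamTransfer LamDiv LamDivCoef LamDivModel
  Groth.Agent.Helper4.GammaFilt LamModel

universe u v

variable {K : Type u} [CommRing K] [LambdaOps K] [BinomialRing K]
variable {A : Type v} [CommRing A] [LambdaOps A] [Algebra K A]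

/-- `λ_{-1}(N)` -/
def lamNeg (d : ℕ) (N : A) : A := ∑ j ∈ range (d + 1), (-1 : A) ^ j * LambdaOps.lam j N

variable (ε : A →ₐ[K] K) (d : ℕ) (N x : A)

/-- the two variables: `(-1)^d (x - ε x)` and `N - d` -/
noncomputable def xs : Fin 2 → A := ![(-1) ^ d * (x - algebraMap K A (ε x)), N - (d : A)]

/-- the scalar `(-1)^d ε(x)` -/
noncomputable def κ' : K := (-1) ^ d * ε x

/-- the evaluation of scalars -/
noncomputable def φA : C₀ →+* A := (algebraMap K A).comp (evK K (κ' ε d x))

/-- values of the variables -/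
noncomputable def yA : Fin 2 × ℕ → A := fun v => gamma (v.2 + 1) (xs ε d N x v.1)

/-- the quotient `γ^p(x λ_{-1} N) / γ^d(N - d)` -/
noncomputable def Q (p : ℕ) : A := quot (φA ε d x) (yA ε d N x) d (gammaP (Td d) p)

variable (hKb : IsBinomial K) (hA : IsSpecial A) (hε : IsAugLambdaAlg K A ε)
  (hd : 1 ≤ d) (hN : ∀ k : ℕ, d < k → LambdaOps.lam k N = 0) (hNε : ε N = (d : K))

omit [LambdaOps K] [BinomialRing K] in
theorem aug_xs (hNε : ε N = (d : K)) (s : Fin 2) : ε (xs ε d N x s) = 0 := by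
  fin_cases s
  · simp [xs]
  · simp [xs, hNε]

include hA hN in
omit [LambdaOps K] [BinomialRing K] in
theorem gamma_top_eq : gamma d (N - (d : A)) = (-1) ^ d * lamNeg d N :=
  GammaRank.gamma_sub_self hA.lam_one_eq_zero N d hN

include hKb hA hε hd hN in
/-- the factorization `γ^p(x λ_{-1} N) = (-1)^d λ_{-1}(N) Q_p` -/
theorem gamma_eq (p : ℕ) (hp : 1 ≤ p) :
    gamma p (x * lamNeg d N) = (-1) ^ d * lamNeg d N * Q ε d N x p := by
  have hsq : ((-1 : A) ^ d) * (-1) ^ d = 1 := by rw [← mul_pow]; simp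
  have hκ := lam_algebraMap hKb ε hε (κ' ε d x)
  have hev := eval_gammaP hA (φA ε d x) (xs ε d N x) _ hκ (Td d) p
  rw [eval_Td] at hev
  have hxs0 : xs ε d N x 0 = (-1) ^ d * (x - algebraMap K A (ε x)) := rfl
  have hxs1 : xs ε d N x 1 = N - (d : A) := rfl
  have hu := gamma_top_eq d N hA hN
  have harg : (algebraMap K A (κ' ε d x) + xs ε d N x 0) * gamma d (xs ε d N x 1) =
      x * lamNeg d N := by
    rw [hxs0, hxs1, hu]
    unfold κ'
    rw [map_mul, map_pow, map_neg, map_one]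
    calc ((-1) ^ d * algebraMap K A (ε x) + (-1) ^ d * (x - algebraMap K A (ε x))) *
        ((-1) ^ d * lamNeg d N) = (((-1 : A) ^ d) * (-1) ^ d) * (x * lamNeg d N) := by ring
      _ = x * lamNeg d N := by rw [hsq, one_mul]
  rw [harg] at hev
  have hdiv := eval_eq_mul_quot (φA ε d x) (yA ε d N x) d hd (gammaP (Td d) p) ?_ ?_
  · rw [hev]
    have e : d - 1 + 1 = d := by omega
    have hy1 : yA ε d N x (1, d - 1) = (-1) ^ d * lamNeg d N := by
      unfold yA
      simp only [e, hxs1]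
      exact hu
    rw [hy1] at hdiv
    exact hdiv
  · intro m hm
    unfold φA
    rw [RingHom.comp_apply, claimA_gammaP_evK d hd p hp K _ m hm, map_zero]
  · intro j hj
    unfold yA
    simp only [hxs1]
    exact GammaRank.gamma_sub_eq_zero hA.lam_one_eq_zero N d hN (j + 1) (by omega)

omit [BinomialRing K] in
theorem yA_mem (hNε : ε N = (d : K)) (v : Fin 2 × ℕ) :
    yA ε d N x v ∈ gammaFil (ε : A →+* K) (wt v) := by
  unfold yA wt
  exact gamma_mem_gammaFil (ε : A →+* K) _ (aug_xs ε d N x hNε v.1)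

include hd in
theorem Q_mem (hNε : ε N = (d : K)) (p : ℕ) : Q ε d N x p ∈ gammaFil (ε : A →+* K) (p - d) := by
  unfold Q
  refine quot_mem (fun k => gammaFil (ε : A →+* K) k) ?_ ?_ ?_ (φA ε d x) (yA ε d N x) d hd
    (gammaP (Td d) p) p ?_ (yA_mem ε d N x hNε)
  · rw [gammaFil_zero]; trivial
  · intro a b x y hx hy
    exact mul_mem_gammaFil (ε : A →+* K) hx hy
  · intro a b hab
    exact gammaFil_anti (ε : A →+* K) hab
  · intro m hm
    unfold φA
    rw [RingHom.comp_apply, claimB d hd p K _ m hm, map_zero]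

/-- cancel the non-zero-divisor -/
theorem eq_of_mul_eq {Λ y q : A} (hnzd : Λ ∈ nonZeroDivisors A) (h : y * Λ = (-1) ^ d * Λ * q) :
    y = (-1) ^ d * q := by
  have h2 : (y - (-1) ^ d * q) * Λ = 0 := by rw [sub_mul, h]; ring
  have := (mem_nonZeroDivisors_iff_right.mp hnzd) _ h2
  exact sub_eq_zero.mp this

end Groth.Agent.Helper4.LamDivAug
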