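import Groth.Agent.Helper4.LamDivAug
import Mathlib

set_option autoImplicit false

/-!
# The leading term of the quotient `γ^{d+i}(x λ_{-1}(N)) / λ_{-1}(N)` for `x ∈ Fil^i`
-/

namespace Groth.Agent.Helper4.LamDivAug

open LambdaRing MvPolynomial Finset LamTerm LamTransfer LamDiv LamDivCoef LamDivModel
  Groth.Agent.Helper4.GammaFilt LamModel

universe u v

variable {K : Type u} [CommRing K] [LambdaOps K] [BinomialRing K]
variable {A : Type v} [CommRing A] [LambdaOps A] [Algebra K A]

variable (ε : A →ₐ[K] K) (d : ℕ) (N x : A)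

variable (hKb : IsBinomial K) (hA : IsSpecial A) (hε : IsAugLambdaAlg K A ε)
  (hd : 1 ≤ d) (hN : ∀ k : ℕ, d < k → LambdaOps.lam k N = 0) (hNε : ε N = (d : K))

omit [BinomialRing K] in
include hε in
theorem aug_mono (l : List (ℕ × A)) (hl : ∀ p ∈ l, (ε : A →+* K) p.2 = 0) (hw : 1 ≤ wtl l) :
    ε (mono l) = 0 := by
  induction l with
  | nil => simp [wtl] at hw
  | cons p l ih =>
    rw [mono_cons, map_mul]
    rw [wtl_cons] at hw
    by_cases hp : 1 ≤ p.1
    · have h1 := map_gamma' (ε : A →+* K) (fun n a => hε.map_lam n a) p.1 p.2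
      rw [RingHom.coe_coe] at h1
      have h2 : ε p.2 = 0 := hl p (by simp)
      rw [h1, h2, GammaOps.gamma_zero_arg, if_neg (by omega), zero_mul]
    · rw [ih (fun q hq => hl q (List.mem_cons_of_mem _ hq)) (by omega), mul_zero]

omit [BinomialRing K] in
include hε in
/-- `Fil^1` is contained in the augmentation ideal -/
theorem aug_of_mem_fil_one {z : A} (hz : z ∈ gammaFil (ε : A →+* K) 1) : ε z = 0 := by
  have hle : gammaFil (ε : A →+* K) 1 ≤ RingHom.ker (ε : A →+* K) := by
    apply Ideal.span_le.mpr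
    rintro y ⟨l, hl, hw, rfl⟩
    rw [SetLike.mem_coe, RingHom.mem_ker]
    exact aug_mono ε hε l hl hw
  exact (RingHom.mem_ker).mp (hle hz)

omit [BinomialRing K] in
/-- the augmentation ideal is contained in `Fil^1` -/
theorem mem_fil_one_of_aug {z : A} (hz : ε z = 0) : z ∈ gammaFil (ε : A →+* K) 1 := by
  have := gamma_mem_gammaFil (ε : A →+* K) 1 (x := z) hz
  rwa [gamma_one'] at this

include hKb hA hε hd in
/-- the case `i ≥ 1` -/
theorem Q_sub_mem (hNε : ε N = (d : K)) (i : ℕ) (hi : 1 ≤ i)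
    (hx : x ∈ gammaFil (ε : A →+* K) i) :
    Q ε d N x (d + i) - ((cZ (d + i) (d + i) : ℤ) : A) * ((-1) ^ d * x) ∈
      gammaFil (ε : A →+* K) (i + 1) := by
  have hx0 : ε x = 0 :=
    aug_of_mem_fil_one ε hε (gammaFil_anti (ε : A →+* K) hi hx)
  have hκ0 : κ' ε d x = ((0 : ℕ) : K) := by unfold κ'; rw [hx0, mul_zero, Nat.cast_zero]
  have hxs0 : xs ε d N x 0 = (-1) ^ d * x := by
    unfold xs
    simp [hx0]
  have hxs0mem : xs ε d N x 0 ∈ gammaFil (ε : A →+* K) i := by
    rw [hxs0]; exact Ideal.mul_mem_left _ _ hx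
  have hq := quot_sub_mem (fun k => gammaFil (ε : A →+* K) k)
    (by rw [gammaFil_zero]; trivial)
    (fun a b x y hx hy => mul_mem_gammaFil (ε : A →+* K) hx hy)
    (fun a b hab => gammaFil_anti (ε : A →+* K) hab)
    (φA ε d x) (yA ε d N x) d hd (gammaP (Td d) (d + i)) i hi ?_ ?_ ?_ ?_
  · have e' : i - 1 + 1 = i := by omega
    have hy0 : yA ε d N x (0, i - 1) = gamma i (xs ε d N x 0) := by
      unfold yA
      simp only [e']
    rw [hy0] at hq
    have hφ : φA ε d x (coeff (mstar d i) (gammaP (Td d) (d + i))) =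
        ((evNat 0 (coeff (mstar d i) (gammaP (Td d) (d + i))) : ℤ) : A) := by
      unfold φA
      rw [RingHom.comp_apply, hκ0, evK_natCast, map_intCast]
    rw [hφ] at hq
    have hD := Dm_mem hKb hA ε hε i hi hxs0mem
    unfold Dm at hD
    have hcD := claimD d hd i hi
    have hcD' : ((evNat 0 (coeff (mstar d i) (gammaP (Td d) (d + i))) : ℤ) : A) *
        ((cZ i i : ℤ) : A) = ((cZ (d + i) (d + i) : ℤ) : A) := by
      rw [← hcD]; push_cast; ring
    have : Q ε d N x (d + i) - ((cZ (d + i) (d + i) : ℤ) : A) * ((-1) ^ d * x) =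
        (Q ε d N x (d + i) - ((evNat 0 (coeff (mstar d i) (gammaP (Td d) (d + i))) : ℤ) : A) *
          gamma i (xs ε d N x 0)) +
        ((evNat 0 (coeff (mstar d i) (gammaP (Td d) (d + i))) : ℤ) : A) *
          (gamma i (xs ε d N x 0) - ((cZ i i : ℤ) : A) * xs ε d N x 0) := by
      rw [← hcD', hxs0]; ring
    rw [this]
    exact add_mem hq (Ideal.mul_mem_left _ _ hD)
  · intro m hm
    unfold φA
    rw [RingHom.comp_apply, claimB d hd (d + i) K _ m hm, map_zero]
  · intro m hm
    unfold φA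
    rw [RingHom.comp_apply, hκ0, evK_natCast, claimC d (d + i) (by omega) m hm]
    simp
  · intro j
    have h1 : yA ε d N x (0, j) ∈ gammaFil (ε : A →+* K) i :=
      gamma_mem_of_mem hKb hA ε hε i hi hxs0mem (j + 1) (by omega)
    have h2 : yA ε d N x (0, j) ∈ gammaFil (ε : A →+* K) (j + 1) := yA_mem ε d N x hNε (0, j)
    rcases le_total i (j + 1) with h | h
    · rw [max_eq_right h]; exact h2
    · rw [max_eq_left h]; exact h1
  · intro j
    exact yA_mem ε d N x hNε (1, j)

include hε hd in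
/-- the case `i = 0`: the augmentation of the quotient -/
theorem aug_Q (hNε : ε N = (d : K)) : ε (Q ε d N x d) = ((cZ d d : ℤ) : K) * ((-1) ^ d * ε x) := by
  have h := quot_sub_const_mem (φA ε d x) (yA ε d N x) d (gammaP (Td d) d)
    (RingHom.ker (ε : A →+* K)) ?_
  · rw [RingHom.mem_ker, map_sub, sub_eq_zero] at h
    change ε (Q ε d N x d) = _ at h
    rw [h]
    unfold φA
    rw [RingHom.comp_apply]
    change ε (algebraMap K A _) = _
    rw [AlgHom.commutes, claimE d hd K]
    rfl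
  · intro v
    rw [RingHom.mem_ker]
    exact aug_of_mem_fil_one ε hε
      (gammaFil_anti (ε : A →+* K) (by unfold wt; omega) (yA_mem ε d N x hNε v))

end Groth.Agent.Helper4.LamDivAug
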