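import Groth.Agent.Helper4.LamDiv
import Groth.Agent.Helper4.LamApply3
import Mathlib

set_option autoImplicit false

/-!
# Coefficients of the universal polynomials of `λ^p((κ + x_0) γ^d(x_1))`
-/

namespace Groth.Agent.Helper4.LamDivCoef

open LambdaRing MvPolynomial Finset LamTerm LamTransfer LamModel LamApply3 LamDiv

attribute [local instance] LamModel.ops

/-- the term `(κ + x_0) γ^d(x_1)` -/
def Td (d : ℕ) : Term 2 := .mul (.add .scal (.var 0)) (gamT d (.var 1))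

theorem eval_Td {R : Type*} [CommRing R] [LambdaOps R] (x : Fin 2 → R) (κ : R) (d : ℕ) :
    (Td d).eval x κ = (κ + x 0) * gamma d (x 1) := by
  unfold Td
  rw [Term.eval, Term.eval, eval_gamT]
  rfl

theorem evK_natCast (K : Type*) [CommRing K] [BinomialRing K] (M : ℕ) (c : C₀) :
    evK K (M : K) c = ((evNat M c : ℤ) : K) := by
  unfold evK evNat
  rw [coe_eval₂Hom]
  have h1 : ((MvPolynomial.eval (fun n => (M.choose n : ℤ)) c : ℤ) : K) =
      (Int.castRingHom K) (MvPolynomial.eval₂ (RingHom.id ℤ) (fun n => (M.choose n : ℤ)) c) := rfl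
  rw [h1, MvPolynomial.eval₂_comp_left]
  congr 1
  funext n
  simp [Ring.choose_natCast]

theorem evNat_eq_evK (M : ℕ) (c : C₀) : evNat M c = evK ℤ (M : ℤ) c := by
  rw [evK_natCast]; simp

/-- a bound for the indices of the variables of a monomial -/
noncomputable def bound (m : Fin 2 × ℕ →₀ ℕ) : ℕ := m.support.sup (fun v => v.2) + 1

theorem lt_bound (m : Fin 2 × ℕ →₀ ℕ) (v : Fin 2 × ℕ) (hv : v ∈ m.support) : v.2 < bound m := by
  unfold bound
  have := Finset.le_sup (f := fun v : Fin 2 × ℕ => v.2) hv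
  omega

/-- **Claim A** for `λ^p` -/
theorem claimA_L (d : ℕ) (hd : 1 ≤ d) (p : ℕ) (hp : 1 ≤ p) (M : ℕ) (m : Fin 2 × ℕ →₀ ℕ)
    (hm : ∀ v ∈ m.support, v.1 = 1 → v.2 + 1 < d) : evNat M (coeff m (L (Td d) p)) = 0 := by
  classical
  let n : Fin 2 → ℕ := ![bound m, d - 1]
  apply coeff_L_evNat n (Td d) M ?_ p hp m ?_
  · rw [eval_Td, gamma_xΩ2_eq_zero n 1 d (by simp [n]; omega), mul_zero]
  · rintro ⟨s, j⟩ hv
    fin_cases s
    · simpa [n] using lt_bound m _ hv
    · have := hm _ hv rfl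
      simp [n]
      simp at this
      omega

/-- **Claim A** for `γ^p` -/
theorem claimA_gammaP (d : ℕ) (hd : 1 ≤ d) (p : ℕ) (hp : 1 ≤ p) (M : ℕ) (m : Fin 2 × ℕ →₀ ℕ)
    (hm : ∀ v ∈ m.support, v.1 = 1 → v.2 + 1 < d) : evNat M (coeff m (gammaP (Td d) p)) = 0 := by
  classical
  let n : Fin 2 → ℕ := ![bound m, d - 1]
  apply coeff_gammaP_evNat n (Td d) M ?_ p hp m ?_
  · rw [eval_Td, gamma_xΩ2_eq_zero n 1 d (by simp [n]; omega), mul_zero]
  · rintro ⟨s, j⟩ hv
    fin_cases s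
    · simpa [n] using lt_bound m _ hv
    · have := hm _ hv rfl
      simp [n]
      simp at this
      omega

theorem claimA_gammaP_evK (d : ℕ) (hd : 1 ≤ d) (p : ℕ) (hp : 1 ≤ p)
    (K : Type*) [CommRing K] [BinomialRing K] (κ : K) (m : Fin 2 × ℕ →₀ ℕ)
    (hm : ∀ v ∈ m.support, v.1 = 1 → v.2 + 1 < d) : evK K κ (coeff m (gammaP (Td d) p)) = 0 := by
  apply LamBE.BE K (coeff m (gammaP (Td d) p))
  intro M
  exact claimA_gammaP d hd p hp M m hm

/-- **Claim B**: weights -/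
theorem claimB (d : ℕ) (hd : 1 ≤ d) (p : ℕ)
    (K : Type*) [CommRing K] [BinomialRing K] (κ : K) (m : Fin 2 × ℕ →₀ ℕ)
    (hm : Finsupp.weight (wt (r := 2)) m < p) : evK K κ (coeff m (gammaP (Td d) p)) = 0 := by
  apply GTT (gammaP (Td d) p) p ?_ K κ m hm
  intro M
  rw [LamApply.model_gammaP, eval_Td]
  have hx0 : LamApply.xΩ p (0 : Fin 2) ∈
      Subring.closure (lineMon (Fin 2 × Fin p) : Set (MvPolynomial (Fin 2 × Fin p) ℚ)) := by
    have := LamApply.gamma_xΩ_mem_closure p (0 : Fin 2) 1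
    rwa [GammaFilt.gamma_one'] at this
  apply gamma_mem_of_mem_closure _
    (mul_mem (add_mem (natCast_mem _ M) hx0) (LamApply.gamma_xΩ_mem_closure p (1 : Fin 2) d))
  rw [← mem_J_iff]
  apply Ideal.mul_mem_left
  exact Ideal.pow_le_self (by omega) (LamApply.gamma_xΩ_mem p (1 : Fin 2) d)

theorem claimB_evNat (d : ℕ) (hd : 1 ≤ d) (p : ℕ) (M : ℕ) (m : Fin 2 × ℕ →₀ ℕ)
    (hm : Finsupp.weight (wt (r := 2)) m < p) : evNat M (coeff m (gammaP (Td d) p)) = 0 := by
  rw [evNat_eq_evK]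
  exact claimB d hd p ℤ _ m hm

/-- **Claim C**: no monomial without a variable of the first group, at the scalar `0` -/
theorem claimC (d : ℕ) (p : ℕ) (hp : 1 ≤ p) (m : Fin 2 × ℕ →₀ ℕ)
    (hm : ∀ v ∈ m.support, v.1 = 1) : evNat 0 (coeff m (gammaP (Td d) p)) = 0 := by
  classical
  let n : Fin 2 → ℕ := ![0, bound m]
  apply coeff_gammaP_evNat n (Td d) 0 ?_ p hp m ?_
  · rw [eval_Td]
    have : xΩ2 n 0 = 0 := by
      unfold xΩ2
      simp [n]
    rw [this, Nat.cast_zero, zero_add, zero_mul]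
  · rintro ⟨s, j⟩ hv
    have h1 := hm _ hv
    simp only at h1
    subst h1
    simpa [n] using lt_bound m _ hv

end Groth.Agent.Helper4.LamDivCoef
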