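import Groth.Agent.Helper4.LamDivCoef
import Mathlib

set_option autoImplicit false

/-!
# Model computations: the leading coefficients of the quotient `γ^p((κ + x_0) γ^d(x_1)) / γ^d(x_1)`
-/

namespace Groth.Agent.Helper4.LamDivModel

open LambdaRing MvPolynomial Finset LamTerm LamTransfer LamModel LamApply3 LamDiv LamDivCoef

attribute [local instance] LamModel.ops

section Sized

variable (n : Fin 2 → ℕ)

theorem gamma_xΩ2_mem (s : Fin 2) (k : ℕ) : gamma k (xΩ2 n s) ∈ J (Idx n) ^ k := by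
  rw [gamma_xΩ2']
  apply LamApply.esymm_mem_pow
  intro a ha
  rw [Multiset.mem_map] at ha
  obtain ⟨b, _, rfl⟩ := ha
  exact X_mem_J _ _

theorem gamma_xΩ2_mem_closure (s : Fin 2) (k : ℕ) :
    gamma k (xΩ2 n s) ∈ Subring.closure (lineMon (Idx n) : Set (MvPolynomial (Idx n) ℚ)) := by
  rw [gamma_xΩ2']
  have h2 := esymm_X_mem_closure (Idx n)
    ((Finset.univ : Finset (Fin (n s))).val.map fun a => (⟨s, a⟩ : Idx n)) k
  rw [Multiset.map_map] at h2
  exact h2

/-- the top class `γ^{n_s}(x_s) = ∏_a u_{s,a}` -/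
theorem gamma_top (s : Fin 2) :
    gamma (n s) (xΩ2 n s) = ∏ a : Fin (n s), (X (⟨s, a⟩ : Idx n) : MvPolynomial (Idx n) ℚ) := by
  rw [gamma_xΩ2']
  have := InvSplit.esymm_card ((Finset.univ : Finset (Fin (n s))).val.map
      fun a => (X (⟨s, a⟩ : Idx n) : MvPolynomial (Idx n) ℚ))
  rw [Multiset.card_map] at this
  simp only [Finset.card_val, Finset.card_univ, Fintype.card_fin] at this
  rw [this]
  rfl

theorem gamma_top_homogeneous (s : Fin 2) : (gamma (n s) (xΩ2 n s)).IsHomogeneous (n s) := by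
  rw [gamma_top]
  have := IsHomogeneous.prod (Finset.univ : Finset (Fin (n s)))
    (fun a => (X (⟨s, a⟩ : Idx n) : MvPolynomial (Idx n) ℚ)) (fun _ => 1)
    (fun a _ => isHomogeneous_X ℚ _)
  simpa using this

theorem gamma_top_ne_zero (s : Fin 2) : gamma (n s) (xΩ2 n s) ≠ 0 := by
  rw [gamma_top]
  rw [Finset.prod_ne_zero_iff]
  intro a _
  exact X_ne_zero _

end Sized

/-- a scalar multiple of a nonzero homogeneous polynomial of degree `k` lying in `J^{k+1}` is zero -/
theorem smul_eq_zero_of_mem {ι : Type} (q : ℚ) (U : MvPolynomial ι ℚ) (k : ℕ)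
    (hU : U.IsHomogeneous k) (hU0 : U ≠ 0) (h : q • U ∈ J ι ^ (k + 1)) : q = 0 := by
  have h1 := homogeneousComponent_eq_zero_of_mem (k + 1) k (Nat.lt_succ_self k) h
  rw [map_smul, homogeneousComponent_of_mem hU, if_pos rfl] at h1
  rcases smul_eq_zero.mp h1 with h2 | h2
  · exact h2
  · exact absurd h2 hU0

/-- **Claim E** at natural scalars -/
theorem claimE_evNat (d : ℕ) (hd : 1 ≤ d) (M : ℕ) :
    evNat M (coeff (δ d) (gammaP (Td d) d)) = cZ d d * M := by
  classical
  let n : Fin 2 → ℕ := ![0, d]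
  have hn1 : n 1 = d := rfl
  set G := gammaP (Td d) d with hG
  set φ := φΩ2 n M with hφ
  set y : Fin 2 × ℕ → MvPolynomial (Idx n) ℚ := fun v => gamma (v.2 + 1) (xΩ2 n v.1) with hy
  set U := gamma d (xΩ2 n 1) with hU
  have hx0 : xΩ2 n 0 = 0 := by
    unfold xΩ2
    simp [n]
  have hev : gamma d (((M : ℕ) : MvPolynomial (Idx n) ℚ) * U) = eval₂ φ y G := by
    have := eval_gammaP (isSpecial _) φ (xΩ2 n) _ (lam_natCast_Ω2 n M) (Td d) d
    rw [eval_Td, hx0, add_zero] at this
    exact this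
  have hdiv : eval₂ φ y G = y (1, d - 1) * quot φ y d G := eval_eq_mul_quot φ y d hd G ?_ ?_
  · have e : d - 1 + 1 = d := by omega
    have hy1 : y (1, d - 1) = U := by
      simp only [hy, e]
      rfl
    rw [hy1] at hdiv
    rw [hdiv] at hev
    -- the two congruences
    have hUJ : U ∈ J (Idx n) ^ d := gamma_xΩ2_mem n 1 d
    have hc1 : quot φ y d G - φ (coeff (δ d) G) ∈ J (Idx n) := by
      apply quot_sub_const_mem
      intro v
      have := gamma_xΩ2_mem n v.1 (v.2 + 1)
      exact Ideal.pow_le_self (by omega) this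
    have hc2 : U * quot φ y d G - U * φ (coeff (δ d) G) ∈ J (Idx n) ^ (d + 1) := by
      rw [← mul_sub, pow_succ]
      exact Ideal.mul_mem_mul hUJ hc1
    have hMU : ((M : ℕ) : MvPolynomial (Idx n) ℚ) * U ∈ J (Idx n) ^ d := Ideal.mul_mem_left _ _ hUJ
    have hc3 := gamma_sub_mem (Idx n) d hd hMU d hd
    rw [hev] at hc3
    have hc4 := sub_mem hc3 hc2
    have hφc : φ (coeff (δ d) G) = C ((evNat M (coeff (δ d) G) : ℤ) : ℚ) := by
      simp [hφ, φΩ2]
    have hc5 : (((cZ d d : ℤ) : ℚ) * (M : ℚ) - ((evNat M (coeff (δ d) G) : ℤ) : ℚ)) • U ∈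
        J (Idx n) ^ (d + 1) := by
      have : (((cZ d d : ℤ) : ℚ) * (M : ℚ) - ((evNat M (coeff (δ d) G) : ℤ) : ℚ)) • U =
          -(U * quot φ y d G - ((cZ d d : ℤ) : ℚ) • (((M : ℕ) : MvPolynomial (Idx n) ℚ) * U) -
          (U * quot φ y d G - U * φ (coeff (δ d) G))) := by
        rw [hφc, sub_smul, MvPolynomial.smul_eq_C_mul, MvPolynomial.smul_eq_C_mul,
          MvPolynomial.smul_eq_C_mul]
        simp only [map_mul, map_natCast]
        ring
      rw [this]
      exact neg_mem hc4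
    have h6 := smul_eq_zero_of_mem _ U d (by rw [hU, ← hn1]; exact gamma_top_homogeneous n 1)
      (by rw [hU, ← hn1]; exact gamma_top_ne_zero n 1) hc5
    have h7 : ((evNat M (coeff (δ d) G) : ℤ) : ℚ) = ((cZ d d * (M : ℤ) : ℤ) : ℚ) := by
      push_cast
      linarith
    exact_mod_cast h7
  · intro m hm
    have := claimA_gammaP d hd d hd M m hm
    simp only [hφ, φΩ2, RingHom.comp_apply]
    rw [this]
    simp
  · intro j hj
    simp only [hy]
    exact gamma_xΩ2_eq_zero n 1 (j + 1) (by rw [hn1]; omega)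

/-- **Claim E** -/
theorem claimE (d : ℕ) (hd : 1 ≤ d) (K : Type*) [CommRing K] [BinomialRing K] (κ : K) :
    evK K κ (coeff (δ d) (gammaP (Td d) d)) = ((cZ d d : ℤ) : K) * κ := by
  have h := LamBE.BE K (coeff (δ d) (gammaP (Td d) d) - C (cZ d d) * X 1) ?_ κ
  · rw [eval₂_sub, eval₂_mul, eval₂_C, eval₂_X, Ring.choose_one_right, sub_eq_zero] at h
    exact h
  · intro M
    rw [map_sub, map_mul, eval_C, eval_X, Nat.choose_one_right, sub_eq_zero]
    exact claimE_evNat d hd M

/-- **Claim D**: the coefficient of `Y_{0,i-1} Y_{1,d-1}` -/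
theorem claimD (d : ℕ) (hd : 1 ≤ d) (i : ℕ) (hi : 1 ≤ i) :
    evNat 0 (coeff (mstar d i) (gammaP (Td d) (d + i))) * cZ i i = cZ (d + i) (d + i) := by
  classical
  let n : Fin 2 → ℕ := ![i, d]
  have hn0 : n 0 = i := rfl
  have hn1 : n 1 = d := rfl
  set G := gammaP (Td d) (d + i) with hG
  set φ := φΩ2 n 0 with hφ
  set P0 : MvPolynomial (Idx n) ℚ := gamma i (xΩ2 n 0) with hP0
  let xs : Fin 2 → MvPolynomial (Idx n) ℚ := ![P0, xΩ2 n 1]
  have hxs0 : xs 0 = P0 := rfl
  have hxs1 : xs 1 = xΩ2 n 1 := rfl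
  set y : Fin 2 × ℕ → MvPolynomial (Idx n) ℚ := fun v => gamma (v.2 + 1) (xs v.1) with hy
  set U := gamma d (xΩ2 n 1) with hU
  have hP0J : P0 ∈ J (Idx n) ^ i := gamma_xΩ2_mem n 0 i
  have hUJ : U ∈ J (Idx n) ^ d := gamma_xΩ2_mem n 1 d
  have hev : gamma (d + i) (P0 * U) = eval₂ φ y G := by
    have := eval_gammaP (isSpecial _) φ xs _ (lam_natCast_Ω2 n 0) (Td d) (d + i)
    rw [eval_Td, Nat.cast_zero, zero_add] at this
    exact this
  have hdiv : eval₂ φ y G = y (1, d - 1) * quot φ y d G := eval_eq_mul_quot φ y d hd G ?_ ?_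
  · have e : d - 1 + 1 = d := by omega
    have e' : i - 1 + 1 = i := by omega
    have hy1 : y (1, d - 1) = U := by
      simp only [hy, e]
      rfl
    have hy0 : y (0, i - 1) = gamma i P0 := by
      simp only [hy, e']
      rfl
    rw [hy1] at hdiv
    rw [hdiv] at hev
    have hP0cl : P0 ∈ Subring.closure (lineMon (Idx n) : Set (MvPolynomial (Idx n) ℚ)) :=
      gamma_xΩ2_mem_closure n 0 i
    have hP0c : constantCoeff P0 = 0 := by
      rw [← mem_J_iff]
      exact Ideal.pow_le_self (by omega) hP0J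
    have hq := quot_sub_mem (fun k => J (Idx n) ^ k) (by simp)
      (fun a b x y hx hy => by rw [pow_add]; exact Ideal.mul_mem_mul hx hy)
      (fun a b hab => Ideal.pow_le_pow_right hab) φ y d hd G i hi ?_ ?_ ?_ ?_
    · rw [hy0] at hq
      -- γ^i(P0) ≡ c_{i,i} P0
      have hc1 := gamma_sub_mem (Idx n) i hi hP0J i hi
      -- combine: quot ≡ c* c_{i,i} P0 mod J^{i+1}
      have hφc : φ (coeff (mstar d i) G) = C ((evNat 0 (coeff (mstar d i) G) : ℤ) : ℚ) := by
        simp [hφ, φΩ2]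
      set cs : ℚ := ((evNat 0 (coeff (mstar d i) G) : ℤ) : ℚ) with hcs
      have hc2 : quot φ y d G - (cs * ((cZ i i : ℤ) : ℚ)) • P0 ∈ J (Idx n) ^ (i + 1) := by
        have : quot φ y d G - (cs * ((cZ i i : ℤ) : ℚ)) • P0 =
            (quot φ y d G - φ (coeff (mstar d i) G) * gamma i P0) +
              C cs * (gamma i P0 - ((cZ i i : ℤ) : ℚ) • P0) := by
          rw [hφc, MvPolynomial.smul_eq_C_mul, MvPolynomial.smul_eq_C_mul, map_mul]
          ring
        rw [this]
        exact add_mem hq (Ideal.mul_mem_left _ _ hc1)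
      have hc3 : U * quot φ y d G - (cs * ((cZ i i : ℤ) : ℚ)) • (P0 * U) ∈
          J (Idx n) ^ (d + i + 1) := by
        have : U * quot φ y d G - (cs * ((cZ i i : ℤ) : ℚ)) • (P0 * U) =
            U * (quot φ y d G - (cs * ((cZ i i : ℤ) : ℚ)) • P0) := by
          rw [MvPolynomial.smul_eq_C_mul, MvPolynomial.smul_eq_C_mul]
          ring
        rw [this, add_assoc, pow_add]
        exact Ideal.mul_mem_mul hUJ hc2
      have hPU : P0 * U ∈ J (Idx n) ^ (d + i) := by
        rw [add_comm, pow_add]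
        exact Ideal.mul_mem_mul hP0J hUJ
      have hc4 := gamma_sub_mem (Idx n) (d + i) (by omega) hPU (d + i) (by omega)
      rw [hev] at hc4
      have hc5 : (cs * ((cZ i i : ℤ) : ℚ) - ((cZ (d + i) (d + i) : ℤ) : ℚ)) • (P0 * U) ∈
          J (Idx n) ^ (d + i + 1) := by
        have : (cs * ((cZ i i : ℤ) : ℚ) - ((cZ (d + i) (d + i) : ℤ) : ℚ)) • (P0 * U) =
            (U * quot φ y d G - ((cZ (d + i) (d + i) : ℤ) : ℚ) • (P0 * U)) -
            (U * quot φ y d G - (cs * ((cZ i i : ℤ) : ℚ)) • (P0 * U)) := by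
          rw [sub_smul]; ring
        rw [this]
        exact sub_mem hc4 hc3
      have hhom : (P0 * U).IsHomogeneous (d + i) := by
        rw [add_comm]
        have h1 := gamma_top_homogeneous n 0
        have h2 := gamma_top_homogeneous n 1
        rw [hn0] at h1
        rw [hn1] at h2
        exact h1.mul h2
      have hne : P0 * U ≠ 0 := by
        have h1 := gamma_top_ne_zero n 0
        have h2 := gamma_top_ne_zero n 1
        rw [hn0] at h1
        rw [hn1] at h2
        exact mul_ne_zero h1 h2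
      have h6 := smul_eq_zero_of_mem _ (P0 * U) (d + i) hhom hne hc5
      have h7 : ((evNat 0 (coeff (mstar d i) G) * cZ i i : ℤ) : ℚ) =
          ((cZ (d + i) (d + i) : ℤ) : ℚ) := by
        push_cast
        linarith
      exact_mod_cast h7
    · -- hB
      intro m hm
      have := claimB_evNat d hd (d + i) 0 m hm
      simp only [hφ, φΩ2, RingHom.comp_apply]
      rw [this]
      simp
    · -- hC
      intro m hm
      have := claimC d (d + i) (by omega) m hm
      simp only [hφ, φΩ2, RingHom.comp_apply]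
      rw [this]
      simp
    · -- hy0
      intro j
      simp only [hy, hxs0]
      have h1 : gamma (j + 1) P0 ∈ J (Idx n) ^ i :=
        LamModel.gamma_mem (Idx n) i hi hP0J (j + 1) (by omega)
      have h2 : gamma (j + 1) P0 ∈ J (Idx n) ^ (j + 1) :=
        gamma_mem_of_mem_closure (Idx n) hP0cl hP0c (j + 1)
      rcases le_total i (j + 1) with h | h
      · rw [max_eq_right h]; exact h2
      · rw [max_eq_left h]; exact h1
    · -- hy1
      intro j
      simp only [hy, hxs1]
      exact gamma_xΩ2_mem n 1 (j + 1)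
  · intro m hm
    have := claimA_gammaP d hd (d + i) (by omega) 0 m hm
    simp only [hφ, φΩ2, RingHom.comp_apply]
    rw [this]
    simp
  · intro j hj
    simp only [hy, hxs1]
    exact gamma_xΩ2_eq_zero n 1 (j + 1) (by rw [hn1]; omega)

end Groth.Agent.Helper4.LamDivModel
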