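import Groth.Agent.S8689
import Groth.Agent.Helper4.AdamsExp
import Groth.Agent.Helper4.GammaOps
import Mathlib

set_option autoImplicit false

/-!
# The split model: `ℚ[u_i]` with line elements `1 + u_i`

The ring `Ω = MvPolynomial ι ℚ` carries Adams operations `ψ^k (u_i) = (1 + u_i)^k - 1`; these are
commuting ring homomorphisms, hence define a special λ-structure in which every `1 + u_i` is a line
element.  `J = idealOfVars` is the augmentation ideal.
-/

namespace Groth.Agent.Helper4.LamModel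

open LambdaRing MvPolynomial Finset

variable (ι : Type) 

/-- `ψ^k` as an algebra endomorphism. -/
noncomputable def psiHom (k : ℕ) : MvPolynomial ι ℚ →ₐ[ℚ] MvPolynomial ι ℚ :=
  aeval (fun i => (1 + X i) ^ k - 1)

theorem psiHom_X (k : ℕ) (i : ι) : psiHom ι k (X i) = (1 + X i) ^ k - 1 := by
  simp [psiHom]

theorem psiHom_one_add_X (k : ℕ) (i : ι) : psiHom ι k (1 + X i) = (1 + X i) ^ k := by
  rw [map_add, map_one, psiHom_X]; ring

theorem psiHom_one : psiHom ι 1 = AlgHom.id ℚ _ := by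
  ext i
  simp [psiHom]

theorem psiHom_comp (k l : ℕ) : (psiHom ι k).comp (psiHom ι l) = psiHom ι (k * l) := by
  ext i
  rw [AlgHom.comp_apply, psiHom_X, map_sub, map_pow, psiHom_one_add_X, map_one, psiHom_X,
    ← pow_mul]

/-- the additive Adams operations -/
noncomputable def psi (k : ℕ) : MvPolynomial ι ℚ →+ MvPolynomial ι ℚ :=
  (psiHom ι k : MvPolynomial ι ℚ →+* MvPolynomial ι ℚ).toAddMonoidHom

theorem psi_apply (k : ℕ) (z : MvPolynomial ι ℚ) : psi ι k z = psiHom ι k z := rfl

theorem psi_one : psi ι 1 = AddMonoidHom.id _ := by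
  apply AddMonoidHom.ext
  intro z
  rw [psi_apply, psiHom_one]; rfl

/-- The λ-structure of the model. -/
@[reducible] noncomputable def ops : LambdaOps (MvPolynomial ι ℚ) :=
  AdamsExp.lambdaOpsOf (psi ι) (psi_one ι)

attribute [local instance] ops

theorem adamsOp_eq (k : ℕ) (hk : 1 ≤ k) (z : MvPolynomial ι ℚ) : adamsOp k z = psiHom ι k z :=
  AdamsExp.adamsOp_lambdaOpsOf (psi ι) (psi_one ι) k hk z

theorem isSpecial : IsSpecial (MvPolynomial ι ℚ) := by
  apply Groth.Agent.S8689.result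
  · intro k hk
    rw [adamsOp_eq ι k hk, map_one]
  · intro k hk x y
    rw [adamsOp_eq ι k hk, adamsOp_eq ι k hk, adamsOp_eq ι k hk, map_mul]
  · intro k k' hk hk' x
    rw [adamsOp_eq ι k' hk', adamsOp_eq ι k hk, adamsOp_eq ι (k * k') (Nat.mul_pos hk hk'),
      ← psiHom_comp]
    rfl

theorem lam_one_eq_zero (k : ℕ) (hk : 2 ≤ k) : LambdaOps.lam k (1 : MvPolynomial ι ℚ) = 0 :=
  (isSpecial ι).lam_one_eq_zero k hk

/-- Newton's recursion in the model. -/
theorem newton (z : MvPolynomial ι ℚ) (n : ℕ) :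
    LambdaOps.lam (n + 1) z * ((n : MvPolynomial ι ℚ) + 1) =
      ∑ k ∈ range (n + 1), (-1) ^ k * psiHom ι (k + 1) z * LambdaOps.lam (n - k) z :=
  AdamsExp.lamOf_succ (psi ι) n z

/-- An element `y` with `ψ^k y = y^k` is a line element. -/
theorem lam_eq_zero_of_psi_pow (y : MvPolynomial ι ℚ) (hy : ∀ k : ℕ, 1 ≤ k → psiHom ι k y = y ^ k)
    (n : ℕ) (hn : 2 ≤ n) : LambdaOps.lam n y = 0 := by
  induction n using Nat.strong_induction_on with
  | _ n ih =>
    obtain ⟨m, rfl⟩ : ∃ m, n = m + 2 := ⟨n - 2, by omega⟩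
    have h := newton ι y (m + 1)
    rw [Finset.sum_range_succ, Finset.sum_range_succ] at h
    have h0 : ∑ k ∈ range m, (-1 : MvPolynomial ι ℚ) ^ k * psiHom ι (k + 1) y *
        LambdaOps.lam (m + 1 - k) y = 0 := by
      apply Finset.sum_eq_zero
      intro k hk
      rw [Finset.mem_range] at hk
      rw [ih (m + 1 - k) (by omega) (by omega), mul_zero]
    rw [h0, zero_add, hy _ (by omega), hy _ (by omega)] at h
    have e1 : m + 1 - m = 1 := by omega
    have e2 : m + 1 - (m + 1) = 0 := by omega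
    rw [e1, e2, LambdaOps.lam_one, LambdaOps.lam_zero] at h
    have h' : LambdaOps.lam (m + 1 + 1) y * (((m + 1 : ℕ) : MvPolynomial ι ℚ) + 1) = 0 := by
      rw [h]; ring
    exact (AdamsOps.isUnit_natCast_succ (A := MvPolynomial ι ℚ) (m + 1)).mul_left_eq_zero.mp h'

theorem lam_one_add_X (i : ι) (n : ℕ) (hn : 2 ≤ n) :
    LambdaOps.lam n (1 + X i : MvPolynomial ι ℚ) = 0 :=
  lam_eq_zero_of_psi_pow ι _ (fun k _ => psiHom_one_add_X ι k i) n hn

/-- `γ^k` of a sum of variables is the elementary symmetric function. -/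
theorem gamma_sum_X (s : Multiset ι) (k : ℕ) :
    gamma k ((s.map (fun i => (X i : MvPolynomial ι ℚ))).sum) =
      (s.map (fun i => (X i : MvPolynomial ι ℚ))).esymm k := by
  have h := GammaOps.gamma_sum_sub_one (K := MvPolynomial ι ℚ) (lam_one_eq_zero ι)
    (s.map (fun i => (1 + X i : MvPolynomial ι ℚ)))
    (by
      intro y hy j hj
      rw [Multiset.mem_map] at hy
      obtain ⟨i, _, rfl⟩ := hy
      exact lam_one_add_X ι i j hj) k
  rw [Multiset.map_map] at h
  have e : ((fun y : MvPolynomial ι ℚ => y - 1) ∘ fun i => (1 + X i : MvPolynomial ι ℚ)) =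
      fun i => X i := by
    funext i; simp
  rw [e] at h
  exact h

end Groth.Agent.Helper4.LamModel
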