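import Groth.Agent.Helper4.LamModel
import Mathlib

set_option autoImplicit false

/-! # `J`-adic computations in the split model -/

namespace Groth.Agent.Helper4.LamModel

open LambdaRing MvPolynomial Finset

variable (ι : Type)

attribute [local instance] ops

/-- the augmentation ideal of the model -/
noncomputable abbrev J : Ideal (MvPolynomial ι ℚ) := idealOfVars ι ℚ

theorem X_mem_J (i : ι) : (X i : MvPolynomial ι ℚ) ∈ J ι := Ideal.subset_span ⟨i, rfl⟩

theorem one_add_X_pow_expand (k : ℕ) (i : ι) :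
    ∃ q : MvPolynomial ι ℚ, (1 + X i) ^ k = 1 + (k : MvPolynomial ι ℚ) * X i + X i * X i * q := by
  induction k with
  | zero => exact ⟨0, by simp⟩
  | succ k ih =>
    obtain ⟨q, hq⟩ := ih
    refine ⟨(k : MvPolynomial ι ℚ) + q + X i * q, ?_⟩
    rw [pow_succ, hq]
    push_cast
    ring

theorem psiHom_X_mem_J (k : ℕ) (i : ι) : psiHom ι k (X i) ∈ J ι := by
  obtain ⟨q, hq⟩ := one_add_X_pow_expand ι k i
  rw [psiHom_X, hq]
  have : (1 + (k : MvPolynomial ι ℚ) * X i + X i * X i * q - 1) =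
      ((k : MvPolynomial ι ℚ) + X i * q) * X i := by ring
  rw [this]
  exact Ideal.mul_mem_left _ _ (X_mem_J ι i)

theorem psiHom_X_sub_mem (k : ℕ) (i : ι) :
    psiHom ι k (X i) - (k : MvPolynomial ι ℚ) * X i ∈ J ι ^ 2 := by
  obtain ⟨q, hq⟩ := one_add_X_pow_expand ι k i
  rw [psiHom_X, hq]
  have : (1 + (k : MvPolynomial ι ℚ) * X i + X i * X i * q - 1 - (k : MvPolynomial ι ℚ) * X i) =
      q * (X i * X i) := by ring
  rw [this, pow_two]
  exact Ideal.mul_mem_left _ _ (Ideal.mul_mem_mul (X_mem_J ι i) (X_mem_J ι i))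

/-- `ψ^k p ≡ p` modulo `J`. -/
theorem psiHom_sub_self_mem (k : ℕ) (p : MvPolynomial ι ℚ) : psiHom ι k p - p ∈ J ι := by
  induction p using MvPolynomial.induction_on with
  | C a =>
    have : psiHom ι k (C a) = C a := by
      rw [← algebraMap_eq, AlgHom.commutes]
    rw [this, sub_self]; exact zero_mem _
  | add p q hp hq =>
    rw [map_add]
    have : psiHom ι k p + psiHom ι k q - (p + q) = (psiHom ι k p - p) + (psiHom ι k q - q) := by ring
    rw [this]; exact add_mem hp hq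
  | mul_X p i hp =>
    rw [map_mul]
    exact sub_mem (Ideal.mul_mem_left _ _ (psiHom_X_mem_J ι k i))
      (Ideal.mul_mem_left _ _ (X_mem_J ι i))

theorem psiHom_mem_J (k : ℕ) {a : MvPolynomial ι ℚ} (ha : a ∈ J ι) : psiHom ι k a ∈ J ι := by
  have := add_mem (psiHom_sub_self_mem ι k a) ha
  simpa using this

/-- `ψ^k a ≡ k a` modulo `J²` for `a ∈ J`. -/
theorem psiHom_sub_smul_mem (k : ℕ) {a : MvPolynomial ι ℚ} (ha : a ∈ J ι) :
    psiHom ι k a - (k : MvPolynomial ι ℚ) * a ∈ J ι ^ 2 := by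
  refine Submodule.span_induction (p := fun a _ => psiHom ι k a - (k : MvPolynomial ι ℚ) * a ∈ J ι ^ 2)
    ?_ ?_ ?_ ?_ ha
  · rintro _ ⟨i, rfl⟩
    exact psiHom_X_sub_mem ι k i
  · simp
  · intro x y _ _ hx hy
    rw [map_add]
    have : psiHom ι k x + psiHom ι k y - (k : MvPolynomial ι ℚ) * (x + y) =
        (psiHom ι k x - (k : MvPolynomial ι ℚ) * x) + (psiHom ι k y - (k : MvPolynomial ι ℚ) * y) := by
      ring
    rw [this]; exact add_mem hx hy
  · intro p x hx0 hx
    rw [smul_eq_mul, map_mul]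
    have : psiHom ι k p * psiHom ι k x - (k : MvPolynomial ι ℚ) * (p * x) =
        psiHom ι k p * (psiHom ι k x - (k : MvPolynomial ι ℚ) * x) +
          (k : MvPolynomial ι ℚ) * ((psiHom ι k p - p) * x) := by ring
    rw [this]
    refine add_mem (Ideal.mul_mem_left _ _ hx) (Ideal.mul_mem_left _ _ ?_)
    rw [pow_two]
    exact Ideal.mul_mem_mul (psiHom_sub_self_mem ι k p) hx0

/-- `ψ^k z ≡ k^m z` modulo `J^(m+1)` for `z ∈ J^m`. -/
theorem psiHom_sub_pow_smul_mem (k m : ℕ) {z : MvPolynomial ι ℚ} (hz : z ∈ J ι ^ m) :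
    psiHom ι k z - (k : MvPolynomial ι ℚ) ^ m * z ∈ J ι ^ (m + 1) := by
  induction m generalizing z with
  | zero => simpa using psiHom_sub_self_mem ι k z
  | succ m ih =>
    rw [pow_succ'] at hz
    refine Submodule.mul_induction_on hz ?_ ?_
    · intro a ha b hb
      rw [map_mul]
      have : psiHom ι k a * psiHom ι k b - (k : MvPolynomial ι ℚ) ^ (m + 1) * (a * b) =
          psiHom ι k a * (psiHom ι k b - (k : MvPolynomial ι ℚ) ^ m * b) +
            (k : MvPolynomial ι ℚ) ^ m * ((psiHom ι k a - (k : MvPolynomial ι ℚ) * a) * b) := by ring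
      rw [this]
      refine add_mem ?_ (Ideal.mul_mem_left _ _ ?_)
      · rw [pow_succ' (J ι) (m + 1)]
        exact Ideal.mul_mem_mul (psiHom_mem_J ι k ha) (ih hb)
      · have h2 := Ideal.mul_mem_mul (psiHom_sub_smul_mem ι k ha) hb
        rw [← pow_add] at h2
        have e : 2 + m = m + 1 + 1 := by omega
        rwa [e] at h2
    · intro x y hx hy
      rw [map_add]
      have : psiHom ι k x + psiHom ι k y - (k : MvPolynomial ι ℚ) ^ (m + 1) * (x + y) =
          (psiHom ι k x - (k : MvPolynomial ι ℚ) ^ (m + 1) * x) +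
            (psiHom ι k y - (k : MvPolynomial ι ℚ) ^ (m + 1) * y) := by ring
      rw [this]; exact add_mem hx hy

theorem psiHom_mem_pow (k m : ℕ) {z : MvPolynomial ι ℚ} (hz : z ∈ J ι ^ m) :
    psiHom ι k z ∈ J ι ^ m := by
  have h1 := psiHom_sub_pow_smul_mem ι k m hz
  have h2 : psiHom ι k z - (k : MvPolynomial ι ℚ) ^ m * z ∈ J ι ^ m :=
    Ideal.pow_le_pow_right (Nat.le_succ m) h1
  have := add_mem h2 (Ideal.mul_mem_left _ ((k : MvPolynomial ι ℚ) ^ m) hz)
  simpa using this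

/-- Main computation: `λ^n z ≡ (-1)^(n-1) n^(m-1) z` modulo `J^(m+1)` for `z ∈ J^m`, `m, n ≥ 1`. -/
theorem lam_sub_mem (m : ℕ) (hm : 1 ≤ m) {z : MvPolynomial ι ℚ} (hz : z ∈ J ι ^ m) (n : ℕ) :
    LambdaOps.lam (n + 1) z - ((-1 : ℚ) ^ n * (n + 1 : ℚ) ^ (m - 1)) • z ∈ J ι ^ (m + 1) := by
  induction n using Nat.strong_induction_on with
  | _ n ih =>
    have hlam_mem : ∀ j, j < n → LambdaOps.lam (j + 1) z ∈ J ι ^ m := by
      intro j hj
      have h1 := Ideal.pow_le_pow_right (Nat.le_succ m) (ih j hj)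
      have h2 : ((-1 : ℚ) ^ j * (j + 1 : ℚ) ^ (m - 1)) • z ∈ J ι ^ m :=
        Submodule.smul_of_tower_mem _ _ hz
      have := add_mem h1 h2
      simpa using this
    have h := newton ι z n
    rw [Finset.sum_range_succ, Nat.sub_self, LambdaOps.lam_zero, mul_one] at h
    have hsum : ∑ k ∈ range n, (-1 : MvPolynomial ι ℚ) ^ k * psiHom ι (k + 1) z *
        LambdaOps.lam (n - k) z ∈ J ι ^ (m + 1) := by
      apply Ideal.sum_mem
      intro k hk
      rw [Finset.mem_range] at hk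
      have e : n - k = (n - k - 1) + 1 := by omega
      rw [e, mul_assoc]
      refine Ideal.mul_mem_left _ _ ?_
      have h2 := Ideal.mul_mem_mul (psiHom_mem_pow ι (k + 1) m hz) (hlam_mem (n - k - 1) (by omega))
      rw [← pow_add] at h2
      exact Ideal.pow_le_pow_right (by omega) h2
    have hlast : (-1 : MvPolynomial ι ℚ) ^ n * psiHom ι (n + 1) z -
        (-1 : MvPolynomial ι ℚ) ^ n * (((n + 1 : ℕ) : MvPolynomial ι ℚ) ^ m * z) ∈ J ι ^ (m + 1) := by
      rw [← mul_sub]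
      exact Ideal.mul_mem_left _ _ (psiHom_sub_pow_smul_mem ι (n + 1) m hz)
    have hkey : LambdaOps.lam (n + 1) z * ((n : MvPolynomial ι ℚ) + 1) -
        (-1 : MvPolynomial ι ℚ) ^ n * (((n + 1 : ℕ) : MvPolynomial ι ℚ) ^ m * z) ∈ J ι ^ (m + 1) := by
      rw [h]
      have : ∑ k ∈ range n, (-1 : MvPolynomial ι ℚ) ^ k * psiHom ι (k + 1) z * LambdaOps.lam (n - k) z +
          (-1) ^ n * psiHom ι (n + 1) z - (-1) ^ n * (((n + 1 : ℕ) : MvPolynomial ι ℚ) ^ m * z) =
          ∑ k ∈ range n, (-1 : MvPolynomial ι ℚ) ^ k * psiHom ι (k + 1) z * LambdaOps.lam (n - k) z +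
          ((-1) ^ n * psiHom ι (n + 1) z - (-1) ^ n * (((n + 1 : ℕ) : MvPolynomial ι ℚ) ^ m * z)) := by
        ring
      rw [this]
      exact add_mem hsum hlast
    -- divide by n+1
    have hdiv := Submodule.smul_of_tower_mem (J ι ^ (m + 1)) ((1 : ℚ) / (n + 1)) hkey
    have hne : ((n : ℚ) + 1) ≠ 0 := by positivity
    have hm' : m = (m - 1) + 1 := by omega
    convert hdiv using 1
    rw [smul_sub, Algebra.smul_def, Algebra.smul_def, Algebra.smul_def]
    have hc : (algebraMap ℚ (MvPolynomial ι ℚ)) (1 / ((n : ℚ) + 1)) * ((n : MvPolynomial ι ℚ) + 1) = 1 := by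
      have : ((n : MvPolynomial ι ℚ) + 1) = algebraMap ℚ (MvPolynomial ι ℚ) ((n : ℚ) + 1) := by simp
      rw [this, ← map_mul, one_div, inv_mul_cancel₀ hne, map_one]
    have hc2 : (algebraMap ℚ (MvPolynomial ι ℚ)) (1 / ((n : ℚ) + 1)) *
        ((-1 : MvPolynomial ι ℚ) ^ n * (((n + 1 : ℕ) : MvPolynomial ι ℚ) ^ m * z)) =
        (algebraMap ℚ (MvPolynomial ι ℚ)) ((-1) ^ n * ((n : ℚ) + 1) ^ (m - 1)) * z := by
      have e1 : (((n + 1 : ℕ) : MvPolynomial ι ℚ)) = algebraMap ℚ (MvPolynomial ι ℚ) ((n : ℚ) + 1) := by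
        simp
      have e2 : (-1 : MvPolynomial ι ℚ) = algebraMap ℚ (MvPolynomial ι ℚ) (-1) := by simp
      rw [e1, e2, ← map_pow, ← map_pow, ← mul_assoc, ← mul_assoc, ← map_mul, ← map_mul]
      congr 2
      conv_lhs => rw [hm']
      rw [pow_succ]
      field_simp
    rw [hc2]
    congr 1
    rw [mul_comm (LambdaOps.lam (n + 1) z), ← mul_assoc, hc, one_mul]

end Groth.Agent.Helper4.LamModel
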