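import Mathlib
import Groth.Prelude.Def_LambdaSp
import Groth.Agent.Helper4.SymPoly4

/-!
# Helper4: the universal polynomials `P_n` exist (assembly)
-/

namespace Groth.Agent.Helper4.SymPoly
open MvPolynomial Finset

variable (n : ℕ)

/-- weights of the variables of `ℤ[X ⊕ Y]`. -/
def vW : Fin n ⊕ Fin n → ℕ × ℕ := Sum.elim (fun _ => (1, 0)) (fun _ => (0, 1))

/-- weights of the variables of `ℤ[e ⊕ e']`. -/
def wW : Fin n ⊕ Fin n → ℕ × ℕ :=
  Sum.elim (fun k : Fin n => (((k : ℕ) + 1, 0) : ℕ × ℕ)) (fun k : Fin n => ((0, (k : ℕ) + 1) : ℕ × ℕ))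

theorem rename_esymm_eq {τ : Type*} (f : Fin n → τ) (k : ℕ) :
    rename f (esymm (Fin n) ℤ k) =
      ((univ : Finset (Fin n)).val.map (fun i => (X (f i) : MvPolynomial τ ℤ))).esymm k := by
  rw [esymm_eq_multiset_esymm]
  have := map_multiset_esymm (rename f : MvPolynomial (Fin n) ℤ →ₐ[ℤ] MvPolynomial τ ℤ).toRingHom
    ((univ : Finset (Fin n)).val.map X) k
  simp only [AlgHom.toRingHom_eq_coe, RingHom.coe_coe] at this
  rw [this, Multiset.map_map]
  congr 1
  apply Multiset.map_congr rfl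
  intro i _
  simp

theorem E_isWeightedHomogeneous (k : Fin n ⊕ Fin n) :
    IsWeightedHomogeneous (vW n) (E n k) (wW n k) := by
  classical
  rcases k with k | k
  · simp only [E, wW, Sum.elim_inl]
    rw [rename_esymm_eq]
    have := esymm_map_val_isWeightedHomogeneous (R := ℤ) (vW n)
      (fun i : Fin n => (X (Sum.inl i) : MvPolynomial (Fin n ⊕ Fin n) ℤ)) univ ((1, 0) : ℕ × ℕ)
      (fun a _ => isWeightedHomogeneous_X ℤ (vW n) (Sum.inl a)) ((k : ℕ) + 1)
    simpa using this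
  · simp only [E, wW, Sum.elim_inr]
    rw [rename_esymm_eq]
    have := esymm_map_val_isWeightedHomogeneous (R := ℤ) (vW n)
      (fun i : Fin n => (X (Sum.inr i) : MvPolynomial (Fin n ⊕ Fin n) ℤ)) univ ((0, 1) : ℕ × ℕ)
      (fun a _ => isWeightedHomogeneous_X ℤ (vW n) (Sum.inr a)) ((k : ℕ) + 1)
    simpa using this

theorem mulGen_isWeightedHomogeneous (k : ℕ) :
    IsWeightedHomogeneous (vW n) (LambdaRing.mulGen n k) ((k, k) : ℕ × ℕ) := by
  classical
  unfold LambdaRing.mulGen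
  have := esymm_map_val_isWeightedHomogeneous (R := ℤ) (vW n)
    (fun ab : Fin n × Fin n =>
      (X (Sum.inl ab.1) * X (Sum.inr ab.2) : MvPolynomial (Fin n ⊕ Fin n) ℤ)) univ ((1, 1) : ℕ × ℕ)
    (fun ab _ => by
      have h1 := isWeightedHomogeneous_X ℤ (vW n) (Sum.inl ab.1)
      have h2 := isWeightedHomogeneous_X ℤ (vW n) (Sum.inr ab.2)
      have := h1.mul h2
      simpa [vW] using this) k
  simpa using this

theorem exists_isMulPoly : ∃ P : MvPolynomial (Fin n ⊕ Fin n) ℤ, LambdaRing.IsMulPoly n P := by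
  classical
  obtain ⟨Q₁, hQ₁⟩ := (esymmAlgHom_fin_bijective (MvPolynomial (Fin n) ℤ) n).2
    ⟨mulGenRel n n, mulGenRel_isSymmetric n n⟩
  have hQ₁' : aeval (fun k : Fin n => esymm (Fin n) (MvPolynomial (Fin n) ℤ) ((k : ℕ) + 1)) Q₁ =
      mulGenRel n n := by rw [← esymmAlgHom_apply, hQ₁]
  have hinv : ∀ τ : Equiv.Perm (Fin n),
      map (rename τ : MvPolynomial (Fin n) ℤ →ₐ[ℤ] _).toRingHom Q₁ = Q₁ := by
    intro τ
    apply esymmAlgHom_fin_injective (MvPolynomial (Fin n) ℤ) (le_refl n)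
    apply Subtype.ext
    rw [esymmAlgHom_apply, esymmAlgHom_apply,
      ← map_aeval_of_fixed _ _ (fun k => map_esymm _ _ _ _), hQ₁', map_rename_mulGenRel]
  have hcoef : ∀ d, ∃ q : MvPolynomial (Fin n) ℤ,
      aeval (fun k : Fin n => esymm (Fin n) ℤ ((k : ℕ) + 1)) q = coeff d Q₁ := by
    intro d
    have hsym : (coeff d Q₁).IsSymmetric := by
      intro τ
      have := congrArg (coeff d) (hinv τ)
      rwa [coeff_map] at this
    obtain ⟨q, hq⟩ := (esymmAlgHom_fin_bijective ℤ n).2 ⟨coeff d Q₁, hsym⟩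
    exact ⟨q, by rw [← esymmAlgHom_apply, hq]⟩
  choose q hq using hcoef
  let Q₂ : MvPolynomial (Fin n) (MvPolynomial (Fin n) ℤ) := ∑ d ∈ Q₁.support, monomial d (q d)
  have hQ₂ : map (aeval (fun k : Fin n => esymm (Fin n) ℤ ((k : ℕ) + 1))
          : MvPolynomial (Fin n) ℤ →ₐ[ℤ] _).toRingHom Q₂ = Q₁ := by
    simp only [Q₂, map_sum, map_monomial]
    conv_rhs => rw [← support_sum_monomial_coeff Q₁]
    apply Finset.sum_congr rfl
    intro d _
    congr 1
    exact hq d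
  have hP₀ : aeval (E n) (Θ n Q₂) = LambdaRing.mulGen n n := by
    rw [aeval_E_Θ, hQ₂, hQ₁', Θ_mulGenRel]
  refine ⟨weightedHomogeneousComponent (wW n) (n, n) (Θ n Q₂), ?_,
    weightedHomogeneousComponent_isWeightedHomogeneous _ _⟩
  have := aeval_weightedHomogeneousComponent (wW n) (vW n) (E n) (E_isWeightedHomogeneous n)
    (Θ n Q₂) (m := (n, n)) (by rw [hP₀]; exact mulGen_isWeightedHomogeneous n n)
  rw [hP₀] at this
  exact this

end Groth.Agent.Helper4.SymPoly
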