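import Groth.Agent.Helper4.SymPoly3
import Groth.Agent.Helper4.SymPoly5
import Groth.Agent.Helper4.Newt4
import Groth.Agent.Helper4.LamSeries
import Mathlib

set_option autoImplicit false

/-!
# λ-terms and their universal polynomials

A term in `r` variables `x_s` (thought of as lying in the augmentation ideal), a scalar `κ`,
natural constants, sums, products and λ-operations.  For every term `t` and every `n` there is a
polynomial `L t n` in the variables `Y_{s,j} ↔ γ^{j+1}(x_s)` with coefficients in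
`C₀ = ℤ[X_0, X_1, …]` (`X_n ↔ λ^n(κ)`) computing `λ^n(t)` in every special λ-ring.
-/

namespace Groth.Agent.Helper4.LamTerm

open LambdaRing MvPolynomial Finset

/-- the chosen universal polynomial `P_n` -/
noncomputable def Pn (n : ℕ) : MvPolynomial (Fin n ⊕ Fin n) ℤ :=
  Classical.choose (Groth.Agent.Helper4.SymPoly.exists_isMulPoly n)

theorem Pn_spec (n : ℕ) : IsMulPoly n (Pn n) :=
  Classical.choose_spec (Groth.Agent.Helper4.SymPoly.exists_isMulPoly n)

/-- the chosen universal polynomial `Q_{i,j}` -/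
noncomputable def Qn (i j : ℕ) : MvPolynomial (Fin (i * j)) ℤ :=
  Classical.choose (Groth.Agent.Helper4.SymPoly.exists_isCompPoly i j)

theorem Qn_spec (i j : ℕ) : IsCompPoly i j (Qn i j) :=
  Classical.choose_spec (Groth.Agent.Helper4.SymPoly.exists_isCompPoly i j)

/-- λ-terms -/
inductive Term (r : ℕ) : Type
  | var : Fin r → Term r
  | scal : Term r
  | natC : ℕ → Term r
  | add : Term r → Term r → Term r
  | mul : Term r → Term r → Term r
  | lam : ℕ → Term r → Term r

variable {r : ℕ}

/-- evaluation of a term -/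
def Term.eval {R : Type*} [CommRing R] [LambdaOps R] (x : Fin r → R) (κ : R) : Term r → R
  | .var s => x s
  | .scal => κ
  | .natC c => (c : R)
  | .add a b => a.eval x κ + b.eval x κ
  | .mul a b => a.eval x κ * b.eval x κ
  | .lam i a => LambdaOps.lam i (a.eval x κ)

/-- coefficient ring: polynomials in the `λ^n(κ)` -/
abbrev C₀ := MvPolynomial ℕ ℤ

/-- polynomial ring in the `γ^{j+1}(x_s)` -/
abbrev Poly (r : ℕ) := MvPolynomial (Fin r × ℕ) C₀

/-- the polynomial expressing `λ^n(x_s)` through the `γ^k(x_s)` -/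
noncomputable def lamVar (s : Fin r) : ℕ → Poly r
  | 0 => 1
  | n + 1 => X (s, n) - ∑ j : Fin (n + 1),
      (if (j : ℕ) = 0 then 0 else ((n.choose ((j : ℕ) - 1) : ℕ) : Poly r) * lamVar s j)

theorem lamVar_zero (s : Fin r) : lamVar s 0 = 1 := by rw [lamVar]

theorem lamVar_succ (s : Fin r) (n : ℕ) :
    lamVar s (n + 1) = X (s, n) - ∑ j ∈ range (n + 1),
      (if j = 0 then 0 else ((n.choose (j - 1) : ℕ) : Poly r) * lamVar s j) := by
  rw [lamVar, Fin.sum_univ_eq_sum_range
    (fun j => if j = 0 then 0 else ((n.choose (j - 1) : ℕ) : Poly r) * lamVar s j) (n + 1)]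

/-- the universal polynomial of `λ^n(t)` -/
noncomputable def L : Term r → ℕ → Poly r
  | .var s, n => lamVar s n
  | .scal, n => C (X n)
  | .natC c, n => ((c.choose n : ℕ) : Poly r)
  | .add a b, n => ∑ i ∈ range (n + 1), L a i * L b (n - i)
  | .mul a b, n => aeval (Sum.elim (fun k : Fin n => L a ((k : ℕ) + 1))
      (fun k : Fin n => L b ((k : ℕ) + 1))) (Pn n)
  | .lam i a, n => aeval (fun k : Fin (i * n) => L a ((k : ℕ) + 1)) (Qn i n)

section Eval

variable {R : Type*} [CommRing R] [LambdaOps R]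

theorem lam_eq_gamma_sub (x : R) (n : ℕ) :
    LambdaOps.lam (n + 1) x = gamma (n + 1) x - ∑ j ∈ range (n + 1),
      (if j = 0 then 0 else ((n.choose (j - 1) : ℕ) : R) * LambdaOps.lam j x) := by
  unfold gamma
  rw [if_neg (by omega), Finset.sum_range_succ, if_neg (by omega)]
  have e : n + 1 - 1 = n := by omega
  rw [e, Nat.choose_self]
  have : ∑ x_1 ∈ range (n + 1), ((n.choose (x_1 - 1) : ℕ) : R) *
      (if x_1 = 0 then 0 else LambdaOps.lam x_1 x) =
      ∑ j ∈ range (n + 1), (if j = 0 then 0 else ((n.choose (j - 1) : ℕ) : R) * LambdaOps.lam j x) := by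
    apply Finset.sum_congr rfl
    intro j _
    split_ifs <;> simp
  rw [this]
  simp

theorem eval_lamVar (φ : C₀ →+* R) (x : Fin r → R) (s : Fin r) (n : ℕ) :
    eval₂ φ (fun v : Fin r × ℕ => gamma (v.2 + 1) (x v.1)) (lamVar s n) =
      LambdaOps.lam n (x s) := by
  induction n using Nat.strong_induction_on with
  | _ n ih =>
    rcases n with _ | n
    · rw [lamVar_zero, eval₂_one, LambdaOps.lam_zero]
    · rw [lamVar_succ, eval₂_sub, eval₂_X, lam_eq_gamma_sub, eval₂_sum]
      congr 1
      apply Finset.sum_congr rfl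
      intro j hj
      rw [Finset.mem_range] at hj
      split_ifs with h0
      · rw [eval₂_zero]
      · rw [eval₂_mul, ih j hj, eval₂_natCast]

theorem eval_L (hR : IsSpecial R) (φ : C₀ →+* R) (x : Fin r → R) (κ : R)
    (hκ : ∀ n, LambdaOps.lam n κ = φ (X n)) (t : Term r) (n : ℕ) :
    LambdaOps.lam n (t.eval x κ) =
      eval₂ φ (fun v : Fin r × ℕ => gamma (v.2 + 1) (x v.1)) (L t n) := by
  induction t generalizing n with
  | var s => rw [L, eval_lamVar]; rfl
  | scal => rw [L, eval₂_C]; exact hκ n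
  | natC c =>
    rw [L, eval₂_natCast]
    exact LamSeries.lam_natCast hR.lam_one_eq_zero c n
  | add a b iha ihb =>
    rw [L, eval₂_sum]
    change LambdaOps.lam n (a.eval x κ + b.eval x κ) = _
    rw [LambdaOps.lam_add]
    apply Finset.sum_congr rfl
    intro i _
    rw [eval₂_mul, iha, ihb]
  | mul a b iha ihb =>
    rw [L]
    change LambdaOps.lam n (a.eval x κ * b.eval x κ) = _
    rw [hR.lam_mul n (Pn n) (Pn_spec n)]
    have := Newt.map_aeval_int (eval₂Hom φ (fun v : Fin r × ℕ => gamma (v.2 + 1) (x v.1)))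
      (Sum.elim (fun k : Fin n => L a ((k : ℕ) + 1)) (fun k : Fin n => L b ((k : ℕ) + 1))) (Pn n)
    rw [coe_eval₂Hom] at this
    rw [this]
    congr 2
    funext v
    rcases v with k | k
    · simp only [Sum.elim_inl]; rw [iha]
    · simp only [Sum.elim_inr]; rw [ihb]
  | lam i a iha =>
    rw [L]
    change LambdaOps.lam n (LambdaOps.lam i (a.eval x κ)) = _
    rw [hR.lam_lam i n (Qn i n) (Qn_spec i n)]
    have := Newt.map_aeval_int (eval₂Hom φ (fun v : Fin r × ℕ => gamma (v.2 + 1) (x v.1)))
      (fun k : Fin (i * n) => L a ((k : ℕ) + 1)) (Qn i n)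
    rw [coe_eval₂Hom] at this
    rw [this]
    congr 2
    funext k
    rw [iha]

end Eval

end Groth.Agent.Helper4.LamTerm
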