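import Groth.Agent.Helper4.LamTerm
import Mathlib

set_option autoImplicit false

/-! # γ-polynomials of terms and monomial terms -/

namespace Groth.Agent.Helper4.LamTerm

open LambdaRing MvPolynomial Finset

variable {r : ℕ}

/-- the universal polynomial of `γ^j(t)` -/
noncomputable def gammaP (T : Term r) (j : ℕ) : Poly r :=
  if j = 0 then 1 else ∑ k ∈ range (j + 1),
    (((j - 1).choose (k - 1) : ℕ) : Poly r) * (if k = 0 then 0 else L T k)

/-- iterated sum of terms -/
def sumRange (f : ℕ → Term r) : ℕ → Term r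
  | 0 => .natC 0
  | n + 1 => .add (sumRange f n) (f n)

/-- the term `γ^i(t)` -/
def gamT (i : ℕ) (t : Term r) : Term r :=
  if i = 0 then .natC 1 else
    sumRange (fun k => .mul (.natC ((i - 1).choose (k - 1))) (if k = 0 then .natC 0 else .lam k t))
      (i + 1)

/-- the product of a list of terms -/
def prodT : List (Term r) → Term r
  | [] => .natC 1
  | t :: l => .mul t (prodT l)

/-- the monomial term `∏_s γ^{e_s}(x_s)` -/
def monoT (e : Fin r → ℕ) : Term r := prodT (List.ofFn fun s => gamT (e s) (.var s))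

section Eval

variable {R : Type*} [CommRing R] [LambdaOps R]

theorem eval_sumRange (x : Fin r → R) (κ : R) (f : ℕ → Term r) (n : ℕ) :
    (sumRange f n).eval x κ = ∑ k ∈ range n, (f k).eval x κ := by
  induction n with
  | zero => simp [sumRange, Term.eval]
  | succ n ih => rw [sumRange, Term.eval, ih, Finset.sum_range_succ]

theorem eval_gamT (x : Fin r → R) (κ : R) (i : ℕ) (t : Term r) :
    (gamT i t).eval x κ = gamma i (t.eval x κ) := by
  unfold gamT gamma
  split_ifs with h
  · simp [Term.eval]
  · rw [eval_sumRange]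
    apply Finset.sum_congr rfl
    intro k _
    rw [Term.eval, Term.eval]
    congr 1
    split_ifs with hk
    · simp [Term.eval]
    · rfl

theorem eval_prodT (x : Fin r → R) (κ : R) (l : List (Term r)) :
    (prodT l).eval x κ = (l.map fun t => t.eval x κ).prod := by
  induction l with
  | nil => simp [prodT, Term.eval]
  | cons t l ih => rw [prodT, Term.eval, ih, List.map_cons, List.prod_cons]

theorem eval_monoT (x : Fin r → R) (κ : R) (e : Fin r → ℕ) :
    (monoT e).eval x κ = ∏ s : Fin r, gamma (e s) (x s) := by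
  unfold monoT
  rw [eval_prodT, List.map_ofFn, List.prod_ofFn]
  apply Finset.prod_congr rfl
  intro s _
  rw [Function.comp_apply, eval_gamT]
  rfl

theorem eval_gammaP (hR : IsSpecial R) (φ : C₀ →+* R) (x : Fin r → R) (κ : R)
    (hκ : ∀ n, LambdaOps.lam n κ = φ (X n)) (T : Term r) (j : ℕ) :
    gamma j (T.eval x κ) =
      eval₂ φ (fun v : Fin r × ℕ => gamma (v.2 + 1) (x v.1)) (gammaP T j) := by
  by_cases h : j = 0
  · subst h
    have : gamma 0 (T.eval x κ) = 1 := by unfold gamma; rw [if_pos rfl]
    rw [this, gammaP, if_pos rfl, eval₂_one]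
  · have hg : gamma j (T.eval x κ) = ∑ k ∈ range (j + 1), (((j - 1).choose (k - 1) : ℕ) : R) *
        (if k = 0 then 0 else LambdaOps.lam k (T.eval x κ)) := by
      unfold gamma; rw [if_neg h]
    rw [hg, gammaP, if_neg h, eval₂_sum]
    apply Finset.sum_congr rfl
    intro k _
    rw [eval₂_mul, eval₂_natCast]
    congr 1
    split_ifs with hk
    · rw [eval₂_zero]
    · exact eval_L hR φ x κ hκ T k

theorem eval_L_one (hR : IsSpecial R) (φ : C₀ →+* R) (x : Fin r → R) (κ : R)
    (hκ : ∀ n, LambdaOps.lam n κ = φ (X n)) (T : Term r) :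
    T.eval x κ = eval₂ φ (fun v : Fin r × ℕ => gamma (v.2 + 1) (x v.1)) (L T 1) := by
  rw [← eval_L hR φ x κ hκ T 1, LambdaOps.lam_one]

end Eval

end Groth.Agent.Helper4.LamTerm
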