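import Mathlib
set_option autoImplicit false
open CategoryTheory CategoryTheory.Limits Opposite

/-! Exactness of the sheaf pullback along a representably flat continuous functor, for sheaves of
`Λ`-modules one universe up (the `ModuleCat` analogue of `Helper4.LanExact`). -/

universe u

namespace Groth.Agent.Helper4.LanExactMod

variable (Λ : Type (u + 1)) [Ring Λ]

abbrev A := ModuleCat.{u + 1} Λ

instance (I : Type (u + 1)) [Category.{u} I] : HasColimitsOfShape I (A.{u} Λ) := by
  have : HasColimitsOfSize.{u, u + 1} (A.{u} Λ) := hasColimitsOfSizeShrink.{u, u+1, u+1, u+1} _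
  infer_instance

instance : HasFilteredColimitsOfSize.{u, u + 1} (A.{u} Λ) where
  HasColimitsOfShape _ _ _ := inferInstance

instance ab5 : AB5OfSize.{u, u + 1} (A.{u} Λ) := AB5OfSize_of_univLE.{u, u+1, u+1, u+1} _

variable {C D : Type (u + 1)} [Category.{u} C] [Category.{u} D]

set_option backward.defeqAttrib.useBackward true in
set_option backward.isDefEq.respectTransparency false in
noncomputable def lanEvaluationIsoColim (F : C ⥤ D) (X : D) :
    (F.lan : (C ⥤ A.{u} Λ) ⥤ (D ⥤ A.{u} Λ)) ⋙ (evaluation D (A.{u} Λ)).obj X ≅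
      (Functor.whiskeringLeft _ _ (A.{u} Λ)).obj (CostructuredArrow.proj F X) ⋙ colim :=
  NatIso.ofComponents (fun G =>
    IsColimit.coconePointUniqueUpToIso
    (Functor.isPointwiseLeftKanExtensionLeftKanExtensionUnit F G X)
    (colimit.isColimit _)) (fun {G₁ G₂} φ => by
      apply (Functor.isPointwiseLeftKanExtensionLeftKanExtensionUnit F G₁ X).hom_ext
      intro T
      have h₁ := fun (G : C ⥤ A.{u} Λ) => IsColimit.comp_coconePointUniqueUpToIso_hom
        (Functor.isPointwiseLeftKanExtensionLeftKanExtensionUnit F G X) (colimit.isColimit _) T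
      have h₂ := congr_app (F.lanUnit.naturality φ) T.left
      dsimp at h₁ h₂ ⊢
      simp only [Category.assoc] at h₁ ⊢
      simp only [Functor.lan, Functor.lanUnit] at h₂ ⊢
      rw [reassoc_of% h₁, NatTrans.naturality_assoc, ← reassoc_of% h₂, h₁,
        ι_colimMap, Functor.whiskerLeft_app]
      rfl)

noncomputable instance lan_preservesFiniteLimits_of_flat (F : C ⥤ D) [RepresentablyFlat F] :
    PreservesFiniteLimits (F.op.lan : (Cᵒᵖ ⥤ A.{u} Λ) ⥤ (Dᵒᵖ ⥤ A.{u} Λ)) := by
  apply preservesFiniteLimits_of_preservesFiniteLimitsOfSize.{0}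
  intro J _ _
  apply preservesLimitsOfShape_of_evaluation (F.op.lan : (Cᵒᵖ ⥤ A.{u} Λ) ⥤ Dᵒᵖ ⥤ A.{u} Λ) J
  intro K
  have : IsFiltered (CostructuredArrow F.op K) :=
    IsFiltered.of_equivalence (structuredArrowOpEquivalence F (unop K))
  exact preservesLimitsOfShape_of_natIso (lanEvaluationIsoColim Λ F.op K).symm

theorem sheafPullback_preservesFiniteLimits (G : C ⥤ D) [RepresentablyFlat G]
    (J : GrothendieckTopology C) (K : GrothendieckTopology D) [G.IsContinuous J K]
    [HasSheafify K (A.{u} Λ)] [HasSheafify J (A.{u} Λ)] :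
    PreservesFiniteLimits (G.sheafPullback (A.{u} Λ) J K) :=
  Functor.sheafPullbackConstruction.preservesFiniteLimits G (A.{u} Λ) J K

end Groth.Agent.Helper4.LanExactMod
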