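import Groth.Prelude.Def_PolLaw
import Mathlib

/-!
# Descending a polynomial law along a surjective linear map (helper4)
-/

set_option autoImplicit false
universe u
open scoped TensorProduct

namespace Groth.Agent.Helper4.LawDescend

variable {A : Type u} [CommRing A] {M M' N : Type u} [AddCommGroup M] [Module A M]
  [AddCommGroup M'] [Module A M'] [AddCommGroup N] [Module A N]

theorem exists_descend (q : M →ₗ[A] M') (hq : Function.Surjective q) (F : M →ₚₗ[A] N)
    (h : ∀ (S : Type u) [CommSemiring S] [Algebra A S] (z z' : S ⊗[A] M),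
      q.lTensor S z = q.lTensor S z' → F.toFun' S z = F.toFun' S z') :
    ∃ F' : M' →ₚₗ[A] N, ∀ (S : Type u) [CommSemiring S] [Algebra A S] (z : S ⊗[A] M),
      F'.toFun' S (q.lTensor S z) = F.toFun' S z := by
  have hs : ∀ (S : Type u) [CommSemiring S] [Algebra A S],
      Function.Surjective (q.lTensor S) := fun S _ _ => LinearMap.lTensor_surjective S hq
  refine ⟨{ toFun' := fun S _ _ zb => F.toFun' S (Function.surjInv (hs S) zb)
            isCompat' := ?_ }, ?_⟩
  · intro S _ _ S' _ _ φ
    funext zb
    simp only [Function.comp_apply]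
    have h1 := F.isCompat_apply' φ (Function.surjInv (hs S) zb)
    rw [h1]
    apply h S'
    rw [Function.surjInv_eq (hs S'), ← LinearMap.comp_apply, LinearMap.lTensor_comp_rTensor,
      ← LinearMap.rTensor_comp_lTensor, LinearMap.comp_apply, Function.surjInv_eq (hs S)]
  · intro S _ _ z
    exact h S _ _ (Function.surjInv_eq (hs S) _)

end Groth.Agent.Helper4.LawDescend
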