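import Mathlib

/-!
# A tensor-power form of the equational criterion of flatness (helper4)

For a flat module `M`, a linear map `φ : A^m → M` and finitely many tensors `x i ∈ T^ι(A^m)` dying
in `T^ι(M)`, the map `φ` factors through a finite free module `A^k` in which the `x i` already die.
-/

set_option autoImplicit false
universe u v
open scoped TensorProduct

namespace Groth.Agent.Helper4.LazLiteA

variable (A : Type u) [CommRing A] (M : Type v) [AddCommGroup M] [Module A M]

/-- the factorization property for one tensor, for the index type `ι` -/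
def KL (ι : Type) : Prop :=
  ∀ (m : ℕ) (φ : (Fin m → A) →ₗ[A] M) (x : ⨂[A] _ : ι, (Fin m → A)),
    PiTensorProduct.map (fun _ => φ) x = 0 →
    ∃ (k : ℕ) (a : (Fin m → A) →ₗ[A] (Fin k → A)) (φ' : (Fin k → A) →ₗ[A] M),
      φ' ∘ₗ a = φ ∧ PiTensorProduct.map (fun _ => a) x = 0

/-- the factorization property for finite families of tensors -/
def KLfam (ι : Type) : Prop :=
  ∀ (r m : ℕ) (φ : (Fin m → A) →ₗ[A] M) (x : Fin r → ⨂[A] _ : ι, (Fin m → A)),
    (∀ i, PiTensorProduct.map (fun _ => φ) (x i) = 0) →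
    ∃ (k : ℕ) (a : (Fin m → A) →ₗ[A] (Fin k → A)) (φ' : (Fin k → A) →ₗ[A] M),
      φ' ∘ₗ a = φ ∧ ∀ i, PiTensorProduct.map (fun _ => a) (x i) = 0

variable {A M}

theorem map_map {ι : Type} {F G H : Type*} [AddCommGroup F] [Module A F] [AddCommGroup G]
    [Module A G] [AddCommGroup H] [Module A H] (f : F →ₗ[A] G) (g : G →ₗ[A] H)
    (z : ⨂[A] _ : ι, F) :
    PiTensorProduct.map (fun _ => g) (PiTensorProduct.map (fun _ => f) z) =
      PiTensorProduct.map (fun _ => g ∘ₗ f) z := by
  rw [PiTensorProduct.map_comp]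
  rfl

theorem KLfam_of_KL {ι : Type} (h : KL A M ι) : KLfam A M ι := by
  intro r
  induction r with
  | zero =>
    intro m φ x _
    exact ⟨m, LinearMap.id, φ, LinearMap.comp_id φ, fun i => i.elim0⟩
  | succ r ih =>
    intro m φ x hx
    obtain ⟨k₁, a₁, φ₁, h₁, hx₁⟩ := ih m φ (fun i => x i.castSucc) (fun i => hx _)
    have hlast : PiTensorProduct.map (fun _ => φ₁)
        (PiTensorProduct.map (fun _ => a₁) (x (Fin.last r))) = 0 := by
      rw [map_map, h₁]
      exact hx _
    obtain ⟨k₂, a₂, φ₂, h₂, hx₂⟩ := h k₁ φ₁ _ hlast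
    refine ⟨k₂, a₂ ∘ₗ a₁, φ₂, ?_, ?_⟩
    · rw [← LinearMap.comp_assoc, h₂, h₁]
    · intro i
      rw [← map_map]
      induction i using Fin.lastCases with
      | last => exact hx₂
      | cast i => rw [hx₁ i, map_zero]

theorem isEmptyEquiv_map {ι : Type} [IsEmpty ι] {F G : Type*} [AddCommGroup F] [Module A F]
    [AddCommGroup G] [Module A G] (f : F →ₗ[A] G) (z : ⨂[A] _ : ι, F) :
    PiTensorProduct.isEmptyEquiv ι (PiTensorProduct.map (fun _ => f) z) =
      PiTensorProduct.isEmptyEquiv ι z := by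
  induction z using PiTensorProduct.induction_on with
  | smul_tprod r u =>
    rw [map_smul, PiTensorProduct.map_tprod, map_smul, map_smul,
      PiTensorProduct.isEmptyEquiv_apply_tprod, PiTensorProduct.isEmptyEquiv_apply_tprod]
  | add x y hx hy => rw [map_add, map_add, map_add, hx, hy]

theorem KL_of_isEmpty {ι : Type} [IsEmpty ι] : KL A M ι := by
  intro m φ x hx
  refine ⟨m, LinearMap.id, φ, LinearMap.comp_id φ, ?_⟩
  have h0 : x = 0 := by
    apply (PiTensorProduct.isEmptyEquiv ι).injective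
    rw [← isEmptyEquiv_map φ x, hx, map_zero, map_zero]
  rw [h0, map_zero]

theorem KL_of_equiv {ι ι' : Type} (e : ι ≃ ι') (h : KL A M ι) : KL A M ι' := by
  intro m φ x' hx'
  obtain ⟨x, rfl⟩ := (PiTensorProduct.reindex A (fun _ : ι => (Fin m → A)) e).surjective x'
  have h1 := PiTensorProduct.map_reindex (R := A) (fun _ : ι => φ) e x
  have h2 : PiTensorProduct.map (fun _ : ι => φ) x = 0 := by
    apply (PiTensorProduct.reindex A (fun _ : ι => M) e).injective
    rw [← h1, map_zero]
    exact hx'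
  obtain ⟨k, a, φ', h3, h4⟩ := h m φ x h2
  refine ⟨k, a, φ', h3, ?_⟩
  have h5 := PiTensorProduct.map_reindex (R := A) (fun _ : ι => a) e x
  rw [h4, map_zero] at h5
  exact h5

section step

variable {ι : Type}

/-- the splitting off of the last tensor factor -/
noncomputable def Ψ (F : Type*) [AddCommGroup F] [Module A F] :
    (⨂[A] _ : ι, F) ⊗[A] F ≃ₗ[A] ⨂[A] _ : ι ⊕ PUnit.{1}, F :=
  (TensorProduct.congr (LinearEquiv.refl A _)
    (PiTensorProduct.subsingletonEquiv (R := A) (s := fun _ : PUnit.{1} => F) PUnit.unit).symm).trans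
    (PiTensorProduct.tmulEquiv A F)

theorem Ψ_tmul {F : Type*} [AddCommGroup F] [Module A F] (u : ι → F) (f : F) :
    Ψ F (PiTensorProduct.tprod A u ⊗ₜ[A] f) =
      PiTensorProduct.tprod A (Sum.elim u (fun _ => f)) := by
  unfold Ψ
  rw [LinearEquiv.trans_apply, TensorProduct.congr_tmul, LinearEquiv.refl_apply,
    PiTensorProduct.subsingletonEquiv_symm_apply', PiTensorProduct.tmulEquiv_apply]

theorem Ψ_nat {F G : Type*} [AddCommGroup F] [Module A F] [AddCommGroup G] [Module A G]
    (g : F →ₗ[A] G) (z : (⨂[A] _ : ι, F) ⊗[A] F) :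
    PiTensorProduct.map (fun _ => g) (Ψ F z) =
      Ψ G (TensorProduct.map (PiTensorProduct.map (fun _ => g)) g z) := by
  induction z using TensorProduct.induction_on with
  | zero => simp
  | add x y hx hy => rw [map_add, map_add, map_add, map_add, hx, hy]
  | tmul t f =>
    induction t using PiTensorProduct.induction_on with
    | smul_tprod r u =>
      rw [← TensorProduct.smul_tmul', map_smul, map_smul, map_smul, map_smul, Ψ_tmul,
        TensorProduct.map_tmul, PiTensorProduct.map_tprod, PiTensorProduct.map_tprod, Ψ_tmul]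
      congr 2
      funext i
      cases i <;> rfl
    | add x y hx hy =>
      rw [TensorProduct.add_tmul, map_add, map_add, map_add, map_add, hx, hy]

/-- coordinates of an element of `X ⊗ A^m` -/
noncomputable def coord {X : Type*} [AddCommGroup X] [Module A X] {m : ℕ} (i : Fin m) :
    X ⊗[A] (Fin m → A) →ₗ[A] X :=
  (TensorProduct.rid A X).toLinearMap ∘ₗ LinearMap.lTensor X (LinearMap.proj i)

theorem coord_tmul {X : Type*} [AddCommGroup X] [Module A X] {m : ℕ} (i : Fin m) (x : X)
    (f : Fin m → A) : coord i (x ⊗ₜ[A] f) = f i • x := by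
  simp [coord]

theorem decomp {X : Type*} [AddCommGroup X] [Module A X] {m : ℕ} (z : X ⊗[A] (Fin m → A)) :
    z = ∑ i, coord i z ⊗ₜ[A] (Pi.single i (1 : A) : Fin m → A) := by
  induction z using TensorProduct.induction_on with
  | zero => simp
  | add x y hx hy =>
    conv_lhs => rw [hx, hy]
    rw [← Finset.sum_add_distrib]
    refine Finset.sum_congr rfl fun i _ => ?_
    rw [map_add, TensorProduct.add_tmul]
  | tmul x f =>
    simp_rw [coord_tmul, TensorProduct.smul_tmul, ← TensorProduct.tmul_sum]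
    congr 1
    exact pi_eq_sum_univ' f |>.trans (by simp)

/-- the linear map `A^m → A^k` with matrix `a` -/
noncomputable def matMap {m k : ℕ} (a : Fin m → Fin k → A) : (Fin m → A) →ₗ[A] (Fin k → A) :=
  (Pi.basisFun A (Fin m)).constr A a

theorem matMap_single {m k : ℕ} (a : Fin m → Fin k → A) (i : Fin m) :
    matMap a (Pi.single i (1 : A)) = a i := by
  unfold matMap
  rw [← Pi.basisFun_apply, Module.Basis.constr_basis]

/-- the linear map `A^k → M` with values `y` -/
noncomputable def valMap {k : ℕ} (y : Fin k → M) : (Fin k → A) →ₗ[A] M :=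
  (Pi.basisFun A (Fin k)).constr A y

theorem valMap_apply {k : ℕ} (y : Fin k → M) (v : Fin k → A) :
    valMap y v = ∑ j, v j • y j := by
  unfold valMap
  rw [Module.Basis.constr_apply_fintype]
  rfl

theorem KL_sum_punit [Module.Flat A M] (h : KLfam A M ι) : KL A M (ι ⊕ PUnit.{1}) := by
  intro m φ x hx
  obtain ⟨z, rfl⟩ := (Ψ (ι := ι) (Fin m → A)).surjective x
  rw [Ψ_nat] at hx
  have hz : TensorProduct.map (PiTensorProduct.map (fun _ : ι => φ)) φ z = 0 := by
    apply (Ψ (ι := ι) M).injective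
    rw [hx, map_zero]
  set xs : Fin m → ⨂[A] _ : ι, (Fin m → A) := fun i => coord i z with hxs
  have hdec : z = ∑ i, xs i ⊗ₜ[A] (Pi.single i (1 : A) : Fin m → A) := decomp z
  have hsum : ∑ i, (PiTensorProduct.map (fun _ : ι => φ) (xs i)) ⊗ₜ[A]
      φ (Pi.single i (1 : A)) = (0 : (⨂[A] _ : ι, M) ⊗[A] M) := by
    rw [← hz]
    conv_rhs => rw [hdec]
    rw [map_sum]
    rfl
  obtain ⟨k, a, y, hay, ham⟩ :=
    TensorProduct.vanishesTrivially_of_sum_tmul_eq_zero_of_rTensor_injective A
      (Module.Flat.rTensor_preserves_injective_linearMap _ (Submodule.injective_subtype _)) hsum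
  -- the first factorization
  have hφ₁ : valMap y ∘ₗ matMap a = φ := by
    apply (Pi.basisFun A (Fin m)).ext
    intro i
    rw [Pi.basisFun_apply, LinearMap.comp_apply, matMap_single, valMap_apply]
    exact (hay i).symm
  -- the new tensors
  set ws : Fin k → ⨂[A] _ : ι, (Fin m → A) := fun j => ∑ i, a i j • xs i with hws
  have hws0 : ∀ j, PiTensorProduct.map (fun _ : ι => valMap y)
      (PiTensorProduct.map (fun _ : ι => matMap a) (ws j)) = 0 := by
    intro j
    rw [map_map, hφ₁, hws, map_sum]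
    simp_rw [map_smul]
    exact ham j
  obtain ⟨k₂, a₂, φ₂, h₂, hx₂⟩ := h k k (valMap y)
    (fun j => PiTensorProduct.map (fun _ : ι => matMap a) (ws j)) hws0
  refine ⟨k₂, a₂ ∘ₗ matMap a, φ₂, ?_, ?_⟩
  · rw [← LinearMap.comp_assoc, h₂, hφ₁]
  · rw [Ψ_nat]
    have : TensorProduct.map (PiTensorProduct.map (fun _ : ι => a₂ ∘ₗ matMap a))
        (a₂ ∘ₗ matMap a) z = 0 := by
      conv_lhs => rw [hdec]
      rw [map_sum]
      have h1 : ∀ i, TensorProduct.map (PiTensorProduct.map (fun _ : ι => a₂ ∘ₗ matMap a))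
          (a₂ ∘ₗ matMap a) (xs i ⊗ₜ[A] (Pi.single i (1 : A) : Fin m → A)) =
          ∑ j, (a i j • PiTensorProduct.map (fun _ : ι => a₂ ∘ₗ matMap a) (xs i)) ⊗ₜ[A]
            a₂ (Pi.single j (1 : A)) := by
        intro i
        rw [TensorProduct.map_tmul, LinearMap.comp_apply, matMap_single]
        conv_lhs => rw [pi_eq_sum_univ' (a i)]
        rw [map_sum, TensorProduct.tmul_sum]
        refine Finset.sum_congr rfl fun j _ => ?_
        rw [map_smul, TensorProduct.tmul_smul, TensorProduct.smul_tmul']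
      simp_rw [h1]
      rw [Finset.sum_comm]
      refine Finset.sum_eq_zero fun j _ => ?_
      rw [← TensorProduct.sum_tmul]
      have h3 : ∑ i, a i j • PiTensorProduct.map (fun _ : ι => a₂ ∘ₗ matMap a) (xs i) =
          PiTensorProduct.map (fun _ : ι => a₂)
            (PiTensorProduct.map (fun _ : ι => matMap a) (ws j)) := by
        rw [map_map, hws, map_sum]
        simp_rw [map_smul]
      rw [h3, hx₂ j, TensorProduct.zero_tmul]
    rw [this, map_zero]

end step

/-- **The factorization property holds for every finite index type.** -/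
theorem KL_of_fintype [Module.Flat A M] (ι : Type) [Fintype ι] : KL A M ι := by
  refine Fintype.induction_empty_option (P := fun α _ => KL A M α) ?_ ?_ ?_ ι
  · intro α β _ e h
    exact KL_of_equiv e h
  · exact KL_of_isEmpty
  · intro α _ h
    exact KL_of_equiv (Equiv.optionEquivSumPUnit α).symm (KL_sum_punit (KLfam_of_KL h))

/-- **Tensor-power form of the equational criterion.** -/
theorem exists_factorization [Module.Flat A M] {ι : Type} [Fintype ι] {r m : ℕ}
    (φ : (Fin m → A) →ₗ[A] M) (x : Fin r → ⨂[A] _ : ι, (Fin m → A))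
    (hx : ∀ i, PiTensorProduct.map (fun _ => φ) (x i) = 0) :
    ∃ (k : ℕ) (a : (Fin m → A) →ₗ[A] (Fin k → A)) (φ' : (Fin k → A) →ₗ[A] M),
      φ' ∘ₗ a = φ ∧ ∀ i, PiTensorProduct.map (fun _ => a) (x i) = 0 :=
  KLfam_of_KL (KL_of_fintype ι) r m φ x hx

end Groth.Agent.Helper4.LazLiteA
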