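import Groth.Agent.Helper4.LazLiteB

/-!
# Symmetric tensors of a flat module are flat (helper4)
-/

set_option autoImplicit false
universe u v
open scoped TensorProduct

namespace Groth.Agent.Helper4.LazLiteC

open Groth.Agent.Helper4.LazLiteA Groth.Agent.Helper4.LazLiteB

variable (A : Type u) [CommRing A] (M : Type v) [AddCommGroup M] [Module A M] (n : ℕ)

/-- the submodule of symmetric tensors -/
def TSsub : Submodule A (⨂[A] _ : Fin n, M) :=
  ⨅ σ : Equiv.Perm (Fin n),
    LinearMap.eqLocus (PiTensorProduct.reindex A (fun _ : Fin n => M) σ).toLinearMap LinearMap.id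

variable {A M n}

theorem mem_TSsub_iff (t : ⨂[A] _ : Fin n, M) :
    t ∈ TSsub A M n ↔
      ∀ σ : Equiv.Perm (Fin n), PiTensorProduct.reindex A (fun _ : Fin n => M) σ t = t := by
  simp [TSsub, Submodule.mem_iInf, LinearMap.mem_eqLocus]

/-- functoriality of symmetric tensors -/
noncomputable def TSsubMap {M' : Type*} [AddCommGroup M'] [Module A M'] (f : M →ₗ[A] M') :
    TSsub A M n →ₗ[A] TSsub A M' n :=
  ((PiTensorProduct.map (fun _ : Fin n => f)).comp (TSsub A M n).subtype).codRestrict (TSsub A M' n)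
    (fun t => by
      rw [mem_TSsub_iff]
      intro σ
      rw [LinearMap.comp_apply, Submodule.subtype_apply, ← map_reindex',
        (mem_TSsub_iff _).1 t.2 σ])

theorem TSsubMap_coe {M' : Type*} [AddCommGroup M'] [Module A M'] (f : M →ₗ[A] M')
    (t : TSsub A M n) :
    ((TSsubMap f t : TSsub A M' n) : ⨂[A] _ : Fin n, M') =
      PiTensorProduct.map (fun _ : Fin n => f) (t : ⨂[A] _ : Fin n, M) := rfl

section free

variable {k : ℕ}

/-- the tensor basis of the tensor power of a finite free module -/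
noncomputable def E : Module.Basis (Fin n → Fin k) A (⨂[A] _ : Fin n, (Fin k → A)) :=
  Basis.piTensorProduct (fun _ : Fin n => Pi.basisFun A (Fin k))

theorem E_apply (w : Fin n → Fin k) :
    E (A := A) w = PiTensorProduct.tprod A (fun i => (Pi.basisFun A (Fin k)) (w i)) :=
  Basis.piTensorProduct_apply _ _

theorem reindex_E (σ : Equiv.Perm (Fin n)) (w : Fin n → Fin k) :
    PiTensorProduct.reindex A (fun _ : Fin n => (Fin k → A)) σ (E w) = E (w ∘ σ.symm) := by
  rw [E_apply, E_apply, PiTensorProduct.reindex_tprod]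
  rfl

theorem repr_reindex (σ : Equiv.Perm (Fin n)) (x : ⨂[A] _ : Fin n, (Fin k → A))
    (w : Fin n → Fin k) :
    (E (A := A)).repr (PiTensorProduct.reindex A (fun _ : Fin n => (Fin k → A)) σ x) w =
      (E (A := A)).repr x (w ∘ σ) := by
  have h : (Finsupp.lapply w) ∘ₗ (E (A := A)).repr.toLinearMap ∘ₗ
      (PiTensorProduct.reindex A (fun _ : Fin n => (Fin k → A)) σ).toLinearMap =
      (Finsupp.lapply (w ∘ σ)) ∘ₗ (E (A := A)).repr.toLinearMap := by
    apply (E (A := A)).ext
    intro v
    simp only [LinearMap.comp_apply, LinearEquiv.coe_coe, Finsupp.lapply_apply]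
    rw [reindex_E, Module.Basis.repr_self, Module.Basis.repr_self, Finsupp.single_apply,
      Finsupp.single_apply]
    congr 1
    apply propext
    constructor
    · intro h
      rw [← h]
      funext i
      simp
    · intro h
      rw [h]
      funext i
      simp
  exact LinearMap.congr_fun h x

/-- the orbit relation on words -/
def orbSetoid (n k : ℕ) : Setoid (Fin n → Fin k) where
  r w w' := ∃ σ : Equiv.Perm (Fin n), w' = w ∘ σ
  iseqv := {
    refl := fun w => ⟨1, rfl⟩
    symm := by
      rintro w w' ⟨σ, rfl⟩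
      exact ⟨σ⁻¹, by funext i; simp⟩
    trans := by
      rintro w w' w'' ⟨σ, rfl⟩ ⟨τ, rfl⟩
      exact ⟨σ * τ, by funext i; simp⟩ }

/-- a representative of the orbit -/
noncomputable def rep (w : Fin n → Fin k) : Fin n → Fin k :=
  (Quotient.mk (orbSetoid n k) w).out

theorem rep_comp (w : Fin n → Fin k) (σ : Equiv.Perm (Fin n)) : rep (w ∘ σ) = rep w := by
  unfold rep
  congr 1
  exact (Quotient.sound (s := orbSetoid n k) ⟨σ, rfl⟩).symm

theorem exists_rep_eq (w : Fin n → Fin k) : ∃ σ : Equiv.Perm (Fin n), rep w = w ∘ σ := by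
  have h : (orbSetoid n k).r w (rep w) :=
    (orbSetoid n k).symm (Quotient.exact (s := orbSetoid n k) (Quotient.out_eq _))
  exact h

/-- the retraction onto symmetric tensors, as an endomorphism of the tensor power -/
noncomputable def retr₀ :
    (⨂[A] _ : Fin n, (Fin k → A)) →ₗ[A] (⨂[A] _ : Fin n, (Fin k → A)) :=
  ∑ w : Fin n → Fin k, ((Finsupp.lapply (rep w)) ∘ₗ (E (A := A)).repr.toLinearMap).smulRight (E w)

theorem retr₀_apply (x : ⨂[A] _ : Fin n, (Fin k → A)) :
    retr₀ x = ∑ w : Fin n → Fin k, (E (A := A)).repr x (rep w) • E w := by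
  simp [retr₀, LinearMap.sum_apply]

theorem retr₀_mem (x : ⨂[A] _ : Fin n, (Fin k → A)) : retr₀ x ∈ TSsub A (Fin k → A) n := by
  rw [mem_TSsub_iff]
  intro σ
  rw [retr₀_apply, map_sum]
  simp_rw [map_smul, reindex_E]
  refine Fintype.sum_equiv (Equiv.arrowCongr σ (Equiv.refl (Fin k))) _ _ fun w => ?_
  have h1 : (Equiv.arrowCongr σ (Equiv.refl (Fin k))) w = w ∘ σ.symm := by
    funext i
    simp [Equiv.arrowCongr]
  rw [h1, rep_comp]

theorem retr₀_of_mem {x : ⨂[A] _ : Fin n, (Fin k → A)} (hx : x ∈ TSsub A (Fin k → A) n) :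
    retr₀ x = x := by
  rw [retr₀_apply]
  conv_rhs => rw [← (E (A := A)).sum_repr x]
  refine Finset.sum_congr rfl fun w _ => ?_
  obtain ⟨σ, hσ⟩ := exists_rep_eq w
  rw [hσ, ← repr_reindex, (mem_TSsub_iff _).1 hx σ]

instance : Module.Free A (⨂[A] _ : Fin n, (Fin k → A)) := Module.Free.of_basis E

instance : Module.Projective A (TSsub A (Fin k → A) n) :=
  Module.Projective.of_split (TSsub A (Fin k → A) n).subtype
    (retr₀.codRestrict (TSsub A (Fin k → A) n) retr₀_mem) (by
      ext x
      exact retr₀_of_mem x.2)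

end free

/-- **Symmetric tensors of a flat module form a flat module.** -/
theorem flat_TSsub [Module.Flat A M] : Module.Flat A (TSsub A M n) := by
  apply Module.Flat.of_forall_isTrivialRelation
  intro l f x hfx
  have hsum : ∑ i, f i • ((x i : TSsub A M n) : ⨂[A] _ : Fin n, M) = 0 := by
    have := congrArg (TSsub A M n).subtype hfx
    rw [map_sum, map_zero] at this
    simpa using this
  obtain ⟨k, φ, X, hX1, hX2, hX3⟩ := exists_symm_rep n l (fun i => (x i : ⨂[A] _ : Fin n, M))
    (fun i σ => (mem_TSsub_iff _).1 (x i).2 σ) f hsum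
  let X' : Fin l → TSsub A (Fin k → A) n := fun i => ⟨X i, (mem_TSsub_iff _).2 (hX1 i)⟩
  have hX' : ∑ i, f i • X' i = 0 := by
    apply Subtype.ext
    rw [Submodule.coe_sum]
    simpa using hX3
  obtain ⟨k', a, Y, hY1, hY2⟩ := Module.Flat.isTrivialRelation_of_sum_smul_eq_zero (R := A)
    (M := TSsub A (Fin k → A) n) (f := f) (x := X') hX'
  refine ⟨k', a, fun j => TSsubMap φ (Y j), fun i => ?_, hY2⟩
  have h1 : x i = TSsubMap φ (X' i) := by
    apply Subtype.ext
    rw [TSsubMap_coe]
    exact (hX2 i).symm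
  rw [h1, hY1 i, map_sum]
  simp_rw [map_smul]

end Groth.Agent.Helper4.LazLiteC
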