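import Mathlib
import Groth.Prelude.Def_EtCore
import Groth.Agent.Helper4.LcPoint

set_option autoImplicit false

/-!
# A finite locally constant sheaf on a connected scheme has a single value group
-/

universe u

open CategoryTheory CategoryTheory.Limits AlgebraicGeometry Opposite

namespace Groth.Agent.Helper4.LcConn

open Groth.Agent.Helper4.OverEtC Groth.Agent.Helper4.FlcPull Groth.Agent.Helper4.ConstLoc
  Groth.Agent.Helper4.LcPoint

lemma iso_hom_injective {W : Scheme.{u}} {A B : EtCoh.Ab W} (e : A ≅ B) (V : W.Etale) :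
    Function.Injective (e.hom.hom.app (op V)) := by
  intro t t' h
  have h1 : e.hom.hom.app (op V) ≫ e.inv.hom.app (op V) = 𝟙 _ :=
    congrArg (fun q => q.hom.app (op V)) e.hom_inv_id
  have h2 := ConcreteCategory.congr_hom h1 t
  have h3 := ConcreteCategory.congr_hom h1 t'
  rw [ConcreteCategory.comp_apply, ConcreteCategory.id_apply] at h2 h3
  rw [← h2, ← h3, h]

/-- an injective homomorphism underlying an isomorphism of constant sheaves -/
lemma exists_injective {W : Scheme.{u}} (w : W) {N N' : AddCommGrpCat.{u + 1}} [Finite N]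
    (e : cS W N ≅ cS W N') : ∃ h : N ⟶ N', Function.Injective h := by
  obtain ⟨V, y, h, -, H⟩ := exists_local_hom e.hom w
  refine ⟨h, ?_⟩
  rw [injective_iff_map_eq_zero]
  intro n hn
  apply const_injective N V y n 0
  apply iso_hom_injective e V
  rw [H V (𝟙 V), const_map_η, hn, map_zero, map_zero, map_zero]

/-- isomorphic constant sheaves with finite values on a nonempty scheme have isomorphic values -/
theorem iso_of_const_iso {W : Scheme.{u}} (w : W) {N N' : AddCommGrpCat.{u + 1}} [Finite N]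
    [Finite N'] (e : cS W N ≅ cS W N') : Nonempty (N ≅ N') := by
  obtain ⟨h, hh⟩ := exists_injective w e
  obtain ⟨h', hh'⟩ := exists_injective w e.symm
  have hb : Function.Bijective h :=
    hh.bijective_of_nat_card_le (Nat.card_le_card_of_injective _ hh')
  exact ⟨AddEquiv.toAddCommGrpIso (AddEquiv.ofBijective h.hom hb)⟩

variable {X : Scheme.{u}}

/-- `F` is constant with value `N` on some étale neighbourhood of `x` -/
def LCN (F : EtCoh.Ab X) (N : AddCommGrpCat.{u + 1}) (x : X) : Prop :=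
  ∃ (V : X.Etale) (y : V.left), V.hom y = x ∧ Nonempty ((EtCoh.pull (homS V)).obj F ≅ cS V.left N)

lemma LCN.of_iso {F : EtCoh.Ab X} {N N' : AddCommGrpCat.{u + 1}} (e : N ≅ N') {x : X}
    (h : LCN F N x) : LCN F N' x := by
  obtain ⟨V, y, hy, ⟨a⟩⟩ := h
  exact ⟨V, y, hy, ⟨a ≪≫ (constantSheaf V.left.smallEtaleTopology AddCommGrpCat.{u + 1}).mapIso e⟩⟩

lemma LCN.exists_open {F : EtCoh.Ab X} {N : AddCommGrpCat.{u + 1}} {x : X} (h : LCN F N x) :
    ∃ O : Set X, IsOpen O ∧ x ∈ O ∧ ∀ x' ∈ O, LCN F N x' := by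
  obtain ⟨V, y, hy, ha⟩ := h
  refine ⟨Set.range V.hom, V.hom.isOpenMap.isOpen_range, ⟨y, hy⟩, ?_⟩
  rintro _ ⟨y', rfl⟩
  exact ⟨V, y', rfl, ha⟩

set_option backward.isDefEq.respectTransparency.types false in
lemma LCN.unique {F : EtCoh.Ab X} {N N' : AddCommGrpCat.{u + 1}} [Finite N] [Finite N'] {x : X}
    (h : LCN F N x) (h' : LCN F N' x) : Nonempty (N ≅ N') := by
  obtain ⟨V, y, hy, ⟨a⟩⟩ := h
  obtain ⟨V', y', hy', ⟨a'⟩⟩ := h'
  obtain ⟨z, hz1, hz2⟩ := Scheme.Pullback.exists_preimage_pullback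
    (f := homS V) (g := homS V') y y' (hy.trans hy'.symm)
  have w : pullback.fst (homS V) (homS V') ≫ homS V = pullback.snd (homS V) (homS V') ≫ homS V' :=
    pullback.condition
  refine iso_of_const_iso z ?_
  exact ((EtCore.pullConstIso (pullback.fst (homS V) (homS V'))).app N).symm ≪≫
    (EtCoh.pull (pullback.fst (homS V) (homS V'))).mapIso a.symm ≪≫
    pullSq (pullback.fst (homS V) (homS V')) (homS V) (pullback.snd (homS V) (homS V')) (homS V') w F ≪≫
    (EtCoh.pull (pullback.snd (homS V) (homS V'))).mapIso a' ≪≫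
    (EtCore.pullConstIso (pullback.snd (homS V) (homS V'))).app N'

/-- on a connected scheme a finite locally constant sheaf has a single value group -/
theorem exists_single_group [ConnectedSpace X] (F : EtCoh.Ab X)
    (hF : EtCoh.IsFiniteLocallyConstant F) :
    ∃ (N : AddCommGrpCat.{u + 1}), Finite N ∧ ∀ x : X, LCN F N x := by
  rw [flc_iff_forall_LC] at hF
  obtain ⟨x₀⟩ : Nonempty X := ConnectedSpace.toNonempty
  obtain ⟨V₀, y₀, hy₀, N₀, fN₀, a₀⟩ := hF x₀
  haveI := fN₀
  refine ⟨N₀, fN₀, ?_⟩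
  have hA : IsClopen {x : X | LCN F N₀ x} := by
    constructor
    · rw [← isOpen_compl_iff, isOpen_iff_forall_mem_open]
      intro x hx
      obtain ⟨V, y, hy, N, fN, a⟩ := hF x
      haveI := fN
      have hx' : LCN F N x := ⟨V, y, hy, a⟩
      obtain ⟨O, hO1, hO2, hO3⟩ := hx'.exists_open
      refine ⟨O, ?_, hO1, hO2⟩
      intro x' hx'O hx'A
      obtain ⟨e⟩ := (hO3 x' hx'O).unique hx'A
      exact hx (hx'.of_iso e)
    · rw [isOpen_iff_forall_mem_open]
      intro x hx
      obtain ⟨O, hO1, hO2, hO3⟩ := LCN.exists_open hx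
      exact ⟨O, hO3, hO1, hO2⟩
  have hU := hA.eq_univ ⟨x₀, ⟨V₀, y₀, hy₀, a₀⟩⟩
  intro x
  have : x ∈ {x : X | LCN F N₀ x} := by rw [hU]; trivial
  exact this

end Groth.Agent.Helper4.LcConn
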