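import Mathlib
import Groth.Agent.Helper1.LambdaAdams3
import Groth.Agent.Helper4.AdamsGamma2
import Groth.Agent.S3288
import Groth.Agent.S3290

set_option autoImplicit false

/-!
# Helper4: determinants, elements of determinant one, and `Gr^1` of the γ-filtration
-/

namespace Groth.Agent.Helper4.LineGr

open LambdaRing Finset
open Groth.Agent.Helper1.Lambda

universe u

section basic

variable {K : Type u} [CommRing K] [LambdaOps K] (P : PosStructure K)

/-- the determinant `λ^{ε(e)}(e)` of a positive element -/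
def det (e : K) : K := LambdaOps.lam (P.aug e).toNat e

theorem one_mem_pos : (1 : K) ∈ P.pos := by
  have := P.natCast_mem 1 one_pos
  simpa using this

theorem det_line (u : K) (hu : P.IsLine u) : det P u = u := by
  unfold det
  rw [hu.2]
  exact LambdaOps.lam_one u

theorem det_add (e f : K) (he : e ∈ P.pos) (hf : f ∈ P.pos) :
    det P (e + f) = det P e * det P f := by
  unfold det
  have h1 := P.aug_pos e he
  have h2 := P.aug_pos f hf
  set m := (P.aug e).toNat with hm
  set m' := (P.aug f).toNat with hm'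
  have hme : (m : ℤ) = P.aug e := Int.toNat_of_nonneg h1.le
  have hmf : (m' : ℤ) = P.aug f := Int.toNat_of_nonneg h2.le
  have e1 : (P.aug (e + f)).toNat = m + m' := by
    rw [map_add, ← hme, ← hmf]
    exact Int.toNat_natCast (m + m')
  rw [e1, LambdaOps.lam_add, Finset.sum_eq_single m]
  · rw [Nat.add_sub_cancel_left]
  · intro i hi him
    rw [Finset.mem_range] at hi
    rcases lt_or_gt_of_ne him with h | h
    · rw [P.lam_eq_zero f hf (m + m' - i) (by rw [← hmf]; exact_mod_cast (by omega : m' < m + m' - i)),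
        mul_zero]
    · rw [P.lam_eq_zero e he i (by rw [← hme]; exact_mod_cast h), zero_mul]
  · intro h
    exfalso; apply h
    rw [Finset.mem_range]; omega

theorem isUnit_det (e : K) (he : e ∈ P.pos) : IsUnit (det P e) := P.isUnit_lam e he

/-- the additive subgroup of elements of determinant one -/
def D : AddSubgroup K where
  carrier := {y | ∃ e f, e ∈ P.pos ∧ f ∈ P.pos ∧ y = e - f ∧ P.aug e = P.aug f ∧ det P e = det P f}
  zero_mem' := ⟨1, 1, one_mem_pos P, one_mem_pos P, by simp, rfl, rfl⟩
  add_mem' := by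
    rintro a b ⟨e, f, he, hf, rfl, haug, hdet⟩ ⟨e', f', he', hf', rfl, haug', hdet'⟩
    refine ⟨e + e', f + f', P.add_mem _ _ he he', P.add_mem _ _ hf hf', by ring, ?_, ?_⟩
    · rw [map_add, map_add, haug, haug']
    · rw [det_add P _ _ he he', det_add P _ _ hf hf', hdet, hdet']
  neg_mem' := by
    rintro a ⟨e, f, he, hf, rfl, haug, hdet⟩
    exact ⟨f, e, hf, he, by ring, haug.symm, hdet.symm⟩

theorem aug_of_mem_D {y : K} (hy : y ∈ D P) : P.aug y = 0 := by
  obtain ⟨e, f, _, _, rfl, haug, _⟩ := hy
  rw [map_sub, haug, sub_self]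

theorem det_eq_of_mem_D {y : K} (hy : y ∈ D P) (e' f' : K) (he' : e' ∈ P.pos) (hf' : f' ∈ P.pos)
    (h : y = e' - f') : det P e' = det P f' := by
  obtain ⟨e, f, he, hf, rfl, _, hdet⟩ := hy
  have h1 : e + f' = e' + f := by linear_combination h
  have h2 := congrArg (det P) h1
  rw [det_add P _ _ he hf', det_add P _ _ he' hf, hdet] at h2
  have hu := isUnit_det P f hf
  rw [mul_comm (det P e') (det P f)] at h2
  exact (hu.mul_right_injective h2).symm

/-- `(u - 1)(v - 1)` has determinant one for line elements `u`, `v` -/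
theorem line_mul_line_mem_D (u v : K) (hu : P.IsLine u) (hv : P.IsLine v) :
    (u - 1) * (v - 1) ∈ D P := by
  have huv : P.IsLine (u * v) := isLine_mul P u v hu hv
  have h1 : P.IsLine (1 : K) := isLine_one P
  refine ⟨u * v + 1, u + v, P.add_mem _ _ huv.1 h1.1, P.add_mem _ _ hu.1 hv.1, by ring, ?_, ?_⟩
  · rw [map_add, map_add, huv.2, h1.2, hu.2, hv.2]
  · rw [det_add P _ _ huv.1 h1.1, det_add P _ _ hu.1 hv.1, det_line P _ huv, det_line P _ h1,
      det_line P _ hu, det_line P _ hv, mul_one]

/-- the subgroup generated by the `u - 1`, `u` a line element -/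
def Sg : AddSubgroup K := AddSubgroup.closure {x | ∃ u, P.IsLine u ∧ x = u - 1}

theorem mul_mem_D_of_mem_Sg {a b : K} (ha : a ∈ Sg P) (hb : b ∈ Sg P) : a * b ∈ D P := by
  unfold Sg at ha hb
  induction ha using AddSubgroup.closure_induction with
  | mem x hx =>
    obtain ⟨u, hu, rfl⟩ := hx
    induction hb using AddSubgroup.closure_induction with
    | mem y hy =>
      obtain ⟨v, hv, rfl⟩ := hy
      exact line_mul_line_mem_D P u v hu hv
    | zero => rw [mul_zero]; exact zero_mem _
    | add y z _ _ hy hz => rw [mul_add]; exact add_mem hy hz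
    | neg y _ hy => rw [mul_neg]; exact neg_mem hy
  | zero => rw [zero_mul]; exact zero_mem _
  | add x z _ _ hx hz => rw [add_mul]; exact add_mem hx hz
  | neg x _ hx => rw [neg_mul]; exact neg_mem hx

theorem sum_sub_card_mem_Sg (s : Multiset K) (hs : ∀ u ∈ s, P.IsLine u) :
    s.sum - (Multiset.card s : K) ∈ Sg P := by
  have e1 : s.sum - (Multiset.card s : K) = (s.map (fun y => y - 1)).sum := by
    rw [Multiset.sum_map_sub]; simp
  rw [e1]
  apply AddSubgroup.multiset_sum_mem
  intro x hx
  obtain ⟨u, hu, rfl⟩ := Multiset.mem_map.mp hx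
  exact AddSubgroup.subset_closure ⟨u, hs u hu, rfl⟩

end basic

end Groth.Agent.Helper4.LineGr
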