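import Mathlib
import Groth.Agent.Helper4.LineGr

set_option autoImplicit false

/-!
# Helper4: common splittings and products of augmentation-zero elements have determinant one
-/

namespace Groth.Agent.Helper4.LineGr

open LambdaRing Finset
open Groth.Agent.Helper1.Lambda

universe u

section ext

variable {K K' K'' : Type u} [CommRing K] [LambdaOps K] [CommRing K'] [LambdaOps K']
  [CommRing K''] [LambdaOps K'']

theorem isExtension_id (P : PosStructure K) : IsExtension P P (RingHom.id K) where
  isLambdaHom := fun _ _ => rfl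
  injective := fun _ _ h => h
  aug_comp := fun _ => rfl
  pos_subset := fun _ he => he

theorem isExtension_comp {P : PosStructure K} {P' : PosStructure K'} {P'' : PosStructure K''}
    {f : K →+* K'} {g : K' →+* K''} (hf : IsExtension P P' f) (hg : IsExtension P' P'' g) :
    IsExtension P P'' (g.comp f) where
  isLambdaHom := fun i x => by
    rw [RingHom.comp_apply, hf.isLambdaHom, hg.isLambdaHom]; rfl
  injective := hg.injective.comp hf.injective
  aug_comp := fun x => by rw [RingHom.comp_apply, hg.aug_comp, hf.aug_comp]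
  pos_subset := fun e he => hg.pos_subset _ (hf.pos_subset e he)

theorem map_det {P : PosStructure K} {P' : PosStructure K'} {f : K →+* K'}
    (hf : IsExtension P P' f) (e : K) : f (det P e) = det P' (f e) := by
  unfold det
  rw [hf.isLambdaHom, hf.aug_comp]

/-- descent of determinant one along an extension -/
theorem mem_D_of_map_mem_D {P : PosStructure K} {P' : PosStructure K'} {f : K →+* K'}
    (hf : IsExtension P P' f) {y : K} (hy : f y ∈ D P') : y ∈ D P := by
  obtain ⟨e, e', he, he', rfl⟩ := P.exists_sub y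
  have haug : P.aug e = P.aug e' := by
    have := aug_of_mem_D P' hy
    rw [hf.aug_comp, map_sub] at this
    linarith
  refine ⟨e, e', he, he', rfl, haug, ?_⟩
  apply hf.injective
  rw [map_det hf, map_det hf]
  exact det_eq_of_mem_D P' hy (f e) (f e') (hf.pos_subset e he) (hf.pos_subset e' he')
    (by rw [map_sub])

end ext

/-- all elements of a finite list of positive elements split in a common extension -/
theorem exists_common_split (C : Set PosLambdaRing.{u}) (hC : SplitClass C) (L : PosLambdaRing.{u})
    (hL : L ∈ C) (l : List L.carrier) (hl : ∀ e ∈ l, e ∈ L.posStr.pos) :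
    ∃ L' ∈ C, ∃ g : L.carrier →+* L'.carrier, IsExtension L.posStr L'.posStr g ∧
      ∀ e ∈ l, ∃ s : Multiset L'.carrier, (∀ u ∈ s, L'.posStr.IsLine u) ∧ s.sum = g e := by
  induction l with
  | nil => exact ⟨L, hL, RingHom.id _, isExtension_id _, by simp⟩
  | cons e l ih =>
    obtain ⟨L₁, hL₁, g₁, hg₁, hs₁⟩ := ih (fun x hx => hl x (List.mem_cons_of_mem _ hx))
    obtain ⟨L₂, hL₂, g₂, hg₂, s, hs, hsum⟩ :=
      hC L₁ hL₁ (g₁ e) (hg₁.pos_subset e (hl e List.mem_cons_self))
    refine ⟨L₂, hL₂, g₂.comp g₁, isExtension_comp hg₁ hg₂, ?_⟩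
    intro x hx
    rcases List.mem_cons.mp hx with rfl | hx
    · exact ⟨s, hs, hsum⟩
    · obtain ⟨s', hs', hsum'⟩ := hs₁ x hx
      refine ⟨s'.map g₂, ?_, ?_⟩
      · intro u hu
        obtain ⟨v, hv, rfl⟩ := Multiset.mem_map.mp hu
        exact isLine_map L₁.posStr L₂.posStr g₂ hg₂ v (hs' v hv)
      · rw [RingHom.comp_apply, ← hsum', map_multiset_sum]

/-- products of two elements of augmentation zero have determinant one -/
theorem mul_mem_D (C : Set PosLambdaRing.{u}) (hC : SplitClass C) (L : PosLambdaRing.{u})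
    (hL : L ∈ C) (a b : L.carrier) (ha : L.posStr.aug a = 0) (hb : L.posStr.aug b = 0) :
    a * b ∈ D L.posStr := by
  obtain ⟨e, f, he, hf, rfl⟩ := L.posStr.exists_sub a
  obtain ⟨e', f', he', hf', rfl⟩ := L.posStr.exists_sub b
  obtain ⟨L', hL', g, hg, hsplit⟩ := exists_common_split C hC L hL [e, f, e', f'] (by
    intro x hx
    simp only [List.mem_cons, List.not_mem_nil, or_false] at hx
    rcases hx with rfl | rfl | rfl | rfl <;> assumption)
  apply mem_D_of_map_mem_D hg
  rw [map_mul]
  have hmem : ∀ x y : L.carrier, (∃ s : Multiset L'.carrier, (∀ u ∈ s, L'.posStr.IsLine u) ∧ s.sum = g x) →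
      (∃ s : Multiset L'.carrier, (∀ u ∈ s, L'.posStr.IsLine u) ∧ s.sum = g y) →
      L.posStr.aug (x - y) = 0 → g (x - y) ∈ Sg L'.posStr := by
    rintro x y ⟨s, hs, hsx⟩ ⟨t, ht, hty⟩ hxy
    have hcs : (Multiset.card s : ℤ) = Multiset.card t := by
      rw [← aug_sum_lines L'.posStr s hs, ← aug_sum_lines L'.posStr t ht, hsx, hty, hg.aug_comp,
        hg.aug_comp]
      rw [map_sub] at hxy
      linarith
    have hcs' : Multiset.card s = Multiset.card t := by exact_mod_cast hcs
    have e1 : g (x - y) = (s.sum - (Multiset.card s : L'.carrier)) -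
        (t.sum - (Multiset.card t : L'.carrier)) := by
      rw [map_sub, hsx, hty, hcs']; ring
    rw [e1]
    exact sub_mem (sum_sub_card_mem_Sg _ s hs) (sum_sub_card_mem_Sg _ t ht)
  exact mul_mem_D_of_mem_Sg _
    (hmem e f (hsplit e (by simp)) (hsplit f (by simp)) ha)
    (hmem e' f' (hsplit e' (by simp)) (hsplit f' (by simp)) hb)

end Groth.Agent.Helper4.LineGr
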