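import Mathlib
import Groth.Agent.Helper4.LineGr2

set_option autoImplicit false

/-!
# Helper4: `F^2` of the γ-filtration consists of elements of determinant one
-/

namespace Groth.Agent.Helper4.LineGr

open LambdaRing Finset
open Groth.Agent.Helper1.Lambda

universe u

variable {K : Type u} [CommRing K] [LambdaOps K] (P : PosStructure K)

/-- `ε(λ^k x) = 0` for `k ≥ 1` when `ε(x) = 0` -/
theorem aug_lam_eq_zero (hK : HasSplitting K P) (x : K) (hx : P.aug x = 0) (k : ℕ) (hk : 1 ≤ k) :
    P.aug (LambdaOps.lam k x) = 0 := by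
  obtain ⟨e, f, he, hf, rfl⟩ := P.exists_sub x
  have hef : P.aug e = P.aug f := by
    rw [map_sub] at hx; linarith
  induction k using Nat.strong_induction_on with
  | _ k ih =>
    obtain ⟨k, rfl⟩ : ∃ k', k = k' + 1 := ⟨k - 1, by omega⟩
    have h1 : LambdaOps.lam (k + 1) e =
        ∑ i ∈ range (k + 1 + 1), LambdaOps.lam i (e - f) * LambdaOps.lam (k + 1 - i) f := by
      rw [← LambdaOps.lam_add, sub_add_cancel]
    have h2 := congrArg P.aug h1
    rw [map_sum, Groth.Agent.S3288.result K P hK e he (k + 1), Finset.sum_range_succ,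
      Finset.sum_range_succ'] at h2
    simp only [map_mul, Groth.Agent.S3288.result K P hK f hf, LambdaOps.lam_zero, map_one, one_mul,
      Nat.sub_zero, Nat.sub_self, Nat.choose_zero_right, Nat.cast_one, mul_one] at h2
    rw [Finset.sum_eq_zero, zero_add, hef] at h2
    · linarith
    · intro i hi
      rw [Finset.mem_range] at hi
      rw [ih (i + 1) (by omega) (by omega), zero_mul]

theorem aug_gamma_eq_zero (hK : HasSplitting K P) (x : K) (hx : P.aug x = 0) (k : ℕ) (hk : 1 ≤ k) :
    P.aug (gamma k x) = 0 := by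
  unfold gamma
  rw [if_neg (by omega), map_sum]
  apply Finset.sum_eq_zero
  intro j _
  rw [map_mul]
  split_ifs with hj
  · rw [map_zero, mul_zero]
  · rw [aug_lam_eq_zero P hK x hx j (by omega), mul_zero]

/-- the γ-monomials of positive weight have augmentation zero -/
theorem aug_mono_eq_zero (hK : HasSplitting K P) (l : List (ℕ × K)) (hl : ∀ p ∈ l, P.aug p.2 = 0)
    (hw : 1 ≤ (l.map Prod.fst).sum) : P.aug ((l.map fun p => gamma p.1 p.2).prod) = 0 := by
  induction l with
  | nil => simp at hw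
  | cons a l ih =>
    simp only [List.map_cons, List.prod_cons, List.sum_cons, map_mul] at hw ⊢
    by_cases ha : 1 ≤ a.1
    · rw [aug_gamma_eq_zero P hK a.2 (hl a List.mem_cons_self) a.1 ha, zero_mul]
    · rw [ih (fun p hp => hl p (List.mem_cons_of_mem _ hp)) (by omega), mul_zero]

theorem aug_eq_zero_of_mem_filt_one (hK : HasSplitting K P) {x : K}
    (hx : x ∈ gammaFiltration P 1) : P.aug x = 0 := by
  unfold gammaFiltration at hx
  rw [if_neg one_ne_zero] at hx
  induction hx using AddSubgroup.closure_induction with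
  | mem y hy =>
    obtain ⟨l, hl, hw, rfl⟩ := hy
    exact aug_mono_eq_zero P hK l hl hw
  | zero => exact map_zero _
  | add a b _ _ ha hb => rw [map_add, ha, hb, add_zero]
  | neg a _ ha => rw [map_neg, ha, neg_zero]

theorem mul_mem_D' (hK : HasSplitting K P) (a b : K) (ha : P.aug a = 0) (hb : P.aug b = 0) :
    a * b ∈ D P := by
  obtain ⟨C, hKC, hC⟩ := hK
  exact mul_mem_D C hC ⟨K, P⟩ hKC a b ha hb

/-- `γ^r(e - ε(e))` has determinant one for `e` positive and `r ≥ 2` -/
theorem gamma_pos_mem_D (hK : HasSplitting K P) (e : K) (he : e ∈ P.pos) (r : ℕ) (hr : 2 ≤ r) :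
    gamma r (e - ((P.aug e).toNat : K)) ∈ D P := by
  classical
  obtain ⟨C, hKC, hC⟩ := hK
  obtain ⟨L, hL, f, hext, s, hs, hsum⟩ := hC ⟨K, P⟩ hKC e he
  apply mem_D_of_map_mem_D hext
  have hcard : P.aug e = Multiset.card s := by
    rw [← hext.aug_comp e, ← hsum]
    exact aug_sum_lines L.posStr s hs
  have hmN : (P.aug e).toNat = Multiset.card s := by rw [hcard]; simp
  have h1 : ∀ k : ℕ, 2 ≤ k → LambdaOps.lam k (1 : L.carrier) = 0 :=
    fun k hk => lam_line L.posStr 1 (isLine_one L.posStr) k hk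
  have hline : ∀ y ∈ s, ∀ i : ℕ, 2 ≤ i → LambdaOps.lam i y = 0 :=
    fun y hy i hi => lam_line L.posStr y (hs y hy) i hi
  rw [InvSplit.map_gamma f hext.isLambdaHom, map_sub, map_natCast, ← hsum, hmN]
  have e1 : s.sum - (Multiset.card s : L.carrier) = (s.map (fun y => y - 1)).sum := by
    rw [Multiset.sum_map_sub]; simp
  rw [e1, GammaOps.gamma_sum_sub_one h1 _ hline]
  unfold Multiset.esymm
  apply AddSubgroup.multiset_sum_mem
  intro x hx
  obtain ⟨p, hp, rfl⟩ := Multiset.mem_map.mp hx
  rw [Multiset.mem_powersetCard] at hp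
  have haug0 : ∀ y ∈ p, L.posStr.aug y = 0 := by
    intro y hy
    obtain ⟨u, hu, rfl⟩ := Multiset.mem_map.mp (Multiset.mem_of_le hp.1 hy)
    rw [map_sub, (hs u hu).2, map_one, sub_self]
  have hprod0 : ∀ t : Multiset L.carrier, (∀ y ∈ t, L.posStr.aug y = 0) → 1 ≤ Multiset.card t →
      L.posStr.aug t.prod = 0 := by
    intro t ht hc
    obtain ⟨y, hy⟩ := Multiset.card_pos_iff_exists_mem.mp (by omega : 0 < Multiset.card t)
    obtain ⟨t', rfl⟩ := Multiset.exists_cons_of_mem hy
    rw [Multiset.prod_cons, map_mul, ht y (Multiset.mem_cons_self y t'), zero_mul]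
  obtain ⟨y, hy⟩ := Multiset.card_pos_iff_exists_mem.mp (by omega : 0 < Multiset.card p)
  obtain ⟨p', rfl⟩ := Multiset.exists_cons_of_mem hy
  rw [Multiset.prod_cons]
  apply mul_mem_D C hC L hL
  · exact haug0 y (Multiset.mem_cons_self y p')
  · apply hprod0 p' (fun z hz => haug0 z (Multiset.mem_cons_of_mem hz))
    rw [Multiset.card_cons] at hp
    omega

/-- `γ^r(-z)` has determinant one for `r ≥ 2` if the `γ^r(z)` have -/
theorem gamma_neg_mem_D (hK : HasSplitting K P) (z : K) (hz : P.aug z = 0)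
    (hpos : ∀ r, 2 ≤ r → gamma r z ∈ D P) (r : ℕ) (hr : 2 ≤ r) : gamma r (-z) ∈ D P := by
  have h := Groth.Agent.Helper1.Lambda.gamma_add r z (-z)
  rw [add_neg_cancel, GammaOps.gamma_zero_arg, if_neg (by omega), Finset.sum_range_succ',
    AdamsGamma.gamma_zero'' z, one_mul, Nat.sub_zero] at h
  have h2 : gamma r (-z) = - ∑ k ∈ range r, gamma (k + 1) z * gamma (r - (k + 1)) (-z) := by
    linear_combination -h
  rw [h2]
  apply neg_mem
  apply AddSubgroup.sum_mem
  intro k hk
  rw [Finset.mem_range] at hk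
  by_cases hkr : k + 1 = r
  · rw [hkr, Nat.sub_self, AdamsGamma.gamma_zero'', mul_one]
    exact hpos r hr
  · apply mul_mem_D' P hK
    · exact aug_gamma_eq_zero P hK z hz (k + 1) (by omega)
    · exact aug_gamma_eq_zero P hK (-z) (by rw [map_neg, hz, neg_zero]) _ (by omega)

theorem gamma_mem_D (hK : HasSplitting K P) (x : K) (hx : P.aug x = 0) (r : ℕ) (hr : 2 ≤ r) :
    gamma r x ∈ D P := by
  obtain ⟨e, f, he, hf, rfl⟩ := P.exists_sub x
  have hef : P.aug e = P.aug f := by
    rw [map_sub] at hx; linarith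
  set m := (P.aug e).toNat with hm
  have hme : ((m : ℕ) : ℤ) = P.aug e := Int.toNat_of_nonneg (P.aug_pos e he).le
  have hz1 : P.aug (e - (m : K)) = 0 := by rw [map_sub, map_natCast, hme, sub_self]
  have hz2 : P.aug (f - (m : K)) = 0 := by rw [map_sub, map_natCast, hme, hef, sub_self]
  have e1 : e - f = (e - (m : K)) + -(f - (m : K)) := by ring
  have hmf : m = (P.aug f).toNat := by rw [hm, hef]
  rw [e1, Groth.Agent.Helper1.Lambda.gamma_add]
  apply AddSubgroup.sum_mem
  intro a ha
  rw [Finset.mem_range] at ha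
  by_cases ha0 : a = 0
  · subst ha0
    rw [AdamsGamma.gamma_zero'', one_mul, Nat.sub_zero]
    apply gamma_neg_mem_D P hK _ hz2 _ r hr
    intro r' hr'
    rw [hmf]
    exact gamma_pos_mem_D P hK f hf r' hr'
  · by_cases har : a = r
    · subst har
      rw [Nat.sub_self, AdamsGamma.gamma_zero'', mul_one]
      exact gamma_pos_mem_D P hK e he a hr
    · apply mul_mem_D' P hK
      · exact aug_gamma_eq_zero P hK _ hz1 a (by omega)
      · exact aug_gamma_eq_zero P hK _ (by rw [map_neg, hz2, neg_zero]) _ (by omega)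

theorem mono_eq_one (l : List (ℕ × K)) (hw : (l.map Prod.fst).sum = 0) :
    (l.map fun p => gamma p.1 p.2).prod = 1 := by
  induction l with
  | nil => simp
  | cons a l ih =>
    simp only [List.map_cons, List.prod_cons, List.sum_cons] at hw ⊢
    have ha : a.1 = 0 := by omega
    rw [ha, AdamsGamma.gamma_zero'', one_mul, ih (by omega)]

theorem mono_mem_D (hK : HasSplitting K P) (l : List (ℕ × K)) (hl : ∀ p ∈ l, P.aug p.2 = 0)
    (hw : 2 ≤ (l.map Prod.fst).sum) : (l.map fun p => gamma p.1 p.2).prod ∈ D P := by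
  induction l with
  | nil => simp at hw
  | cons a l ih =>
    have hl' : ∀ p ∈ l, P.aug p.2 = 0 := fun p hp => hl p (List.mem_cons_of_mem _ hp)
    simp only [List.map_cons, List.prod_cons, List.sum_cons] at hw ⊢
    by_cases ha : a.1 = 0
    · rw [ha, AdamsGamma.gamma_zero'', one_mul]
      exact ih hl' (by omega)
    · by_cases hwl : 1 ≤ (l.map Prod.fst).sum
      · apply mul_mem_D' P hK
        · exact aug_gamma_eq_zero P hK a.2 (hl a List.mem_cons_self) a.1 (by omega)
        · exact aug_mono_eq_zero P hK l hl' hwl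
      · rw [mono_eq_one l (by omega), mul_one]
        exact gamma_mem_D P hK a.2 (hl a List.mem_cons_self) a.1 (by omega)

theorem filt_two_le_D (hK : HasSplitting K P) {x : K} (hx : x ∈ gammaFiltration P 2) :
    x ∈ D P := by
  unfold gammaFiltration at hx
  rw [if_neg (by norm_num)] at hx
  induction hx using AddSubgroup.closure_induction with
  | mem y hy =>
    obtain ⟨l, hl, hw, rfl⟩ := hy
    exact mono_mem_D P hK l hl hw
  | zero => exact zero_mem _
  | add a b _ _ ha hb => exact add_mem ha hb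
  | neg a _ ha => exact neg_mem ha

/-- line elements congruent modulo `F^2` are equal -/
theorem line_eq_of_sub_mem (hK : HasSplitting K P) (u v : K) (hu : P.IsLine u) (hv : P.IsLine v)
    (h : u - v ∈ gammaFiltration P 2) : u = v := by
  have := det_eq_of_mem_D P (filt_two_le_D P hK h) u v hu.1 hv.1 rfl
  rwa [det_line P u hu, det_line P v hv] at this

theorem mem_filt_one_of_aug (x : K) (hx : P.aug x = 0) : x ∈ gammaFiltration P 1 := by
  have := PosGamma.gamma_mem P x hx 1
  rwa [AdamsGamma.gamma_one''] at this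

/-- `e - ε(e) ≡ det(e) - 1` modulo `F^2` -/
theorem sub_det_mem (e : K) (he : e ∈ P.pos) :
    (e - ((P.aug e).toNat : K)) - (det P e - 1) ∈ gammaFiltration P 2 := by
  set m := (P.aug e).toNat with hm
  have hme : ((m : ℕ) : ℤ) = P.aug e := Int.toNat_of_nonneg (P.aug_pos e he).le
  have hm1 : 1 ≤ m := by
    have := P.aug_pos e he
    omega
  have haug : P.aug (e - (m : K)) = 0 := by rw [map_sub, map_natCast, hme, sub_self]
  have h := congrArg (Polynomial.eval (1 : K)) (Groth.Agent.S3290.result K P e he)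
  rw [← hm] at h
  simp only [Polynomial.eval_finset_sum, Polynomial.eval_mul, Polynomial.eval_C, Polynomial.eval_pow,
    Polynomial.eval_X, one_pow, mul_one, Polynomial.eval_sub, Polynomial.eval_one, sub_self] at h
  have hR : ∑ x ∈ range (m + 1), LambdaOps.lam x e * (0 : K) ^ (m - x) = LambdaOps.lam m e := by
    rw [Finset.sum_range_succ, Finset.sum_eq_zero, zero_add, Nat.sub_self, pow_zero, mul_one]
    intro i hi
    rw [Finset.mem_range] at hi
    rw [zero_pow (by omega), mul_zero]
  rw [hR] at h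
  obtain ⟨k, hk⟩ : ∃ k, m + 1 = k + 2 := ⟨m - 1, by omega⟩
  rw [hk, Finset.sum_range_succ', Finset.sum_range_succ', AdamsGamma.gamma_zero'',
    AdamsGamma.gamma_one''] at h
  have e1 : e - (m : K) - (det P e - 1) = - ∑ i ∈ range k, gamma (i + 1 + 1) (e - (m : K)) := by
    unfold det
    rw [← hm, ← h]; ring
  rw [e1]
  apply neg_mem
  apply AddSubgroup.sum_mem
  intro i _
  exact AdamsGamma.filt_anti P (by omega) (PosGamma.gamma_mem P _ haug (i + 1 + 1))

theorem isLine_det (hK : HasSplitting K P) (hdet : ∀ e : K, e ∈ P.pos → det P e ∈ P.pos) (e : K)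
    (he : e ∈ P.pos) : P.IsLine (det P e) := by
  refine ⟨hdet e he, ?_⟩
  unfold det
  rw [Groth.Agent.S3288.result K P hK e he, Nat.choose_self, Nat.cast_one]

theorem exists_line_congr (hK : HasSplitting K P)
    (hLinv : ∀ w : K, P.IsLine w → ∃ w' : K, P.IsLine w' ∧ w * w' = 1)
    (hdet : ∀ e : K, e ∈ P.pos → det P e ∈ P.pos) (x : K) (hx : x ∈ gammaFiltration P 1) :
    ∃ u : K, P.IsLine u ∧ x - (u - 1) ∈ gammaFiltration P 2 := by
  have hx0 := aug_eq_zero_of_mem_filt_one P hK hx
  obtain ⟨e, f, he, hf, rfl⟩ := P.exists_sub x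
  have hef : P.aug e = P.aug f := by
    rw [map_sub] at hx0; linarith
  have hu := isLine_det P hK hdet e he
  have hv := isLine_det P hK hdet f hf
  obtain ⟨v', hv', hvv'⟩ := hLinv _ hv
  refine ⟨det P e * v', isLine_mul P _ _ hu hv', ?_⟩
  have hA := sub_det_mem P e he
  have hB := sub_det_mem P f hf
  rw [← hef] at hB
  have h1 : det P e - det P f ∈ gammaFiltration P 1 :=
    mem_filt_one_of_aug P _ (by rw [map_sub, hu.2, hv.2, sub_self])
  have h2 : v' - 1 ∈ gammaFiltration P 1 :=
    mem_filt_one_of_aug P _ (by rw [map_sub, hv'.2, map_one, sub_self])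
  have hC := AdamsGamma.mul_mem' P h1 h2
  have := sub_mem (sub_mem hA hB) hC
  convert this using 1
  have : det P e * v' = det P e * v' + (1 - det P f * v') := by rw [hvv']; ring
  rw [this]
  ring

end Groth.Agent.Helper4.LineGr
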