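import Groth.Agent.Helper4.DomOpen
import Mathlib

set_option autoImplicit false
universe u
open CategoryTheory CategoryTheory.Limits AlgebraicGeometry Opposite TopologicalSpace

namespace Groth.Agent.Helper4.LocIntConn

open Groth.Agent.Helper4.DomOpen

/-- If all local rings are domains, two irreducible components that meet are equal. -/
theorem irreducibleComponents_eq_of_mem {Y : Scheme.{u}}
    (hY : ∀ y : Y, IsDomain (Y.presheaf.stalk y)) {Z₁ Z₂ : Set Y}
    (h₁ : Z₁ ∈ irreducibleComponents (Y : Type u)) (h₂ : Z₂ ∈ irreducibleComponents (Y : Type u))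
    (y : Y) (hy₁ : y ∈ Z₁) (hy₂ : y ∈ Z₂) : Z₁ = Z₂ := by
  haveI := hY y
  obtain ⟨η₁, hη₁⟩ := QuasiSober.sober h₁.1 (isClosed_of_mem_irreducibleComponents Z₁ h₁)
  obtain ⟨η₂, hη₂⟩ := QuasiSober.sober h₂.1 (isClosed_of_mem_irreducibleComponents Z₂ h₂)
  have e₁ := generic_eq_of_isDomain y η₁
    (by rw [specializes_iff_mem_closure, hη₁.def]; exact hy₁) (by rw [hη₁.def]; exact h₁)
  have e₂ := generic_eq_of_isDomain y η₂
    (by rw [specializes_iff_mem_closure, hη₂.def]; exact hy₂) (by rw [hη₂.def]; exact h₂)
  rw [← hη₁.def, ← hη₂.def, e₁, e₂]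

/-- If all local rings are domains and there are finitely many irreducible components, each
irreducible component is clopen. -/
theorem isClopen_of_mem_irreducibleComponents {Y : Scheme.{u}}
    (hY : ∀ y : Y, IsDomain (Y.presheaf.stalk y))
    (hfin : (irreducibleComponents (Y : Type u)).Finite) {Z : Set Y}
    (hZ : Z ∈ irreducibleComponents (Y : Type u)) : IsClopen Z := by
  refine ⟨isClosed_of_mem_irreducibleComponents Z hZ, ?_⟩
  let Others : Set (Set Y) := {C ∈ irreducibleComponents (Y : Type u) | C ≠ Z}
  have hOfin : Others.Finite := hfin.subset (fun C hC => hC.1)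
  have hclosed : IsClosed (⋃₀ Others) := by
    rw [Set.sUnion_eq_biUnion]
    exact hOfin.isClosed_biUnion (fun C hC => isClosed_of_mem_irreducibleComponents C hC.1)
  have hcompl : Z = (⋃₀ Others)ᶜ := by
    ext y
    constructor
    · rintro hyZ ⟨C, ⟨hC, hne⟩, hyC⟩
      exact hne (irreducibleComponents_eq_of_mem hY hC hZ y hyC hyZ)
    · intro hy
      by_contra hyZ
      apply hy
      refine ⟨irreducibleComponent y, ⟨irreducibleComponent_mem_irreducibleComponents y, ?_⟩,
        mem_irreducibleComponent⟩
      intro h
      exact hyZ (h ▸ mem_irreducibleComponent)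
  rw [hcompl]
  exact hclosed.isOpen_compl

/-- A connected scheme with finitely many irreducible components all of whose local rings are
domains is irreducible. -/
theorem irreducibleSpace_of_connectedSpace {Y : Scheme.{u}}
    (hY : ∀ y : Y, IsDomain (Y.presheaf.stalk y))
    (hfin : (irreducibleComponents (Y : Type u)).Finite) [ConnectedSpace Y] :
    IrreducibleSpace Y := by
  obtain ⟨y⟩ := (inferInstance : Nonempty Y)
  have hcl := isClopen_of_mem_irreducibleComponents hY hfin
    (irreducibleComponent_mem_irreducibleComponents y)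
  have huniv : irreducibleComponent y = Set.univ := hcl.eq_univ ⟨y, mem_irreducibleComponent⟩
  rw [irreducibleSpace_def, Set.top_eq_univ, ← huniv]
  exact isIrreducible_irreducibleComponent

end Groth.Agent.Helper4.LocIntConn
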