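import Mathlib

set_option autoImplicit false

/-!
# Helper4: the truncated logarithm satisfies `log((1+X)^j) ≡ j log(1+X)` modulo `X^(d+1)`
-/

namespace Groth.Agent.Helper4.LogPoly

open Polynomial Finset

/-- the truncated logarithm `Σ_{n ≤ d} (-1)^n/(n+1) T^(n+1)` evaluated at a polynomial `T` -/
noncomputable def logT (d : ℕ) (T : ℚ[X]) : ℚ[X] :=
  ∑ n ∈ range (d + 1), C ((-1 : ℚ) ^ n / ((n : ℚ) + 1)) * T ^ (n + 1)

theorem derivative_logT (d : ℕ) (T : ℚ[X]) :
    derivative (logT d T) = derivative T * ∑ n ∈ range (d + 1), (-T) ^ n := by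
  unfold logT
  rw [derivative_sum, Finset.mul_sum]
  refine Finset.sum_congr rfl fun n _ => ?_
  rw [derivative_mul, derivative_C, zero_mul, zero_add, derivative_pow, Nat.add_sub_cancel]
  have h1 : C ((-1 : ℚ) ^ n / ((n : ℚ) + 1)) * (C ((n + 1 : ℕ) : ℚ) : ℚ[X]) = C ((-1 : ℚ) ^ n) := by
    rw [← C_mul]
    congr 1
    have : ((n : ℚ) + 1) ≠ 0 := by positivity
    push_cast
    field_simp
  have h2 : C ((-1 : ℚ) ^ n / ((n : ℚ) + 1)) * (C ((n + 1 : ℕ) : ℚ) * T ^ n * derivative T) =
      (C ((-1 : ℚ) ^ n / ((n : ℚ) + 1)) * (C ((n + 1 : ℕ) : ℚ) : ℚ[X])) * T ^ n * derivative T := by ring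
  rw [h2, h1, neg_pow T n, C_pow, C_neg, C_1]
  ring

theorem one_add_mul_derivative_logT (d : ℕ) (T : ℚ[X]) :
    (1 + T) * derivative (logT d T) = derivative T * (1 - (-T) ^ (d + 1)) := by
  rw [derivative_logT, ← mul_neg_geom_sum (-T) (d + 1)]
  ring

/-- the main congruence -/
theorem dvd_logT_sub (d j : ℕ) :
    (X : ℚ[X]) ^ (d + 1) ∣ logT d ((1 + X) ^ j - 1) - (j : ℚ[X]) * logT d X := by
  set Y : ℚ[X] := (1 + X) ^ j - 1 with hY
  set G : ℚ[X] := logT d Y - (j : ℚ[X]) * logT d X with hG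
  -- X divides Y
  have hXY : (X : ℚ[X]) ∣ Y := by
    rw [hY, Polynomial.X_dvd_iff]
    simp [coeff_zero_eq_eval_zero]
  -- (1 + X) G' is divisible by X^(d+1)
  have h1 : (1 + X) * derivative G = (j : ℚ[X]) * ((-X) ^ (d + 1) - (-Y) ^ (d + 1)) := by
    have hY' : derivative Y * (1 + X) = (j : ℚ[X]) * (1 + Y) := by
      rw [hY, derivative_sub, derivative_one, sub_zero, derivative_pow, derivative_add, derivative_one,
        derivative_X, zero_add, mul_one]
      rcases j with _ | j
      · simp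
      · rw [Nat.add_sub_cancel, Polynomial.C_eq_natCast]
        ring
    have h2 := one_add_mul_derivative_logT d Y
    have h3 := one_add_mul_derivative_logT d X
    rw [derivative_X, one_mul] at h3
    rw [hG, derivative_sub, derivative_mul, derivative_natCast, zero_mul, zero_add]
    have h4 : (1 + Y) * ((1 + X) * derivative (logT d Y)) = (1 + Y) * ((j : ℚ[X]) * (1 - (-Y) ^ (d + 1))) := by
      calc (1 + Y) * ((1 + X) * derivative (logT d Y))
          = (1 + X) * ((1 + Y) * derivative (logT d Y)) := by ring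
        _ = (1 + X) * (derivative Y * (1 - (-Y) ^ (d + 1))) := by rw [h2]
        _ = (derivative Y * (1 + X)) * (1 - (-Y) ^ (d + 1)) := by ring
        _ = (1 + Y) * ((j : ℚ[X]) * (1 - (-Y) ^ (d + 1))) := by rw [hY']; ring
    have hne : (1 + Y : ℚ[X]) ≠ 0 := by
      rw [hY]
      have : (1 : ℚ[X]) + ((1 + X) ^ j - 1) = (1 + X) ^ j := by ring
      rw [this]
      apply pow_ne_zero
      intro h
      have := congrArg (Polynomial.eval 0) h
      simp at this
    have h5 := mul_left_cancel₀ hne h4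
    rw [mul_sub, mul_sub, h5, mul_comm (1 + X) ((j : ℚ[X]) * derivative (logT d X)), mul_assoc,
      mul_comm (derivative (logT d X)) (1 + X), h3]
    ring
  have h6 : (X : ℚ[X]) ^ (d + 1) ∣ (1 + X) * derivative G := by
    rw [h1]
    apply Dvd.dvd.mul_left
    apply dvd_sub
    · rw [neg_pow]; exact Dvd.intro_left _ rfl
    · rw [neg_pow]
      apply Dvd.dvd.mul_left
      exact pow_dvd_pow_of_dvd hXY _
  have hcop : IsCoprime ((X : ℚ[X]) ^ (d + 1)) (1 + X) := by
    apply IsCoprime.pow_left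
    exact ⟨-1, 1, by ring⟩
  have h7 : (X : ℚ[X]) ^ (d + 1) ∣ derivative G := hcop.dvd_of_dvd_mul_left h6
  -- constant term
  have h0 : G.coeff 0 = 0 := by
    rw [hG, coeff_zero_eq_eval_zero]
    unfold logT
    simp [eval_finsetSum, hY]
  rw [Polynomial.X_pow_dvd_iff] at h7 ⊢
  intro k hk
  rcases k with _ | k
  · exact h0
  · have := h7 k (by omega)
    rw [coeff_derivative] at this
    have hk1 : ((k : ℚ) + 1) ≠ 0 := by positivity
    exact (mul_eq_zero.mp this).resolve_right hk1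

end Groth.Agent.Helper4.LogPoly
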