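import Groth.Agent.Helper4.PureLift
import Mathlib

/-!
# Pure maps via solvability of linear systems; products; faithfully flat unit maps (helper4)
-/

set_option autoImplicit false
universe u
open scoped TensorProduct

namespace Groth.Agent.Helper4.MLDescA

open Groth.Agent.Helper4.PureLift

variable {R : Type u} [CommRing R]

/-- linear systems over `R` with constants in `E` that are solvable in `E'` are solvable in `E` -/
def Solv {E E' : Type u} [AddCommGroup E] [Module R E] [AddCommGroup E'] [Module R E']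
    (j : E →ₗ[R] E') : Prop :=
  ∀ (n k : ℕ) (a : Fin n → Fin k → R) (e : Fin n → E) (y : Fin k → E'),
    (∀ i, j (e i) = ∑ l, a i l • y l) → ∃ y' : Fin k → E, ∀ i, e i = ∑ l, a i l • y' l

section pure

variable {E E' : Type u} [AddCommGroup E] [Module R E] [AddCommGroup E'] [Module R E']

lemma fg_case (j : E →ₗ[R] E') (hj : Solv j) (Q : Type u) [AddCommGroup Q] [Module R Q]
    [Module.Finite R Q] : Function.Injective (j.lTensor Q) := by
  rw [injective_iff_map_eq_zero]
  intro x hx
  obtain ⟨n, q, hq⟩ := Module.Finite.exists_fin (R := R) (M := Q)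
  obtain ⟨k, rfl⟩ := exists_sum_of_span q hq x
  simp only [map_sum, LinearMap.lTensor_tmul] at hx
  obtain ⟨κ, a, y, h1, h2⟩ := TensorProduct.vanishesTrivially_of_sum_tmul_eq_zero R hq hx
  obtain ⟨y', hy'⟩ := hj n κ a k y h1
  apply TensorProduct.sum_tmul_eq_zero_of_vanishesTrivially
  exact ⟨κ, a, y', hy', h2⟩

/-- a map with the solvability property is universally injective -/
theorem lTensor_injective (j : E →ₗ[R] E') (hj : Solv j) (Q : Type u) [AddCommGroup Q]
    [Module R Q] : Function.Injective (j.lTensor Q) := by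
  rw [injective_iff_map_eq_zero]
  intro x hx
  obtain ⟨Q₀, hfg, x₀, rfl⟩ := Submodule.exists_fg_le_eq_rTensor_subtype x
  have h0 : (Q₀.subtype.rTensor E') (j.lTensor Q₀ x₀) = (Q₀.subtype.rTensor E') 0 := by
    rw [map_zero, ← hx, ← LinearMap.comp_apply, ← LinearMap.comp_apply,
      LinearMap.rTensor_comp_lTensor, LinearMap.lTensor_comp_rTensor]
  obtain ⟨Q', hfg', hle, heq⟩ := hfg.exists_rTensor_fg_inclusion_eq h0
  rw [map_zero] at heq
  haveI : Module.Finite R Q' := Module.Finite.iff_fg.mpr hfg'
  have hx' : j.lTensor Q' ((Q₀.inclusion hle).rTensor E x₀) = 0 := by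
    rw [← heq, ← LinearMap.comp_apply, ← LinearMap.comp_apply,
      LinearMap.rTensor_comp_lTensor, LinearMap.lTensor_comp_rTensor]
  have hzero := (injective_iff_map_eq_zero _).mp (fg_case j hj Q') _ hx'
  have : Q₀.subtype = Q'.subtype ∘ₗ Q₀.inclusion hle := by
    ext; rfl
  rw [this, LinearMap.rTensor_comp, LinearMap.comp_apply, hzero, map_zero]

end pure

/-- solvability is inherited by products -/
theorem Solv_pi {ι : Type u} {E E' : ι → Type u} [∀ i, AddCommGroup (E i)] [∀ i, Module R (E i)]
    [∀ i, AddCommGroup (E' i)] [∀ i, Module R (E' i)] (j : ∀ i, E i →ₗ[R] E' i)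
    (hj : ∀ i, Solv (j i)) :
    Solv (LinearMap.pi fun i => (j i) ∘ₗ LinearMap.proj i : (∀ i, E i) →ₗ[R] ∀ i, E' i) := by
  intro n k a e y h
  have h' : ∀ α : ι, ∃ y' : Fin k → E α, ∀ i, e i α = ∑ l, a i l • y' l := by
    intro α
    refine hj α n k a (fun i => e i α) (fun l => y l α) fun i => ?_
    have := congrFun (h i) α
    simpa [Finset.sum_apply] using this
  choose y' hy' using h'
  refine ⟨fun l α => y' α l, fun i => ?_⟩
  funext α
  rw [hy' α i, Finset.sum_apply]
  rfl

/-- faithfully flat descent of membership in a range -/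
theorem mem_range_of_tmul_mem_range {S : Type u} [CommRing S] [Algebra R S]
    [Module.FaithfullyFlat R S] {X Y : Type u} [AddCommGroup X] [Module R X] [AddCommGroup Y]
    [Module R Y] (f : X →ₗ[R] Y) (y : Y)
    (h : (1 : S) ⊗ₜ[R] y ∈ LinearMap.range (f.lTensor S)) : y ∈ LinearMap.range f := by
  obtain ⟨w, hw⟩ := h
  have h1 : (LinearMap.range f).mkQ y = 0 := by
    apply Module.FaithfullyFlat.tensorProduct_mk_injective (A := R) (B := S)
    rw [map_zero]
    show (1 : S) ⊗ₜ[R] ((LinearMap.range f).mkQ y) = 0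
    have h2 : (1 : S) ⊗ₜ[R] ((LinearMap.range f).mkQ y) =
        ((LinearMap.range f).mkQ.lTensor S) ((1 : S) ⊗ₜ[R] y) := rfl
    rw [h2, ← hw, ← LinearMap.comp_apply, ← LinearMap.lTensor_comp]
    have h3 : (LinearMap.range f).mkQ ∘ₗ f = 0 := by
      ext x
      simp
    rw [h3, LinearMap.lTensor_zero, LinearMap.zero_apply]
  rwa [Submodule.mkQ_apply, Submodule.Quotient.mk_eq_zero] at h1

/-- the unit map `Q → S ⊗ Q` of a faithfully flat algebra has the solvability property -/
theorem Solv_mk {S : Type u} [CommRing S] [Algebra R S] [Module.FaithfullyFlat R S]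
    (Q : Type u) [AddCommGroup Q] [Module R Q] : Solv (TensorProduct.mk R S Q 1) := by
  intro n k a e y h
  -- the matrix map
  let f : (Fin k → Q) →ₗ[R] (Fin n → Q) :=
    LinearMap.pi fun i => ∑ l, a i l • LinearMap.proj l
  have hf : ∀ (y' : Fin k → Q) (i : Fin n), f y' i = ∑ l, a i l • y' l := by
    intro y' i
    simp [f, LinearMap.sum_apply]
  suffices hmem : (fun i => e i) ∈ LinearMap.range f by
    obtain ⟨y', hy'⟩ := hmem
    exact ⟨y', fun i => by rw [← hf, hy']⟩
  apply mem_range_of_tmul_mem_range (S := S)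
  -- transport along `S ⊗ (Fin n → Q) ≃ (Fin n → S ⊗ Q)`
  refine ⟨(TensorProduct.piRight R R S (fun _ : Fin k => Q)).symm y, ?_⟩
  apply (TensorProduct.piRight R R S (fun _ : Fin n => Q)).injective
  funext i
  have key : ∀ w : S ⊗[R] (Fin k → Q),
      TensorProduct.piRight R R S (fun _ : Fin n => Q) (f.lTensor S w) i =
        ∑ l, a i l • TensorProduct.piRight R R S (fun _ : Fin k => Q) w l := by
    intro w
    induction w using TensorProduct.induction_on with
    | zero => simp
    | tmul s y' =>
      have e1 : TensorProduct.piRight R R S (fun _ : Fin n => Q) (f.lTensor S (s ⊗ₜ[R] y')) i =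
          s ⊗ₜ[R] f y' i := rfl
      have e2 : ∀ l, TensorProduct.piRight R R S (fun _ : Fin k => Q) (s ⊗ₜ[R] y') l =
          s ⊗ₜ[R] y' l := fun l => rfl
      rw [e1, hf, TensorProduct.tmul_sum]
      simp_rw [e2, TensorProduct.tmul_smul]
    | add w w' hw hw' =>
      rw [map_add, map_add, Pi.add_apply, hw, hw', map_add, ← Finset.sum_add_distrib]
      simp_rw [Pi.add_apply, smul_add]
  rw [key, LinearEquiv.apply_symm_apply]
  have h4 : TensorProduct.piRight R R S (fun _ : Fin n => Q) ((1 : S) ⊗ₜ[R] fun i => e i) i =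
      (1 : S) ⊗ₜ[R] e i := by
    rw [TensorProduct.piRight_apply, TensorProduct.piRightHom_tmul]
  rw [h4]
  exact (h i).symm

end Groth.Agent.Helper4.MLDescA
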