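import Mathlib

/-! A split lemma in pretriangulated categories. -/

set_option autoImplicit false

open CategoryTheory Limits Pretriangulated

namespace Groth.Agent.Helper4.TriSplit

variable {C : Type*} [Category C] [HasShift C ℤ] [HasZeroObject C] [Preadditive C]
  [∀ (n : ℤ), (shiftFunctor C n).Additive] [Pretriangulated C]

/-- Let `X ⟶ Y ⟶ Z ⟶ X⟦1⟧` be distinguished where `Y` is a biproduct of `Y₁` and `Y₂`. If the
component `X ⟶ Y₁` is an isomorphism then `Y₂ ⟶ Y ⟶ Z` is an isomorphism. -/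
theorem isIso_of_split {X Y Z Y₁ Y₂ : C} (f : X ⟶ Y) (g : Y ⟶ Z) (h : Z ⟶ X⟦(1 : ℤ)⟧)
    (hT : Triangle.mk f g h ∈ distTriang C)
    (i₁ : Y₁ ⟶ Y) (i₂ : Y₂ ⟶ Y) (p₁ : Y ⟶ Y₁) (p₂ : Y ⟶ Y₂)
    (h21 : i₂ ≫ p₁ = 0) (h22 : i₂ ≫ p₂ = 𝟙 Y₂) (hsum : p₁ ≫ i₁ + p₂ ≫ i₂ = 𝟙 Y)
    [IsIso (f ≫ p₁)] : IsIso (i₂ ≫ g) := by
  have hfg : f ≫ g = 0 := comp_distTriang_mor_zero₁₂ _ hT
  -- `h = 0`
  have hh : h = 0 := by
    have h1 : h ≫ f⟦(1 : ℤ)⟧' = 0 := comp_distTriang_mor_zero₃₁ _ hT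
    have h2 : f⟦(1 : ℤ)⟧' ≫ (p₁ ≫ inv (f ≫ p₁))⟦(1 : ℤ)⟧' = 𝟙 _ := by
      rw [← Functor.map_comp, ← Category.assoc, IsIso.hom_inv_id, CategoryTheory.Functor.map_id]
    calc h = h ≫ (f⟦(1 : ℤ)⟧' ≫ (p₁ ≫ inv (f ≫ p₁))⟦(1 : ℤ)⟧') := by rw [h2, Category.comp_id]
      _ = 0 := by rw [← Category.assoc, h1, zero_comp]
  apply isIso_of_yoneda_map_bijective
  intro W
  constructor
  · intro w w' hww'
    have hw : (w - w') ≫ i₂ ≫ g = 0 := by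
      rw [Preadditive.sub_comp]
      exact sub_eq_zero.2 hww'
    suffices w - w' = 0 from sub_eq_zero.1 this
    obtain ⟨(x : W ⟶ X), (hx : (w - w') ≫ i₂ = x ≫ f)⟩ := Triangle.coyoneda_exact₂ _ hT ((w - w') ≫ i₂) (by change ((w - w') ≫ i₂) ≫ g = 0; rw [Category.assoc]; exact hw)
    have hx0 : x ≫ (f ≫ p₁) = 0 := by
      have h' : (w - w') ≫ i₂ = x ≫ f := hx
      calc x ≫ (f ≫ p₁) = (x ≫ f) ≫ p₁ := by rw [Category.assoc]
        _ = 0 := by rw [← h', Category.assoc, h21, comp_zero]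
    have hx1 : x = 0 := by
      rw [← cancel_mono (f ≫ p₁), hx0, zero_comp]
    have : (w - w') ≫ i₂ = 0 := by
      have h' : (w - w') ≫ i₂ = x ≫ f := hx
      rw [h', hx1, zero_comp]
    calc w - w' = ((w - w') ≫ i₂) ≫ p₂ := by rw [Category.assoc, h22, Category.comp_id]
      _ = 0 := by rw [this, zero_comp]
  · intro z
    obtain ⟨(y : W ⟶ Y), (hy : z = y ≫ g)⟩ := Triangle.coyoneda_exact₃ _ hT z (by change z ≫ h = 0; rw [hh, comp_zero])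
    have hy' : z = y ≫ g := hy
    let x : W ⟶ X := y ≫ p₁ ≫ inv (f ≫ p₁)
    let y' : W ⟶ Y := y - x ≫ f
    have hy'g : y' ≫ g = z := by
      rw [Preadditive.sub_comp, Category.assoc, hfg, comp_zero, sub_zero, hy']
    have hy'p : y' ≫ p₁ = 0 := by
      rw [Preadditive.sub_comp]
      have : (x ≫ f) ≫ p₁ = y ≫ p₁ := by
        change ((y ≫ p₁ ≫ inv (f ≫ p₁)) ≫ f) ≫ p₁ = y ≫ p₁
        simp only [Category.assoc]
        rw [IsIso.inv_hom_id, Category.comp_id]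
      rw [this, sub_self]
    refine ⟨y' ≫ p₂, ?_⟩
    change (y' ≫ p₂) ≫ i₂ ≫ g = z
    have : y' = (y' ≫ p₂) ≫ i₂ := by
      calc y' = y' ≫ (p₁ ≫ i₁ + p₂ ≫ i₂) := by rw [hsum, Category.comp_id]
        _ = (y' ≫ p₂) ≫ i₂ := by
          rw [Preadditive.comp_add, ← Category.assoc, hy'p, zero_comp, zero_add, Category.assoc]
    rw [← Category.assoc, ← this, hy'g]

end Groth.Agent.Helper4.TriSplit
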