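import Mathlib
import Groth.Agent.Helper4.LocalObj
import Groth.Agent.Helper4.TriSplit

/-! Mayer–Vietoris for `Rj_*`: the cone of `E ⟶ Rj_{U*}E|_U ⊞ Rj_{V*}E|_V`. -/

set_option autoImplicit false
universe u

open CategoryTheory CategoryTheory.Limits AlgebraicGeometry Opposite Pretriangulated
attribute [local instance] HasDerivedCategory.standard

namespace Groth.Agent.Helper4.MVCore

open Groth.Agent.Helper4.SuppLib Groth.Agent.Helper4.RjSupp Groth.Agent.Helper4.LocalObj

variable {X : Scheme.{u}}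

/-- the unit of `W = U ∩ V` at an object pushed forward from `V` is invertible over `U` -/
theorem isIso_restrict_unit_inf (U V W : X.Opens) (hWV : W ≤ V) (hUVW : U ⊓ V ≤ W)
    [DCoh.HasRpush V.ι] [DCoh.HasRpush W.ι] (G : DCoh.D (V : Scheme.{u})) :
    IsIso ((DCoh.restrictD U.ι).map ((dAdj W).unit.app ((DCoh.Rpush V.ι).obj G))) := by
  obtain ⟨S', g, h, hT⟩ := distinguished_cocone_triangle
    ((dAdj W).unit.app ((DCoh.Rpush V.ι).obj G))
  have hloc : IsLocal V S' :=
    isLocal_of_distinguished V _ hT (isLocal_Rpush V G)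
      ((isLocal_Rpush W _).mono hWV)
  have hlocU : IsLocal (U.ι ⁻¹ᵁ V) ((DCoh.restrictD U.ι).obj S') := isLocal_restrictD U V S' hloc
  have hzW : IsZero ((DCoh.restrictD W.ι).obj S') :=
    (Triangle.isZero₃_iff_isIso₁ _ ((DCoh.restrictD W.ι).map_distinguished _ hT)).2
      (isIso_restrict_unit W _)
  have hzUV : IsZero ((DCoh.restrictD (U.ι ⁻¹ᵁ V).ι).obj ((DCoh.restrictD U.ι).obj S')) := by
    rw [isZero_restrictD_iff]
    intro i x hx
    rw [support_HD_restrictD] at hx
    rw [isZero_restrictD_iff] at hzW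
    have hxV : (U.ι ⁻¹ᵁ V).ι x ∈ U.ι ⁻¹ᵁ V := x.2
    exact hzW i ⟨U.ι ((U.ι ⁻¹ᵁ V).ι x), hUVW ⟨((U.ι ⁻¹ᵁ V).ι x).2, hxV⟩⟩ hx
  have hz : IsZero ((DCoh.restrictD U.ι).obj S') := isZero_of_isLocal _ _ hlocU hzUV
  exact (Triangle.isZero₃_iff_isIso₁ _ ((DCoh.restrictD U.ι).map_distinguished _ hT)).1 hz


/-- `Rj_{U*}(E|_U)` -/
noncomputable abbrev push (U : X.Opens) [DCoh.HasRpush U.ι] (E : DCoh.D X) : DCoh.D X :=
  (DCoh.Rpush U.ι).obj ((DCoh.restrictD U.ι).obj E)

/-- the unit `E ⟶ Rj_{U*}(E|_U)` -/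
noncomputable abbrev η (U : X.Opens) [DCoh.HasRpush U.ι] (E : DCoh.D X) : E ⟶ push U E :=
  (dAdj U).unit.app E

theorem isIso_restrict_η (U : X.Opens) [DCoh.HasRpush U.ι] (E : DCoh.D X) :
    IsIso ((DCoh.restrictD U.ι).map (η U E)) := isIso_restrict_unit U E

/-- the third vertex of a triangle on `E ⟶ Rj_{U*}E|_U ⊞ Rj_{V*}E|_V` is `Rj_{W*}E|_W`, `W = U ∩ V` -/
theorem nonempty_cone_iso (U V W : X.Opens) (hWU : W ≤ U) (hWV : W ≤ V) (hUVW : U ⊓ V ≤ W)
    (hcov : ∀ x : X, x ∈ U ∨ x ∈ V)
    [DCoh.HasRpush U.ι] [DCoh.HasRpush V.ι] [DCoh.HasRpush W.ι] (E : DCoh.D X)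
    {T : DCoh.D X} (g : push U E ⊞ push V E ⟶ T) (h : T ⟶ E⟦(1 : ℤ)⟧)
    (hT : Triangle.mk (biprod.lift (η U E) (η V E)) g h ∈ distTriang (DCoh.D X)) :
    Nonempty (T ≅ push W E) := by
  let a : E ⟶ push U E ⊞ push V E := biprod.lift (η U E) (η V E)
  let t : push V E ⟶ T := biprod.inr ≫ g
  let t' : push U E ⟶ T := biprod.inl ≫ g
  -- `t` is invertible over `U`
  have hrUt : IsIso ((DCoh.restrictD U.ι).map t) := by
    have hTU := (DCoh.restrictD U.ι).map_distinguished _ hT
    haveI : IsIso ((DCoh.restrictD U.ι).map a ≫ (DCoh.restrictD U.ι).map biprod.fst) := by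
      rw [← Functor.map_comp, biprod.lift_fst]
      exact isIso_restrict_η U E
    have := Groth.Agent.Helper4.TriSplit.isIso_of_split ((DCoh.restrictD U.ι).map a)
      ((DCoh.restrictD U.ι).map g)
      ((DCoh.restrictD U.ι).map h ≫ ((DCoh.restrictD U.ι).commShiftIso (1 : ℤ)).hom.app E) hTU
      ((DCoh.restrictD U.ι).map biprod.inl) ((DCoh.restrictD U.ι).map biprod.inr)
      ((DCoh.restrictD U.ι).map biprod.fst) ((DCoh.restrictD U.ι).map biprod.snd)
      (by rw [← Functor.map_comp, biprod.inr_fst, Functor.map_zero])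
      (by rw [← Functor.map_comp, biprod.inr_snd, CategoryTheory.Functor.map_id])
      (by rw [← Functor.map_comp, ← Functor.map_comp, ← Functor.map_add, biprod.total,
        CategoryTheory.Functor.map_id])
    rw [Functor.map_comp]
    exact this
  -- `t'` is invertible over `V`
  have hrVt' : IsIso ((DCoh.restrictD V.ι).map t') := by
    have hTV := (DCoh.restrictD V.ι).map_distinguished _ hT
    haveI : IsIso ((DCoh.restrictD V.ι).map a ≫ (DCoh.restrictD V.ι).map biprod.snd) := by
      rw [← Functor.map_comp, biprod.lift_snd]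
      exact isIso_restrict_η V E
    have := Groth.Agent.Helper4.TriSplit.isIso_of_split ((DCoh.restrictD V.ι).map a)
      ((DCoh.restrictD V.ι).map g)
      ((DCoh.restrictD V.ι).map h ≫ ((DCoh.restrictD V.ι).commShiftIso (1 : ℤ)).hom.app E) hTV
      ((DCoh.restrictD V.ι).map biprod.inr) ((DCoh.restrictD V.ι).map biprod.inl)
      ((DCoh.restrictD V.ι).map biprod.snd) ((DCoh.restrictD V.ι).map biprod.fst)
      (by rw [← Functor.map_comp, biprod.inl_snd, Functor.map_zero])
      (by rw [← Functor.map_comp, biprod.inl_fst, CategoryTheory.Functor.map_id])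
      (by rw [← Functor.map_comp, ← Functor.map_comp, ← Functor.map_add, add_comm, biprod.total,
        CategoryTheory.Functor.map_id])
    rw [Functor.map_comp]
    exact this
  have hrWt : IsIso ((DCoh.restrictD W.ι).map t) := isIso_restrictD_map_of_le hWU t hrUt
  have hrWt' : IsIso ((DCoh.restrictD W.ι).map t') := isIso_restrictD_map_of_le hWV t' hrVt'
  -- the unit of `W` at `T` is invertible over `U`
  have hU : IsIso ((DCoh.restrictD U.ι).map ((dAdj W).unit.app T)) := by
    have nat := (dAdj W).unit.naturality t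
    have e1 : (DCoh.restrictD U.ι).map t ≫ (DCoh.restrictD U.ι).map ((dAdj W).unit.app T) =
        (DCoh.restrictD U.ι).map ((dAdj W).unit.app (push V E)) ≫
          (DCoh.restrictD U.ι).map ((DCoh.Rpush W.ι).map ((DCoh.restrictD W.ι).map t)) := by
      rw [← Functor.map_comp, ← Functor.map_comp]
      exact congrArg _ nat
    haveI := isIso_restrict_unit_inf U V W hWV hUVW ((DCoh.restrictD V.ι).obj E)
    haveI : IsIso ((DCoh.restrictD U.ι).map t ≫
        (DCoh.restrictD U.ι).map ((dAdj W).unit.app T)) := by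
      rw [e1]
      infer_instance
    exact IsIso.of_isIso_comp_left ((DCoh.restrictD U.ι).map t) _
  have hV : IsIso ((DCoh.restrictD V.ι).map ((dAdj W).unit.app T)) := by
    have nat := (dAdj W).unit.naturality t'
    have e1 : (DCoh.restrictD V.ι).map t' ≫ (DCoh.restrictD V.ι).map ((dAdj W).unit.app T) =
        (DCoh.restrictD V.ι).map ((dAdj W).unit.app (push U E)) ≫
          (DCoh.restrictD V.ι).map ((DCoh.Rpush W.ι).map ((DCoh.restrictD W.ι).map t')) := by
      rw [← Functor.map_comp, ← Functor.map_comp]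
      exact congrArg _ nat
    haveI := isIso_restrict_unit_inf V U W hWU (by rw [inf_comm]; exact hUVW)
      ((DCoh.restrictD U.ι).obj E)
    haveI : IsIso ((DCoh.restrictD V.ι).map t' ≫
        (DCoh.restrictD V.ι).map ((dAdj W).unit.app T)) := by
      rw [e1]
      infer_instance
    exact IsIso.of_isIso_comp_left ((DCoh.restrictD V.ι).map t') _
  have hunit : IsIso ((dAdj W).unit.app T) := by
    apply isIso_of_restrict (fun b : Bool => if b then U else V)
    · intro x
      rcases hcov x with hx | hx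
      · exact ⟨true, hx⟩
      · exact ⟨false, hx⟩
    · intro b
      cases b
      · exact hV
      · exact hU
  have hrWη : IsIso ((DCoh.restrictD W.ι).map (η V E)) :=
    isIso_restrictD_map_of_le hWV _ (isIso_restrict_η V E)
  exact ⟨asIso ((dAdj W).unit.app T) ≪≫
    (DCoh.Rpush W.ι).mapIso ((asIso ((DCoh.restrictD W.ι).map t)).symm ≪≫
      (asIso ((DCoh.restrictD W.ι).map (η V E))).symm)⟩

end Groth.Agent.Helper4.MVCore
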