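import Mathlib
import Groth.Prelude.Def_CohDer
import Groth.Prelude.Def_W4c3perfectstacksMV
import Groth.Agent.Helper1.Compact
import Groth.Agent.Helper8.MV
import Groth.Agent.Helper4.FSTrans

/-! Compactness glues along a Mayer–Vietoris square of triangulated categories. -/

set_option autoImplicit false
set_option linter.unusedSectionVars false
universe v u

open CategoryTheory CategoryTheory.Limits CategoryTheory.Pretriangulated
open W4c3perfectstacks W4c3perfectstacks.MVSq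
open Groth.Agent.Helper1.Compact Groth.Agent.Helper4.FSTrans Groth.Agent.Helper8.MV

namespace Groth.Agent.Helper4.MVCpt

variable {S S' R R' : Type u} [Category.{v} S] [Category.{v} S'] [Category.{v} R] [Category.{v} R']
    [Preadditive S] [Preadditive S'] [Preadditive R] [Preadditive R']
    [HasZeroObject S] [HasZeroObject S'] [HasZeroObject R] [HasZeroObject R']
    [HasShift S ℤ] [HasShift S' ℤ] [HasShift R ℤ] [HasShift R' ℤ]
    [∀ n : ℤ, (shiftFunctor S n).Additive] [∀ n : ℤ, (shiftFunctor S' n).Additive]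
    [∀ n : ℤ, (shiftFunctor R n).Additive] [∀ n : ℤ, (shiftFunctor R' n).Additive]
    [Pretriangulated S] [Pretriangulated S'] [Pretriangulated R] [Pretriangulated R']
    [IsTriangulated S] [IsTriangulated S'] [IsTriangulated R] [IsTriangulated R']
    (q : W4c3perfectstacks.MVSq S S' R R')
    [q.jst.CommShift ℤ] [q.fst.CommShift ℤ] [q.jpst.CommShift ℤ] [q.gst.CommShift ℤ]
    [q.jst.IsTriangulated] [q.fst.IsTriangulated] [q.jpst.IsTriangulated] [q.gst.IsTriangulated]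
    [HasCoproducts.{v} S] [HasCoproducts.{v} S'] [HasCoproducts.{v} R] [HasCoproducts.{v} R']

/-- the exchange isomorphism `f^* j_* ≅ j'_* g^*` as a natural isomorphism -/
noncomputable def bcIso (hq : q.IsMV) : q.jls ⋙ q.fst ≅ q.gst ⋙ q.jpls :=
  haveI := hq.isIso_bc2App
  NatIso.ofComponents (fun P => asIso (q.bc2App P)) (fun m => bc2App_naturality q m)

open scoped Classical in
theorem isCompactObject_of_pullbacks (hq : q.IsMV) (N : S)
    (hU : CohDer.IsCompactObject (q.jst.obj N)) (hX' : CohDer.IsCompactObject (q.fst.obj N))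
    (hU' : CohDer.IsCompactObject (q.gst.obj (q.jst.obj N))) :
    CohDer.IsCompactObject N := by
  apply isCompactObject_of_forall
  intro ι X φ
  haveI := q.adjJ.leftAdjoint_preservesColimits
  haveI := q.adjF.leftAdjoint_preservesColimits
  haveI := q.adjG.leftAdjoint_preservesColimits
  have fsA : FS X N (q.jst ⋙ q.jls) := FS.of_adj q.adjJ (FS.of_compact hU q.jst)
  have fsB : FS X N (q.fst ⋙ q.fls) := FS.of_adj q.adjF (FS.of_compact hX' q.fst)
  have fsC : FS X (N⟦(1 : ℤ)⟧) (((q.jst ⋙ q.jls) ⋙ q.fst) ⋙ q.fls) := by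
    apply FS.of_adj q.adjF
    have e1 : (q.jst ⋙ q.gst) ⋙ q.jpls ≅ (q.jst ⋙ q.jls) ⋙ q.fst :=
      Functor.isoWhiskerLeft q.jst (bcIso q hq).symm
    refine FS.of_natIso e1 ?_
    apply FS.of_adj q.adjJp
    have hc : CohDer.IsCompactObject (((q.jst ⋙ q.gst).obj N)⟦(1 : ℤ)⟧) :=
      isCompactObject_shift hU' 1
    exact FS.of_iso ((((q.jst ⋙ q.gst).commShiftIso (1 : ℤ)).app N).symm ≪≫
      q.e.app (N⟦(1 : ℤ)⟧)) (FS.of_compact hc (q.jst ⋙ q.gst))
  -- step 1
  obtain ⟨T1, h1⟩ := fsA (φ ≫ q.adjJ.unit.app (∐ X))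
  have h1' : (φ ≫ Pm X T1) ≫ q.adjJ.unit.app (∐ X) = 0 := by
    have nat := q.adjJ.unit.naturality (Pm X T1)
    simp only [Functor.id_obj, Functor.id_map] at nat
    rw [Category.assoc, nat, ← Category.assoc]
    exact h1
  -- step 2
  obtain ⟨T2, h2⟩ := fsB ((φ ≫ Pm X T1) ≫ q.adjF.unit.app (∐ X))
  have h2' : ((φ ≫ Pm X T1) ≫ Pm X T2) ≫ q.adjF.unit.app (∐ X) = 0 := by
    have nat := q.adjF.unit.naturality (Pm X T2)
    simp only [Functor.id_obj, Functor.id_map] at nat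
    rw [Category.assoc, nat, ← Category.assoc]
    exact h2
  have h3 : ((φ ≫ Pm X T1) ≫ Pm X T2) ≫ q.adjJ.unit.app (∐ X) = 0 := by
    have nat := q.adjJ.unit.naturality (Pm X T2)
    simp only [Functor.id_obj, Functor.id_map] at nat
    rw [Category.assoc, nat, ← Category.assoc, h1', zero_comp]
  have h4 : ((φ ≫ Pm X T1) ≫ Pm X T2) ≫ mvU q (∐ X) = 0 := by
    apply biprod.hom_ext
    · rw [Category.assoc, biprod.lift_fst, zero_comp]
      exact h3
    · rw [Category.assoc, biprod.lift_snd, zero_comp]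
      exact h2'
  obtain ⟨d, hd⟩ := mv_exists q hq (∐ X)
  have hz : (((φ ≫ Pm X T1) ≫ Pm X T2)⟦(1 : ℤ)⟧') ≫ (mvU q (∐ X))⟦(1 : ℤ)⟧' = 0 := by
    rw [← Functor.map_comp, h4, Functor.map_zero]
  obtain ⟨g, hg'⟩ : ∃ g : N⟦(1 : ℤ)⟧ ⟶ q.fls.obj (q.fst.obj (q.jls.obj (q.jst.obj (∐ X)))),
      ((φ ≫ Pm X T1) ≫ Pm X T2)⟦(1 : ℤ)⟧' = g ≫ d :=
    Triangle.coyoneda_exact₁ _ hd _ hz
  obtain ⟨T3, h5⟩ := fsC g
  have nat := mv_naturality q hq (∐ X) (∐ X) (Pm X T3) d d hd hd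
  have h6 : (((φ ≫ Pm X T1) ≫ Pm X T2) ≫ Pm X T3)⟦(1 : ℤ)⟧' = 0 := by
    rw [Functor.map_comp, hg', Category.assoc, nat, ← Category.assoc]
    have h5' : g ≫ q.fls.map (q.fst.map (q.jls.map (q.jst.map (Pm X T3)))) = 0 := h5
    rw [h5', zero_comp]
  have h7 : ((φ ≫ Pm X T1) ≫ Pm X T2) ≫ Pm X T3 = 0 :=
    (shiftFunctor S (1 : ℤ)).map_injective (h6.trans (Functor.map_zero _ _ _).symm)
  refine ⟨(T1 ∪ T2) ∪ T3, ?_⟩
  change φ ≫ Pm X ((T1 ∪ T2) ∪ T3) = 0
  rw [← Pm_comp, ← Pm_comp, ← Category.assoc, ← Category.assoc]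
  exact h7

end Groth.Agent.Helper4.MVCpt
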