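import Groth.Agent.Helper4.MVtri

/-! Mayer–Vietoris style long exact sequence from a distinguished triangle whose middle term is
a biproduct, elementwise. -/

set_option autoImplicit false
set_option linter.unusedSectionVars false
universe v u

open CategoryTheory Limits Pretriangulated

namespace Groth.Agent.Helper4.MVles

variable {T : Type u} [Category.{v} T] [Preadditive T] [HasZeroObject T] [HasShift T ℤ]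
  [∀ n : ℤ, (shiftFunctor T n).Additive] [Pretriangulated T]

theorem les {Tr : Triangle T} (hT : Tr ∈ distTriang T) (K : T) {P Q : T}
    (ι₂ : P ⟶ Tr.obj₂) (ι₃ : Q ⟶ Tr.obj₂) (π₂ : Tr.obj₂ ⟶ P) (π₃ : Tr.obj₂ ⟶ Q)
    (hid : π₂ ≫ ι₂ + π₃ ≫ ι₃ = 𝟙 _) (h22 : ι₂ ≫ π₂ = 𝟙 _) (h33 : ι₃ ≫ π₃ = 𝟙 _)
    (h23 : ι₂ ≫ π₃ = 0) (h32 : ι₃ ≫ π₂ = 0)
    (a₂ : Tr.obj₁ ⟶ P) (a₃ : Tr.obj₁ ⟶ Q) (b₂ : P ⟶ Tr.obj₃) (b₃ : Q ⟶ Tr.obj₃)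
    (h1₂ : Tr.mor₁ ≫ π₂ = a₂) (h1₃ : Tr.mor₁ ≫ π₃ = -a₃)
    (h2₂ : ι₂ ≫ Tr.mor₂ = b₂) (h2₃ : ι₃ ≫ Tr.mor₂ = b₃) (n : ℤ) :
    (∀ ψ : Tr.obj₃ ⟶ K⟦n⟧, a₂ ≫ b₂ ≫ ψ + -(a₃ ≫ b₃ ≫ ψ) = 0) ∧
    (∀ (φ₂ : P ⟶ K⟦n⟧) (φ₃ : Q ⟶ K⟦n⟧), a₂ ≫ φ₂ + -(a₃ ≫ φ₃) = 0 →
      ∃ ψ : Tr.obj₃ ⟶ K⟦n⟧, b₂ ≫ ψ = φ₂ ∧ b₃ ≫ ψ = φ₃) ∧
    (∀ (φ₂ : P ⟶ K⟦n⟧) (φ₃ : Q ⟶ K⟦n⟧), MVtri.δ Tr K n (a₂ ≫ φ₂ + -(a₃ ≫ φ₃)) = 0) ∧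
    (∀ x : Tr.obj₁ ⟶ K⟦n⟧, MVtri.δ Tr K n x = 0 →
      ∃ (φ₂ : P ⟶ K⟦n⟧) (φ₃ : Q ⟶ K⟦n⟧), a₂ ≫ φ₂ + -(a₃ ≫ φ₃) = x) ∧
    (∀ x : Tr.obj₁ ⟶ K⟦n⟧, b₂ ≫ MVtri.δ Tr K n x = 0 ∧ b₃ ≫ MVtri.δ Tr K n x = 0) ∧
    (∀ y : Tr.obj₃ ⟶ K⟦n + 1⟧, b₂ ≫ y = 0 → b₃ ≫ y = 0 → ∃ x, MVtri.δ Tr K n x = y) := by
  subst h1₂ h2₂ h2₃
  have h1₃' : a₃ = -(Tr.mor₁ ≫ π₃) := by rw [h1₃, neg_neg]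
  subst h1₃'
  have hA : ∀ {Y : T} (φ₂ : P ⟶ Y) (φ₃ : Q ⟶ Y), Tr.mor₁ ≫ (π₂ ≫ φ₂ + π₃ ≫ φ₃) =
      (Tr.mor₁ ≫ π₂) ≫ φ₂ + -((-(Tr.mor₁ ≫ π₃)) ≫ φ₃) := by
    intro Y φ₂ φ₃
    simp
  have hB : ∀ {Y : T} (φ : Tr.obj₂ ⟶ Y), φ = π₂ ≫ ι₂ ≫ φ + π₃ ≫ ι₃ ≫ φ := by
    intro Y φ
    rw [← Category.assoc, ← Category.assoc, ← Preadditive.add_comp, hid, Category.id_comp]
  refine ⟨?_, ?_, ?_, ?_, ?_, ?_⟩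
  · intro ψ
    have e := hA (ι₂ ≫ Tr.mor₂ ≫ ψ) (ι₃ ≫ Tr.mor₂ ≫ ψ)
    rw [← hB (Tr.mor₂ ≫ ψ), ← Category.assoc, comp_distTriang_mor_zero₁₂ _ hT, zero_comp] at e
    simpa using e.symm
  · intro φ₂ φ₃ h
    obtain ⟨ψ, hψ⟩ := MVtri.exact_mid Tr hT K n (π₂ ≫ φ₂ + π₃ ≫ φ₃) ((hA φ₂ φ₃).trans h)
    refine ⟨ψ, ?_, ?_⟩
    · rw [Category.assoc, ← hψ, Preadditive.comp_add, ← Category.assoc, ← Category.assoc, h22, h23,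
        Category.id_comp, zero_comp, add_zero]
    · rw [Category.assoc, ← hψ, Preadditive.comp_add, ← Category.assoc, ← Category.assoc, h33, h32,
        Category.id_comp, zero_comp, zero_add]
  · intro φ₂ φ₃
    rw [← hA φ₂ φ₃]
    exact MVtri.δ_comp Tr hT K n _
  · intro x hx
    obtain ⟨φ, hφ⟩ := MVtri.exact_left Tr hT K n x hx
    refine ⟨ι₂ ≫ φ, ι₃ ≫ φ, ?_⟩
    rw [← hA (ι₂ ≫ φ) (ι₃ ≫ φ), ← hB φ, hφ]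
  · intro x
    constructor
    · rw [Category.assoc, MVtri.comp_δ Tr hT K n x, comp_zero]
    · rw [Category.assoc, MVtri.comp_δ Tr hT K n x, comp_zero]
  · intro y h2 h3
    have hy2 : Tr.mor₂ ≫ y = 0 := by
      rw [hB (Tr.mor₂ ≫ y), ← Category.assoc ι₂, ← Category.assoc ι₃, h2, h3, comp_zero, comp_zero,
        add_zero]
    obtain ⟨x, hx⟩ := MVtri.exact_right Tr hT K n y hy2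
    exact ⟨x, hx.symm⟩

end Groth.Agent.Helper4.MVles
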