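import Mathlib

/-! The long exact sequence of `Hom(-, Y⟦n⟧)` attached to a distinguished triangle, elementwise. -/

set_option autoImplicit false
set_option linter.unusedSectionVars false
universe v u

open CategoryTheory Limits Pretriangulated

namespace Groth.Agent.Helper4.MVtri

variable {T : Type u} [Category.{v} T] [Preadditive T] [HasZeroObject T] [HasShift T ℤ]
  [∀ n : ℤ, (shiftFunctor T n).Additive] [Pretriangulated T]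

/-- the connecting map `Hom(A₁, Y⟦n⟧) → Hom(A₃, Y⟦n+1⟧)` of a triangle -/
noncomputable def δ (Tr : Triangle T) (Y : T) (n : ℤ) :
    (Tr.obj₁ ⟶ Y⟦n⟧) →+ (Tr.obj₃ ⟶ Y⟦n + 1⟧) where
  toFun x := Tr.mor₃ ≫ x⟦(1 : ℤ)⟧' ≫ (shiftFunctorAdd' T n 1 (n + 1) rfl).inv.app Y
  map_zero' := by simp
  map_add' x y := by simp [Functor.map_add]

variable (Tr : Triangle T) (hT : Tr ∈ distTriang T) (Y : T) (n : ℤ)

include hT in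
lemma exact_mid (φ : Tr.obj₂ ⟶ Y⟦n⟧) (h : Tr.mor₁ ≫ φ = 0) :
    ∃ ψ : Tr.obj₃ ⟶ Y⟦n⟧, φ = Tr.mor₂ ≫ ψ :=
  Triangle.yoneda_exact₂ _ hT φ h

include hT in
lemma δ_comp (φ : Tr.obj₂ ⟶ Y⟦n⟧) : δ Tr Y n (Tr.mor₁ ≫ φ) = 0 := by
  change Tr.mor₃ ≫ (Tr.mor₁ ≫ φ)⟦(1 : ℤ)⟧' ≫ _ = 0
  rw [Functor.map_comp, Category.assoc, ← Category.assoc, comp_distTriang_mor_zero₃₁ _ hT,
    zero_comp]

include hT in
lemma comp_δ (x : Tr.obj₁ ⟶ Y⟦n⟧) : Tr.mor₂ ≫ δ Tr Y n x = 0 := by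
  change Tr.mor₂ ≫ Tr.mor₃ ≫ _ = 0
  rw [← Category.assoc, comp_distTriang_mor_zero₂₃ _ hT, zero_comp]

include hT in
lemma exact_left (x : Tr.obj₁ ⟶ Y⟦n⟧) (h : δ Tr Y n x = 0) :
    ∃ φ : Tr.obj₂ ⟶ Y⟦n⟧, x = Tr.mor₁ ≫ φ := by
  have h1 : Tr.mor₃ ≫ x⟦(1 : ℤ)⟧' = 0 := by
    have h2 : (Tr.mor₃ ≫ x⟦(1 : ℤ)⟧') ≫ (shiftFunctorAdd' T n 1 (n + 1) rfl).inv.app Y = 0 := by
      rw [Category.assoc]; exact h
    have h3 := congrArg (fun t => t ≫ (shiftFunctorAdd' T n 1 (n + 1) rfl).hom.app Y) h2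
    simpa using h3
  obtain ⟨ψ, hψ⟩ := Triangle.yoneda_exact₃ _ (rot_of_distTriang _ hT) (x⟦(1 : ℤ)⟧') h1
  change x⟦(1 : ℤ)⟧' = (-Tr.mor₁⟦(1 : ℤ)⟧') ≫ ψ at hψ
  obtain ⟨(ψ' : Tr.obj₂ ⟶ Y⟦n⟧), rfl⟩ := (shiftFunctor T (1 : ℤ)).map_surjective ψ
  refine ⟨-ψ', (shiftFunctor T (1 : ℤ)).map_injective ?_⟩
  refine hψ.trans ?_
  rw [Functor.map_comp, Functor.map_neg, Preadditive.comp_neg]
  exact Preadditive.neg_comp _ _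

include hT in
lemma exact_right (y : Tr.obj₃ ⟶ Y⟦n + 1⟧) (h : Tr.mor₂ ≫ y = 0) :
    ∃ x : Tr.obj₁ ⟶ Y⟦n⟧, y = δ Tr Y n x := by
  obtain ⟨φ, hφ⟩ := Triangle.yoneda_exact₃ _ hT y h
  obtain ⟨x, hx⟩ := (shiftFunctor T (1 : ℤ)).map_surjective
    (φ ≫ (shiftFunctorAdd' T n 1 (n + 1) rfl).hom.app Y)
  refine ⟨x, ?_⟩
  change y = Tr.mor₃ ≫ x⟦(1 : ℤ)⟧' ≫ _
  rw [hx, hφ]
  simp

end Groth.Agent.Helper4.MVtri
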