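import Mathlib
import Groth.Prelude.Def_CAlgX

/-! McCoy's theorem on injectivity of matrices over commutative rings. -/

namespace Groth.Agent.Helper4.McCoy

open Matrix

variable {R : Type*} [CommRing R]

/-- Key descending step: if `a` kills all `(r+1)`-minors of an injective matrix and `r < m`,
then `a` kills all `r`-minors. -/
theorem step {m n : ℕ} (M : Matrix (Fin n) (Fin m) R)
    (hM : Function.Injective (Matrix.mulVecLin M)) (a : R) (r : ℕ) (hr : r < m)
    (h : ∀ (f : Fin (r + 1) → Fin n) (g : Fin (r + 1) → Fin m), a * (M.submatrix f g).det = 0)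
    (f : Fin r → Fin n) (g : Fin r → Fin m) : a * (M.submatrix f g).det = 0 := by
  classical
  by_cases hg : Function.Injective g
  · -- find `j₀ ∉ range g`
    have hex : ∃ j₀ : Fin m, j₀ ∉ Set.range g := by
      by_contra hcon
      push_neg at hcon
      have hsurj : Function.Surjective g := fun j => hcon j
      have := Fintype.card_le_of_surjective g hsurj
      simp at this
      omega
    obtain ⟨j₀, hj₀⟩ := hex
    set g' : Fin (r + 1) → Fin m := Fin.cons j₀ g with hg'
    set c : Fin (r + 1) → R := fun k =>
      (-1) ^ (k : ℕ) * (M.submatrix f (g' ∘ k.succAbove)).det with hc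
    set x : Fin m → R := ∑ k : Fin (r + 1), (a * c k) • (Pi.single (g' k) (1 : R)) with hx
    have hMx : Matrix.mulVecLin M x = 0 := by
      rw [hx, map_sum]
      ext i
      simp only [map_smul, Matrix.mulVecLin_apply, Matrix.mulVec_single_one, Finset.sum_apply,
        Pi.smul_apply, smul_eq_mul, Pi.zero_apply]
      have hdet := h (Fin.cons i f) g'
      rw [Matrix.det_succ_row_zero, Finset.mul_sum] at hdet
      rw [← hdet]
      refine Finset.sum_congr rfl fun k _ => ?_
      simp only [Matrix.submatrix_apply, Fin.cons_zero, hc, Matrix.col_apply]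
      have : (M.submatrix (Fin.cons i f) g').submatrix Fin.succ k.succAbove =
          M.submatrix f (g' ∘ k.succAbove) := by
        ext p q
        simp [Matrix.submatrix_apply]
      rw [this]
      ring
    have hx0 : x = 0 := hM (by rw [hMx, map_zero])
    have hxj : x j₀ = a * (M.submatrix f g).det := by
      rw [hx, Finset.sum_apply, Finset.sum_eq_single (0 : Fin (r + 1))]
      · have : g' ∘ (0 : Fin (r + 1)).succAbove = g := by
          ext p
          simp [hg', Fin.succAbove_zero]
        simp [hc, hg', this]
      · intro k _ hk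
        obtain ⟨k', rfl⟩ := Fin.exists_succ_eq.mpr hk
        have : g' k'.succ ≠ j₀ := by
          simp only [hg', Fin.cons_succ]
          exact fun h => hj₀ ⟨k', h⟩
        simp [Pi.single_apply, this.symm]
      · intro h0
        exact absurd (Finset.mem_univ _) h0
    rw [← hxj, hx0, Pi.zero_apply]
  · -- two equal columns
    rw [Function.Injective] at hg
    push_neg at hg
    obtain ⟨p, q, hpq, hne⟩ := hg
    rw [Matrix.det_zero_of_column_eq hne, mul_zero]
    intro i
    simp [Matrix.submatrix_apply, hpq]

theorem kills_all {m n : ℕ} (M : Matrix (Fin n) (Fin m) R)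
    (hM : Function.Injective (Matrix.mulVecLin M)) (a : R)
    (h : ∀ (f : Fin m → Fin n) (g : Fin m → Fin m), a * (M.submatrix f g).det = 0) :
    a = 0 := by
  have key : ∀ d : ℕ, d ≤ m → ∀ (f : Fin (m - d) → Fin n) (g : Fin (m - d) → Fin m),
      a * (M.submatrix f g).det = 0 := by
    intro d
    induction d with
    | zero => intro _; exact h
    | succ d ih =>
      intro hd f g
      have hd' : d ≤ m := by omega
      have e : m - d = (m - (d + 1)) + 1 := by omega
      refine step M hM a (m - (d + 1)) (by omega) ?_ f g
      intro f' g'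
      have := ih hd'
      rw [e] at this
      exact this f' g'
  have h0 := key m le_rfl
  have e : m - m = 0 := Nat.sub_self m
  rw [e] at h0
  have := h0 Fin.elim0 Fin.elim0
  simpa using this


theorem kills_all_id {m n : ℕ} (M : Matrix (Fin n) (Fin m) R)
    (hM : Function.Injective (Matrix.mulVecLin M)) (a : R)
    (h : ∀ (f : Fin m → Fin n), a * (M.submatrix f id).det = 0) :
    a = 0 := by
  classical
  refine kills_all M hM a fun f g => ?_
  by_cases hg : Function.Injective g
  · have hbij : Function.Bijective g := Finite.injective_iff_bijective.mp hg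
    set σ : Equiv.Perm (Fin m) := Equiv.ofBijective g hbij with hσ
    have : M.submatrix f g = (M.submatrix f id).submatrix id σ := by
      ext p q
      simp [Matrix.submatrix_apply, hσ]
    rw [this, Matrix.det_permute', mul_left_comm, h f, mul_zero]
  · rw [Function.Injective] at hg
    push Not at hg
    obtain ⟨p, q, hpq, hne⟩ := hg
    rw [Matrix.det_zero_of_column_eq hne, mul_zero]
    intro i
    simp [Matrix.submatrix_apply, hpq]

/-- Under property (P) (every proper f.g. ideal has nonzero annihilator), an injective matrix has
a left inverse. -/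
theorem exists_leftInverse_matrix
    (hP : ∀ I : Ideal R, I.FG → I ≠ ⊤ → I.annihilator ≠ ⊥) {m n : ℕ}
    (M : Matrix (Fin n) (Fin m) R) (hM : Function.Injective (Matrix.mulVecLin M)) :
    ∃ W : Matrix (Fin m) (Fin n) R, W * M = 1 := by
  classical
  set I : Ideal R := Ideal.span (Set.range fun f : Fin m → Fin n => (M.submatrix f id).det)
    with hI
  have hfg : I.FG := by
    refine ⟨(Set.finite_range fun f : Fin m → Fin n => (M.submatrix f id).det).toFinset, ?_⟩
    rw [hI, Set.Finite.coe_toFinset]
  have hann : I.annihilator = ⊥ := by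
    rw [eq_bot_iff]
    intro a ha
    rw [hI, Ideal.span, Submodule.mem_annihilator_span] at ha
    have := kills_all_id M hM a (fun f => by simpa using ha ⟨_, f, rfl⟩)
    simpa using this
  have htop : I = ⊤ := by
    by_contra h
    exact hP I hfg h hann
  have h1 : (1 : R) ∈ I := htop ▸ Submodule.mem_top
  rw [hI, Ideal.mem_span_range_iff_exists_fun] at h1
  obtain ⟨c, hc⟩ := h1
  refine ⟨∑ f, c f • ((M.submatrix f id).adjugate *
    (1 : Matrix (Fin n) (Fin n) R).submatrix f (Equiv.refl _)), ?_⟩
  rw [Matrix.sum_mul]
  have key : ∀ f : Fin m → Fin n, (c f • ((M.submatrix f id).adjugate *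
      (1 : Matrix (Fin n) (Fin n) R).submatrix f (Equiv.refl _))) * M =
      (c f * (M.submatrix f id).det) • (1 : Matrix (Fin m) (Fin m) R) := by
    intro f
    rw [Matrix.smul_mul, Matrix.mul_assoc, Matrix.one_submatrix_mul]
    simp only [Equiv.refl_symm, Equiv.coe_refl, Function.id_comp]
    rw [Matrix.adjugate_mul, smul_smul]
  simp_rw [key]
  rw [← Finset.sum_smul, hc, one_smul]

/-- The easy direction. -/
theorem injective_of_annihilator {m n : ℕ} (M : Matrix (Fin n) (Fin m) R)
    (h : ∀ a : R, (∀ (f : Fin m → Fin n), a * (M.submatrix f id).det = 0) → a = 0) :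
    Function.Injective (Matrix.mulVecLin M) := by
  rw [← LinearMap.ker_eq_bot, LinearMap.ker_eq_bot']
  intro x hx
  ext j
  refine h (x j) fun f => ?_
  have h1 : (M.submatrix f id) *ᵥ x = 0 := by
    ext i
    have := congrFun hx (f i)
    simpa [Matrix.mulVec, Matrix.submatrix_apply, dotProduct] using this
  have h2 : (M.submatrix f id).det • x = 0 := by
    have := congrArg (fun v => (M.submatrix f id).adjugate *ᵥ v) h1
    simp only [Matrix.mulVec_mulVec, Matrix.adjugate_mul, Matrix.mulVec_zero] at this
    simpa [Matrix.smul_mulVec] using this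
  have := congrFun h2 j
  simpa [mul_comm] using this

end Groth.Agent.Helper4.McCoy
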