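import Mathlib

/-!
# Finite type + finitely many primes over a minimal prime ⇒ finite after localizing the base
-/

set_option autoImplicit false

namespace Groth.Agent.Helper4.MinPrimeFinite
open TensorProduct

universe u

/-- Integrality can be checked modulo an ideal consisting of nilpotents. -/
lemma isIntegral_of_ker_nil {A B C : Type*} [CommRing A] [CommRing B] [CommRing C]
    [Algebra A B] [Algebra A C] (φ : B →ₐ[A] C)
    (hnil : ∀ y ∈ RingHom.ker φ, IsNilpotent y) (x : B) (hx : IsIntegral A (φ x)) :
    IsIntegral A x := by
  obtain ⟨f, hf, hfx⟩ := hx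
  have h1 : φ (Polynomial.aeval x f) = 0 := by
    rw [← Polynomial.aeval_algHom_apply]; exact hfx
  obtain ⟨n, hn⟩ := hnil _ h1
  refine ⟨f ^ n, hf.pow n, ?_⟩
  rw [← Polynomial.aeval_def, map_pow, hn]

section

variable (R S : Type u) [CommRing R] [CommRing S] [Algebra R S]

lemma finite_fiber [Algebra.FiniteType R S] (p : Ideal R) [p.IsPrime]
    (hfin : (p.primesOver S).Finite) : Module.Finite p.ResidueField (p.Fiber S) := by
  have hF : Finite (PrimeSpectrum (p.Fiber S)) :=
    (PrimeSpectrum.primesOverOrderIsoFiber R S p).toEquiv.finite_iff.mp hfin.to_subtype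
  rw [Module.finite_iff_isArtinianRing, isArtinianRing_iff_isNoetherianRing_krullDimLE_zero]
  have : IsJacobsonRing (p.Fiber S) := isJacobsonRing_of_finiteType (A := p.ResidueField)
  exact ⟨Algebra.FiniteType.isNoetherianRing p.ResidueField _,
    (PrimeSpectrum.discreteTopology_iff_finite_and_krullDimLE_zero.mp inferInstance).right⟩

lemma isIntegral_tensor (p : Ideal R) [p.IsPrime] (hp : p ∈ minimalPrimes R)
    [Module.Finite p.ResidueField (p.Fiber S)] :
    Algebra.IsIntegral (Localization.AtPrime p) (Localization.AtPrime p ⊗[R] S) := by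
  have hdim : Ring.KrullDimLE 0 (Localization.AtPrime p) :=
    Ring.KrullDimLE.of_isLocalization p hp _
  let φ : Localization.AtPrime p ⊗[R] S →ₐ[Localization.AtPrime p] p.ResidueField ⊗[R] S :=
    Algebra.TensorProduct.map
      (IsScalarTower.toAlgHom (Localization.AtPrime p) (Localization.AtPrime p) p.ResidueField)
      (AlgHom.id R S)
  have hsurj : Function.Surjective
      (IsScalarTower.toAlgHom (Localization.AtPrime p) (Localization.AtPrime p)
        p.ResidueField) := IsLocalRing.residue_surjective
  have hker : ∀ y ∈ RingHom.ker φ, IsNilpotent y := by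
    intro y hy
    have h1 := Algebra.TensorProduct.rTensor_ker (R := R) (C := S)
      (IsScalarTower.toAlgHom (Localization.AtPrime p) (Localization.AtPrime p) p.ResidueField)
      hsurj
    have hy' : y ∈ RingHom.ker (Algebra.TensorProduct.map
      (IsScalarTower.toAlgHom (Localization.AtPrime p) (Localization.AtPrime p) p.ResidueField)
      (AlgHom.id R S)) := hy
    rw [h1] at hy'
    have hle : (RingHom.ker (IsScalarTower.toAlgHom (Localization.AtPrime p)
        (Localization.AtPrime p) p.ResidueField)).map
        (Algebra.TensorProduct.includeLeft :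
          Localization.AtPrime p →ₐ[R] Localization.AtPrime p ⊗[R] S) ≤
        nilradical (Localization.AtPrime p ⊗[R] S) := by
      rw [Ideal.map_le_iff_le_comap]
      intro a ha
      rw [Ideal.mem_comap, mem_nilradical]
      apply IsNilpotent.map
      rw [Ring.KrullDimLE.isNilpotent_iff_mem_maximalIdeal]
      rw [RingHom.mem_ker] at ha
      exact (IsLocalRing.residue_eq_zero_iff a).mp ha
    exact mem_nilradical.mp (hle hy')
  refine ⟨fun x => ?_⟩
  apply isIntegral_of_ker_nil φ hker
  have h2 : IsIntegral p.ResidueField (φ x) := Algebra.IsIntegral.isIntegral _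
  exact isIntegral_trans (R := Localization.AtPrime p) _ h2

attribute [local instance] Algebra.TensorProduct.rightAlgebra in
lemma exists_smul_isIntegral (p : Ideal R) [p.IsPrime] (hp : p ∈ minimalPrimes R)
    [Module.Finite p.ResidueField (p.Fiber S)] (x : S) :
    ∃ g : R, g ∉ p ∧ IsIntegral R (g • x) := by
  have hI := isIntegral_tensor R S p hp
  have h1 : IsIntegral (Localization.AtPrime p)
      ((1 : Localization.AtPrime p) ⊗ₜ[R] x) := Algebra.IsIntegral.isIntegral _
  obtain ⟨m, hm⟩ := IsIntegral.exists_multiple_integral_of_isLocalization p.primeCompl _ h1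
  have h2 : m • ((1 : Localization.AtPrime p) ⊗ₜ[R] x) =
      algebraMap S (Localization.AtPrime p ⊗[R] S) (m.1 • x) := by
    rw [Algebra.TensorProduct.right_algebraMap_apply, Submonoid.smul_def,
      TensorProduct.tmul_smul]
  rw [h2] at hm
  obtain ⟨m', hm', hm2⟩ := IsLocalization.exists_isIntegral_smul_of_isIntegral_map
    (Sₘ := Localization.AtPrime p ⊗[R] S) p.primeCompl hm
  refine ⟨m' * m.1, p.primeCompl.mul_mem hm' m.2, ?_⟩
  rwa [mul_smul]

lemma finite_awayMap_of_smul_integral [Algebra.FiniteType R S] (t : Set S)
    (ht : Algebra.adjoin R t = ⊤) (g : R) (hg : ∀ x ∈ t, IsIntegral R (g • x)) :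
    (Localization.awayMap (algebraMap R S) g).Finite := by
  refine RingHom.finite_iff_isIntegral_and_finiteType.mpr ⟨?_, ?_⟩
  · set f := Localization.awayMap (algebraMap R S) g with hf
    have hcomm : ∀ r : R, f (algebraMap R (Localization.Away g) r) =
        algebraMap S (Localization.Away (algebraMap R S g)) (algebraMap R S r) := by
      intro r
      simp [hf, Localization.awayMap, IsLocalization.Away.map]
    -- integral elements over R map to integral elements
    have hint : ∀ y : S, IsIntegral R y →
        f.IsIntegralElem (algebraMap S (Localization.Away (algebraMap R S g)) y) := by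
      rintro y ⟨P, hP, hPy⟩
      refine ⟨P.map (algebraMap R (Localization.Away g)), hP.map _, ?_⟩
      rw [Polynomial.eval₂_map]
      have : f.comp (algebraMap R (Localization.Away g)) =
          (algebraMap S (Localization.Away (algebraMap R S g))).comp (algebraMap R S) :=
        RingHom.ext hcomm
      rw [this, ← Polynomial.hom_eval₂, hPy, map_zero]
    have hgen : ∀ y : S,
        f.IsIntegralElem (algebraMap S (Localization.Away (algebraMap R S g)) y) := by
      intro y
      have hy : y ∈ Algebra.adjoin R t := ht ▸ Algebra.mem_top
      induction hy using Algebra.adjoin_induction with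
      | mem x hx =>
        have h1 := hint _ (hg x hx)
        have h2 : algebraMap S (Localization.Away (algebraMap R S g)) x =
            f (IsLocalization.mk' (Localization.Away g) 1 ⟨g, Submonoid.mem_powers g⟩) *
            algebraMap S (Localization.Away (algebraMap R S g)) (g • x) := by
          rw [Algebra.smul_def, map_mul, ← hcomm, ← mul_assoc, ← map_mul,
            IsLocalization.mk'_spec_mk, map_one, map_one, one_mul]
        rw [h2]
        exact RingHom.IsIntegralElem.mul f f.isIntegralElem_map h1
      | algebraMap r => rw [← hcomm]; exact f.isIntegralElem_map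
      | add x y _ _ hx hy => rw [map_add]; exact RingHom.IsIntegralElem.add f hx hy
      | mul x y _ _ hx hy => rw [map_mul]; exact RingHom.IsIntegralElem.mul f hx hy
    intro z
    obtain ⟨y, ⟨_, n, rfl⟩, rfl⟩ :=
      IsLocalization.exists_mk'_eq (Submonoid.powers (algebraMap R S g)) z
    have h3 : ∀ (h : algebraMap R S g ^ n ∈ Submonoid.powers (algebraMap R S g)),
        IsLocalization.mk' (Localization.Away (algebraMap R S g)) y
        ⟨algebraMap R S g ^ n, h⟩ =
        f (IsLocalization.mk' (Localization.Away g) 1 ⟨g ^ n, pow_mem (Submonoid.mem_powers g) n⟩) *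
        algebraMap S (Localization.Away (algebraMap R S g)) y := by
      intro h
      rw [IsLocalization.mk'_eq_iff_eq_mul]
      show _ = _ * algebraMap S (Localization.Away (algebraMap R S g)) (algebraMap R S g ^ n)
      rw [mul_right_comm, ← map_pow, ← hcomm, ← map_mul, IsLocalization.mk'_spec_mk, map_one,
        map_one, one_mul]
    rw [h3]
    exact RingHom.IsIntegralElem.mul f f.isIntegralElem_map (hgen y)
  · exact RingHom.finiteType_localizationPreserves.away _ g _ _
      (RingHom.finiteType_algebraMap.mpr inferInstance)

end

end Groth.Agent.Helper4.MinPrimeFinite
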