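import Mathlib
import Groth.Prelude.Def_ModSite
import Groth.Agent.Helper4.FiltSecB
import Groth.Agent.Helper6.CF1
import Groth.Agent.Helper9.Cartan
import Groth.Agent.Helper9.ModCechExt
import Groth.Agent.Helper9.FreeOnIso
import Groth.Agent.Helper1.SiteAcyc
import Groth.Agent.S0484

set_option autoImplicit false
set_option backward.isDefEq.respectTransparency false
set_option backward.isDefEq.respectTransparency.types false

/-!
# `Ext(j_{U!} O_U, -)` and filtered colimits of modules, for `U` in a collection `(B, Cov)`
-/

universe u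

open CategoryTheory CategoryTheory.Limits Opposite Abelian

namespace Groth.Agent.Helper4.ModColimA

variable {C : Type u} [SmallCategory C] {J : GrothendieckTopology C}

section acyc

variable [HasPullbacks C]

/-- totally acyclic sheaves are Čech-acyclic for covering families -/
theorem isZero_cechH_of_isTotallyAcyclic (F : Sheaf J AddCommGrpCat.{u})
    (hF : CohCx.IsTotallyAcyclic F) {U : C} {ι : Type u} (Y : ι → Over U)
    (hY : Sieve.ofArrows (fun i => (Y i).left) (fun i => (Y i).hom) ∈ J U) (p : ℕ) :
    IsZero (CohCx.cechH F.obj Y (p + 1)) := by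
  obtain ⟨e, he⟩ := Groth.Agent.Helper9.CechEdgeB.exists_isEdge Y hY
  have hA : Groth.Agent.Helper9.CechEdgeC.Acyc Y F := fun p a q =>
    Groth.Agent.Helper1.SiteCoh.subsingleton_ext_freeY_of_isTotallyAcyclic hF _ q
  have hb := Groth.Agent.Helper9.CechEdgeC.bijective_edgeSh he F hA (p + 1)
  haveI : Subsingleton (CohSite.HU F (p + 1) U) :=
    Groth.Agent.Helper1.SiteCoh.subsingleton_ext_freeY_of_isTotallyAcyclic hF U p
  haveI : Subsingleton (CohCx.cechH F.obj Y (p + 1)) := hb.1.subsingleton
  exact AddCommGrpCat.isZero_of_subsingleton _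

end acyc

end Groth.Agent.Helper4.ModColimA
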