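import Mathlib
import Groth.Agent.Helper4.ModColimA

set_option autoImplicit false
set_option backward.isDefEq.respectTransparency false
set_option backward.isDefEq.respectTransparency.types false

/-!
# `j_{U!} O_U` as a free module on the sheaf `h_U^#`; comparison of `Ext`
-/

universe u

open CategoryTheory CategoryTheory.Limits Opposite Abelian

namespace Groth.Agent.Helper4.ModColimB

open Groth.Agent.Helper9.ModCechExt Groth.Agent.Helper9.ModCechRes Groth.Agent.Helper9.CechNerveRes

variable {C : Type u} [SmallCategory C] {J : GrothendieckTopology C}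
  (O : Sheaf J CommRingCat.{u}) (U : C)

/-- the sheaf of sets `h_U^#` -/
noncomputable abbrev hU : Sheaf J (Type u) := (presheafToSheaf J (Type u)).obj (yoneda.obj U)

/-- `ℤ[h_U^#]^# ≅ ℤ_U` -/
noncomputable def isoZ : (Φ J).obj (hU (J := J) U) ≅ CohCx.freeSheaf J U :=
  Groth.Agent.Helper1.SiteCoh.freeSheafifyIso J U

/-- `Hom(O[h_U^#]^#, F) ≃ Hom(j_{U!}O_U, F)` -/
noncomputable def freeEquiv (F : ModSite.Mod O) :
    ((Φm (ModSite.ringSh O)).obj (hU (J := J) U) ⟶ F) ≃ (ModSite.freeOn O U ⟶ F) :=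
  ((β (ModSite.ringSh O) (hU U) F).trans
    ((isoZ U).homCongr (Iso.refl _))).trans
    ((CohFree.homEquivSect J U _).toEquiv.trans
      ((show ((SheafOfModules.toSheaf (ModSite.ringSh O)).obj F).obj.obj (op U) ≃
          (F.val.obj (op U) : Type u) from Equiv.refl _).trans
        (Groth.Agent.Helper9.FreeOnHom.homEquiv O U F).symm))

lemma freeEquiv_apply {F : ModSite.Mod O} (t : (Φm (ModSite.ringSh O)).obj (hU (J := J) U) ⟶ F) :
    (Groth.Agent.Helper9.FreeOnHom.homEquiv O U F (freeEquiv O U F t) : F.val.obj (op U)) =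
      (CohFree.homEquivSect J U _ ((isoZ U).inv ≫ β (ModSite.ringSh O) (hU U) F t) :
        ((SheafOfModules.toSheaf (ModSite.ringSh O)).obj F).obj.obj (op U)) := by
  unfold freeEquiv
  simp only [Equiv.trans_apply, Equiv.apply_symm_apply, Iso.homCongr_apply, Iso.refl_hom,
    Category.comp_id]
  rfl

lemma freeEquiv_nat {F F' : ModSite.Mod O}
    (t : (Φm (ModSite.ringSh O)).obj (hU (J := J) U) ⟶ F) (φ : F ⟶ F') :
    freeEquiv O U F' (t ≫ φ) = freeEquiv O U F t ≫ φ := by
  apply (Groth.Agent.Helper9.FreeOnHom.homEquiv O U F').injective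
  rw [Groth.Agent.Helper9.FreeOnHom.homEquiv_comp, freeEquiv_apply, freeEquiv_apply,
    β_comp_right, ← Category.assoc]
  rfl

/-- `O[h_U^#]^# ≅ j_{U!}O_U` -/
noncomputable def isoM : (Φm (ModSite.ringSh O)).obj (hU (J := J) U) ≅ ModSite.freeOn O U :=
  (Groth.Agent.Helper9.FreeOnIso.isoOfNatEquiv (fun F => (freeEquiv O U F).symm) (by
    intro F F' h φ
    apply (freeEquiv O U F').injective
    rw [Equiv.apply_symm_apply, freeEquiv_nat, Equiv.apply_symm_apply])).symm

end Groth.Agent.Helper4.ModColimB
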