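import Mathlib
import Groth.Agent.Helper4.ModColimB

set_option autoImplicit false
set_option backward.isDefEq.respectTransparency false
set_option backward.isDefEq.respectTransparency.types false

/-!
# Vanishing of `Ext^{q+1}(j_{U!}O_U, colim I)` for filtered diagrams of injective modules
-/

universe w v u

open CategoryTheory CategoryTheory.Limits Opposite Abelian

namespace Groth.Agent.Helper4.ModColimC

section general

variable {A : Type u} [Category.{v} A] [Abelian A] [HasExt.{w} A]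

lemma subsingleton_ext_of_iso {X X' Y : A} (e : X ≅ X') (n : ℕ) [Subsingleton (Ext.{w} X' Y n)] :
    Subsingleton (Ext.{w} X Y n) := by
  refine ⟨fun a b => ?_⟩
  have key : ∀ a : Ext.{w} X Y n,
      a = (Ext.mk₀ e.hom).comp ((Ext.mk₀ e.inv).comp a (zero_add n)) (zero_add n) := by
    intro a
    rw [← Ext.comp_assoc _ _ _ (zero_add 0) (zero_add n) (by lia), Ext.mk₀_comp_mk₀,
      e.hom_inv_id, Ext.mk₀_id_comp]
  rw [key a, key b, Subsingleton.elim ((Ext.mk₀ e.inv).comp a (zero_add n))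
    ((Ext.mk₀ e.inv).comp b (zero_add n))]

end general

open Groth.Agent.Helper9.ModCechExt Groth.Agent.Helper9.ModCechRes Groth.Agent.Helper9.CechNerveRes
  Groth.Agent.Helper4.ModColimB

variable {C : Type u} [SmallCategory C] [HasPullbacks C] {J : GrothendieckTopology C}
  (O : Sheaf J CommRingCat.{u}) [IsGrothendieckAbelian.{u} (ModSite.Mod O)]
  (B : Set C) (Cov : ∀ (U : C) (ι : Type u), (ι → Over U) → Prop)
  (h1 : ∀ (U : C) (ι : Type u) (Y : ι → Over U), Cov U ι Y → Finite ι ∧ U ∈ B ∧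
      Sieve.ofArrows (fun i => (Y i).left) (fun i => (Y i).hom) ∈ J U ∧
      ∀ (p : ℕ) (a : Fin (p + 1) → ι), (∏ᶜ fun k => Y (a k)).left ∈ B)
  (h2 : ∀ U ∈ B, ∀ T ∈ J U, ∃ (ι : Type u) (Y : ι → Over U), Cov U ι Y ∧ ∀ i, T.arrows (Y i).hom)

include h1 h2 in
theorem ext_eq_zero {U : C} (hUB : U ∈ B) {Λ : Type u} [SmallCategory Λ] [IsFiltered Λ]
    (I : Λ ⥤ ModSite.Mod O) (hI : ∀ l, Injective (I.obj l)) (q : ℕ)
    (x : Ext.{u} (ModSite.freeOn O U) (colimit I) (q + 1)) : x = 0 := by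
  have h1' : ∀ (U : C) (ι : Type u) (Y : ι → Over U), Cov U ι Y → U ∈ B ∧
      Sieve.ofArrows (fun i => (Y i).left) (fun i => (Y i).hom) ∈ J U ∧
      ∀ (p : ℕ) (a : Fin (p + 1) → ι), (∏ᶜ fun k => Y (a k)).left ∈ B :=
    fun U ι Y h => (h1 U ι Y h).2
  haveI := Groth.Agent.Helper3.SheafModLib.toSheaf_preservesColimits (ModSite.ringSh O)
  let N : Sheaf J AddCommGrpCat.{u} := (SheafOfModules.toSheaf (ModSite.ringSh O)).obj (colimit I)
  have hc : IsColimit ((SheafOfModules.toSheaf (ModSite.ringSh O)).mapCocone (colimit.cocone I)) :=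
    isColimitOfPreserves _ (colimit.isColimit I)
  have hacyc : Groth.Agent.Helper9.Cartan.CechAcyc J Cov N := by
    intro U' ι Y hY p'
    refine Groth.Agent.Helper4.FiltSecB.isZero_cechH (I ⋙ SheafOfModules.toSheaf (ModSite.ringSh O))
      hc B Cov h1 h2 Y hY p' (fun l => ?_)
    haveI := hI l
    exact Groth.Agent.Helper4.ModColimA.isZero_cechH_of_isTotallyAcyclic _
      (totallyAcyclic_of_injective_mod (ModSite.ringSh O) (I.obj l)) Y (h1 U' ι Y hY).2.2.1 p'
  haveI hs : Subsingleton (CohSite.HU N (q + 1) U) :=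
    Groth.Agent.Helper9.Cartan.main J B Cov h1' h2 q N hacyc U hUB
  haveI hs' : Subsingleton (Ext.{u} (CohCx.freeSheaf J U) N (q + 1)) := hs
  haveI h3 : Subsingleton (CohCx.HK (hU (J := J) U) N (q + 1)) :=
    subsingleton_ext_of_iso (isoZ (J := J) U) (q + 1)
  obtain ⟨e⟩ := nonempty_addEquiv (ModSite.ringSh O) (hU (J := J) U) (colimit I) (q + 1)
  haveI h4 : Subsingleton (Ext.{u} ((Φm (ModSite.ringSh O)).obj (hU (J := J) U)) (colimit I) (q + 1)) :=
    e.toEquiv.subsingleton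
  haveI h5 : Subsingleton (Ext.{u} (ModSite.freeOn O U) (colimit I) (q + 1)) :=
    subsingleton_ext_of_iso (isoM O U).symm (q + 1)
  exact Subsingleton.elim _ _

end Groth.Agent.Helper4.ModColimC
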