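import Mathlib
import Groth.Agent.Helper4.ModColimC
import Groth.Agent.Helper4.QcSumF
import Groth.Agent.Helper4.CptGen2

set_option autoImplicit false
set_option backward.isDefEq.respectTransparency false
set_option backward.isDefEq.respectTransparency.types false

/-!
# `Ext^n(j_{U!}O_U, -)` commutes with filtered colimits and is generated on coproducts
-/

universe u

open CategoryTheory CategoryTheory.Limits Opposite Abelian

namespace Groth.Agent.Helper4.ModColimD

open Groth.Agent.Helper6.CF Groth.Agent.Helper1.Compact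

section general

variable {𝒜 : Type (u + 1)} [Category.{u} 𝒜] [Abelian 𝒜] [HasExt.{u} 𝒜]

lemma P_id (Z : 𝒜) {A : 𝒜} {q : ℕ} (x : Ext.{u} Z A q) : P Z (𝟙 A) x = x := by
  unfold P
  rw [Ext.comp_mk₀_id]

lemma P_hom_zero (Z : 𝒜) {A B : 𝒜} {q : ℕ} (x : Ext.{u} Z A q) : P Z (0 : A ⟶ B) x = 0 := by
  unfold P
  rw [Ext.mk₀_zero, Ext.comp_zero]

lemma P_hom_add (Z : 𝒜) {A B : 𝒜} (f g : A ⟶ B) {q : ℕ} (x : Ext.{u} Z A q) :
    P Z (f + g) x = P Z f x + P Z g x := by
  unfold P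
  rw [Ext.mk₀_add, Ext.comp_add]

lemma P_hom_sum (Z : 𝒜) {A B : 𝒜} {κ : Type*} (s : Finset κ) (f : κ → (A ⟶ B)) {q : ℕ}
    (x : Ext.{u} Z A q) : P Z (∑ i ∈ s, f i) x = ∑ i ∈ s, P Z (f i) x := by
  classical
  induction s using Finset.induction_on with
  | empty => simp [P_hom_zero]
  | insert i s hi ih => rw [Finset.sum_insert hi, Finset.sum_insert hi, P_hom_add, ih]

/-- `Surj` for an arbitrary colimit cocone -/
lemma surj_cocone (Z : 𝒜) {Λ : Type u} [SmallCategory Λ] [IsFiltered Λ] [HasColimitsOfShape Λ 𝒜]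
    (D : Λ ⥤ 𝒜) (q : ℕ) (h : Surj Z q D) {c : Cocone D} (hc : IsColimit c)
    (x : Ext.{u} Z c.pt q) : ∃ (l : Λ) (y : Ext.{u} Z (D.obj l) q), P Z (c.ι.app l) y = x := by
  let e : colimit D ≅ c.pt := (colimit.isColimit D).coconePointUniqueUpToIso hc
  have he : ∀ l, colimit.ι D l ≫ e.hom = c.ι.app l := fun l =>
    IsColimit.comp_coconePointUniqueUpToIso_hom (colimit.isColimit D) hc l
  obtain ⟨l, y, hy⟩ := h (P Z e.inv x)
  refine ⟨l, y, ?_⟩
  rw [← he, ← P_comp, hy, P_comp, e.inv_hom_id, P_id]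

end general

variable {C : Type u} [SmallCategory C] [HasPullbacks C] {J : GrothendieckTopology C}
  (O : Sheaf J CommRingCat.{u}) [IsGrothendieckAbelian.{u} (ModSite.Mod O)]
  (B : Set C) (Cov : ∀ (U : C) (ι : Type u), (ι → Over U) → Prop)
  (h1 : ∀ (U : C) (ι : Type u) (Y : ι → Over U), Cov U ι Y → Finite ι ∧ U ∈ B ∧
      Sieve.ofArrows (fun i => (Y i).left) (fun i => (Y i).hom) ∈ J U ∧
      ∀ (p : ℕ) (a : Fin (p + 1) → ι), (∏ᶜ fun k => Y (a k)).left ∈ B)
  (h2 : ∀ U ∈ B, ∀ T ∈ J U, ∃ (ι : Type u) (Y : ι → Over U), Cov U ι Y ∧ ∀ i, T.arrows (Y i).hom)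

include h1 h2 in
theorem surjInj0 {U : C} (hUB : U ∈ B) {Λ : Type u} [SmallCategory Λ] [IsFiltered Λ]
    (D : Λ ⥤ ModSite.Mod O) :
    Surj (ModSite.freeOn O U) 0 D ∧ Inj (ModSite.freeOn O U) 0 D := by
  haveI := Groth.Agent.Helper3.SheafModLib.toSheaf_preservesColimits (ModSite.ringSh O)
  have hc : IsColimit ((SheafOfModules.toSheaf (ModSite.ringSh O)).mapCocone (colimit.cocone D)) :=
    isColimitOfPreserves _ (colimit.isColimit D)
  refine base _ D ?_ ?_
  · intro x
    obtain ⟨l, y, hy⟩ := Groth.Agent.Helper4.FiltSecB.surj_B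
      (D ⋙ SheafOfModules.toSheaf (ModSite.ringSh O)) hc B Cov h1 h2 hUB
      (Groth.Agent.Helper9.FreeOnHom.homEquiv O U _ x)
    refine ⟨l, (Groth.Agent.Helper9.FreeOnHom.homEquiv O U _).symm y, ?_⟩
    apply (Groth.Agent.Helper9.FreeOnHom.homEquiv O U _).injective
    rw [Groth.Agent.Helper9.FreeOnHom.homEquiv_comp, Equiv.apply_symm_apply]
    exact hy
  · intro l y hy
    obtain ⟨m, a, ha⟩ := Groth.Agent.Helper4.FiltSecB.inj_B
      (D ⋙ SheafOfModules.toSheaf (ModSite.ringSh O)) hc B Cov h1 h2 hUB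
      (Groth.Agent.Helper9.FreeOnHom.homEquiv O U _ y) (by
        have h := congrArg (Groth.Agent.Helper9.FreeOnHom.homEquiv O U _) hy
        rw [Groth.Agent.Helper9.FreeOnHom.homEquiv_comp,
          Groth.Agent.Helper4.QcSumF.homEquiv_zero] at h
        exact h)
    refine ⟨m, a, ?_⟩
    apply (Groth.Agent.Helper9.FreeOnHom.homEquiv O U _).injective
    rw [Groth.Agent.Helper9.FreeOnHom.homEquiv_comp, Groth.Agent.Helper4.QcSumF.homEquiv_zero]
    exact ha

include h1 h2 in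
theorem surjInj {U : C} (hUB : U ∈ B) {Λ : Type u} [SmallCategory Λ] [IsFiltered Λ] :
    ∀ (q : ℕ) (D : Λ ⥤ ModSite.Mod O),
      Surj (ModSite.freeOn O U) q D ∧ Inj (ModSite.freeOn O U) q D :=
  all (ModSite.freeOn O U) (fun D => surjInj0 O B Cov h1 h2 hUB D)
    (fun q I hI x => Groth.Agent.Helper4.ModColimC.ext_eq_zero O B Cov h1 h2 hUB I hI q x)

open Groth.Agent.Helper4.CptGen Groth.Agent.Helper4.CptSingle in
include h1 h2 in
theorem extGen_freeOn {U : C} (hUB : U ∈ B) (n : ℕ) {I : Type u} (F : I → ModSite.Mod O) :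
    ExtGen (ModSite.freeOn O U) n F := by
  classical
  intro x
  let D := CoproductsFromFiniteFiltered.liftToFinsetObj (Discrete.functor F)
  have hc := CoproductsFromFiniteFiltered.isColimitFiniteSubproductsCocone F
  obtain ⟨S, y, hy⟩ := surj_cocone (ModSite.freeOn O U) D n
    (surjInj O B Cov h1 h2 hUB n D).1 hc x
  let S' : Finset I := S.image Discrete.as
  have hσ : (CoproductsFromFiniteFiltered.finiteSubcoproductsCocone F).ι.app S ≫ proj F S' =
      (CoproductsFromFiniteFiltered.finiteSubcoproductsCocone F).ι.app S := by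
    apply Sigma.hom_ext
    intro s
    simp only [CoproductsFromFiniteFiltered.finiteSubcoproductsCocone_ι_app, Sigma.ι_desc_assoc,
      Sigma.ι_desc]
    rw [ι_proj, if_pos]
    exact Finset.mem_image_of_mem _ s.2
  have hx : x = P (ModSite.freeOn O U) (proj F S') x := by
    conv_lhs => rw [← hy, ← hσ, ← P_comp, hy]
  rw [hx, proj_eq_sum, P_hom_sum]
  refine AddSubgroup.sum_mem _ (fun i _ => ?_)
  refine (le_iSup (fun j => rangeι ((Abelian.extFunctorObj (ModSite.freeOn O U) n).mapCocone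
    (colimit.cocone (Discrete.functor F))) j) i) ⟨P (ModSite.freeOn O U) (π F i) x, ?_⟩
  rw [← P_comp]
  rfl

end Groth.Agent.Helper4.ModColimD
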