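import Mathlib
import Groth.Prelude.Def_EtMod2
import Groth.Prelude.Def_FixPt
import Groth.Agent.Helper4.OverEtC
import Groth.Agent.Helper4.FlcPull

set_option autoImplicit false

/-!
# Sheaves of modules on the small étale site: restriction to the localized site versus inverse image,
and inverse images of finite type locally constant sheaves
-/

universe u

open CategoryTheory CategoryTheory.Limits AlgebraicGeometry Opposite

namespace Groth.Agent.Helper4.ModEtA

open Groth.Agent.Helper4.OverEtA Groth.Agent.Helper4.OverEtB Groth.Agent.Helper4.OverEtC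

variable (Λ : Type (u + 1)) [CommRing Λ]

section

variable {U X : Scheme.{u}} (j : U ⟶ X) [Etale j]

instance : EtShriek.JCont j := Groth.Agent.Helper9.EtJCont.jCont_of_etale j

/-- restriction of sheaves of modules along an étale morphism -/
noncomputable abbrev restrAlongM : EtModW.Mod Λ X ⥤ EtModW.Mod Λ U :=
  (EtShriek.compEtale j).sheafPushforwardContinuous (ModuleCat.{u + 1} Λ) U.smallEtaleTopology
    X.smallEtaleTopology

/-- the adjunction `j⁻¹ ⊣ j_*` coming from the site adjunction -/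
noncomputable def sheafAdjM : restrAlongM Λ j ⊣ EtModW.push Λ j :=
  (Groth.Agent.Helper9.EtShriekOpen.siteAdj j).sheafPushforwardContinuous
    (E := ModuleCat.{u + 1} Λ) U.smallEtaleTopology X.smallEtaleTopology

/-- restriction along an étale morphism is the inverse image -/
noncomputable def pullIsoRestrM : EtModW.pull Λ j ≅ restrAlongM Λ j :=
  (FixPt.pullPushAdj (Λ := Λ) j).leftAdjointUniq (sheafAdjM Λ j)

/-- restriction of sheaves along the comparison functor -/
noncomputable abbrev RM :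
    Sheaf (X.smallEtaleTopology.over (Scheme.Etale.mk j)) (ModuleCat.{u + 1} Λ) ⥤ EtModW.Mod Λ U :=
  (Ψ j).sheafPushforwardContinuous (ModuleCat.{u + 1} Λ) U.smallEtaleTopology
    (X.smallEtaleTopology.over (Scheme.Etale.mk j))

instance : (RM Λ j).IsEquivalence := by
  unfold RM
  infer_instance

noncomputable def RRestrM (F : EtModW.Mod Λ X) :
    (RM Λ j).obj (EtModW.restr Λ F (Scheme.Etale.mk j)) ≅ (restrAlongM Λ j).obj F :=
  (fullyFaithfulSheafToPresheaf _ _).preimageIso (Iso.refl _)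

noncomputable def RConstM (M : ModuleCat.{u + 1} Λ) :
    (RM Λ j).obj ((constantSheaf (X.smallEtaleTopology.over (Scheme.Etale.mk j))
      (ModuleCat.{u + 1} Λ)).obj M) ≅
    (constantSheaf U.smallEtaleTopology (ModuleCat.{u + 1} Λ)).obj M :=
  ((Functor.IsDenseSubsite.sheafEquivSheafificationCompatibility (G := Ψ j)
    U.smallEtaleTopology (X.smallEtaleTopology.over (Scheme.Etale.mk j))
    (ModuleCat.{u + 1} Λ)).app ((Functor.const _).obj M)).symm ≪≫
    (presheafToSheaf U.smallEtaleTopology (ModuleCat.{u + 1} Λ)).mapIso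
      (NatIso.ofComponents (fun _ => Iso.refl _) (by intros; simp))

theorem restr_iso_const_iffM (F : EtModW.Mod Λ X) (M : ModuleCat.{u + 1} Λ) :
    Nonempty (EtModW.restr Λ F (Scheme.Etale.mk j) ≅
      (constantSheaf (X.smallEtaleTopology.over (Scheme.Etale.mk j)) (ModuleCat.{u + 1} Λ)).obj M) ↔
    Nonempty ((EtModW.pull Λ j).obj F ≅
      (constantSheaf U.smallEtaleTopology (ModuleCat.{u + 1} Λ)).obj M) := by
  constructor
  · rintro ⟨e⟩
    exact ⟨(pullIsoRestrM Λ j).app F ≪≫ (RRestrM Λ j F).symm ≪≫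
      (RM Λ j).mapIso e ≪≫ RConstM Λ j M⟩
  · rintro ⟨e⟩
    exact ⟨(RM Λ j).preimageIso (RRestrM Λ j F ≪≫
      (pullIsoRestrM Λ j).symm.app F ≪≫ e ≪≫ (RConstM Λ j M).symm)⟩

end

variable {X Y : Scheme.{u}}

theorem restr_iso_const_iffM' (T : X.Etale) (F : EtModW.Mod Λ X) (M : ModuleCat.{u + 1} Λ) :
    Nonempty (EtModW.restr Λ F T ≅
      (constantSheaf (X.smallEtaleTopology.over T) (ModuleCat.{u + 1} Λ)).obj M) ↔
    Nonempty ((EtModW.pull Λ (homS T)).obj F ≅
      (constantSheaf T.left.smallEtaleTopology (ModuleCat.{u + 1} Λ)).obj M) := by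
  induction T with
  | mk Y f hf => exact restr_iso_const_iffM Λ f F M

/-- the constant sheaf of modules -/
noncomputable abbrev cM (X : Scheme.{u}) (M : ModuleCat.{u + 1} Λ) : EtModW.Mod Λ X :=
  (constantSheaf X.smallEtaleTopology (ModuleCat.{u + 1} Λ)).obj M

/-- finite type locally constant sheaves of modules, in terms of inverse images -/
theorem ftlc_iff (F : EtModW.Mod Λ X) : EtModW.IsFTLocConst Λ F ↔
    ∃ (ι : Type u) (V : ι → X.Etale), EtCoh.Covers V ∧
      ∀ i, ∃ (M : ModuleCat.{u + 1} Λ), Module.Finite Λ M ∧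
        Nonempty ((EtModW.pull Λ (homS (V i))).obj F ≅ cM Λ (V i).left M) := by
  constructor
  · rintro ⟨ι, V, hV, h⟩
    refine ⟨ι, V, hV, fun i => ?_⟩
    obtain ⟨M, iM, mM, fM, hM⟩ := h i
    exact ⟨ModuleCat.of Λ M, fM, (restr_iso_const_iffM' Λ (V i) F _).1 hM⟩
  · rintro ⟨ι, V, hV, h⟩
    refine ⟨ι, V, hV, fun i => ?_⟩
    obtain ⟨M, fM, hM⟩ := h i
    exact ⟨M, inferInstance, inferInstance, fM, (restr_iso_const_iffM' Λ (V i) F _).2 hM⟩

/-- inverse images of sheaves of modules along the two sides of a commutative square -/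
noncomputable def pullSqM {W X Y Z : Scheme.{u}} (a : W ⟶ Y) (g : Y ⟶ Z) (b : W ⟶ X) (f : X ⟶ Z)
    (w : a ≫ g = b ≫ f) (F : EtModW.Mod Λ Z) :
    (EtModW.pull Λ a).obj ((EtModW.pull Λ g).obj F) ≅ (EtModW.pull Λ b).obj ((EtModW.pull Λ f).obj F) :=
  ((FixPt.pullComp (Λ := Λ) a g).app F).symm ≪≫ (FixPt.pullCongr (Λ := Λ) w).app F ≪≫
    (FixPt.pullComp (Λ := Λ) b f).app F

set_option backward.isDefEq.respectTransparency.types false in
theorem ftlc_pull (f : X ⟶ Y) (G : EtModW.Mod Λ Y) (hG : EtModW.IsFTLocConst Λ G) :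
    EtModW.IsFTLocConst Λ ((EtModW.pull Λ f).obj G) := by
  rw [ftlc_iff] at hG ⊢
  obtain ⟨ι, V, hV, hM⟩ := hG
  refine ⟨ι, fun i => (EtCoh.bc f).obj (V i), ?_, fun i => ?_⟩
  · intro x
    obtain ⟨i, y, hy⟩ := hV (f x)
    obtain ⟨z, hz1, hz2⟩ := Scheme.Pullback.exists_preimage_pullback
      (f := homS (V i)) (g := f) y x hy
    exact ⟨i, z, hz2⟩
  · obtain ⟨M, fM, ⟨a⟩⟩ := hM i
    refine ⟨M, fM, ⟨?_⟩⟩
    have w : pullback.fst (homS (V i)) f ≫ homS (V i) = pullback.snd (homS (V i)) f ≫ f :=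
      pullback.condition
    exact (pullSqM Λ (pullback.fst (homS (V i)) f) (homS (V i)) (pullback.snd (homS (V i)) f) f w
      G).symm ≪≫ (EtModW.pull Λ (pullback.fst (homS (V i)) f)).mapIso a ≪≫
      (FixPt.pullConstIso (Λ := Λ) (pullback.fst (homS (V i)) f)).app M

end Groth.Agent.Helper4.ModEtA
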