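import Mathlib
import Groth.Agent.Helper1.LG2
import Groth.Agent.Helper4.SiteExtMod

/-!
# Local lifting of maps out of a retract of a finite free module through an epimorphism
(general small site)
-/

set_option autoImplicit false
universe u
open CategoryTheory CategoryTheory.Limits Opposite

namespace Groth.Agent.Helper4.ModLift

open Groth.Agent.Helper1.LG

variable {C : Type u} [SmallCategory C] {J : GrothendieckTopology C} {R : Sheaf J RingCat.{u}}

instance additive_over (W : C) : (SheafOfModules.overFunctor.{u} R W).Additive where

/-- the section of the restriction to the slice site attached to a section over `W` -/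
noncomputable def overSec {M : SheafOfModules.{u} R} {W : C} (m : M.val.obj (op W)) :
    (M.over W).sections where
  val Y := M.val.map Y.unop.hom.op m
  property {Y Z} f := by
    change M.val.presheaf.map f.unop.left.op (M.val.presheaf.map Y.unop.hom.op m) =
      M.val.presheaf.map Z.unop.hom.op m
    have h : Y.unop.hom.op ≫ f.unop.left.op = Z.unop.hom.op := by
      rw [← op_comp, Over.w]
    rw [← h, M.val.presheaf.map_comp]
    rfl

/-- restriction of a global section to the slice site -/
noncomputable def resSec {M : SheafOfModules.{u} R} (W : C) (s : M.sections) :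
    (M.over W).sections where
  val Y := s.val (op Y.unop.left)
  property {Y Z} f := s.property f.unop.left.op

theorem overSec_secAt {M : SheafOfModules.{u} R} (W : C) (s : M.sections) :
    overSec (secAt s W) = resSec W s := by
  ext Y
  exact secAt_map s Y.unop.hom

theorem sectionsMap_overSec {M N : SheafOfModules.{u} R} (p : M ⟶ N) {W : C}
    (m : M.val.obj (op W)) :
    SheafOfModules.sectionsMap (p.over W) (overSec m) = overSec (appLin p W m) := by
  ext Y
  have := ConcreteCategory.congr_hom (p.val.naturality Y.unop.hom.op) m
  exact this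


instance preservesCoprod_over (W : C) (I : Type u) [Finite I] :
    PreservesColimitsOfShape (Discrete I) (SheafOfModules.overFunctor.{u} R W) :=
  inferInstance

/-- the iso `free ≅ free|_W` for a finite index type -/
noncomputable def freeOverIso (W : C) (I : Type u) [Finite I] :
    SheafOfModules.free (R := R.over W) I ≅ (SheafOfModules.free (R := R) I).over W :=
  SheafOfModules.mapFreeIso (SheafOfModules.overFunctor.{u} R W) I (Iso.refl _)

theorem ιFree_freeOverIso_hom (W : C) (I : Type u) [Finite I] (k : I) :
    SheafOfModules.ιFree k ≫ (freeOverIso (R := R) W I).hom =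
      (SheafOfModules.ιFree (R := R) k).over W := by
  exact (SheafOfModules.ιFree_mapFreeIso_hom (SheafOfModules.overFunctor.{u} R W) I (Iso.refl _) k).trans
    (Category.id_comp _)

theorem unitHomEquiv_over {M : SheafOfModules.{u} R} (W : C) (s : M.sections) :
    (M.over W).unitHomEquiv ((M.unitHomEquiv.symm s).over W) = resSec W s := by
  ext Y
  have h1 : (M.unitHomEquiv (M.unitHomEquiv.symm s)).val (op Y.unop.left) = s.val (op Y.unop.left) := by
    rw [Equiv.apply_symm_apply]
  exact h1

theorem exists_local_lift (E F G : SheafOfModules.{u} R) (n : ℕ)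
    (i : E ⟶ SheafOfModules.free (R := R) (ULift.{u} (Fin n)))
    (r : SheafOfModules.free (R := R) (ULift.{u} (Fin n)) ⟶ E) (hir : i ≫ r = 𝟙 E)
    (p : G ⟶ F) [Epi p] (φ : E ⟶ F) (V : C) :
    ∃ S ∈ J V, ∀ ⦃W : C⦄ (g : W ⟶ V), S g →
      ∃ l : E.over W ⟶ G.over W, l ≫ p.over W = φ.over W := by
  classical
  let t : ULift.{u} (Fin n) → F.sections := F.freeHomEquiv (r ≫ φ)
  have hls := (isLocallySurjective_iff_epi p).2 inferInstance
  obtain ⟨S, hS, hS'⟩ := Groth.Agent.Helper4.SiteExtMod.fin_inf_mem J n V
    (fun k => Presheaf.imageSieve ((PresheafOfModules.toPresheaf R.obj).map p.val)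
      (secAt (t ⟨k⟩) V))
    (fun k => hls.imageSieve_mem _)
  refine ⟨S, hS, fun W g hg => ?_⟩
  have h1 := hS' g hg
  choose u hu using h1
  have hu' : ∀ k : ULift.{u} (Fin n), appLin p W (u k.down) = secAt (t k) W := by
    intro k
    have := hu k.down
    rw [← secAt_map (t k) g]
    exact this
  let lam : SheafOfModules.free (R := R.over W) (ULift.{u} (Fin n)) ⟶ G.over W :=
    (G.over W).freeHomEquiv.symm (fun k => overSec (u k.down))
  let e := freeOverIso (R := R) W (ULift.{u} (Fin n))
  have key : lam ≫ p.over W = e.hom ≫ (r ≫ φ).over W := by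
    apply (F.over W).freeHomEquiv.injective
    funext k
    rw [SheafOfModules.freeHomEquiv_comp_apply]
    have h2 : (G.over W).freeHomEquiv lam k = overSec (u k.down) := by
      change (G.over W).freeHomEquiv ((G.over W).freeHomEquiv.symm _) k = _
      rw [Equiv.apply_symm_apply]
    rw [h2, sectionsMap_overSec, hu', overSec_secAt]
    symm
    change (F.over W).unitHomEquiv (SheafOfModules.ιFree k ≫ e.hom ≫ (r ≫ φ).over W) = _
    rw [← Category.assoc, ιFree_freeOverIso_hom]
    have h3 : (SheafOfModules.ιFree (R := R) k).over W ≫ (r ≫ φ).over W =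
        (F.unitHomEquiv.symm (t k)).over W := by
      change (SheafOfModules.overFunctor R W).map _ ≫ (SheafOfModules.overFunctor R W).map _ = _
      rw [← Functor.map_comp]
      congr 1
      exact (SheafOfModules.unitHomEquiv_symm_freeHomEquiv_apply (r ≫ φ) k).symm
    exact (congrArg (F.over W).unitHomEquiv h3).trans (unitHomEquiv_over W (t k))
  refine ⟨i.over W ≫ e.inv ≫ lam, ?_⟩
  rw [Category.assoc, Category.assoc, key, Iso.inv_hom_id_assoc]
  change (SheafOfModules.overFunctor R W).map _ ≫ (SheafOfModules.overFunctor R W).map _ = _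
  rw [← Functor.map_comp, ← Category.assoc, hir, Category.id_comp]

end Groth.Agent.Helper4.ModLift
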