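import Mathlib
import Groth.Prelude.Def_EtMod2
import Groth.Prelude.Def_FixPt
import Groth.Agent.Helper4.ModEtA
import Groth.Agent.Helper4.StrataC

set_option autoImplicit false

/-!
# Finite stratifications adapted to a sheaf of modules on the small étale site
(port of `StrataB`–`StrataD` to `EtModW`)
-/

universe u

open CategoryTheory CategoryTheory.Limits AlgebraicGeometry Opposite Topology

namespace Groth.Agent.Helper4.ModStrata

open Groth.Agent.Helper4.StrataA Groth.Agent.Helper4.ModEtA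

variable (Λ : Type (u + 1)) [CommRing Λ]

variable {X : Scheme.{u}}

/-- inverse image along a composite -/
noncomputable def pullCompObjM {X Y Z : Scheme.{u}} (f : X ⟶ Y) (g : Y ⟶ Z) (F : EtModW.Mod Λ Z) :
    (EtModW.pull Λ f).obj ((EtModW.pull Λ g).obj F) ≅ (EtModW.pull Λ (f ≫ g)).obj F :=
  ((FixPt.pullComp (Λ := Λ) f g).app F).symm

theorem ftlc_of_iso {X : Scheme.{u}} {F F' : EtModW.Mod Λ X} (e : F ≅ F')
    (h : EtModW.IsFTLocConst Λ F) : EtModW.IsFTLocConst Λ F' := by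
  rw [ftlc_iff] at h ⊢
  obtain ⟨ι, V, hV, hM⟩ := h
  refine ⟨ι, V, hV, fun i => ?_⟩
  obtain ⟨M, fM, ⟨a⟩⟩ := hM i
  exact ⟨M, fM, ⟨(EtModW.pull Λ (Groth.Agent.Helper4.OverEtC.homS (V i))).mapIso e.symm ≪≫ a⟩⟩

/-- finite stratification of `S` adapted to `F`, with an arbitrary finite index type -/
def Strat (F : EtModW.Mod Λ X) (S : Set X) : Prop :=
  ∃ (κ : Type) (_ : Finite κ) (T : κ → Scheme.{u}) (g : ∀ k, T k ⟶ X),
    (∀ k, IsImmersion (g k)) ∧ (∀ k, CIn S (Set.range (g k))) ∧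
    Pairwise (fun a b => Disjoint (Set.range (g a)) (Set.range (g b))) ∧
    (⋃ k, Set.range (g k)) = S ∧
    ∀ k, EtModW.IsFTLocConst Λ ((EtModW.pull Λ (g k)).obj F)

theorem strat_iff (F : EtModW.Mod Λ X) (S : Set X) : Strat Λ F S ↔ EtModW.AdaptedStrata Λ F S := by
  constructor
  · rintro ⟨κ, hκ, T, g, h1, h2, h3, h4, h5⟩
    obtain ⟨n, ⟨e⟩⟩ := Finite.exists_equiv_fin κ
    refine ⟨n, fun i => T (e.symm i), fun i => g (e.symm i), fun i => h1 _, fun i => h2 _, ?_, ?_,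
      fun i => h5 _⟩
    · intro i i' hii'
      exact h3 (fun h => hii' (e.symm.injective h))
    · rw [← h4]
      exact e.symm.surjective.iUnion_comp (fun k => Set.range (g k))
  · rintro ⟨n, T, g, h1, h2, h3, h4, h5⟩
    exact ⟨Fin n, inferInstance, T, g, h1, h2, h3, h4, fun k => h5 k⟩

/-- pullback of a stratification along a morphism of schemes -/
theorem strat_pull {X Y : Scheme.{u}} (f : X ⟶ Y) (F : EtModW.Mod Λ Y) (V : Y.Opens) (W : X.Opens)
    (e : W ≤ f ⁻¹ᵁ V) (h : Strat Λ F (V : Set Y)) :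
    Strat Λ ((EtModW.pull Λ f).obj F) (W : Set X) := by
  obtain ⟨κ, hκ, T, g, h1, h2, h3, h4, h5⟩ := h
  refine ⟨κ, hκ, fun k => pullback (g k) (W.ι ≫ f),
    fun k => pullback.snd (g k) (W.ι ≫ f) ≫ W.ι, fun k => inferInstance, fun k => ?_, ?_, ?_,
    fun k => ?_⟩
  · rw [Groth.Agent.Helper4.StrataB.range_pullback_snd_ι]
    exact Groth.Agent.Helper4.StrataB.cIn_inter_self (CIn.preimage f V W e (h2 k))
  · intro a b hab
    rw [Groth.Agent.Helper4.StrataB.range_pullback_snd_ι,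
      Groth.Agent.Helper4.StrataB.range_pullback_snd_ι]
    have : Disjoint (Set.range (g a)) (Set.range (g b)) := h3 hab
    rw [Set.disjoint_left] at this ⊢
    rintro x ⟨-, hxa⟩ ⟨-, hxb⟩
    exact this hxa hxb
  · ext x
    simp only [Set.mem_iUnion, Groth.Agent.Helper4.StrataB.range_pullback_snd_ι]
    constructor
    · rintro ⟨k, hx, -⟩
      exact hx
    · intro hx
      have hfx : f x ∈ (V : Set Y) := e hx
      rw [← h4] at hfx
      obtain ⟨k, hk⟩ := Set.mem_iUnion.1 hfx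
      exact ⟨k, hx, hk⟩
  · have w : pullback.fst (g k) (W.ι ≫ f) ≫ g k = (pullback.snd (g k) (W.ι ≫ f) ≫ W.ι) ≫ f := by
      rw [Category.assoc]
      exact pullback.condition
    exact ftlc_of_iso Λ (pullSqM Λ _ _ _ _ w F) (ftlc_pull Λ _ _ (h5 k))

theorem strat_of_iso {F F' : EtModW.Mod Λ X} (e : F ≅ F') {S : Set X} (h : Strat Λ F S) :
    Strat Λ F' S := by
  obtain ⟨κ, hκ, T, g, h1, h2, h3, h4, h5⟩ := h
  exact ⟨κ, hκ, T, g, h1, h2, h3, h4,
    fun k => ftlc_of_iso Λ ((EtModW.pull Λ (g k)).mapIso e) (h5 k)⟩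

/-- gluing stratifications over a finite cover by retrocompact opens -/
theorem strat_glue (F : EtModW.Mod Λ X) (S : Set X) {m : ℕ} (W : Fin m → Set X)
    (hW : ∀ l, IsOpen (W l)) (hcov : (⋃ l, W l) = S)
    (hr : ∀ l, IsRetrocompact ((Subtype.val : S → X) ⁻¹' (W l)))
    (h : ∀ l, Strat Λ F (W l)) : Strat Λ F S := by
  choose κ hκ T g h1 h2 h3 h4 h5 using h
  have hWS : ∀ l, W l ⊆ S := fun l => hcov ▸ Set.subset_iUnion W l
  let C : Fin m → Set X := fun l => (⋃ l' : {l' : Fin m // l' < l}, W l'.1)ᶜ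
  have hC : ∀ l, IsClosed (C l) := fun l =>
    (isOpen_iUnion (fun l' : {l' : Fin m // l' < l} => hW l'.1)).isClosed_compl
  choose Z z hz1 hz2 using fun l => Groth.Agent.Helper4.StrataC.exists_closedImmersion (C l) (hC l)
  haveI : ∀ l, Finite (κ l) := hκ
  haveI : ∀ l k, IsImmersion (g l k) := h1
  haveI : ∀ l, IsClosedImmersion (z l) := hz1
  have hrange : ∀ (a : Σ l, κ l), Set.range (pullback.fst (g a.1 a.2) (z a.1) ≫ g a.1 a.2) =
      Set.range (g a.1 a.2) ∩ C a.1 := by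
    intro a
    rw [Scheme.Pullback.range_fst_comp, hz2]
  have hsub : ∀ l k, Set.range (g l k) ⊆ W l := fun l k => by
    rw [← h4 l]
    exact Set.subset_iUnion (fun k => Set.range (g l k)) k
  refine ⟨Σ l, κ l, inferInstance, fun a => pullback (g a.1 a.2) (z a.1),
    fun a => pullback.fst (g a.1 a.2) (z a.1) ≫ g a.1 a.2, fun a => inferInstance, fun a => ?_,
    ?_, ?_, fun a => ?_⟩
  · rw [hrange]
    refine CIn.inter ?_ ?_
    · exact CIn.of_open (hWS a.1) (hW a.1) (hr a.1) (hsub a.1 a.2) (h2 a.1 a.2)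
    · refine CIn.compl (CIn.iUnion fun l' => ?_)
      exact CIn.of_isRetrocompact (hW l'.1) (hr l'.1)
  · rintro ⟨l, k⟩ ⟨l', k'⟩ hne
    show Disjoint (Set.range _) (Set.range _)
    rw [hrange, hrange, Set.disjoint_left]
    rintro x ⟨hx1, hx2⟩ ⟨hx3, hx4⟩
    rcases lt_trichotomy l l' with hll | hll | hll
    · exact hx4 (Set.mem_iUnion.2 ⟨⟨l, hll⟩, hsub l k hx1⟩)
    · subst hll
      have hkk : k ≠ k' := fun hk => hne (by rw [hk])
      have : Disjoint (Set.range (g l k)) (Set.range (g l k')) := h3 l hkk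
      exact Set.disjoint_left.1 this hx1 hx3
    · exact hx2 (Set.mem_iUnion.2 ⟨⟨l', hll⟩, hsub l' k' hx3⟩)
  · ext x
    simp only [Set.mem_iUnion]
    constructor
    · rintro ⟨a, ha⟩
      rw [hrange] at ha
      exact hWS a.1 (hsub a.1 a.2 ha.1)
    · intro hx
      rw [← hcov] at hx
      have hex : ∃ l, x ∈ W l := Set.mem_iUnion.1 hx
      classical
      have hP : ∃ n, ∃ h : n < m, x ∈ W ⟨n, h⟩ := by
        obtain ⟨l₁, hl₁⟩ := hex
        exact ⟨l₁.1, l₁.2, hl₁⟩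
      let l := Nat.find hP
      obtain ⟨hlm, hl⟩ := Nat.find_spec hP
      have hmin : ∀ l' : Fin m, l'.1 < l → x ∉ W l' := by
        intro l' hl' hx'
        exact Nat.find_min hP hl' ⟨l'.2, hx'⟩
      have hxW : x ∈ ⋃ k, Set.range (g ⟨l, hlm⟩ k) := by rw [h4]; exact hl
      obtain ⟨k, hk⟩ := Set.mem_iUnion.1 hxW
      refine ⟨⟨⟨l, hlm⟩, k⟩, ?_⟩
      rw [hrange]
      refine ⟨hk, ?_⟩
      intro hx'
      obtain ⟨l', hl'⟩ := Set.mem_iUnion.1 hx'
      exact hmin l'.1 l'.2 hl'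
  · exact ftlc_of_iso Λ (pullCompObjM Λ _ _ F) (ftlc_pull Λ _ _ (h5 a.1 a.2))

theorem strat_of_local (F : EtModW.Mod Λ X) (U : X.Opens) (hc : IsCompact (U : Set X))
    [QuasiSeparatedSpace ↥(U : Set X)]
    (h : ∀ x ∈ U, ∃ W : X.Opens, IsAffineOpen W ∧ x ∈ W ∧ W ≤ U ∧ Strat Λ F (W : Set X)) :
    Strat Λ F (U : Set X) := by
  choose W hW1 hW2 hW3 hW4 using fun x : U => h x.1 x.2
  obtain ⟨t, ht⟩ := hc.elim_finite_subcover (fun x : U => (W x : Set X)) (fun x => (W x).2)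
    (fun x hx => Set.mem_iUnion.2 ⟨⟨x, hx⟩, hW2 ⟨x, hx⟩⟩)
  let e : Fin t.card ≃ t := t.equivFin.symm
  refine strat_glue Λ F (U : Set X) (fun l => (W (e l).1 : Set X)) (fun l => (W (e l).1).2) ?_
    (fun l => ?_) (fun l => hW4 _)
  · apply Set.Subset.antisymm
    · exact Set.iUnion_subset fun l => hW3 _
    · intro x hx
      obtain ⟨y, hy⟩ := Set.mem_iUnion.1 (ht hx)
      obtain ⟨hyt, hxy⟩ := Set.mem_iUnion.1 hy
      exact Set.mem_iUnion.2 ⟨e.symm ⟨y, hyt⟩, by simpa using hxy⟩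
  · exact isRetrocompact_preimage_val (hW3 _) (W (e l).1).2 (hW1 (e l).1).isCompact

/-- inverse images of constructible sheaves of modules are constructible -/
theorem isConstructible_pull {X Y : Scheme.{u}} (f : X ⟶ Y) (F : EtModW.Mod Λ Y)
    (hF : EtModW.IsConstructible Λ F) : EtModW.IsConstructible Λ ((EtModW.pull Λ f).obj F) := by
  intro U hU
  rw [← strat_iff]
  haveI : QuasiSeparatedSpace ↥(U : Set X) :=
    (isQuasiSeparated_iff_quasiSeparatedSpace _ U.2).1 hU.isQuasiSeparated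
  refine strat_of_local Λ _ U hU.isCompact ?_
  intro x hx
  obtain ⟨V, hV, hxV, -⟩ := (TopologicalSpace.Opens.isBasis_iff_nbhd.1 Y.isBasis_affineOpens)
    (show f x ∈ (⊤ : Y.Opens) from trivial)
  have hx' : x ∈ U ⊓ f ⁻¹ᵁ V := ⟨hx, hxV⟩
  obtain ⟨W, hW, hxW, hWU⟩ := (TopologicalSpace.Opens.isBasis_iff_nbhd.1 X.isBasis_affineOpens) hx'
  refine ⟨W, hW, hxW, hWU.trans inf_le_left, ?_⟩
  exact strat_pull Λ f F V W (hWU.trans inf_le_right) ((strat_iff Λ F _).2 (hF V hV))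

theorem isConstructible_of_iso {F F' : EtModW.Mod Λ X} (e : F ≅ F')
    (hF : EtModW.IsConstructible Λ F) : EtModW.IsConstructible Λ F' := by
  intro U hU
  rw [← strat_iff]
  exact strat_of_iso Λ e ((strat_iff Λ F _).2 (hF U hU))

end Groth.Agent.Helper4.ModStrata
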