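import Mathlib
import Groth.Prelude.Def_EtMod2
import Groth.Prelude.Def_ARSys
import Groth.Agent.Helper4.LanExactMod
import Groth.Agent.Helper4.ARFunctor
import Groth.Agent.Helper4.ModStrata

set_option autoImplicit false

/-!
# Inverse images of sheaves of modules: linearity, exactness, and projective systems
-/

universe u

open CategoryTheory CategoryTheory.Limits AlgebraicGeometry Opposite

namespace Groth.Agent.Helper4.ModPullAR

variable (Λ : Type (u + 1)) [CommRing Λ] {X Y : Scheme.{u}} (f : X ⟶ Y)

/-- the adjunction between inverse and direct image -/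
noncomputable def adj : EtModW.pull Λ f ⊣ EtModW.push Λ f :=
  (EtCoh.bc f).sheafAdjunctionContinuous (ModuleCat.{u + 1} Λ) Y.smallEtaleTopology
    X.smallEtaleTopology

instance push_linear : (EtModW.push Λ f).Linear Λ where
  map_smul _ _ := rfl

instance pull_additive : (EtModW.pull Λ f).Additive := (adj Λ f).left_adjoint_additive

instance pull_linear : (EtModW.pull Λ f).Linear Λ :=
  Groth.Agent.Helper4.ARFunctor.linear_of_adj (adj Λ f)

instance pull_preservesFiniteLimits : PreservesFiniteLimits (EtModW.pull Λ f) :=
  Groth.Agent.Helper4.LanExactMod.sheafPullback_preservesFiniteLimits Λ (EtCoh.bc f)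
    Y.smallEtaleTopology X.smallEtaleTopology

instance pull_preservesFiniteColimits : PreservesFiniteColimits (EtModW.pull Λ f) :=
  haveI : PreservesColimitsOfSize.{0, 0} (EtModW.pull Λ f) := (adj Λ f).leftAdjoint_preservesColimits
  PreservesColimitsOfSize.preservesFiniteColimits _

end Groth.Agent.Helper4.ModPullAR
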