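import Mathlib
import Groth.Agent.Helper9.ModFree
import Groth.Agent.Helper9.FreeOnHom
import Groth.Agent.Helper9.ModCechExt
import Groth.Agent.Helper4.TestLoc

/-! Free sheaves of modules on representables as test objects. -/

set_option autoImplicit false
set_option linter.unusedSectionVars false
universe u

open CategoryTheory Limits Opposite

namespace Groth.Agent.Helper4.ModTest

open Groth.Agent.Helper9

variable {C : Type u} [SmallCategory C] {J : GrothendieckTopology C} (R : Sheaf J RingCat.{u})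

/-- the free sheaf of modules on `U` -/
noncomputable abbrev T (U : C) : SheafOfModules.{u} R := (ModFree.L R).obj (yoneda.obj U)

noncomputable abbrev Tmap {U V : C} (g : V ⟶ U) : T R V ⟶ T R U :=
  (ModFree.L R).map (yoneda.map g)

variable {R}

/-- `Hom(T U, F) ≃ F(U)` -/
noncomputable def homEquivT (U : C) (F : SheafOfModules.{u} R) :
    (T R U ⟶ F) ≃ ((ModFree.G R).obj F).obj (op U) :=
  ((ModFree.adjL R).homEquiv (yoneda.obj U) F).trans yonedaEquiv

lemma homEquivT_comp (U : C) {F F' : SheafOfModules.{u} R} (φ : T R U ⟶ F) (g : F ⟶ F') :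
    homEquivT U F' (φ ≫ g) = ((ModFree.G R).map g).app (op U) (homEquivT U F φ) := by
  unfold homEquivT
  simp only [Equiv.trans_apply]
  rw [Adjunction.homEquiv_naturality_right, yonedaEquiv_comp]

lemma homEquivT_map {U V : C} (i : V ⟶ U) {F : SheafOfModules.{u} R} (φ : T R U ⟶ F) :
    homEquivT V F (Tmap R i ≫ φ) = ((ModFree.G R).obj F).map i.op (homEquivT U F φ) := by
  unfold homEquivT
  simp only [Equiv.trans_apply]
  rw [Adjunction.homEquiv_naturality_left]
  exact (yonedaEquiv_naturality _ _).symm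

lemma isSheaf_G (F : SheafOfModules.{u} R) : Presieve.IsSheaf J ((ModFree.G R).obj F) :=
  (isSheaf_iff_isSheaf_of_type J _).1
    ((Presheaf.isSheaf_iff_isSheaf_forget J F.val.presheaf (forget AddCommGrpCat)).1 F.isSheaf)

/-- separatedness -/
theorem sepT (V : C) (F : SheafOfModules.{u} R) (t : T R V ⟶ F) {ι : Type u} (Yf : ι → C)
    (f : ∀ i, Yf i ⟶ V) (hf : Sieve.ofArrows Yf f ∈ J V) (h : ∀ i, Tmap R (f i) ≫ t = 0) :
    t = 0 := by
  apply (homEquivT V F).injective
  refine ((isSheaf_G F).isSeparated _ hf).ext ?_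
  intro W g hg
  obtain ⟨Z, k, q, ⟨i⟩, rfl⟩ := hg
  have h1 := homEquivT_map (f i) t
  have h2 := homEquivT_map (f i) (0 : T R V ⟶ F)
  rw [h i] at h1
  rw [comp_zero] at h2
  change ((ModFree.G R).obj F).map (k ≫ f i).op (homEquivT V F t) =
    ((ModFree.G R).obj F).map (k ≫ f i).op (homEquivT V F 0)
  rw [op_comp, Functor.map_comp]
  change ((ModFree.G R).obj F).map k.op (((ModFree.G R).obj F).map (f i).op (homEquivT V F t)) =
    ((ModFree.G R).obj F).map k.op (((ModFree.G R).obj F).map (f i).op (homEquivT V F 0))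
  rw [← h1, ← h2]

/-- an epimorphism onto `T U` splits locally -/
theorem liftT (U : C) {A' : SheafOfModules.{u} R} (π : A' ⟶ T R U) [Epi π] :
    ∃ S ∈ J U, ∀ (V : C) (g : V ⟶ U), S.arrows g →
      ∃ l : T R V ⟶ A', l ≫ π = Tmap R g := by
  haveI : Epi ((SheafOfModules.toSheaf R).map π) := inferInstance
  haveI hls : Sheaf.IsLocallySurjective ((SheafOfModules.toSheaf R).map π) :=
    (Sheaf.isLocallySurjective_iff_epi' (A := AddCommGrpCat.{u}) _).mpr inferInstance
  let u₀ : ((SheafOfModules.toSheaf R).obj (T R U)).obj.obj (op U) :=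
    homEquivT U (T R U) (𝟙 _)
  refine ⟨Presheaf.imageSieve ((SheafOfModules.toSheaf R).map π).hom u₀,
    Presheaf.imageSieve_mem J _ _, ?_⟩
  intro V g hg
  obtain ⟨a, ha⟩ := hg
  refine ⟨(homEquivT V A').symm a, ?_⟩
  apply (homEquivT V (T R U)).injective
  rw [homEquivT_comp, Equiv.apply_symm_apply]
  refine Eq.trans ?_ (ha.trans ?_)
  · rfl
  · have h := homEquivT_map g (𝟙 (T R U))
    rw [Category.comp_id] at h
    exact h.symm

variable (R) in
theorem isTest : Groth.Agent.Helper4.TestLoc.IsTest J (T R) (fun g => Tmap R g) where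
  lift U _ π _ := liftT U π
  sep V F t _ Yf f hf h := sepT V F t Yf f hf h

end Groth.Agent.Helper4.ModTest
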