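import Mathlib
import Groth.Agent.Helper4.ModTest
import Groth.Agent.Helper9.FreeOnIso
import Groth.Agent.Helper1.SiteCoh

/-! Test objects for sheaves of modules: monomorphism criterion and comparison of `Ext` groups with
cohomology of the underlying abelian sheaf. -/

set_option autoImplicit false
set_option linter.unusedSectionVars false
universe u

open CategoryTheory Limits Opposite

namespace Groth.Agent.Helper4.ModTest

open Groth.Agent.Helper9

variable {C : Type u} [SmallCategory C] {J : GrothendieckTopology C}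

section Sheafify

variable (R : Sheaf J RingCat.{u})

lemma isIso_L_map_toSheafify (P : Cᵒᵖ ⥤ Type u) :
    IsIso ((ModFree.L R).map (toSheafify J P)) := by
  rw [isIso_iff_coyoneda_map_bijective]
  intro F
  have hF : Presheaf.IsSheaf J ((ModFree.G R).obj F) :=
    (isSheaf_iff_isSheaf_of_type J _).2 (isSheaf_G F)
  constructor
  · intro x y hxy
    apply ((ModFree.adjL R).homEquiv _ F).injective
    apply sheafify_hom_ext J _ _ hF
    rw [← Adjunction.homEquiv_naturality_left, ← Adjunction.homEquiv_naturality_left]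
    exact congrArg _ hxy
  · intro z
    refine ⟨((ModFree.adjL R).homEquiv _ F).symm
      (sheafifyLift J ((ModFree.adjL R).homEquiv _ F z) hF), ?_⟩
    apply ((ModFree.adjL R).homEquiv _ F).injective
    change (ModFree.adjL R).homEquiv _ F ((ModFree.L R).map (toSheafify J P) ≫ _) = _
    rw [Adjunction.homEquiv_naturality_left, Equiv.apply_symm_apply, toSheafify_sheafifyLift]

lemma isIso_LF_map_toSheafify (P : Cᵒᵖ ⥤ Type u) :
    IsIso ((Groth.Agent.Helper1.SiteCoh.LF J).map (toSheafify J P)) := by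
  rw [isIso_iff_coyoneda_map_bijective]
  intro F
  have hF : Presheaf.IsSheaf J ((Groth.Agent.Helper1.SiteCoh.RF J).obj F) :=
    (Presheaf.isSheaf_iff_isSheaf_forget J F.obj (forget AddCommGrpCat.{u})).1 F.property
  constructor
  · intro x y hxy
    apply ((Groth.Agent.Helper1.SiteCoh.adjF J).homEquiv _ F).injective
    apply sheafify_hom_ext J _ _ hF
    rw [← Adjunction.homEquiv_naturality_left, ← Adjunction.homEquiv_naturality_left]
    exact congrArg _ hxy
  · intro z
    refine ⟨((Groth.Agent.Helper1.SiteCoh.adjF J).homEquiv _ F).symm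
      (sheafifyLift J ((Groth.Agent.Helper1.SiteCoh.adjF J).homEquiv _ F z) hF), ?_⟩
    apply ((Groth.Agent.Helper1.SiteCoh.adjF J).homEquiv _ F).injective
    change (Groth.Agent.Helper1.SiteCoh.adjF J).homEquiv _ F
      ((Groth.Agent.Helper1.SiteCoh.LF J).map (toSheafify J P) ≫ _) = _
    rw [Adjunction.homEquiv_naturality_left, Equiv.apply_symm_apply, toSheafify_sheafifyLift]

end Sheafify

section ExtIso

variable {𝒜 : Type*} [Category 𝒜] [Abelian 𝒜] [HasExt.{u} 𝒜]

lemma subsingleton_ext_of_iso {X X' : 𝒜} (e : X ≅ X') (Y : 𝒜) (n : ℕ)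
    (h : Subsingleton (Abelian.Ext.{u} X Y n)) : Subsingleton (Abelian.Ext.{u} X' Y n) := by
  refine ⟨fun α β => ?_⟩
  have key : ∀ γ : Abelian.Ext.{u} X' Y n,
      γ = (Abelian.Ext.mk₀ e.inv).comp ((Abelian.Ext.mk₀ e.hom).comp γ (zero_add n)) (zero_add n) := by
    intro γ
    rw [Abelian.Ext.mk₀_comp_mk₀_assoc, e.inv_hom_id, Abelian.Ext.mk₀_id_comp]
  rw [key α, key β, Subsingleton.elim ((Abelian.Ext.mk₀ e.hom).comp α (zero_add n))
    ((Abelian.Ext.mk₀ e.hom).comp β (zero_add n))]

end ExtIso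

variable (O : Sheaf J CommRingCat.{u})

/-- monomorphisms are detected by the test objects over a covering class -/
theorem mono_of_test (B : Set C)
    (hB : ∀ U : C, ∃ (ι : Type u) (Y : ι → C) (f : ∀ i, Y i ⟶ U),
      Sieve.ofArrows Y f ∈ J U ∧ ∀ i, Y i ∈ B)
    {F F' : ModSite.Mod O} (φ : F ⟶ F')
    (h : ∀ V ∈ B, ∀ t : T (ModSite.ringSh O) V ⟶ F, t ≫ φ = 0 → t = 0) : Mono φ := by
  apply Preadditive.mono_of_cancel_zero
  intro Z g hg
  apply FreeOnHom.isSeparating_freeOn B hB
  intro G hG σ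
  obtain ⟨⟨V, hV⟩⟩ := hG
  rw [comp_zero]
  have h0 := h V hV ((FreeOnIso.freeOnIso O V).inv ≫ σ ≫ g) (by
    rw [Category.assoc, Category.assoc, hg, comp_zero, comp_zero])
  have h1 := congrArg (fun x => (FreeOnIso.freeOnIso O V).hom ≫ x) h0
  simpa using h1

/-- vanishing of cohomology of the underlying abelian sheaf gives vanishing of `Ext` from the
test object -/
theorem subsingleton_ext [HasExt.{u} (ModSite.Mod O)] (U : C) (F : ModSite.Mod O) (k : ℕ)
    (h : Subsingleton (ModSite.HU O F k U)) :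
    Subsingleton (Abelian.Ext.{u} (T (ModSite.ringSh O) U) F k) := by
  let K : Sheaf J (Type u) := (presheafToSheaf J (Type u)).obj (yoneda.obj U)
  haveI := isIso_L_map_toSheafify (ModSite.ringSh O) (yoneda.obj U)
  haveI := isIso_LF_map_toSheafify (J := J) (yoneda.obj U)
  let e1 : T (ModSite.ringSh O) U ≅ (ModCechRes.Φm (ModSite.ringSh O)).obj K :=
    asIso ((ModFree.L (ModSite.ringSh O)).map (toSheafify J (yoneda.obj U)))
  let e2 : CohCx.freeSheaf J U ≅ (presheafToSheaf J AddCommGrpCat.{u}).obj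
      (K.obj ⋙ AddCommGrpCat.free.{u}) :=
    asIso ((Groth.Agent.Helper1.SiteCoh.LF J).map (toSheafify J (yoneda.obj U)))
  obtain ⟨e3⟩ := ModCechExt.nonempty_addEquiv (ModSite.ringSh O) K F k
  have h2 : Subsingleton (CohCx.HK K (ModSite.toAb F) k) :=
    subsingleton_ext_of_iso e2 (ModSite.toAb F) k h
  have h3 : Subsingleton (Abelian.Ext.{u} ((ModCechRes.Φm (ModSite.ringSh O)).obj K) F k) :=
    e3.toEquiv.subsingleton
  exact subsingleton_ext_of_iso e1.symm F k h3

end Groth.Agent.Helper4.ModTest
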