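import Mathlib
import Groth.Prelude.Def_CohCx
import Groth.Prelude.Def_ModSite
import Groth.Agent.Helper4.ModTest2
import Groth.Agent.Helper4.LCgen
import Groth.Agent.Helper4.LClocal
import Groth.Agent.Helper4.MilnorInj
import Groth.Agent.S0484

/-! `E ≅ Rlim τ_{≥ -n} E` on a ringed site under local cohomological dimension bounds. -/

set_option autoImplicit false
set_option linter.unusedSectionVars false
universe u

open CategoryTheory Limits Opposite

namespace Groth.Agent.Helper4.ModRlim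

open Groth.Agent.Helper4.ModTest

variable {C : Type u} [SmallCategory C] {J : GrothendieckTopology C}

/-- every covering sieve contains a covering family by members of a covering class -/
theorem exists_cover_in (B : Set C)
    (hB : ∀ U : C, ∃ (ι : Type u) (Y : ι → C) (f : ∀ i, Y i ⟶ U),
      Sieve.ofArrows Y f ∈ J U ∧ ∀ i, Y i ∈ B)
    (V : C) (T : Sieve V) (hT : T ∈ J V) :
    ∃ (ι : Type u) (Yf : ι → C) (f : ∀ i, Yf i ⟶ V), (∀ i, T.arrows (f i)) ∧
      Sieve.ofArrows Yf f ∈ J V ∧ ∀ i, Yf i ∈ B := by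
  choose ιW YW fW hcovW hBW using hB
  let I₀ := {p : Σ W : C, (W ⟶ V) // T.arrows p.2}
  refine ⟨Σ x : I₀, ιW x.1.1, fun i => YW i.1.1.1 i.2, fun i => fW i.1.1.1 i.2 ≫ i.1.1.2,
    fun i => T.downward_closed i.1.2 _, ?_, fun i => hBW _ _⟩
  refine J.transitive hT _ ?_
  intro W g hg
  refine J.superset_covering ?_ (hcovW W)
  rintro Z k ⟨Z', k', _, ⟨i⟩, rfl⟩
  change (Sieve.ofArrows _ _).arrows ((k' ≫ fW W i) ≫ g)
  rw [Category.assoc]
  exact ⟨_, k', _, ⟨(⟨⟨⟨W, g⟩, hg⟩, i⟩ : Σ x : I₀, ιW x.1.1)⟩, rfl⟩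

variable (O : Sheaf J CommRingCat.{u}) [HasDerivedCategory.{u} (ModSite.Mod O)]

open Groth.Agent.Helper9.LC6 in
theorem isRlimVia_of_local (E : DerivedCategory (ModSite.Mod O)) [HasProduct (CohCx.truncTower E)]
    (B : Set C)
    (hB : ∀ U : C, ∃ (ι : Type u) (Y : ι → C) (f : ∀ i, Y i ⟶ U),
      Sieve.ofArrows Y f ∈ J U ∧ ∀ i, Y i ∈ B)
    (h : ∀ V ∈ B, ∃ p : ℤ → ℤ, ∀ T ∈ J V, ∃ (ι : Type u) (Y : ι → C) (f : ∀ i, Y i ⟶ V),
      (∀ i, T.arrows (f i)) ∧ Sieve.ofArrows Y f ∈ J V ∧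
      ∀ (i : ι) (m : ℤ) (k : ℕ), p m < k → Subsingleton
        (ModSite.HU O ((DerivedCategory.homologyFunctor (ModSite.Mod O) (m - k)).obj E) k (Y i))) :
    CohCx.IsRlimVia (CohCx.truncTower E) (CohCx.truncTowerMap E) E (CohCx.toTruncTower E) := by
  haveI : IsGrothendieckAbelian.{u} (ModSite.Mod O) :=
    Groth.Agent.S0484.result J (ModSite.ringSh O)
  refine Groth.Agent.Helper4.LCgen.isRlimVia_of_mono E (En E) (sE E) (τE E) (τE_sE E)
    (fun n p hp => Groth.Agent.Helper9.LC2.isIso_homologyMap_truncGEπ E _ p hp) ?_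
  intro q R a hR
  let n₀ : ℕ := (-q).toNat
  refine ⟨n₀, by omega, ?_⟩
  apply mono_of_test O B hB
  intro V hV t₀ ht₀
  obtain ⟨p, hp⟩ := h V hV
  let N : ℕ := (p q - q).toNat
  have hcomp : a (n₀ + N) ≫ CohCx.transition (En E) (sE E) n₀ N = a n₀ :=
    Groth.Agent.Helper4.MilnorInj.a_comp_transition hR n₀ N
  haveI : IsIso ((DerivedCategory.homologyFunctor _ q).map (CohCx.transition (En E) (sE E) n₀ N)) :=
    Groth.Agent.Helper4.LCgen.isIso_homology_transition E (En E) (sE E) (τE E) (τE_sE E)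
      (fun n p hp => Groth.Agent.Helper9.LC2.isIso_homologyMap_truncGEπ E _ p hp) n₀ q (by omega) N
  have ht₁ : t₀ ≫ (DerivedCategory.homologyFunctor _ q).map (a (n₀ + N)) = 0 := by
    rw [← hcomp, Functor.map_comp, ← Category.assoc] at ht₀
    rw [← cancel_mono ((DerivedCategory.homologyFunctor _ q).map
      (CohCx.transition (En E) (sE E) n₀ N)), ht₀, zero_comp]
  refine Groth.Agent.Helper4.TestLoc.hom_eq_zero_of_local (isTest (ModSite.ringSh O)) R _
    (a (n₀ + N)) V q ?_ t₀ ht₁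
  intro S hS
  obtain ⟨ι, Y, f, hfT, hcov, hY⟩ := hp S hS
  refine ⟨ι, Y, f, hfT, hcov, fun i y hy => ?_⟩
  have hv : ∀ (m : ℤ) (k : ℕ), p m < k → Subsingleton (CategoryTheory.Abelian.Ext.{u}
      (T (ModSite.ringSh O) (Y i)) ((DerivedCategory.homologyFunctor _ (m - k)).obj E) k) :=
    fun m k hk => subsingleton_ext O (Y i) _ k (hY i m k hk)
  exact Groth.Agent.Helper4.MilnorInj.eq_zero_of_stage hR _ q (n₀ + N)
    (Groth.Agent.Helper4.LClocal.limOneIsZero E (En E) (sE E) (τE E) (τE_sE E)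
      (fun n => inferInstance)
      (fun n p hp => Groth.Agent.Helper9.LC2.isIso_homologyMap_truncGEπ E _ p hp)
      (T (ModSite.ringSh O) (Y i)) p hv (q - 1))
    (Groth.Agent.Helper4.LClocal.injective_comp_transition E (En E) (sE E) (τE E) (τE_sE E)
      (fun n => inferInstance)
      (fun n p hp => Groth.Agent.Helper9.LC2.isIso_homologyMap_truncGEπ E _ p hp)
      (T (ModSite.ringSh O) (Y i)) p hv (n₀ + N) q (by push_cast; omega)) y hy

end Groth.Agent.Helper4.ModRlim
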