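import Mathlib
import Groth.Agent.Helper4.ModTest2

/-! The test objects of a covering class separate morphisms of sheaves of modules. -/

set_option autoImplicit false
set_option linter.unusedSectionVars false
universe u

open CategoryTheory Limits Opposite

namespace Groth.Agent.Helper4.ModTest

variable {C : Type u} [SmallCategory C] {J : GrothendieckTopology C} (O : Sheaf J CommRingCat.{u})

theorem hsep (B : Set C)
    (hB : ∀ U : C, ∃ (ι : Type u) (Y : ι → C) (f : ∀ i, Y i ⟶ U),
      Sieve.ofArrows Y f ∈ J U ∧ ∀ i, Y i ∈ B)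
    {F F' : ModSite.Mod O} (f : F ⟶ F')
    (hf : ∀ V ∈ B, ∀ s : T (ModSite.ringSh O) V ⟶ F, s ≫ f = 0) : f = 0 := by
  apply Groth.Agent.Helper9.FreeOnHom.isSeparating_freeOn B hB
  intro G hG σ
  obtain ⟨⟨V, hV⟩⟩ := hG
  rw [comp_zero]
  have h1 := hf V hV ((Groth.Agent.Helper9.FreeOnIso.freeOnIso O V).inv ≫ σ)
  rw [Category.assoc] at h1
  have h2 := congrArg (fun x => (Groth.Agent.Helper9.FreeOnIso.freeOnIso O V).hom ≫ x) h1
  simpa using h2

end Groth.Agent.Helper4.ModTest
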