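import Mathlib
import Groth.Prelude.Def_EtMod2
import Groth.Agent.Helper4.ModStrata
import Groth.Agent.Helper4.ModPullAR
import Groth.Agent.Helper4.SuppB
import Groth.Agent.Helper9.EtStalkPull
import Groth.Agent.Helper9.EtStalkExact
import Groth.Agent.Helper4.GenStalkMod

set_option autoImplicit false

/-!
# Geometric stalks of sheaves of modules on the small étale site
-/

universe u

open CategoryTheory CategoryTheory.Limits AlgebraicGeometry Opposite Topology

namespace Groth.Agent.Helper4.ModStalk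

open Groth.Agent.Helper4.ModEtA Groth.Agent.Helper4.OverEtC Groth.Agent.Helper9.EtStalkPull

variable (Λ : Type (u + 1)) [CommRing Λ]

theorem ab5_mod : AB5OfSize.{u, u} (ModuleCat.{u + 1} Λ) := AB5OfSize_shrink.{u, u, u + 1, u + 1} _

theorem hasLimits_mod : HasLimitsOfSize.{u, u} (ModuleCat.{u + 1} Λ) :=
  hasLimitsOfSizeShrink.{u, u, u + 1, u + 1} _

attribute [local instance] ab5_mod hasLimits_mod

variable {X Y : Scheme.{u}} {Ω : Type u} [Field Ω] [IsSepClosed Ω]

instance stalk_preservesFiniteLimits (ξ : Spec (CommRingCat.of Ω) ⟶ X) :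
    PreservesFiniteLimits (EtModW.stalk Λ ξ) := by
  unfold EtModW.stalk
  infer_instance

/-- `(f⁻¹ -)_ξ ≅ (-)_{ξ ≫ f}` for sheaves of modules -/
noncomputable def stalkPullIsoM (f : X ⟶ Y) (ξ : Spec (CommRingCat.of Ω) ⟶ X) :
    EtModW.pull Λ f ⋙ EtModW.stalk Λ ξ ≅ EtModW.stalk Λ (ξ ≫ f) :=
  haveI : ((EtCoh.bc f).sheafPushforwardContinuous (ModuleCat.{u + 1} Λ)
      Y.smallEtaleTopology X.smallEtaleTopology).IsRightAdjoint :=
    (Groth.Agent.Helper4.ModPullAR.adj Λ f).isRightAdjoint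
  (GrothendieckTopology.Point.sheafFiberComapIso (Scheme.pointSmallEtale ξ) (EtCoh.bc f)
    (EtCoh.coverPreserving_bc f) (ModuleCat.{u + 1} Λ)).symm ≪≫
    (sheafFiberIsoOfIso (pointIso f ξ)).symm

/-- the fibre of the constant presheaf -/
noncomputable def presheafFiberConstM (ξ : Spec (CommRingCat.of Ω) ⟶ Y) (N : ModuleCat.{u + 1} Λ) :
    (Scheme.pointSmallEtale ξ).presheafFiber.obj ((Functor.const Y.Etaleᵒᵖ).obj N) ≅ N :=
  IsColimit.coconePointUniqueUpToIso
    ((Scheme.pointSmallEtale ξ).isColimitPresheafFiberCocone ((Functor.const Y.Etaleᵒᵖ).obj N))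
    (isColimitConstCocone _ N)

/-- the stalk of the constant sheaf -/
noncomputable def stalkConstM (ξ : Spec (CommRingCat.of Ω) ⟶ Y) (N : ModuleCat.{u + 1} Λ) :
    (EtModW.stalk Λ ξ).obj (cM Λ Y N) ≅ N :=
  ((Scheme.pointSmallEtale ξ).presheafToSheafCompSheafFiberIso (ModuleCat.{u + 1} Λ)).app
    ((Functor.const Y.Etaleᵒᵖ).obj N) ≪≫ presheafFiberConstM Λ ξ N

theorem stalk_iso_of_constM {F : EtModW.Mod Λ X} (V : X.Etale) (N : ModuleCat.{u + 1} Λ)
    (a : (EtModW.pull Λ (homS V)).obj F ≅ cM Λ V.left N)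
    (ξ : Spec (CommRingCat.of Ω) ⟶ X) (v : V.left) (hv : (homS V) v = ξ default) :
    Nonempty ((EtModW.stalk Λ ξ).obj F ≅ N) := by
  obtain ⟨l, hl, -⟩ := Scheme.exists_fac_of_etale_of_isSepClosed (homS V) ξ v hv
  subst hl
  exact ⟨((stalkPullIsoM Λ (homS V) l).app F).symm ≪≫ (EtModW.stalk Λ l).mapIso a ≪≫
    stalkConstM Λ l N⟩

/-- the geometric stalks of a finite type locally constant sheaf are finite modules -/
theorem finite_stalk_of_ftlc (F : EtModW.Mod Λ X) (hF : EtModW.IsFTLocConst Λ F)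
    (ξ : Spec (CommRingCat.of Ω) ⟶ X) : Module.Finite Λ ((EtModW.stalk Λ ξ).obj F) := by
  rw [ftlc_iff] at hF
  obtain ⟨ι, V, hV, hM⟩ := hF
  obtain ⟨i, v, hv⟩ := hV (ξ default)
  obtain ⟨M, fM, ⟨a⟩⟩ := hM i
  obtain ⟨e⟩ := stalk_iso_of_constM Λ (V i) M a ξ v hv
  exact Module.Finite.equiv e.symm.toLinearEquiv

/-- the geometric stalks of a constructible sheaf of modules are finite modules -/
theorem finite_stalk_of_constructible (F : EtModW.Mod Λ X) (hF : EtModW.IsConstructible Λ F)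
    (ξ : Spec (CommRingCat.of Ω) ⟶ X) : Module.Finite Λ ((EtModW.stalk Λ ξ).obj F) := by
  obtain ⟨U, hU, hxU, -⟩ := (TopologicalSpace.Opens.isBasis_iff_nbhd.1 X.isBasis_affineOpens)
    (show ξ default ∈ (⊤ : X.Opens) from trivial)
  obtain ⟨n, T, g, h1, h2, h3, h4, h5⟩ := hF U hU
  have hx : ξ default ∈ ⋃ i, Set.range (g i) := by rw [h4]; exact hxU
  obtain ⟨i, t, ht⟩ := Set.mem_iUnion.1 hx
  haveI := h1 i
  obtain ⟨l, rfl⟩ := Groth.Agent.Helper4.SuppB.exists_lift_of_isImmersion (g i) ξ t ht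
  have hfin : Module.Finite Λ ((EtModW.pull Λ (g i) ⋙ EtModW.stalk Λ l).obj F) :=
    finite_stalk_of_ftlc Λ _ (h5 i) l
  exact Module.Finite.equiv ((stalkPullIsoM Λ (g i) l).app F).toLinearEquiv

instance stalk_additive (ξ : Spec (CommRingCat.of Ω) ⟶ X) : (EtModW.stalk Λ ξ).Additive := by
  haveI : (EtModW.stalk Λ ξ).PreservesZeroMorphisms :=
    Functor.preservesZeroMorphisms_of_preserves_terminal_object
  exact Functor.additive_of_preserves_binary_products _

theorem presheafFiber_map_smul (ξ : Spec (CommRingCat.of Ω) ⟶ X)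
    {P Q : X.Etaleᵒᵖ ⥤ ModuleCat.{u + 1} Λ} (φ : P ⟶ Q) (a : Λ) :
    (Scheme.pointSmallEtale ξ).presheafFiber.map (a • φ) =
      a • (Scheme.pointSmallEtale ξ).presheafFiber.map φ := by
  apply (Scheme.pointSmallEtale ξ).presheafFiber_hom_ext
  intro U x
  rw [Linear.comp_smul, (Scheme.pointSmallEtale ξ).toPresheafFiber_naturality,
    (Scheme.pointSmallEtale ξ).toPresheafFiber_naturality]
  exact Linear.smul_comp _ _ _ _ _ _

instance stalk_linear (ξ : Spec (CommRingCat.of Ω) ⟶ X) : (EtModW.stalk Λ ξ).Linear Λ where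
  map_smul {F G} φ a := presheafFiber_map_smul Λ ξ φ.hom a

attribute [local instance] Groth.Agent.Helper4.GenStalkMod.preservesFilteredColimits_forget_mod

/-- a sheaf of modules all of whose geometric stalks vanish is zero -/
theorem isZero_of_stalksM (F : EtModW.Mod Λ X)
    (h : ∀ (Ω : Type u) [Field Ω] [IsSepClosed Ω] (ξ : Spec (CommRingCat.of Ω) ⟶ X),
      IsZero ((EtModW.stalk Λ ξ).obj F)) : IsZero F := by
  have : Mono (0 : F ⟶ F) := by
    have : Presheaf.IsLocallyInjective X.smallEtaleTopology (0 : F ⟶ F).hom :=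
      Groth.Agent.Helper9.EtStalkExact.isLocallyInjective_of_stalk _ (fun Ω _ _ ξ => by
        have : Subsingleton ↑((Scheme.pointSmallEtale ξ).presheafFiber.obj F.obj) :=
          ModuleCat.subsingleton_of_isZero (h Ω ξ)
        exact Function.injective_of_subsingleton _)
    exact Sheaf.mono_of_isLocallyInjective _
  exact IsZero.of_mono_zero F F

end Groth.Agent.Helper4.ModStalk
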