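import Mathlib
import Groth.Prelude.Def_EtBase

set_option autoImplicit false

/-!
# Primitive roots of unity in strictly henselian local rings
-/

universe u

open Polynomial IsLocalRing

namespace Groth.Agent.Helper4.MuConstD

/-- a strictly henselian local ring in which `n` is invertible contains a root of the `n`-th
cyclotomic polynomial -/
theorem exists_cyclotomic_root (A : Type u) [CommRing A]
    (hA : EtCoh.IsStrictlyHenselianLocalRing A) (n : ℕ) (hn : 1 ≤ n) (hu : IsUnit (n : A)) :
    ∃ ζ : A, aeval ζ (cyclotomic n ℤ) = 0 := by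
  obtain ⟨hH, hS⟩ := hA
  haveI : NeZero (n : ResidueField A) := by
    refine ⟨?_⟩
    have := hu.map (residue A)
    rw [map_natCast] at this
    exact this.ne_zero
  have hsep := separable_cyclotomic n (ResidueField A)
  have hdeg : (cyclotomic n (ResidueField A)).degree ≠ 0 := by
    rw [degree_cyclotomic]
    have : 0 < Nat.totient n := Nat.totient_pos.2 (by omega)
    exact_mod_cast this.ne'
  obtain ⟨α, hα⟩ := IsSepClosed.exists_root _ hdeg hsep
  obtain ⟨a₀, rfl⟩ := residue_surjective α
  have hev : ∀ p : A[X], residue A (p.eval a₀) = (p.map (residue A)).eval (residue A a₀) := by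
    intro p
    rw [eval_map, eval₂_at_apply]
  have h1 : (cyclotomic n A).eval a₀ ∈ maximalIdeal A := by
    rw [← residue_eq_zero_iff, hev, map_cyclotomic]
    exact hα
  have h2 : IsUnit ((cyclotomic n A).derivative.eval a₀) := by
    rw [← not_not (a := IsUnit _), ← mem_nonunits_iff, ← mem_maximalIdeal, ← residue_eq_zero_iff, hev,
      ← derivative_map, map_cyclotomic]
    have := hsep.eval₂_derivative_ne_zero (RingHom.id _) (x := residue A a₀)
      (by rw [eval₂_id]; exact hα)
    rwa [eval₂_id] at this
  obtain ⟨a, ha, -⟩ := hH.is_henselian (cyclotomic n A) (cyclotomic.monic n A) a₀ h1 h2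
  refine ⟨a, ?_⟩
  rw [aeval_def, algebraMap_int_eq, ← eval_map, map_cyclotomic_int]
  exact ha

end Groth.Agent.Helper4.MuConstD
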