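import Groth.Prelude.Def_W4c6modpairsegaMP
import Groth.Agent.Helper4.NApx16
import Mathlib

set_option autoImplicit false
universe u

namespace Groth.Agent.Helper4.NApx17

open AlgebraicGeometry CategoryTheory Limits
open Groth.Agent.Helper4.NApx13 Groth.Agent.Helper4.NApx14 Groth.Agent.Helper4.NApx15
  Groth.Agent.Helper4.NApx16

theorem clopen_piece {X : Scheme.{u}} (I : X.IdealSheafData) (hI : BlowUp.IsEffCartierIdeal I)
    (U₀ U₁ : X.Opens) (hU : U₀ ⊔ U₁ = ModPair.interior I) (hd : Disjoint U₀ U₁) :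
    QuasiCompact U₀.ι ∧ IsOpenImmersion U₀.ι.toImage ∧
      Set.range U₀.ι.toImage = U₀.ι.imageι ⁻¹' (ModPair.interior I : Set X) ∧
      BlowUp.IsEffCartierIdeal (I.comap U₀.ι.imageι) := by
  have h0 : U₀ ≤ ModPair.interior I := hU ▸ le_sup_left
  let g : (U₀ : Scheme.{u}) ⟶ (ModPair.interior I : Scheme.{u}) := X.homOfLE h0
  have hg : g ≫ (ModPair.interior I).ι = U₀.ι := X.homOfLE_ι h0
  have hrange : Set.range g = {u | u.1 ∈ U₀} := by
    ext u
    constructor
    · rintro ⟨v, rfl⟩
      show (ModPair.interior I).ι (g v) ∈ U₀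
      rw [← Scheme.Hom.comp_apply, hg]
      exact v.2
    · intro hu
      refine ⟨⟨u.1, hu⟩, ?_⟩
      apply (ModPair.interior I).ι.isOpenEmbedding.injective
      have h1 : (g ≫ (ModPair.interior I).ι) ⟨u.1, hu⟩ = (ModPair.interior I).ι u := by
        rw [hg]; rfl
      exact h1
  have hclosed : IsClosed (Set.range g) := by
    rw [← isOpen_compl_iff]
    have : (Set.range g)ᶜ = (((ModPair.interior I).ι ⁻¹ᵁ U₁ : (ModPair.interior I).toScheme.Opens) :
        Set (ModPair.interior I).toScheme) := by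
      ext u
      rw [hrange]
      constructor
      · intro hu
        have hu' : u.1 ∉ U₀ := hu
        have h1 : u.1 ∈ U₀ ⊔ U₁ := by rw [hU]; exact u.2
        rcases h1 with h1 | h1
        · exact absurd h1 hu'
        · exact h1
      · intro hu hu0
        have hu1 : u.1 ∈ U₁ := hu
        have hu0' : u.1 ∈ U₀ := hu0
        exact (Set.disjoint_left.mp
          ((TopologicalSpace.Opens.coe_disjoint).mpr hd) hu0' hu1)
    rw [this]
    exact ((ModPair.interior I).ι ⁻¹ᵁ U₁).isOpen
  haveI : IsClosedImmersion g := IsClosedImmersion.of_isPreimmersion g hclosed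
  have key := closure_of_closedImmersion I hI g
  rw [hg] at key
  exact key

end Groth.Agent.Helper4.NApx17
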