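import Groth.Prelude.Def_W4c6modpairsegaMP
import Groth.Agent.Helper4.NApx21
import Groth.Agent.Lead.ModDict5
import Mathlib

set_option autoImplicit false
universe u

namespace Groth.Agent.Helper4.NApx22

open AlgebraicGeometry CategoryTheory Limits
open Groth.Agent.Helper4.NApx19 Groth.Agent.Helper4.NApx21

/-- a generator of an effective Cartier ideal on an affine open is a nonzerodivisor -/
theorem mem_nonZeroDivisors_of_ideal_eq_span {X : Scheme.{u}} (I : X.IdealSheafData)
    (hI : BlowUp.IsEffCartierIdeal I) (V : X.affineOpens) (a : Γ(X, V.1))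
    (h : I.ideal V = Ideal.span {a}) : a ∈ nonZeroDivisors Γ(X, V.1) := by
  rw [mem_nonZeroDivisors_iff_right]
  intro z hz
  refine X.IsSheaf.section_ext fun y hy => ?_
  obtain ⟨C, hyC, hCV, t, ht, hIt⟩ := exists_affine_le I hI y V.1 hy
  refine ⟨C.1, hCV, hyC, ?_⟩
  have h2 := ideal_res I V C hCV a h
  set ρ := (X.presheaf.map (homOfLE hCV).op).hom with hρ
  have ht' : t ∈ Ideal.span {ρ a} := by rw [← h2, hIt]; exact Ideal.mem_span_singleton_self _
  obtain ⟨v, hv⟩ := Ideal.mem_span_singleton'.mp ht'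
  have h3 : ρ z * t = 0 := by
    rw [← hv, mul_left_comm, ← map_mul, hz, map_zero, mul_zero]
  have h4 : ρ z = 0 := (mem_nonZeroDivisors_iff_right.mp ht) _ h3
  rw [map_zero]
  exact h4

section limit
variable {I : Type u} [SmallCategory I] [IsCofiltered I] (D : I ⥤ Scheme.{u}) (c : Cone D)
  (hc : IsLimit c) [∀ {i j : I} (f : i ⟶ j), IsAffineHom (D.map f)] (i₀ : I)
  {U : (D.obj i₀).Opens} (hU : IsAffineOpen U)

open Groth.Agent.Lead.ModDict

include hc hU in
/-- a section which is a nonzerodivisor at all stages is a nonzerodivisor in the limit -/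
theorem app_mem_nonZeroDivisors_of_stages (a : Γ(D.obj i₀, U))
    (ha : ∀ j : Over i₀, ((D.map j.hom).app U).hom a ∈
      nonZeroDivisors Γ(D.obj j.left, D.map j.hom ⁻¹ᵁ U)) :
    ((c.π.app i₀).app U).hom a ∈ nonZeroDivisors Γ(c.pt, c.π.app i₀ ⁻¹ᵁ U) := by
  refine (mem_nonZeroDivisors_iff_right (M₀ := Γ(c.pt, c.π.app i₀ ⁻¹ᵁ U))).mpr ?_
  intro z hz
  obtain ⟨j, t, rfl⟩ := exists_lift D c hc i₀ hU z
  set pj := ((c.π.app j.left).appLE _ _ (le_lim D c i₀ U j)).hom with hpj
  have e1 : pj (((D.map j.hom).app U).hom a) = ((c.π.app i₀).app U).hom a := by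
    have := app_appLE_of_eq (c.w j.hom) U (le_lim D c i₀ U j)
    rw [hpj, ← CommRingCat.comp_apply, this]
  have hb : (c.π.app j.left).appLE _ _ (le_lim D c i₀ U j) (t * ((D.map j.hom).app U).hom a) = 0 := by
    show pj (t * ((D.map j.hom).app U).hom a) = 0
    rw [map_mul, e1]
    exact hz
  obtain ⟨j', g, hg⟩ := exists_kill D c hc i₀ hU j _ hb
  set q := ((D.map g.left).appLE _ _ (le_tr D i₀ U g)).hom with hq
  have hg' : q t * q (((D.map j.hom).app U).hom a) = 0 := by
    rw [← map_mul]; exact hg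
  have e2 : q (((D.map j.hom).app U).hom a) = ((D.map j'.hom).app U).hom a := by
    have w : D.map g.left ≫ D.map j.hom = D.map j'.hom := by rw [← D.map_comp, Over.w g]
    have := app_appLE_of_eq w U (le_tr D i₀ U g)
    rw [hq, ← CommRingCat.comp_apply, this]
  rw [e2] at hg'
  have h0 : q t = 0 := (mem_nonZeroDivisors_iff_right.mp (ha j')) _ hg'
  have e3 : pj t = ((c.π.app j'.left).appLE _ _ (le_lim D c i₀ U j')).hom (q t) := by
    have := appLE_appLE_of_eq (c.w g.left) (D.map j.hom ⁻¹ᵁ U) (D.map j'.hom ⁻¹ᵁ U)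
      (c.π.app i₀ ⁻¹ᵁ U) (le_tr D i₀ U g) (le_lim D c i₀ U j') (le_lim D c i₀ U j)
    rw [hpj, hq, ← CommRingCat.comp_apply, this]
  show pj t = 0
  rw [e3, h0, map_zero]

end limit

end Groth.Agent.Helper4.NApx22
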