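import Groth.Agent.Helper4.NApx7
import Groth.Agent.Helper4.NApx1
import Mathlib

set_option autoImplicit false
universe u

namespace Groth.Agent.Helper4.NApx25

open AlgebraicGeometry CategoryTheory Limits

/-- projections of a cofiltered limit with affine schematically dominant transitions are
schematically dominant -/
theorem isSchemeTheoreticallyDominant_π_app {I : Type u} [SmallCategory I] [IsCofiltered I]
    (D : I ⥤ Scheme.{u}) (c : Cone D) (hc : IsLimit c)
    [∀ {i j : I} (f : i ⟶ j), IsAffineHom (D.map f)]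
    [∀ {i j : I} (f : i ⟶ j), IsSchemeTheoreticallyDominant (D.map f)] (i : I) :
    IsSchemeTheoreticallyDominant (c.π.app i) := by
  haveI := isAffineHom_π_app D c hc i
  rw [isSchemeTheoreticallyDominant_iff, eq_bot_iff]
  intro U
  rw [Scheme.Hom.ker_apply]
  intro s hs
  have hs' : (c.π.app i).app U.1 s = 0 := hs
  obtain ⟨j, f, hf⟩ := exists_app_map_eq_zero_of_isLimit D c hc U.2.isCompact s hs'
  have hinj := (D.map f).app_injective U.1
  have : s = 0 := hinj (by rw [hf, map_zero])
  rw [this]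
  exact Submodule.zero_mem _

set_option backward.isDefEq.respectTransparency false in
/-- Hom into a finite type scheme commutes with cofiltered limits with affine schematically
dominant transitions: surjectivity -/
theorem exists_factor {S : Scheme.{u}} {I : Type u} [SmallCategory I] [IsCofiltered I]
    (D : I ⥤ Scheme.{u}) (t : D ⟶ (Functor.const I).obj S) (c : Cone D) (hc : IsLimit c)
    [∀ {i j : I} (f : i ⟶ j), IsAffineHom (D.map f)]
    [∀ {i j : I} (f : i ⟶ j), IsSchemeTheoreticallyDominant (D.map f)]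
    [∀ i, CompactSpace (D.obj i)] [∀ i, QuasiSeparatedSpace (D.obj i)]
    {Y : Scheme.{u}} (p : Y ⟶ S) [CompactSpace Y] [QuasiSeparatedSpace Y] [LocallyOfFiniteType p]
    (φ : c.pt ⟶ Y) (hφ : ∀ i, c.π.app i ≫ t.app i = φ ≫ p) :
    ∃ (k : I) (ψ : D.obj k ⟶ Y), c.π.app k ≫ ψ = φ ∧ ψ ≫ p = t.app k := by
  obtain ⟨Y', f', j, hfp, hqc, hqs, hj, hjf⟩ := NApx7.immersion_fp p
  haveI := hfp
  haveI := hj
  have ha : c.π ≫ t = (Functor.const _).map ((φ ≫ j) ≫ f') := by
    ext i
    simp only [NatTrans.comp_app, Functor.const_map_app, Category.assoc, hjf]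
    exact hφ i
  obtain ⟨i, g, hg1, hg2⟩ :=
    Scheme.exists_π_app_comp_eq_of_locallyOfFinitePresentation D t f' c hc (φ ≫ j) ha
  set W := j.coborderRange with hW
  set jc := j.liftCoborder with hjc
  have hjc' : jc ≫ W.ι = j := j.liftCoborder_ι
  have htop : c.π.app i ⁻¹ᵁ (g ⁻¹ᵁ W) = ⊤ := by
    rw [eq_top_iff]
    intro x _
    show g (c.π.app i x) ∈ W
    have : g (c.π.app i x) = W.ι (jc (φ x)) := by
      rw [← Scheme.Hom.comp_apply, hg1, ← Scheme.Hom.comp_apply, ← Scheme.Hom.comp_apply, hjc']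
      rfl
    rw [this]
    exact (jc (φ x)).2
  obtain ⟨k, tki, hk⟩ := exists_map_eq_top D c hc (g ⁻¹ᵁ W) htop
  have hrange : Set.range (D.map tki ≫ g).base ⊆ Set.range W.ι.base := by
    rintro _ ⟨z, rfl⟩
    rw [Scheme.Opens.range_ι]
    have : z ∈ D.map tki ⁻¹ᵁ (g ⁻¹ᵁ W) := by rw [hk]; trivial
    exact this
  set gW := IsOpenImmersion.lift W.ι (D.map tki ≫ g) hrange with hgW
  have hgW' : gW ≫ W.ι = D.map tki ≫ g := IsOpenImmersion.lift_fac _ _ _
  have hcomp : c.π.app k ≫ gW = φ ≫ jc := by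
    rw [← cancel_mono W.ι, Category.assoc, hgW', Category.assoc, hjc', ← Category.assoc, c.w, hg1]
  haveI hdom : IsSchemeTheoreticallyDominant (c.π.app k) :=
    isSchemeTheoreticallyDominant_π_app D c hc k
  have hker : jc.ker ≤ gW.ker := by
    have h1 : (c.π.app k ≫ gW).ker = gW.ker := by
      rw [Scheme.Hom.ker_comp (c.π.app k), hdom.ker_eq_bot, Scheme.IdealSheafData.map_bot]
    rw [← h1, hcomp]
    exact Scheme.Hom.le_ker_comp _ _
  set ψ := IsClosedImmersion.lift jc gW hker with hψ
  have hψ' : ψ ≫ jc = gW := IsClosedImmersion.lift_fac _ _ _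
  refine ⟨k, ψ, ?_, ?_⟩
  · rw [← cancel_mono jc, Category.assoc, hψ', hcomp]
  · have h1 : ψ ≫ j = D.map tki ≫ g := by
      rw [← hjc', ← Category.assoc, hψ', hgW']
    rw [← hjf, ← Category.assoc, h1, Category.assoc, hg2]
    have := t.naturality tki
    simp only [Functor.const_obj_obj, Functor.const_obj_map, Category.comp_id] at this
    exact this

end Groth.Agent.Helper4.NApx25
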