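import Groth.Prelude.Def_W4c6modpairsegaMP
import Groth.Agent.Helper4.NApx22
import Mathlib

set_option autoImplicit false
universe u

namespace Groth.Agent.Helper4.NApx26

open AlgebraicGeometry CategoryTheory Limits
open Groth.Agent.Helper4.NApx19 Groth.Agent.Helper4.NApx21
open Groth.Agent.Lead.ModDict

/-- principal local data for an effective Cartier ideal and a pulled back effective Cartier
ideal -/
theorem exists_local_data' {Y Z : Scheme.{u}} (J : Y.IdealSheafData) (K : Z.IdealSheafData)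
    (hJ : BlowUp.IsEffCartierIdeal J) (hK : BlowUp.IsEffCartierIdeal K) (g : Y ⟶ Z) (y : Y) :
    ∃ C : Y.affineOpens, y ∈ C.1 ∧ ∃ b c : Γ(Y, C.1),
      J.ideal C = Ideal.span {b} ∧ (K.comap g).ideal C = Ideal.span {c} := by
  obtain ⟨A, hzA, c₀, -, hKc⟩ := hK (g y)
  obtain ⟨C, hzC, hCA, b, hb, hJb⟩ := exists_affine_le J hJ y (g ⁻¹ᵁ A.1) hzA
  have hKC : (K.comap g).ideal C = Ideal.span {(g.appLE A.1 C.1 hCA).hom c₀} := by
    rw [Groth.Agent.Helper9.IdealComap.ideal_comap g K A C hCA, hKc, Ideal.map_span,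
      Set.image_singleton]
  exact ⟨C, hzC, b, (g.appLE A.1 C.1 hCA).hom c₀, hJb, hKC⟩

section limit
variable {I : Type u} [SmallCategory I] [IsCofiltered I] (D : I ⥤ Scheme.{u}) (c : Cone D)
  (hc : IsLimit c) [∀ {i j : I} (f : i ⟶ j), IsAffineHom (D.map f)] (i₀ : I)

/-- the stage-wise membership property -/
def Q {U : (D.obj i₀).Opens} (a b : Γ(D.obj i₀, U)) (j : Over i₀) : Prop :=
  ((D.map j.hom).app U).hom a ∈ Ideal.span {((D.map j.hom).app U).hom b}

theorem Q_mono {U : (D.obj i₀).Opens} (a b : Γ(D.obj i₀, U)) {j j' : Over i₀} (g : j' ⟶ j)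
    (h : Q D i₀ a b j) : Q D i₀ a b j' := by
  unfold Q at h ⊢
  set q := ((D.map g.left).appLE _ _ (le_tr D i₀ U g)).hom with hq
  have w : D.map g.left ≫ D.map j.hom = D.map j'.hom := by rw [← D.map_comp, Over.w g]
  have e : ∀ s : Γ(D.obj i₀, U), q (((D.map j.hom).app U).hom s) = ((D.map j'.hom).app U).hom s := by
    intro s
    have := app_appLE_of_eq w U (le_tr D i₀ U g)
    rw [hq, ← CommRingCat.comp_apply, this]
  have h1 := Ideal.mem_map_of_mem q h
  rw [Ideal.map_span, Set.image_singleton, e, e] at h1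
  exact h1

include hc in
theorem exists_Q {U : (D.obj i₀).Opens} (hU : IsAffineOpen U) (a b : Γ(D.obj i₀, U))
    (h : ((c.π.app i₀).app U).hom a ∈ Ideal.span {((c.π.app i₀).app U).hom b}) :
    ∃ j : Over i₀, Q D i₀ a b j := by
  obtain ⟨r, hr⟩ := Ideal.mem_span_singleton'.mp h
  obtain ⟨j, rj, hrj⟩ := exists_lift D c hc i₀ hU r
  set pj := ((c.π.app j.left).appLE _ _ (le_lim D c i₀ U j)).hom with hpj
  have e1 : ∀ s : Γ(D.obj i₀, U), pj (((D.map j.hom).app U).hom s) = ((c.π.app i₀).app U).hom s := by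
    intro s
    have := app_appLE_of_eq (c.w j.hom) U (le_lim D c i₀ U j)
    rw [hpj, ← CommRingCat.comp_apply, this]
  set z := ((D.map j.hom).app U).hom a - rj * ((D.map j.hom).app U).hom b with hz
  have hb : (c.π.app j.left).appLE _ _ (le_lim D c i₀ U j) z = 0 := by
    show pj z = 0
    rw [hz, map_sub, map_mul, e1, e1]
    have : pj rj = r := hrj
    rw [this, hr, sub_self]
  obtain ⟨j', g, hg⟩ := exists_kill D c hc i₀ hU j z hb
  refine ⟨j', ?_⟩
  unfold Q
  set q := ((D.map g.left).appLE _ _ (le_tr D i₀ U g)).hom with hq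
  have w : D.map g.left ≫ D.map j.hom = D.map j'.hom := by rw [← D.map_comp, Over.w g]
  have e : ∀ s : Γ(D.obj i₀, U), q (((D.map j.hom).app U).hom s) = ((D.map j'.hom).app U).hom s := by
    intro s
    have := app_appLE_of_eq w U (le_tr D i₀ U g)
    rw [hq, ← CommRingCat.comp_apply, this]
  have hg' : q z = 0 := hg
  rw [hz, map_sub, map_mul, e, e, sub_eq_zero] at hg'
  rw [hg']
  exact Ideal.mem_span_singleton'.mpr ⟨q rj, rfl⟩

include hc in
/-- an inequality of locally principal ideal sheaves holding at the limit holds at a stage -/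
theorem le_descends [CompactSpace (D.obj i₀)] (A L : (D.obj i₀).IdealSheafData)
    (hloc : ∀ x : D.obj i₀, ∃ C : (D.obj i₀).affineOpens, x ∈ C.1 ∧ ∃ a b : Γ(D.obj i₀, C.1),
      A.ideal C = Ideal.span {a} ∧ L.ideal C = Ideal.span {b})
    (h : A.comap (c.π.app i₀) ≤ L.comap (c.π.app i₀)) :
    ∃ (j : I) (t : j ⟶ i₀), A.comap (D.map t) ≤ L.comap (D.map t) := by
  classical
  haveI := isAffineHom_π_app D c hc i₀
  choose W hxW a b hA hL using hloc
  have hstage : ∀ x : D.obj i₀, ∃ j : Over i₀, Q D i₀ (a x) (b x) j := by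
    intro x
    apply exists_Q D c hc i₀ (W x).2 (a x) (b x)
    have hV : IsAffineOpen (c.π.app i₀ ⁻¹ᵁ (W x).1) := (W x).2.preimage (c.π.app i₀)
    have h1 := h ⟨_, hV⟩
    rw [Groth.Agent.Helper9.IdealComap.ideal_comap (c.π.app i₀) A (W x) ⟨_, hV⟩ le_rfl,
      Groth.Agent.Helper9.IdealComap.ideal_comap (c.π.app i₀) L (W x) ⟨_, hV⟩ le_rfl, hA x, hL x,
      Ideal.map_span, Set.image_singleton, Ideal.map_span, Set.image_singleton,
      ← Scheme.Hom.app_eq_appLE] at h1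
    exact h1 (Ideal.mem_span_singleton_self _)
  choose jx hjx using hstage
  obtain ⟨T, -, hT⟩ := isCompact_univ.elim_nhds_subcover (fun x => ((W x).1 : Set (D.obj i₀)))
    (fun x _ => (W x).1.isOpen.mem_nhds (hxW x))
  obtain ⟨js, hjs⟩ := IsCofiltered.inf_objs_exists (T.image jx)
  refine ⟨js.left, js.hom, ?_⟩
  have haff : ∀ x : D.obj i₀, IsAffineOpen (D.map js.hom ⁻¹ᵁ (W x).1) := fun x =>
    (W x).2.preimage (D.map js.hom)
  refine Scheme.IdealSheafData.le_of_iSup_eq_top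
    (fun x : T => ⟨D.map js.hom ⁻¹ᵁ (W x.1).1, haff x.1⟩) ?_ ?_
  · rw [eq_top_iff]
    intro y _
    have hy : D.map js.hom y ∈ ⋃ x ∈ T, ((W x).1 : Set (D.obj i₀)) := hT (Set.mem_univ _)
    simp only [Set.mem_iUnion] at hy
    obtain ⟨x, hxT, hyx⟩ := hy
    exact TopologicalSpace.Opens.mem_iSup.mpr ⟨⟨x, hxT⟩, hyx⟩
  · rintro ⟨x, hxT⟩
    obtain ⟨g⟩ := hjs (Finset.mem_image_of_mem jx hxT)
    have hq : Q D i₀ (a x) (b x) js := Q_mono D i₀ (a x) (b x) g (hjx x)
    unfold Q at hq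
    show (A.comap (D.map js.hom)).ideal ⟨D.map js.hom ⁻¹ᵁ (W x).1, haff x⟩ ≤
      (L.comap (D.map js.hom)).ideal ⟨D.map js.hom ⁻¹ᵁ (W x).1, haff x⟩
    rw [Groth.Agent.Helper9.IdealComap.ideal_comap (D.map js.hom) A (W x) ⟨_, haff x⟩ le_rfl,
      Groth.Agent.Helper9.IdealComap.ideal_comap (D.map js.hom) L (W x) ⟨_, haff x⟩ le_rfl,
      hA x, hL x, Ideal.map_span, Set.image_singleton, Ideal.map_span, Set.image_singleton,
      ← Scheme.Hom.app_eq_appLE, Ideal.span_singleton_le_iff_mem]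
    exact hq

end limit

end Groth.Agent.Helper4.NApx26
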