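import Groth.Prelude.Def_W4c6modpairsegaMP
import Groth.Agent.Helper4.NApx27
import Mathlib

set_option autoImplicit false
universe u

namespace Groth.Agent.Helper4.NApx28

open AlgebraicGeometry CategoryTheory Limits
open Groth.Agent.Helper4.NApx13 Groth.Agent.Helper4.NApx19 Groth.Agent.Helper4.NApx21

set_option backward.isDefEq.respectTransparency false in
/-- the complement of an effective Cartier divisor is affine over the ambient scheme -/
theorem isAffineHom_interior_ι {S : Scheme.{u}} (I : S.IdealSheafData)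
    (hI : BlowUp.IsEffCartierIdeal I) : IsAffineHom (ModPair.interior I).ι := by
  choose W hxW a ha hIa using hI
  have hsup : (⨆ x : S, (W x).1) = ⊤ := by
    rw [eq_top_iff]
    intro x _
    exact TopologicalSpace.Opens.mem_iSup.mpr ⟨x, hxW x⟩
  rw [HasAffineProperty.iff_of_iSup_eq_top (P := @IsAffineHom) (U := W) hsup]
  intro x
  have h1 : (ModPair.interior I).ι ''ᵁ ((ModPair.interior I).ι ⁻¹ᵁ (W x).1) = S.basicOpen (a x) := by
    rw [Scheme.Hom.image_preimage_eq_opensRange_inf, Scheme.Opens.opensRange_ι]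
    ext y
    have := interior_inter I (W x) (a x) (hIa x)
    exact Set.ext_iff.mp this y
  have h2 : IsAffineOpen ((ModPair.interior I).ι ⁻¹ᵁ (W x).1) := by
    rw [← (ModPair.interior I).ι.isAffineOpen_iff_of_isOpenImmersion, h1]
    exact (W x).2.basicOpen (a x)
  exact h2

theorem isAffineHom_preimage_interior_ι {X X' : Scheme.{u}} (I : X.IdealSheafData)
    (hI : BlowUp.IsEffCartierIdeal I) (f : X' ⟶ X) :
    IsAffineHom (f ⁻¹ᵁ ModPair.interior I).ι := by
  haveI := isAffineHom_interior_ι I hI
  exact MorphismProperty.of_isPullback (P := @IsAffineHom)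
    (isPullback_morphismRestrict f (ModPair.interior I)) inferInstance

/-- an ideal sheaf pulls back to zero on its closed subscheme -/
theorem comap_subschemeι_eq_bot {X : Scheme.{u}} (J : X.IdealSheafData) :
    J.comap J.subschemeι = ⊥ := by
  rw [eq_bot_iff]
  have h1 := Scheme.IdealSheafData.comap_map_le (⊥ : J.subscheme.IdealSheafData) J.subschemeι
  rw [Scheme.IdealSheafData.map_bot, Scheme.IdealSheafData.ker_subschemeι] at h1
  exact h1

/-- the canonical map from a blow-up of a closed subscheme to the blow-up is a closed immersion -/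
theorem isClosedImmersion_of_isBlowUp {X Y X' Y' : Scheme.{u}}
    (𝓘 : X.IdealSheafData) (f : Y ⟶ X) [IsClosedImmersion f]
    (b : X' ⟶ X) (hb : BlowUp.IsBlowUp b 𝓘) (b' : Y' ⟶ Y) (hb' : BlowUp.IsBlowUp b' (𝓘.comap f))
    (f' : Y' ⟶ X') (hf' : f' ≫ b = b' ≫ f) : IsClosedImmersion f' := by
  have hZ := Groth.Agent.Helper4.NApx27.isBlowUp_strictTransform 𝓘 b hb f
  set m := (pullback.fst b f ⁻¹ᵁ ModPair.interior (𝓘.comap b)).ι.imageι with hm
  obtain ⟨e, he⟩ := Groth.Agent.Helper4.NApx27.isBlowUp_unique (𝓘.comap f) b'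
    (m ≫ pullback.snd b f) hb' hZ
  have hEff : BlowUp.IsEffCartierIdeal (𝓘.comap (b' ≫ f)) := by
    rw [Scheme.IdealSheafData.comap_comp]; exact hb'.1
  have h1 : (e.hom ≫ m ≫ pullback.fst b f) ≫ b = b' ≫ f := by
    rw [Category.assoc, Category.assoc, pullback.condition, ← Category.assoc m,
      ← Category.assoc e.hom, he]
  have h2 : f' = e.hom ≫ m ≫ pullback.fst b f := (hb.2 Y' (b' ≫ f) hEff).unique hf' h1
  rw [h2]
  infer_instance

end Groth.Agent.Helper4.NApx28
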