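import Groth.Prelude.Def_W4c6modpairsegaMP
import Groth.Agent.Helper4.NApx28
import Groth.Agent.Helper4.NApx24
import Groth.Agent.Helper4.NApx16
import Mathlib

set_option autoImplicit false
universe u

namespace Groth.Agent.Helper4.NApx29

open AlgebraicGeometry CategoryTheory Limits
open Groth.Agent.Helper4.NApx19 Groth.Agent.Helper4.NApx21

/-- flipped version of `NApx18.isIso_snd_restrict` -/
theorem isIso_fst_restrict {X S T : Scheme.{u}} (s : X ⟶ S) (g : T ⟶ S) (S₀ : S.Opens)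
    (X₀ : X.Opens) (h : X₀ ≤ s ⁻¹ᵁ S₀) [IsIso (g ∣_ S₀)] :
    IsIso (pullback.fst s g ∣_ X₀) := by
  have e : pullback.fst s g = (pullbackSymmetry s g).hom ≫ pullback.snd g s :=
    (pullbackSymmetry_hom_comp_snd s g).symm
  have hB : IsIso (pullback.snd g s ∣_ X₀) :=
    Groth.Agent.Helper4.NApx18.isIso_snd_restrict g s S₀ X₀ h
  rw [e, morphismRestrict_comp]
  have hA : IsIso ((pullbackSymmetry s g).hom ∣_ (pullback.snd g s ⁻¹ᵁ X₀)) := inferInstance
  exact @IsIso.comp_isIso _ _ _ _ _ _ _ hA hB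

theorem mul_le_inf' {X : Scheme.{u}} (I₁ I₂ : X.IdealSheafData) : I₁ * I₂ ≤ I₁ ⊓ I₂ := by
  intro U
  rw [Scheme.IdealSheafData.ideal_mul, Scheme.IdealSheafData.ideal_inf]
  exact Ideal.mul_le_inf

theorem comap_inf_eq_left {X V : Scheme.{u}} (I₁ I₂ : X.IdealSheafData) (j : V ⟶ X)
    (h : I₂.comap j = ⊤) : (I₁ ⊓ I₂).comap j = I₁.comap j := by
  apply le_antisymm
  · exact Scheme.IdealSheafData.comap_mono j (inf_le_left : I₁ ⊓ I₂ ≤ I₁)
  · have h1 : (I₁ * I₂).comap j = I₁.comap j := by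
      rw [Groth.Agent.Helper4.NApx24.comap_mul, h]
      exact mul_one _
    have h2 : (I₁ * I₂).comap j ≤ (I₁ ⊓ I₂).comap j :=
      Scheme.IdealSheafData.comap_mono j (mul_le_inf' I₁ I₂)
    rw [h1] at h2
    exact h2

theorem comap_inf_eq_right {X V : Scheme.{u}} (I₁ I₂ : X.IdealSheafData) (j : V ⟶ X)
    (h : I₁.comap j = ⊤) : (I₁ ⊓ I₂).comap j = I₂.comap j := by
  rw [inf_comm]; exact comap_inf_eq_left I₂ I₁ j h

/-- equality of restrictions to an open pulls back -/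
theorem restrict_eq {X W : Scheme.{u}} (I I' : X.IdealSheafData) (U : X.Opens)
    (h : I.comap U.ι = I'.comap U.ι) (g : W ⟶ X) :
    (I.comap g).comap (g ⁻¹ᵁ U).ι = (I'.comap g).comap (g ⁻¹ᵁ U).ι := by
  rw [← Scheme.IdealSheafData.comap_comp, ← Scheme.IdealSheafData.comap_comp,
    ← morphismRestrict_ι, Scheme.IdealSheafData.comap_comp, Scheme.IdealSheafData.comap_comp, h]

theorem isEffCartierIdeal_of_two {W : Scheme.{u}} (L : W.IdealSheafData) (A B : W.Opens)
    (hcov : ∀ w : W, w ∈ A ∨ w ∈ B) (hA : BlowUp.IsEffCartierIdeal (L.comap A.ι))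
    (hB : BlowUp.IsEffCartierIdeal (L.comap B.ι)) : BlowUp.IsEffCartierIdeal L := by
  apply Groth.Agent.Helper4.NApx16.isEffCartierIdeal_of_cover
  intro w
  rcases hcov w with hw | hw
  · exact ⟨A, A.ι, inferInstance, by rw [Scheme.Opens.range_ι]; exact hw, hA⟩
  · exact ⟨B, B.ι, inferInstance, by rw [Scheme.Opens.range_ι]; exact hw, hB⟩

section comax
variable {X : Scheme.{u}} (I₁ I₂ : X.IdealSheafData) (hdisj : I₁ ⊔ I₂ = ⊤)

include hdisj in
theorem cover_interiors (x : X) : x ∈ ModPair.interior I₁ ∨ x ∈ ModPair.interior I₂ := by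
  by_contra hcon
  rw [not_or] at hcon
  have h1 : x ∈ I₁.support := by
    by_contra h; exact hcon.1 h
  have h2 : x ∈ I₂.support := by
    by_contra h; exact hcon.2 h
  have h3 : x ∈ (I₁ ⊔ I₂).support := by
    rw [Scheme.IdealSheafData.support_sup]; exact ⟨h1, h2⟩
  rw [hdisj, Scheme.IdealSheafData.support_top] at h3
  exact h3

theorem top_restrict (I : X.IdealSheafData) {W : Scheme.{u}} (g : W ⟶ X) :
    (I.comap g).comap (g ⁻¹ᵁ ModPair.interior I).ι = ⊤ := by
  rw [← Scheme.IdealSheafData.comap_comp, ← morphismRestrict_ι, Scheme.IdealSheafData.comap_comp]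
  have : I.comap (ModPair.interior I).ι = ⊤ := Groth.Agent.S1682.comap_ι_compl_support I
  rw [this, Scheme.IdealSheafData.comap_top]

include hdisj in
/-- Claim A -/
theorem effCartier_left_of_inf {W : Scheme.{u}} (g : W ⟶ X)
    (h : BlowUp.IsEffCartierIdeal ((I₁ ⊓ I₂).comap g)) : BlowUp.IsEffCartierIdeal (I₁.comap g) := by
  apply isEffCartierIdeal_of_two (I₁.comap g) (g ⁻¹ᵁ ModPair.interior I₁) (g ⁻¹ᵁ ModPair.interior I₂)
    (fun w => cover_interiors I₁ I₂ hdisj (g w))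
  · rw [top_restrict]; exact Groth.Agent.S1682.isEffCartierIdeal_top _
  · have e : (I₁ ⊓ I₂).comap (ModPair.interior I₂).ι = I₁.comap (ModPair.interior I₂).ι :=
      comap_inf_eq_left I₁ I₂ _ (Groth.Agent.S1682.comap_ι_compl_support I₂)
    rw [← restrict_eq _ _ _ e g]
    exact isEffCartierIdeal_comap_ι _ h _

include hdisj in
theorem effCartier_right_of_inf {W : Scheme.{u}} (g : W ⟶ X)
    (h : BlowUp.IsEffCartierIdeal ((I₁ ⊓ I₂).comap g)) : BlowUp.IsEffCartierIdeal (I₂.comap g) := by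
  have hdisj' : I₂ ⊔ I₁ = ⊤ := by rw [sup_comm]; exact hdisj
  have h' : BlowUp.IsEffCartierIdeal ((I₂ ⊓ I₁).comap g) := by rw [inf_comm]; exact h
  exact effCartier_left_of_inf I₂ I₁ hdisj' g h'

include hdisj in
/-- Claim B -/
theorem effCartier_inf {W : Scheme.{u}} (g : W ⟶ X)
    (h₁ : BlowUp.IsEffCartierIdeal (I₁.comap g)) (h₂ : BlowUp.IsEffCartierIdeal (I₂.comap g)) :
    BlowUp.IsEffCartierIdeal ((I₁ ⊓ I₂).comap g) := by
  apply isEffCartierIdeal_of_two ((I₁ ⊓ I₂).comap g) (g ⁻¹ᵁ ModPair.interior I₁)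
    (g ⁻¹ᵁ ModPair.interior I₂) (fun w => cover_interiors I₁ I₂ hdisj (g w))
  · have e : (I₁ ⊓ I₂).comap (ModPair.interior I₁).ι = I₂.comap (ModPair.interior I₁).ι :=
      comap_inf_eq_right I₁ I₂ _ (Groth.Agent.S1682.comap_ι_compl_support I₁)
    rw [restrict_eq _ _ _ e g]
    exact isEffCartierIdeal_comap_ι _ h₂ _
  · have e : (I₁ ⊓ I₂).comap (ModPair.interior I₂).ι = I₁.comap (ModPair.interior I₂).ι :=
      comap_inf_eq_left I₁ I₂ _ (Groth.Agent.S1682.comap_ι_compl_support I₂)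
    rw [restrict_eq _ _ _ e g]
    exact isEffCartierIdeal_comap_ι _ h₁ _

end comax

end Groth.Agent.Helper4.NApx29
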