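import Groth.Prelude.Def_W4c6modpairsegaMP
import Groth.Agent.Helper4.NApx29
import Mathlib

set_option autoImplicit false
universe u

namespace Groth.Agent.Helper4.NApx30

open AlgebraicGeometry CategoryTheory Limits
open Groth.Agent.Helper4.NApx19 Groth.Agent.Helper4.NApx21 Groth.Agent.Helper4.NApx29

theorem effCartier_comap_fst {X B₁ B₂ : Scheme.{u}} (σ₁ : B₁ ⟶ X) (σ₂ : B₂ ⟶ X)
    (I₁ : X.IdealSheafData) (U₂ : X.Opens)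
    (hcov : ∀ x : X, x ∈ ModPair.interior I₁ ∨ x ∈ U₂)
    (h₁ : BlowUp.IsEffCartierIdeal (I₁.comap σ₁)) [IsIso (σ₂ ∣_ U₂)] :
    BlowUp.IsEffCartierIdeal (I₁.comap (pullback.fst σ₁ σ₂ ≫ σ₁)) := by
  set pr₁ := pullback.fst σ₁ σ₂ with hpr₁
  set p := pr₁ ≫ σ₁ with hp
  set V₁ := σ₁ ⁻¹ᵁ U₂ with hV₁
  apply isEffCartierIdeal_of_two (I₁.comap p) (p ⁻¹ᵁ ModPair.interior I₁) (pr₁ ⁻¹ᵁ V₁)
    (fun w => hcov (p w))
  · rw [top_restrict]; exact Groth.Agent.S1682.isEffCartierIdeal_top _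
  · haveI : IsIso (pr₁ ∣_ V₁) := isIso_fst_restrict σ₁ σ₂ U₂ V₁ le_rfl
    have e1 : (pr₁ ⁻¹ᵁ V₁).ι ≫ pr₁ = (pr₁ ∣_ V₁) ≫ V₁.ι := (morphismRestrict_ι pr₁ V₁).symm
    haveI : Flat ((pr₁ ⁻¹ᵁ V₁).ι ≫ pr₁) := by rw [e1]; infer_instance
    have e2 : (I₁.comap p).comap (pr₁ ⁻¹ᵁ V₁).ι = (I₁.comap σ₁).comap ((pr₁ ⁻¹ᵁ V₁).ι ≫ pr₁) := by
      rw [hp, ← Scheme.IdealSheafData.comap_comp, ← Scheme.IdealSheafData.comap_comp,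
        Category.assoc]
    rw [e2]
    exact isEffCartierIdeal_comap_of_flat _ h₁ _

theorem effCartier_comap_snd {X B₁ B₂ : Scheme.{u}} (σ₁ : B₁ ⟶ X) (σ₂ : B₂ ⟶ X)
    (I₂ : X.IdealSheafData) (U₁ : X.Opens)
    (hcov : ∀ x : X, x ∈ ModPair.interior I₂ ∨ x ∈ U₁)
    (h₂ : BlowUp.IsEffCartierIdeal (I₂.comap σ₂)) [IsIso (σ₁ ∣_ U₁)] :
    BlowUp.IsEffCartierIdeal (I₂.comap (pullback.snd σ₁ σ₂ ≫ σ₂)) := by
  set pr₂ := pullback.snd σ₁ σ₂ with hpr₂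
  set p := pr₂ ≫ σ₂ with hp
  set V₂ := σ₂ ⁻¹ᵁ U₁ with hV₂
  apply isEffCartierIdeal_of_two (I₂.comap p) (p ⁻¹ᵁ ModPair.interior I₂) (pr₂ ⁻¹ᵁ V₂)
    (fun w => hcov (p w))
  · rw [top_restrict]; exact Groth.Agent.S1682.isEffCartierIdeal_top _
  · haveI : IsIso (pr₂ ∣_ V₂) := Groth.Agent.Helper4.NApx18.isIso_snd_restrict σ₁ σ₂ U₁ V₂ le_rfl
    have e1 : (pr₂ ⁻¹ᵁ V₂).ι ≫ pr₂ = (pr₂ ∣_ V₂) ≫ V₂.ι := (morphismRestrict_ι pr₂ V₂).symm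
    haveI : Flat ((pr₂ ⁻¹ᵁ V₂).ι ≫ pr₂) := by rw [e1]; infer_instance
    have e2 : (I₂.comap p).comap (pr₂ ⁻¹ᵁ V₂).ι = (I₂.comap σ₂).comap ((pr₂ ⁻¹ᵁ V₂).ι ≫ pr₂) := by
      rw [hp, ← Scheme.IdealSheafData.comap_comp, ← Scheme.IdealSheafData.comap_comp,
        Category.assoc]
    rw [e2]
    exact isEffCartierIdeal_comap_of_flat _ h₂ _

/-- the fibre product of the blow-ups in two comaximal ideals is the blow-up in their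
intersection -/
theorem isBlowUp_pullback {X B₁ B₂ : Scheme.{u}} (I₁ I₂ : X.IdealSheafData) (hdisj : I₁ ⊔ I₂ = ⊤)
    (σ₁ : B₁ ⟶ X) (hσ₁ : BlowUp.IsBlowUp σ₁ I₁) (σ₂ : B₂ ⟶ X) (hσ₂ : BlowUp.IsBlowUp σ₂ I₂) :
    BlowUp.IsBlowUp (pullback.fst σ₁ σ₂ ≫ σ₁) (I₁ ⊓ I₂) := by
  haveI i1 : IsIso (σ₁ ∣_ ModPair.interior I₁) := Groth.Agent.S1682.result I₁ σ₁ hσ₁
  haveI i2 : IsIso (σ₂ ∣_ ModPair.interior I₂) := Groth.Agent.S1682.result I₂ σ₂ hσ₂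
  have hcond : pullback.fst σ₁ σ₂ ≫ σ₁ = pullback.snd σ₁ σ₂ ≫ σ₂ := pullback.condition
  constructor
  · apply effCartier_inf I₁ I₂ hdisj
    · exact effCartier_comap_fst σ₁ σ₂ I₁ (ModPair.interior I₂)
        (fun x => cover_interiors I₁ I₂ hdisj x) hσ₁.1
    · rw [hcond]
      exact effCartier_comap_snd σ₁ σ₂ I₂ (ModPair.interior I₁)
        (fun x => (cover_interiors I₁ I₂ hdisj x).symm) hσ₂.1
  · intro W g hg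
    have hg1 := effCartier_left_of_inf I₁ I₂ hdisj g hg
    have hg2 := effCartier_right_of_inf I₁ I₂ hdisj g hg
    obtain ⟨h₁, hh₁, hu₁⟩ := hσ₁.2 W g hg1
    obtain ⟨h₂, hh₂, hu₂⟩ := hσ₂.2 W g hg2
    refine ⟨pullback.lift h₁ h₂ (by rw [hh₁, hh₂]), ?_, ?_⟩
    · show pullback.lift h₁ h₂ _ ≫ pullback.fst σ₁ σ₂ ≫ σ₁ = g
      rw [pullback.lift_fst_assoc, hh₁]
    · intro h' hh'
      have hh'' : h' ≫ pullback.fst σ₁ σ₂ ≫ σ₁ = g := hh'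
      apply pullback.hom_ext
      · rw [pullback.lift_fst]
        exact hu₁ _ (show (h' ≫ pullback.fst σ₁ σ₂) ≫ σ₁ = g by rw [Category.assoc]; exact hh'')
      · rw [pullback.lift_snd]
        exact hu₂ _ (show (h' ≫ pullback.snd σ₁ σ₂) ≫ σ₂ = g by
          rw [Category.assoc, ← hcond]; exact hh'')

end Groth.Agent.Helper4.NApx30
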