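import Groth.Prelude.Def_W4c6modpairsegaMP
import Groth.Agent.Helper4.NApx27
import Groth.Agent.Helper4.NApx24
import Groth.Agent.Helper4.NApx11
import Mathlib

set_option autoImplicit false
universe u

namespace Groth.Agent.Helper4.NApx31

open AlgebraicGeometry CategoryTheory Limits
open Groth.Agent.Helper4.NApx19 Groth.Agent.Helper4.NApx21

/-- local algebra: a factor of an invertible ideal is locally principal -/
theorem factor_local {R : Type u} [CommRing R] (I J : Ideal R) (c : R) (hc : c ∈ nonZeroDivisors R)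
    (h : I * J = Ideal.span {c}) (𝔭 : Ideal R) [𝔭.IsPrime] :
    ∃ r a b : R, r ∉ 𝔭 ∧ a ∈ I ∧ a * b = r * c ∧ ∀ x ∈ I, ∃ s, x * r = a * s := by
  have key : ∃ a ∈ I, ∃ b ∈ J, ∃ r, r ∉ 𝔭 ∧ a * b = r * c := by
    by_contra hcon
    push Not at hcon
    have hle : I * J ≤ 𝔭 * Ideal.span {c} := by
      rw [Ideal.mul_le]
      intro a ha b hb
      have hab : a * b ∈ Ideal.span {c} := h ▸ Ideal.mul_mem_mul ha hb
      obtain ⟨r, hr⟩ := Ideal.mem_span_singleton'.mp hab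
      by_cases hr𝔭 : r ∈ 𝔭
      · exact Ideal.mem_mul_span_singleton.mpr ⟨r, hr𝔭, hr⟩
      · exact absurd hr.symm (hcon a ha b hb r hr𝔭)
    have hcm : c ∈ 𝔭 * Ideal.span {c} := hle (h ▸ Ideal.mem_span_singleton_self c)
    obtain ⟨p, hp, hpc⟩ := Ideal.mem_mul_span_singleton.mp hcm
    have h0 : (p - 1) * c = 0 := by rw [sub_mul, hpc, one_mul, sub_self]
    have h1 : p - 1 = 0 := (mem_nonZeroDivisors_iff_right.mp hc) _ h0
    have h2 : p = 1 := sub_eq_zero.mp h1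
    exact (Ideal.IsPrime.ne_top inferInstance) ((Ideal.eq_top_iff_one 𝔭).mpr (h2 ▸ hp))
  obtain ⟨a, ha, b, hb, r, hr, hab⟩ := key
  refine ⟨r, a, b, hr, ha, hab, ?_⟩
  intro x hx
  have hxb : x * b ∈ Ideal.span {c} := h ▸ Ideal.mul_mem_mul hx hb
  obtain ⟨s, hs⟩ := Ideal.mem_span_singleton'.mp hxb
  refine ⟨s, ?_⟩
  have h0 : (x * r - a * s) * c = 0 := by
    have e1 : x * r * c = x * (a * b) := by rw [hab]; ring
    have e2 : a * s * c = a * (x * b) := by rw [← hs]; ring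
    rw [sub_mul, e1, e2]; ring
  exact sub_eq_zero.mp ((mem_nonZeroDivisors_iff_right.mp hc) _ h0)

/-- a factor of an effective Cartier ideal is effective Cartier -/
theorem isEffCartierIdeal_of_mul {X : Scheme.{u}} (I J : X.IdealSheafData)
    (h : BlowUp.IsEffCartierIdeal (I * J)) : BlowUp.IsEffCartierIdeal I := by
  intro x
  obtain ⟨W, hxW, c, hc, hcI⟩ := h x
  rw [Scheme.IdealSheafData.ideal_mul] at hcI
  let 𝔭 : Ideal Γ(X, W.1) :=
    (IsLocalRing.maximalIdeal (X.presheaf.stalk x)).comap (X.presheaf.germ W.1 x hxW).hom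
  haveI : 𝔭.IsPrime := Ideal.comap_isPrime _ _
  obtain ⟨r, a, b, hr, ha, hab, hx⟩ := factor_local (I.ideal W) (J.ideal W) c hc hcI 𝔭
  set ρ := (X.presheaf.map (homOfLE (X.basicOpen_le r)).op).hom with hρ
  have hur : IsUnit (ρ r) := RingedSpace.isUnit_res_basicOpen _ r
  refine ⟨X.affineBasicOpen r, ?_, ρ a, ?_, ?_⟩
  · show x ∈ X.basicOpen r
    rw [Scheme.mem_basicOpen _ _ _ hxW]
    exact IsLocalRing.notMem_maximalIdeal.mp hr
  · have hcρ : ρ c ∈ nonZeroDivisors _ :=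
      map_mem_nonZeroDivisors_of_flat ρ (flat_res W (X.affineBasicOpen r) (X.basicOpen_le r)) hc
    have h1 : ρ a * ρ b = ρ r * ρ c := by rw [← map_mul, ← map_mul, hab]
    have h2 : ρ r * ρ c ∈ nonZeroDivisors _ := mul_mem hur.mem_nonZeroDivisors hcρ
    rw [← h1] at h2
    exact (mul_mem_nonZeroDivisors.mp h2).1
  · rw [← I.map_ideal_basicOpen W r]
    refine le_antisymm (Ideal.map_le_iff_le_comap.mpr ?_)
      ((Ideal.span_singleton_le_iff_mem _).mpr (Ideal.mem_map_of_mem _ ha))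
    intro y hy
    obtain ⟨s, hs⟩ := hx y hy
    obtain ⟨v, hv⟩ := hur
    have e : ρ y = ρ a * (ρ s * ((v⁻¹ : _ˣ) : _)) := by
      have e1 : ρ y * ρ r = ρ a * ρ s := by rw [← map_mul, ← map_mul, hs]
      calc ρ y = ρ y * ρ r * ((v⁻¹ : _ˣ) : _) := by rw [← hv, mul_assoc, Units.mul_inv, mul_one]
        _ = ρ a * (ρ s * ((v⁻¹ : _ˣ) : _)) := by rw [e1, mul_assoc]
    show ρ y ∈ Ideal.span {ρ a}
    rw [e]
    exact Ideal.mul_mem_right _ _ (Ideal.mem_span_singleton_self _)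

/-- blow-up of a blow-up is a blow-up in the product -/
theorem isBlowUp_comp {X X₁ X' : Scheme.{u}} (𝓘 𝓛 : X.IdealSheafData) (b₁ : X₁ ⟶ X)
    (h₁ : BlowUp.IsBlowUp b₁ 𝓘) (b' : X' ⟶ X₁) (h' : BlowUp.IsBlowUp b' (𝓛.comap b₁)) :
    BlowUp.IsBlowUp (b' ≫ b₁) (𝓘 * 𝓛) := by
  constructor
  · rw [Groth.Agent.Helper4.NApx24.comap_mul, Scheme.IdealSheafData.comap_comp,
      Scheme.IdealSheafData.comap_comp]
    apply isEffCartierIdeal_mul _ _ _ h'.1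
    haveI : QuasiCompact (ModPair.interior (𝓘.comap b₁)).ι :=
      Groth.Agent.Helper4.NApx14.quasiCompact_interior_ι _ h₁.1
    haveI : IsSchemeTheoreticallyDominant (ModPair.interior (𝓘.comap b₁)).ι :=
      isSchemeTheoreticallyDominant_interior_ι _ h₁.1
    haveI : IsSchemeTheoreticallyDominant (b' ⁻¹ᵁ ModPair.interior (𝓘.comap b₁)).ι :=
      Groth.Agent.Helper4.NApx23.dominant_preimage_of_isBlowUp _ _ b' h'
    exact Groth.Agent.Helper4.NApx14.isEffCartierIdeal_comap _ h₁.1 b'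
  · intro Y g hg
    rw [Groth.Agent.Helper4.NApx24.comap_mul] at hg
    have hg1 : BlowUp.IsEffCartierIdeal (𝓘.comap g) := isEffCartierIdeal_of_mul _ _ hg
    have hg2 : BlowUp.IsEffCartierIdeal (𝓛.comap g) := by
      rw [mul_comm] at hg
      exact isEffCartierIdeal_of_mul _ _ hg
    obtain ⟨k₁, hk₁, hk₁u⟩ := h₁.2 Y g hg1
    have hk2 : BlowUp.IsEffCartierIdeal ((𝓛.comap b₁).comap k₁) := by
      rw [← Scheme.IdealSheafData.comap_comp, hk₁]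
      exact hg2
    obtain ⟨k', hk', hk'u⟩ := h'.2 Y k₁ hk2
    refine ⟨k', show k' ≫ b' ≫ b₁ = g by rw [← Category.assoc, hk', hk₁], ?_⟩
    intro k'' hk''
    apply hk'u
    apply hk₁u
    show (k'' ≫ b') ≫ b₁ = g
    rw [Category.assoc]
    exact hk''

/-- transport of blow-ups along isomorphisms of the source -/
theorem isBlowUp_of_iso {X X₁ X₂ : Scheme.{u}} (𝓘 : X.IdealSheafData) (e : X₁ ≅ X₂) (b₂ : X₂ ⟶ X)
    (h₂ : BlowUp.IsBlowUp b₂ 𝓘) : BlowUp.IsBlowUp (e.hom ≫ b₂) 𝓘 := by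
  constructor
  · rw [Scheme.IdealSheafData.comap_comp]
    exact isEffCartierIdeal_comap_of_flat _ h₂.1 e.hom
  · intro Y g hg
    obtain ⟨k, hk, hku⟩ := h₂.2 Y g hg
    refine ⟨k ≫ e.inv, show (k ≫ e.inv) ≫ e.hom ≫ b₂ = g by
      rw [Category.assoc, Iso.inv_hom_id_assoc, hk], ?_⟩
    intro k' hk'
    have := hku (k' ≫ e.hom) (show (k' ≫ e.hom) ≫ b₂ = g by rw [Category.assoc]; exact hk')
    rw [← this, Category.assoc, Iso.hom_inv_id, Category.comp_id]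

/-- two blow-ups are dominated by a common blow-up -/
theorem exists_common {X X₁ X₂ : Scheme.{u}} (𝓘₁ 𝓘₂ : X.IdealSheafData) (b₁ : X₁ ⟶ X) (b₂ : X₂ ⟶ X)
    (h₁ : BlowUp.IsBlowUp b₁ 𝓘₁) (h₂ : BlowUp.IsBlowUp b₂ 𝓘₂) :
    ∃ (X' : Scheme.{u}) (c : X' ⟶ X) (g₁ : X' ⟶ X₁) (g₂ : X' ⟶ X₂),
      BlowUp.IsBlowUp c (𝓘₁ * 𝓘₂) ∧ g₁ ≫ b₁ = c ∧ g₂ ≫ b₂ = c ∧
      BlowUp.IsBlowUp g₁ (𝓘₂.comap b₁) ∧ BlowUp.IsBlowUp g₂ (𝓘₁.comap b₂) := by
  have s₁ := Groth.Agent.Helper4.NApx27.isBlowUp_strictTransform 𝓘₂ b₂ h₂ b₁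
  have s₂ := Groth.Agent.Helper4.NApx27.isBlowUp_strictTransform 𝓘₁ b₁ h₁ b₂
  set g₁ := (pullback.fst b₂ b₁ ⁻¹ᵁ ModPair.interior (𝓘₂.comap b₂)).ι.imageι ≫ pullback.snd b₂ b₁
    with hg₁
  set g₂' := (pullback.fst b₁ b₂ ⁻¹ᵁ ModPair.interior (𝓘₁.comap b₁)).ι.imageι ≫ pullback.snd b₁ b₂
    with hg₂'
  have c₁ : BlowUp.IsBlowUp (g₁ ≫ b₁) (𝓘₁ * 𝓘₂) := isBlowUp_comp 𝓘₁ 𝓘₂ b₁ h₁ g₁ s₁
  have c₂ : BlowUp.IsBlowUp (g₂' ≫ b₂) (𝓘₁ * 𝓘₂) := by
    rw [mul_comm]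
    exact isBlowUp_comp 𝓘₂ 𝓘₁ b₂ h₂ g₂' s₂
  obtain ⟨e, he⟩ := Groth.Agent.Helper4.NApx27.isBlowUp_unique _ _ _ c₁ c₂
  refine ⟨_, g₁ ≫ b₁, g₁, e.hom ≫ g₂', c₁, rfl, by rw [Category.assoc]; exact he, s₁, ?_⟩
  exact isBlowUp_of_iso _ e g₂' s₂

/-- the identity is the blow-up in the unit ideal -/
theorem isBlowUp_id_top (X : Scheme.{u}) : BlowUp.IsBlowUp (𝟙 X) (⊤ : X.IdealSheafData) := by
  constructor
  · rw [Scheme.IdealSheafData.comap_top]
    exact Groth.Agent.S1682.isEffCartierIdeal_top _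
  · intro Y g _
    exact ⟨g, Category.comp_id _, fun k hk => by rw [← hk, Category.comp_id]⟩

theorem admissible_top {X : Scheme.{u}} (U : X.Opens) :
    BlowUp.IsAdmissibleFor U (⊤ : X.IdealSheafData) := by
  refine ⟨fun V => ?_, ?_⟩
  · rw [Scheme.IdealSheafData.ideal_top]
    exact ⟨{1}, by simp⟩
  · rw [Scheme.IdealSheafData.support_top]
    simp

theorem admissible_mul {X : Scheme.{u}} (U : X.Opens) (I J : X.IdealSheafData)
    (hI : BlowUp.IsAdmissibleFor U I) (hJ : BlowUp.IsAdmissibleFor U J) :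
    BlowUp.IsAdmissibleFor U (I * J) := by
  refine ⟨fun V => ?_, ?_⟩
  · rw [Scheme.IdealSheafData.ideal_mul]
    exact (hI.1 V).mul (hJ.1 V)
  · rw [Scheme.IdealSheafData.support_mul]
    show Disjoint ((I.support : Set X) ∪ (J.support : Set X)) _
    rw [Set.disjoint_union_left]
    exact ⟨hI.2, hJ.2⟩

theorem admissible_comap {X Y : Scheme.{u}} (f : Y ⟶ X) (U : X.Opens) (I : X.IdealSheafData)
    (hI : BlowUp.IsAdmissibleFor U I) : BlowUp.IsAdmissibleFor (f ⁻¹ᵁ U) (I.comap f) := by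
  refine ⟨fun V => Groth.Agent.Helper4.NApx11.comap_fg f I hI.1 V, ?_⟩
  rw [Scheme.IdealSheafData.support_comap]
  show Disjoint (f.base ⁻¹' (I.support : Set X)) (f.base ⁻¹' (U : Set X))
  exact Disjoint.preimage _ hI.2

end Groth.Agent.Helper4.NApx31
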