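import Groth.Prelude.Def_W4c6modpairsegaMP
import Groth.Agent.Helper4.NApx31
import Mathlib

set_option autoImplicit false
universe u

namespace Groth.Agent.Helper4.NApx32

open AlgebraicGeometry CategoryTheory Limits
open Groth.Agent.Helper4.NApx31

theorem admissible_prod {X : Scheme.{u}} (U : X.Opens) {n : ℕ} (𝓘 : Fin n → X.IdealSheafData)
    (ha : ∀ i, BlowUp.IsAdmissibleFor U (𝓘 i)) : BlowUp.IsAdmissibleFor U (∏ i, 𝓘 i) := by
  apply Finset.prod_induction _ (fun I => BlowUp.IsAdmissibleFor U I)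
  · intro I J hI hJ
    exact admissible_mul U I J hI hJ
  · rw [Scheme.IdealSheafData.one_eq_top]
    exact admissible_top U
  · intro i _
    exact ha i

/-- finitely many `U`-admissible blow-ups are dominated by one -/
theorem exists_dominating {X : Scheme.{u}} (U : X.Opens) :
    ∀ (n : ℕ) (Xi : Fin n → Scheme.{u}) (b : ∀ i, Xi i ⟶ X) (𝓘 : Fin n → X.IdealSheafData)
      (_ : ∀ i, BlowUp.IsBlowUp (b i) (𝓘 i)) (_ : ∀ i, BlowUp.IsAdmissibleFor U (𝓘 i)),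
    ∃ (X' : Scheme.{u}) (c : X' ⟶ X), BlowUp.IsBlowUp c (∏ i, 𝓘 i) ∧
      ∀ i, ∃ (g : X' ⟶ Xi i) (𝓚 : (Xi i).IdealSheafData), g ≫ b i = c ∧ BlowUp.IsBlowUp g 𝓚 ∧
        BlowUp.IsAdmissibleFor ((b i) ⁻¹ᵁ U) 𝓚 := by
  intro n
  induction n with
  | zero =>
    intro Xi b 𝓘 hb ha
    refine ⟨X, 𝟙 X, ?_, fun i => i.elim0⟩
    rw [Finset.univ_eq_empty, Finset.prod_empty, Scheme.IdealSheafData.one_eq_top]
    exact isBlowUp_id_top X
  | succ n ih =>
    intro Xi b 𝓘 hb ha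
    have hb' : ∀ i : Fin n, BlowUp.IsBlowUp (b i.succ) (𝓘 i.succ) := fun i => hb i.succ
    have ha' : ∀ i : Fin n, BlowUp.IsAdmissibleFor U (𝓘 i.succ) := fun i => ha i.succ
    have ih' := ih (fun i => Xi i.succ) (fun i => b i.succ) (fun i => 𝓘 i.succ) hb' ha'
    obtain ⟨X'', c'', hc'', hfac⟩ := ih'
    obtain ⟨X', c, g₁, g₂, hc, hg₁, hg₂, hbg₁, hbg₂⟩ :=
      exists_common (𝓘 0) (∏ i : Fin n, 𝓘 i.succ) (b 0) c'' (hb 0) hc''
    refine ⟨X', c, ?_, ?_⟩
    · rw [Fin.prod_univ_succ]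
      exact hc
    · intro i
      refine Fin.cases ?_ ?_ i
      · exact ⟨g₁, _, hg₁, hbg₁, admissible_comap (b 0) U _
          (admissible_prod U (fun i => 𝓘 i.succ) (fun i => ha i.succ))⟩
      · intro j
        obtain ⟨g, 𝓚, hg, hgb, hga⟩ := hfac j
        refine ⟨g₂ ≫ g, 𝓚 * ((𝓘 0).comap (b j.succ)), ?_, ?_, ?_⟩
        · rw [Category.assoc, hg, hg₂]
        · apply isBlowUp_comp _ _ g hgb g₂
          rw [← Scheme.IdealSheafData.comap_comp, hg]
          exact hbg₂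
        · exact admissible_mul _ _ _ hga (admissible_comap _ U _ (ha 0))

end Groth.Agent.Helper4.NApx32
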