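import Groth.Prelude.Def_Rees
import Groth.Prelude.Def_BlowUp2
import Groth.Prelude.Def_ega3
import Groth.Agent.Helper4.NApx41
import Mathlib

set_option autoImplicit false
universe u

namespace Groth.Agent.Helper4.NApx47

open AlgebraicGeometry CategoryTheory Polynomial HomogeneousLocalization
open Groth.Agent.Helper4.NApx37

variable {A : Type u} [CommRing A] {I : Ideal A}

/-- the structure map of the affine blow-up algebra -/
noncomputable abbrev φa (a : A) : A →+* ↥(BlowUp.affineAlgebra A I a) :=
  algebraMap A ↥(BlowUp.affineAlgebra A I a)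

theorem coe_φa (a x : A) :
    ((φa (I := I) a x : ↥(BlowUp.affineAlgebra A I a)) : Localization.Away a) =
      algebraMap A (Localization.Away a) x := rfl

/-- the fraction `x / a` in the affine blow-up algebra -/
noncomputable def frac (a : A) (x : A) (hx : x ∈ I) : ↥(BlowUp.affineAlgebra A I a) :=
  ⟨IsLocalization.mk' (Localization.Away a) x ⟨a, Submonoid.mem_powers a⟩,
    Algebra.subset_adjoin ⟨x, hx, rfl⟩⟩

theorem frac_mul (a : A) (x : A) (hx : x ∈ I) :
    frac a x hx * φa (I := I) a a = φa (I := I) a x := by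
  apply Subtype.ext
  show IsLocalization.mk' (Localization.Away a) x ⟨a, Submonoid.mem_powers a⟩ *
    algebraMap A (Localization.Away a) a = algebraMap A (Localization.Away a) x
  exact IsLocalization.mk'_spec (Localization.Away a) x ⟨a, Submonoid.mem_powers a⟩

theorem φa_nzd (a : A) : φa (I := I) a a ∈ nonZeroDivisors ↥(BlowUp.affineAlgebra A I a) := by
  refine (mem_nonZeroDivisors_iff_right (M₀ := ↥(BlowUp.affineAlgebra A I a))).mpr ?_
  intro s hs
  have h1 : (s : Localization.Away a) * algebraMap A (Localization.Away a) a = 0 := by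
    have := congrArg (fun w : ↥(BlowUp.affineAlgebra A I a) => (w : Localization.Away a)) hs
    simpa using this
  have hu : IsUnit (algebraMap A (Localization.Away a) a) :=
    IsLocalization.Away.algebraMap_isUnit a
  apply Subtype.ext
  exact (hu.mul_left_eq_zero).mp h1

theorem map_φa_le (a : A) : I.map (φa (I := I) a) ≤ Ideal.span {φa (I := I) a a} := by
  rw [Ideal.map_le_iff_le_comap]
  intro c hc
  rw [Ideal.mem_comap, ← frac_mul a c hc]
  exact Ideal.mul_mem_left _ _ (Ideal.mem_span_singleton_self _)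

theorem abstract_pow_nzd {A' B' : Type u} [CommRing A'] [CommRing B'] (r' : A' →+* B') (a : A')
    (h : r' a ∈ nonZeroDivisors B') (k : ℕ) : ∀ w : B', w * r' (a ^ k) = 0 → w = 0 := by
  intro w hw
  have h1 : r' (a ^ k) ∈ nonZeroDivisors B' := by rw [map_pow]; exact pow_mem h k
  exact (mem_nonZeroDivisors_iff_right.mp h1) w hw

theorem r_pow_nzd (a : A) (ha : a ∈ I) (k : ℕ) :
    ∀ w : Ba a ha, w * r a ha (a ^ k) = 0 → w = 0 :=
  abstract_pow_nzd (r a ha) a (F4 a ha) k

/-- the chart ring of `Proj` of the Rees algebra is the affine blow-up algebra -/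
theorem exists_ringEquiv (a : A) (ha : a ∈ I) :
    ∃ σ : ↥(BlowUp.affineAlgebra A I a) ≃+* Ba a ha,
      (σ : ↥(BlowUp.affineAlgebra A I a) →+* Ba a ha).comp (φa (I := I) a) = r a ha := by
  obtain ⟨ψ, hψ, -⟩ := Groth.Agent.Helper4.NApx36.existsUnique_lift (r a ha) I a (F1 a ha)
    (F2 a ha) ha (φa (I := I) a) (φa_nzd a) (map_φa_le a)
  have hψ' : ∀ x : A, ψ (r a ha x) = φa (I := I) a x := fun x => by
    rw [← RingHom.comp_apply, hψ]
  have hinj : Function.Injective ψ := by
    rw [injective_iff_map_eq_zero]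
    intro z hz
    obtain ⟨n, c, hc, hzc⟩ := F1 a ha z
    have h1 : φa (I := I) a c = 0 := by
      have := congrArg ψ hzc
      rw [map_mul, hz, zero_mul, hψ'] at this
      exact this.symm
    have h2 : algebraMap A (Localization.Away a) c = 0 :=
      congrArg (fun w : ↥(BlowUp.affineAlgebra A I a) => (w : Localization.Away a)) h1
    obtain ⟨⟨_, k, rfl⟩, hk⟩ :=
      (IsLocalization.map_eq_zero_iff (Submonoid.powers a) (Localization.Away a) c).mp h2
    have hk' : a ^ k * c = 0 := hk
    have h3 : r a ha c * r a ha (a ^ k) = 0 := by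
      rw [← map_mul, mul_comm, hk', map_zero]
    have h4 : r a ha c = 0 := r_pow_nzd a ha k _ h3
    have en : r a ha a ^ n = r a ha (a ^ n) := (map_pow (r a ha) a n).symm
    have h5 : z * r a ha (a ^ n) = 0 := by rw [← en, hzc, h4]
    exact r_pow_nzd a ha n z h5
  have hsurj : Function.Surjective ψ := by
    letI : Algebra A (Ba a ha) := (r a ha).toAlgebra
    let ψa : Ba a ha →ₐ[A] ↥(BlowUp.affineAlgebra A I a) :=
      { ψ with commutes' := fun x => hψ' x }
    let T : Subalgebra A (Localization.Away a) :=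
      ((BlowUp.affineAlgebra A I a).val.comp ψa).range
    have hle : BlowUp.affineAlgebra A I a ≤ T := by
      unfold BlowUp.affineAlgebra
      apply Algebra.adjoin_le
      rintro _ ⟨x, hx, rfl⟩
      refine ⟨q a ha x hx, ?_⟩
      show ((ψ (q a ha x hx) : ↥(BlowUp.affineAlgebra A I a)) : Localization.Away a) = _
      rw [IsLocalization.eq_mk'_iff_mul_eq]
      have := congrArg ψ (F3 a ha x hx)
      rw [map_mul, hψ', hψ'] at this
      exact (congrArg (fun w : ↥(BlowUp.affineAlgebra A I a) => (w : Localization.Away a))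
        this).symm
    intro w
    obtain ⟨z, hz⟩ := hle w.2
    exact ⟨z, Subtype.ext hz⟩
  refine ⟨(RingEquiv.ofBijective ψ ⟨hinj, hsurj⟩).symm, ?_⟩
  refine RingHom.ext fun x => ?_
  show (RingEquiv.ofBijective ψ ⟨hinj, hsurj⟩).symm (φa (I := I) a x) = r a ha x
  rw [← hψ' x]
  exact (RingEquiv.ofBijective ψ ⟨hinj, hsurj⟩).symm_apply_apply (r a ha x)

end Groth.Agent.Helper4.NApx47
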