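import Groth.Prelude.Def_Rees
import Groth.Prelude.Def_BlowUp2
import Groth.Prelude.Def_ega3
import Groth.Agent.Helper4.NApx47
import Groth.Agent.Helper4.NApx27
import Mathlib

set_option autoImplicit false
universe u

namespace Groth.Agent.Helper4.NApx48

open AlgebraicGeometry CategoryTheory Limits
open Groth.Agent.Helper4.NApx37 Groth.Agent.Helper4.NApx38 Groth.Agent.Helper4.NApx47

variable {A : Type u} [CommRing A] {I : Ideal A}

/-- every blow-up of `Spec A` in `I` is locally the spectrum of an affine blow-up algebra -/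
theorem exists_affineAlgebra_chart {X' : Scheme.{u}} (b : X' ⟶ Spec (CommRingCat.of A))
    (hb : BlowUp.IsBlowUp b (Curv2.idealSheaf A I)) (x' : X') :
    ∃ (a : A) (_ : a ∈ I) (V : X'.Opens)
      (e : (V : Scheme.{u}) ≅ Spec (CommRingCat.of ↥(BlowUp.affineAlgebra A I a))),
      x' ∈ V ∧ e.hom ≫ Spec.map (CommRingCat.ofHom
        (algebraMap A ↥(BlowUp.affineAlgebra A I a))) = V.ι ≫ b := by
  obtain ⟨ε, hε⟩ := Groth.Agent.Helper4.NApx27.isBlowUp_unique _ b (bb A I) hb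
    Groth.Agent.Helper4.NApx41.isBlowUp_proj
  obtain ⟨a, ha, hx⟩ := exists_chart (ε.hom x')
  obtain ⟨σ, hσ⟩ := exists_ringEquiv (I := I) a ha
  let V : X'.Opens := ε.hom ⁻¹ᵁ (j a ha).opensRange
  have hxV : x' ∈ V := hx
  have hrange : Set.range (V.ι ≫ ε.hom) = Set.range (j a ha) := by
    apply Set.Subset.antisymm
    · rintro _ ⟨z, rfl⟩
      exact z.2
    · rintro _ ⟨y, rfl⟩
      obtain ⟨x, hx⟩ := ε.hom.homeomorph.surjective (j a ha y)
      have hxV' : x ∈ V := by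
        show ε.hom x ∈ (j a ha).opensRange
        have : ε.hom x = j a ha y := hx
        rw [this]
        exact ⟨y, rfl⟩
      refine ⟨⟨x, hxV'⟩, ?_⟩
      exact hx
  let k₀ : (V : Scheme.{u}) ≅ Spec (CommRingCat.of (Ba a ha)) :=
    IsOpenImmersion.isoOfRangeEq (V.ι ≫ ε.hom) (j a ha) hrange
  have hk₀ : k₀.hom ≫ j a ha = V.ι ≫ ε.hom := IsOpenImmersion.isoOfRangeEq_hom_fac _ _ _
  let s₁ : Spec (CommRingCat.of (Ba a ha)) ⟶ Spec (CommRingCat.of ↥(BlowUp.affineAlgebra A I a)) :=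
    Spec.map (CommRingCat.ofHom (σ : ↥(BlowUp.affineAlgebra A I a) →+* Ba a ha))
  let s₂ : Spec (CommRingCat.of ↥(BlowUp.affineAlgebra A I a)) ⟶ Spec (CommRingCat.of (Ba a ha)) :=
    Spec.map (CommRingCat.ofHom (σ.symm : Ba a ha →+* ↥(BlowUp.affineAlgebra A I a)))
  have h12 : s₁ ≫ s₂ = 𝟙 _ := by
    rw [← Spec.map_comp, ← CommRingCat.ofHom_comp]
    have : (σ : ↥(BlowUp.affineAlgebra A I a) →+* Ba a ha).comp
        (σ.symm : Ba a ha →+* ↥(BlowUp.affineAlgebra A I a)) = RingHom.id _ := by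
      refine RingHom.ext fun z => ?_
      exact σ.apply_symm_apply z
    rw [this]
    exact Spec.map_id _
  have h21 : s₂ ≫ s₁ = 𝟙 _ := by
    rw [← Spec.map_comp, ← CommRingCat.ofHom_comp]
    have : (σ.symm : Ba a ha →+* ↥(BlowUp.affineAlgebra A I a)).comp
        (σ : ↥(BlowUp.affineAlgebra A I a) →+* Ba a ha) = RingHom.id _ := by
      refine RingHom.ext fun z => ?_
      exact σ.symm_apply_apply z
    rw [this]
    exact Spec.map_id _
  refine ⟨a, ha, V, k₀ ≪≫ ⟨s₁, s₂, h12, h21⟩, hxV, ?_⟩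
  show (k₀.hom ≫ s₁) ≫ Spec.map (CommRingCat.ofHom
    (algebraMap A ↥(BlowUp.affineAlgebra A I a))) = V.ι ≫ b
  rw [Category.assoc, ← Spec.map_comp, ← CommRingCat.ofHom_comp]
  have e1 : (σ : ↥(BlowUp.affineAlgebra A I a) →+* Ba a ha).comp
      (algebraMap A ↥(BlowUp.affineAlgebra A I a)) = r a ha := hσ
  rw [e1, ← j_comp_bb, ← Category.assoc, hk₀, Category.assoc, hε]

end Groth.Agent.Helper4.NApx48
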