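import Groth.Prelude.Def_HTop3
import Groth.Agent.Helper4.NApx27
import Mathlib

set_option autoImplicit false
universe u

namespace Groth.Agent.Helper4.NApx51

open AlgebraicGeometry CategoryTheory Limits
open Groth.Agent.Helper4.NApx13 Groth.Agent.Helper4.NApx19

theorem awayFrom_eq {X : Scheme.{u}} (I : X.IdealSheafData) :
    HTop.awayFrom I = ModPair.interior I := rfl

set_option backward.isDefEq.respectTransparency false in
theorem quasiCompact_interior_ι {S : Scheme.{u}} (I : S.IdealSheafData)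
    (hI : HTop.IsLocPrincipal I) : QuasiCompact (ModPair.interior I).ι := by
  choose W hxW a hIa using hI
  have hsup : (⨆ x : S, (W x).1) = ⊤ := by
    rw [eq_top_iff]
    intro x _
    exact TopologicalSpace.Opens.mem_iSup.mpr ⟨x, hxW x⟩
  rw [HasAffineProperty.iff_of_iSup_eq_top (P := @QuasiCompact) (U := W) hsup]
  intro x
  have h1 : (ModPair.interior I).ι ''ᵁ ((ModPair.interior I).ι ⁻¹ᵁ (W x).1) = S.basicOpen (a x) := by
    rw [Scheme.Hom.image_preimage_eq_opensRange_inf, Scheme.Opens.opensRange_ι]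
    ext y
    have := interior_inter I (W x) (a x) (hIa x)
    exact Set.ext_iff.mp this y
  have h2 : IsAffineOpen ((ModPair.interior I).ι ⁻¹ᵁ (W x).1) := by
    rw [← (ModPair.interior I).ι.isAffineOpen_iff_of_isOpenImmersion, h1]
    exact (W x).2.basicOpen (a x)
  haveI : IsAffine ((ModPair.interior I).ι ⁻¹ᵁ (W x).1).toScheme := h2
  show CompactSpace ((ModPair.interior I).ι ⁻¹ᵁ (W x).1).toScheme
  infer_instance

theorem quasiCompact_preimage_interior_ι {X X' : Scheme.{u}} (I : X.IdealSheafData)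
    (hI : HTop.IsLocPrincipal I) (f : X' ⟶ X) :
    QuasiCompact (f ⁻¹ᵁ ModPair.interior I).ι := by
  haveI := quasiCompact_interior_ι I hI
  exact MorphismProperty.of_isPullback (P := @QuasiCompact)
    (isPullback_morphismRestrict f (ModPair.interior I)) inferInstance

/-- pullback of a locally principal ideal along a morphism for which the preimage of the complement
of its support is schematically dense is effective Cartier -/
theorem isEffCartierIdeal_comap {X X' : Scheme.{u}}
    (I : X.IdealSheafData) (hI : HTop.IsLocPrincipal I) (f : X' ⟶ X)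
    [IsSchemeTheoreticallyDominant (f ⁻¹ᵁ ModPair.interior I).ι] :
    BlowUp.IsEffCartierIdeal (I.comap f) := by
  haveI := quasiCompact_preimage_interior_ι I hI f
  intro y
  obtain ⟨W, hxW, a, hIa⟩ := hI (f y)
  obtain ⟨_, ⟨V, hV, rfl⟩, hyV, hVW⟩ :=
    X'.isBasis_affineOpens.exists_subset_of_mem_open (show y ∈ ((f ⁻¹ᵁ W.1 : X'.Opens) : Set X') from hxW)
      (f ⁻¹ᵁ W.1).isOpen
  have e : V ≤ f ⁻¹ᵁ W.1 := hVW
  refine ⟨⟨V, hV⟩, hyV, (f.appLE W.1 V e).hom a, ?_, ?_⟩
  · set ι₀ := (f ⁻¹ᵁ ModPair.interior I).ι with hι₀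
    have hinj : Function.Injective (ι₀.app V) := ι₀.app_injective V
    have hunit : IsUnit ((ι₀.app V).hom ((f.appLE W.1 V e).hom a)) := by
      apply RingedSpace.isUnit_of_isUnit_germ
      intro x' hx'
      have hx1 : ι₀ x' ∈ V := hx'
      have hx2 : f (ι₀ x') ∈ ModPair.interior I := x'.2
      have hx3 : f (ι₀ x') ∈ W.1 := e hx1
      have h2 : x' ∈ (f ⁻¹ᵁ ModPair.interior I).toScheme.basicOpen
          ((ι₀.app V).hom ((f.appLE W.1 V e).hom a)) := by
        rw [← Scheme.Hom.preimage_basicOpen]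
        show ι₀ x' ∈ X'.basicOpen ((f.appLE W.1 V e).hom a)
        rw [Scheme.Hom.appLE, CommRingCat.hom_comp, RingHom.comp_apply, Scheme.basicOpen_res,
          ← Scheme.Hom.preimage_basicOpen]
        refine ⟨hx1, ?_⟩
        show f (ι₀ x') ∈ X.basicOpen a
        have : f (ι₀ x') ∈ ((ModPair.interior I : X.Opens) : Set X) ∩ (W.1 : Set X) := ⟨hx2, hx3⟩
        rw [interior_inter I W a hIa] at this
        exact this
      exact (Scheme.mem_basicOpen _ _ _ hx').mp h2
    rw [mem_nonZeroDivisors_iff_right]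
    intro z hz
    apply hinj
    rw [map_zero]
    have h3 := congrArg (ι₀.app V).hom hz
    rw [map_mul, map_zero] at h3
    exact hunit.mul_left_eq_zero.mp h3
  · rw [Groth.Agent.Helper9.IdealComap.ideal_comap f I W ⟨V, hV⟩ e, hIa,
      Ideal.map_span, Set.image_singleton]

/-- locally principal ideals pull back to locally principal ideals -/
theorem isLocPrincipal_comap {X X' : Scheme.{u}}
    (I : X.IdealSheafData) (hI : HTop.IsLocPrincipal I) (f : X' ⟶ X) :
    HTop.IsLocPrincipal (I.comap f) := by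
  intro y
  obtain ⟨W, hxW, a, hIa⟩ := hI (f y)
  obtain ⟨_, ⟨V, hV, rfl⟩, hyV, hVW⟩ :=
    X'.isBasis_affineOpens.exists_subset_of_mem_open (show y ∈ ((f ⁻¹ᵁ W.1 : X'.Opens) : Set X') from hxW)
      (f ⁻¹ᵁ W.1).isOpen
  have e : V ≤ f ⁻¹ᵁ W.1 := hVW
  refine ⟨⟨V, hV⟩, hyV, (f.appLE W.1 V e).hom a, ?_⟩
  rw [Groth.Agent.Helper9.IdealComap.ideal_comap f I W ⟨V, hV⟩ e, hIa,
    Ideal.map_span, Set.image_singleton]

/-- a morphism under which a locally principal ideal becomes effective Cartier kills the sections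
supported on the ideal -/
theorem supportedOn_le_ker {X T : Scheme.{u}} (J : X.IdealSheafData) (t : T ⟶ X)
    (ht : BlowUp.IsEffCartierIdeal (J.comap t)) : HTop.supportedOn J ≤ t.ker := by
  have hpre : t ⁻¹ᵁ ModPair.interior J = ModPair.interior (J.comap t) := (interior_comap J t).symm
  haveI : IsSchemeTheoreticallyDominant (t ⁻¹ᵁ ModPair.interior J).ι := by
    rw [hpre]
    exact isSchemeTheoreticallyDominant_interior_ι _ ht
  have h := Groth.Agent.Helper4.NApx27.imageι_ker_le (ModPair.interior J) t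
  have h1 : (ModPair.interior J).ι.imageι.ker = (ModPair.interior J).ι.ker :=
    Scheme.IdealSheafData.ker_subschemeι _
  rw [h1] at h
  exact h

/-- the blow-up of a locally principal ideal is the closed subscheme cut out by the sections
supported on it -/
theorem isBlowUp_supportedOn {X : Scheme.{u}} (J : X.IdealSheafData) (hJ : HTop.IsLocPrincipal J) :
    BlowUp.IsBlowUp (HTop.supportedOn J).subschemeι J := by
  haveI := quasiCompact_interior_ι J hJ
  obtain ⟨dP, qP⟩ := Groth.Agent.Helper4.NApx23.toImage_dense (ModPair.interior J)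
  constructor
  · haveI : IsSchemeTheoreticallyDominant
        ((HTop.supportedOn J).subschemeι ⁻¹ᵁ ModPair.interior J).ι := dP
    exact isEffCartierIdeal_comap J hJ _
  · intro T t ht
    have hker : (HTop.supportedOn J).subschemeι.ker ≤ t.ker := by
      rw [Scheme.IdealSheafData.ker_subschemeι]
      exact supportedOn_le_ker J t ht
    refine ⟨IsClosedImmersion.lift (HTop.supportedOn J).subschemeι t hker,
      IsClosedImmersion.lift_fac _ _ _, ?_⟩
    intro α hα
    rw [← cancel_mono (HTop.supportedOn J).subschemeι, IsClosedImmersion.lift_fac, hα]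

/-- base change of the blow-up description of an almost blow up square -/
theorem isBlowUp_baseChange {X' X Y X₁ : Scheme.{u}} (𝓘 : X.IdealSheafData) (b : X' ⟶ X) (g : Y ⟶ X)
    (b₁ : X₁ ⟶ Y) (gX : X₁ ⟶ X') (hX : IsPullback gX b₁ b g)
    (hloc : HTop.IsLocPrincipal (𝓘.comap b))
    (hB : BlowUp.IsBlowUp ((HTop.supportedOn (𝓘.comap b)).subschemeι ≫ b) 𝓘)
    (𝓘₁ : Y.IdealSheafData) (h𝓘₁ : 𝓘₁ = 𝓘.comap g) :
    BlowUp.IsBlowUp ((HTop.supportedOn (𝓘₁.comap b₁)).subschemeι ≫ b₁) 𝓘₁ := by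
  subst h𝓘₁
  set 𝓙 := 𝓘.comap b with h𝓙
  set 𝓙₁ := (𝓘.comap g).comap b₁ with h𝓙₁
  have h𝓙₁' : 𝓙₁ = 𝓙.comap gX := by
    rw [h𝓙₁, h𝓙, ← Scheme.IdealSheafData.comap_comp, ← Scheme.IdealSheafData.comap_comp, hX.w]
  have hloc₁ : HTop.IsLocPrincipal 𝓙₁ := by
    rw [h𝓙₁']
    exact isLocPrincipal_comap 𝓙 hloc gX
  have hB' := isBlowUp_supportedOn 𝓙 hloc
  have hB₁ := isBlowUp_supportedOn 𝓙₁ hloc₁
  set ι := (HTop.supportedOn 𝓙).subschemeι with hι
  set ι₁ := (HTop.supportedOn 𝓙₁).subschemeι with hι₁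
  constructor
  · rw [Scheme.IdealSheafData.comap_comp]
    exact hB₁.1
  · intro T t ht
    have ht' : BlowUp.IsEffCartierIdeal (𝓘.comap (t ≫ g)) := by
      rw [Scheme.IdealSheafData.comap_comp]; exact ht
    obtain ⟨k, hk, hku⟩ := hB.2 T (t ≫ g) ht'
    -- the map to X₁
    have hw : (k ≫ ι) ≫ b = t ≫ g := by rw [Category.assoc]; exact hk
    set l := hX.lift (k ≫ ι) t hw with hl
    have hl1 : l ≫ gX = k ≫ ι := hX.lift_fst _ _ _
    have hl2 : l ≫ b₁ = t := hX.lift_snd _ _ _
    have hlc : BlowUp.IsEffCartierIdeal (𝓙₁.comap l) := by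
      rw [h𝓙₁, ← Scheme.IdealSheafData.comap_comp, hl2]
      exact ht
    obtain ⟨m, hm, hmu⟩ := hB₁.2 T l hlc
    refine ⟨m, ?_, ?_⟩
    · show m ≫ ι₁ ≫ b₁ = t
      rw [← Category.assoc, hm, hl2]
    · intro m' hm'
      have hm'' : m' ≫ ι₁ ≫ b₁ = t := hm'
      apply hmu
      -- m' ≫ ι₁ = l
      have hc : BlowUp.IsEffCartierIdeal (𝓙.comap ((m' ≫ ι₁) ≫ gX)) := by
        have : 𝓙.comap ((m' ≫ ι₁) ≫ gX) = (𝓘.comap g).comap t := by
          rw [Scheme.IdealSheafData.comap_comp, ← h𝓙₁']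
          show ((𝓘.comap g).comap b₁).comap (m' ≫ ι₁) = _
          rw [← Scheme.IdealSheafData.comap_comp, Category.assoc, hm'']
        rw [this]
        exact ht
      obtain ⟨k', hk', -⟩ := hB'.2 T ((m' ≫ ι₁) ≫ gX) hc
      have hk'' : k' ≫ ι ≫ b = t ≫ g := by
        rw [← Category.assoc, hk', Category.assoc, hX.w, ← Category.assoc, Category.assoc m',
          hm'']
      have hkk : k' = k := hku k' hk''
      apply hX.hom_ext
      · rw [hl1, ← hk', hkk]
      · rw [hl2, Category.assoc, hm'']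

end Groth.Agent.Helper4.NApx51
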