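import Mathlib

set_option autoImplicit false
universe u

namespace Groth.Agent.Helper4.NApx52

open AdicCompletion

section lemmaA

variable {C B : Type*} [CommRing C] [CommRing B] (𝔞 : Ideal C) (J : Ideal B) [IsAdicComplete J B]
  (ψ₁ : C →+* B) (h : 𝔞.map ψ₁ ≤ J)

include h in
theorem pow_le_comap (n : ℕ) : 𝔞 ^ n ≤ (J ^ n).comap ψ₁ := by
  rw [← Ideal.map_le_iff_le_comap, Ideal.map_pow]
  exact Ideal.pow_right_mono h n

/-- the compatible family defining the extension to the completion -/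
noncomputable def fam (n : ℕ) : AdicCompletion 𝔞 C →+* B ⧸ J ^ n :=
  (Ideal.quotientMap (J ^ n) ψ₁ (pow_le_comap 𝔞 J ψ₁ h n)).comp
    ((evalₐ 𝔞 n : AdicCompletion 𝔞 C →ₐ[C] C ⧸ 𝔞 ^ n) : AdicCompletion 𝔞 C →+* C ⧸ 𝔞 ^ n)

theorem fam_mk (n : ℕ) (c : AdicCauchySequence 𝔞 C) :
    fam 𝔞 J ψ₁ h n (AdicCompletion.mk 𝔞 C c) = Ideal.Quotient.mk (J ^ n) (ψ₁ (c.val n)) := by
  show (Ideal.quotientMap (J ^ n) ψ₁ (pow_le_comap 𝔞 J ψ₁ h n))
    (evalₐ 𝔞 n (AdicCompletion.mk 𝔞 C c)) = _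
  rw [evalₐ_mk, Ideal.quotientMap_mk]

theorem fam_compat {m n : ℕ} (hle : m ≤ n) :
    (Ideal.Quotient.factorPow J hle).comp (fam 𝔞 J ψ₁ h n) = fam 𝔞 J ψ₁ h m := by
  refine RingHom.ext fun x => ?_
  obtain ⟨c, rfl⟩ := AdicCompletion.mk_surjective 𝔞 C x
  rw [RingHom.comp_apply, fam_mk, fam_mk]
  show Ideal.Quotient.mk (J ^ m) (ψ₁ (c.val n)) = Ideal.Quotient.mk (J ^ m) (ψ₁ (c.val m))
  rw [Ideal.Quotient.eq, ← map_sub]
  have h1 : c.val n - c.val m ∈ 𝔞 ^ m := by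
    rw [← Ideal.Quotient.eq]
    exact AdicCompletion.Ideal.mk_eq_mk 𝔞 hle c
  exact pow_le_comap 𝔞 J ψ₁ h m h1

/-- extension of a ring hom to the completion, the target being complete -/
noncomputable def ext : AdicCompletion 𝔞 C →+* B :=
  IsAdicComplete.liftRingHom J (fam 𝔞 J ψ₁ h) (fun hle => fam_compat 𝔞 J ψ₁ h hle)

theorem mk_ext (n : ℕ) (x : AdicCompletion 𝔞 C) :
    Ideal.Quotient.mk (J ^ n) (ext 𝔞 J ψ₁ h x) = fam 𝔞 J ψ₁ h n x :=
  IsAdicComplete.mk_liftRingHom J _ _ n x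

theorem ext_of (c : C) : ext 𝔞 J ψ₁ h (AdicCompletion.of 𝔞 C c) = ψ₁ c := by
  rw [IsHausdorff.eq_iff_smodEq (I := J)]
  intro n
  rw [SModEq, smul_eq_mul, Ideal.mul_top]
  show Ideal.Quotient.mk (J ^ n) _ = Ideal.Quotient.mk (J ^ n) _
  rw [mk_ext]
  show (Ideal.quotientMap (J ^ n) ψ₁ (pow_le_comap 𝔞 J ψ₁ h n))
    (evalₐ 𝔞 n (AdicCompletion.of 𝔞 C c)) = _
  rw [evalₐ_of, Ideal.quotientMap_mk]

end lemmaA

theorem algebraMap_self_apply {C : Type*} [CommRing C] (𝔞 : Ideal C) (c : C) :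
    algebraMap C (AdicCompletion 𝔞 C) c = AdicCompletion.of 𝔞 C c := by
  rw [AdicCompletion.algebraMap_apply]
  rfl

section lemmaB

variable {C B : Type*} [CommRing C] [CommRing B] (𝔞 : Ideal C) (J : Ideal B) [IsHausdorff J B]

/-- density of the image in the completion for a finitely generated ideal -/
theorem ringHom_ext_of_fg (h𝔞 : 𝔞.FG) (Ψ Ψ' : AdicCompletion 𝔞 C →+* B)
    (hJ : ∀ a ∈ 𝔞, Ψ (AdicCompletion.of 𝔞 C a) ∈ J)
    (heq : ∀ c : C, Ψ (AdicCompletion.of 𝔞 C c) = Ψ' (AdicCompletion.of 𝔞 C c)) : Ψ = Ψ' := by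
  have key : ∀ (Φ : AdicCompletion 𝔞 C →+* B), (∀ a ∈ 𝔞, Φ (AdicCompletion.of 𝔞 C a) ∈ J) →
      ∀ (n : ℕ) (y : AdicCompletion 𝔞 C), y ∈ (𝔞 ^ n • ⊤ : Submodule C (AdicCompletion 𝔞 C)) →
        Φ y ∈ J ^ n := by
    intro Φ hΦ n y hy
    have hpow : ∀ a ∈ 𝔞 ^ n, Φ (AdicCompletion.of 𝔞 C a) ∈ J ^ n := by
      intro a ha
      have h1 : 𝔞 ^ n ≤ (J ^ n).comap (Φ.comp (algebraMap C (AdicCompletion 𝔞 C))) := by
        rw [← Ideal.map_le_iff_le_comap, Ideal.map_pow]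
        refine Ideal.pow_right_mono ?_ n
        rw [Ideal.map_le_iff_le_comap]
        intro b hb
        show Φ (algebraMap C (AdicCompletion 𝔞 C) b) ∈ J
        rw [AdicCompletion.algebraMap_apply]
        exact hΦ b hb
      have h2 := h1 ha
      have h3 : Φ (algebraMap C (AdicCompletion 𝔞 C) a) ∈ J ^ n := h2
      rw [AdicCompletion.algebraMap_apply] at h3
      exact h3
    refine Submodule.smul_induction_on hy ?_ ?_
    · intro a ha z _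
      have : a • z = AdicCompletion.of 𝔞 C a * z := by
        rw [Algebra.smul_def, AdicCompletion.algebraMap_apply]
        rfl
      rw [this, map_mul]
      exact Ideal.mul_mem_right _ _ (hpow a ha)
    · intro y z hy hz
      rw [map_add]
      exact Ideal.add_mem _ hy hz
  have hJ' : ∀ a ∈ 𝔞, Ψ' (AdicCompletion.of 𝔞 C a) ∈ J := fun a ha => by
    rw [← heq]; exact hJ a ha
  refine RingHom.ext fun x => ?_
  rw [IsHausdorff.eq_iff_smodEq (I := J)]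
  intro n
  rw [SModEq, smul_eq_mul, Ideal.mul_top]
  show Ideal.Quotient.mk (J ^ n) _ = Ideal.Quotient.mk (J ^ n) _
  rw [Ideal.Quotient.eq]
  obtain ⟨c, hc⟩ := Ideal.Quotient.mk_surjective (evalₐ 𝔞 n x)
  have hx : x - AdicCompletion.of 𝔞 C c ∈ (𝔞 ^ n • ⊤ : Submodule C (AdicCompletion 𝔞 C)) := by
    rw [AdicCompletion.pow_smul_top_eq_ker_eval h𝔞, LinearMap.mem_ker, map_sub, sub_eq_zero]
    have h1 : evalₐ 𝔞 n x = evalₐ 𝔞 n (AdicCompletion.of 𝔞 C c) := by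
      rw [evalₐ_of, hc]
    have h2 := congrArg (Ideal.Quotient.factor (show 𝔞 ^ n ≤ 𝔞 ^ n • ⊤ from
      le_of_eq (by rw [smul_eq_mul, Ideal.mul_top]))) h1
    rw [factor_evalₐ_eq_eval, factor_evalₐ_eq_eval] at h2
    exact h2
  have e1 : Ψ x - Ψ' x = Ψ (x - AdicCompletion.of 𝔞 C c) - Ψ' (x - AdicCompletion.of 𝔞 C c) := by
    rw [map_sub, map_sub, heq c]; ring
  rw [e1]
  exact Ideal.sub_mem _ (key Ψ hJ n _ hx) (key Ψ' hJ' n _ hx)

end lemmaB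

end Groth.Agent.Helper4.NApx52
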