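import Groth.Prelude.Def_HTop3
import Groth.Agent.Helper4.NApx51
import Groth.Agent.Helper4.NApx31
import Mathlib

set_option autoImplicit false
universe u

namespace Groth.Agent.Helper4.NApx53

open AlgebraicGeometry CategoryTheory Limits
open Groth.Agent.Helper4.NApx51

/-- passing to a closed subscheme containing the blow-up, in an almost blow up square -/
theorem isBlowUp_sub_iff {X' X W : Scheme.{u}} (𝓘 : X.IdealSheafData) (b : X' ⟶ X) (w : W ⟶ X')
    [IsClosedImmersion w] (hloc : HTop.IsLocPrincipal (𝓘.comap b))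
    (hB : BlowUp.IsBlowUp ((HTop.supportedOn (𝓘.comap b)).subschemeι ≫ b) 𝓘) :
    w.ker ≤ HTop.supportedOn (𝓘.comap b) ↔
      BlowUp.IsBlowUp ((HTop.supportedOn (𝓘.comap (w ≫ b))).subschemeι ≫ w ≫ b) 𝓘 := by
  set 𝓙 := 𝓘.comap b with h𝓙
  set 𝓙W := 𝓘.comap (w ≫ b) with h𝓙W
  have h𝓙W' : 𝓙W = 𝓙.comap w := by
    rw [h𝓙W, h𝓙, Scheme.IdealSheafData.comap_comp]
  have hlocW : HTop.IsLocPrincipal 𝓙W := by
    rw [h𝓙W']
    exact isLocPrincipal_comap 𝓙 hloc w
  have hB' := isBlowUp_supportedOn 𝓙 hloc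
  have hBW := isBlowUp_supportedOn 𝓙W hlocW
  set ι := (HTop.supportedOn 𝓙).subschemeι with hι
  set ιW := (HTop.supportedOn 𝓙W).subschemeι with hιW
  have hιker : ι.ker = HTop.supportedOn 𝓙 := Scheme.IdealSheafData.ker_subschemeι _
  -- the map B_W → B
  have hcW : BlowUp.IsEffCartierIdeal (𝓙.comap (ιW ≫ w)) := by
    rw [Scheme.IdealSheafData.comap_comp, ← h𝓙W']
    exact hBW.1
  obtain ⟨v', hv', hv'u⟩ := hB'.2 _ (ιW ≫ w) hcW
  constructor
  · intro hle
    have hle' : w.ker ≤ ι.ker := by rw [hιker]; exact hle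
    set u := IsClosedImmersion.lift w ι hle' with hu
    have huw : u ≫ w = ι := IsClosedImmersion.lift_fac w ι hle'
    have hcu : BlowUp.IsEffCartierIdeal (𝓙W.comap u) := by
      rw [h𝓙W', ← Scheme.IdealSheafData.comap_comp, huw]
      exact hB'.1
    obtain ⟨v, hv, hvu⟩ := hBW.2 _ u hcu
    have h1 : v ≫ v' = 𝟙 _ := by
      rw [← cancel_mono ι, Category.assoc, hv', ← Category.assoc, hv, huw, Category.id_comp]
    have h2 : v' ≫ v = 𝟙 _ := by
      rw [← cancel_mono (ιW ≫ w), Category.assoc, ← Category.assoc v, hv, huw, hv',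
        Category.id_comp]
    have hiso := Groth.Agent.Helper4.NApx31.isBlowUp_of_iso 𝓘
      (⟨v', v, h2, h1⟩ : (HTop.supportedOn 𝓙W).subscheme ≅ (HTop.supportedOn 𝓙).subscheme)
      (ι ≫ b) hB
    have : v' ≫ ι ≫ b = ιW ≫ w ≫ b := by
      rw [← Category.assoc, hv', Category.assoc]
    rw [← this]
    exact hiso
  · intro hBW2
    obtain ⟨s, hs, -⟩ := hBW2.2 _ (ι ≫ b) hB.1
    have h1 : (s ≫ v') ≫ ι ≫ b = ι ≫ b := by
      rw [Category.assoc, ← Category.assoc v', hv', Category.assoc]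
      exact hs
    have h2 : s ≫ v' = 𝟙 _ :=
      (hB.2 _ (ι ≫ b) hB.1).unique h1 (Category.id_comp _)
    have h3 : ι = (s ≫ ιW) ≫ w := by
      rw [Category.assoc, ← hv', ← Category.assoc, h2, Category.id_comp]
    rw [← hιker, h3]
    exact Scheme.Hom.le_ker_comp _ _

end Groth.Agent.Helper4.NApx53
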