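import Groth.Prelude.Def_HTop3
import Groth.Agent.Helper4.NApx51
import Groth.Agent.Helper4.NApx45
import Groth.Agent.Helper4.NApx31
import Groth.Agent.Helper4.NApx49
import Groth.Agent.Helper4.NApx20
import Groth.Agent.Helper4.NApx4
import Groth.Agent.Lead.ClImmLim
import Groth.Agent.Lead.ThickBC
import Groth.Agent.S0590
import Groth.Agent.S9220
import Groth.Agent.S8982
import Mathlib

set_option autoImplicit false
universe u

namespace Groth.Agent.Helper4.NApx54

open AlgebraicGeometry CategoryTheory Limits Opposite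
open Groth.Agent.Helper4.NApx19

theorem supportedOn_eq_bot {X : Scheme.{u}} (E : X.IdealSheafData)
    (hE : BlowUp.IsEffCartierIdeal E) : HTop.supportedOn E = ⊥ := by
  haveI := isSchemeTheoreticallyDominant_interior_ι E hE
  exact IsSchemeTheoreticallyDominant.ker_eq_bot (ModPair.interior E).ι

theorem isLocPrincipal_of_isEffCartier {X : Scheme.{u}} (E : X.IdealSheafData)
    (hE : BlowUp.IsEffCartierIdeal E) : HTop.IsLocPrincipal E := by
  intro x
  obtain ⟨U, hxU, f, -, hf⟩ := hE x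
  exact ⟨U, hxU, f, hf⟩

/-- a proper finitely presented blow-up gives an almost blow up square -/
theorem isAlmostBlowUpSquare_of_isBlowUp {X B : Scheme.{u}} (J : X.IdealSheafData) (b : B ⟶ X)
    (hb : BlowUp.IsBlowUp b J) (hprop : IsProper b) (hfp : LocallyOfFinitePresentation b)
    (hJfp : LocallyOfFinitePresentation J.subschemeι) :
    HTop.IsAlmostBlowUpSquare (pullback.fst b J.subschemeι) (pullback.snd b J.subschemeι) b
      J.subschemeι := by
  refine ⟨inferInstance, hJfp, IsPullback.of_hasPullback b J.subschemeι, ?_, hprop, hfp, ?_⟩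
  · rw [Scheme.IdealSheafData.ker_subschemeι]
    exact isLocPrincipal_of_isEffCartier _ hb.1
  · rw [Scheme.IdealSheafData.ker_subschemeι]
    have hbot : HTop.supportedOn (J.comap b) = ⊥ := supportedOn_eq_bot _ hb.1
    haveI : IsIso (HTop.supportedOn (J.comap b)).subschemeι :=
      Groth.Agent.Helper4.NApx20.isIso_of_isClosedImmersion_of_ker_eq_bot _
        (by rw [Scheme.IdealSheafData.ker_subschemeι]; exact hbot)
    exact Groth.Agent.Helper4.NApx31.isBlowUp_of_iso J
      (asIso (HTop.supportedOn (J.comap b)).subschemeι) b hb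

/-- replacing the centre of an almost blow up square by an isomorphic one -/
theorem isAlmostBlowUpSquare_of_iso_centre {E Z Z' X' X : Scheme.{u}} {e : E ⟶ X'} {π : E ⟶ Z}
    {b : X' ⟶ X} {i : Z ⟶ X} (h : HTop.IsAlmostBlowUpSquare e π b i) (θ : Z ≅ Z') (i' : Z' ⟶ X)
    (hi' : θ.hom ≫ i' = i) : HTop.IsAlmostBlowUpSquare e (π ≫ θ.hom) b i' := by
  haveI := h.isClosedImmersion
  haveI := h.finitePresentation_base
  have hi'' : i' = θ.inv ≫ i := by rw [← hi', Iso.inv_hom_id_assoc]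
  have hker : i'.ker = i.ker := by
    rw [← hi', Scheme.Hom.ker_comp_of_isIso]
  have hcl : IsClosedImmersion i' := by rw [hi'']; infer_instance
  have hlfp : LocallyOfFinitePresentation i' := by rw [hi'']; infer_instance
  refine ⟨hcl, hlfp, ?_, ?_, h.isProper, h.finitePresentation, ?_⟩
  · have h2 : IsPullback i θ.hom (𝟙 X) i' :=
      IsPullback.of_vert_isIso ⟨by rw [hi', Category.comp_id]⟩
    have := h.isPullback.paste_vert h2
    rw [Category.comp_id] at this
    exact this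
  · rw [hker]; exact h.locPrincipal
  · rw [hker]; exact h.isBlowUp

/-- closed immersions with the same ideal are isomorphic over the target -/
theorem exists_iso_of_ker_eq {Z₁ Z₂ X : Scheme.{u}} (i₁ : Z₁ ⟶ X) (i₂ : Z₂ ⟶ X)
    [IsClosedImmersion i₁] [IsClosedImmersion i₂] (h : i₁.ker = i₂.ker) :
    ∃ θ : Z₁ ≅ Z₂, θ.hom ≫ i₂ = i₁ := by
  set u := IsClosedImmersion.lift i₂ i₁ (le_of_eq h.symm) with hu
  set v := IsClosedImmersion.lift i₁ i₂ (le_of_eq h) with hv
  have hu' : u ≫ i₂ = i₁ := IsClosedImmersion.lift_fac _ _ _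
  have hv' : v ≫ i₁ = i₂ := IsClosedImmersion.lift_fac _ _ _
  refine ⟨⟨u, v, ?_, ?_⟩, hu'⟩
  · rw [← cancel_mono i₁, Category.assoc, hv', hu', Category.id_comp]
  · rw [← cancel_mono i₂, Category.assoc, hu', hv', Category.id_comp]

theorem exists_isAlmostBlowUpSquare {Z X : Scheme.{u}} [CompactSpace X] [QuasiSeparatedSpace X]
    (i : Z ⟶ X) [IsClosedImmersion i] [LocallyOfFinitePresentation i] :
    ∃ (E X' : Scheme.{u}) (e : E ⟶ X') (π : E ⟶ Z) (b : X' ⟶ X),
      HTop.IsAlmostBlowUpSquare e π b i := by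
  obtain ⟨I, _, _, _, D, c, hc, haff, hft, ⟨eS⟩⟩ := Groth.Agent.S0590.result X
  haveI : ∀ (i j : Iᵒᵖ) (f : i ⟶ j), IsAffineHom (D.map f) := haff
  haveI : ∀ i, CompactSpace (D.obj i) := fun i => (hft i).1
  haveI hlN : ∀ i, IsLocallyNoetherian (D.obj i) := fun i => by
    haveI := (hft i).2
    exact LocallyOfFiniteType.isLocallyNoetherian (specULiftZIsTerminal.from (D.obj i))
  haveI : ∀ i, QuasiSeparatedSpace (D.obj i) := fun i => inferInstance
  -- the ideal on the limit
  set J : c.pt.IdealSheafData := i.ker.comap eS.hom with hJ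
  have hJfg : ∀ U : c.pt.affineOpens, (J.ideal U).FG :=
    Groth.Agent.Helper4.NApx11.comap_fg eS.hom i.ker
      (Groth.Agent.Helper4.NApx11.ker_fg_of_lfp i)
  obtain ⟨i₀, Ji, hJi, hcomap⟩ := Groth.Agent.S9220.result D c hc J hJfg
  obtain ⟨B₀, b₀, hb₀⟩ := Groth.Agent.Helper4.NApx45.exists_isBlowUp (D.obj i₀) Ji
  have hprop : IsProper b₀ := Groth.Agent.Helper4.NApx49.isProper_of_isBlowUp Ji hJi b₀ hb₀
  have hfp : LocallyOfFinitePresentation b₀ :=
    Groth.Agent.Helper4.NApx4.lofp_of_loft_of_isLocallyNoetherian b₀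
  have hJfp : LocallyOfFinitePresentation Ji.subschemeι :=
    Groth.Agent.Lead.ClImmLim.lfp_subschemeι Ji hJi
  have h₀ := isAlmostBlowUpSquare_of_isBlowUp Ji b₀ hb₀ hprop hfp hJfp
  set g : X ⟶ D.obj i₀ := eS.inv ≫ c.π.app i₀ with hg
  -- base change
  set e₀ := pullback.fst b₀ Ji.subschemeι with he₀
  set π₀ := pullback.snd b₀ Ji.subschemeι with hπ₀
  set gX := pullback.fst b₀ g with hgX
  set b₁ := pullback.snd b₀ g with hb₁
  set gZ := pullback.fst Ji.subschemeι g with hgZ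
  set i₁ := pullback.snd Ji.subschemeι g with hi₁
  set gE := pullback.fst e₀ gX with hgE
  set e₁ := pullback.snd e₀ gX with he₁
  have hX : IsPullback gX b₁ b₀ g := IsPullback.of_hasPullback b₀ g
  have hZ : IsPullback gZ i₁ Ji.subschemeι g := IsPullback.of_hasPullback Ji.subschemeι g
  have hE : IsPullback gE e₁ e₀ gX := IsPullback.of_hasPullback e₀ gX
  have hcomm : (gE ≫ π₀) ≫ Ji.subschemeι = (e₁ ≫ b₁) ≫ g := by
    calc (gE ≫ π₀) ≫ Ji.subschemeι = gE ≫ e₀ ≫ b₀ := by
          rw [Category.assoc, ← h₀.isPullback.w]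
      _ = (e₁ ≫ gX) ≫ b₀ := by rw [← Category.assoc, hE.w]
      _ = (e₁ ≫ b₁) ≫ g := by rw [Category.assoc, hX.w, Category.assoc]
  set π₁ := hZ.lift (gE ≫ π₀) (e₁ ≫ b₁) hcomm with hπ₁
  have hπ : π₁ ≫ i₁ = e₁ ≫ b₁ := hZ.lift_snd _ _ _
  have h₁ := Groth.Agent.S8982.result h₀ g hX hZ hE hπ
  -- identify the centre
  haveI : IsClosedImmersion i₁ := h₁.isClosedImmersion
  have hker : i₁.ker = i.ker := by
    rw [Groth.Agent.Lead.ThickBC.ker_eq_comap hZ.flip, Scheme.IdealSheafData.ker_subschemeι, hg,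
      Scheme.IdealSheafData.comap_comp, hcomap, hJ, ← Scheme.IdealSheafData.comap_comp,
      Iso.inv_hom_id, Scheme.IdealSheafData.comap_id]
  obtain ⟨θ, hθ⟩ := exists_iso_of_ker_eq i₁ i hker
  exact ⟨_, _, e₁, π₁ ≫ θ.hom, b₁, isAlmostBlowUpSquare_of_iso_centre h₁ θ i hθ⟩

end Groth.Agent.Helper4.NApx54
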