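import Groth.Prelude.Def_HTop3
import Groth.Agent.Helper4.NApx53
import Groth.Agent.Helper4.NApx27
import Groth.Agent.S7379
import Groth.Agent.S0594
import Mathlib

set_option autoImplicit false
universe u

namespace Groth.Agent.Helper4.NApx55

open AlgebraicGeometry CategoryTheory Limits Opposite

/-- one step: a cofiltered system of closed subschemes of `P`, of finite type over `P`, whose limit
maps by a closed immersion to `Y`, has a member mapping by a closed immersion to `Y` -/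
theorem exists_stage_closedImmersion {P Y B : Scheme.{u}} [CompactSpace P] [QuasiSeparatedSpace P]
    [CompactSpace Y] [QuasiSeparatedSpace Y]
    (p : P ⟶ Y) [LocallyOfFiniteType p] (δ : B ⟶ P) [IsClosedImmersion (δ ≫ p)]
    {I : Type u} [Preorder I] [IsDirected I (fun a b => a ≤ b)] [Nonempty I]
    (D : Iᵒᵖ ⥤ Over P) (c : Cone D) (hc : IsLimit c)
    (hD : ∀ i, IsClosedImmersion (D.obj i).hom ∧ LocallyOfFinitePresentation (D.obj i).hom)
    (ε : c.pt ≅ Over.mk δ) :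
    ∃ i : Iᵒᵖ, IsClosedImmersion ((D.obj i).hom ≫ p) := by
  haveI : IsConnected Iᵒᵖ := IsCofiltered.isConnected _
  have hcl : ∀ i, IsClosedImmersion (D.obj i).hom := fun i => (hD i).1
  have hfp : ∀ i, LocallyOfFinitePresentation (D.obj i).hom := fun i => (hD i).2
  set D' : Iᵒᵖ ⥤ Scheme.{u} := D ⋙ Over.forget P with hD'
  set t : D' ⟶ (Functor.const Iᵒᵖ).obj Y :=
    { app := fun a => (D.obj a).hom ≫ p
      naturality := fun a b f => by
        show (D.map f).left ≫ (D.obj b).hom ≫ p = ((D.obj a).hom ≫ p) ≫ 𝟙 Y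
        rw [Category.comp_id, ← Category.assoc, Over.w] } with ht
  set c' : Cone D' := (Over.forget P).mapCone c with hc'
  have hcl' : IsLimit c' := isLimitOfPreserves (Over.forget P) hc
  haveI : ∀ (i j : Iᵒᵖ) (f : i ⟶ j), IsClosedImmersion (D'.map f) := by
    intro i k a
    show IsClosedImmersion (D.map a).left
    haveI := hcl k
    haveI : IsClosedImmersion ((D.map a).left ≫ (D.obj k).hom) := by
      rw [Over.w]; exact hcl i
    exact IsClosedImmersion.of_comp (D.map a).left (D.obj k).hom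
  haveI : ∀ i, CompactSpace (D'.obj i) := fun i => by
    haveI := hcl i
    show CompactSpace (D.obj i).left
    exact QuasiCompact.compactSpace_of_compactSpace (D.obj i).hom
  haveI : ∀ i, QuasiSeparatedSpace (D'.obj i) := fun i => by
    haveI := hcl i
    show QuasiSeparatedSpace (D.obj i).left
    exact quasiSeparatedSpace_of_quasiSeparated (D.obj i).hom
  haveI : ∀ i, LocallyOfFiniteType (t.app i) := fun i => by
    haveI := hfp i
    show LocallyOfFiniteType ((D.obj i).hom ≫ p)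
    infer_instance
  obtain ⟨i₀⟩ : Nonempty Iᵒᵖ := inferInstance
  haveI : IsClosedImmersion (c'.π.app i₀ ≫ t.app i₀) := by
    have h1 : c'.π.app i₀ ≫ t.app i₀ = ε.hom.left ≫ δ ≫ p := by
      show (c.π.app i₀).left ≫ (D.obj i₀).hom ≫ p = ε.hom.left ≫ δ ≫ p
      rw [← Category.assoc, Over.w, ← Category.assoc]
      congr 1
      exact (Over.w ε.hom).symm
    rw [h1]
    haveI : IsIso ε.hom.left := (Over.forget _).map_isIso ε.hom
    haveI : IsClosedImmersion (δ ≫ p) := ‹_›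
    exact IsClosedImmersion.comp ε.hom.left (δ ≫ p)
  obtain ⟨i, hi⟩ := Groth.Agent.S0594.result Y D' t c' hcl' i₀
  exact ⟨i, hi⟩

theorem exists_dominating {Z X E₁ X₁ E₂ X₂ : Scheme.{u}} [CompactSpace X] [QuasiSeparatedSpace X]
    (i : Z ⟶ X) [IsClosedImmersion i] [LocallyOfFinitePresentation i]
    {e₁ : E₁ ⟶ X₁} {π₁ : E₁ ⟶ Z} {b₁ : X₁ ⟶ X} (h₁ : HTop.IsAlmostBlowUpSquare e₁ π₁ b₁ i)
    {e₂ : E₂ ⟶ X₂} {π₂ : E₂ ⟶ Z} {b₂ : X₂ ⟶ X} (h₂ : HTop.IsAlmostBlowUpSquare e₂ π₂ b₂ i) :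
    ∃ (E X' : Scheme.{u}) (e : E ⟶ X') (π : E ⟶ Z) (b : X' ⟶ X) (j₁ : X' ⟶ X₁) (j₂ : X' ⟶ X₂),
      HTop.IsAlmostBlowUpSquare e π b i ∧ IsClosedImmersion j₁ ∧ IsClosedImmersion j₂ ∧
        j₁ ≫ b₁ = b ∧ j₂ ≫ b₂ = b := by
  haveI := h₁.isProper
  haveI := h₂.isProper
  haveI := h₁.finitePresentation
  haveI := h₂.finitePresentation
  set ι₁ := (HTop.supportedOn (i.ker.comap b₁)).subschemeι with hι₁
  set ι₂ := (HTop.supportedOn (i.ker.comap b₂)).subschemeι with hι₂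
  obtain ⟨θ, hθ⟩ := Groth.Agent.Helper4.NApx27.isBlowUp_unique i.ker (ι₁ ≫ b₁) (ι₂ ≫ b₂)
    h₁.isBlowUp h₂.isBlowUp
  set p₁ := pullback.fst b₁ b₂ with hp₁
  set p₂ := pullback.snd b₁ b₂ with hp₂
  have hδc : ι₁ ≫ b₁ = (θ.hom ≫ ι₂) ≫ b₂ := by rw [Category.assoc, hθ]
  set δ := pullback.lift ι₁ (θ.hom ≫ ι₂) hδc with hδ
  have hδ1 : δ ≫ p₁ = ι₁ := pullback.lift_fst _ _ _
  have hδ2 : δ ≫ p₂ = θ.hom ≫ ι₂ := pullback.lift_snd _ _ _
  haveI hc1 : IsClosedImmersion (δ ≫ p₁) := by rw [hδ1]; infer_instance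
  haveI hc2 : IsClosedImmersion (δ ≫ p₂) := by rw [hδ2]; infer_instance
  haveI : IsClosedImmersion δ := IsClosedImmersion.of_comp δ p₁
  haveI : CompactSpace X₁ := QuasiCompact.compactSpace_of_compactSpace b₁
  haveI : QuasiSeparatedSpace X₁ := quasiSeparatedSpace_of_quasiSeparated b₁
  haveI : CompactSpace X₂ := QuasiCompact.compactSpace_of_compactSpace b₂
  haveI : QuasiSeparatedSpace X₂ := quasiSeparatedSpace_of_quasiSeparated b₂
  haveI : CompactSpace ↑(pullback b₁ b₂) := QuasiCompact.compactSpace_of_compactSpace p₁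
  haveI : QuasiSeparatedSpace ↑(pullback b₁ b₂) := quasiSeparatedSpace_of_quasiSeparated p₁
  obtain ⟨I, _, _, _, D, c, hc, hD, ⟨ε⟩⟩ := Groth.Agent.S7379.result δ
  obtain ⟨μ₁, hμ₁⟩ := exists_stage_closedImmersion p₁ δ D c hc hD ε
  obtain ⟨μ₂, hμ₂⟩ := exists_stage_closedImmersion p₂ δ D c hc hD ε
  obtain ⟨ν, hν1, hν2⟩ := exists_ge_ge μ₁.unop μ₂.unop
  have hcl : ∀ i, IsClosedImmersion (D.obj i).hom := fun i => (hD i).1
  have hfp : ∀ i, LocallyOfFinitePresentation (D.obj i).hom := fun i => (hD i).2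
  set v := (D.obj (op ν)).hom with hv
  haveI := hcl (op ν)
  haveI := hfp (op ν)
  have a₁ : op ν ⟶ μ₁ := (homOfLE hν1).op
  have a₂ : op ν ⟶ μ₂ := (homOfLE hν2).op
  have hj₁ : IsClosedImmersion (v ≫ p₁) := by
    have : v ≫ p₁ = (D.map a₁).left ≫ (D.obj μ₁).hom ≫ p₁ := by
      rw [← Category.assoc, Over.w]
    rw [this]
    haveI := hcl μ₁
    haveI : IsClosedImmersion ((D.map a₁).left ≫ (D.obj μ₁).hom) := by
      rw [Over.w]; exact hcl (op ν)
    haveI : IsClosedImmersion (D.map a₁).left :=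
      IsClosedImmersion.of_comp (D.map a₁).left (D.obj μ₁).hom
    infer_instance
  have hj₂ : IsClosedImmersion (v ≫ p₂) := by
    have : v ≫ p₂ = (D.map a₂).left ≫ (D.obj μ₂).hom ≫ p₂ := by
      rw [← Category.assoc, Over.w]
    rw [this]
    haveI := hcl μ₂
    haveI : IsClosedImmersion ((D.map a₂).left ≫ (D.obj μ₂).hom) := by
      rw [Over.w]; exact hcl (op ν)
    haveI : IsClosedImmersion (D.map a₂).left :=
      IsClosedImmersion.of_comp (D.map a₂).left (D.obj μ₂).hom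
    infer_instance
  haveI := hj₁
  haveI : LocallyOfFinitePresentation (v ≫ p₁) := inferInstance
  -- the ideal condition
  set κ := ε.inv.left ≫ (c.π.app (op ν)).left with hκ
  have hκv : κ ≫ v = δ := by
    rw [hκ, Category.assoc, Over.w]
    exact Over.w ε.inv
  have hκj : κ ≫ v ≫ p₁ = ι₁ := by rw [← Category.assoc, hκv, hδ1]
  have hker : (v ≫ p₁).ker ≤ HTop.supportedOn (i.ker.comap b₁) := by
    have h1 : ι₁.ker = HTop.supportedOn (i.ker.comap b₁) :=
      Scheme.IdealSheafData.ker_subschemeι _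
    rw [← h1, ← hκj]
    exact Scheme.Hom.le_ker_comp _ _
  -- apply the closed-subscheme criterion
  have hEW : IsPullback (pullback.fst e₁ (v ≫ p₁)) (pullback.snd e₁ (v ≫ p₁)) e₁ (v ≫ p₁) :=
    IsPullback.of_hasPullback _ _
  have key := Groth.Agent.Helper4.NApx53.isBlowUp_sub_iff i.ker b₁ (v ≫ p₁) h₁.locPrincipal
    h₁.isBlowUp
  refine ⟨_, _, pullback.snd e₁ (v ≫ p₁), pullback.fst e₁ (v ≫ p₁) ≫ π₁, (v ≫ p₁) ≫ b₁,
    v ≫ p₁, v ≫ p₂, ?_, hj₁, hj₂, rfl, ?_⟩
  · refine ⟨h₁.isClosedImmersion, h₁.finitePresentation_base, hEW.flip.paste_vert h₁.isPullback,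
      ?_, inferInstance, inferInstance, key.mp hker⟩
    rw [Scheme.IdealSheafData.comap_comp]
    exact Groth.Agent.Helper4.NApx51.isLocPrincipal_comap _ h₁.locPrincipal (v ≫ p₁)
  · rw [Category.assoc, Category.assoc, pullback.condition]

end Groth.Agent.Helper4.NApx55
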