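import Groth.Prelude.Def_BlowUp2
import Groth.Agent.Lead.Thick3
import Groth.Agent.Helper4.NApx49
import Groth.Agent.Helper4.NApx50
import Mathlib

set_option autoImplicit false
universe u

namespace Groth.Agent.Helper4.NApx56

open AlgebraicGeometry CategoryTheory Limits

/-- finitely many local sections of a quasi-coherent ideal on a qcqs scheme lie in a finite type
sub-ideal -/
theorem exists_ft_sub_finite {X : Scheme.{u}} [CompactSpace X] [QuasiSeparatedSpace X]
    (K : X.IdealSheafData) {ι : Type*} [Finite ι] (W : ι → X.affineOpens)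
    (a : ∀ k, Γ(X, (W k).1)) (ha : ∀ k, a k ∈ K.ideal (W k)) :
    ∃ J : X.IdealSheafData, J ≤ K ∧ BlowUp.IsFiniteTypeIdeal J ∧ ∀ k, a k ∈ J.ideal (W k) := by
  have hker : K.subschemeι.ker = K := Scheme.IdealSheafData.ker_subschemeι K
  have h1 : ∀ k, ∃ J : X.IdealSheafData, J ≤ K ∧ (∀ V : X.affineOpens, (J.ideal V).FG) ∧
      a k ∈ J.ideal (W k) := by
    intro k
    have hak : a k ∈ K.subschemeι.ker.ideal (W k) := by rw [hker]; exact ha k
    obtain ⟨J, hJ, hfg, haJ⟩ := Groth.Agent.Lead.Thick.exists_ft_sub K.subschemeι (W k) (a k) hak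
    exact ⟨J, by rw [← hker]; exact hJ, hfg, haJ⟩
  choose J hJK hJfg haJ using h1
  refine ⟨⨆ k, J k, iSup_le hJK, ?_, ?_⟩
  · intro V
    rw [Scheme.IdealSheafData.ideal_iSup, iSup_apply]
    exact Submodule.fg_iSup _ (fun k => hJfg k V)
  · intro k
    have : J k ≤ ⨆ k, J k := le_iSup J k
    exact this (W k) (haJ k)

/-- a finite type sub-ideal agreeing with the given ideal on finitely many affine opens where the
latter is finitely generated -/
theorem exists_ft_sub_eq {X : Scheme.{u}} [CompactSpace X] [QuasiSeparatedSpace X]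
    (K : X.IdealSheafData) {ι : Type*} [Finite ι] (W : ι → X.affineOpens)
    (hfg : ∀ k, (K.ideal (W k)).FG) :
    ∃ J : X.IdealSheafData, J ≤ K ∧ BlowUp.IsFiniteTypeIdeal J ∧
      ∀ k, J.ideal (W k) = K.ideal (W k) := by
  choose S hS using hfg
  obtain ⟨J, hJK, hJ, haJ⟩ := exists_ft_sub_finite K (ι := Σ k, (S k : Set Γ(X, (W k).1)))
    (fun p => W p.1) (fun p => p.2.1)
    (fun p => by rw [← hS p.1]; exact Ideal.subset_span p.2.2)
  refine ⟨J, hJK, hJ, fun k => le_antisymm (hJK (W k)) ?_⟩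
  rw [← hS k, Ideal.span_le]
  intro s hs
  exact haJ ⟨k, ⟨s, hs⟩⟩

/-- the ideal of the schematic closure of a closed subscheme of a retrocompact open restricts to
the original ideal -/
theorem comap_map_ι {X : Scheme.{u}} (V : X.Opens) [QuasiCompact V.ι]
    (𝓘 : (V : Scheme.{u}).IdealSheafData) : (𝓘.map V.ι).comap V.ι = 𝓘 := by
  have hpb : IsPullback 𝓘.subschemeι (𝟙 _) V.ι (𝓘.subschemeι ≫ V.ι) := by
    have h1 : IsPullback 𝓘.subschemeι (𝟙 _) (𝟙 _) 𝓘.subschemeι :=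
      IsPullback.of_vert_isIso ⟨by simp⟩
    have h2 : IsPullback (𝟙 (V : Scheme.{u})) (𝟙 _) V.ι V.ι :=
      (IsKernelPair.id_of_mono V.ι)
    have := h1.paste_horiz h2
    rw [Category.comp_id] at this
    exact this
  refine Scheme.IdealSheafData.ext ?_
  funext W
  have e1 := Scheme.IdealSheafData.ideal_comap_of_isOpenImmersion (𝓘.map V.ι) V.ι W
  have e2 := Scheme.ker_ideal_of_isPullback_of_isOpenImmersion
    (𝓘.subschemeι ≫ V.ι) 𝓘.subschemeι (𝟙 _) V.ι hpb W
  rw [Scheme.IdealSheafData.ker_subschemeι] at e2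
  rw [e1, e2]
  rfl

theorem ideal_eq_top_of_disjoint {X : Scheme.{u}} (K : X.IdealSheafData) (W : X.affineOpens)
    (h : Disjoint (K.support : Set X) (W.1 : Set X)) : K.ideal W = ⊤ := by
  have h1 : (K.support : Set X) ∩ W.1 = ∅ := Set.disjoint_iff_inter_eq_empty.mp h
  have hW : IsAffineOpen W.1 := W.2
  rw [Scheme.IdealSheafData.coe_support_inter, ← hW.fromSpec_image_zeroLocus] at h1
  by_contra hne
  obtain ⟨M, hM, hle⟩ := Ideal.exists_le_maximal _ hne
  have hp : (⟨M, hM.isPrime⟩ : PrimeSpectrum Γ(X, W.1)) ∈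
      PrimeSpectrum.zeroLocus (K.ideal W : Set Γ(X, W.1)) := hle
  have : hW.fromSpec ⟨M, hM.isPrime⟩ ∈ (∅ : Set X) := by
    rw [← h1]; exact ⟨_, hp, rfl⟩
  exact this

theorem disjoint_support_of_cover {X : Scheme.{u}} (J : X.IdealSheafData) (U : X.Opens)
    {ι : Type*} (W : ι → X.affineOpens) (hW : ∀ x ∈ U, ∃ k, x ∈ (W k).1)
    (hJ : ∀ k, J.ideal (W k) = ⊤) : Disjoint (J.support : Set X) (U : Set X) := by
  rw [Set.disjoint_left]
  intro x hx hxU
  obtain ⟨k, hk⟩ := hW x hxU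
  have hx' : x ∈ J.support := hx
  rw [Scheme.IdealSheafData.mem_support_iff_of_mem hk, hJ k] at hx'
  rw [Scheme.mem_zeroLocus_iff] at hx'
  have h1 := hx' 1 (Submodule.mem_top)
  rw [Scheme.basicOpen_of_isUnit _ isUnit_one] at h1
  exact h1 hk

theorem main (X : Scheme.{u}) [CompactSpace X] [QuasiSeparatedSpace X]
    (U V : X.Opens) (hU : IsCompact (U : Set X)) (hV : IsCompact (V : Set X))
    (𝓘 : (V : Scheme.{u}).IdealSheafData) (h𝓘 : BlowUp.IsAdmissibleFor (V.ι ⁻¹ᵁ U) 𝓘) :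
    ∃ 𝓙 : X.IdealSheafData, BlowUp.IsAdmissibleFor U 𝓙 ∧ 𝓙.comap V.ι = 𝓘 ∧
      ∀ (X' : Scheme.{u}) (c : X' ⟶ X), BlowUp.IsBlowUp c 𝓙 → BlowUp.IsBlowUp (c ∣_ V) 𝓘 := by
  haveI : CompactSpace (V : Scheme.{u}) := isCompact_iff_compactSpace.mp hV
  haveI : QuasiCompact V.ι := inferInstance
  set K := 𝓘.map V.ι with hK
  have hKV : K.comap V.ι = 𝓘 := comap_map_ι V 𝓘
  have hKU : Disjoint (K.support : Set X) (U : Set X) := by
    rw [hK, Scheme.IdealSheafData.support_map, Set.disjoint_left]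
    intro x hx hxU
    have hx' : x ∈ closure (V.ι '' (𝓘.support : Set (V : Scheme.{u}))) := hx
    rw [mem_closure_iff] at hx'
    obtain ⟨_, hyU, ⟨y, hy, rfl⟩⟩ := hx' U U.isOpen hxU
    exact Set.disjoint_left.mp h𝓘.2 hy hyU
  -- finite affine cover of `V`
  obtain ⟨t₁, ht₁⟩ := isCompact_univ.elim_finite_subcover
    (fun W : (V : Scheme.{u}).affineOpens => ((W.1 : (V : Scheme.{u}).Opens) : Set (V : Scheme.{u})))
    (fun W => W.1.isOpen) (by
      intro x _
      obtain ⟨_, ⟨W, hW, rfl⟩, hxW, -⟩ := (V : Scheme.{u}).isBasis_affineOpens.exists_subset_of_mem_open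
        (Set.mem_univ x) isOpen_univ
      exact Set.mem_iUnion.mpr ⟨⟨W, hW⟩, hxW⟩)
  -- finite affine cover of `U`
  obtain ⟨t₂, ht₂⟩ := hU.elim_finite_subcover
    (fun W : {W : X.affineOpens // W.1 ≤ U} => ((W.1.1 : X.Opens) : Set X))
    (fun W => W.1.1.isOpen) (by
      intro x hx
      obtain ⟨_, ⟨W, hW, rfl⟩, hxW, hWU⟩ := X.isBasis_affineOpens.exists_subset_of_mem_open
        hx U.isOpen
      exact Set.mem_iUnion.mpr ⟨⟨⟨W, hW⟩, hWU⟩, hxW⟩)
  -- the family of affine opens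
  set A : ↥t₁ → X.affineOpens :=
    fun k => ⟨V.ι ''ᵁ k.1.1, k.1.2.image_of_isOpenImmersion V.ι⟩ with hA
  have hKA : ∀ k : ↥t₁, (K.ideal (A k)).comap (V.ι.appIso k.1.1).inv.hom = 𝓘.ideal k.1 := by
    intro k
    rw [← hKV]
    exact (Scheme.IdealSheafData.ideal_comap_of_isOpenImmersion K V.ι k.1).symm
  set W : ↥t₁ ⊕ ↥t₂ → X.affineOpens := Sum.elim A (fun l => l.1.1) with hW
  have hfg : ∀ i, (K.ideal (W i)).FG := by
    rintro (k | l)
    · show (K.ideal (A k)).FG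
      have hsurj : Function.Surjective (V.ι.appIso k.1.1).inv.hom :=
        (ConcreteCategory.bijective_of_isIso (V.ι.appIso k.1.1).inv).2
      rw [← Ideal.map_comap_of_surjective _ hsurj (K.ideal (A k)), hKA k]
      exact (h𝓘.1 k.1).map _
    · show (K.ideal l.1.1).FG
      rw [ideal_eq_top_of_disjoint K l.1.1
        (Set.disjoint_of_subset_right (show ((l.1.1.1 : X.Opens) : Set X) ⊆ U from l.1.2) hKU)]
      exact ⟨{1}, by simp⟩
  obtain ⟨J, hJK, hJft, hJW⟩ := exists_ft_sub_eq K W hfg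
  have hJV : J.comap V.ι = 𝓘 := by
    refine Scheme.IdealSheafData.ext_of_iSup_eq_top (fun k : ↥t₁ => k.1) ?_ ?_
    · rw [eq_top_iff]
      intro x _
      obtain ⟨W', hW't, hxW'⟩ := Set.mem_iUnion₂.mp (ht₁ (Set.mem_univ x))
      exact TopologicalSpace.Opens.mem_iSup.mpr ⟨⟨W', hW't⟩, hxW'⟩
    · intro k
      rw [Scheme.IdealSheafData.ideal_comap_of_isOpenImmersion J V.ι k.1, ← hKA k]
      have := hJW (Sum.inl k)
      exact congrArg (Ideal.comap (V.ι.appIso k.1.1).inv.hom) this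
  refine ⟨J, ⟨hJft, ?_⟩, hJV, ?_⟩
  · refine disjoint_support_of_cover J U (fun l : ↥t₂ => l.1.1) ?_ ?_
    · intro x hx
      obtain ⟨W', hW't, hxW'⟩ := Set.mem_iUnion₂.mp (ht₂ hx)
      exact ⟨⟨W', hW't⟩, hxW'⟩
    · intro l
      have := hJW (Sum.inr l)
      rw [show J.ideal l.1.1 = K.ideal l.1.1 from this]
      exact ideal_eq_top_of_disjoint K l.1.1
        (Set.disjoint_of_subset_right (show ((l.1.1.1 : X.Opens) : Set X) ⊆ U from l.1.2) hKU)
  · intro X' c hc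
    have := Groth.Agent.Helper4.NApx49.isBlowUp_restrict J c hc V
    rw [hJV] at this
    exact this

end Groth.Agent.Helper4.NApx56
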