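import Groth.Prelude.Def_BlowUp2
import Groth.Agent.Helper4.NApx24
import Groth.Agent.Helper4.NApx13
import Groth.Agent.Helper9.IdealComap
import Mathlib

set_option autoImplicit false
universe u

namespace Groth.Agent.Helper4.NApx57

open AlgebraicGeometry CategoryTheory Limits

/-- the algebra behind the separation lemma -/
theorem alg_key {R S : Type*} [CommRing R] [CommRing S] (φ : R →+* S) (ℓ : R) (A B 𝔭 : Ideal R)
    (𝔪 N : Ideal S) (hAB : A ⊔ B = Ideal.span {ℓ}) (hA : A ≤ Ideal.span {ℓ} * 𝔭)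
    (h𝔭 : 𝔭.map φ ≤ 𝔪) (hincl : B.map φ ≤ A.map φ * A.map φ ⊔ N) :
    ∃ u : S, u - 1 ∈ 𝔪 ∧ φ ℓ * u ∈ N := by
  have hℓ : ℓ ∈ A ⊔ B := by rw [hAB]; exact Ideal.subset_span rfl
  obtain ⟨a, ha, b, hb, hab⟩ := Submodule.mem_sup.mp hℓ
  obtain ⟨a', ha', haa'⟩ := Ideal.mem_span_singleton_mul.mp (hA ha)
  have hφb : φ b ∈ A.map φ * A.map φ ⊔ N := hincl (Ideal.mem_map_of_mem φ hb)
  obtain ⟨t, ht, κ, hκ, htκ⟩ := Submodule.mem_sup.mp hφb
  have hAm : A.map φ ≤ Ideal.span {φ ℓ} * 𝔪 := by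
    calc A.map φ ≤ (Ideal.span {ℓ} * 𝔭).map φ := Ideal.map_mono hA
      _ = Ideal.span {φ ℓ} * 𝔭.map φ := by
        rw [Ideal.map_mul, Ideal.map_span, Set.image_singleton]
      _ ≤ Ideal.span {φ ℓ} * 𝔪 := Ideal.mul_mono_right h𝔭
  have ht' : t ∈ Ideal.span {φ ℓ} * 𝔪 := by
    have h1 : A.map φ * A.map φ ≤ (Ideal.span {φ ℓ} * 𝔪) * ⊤ := Ideal.mul_mono hAm le_top
    rw [Ideal.mul_top] at h1
    exact h1 ht
  obtain ⟨s', hs', hts'⟩ := Ideal.mem_span_singleton_mul.mp ht'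
  refine ⟨φ (1 - a') - s', ?_, ?_⟩
  · have : φ (1 - a') - s' - 1 = -(φ a' + s') := by rw [map_sub, map_one]; ring
    rw [this]
    exact 𝔪.neg_mem (𝔪.add_mem (h𝔭 (Ideal.mem_map_of_mem φ ha')) hs')
  · have : φ ℓ * (φ (1 - a') - s') = κ := by
      have e1 : φ ℓ * φ (1 - a') = φ b := by
        rw [← map_mul, mul_sub, mul_one, haa', ← hab, add_sub_cancel_left]
      rw [mul_sub, e1, hts', ← htκ, add_sub_cancel_left]
    rw [this]
    exact hκ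

/-- the ideal of sections over an open vanishing at a point -/
noncomputable def vanishAt {X : Scheme.{u}} (W : X.Opens) (x : X) (hx : x ∈ W) : Ideal Γ(X, W) :=
  (IsLocalRing.maximalIdeal (X.presheaf.stalk x)).comap (X.presheaf.germ W x hx).hom

theorem mem_vanishAt_iff {X : Scheme.{u}} (W : X.Opens) (x : X) (hx : x ∈ W) (r : Γ(X, W)) :
    r ∈ vanishAt W x hx ↔ x ∉ X.basicOpen r := by
  rw [vanishAt, Ideal.mem_comap, IsLocalRing.mem_maximalIdeal, mem_nonunits_iff,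
    Scheme.mem_basicOpen _ _ _ hx]

theorem mem_basicOpen_of_sub_one_mem {X : Scheme.{u}} (W : X.Opens) (x : X) (hx : x ∈ W)
    (u : Γ(X, W)) (hu : u - 1 ∈ vanishAt W x hx) : x ∈ X.basicOpen u := by
  rw [Scheme.mem_basicOpen _ _ _ hx]
  have h1 : (X.presheaf.germ W x hx).hom (u - 1) ∈ IsLocalRing.maximalIdeal (X.presheaf.stalk x) :=
    hu
  rw [map_sub, map_one] at h1
  have h2 := IsLocalRing.isUnit_one_sub_self_of_mem_nonunits _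
    ((IsLocalRing.maximalIdeal (X.presheaf.stalk x)).neg_mem h1)
  simpa using h2

theorem mem_basicOpen_appLE_iff {X Y : Scheme.{u}} (f : X ⟶ Y) (Ω : Y.Opens) (Θ : X.Opens)
    (e : Θ ≤ f ⁻¹ᵁ Ω) (c : Γ(Y, Ω)) (z : X) :
    z ∈ X.basicOpen ((f.appLE Ω Θ e).hom c) ↔ z ∈ Θ ∧ f z ∈ Y.basicOpen c := by
  rw [Scheme.Hom.appLE, CommRingCat.hom_comp, RingHom.comp_apply, Scheme.basicOpen_res,
    ← Scheme.Hom.preimage_basicOpen]
  rfl

/-- the separation lemma: after making `𝓘₁ + 𝓘₂` locally principal the closure of `Y'` misses the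
preimage of the closure of `q⁻¹(V ∖ U)` -/
theorem separation {X Y Z X' : Scheme.{u}} (p : Z ⟶ X) (U V : X.Opens)
    (f : Y ⟶ Z) [QuasiCompact f] (hY : Set.range (fun y => p (f y)) ⊆ (U : Set X))
    (𝓘₁ 𝓘₂ : X.IdealSheafData)
    (h₁ : (V : Set X) \ (U : Set X) ⊆ (𝓘₁.support : Set X))
    (h₁' : Disjoint (𝓘₁.support : Set X) (U : Set X))
    (h₂ : (𝓘₂.support : Set X) ⊆ (𝓘₁.support : Set X) \ (V : Set X))
    (hincl : 𝓘₂.comap p ≤ (𝓘₁ * 𝓘₁).comap p ⊔ f.ker)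
    (q : X' ⟶ X)
    (hq : ∀ x : X', ∃ Ω : X'.affineOpens, x ∈ Ω.1 ∧
      ∃ ℓ : Γ(X', Ω.1), ((𝓘₁ ⊔ 𝓘₂).comap q).ideal Ω = Ideal.span {ℓ}) :
    Disjoint (closure (Set.range (fun y => (pullback.snd f (pullback.fst p q)) y)))
      ((fun z => (pullback.snd p q) z) ⁻¹'
        closure ((fun x' => q x') ⁻¹' ((V : Set X) \ (U : Set X)))) := by
  set g := pullback.fst p q with hg
  set p' := pullback.snd p q with hp'
  set f' := pullback.snd f g with hf'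
  set fY := pullback.fst f g with hfY
  have hpq : g ≫ p = p' ≫ q := pullback.condition
  have hfg : fY ≫ f = f' ≫ g := pullback.condition
  haveI : QuasiCompact f' := inferInstance
  set 𝓐 := 𝓘₁.comap q with h𝓐
  set 𝓑 := 𝓘₂.comap q with h𝓑
  set 𝓛 := (𝓘₁ ⊔ 𝓘₂).comap q with h𝓛
  have h𝓛' : 𝓛 = 𝓐 ⊔ 𝓑 := Scheme.IdealSheafData.comap_sup 𝓘₁ 𝓘₂ q
  have hstar : 𝓑.comap p' ≤ (𝓐 * 𝓐).comap p' ⊔ f'.ker := by
    have h1 := Scheme.IdealSheafData.comap_mono g hincl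
    simp only at h1
    rw [Scheme.IdealSheafData.comap_sup, ← Scheme.IdealSheafData.comap_comp,
      ← Scheme.IdealSheafData.comap_comp, hpq, Scheme.IdealSheafData.comap_comp,
      Scheme.IdealSheafData.comap_comp, Groth.Agent.Helper4.NApx24.comap_mul q] at h1
    refine h1.trans (sup_le_sup le_rfl ?_)
    rw [← Scheme.IdealSheafData.le_map_iff_comap_le, ← Scheme.Hom.ker_comp, ← hfg]
    exact Scheme.Hom.le_ker_comp _ _
  rw [Set.disjoint_left]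
  intro z' hz'1 hz'2
  set x' := p' z' with hx'def
  have hx' : x' ∈ closure ((fun x' => q x') ⁻¹' ((V : Set X) \ (U : Set X))) := hz'2
  obtain ⟨Ω, hxΩ, ℓ, hℓ⟩ := hq x'
  obtain ⟨_, ⟨Θ, hΘ, rfl⟩, hzΘ, hΘΩ⟩ :=
    (pullback p q).isBasis_affineOpens.exists_subset_of_mem_open
      (show z' ∈ ((p' ⁻¹ᵁ Ω.1 : (pullback p q).Opens) : Set ↑(pullback p q)) from hxΩ)
      (p' ⁻¹ᵁ Ω.1).isOpen
  have e : Θ ≤ p' ⁻¹ᵁ Ω.1 := hΘΩ
  set φ := (p'.appLE Ω.1 Θ e).hom with hφ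
  -- the support facts
  have hsuppA : ∀ y : X', q y ∈ (𝓘₁.support : Set X) → y ∈ 𝓐.support := by
    intro y hy
    rw [h𝓐, Scheme.IdealSheafData.support_comap]
    exact hy
  have hsuppL : ∀ y : X', y ∈ 𝓛.support → q y ∈ (𝓘₁.support : Set X) ∧ q y ∈ (𝓘₂.support : Set X) := by
    intro y hy
    rw [h𝓛, Scheme.IdealSheafData.support_comap] at hy
    have hy' : q y ∈ (𝓘₁ ⊔ 𝓘₂).support := hy
    exact ⟨Scheme.IdealSheafData.support_antitone (le_sup_left : 𝓘₁ ≤ 𝓘₁ ⊔ 𝓘₂) hy',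
      Scheme.IdealSheafData.support_antitone (le_sup_right : 𝓘₂ ≤ 𝓘₁ ⊔ 𝓘₂) hy'⟩
  have hDℓ : ∀ y : X', y ∈ Ω.1 → y ∉ 𝓛.support → y ∈ X'.basicOpen ℓ := by
    intro y hyΩ hy
    have := Groth.Agent.Helper4.NApx13.interior_inter 𝓛 Ω ℓ hℓ
    have h3 : y ∈ ((ModPair.interior 𝓛 : X'.Opens) : Set X') ∩ (Ω.1 : Set X') := ⟨hy, hyΩ⟩
    rw [this] at h3
    exact h3
  have hAB : 𝓐.ideal Ω ⊔ 𝓑.ideal Ω = Ideal.span {ℓ} := by
    rw [← hℓ, h𝓛']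
    rfl
  -- (G2)
  have hA : 𝓐.ideal Ω ≤ Ideal.span {ℓ} * vanishAt Ω.1 x' hxΩ := by
    intro α hα
    have hαL : α ∈ Ideal.span {ℓ} := by
      rw [← hAB]; exact Ideal.mem_sup_left hα
    obtain ⟨c, hc⟩ := Ideal.mem_span_singleton'.mp hαL
    rw [Ideal.mem_span_singleton_mul]
    refine ⟨c, ?_, by rw [← hc, mul_comm]⟩
    rw [mem_vanishAt_iff]
    intro hxc
    obtain ⟨y, hyc, hyVU⟩ := mem_closure_iff.mp hx' _ (X'.basicOpen c).isOpen hxc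
    have hyΩ : y ∈ Ω.1 := X'.basicOpen_le c hyc
    have hyVU' : q y ∈ (V : Set X) \ (U : Set X) := hyVU
    have hyA : y ∈ 𝓐.support := hsuppA y (h₁ hyVU')
    have hyL : y ∉ 𝓛.support := by
      intro hyL
      exact (h₂ (hsuppL y hyL).2).2 hyVU'.1
    rw [Scheme.IdealSheafData.mem_support_iff_of_mem hyΩ, Scheme.mem_zeroLocus_iff] at hyA
    apply hyA α hα
    rw [← hc, Scheme.basicOpen_mul]
    exact ⟨hyc, hDℓ y hyΩ hyL⟩
  -- (G3)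
  have h𝔭 : (vanishAt Ω.1 x' hxΩ).map φ ≤ vanishAt Θ z' hzΘ := by
    rw [Ideal.map_le_iff_le_comap]
    intro c hc
    rw [Ideal.mem_comap, mem_vanishAt_iff]
    rw [mem_vanishAt_iff] at hc
    intro hz
    exact hc ((mem_basicOpen_appLE_iff p' Ω.1 Θ e c z').mp hz).2
  -- (G4)
  have hincl' : (𝓑.ideal Ω).map φ ≤
      (𝓐.ideal Ω).map φ * (𝓐.ideal Ω).map φ ⊔ f'.ker.ideal ⟨Θ, hΘ⟩ := by
    have h1 := hstar ⟨Θ, hΘ⟩
    rw [Groth.Agent.Helper9.IdealComap.ideal_comap p' 𝓑 Ω ⟨Θ, hΘ⟩ e] at h1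
    have h2 : ((𝓐 * 𝓐).comap p' ⊔ f'.ker).ideal ⟨Θ, hΘ⟩ =
        ((𝓐 * 𝓐).comap p').ideal ⟨Θ, hΘ⟩ ⊔ f'.ker.ideal ⟨Θ, hΘ⟩ := rfl
    rw [h2, Groth.Agent.Helper9.IdealComap.ideal_comap p' (𝓐 * 𝓐) Ω ⟨Θ, hΘ⟩ e] at h1
    have h3 : (𝓐 * 𝓐).ideal Ω = 𝓐.ideal Ω * 𝓐.ideal Ω := rfl
    rw [h3, Ideal.map_mul] at h1
    exact h1
  obtain ⟨u, hu1, hu2⟩ := alg_key φ ℓ _ _ _ _ _ hAB hA h𝔭 hincl'
  have hzu : z' ∈ (pullback p q).basicOpen u := mem_basicOpen_of_sub_one_mem Θ z' hzΘ u hu1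
  obtain ⟨_, hy1, ⟨y', rfl⟩⟩ := mem_closure_iff.mp hz'1 _ ((pullback p q).basicOpen u).isOpen hzu
  have hwu : f' y' ∈ (pullback p q).basicOpen u := hy1
  have hwΘ : f' y' ∈ Θ := (pullback p q).basicOpen_le u hwu
  -- (G6)
  have hker : (f'.app Θ).hom (φ ℓ * u) = 0 := by
    rw [Scheme.Hom.ker_apply] at hu2
    exact hu2
  have hqw : q (p' (f' y')) ∈ (U : Set X) := by
    have e1 : q (p' (f' y')) = p (f (fY y')) := by
      have := congrArg (fun m => m.base (f' y')) hpq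
      simp only [Scheme.Hom.comp_base, TopCat.hom_comp, ContinuousMap.comp_apply] at this
      have h2 := congrArg (fun m => m.base y') hfg
      simp only [Scheme.Hom.comp_base, TopCat.hom_comp, ContinuousMap.comp_apply] at h2
      rw [← this, ← h2]
    rw [e1]
    exact hY ⟨fY y', rfl⟩
  have hwℓ : f' y' ∈ (pullback p q).basicOpen (φ ℓ) := by
    rw [hφ, mem_basicOpen_appLE_iff]
    refine ⟨hwΘ, hDℓ _ (e hwΘ) ?_⟩
    intro hL
    exact Set.disjoint_left.mp h₁' (hsuppL _ hL).1 hqw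
  have hwr : f' y' ∈ (pullback p q).basicOpen (φ ℓ * u) := by
    rw [Scheme.basicOpen_mul]
    exact ⟨hwℓ, hwu⟩
  have hy' : y' ∈ f' ⁻¹ᵁ (pullback p q).basicOpen (φ ℓ * u) := hwr
  rw [Scheme.Hom.preimage_basicOpen, hker, Scheme.basicOpen_zero] at hy'
  exact hy'

end Groth.Agent.Helper4.NApx57
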