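import Groth.Prelude.Def_BlowUp2
import Groth.Agent.Helper4.NApx57
import Groth.Agent.Helper4.NApx50
import Groth.Agent.Helper4.NApx29
import Groth.Agent.Helper4.FTIdealSheaf
import Mathlib

set_option autoImplicit false
universe u

namespace Groth.Agent.Helper4.NApx58

open AlgebraicGeometry CategoryTheory Limits
open Groth.Agent.Helper4.NApx57

/-- the separation lemma for commutative squares, without quasi-compactness -/
theorem separation_gen {X Y Z X' Z' Y' : Scheme.{u}} (p : Z ⟶ X) (U V : X.Opens)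
    (f : Y ⟶ Z) (hY : Set.range (fun y => p (f y)) ⊆ (U : Set X))
    (𝓘₁ 𝓘₂ : X.IdealSheafData)
    (h₁ : (V : Set X) \ (U : Set X) ⊆ (𝓘₁.support : Set X))
    (h₁' : Disjoint (𝓘₁.support : Set X) (U : Set X))
    (h₂ : (𝓘₂.support : Set X) ⊆ (𝓘₁.support : Set X) \ (V : Set X))
    (hincl : 𝓘₂.comap p ≤ (𝓘₁ * 𝓘₁).comap p ⊔ f.ker)
    (q : X' ⟶ X)
    (hq : ∀ x : X', ∃ Ω : X'.affineOpens, x ∈ Ω.1 ∧
      ∃ ℓ : Γ(X', Ω.1), ((𝓘₁ ⊔ 𝓘₂).comap q).ideal Ω = Ideal.span {ℓ})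
    (g : Z' ⟶ Z) (p' : Z' ⟶ X') (hpq : g ≫ p = p' ≫ q)
    (f' : Y' ⟶ Z') (fY : Y' ⟶ Y) (hfg : fY ≫ f = f' ≫ g) :
    Disjoint (closure (Set.range (fun y => f' y)))
      ((fun z => p' z) ⁻¹' closure ((fun x' => q x') ⁻¹' ((V : Set X) \ (U : Set X)))) := by
  set 𝓐 := 𝓘₁.comap q with h𝓐
  set 𝓑 := 𝓘₂.comap q with h𝓑
  set 𝓛 := (𝓘₁ ⊔ 𝓘₂).comap q with h𝓛
  have h𝓛' : 𝓛 = 𝓐 ⊔ 𝓑 := Scheme.IdealSheafData.comap_sup 𝓘₁ 𝓘₂ q
  have hstar : 𝓑.comap p' ≤ (𝓐 * 𝓐).comap p' ⊔ f'.ker := by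
    have h1 := Scheme.IdealSheafData.comap_mono g hincl
    simp only at h1
    rw [Scheme.IdealSheafData.comap_sup, ← Scheme.IdealSheafData.comap_comp,
      ← Scheme.IdealSheafData.comap_comp, hpq, Scheme.IdealSheafData.comap_comp,
      Scheme.IdealSheafData.comap_comp, Groth.Agent.Helper4.NApx24.comap_mul q] at h1
    refine h1.trans (sup_le_sup le_rfl ?_)
    rw [← Scheme.IdealSheafData.le_map_iff_comap_le, ← Scheme.Hom.ker_comp, ← hfg]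
    exact Scheme.Hom.le_ker_comp _ _
  rw [Set.disjoint_left]
  intro z' hz'1 hz'2
  set x' := p' z' with hx'def
  have hx' : x' ∈ closure ((fun x' => q x') ⁻¹' ((V : Set X) \ (U : Set X))) := hz'2
  obtain ⟨Ω, hxΩ, ℓ, hℓ⟩ := hq x'
  obtain ⟨_, ⟨Θ, hΘ, rfl⟩, hzΘ, hΘΩ⟩ :=
    Z'.isBasis_affineOpens.exists_subset_of_mem_open
      (show z' ∈ ((p' ⁻¹ᵁ Ω.1 : Z'.Opens) : Set ↑Z') from hxΩ)
      (p' ⁻¹ᵁ Ω.1).isOpen
  have e : Θ ≤ p' ⁻¹ᵁ Ω.1 := hΘΩ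
  set φ := (p'.appLE Ω.1 Θ e).hom with hφ
  -- the support facts
  have hsuppA : ∀ y : X', q y ∈ (𝓘₁.support : Set X) → y ∈ 𝓐.support := by
    intro y hy
    rw [h𝓐, Scheme.IdealSheafData.support_comap]
    exact hy
  have hsuppL : ∀ y : X', y ∈ 𝓛.support → q y ∈ (𝓘₁.support : Set X) ∧ q y ∈ (𝓘₂.support : Set X) := by
    intro y hy
    rw [h𝓛, Scheme.IdealSheafData.support_comap] at hy
    have hy' : q y ∈ (𝓘₁ ⊔ 𝓘₂).support := hy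
    exact ⟨Scheme.IdealSheafData.support_antitone (le_sup_left : 𝓘₁ ≤ 𝓘₁ ⊔ 𝓘₂) hy',
      Scheme.IdealSheafData.support_antitone (le_sup_right : 𝓘₂ ≤ 𝓘₁ ⊔ 𝓘₂) hy'⟩
  have hDℓ : ∀ y : X', y ∈ Ω.1 → y ∉ 𝓛.support → y ∈ X'.basicOpen ℓ := by
    intro y hyΩ hy
    have := Groth.Agent.Helper4.NApx13.interior_inter 𝓛 Ω ℓ hℓ
    have h3 : y ∈ ((ModPair.interior 𝓛 : X'.Opens) : Set X') ∩ (Ω.1 : Set X') := ⟨hy, hyΩ⟩
    rw [this] at h3
    exact h3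
  have hAB : 𝓐.ideal Ω ⊔ 𝓑.ideal Ω = Ideal.span {ℓ} := by
    rw [← hℓ, h𝓛']
    rfl
  -- (G2)
  have hA : 𝓐.ideal Ω ≤ Ideal.span {ℓ} * vanishAt Ω.1 x' hxΩ := by
    intro α hα
    have hαL : α ∈ Ideal.span {ℓ} := by
      rw [← hAB]; exact Ideal.mem_sup_left hα
    obtain ⟨c, hc⟩ := Ideal.mem_span_singleton'.mp hαL
    rw [Ideal.mem_span_singleton_mul]
    refine ⟨c, ?_, by rw [← hc, mul_comm]⟩
    rw [mem_vanishAt_iff]
    intro hxc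
    obtain ⟨y, hyc, hyVU⟩ := mem_closure_iff.mp hx' _ (X'.basicOpen c).isOpen hxc
    have hyΩ : y ∈ Ω.1 := X'.basicOpen_le c hyc
    have hyVU' : q y ∈ (V : Set X) \ (U : Set X) := hyVU
    have hyA : y ∈ 𝓐.support := hsuppA y (h₁ hyVU')
    have hyL : y ∉ 𝓛.support := by
      intro hyL
      exact (h₂ (hsuppL y hyL).2).2 hyVU'.1
    rw [Scheme.IdealSheafData.mem_support_iff_of_mem hyΩ, Scheme.mem_zeroLocus_iff] at hyA
    apply hyA α hα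
    rw [← hc, Scheme.basicOpen_mul]
    exact ⟨hyc, hDℓ y hyΩ hyL⟩
  -- (G3)
  have h𝔭 : (vanishAt Ω.1 x' hxΩ).map φ ≤ vanishAt Θ z' hzΘ := by
    rw [Ideal.map_le_iff_le_comap]
    intro c hc
    rw [Ideal.mem_comap, mem_vanishAt_iff]
    rw [mem_vanishAt_iff] at hc
    intro hz
    exact hc ((mem_basicOpen_appLE_iff p' Ω.1 Θ e c z').mp hz).2
  -- (G4)
  have hincl' : (𝓑.ideal Ω).map φ ≤
      (𝓐.ideal Ω).map φ * (𝓐.ideal Ω).map φ ⊔ f'.ker.ideal ⟨Θ, hΘ⟩ := by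
    have h1 := hstar ⟨Θ, hΘ⟩
    rw [Groth.Agent.Helper9.IdealComap.ideal_comap p' 𝓑 Ω ⟨Θ, hΘ⟩ e] at h1
    have h2 : ((𝓐 * 𝓐).comap p' ⊔ f'.ker).ideal ⟨Θ, hΘ⟩ =
        ((𝓐 * 𝓐).comap p').ideal ⟨Θ, hΘ⟩ ⊔ f'.ker.ideal ⟨Θ, hΘ⟩ := rfl
    rw [h2, Groth.Agent.Helper9.IdealComap.ideal_comap p' (𝓐 * 𝓐) Ω ⟨Θ, hΘ⟩ e] at h1
    have h3 : (𝓐 * 𝓐).ideal Ω = 𝓐.ideal Ω * 𝓐.ideal Ω := rfl
    rw [h3, Ideal.map_mul] at h1
    exact h1
  obtain ⟨u, hu1, hu2⟩ := alg_key φ ℓ _ _ _ _ _ hAB hA h𝔭 hincl'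
  have hzu : z' ∈ Z'.basicOpen u := mem_basicOpen_of_sub_one_mem Θ z' hzΘ u hu1
  obtain ⟨_, hy1, ⟨y', rfl⟩⟩ := mem_closure_iff.mp hz'1 _ (Z'.basicOpen u).isOpen hzu
  have hwu : f' y' ∈ Z'.basicOpen u := hy1
  have hwΘ : f' y' ∈ Θ := Z'.basicOpen_le u hwu
  -- (G6)
  have hker : (f'.app Θ).hom (φ ℓ * u) = 0 :=
    Scheme.Hom.ideal_ker_le f' ⟨Θ, hΘ⟩ hu2
  have hqw : q (p' (f' y')) ∈ (U : Set X) := by
    have e1 : q (p' (f' y')) = p (f (fY y')) := by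
      have := congrArg (fun m => m.base (f' y')) hpq
      simp only [Scheme.Hom.comp_base, TopCat.hom_comp, ContinuousMap.comp_apply] at this
      have h2 := congrArg (fun m => m.base y') hfg
      simp only [Scheme.Hom.comp_base, TopCat.hom_comp, ContinuousMap.comp_apply] at h2
      rw [← this, ← h2]
    rw [e1]
    exact hY ⟨fY y', rfl⟩
  have hwℓ : f' y' ∈ Z'.basicOpen (φ ℓ) := by
    rw [hφ, mem_basicOpen_appLE_iff]
    refine ⟨hwΘ, hDℓ _ (e hwΘ) ?_⟩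
    intro hL
    exact Set.disjoint_left.mp h₁' (hsuppL _ hL).1 hqw
  have hwr : f' y' ∈ Z'.basicOpen (φ ℓ * u) := by
    rw [Scheme.basicOpen_mul]
    exact ⟨hwℓ, hwu⟩
  have hy' : y' ∈ f' ⁻¹ᵁ Z'.basicOpen (φ ℓ * u) := hwr
  rw [Scheme.Hom.preimage_basicOpen, hker, Scheme.basicOpen_zero] at hy'
  exact hy'


/-- on a quasi-compact scheme a finite type ideal has a power inside any ideal with smaller
support -/
theorem exists_pow_le {Z : Scheme.{u}} [CompactSpace Z] (𝓜 𝓣 : Z.IdealSheafData)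
    (h𝓜 : BlowUp.IsFiniteTypeIdeal 𝓜) (hsupp : (𝓣.support : Set Z) ⊆ (𝓜.support : Set Z)) :
    ∃ n : ℕ, 𝓜 ^ n ≤ 𝓣 := by
  obtain ⟨t, ht⟩ := isCompact_univ.elim_finite_subcover
    (fun W : Z.affineOpens => ((W.1 : Z.Opens) : Set Z)) (fun W => W.1.isOpen) (by
      intro x _
      obtain ⟨_, ⟨W, hW, rfl⟩, hxW, -⟩ := Z.isBasis_affineOpens.exists_subset_of_mem_open
        (Set.mem_univ x) isOpen_univ
      exact Set.mem_iUnion.mpr ⟨⟨W, hW⟩, hxW⟩)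
  have h1 : ∀ W : Z.affineOpens, ∃ n : ℕ, (𝓜.ideal W) ^ n ≤ 𝓣.ideal W := by
    intro W
    refine Ideal.exists_pow_le_of_le_radical_of_fg ?_ (h𝓜 W)
    rw [← PrimeSpectrum.zeroLocus_subset_zeroLocus_iff]
    intro P hP
    have hW : IsAffineOpen W.1 := W.2
    have hx : hW.fromSpec P ∈ Z.zeroLocus (U := W.1) (𝓣.ideal W : Set Γ(Z, W.1)) ∩ W.1 := by
      rw [← hW.fromSpec_image_zeroLocus]; exact ⟨P, hP, rfl⟩
    rw [← Scheme.IdealSheafData.coe_support_inter] at hx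
    have hx2 : hW.fromSpec P ∈ (𝓜.support : Set Z) ∩ W.1 := ⟨hsupp hx.1, hx.2⟩
    rw [Scheme.IdealSheafData.coe_support_inter] at hx2
    have h3 : P ∈ hW.fromSpec ⁻¹' Z.zeroLocus (U := W.1) (𝓜.ideal W : Set Γ(Z, W.1)) := hx2.1
    rw [hW.fromSpec_preimage_zeroLocus] at h3
    exact h3
  choose n hn using h1
  refine ⟨t.sup n, ?_⟩
  refine Scheme.IdealSheafData.le_of_iSup_eq_top (fun W : ↥t => W.1) ?_ ?_
  · rw [eq_top_iff]
    intro x _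
    obtain ⟨W', hW't, hxW'⟩ := Set.mem_iUnion₂.mp (ht (Set.mem_univ x))
    exact TopologicalSpace.Opens.mem_iSup.mpr ⟨⟨W', hW't⟩, hxW'⟩
  · intro W
    show (𝓜.ideal W.1) ^ (t.sup n) ≤ 𝓣.ideal W.1
    exact (Ideal.pow_le_pow_right (Finset.le_sup W.2)).trans (hn W.1)

theorem comap_pow {X Y : Scheme.{u}} (f : X ⟶ Y) (J : Y.IdealSheafData) (n : ℕ) :
    (J ^ n).comap f = (J.comap f) ^ n := by
  induction n with
  | zero =>
    rw [pow_zero, pow_zero]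
    exact Scheme.IdealSheafData.comap_top f
  | succ k ih =>
    rw [pow_succ, pow_succ, Groth.Agent.Helper4.NApx24.comap_mul, ih]

theorem pow_succ_le {X : Scheme.{u}} (J : X.IdealSheafData) (n : ℕ) : J ^ (n + 1) ≤ J ^ n := by
  rw [pow_succ]
  exact (Groth.Agent.Helper4.NApx29.mul_le_inf' _ _).trans inf_le_left

theorem isFiniteType_pow {X : Scheme.{u}} (J : X.IdealSheafData) (hJ : BlowUp.IsFiniteTypeIdeal J)
    (n : ℕ) : BlowUp.IsFiniteTypeIdeal (J ^ n) := by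
  intro W
  show ((J.ideal W) ^ n).FG
  exact Submodule.FG.pow (hJ W) n

theorem isFiniteType_mul {X : Scheme.{u}} (J K : X.IdealSheafData) (hJ : BlowUp.IsFiniteTypeIdeal J)
    (hK : BlowUp.IsFiniteTypeIdeal K) : BlowUp.IsFiniteTypeIdeal (J * K) := by
  intro W
  show ((J.ideal W) * (K.ideal W)).FG
  exact Submodule.FG.mul (hJ W) (hK W)

theorem main {X₁ X₂ : Scheme.{u}} [CompactSpace X₁] [QuasiSeparatedSpace X₁]
    (q : X₂ ⟶ X₁)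
    (V₁ : X₁.Opens) (hV₁ : IsCompact (V₁ : Set X₁))
    (U : X₂.Opens) (hU : U ≤ q ⁻¹ᵁ V₁)
    (Z₁ : Set X₁) (hZ₁ : IsClosed Z₁) (hZ₁c : IsCompact Z₁ᶜ)
    (Z₂ : Set X₂) (hZ₂ : IsClosed Z₂) (hZ₂c : IsCompact Z₂ᶜ)
    (hYZ : (fun x => q x) ⁻¹' (Z₁ ∩ (V₁ : Set X₁)) ⊆ Z₂) :
    ∃ 𝓔 : X₁.IdealSheafData, BlowUp.IsFiniteTypeIdeal 𝓔 ∧
      (𝓔.support : Set X₁) ⊆ Z₁ \ (V₁ : Set X₁) ∧
      ∀ (X₁' : Scheme.{u}) (c : X₁' ⟶ X₁), BlowUp.IsBlowUp c 𝓔 →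
        (fun z => (pullback.snd q c) z) ⁻¹' closure ((fun x => c x) ⁻¹' (Z₁ ∩ (V₁ : Set X₁))) ∩
            closure ((fun z => (pullback.fst q c) z) ⁻¹' (U : Set X₂)) ⊆
          (fun z => (pullback.fst q c) z) ⁻¹' Z₂ := by
  set O₁ : X₁.Opens := ⟨Z₁ᶜ, hZ₁.isOpen_compl⟩ with hO₁
  set O₂ : X₂.Opens := ⟨Z₂ᶜ, hZ₂.isOpen_compl⟩ with hO₂
  obtain ⟨I₁, hI₁ft, hI₁s⟩ :=
    Groth.Agent.Helper4.FTIdealSheaf.exists_ft_idealSheafData O₁ hZ₁c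
  have hI₁s' : (I₁.support : Set X₁) = Z₁ := by rw [hI₁s]; exact compl_compl Z₁
  obtain ⟨𝓝, h𝓝ft, h𝓝s⟩ :=
    Groth.Agent.Helper4.FTIdealSheaf.exists_ft_idealSheafData V₁ hV₁
  haveI : CompactSpace (O₂ : Scheme.{u}) := isCompact_iff_compactSpace.mp hZ₂c
  set p : (O₂ : Scheme.{u}) ⟶ X₁ := O₂.ι ≫ q with hp
  have hpz : ∀ z : (O₂ : Scheme.{u}), p z = q (O₂.ι z) := fun z => rfl
  have hp_avoid : ∀ z : (O₂ : Scheme.{u}), p z ∈ Z₁ → p z ∉ V₁ := by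
    intro z hz1 hz2
    have h1 : O₂.ι z ∈ Z₂ := hYZ ⟨hz1, hz2⟩
    exact z.2 h1
  have hI₁I₁s : ((I₁ * I₁).support : Set X₁) = Z₁ := by
    rw [Scheme.IdealSheafData.support_mul]
    show (I₁.support : Set X₁) ∪ (I₁.support : Set X₁) = Z₁
    rw [Set.union_self, hI₁s']
  obtain ⟨n, hn⟩ := exists_pow_le (𝓝.comap p) ((I₁ * I₁).comap p)
    (Groth.Agent.Helper4.NApx50.isFiniteType_comap p 𝓝 h𝓝ft) (by
      intro z hz
      rw [Scheme.IdealSheafData.support_comap] at hz ⊢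
      have hz' : p z ∈ ((I₁ * I₁).support : Set X₁) := hz
      rw [hI₁I₁s] at hz'
      show p z ∈ (𝓝.support : Set X₁)
      rw [h𝓝s]
      exact hp_avoid z hz')
  set I₂ := 𝓝 ^ (n + 1) ⊔ I₁ * I₁ with hI₂
  have hI₂ft : BlowUp.IsFiniteTypeIdeal I₂ :=
    Groth.Agent.Helper4.NApx50.isFiniteType_sup _ _ (isFiniteType_pow 𝓝 h𝓝ft _)
      (isFiniteType_mul I₁ I₁ hI₁ft hI₁ft)
  have hI₂s : (I₂.support : Set X₁) ⊆ Z₁ \ (V₁ : Set X₁) := by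
    intro x hx
    have hx' : x ∈ I₂.support := hx
    have h1 : x ∈ (𝓝 ^ (n + 1)).support :=
      Scheme.IdealSheafData.support_antitone (le_sup_left : 𝓝 ^ (n + 1) ≤ I₂) hx'
    have h2 : x ∈ (I₁ * I₁).support :=
      Scheme.IdealSheafData.support_antitone (le_sup_right : I₁ * I₁ ≤ I₂) hx'
    rw [Scheme.IdealSheafData.support_pow_succ] at h1
    have h1' : x ∈ (𝓝.support : Set X₁) := h1
    rw [h𝓝s] at h1'
    have h2' : x ∈ ((I₁ * I₁).support : Set X₁) := h2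
    rw [hI₁I₁s] at h2'
    exact ⟨h2', h1'⟩
  refine ⟨I₁ ⊔ I₂, Groth.Agent.Helper4.NApx50.isFiniteType_sup _ _ hI₁ft hI₂ft, ?_, ?_⟩
  · intro x hx
    have hx' : x ∈ (I₁ ⊔ I₂).support := hx
    exact hI₂s (Scheme.IdealSheafData.support_antitone (le_sup_right : I₂ ≤ I₁ ⊔ I₂) hx')
  · intro X₁' c hc z hz
    obtain ⟨hz1, hz2⟩ := hz
    by_contra hz3
    set fst := pullback.fst q c with hfst
    set snd := pullback.snd q c with hsnd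
    set W₂ : (pullback q c).Opens := fst ⁻¹ᵁ O₂ with hW₂
    have hzW : z ∈ W₂ := hz3
    set g : (W₂ : Scheme.{u}) ⟶ (O₂ : Scheme.{u}) := fst ∣_ O₂ with hg
    set p' : (W₂ : Scheme.{u}) ⟶ X₁' := W₂.ι ≫ snd with hp'
    have hpq : g ≫ p = p' ≫ c := by
      rw [hp, hp', ← Category.assoc, morphismRestrict_ι, Category.assoc, Category.assoc,
        pullback.condition]
    set UY : (O₂ : Scheme.{u}).Opens := O₂.ι ⁻¹ᵁ U with hUY
    set UY' : (W₂ : Scheme.{u}).Opens := W₂.ι ⁻¹ᵁ (fst ⁻¹ᵁ U) with hUY'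
    have hrange : Set.range (UY'.ι ≫ g) ⊆ Set.range UY.ι := by
      rintro _ ⟨y, rfl⟩
      rw [Scheme.Opens.range_ι]
      show O₂.ι ((UY'.ι ≫ g) y) ∈ U
      have e1 : O₂.ι ((UY'.ι ≫ g) y) = fst (W₂.ι (UY'.ι y)) := by
        have := congrArg (fun m => m.base (UY'.ι y)) (morphismRestrict_ι fst O₂)
        simp only [Scheme.Hom.comp_base, TopCat.hom_comp, ContinuousMap.comp_apply] at this
        exact this
      rw [e1]
      exact y.2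
    set fY := IsOpenImmersion.lift UY.ι (UY'.ι ≫ g) hrange with hfY
    have hfg : fY ≫ UY.ι = UY'.ι ≫ g := IsOpenImmersion.lift_fac _ _ _
    have hsep := separation_gen p (V₁ ⊓ O₁) V₁ UY.ι (by
        rintro _ ⟨y, rfl⟩
        have hyU : O₂.ι (UY.ι y) ∈ U := y.2
        have h1 : p (UY.ι y) ∈ V₁ := hU hyU
        refine ⟨h1, ?_⟩
        intro h2
        exact hp_avoid _ (not_not.mp (by simpa [hO₁] using h2)) h1)
      I₁ I₂ (by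
        rintro x ⟨hx1, hx2⟩
        rw [hI₁s']
        by_contra hx3
        exact hx2 ⟨hx1, hx3⟩)
      (by
        rw [hI₁s', Set.disjoint_left]
        rintro x hx1 ⟨-, hx2⟩
        exact hx2 hx1)
      (by
        rw [hI₁s']
        exact hI₂s)
      (by
        rw [hI₂, Scheme.IdealSheafData.comap_sup]
        refine sup_le ?_ le_sup_left
        rw [comap_pow]
        exact ((pow_succ_le _ n).trans hn).trans le_sup_left)
      c (by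
        intro x
        obtain ⟨Ω, hxΩ, ℓ, -, hℓ⟩ := hc.1 x
        exact ⟨Ω, hxΩ, ℓ, hℓ⟩)
      g p' hpq UY'.ι fY hfg
    rw [Set.disjoint_left] at hsep
    set z'' : (W₂ : Scheme.{u}) := ⟨z, hzW⟩ with hz''
    refine hsep (a := z'') ?_ ?_
    · -- closure
      rw [mem_closure_iff]
      intro N hN hzN
      have hopen : IsOpen (W₂.ι '' N) := W₂.ι.isOpenEmbedding.isOpenMap N hN
      have hzmem : z ∈ W₂.ι '' N := ⟨z'', hzN, rfl⟩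
      obtain ⟨w, hw1, hw2⟩ := mem_closure_iff.mp hz2 _ hopen hzmem
      obtain ⟨w', hw'N, rfl⟩ := hw1
      refine ⟨w', hw'N, ?_⟩
      have hw'U : w' ∈ UY' := hw2
      exact ⟨⟨w', hw'U⟩, rfl⟩
    · show p' z'' ∈ closure ((fun x' => c x') ⁻¹' ((V₁ : Set X₁) \ ((V₁ ⊓ O₁ : X₁.Opens) : Set X₁)))
      have e1 : ((V₁ : Set X₁) \ ((V₁ ⊓ O₁ : X₁.Opens) : Set X₁)) = Z₁ ∩ (V₁ : Set X₁) := by
        ext x
        simp only [hO₁, Set.mem_sdiff, SetLike.mem_coe, Set.mem_inter_iff]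
        constructor
        · rintro ⟨h1, h2⟩
          refine ⟨?_, h1⟩
          by_contra h3
          exact h2 ⟨h1, h3⟩
        · rintro ⟨h1, h2⟩
          exact ⟨h2, fun h3 => h3.2 h1⟩
      rw [e1]
      exact hz1

end Groth.Agent.Helper4.NApx58
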