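import Groth.Prelude.Def_BlowUp2
import Groth.Agent.Helper4.NApx57
import Mathlib

set_option autoImplicit false
universe u

namespace Groth.Agent.Helper4.NApx59

open AlgebraicGeometry CategoryTheory Limits
open Groth.Agent.Helper4.NApx57

/-- the separation lemma, general form: `𝓛₀` becomes locally principal on `X'`, `𝓘₁ ≤ 𝓛₀`,
`𝓛₀ O_Z ⊆ 𝓘₁ O_Z + ker f`, `C ⊆ supp 𝓘₁` and `supp 𝓛₀` misses `C` and `U` -/
theorem separation_gen2 {X Y Z X' Z' Y' : Scheme.{u}} (p : Z ⟶ X) (C U : Set X)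
    (f : Y ⟶ Z) (hY : ∀ y : Y, p (f y) ∈ U)
    (𝓘₁ 𝓛₀ : X.IdealSheafData) (h𝓘 : 𝓘₁ ≤ 𝓛₀)
    (hC1 : C ⊆ (𝓘₁.support : Set X))
    (hC2 : Disjoint (𝓛₀.support : Set X) C)
    (hU : Disjoint (𝓛₀.support : Set X) U)
    (hincl : 𝓛₀.comap p ≤ 𝓘₁.comap p ⊔ f.ker)
    (q : X' ⟶ X)
    (hq : ∀ x : X', ∃ Ω : X'.affineOpens, x ∈ Ω.1 ∧
      ∃ ℓ : Γ(X', Ω.1), (𝓛₀.comap q).ideal Ω = Ideal.span {ℓ})
    (g : Z' ⟶ Z) (p' : Z' ⟶ X') (hpq : g ≫ p = p' ≫ q)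
    (f' : Y' ⟶ Z') (fY : Y' ⟶ Y) (hfg : fY ≫ f = f' ≫ g) :
    Disjoint (closure (Set.range (fun y => f' y)))
      ((fun z => p' z) ⁻¹' closure ((fun x' => q x') ⁻¹' C)) := by
  set 𝓐 := 𝓘₁.comap q with h𝓐
  set 𝓛 := 𝓛₀.comap q with h𝓛
  have h𝓐𝓛 : 𝓐 ≤ 𝓛 := Scheme.IdealSheafData.comap_mono q h𝓘
  have hstar : 𝓛.comap p' ≤ 𝓐.comap p' ⊔ f'.ker := by
    have h1 := Scheme.IdealSheafData.comap_mono g hincl
    simp only at h1
    rw [Scheme.IdealSheafData.comap_sup, ← Scheme.IdealSheafData.comap_comp,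
      ← Scheme.IdealSheafData.comap_comp, hpq, Scheme.IdealSheafData.comap_comp,
      Scheme.IdealSheafData.comap_comp] at h1
    refine h1.trans (sup_le_sup le_rfl ?_)
    rw [← Scheme.IdealSheafData.le_map_iff_comap_le, ← Scheme.Hom.ker_comp, ← hfg]
    exact Scheme.Hom.le_ker_comp _ _
  rw [Set.disjoint_left]
  intro z' hz'1 hz'2
  set x' := p' z' with hx'def
  have hx' : x' ∈ closure ((fun x' => q x') ⁻¹' C) := hz'2
  obtain ⟨Ω, hxΩ, ℓ, hℓ⟩ := hq x'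
  obtain ⟨_, ⟨Θ, hΘ, rfl⟩, hzΘ, hΘΩ⟩ :=
    Z'.isBasis_affineOpens.exists_subset_of_mem_open
      (show z' ∈ ((p' ⁻¹ᵁ Ω.1 : Z'.Opens) : Set ↑Z') from hxΩ)
      (p' ⁻¹ᵁ Ω.1).isOpen
  have e : Θ ≤ p' ⁻¹ᵁ Ω.1 := hΘΩ
  set φ := (p'.appLE Ω.1 Θ e).hom with hφ
  have hsuppA : ∀ y : X', q y ∈ (𝓘₁.support : Set X) → y ∈ 𝓐.support := by
    intro y hy
    rw [h𝓐, Scheme.IdealSheafData.support_comap]
    exact hy
  have hsuppL : ∀ y : X', y ∈ 𝓛.support → q y ∈ (𝓛₀.support : Set X) := by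
    intro y hy
    rw [h𝓛, Scheme.IdealSheafData.support_comap] at hy
    exact hy
  have hDℓ : ∀ y : X', y ∈ Ω.1 → y ∉ 𝓛.support → y ∈ X'.basicOpen ℓ := by
    intro y hyΩ hy
    have := Groth.Agent.Helper4.NApx13.interior_inter 𝓛 Ω ℓ hℓ
    have h3 : y ∈ ((ModPair.interior 𝓛 : X'.Opens) : Set X') ∩ (Ω.1 : Set X') := ⟨hy, hyΩ⟩
    rw [this] at h3
    exact h3
  -- (G2)
  have hA : 𝓐.ideal Ω ≤ Ideal.span {ℓ} * vanishAt Ω.1 x' hxΩ := by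
    intro α hα
    have hαL : α ∈ Ideal.span {ℓ} := by
      rw [← hℓ]; exact h𝓐𝓛 Ω hα
    obtain ⟨c, hc⟩ := Ideal.mem_span_singleton'.mp hαL
    rw [Ideal.mem_span_singleton_mul]
    refine ⟨c, ?_, by rw [← hc, mul_comm]⟩
    rw [mem_vanishAt_iff]
    intro hxc
    obtain ⟨y, hyc, hyC⟩ := mem_closure_iff.mp hx' _ (X'.basicOpen c).isOpen hxc
    have hyΩ : y ∈ Ω.1 := X'.basicOpen_le c hyc
    have hyC' : q y ∈ C := hyC
    have hyA : y ∈ 𝓐.support := hsuppA y (hC1 hyC')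
    have hyL : y ∉ 𝓛.support := by
      intro hyL
      exact Set.disjoint_left.mp hC2 (hsuppL y hyL) hyC'
    rw [Scheme.IdealSheafData.mem_support_iff_of_mem hyΩ, Scheme.mem_zeroLocus_iff] at hyA
    apply hyA α hα
    rw [← hc, Scheme.basicOpen_mul]
    exact ⟨hyc, hDℓ y hyΩ hyL⟩
  -- (G3)
  have h𝔭 : (vanishAt Ω.1 x' hxΩ).map φ ≤ vanishAt Θ z' hzΘ := by
    rw [Ideal.map_le_iff_le_comap]
    intro c hc
    rw [Ideal.mem_comap, mem_vanishAt_iff]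
    rw [mem_vanishAt_iff] at hc
    intro hz
    exact hc ((mem_basicOpen_appLE_iff p' Ω.1 Θ e c z').mp hz).2
  -- (G4)
  have hincl' : Ideal.span {φ ℓ} ≤ (𝓐.ideal Ω).map φ ⊔ f'.ker.ideal ⟨Θ, hΘ⟩ := by
    have h1 := hstar ⟨Θ, hΘ⟩
    rw [Groth.Agent.Helper9.IdealComap.ideal_comap p' 𝓛 Ω ⟨Θ, hΘ⟩ e, hℓ, Ideal.map_span,
      Set.image_singleton] at h1
    have h2 : (𝓐.comap p' ⊔ f'.ker).ideal ⟨Θ, hΘ⟩ =
        (𝓐.comap p').ideal ⟨Θ, hΘ⟩ ⊔ f'.ker.ideal ⟨Θ, hΘ⟩ := rfl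
    rw [h2, Groth.Agent.Helper9.IdealComap.ideal_comap p' 𝓐 Ω ⟨Θ, hΘ⟩ e] at h1
    exact h1
  -- the algebra
  obtain ⟨u, hu1, hu2⟩ : ∃ u : Γ(Z', Θ), u - 1 ∈ vanishAt Θ z' hzΘ ∧
      φ ℓ * u ∈ f'.ker.ideal ⟨Θ, hΘ⟩ := by
    have hφℓ : φ ℓ ∈ (𝓐.ideal Ω).map φ ⊔ f'.ker.ideal ⟨Θ, hΘ⟩ :=
      hincl' (Ideal.subset_span rfl)
    obtain ⟨t, ht, κ, hκ, htκ⟩ := Submodule.mem_sup.mp hφℓ
    have hAm : (𝓐.ideal Ω).map φ ≤ Ideal.span {φ ℓ} * vanishAt Θ z' hzΘ := by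
      calc (𝓐.ideal Ω).map φ ≤ (Ideal.span {ℓ} * vanishAt Ω.1 x' hxΩ).map φ := Ideal.map_mono hA
        _ = Ideal.span {φ ℓ} * (vanishAt Ω.1 x' hxΩ).map φ := by
          rw [Ideal.map_mul, Ideal.map_span, Set.image_singleton]
        _ ≤ Ideal.span {φ ℓ} * vanishAt Θ z' hzΘ := Ideal.mul_mono_right h𝔭
    obtain ⟨s', hs', hts'⟩ := Ideal.mem_span_singleton_mul.mp (hAm ht)
    refine ⟨1 - s', ?_, ?_⟩
    · have : (1 : Γ(Z', Θ)) - s' - 1 = -s' := by ring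
      rw [this]
      exact (vanishAt Θ z' hzΘ).neg_mem hs'
    · have : φ ℓ * (1 - s') = κ := by
        rw [mul_sub, mul_one, hts', ← htκ, add_sub_cancel_left]
      rw [this]
      exact hκ
  have hzu : z' ∈ Z'.basicOpen u := mem_basicOpen_of_sub_one_mem Θ z' hzΘ u hu1
  obtain ⟨_, hy1, ⟨y', rfl⟩⟩ := mem_closure_iff.mp hz'1 _ (Z'.basicOpen u).isOpen hzu
  have hwu : f' y' ∈ Z'.basicOpen u := hy1
  have hwΘ : f' y' ∈ Θ := Z'.basicOpen_le u hwu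
  -- (G6)
  have hker : (f'.app Θ).hom (φ ℓ * u) = 0 :=
    Scheme.Hom.ideal_ker_le f' ⟨Θ, hΘ⟩ hu2
  have hqw : q (p' (f' y')) ∈ U := by
    have e1 : q (p' (f' y')) = p (f (fY y')) := by
      have := congrArg (fun m => m.base (f' y')) hpq
      simp only [Scheme.Hom.comp_base, TopCat.hom_comp, ContinuousMap.comp_apply] at this
      have h2 := congrArg (fun m => m.base y') hfg
      simp only [Scheme.Hom.comp_base, TopCat.hom_comp, ContinuousMap.comp_apply] at h2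
      rw [← this, ← h2]
    rw [e1]
    exact hY (fY y')
  have hwℓ : f' y' ∈ Z'.basicOpen (φ ℓ) := by
    rw [hφ, mem_basicOpen_appLE_iff]
    refine ⟨hwΘ, hDℓ _ (e hwΘ) ?_⟩
    intro hL
    exact Set.disjoint_left.mp hU (hsuppL _ hL) hqw
  have hwr : f' y' ∈ Z'.basicOpen (φ ℓ * u) := by
    rw [Scheme.basicOpen_mul]
    exact ⟨hwℓ, hwu⟩
  have hy' : y' ∈ f' ⁻¹ᵁ Z'.basicOpen (φ ℓ * u) := hwr
  rw [Scheme.Hom.preimage_basicOpen, hker, Scheme.basicOpen_zero] at hy'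
  exact hy'



theorem main17889 {X Z : Scheme.{u}} (p : Z ⟶ X)
    (X₀ : X.Opens) (F : TopologicalSpace.Closeds X) (G : TopologicalSpace.Closeds Z)
    (𝔞 : X.IdealSheafData) (h₁ : Disjoint (𝔞.support : Set X) (X₀ : Set X))
    (h₂ : Scheme.IdealSheafData.vanishingIdeal F ≤ 𝔞)
    (h₃ : 𝔞 ≤ (((Scheme.IdealSheafData.vanishingIdeal F).comap p ⊔
      Scheme.IdealSheafData.vanishingIdeal G).subschemeι ≫ p).ker)
    {X' : Scheme.{u}} (π : X' ⟶ X) (hπ : BlowUp.IsBlowUp π 𝔞) :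
    (pullback.snd p π).base ⁻¹' closure (π.base ⁻¹' ((F : Set X) ∩ (X₀ : Set X))) ∩
      closure ((pullback.fst p π).base ⁻¹' ((G : Set Z) ∩ (p ⁻¹ᵁ X₀ : Set Z))) = ∅ := by
  set IG := Scheme.IdealSheafData.vanishingIdeal G with hIG
  set IF := Scheme.IdealSheafData.vanishingIdeal F with hIF
  set ιT := IG.subschemeι with hιT
  set W : IG.subscheme.Opens := ιT ⁻¹ᵁ (p ⁻¹ᵁ X₀) with hW
  set f : (W : Scheme.{u}) ⟶ Z := W.ι ≫ ιT with hf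
  have hfy : ∀ y : (W : Scheme.{u}), f y = ιT (W.ι y) := fun y => rfl
  have hrangeT : Set.range ιT = (G : Set Z) := by
    rw [hιT, Scheme.IdealSheafData.range_subschemeι, hIG,
      Scheme.IdealSheafData.coe_support_vanishingIdeal]
  have hrange_f : Set.range f = (G : Set Z) ∩ (p ⁻¹ᵁ X₀ : Set Z) := by
    ext z
    constructor
    · rintro ⟨y, rfl⟩
      refine ⟨?_, ?_⟩
      · rw [← hrangeT]; exact ⟨W.ι y, rfl⟩
      · exact y.2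
    · rintro ⟨hz1, hz2⟩
      rw [← hrangeT] at hz1
      obtain ⟨t, rfl⟩ := hz1
      exact ⟨⟨t, hz2⟩, rfl⟩
  have hY : ∀ y : (W : Scheme.{u}), p (f y) ∈ (X₀ : Set X) := fun y => y.2
  have hC1 : (F : Set X) ∩ (X₀ : Set X) ⊆ (IF.support : Set X) := by
    rw [hIF, Scheme.IdealSheafData.coe_support_vanishingIdeal]
    exact Set.inter_subset_left
  have hC2 : Disjoint (𝔞.support : Set X) ((F : Set X) ∩ (X₀ : Set X)) :=
    Set.disjoint_of_subset_right Set.inter_subset_right h₁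
  have hincl : 𝔞.comap p ≤ IF.comap p ⊔ f.ker := by
    have h4 : 𝔞.comap p ≤ IF.comap p ⊔ IG :=
      Scheme.IdealSheafData.le_map_iff_comap_le.mp h₃
    refine h4.trans (sup_le_sup le_rfl ?_)
    have h5 : ιT.ker = IG := Scheme.IdealSheafData.ker_subschemeι IG
    have h6 : ιT.ker ≤ f.ker := Scheme.Hom.le_ker_comp _ _
    exact h5.symm.le.trans h6
  have hq : ∀ x : X', ∃ Ω : X'.affineOpens, x ∈ Ω.1 ∧
      ∃ ℓ : Γ(X', Ω.1), (𝔞.comap π).ideal Ω = Ideal.span {ℓ} := by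
    intro x
    obtain ⟨Ω, hxΩ, ℓ, -, hℓ⟩ := hπ.1 x
    exact ⟨Ω, hxΩ, ℓ, hℓ⟩
  have hsep := separation_gen2 p ((F : Set X) ∩ (X₀ : Set X)) (X₀ : Set X) f hY IF 𝔞 h₂ hC1 hC2 h₁
    hincl π hq (pullback.fst p π) (pullback.snd p π) pullback.condition
    (pullback.snd f (pullback.fst p π)) (pullback.fst f (pullback.fst p π)) pullback.condition
  have hr : Set.range (fun y => (pullback.snd f (pullback.fst p π)) y) =
      (pullback.fst p π).base ⁻¹' ((G : Set Z) ∩ (p ⁻¹ᵁ X₀ : Set Z)) := by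
    rw [← hrange_f]
    exact Scheme.Pullback.range_snd f (pullback.fst p π)
  rw [hr] at hsep
  rw [Set.inter_comm]
  exact Set.disjoint_iff_inter_eq_empty.mp hsep

end Groth.Agent.Helper4.NApx59
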