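import Groth.Prelude.Def_BlowUp2
import Groth.Agent.Helper4.NApx57
import Groth.Agent.Helper4.NApx50
import Groth.Agent.Helper4.NApx45
import Groth.Agent.Helper4.FTIdealSheaf
import Mathlib

set_option autoImplicit false
universe u

namespace Groth.Agent.Helper4.NApx60

open AlgebraicGeometry CategoryTheory Limits Topology

/-- in a compact space every constructible set is compact -/
theorem isCompact_of_isConstructible {X : Type*} [TopologicalSpace X] [CompactSpace X]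
    {s : Set X} (hs : IsConstructible s) : IsCompact s := by
  induction s, hs using BooleanSubalgebra.closure_sdiff_sup_induction with
  | isSublattice =>
    exact ⟨fun s hs t ht ↦ ⟨hs.1.union ht.1, hs.2.union ht.2⟩,
      fun s hs t ht ↦ ⟨hs.1.inter ht.1, hs.2.inter_isOpen ht.2 ht.1⟩⟩
  | bot_mem => exact ⟨isOpen_empty, .empty⟩
  | top_mem => exact ⟨isOpen_univ, .univ⟩
  | sdiff U hU V hV =>
    exact hU.2.isCompact.diff hV.1
  | sup s _ t _ hs' ht' => exact hs'.union ht'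

/-- the classical separation lemma: if `(I₁ + I₂) O_{X'}` is invertible, then the closures of the
preimages of subsets of `V(I₁)`, `V(I₂)` missing `V(I₁ + I₂)` are disjoint -/
theorem closure_disjoint {X X' : Scheme.{u}} (b : X' ⟶ X) (I₁ I₂ : X.IdealSheafData)
    (hc : BlowUp.IsEffCartierIdeal ((I₁ ⊔ I₂).comap b)) (S₁ S₂ : Set X)
    (h₁ : S₁ ⊆ (I₁.support : Set X)) (h₂ : S₂ ⊆ (I₂.support : Set X))
    (hd₁ : Disjoint S₁ ((I₁ ⊔ I₂).support : Set X))
    (hd₂ : Disjoint S₂ ((I₁ ⊔ I₂).support : Set X)) :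
    Disjoint (closure (b.base ⁻¹' S₁)) (closure (b.base ⁻¹' S₂)) := by
  rw [Set.disjoint_left]
  intro x' hx1 hx2
  obtain ⟨W, hxW, ℓ, hℓ, hWℓ⟩ := hc x'
  have hWℓ' : (I₁.comap b).ideal W ⊔ (I₂.comap b).ideal W = Ideal.span {ℓ} := by
    rw [← hWℓ, Scheme.IdealSheafData.comap_sup, Scheme.IdealSheafData.ideal_sup]
    rfl
  have hmem : ℓ ∈ (I₁.comap b).ideal W ⊔ (I₂.comap b).ideal W := by
    rw [hWℓ']; exact Ideal.subset_span rfl
  obtain ⟨a, ha, c, hc', hac⟩ := Submodule.mem_sup.mp hmem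
  have haℓ : a ∈ Ideal.span {ℓ} := hWℓ' ▸ (Ideal.mem_sup_left ha)
  have hcℓ : c ∈ Ideal.span {ℓ} := hWℓ' ▸ (Ideal.mem_sup_right hc')
  obtain ⟨a', ha'⟩ := Ideal.mem_span_singleton'.mp haℓ
  obtain ⟨c', hc''⟩ := Ideal.mem_span_singleton'.mp hcℓ
  have hsum : a' + c' = 1 := by
    have h0 : (a' + c' - 1) * ℓ = 0 := by
      rw [sub_mul, add_mul, ha', hc'', hac, one_mul, sub_self]
    have h1 := (mul_right_mem_nonZeroDivisors_eq_zero_iff hℓ).mp h0
    exact sub_eq_zero.mp h1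
  have hor : x' ∈ X'.basicOpen a' ∨ x' ∈ X'.basicOpen c' := by
    by_contra hcon
    push Not at hcon
    have h1 : a' ∈ NApx57.vanishAt W.1 x' hxW := (NApx57.mem_vanishAt_iff W.1 x' hxW a').mpr hcon.1
    have h2 : c' ∈ NApx57.vanishAt W.1 x' hxW := (NApx57.mem_vanishAt_iff W.1 x' hxW c').mpr hcon.2
    have h3 : (1 : Γ(X', W.1)) ∈ NApx57.vanishAt W.1 x' hxW := hsum ▸ Ideal.add_mem _ h1 h2
    have h4 := (NApx57.mem_vanishAt_iff W.1 x' hxW 1).mp h3
    apply h4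
    rw [Scheme.basicOpen_of_isUnit _ isUnit_one]
    exact hxW
  have key : ∀ (J : X.IdealSheafData) (S : Set X) (e e' : Γ(X', W.1)),
      S ⊆ (J.support : Set X) → Disjoint S ((I₁ ⊔ I₂).support : Set X) →
      e ∈ (J.comap b).ideal W → e' * ℓ = e → x' ∈ X'.basicOpen e' →
      x' ∈ closure (b.base ⁻¹' S) → False := by
    intro J S e e' hSJ hSd he hee' hx'e hx'cl
    obtain ⟨y, hyN, hyS⟩ := mem_closure_iff.mp hx'cl _ (X'.basicOpen e').2 hx'e
    have hyW : y ∈ W.1 := X'.basicOpen_le e' hyN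
    have hyJ : y ∈ (J.comap b).support := by
      rw [Scheme.IdealSheafData.support_comap]
      exact hSJ hyS
    rw [Scheme.IdealSheafData.mem_support_iff_of_mem hyW, Scheme.mem_zeroLocus_iff] at hyJ
    have hye : y ∉ X'.basicOpen e := hyJ e he
    rw [← hee', Scheme.basicOpen_mul] at hye
    have hyℓ : y ∉ X'.basicOpen ℓ := fun h => hye ⟨hyN, h⟩
    have hyE : y ∈ ((I₁ ⊔ I₂).comap b).support := by
      rw [Scheme.IdealSheafData.mem_support_iff_of_mem hyW, Scheme.mem_zeroLocus_iff, hWℓ]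
      intro g hg hyg
      obtain ⟨g', rfl⟩ := Ideal.mem_span_singleton'.mp hg
      rw [Scheme.basicOpen_mul] at hyg
      exact hyℓ hyg.2
    rw [Scheme.IdealSheafData.support_comap] at hyE
    exact Set.disjoint_left.mp hSd hyS hyE
  rcases hor with h | h
  · exact key I₁ S₁ a a' h₁ hd₁ ha ha' h hx1
  · exact key I₂ S₂ c c' h₂ hd₂ hc' hc'' h hx2

/-- S1279 -/
theorem main1279 {X : Scheme.{u}} [CompactSpace X] [QuasiSeparatedSpace X]
    (U : X.Opens) (hU : IsCompact (U : Set X)) (T₁ T₂ : Set U)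
    (h₁ : IsClosed T₁) (h₂ : IsClosed T₂) (c₁ : IsConstructible T₁) (c₂ : IsConstructible T₂)
    (hd : Disjoint T₁ T₂) :
    ∃ (𝓘 : X.IdealSheafData) (X' : Scheme.{u}) (b : X' ⟶ X), BlowUp.IsBlowUp b 𝓘 ∧
      BlowUp.IsAdmissibleFor U 𝓘 ∧
      Disjoint (closure (b.base ⁻¹' (Subtype.val '' T₁)))
        (closure (b.base ⁻¹' (Subtype.val '' T₂))) := by
  haveI : CompactSpace U := isCompact_iff_compactSpace.mp hU
  have hW : ∀ T : Set U, IsClosed T → IsConstructible T → ∃ I : X.IdealSheafData,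
      BlowUp.IsFiniteTypeIdeal I ∧ (I.support : Set X) = (Subtype.val '' Tᶜ)ᶜ := by
    intro T hT cT
    have hc : IsCompact (Tᶜ : Set U) := isCompact_of_isConstructible cT.compl
    have ho : IsOpen (Subtype.val '' Tᶜ : Set X) := U.2.isOpenMap_subtype_val _ hT.isOpen_compl
    have hc' : IsCompact (Subtype.val '' Tᶜ : Set X) := hc.image continuous_subtype_val
    obtain ⟨I, hI, hIs⟩ := Groth.Agent.Helper4.FTIdealSheaf.exists_ft_idealSheafData
      (⟨_, ho⟩ : X.Opens) hc'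
    exact ⟨I, hI, hIs⟩
  obtain ⟨I₁, hI₁, hs₁⟩ := hW T₁ h₁ c₁
  obtain ⟨I₂, hI₂, hs₂⟩ := hW T₂ h₂ c₂
  obtain ⟨X', b, hb⟩ := NApx45.exists_isBlowUp X (I₁ ⊔ I₂)
  have hsup : ((I₁ ⊔ I₂).support : Set X) = (I₁.support : Set X) ∩ I₂.support := by
    rw [Scheme.IdealSheafData.support_sup]
    rfl
  have hdisj : Disjoint ((I₁ ⊔ I₂).support : Set X) (U : Set X) := by
    rw [hsup, hs₁, hs₂, Set.disjoint_left]
    rintro x ⟨hx1, hx2⟩ hxU
    have m1 : (⟨x, hxU⟩ : U) ∈ T₁ := by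
      by_contra h
      exact hx1 ⟨⟨x, hxU⟩, h, rfl⟩
    have m2 : (⟨x, hxU⟩ : U) ∈ T₂ := by
      by_contra h
      exact hx2 ⟨⟨x, hxU⟩, h, rfl⟩
    exact Set.disjoint_left.mp hd m1 m2
  have hsub : ∀ T : Set U, (Subtype.val '' T : Set X) ⊆ (Subtype.val '' Tᶜ)ᶜ := by
    rintro T _ ⟨t, ht, rfl⟩ ⟨t', ht', htt'⟩
    have : t' = t := Subtype.ext htt'
    exact ht' (this ▸ ht)
  have hsubU : ∀ T : Set U, (Subtype.val '' T : Set X) ⊆ (U : Set X) := by
    rintro T _ ⟨t, _, rfl⟩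
    exact t.2
  refine ⟨I₁ ⊔ I₂, X', b, hb, ⟨NApx50.isFiniteType_sup _ _ hI₁ hI₂, hdisj⟩, ?_⟩
  apply closure_disjoint b I₁ I₂ hb.1
  · rw [hs₁]
    exact hsub T₁
  · rw [hs₂]
    exact hsub T₂
  · exact (hdisj.mono_right (hsubU T₁)).symm
  · exact (hdisj.mono_right (hsubU T₂)).symm

end Groth.Agent.Helper4.NApx60
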