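import Groth.Agent.Helper4.NApx61
import Mathlib

set_option autoImplicit false
universe v₁ v₂ u₁ u₂

namespace Groth.Agent.Helper4.NApx63

open CategoryTheory CategoryTheory.Limits

variable {C : Type u₁} [Category.{v₁} C] {D : Type u₂} [Category.{v₂} D]

/-- if all cospans in the image of `L` have pullbacks, the localized category has pullbacks -/
theorem hasPullbacks_of_map
    (W : MorphismProperty C) [W.HasRightCalculusOfFractions] (L : C ⥤ D) [L.IsLocalization W]
    (h : ∀ {X T P : C} (f : X ⟶ P) (g : T ⟶ P), HasPullback (L.map f) (L.map g)) :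
    HasPullbacks D := by
  haveI : L.EssSurj := Localization.essSurj L W
  haveI : ∀ {A B E : D} {f' : A ⟶ E} {g' : B ⟶ E}, HasLimit (cospan f' g') := by
    intro A B E f' g'
    let eA : L.obj (L.objPreimage A) ≅ A := L.objObjPreimageIso A
    let eB : L.obj (L.objPreimage B) ≅ B := L.objObjPreimageIso B
    let eE : L.obj (L.objPreimage E) ≅ E := L.objObjPreimageIso E
    obtain ⟨φ, hφ⟩ := Localization.exists_rightFraction L W (eA.hom ≫ f' ≫ eE.inv)
    obtain ⟨ψ, hψ⟩ := Localization.exists_rightFraction L W (eB.hom ≫ g' ≫ eE.inv)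
    haveI : IsIso (L.map φ.s) := Localization.inverts L W _ φ.hs
    haveI : IsIso (L.map ψ.s) := Localization.inverts L W _ ψ.hs
    haveI := h φ.f ψ.f
    have hpb := IsPullback.of_hasPullback (L.map φ.f) (L.map ψ.f)
    have h1 : L.map φ.s ≫ eA.hom ≫ f' ≫ eE.inv = L.map φ.f := by
      rw [hφ, MorphismProperty.RightFraction.map_s_comp_map]
    have h2 : L.map ψ.s ≫ eB.hom ≫ g' ≫ eE.inv = L.map ψ.f := by
      rw [hψ, MorphismProperty.RightFraction.map_s_comp_map]
    have hpb' := hpb.of_iso (Iso.refl _) (asIso (L.map φ.s) ≪≫ eA) (asIso (L.map ψ.s) ≪≫ eB) eE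
      (fst' := pullback.fst (L.map φ.f) (L.map ψ.f) ≫ L.map φ.s ≫ eA.hom)
      (snd' := pullback.snd (L.map φ.f) (L.map ψ.f) ≫ L.map ψ.s ≫ eB.hom)
      (f' := f') (g' := g')
      (by simp) (by simp)
      (by
        rw [← h1]
        simp)
      (by
        rw [← h2]
        simp)
    exact hpb'.hasPullback
  exact hasPullbacks_of_hasLimit_cospan D

/-- the image of a terminal object is terminal in the localization -/
theorem hasTerminal_of_isTerminal
    (W : MorphismProperty C) [W.HasRightCalculusOfFractions] (L : C ⥤ D) [L.IsLocalization W]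
    (Pt : C) (hPt : IsTerminal Pt) : HasTerminal D := by
  haveI : L.EssSurj := Localization.essSurj L W
  have huniq : ∀ (A : D) (u v : A ⟶ L.obj Pt), u = v := by
    intro A u v
    let eA : L.obj (L.objPreimage A) ≅ A := L.objObjPreimageIso A
    obtain ⟨Z', t, ht, a₁, b₁, hta, htb⟩ :=
      Groth.Agent.Helper4.NApx61.common_den W L (eA.hom ≫ u) (eA.hom ≫ v)
    haveI : IsIso (L.map t) := Localization.inverts L W _ ht
    have : a₁ = b₁ := hPt.hom_ext _ _
    rw [← cancel_epi eA.hom, ← cancel_epi (L.map t), hta, htb, this]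
  have hT : IsTerminal (L.obj Pt) :=
    IsTerminal.ofUniqueHom (fun A => (L.objObjPreimageIso A).inv ≫ L.map (hPt.from _))
      (fun A m => huniq A _ _)
  exact hT.hasTerminal

end Groth.Agent.Helper4.NApx63
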