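import Groth.Prelude.Def_W4c6modpairsegaMP
import Groth.Agent.Helper4.NApx63
import Groth.Agent.Helper4.NApx62
import Groth.Agent.S18749
import Groth.Agent.S18750
import Mathlib

set_option autoImplicit false
universe u

namespace Groth.Agent.Helper4.NApx64

open AlgebraicGeometry CategoryTheory Limits

theorem isEffCartier_top (X : Scheme.{u}) : BlowUp.IsEffCartierIdeal (⊤ : X.IdealSheafData) := by
  intro x
  obtain ⟨_, ⟨V, hV, rfl⟩, hxV, -⟩ := X.isBasis_affineOpens.exists_subset_of_mem_open
    (Set.mem_univ x) isOpen_univ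
  refine ⟨⟨V, hV⟩, hxV, 1, one_mem _, ?_⟩
  rw [Scheme.IdealSheafData.ideal_top, Ideal.span_singleton_one]
  rfl

/-- the terminal modulus pair -/
noncomputable def ptPair : ModPair.Pair.{u} := ⟨⊤_ Scheme.{u}, ⊤, isEffCartier_top _⟩

noncomputable def isTerminal_ptPair : IsTerminal ptPair.{u} :=
  IsTerminal.ofUniqueHom
    (fun Z => ⟨terminal.from Z.total, by
      show Z.mod ≤ (⊤ : (⊤_ Scheme.{u}).IdealSheafData).comap _
      rw [Scheme.IdealSheafData.comap_top]
      exact le_top⟩)
    (fun Z m => ModPair.Pair.Hom.ext (terminal.hom_ext _ _))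

theorem hasPullback_Q_map {X T P : ModPair.Pair.{u}} (f : X ⟶ P) (g : T ⟶ P) :
    HasPullback ((ModPair.Pair.admBlowup.{u}).Q.map f) ((ModPair.Pair.admBlowup.{u}).Q.map g) := by
  obtain ⟨Y, π, K, hY⟩ := Groth.Agent.S18750.result P.mod T.mod X.mod P.isEffCartier
    T.isEffCartier X.isEffCartier f.hom f.cond g.hom g.cond
  obtain ⟨hK, hX, hT, -⟩ := Groth.Agent.S18749.result P.mod T.mod X.mod P.isEffCartier
    T.isEffCartier X.isEffCartier f.hom f.cond g.hom g.cond π K hY
  have h := Groth.Agent.Helper4.NApx62.main18752 P T X f g π K hY hK hX hT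
  exact h.flip.hasPullback

/-- S18739 -/
theorem main18739 : HasFiniteLimits (ModPair.Pair.admBlowup.{u}).Localization := by
  haveI : (ModPair.Pair.admBlowup.{u}).HasRightCalculusOfFractions := Groth.Agent.S18738.result
  haveI : HasPullbacks (ModPair.Pair.admBlowup.{u}).Localization :=
    Groth.Agent.Helper4.NApx63.hasPullbacks_of_map ModPair.Pair.admBlowup.{u}
      (ModPair.Pair.admBlowup.{u}).Q (fun f g => hasPullback_Q_map f g)
  haveI : HasTerminal (ModPair.Pair.admBlowup.{u}).Localization :=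
    Groth.Agent.Helper4.NApx63.hasTerminal_of_isTerminal ModPair.Pair.admBlowup.{u}
      (ModPair.Pair.admBlowup.{u}).Q ptPair isTerminal_ptPair
  exact hasFiniteLimits_of_hasTerminal_and_pullbacks

end Groth.Agent.Helper4.NApx64
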