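import Groth.Prelude.Def_W4c6modpairsegaMP
import Groth.Agent.Helper4.NApx57
import Groth.Agent.Helper4.NApx50
import Groth.Agent.Helper4.NApx45
import Groth.Agent.Helper4.NApx23
import Groth.Agent.Helper4.NApx19
import Groth.Agent.Helper4.NApx14
import Groth.Agent.Helper4.FTIdealSheaf
import Mathlib

set_option autoImplicit false
universe u

namespace Groth.Agent.Helper4.NApx65

open AlgebraicGeometry CategoryTheory Limits

/-- if a finite sum of ideals is generated by a nonzerodivisor `ℓ`, one of the summands contains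
`a' ℓ` with `a'` outside a given proper ideal -/
theorem alg_sum {R : Type*} [CommRing R] {ι : Type*} (t : Finset ι) (A : ι → Ideal R) (ℓ : R)
    (hℓ : ℓ ∈ nonZeroDivisors R) (h : t.sup A = Ideal.span {ℓ}) (𝔪 : Ideal R) (h𝔪 : 𝔪 ≠ ⊤) :
    ∃ i ∈ t, ∃ a ∈ A i, ∃ a' : R, a' * ℓ = a ∧ a' ∉ 𝔪 := by
  classical
  have hmem : ℓ ∈ ⨆ i ∈ t, A i := by
    rw [← Finset.sup_eq_iSup, h]
    exact Ideal.subset_span rfl
  obtain ⟨μ, hμ⟩ := (Submodule.mem_iSup_finset_iff_exists_sum A ℓ).mp hmem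
  have hle : ∀ i ∈ t, A i ≤ Ideal.span {ℓ} := fun i hi => h ▸ Finset.le_sup (f := A) hi
  have hdiv : ∀ i : ι, ∃ a' : R, i ∈ t → a' * ℓ = (μ i : R) := by
    intro i
    by_cases hi : i ∈ t
    · obtain ⟨a', ha'⟩ := Ideal.mem_span_singleton'.mp (hle i hi (μ i).2)
      exact ⟨a', fun _ => ha'⟩
    · exact ⟨0, fun h => absurd h hi⟩
  choose a' ha' using hdiv
  have hsum : ∑ i ∈ t, a' i = 1 := by
    have h0 : (∑ i ∈ t, a' i - 1) * ℓ = 0 := by
      rw [sub_mul, Finset.sum_mul, one_mul, Finset.sum_congr rfl ha', hμ, sub_self]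
    exact sub_eq_zero.mp ((mul_right_mem_nonZeroDivisors_eq_zero_iff hℓ).mp h0)
  by_contra hcon
  push Not at hcon
  apply h𝔪
  rw [Ideal.eq_top_iff_one, ← hsum]
  refine Ideal.sum_mem _ fun i hi => ?_
  exact hcon i hi (μ i) (μ i).2 (a' i) (ha' i hi)

theorem comap_finset_sup {X Y : Scheme.{u}} (f : X ⟶ Y) {ι : Type*} (t : Finset ι)
    (F : ι → Y.IdealSheafData) : (t.sup F).comap f = t.sup fun i => (F i).comap f := by
  classical
  induction t using Finset.induction_on with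
  | empty => simp
  | insert i t _ ih => rw [Finset.sup_insert, Finset.sup_insert, Scheme.IdealSheafData.comap_sup, ih]

theorem ideal_finset_sup {X : Scheme.{u}} {ι : Type*} (t : Finset ι)
    (F : ι → X.IdealSheafData) (U : X.affineOpens) :
    (t.sup F).ideal U = t.sup fun i => (F i).ideal U := by
  classical
  induction t using Finset.induction_on with
  | empty => simp
  | insert i t _ ih =>
    rw [Finset.sup_insert, Finset.sup_insert, Scheme.IdealSheafData.ideal_sup, Pi.sup_apply, ih]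

theorem isFiniteType_finset_sup {X : Scheme.{u}} {ι : Type*} (t : Finset ι)
    (F : ι → X.IdealSheafData) (h : ∀ i ∈ t, BlowUp.IsFiniteTypeIdeal (F i)) :
    BlowUp.IsFiniteTypeIdeal (t.sup F) := by
  classical
  induction t using Finset.induction_on with
  | empty =>
    intro U
    rw [Finset.sup_empty, Scheme.IdealSheafData.ideal_bot]
    exact Submodule.fg_bot
  | insert i t _ ih =>
    rw [Finset.sup_insert]
    exact Groth.Agent.Helper4.NApx50.isFiniteType_sup _ _ (h i (Finset.mem_insert_self i t))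
      (ih fun j hj => h j (Finset.mem_insert_of_mem hj))

/-- the local separation statement for finitely many ideals -/
theorem exists_affine_nbhd {S Y : Scheme.{u}} (b : Y ⟶ S) {ι : Type*} (t : Finset ι)
    (F : ι → S.IdealSheafData) (hc : BlowUp.IsEffCartierIdeal ((t.sup F).comap b)) (y : Y) :
    ∃ (N : Y.affineOpens), y ∈ N.1 ∧ ∃ i ∈ t, ∀ z ∈ N.1, b z ∈ ((F i).support : Set S) →
      b z ∈ ((t.sup F).support : Set S) := by
  obtain ⟨W, hyW, ℓ, hℓ, hWℓ⟩ := hc y
  have hWℓ' : (t.sup fun i => ((F i).comap b).ideal W) = Ideal.span {ℓ} := by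
    rw [← hWℓ, comap_finset_sup, ideal_finset_sup]
  have h𝔪 : NApx57.vanishAt W.1 y hyW ≠ ⊤ := by
    intro h
    have h1 : (1 : Γ(Y, W.1)) ∈ NApx57.vanishAt W.1 y hyW := h ▸ Submodule.mem_top
    have h2 := (NApx57.mem_vanishAt_iff W.1 y hyW 1).mp h1
    apply h2
    rw [Scheme.basicOpen_of_isUnit _ isUnit_one]
    exact hyW
  obtain ⟨i, hi, a, ha, a', haa', ha'⟩ := alg_sum t (fun i => ((F i).comap b).ideal W) ℓ hℓ hWℓ'
    (NApx57.vanishAt W.1 y hyW) h𝔪
  have hya' : y ∈ Y.basicOpen a' := by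
    by_contra h
    exact ha' ((NApx57.mem_vanishAt_iff W.1 y hyW a').mpr h)
  refine ⟨Y.affineBasicOpen a', hya', i, hi, ?_⟩
  intro z hzN hzF
  have hzN' : z ∈ Y.basicOpen a' := hzN
  have hzW : z ∈ W.1 := Y.basicOpen_le a' hzN'
  have hzJ : z ∈ ((F i).comap b).support := by
    rw [Scheme.IdealSheafData.support_comap]
    exact hzF
  rw [Scheme.IdealSheafData.mem_support_iff_of_mem hzW, Scheme.mem_zeroLocus_iff] at hzJ
  have hza : z ∉ Y.basicOpen a := hzJ a ha
  rw [← haa', Scheme.basicOpen_mul] at hza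
  have hzℓ : z ∉ Y.basicOpen ℓ := fun h => hza ⟨hzN', h⟩
  have hzE : z ∈ ((t.sup F).comap b).support := by
    rw [Scheme.IdealSheafData.mem_support_iff_of_mem hzW, Scheme.mem_zeroLocus_iff, hWℓ]
    intro g hg hzg
    obtain ⟨g', rfl⟩ := Ideal.mem_span_singleton'.mp hg
    rw [Scheme.basicOpen_mul] at hzg
    exact hzℓ hzg.2
  rw [Scheme.IdealSheafData.support_comap] at hzE
  exact hzE

/-- S19336 -/
theorem main19336 {S : Scheme.{u}} [CompactSpace S] [QuasiSeparatedSpace S] (I : S.IdealSheafData)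
    (hI : BlowUp.IsEffCartierIdeal I) {ι : Type u} (V : ι → S.Opens)
    (hVU : ∀ i, V i ≤ ModPair.interior I) (hVqc : ∀ i, IsCompact (V i : Set S))
    (hcov : ModPair.interior I ≤ ⨆ i, V i) :
    ∃ (F : S.IdealSheafData) (Y : Scheme.{u}) (b : Y ⟶ S) (κ : Type u) (W : κ → Y.Opens),
      BlowUp.IsAdmissibleFor (ModPair.interior I) F ∧ BlowUp.IsBlowUp b F ∧
        BlowUp.IsEffCartierIdeal (I.comap b) ∧ (∀ k, IsCompact (W k : Set Y)) ∧
        (⨆ k, W k) = ⊤ ∧ ∀ k, ∃ i, W k ⊓ b ⁻¹ᵁ ModPair.interior I ≤ b ⁻¹ᵁ V i := by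
  classical
  set U := ModPair.interior I with hU
  haveI : QuasiCompact U.ι := Groth.Agent.Helper4.NApx14.quasiCompact_interior_ι I hI
  haveI : IsSchemeTheoreticallyDominant U.ι :=
    Groth.Agent.Helper4.NApx19.isSchemeTheoreticallyDominant_interior_ι I hI
  have hUc : IsCompact (U : Set S) := by
    have h1 : IsCompact (U.ι ⁻¹' (Set.univ : Set S)) :=
      QuasiCompact.isCompact_preimage (f := U.ι) _ isOpen_univ isCompact_univ
    rw [Set.preimage_univ] at h1
    haveI : CompactSpace U := isCompact_univ_iff.mp h1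
    exact isCompact_iff_compactSpace.mpr this
  have hcov' : (U : Set S) ⊆ ⋃ i, (V i : Set S) := by
    intro x hx
    have := hcov hx
    rw [TopologicalSpace.Opens.mem_iSup] at this
    exact Set.mem_iUnion.mpr this
  obtain ⟨t, ht⟩ := hUc.elim_finite_subcover (fun i => (V i : Set S)) (fun i => (V i).2) hcov'
  choose Fi hFi_ft hFi_supp using fun i =>
    Groth.Agent.Helper4.FTIdealSheaf.exists_ft_idealSheafData (V i) (hVqc i)
  set F := t.sup Fi with hF
  have hFft : BlowUp.IsFiniteTypeIdeal F := isFiniteType_finset_sup t Fi (fun i _ => hFi_ft i)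
  have hFsupp : ∀ i ∈ t, (F.support : Set S) ⊆ (V i : Set S)ᶜ := by
    intro i hi
    rw [← hFi_supp i]
    exact Scheme.IdealSheafData.support_antitone (Finset.le_sup (f := Fi) hi)
  have hdisj : Disjoint (F.support : Set S) (U : Set S) := by
    rw [Set.disjoint_left]
    intro x hxF hxU
    obtain ⟨i, hi, hxi⟩ := Set.mem_iUnion₂.mp (ht hxU)
    exact hFsupp i hi hxF hxi
  obtain ⟨Y, b, hb⟩ := Groth.Agent.Helper4.NApx45.exists_isBlowUp S F
  haveI hdom : IsSchemeTheoreticallyDominant (b ⁻¹ᵁ U).ι :=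
    Groth.Agent.Helper4.NApx23.dominant_preimage_of_isBlowUp U F b hb
  have hIb : BlowUp.IsEffCartierIdeal (I.comap b) :=
    Groth.Agent.Helper4.NApx14.isEffCartierIdeal_comap I hI b
  refine ⟨F, Y, b, {p : Y.affineOpens × ι // p.1.1 ⊓ b ⁻¹ᵁ U ≤ b ⁻¹ᵁ V p.2},
    fun k => k.1.1.1, ⟨hFft, hdisj⟩, hb, hIb, fun k => k.1.1.2.isCompact, ?_, fun k => ⟨k.1.2, k.2⟩⟩
  rw [eq_top_iff]
  intro y _
  obtain ⟨N, hyN, i, hi, hN⟩ := exists_affine_nbhd b t Fi hb.1 y
  refine TopologicalSpace.Opens.mem_iSup.mpr ⟨⟨(N, i), ?_⟩, hyN⟩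
  rintro z ⟨hzN, hzU⟩
  show b z ∈ V i
  by_contra hzV
  have h1 : b z ∈ ((Fi i).support : Set S) := by
    rw [hFi_supp i]
    exact hzV
  exact Set.disjoint_left.mp hdisj (hN z hzN h1) hzU

end Groth.Agent.Helper4.NApx65
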