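import Groth.Prelude.Def_W4c6modpairsegaMP
import Groth.Agent.Helper8.MPCoprodB
import Groth.Agent.Helper4.NApx19
import Mathlib

set_option autoImplicit false
universe u

namespace Groth.Agent.Helper4.NApx66

open AlgebraicGeometry CategoryTheory Limits TopologicalSpace
open Groth.Agent.Helper8.MPCoprod

variable {σ : Type u} {X' X : σ → Scheme.{u}} (f : ∀ i, X' i ⟶ X i)

lemma ι_sigmaMap (i : σ) : Sigma.ι X' i ≫ Limits.Sigma.map f = f i ≫ Sigma.ι X i := by
  simp

lemma preimage_sigmaMap (i : σ) :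
    (Limits.Sigma.map f) ⁻¹ᵁ (Sigma.ι X i).opensRange = (Sigma.ι X' i).opensRange := by
  ext z
  obtain ⟨j, w, rfl⟩ := exists_sigmaι_eq X' z
  have hcw : (Limits.Sigma.map f) (Sigma.ι X' j w) = Sigma.ι X j (f j w) := by
    rw [← Scheme.Hom.comp_apply, ι_sigmaMap, Scheme.Hom.comp_apply]
  constructor
  · rintro ⟨x, hx⟩
    have hx' : Sigma.ι X i x = Sigma.ι X j (f j w) := hx.trans hcw
    have := (sigmaι_eq_iff X i j x _).mp hx'
    obtain rfl : i = j := congrArg Sigma.fst this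
    exact ⟨w, rfl⟩
  · rintro ⟨w', hw'⟩
    have := (sigmaι_eq_iff X' i j w' w).mp hw'
    obtain rfl : i = j := congrArg Sigma.fst this
    exact ⟨f i w, hcw.symm⟩

lemma isPullback_sigmaMap (i : σ) :
    IsPullback (f i) (Sigma.ι X' i) (Sigma.ι X i) (Limits.Sigma.map f) :=
  IsOpenImmersion.isPullback _ _ _ _ (ι_sigmaMap f i) (preimage_sigmaMap f i)

/-- a coproduct of proper morphisms is proper -/
theorem isProper_sigmaMap (h : ∀ i, IsProper (f i)) : IsProper (Limits.Sigma.map f) := by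
  refine (IsZariskiLocalAtTarget.iff_of_openCover (P := @IsProper) (sigmaOpenCover X)).mpr ?_
  intro i
  have hp := (isPullback_sigmaMap f i).flip
  have e : (hp.isoPullback).hom ≫ pullback.snd (Limits.Sigma.map f) (Sigma.ι X i) = f i :=
    hp.isoPullback_hom_snd
  have : IsProper ((hp.isoPullback).hom ≫ pullback.snd (Limits.Sigma.map f) (Sigma.ι X i)) := by
    rw [e]; exact h i
  have h5 : IsProper (pullback.snd (Limits.Sigma.map f) (Sigma.ι X i)) :=
    (MorphismProperty.cancel_left_of_respectsIso (P := @IsProper) (hp.isoPullback).hom _).mp this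
  exact h5

/-- the coproduct map is an isomorphism over the image of an open over which a summand is -/
theorem isIso_restrict_sigmaMap (i : σ) (W : (X i).Opens) [IsIso (f i ∣_ W)] :
    IsIso (Limits.Sigma.map f ∣_ (Sigma.ι X i ''ᵁ W)) := by
  set F := Limits.Sigma.map f with hF
  let g : (W : Scheme.{u}) ⟶ ∐ X := W.ι ≫ Sigma.ι X i
  have hg : g.opensRange = Sigma.ι X i ''ᵁ W := by
    rw [Scheme.Hom.opensRange_comp, Scheme.Opens.opensRange_ι]
  have h1 : IsPullback (f i ∣_ W) (f i ⁻¹ᵁ W).ι W.ι (f i) := isPullback_morphismRestrict (f i) W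
  have h2 : IsPullback (f i ∣_ W) ((f i ⁻¹ᵁ W).ι ≫ Sigma.ι X' i) g F :=
    h1.paste_vert (isPullback_sigmaMap f i)
  have e : (h2.flip.isoPullback).hom ≫ pullback.snd F g = f i ∣_ W := h2.flip.isoPullback_hom_snd
  have h3 : IsIso (pullback.snd F g) := by
    have : pullback.snd F g = (h2.flip.isoPullback).inv ≫ (f i ∣_ W) :=
      ((Iso.inv_comp_eq _).mpr e.symm).symm
    rw [this]
    infer_instance
  have h4 : IsIso (F ∣_ g.opensRange) :=
    ((MorphismProperty.isomorphisms Scheme.{u}).arrow_mk_iso_iff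
      (morphismRestrictOpensRange F g)).mpr h3
  exact ((MorphismProperty.isomorphisms Scheme.{u}).arrow_mk_iso_iff
      (morphismRestrictEq F hg)).mp h4

/-- being an isomorphism over an open can be checked on an open cover of it -/
theorem isIso_restrict_of_cover {A B : Scheme.{u}} (F : A ⟶ B) (V : B.Opens) {κ : Type*}
    (N : κ → B.Opens) (hNV : ∀ k, N k ≤ V) (hcov : V ≤ ⨆ k, N k)
    (h : ∀ k, IsIso (F ∣_ N k)) : IsIso (F ∣_ V) := by
  have hsup : (⨆ k, V.ι ⁻¹ᵁ N k) = ⊤ := by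
    rw [eq_top_iff]
    intro x _
    obtain ⟨k, hk⟩ := Opens.mem_iSup.mp (hcov x.2)
    exact Opens.mem_iSup.mpr ⟨k, hk⟩
  rw [← MorphismProperty.isomorphisms.iff,
    IsZariskiLocalAtTarget.iff_of_iSup_eq_top (P := MorphismProperty.isomorphisms Scheme.{u}) _ hsup]
  intro k
  have e : V.ι ''ᵁ (V.ι ⁻¹ᵁ N k) = N k := by
    rw [Scheme.Hom.image_preimage_eq_opensRange_inf, Scheme.Opens.opensRange_ι]
    exact inf_eq_right.mpr (hNV k)
  have h2 : IsIso (F ∣_ V.ι ''ᵁ (V.ι ⁻¹ᵁ N k)) :=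
    ((MorphismProperty.isomorphisms Scheme.{u}).arrow_mk_iso_iff
      (morphismRestrictEq F e)).mpr (h k)
  exact ((MorphismProperty.isomorphisms Scheme.{u}).arrow_mk_iso_iff
      (morphismRestrictRestrict F V (V.ι ⁻¹ᵁ N k))).mpr h2

end Groth.Agent.Helper4.NApx66
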