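import Groth.Prelude.Def_W4c6modpairsegaMP
import Groth.Agent.Helper4.NApx66
import Groth.Agent.Helper4.NApx61
import Groth.Agent.S18738
import Mathlib

set_option autoImplicit false
universe u

namespace Groth.Agent.Helper4.NApx67

open AlgebraicGeometry CategoryTheory Limits TopologicalSpace ModPair
open Groth.Agent.Helper8.MPCoprod

variable {σ : Type u} (P' P : σ → Pair.{u}) (s : ∀ i, P' i ⟶ P i)

/-- the coproduct of a family of ambient morphisms -/
noncomputable def sigmaMapPair : coprodPair P' ⟶ coprodPair P :=
  desc P' (Cofan.mk (coprodPair P) (fun i => s i ≫ inj P i))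

lemma sigmaMapPair_hom :
    (sigmaMapPair P' P s).hom = Limits.Sigma.map (fun i => (s i).hom) := by
  apply Sigma.hom_ext
  intro i
  refine (Sigma.ι_desc _ _).trans ?_
  exact (Sigma.ι_map (fun i => (s i).hom) i).symm

lemma inj_sigmaMapPair (i : σ) : inj P' i ≫ sigmaMapPair P' P s = s i ≫ inj P i := by
  apply Pair.Hom.ext
  exact Sigma.ι_desc _ _

/-- a coproduct of abstract admissible blow-ups is one -/
theorem admBlowup_sigmaMapPair (hs : ∀ i, Pair.admBlowup (s i)) :
    Pair.admBlowup (sigmaMapPair P' P s) := by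
  have hs1 : ∀ i, (P' i).mod = (P i).mod.comap (s i).hom := fun i => (hs i).1
  have hs2 : ∀ i, IsProper (s i).hom := fun i => (hs i).2.1
  have hs3 : ∀ i, IsIso ((s i).hom ∣_ ModPair.interior (P i).mod) := fun i => (hs i).2.2
  show IsAdmBlowup _ _ (sigmaMapPair P' P s).hom
  rw [sigmaMapPair_hom]
  set F := Limits.Sigma.map (fun i => (s i).hom) with hF
  set J := coprodIdeal (fun i => (P i).total) (fun i => (P i).mod) with hJ
  set J' := coprodIdeal (fun i => (P' i).total) (fun i => (P' i).mod) with hJ'
  have hcomp : ∀ i, (J.comap F).comap (Sigma.ι (fun i => (P' i).total) i) = (P' i).mod := by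
    intro i
    rw [← Scheme.IdealSheafData.comap_comp, hF, Sigma.ι_map, Scheme.IdealSheafData.comap_comp,
      hJ, comap_coprodIdeal, ← hs1 i]
  have hcomp' : ∀ i, J'.comap (Sigma.ι (fun i => (P' i).total) i) = (P' i).mod := fun i =>
    comap_coprodIdeal _ _ i
  refine ⟨?_, ?_, ?_⟩
  · show J' = J.comap F
    apply le_antisymm
    · apply le_of_forall_comap_le
      intro i
      rw [hcomp, hcomp']
    · apply le_of_forall_comap_le
      intro i
      rw [hcomp, hcomp']
  · exact Groth.Agent.Helper4.NApx66.isProper_sigmaMap _ hs2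
  · show IsIso (F ∣_ ModPair.interior J)
    have hint : ∀ i, ModPair.interior (P i).mod =
        (Sigma.ι (fun i => (P i).total) i) ⁻¹ᵁ ModPair.interior J := by
      intro i
      rw [← Groth.Agent.Helper4.NApx19.interior_comap, hJ, comap_coprodIdeal]
    apply Groth.Agent.Helper4.NApx66.isIso_restrict_of_cover F (ModPair.interior J)
      (fun i => (Sigma.ι (fun i => (P i).total) i) ''ᵁ ModPair.interior (P i).mod)
    · intro i
      rintro _ ⟨w, hw, rfl⟩
      have hw' : w ∈ ModPair.interior (P i).mod := hw
      rw [hint i] at hw'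
      exact hw'
    · intro z hz
      obtain ⟨j, w, rfl⟩ := exists_sigmaι_eq (fun i => (P i).total) z
      refine Opens.mem_iSup.mpr ⟨j, w, ?_, rfl⟩
      show w ∈ ModPair.interior (P j).mod
      rw [hint j]
      exact hz
    · intro i
      haveI := hs3 i
      exact Groth.Agent.Helper4.NApx66.isIso_restrict_sigmaMap (fun i => (s i).hom) i
        (ModPair.interior (P i).mod)

end Groth.Agent.Helper4.NApx67
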