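import Groth.Agent.Helper4.NApx61
import Mathlib

set_option autoImplicit false
universe v₁ v₂ u₁ u₂ w

namespace Groth.Agent.Helper4.NApx68

open CategoryTheory CategoryTheory.Limits

variable {C : Type u₁} [Category.{v₁} C] {D : Type u₂} [Category.{v₂} D]

/-- the universal property of the image of a coproduct in the localization, for targets in the
image of `L` -/
theorem existsUnique_desc_obj
    (W : MorphismProperty C) [W.HasRightCalculusOfFractions] (L : C ⥤ D) [L.IsLocalization W]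
    {σ : Type w} (pt : (σ → C) → C) (inj : ∀ (P : σ → C) (i : σ), P i ⟶ pt P)
    (hcof : ∀ P, IsColimit (Cofan.mk (pt P) (inj P)))
    (hW : ∀ (P' P : σ → C) (s : ∀ i, P' i ⟶ P i), (∀ i, W (s i)) →
      W (Cofan.IsColimit.desc (hcof P') (fun i => s i ≫ inj P i)))
    (P : σ → C) (Z : C) (a : ∀ i, L.obj (P i) ⟶ L.obj Z) :
    ∃! d : L.obj (pt P) ⟶ L.obj Z, ∀ i, L.map (inj P i) ≫ d = a i := by
  classical
  -- existence
  choose φ hφ using fun i => Localization.exists_rightFraction L W (a i)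
  let P' : σ → C := fun i => (φ i).X'
  let m : pt P' ⟶ pt P := Cofan.IsColimit.desc (hcof P') (fun i => (φ i).s ≫ inj P i)
  have hm : W m := hW P' P (fun i => (φ i).s) (fun i => (φ i).hs)
  haveI : IsIso (L.map m) := Localization.inverts L W _ hm
  let dz : pt P' ⟶ Z := Cofan.IsColimit.desc (hcof P') (fun i => (φ i).f)
  have hinjm : ∀ i, inj P' i ≫ m = (φ i).s ≫ inj P i := fun i =>
    Cofan.IsColimit.fac (hcof P') _ i
  have hinjd : ∀ i, inj P' i ≫ dz = (φ i).f := fun i => Cofan.IsColimit.fac (hcof P') _ i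
  have hex : ∀ i, L.map (inj P i) ≫ inv (L.map m) ≫ L.map dz = a i := by
    intro i
    haveI : IsIso (L.map (φ i).s) := Localization.inverts L W _ (φ i).hs
    have h1 : L.map (inj P i) ≫ inv (L.map m) = inv (L.map (φ i).s) ≫ L.map (inj P' i) := by
      rw [IsIso.comp_inv_eq, Category.assoc, ← L.map_comp, hinjm, L.map_comp,
        IsIso.inv_hom_id_assoc]
    rw [← Category.assoc, h1, Category.assoc, ← L.map_comp, hinjd, hφ i]
    rfl
  refine ⟨inv (L.map m) ≫ L.map dz, hex, ?_⟩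
  -- uniqueness
  have key : ∀ d d' : L.obj (pt P) ⟶ L.obj Z,
      (∀ i, L.map (inj P i) ≫ d = L.map (inj P i) ≫ d') → d = d' := by
    intro d d' hdd
    obtain ⟨V, t, ht, c, c', hc, hc'⟩ := Groth.Agent.Helper4.NApx61.common_den W L d d'
    have hore : ∀ i, ∃ (Q : C) (s₂ : Q ⟶ P i) (_ : W s₂) (k : Q ⟶ V),
        s₂ ≫ inj P i = k ≫ t ∧ k ≫ c = k ≫ c' := by
      intro i
      obtain ⟨ψ, hψ⟩ := (MorphismProperty.LeftFraction.mk (W := W) (inj P i) t ht).exists_rightFraction
      dsimp at hψ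
      have e1 : L.map (ψ.f ≫ c) = L.map (ψ.f ≫ c') := by
        rw [L.map_comp, L.map_comp, ← hc, ← hc', ← Category.assoc, ← Category.assoc,
          ← L.map_comp, ← hψ, L.map_comp, Category.assoc, Category.assoc, hdd i]
      obtain ⟨Q, u, hu, hu'⟩ := (MorphismProperty.map_eq_iff_precomp L W _ _).mp e1
      refine ⟨Q, u ≫ ψ.s, W.comp_mem _ _ hu ψ.hs, u ≫ ψ.f, ?_, ?_⟩
      · rw [Category.assoc, Category.assoc, hψ]
      · rw [Category.assoc, Category.assoc, hu']
    choose Q s₂ hs₂ k hk1 hk2 using hore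
    let m₂ : pt Q ⟶ pt P := Cofan.IsColimit.desc (hcof Q) (fun i => s₂ i ≫ inj P i)
    have hm₂ : W m₂ := hW Q P s₂ hs₂
    haveI : IsIso (L.map m₂) := Localization.inverts L W _ hm₂
    let kk : pt Q ⟶ V := Cofan.IsColimit.desc (hcof Q) k
    have hkt : kk ≫ t = m₂ := by
      apply Cofan.IsColimit.hom_ext (hcof Q)
      intro i
      show inj Q i ≫ kk ≫ t = inj Q i ≫ m₂
      rw [← Category.assoc]
      have h1 : inj Q i ≫ kk = k i := Cofan.IsColimit.fac (hcof Q) _ i
      have h2 : inj Q i ≫ m₂ = s₂ i ≫ inj P i := Cofan.IsColimit.fac (hcof Q) _ i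
      rw [h1, h2, hk1]
    have hkc : kk ≫ c = kk ≫ c' := by
      apply Cofan.IsColimit.hom_ext (hcof Q)
      intro i
      show inj Q i ≫ kk ≫ c = inj Q i ≫ kk ≫ c'
      have h1 : inj Q i ≫ kk = k i := Cofan.IsColimit.fac (hcof Q) _ i
      rw [← Category.assoc, ← Category.assoc, h1, hk2]
    rw [← cancel_epi (L.map m₂), ← hkt, L.map_comp, Category.assoc, Category.assoc, hc, hc',
      ← L.map_comp, ← L.map_comp, hkc]
  intro d' hd'
  exact key _ _ (fun i => (hd' i).trans (hex i).symm)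

/-- `L` sends the chosen coproduct cofans to colimit cofans -/
theorem nonempty_isColimit_map
    (W : MorphismProperty C) [W.HasRightCalculusOfFractions] (L : C ⥤ D) [L.IsLocalization W]
    {σ : Type w} (pt : (σ → C) → C) (inj : ∀ (P : σ → C) (i : σ), P i ⟶ pt P)
    (hcof : ∀ P, IsColimit (Cofan.mk (pt P) (inj P)))
    (hW : ∀ (P' P : σ → C) (s : ∀ i, P' i ⟶ P i), (∀ i, W (s i)) →
      W (Cofan.IsColimit.desc (hcof P') (fun i => s i ≫ inj P i)))
    (P : σ → C) :
    Nonempty (IsColimit (Cofan.mk (L.obj (pt P)) (fun i => L.map (inj P i)))) := by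
  haveI : L.EssSurj := Localization.essSurj L W
  have main : ∀ (A : D) (a : ∀ i, L.obj (P i) ⟶ A),
      ∃! d : L.obj (pt P) ⟶ A, ∀ i, L.map (inj P i) ≫ d = a i := by
    intro A a
    let e : L.obj (L.objPreimage A) ≅ A := L.objObjPreimageIso A
    obtain ⟨d₀, hd₀, hu⟩ := existsUnique_desc_obj W L pt inj hcof hW P (L.objPreimage A)
      (fun i => a i ≫ e.inv)
    refine ⟨d₀ ≫ e.hom, fun i => ?_, ?_⟩
    · rw [← Category.assoc, hd₀ i, Category.assoc, Iso.inv_hom_id, Category.comp_id]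
    · intro d' hd'
      have := hu (d' ≫ e.inv) (fun i => by rw [← Category.assoc, hd' i])
      rw [← this, Category.assoc, Iso.inv_hom_id, Category.comp_id]
  exact ⟨Cofan.IsColimit.mk _ (fun t => (main t.pt t.inj).choose)
    (fun t j => (main t.pt t.inj).choose_spec.1 j)
    (fun t m hm => (main t.pt t.inj).choose_spec.2 m hm)⟩

end Groth.Agent.Helper4.NApx68
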