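import Groth.Prelude.Def_W4c6modpairsegaMP
import Groth.Agent.Helper4.NApx68
import Groth.Agent.Helper4.NApx67
import Mathlib

set_option autoImplicit false
universe u

namespace Groth.Agent.Helper4.NApx69

open AlgebraicGeometry CategoryTheory Limits TopologicalSpace ModPair
open Groth.Agent.Helper8.MPCoprod

/-- the localization functor sends the explicit coproduct cofans to colimit cofans -/
theorem nonempty_isColimit_Q {σ : Type u} (P : σ → Pair.{u}) :
    Nonempty (IsColimit (Cofan.mk ((Pair.admBlowup.{u}).Q.obj (coprodPair P))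
      (fun i => (Pair.admBlowup.{u}).Q.map (inj P i)))) := by
  haveI : (Pair.admBlowup.{u}).HasRightCalculusOfFractions := Groth.Agent.S18738.result
  refine Groth.Agent.Helper4.NApx68.nonempty_isColimit_map Pair.admBlowup.{u}
    (Pair.admBlowup.{u}).Q (σ := σ) coprodPair inj (fun P => isColimit P) ?_ P
  intro P' P s hs
  exact Groth.Agent.Helper4.NApx67.admBlowup_sigmaMapPair P' P s hs

theorem shape (σ : Type u) :
    HasColimitsOfShape (Discrete σ) (Pair.admBlowup.{u}).Localization ∧
      PreservesColimitsOfShape (Discrete σ) (Pair.admBlowup.{u}).Q := by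
  haveI : (Pair.admBlowup.{u}).HasRightCalculusOfFractions := Groth.Agent.S18738.result
  haveI : (Pair.admBlowup.{u}).Q.EssSurj :=
    Localization.essSurj (Pair.admBlowup.{u}).Q Pair.admBlowup.{u}
  constructor
  · refine ⟨fun F => ?_⟩
    let P : σ → Pair.{u} := fun i => (Pair.admBlowup.{u}).Q.objPreimage (F.obj ⟨i⟩)
    have h1 : HasColimit (Discrete.functor (fun i => (Pair.admBlowup.{u}).Q.obj (P i))) :=
      ⟨⟨⟨_, (nonempty_isColimit_Q P).some⟩⟩⟩
    have e : F ≅ Discrete.functor (fun i => (Pair.admBlowup.{u}).Q.obj (P i)) :=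
      Discrete.natIso (fun ⟨i⟩ => ((Pair.admBlowup.{u}).Q.objObjPreimageIso (F.obj ⟨i⟩)).symm)
    exact hasColimit_of_iso e
  · refine ⟨fun {F} => ?_⟩
    have : PreservesColimit (Discrete.functor (F.obj ∘ Discrete.mk)) (Pair.admBlowup.{u}).Q :=
      preservesColimit_of_preserves_colimit_cocone (isColimit _)
        ((isColimitMapCoconeCofanMkEquiv (Pair.admBlowup.{u}).Q _ (inj _)).symm
          (nonempty_isColimit_Q _).some)
    exact preservesColimit_of_iso_diagram _ (Discrete.natIsoFunctor (F := F)).symm

/-- S18748 -/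
theorem main18748 :
    HasBinaryCoproducts (Pair.admBlowup.{u}).Localization ∧
      PreservesColimitsOfShape (Discrete WalkingPair) (Pair.admBlowup.{u}).Q := by
  obtain ⟨h1, h2⟩ := shape (ULift.{u} WalkingPair)
  let e : Discrete (ULift.{u} WalkingPair) ≌ Discrete WalkingPair :=
    Discrete.equivalence Equiv.ulift
  exact ⟨hasColimitsOfShape_of_equivalence e, preservesColimitsOfShape_of_equiv e _⟩

end Groth.Agent.Helper4.NApx69
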