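import Mathlib
import Groth.Agent.Helper4.NApx61

set_option autoImplicit false
universe v₁ v₂ u₁ u₂

namespace Groth.Agent.Helper4.NApx70

open CategoryTheory CategoryTheory.Limits

variable {C : Type u₁} [Category.{v₁} C] {D : Type u₂} [Category.{v₂} D]

/-- A criterion for a functor to be a localization functor with respect to a class admitting a right
calculus of fractions: it inverts the class, is essentially surjective, every morphism between images
is a right fraction, and morphisms identified by the functor are equalized by a member of the class. -/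
theorem isLocalization_of_fractions (W : MorphismProperty C) [W.HasRightCalculusOfFractions]
    (L : C ⥤ D) (hL : W.IsInvertedBy L) [L.EssSurj]
    (hfull : ∀ (X Y : C) (g : L.obj X ⟶ L.obj Y),
      ∃ (X' : C) (s : X' ⟶ X) (_ : W s) (f : X' ⟶ Y), L.map s ≫ g = L.map f)
    (hfaith : ∀ (X Y : C) (f₁ f₂ : X ⟶ Y), L.map f₁ = L.map f₂ →
      ∃ (X' : C) (s : X' ⟶ X) (_ : W s), s ≫ f₁ = s ≫ f₂) :
    L.IsLocalization W := by
  let G : W.Localization ⥤ D := Localization.lift L hL W.Q
  let e : W.Q ⋙ G ≅ L := Localization.fac L hL W.Q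
  have hGmap : ∀ {X Y : C} (f : X ⟶ Y),
      G.map (W.Q.map f) = e.hom.app X ≫ L.map f ≫ e.inv.app Y := by
    intro X Y f
    have := e.hom.naturality f
    simp only [Functor.comp_map] at this
    rw [← Category.assoc, ← this, Category.assoc, Iso.hom_inv_id_app, Category.comp_id]
  have hsurj : ∀ A : W.Localization, ∃ X : C, W.Q.obj X = A := fun A =>
    ⟨(Localization.Construction.objEquiv W).symm A, (Localization.Construction.objEquiv W).apply_symm_apply A⟩
  haveI : G.EssSurj := ⟨fun d => ⟨W.Q.obj (L.objPreimage d),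
    ⟨e.app (L.objPreimage d) ≪≫ L.objObjPreimageIso d⟩⟩⟩
  haveI : G.Full := by
    refine ⟨?_⟩
    intro A B g
    obtain ⟨X, rfl⟩ := hsurj A
    obtain ⟨Y, rfl⟩ := hsurj B
    obtain ⟨X', s, hs, f, hsf⟩ := hfull X Y (e.inv.app X ≫ g ≫ e.hom.app Y)
    haveI : IsIso (W.Q.map s) := Localization.inverts W.Q W _ hs
    refine ⟨inv (W.Q.map s) ≫ W.Q.map f, ?_⟩
    rw [G.map_comp, Functor.map_inv, IsIso.inv_comp_eq, hGmap, hGmap, ← hsf]
    simp
  haveI : G.Faithful := by
    refine ⟨?_⟩
    intro A B φ₁ φ₂ h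
    obtain ⟨X, rfl⟩ := hsurj A
    obtain ⟨Y, rfl⟩ := hsurj B
    obtain ⟨Z, t, ht, a₁, b₁, h₁, h₂⟩ := NApx61.common_den W W.Q φ₁ φ₂
    haveI : IsIso (W.Q.map t) := Localization.inverts W.Q W _ ht
    have h3 : G.map (W.Q.map a₁) = G.map (W.Q.map b₁) := by
      rw [← h₁, ← h₂, G.map_comp, G.map_comp, h]
    rw [hGmap, hGmap] at h3
    have h4 : L.map a₁ = L.map b₁ := by
      rw [cancel_epi] at h3
      rw [← cancel_mono (e.inv.app Y)]
      exact h3
    obtain ⟨Z', s, hs, hs'⟩ := hfaith Z Y a₁ b₁ h4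
    haveI : IsIso (W.Q.map s) := Localization.inverts W.Q W _ hs
    have h5 : W.Q.map a₁ = W.Q.map b₁ := by
      rw [← cancel_epi (W.Q.map s), ← W.Q.map_comp, ← W.Q.map_comp, hs']
    rw [← cancel_epi (W.Q.map t), h₁, h₂, h5]
  haveI : G.IsEquivalence := { }
  exact Functor.IsLocalization.of_equivalence_target W.Q W L G.asEquivalence e

end Groth.Agent.Helper4.NApx70
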