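import Groth.Prelude.Def_W4stkflatp2Cpct
import Groth.Agent.Helper4.NApx15
import Groth.Agent.Helper4.NApx20
import Mathlib

set_option autoImplicit false
universe u

namespace Groth.Agent.Helper4.NApx71

open AlgebraicGeometry CategoryTheory Limits Cpct

variable {S : Scheme.{u}}

theorem restr_ι {A B : Pair S} (f : A ⟶ B) :
    restr f ≫ B.U.ι = A.U.ι ≫ (Pair.Hom.bar f).left :=
  Scheme.Hom.resLE_comp_ι _ _

theorem restr_id (A : Pair S) : restr (𝟙 A) = 𝟙 _ := by
  rw [← cancel_mono A.U.ι, restr_ι]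
  simp

theorem restr_comp {A B C : Pair S} (f : A ⟶ B) (g : B ⟶ C) :
    restr (f ≫ g) = restr f ≫ restr g := by
  rw [← cancel_mono C.U.ι, restr_ι, Category.assoc, restr_ι, ← Category.assoc, restr_ι]
  simp

instance isMultiplicative_isoOpen : (isoOpen S).IsMultiplicative where
  id_mem A := by
    show IsIso (restr (𝟙 A))
    rw [restr_id]; infer_instance
  comp_mem f g hf hg := by
    show IsIso (restr (f ≫ g))
    rw [restr_comp]
    haveI : IsIso (restr f) := hf
    haveI : IsIso (restr g) := hg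
    infer_instance

section closure

variable {P : Scheme.{u}} (p : P ⟶ S) [IsProper p] {X₀ : Scheme.{u}} [CompactSpace X₀]
  (Γ : X₀ ⟶ P) [IsImmersion Γ] [QuasiCompact Γ]

/-- the compactification given by the scheme theoretic closure of a quasi-compact immersion into a
proper scheme -/
noncomputable def clPair : Pair S where
  bar := Over.mk (Γ.imageι ≫ p)
  U := Γ.toImage.opensRange
  isProper := (inferInstance : IsProper (Γ.imageι ≫ p))
  isCompact := by
    rw [Scheme.Hom.coe_opensRange]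
    exact isCompact_range Γ.toImage.continuous

/-- a morphism out of the closure compactification -/
noncomputable def clHom (B : Pair S) (r : P ⟶ B.bar.left) (hr : r ≫ B.bar.hom = p)
    (hle : ∀ x, (Γ ≫ r) x ∈ B.U) : clPair p Γ ⟶ B where
  bar := Over.homMk (Γ.imageι ≫ r) (by simp [clPair, hr])
  le := by
    rintro _ ⟨x, rfl⟩
    have := hle x
    rw [← Γ.toImage_imageι] at this
    exact this

/-- the open part of the closure compactification is the source of the immersion -/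
noncomputable def clIso : X₀ ≅ ((clPair p Γ).U : Scheme.{u}) := Γ.toImage.isoOpensRange

theorem clIso_hom_bar (B : Pair S) (r : P ⟶ B.bar.left) (hr : r ≫ B.bar.hom = p)
    (hle : ∀ x, (Γ ≫ r) x ∈ B.U) :
    (clIso p Γ).hom ≫ (clPair p Γ).U.ι ≫ (Pair.Hom.bar (clHom p Γ B r hr hle)).left = Γ ≫ r := by
  show Γ.toImage.isoOpensRange.hom ≫ Γ.toImage.opensRange.ι ≫ Γ.imageι ≫ r = Γ ≫ r
  rw [← Category.assoc, Scheme.Hom.isoOpensRange_hom_ι, ← Category.assoc, Γ.toImage_imageι]

theorem restr_clHom (B : Pair S) (r : P ⟶ B.bar.left) (hr : r ≫ B.bar.hom = p)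
    (hle : ∀ x, (Γ ≫ r) x ∈ B.U) :
    (clIso p Γ).hom ≫ restr (clHom p Γ B r hr hle) ≫ B.U.ι = Γ ≫ r := by
  rw [restr_ι, clIso_hom_bar]

theorem restr_clHom_eq (B : Pair S) (r : P ⟶ B.bar.left) (hr : r ≫ B.bar.hom = p)
    (hle : ∀ x, (Γ ≫ r) x ∈ B.U) (k : X₀ ⟶ (B.U : Scheme.{u})) (hk : k ≫ B.U.ι = Γ ≫ r) :
    restr (clHom p Γ B r hr hle) = (clIso p Γ).inv ≫ k := by
  rw [← cancel_mono B.U.ι, ← cancel_epi (clIso p Γ).hom, restr_clHom]
  simp [hk]

theorem isoOpen_clHom (B : Pair S) (r : P ⟶ B.bar.left) (hr : r ≫ B.bar.hom = p)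
    (hle : ∀ x, (Γ ≫ r) x ∈ B.U) (k : X₀ ⟶ (B.U : Scheme.{u})) [IsIso k]
    (hk : k ≫ B.U.ι = Γ ≫ r) : isoOpen S (clHom p Γ B r hr hle) := by
  show IsIso (restr (clHom p Γ B r hr hle))
  rw [restr_clHom_eq p Γ B r hr hle k hk]
  infer_instance

end closure

variable [QuasiSeparatedSpace S]

/-- two morphisms of compactifications with the same open part are equalized by a morphism whose
open part is an isomorphism -/
theorem exists_eq_of_restr_eq {A B : Pair S} (f₁ f₂ : A ⟶ B) (h : restr f₁ = restr f₂) :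
    ∃ (A' : Pair S) (t : A' ⟶ A) (_ : isoOpen S t), t ≫ f₁ = t ≫ f₂ := by
  haveI : IsProper A.bar.hom := A.isProper
  haveI : IsProper B.bar.hom := B.isProper
  haveI : CompactSpace (A.U : Scheme.{u}) := isCompact_iff_compactSpace.mp A.isCompact
  haveI : QuasiSeparatedSpace A.bar.left := quasiSeparatedSpace_of_quasiSeparated A.bar.hom
  have hle : ∀ x, (A.U.ι ≫ 𝟙 A.bar.left) x ∈ A.U := fun x => by
    rw [Category.comp_id]; exact x.2
  refine ⟨clPair A.bar.hom A.U.ι, clHom A.bar.hom A.U.ι A (𝟙 _) (Category.id_comp _) hle,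
    isoOpen_clHom A.bar.hom A.U.ι A (𝟙 _) (Category.id_comp _) hle (𝟙 _) (by simp), ?_⟩
  apply Pair.Hom.ext
  rw [Pair.comp_bar, Pair.comp_bar]
  ext1
  rw [Over.comp_left, Over.comp_left]
  show (A.U.ι.imageι ≫ 𝟙 _) ≫ _ = (A.U.ι.imageι ≫ 𝟙 _) ≫ _
  rw [Category.comp_id]
  haveI : IsSchemeTheoreticallyDominant A.U.ι.toImage :=
    NApx15.isSchemeTheoreticallyDominant_toImage _
  refine NApx20.ext_of_schematicallyDominant_of_isSeparated B.bar.hom ?_ A.U.ι.toImage ?_
  · rw [Category.assoc, Category.assoc, Over.w, Over.w]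
  · rw [← Category.assoc, ← Category.assoc, Scheme.Hom.toImage_imageι, ← restr_ι, ← restr_ι, h]

/-- every morphism between the open parts over the base is induced by a right fraction -/
theorem exists_fraction {A B : Pair S} (g₀ : (A.U : Scheme.{u}) ⟶ (B.U : Scheme.{u}))
    (hg : g₀ ≫ B.U.ι ≫ B.bar.hom = A.U.ι ≫ A.bar.hom) :
    ∃ (A' : Pair S) (t : A' ⟶ A) (_ : isoOpen S t) (f : A' ⟶ B), restr t ≫ g₀ = restr f := by
  haveI : IsProper A.bar.hom := A.isProper
  haveI : IsProper B.bar.hom := B.isProper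
  haveI : CompactSpace (A.U : Scheme.{u}) := isCompact_iff_compactSpace.mp A.isCompact
  let p : pullback A.bar.hom B.bar.hom ⟶ S := pullback.fst _ _ ≫ A.bar.hom
  haveI : IsProper p := inferInstanceAs (IsProper (pullback.fst _ _ ≫ A.bar.hom))
  haveI : QuasiSeparatedSpace (pullback A.bar.hom B.bar.hom : Scheme.{u}) :=
    quasiSeparatedSpace_of_quasiSeparated p
  let Γ : (A.U : Scheme.{u}) ⟶ pullback A.bar.hom B.bar.hom :=
    pullback.lift A.U.ι (g₀ ≫ B.U.ι) (by rw [Category.assoc, hg])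
  have hΓ1 : Γ ≫ pullback.fst _ _ = A.U.ι := pullback.lift_fst _ _ _
  have hΓ2 : Γ ≫ pullback.snd _ _ = g₀ ≫ B.U.ι := pullback.lift_snd _ _ _
  haveI : IsImmersion (Γ ≫ pullback.fst _ _) := by rw [hΓ1]; infer_instance
  haveI : IsImmersion Γ := IsImmersion.of_comp Γ (pullback.fst _ _)
  have hle1 : ∀ x, (Γ ≫ pullback.fst A.bar.hom B.bar.hom) x ∈ A.U := fun x => by
    rw [hΓ1]; exact x.2
  have hle2 : ∀ x, (Γ ≫ pullback.snd A.bar.hom B.bar.hom) x ∈ B.U := fun x => by
    rw [hΓ2, Scheme.Hom.comp_apply]; exact (g₀ x).2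
  refine ⟨clPair p Γ, clHom p Γ A (pullback.fst _ _) rfl hle1,
    isoOpen_clHom p Γ A (pullback.fst _ _) rfl hle1 (𝟙 _) (by rw [hΓ1, Category.id_comp]),
    clHom p Γ B (pullback.snd _ _) pullback.condition.symm hle2, ?_⟩
  rw [restr_clHom_eq p Γ A (pullback.fst _ _) rfl hle1 (𝟙 _) (by rw [hΓ1, Category.id_comp]),
    restr_clHom_eq p Γ B (pullback.snd _ _) pullback.condition.symm hle2 g₀ hΓ2.symm]
  simp

/-- the morphisms whose open part is an isomorphism admit a right calculus of fractions -/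
theorem hasRightCalculusOfFractions : (isoOpen S).HasRightCalculusOfFractions where
  exists_rightFraction := by
    intro A B φ
    haveI : IsIso (restr φ.s) := φ.hs
    obtain ⟨A₁, t₁, ht₁, g₁, hg₁⟩ := exists_fraction (A := A) (B := B) (restr φ.f ≫ inv (restr φ.s))
      (by
        have h1 : B.U.ι ≫ B.bar.hom = restr φ.s ≫ φ.Y'.U.ι ≫ φ.Y'.bar.hom := by
          rw [← Category.assoc, restr_ι, Category.assoc, Over.w]
        rw [h1, Category.assoc, IsIso.inv_hom_id_assoc, ← Category.assoc, restr_ι, Category.assoc,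
          Over.w])
    have h2 : restr (t₁ ≫ φ.f) = restr (g₁ ≫ φ.s) := by
      rw [restr_comp, restr_comp, ← hg₁]
      simp
    obtain ⟨A₂, t₂, ht₂, h3⟩ := exists_eq_of_restr_eq _ _ h2
    exact ⟨⟨t₂ ≫ t₁, (isoOpen S).comp_mem _ _ ht₂ ht₁, t₂ ≫ g₁⟩, by
      simpa only [Category.assoc] using h3⟩
  ext := by
    intro A B B' f₁ f₂ s hs h
    haveI : IsIso (restr s) := hs
    have h2 : restr f₁ = restr f₂ := by
      rw [← cancel_mono (restr s), ← restr_comp, ← restr_comp, h]
    exact exists_eq_of_restr_eq _ _ h2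

end Groth.Agent.Helper4.NApx71
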