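import Mathlib
import Groth.Agent.Helper4.NApx61

set_option autoImplicit false
universe v₁ v₂ v₃ u₁ u₂ u₃

namespace Groth.Agent.Helper4.NApx72

open CategoryTheory CategoryTheory.Limits

variable {C : Type u₁} [Category.{v₁} C] {D : Type u₂} [Category.{v₂} D]
  {E : Type u₃} [Category.{v₃} E]

section

variable (W : MorphismProperty C) (S : C) (P : ObjectProperty (Over S))
  (hP : ∀ (X : Over S), P X → ∀ (Z : C) (t : Z ⟶ X.left), W t → P (Over.mk (t ≫ X.hom)))

/-- the object over `S` obtained by precomposing with a member of `W` -/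
def liftObj (X : P.FullSubcategory) {Z : C} (t : Z ⟶ X.obj.left) (ht : W t) :
    P.FullSubcategory :=
  ⟨Over.mk (t ≫ X.obj.hom), hP X.obj X.property Z t ht⟩

/-- the canonical morphism from `liftObj` -/
def liftHom (X : P.FullSubcategory) {Z : C} (t : Z ⟶ X.obj.left) (ht : W t) :
    liftObj W S P hP X t ht ⟶ X :=
  ObjectProperty.homMk (Over.homMk t rfl)

/-- a morphism out of `liftObj` -/
def liftTo (X Y : P.FullSubcategory) {Z : C} (t : Z ⟶ X.obj.left) (ht : W t)
    (g : Z ⟶ Y.obj.left) (hg : g ≫ Y.obj.hom = t ≫ X.obj.hom) :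
    liftObj W S P hP X t ht ⟶ Y :=
  ObjectProperty.homMk (Over.homMk g hg)

include hP in
theorem hasRightCalculusOfFractions_over [W.HasRightCalculusOfFractions] :
    ((W.inverseImage (Over.forget S)).inverseImage P.ι).HasRightCalculusOfFractions where
  exists_rightFraction := by
    intro X Y φ
    have hs : W φ.s.hom.left := φ.hs
    obtain ⟨ψ, hψ⟩ :=
      (MorphismProperty.LeftFraction.mk (W := W) φ.f.hom.left φ.s.hom.left hs).exists_rightFraction
    dsimp at hψ
    refine ⟨⟨liftHom W S P hP X ψ.s ψ.hs, (ψ.hs : W ψ.s), liftTo W S P hP X Y ψ.s ψ.hs ψ.f ?_⟩, ?_⟩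
    · have h1 : Y.obj.hom = φ.s.hom.left ≫ φ.Y'.obj.hom := (Over.w φ.s.hom).symm
      have h2 : X.obj.hom = φ.f.hom.left ≫ φ.Y'.obj.hom := (Over.w φ.f.hom).symm
      rw [h1, h2, ← Category.assoc, ← hψ, Category.assoc]
    · apply ObjectProperty.hom_ext
      apply Over.OverMorphism.ext
      exact hψ
  ext := by
    intro X Y Y' f₁ f₂ s hs h
    have hs' : W s.hom.left := hs
    have h' : f₁.hom.left ≫ s.hom.left = f₂.hom.left ≫ s.hom.left :=
      congrArg (fun k => k.hom.left) h
    obtain ⟨Z, t, ht, ht'⟩ := MorphismProperty.HasRightCalculusOfFractions.ext _ _ _ hs' h'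
    refine ⟨liftObj W S P hP X t ht, liftHom W S P hP X t ht, (ht : W t), ?_⟩
    apply ObjectProperty.hom_ext
    apply Over.OverMorphism.ext
    exact ht'

end

/-- The localization of a full subcategory of a slice category, stable under precomposition with the
localized class, embeds fully faithfully into the slice of the localization. -/
theorem full_faithful_over (W : MorphismProperty C) [W.HasRightCalculusOfFractions]
    (Q : C ⥤ D) [Q.IsLocalization W] (S : C) (P : ObjectProperty (Over S))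
    (hP : ∀ (X : Over S), P X → ∀ (Z : C) (t : Z ⟶ X.left), W t → P (Over.mk (t ≫ X.hom)))
    (L' : P.FullSubcategory ⥤ E)
    [L'.IsLocalization ((W.inverseImage (Over.forget S)).inverseImage P.ι)]
    (Φ : E ⥤ Over (Q.obj S)) (e : L' ⋙ Φ ≅ P.ι ⋙ Over.post Q) :
    Φ.Full ∧ Φ.Faithful := by
  set WF := (W.inverseImage (Over.forget S)).inverseImage P.ι with hWF
  haveI : WF.HasRightCalculusOfFractions := hasRightCalculusOfFractions_over W S P hP
  haveI : L'.EssSurj := Localization.essSurj L' WF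
  have hΦL : ∀ {X Y : P.FullSubcategory} (a : X ⟶ Y),
      Φ.map (L'.map a) = e.hom.app X ≫ (Over.post Q).map a.hom ≫ e.inv.app Y := by
    intro X Y a
    have := e.hom.naturality a
    simp only [Functor.comp_map, ObjectProperty.ι_map] at this
    rw [← Category.assoc, ← this, Category.assoc, Iso.hom_inv_id_app, Category.comp_id]
  constructor
  · refine ⟨?_⟩
    intro A B ψ
    let X := L'.objPreimage A
    let Y := L'.objPreimage B
    let iA : L'.obj X ≅ A := L'.objObjPreimageIso A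
    let iB : L'.obj Y ≅ B := L'.objObjPreimageIso B
    let ψ' : (Over.post Q).obj X.obj ⟶ (Over.post Q).obj Y.obj :=
      e.inv.app X ≫ Φ.map iA.hom ≫ ψ ≫ Φ.map iB.inv ≫ e.hom.app Y
    let ψl : Q.obj X.obj.left ⟶ Q.obj Y.obj.left := ψ'.left
    have hw : ψl ≫ Q.map Y.obj.hom = Q.map X.obj.hom := Over.w ψ'
    obtain ⟨ρ, hρ⟩ := Localization.exists_rightFraction Q W ψl
    have hρ' : Q.map ρ.s ≫ ψl = Q.map ρ.f := by
      rw [hρ, MorphismProperty.RightFraction.map_s_comp_map]
    have h1 : Q.map (ρ.f ≫ Y.obj.hom) = Q.map (ρ.s ≫ X.obj.hom) := by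
      rw [Q.map_comp, Q.map_comp, ← hρ', Category.assoc, hw]
    obtain ⟨Z, t, ht, ht'⟩ := (MorphismProperty.map_eq_iff_precomp Q W _ _).mp h1
    have hts : W (t ≫ ρ.s) := W.comp_mem _ _ ht ρ.hs
    let X'' := liftObj W S P hP X (t ≫ ρ.s) hts
    let s' : X'' ⟶ X := liftHom W S P hP X (t ≫ ρ.s) hts
    let f' : X'' ⟶ Y := liftTo W S P hP X Y (t ≫ ρ.s) hts (t ≫ ρ.f)
      (by rw [Category.assoc, Category.assoc, ht'])
    have hs'W : WF s' := hts
    haveI : IsIso (L'.map s') := Localization.inverts L' WF _ hs'W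
    refine ⟨iA.inv ≫ inv (L'.map s') ≫ L'.map f' ≫ iB.hom, ?_⟩
    have h2 : (Over.post Q).map f'.hom = (Over.post Q).map s'.hom ≫ ψ' := by
      apply Over.OverMorphism.ext
      show Q.map (t ≫ ρ.f) = Q.map (t ≫ ρ.s) ≫ ψl
      rw [Q.map_comp, Q.map_comp, Category.assoc, hρ']
    have h3 : Φ.map (L'.map f') = Φ.map (L'.map s') ≫ Φ.map iA.hom ≫ ψ ≫ Φ.map iB.inv := by
      rw [hΦL, hΦL, h2]
      simp only [ψ', Category.assoc, Iso.inv_hom_id_app_assoc, Iso.hom_inv_id_app,
        Functor.comp_obj, Category.comp_id]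
    rw [Φ.map_comp, Φ.map_comp, Φ.map_comp, Functor.map_inv, h3]
    simp only [Category.assoc, IsIso.inv_hom_id_assoc, ← Φ.map_comp, Iso.inv_hom_id,
      Φ.map_id, Category.comp_id]
    rw [← Category.assoc, ← Φ.map_comp, Iso.inv_hom_id, Φ.map_id, Category.id_comp]
  · refine ⟨?_⟩
    intro A B φ₁ φ₂ h
    let X := L'.objPreimage A
    let Y := L'.objPreimage B
    let iA : L'.obj X ≅ A := L'.objObjPreimageIso A
    let iB : L'.obj Y ≅ B := L'.objObjPreimageIso B
    suffices hψ : iA.hom ≫ φ₁ ≫ iB.inv = iA.hom ≫ φ₂ ≫ iB.inv by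
      rw [cancel_epi, cancel_mono] at hψ
      exact hψ
    obtain ⟨Z, t, ht, a₁, a₂, h₁, h₂⟩ :=
      NApx61.common_den WF L' (iA.hom ≫ φ₁ ≫ iB.inv) (iA.hom ≫ φ₂ ≫ iB.inv)
    haveI : IsIso (L'.map t) := Localization.inverts L' WF _ ht
    have h3 : Φ.map (L'.map a₁) = Φ.map (L'.map a₂) := by
      rw [← h₁, ← h₂]
      simp only [Φ.map_comp, h]
    rw [hΦL, hΦL, cancel_epi, cancel_mono] at h3
    have h4 : Q.map a₁.hom.left = Q.map a₂.hom.left := congrArg (fun k => k.left) h3
    obtain ⟨Z', s, hs, hs'⟩ := (MorphismProperty.map_eq_iff_precomp Q W _ _).mp h4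
    have hsW : WF (liftHom W S P hP Z s hs) := hs
    haveI : IsIso (L'.map (liftHom W S P hP Z s hs)) := Localization.inverts L' WF _ hsW
    have h5 : liftHom W S P hP Z s hs ≫ a₁ = liftHom W S P hP Z s hs ≫ a₂ := by
      apply ObjectProperty.hom_ext
      apply Over.OverMorphism.ext
      exact hs'
    have h6 : L'.map a₁ = L'.map a₂ := by
      rw [← cancel_epi (L'.map (liftHom W S P hP Z s hs)), ← L'.map_comp, ← L'.map_comp, h5]
    rw [← cancel_epi (L'.map t), h₁, h₂, h6]

end Groth.Agent.Helper4.NApx72
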