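import Groth.Prelude.Def_W4c6modpairsegaMP
import Groth.Agent.Helper4.NApx23
import Groth.Agent.Helper4.NApx50
import Mathlib

set_option autoImplicit false
universe u

namespace Groth.Agent.Helper4.NApx73

open AlgebraicGeometry CategoryTheory Limits

/-- colon ideals by finitely generated ideals commute with localization -/
theorem map_colon_of_fg {R S : Type*} [CommRing R] [CommRing S] [Algebra R S] (M : Submonoid R)
    [IsLocalization M S] (I J : Ideal R) (hJ : J.FG) :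
    (I.colon (J : Set R)).map (algebraMap R S) =
      (I.map (algebraMap R S)).colon ((J.map (algebraMap R S) : Ideal S) : Set S) := by
  classical
  apply le_antisymm
  · rw [Ideal.map_le_iff_le_comap]
    intro r hr
    rw [Ideal.mem_comap]
    have h1 : (I.map (algebraMap R S)).colon ((J.map (algebraMap R S) : Ideal S) : Set S) =
        (I.map (algebraMap R S)).colon ((algebraMap R S) '' (J : Set R)) := by
      exact Ideal.colon_span
    rw [h1, Submodule.mem_colon]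
    rintro _ ⟨j, hj, rfl⟩
    rw [smul_eq_mul, ← map_mul]
    exact Ideal.mem_map_of_mem _ (Submodule.mem_colon.mp hr j hj)
  · intro x hx
    obtain ⟨r, m, rfl⟩ := IsLocalization.exists_mk'_eq M x
    rw [IsLocalization.mk'_mem_map_algebraMap_iff M]
    have hr : algebraMap R S r ∈
        (I.map (algebraMap R S)).colon ((J.map (algebraMap R S) : Ideal S) : Set S) := by
      have := Ideal.mul_mem_left _ (algebraMap R S m) hx
      rwa [mul_comm, IsLocalization.mk'_spec] at this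
    obtain ⟨s, rfl⟩ := hJ
    have key : ∀ t : Finset R, (∀ j ∈ t, j ∈ Ideal.span (s : Set R)) →
        ∃ c ∈ M, ∀ j ∈ t, c * (r * j) ∈ I := by
      intro t
      induction t using Finset.induction_on with
      | empty => intro _; exact ⟨1, M.one_mem, by simp⟩
      | insert a t hat ih =>
        intro ht
        obtain ⟨c, hc, hct⟩ := ih (fun j hj => ht j (Finset.mem_insert_of_mem hj))
        have ha : a ∈ Ideal.span (s : Set R) := ht a (Finset.mem_insert_self a t)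
        have h2 : algebraMap R S (r * a) ∈ I.map (algebraMap R S) := by
          rw [map_mul]
          exact Submodule.mem_colon.mp hr _ (Ideal.mem_map_of_mem _ ha)
        obtain ⟨c', hc', hc'a⟩ := (IsLocalization.algebraMap_mem_map_algebraMap_iff M S I _).mp h2
        refine ⟨c * c', M.mul_mem hc hc', ?_⟩
        intro j hj
        rcases Finset.mem_insert.mp hj with rfl | hj
        · rw [mul_assoc]; exact Ideal.mul_mem_left _ _ hc'a
        · rw [mul_comm c c', mul_assoc]; exact Ideal.mul_mem_left _ _ (hct j hj)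
    obtain ⟨c, hc, hcs⟩ := key s (fun j hj => Ideal.subset_span hj)
    refine ⟨c, hc, ?_⟩
    rw [Ideal.colon_span, Submodule.mem_colon]
    intro j hj
    rw [smul_eq_mul, mul_assoc]
    exact hcs j hj

variable {X : Scheme.{u}}

/-- the colon ideal sheaf `(I : E)` for a finite type ideal sheaf `E` -/
noncomputable def colonSheaf (I E : X.IdealSheafData) (hE : BlowUp.IsFiniteTypeIdeal E) :
    X.IdealSheafData where
  ideal U := (I.ideal U).colon (E.ideal U : Set Γ(X, U.1))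
  map_ideal_basicOpen U f := by
    letI : Algebra Γ(X, U.1) Γ(X, X.basicOpen f) :=
      (X.presheaf.map (homOfLE (X.basicOpen_le f)).op).hom.toAlgebra
    have inst : IsLocalization.Away f Γ(X, X.basicOpen f) :=
      U.2.isLocalization_of_eq_basicOpen _ _ rfl
    have h := map_colon_of_fg (S := Γ(X, X.basicOpen f)) (Submonoid.powers f) (I.ideal U)
      (E.ideal U) (hE U)
    have e1 := I.map_ideal_basicOpen U f
    have e2 := E.map_ideal_basicOpen U f
    have hal : algebraMap Γ(X, U.1) Γ(X, X.basicOpen f) =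
      (X.presheaf.map (homOfLE (X.basicOpen_le f)).op).hom := rfl
    rw [hal, e1, e2] at h
    exact h

theorem colonSheaf_ideal (I E : X.IdealSheafData) (hE : BlowUp.IsFiniteTypeIdeal E)
    (U : X.affineOpens) :
    (colonSheaf I E hE).ideal U = (I.ideal U).colon (E.ideal U : Set Γ(X, U.1)) := rfl

theorem colonSheaf_mul_le (I E : X.IdealSheafData) (hE : BlowUp.IsFiniteTypeIdeal E) :
    colonSheaf I E hE * E ≤ I := by
  intro U
  rw [Scheme.IdealSheafData.ideal_mul]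
  show (colonSheaf I E hE).ideal U * E.ideal U ≤ I.ideal U
  rw [Ideal.mul_le]
  intro r hr s hs
  exact Submodule.mem_colon.mp hr s hs

/-- the colon of principal ideals with a nonzerodivisor denominator -/
theorem colon_span_singleton {R : Type*} [CommRing R] (a' e : R) (he : e ∈ nonZeroDivisors R) :
    (Ideal.span {a' * e}).colon ((Ideal.span {e} : Ideal R) : Set R) = Ideal.span {a'} := by
  ext r
  rw [Ideal.mem_colon_span_singleton, Ideal.mem_span_singleton', Ideal.mem_span_singleton']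
  constructor
  · rintro ⟨c, hc⟩
    refine ⟨c, ?_⟩
    have : (c * a' - r) * e = 0 := by rw [sub_mul, ← hc]; ring
    have := (mem_nonZeroDivisors_iff_right.mp he) _ this
    exact sub_eq_zero.mp this
  · rintro ⟨c, rfl⟩
    exact ⟨c, by ring⟩

/-- local structure of two effective Cartier divisors whose intersection is effective Cartier -/
theorem local_data (I₁ I₂ : X.IdealSheafData)
    (h₁ : BlowUp.IsEffCartierIdeal I₁) (h₂ : BlowUp.IsEffCartierIdeal I₂)
    (hE : BlowUp.IsEffCartierIdeal (I₁ ⊔ I₂)) (hft : BlowUp.IsFiniteTypeIdeal (I₁ ⊔ I₂)) (x : X) :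
    ∃ C : X.affineOpens, x ∈ C.1 ∧ ∃ a₁ a₂ e u v : Γ(X, C.1),
      a₁ ∈ nonZeroDivisors Γ(X, C.1) ∧ a₂ ∈ nonZeroDivisors Γ(X, C.1) ∧
      e ∈ nonZeroDivisors Γ(X, C.1) ∧ u * a₁ + v * a₂ = 1 ∧
      I₁.ideal C = Ideal.span {a₁ * e} ∧ I₂.ideal C = Ideal.span {a₂ * e} ∧
      (I₁ ⊔ I₂).ideal C = Ideal.span {e} ∧
      (colonSheaf I₁ (I₁ ⊔ I₂) hft).ideal C = Ideal.span {a₁} ∧
      (colonSheaf I₂ (I₁ ⊔ I₂) hft).ideal C = Ideal.span {a₂} := by
  obtain ⟨C, hxC, b₁, b₂, e, hb₁, hb₂, he, hI₁, hI₂, hIE⟩ :=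
    NApx23.exists_affine_three I₁ I₂ (I₁ ⊔ I₂) h₁ h₂ hE x
  have hsup : (I₁ ⊔ I₂).ideal C = I₁.ideal C ⊔ I₂.ideal C := rfl
  have hb₁e : b₁ ∈ Ideal.span {e} := by
    rw [← hIE, hsup, hI₁]
    exact Ideal.mem_sup_left (Ideal.mem_span_singleton_self _)
  have hb₂e : b₂ ∈ Ideal.span {e} := by
    rw [← hIE, hsup, hI₂]
    exact Ideal.mem_sup_right (Ideal.mem_span_singleton_self _)
  obtain ⟨a₁, ha₁⟩ := Ideal.mem_span_singleton'.mp hb₁e
  obtain ⟨a₂, ha₂⟩ := Ideal.mem_span_singleton'.mp hb₂e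
  have hna₁ : a₁ ∈ nonZeroDivisors Γ(X, C.1) := by
    rw [← ha₁] at hb₁
    exact (mul_mem_nonZeroDivisors.mp hb₁).1
  have hna₂ : a₂ ∈ nonZeroDivisors Γ(X, C.1) := by
    rw [← ha₂] at hb₂
    exact (mul_mem_nonZeroDivisors.mp hb₂).1
  have hee : e ∈ I₁.ideal C ⊔ I₂.ideal C := by
    rw [← hsup, hIE]; exact Ideal.mem_span_singleton_self _
  rw [hI₁, hI₂, ← ha₁, ← ha₂] at hee
  obtain ⟨y, hy, z, hz, hyz⟩ := Submodule.mem_sup.mp hee
  obtain ⟨u, rfl⟩ := Ideal.mem_span_singleton'.mp hy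
  obtain ⟨v, rfl⟩ := Ideal.mem_span_singleton'.mp hz
  have huv : u * a₁ + v * a₂ = 1 := by
    have h0 : (u * a₁ + v * a₂ - 1) * e = 0 := by
      rw [sub_mul, add_mul, one_mul, mul_assoc, mul_assoc, hyz, sub_self]
    exact sub_eq_zero.mp ((mem_nonZeroDivisors_iff_right.mp he) _ h0)
  refine ⟨C, hxC, a₁, a₂, e, u, v, hna₁, hna₂, he, huv, by rw [hI₁, ha₁], by rw [hI₂, ha₂], hIE,
    ?_, ?_⟩
  · rw [colonSheaf_ideal, hIE, hI₁, ← ha₁]
    exact colon_span_singleton a₁ e he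
  · rw [colonSheaf_ideal, hIE, hI₂, ← ha₂]
    exact colon_span_singleton a₂ e he

theorem main18733 (I₁ I₂ : X.IdealSheafData)
    (h₁ : BlowUp.IsEffCartierIdeal I₁) (h₂ : BlowUp.IsEffCartierIdeal I₂)
    (hE : BlowUp.IsEffCartierIdeal (I₁ ⊔ I₂)) :
    ∃ I₁' I₂' : X.IdealSheafData, BlowUp.IsEffCartierIdeal I₁' ∧ BlowUp.IsEffCartierIdeal I₂' ∧
      I₁ = I₁' * (I₁ ⊔ I₂) ∧ I₂ = I₂' * (I₁ ⊔ I₂) ∧ I₁' ⊔ I₂' = ⊤ ∧
      ∀ D : X.IdealSheafData, BlowUp.IsEffCartierIdeal D → D ≤ I₁ → D ≤ I₂ →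
        D ≤ I₁' * I₂' * (I₁ ⊔ I₂) := by
  have hft := NApx50.isFiniteType_of_isEffCartier (I₁ ⊔ I₂) hE
  have hloc := local_data I₁ I₂ h₁ h₂ hE hft
  choose C hxC a₁ a₂ e u v hna₁ hna₂ hne huv hI₁ hI₂ hIE hJ₁ hJ₂ using hloc
  have hU : ⨆ x, (C x).1 = ⊤ := by
    rw [eq_top_iff]
    intro x _
    exact TopologicalSpace.Opens.mem_iSup.mpr ⟨x, hxC x⟩
  refine ⟨colonSheaf I₁ (I₁ ⊔ I₂) hft, colonSheaf I₂ (I₁ ⊔ I₂) hft, ?_, ?_, ?_, ?_, ?_, ?_⟩
  · intro x
    exact ⟨C x, hxC x, a₁ x, hna₁ x, hJ₁ x⟩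
  · intro x
    exact ⟨C x, hxC x, a₂ x, hna₂ x, hJ₂ x⟩
  · refine Scheme.IdealSheafData.ext_of_iSup_eq_top C hU (fun x => ?_)
    rw [Scheme.IdealSheafData.ideal_mul]
    show I₁.ideal (C x) = (colonSheaf I₁ (I₁ ⊔ I₂) hft).ideal (C x) * (I₁ ⊔ I₂).ideal (C x)
    rw [hJ₁, hIE, hI₁, Ideal.span_singleton_mul_span_singleton]
  · refine Scheme.IdealSheafData.ext_of_iSup_eq_top C hU (fun x => ?_)
    rw [Scheme.IdealSheafData.ideal_mul]
    show I₂.ideal (C x) = (colonSheaf I₂ (I₁ ⊔ I₂) hft).ideal (C x) * (I₁ ⊔ I₂).ideal (C x)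
    rw [hJ₂, hIE, hI₂, Ideal.span_singleton_mul_span_singleton]
  · refine Scheme.IdealSheafData.ext_of_iSup_eq_top C hU (fun x => ?_)
    show (colonSheaf I₁ (I₁ ⊔ I₂) hft).ideal (C x) ⊔ (colonSheaf I₂ (I₁ ⊔ I₂) hft).ideal (C x) = ⊤
    rw [hJ₁, hJ₂, Ideal.eq_top_iff_one, ← huv x]
    exact Ideal.add_mem _
      (Ideal.mem_sup_left (Ideal.mul_mem_left _ _ (Ideal.mem_span_singleton_self _)))
      (Ideal.mem_sup_right (Ideal.mul_mem_left _ _ (Ideal.mem_span_singleton_self _)))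
  · intro D _ hD₁ hD₂
    refine Scheme.IdealSheafData.le_of_iSup_eq_top C hU (fun x => ?_)
    rw [Scheme.IdealSheafData.ideal_mul, Scheme.IdealSheafData.ideal_mul]
    show D.ideal (C x) ≤ (colonSheaf I₁ (I₁ ⊔ I₂) hft).ideal (C x) *
      (colonSheaf I₂ (I₁ ⊔ I₂) hft).ideal (C x) * (I₁ ⊔ I₂).ideal (C x)
    rw [hJ₁, hJ₂, hIE, Ideal.span_singleton_mul_span_singleton,
      Ideal.span_singleton_mul_span_singleton]
    intro z hz
    have hz₁ : z ∈ Ideal.span {a₁ x * e x} := hI₁ x ▸ hD₁ (C x) hz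
    have hz₂ : z ∈ Ideal.span {a₂ x * e x} := hI₂ x ▸ hD₂ (C x) hz
    obtain ⟨r, hr⟩ := Ideal.mem_span_singleton'.mp hz₁
    obtain ⟨s, hs⟩ := Ideal.mem_span_singleton'.mp hz₂
    have h1 : r * a₁ x = s * a₂ x := by
      have h0 : (r * a₁ x - s * a₂ x) * e x = 0 := by
        rw [sub_mul, mul_assoc, mul_assoc, hr, hs, sub_self]
      exact sub_eq_zero.mp ((mem_nonZeroDivisors_iff_right.mp (hne x)) _ h0)
    rw [Ideal.mem_span_singleton']
    refine ⟨u x * s + r * v x, ?_⟩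
    have h2 : r = (u x * s + r * v x) * a₂ x := by
      calc r = r * (u x * a₁ x + v x * a₂ x) := by rw [huv x, mul_one]
        _ = u x * (r * a₁ x) + r * v x * a₂ x := by ring
        _ = u x * (s * a₂ x) + r * v x * a₂ x := by rw [h1]
        _ = (u x * s + r * v x) * a₂ x := by ring
    calc (u x * s + r * v x) * (a₁ x * a₂ x * e x)
        = ((u x * s + r * v x) * a₂ x) * (a₁ x * e x) := by ring
      _ = r * (a₁ x * e x) := by rw [← h2]
      _ = z := hr

end Groth.Agent.Helper4.NApx73
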