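import Mathlib
import Groth.Agent.Helper4.NApx70

set_option autoImplicit false
universe v₁ v₂ u₁ u₂

namespace Groth.Agent.Helper4.NApx74

open CategoryTheory CategoryTheory.Limits

variable {C : Type u₁} [Category.{v₁} C] {D : Type u₂} [Category.{v₂} D]

/-- the two fraction conditions imply a right calculus of fractions -/
theorem hasRightCalculusOfFractions_of_fractions (W : MorphismProperty C) [W.IsMultiplicative]
    (L : C ⥤ D) (hL : W.IsInvertedBy L)
    (hfull : ∀ (X Y : C) (g : L.obj X ⟶ L.obj Y),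
      ∃ (X' : C) (s : X' ⟶ X) (_ : W s) (f : X' ⟶ Y), L.map s ≫ g = L.map f)
    (hfaith : ∀ (X Y : C) (f₁ f₂ : X ⟶ Y), L.map f₁ = L.map f₂ →
      ∃ (X' : C) (s : X' ⟶ X) (_ : W s), s ≫ f₁ = s ≫ f₂) :
    W.HasRightCalculusOfFractions where
  exists_rightFraction := by
    intro X Y φ
    haveI : IsIso (L.map φ.s) := hL _ φ.hs
    obtain ⟨X₁, t, ht, h, hth⟩ := hfull X Y (L.map φ.f ≫ inv (L.map φ.s))
    have h2 : L.map (t ≫ φ.f) = L.map (h ≫ φ.s) := by
      rw [L.map_comp, L.map_comp, ← hth]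
      simp
    obtain ⟨X₂, u, hu, h3⟩ := hfaith _ _ _ _ h2
    exact ⟨⟨u ≫ t, W.comp_mem _ _ hu ht, u ≫ h⟩, by simpa only [Category.assoc] using h3⟩
  ext := by
    intro X Y Y' f₁ f₂ s hs h
    haveI : IsIso (L.map s) := hL _ hs
    have h2 : L.map f₁ = L.map f₂ := by
      rw [← cancel_mono (L.map s), ← L.map_comp, ← L.map_comp, h]
    exact hfaith _ _ _ _ h2

/-- localization criterion by fractions, not assuming a calculus of fractions beforehand -/
theorem isLocalization_of_fractions (W : MorphismProperty C) [W.IsMultiplicative]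
    (L : C ⥤ D) (hL : W.IsInvertedBy L) [L.EssSurj]
    (hfull : ∀ (X Y : C) (g : L.obj X ⟶ L.obj Y),
      ∃ (X' : C) (s : X' ⟶ X) (_ : W s) (f : X' ⟶ Y), L.map s ≫ g = L.map f)
    (hfaith : ∀ (X Y : C) (f₁ f₂ : X ⟶ Y), L.map f₁ = L.map f₂ →
      ∃ (X' : C) (s : X' ⟶ X) (_ : W s), s ≫ f₁ = s ≫ f₂) :
    L.IsLocalization W := by
  haveI := hasRightCalculusOfFractions_of_fractions W L hL hfull hfaith
  exact NApx70.isLocalization_of_fractions W L hL hfull hfaith

end Groth.Agent.Helper4.NApx74
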