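import Mathlib
import Groth.Prelude.Def_CxOX
import Groth.Prelude.Def_QCohCat
import Groth.Agent.Helper4.SuppLib
import Groth.Agent.Helper4.QcohGlue

/-! Restriction `QCoh(X) ⥤ QCoh(U)` is a localization for a quasi-compact open `U`. -/

set_option autoImplicit false
universe u
open CategoryTheory CategoryTheory.Limits AlgebraicGeometry TopologicalSpace Opposite

namespace Groth.Agent.Helper4.QCohLoc

variable {X : Scheme.{u}} (U : X.Opens)

theorem isZero_restrict_iff (K : X.Modules) :
    IsZero ((Scheme.Modules.restrictFunctor U.ι).obj K) ↔ CohB1.support K ⊆ (U : Set X)ᶜ := by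
  constructor
  · intro h x hx hxU
    have h1 := Groth.Agent.Helper4.SuppLib.support_eq_empty_of_isZero _ h
    rw [Groth.Agent.Helper4.SuppLib.support_restrict] at h1
    have : (⟨x, hxU⟩ : U) ∈ (fun y => U.ι y) ⁻¹' CohB1.support K := hx
    rw [h1] at this
    exact this
  · intro h
    apply Groth.Agent.Helper4.SuppLib.isZero_of_support
    rw [Groth.Agent.Helper4.SuppLib.support_restrict]
    ext y
    simp only [Set.mem_preimage, Set.mem_empty_iff_false, iff_false]
    intro hy
    exact h hy y.2

theorem isIso_restrict_map_iff {A B : X.Modules} (g : A ⟶ B) :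
    IsIso ((Scheme.Modules.restrictFunctor U.ι).map g) ↔
      CohB1.support (kernel g) ⊆ (U : Set X)ᶜ ∧ CohB1.support (cokernel g) ⊆ (U : Set X)ᶜ := by
  rw [← isZero_restrict_iff, ← isZero_restrict_iff]
  have e1 : kernel ((Scheme.Modules.restrictFunctor U.ι).map g) ≅
      (Scheme.Modules.restrictFunctor U.ι).obj (kernel g) :=
    (PreservesKernel.iso (Scheme.Modules.restrictFunctor U.ι) g).symm
  have e2 : cokernel ((Scheme.Modules.restrictFunctor U.ι).map g) ≅
      (Scheme.Modules.restrictFunctor U.ι).obj (cokernel g) :=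
    (PreservesCokernel.iso (Scheme.Modules.restrictFunctor U.ι) g).symm
  rw [isIso_iff_mono_and_epi, Preadditive.mono_iff_isZero_kernel,
    Preadditive.epi_iff_isZero_cokernel]
  exact ⟨fun h => ⟨h.1.of_iso e1.symm, h.2.of_iso e2.symm⟩,
    fun h => ⟨h.1.of_iso e1, h.2.of_iso e2⟩⟩

end Groth.Agent.Helper4.QCohLoc
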