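import Mathlib
import Groth.Prelude.Def_CxOX
import Groth.Prelude.Def_QCohCat
import Groth.Agent.Helper4.NApx74
import Groth.Agent.Helper4.QCohLoc
import Groth.Agent.Helper4.QcohLimits
import Groth.Agent.Helper4.FTLift
import Groth.Agent.Helper4.SubInf6
import Groth.Agent.S9514
import Groth.Agent.S2252

set_option autoImplicit false
universe u
open CategoryTheory CategoryTheory.Limits AlgebraicGeometry TopologicalSpace Opposite

namespace Groth.Agent.Helper4.NApx75

set_option maxHeartbeats 1600000 in
theorem main13987 (X : Scheme.{u}) [IsNoetherian X] (U : X.Opens)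
    (hres : ∀ M : X.Modules, Coh.IsCoh M → Coh.IsCoh ((Scheme.Modules.restrictFunctor U.ι).obj M)) :
    (ObjectProperty.lift (fun N : (↑U : Scheme.{u}).Modules => Coh.IsCoh N)
        (ObjectProperty.ι (fun M : X.Modules => Coh.IsCoh M) ⋙ Scheme.Modules.restrictFunctor U.ι)
        (fun M => hres M.obj M.property)).IsLocalization
      (fun (A B : ObjectProperty.FullSubcategory (fun M : X.Modules => Coh.IsCoh M)) (f : A ⟶ B) =>
        CohB1.support (kernel f.hom) ⊆ (↑U : Set X)ᶜ ∧
          CohB1.support (cokernel f.hom) ⊆ (↑U : Set X)ᶜ) := by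
  let P : ObjectProperty X.Modules := fun M : X.Modules => Coh.IsCoh M
  let P' : ObjectProperty (↑U : Scheme.{u}).Modules := fun N => Coh.IsCoh N
  let R := Scheme.Modules.restrictFunctor U.ι
  let L : P.FullSubcategory ⥤ P'.FullSubcategory :=
    ObjectProperty.lift P' (ObjectProperty.ι P ⋙ R) (fun M => hres M.obj M.property)
  have hLmap : ∀ {A B : P.FullSubcategory} (f : A ⟶ B), (L.map f).hom = R.map f.hom := fun _ => rfl
  have hW : ((MorphismProperty.isomorphisms P'.FullSubcategory).inverseImage L) =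
      (fun (A B : P.FullSubcategory) (f : A ⟶ B) =>
        CohB1.support (kernel f.hom) ⊆ (↑U : Set X)ᶜ ∧
          CohB1.support (cokernel f.hom) ⊆ (↑U : Set X)ᶜ) := by
    ext A B f
    rw [← Groth.Agent.Helper4.QCohLoc.isIso_restrict_map_iff]
    change IsIso (L.map f) ↔ _
    exact (ObjectProperty.isIso_hom_iff (L.map f)).symm
  show L.IsLocalization _
  rw [← hW]
  have hX : ∀ x : X, ∃ V : X.Opens, x ∈ V ∧ TopologicalSpace.NoetherianSpace (V : Set X) :=
    fun x => ⟨⊤, trivial, inferInstance⟩
  haveI : L.EssSurj := by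
    refine ⟨fun N => ?_⟩
    haveI : Coh.IsQCoh N.obj := N.property.1
    obtain ⟨G', hq, hft, ⟨e⟩⟩ := Groth.Agent.S2252.result hX U N.obj N.property.2
    exact ⟨⟨G', ⟨hq, hft⟩⟩, ⟨ObjectProperty.isoMk _ e⟩⟩
  have hWiff : ∀ {A B : P.FullSubcategory} (f : A ⟶ B),
      ((MorphismProperty.isomorphisms P'.FullSubcategory).inverseImage L) f ↔
        IsIso (R.map f.hom) := by
    intro A B f
    change IsIso (L.map f) ↔ _
    exact (ObjectProperty.isIso_hom_iff (L.map f)).symm
  refine NApx74.isLocalization_of_fractions _ L (fun _ _ f hf => hf) ?_ ?_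
  · intro A B φ
    haveI : A.obj.IsQuasicoherent := A.property.1
    haveI : B.obj.IsQuasicoherent := B.property.1
    haveI : (A.obj ⊞ B.obj).IsQuasicoherent :=
      Groth.Agent.Helper4.QcohLimits.isQuasicoherent_biprod _ _
    haveI : (R.obj A.obj).IsQuasicoherent := (hres A.obj A.property).1
    let φ₀ : R.obj A.obj ⟶ R.obj B.obj := φ.hom
    let i : R.obj A.obj ⟶ R.obj (A.obj ⊞ B.obj) :=
      R.map (biprod.inl : A.obj ⟶ A.obj ⊞ B.obj) +
        φ₀ ≫ R.map (biprod.inr : B.obj ⟶ A.obj ⊞ B.obj)
    have hi1 : i ≫ R.map biprod.fst = 𝟙 _ := by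
      simp only [i, Preadditive.add_comp, Category.assoc, ← R.map_comp, biprod.inl_fst,
        biprod.inr_fst, R.map_id, R.map_zero, comp_zero, add_zero]
    have hi2 : i ≫ R.map biprod.snd = φ₀ := by
      simp only [i, Preadditive.add_comp, Category.assoc, ← R.map_comp, biprod.inl_snd,
        biprod.inr_snd, R.map_id, R.map_zero, Category.comp_id, zero_add]
    haveI : Mono i := mono_of_mono_fac hi1
    obtain ⟨G', i', e, -, hq, hft, he⟩ :=
      Groth.Agent.Helper4.SubInf.exists_extension_locallyNoetherian hX U (A.obj ⊞ B.obj)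
        (R.obj A.obj) (hres A.obj A.property).2 i
    let A' : P.FullSubcategory := ⟨G', ⟨hq, hft⟩⟩
    let t : A' ⟶ A := ObjectProperty.homMk (i' ≫ biprod.fst)
    let g : A' ⟶ B := ObjectProperty.homMk (i' ≫ biprod.snd)
    have ht : R.map t.hom = e.hom := by
      show R.map (i' ≫ biprod.fst) = e.hom
      rw [R.map_comp, ← he, Category.assoc, hi1, Category.comp_id]
    refine ⟨A', t, ?_, g, ?_⟩
    · rw [hWiff, ht]
      infer_instance
    · apply ObjectProperty.hom_ext
      show R.map t.hom ≫ φ₀ = R.map (i' ≫ biprod.snd)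
      rw [ht, R.map_comp, ← he, Category.assoc, hi2]
  · intro A B f₁ f₂ h
    have h' : R.map f₁.hom = R.map f₂.hom := congrArg (fun k => k.hom) h
    let d : A.obj ⟶ B.obj := f₁.hom - f₂.hom
    have hd : R.map d = 0 := by
      show R.map (f₁.hom - f₂.hom) = 0
      rw [R.map_sub, h', sub_self]
    have hK := (Groth.Agent.S9514.result X A.property B.property d).1
    let A' : P.FullSubcategory := ⟨kernel d, hK⟩
    let t : A' ⟶ A := ObjectProperty.homMk (kernel.ι d)
    refine ⟨A', t, ?_, ?_⟩
    · rw [hWiff]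
      show IsIso (R.map (kernel.ι d))
      have h1 : kernelComparison d R ≫ kernel.ι (R.map d) = R.map (kernel.ι d) :=
        kernelComparison_comp_ι d R
      have h2 : ∀ (k : R.obj A.obj ⟶ R.obj B.obj), k = 0 → IsIso (kernel.ι k) := by
        rintro _ rfl
        infer_instance
      haveI := h2 _ hd
      haveI : IsIso (kernelComparison d R) := by
        rw [← PreservesKernel.iso_hom]
        infer_instance
      rw [← h1]
      infer_instance
    · apply ObjectProperty.hom_ext
      show kernel.ι d ≫ f₁.hom = kernel.ι d ≫ f₂.hom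
      rw [← sub_eq_zero, ← Preadditive.comp_sub]
      exact kernel.condition d

end Groth.Agent.Helper4.NApx75
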