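import Mathlib
import Groth.Agent.Helper4.NApx75
import Groth.Agent.Helper4.NApx76
import Groth.Agent.Helper1.FLFAnn2
import Groth.Agent.Helper4.SubExt3

/-!
# The centre of `Coh(X)` for a noetherian scheme `X`
-/

set_option autoImplicit false
set_option linter.style.haveILetI false

namespace Groth.Agent.Helper4.NApx78

open CategoryTheory Limits AlgebraicGeometry TopologicalSpace Opposite
open Groth.Agent.Helper1.Dev Groth.Agent.Helper1.FLFAnn

universe u

variable {X : Scheme.{u}} [IsNoetherian X]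

/-- roofs: a morphism between the restrictions of coherent modules to an open comes from a roof -/
theorem exists_roof (A B : X.Modules) (hA : Coh.IsCoh A) (hB : Coh.IsCoh B) (U : X.Opens)
    (a : (Scheme.Modules.restrictFunctor U.ι).obj A ⟶ (Scheme.Modules.restrictFunctor U.ι).obj B) :
    ∃ (H : X.Modules) (v : H ⟶ A) (w : H ⟶ B), Coh.IsCoh H ∧
      IsIso ((Scheme.Modules.restrictFunctor U.ι).map v) ∧
      (Scheme.Modules.restrictFunctor U.ι).map v ≫ a =
        (Scheme.Modules.restrictFunctor U.ι).map w := by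
  let R := Scheme.Modules.restrictFunctor U.ι
  have hX : ∀ x : X, ∃ V : X.Opens, x ∈ V ∧ TopologicalSpace.NoetherianSpace (V : Set X) :=
    fun x => ⟨⊤, trivial, inferInstance⟩
  haveI : A.IsQuasicoherent := hA.1
  haveI : B.IsQuasicoherent := hB.1
  haveI : (A ⊞ B).IsQuasicoherent := Groth.Agent.Helper4.QcohLimits.isQuasicoherent_biprod _ _
  have hRA := isCoh_restrict hA U
  haveI : (R.obj A).IsQuasicoherent := hRA.1
  let i : R.obj A ⟶ R.obj (A ⊞ B) :=
    R.map (biprod.inl : A ⟶ A ⊞ B) + a ≫ R.map (biprod.inr : B ⟶ A ⊞ B)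
  have hi1 : i ≫ R.map biprod.fst = 𝟙 _ := by
    simp only [i, Preadditive.add_comp, Category.assoc, ← R.map_comp, biprod.inl_fst,
      biprod.inr_fst, R.map_id, R.map_zero, comp_zero, add_zero]
  have hi2 : i ≫ R.map biprod.snd = a := by
    simp only [i, Preadditive.add_comp, Category.assoc, ← R.map_comp, biprod.inl_snd,
      biprod.inr_snd, R.map_id, R.map_zero, zero_add]
    exact Category.comp_id a
  haveI : Mono i := mono_of_mono_fac hi1
  obtain ⟨G', i', e, -, hq, hft, he⟩ :=
    Groth.Agent.Helper4.SubInf.exists_extension_locallyNoetherian hX U (A ⊞ B)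
      (R.obj A) hRA.2 i
  have ht : R.map (i' ≫ biprod.fst) = e.hom := by
    rw [R.map_comp, ← he, Category.assoc, hi1, Category.comp_id]
  refine ⟨G', i' ≫ biprod.fst, i' ≫ biprod.snd, ⟨hq, hft⟩, ?_, ?_⟩
  · show IsIso (R.map (i' ≫ biprod.fst))
    rw [ht]
    infer_instance
  · show R.map (i' ≫ biprod.fst) ≫ a = R.map (i' ≫ biprod.snd)
    rw [ht, R.map_comp, ← he, Category.assoc, hi2]

set_option backward.isDefEq.respectTransparency false in
/-- a section over an open of a coherent module is the image of a section of a coherent module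
mapping to the structure sheaf by a morphism which is an isomorphism over the open -/
theorem exists_roof_through_section (M : X.Modules) (hM : Coh.IsCoh M) (U : X.Opens)
    (m : M.val.obj (op U)) :
    ∃ (H : X.Modules) (v : H ⟶ Coh.structureModule X) (w : H ⟶ M), Coh.IsCoh H ∧
      IsIso ((Scheme.Modules.restrictFunctor U.ι).map v) ∧
      (∀ y : H.val.obj (op U), (v.val.app (op U)).hom y = 0 → y = 0) ∧
      ∃ h : H.val.obj (op U), (w.val.app (op U)).hom h = m := by
  let R := Scheme.Modules.restrictFunctor U.ι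
  have htop : U.ι ''ᵁ ⊤ = U := Scheme.Opens.ι_image_top U
  let s' : (M.restrict U.ι).val.obj (op ⊤) := M.val.map (homOfLE htop.le).op m
  obtain ⟨σ, hσ⟩ := Groth.Agent.Helper4.SubExt.exists_unit_hom_of_section (M.restrict U.ι) s'
  let ι₀ := Scheme.Modules.restrictUnitIso U.ι
  let a : R.obj (Coh.structureModule X) ⟶ R.obj M := ι₀.hom ≫ σ
  obtain ⟨H, v, w, hH, hv, hvw⟩ := exists_roof (Coh.structureModule X) M
    (isCoh_structureModule X) hM U a
  haveI := hv
  have hround : ∀ (N : X.Modules) (y : N.val.obj (op U)),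
      N.val.map (homOfLE htop.ge).op (N.val.map (homOfLE htop.le).op y) = y := by
    intro N y
    rw [← PresheafOfModules.map_comp_apply]
    have : ((homOfLE htop.le).op ≫ (homOfLE htop.ge).op : op U ⟶ op U) = 𝟙 _ :=
      Subsingleton.elim _ _
    rw [this, N.val.map_id]
    rfl
  refine ⟨H, v, w, hH, hv, ?_, ?_⟩
  · intro y hy
    let y' : (R.obj H).val.obj (op ⊤) := H.val.map (homOfLE htop.le).op y
    have e0 : ((R.map v).val.app (op ⊤)).hom y' = 0 := by
      show (v.val.app (op (U.ι ''ᵁ ⊤))).hom (H.val.map (homOfLE htop.le).op y) = 0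
      rw [PresheafOfModules.naturality_apply, hy, map_zero]
    have e1 : ((inv (R.map v)).val.app (op ⊤)).hom (((R.map v).val.app (op ⊤)).hom y') = y' :=
      congrArg (fun k : R.obj H ⟶ R.obj H => (k.val.app (op ⊤)).hom y') (IsIso.hom_inv_id (R.map v))
    rw [e0, map_zero] at e1
    rw [← hround H y]
    show H.val.map (homOfLE htop.ge).op y' = 0
    rw [← e1, map_zero]
  let x₀ : (R.obj (Coh.structureModule X)).val.obj (op ⊤) :=
    (ι₀.inv.val.app (op ⊤)).hom (1 : (↑U : Scheme.{u}).ringCatSheaf.obj.obj (op ⊤))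
  let h' : (R.obj H).val.obj (op ⊤) := ((inv (R.map v)).val.app (op ⊤)).hom x₀
  have h1 : ((R.map w).val.app (op ⊤)).hom h' = s' := by
    rw [← hvw]
    show (a.val.app (op ⊤)).hom (((R.map v).val.app (op ⊤)).hom
      (((inv (R.map v)).val.app (op ⊤)).hom x₀)) = s'
    have e1 : ((R.map v).val.app (op ⊤)).hom (((inv (R.map v)).val.app (op ⊤)).hom x₀) = x₀ :=
      congrArg (fun k : R.obj (Coh.structureModule X) ⟶ R.obj (Coh.structureModule X) =>
        (k.val.app (op ⊤)).hom x₀) (IsIso.inv_hom_id (R.map v))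
    rw [e1]
    show (σ.val.app (op ⊤)).hom ((ι₀.hom.val.app (op ⊤)).hom ((ι₀.inv.val.app (op ⊤)).hom
      (1 : (↑U : Scheme.{u}).ringCatSheaf.obj.obj (op ⊤)))) = s'
    have e2 : (ι₀.hom.val.app (op ⊤)).hom ((ι₀.inv.val.app (op ⊤)).hom
        (1 : (↑U : Scheme.{u}).ringCatSheaf.obj.obj (op ⊤))) =
        (1 : (↑U : Scheme.{u}).ringCatSheaf.obj.obj (op ⊤)) :=
      congrArg (fun k : (SheafOfModules.unit (↑U : Scheme.{u}).ringCatSheaf : (↑U : Scheme.{u}).Modules) ⟶
        SheafOfModules.unit (↑U : Scheme.{u}).ringCatSheaf =>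
        (k.val.app (op ⊤)).hom (1 : (↑U : Scheme.{u}).ringCatSheaf.obj.obj (op ⊤))) ι₀.inv_hom_id
    rw [e2]
    exact hσ
  have h2 : (w.val.app (op (U.ι ''ᵁ ⊤))).hom h' = s' := h1
  refine ⟨H.val.map (homOfLE htop.ge).op h', ?_⟩
  rw [PresheafOfModules.naturality_apply, h2]
  exact hround M m

set_option backward.isDefEq.respectTransparency false in
/-- S13988 -/
theorem main13988
    (φ : 𝟭 (ObjectProperty.FullSubcategory (fun M : X.Modules => Coh.IsCoh M)) ⟶
      𝟭 (ObjectProperty.FullSubcategory (fun M : X.Modules => Coh.IsCoh M))) :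
    ∃! r : Coh.Γtop X, ∀ M : ObjectProperty.FullSubcategory (fun M : X.Modules => Coh.IsCoh M),
      (SheafOfModules.toSheaf X.ringCatSheaf).map (φ.app M).hom = Coh.smulAb M.obj r := by
  let P : ObjectProperty X.Modules := fun M => Coh.IsCoh M
  let O : P.FullSubcategory := ⟨Coh.structureModule X, isCoh_structureModule X⟩
  let one : Γ(Coh.structureModule X, ⊤) := ofFn (1 : Γ(X, ⊤))
  let f : Coh.structureModule X ⟶ Coh.structureModule X := (φ.app O).hom
  let r : Γ(X, ⊤) := toFn (f.app ⊤ one)
  let Φ : ∀ M : P.FullSubcategory, M.obj ⟶ M.obj := fun M => (φ.app M).hom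
  let ψ : ∀ M : P.FullSubcategory, M.obj ⟶ M.obj := fun M => Φ M - scalarHom M.obj r
  have nat : ∀ {M N : P.FullSubcategory} (g : M.obj ⟶ N.obj), g ≫ ψ N = ψ M ≫ g := by
    intro M N g
    have h1 : g ≫ Φ N = Φ M ≫ g :=
      congrArg (fun k => k.hom) (φ.naturality (ObjectProperty.homMk g : M ⟶ N))
    show g ≫ (Φ N - scalarHom N.obj r) = (Φ M - scalarHom M.obj r) ≫ g
    rw [Preadditive.comp_sub, Preadditive.sub_comp, h1, scalarHom_comm]
  have key : ∀ (U : X.Opens) (s : Γ(Coh.structureModule X, U)),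
      f.app U s = (scalarHom (Coh.structureModule X) r).app U s := by
    intro U s
    have hs : s = toFn s • resS (Coh.structureModule X) one U := by
      show toFn s = toFn (toFn s • resS (Coh.structureModule X) one U)
      rw [toFn_smul]
      show toFn s = toFn s * X.presheaf.map (homOfLE (le_top : U ≤ ⊤)).op (1 : Γ(X, ⊤))
      rw [map_one, mul_one]
    have hnat : f.app U (resS (Coh.structureModule X) one U) =
        resS (Coh.structureModule X) (f.app ⊤ one) U :=
      (congr($(f.mapPresheaf.naturality (homOfLE (le_top : U ≤ ⊤)).op) one))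
    rw [scalarHom_app]
    conv_lhs => rw [hs]
    rw [Scheme.Modules.Hom.app_smul, hnat]
    show toFn (toFn s • resS (Coh.structureModule X) (f.app ⊤ one) U) = toFn (resG r U • s)
    rw [toFn_smul, toFn_smul]
    show toFn s * resG r U = resG r U * toFn s
    exact mul_comm _ _
  have hΦO : Φ O = scalarHom (Coh.structureModule X) r := by
    apply Scheme.Modules.hom_ext
    intro U
    ext s
    exact key U s
  have hψO : ψ O = 0 := sub_eq_zero.2 hΦO
  have hψ : ∀ M : P.FullSubcategory, ψ M = 0 := by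
    intro M
    haveI : M.obj.IsQuasicoherent := M.property.1
    apply Groth.Agent.Helper4.QcohLocal.eq_zero_of_app_eq_zero_of_affine_cover
    intro x
    obtain ⟨U, hU, hx⟩ := Groth.Agent.Helper4.QcohLimits.exists_affine_nhd x
    refine ⟨U, hU, hx, fun m => ?_⟩
    obtain ⟨H, v, w, hH, -, hinj, h, hwh⟩ := exists_roof_through_section M.obj M.property U m
    let H' : P.FullSubcategory := ⟨H, hH⟩
    have n1 : v ≫ ψ O = ψ H' ≫ v := nat (M := H') (N := O) v
    have n2 : w ≫ ψ M = ψ H' ≫ w := nat (M := H') (N := M) w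
    have h0 : (ψ H').app U h = 0 := by
      apply hinj
      have e := congrArg (fun k : H ⟶ Coh.structureModule X => k.app U h) n1
      rw [hψO] at e
      exact e.symm
    have e := congrArg (fun k : H ⟶ M.obj => k.app U h) n2
    have e' : (ψ M).app U (w.app U h) = w.app U ((ψ H').app U h) := e
    rw [h0, map_zero] at e'
    rw [← hwh]
    exact e'
  have hφ : ∀ M : P.FullSubcategory, Φ M = scalarHom M.obj r := fun M =>
    sub_eq_zero.1 (show Φ M - scalarHom M.obj r = 0 from hψ M)
  refine ⟨r, fun M => ?_, fun r' hr' => ?_⟩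
  · show (SheafOfModules.toSheaf X.ringCatSheaf).map (Φ M) = Coh.smulAb M.obj r
    rw [hφ M]
    exact toSheaf_scalarHom M.obj r
  · have h1 := hr' O
    have h2 : (SheafOfModules.toSheaf X.ringCatSheaf).map (Φ O) = Coh.smulAb O.obj r := by
      rw [hφ O]
      exact toSheaf_scalarHom O.obj r
    have h3 : Coh.smulAb O.obj r' = Coh.smulAb O.obj r := h1.symm.trans h2
    have h4 := congrArg (fun k => k.hom.app (op ⊤) one) h3
    simp only [Coh.smulAb_app] at h4
    have h5 : ∀ t : Coh.Γtop X, Coh.resTop X (op ⊤) t = t := by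
      intro t
      show (X.ringCatSheaf.obj.map (homOfLE (le_top : (⊤ : X.Opens) ≤ ⊤)).op).hom t = t
      have : (homOfLE (le_top : (⊤ : X.Opens) ≤ ⊤)).op = 𝟙 (op (⊤ : X.Opens)) := Subsingleton.elim _ _
      rw [this, X.ringCatSheaf.obj.map_id]
      rfl
    rw [h5, h5] at h4
    have h6 : ∀ t : Coh.Γtop X, (@HSMul.hSMul (X.ringCatSheaf.obj.obj (op ⊤))
        (O.obj.val.obj (op ⊤)) (O.obj.val.obj (op ⊤)) _ t one) = t := fun t => mul_one t
    rw [h6, h6] at h4
    exact h4

end Groth.Agent.Helper4.NApx78
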