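import Mathlib
import Groth.Agent.Helper4.NApx80
import Groth.Agent.Helper4.FinLocFree2
import Groth.Agent.Helper4.FinLocFree4
import Groth.Agent.Helper4.EpiStalk
import Groth.Agent.Helper4.StalkExact
import Groth.Agent.Lead.Thick2
import Groth.Agent.Helper1.Dev1

/-!
# Additivity of the degree in short exact sequences of finite locally free modules
-/

set_option autoImplicit false
set_option linter.style.haveILetI false

namespace Groth.Agent.Helper4.NApx83

open CategoryTheory Limits AlgebraicGeometry TopologicalSpace Opposite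
open Groth.Agent.Helper4.StalkDict Groth.Agent.Helper4 Groth.Agent.Helper4.FinLocFree

universe u

/-- ranks of free modules are additive in short exact sequences -/
theorem rank_add {R : Type*} [CommRing R] [Nontrivial R] {M₁ M₂ M₃ : Type*}
    [AddCommGroup M₁] [Module R M₁] [AddCommGroup M₂] [Module R M₂] [AddCommGroup M₃] [Module R M₃]
    (f : M₁ →ₗ[R] M₂) (g : M₂ →ₗ[R] M₃) (hf : Function.Injective f) (hg : Function.Surjective g)
    (h : Function.Exact f g) {n₁ n₂ n₃ : ℕ} (b₁ : Module.Basis (Fin n₁) R M₁)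
    (b₂ : Module.Basis (Fin n₂) R M₂) (b₃ : Module.Basis (Fin n₃) R M₃) : n₂ = n₁ + n₃ := by
  haveI : Module.Free R M₁ := Module.Free.of_basis b₁
  haveI : Module.Free R M₃ := Module.Free.of_basis b₃
  haveI : Module.Finite R M₁ := Module.Finite.of_basis b₁
  haveI : Module.Finite R M₃ := Module.Finite.of_basis b₃
  obtain ⟨l, hl⟩ := Module.projective_lifting_property g LinearMap.id hg
  obtain ⟨e, -⟩ := (h.splitSurjectiveEquiv hf) ⟨l, hl⟩
  have h1 := LinearEquiv.finrank_eq e
  rw [Module.finrank_prod, Module.finrank_eq_card_basis b₁, Module.finrank_eq_card_basis b₂,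
    Module.finrank_eq_card_basis b₃] at h1
  simpa using h1

variable {X : Scheme.{u}}

/-- ranks of finite locally free modules are additive in short exact sequences -/
theorem rank_add_of_shortExact [Nonempty X] (S : ShortComplex X.Modules) (hS : S.ShortExact)
    (n₁ n₂ n₃ : ℕ) (h₁ : FlatMod.IsFinLocFreeOfRank n₁ S.X₁)
    (h₂ : FlatMod.IsFinLocFreeOfRank n₂ S.X₂) (h₃ : FlatMod.IsFinLocFreeOfRank n₃ S.X₃) :
    n₂ = n₁ + n₃ := by
  obtain ⟨x⟩ := ‹Nonempty X›
  have q : ∀ (M : X.Modules) (n : ℕ), FlatMod.IsFinLocFreeOfRank n M → M.IsQuasicoherent :=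
    fun M n h => FinLocFree4.isQuasicoherent_of_isFinLocFree M (fun y => by
      obtain ⟨U, hy, hU⟩ := h y
      exact ⟨U, n, hy, hU⟩)
  haveI := q _ _ h₁
  haveI := q _ _ h₂
  haveI := q _ _ h₃
  obtain ⟨U₁, hx₁, hU₁⟩ := h₁ x
  obtain ⟨U₂, hx₂, hU₂⟩ := h₂ x
  obtain ⟨U₃, hx₃, hU₃⟩ := h₃ x
  obtain ⟨b₁⟩ := FinLocFree2.nonempty_basis_stalk_of_isFreeAlong S.X₁ hU₁ x hx₁
  obtain ⟨b₂⟩ := FinLocFree2.nonempty_basis_stalk_of_isFreeAlong S.X₂ hU₂ x hx₂
  obtain ⟨b₃⟩ := FinLocFree2.nonempty_basis_stalk_of_isFreeAlong S.X₃ hU₃ x hx₃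
  haveI := hS.mono_f
  haveI := hS.epi_g
  exact rank_add (stalkLin S.f x) (stalkLin S.g x) (StalkExact.stalkLin_injective S.f x)
    (EpiStalk.stalkLin_surjective_of_epi S.g x) (StalkExact.stalkLin_exact S hS.exact x) b₁ b₂ b₃

/-- S7643 -/
theorem main7643 (k : Type u) [Field k] (X : Scheme.{u}) [X.Over (Spec (CommRingCat.of k))]
    [IsProper (X ↘ (Spec (CommRingCat.of k)))]
    (S : ShortComplex X.Modules) (hS : S.ShortExact)
    (n₁ n₂ n₃ : ℕ) (h₁ : FlatMod.IsFinLocFreeOfRank n₁ S.X₁) (h₂ : FlatMod.IsFinLocFreeOfRank n₂ S.X₂)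
    (h₃ : FlatMod.IsFinLocFreeOfRank n₃ S.X₃) :
    Curv2.deg k X S.X₂ n₂ = Curv2.deg k X S.X₁ n₁ + Curv2.deg k X S.X₃ n₃ := by
  have c : ∀ (M : X.Modules) (n : ℕ), FlatMod.IsFinLocFreeOfRank n M → Coh.IsCoh M :=
    fun M n h => Groth.Agent.Lead.PerfLib.isCoh_of_isFinLocFree (fun y => by
      obtain ⟨U, hy, hU⟩ := h y
      exact ⟨U, n, hy, hU⟩)
  have hadd := NApx80.euler_additive k X S hS (c _ _ h₁) (c _ _ h₂) (c _ _ h₃)
  unfold Curv2.deg
  rw [hadd]
  by_cases hne : Nonempty X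
  · have hn := rank_add_of_shortExact S hS n₁ n₂ n₃ h₁ h₂ h₃
    rw [hn]
    push_cast
    ring
  · have hO : Curv2.euler k X (Coh.structureModule X) = 0 := by
      have hz : IsZero (Coh.structureModule X) := by
        apply Groth.Agent.Helper1.Dev.isZero_of_support_eq_empty
        ext y
        exact (hne ⟨y⟩).elim
      unfold Curv2.euler
      have : ∀ i : ℕ, (-1 : ℤ) ^ i *
          (Module.finrank k (Coh.HH X (Coh.structureModule X) i) : ℤ) = 0 := by
        intro i
        haveI := Groth.Agent.Lead.Thick.subsingleton_HH_of_isZero _ hz i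
        rw [Module.finrank_zero_of_subsingleton]
        simp
      simp only [this, finsum_zero]
    rw [hO]
    ring

end Groth.Agent.Helper4.NApx83
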