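import Mathlib

/-!
# Sections of surjective `ℕᵒᵖ`-systems of types through a prescribed element
-/

set_option autoImplicit false

universe u

namespace Groth.Agent.Helper4.NatOpSections

open CategoryTheory Opposite

theorem exists_section_of_surjective (E : ℕᵒᵖ ⥤ Type u)
    (hE : ∀ n, Function.Surjective (E.map (homOfLE (Nat.le_succ n)).op)) (p : ℕ)
    (x : E.obj (op p)) : ∃ s ∈ E.sections, s (op p) = x := by
  classical
  let t : (n : ℕ) → E.obj (op (p + n)) :=
    fun n => Nat.rec (motive := fun n => E.obj (op (p + n))) x
      (fun n y => (hE (p + n) y).choose) n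
  have ht : ∀ n, E.map (homOfLE (Nat.le_succ (p + n))).op (t (n + 1)) = t n :=
    fun n => (hE (p + n) (t n)).choose_spec
  have hcompat : ∀ m n (h : m ≤ n),
      E.map (homOfLE (Nat.add_le_add_left h p)).op (t n) = t m := by
    intro m n h
    induction n, h using Nat.le_induction with
    | base =>
      have : (homOfLE (Nat.add_le_add_left (le_refl m) p)).op = 𝟙 (op (p + m)) :=
        Subsingleton.elim _ _
      rw [this]
      simp
    | succ n hmn ih =>
      have : (homOfLE (Nat.add_le_add_left (Nat.le_succ_of_le hmn) p)).op =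
          (homOfLE (Nat.le_succ (p + n))).op ≫ (homOfLE (Nat.add_le_add_left hmn p)).op :=
        Subsingleton.elim _ _
      rw [this, FunctorToTypes.map_comp_apply, ht, ih]
  refine ⟨fun j => E.map (homOfLE (Nat.le_add_left j.unop p)).op (t j.unop), ?_, ?_⟩
  · intro j j' f
    have hle : j'.unop ≤ j.unop := leOfHom f.unop
    show E.map f (E.map _ (t j.unop)) = E.map _ (t j'.unop)
    rw [← hcompat j'.unop j.unop hle, ← FunctorToTypes.map_comp_apply,
      ← FunctorToTypes.map_comp_apply]
    congr 1
  · show E.map _ (t p) = x
    have h0 := hcompat 0 p (Nat.zero_le p)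
    have : (homOfLE (Nat.le_add_left (op p).unop p)).op =
        (homOfLE (Nat.add_le_add_left (Nat.zero_le p) p)).op := Subsingleton.elim _ _
    rw [this]
    exact h0

end Groth.Agent.Helper4.NatOpSections
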