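import Mathlib

/-!
# The graded ring `S♮` with `S♮_n = S_{≥ n}`

`S♮` is presented by an injective algebra map `φ : B → A[X]` with `φ(ℬ n) = A_{≥ n} X^n`.
-/

set_option autoImplicit false

namespace Groth.Agent.Helper4.Natural

open DirectSum

universe u

variable {R A : Type u} [CommRing R] [CommRing A] [Algebra R A] (𝒜 : ℕ → Submodule R A)
  [GradedAlgebra 𝒜]

/-- `A_{≥ n}`. -/
def Age (n : ℕ) : Submodule R A := ⨆ (m : ℕ) (_ : n ≤ m), 𝒜 m

theorem le_Age {n m : ℕ} (h : n ≤ m) : 𝒜 m ≤ Age 𝒜 n := le_iSup₂_of_le m h le_rfl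

theorem mem_Age_iff {n : ℕ} {a : A} :
    a ∈ Age 𝒜 n ↔ ∀ m < n, (decompose 𝒜 a m : A) = 0 := by
  classical
  constructor
  · intro ha
    let N : Submodule R A :=
      { carrier := {a | ∀ m < n, (decompose 𝒜 a m : A) = 0}
        add_mem' := by
          intro a b ha hb m hm
          simp [decompose_add, ha m hm, hb m hm]
        zero_mem' := by intro m hm; simp
        smul_mem' := by
          intro r a ha m hm
          show ((decompose 𝒜 (r • a) m : 𝒜 m) : A) = 0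
          rw [decompose_smul]
          erw [DFinsupp.smul_apply]
          rw [Submodule.coe_smul, ha m hm, smul_zero] }
    have : Age 𝒜 n ≤ N := by
      apply iSup₂_le
      intro m' hm' x hx m hm
      rw [decompose_of_mem_ne 𝒜 hx (by omega)]
    exact this ha
  · intro h
    rw [← DirectSum.sum_support_decompose 𝒜 a]
    refine Submodule.sum_mem _ fun i hi => ?_
    have hin : n ≤ i := by
      by_contra hlt
      rw [DFinsupp.mem_support_iff] at hi
      exact hi (Subtype.ext (h i (by omega)))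
    exact le_Age 𝒜 hin (SetLike.coe_mem _)

theorem Age_zero : Age 𝒜 0 = ⊤ := by
  rw [eq_top_iff]
  intro a _
  rw [mem_Age_iff]
  intro m hm
  omega

theorem Age_anti {n m : ℕ} (h : n ≤ m) : Age 𝒜 m ≤ Age 𝒜 n := by
  intro a ha
  rw [mem_Age_iff] at ha ⊢
  intro k hk
  exact ha k (by omega)

theorem mul_mem_Age {n m : ℕ} {a b : A} (ha : a ∈ Age 𝒜 n) (hb : b ∈ Age 𝒜 m) :
    a * b ∈ Age 𝒜 (n + m) := by
  classical
  rw [mem_Age_iff] at ha hb
  rw [← DirectSum.sum_support_decompose 𝒜 a, ← DirectSum.sum_support_decompose 𝒜 b,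
    Finset.sum_mul_sum]
  refine Submodule.sum_mem _ fun i hi => Submodule.sum_mem _ fun j hj => ?_
  have hin : n ≤ i := by
    by_contra hlt
    rw [DFinsupp.mem_support_iff] at hi
    exact hi (Subtype.ext (ha i (by omega)))
  have hjm : m ≤ j := by
    by_contra hlt
    rw [DFinsupp.mem_support_iff] at hj
    exact hj (Subtype.ext (hb j (by omega)))
  exact le_Age 𝒜 (by omega) (SetLike.GradedMul.mul_mem (SetLike.coe_mem _) (SetLike.coe_mem _))

theorem Age_mul_le (n m : ℕ) : Age 𝒜 n * Age 𝒜 m ≤ Age 𝒜 (n + m) :=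
  Submodule.mul_le.mpr fun _ ha _ hb => mul_mem_Age 𝒜 ha hb

theorem sub_mem_Age_succ {n : ℕ} {a : A} (ha : a ∈ Age 𝒜 n) :
    a - (decompose 𝒜 a n : A) ∈ Age 𝒜 (n + 1) := by
  rw [mem_Age_iff] at ha ⊢
  intro k hk
  rw [decompose_sub, DirectSum.sub_apply, AddSubgroupClass.coe_sub]
  rcases Nat.lt_succ_iff_lt_or_eq.mp hk with h | rfl
  · rw [ha k h, decompose_of_mem_ne 𝒜 (SetLike.coe_mem _) (by omega), sub_zero]
  · rw [decompose_of_mem_same 𝒜 (SetLike.coe_mem _), sub_self]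

/-- The lowest-degree component of a product. -/
theorem decompose_mul_of_mem_Age {n m : ℕ} {w v : A} (hw : w ∈ Age 𝒜 n) (hv : v ∈ Age 𝒜 m) :
    (decompose 𝒜 (w * v) (n + m) : A) = (decompose 𝒜 w n : A) * (decompose 𝒜 v m : A) := by
  set wn : A := (decompose 𝒜 w n : A) with hwn
  set vm : A := (decompose 𝒜 v m : A) with hvm
  have hw' := sub_mem_Age_succ 𝒜 hw
  have hv' := sub_mem_Age_succ 𝒜 hv
  have hwnA : wn ∈ 𝒜 n := SetLike.coe_mem _
  have hvmA : vm ∈ 𝒜 m := SetLike.coe_mem _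
  have hsplit : w * v = wn * vm + (wn * (v - vm) + (w - wn) * vm + (w - wn) * (v - vm)) := by
    ring
  have hrest : wn * (v - vm) + (w - wn) * vm + (w - wn) * (v - vm) ∈ Age 𝒜 (n + m + 1) := by
    refine Submodule.add_mem _ (Submodule.add_mem _ ?_ ?_) ?_
    · have := mul_mem_Age 𝒜 (le_Age 𝒜 le_rfl hwnA) hv'
      rwa [← add_assoc] at this
    · have := mul_mem_Age 𝒜 hw' (le_Age 𝒜 le_rfl hvmA)
      rwa [show n + 1 + m = n + m + 1 by omega] at this
    · have := mul_mem_Age 𝒜 hw' hv'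
      exact Age_anti 𝒜 (by omega) this
  rw [hsplit, decompose_add, DirectSum.add_apply, AddMemClass.coe_add,
    (mem_Age_iff 𝒜).mp hrest (n + m) (by omega), add_zero,
    decompose_of_mem_same 𝒜 (SetLike.GradedMul.mul_mem hwnA hvmA)]

/-- Degree `n + m` part of `A_{≥ n} A_{≥ m}` lies in `A_n A_m`. -/
theorem decompose_mem_mul_of_mem_Age_mul {n m : ℕ} {z : A} (hz : z ∈ Age 𝒜 n * Age 𝒜 m) :
    (decompose 𝒜 z (n + m) : A) ∈ 𝒜 n * 𝒜 m := by
  refine Submodule.mul_induction_on hz ?_ ?_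
  · intro w hw v hv
    rw [decompose_mul_of_mem_Age 𝒜 hw hv]
    exact Submodule.mul_mem_mul (SetLike.coe_mem _) (SetLike.coe_mem _)
  · intro x y hx hy
    rw [decompose_add, DirectSum.add_apply, AddMemClass.coe_add]
    exact Submodule.add_mem _ hx hy

theorem graded_mul_le (n m : ℕ) : 𝒜 n * 𝒜 m ≤ 𝒜 (n + m) :=
  Submodule.mul_le.mpr fun _ ha _ hb => SetLike.GradedMul.mul_mem ha hb

theorem graded_pow_le (n : ℕ) : 𝒜 1 ^ n ≤ 𝒜 n := by
  induction n with
  | zero =>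
    rw [pow_zero, Submodule.one_le]
    exact SetLike.GradedOne.one_mem
  | succ n ih =>
    rw [pow_succ]
    exact (mul_le_mul' ih le_rfl).trans (graded_mul_le 𝒜 n 1)

theorem Age_pow_le (n : ℕ) : Age 𝒜 1 ^ n ≤ Age 𝒜 n := by
  induction n with
  | zero => rw [Age_zero]; exact le_top
  | succ n ih =>
    rw [pow_succ]
    exact (mul_le_mul' ih le_rfl).trans (Age_mul_le 𝒜 n 1)

/-- (A1) -/
theorem Age_succ_eq_iff (n₀ : ℕ) :
    (∀ n : ℕ, n₀ ≤ n → Age 𝒜 (n + 1) = Age 𝒜 1 * Age 𝒜 n) ↔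
      (∀ n : ℕ, n₀ ≤ n → 𝒜 (n + 1) = 𝒜 1 * 𝒜 n) := by
  constructor
  · intro h n hn
    apply le_antisymm
    · intro x hx
      have hx' : x ∈ Age 𝒜 1 * Age 𝒜 n := by
        rw [← h n hn]; exact le_Age 𝒜 le_rfl hx
      have := decompose_mem_mul_of_mem_Age_mul 𝒜 hx'
      rwa [add_comm 1 n, decompose_of_mem_same 𝒜 hx] at this
    · rw [add_comm n 1]; exact graded_mul_le 𝒜 1 n
  · intro h n hn
    apply le_antisymm
    · apply iSup₂_le
      intro m hm
      obtain ⟨m, rfl⟩ : ∃ m', m = m' + 1 := ⟨m - 1, by omega⟩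
      rw [h m (by omega)]
      exact mul_le_mul' (le_Age 𝒜 le_rfl) (le_Age 𝒜 (by omega))
    · rw [add_comm n 1]; exact Age_mul_le 𝒜 1 n

/-- Degree `n` part of `(A_{≥ 1})^n` lies in `A_1^n`. -/
theorem decompose_mem_pow_of_mem_Age_pow (n : ℕ) {z : A} (hz : z ∈ Age 𝒜 1 ^ n) :
    (decompose 𝒜 z n : A) ∈ 𝒜 1 ^ n := by
  induction n generalizing z with
  | zero =>
    rw [pow_zero, Submodule.one_eq_span] at hz ⊢
    obtain ⟨r, rfl⟩ := Submodule.mem_span_singleton.mp hz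
    have : r • (1 : A) ∈ 𝒜 0 := Submodule.smul_mem _ _ SetLike.GradedOne.one_mem
    rw [decompose_of_mem_same 𝒜 this]
    exact Submodule.smul_mem _ _ (Submodule.subset_span rfl)
  | succ n ih =>
    rw [pow_succ] at hz ⊢
    refine Submodule.mul_induction_on hz ?_ ?_
    · intro w hw v hv
      rw [decompose_mul_of_mem_Age 𝒜 (Age_pow_le 𝒜 n hw) hv]
      exact Submodule.mul_mem_mul (ih hw) (SetLike.coe_mem _)
    · intro x y hx hy
      rw [decompose_add, DirectSum.add_apply, AddMemClass.coe_add]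
      exact Submodule.add_mem _ hx hy

theorem Age_one_mul_le (M : Submodule R A) : Age 𝒜 1 * M ≤ Age 𝒜 1 := by
  rw [Submodule.mul_le]
  intro a ha b _
  have := mul_mem_Age 𝒜 ha (show b ∈ Age 𝒜 0 by rw [Age_zero]; trivial)
  simpa using this

/-- (A2) -/
theorem Age_eq_pow_iff (n₀ : ℕ) (hn₀ : 1 ≤ n₀) :
    (∀ n : ℕ, n₀ ≤ n → Age 𝒜 n = Age 𝒜 1 ^ n) ↔ (∀ n : ℕ, n₀ ≤ n → 𝒜 n = 𝒜 1 ^ n) := by
  constructor
  · intro h n hn
    apply le_antisymm
    · intro x hx
      have hx' : x ∈ Age 𝒜 1 ^ n := by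
        rw [← h n hn]; exact le_Age 𝒜 le_rfl hx
      have := decompose_mem_pow_of_mem_Age_pow 𝒜 n hx'
      rwa [decompose_of_mem_same 𝒜 hx] at this
    · exact graded_pow_le 𝒜 n
  · intro h n hn
    apply le_antisymm
    · apply iSup₂_le
      intro m hm
      rw [h m (by omega)]
      obtain ⟨k, rfl⟩ : ∃ k, n = k + 1 := ⟨n - 1, by omega⟩
      obtain ⟨l, rfl⟩ : ∃ l, m = k + 1 + l := ⟨m - (k + 1), by omega⟩
      rw [show k + 1 + l = k + (1 + l) by ring, pow_add, pow_succ (Age 𝒜 1) k]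
      refine mul_le_mul' (pow_le_pow_left' (le_Age 𝒜 le_rfl) k) ?_
      rw [pow_add, pow_one]
      exact (mul_le_mul' (le_Age 𝒜 le_rfl) le_rfl).trans (Age_one_mul_le 𝒜 _)
    · exact Age_pow_le 𝒜 n

end Groth.Agent.Helper4.Natural
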