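import Mathlib
import Groth.Agent.Helper4.Natural

/-!
# The presentation `φ : B → A[X]` of `S♮`
-/

set_option autoImplicit false

namespace Groth.Agent.Helper4.Natural

open DirectSum

universe u

variable {R A : Type u} [CommRing R] [CommRing A] [Algebra R A] (𝒜 : ℕ → Submodule R A)
  [GradedAlgebra 𝒜]

/-- `a ↦ a X^n` as an `R`-linear map. -/
noncomputable def mono (n : ℕ) : A →ₗ[R] Polynomial A :=
  (Polynomial.monomial n : A →ₗ[A] Polynomial A).restrictScalars R

@[simp] theorem mono_apply (n : ℕ) (a : A) :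
    mono (R := R) n a = Polynomial.monomial n a := rfl

theorem mono_injective (n : ℕ) : Function.Injective (mono (R := R) (A := A) n) :=
  Polynomial.monomial_injective n

theorem map_mono_mul (M N : Submodule R A) (i j : ℕ) :
    Submodule.map (mono i) M * Submodule.map (mono j) N = Submodule.map (mono (i + j)) (M * N) := by
  apply le_antisymm
  · rw [Submodule.mul_le]
    rintro _ ⟨a, ha, rfl⟩ _ ⟨b, hb, rfl⟩
    refine ⟨a * b, Submodule.mul_mem_mul ha hb, ?_⟩
    simp [Polynomial.monomial_mul_monomial]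
  · rw [Submodule.map_le_iff_le_comap, Submodule.mul_le]
    intro a ha b hb
    rw [Submodule.mem_comap]
    have : mono (R := R) (i + j) (a * b) = mono (R := R) i a * mono (R := R) j b := by
      simp [Polynomial.monomial_mul_monomial]
    rw [this]
    exact Submodule.mul_mem_mul ⟨a, ha, rfl⟩ ⟨b, hb, rfl⟩

theorem map_mono_pow (M : Submodule R A) (n : ℕ) :
    Submodule.map (mono 1) M ^ n = Submodule.map (mono n) (M ^ n) := by
  induction n with
  | zero =>
    rw [pow_zero, pow_zero, Submodule.one_eq_span, Submodule.one_eq_span, Submodule.map_span,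
      Set.image_singleton]
    simp
  | succ n ih =>
    rw [pow_succ, pow_succ, ih, map_mono_mul]

variable {B : Type u} [CommRing B] [Algebra R B] (ℬ : ℕ → Submodule R B)
  (φ : B →ₐ[R] Polynomial A)

/-- The hypotheses presenting `B` as `S♮`. -/
structure IsNatural : Prop where
  inj : Function.Injective φ
  deg : ∀ n : ℕ, Submodule.map φ.toLinearMap (ℬ n) = Submodule.map (mono n) (Age 𝒜 n)

variable {𝒜 ℬ φ}

namespace IsNatural

theorem mem_iff (h : IsNatural 𝒜 ℬ φ) {n : ℕ} {b : B} :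
    b ∈ ℬ n ↔ ∃ a ∈ Age 𝒜 n, φ b = Polynomial.monomial n a := by
  constructor
  · intro hb
    have : φ b ∈ Submodule.map φ.toLinearMap (ℬ n) := ⟨b, hb, rfl⟩
    rw [h.deg] at this
    obtain ⟨a, ha, hab⟩ := this
    exact ⟨a, ha, hab.symm⟩
  · rintro ⟨a, ha, hab⟩
    have : Polynomial.monomial n a ∈ Submodule.map φ.toLinearMap (ℬ n) := by
      rw [h.deg]; exact ⟨a, ha, rfl⟩
    obtain ⟨b', hb', hb'a⟩ := this
    have : b = b' := h.inj (hab.trans hb'a.symm)
    rwa [this]

theorem exists_of_mem_Age (h : IsNatural 𝒜 ℬ φ) {n : ℕ} {a : A} (ha : a ∈ Age 𝒜 n) :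
    ∃ b ∈ ℬ n, φ b = Polynomial.monomial n a := by
  have : Polynomial.monomial n a ∈ Submodule.map φ.toLinearMap (ℬ n) := by
    rw [h.deg]; exact ⟨a, ha, rfl⟩
  obtain ⟨b, hb, hba⟩ := this
  exact ⟨b, hb, hba⟩

theorem eq_mul_iff (h : IsNatural 𝒜 ℬ φ) (k i j : ℕ) (hk : k = i + j) :
    ℬ k = ℬ i * ℬ j ↔ Age 𝒜 k = Age 𝒜 i * Age 𝒜 j := by
  subst hk
  rw [← (Submodule.map_injective_of_injective (f := φ.toLinearMap) h.inj).eq_iff,
    Submodule.map_mul, h.deg, h.deg, h.deg, map_mono_mul,
    (Submodule.map_injective_of_injective (mono_injective (R := R) (i + j))).eq_iff]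

theorem eq_pow_iff (h : IsNatural 𝒜 ℬ φ) (n : ℕ) :
    ℬ n = ℬ 1 ^ n ↔ Age 𝒜 n = Age 𝒜 1 ^ n := by
  rw [← (Submodule.map_injective_of_injective (f := φ.toLinearMap) h.inj).eq_iff,
    Submodule.map_pow, h.deg, h.deg, map_mono_pow,
    (Submodule.map_injective_of_injective (mono_injective (R := R) n)).eq_iff]

end IsNatural

end Groth.Agent.Helper4.Natural
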