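import Mathlib
import Groth.Agent.Helper4.Natural2
import Groth.Agent.Helper2.Graded

/-!
# Finiteness properties of `S♮`
-/

set_option autoImplicit false

namespace Groth.Agent.Helper4.Natural

open DirectSum

universe u

variable {R A : Type u} [CommRing R] [CommRing A] [Algebra R A] {𝒜 : ℕ → Submodule R A}
  [GradedAlgebra 𝒜]

theorem mem_irrelevant_iff_mem_Age_one {a : A} :
    a ∈ (HomogeneousIdeal.irrelevant 𝒜).toIdeal ↔ a ∈ Age 𝒜 1 := by
  rw [mem_Age_iff]
  constructor
  · intro h m hm
    obtain rfl : m = 0 := by omega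
    exact h
  · intro h
    exact h 0 (by omega)

/-- Homogeneous decomposition of a homogeneous element of an ideal generated by homogeneous
elements. -/
theorem exists_homogeneous_coeffs {ι : Type*} [Fintype ι] (f : ι → A) (d : ι → ℕ)
    (hf : ∀ e, f e ∈ 𝒜 (d e)) {m : ℕ} {x : A} (hx : x ∈ 𝒜 m)
    (hxs : x ∈ Ideal.span (Set.range f)) :
    ∃ g : ι → A, (∀ e, d e ≤ m → g e ∈ 𝒜 (m - d e)) ∧ (∀ e, m < d e → g e = 0) ∧
      x = ∑ e, g e * f e := by
  classical
  obtain ⟨c, hc⟩ := (Ideal.mem_span_range_iff_exists_fun).mp hxs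
  refine ⟨fun e => if d e ≤ m then (decompose 𝒜 (c e) (m - d e) : A) else 0, ?_, ?_, ?_⟩
  · intro e he
    simp only [he, if_true]
    exact SetLike.coe_mem _
  · intro e he
    simp only [not_le.mpr he, if_false]
  · have hx2 : x = ((decompose 𝒜 x m : 𝒜 m) : A) := by
      rw [DirectSum.decompose_of_mem_same 𝒜 hx]
    rw [hx2, ← hc, decompose_sum, DFinsupp.finsetSum_apply, AddSubmonoidClass.coe_finsetSum]
    refine Finset.sum_congr rfl fun e _ => ?_
    rw [DirectSum.coe_decompose_mul_of_right_mem 𝒜 m (hf e)]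
    by_cases hde : d e ≤ m <;> simp [hde]

variable {B : Type u} [CommRing B] [Algebra R B] {ℬ : ℕ → Submodule R B} [GradedAlgebra ℬ]
  {φ : B →ₐ[R] Polynomial A}

namespace IsNatural

/-- `B → A`, `b ↦ φ(b)(0)`, is surjective. -/
theorem constantCoeff_comp_surjective (h : IsNatural 𝒜 ℬ φ) :
    Function.Surjective (Polynomial.constantCoeff.comp (φ : B →+* Polynomial A)) := by
  intro a
  obtain ⟨b, -, hb⟩ := h.exists_of_mem_Age (n := 0) (a := a) (by rw [Age_zero]; trivial)
  refine ⟨b, ?_⟩
  simp [hb]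

/-- `ℬ 0 ≃ A`. -/
theorem bijective_degZero (h : IsNatural 𝒜 ℬ φ) :
    Function.Bijective (Polynomial.constantCoeff.comp
      ((φ : B →+* Polynomial A).comp (algebraMap (ℬ 0) B))) := by
  constructor
  · rw [injective_iff_map_eq_zero]
    intro b hb
    obtain ⟨a, -, ha⟩ := h.mem_iff.mp b.2
    have hb' : Polynomial.constantCoeff (φ (b : B)) = 0 := hb
    rw [ha] at hb'
    have ha0 : a = 0 := by simpa using hb'
    have : φ (b : B) = 0 := by rw [ha, ha0, map_zero]
    have : (b : B) = 0 := h.inj (this.trans (map_zero φ).symm)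
    exact Subtype.ext this
  · intro a
    obtain ⟨b, hb0, hb⟩ := h.exists_of_mem_Age (n := 0) (a := a) (by rw [Age_zero]; trivial)
    refine ⟨⟨b, hb0⟩, ?_⟩
    show Polynomial.constantCoeff (φ b) = a
    simp [hb]

/-- If `A_+` is generated by finitely many homogeneous elements then `B_+` is finitely
generated. -/
theorem irrelevant_fg_of_span (h : IsNatural 𝒜 ℬ φ) {ι : Type*} [Fintype ι] (f : ι → A)
    (d : ι → ℕ) (hd : ∀ e, 0 < d e) (hf : ∀ e, f e ∈ 𝒜 (d e))
    (hspan : (HomogeneousIdeal.irrelevant 𝒜).toIdeal = Ideal.span (Set.range f)) :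
    (HomogeneousIdeal.irrelevant ℬ).toIdeal.FG := by
  classical
  -- lifts of f e X^k
  have hβ : ∀ (e : ι) (k : ℕ), ∃ b : B, k ≤ d e → b ∈ ℬ k ∧ φ b = Polynomial.monomial k (f e) := by
    intro e k
    by_cases hk : k ≤ d e
    · obtain ⟨b, hb, hb'⟩ := h.exists_of_mem_Age (le_Age 𝒜 hk (hf e))
      exact ⟨b, fun _ => ⟨hb, hb'⟩⟩
    · exact ⟨0, fun hk' => absurd hk' hk⟩
  choose β hβ using hβ
  let E : Finset B := Finset.univ.biUnion fun e => (Finset.Icc 1 (d e)).image (β e)
  have hEmem : ∀ e k, 1 ≤ k → k ≤ d e → β e k ∈ (E : Set B) := by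
    intro e k h1 h2
    simp only [E, Finset.coe_biUnion, Finset.coe_image, Set.mem_iUnion, Set.mem_image,
      Finset.mem_coe, Finset.mem_univ, Finset.mem_Icc, true_and, Set.iUnion_true]
    exact ⟨e, k, ⟨h1, h2⟩, rfl⟩
  refine ⟨E, ?_⟩
  apply le_antisymm
  · rw [Ideal.span_le]
    intro b hb
    simp only [E, Finset.coe_biUnion, Finset.coe_image, Set.mem_iUnion, Set.mem_image,
      Finset.mem_coe, Finset.mem_univ, Finset.mem_Icc, true_and, Set.iUnion_true] at hb
    obtain ⟨e, k, ⟨h1, h2⟩, rfl⟩ := hb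
    exact HomogeneousIdeal.mem_irrelevant_of_mem ℬ (by omega) (hβ e k h2).1
  · -- the submodule of `a` such that `a X^n` lifts into the span
    have key : ∀ n : ℕ, 1 ≤ n → ∀ b ∈ ℬ n, b ∈ Ideal.span (E : Set B) := by
      intro n hn b hb
      let N : Submodule R A := Submodule.comap (mono n)
        (Submodule.map φ.toLinearMap ((Ideal.span (E : Set B)).restrictScalars R))
      have hN : Age 𝒜 n ≤ N := by
        apply iSup₂_le
        intro m hm x hx
        have hxs : x ∈ Ideal.span (Set.range f) := by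
          rw [← hspan]
          exact HomogeneousIdeal.mem_irrelevant_of_mem 𝒜 (by omega) hx
        obtain ⟨g, hg1, hg2, hxg⟩ := exists_homogeneous_coeffs f d hf hx hxs
        -- lifts of the g e
        have hγ : ∀ e : ι, ∃ c : B, φ c = Polynomial.monomial (n - min (d e) n) (g e) := by
          intro e
          by_cases he : d e ≤ m
          · have hnm : n ≤ m := hm
            have : g e ∈ Age 𝒜 (n - min (d e) n) := le_Age 𝒜 (by omega) (hg1 e he)
            obtain ⟨c, -, hc⟩ := h.exists_of_mem_Age this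
            exact ⟨c, hc⟩
          · exact ⟨0, by rw [hg2 e (by omega)]; simp⟩
        choose γ hγ using hγ
        refine ⟨∑ e, γ e * β e (min (d e) n), ?_, ?_⟩
        · refine Ideal.sum_mem _ fun e _ => Ideal.mul_mem_left _ _ (Ideal.subset_span ?_)
          exact hEmem e _ (by have := hd e; omega) (min_le_left _ _)
        · rw [AlgHom.toLinearMap_apply, map_sum, mono_apply, hxg, map_sum]
          refine Finset.sum_congr rfl fun e _ => ?_
          rw [map_mul, hγ, (hβ e _ (min_le_left _ _)).2, Polynomial.monomial_mul_monomial]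
          have hnn : n - min (d e) n + min (d e) n = n := by
            have := min_le_right (d e) n
            omega
          rw [hnn]
      obtain ⟨a, ha, hab⟩ := h.mem_iff.mp hb
      obtain ⟨b', hb', hb'a⟩ := hN ha
      have : b = b' := h.inj (hab.trans hb'a.symm)
      rw [this]; exact hb'
    intro b hb
    rw [← DirectSum.sum_support_decompose ℬ b]
    refine Ideal.sum_mem _ fun i hi => ?_
    rcases Nat.eq_zero_or_pos i with rfl | hpos
    · have h0 : ((decompose ℬ b 0 : ℬ 0) : B) = 0 := hb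
      rw [h0]; exact Ideal.zero_mem _
    · exact key i hpos _ (SetLike.coe_mem _)

/-- If `B_+` is finitely generated then so is `A_+`. -/
theorem irrelevant_fg_of_irrelevant_fg (h : IsNatural 𝒜 ℬ φ)
    (hB : (HomogeneousIdeal.irrelevant ℬ).toIdeal.FG) :
    (HomogeneousIdeal.irrelevant 𝒜).toIdeal.FG := by
  classical
  obtain ⟨s, hs⟩ := hB
  -- degree-one components of the generators
  have hcomp : ∀ b : B, ∃ a : A, a ∈ Age 𝒜 1 ∧
      φ ((decompose ℬ b 1 : ℬ 1) : B) = Polynomial.monomial 1 a := by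
    intro b
    obtain ⟨a, ha, hab⟩ := h.mem_iff.mp (SetLike.coe_mem (decompose ℬ b 1))
    exact ⟨a, ha, hab⟩
  choose α hα1 hα2 using hcomp
  refine ⟨s.image α, ?_⟩
  apply le_antisymm
  · rw [Ideal.span_le]
    intro a ha
    simp only [Finset.coe_image, Set.mem_image, Finset.mem_coe] at ha
    obtain ⟨b, -, rfl⟩ := ha
    exact mem_irrelevant_iff_mem_Age_one.mpr (hα1 b)
  · intro x hx
    have hx1 : x ∈ Age 𝒜 1 := mem_irrelevant_iff_mem_Age_one.mp hx
    obtain ⟨xt, hxt, hxt'⟩ := h.exists_of_mem_Age hx1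
    have hxt_irr : xt ∈ Ideal.span (s : Set B) := by
      rw [hs]; exact HomogeneousIdeal.mem_irrelevant_of_mem ℬ (by omega) hxt
    rw [Ideal.span, Finsupp.mem_span_iff_linearCombination] at hxt_irr
    obtain ⟨l, hl⟩ := hxt_irr
    -- take degree one components
    have h1 : xt = ((decompose ℬ xt 1 : ℬ 1) : B) := by
      rw [DirectSum.decompose_of_mem_same ℬ hxt]
    have hsum : xt = ∑ e ∈ l.support,
        ((decompose ℬ (l e) 0 : ℬ 0) : B) * ((decompose ℬ (e : B) 1 : ℬ 1) : B) := by
      conv_lhs => rw [h1, ← hl, Finsupp.linearCombination_apply, Finsupp.sum, decompose_sum,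
        DFinsupp.finsetSum_apply, AddSubmonoidClass.coe_finsetSum]
      refine Finset.sum_congr rfl fun e _ => ?_
      rw [smul_eq_mul]
      -- (l e * e)_1 = (l e)_0 e_1 + (l e)_1 e_0 and e_0 = 0
      have he_irr : (e : B) ∈ (HomogeneousIdeal.irrelevant ℬ).toIdeal := by
        rw [← hs]; exact Ideal.subset_span e.2
      have he1 : (e : B) ∈ Age ℬ 1 := mem_irrelevant_iff_mem_Age_one.mp he_irr
      have hl0 : l e ∈ Age ℬ 0 := by rw [Age_zero]; trivial
      have := decompose_mul_of_mem_Age ℬ hl0 he1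
      rwa [zero_add] at this
    -- apply φ
    have hφ0 : ∀ b : B, ∃ a : A, φ ((decompose ℬ b 0 : ℬ 0) : B) = Polynomial.monomial 0 a := by
      intro b
      obtain ⟨a, -, hab⟩ := h.mem_iff.mp (SetLike.coe_mem (decompose ℬ b 0))
      exact ⟨a, hab⟩
    choose γ hγ using hφ0
    have hfinal : x = ∑ e ∈ l.support, γ (l e) * α (e : B) := by
      apply Polynomial.monomial_injective 1
      rw [← hxt', hsum, map_sum, map_sum]
      refine Finset.sum_congr rfl fun e _ => ?_
      rw [map_mul, hγ, hα2, Polynomial.monomial_mul_monomial, zero_add]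
    rw [hfinal]
    refine Ideal.sum_mem _ fun e _ => Ideal.mul_mem_left _ _ (Ideal.subset_span ?_)
    simp only [Finset.coe_image, Set.mem_image, Finset.mem_coe]
    exact ⟨e, e.2, rfl⟩

end IsNatural

end Groth.Agent.Helper4.Natural
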