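import Mathlib
import Groth.Agent.Helper4.Natural3

/-!
# Radical of the ideal generated by the `f_α♮`
-/

set_option autoImplicit false

namespace Groth.Agent.Helper4.Natural

open DirectSum

universe u

variable {R A : Type u} [CommRing R] [CommRing A] [Algebra R A] {𝒜 : ℕ → Submodule R A}
  [GradedAlgebra 𝒜]
variable {B : Type u} [CommRing B] [Algebra R B] {ℬ : ℕ → Submodule R B} [GradedAlgebra ℬ]
  {φ : B →ₐ[R] Polynomial A}

namespace IsNatural

theorem radical_hom (h : IsNatural 𝒜 ℬ φ) {ι : Type*} (d : ι → ℕ) (f : ι → A)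
    (hf : ∀ a, f a ∈ 𝒜 (d a))
    (hrad : ∀ g ∈ (HomogeneousIdeal.irrelevant 𝒜).toIdeal,
      ∃ n : ℕ, 0 < n ∧ g ^ n ∈ Ideal.span (Set.range f))
    (fn : ι → B) (hfn : ∀ a, φ (fn a) = Polynomial.monomial (d a) (f a))
    {n m : ℕ} (hn : 1 ≤ n) (hnm : n ≤ m) {a : A} (ha : a ∈ 𝒜 m) :
    ∃ b ∈ (Ideal.span (Set.range fn)).radical, φ b = Polynomial.monomial n a := by
  classical
  obtain ⟨b, hb, hba⟩ := h.exists_of_mem_Age (le_Age 𝒜 hnm ha)
  refine ⟨b, ?_, hba⟩
  have hirr : a ∈ (HomogeneousIdeal.irrelevant 𝒜).toIdeal :=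
    HomogeneousIdeal.mem_irrelevant_of_mem 𝒜 (by omega) ha
  obtain ⟨N, hN, haN⟩ := hrad a hirr
  rw [Ideal.span, Finsupp.mem_span_range_iff_exists_finsupp] at haN
  obtain ⟨c, hc⟩ := haN
  set T : Finset ι := c.support with hT
  set K : ℕ := 1 + ∑ e ∈ T, d e with hK
  set M : ℕ := N * K with hM
  have hspanN : a ^ N ∈ Ideal.span (Set.range fun e : T => f e) := by
    rw [← hc, Finsupp.sum]
    refine Ideal.sum_mem _ fun e he => ?_
    rw [smul_eq_mul]
    exact Ideal.mul_mem_left _ _ (Ideal.subset_span ⟨⟨e, he⟩, rfl⟩)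
  have hspanM : a ^ M ∈ Ideal.span (Set.range fun e : T => f e) := by
    have : a ^ M = a ^ N * a ^ (N * (K - 1)) := by
      rw [← pow_add, hM]
      congr 1
      have : K = (K - 1) + 1 := by omega
      conv_lhs => rw [this]
      ring
    rw [this]
    exact Ideal.mul_mem_right _ _ hspanN
  have haM : a ^ M ∈ 𝒜 (m * M) := by
    have := SetLike.pow_mem_graded M ha
    rwa [smul_eq_mul, mul_comm] at this
  obtain ⟨g, hg1, -, hxg⟩ := exists_homogeneous_coeffs (fun e : T => f e) (fun e : T => d e)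
    (fun e => hf e) haM hspanM
  have hdK : ∀ e : T, d e ≤ n * M := by
    intro e
    have h1 : d e ≤ ∑ e ∈ T, d e := Finset.single_le_sum (f := d) (fun _ _ => Nat.zero_le _) e.2
    have h2 : K ≤ N * K := Nat.le_mul_of_pos_left K hN
    have h3 : N * K ≤ n * (N * K) := Nat.le_mul_of_pos_left _ (by omega)
    have h4 : n * M = n * (N * K) := by rw [hM]
    omega
  have hγ : ∀ e : T, ∃ x : B, φ x = Polynomial.monomial (n * M - d e) (g e) := by
    intro e
    have h1 : d e ≤ m * M := (hdK e).trans (Nat.mul_le_mul_right _ hnm)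
    have h2 : n * M - d e ≤ m * M - d e := Nat.sub_le_sub_right (Nat.mul_le_mul_right _ hnm) _
    obtain ⟨x, -, hx⟩ := h.exists_of_mem_Age (le_Age 𝒜 h2 (hg1 e h1))
    exact ⟨x, hx⟩
  choose γ hγ using hγ
  have hbM : b ^ M = ∑ e : T, γ e * fn e := by
    apply h.inj
    rw [map_pow, hba, Polynomial.monomial_pow, hxg, map_sum, map_sum]
    refine Finset.sum_congr rfl fun e _ => ?_
    rw [map_mul φ, hγ, hfn, Polynomial.monomial_mul_monomial, Nat.sub_add_cancel (hdK e)]
  refine ⟨M, ?_⟩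
  rw [hbM]
  exact Ideal.sum_mem _ fun e _ => Ideal.mul_mem_left _ _ (Ideal.subset_span ⟨e, rfl⟩)

theorem irrelevant_le_radical (h : IsNatural 𝒜 ℬ φ) {ι : Type*} (d : ι → ℕ) (f : ι → A)
    (hf : ∀ a, f a ∈ 𝒜 (d a))
    (hrad : ∀ g ∈ (HomogeneousIdeal.irrelevant 𝒜).toIdeal,
      ∃ n : ℕ, 0 < n ∧ g ^ n ∈ Ideal.span (Set.range f))
    (fn : ι → B) (hfn : ∀ a, φ (fn a) = Polynomial.monomial (d a) (f a)) :
    (HomogeneousIdeal.irrelevant ℬ).toIdeal ≤ (Ideal.span (Set.range fn)).radical := by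
  classical
  have key : ∀ n : ℕ, 1 ≤ n → ∀ b ∈ ℬ n, b ∈ (Ideal.span (Set.range fn)).radical := by
    intro n hn b hb
    let N : Submodule R A := Submodule.comap (mono n)
      (Submodule.map φ.toLinearMap ((Ideal.span (Set.range fn)).radical.restrictScalars R))
    have hN : Age 𝒜 n ≤ N := by
      apply iSup₂_le
      intro m hm x hx
      obtain ⟨b', hb', hb'x⟩ := h.radical_hom d f hf hrad fn hfn hn hm hx
      exact ⟨b', hb', by rw [AlgHom.toLinearMap_apply, mono_apply, hb'x]⟩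
    obtain ⟨a, ha, hab⟩ := h.mem_iff.mp hb
    obtain ⟨b', hb', hb'a⟩ := hN ha
    have : b = b' := h.inj (hab.trans hb'a.symm)
    rw [this]; exact hb'
  intro b hb
  rw [← DirectSum.sum_support_decompose ℬ b]
  refine Ideal.sum_mem _ fun i hi => ?_
  rcases Nat.eq_zero_or_pos i with rfl | hpos
  · have h0 : ((decompose ℬ b 0 : ℬ 0) : B) = 0 := hb
    rw [h0]; exact Ideal.zero_mem _
  · exact key i hpos _ (SetLike.coe_mem _)

end IsNatural

end Groth.Agent.Helper4.Natural
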