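import Mathlib
import Groth.Agent.Helper4.Natural3

/-!
# `T = S♮ ⊗_S S_0` and the map `ρ : T → S`
-/

set_option autoImplicit false

namespace Groth.Agent.Helper4.Natural

open DirectSum

universe u

variable {R A : Type u} [CommRing R] [CommRing A] [Algebra R A] {𝒜 : ℕ → Submodule R A}
  [GradedAlgebra 𝒜]

theorem pow_mem_Age {k : ℕ} {a : A} (ha : a ∈ Age 𝒜 k) (r : ℕ) : a ^ r ∈ Age 𝒜 (k * r) := by
  induction r with
  | zero => rw [Nat.mul_zero, Age_zero]; trivial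
  | succ r ih =>
    rw [pow_succ, Nat.mul_succ]
    exact mul_mem_Age 𝒜 ih ha

variable {B : Type u} [CommRing B] [Algebra R B] {ℬ : ℕ → Submodule R B} [GradedAlgebra ℬ]
  {φ : B →ₐ[R] Polynomial A}
  {C : Type u} [CommRing C] [Algebra R C] {𝒞 : ℕ → Submodule R C} [GradedAlgebra 𝒞]

/-- The hypotheses presenting `C` as `S♮ ⊗_S S_0` with the map `ρ` to `S`. -/
structure IsTZero (𝒜 : ℕ → Submodule R A) [GradedAlgebra 𝒜] (ℬ : ℕ → Submodule R B)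
    [GradedAlgebra ℬ] (φ : B →ₐ[R] Polynomial A) (𝒞 : ℕ → Submodule R C) [GradedAlgebra 𝒞]
    (π : ℬ →+*ᵍ 𝒞) (ρ : 𝒞 →+*ᵍ 𝒜) : Prop where
  nat : IsNatural 𝒜 ℬ φ
  surj : Function.Surjective π
  ker : RingHom.ker π.toRingHom =
    Ideal.span (⇑φ ⁻¹' (⇑(Polynomial.C : A →+* Polynomial A) ''
      ((HomogeneousIdeal.irrelevant 𝒜).toIdeal : Set A)))
  rho : ∀ (n : ℕ) (b : B), b ∈ ℬ n → ρ (π b) = GradedRing.proj 𝒜 n ((φ b).coeff n)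

namespace IsTZero

variable {π : ℬ →+*ᵍ 𝒞} {ρ : 𝒞 →+*ᵍ 𝒜}

theorem rho_surjective (h : IsTZero 𝒜 ℬ φ 𝒞 π ρ) : Function.Surjective ρ := by
  classical
  intro a
  have hhom : ∀ (n : ℕ) (x : A), x ∈ 𝒜 n → ∃ c, ρ c = x := by
    intro n x hx
    obtain ⟨b, hb, hbx⟩ := h.nat.exists_of_mem_Age (le_Age 𝒜 le_rfl hx)
    refine ⟨π b, ?_⟩
    rw [h.rho n b hb, hbx, Polynomial.coeff_monomial, if_pos rfl, GradedRing.proj_apply,
      decompose_of_mem_same 𝒜 hx]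
  rw [← DirectSum.sum_support_decompose 𝒜 a]
  choose! g hg using hhom
  refine ⟨∑ i ∈ (decompose 𝒜 a).support, g i (decompose 𝒜 a i), ?_⟩
  rw [map_sum]
  exact Finset.sum_congr rfl fun i _ => hg i _ (SetLike.coe_mem _)

theorem exists_lift (h : IsTZero 𝒜 ℬ φ 𝒞 π ρ) {n : ℕ} {c : C} (hc : c ∈ 𝒞 n) :
    ∃ b ∈ ℬ n, π b = c := by
  obtain ⟨b', rfl⟩ := h.surj c
  refine ⟨(decompose ℬ b' n : B), SetLike.coe_mem _, ?_⟩
  rw [GradedRingHom.map_directSumDecompose, decompose_of_mem_same 𝒞 hc]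

theorem pi_eq_zero_of_mul (h : IsTZero 𝒜 ℬ φ 𝒞 π ρ) {n : ℕ} {u v : A} (hu : u ∈ Age 𝒜 1)
    (hv : v ∈ Age 𝒜 n) {b : B} (hb : φ b = Polynomial.monomial n (u * v)) : π b = 0 := by
  obtain ⟨b₀, -, hb₀⟩ := h.nat.exists_of_mem_Age (n := 0) (a := u) (by rw [Age_zero]; trivial)
  obtain ⟨b₁, -, hb₁⟩ := h.nat.exists_of_mem_Age hv
  have hbb : b = b₀ * b₁ := by
    apply h.nat.inj
    rw [map_mul, hb₀, hb₁, hb, Polynomial.monomial_mul_monomial, zero_add]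
  have h0 : b₀ ∈ RingHom.ker π.toRingHom := by
    rw [h.ker]
    refine Ideal.subset_span ⟨u, mem_irrelevant_iff_mem_Age_one.mpr hu, ?_⟩
    rw [hb₀]; rfl
  have h0' : π b₀ = 0 := h0
  rw [hbb, map_mul, h0', zero_mul]

theorem exists_of_rho_eq_zero (h : IsTZero 𝒜 ℬ φ 𝒞 π ρ) {n : ℕ} {c : C} (hc : c ∈ 𝒞 n)
    (hρ : ρ c = 0) : ∃ b ∈ ℬ n, π b = c ∧ ∃ a ∈ Age 𝒜 (n + 1), φ b = Polynomial.monomial n a := by
  obtain ⟨b, hb, rfl⟩ := h.exists_lift hc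
  obtain ⟨a, ha, hab⟩ := h.nat.mem_iff.mp hb
  refine ⟨b, hb, rfl, a, ?_, hab⟩
  have h1 := h.rho n b hb
  rw [hρ, hab, Polynomial.coeff_monomial, if_pos rfl, GradedRing.proj_apply] at h1
  have := sub_mem_Age_succ 𝒜 ha
  rwa [← h1, sub_zero] at this

theorem pow_eq_zero_of_rho_eq_zero (h : IsTZero 𝒜 ℬ φ 𝒞 π ρ) {n : ℕ} {c : C} (hc : c ∈ 𝒞 n)
    (hρ : ρ c = 0) : c ^ (n + 1) = 0 := by
  obtain ⟨b, hb, rfl, a, ha, hab⟩ := h.exists_of_rho_eq_zero hc hρ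
  rw [← map_pow]
  refine h.pi_eq_zero_of_mul (n := n * (n + 1)) (u := a) (v := a ^ n)
    (Age_anti 𝒜 (by omega) ha) ?_ ?_
  · have := pow_mem_Age ha n
    rwa [Nat.mul_comm] at this
  · rw [map_pow, hab, Polynomial.monomial_pow, pow_succ']

theorem isNilpotent_of_rho_eq_zero (h : IsTZero 𝒜 ℬ φ 𝒞 π ρ) {c : C} (hρ : ρ c = 0) :
    IsNilpotent c := by
  classical
  rw [← mem_nilradical, ← DirectSum.sum_support_decompose 𝒞 c]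
  refine Ideal.sum_mem _ fun i _ => ?_
  rw [mem_nilradical]
  refine ⟨i + 1, h.pow_eq_zero_of_rho_eq_zero (SetLike.coe_mem _) ?_⟩
  rw [GradedRingHom.map_directSumDecompose, hρ, decompose_zero, DirectSum.zero_apply, ZeroMemClass.coe_zero]

theorem eq_zero_of_rho_eq_zero (h : IsTZero 𝒜 ℬ φ 𝒞 π ρ) {n₀ : ℕ}
    (hgen : ∀ n : ℕ, n₀ ≤ n → 𝒜 (n + 1) = 𝒜 1 * 𝒜 n) {n : ℕ} (hn : n₀ ≤ n) {c : C}
    (hc : c ∈ 𝒞 n) (hρ : ρ c = 0) : c = 0 := by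
  obtain ⟨b, hb, rfl, a, ha, hab⟩ := h.exists_of_rho_eq_zero hc hρ
  rw [(Age_succ_eq_iff 𝒜 n₀).mpr hgen n hn] at ha
  have key : a ∈ Age 𝒜 n ∧ ∀ b : B, φ b = Polynomial.monomial n a → π b = 0 := by
    refine Submodule.mul_induction_on ha ?_ ?_
    · intro u hu v hv
      refine ⟨Age_anti 𝒜 (by omega) (mul_mem_Age 𝒜 hu hv), fun b hb => ?_⟩
      exact h.pi_eq_zero_of_mul hu hv hb
    · rintro a₁ a₂ ⟨h1, h1'⟩ ⟨h2, h2'⟩
      refine ⟨add_mem h1 h2, fun b hb => ?_⟩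
      obtain ⟨b₁, -, hb₁⟩ := h.nat.exists_of_mem_Age h1
      obtain ⟨b₂, -, hb₂⟩ := h.nat.exists_of_mem_Age h2
      have : b = b₁ + b₂ := by
        apply h.nat.inj
        rw [map_add φ, hb₁, hb₂, hb, map_add]
      rw [this, map_add, h1' b₁ hb₁, h2' b₂ hb₂, add_zero]
  exact key.2 b hab

end IsTZero

end Groth.Agent.Helper4.Natural
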