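import Groth.Prelude.Def_W4c5normfunctorschNorm
import Mathlib

/-!
# Norm and the comparison map `bcAlong` (helper4)
-/

set_option autoImplicit false
universe u
open scoped TensorProduct

namespace Groth.Agent.Helper4.NormBC

section tmul

variable {R : Type u} [CommRing R] {Q : Type u} [CommRing Q] [Algebra R Q]
  {X : Type u} [AddCommGroup X] [Module R X]
  {Y : Type u} [AddCommGroup Y] [Module R Y] [Module Q Y] [IsScalarTower R Q Y]

theorem bcAlong_tmul (g : X →ₗ[R] Y) (P : Type u) [CommRing P] [Algebra R P] [Algebra Q P]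
    [IsScalarTower R Q P] (p : P) (x : X) :
    PolLaw.bcAlong g P (p ⊗ₜ[R] x) = p ⊗ₜ[Q] g x := by
  simp [PolLaw.bcAlong, TensorProduct.AlgebraTensorModule.cancelBaseChange_symm_tmul]

end tmul

section push

variable {R R' Q Q' : Type u} [CommRing R] [CommRing R'] [Algebra R R']
  [CommRing Q] [Algebra R Q] [CommRing Q'] [Algebra R Q'] [Algebra Q Q'] [Algebra R' Q']
  [IsScalarTower R Q Q'] [IsScalarTower R R' Q'] [Algebra.IsPushout R R' Q Q']
  (P : Type u) [CommRing P] [Algebra R P] [Algebra Q P] [IsScalarTower R Q P]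

/-- the `P`-algebra isomorphism `P ⊗[R] R' ≃ P ⊗[Q] Q'` -/
noncomputable def E : P ⊗[R] R' ≃ₐ[P] P ⊗[Q] Q' :=
  haveI : Algebra.IsPushout R Q R' Q' := Algebra.IsPushout.symm inferInstance
  (Algebra.TensorProduct.cancelBaseChange R Q P P R').symm.trans
    (Algebra.TensorProduct.congr (AlgEquiv.refl : P ≃ₐ[P] P) (Algebra.IsPushout.equiv R Q R' Q'))

theorem E_apply (z : P ⊗[R] R') :
    E (R := R) (R' := R') (Q := Q) (Q' := Q') P z =
      PolLaw.bcAlong (Q := Q) (IsScalarTower.toAlgHom R R' Q').toLinearMap P z := by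
  haveI : Algebra.IsPushout R Q R' Q' := Algebra.IsPushout.symm inferInstance
  induction z using TensorProduct.induction_on with
  | zero => simp
  | tmul p r =>
    rw [bcAlong_tmul (Q := Q)]
    simp [E, Algebra.TensorProduct.cancelBaseChange_symm_tmul, Algebra.IsPushout.equiv_tmul]
  | add x y hx hy => rw [map_add, map_add, hx, hy]

theorem norm_bcAlong (z : P ⊗[R] R') :
    Algebra.norm P (PolLaw.bcAlong (Q := Q) (IsScalarTower.toAlgHom R R' Q').toLinearMap P z) =
      Algebra.norm P z := by
  rw [← E_apply, Algebra.norm_eq_of_algEquiv]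

end push

end Groth.Agent.Helper4.NormBC
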