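import Groth.Agent.Helper4.FreeLaw

/-!
# Words with the same letter count differ by a permutation of positions (helper4)
-/

set_option autoImplicit false
universe u v

namespace Groth.Agent.Helper4.NormExpA

/-- letter count of a word (any index type) -/
noncomputable def cnt {ι : Type*} [Fintype ι] {L : Type*} (w : ι → L) : L →₀ ℕ :=
  ∑ k, Finsupp.single (w k) 1

theorem cnt_apply {ι : Type*} [Fintype ι] {L : Type*} [DecidableEq L] (w : ι → L) (l : L) :
    cnt w l = (Finset.univ.filter fun k => w k = l).card := by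
  rw [cnt, Finsupp.finsetSum_apply]
  simp only [Finsupp.single_apply]
  rw [Finset.card_filter]

theorem cnt_comp_equiv {ι ι' : Type*} [Fintype ι] [Fintype ι'] {L : Type*} (w : ι → L)
    (e : ι' ≃ ι) : cnt (w ∘ e) = cnt w := by
  unfold cnt
  exact Fintype.sum_equiv e _ _ (fun _ => rfl)

theorem cnt_map {ι : Type*} [Fintype ι] {L L' : Type*} (w : ι → L) (f : L → L') :
    cnt (f ∘ w) = Finsupp.mapDomain f (cnt w) := by
  unfold cnt
  rw [Finsupp.mapDomain_finset_sum]
  simp [Finsupp.mapDomain_single]

theorem exists_perm_of_cnt_eq {ι : Type*} [Fintype ι] [DecidableEq ι] {L : Type*} [DecidableEq L]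
    (w w' : ι → L) (h : cnt w = cnt w') : ∃ τ : Equiv.Perm ι, w' = w ∘ τ := by
  classical
  have hcard : ∀ l : L, Fintype.card {k // w' k = l} = Fintype.card {k // w k = l} := by
    intro l
    rw [Fintype.card_subtype, Fintype.card_subtype, ← cnt_apply, ← cnt_apply, h]
  let eq : ∀ l : L, {k // w' k = l} ≃ {k // w k = l} := fun l => Fintype.equivOfCardEq (hcard l)
  let τ : Equiv.Perm ι :=
    (Equiv.sigmaFiberEquiv w').symm.trans ((Equiv.sigmaCongrRight eq).trans (Equiv.sigmaFiberEquiv w))
  refine ⟨τ, ?_⟩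
  funext k
  have : w (τ k) = w' k := ((eq (w' k)) ⟨k, rfl⟩).2
  exact this.symm

end Groth.Agent.Helper4.NormExpA
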