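import Groth.Agent.Helper4.NormExpA
import Groth.Agent.Helper4.FreeGammaC

/-!
# Orbit sums of pure tensors as coefficients of the tensor power law (helper4)
-/

set_option autoImplicit false
universe u
open scoped TensorProduct
open MvPolynomial

namespace Groth.Agent.Helper4.NormExpB

open Groth.Agent.Helper4.NormExpA Groth.Agent.Helper4.GammaSpan Groth.Agent.Helper4.PolLaw1
  Groth.Agent.Helper4.PolarCoeff

variable {A : Type u} [CommRing A] {B : Type u} [CommRing B] [Algebra A B] {d : ℕ}

/-- orbit sum: the sum of the pure tensors `m ∘ w` over the words `w` with letter count `ν` -/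
noncomputable def orb {L : Type*} [Fintype L] [DecidableEq L] (m : L → B) (ν : L →₀ ℕ) :
    ⨂[A] _ : Fin d, B :=
  ∑ w : Fin d → L, if cnt w = ν then PiTensorProduct.tprod A (fun i => m (w i)) else 0

theorem orb_equiv {L L' : Type*} [Fintype L] [DecidableEq L] [Fintype L'] [DecidableEq L']
    (e : L ≃ L') (m : L → B) (ν : L →₀ ℕ) :
    (orb m ν : ⨂[A] _ : Fin d, B) = orb (fun l' => m (e.symm l')) (Finsupp.mapDomain e ν) := by
  unfold orb
  refine Fintype.sum_equiv (Equiv.piCongrRight fun _ => e) _ _ fun w => ?_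
  have h1 : cnt (fun i => e (w i)) = Finsupp.mapDomain e (cnt w) := cnt_map w e
  have h2 : (cnt ((Equiv.piCongrRight fun _ : Fin d => e) w) = Finsupp.mapDomain e ν) ↔ cnt w = ν := by
    change cnt (fun i => e (w i)) = _ ↔ _
    rw [h1]
    exact (Finsupp.mapDomain_injective e.injective).eq_iff
  by_cases h : cnt w = ν
  · rw [if_pos h, if_pos (h2.2 h)]
    congr 1
    funext i
    simp
  · rw [if_neg h, if_neg (fun h' => h (h2.1 h'))]

theorem prod_X_eq_monomial {ι : Type*} [Fintype ι] {L : Type*} (c : ι → L) :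
    (∏ i, (X (c i) : MvPolynomial L A)) = monomial (cnt c) 1 := by
  unfold cnt
  rw [monomial_sum_one]
  rfl

theorem coeff_prod_X {L : Type*} [DecidableEq L] (c : Fin d → L) (ν : L →₀ ℕ) :
    coeff ν (∏ i, (X (c i) : MvPolynomial L A)) = if cnt c = ν then 1 else 0 := by
  classical
  rw [prod_X_eq_monomial, coeff_monomial]

/-- the generic combination -/
noncomputable def gen {L : Type} [Fintype L] (m : L → B) : MvPolynomial L A ⊗[A] B :=
  ∑ l, X l ⊗ₜ[A] m l

theorem tpow_sum {ι : Type*} [Fintype ι] [DecidableEq ι] (S : Type u) [CommSemiring S] [Algebra A S]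
    (s : ι → S) (b : ι → B) :
    (SymTen.tpowLaw A B d).law.toFun' S (∑ j, s j ⊗ₜ[A] b j) =
      ∑ p : Fin d → ι, (∏ k, s (p k)) ⊗ₜ[A] PiTensorProduct.tprod A (fun k => b (p k)) := by
  classical
  rw [SymTen.tpowLaw, PolLaw.MulLaw.prodMap_toFun']
  simp only [map_sum, Algebra.TensorProduct.map_tmul, AlgHom.id_apply]
  rw [Finset.prod_univ_sum]
  rw [Fintype.piFinset_univ]
  refine Finset.sum_congr rfl fun p _ => ?_
  rw [Groth.Agent.Helper4.FreeLaw.prod_tmul]
  congr 1
  simp only [PiTensorProduct.singleAlgHom_apply, MonoidHom.mulSingle_apply]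
  rw [← PiTensorProduct.tprod_prod]
  exact congrArg _ (Finset.univ_prod_mulSingle (fun k : Fin d => b (p k)))

theorem cf_sum_words {L : Type} [Fintype L] [DecidableEq L] (m : L → B) (ν : L →₀ ℕ) :
    cf ν (∑ p : Fin d → L, (∏ k, (X (p k) : MvPolynomial L A)) ⊗ₜ[A]
      PiTensorProduct.tprod A (fun k => m (p k))) = (orb m ν : ⨂[A] _ : Fin d, B) := by
  rw [map_sum]
  unfold orb
  refine Finset.sum_congr rfl fun p _ => ?_
  rw [cf_tmul, coeff_prod_X]
  split_ifs <;> simp

/-- orbit sums are coefficients of the tensor power law at the generic combination -/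
theorem orb_eq_cf {L : Type} [Fintype L] [DecidableEq L] (m : L → B) (ν : L →₀ ℕ) :
    (orb m ν : ⨂[A] _ : Fin d, B) =
      cf ν ((SymTen.tpowLaw A B d).law.toFun' (MvPolynomial L A) (gen m)) := by
  rw [gen, tpow_sum, cf_sum_words]

theorem orb_mem_span {L : Type} [Fintype L] [DecidableEq L] (m : L → B) (ν : L →₀ ℕ) :
    (orb m ν : ⨂[A] _ : Fin d, B) ∈ Submodule.span A (GenSet (SymTen.tpowLaw A B d).law) := by
  rw [orb_eq_cf]
  exact Submodule.subset_span ⟨MvPolynomial L A, inferInstance, inferInstance,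
    MvPolynomial.lcoeff A ν, gen m, rfl⟩

theorem cf_lTensor {σ : Type*} {C C' : Type*} [AddCommGroup C] [Module A C] [AddCommGroup C']
    [Module A C'] (f : C →ₗ[A] C') (ν : σ →₀ ℕ) (z : MvPolynomial σ A ⊗[A] C) :
    cf ν (f.lTensor (MvPolynomial σ A) z) = f (cf ν z) := by
  induction z using TensorProduct.induction_on with
  | zero => simp
  | tmul s c => simp
  | add z₁ z₂ h₁ h₂ => simp only [map_add, h₁, h₂]

/-- killing a variable whose coefficient vanishes -/
theorem cf_eq_zero_of_kill {L : Type} [Fintype L] [DecidableEq L] {C : Type u} [CommRing C]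
    [Algebra A C] (F : B →ₚₗ[A] C) (m : L → B) (l₀ : L) (h0 : m l₀ = 0) (ν : L →₀ ℕ)
    (hν : ν l₀ ≠ 0) : cf ν (F.toFun' (MvPolynomial L A) (gen m)) = 0 := by
  have h1 : Algebra.TensorProduct.map (kill (R := A) l₀) (AlgHom.id A B) (gen m) = gen m := by
    unfold gen
    rw [map_sum]
    refine Finset.sum_congr rfl fun l _ => ?_
    rw [Algebra.TensorProduct.map_tmul, AlgHom.id_apply]
    by_cases hl : l = l₀
    · subst hl; rw [h0, TensorProduct.tmul_zero, TensorProduct.tmul_zero]
    · rw [kill_X_ne l₀ hl]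
  have h2 := compat F (kill (R := A) l₀) (gen m)
  rw [h1] at h2
  rw [h2]
  generalize F.toFun' (MvPolynomial L A) (gen m) = w
  induction w using TensorProduct.induction_on with
  | zero => simp
  | tmul p c =>
    rw [Algebra.TensorProduct.map_tmul, cf_tmul, coeff_kill, if_neg hν, zero_smul]
  | add x y hx hy => rw [map_add, map_add, hx, hy, add_zero]

end Groth.Agent.Helper4.NormExpB
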