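import Groth.Agent.Helper4.NormExpB

/-!
# Expansion of the product of all permutations of a tensor into orbit sums (helper4)
-/

set_option autoImplicit false
universe u
open scoped TensorProduct

namespace Groth.Agent.Helper4.NormExpC

open Groth.Agent.Helper4.NormExpA Groth.Agent.Helper4.NormExpB

variable {A : Type u} [CommRing A] {B : Type u} [CommRing B] [Algebra A B] {d : ℕ}

section letters

variable {K : Type} [Fintype K] [DecidableEq K]

/-- translation action on choice functions -/
def actE (τ : Equiv.Perm (Fin d)) : (Equiv.Perm (Fin d) → K) ≃ (Equiv.Perm (Fin d) → K) :=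
  (Equiv.mulLeft τ).arrowCongr (Equiv.refl K)

theorem actE_apply (τ : Equiv.Perm (Fin d)) (f : Equiv.Perm (Fin d) → K) (σ : Equiv.Perm (Fin d)) :
    actE τ f σ = f (τ⁻¹ * σ) := by
  simp [actE, Equiv.arrowCongr]

/-- the letter type -/
abbrev Lt (K : Type) (d : ℕ) := Sym (K × Fin d) (Fintype.card (Equiv.Perm (Fin d)))

/-- the letter at position `i` of the word attached to the choice function `f` -/
def lett (f : Equiv.Perm (Fin d) → K) (i : Fin d) : Lt K d :=
  Sym.mk (Multiset.map (fun σ : Equiv.Perm (Fin d) => (f σ, σ.symm i)) Finset.univ.val)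
    (by rw [Multiset.card_map]; rfl)

theorem lett_act (τ : Equiv.Perm (Fin d)) (f : Equiv.Perm (Fin d) → K) (i : Fin d) :
    lett (actE τ f) i = lett f (τ.symm i) := by
  apply Sym.coe_injective
  change Multiset.map (fun σ : Equiv.Perm (Fin d) => (actE τ f σ, σ.symm i)) Finset.univ.val =
    Multiset.map (fun σ : Equiv.Perm (Fin d) => (f σ, σ.symm (τ.symm i))) Finset.univ.val
  conv_lhs => rw [← Multiset.map_univ_val_equiv (Equiv.mulLeft τ), Multiset.map_map]
  refine Multiset.map_congr rfl fun σ _ => ?_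
  simp only [Function.comp_apply, Equiv.coe_mulLeft, actE_apply, inv_mul_cancel_left]
  rfl

/-- the word attached to a choice function -/
def wd (f : Equiv.Perm (Fin d) → K) : Fin d → Lt K d := fun i => lett f i

theorem wd_act (τ : Equiv.Perm (Fin d)) (f : Equiv.Perm (Fin d) → K) :
    wd (actE τ f) = wd f ∘ (τ.symm : Equiv.Perm (Fin d)) := by
  funext i
  exact lett_act τ f i

variable (u : K → Fin d → B)

/-- value of a letter -/
def val (l : Lt K d) : B := (Multiset.map (fun p : K × Fin d => u p.1 p.2) (l : Multiset (K × Fin d))).prod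

theorem val_lett (f : Equiv.Perm (Fin d) → K) (i : Fin d) :
    val u (lett f i) = ∏ σ : Equiv.Perm (Fin d), u (f σ) (σ.symm i) := by
  change (Multiset.map (fun p : K × Fin d => u p.1 p.2)
    (Multiset.map (fun σ : Equiv.Perm (Fin d) => (f σ, σ.symm i)) Finset.univ.val)).prod = _
  rw [Multiset.map_map]
  rfl

/-- weights -/
def wt (a : K → A) (f : Equiv.Perm (Fin d) → K) : A := ∏ σ, a (f σ)

theorem wt_act (a : K → A) (τ : Equiv.Perm (Fin d)) (f : Equiv.Perm (Fin d) → K) :
    wt a (actE τ f) = wt a f := by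
  unfold wt
  refine Fintype.prod_equiv (Equiv.mulLeft τ⁻¹) _ _ fun σ => ?_
  rw [actE_apply]
  rfl

theorem prod_perm_eq (a : K → A) :
    (∏ σ : Equiv.Perm (Fin d), SymTen.perm A B d σ (∑ k, a k • PiTensorProduct.tprod A (u k))) =
      ∑ f : Equiv.Perm (Fin d) → K,
        wt a f • PiTensorProduct.tprod A (fun i => val u (wd f i)) := by
  classical
  simp_rw [map_sum, map_smul, SymTen.perm_tprod]
  rw [Finset.prod_univ_sum, Fintype.piFinset_univ]
  refine Finset.sum_congr rfl fun f _ => ?_
  rw [Finset.prod_smul]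
  congr 1
  rw [← PiTensorProduct.tprod_prod]
  congr 1
  funext i
  rw [Finset.prod_apply]
  exact (val_lett u f i).symm

/-- total weight of the choice functions with a given word -/
noncomputable def cw (a : K → A) (w : Fin d → Lt K d) : A :=
  ∑ f : Equiv.Perm (Fin d) → K, if wd f = w then wt a f else 0

theorem sum_eq_sum_words (a : K → A) {M : Type*} [AddCommGroup M] [Module A M]
    (F : (Fin d → Lt K d) → M) :
    (∑ f : Equiv.Perm (Fin d) → K, wt a f • F (wd f)) = ∑ w : Fin d → Lt K d, cw a w • F w := by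
  classical
  unfold cw
  simp_rw [Finset.sum_smul]
  rw [Finset.sum_comm]
  refine Finset.sum_congr rfl fun f _ => ?_
  simp_rw [ite_smul, zero_smul]
  rw [Finset.sum_ite_eq, if_pos (Finset.mem_univ _)]

theorem cw_comp (a : K → A) (w : Fin d → Lt K d) (τ : Equiv.Perm (Fin d)) :
    cw a (w ∘ τ) = cw a w := by
  classical
  unfold cw
  refine (Fintype.sum_equiv (actE τ⁻¹) _ _ fun f => ?_).symm
  rw [wt_act, wd_act]
  have h : (wd f ∘ ((τ⁻¹ : Equiv.Perm (Fin d)).symm : Equiv.Perm (Fin d)) = w ∘ τ) ↔ wd f = w := by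
    have : ((τ⁻¹ : Equiv.Perm (Fin d)).symm : Equiv.Perm (Fin d)) = τ := by
      ext i; rfl
    rw [this]
    exact τ.surjective.injective_comp_right.eq_iff
  by_cases hw : wd f = w
  · rw [if_pos hw, if_pos (h.2 hw)]
  · rw [if_neg hw, if_neg (fun h' => hw (h.1 h'))]

theorem cw_eq_of_cnt_eq (a : K → A) (w w' : Fin d → Lt K d) (h : cnt w = cnt w') :
    cw a w = cw a w' := by
  classical
  obtain ⟨τ, rfl⟩ := exists_perm_of_cnt_eq w w' h
  exact (cw_comp a w τ).symm

theorem cw_ne_zero (a : K → A) (w : Fin d → Lt K d) (h : cw a w ≠ 0) :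
    ∃ f : Equiv.Perm (Fin d) → K, wd f = w := by
  classical
  by_contra hne
  push_neg at hne
  apply h
  unfold cw
  exact Finset.sum_eq_zero fun f _ => if_neg (hne f)

open Classical in
/-- coefficient attached to a letter count -/
noncomputable def coef (a : K → A) (ν : Lt K d →₀ ℕ) : A :=
  if h : ∃ w : Fin d → Lt K d, cnt w = ν then cw a h.choose else 0

theorem coef_eq (a : K → A) (w : Fin d → Lt K d) : coef a (cnt w) = cw a w := by
  classical
  have h : ∃ w' : Fin d → Lt K d, cnt w' = cnt w := ⟨w, rfl⟩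
  rw [coef, dif_pos h]
  exact cw_eq_of_cnt_eq a _ _ h.choose_spec

/-- the expansion over the letter type -/
theorem expansion_Lt (a : K → A) :
    (∏ σ : Equiv.Perm (Fin d), SymTen.perm A B d σ (∑ k, a k • PiTensorProduct.tprod A (u k))) =
      ∑ ν ∈ (Finset.univ : Finset (Fin d → Lt K d)).image cnt, coef a ν • orb (val u) ν := by
  classical
  rw [prod_perm_eq, sum_eq_sum_words a (fun w => PiTensorProduct.tprod A (fun i => val u (w i)))]
  rw [← Finset.sum_fiberwise_of_maps_to (s := Finset.univ) (t := Finset.univ.image cnt) (g := cnt)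
    (fun w _ => Finset.mem_image_of_mem _ (Finset.mem_univ w))]
  refine Finset.sum_congr rfl fun ν _ => ?_
  unfold orb
  rw [Finset.smul_sum]
  simp_rw [smul_ite, smul_zero]
  rw [← Finset.sum_filter]
  refine Finset.sum_congr rfl fun w hw => ?_
  rw [← (Finset.mem_filter.1 hw).2, coef_eq]

theorem exists_letter (I : Ideal B) (hI : ∀ k, ∃ j, u k j ∈ I) (f : Equiv.Perm (Fin d) → K) :
    ∃ l : Lt K d, cnt (wd f) l ≠ 0 ∧ val u l ∈ I := by
  classical
  obtain ⟨j, hj⟩ := hI (f 1)
  refine ⟨wd f j, ?_, ?_⟩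
  · rw [cnt_apply]
    exact Finset.card_ne_zero.2 ⟨j, Finset.mem_filter.2 ⟨Finset.mem_univ j, rfl⟩⟩
  · change val u (lett f j) ∈ I
    rw [val_lett]
    refine I.mem_of_dvd ?_ hj
    exact Finset.dvd_prod_of_mem (fun σ : Equiv.Perm (Fin d) => u (f σ) (σ.symm j))
      (Finset.mem_univ (1 : Equiv.Perm (Fin d)))

end letters

/-- **Norm expansion.** The product of all permutations of a sum of pure tensors is a combination of
orbit sums; if every pure tensor has an entry in an ideal `I`, every orbit sum occurring with a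
non-zero coefficient involves a letter whose value lies in `I`. -/
theorem norm_expansion (n : ℕ) (a : Fin n → A) (u : Fin n → Fin d → B) :
    ∃ (N : ℕ) (m : Fin N → B) (Ν : Finset (Fin N →₀ ℕ)) (co : (Fin N →₀ ℕ) → A),
      (∏ σ : Equiv.Perm (Fin d), SymTen.perm A B d σ (∑ k, a k • PiTensorProduct.tprod A (u k))) =
        ∑ ν ∈ Ν, co ν • orb m ν ∧
      ∀ I : Ideal B, (∀ k, ∃ j, u k j ∈ I) → ∀ ν ∈ Ν, co ν ≠ 0 → ∃ l, ν l ≠ 0 ∧ m l ∈ I := by
  classical
  let e : Lt (Fin n) d ≃ Fin (Fintype.card (Lt (Fin n) d)) := Fintype.equivFin _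
  have hinj : Function.Injective (Finsupp.mapDomain e : (Lt (Fin n) d →₀ ℕ) → _) :=
    Finsupp.mapDomain_injective e.injective
  have hback : ∀ ν : Lt (Fin n) d →₀ ℕ, Finsupp.mapDomain e.symm (Finsupp.mapDomain e ν) = ν := by
    intro ν
    rw [← Finsupp.mapDomain_comp]
    simp
  refine ⟨_, fun l' => val u (e.symm l'),
    ((Finset.univ : Finset (Fin d → Lt (Fin n) d)).image cnt).image (Finsupp.mapDomain e),
    fun ν' => coef a (Finsupp.mapDomain e.symm ν'), ?_, ?_⟩
  · rw [expansion_Lt, Finset.sum_image (fun x _ y _ h => hinj h)]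
    refine Finset.sum_congr rfl fun ν _ => ?_
    dsimp only
    rw [hback, orb_equiv e]
  · intro I hI ν' hν' hco
    obtain ⟨ν, hν, rfl⟩ := Finset.mem_image.1 hν'
    dsimp only at hco
    rw [hback] at hco
    obtain ⟨w, -, rfl⟩ := Finset.mem_image.1 hν
    rw [coef_eq] at hco
    obtain ⟨f, rfl⟩ := cw_ne_zero a w hco
    obtain ⟨l, hl1, hl2⟩ := exists_letter u I hI f
    refine ⟨e l, ?_, ?_⟩
    · rw [Finsupp.mapDomain_apply e.injective]
      exact hl1
    · simpa using hl2

end Groth.Agent.Helper4.NormExpC
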