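import Groth.Agent.Helper4.NormExpC

/-!
# Grouping sums over choice functions by the letter count of their word, for arbitrary invariant
weights (helper4)
-/

set_option autoImplicit false
universe u
open scoped TensorProduct

namespace Groth.Agent.Helper4.NormExpD

open Groth.Agent.Helper4.NormExpA Groth.Agent.Helper4.NormExpB Groth.Agent.Helper4.NormExpC

variable {K : Type} [Fintype K] [DecidableEq K] {d : ℕ} {R : Type*} [CommSemiring R]

/-- total weight of the choice functions with a given word -/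
noncomputable def cwW (W : (Equiv.Perm (Fin d) → K) → R) (w : Fin d → Lt K d) : R :=
  ∑ f : Equiv.Perm (Fin d) → K, if wd f = w then W f else 0

theorem sum_eq_sum_wordsW (W : (Equiv.Perm (Fin d) → K) → R) {M : Type*} [AddCommMonoid M]
    [Module R M] (F : (Fin d → Lt K d) → M) :
    (∑ f : Equiv.Perm (Fin d) → K, W f • F (wd f)) = ∑ w : Fin d → Lt K d, cwW W w • F w := by
  classical
  unfold cwW
  simp_rw [Finset.sum_smul]
  rw [Finset.sum_comm]
  refine Finset.sum_congr rfl fun f _ => ?_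
  simp_rw [ite_smul, zero_smul]
  rw [Finset.sum_ite_eq, if_pos (Finset.mem_univ _)]

theorem cwW_comp (W : (Equiv.Perm (Fin d) → K) → R) (hW : ∀ τ f, W (actE τ f) = W f)
    (w : Fin d → Lt K d) (τ : Equiv.Perm (Fin d)) : cwW W (w ∘ τ) = cwW W w := by
  classical
  unfold cwW
  refine (Fintype.sum_equiv (actE τ⁻¹) _ _ fun f => ?_).symm
  rw [hW, wd_act]
  have h : (wd f ∘ ((τ⁻¹ : Equiv.Perm (Fin d)).symm : Equiv.Perm (Fin d)) = w ∘ τ) ↔ wd f = w := by
    have : ((τ⁻¹ : Equiv.Perm (Fin d)).symm : Equiv.Perm (Fin d)) = τ := by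
      ext i; rfl
    rw [this]
    exact τ.surjective.injective_comp_right.eq_iff
  by_cases hw : wd f = w
  · rw [if_pos hw, if_pos (h.2 hw)]
  · rw [if_neg hw, if_neg (fun h' => hw (h.1 h'))]

theorem cwW_eq_of_cnt_eq (W : (Equiv.Perm (Fin d) → K) → R) (hW : ∀ τ f, W (actE τ f) = W f)
    (w w' : Fin d → Lt K d) (h : cnt w = cnt w') : cwW W w = cwW W w' := by
  classical
  obtain ⟨τ, rfl⟩ := exists_perm_of_cnt_eq w w' h
  exact (cwW_comp W hW w τ).symm

theorem cwW_congr (W W' : (Equiv.Perm (Fin d) → K) → R) (w : Fin d → Lt K d)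
    (h : ∀ f, wd f = w → W f = W' f) : cwW W w = cwW W' w := by
  classical
  unfold cwW
  refine Finset.sum_congr rfl fun f _ => ?_
  by_cases hw : wd f = w
  · rw [if_pos hw, if_pos hw, h f hw]
  · rw [if_neg hw, if_neg hw]

open Classical in
/-- coefficient attached to a letter count -/
noncomputable def coefW (W : (Equiv.Perm (Fin d) → K) → R) (ν : Lt K d →₀ ℕ) : R :=
  if h : ∃ w : Fin d → Lt K d, cnt w = ν then cwW W h.choose else 0

theorem coefW_eq (W : (Equiv.Perm (Fin d) → K) → R) (hW : ∀ τ f, W (actE τ f) = W f)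
    (w : Fin d → Lt K d) : coefW W (cnt w) = cwW W w := by
  classical
  have h : ∃ w' : Fin d → Lt K d, cnt w' = cnt w := ⟨w, rfl⟩
  rw [coefW, dif_pos h]
  exact cwW_eq_of_cnt_eq W hW _ _ h.choose_spec

/-- the finite set of letter counts of words -/
noncomputable def Nu (K : Type) [Fintype K] [DecidableEq K] (d : ℕ) : Finset (Lt K d →₀ ℕ) := by
  classical
  exact (Finset.univ : Finset (Fin d → Lt K d)).image cnt

theorem mem_Nu (w : Fin d → Lt K d) : cnt w ∈ Nu K d := by
  classical
  unfold Nu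
  exact Finset.mem_image_of_mem _ (Finset.mem_univ w)

theorem exists_of_mem_Nu {ν : Lt K d →₀ ℕ} (h : ν ∈ Nu K d) : ∃ w : Fin d → Lt K d, cnt w = ν := by
  classical
  unfold Nu at h
  obtain ⟨w, -, hw⟩ := Finset.mem_image.1 h
  exact ⟨w, hw⟩

open Classical in
theorem groupW (W : (Equiv.Perm (Fin d) → K) → R) (hW : ∀ τ f, W (actE τ f) = W f)
    {M : Type*} [AddCommMonoid M] [Module R M] (F : (Fin d → Lt K d) → M) :
    (∑ f : Equiv.Perm (Fin d) → K, W f • F (wd f)) =
      ∑ ν ∈ Nu K d, coefW W ν • ∑ w : Fin d → Lt K d, if cnt w = ν then F w else 0 := by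
  rw [sum_eq_sum_wordsW]
  unfold Nu
  rw [← Finset.sum_fiberwise_of_maps_to (s := Finset.univ) (t := Finset.univ.image cnt) (g := cnt)
    (fun w _ => Finset.mem_image_of_mem _ (Finset.mem_univ w))]
  refine Finset.sum_congr rfl fun ν _ => ?_
  rw [Finset.smul_sum]
  simp_rw [smul_ite, smul_zero]
  rw [← Finset.sum_filter]
  refine Finset.sum_congr rfl fun w hw => ?_
  rw [← (Finset.mem_filter.1 hw).2, coefW_eq W hW]

/-- weights from a family of scalars -/
def wtW (s : K → R) (f : Equiv.Perm (Fin d) → K) : R := ∏ σ, s (f σ)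

theorem wtW_act (s : K → R) (τ : Equiv.Perm (Fin d)) (f : Equiv.Perm (Fin d) → K) :
    wtW s (actE τ f) = wtW s f := by
  unfold wtW
  refine Fintype.prod_equiv (Equiv.mulLeft τ⁻¹) _ _ fun σ => ?_
  rw [actE_apply]
  rfl

end Groth.Agent.Helper4.NormExpD
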