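import Mathlib
import Groth.Prelude.Def_SymTen

/-!
# The kernel of the tensor power of a surjective algebra map (helper4)
-/

set_option autoImplicit false
universe u
open scoped TensorProduct

namespace Groth.Agent.Helper4.TensKer

variable {A : Type u} [CommRing A] {P B : Type u} [CommRing P] [Algebra A P] [CommRing B]
  [Algebra A B] {d : ℕ} (π : P →ₐ[A] B)

/-- the span of the pure tensors with an entry in the kernel -/
def J : Submodule A (⨂[A] _ : Fin d, P) :=
  Submodule.span A {t | ∃ c : Fin d → P, (∃ j, π (c j) = 0) ∧ t = PiTensorProduct.tprod A c}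

theorem mkQ_update_eq [DecidableEq (Fin d)] (c : Fin d → P) (i : Fin d) (p p' : P) (h : π p = π p') :
    (J (d := d) π).mkQ (PiTensorProduct.tprod A (Function.update c i p)) =
      (J π).mkQ (PiTensorProduct.tprod A (Function.update c i p')) := by
  rw [← sub_eq_zero, ← map_sub, ← MultilinearMap.map_update_sub, Submodule.mkQ_apply,
    Submodule.Quotient.mk_eq_zero]
  refine Submodule.subset_span ⟨_, ⟨i, ?_⟩, rfl⟩
  rw [Function.update_self, map_sub, h, sub_self]

theorem mkQ_eq_of_comp_eq (c c' : Fin d → P) (h : ∀ j, π (c j) = π (c' j)) :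
    (J (d := d) π).mkQ (PiTensorProduct.tprod A c') = (J π).mkQ (PiTensorProduct.tprod A c) := by
  classical
  have key : ∀ s : Finset (Fin d),
      (J (d := d) π).mkQ (PiTensorProduct.tprod A (s.piecewise c' c)) =
        (J π).mkQ (PiTensorProduct.tprod A c) := by
    intro s
    induction s using Finset.induction_on with
    | empty => simp
    | insert i s hi ih =>
      rw [Finset.piecewise_insert, ← ih]
      have h1 : s.piecewise c' c = Function.update (s.piecewise c' c) i (c i) := by
        rw [eq_comm, Function.update_eq_self_iff]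
        simp [Finset.piecewise, hi]
      conv_rhs => rw [h1]
      exact mkQ_update_eq π _ i _ _ (h i).symm
  have := key Finset.univ
  rwa [Finset.piecewise_univ] at this

variable (hπ : Function.Surjective π)

/-- a set-theoretic section -/
noncomputable def sec (b : B) : P := (hπ b).choose

theorem π_sec (b : B) : π (sec π hπ b) = b := (hπ b).choose_spec

/-- the multilinear map `b ↦ [s b₁ ⊗ ⋯ ⊗ s b_d]` -/
noncomputable def μ : MultilinearMap A (fun _ : Fin d => B) ((⨂[A] _ : Fin d, P) ⧸ J (d := d) π) where
  toFun b := (J π).mkQ (PiTensorProduct.tprod A (fun i => sec π hπ (b i)))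
  map_update_add' := by
    intro _ b i x y
    have h : ∀ z : B, (fun j => sec π hπ (Function.update b i z j)) =
        Function.update (fun j => sec π hπ (b j)) i (sec π hπ z) := by
      intro z
      funext j
      by_cases hj : j = i
      · subst hj; simp
      · simp [Function.update_of_ne hj]
    rw [h, h, h, mkQ_update_eq π _ i (sec π hπ (x + y)) (sec π hπ x + sec π hπ y)
      (by rw [map_add, π_sec, π_sec, π_sec]), MultilinearMap.map_update_add, map_add]
  map_update_smul' := by
    intro _ b i a x
    have h : ∀ z : B, (fun j => sec π hπ (Function.update b i z j)) =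
        Function.update (fun j => sec π hπ (b j)) i (sec π hπ z) := by
      intro z
      funext j
      by_cases hj : j = i
      · subst hj; simp
      · simp [Function.update_of_ne hj]
    rw [h, h, mkQ_update_eq π _ i (sec π hπ (a • x)) (a • sec π hπ x)
      (by rw [map_smul, π_sec, π_sec]), MultilinearMap.map_update_smul, map_smul]

theorem lift_comp_tmap :
    (PiTensorProduct.lift (μ (d := d) π hπ)) ∘ₗ (SymTen.tmap A d π).toLinearMap = (J π).mkQ := by
  apply PiTensorProduct.ext
  apply MultilinearMap.ext
  intro c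
  simp only [LinearMap.compMultilinearMap_apply, LinearMap.comp_apply, AlgHom.toLinearMap_apply,
    SymTen.tmap_tprod, PiTensorProduct.lift.tprod]
  change (J π).mkQ (PiTensorProduct.tprod A (fun i => sec π hπ (π (c i)))) = _
  exact mkQ_eq_of_comp_eq π c _ (fun j => (π_sec π hπ _).symm)

include hπ in
theorem mem_J_of_tmap_eq_zero (t : ⨂[A] _ : Fin d, P) (ht : SymTen.tmap A d π t = 0) :
    t ∈ J (d := d) π := by
  have h := congrArg (fun f => f t) (lift_comp_tmap (d := d) π hπ)
  simp only [LinearMap.comp_apply, AlgHom.toLinearMap_apply, ht, map_zero] at h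
  rw [← Submodule.Quotient.mk_eq_zero]
  exact h.symm

theorem exists_rep_of_mem_J (t : ⨂[A] _ : Fin d, P) (hJ : t ∈ J (d := d) π) :
    ∃ (n : ℕ) (a : Fin n → A) (u : Fin n → Fin d → P),
      t = ∑ k, a k • PiTensorProduct.tprod A (u k) ∧ ∀ k, ∃ j, π (u k j) = 0 := by
  unfold J at hJ
  induction hJ using Submodule.span_induction with
  | mem x hx =>
    obtain ⟨c, hc, rfl⟩ := hx
    exact ⟨1, fun _ => 1, fun _ => c, by simp, fun _ => hc⟩
  | zero => exact ⟨0, Fin.elim0, Fin.elim0, by simp, fun k => k.elim0⟩
  | add x y _ _ hx hy =>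
    obtain ⟨n, a, u, rfl, hu⟩ := hx
    obtain ⟨n', a', u', rfl, hu'⟩ := hy
    refine ⟨n + n', Fin.append a a', Fin.append u u', ?_, ?_⟩
    · rw [Fin.sum_univ_add]
      simp
    · intro k
      refine Fin.addCases (fun k => ?_) (fun k => ?_) k
      · simpa using hu k
      · simpa using hu' k
  | smul r x _ hx =>
    obtain ⟨n, a, u, rfl, hu⟩ := hx
    exact ⟨n, fun k => r * a k, u, by rw [Finset.smul_sum]; simp [mul_smul], hu⟩

include hπ in
/-- finite representation -/
theorem exists_rep (t : ⨂[A] _ : Fin d, P) (ht : SymTen.tmap A d π t = 0) :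
    ∃ (n : ℕ) (a : Fin n → A) (u : Fin n → Fin d → P),
      t = ∑ k, a k • PiTensorProduct.tprod A (u k) ∧ ∀ k, ∃ j, π (u k j) = 0 :=
  exists_rep_of_mem_J π t (mem_J_of_tmap_eq_zero π hπ t ht)

end Groth.Agent.Helper4.TensKer
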