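import Groth.Agent.Helper4.NormExpC
import Groth.Agent.Helper4.TensKer

/-!
# Naturality lemmas for the tensor power law (helper4)
-/

set_option autoImplicit false
universe u
open scoped TensorProduct
open MvPolynomial

namespace Groth.Agent.Helper4.ZCPowA

open Groth.Agent.Helper4.NormExpA Groth.Agent.Helper4.NormExpB Groth.Agent.Helper4.GammaSpan
  Groth.Agent.Helper4.PolLaw1 Groth.Agent.Helper4.PolarTS

variable {A : Type u} [CommRing A] {B : Type u} [CommRing B] [Algebra A B] {d : ℕ}

theorem exists_rep_tensor {S : Type*} [CommSemiring S] [Algebra A S] {M : Type*} [AddCommMonoid M]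
    [Module A M] (z : S ⊗[A] M) :
    ∃ (n : ℕ) (s : Fin n → S) (m : Fin n → M), z = ∑ j, s j ⊗ₜ[A] m j := by
  induction z using TensorProduct.induction_on with
  | zero => exact ⟨0, Fin.elim0, Fin.elim0, by simp⟩
  | tmul s m => exact ⟨1, fun _ => s, fun _ => m, by simp⟩
  | add x y hx hy =>
    obtain ⟨n, s, m, rfl⟩ := hx
    obtain ⟨n', s', m', rfl⟩ := hy
    refine ⟨n + n', Fin.append s s', Fin.append m m', ?_⟩
    rw [Fin.sum_univ_add]
    simp

theorem exists_rep_T (t : ⨂[A] _ : Fin d, B) :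
    ∃ (n : ℕ) (a : Fin n → A) (u : Fin n → Fin d → B),
      t = ∑ k, a k • PiTensorProduct.tprod A (u k) := by
  induction t using PiTensorProduct.induction_on with
  | smul_tprod r f => exact ⟨1, fun _ => r, fun _ => f, by simp⟩
  | add x y hx hy =>
    obtain ⟨n, a, u, rfl⟩ := hx
    obtain ⟨n', a', u', rfl⟩ := hy
    refine ⟨n + n', Fin.append a a', Fin.append u u', ?_⟩
    rw [Fin.sum_univ_add]
    simp

/-- the comparison map composed with the universal law is the tensor power law -/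
theorem Φ_γ {C : Type u} [CommRing C] [Algebra A C] (γ : PolLaw.MulLaw A B C d)
    (Φ : C →ₐ[A] (⨂[A] _ : Fin d, B))
    (hΦ : ∀ (S : Type u) [CommSemiring S] [Algebra A S] (n : ℕ) (s : Fin n → S) (b : Fin n → B),
      Φ.toLinearMap.lTensor S (γ.law.toFun' S (∑ j, s j ⊗ₜ[A] b j)) =
        ∑ c : Fin d → Fin n, (∏ i, s (c i)) ⊗ₜ[A] PiTensorProduct.tprod A (fun i => b (c i)))
    (S : Type u) [CommSemiring S] [Algebra A S] (z : S ⊗[A] B) :
    Φ.toLinearMap.lTensor S (γ.law.toFun' S z) = (SymTen.tpowLaw A B d).law.toFun' S z := by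
  obtain ⟨n, s, b, rfl⟩ := exists_rep_tensor z
  rw [hΦ, tpow_sum]

/-- naturality of the tensor power law in the algebra -/
theorem tmap_tpow {P : Type u} [CommRing P] [Algebra A P] (π : P →ₐ[A] B)
    (S : Type u) [CommSemiring S] [Algebra A S] (z : S ⊗[A] P) :
    (SymTen.tmap A d π).toLinearMap.lTensor S ((SymTen.tpowLaw A P d).law.toFun' S z) =
      (SymTen.tpowLaw A B d).law.toFun' S (π.toLinearMap.lTensor S z) := by
  obtain ⟨n, s, p, rfl⟩ := exists_rep_tensor z
  rw [tpow_sum, map_sum, map_sum]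
  simp only [LinearMap.lTensor_tmul, AlgHom.toLinearMap_apply, SymTen.tmap_tprod]
  rw [tpow_sum]

/-- values of the tensor power law are symmetric -/
theorem perm_tpow (σ : Equiv.Perm (Fin d)) (S : Type u) [CommSemiring S] [Algebra A S]
    (z : S ⊗[A] B) :
    (SymTen.perm A B d σ).toLinearMap.lTensor S ((SymTen.tpowLaw A B d).law.toFun' S z) =
      (SymTen.tpowLaw A B d).law.toFun' S z := by
  obtain ⟨n, s, b, rfl⟩ := exists_rep_tensor z
  rw [tpow_sum, map_sum]
  simp only [LinearMap.lTensor_tmul, AlgHom.toLinearMap_apply, SymTen.perm_tprod]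
  refine Fintype.sum_equiv (Equiv.arrowCongr σ (Equiv.refl _)) _ _ fun c => ?_
  have h1 : ∀ i, (Equiv.arrowCongr σ (Equiv.refl (Fin n)) c) i = c (σ.symm i) := fun i => rfl
  simp only [h1]
  congr 1
  exact (Fintype.prod_equiv σ.symm _ _ fun i => rfl).symm

theorem span_GenSet_le_TS :
    Submodule.span A (GenSet (SymTen.tpowLaw A B d).law) ≤
      Subalgebra.toSubmodule (SymTen.TS A B d) := by
  rw [Submodule.span_le]
  rintro _ ⟨S, _, _, ℓ, z, rfl⟩
  intro σ
  rw [← SymTen.perm_apply]
  have := ev_lTensor ℓ (SymTen.perm A B d σ).toLinearMap ((SymTen.tpowLaw A B d).law.toFun' S z)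
  rw [perm_tpow] at this
  exact this.symm

end Groth.Agent.Helper4.ZCPowA
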