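import Groth.Agent.Helper4.NormExpD
import Groth.Agent.Helper4.ZCPowA
import Groth.Agent.Helper4.FreeLaw

/-!
# The norm law on a tensor power and its expansion into orbit sums (helper4)
-/

set_option autoImplicit false
universe u
open scoped TensorProduct

namespace Groth.Agent.Helper4.NormExpE

open Groth.Agent.Helper4.NormExpA Groth.Agent.Helper4.NormExpB Groth.Agent.Helper4.NormExpC
  Groth.Agent.Helper4.NormExpD Groth.Agent.Helper4.PolLaw1

variable (A : Type u) [CommRing A] (B : Type u) [CommRing B] [Algebra A B] (d : ℕ)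

/-- the norm law `z ↦ ∏ σ, σ z` on the tensor power -/
noncomputable def normLaw : (⨂[A] _ : Fin d, B) →ₚₗ[A] (⨂[A] _ : Fin d, B) where
  toFun' S _ _ := fun z => ∏ σ : Equiv.Perm (Fin d), (SymTen.perm A B d σ).toLinearMap.lTensor S z
  isCompat' {S} _ _ {S'} _ _ φ := by
    funext z
    simp only [Function.comp_apply]
    rw [rT_apply, map_prod]
    refine Finset.prod_congr rfl fun σ _ => ?_
    rw [← rT_apply, ← LinearMap.comp_apply, LinearMap.rTensor_comp_lTensor,
      ← LinearMap.lTensor_comp_rTensor, LinearMap.comp_apply]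

variable {A B d}

theorem normLaw_toFun' (S : Type u) [CommSemiring S] [Algebra A S] (z : S ⊗[A] (⨂[A] _ : Fin d, B)) :
    (normLaw A B d).toFun' S z =
      ∏ σ : Equiv.Perm (Fin d), (SymTen.perm A B d σ).toLinearMap.lTensor S z := rfl

theorem exists_rep_ST {S : Type*} [CommSemiring S] [Algebra A S] (z : S ⊗[A] (⨂[A] _ : Fin d, B)) :
    ∃ (n : ℕ) (s : Fin n → S) (u : Fin n → Fin d → B),
      z = ∑ k, s k ⊗ₜ[A] PiTensorProduct.tprod A (u k) := by
  induction z using TensorProduct.induction_on with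
  | zero => exact ⟨0, Fin.elim0, Fin.elim0, by simp⟩
  | tmul s t =>
    induction t using PiTensorProduct.induction_on with
    | smul_tprod r f =>
      refine ⟨1, fun _ => r • s, fun _ => f, ?_⟩
      simp [TensorProduct.smul_tmul]
    | add x y hx hy =>
      obtain ⟨n, s₁, u, h₁⟩ := hx
      obtain ⟨n', s₂, u', h₂⟩ := hy
      refine ⟨n + n', Fin.append s₁ s₂, Fin.append u u', ?_⟩
      rw [Fin.sum_univ_add, TensorProduct.tmul_add, h₁, h₂]
      simp
  | add x y hx hy =>
    obtain ⟨n, s, u, rfl⟩ := hx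
    obtain ⟨n', s', u', rfl⟩ := hy
    refine ⟨n + n', Fin.append s s', Fin.append u u', ?_⟩
    rw [Fin.sum_univ_add]
    simp

section expansion

variable {K : Type} [Fintype K] [DecidableEq K]

theorem normLaw_sum (S : Type u) [CommSemiring S] [Algebra A S] (s : K → S) (u : K → Fin d → B) :
    (normLaw A B d).toFun' S (∑ k, s k ⊗ₜ[A] PiTensorProduct.tprod A (u k)) =
      ∑ f : Equiv.Perm (Fin d) → K,
        wtW s f ⊗ₜ[A] PiTensorProduct.tprod A (fun i => val u (wd f i)) := by
  classical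
  rw [normLaw_toFun']
  simp_rw [map_sum, LinearMap.lTensor_tmul, AlgHom.toLinearMap_apply, SymTen.perm_tprod]
  rw [Finset.prod_univ_sum, Fintype.piFinset_univ]
  refine Finset.sum_congr rfl fun f _ => ?_
  rw [Groth.Agent.Helper4.FreeLaw.prod_tmul]
  congr 1
  rw [← PiTensorProduct.tprod_prod]
  congr 1
  funext i
  rw [Finset.prod_apply]
  exact (val_lett u f i).symm

theorem normLaw_expansion (S : Type u) [CommSemiring S] [Algebra A S] (s : K → S)
    (u : K → Fin d → B) :
    (normLaw A B d).toFun' S (∑ k, s k ⊗ₜ[A] PiTensorProduct.tprod A (u k)) =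
      ∑ ν ∈ Nu K d, coefW (wtW s) ν ⊗ₜ[A] (orb (val u) ν : ⨂[A] _ : Fin d, B) := by
  classical
  rw [normLaw_sum]
  have h := groupW (wtW s) (wtW_act s)
    (fun w : Fin d → Lt K d => (1 : S) ⊗ₜ[A] PiTensorProduct.tprod A (fun i => val u (w i)))
  have e1 : ∀ (r : S) (t : ⨂[A] _ : Fin d, B), r ⊗ₜ[A] t = r • ((1 : S) ⊗ₜ[A] t) := by
    intro r t
    rw [TensorProduct.smul_tmul', smul_eq_mul, mul_one]
  simp_rw [e1 (wtW s _)]
  rw [h]
  refine Finset.sum_congr rfl fun ν _ => ?_
  rw [e1 (coefW _ _)]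
  congr 1
  unfold orb
  rw [TensorProduct.tmul_sum]
  refine Finset.sum_congr rfl fun w _ => ?_
  split_ifs
  · rfl
  · rw [TensorProduct.tmul_zero]

end expansion

section algebraic

variable (S : Type u) [CommSemiring S] [Algebra A S]

theorem permS_eq (σ : Equiv.Perm (Fin d)) (z : S ⊗[A] (⨂[A] _ : Fin d, B)) :
    (SymTen.perm A B d σ).toLinearMap.lTensor S z =
      Algebra.TensorProduct.map (AlgHom.id S S) (SymTen.perm A B d σ) z :=
  PolLaw.lTensor_algHom_apply _ S z

theorem normLaw_one : (normLaw A B d).toFun' S 1 = 1 := by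
  rw [normLaw_toFun']
  refine Finset.prod_eq_one fun σ _ => ?_
  rw [permS_eq, map_one]

theorem normLaw_mul (x y : S ⊗[A] (⨂[A] _ : Fin d, B)) :
    (normLaw A B d).toFun' S (x * y) = (normLaw A B d).toFun' S x * (normLaw A B d).toFun' S y := by
  simp only [normLaw_toFun']
  rw [← Finset.prod_mul_distrib]
  refine Finset.prod_congr rfl fun σ _ => ?_
  rw [permS_eq, permS_eq, permS_eq, map_mul]

theorem normLaw_smul (s : S) (x : S ⊗[A] (⨂[A] _ : Fin d, B)) :
    (normLaw A B d).toFun' S (s • x) = s ^ d.factorial • (normLaw A B d).toFun' S x := by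
  simp only [normLaw_toFun']
  have h : ∀ σ : Equiv.Perm (Fin d), (SymTen.perm A B d σ).toLinearMap.lTensor S (s • x) =
      s • (SymTen.perm A B d σ).toLinearMap.lTensor S x := by
    intro σ
    rw [permS_eq, permS_eq, map_smul]
  simp_rw [h]
  rw [Finset.prod_smul, Finset.prod_const, Finset.card_univ, Fintype.card_perm, Fintype.card_fin]

theorem normLaw_of_invariant (z : S ⊗[A] (⨂[A] _ : Fin d, B))
    (hz : ∀ σ : Equiv.Perm (Fin d), (SymTen.perm A B d σ).toLinearMap.lTensor S z = z) :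
    (normLaw A B d).toFun' S z = z ^ d.factorial := by
  rw [normLaw_toFun', Finset.prod_congr rfl (fun σ _ => hz σ), Finset.prod_const, Finset.card_univ,
    Fintype.card_perm, Fintype.card_fin]

theorem tmap_perm {P : Type u} [CommRing P] [Algebra A P] (π : P →ₐ[A] B) (σ : Equiv.Perm (Fin d))
    (t : ⨂[A] _ : Fin d, P) :
    SymTen.tmap A d π (SymTen.perm A P d σ t) = SymTen.perm A B d σ (SymTen.tmap A d π t) := by
  rw [SymTen.perm_apply, SymTen.perm_apply, SymTen.tmap_reindex]

theorem tmap_normLaw {P : Type u} [CommRing P] [Algebra A P] (π : P →ₐ[A] B)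
    (z : S ⊗[A] (⨂[A] _ : Fin d, P)) :
    (SymTen.tmap A d π).toLinearMap.lTensor S ((normLaw A P d).toFun' S z) =
      (normLaw A B d).toFun' S ((SymTen.tmap A d π).toLinearMap.lTensor S z) := by
  rw [normLaw_toFun', normLaw_toFun', PolLaw.lTensor_algHom_apply, map_prod]
  refine Finset.prod_congr rfl fun σ _ => ?_
  rw [← PolLaw.lTensor_algHom_apply, ← LinearMap.comp_apply, ← LinearMap.lTensor_comp,
    ← LinearMap.comp_apply, ← LinearMap.lTensor_comp]
  congr 2
  exact LinearMap.ext fun t => tmap_perm π σ t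

end algebraic

section letters

variable {K : Type} [Fintype K] [DecidableEq K]

theorem exists_letter' (u : K → Fin d → B) (I : Ideal B) (f : Equiv.Perm (Fin d) → K)
    (σ₀ : Equiv.Perm (Fin d)) (j₀ : Fin d) (h : u (f σ₀) j₀ ∈ I) :
    ∃ l : Lt K d, cnt (wd f) l ≠ 0 ∧ val u l ∈ I := by
  classical
  refine ⟨wd f (σ₀ j₀), ?_, ?_⟩
  · rw [cnt_apply]
    exact Finset.card_ne_zero.2 ⟨σ₀ j₀, Finset.mem_filter.2 ⟨Finset.mem_univ _, rfl⟩⟩
  · change val u (lett f (σ₀ j₀)) ∈ I
    rw [val_lett]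
    refine I.mem_of_dvd ?_ (show u (f σ₀) (σ₀.symm (σ₀ j₀)) ∈ I by simpa using h)
    exact Finset.dvd_prod_of_mem (fun σ : Equiv.Perm (Fin d) => u (f σ) (σ.symm (σ₀ j₀)))
      (Finset.mem_univ σ₀)

theorem val_comp {P : Type u} [CommRing P] [Algebra A P] (π : P →ₐ[A] B) (u : K → Fin d → P)
    (l : Lt K d) : π (val u l) = val (fun k i => π (u k i)) l := by
  unfold val
  rw [map_multiset_prod, Multiset.map_map]
  rfl

end letters

end Groth.Agent.Helper4.NormExpE
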