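import Mathlib

/-!
# The largest submodule with nowhere dense support
-/

set_option autoImplicit false

namespace Groth.Agent.Helper4.NowhereDense

universe u

variable {R : Type u} [CommRing R] (M : Type u) [AddCommGroup M] [Module R M]

/-- The elements of `M` that die in the localization at every minimal prime of the support. -/
def K : Submodule R M where
  carrier := {m | ∀ p ∈ (Module.annihilator R M).minimalPrimes, ∃ s : R, s ∉ p ∧ s • m = 0}
  add_mem' := by
    intro a b ha hb p hp
    obtain ⟨s, hs, hsa⟩ := ha p hp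
    obtain ⟨t, ht, htb⟩ := hb p hp
    have hpr : p.IsPrime := hp.1.1
    refine ⟨s * t, fun h => (hpr.mem_or_mem h).elim hs ht, ?_⟩
    rw [smul_add, mul_smul s t b, htb, smul_zero, add_zero, mul_comm, mul_smul, hsa, smul_zero]
  zero_mem' := fun p hp => ⟨1, (Ideal.ne_top_iff_one p).mp hp.1.1.ne_top, smul_zero _⟩
  smul_mem' := by
    intro c m hm p hp
    obtain ⟨s, hs, h⟩ := hm p hp
    exact ⟨s, hs, by rw [smul_comm, h, smul_zero]⟩

variable {M}

theorem mem_K_iff {m : M} :
    m ∈ K (R := R) M ↔ ∀ p ∈ (Module.annihilator R M).minimalPrimes, ∃ s : R, s ∉ p ∧ s • m = 0 :=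
  Iff.rfl

variable [IsNoetherianRing R] [Module.Finite R M]

variable (M) in
/-- Every point of the support lies above a minimal prime. -/
theorem exists_minimalPrime_le {q : PrimeSpectrum R} (hq : q ∈ Module.support R M) :
    ∃ p ∈ (Module.annihilator R M).minimalPrimes, p ≤ q.asIdeal :=
  Ideal.exists_minimalPrimes_le (Module.annihilator_le_of_mem_support hq)

theorem minimalPrime_mem_support {p : Ideal R} (hp : p ∈ (Module.annihilator R M).minimalPrimes) :
    (⟨p, hp.1.1⟩ : PrimeSpectrum R) ∈ Module.support R M :=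
  Module.mem_support_iff_of_finite.mpr hp.1.2

theorem minimalPrime_notMem_support_K {p : Ideal R}
    (hp : p ∈ (Module.annihilator R M).minimalPrimes) :
    (⟨p, hp.1.1⟩ : PrimeSpectrum R) ∉ Module.support R (K (R := R) M) := by
  rw [Module.notMem_support_iff']
  rintro ⟨m, hm⟩
  obtain ⟨s, hs, hsm⟩ := hm p hp
  exact ⟨s, hs, Subtype.ext hsm⟩

theorem minimalPrimes_eq_of_le {p q : Ideal R} (hp : p ∈ (Module.annihilator R M).minimalPrimes)
    (hq : q ∈ (Module.annihilator R M).minimalPrimes) (h : p ≤ q) : p = q :=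
  le_antisymm h (hq.2 hp.1 h)

/-- `K` has nowhere dense support. -/
theorem K_mem (U : Set (PrimeSpectrum R)) (hU : IsOpen U)
    (hsub : U ∩ Module.support R M ⊆ closure (Module.support R (K (R := R) M))) :
    U ∩ Module.support R M = ∅ := by
  rw [Set.eq_empty_iff_forall_notMem]
  rintro q ⟨hqU, hqM⟩
  obtain ⟨p, hp, hpq⟩ := exists_minimalPrime_le M hqM
  have hspec : (⟨p, hp.1.1⟩ : PrimeSpectrum R) ⤳ q :=
    (PrimeSpectrum.le_iff_specializes _ _).mp hpq
  have hpU : (⟨p, hp.1.1⟩ : PrimeSpectrum R) ∈ U := hspec.mem_open hU hqU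
  have hclosed : IsClosed (Module.support R (K (R := R) M)) := by
    rw [Module.support_eq_zeroLocus]
    exact PrimeSpectrum.isClosed_zeroLocus _
  have := hsub ⟨hpU, minimalPrime_mem_support hp⟩
  rw [hclosed.closure_eq] at this
  exact minimalPrime_notMem_support_K hp this

/-- Any submodule with nowhere dense support is contained in `K`. -/
theorem le_K (K' : Submodule R M)
    (hK' : ∀ U : Set (PrimeSpectrum R), IsOpen U →
      U ∩ Module.support R M ⊆ closure (Module.support R ↥K') → U ∩ Module.support R M = ∅) :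
    K' ≤ K (R := R) M := by
  classical
  intro m hm p hp
  by_contra hcon
  push_neg at hcon
  have hpK' : (⟨p, hp.1.1⟩ : PrimeSpectrum R) ∈ Module.support R ↥K' := by
    rw [Module.mem_support_iff']
    refine ⟨⟨m, hm⟩, fun r hr h0 => hcon r hr ?_⟩
    exact congrArg Subtype.val h0
  have hfin : ((Module.annihilator R M).minimalPrimes).Finite :=
    Ideal.finite_minimalPrimes_of_isNoetherianRing R _
  let U : Set (PrimeSpectrum R) :=
    ⋂ p'' ∈ {p'' | p'' ∈ (Module.annihilator R M).minimalPrimes ∧ p'' ≠ p},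
      (PrimeSpectrum.zeroLocus (p'' : Set R))ᶜ
  have hUopen : IsOpen U := by
    apply Set.Finite.isOpen_biInter (hfin.subset fun x hx => hx.1)
    intro p'' _
    exact (PrimeSpectrum.isClosed_zeroLocus _).isOpen_compl
  have hpU : (⟨p, hp.1.1⟩ : PrimeSpectrum R) ∈ U := by
    simp only [U, Set.mem_iInter, Set.mem_compl_iff, PrimeSpectrum.mem_zeroLocus,
      SetLike.coe_subset_coe]
    rintro p'' ⟨hp'', hne⟩ hle
    exact hne (minimalPrimes_eq_of_le hp'' hp hle)
  have hsub : U ∩ Module.support R M ⊆ closure (Module.support R ↥K') := by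
    rintro q ⟨hqU, hqM⟩
    obtain ⟨p'', hp'', hp''q⟩ := exists_minimalPrime_le M hqM
    have hpp : p'' = p := by
      by_contra hne
      simp only [U, Set.mem_iInter, Set.mem_compl_iff, PrimeSpectrum.mem_zeroLocus,
        SetLike.coe_subset_coe] at hqU
      exact hqU p'' ⟨hp'', hne⟩ hp''q
    subst hpp
    have hspec : (⟨p'', hp.1.1⟩ : PrimeSpectrum R) ⤳ q :=
      (PrimeSpectrum.le_iff_specializes _ _).mp hp''q
    exact closure_mono (Set.singleton_subset_iff.mpr hpK') (specializes_iff_mem_closure.mp hspec)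
  have := hK' U hUopen hsub
  rw [Set.eq_empty_iff_forall_notMem] at this
  exact this _ ⟨hpU, minimalPrime_mem_support hp⟩


/-- The support of `M ⧸ K` is that of `M`. -/
theorem support_quotient_K :
    Module.support R (M ⧸ K (R := R) M) = Module.support R M := by
  apply Set.Subset.antisymm
  · exact Module.support_subset_of_surjective _ (K (R := R) M).mkQ_surjective
  · intro q hq
    obtain ⟨p, hp, hpq⟩ := exists_minimalPrime_le M hq
    refine Module.mem_support_mono (p := ⟨p, hp.1.1⟩) hpq ?_
    by_contra hcon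
    rw [Module.notMem_support_iff'] at hcon
    have hpM := minimalPrime_mem_support hp
    rw [Module.mem_support_iff'] at hpM
    obtain ⟨m, hm⟩ := hpM
    obtain ⟨r, hr, hrm⟩ := hcon (Submodule.Quotient.mk m)
    have hrK : r • m ∈ K (R := R) M := by
      rw [← Submodule.Quotient.mk_smul] at hrm
      exact (Submodule.Quotient.mk_eq_zero _).mp hrm
    obtain ⟨s, hs, hsm⟩ := hrK p hp
    have hpr : p.IsPrime := hp.1.1
    refine hm (s * r) (fun h => (hpr.mem_or_mem h).elim hs hr) ?_
    rw [mul_smul, hsm]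

/-- The associated primes of `M ⧸ K` are minimal primes of the support of `M`. -/
theorem associatedPrimes_quotient_K_subset :
    associatedPrimes R (M ⧸ K (R := R) M) ⊆ (Module.annihilator R M).minimalPrimes := by
  classical
  intro q hq
  rw [AssociatedPrimes.mem_iff, isAssociatedPrime_iff] at hq
  obtain ⟨hqpr, x, hqx⟩ := hq
  obtain ⟨m, rfl⟩ := Submodule.Quotient.mk_surjective _ x
  have hmem : ∀ r : R, r ∈ q ↔ r • m ∈ K (R := R) M := by
    intro r
    rw [hqx, Submodule.mem_colon_singleton, Submodule.mem_bot, ← Submodule.Quotient.mk_smul,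
      Submodule.Quotient.mk_eq_zero]
  have hann : Module.annihilator R M ≤ q := by
    intro r hr
    rw [hmem, Module.mem_annihilator.mp hr m]
    exact zero_mem _
  by_contra hqP
  have hfin : ((Module.annihilator R M).minimalPrimes).Finite :=
    Ideal.finite_minimalPrimes_of_isNoetherianRing R _
  have hnle : ∀ p ∈ (Module.annihilator R M).minimalPrimes, ¬ q ≤ p := by
    intro p hp hqp
    have : p ≤ q := hp.2 ⟨hqpr, hann⟩ hqp
    exact hqP ((le_antisymm hqp this) ▸ hp)
  have havoid : ¬ ((q : Set R) ⊆ ⋃ p ∈ (hfin.toFinset : Set (Ideal R)), (p : Set R)) := by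
    intro hsub
    have := (Ideal.subset_union_prime (s := hfin.toFinset) (f := fun p : Ideal R => p) ⊥ ⊥
      (fun p hp _ _ => ((hfin.mem_toFinset).mp hp).1.1)).mp hsub
    obtain ⟨p, hp, hqp⟩ := this
    exact hnle p ((hfin.mem_toFinset).mp hp) hqp
  rw [Set.not_subset] at havoid
  obtain ⟨s, hsq, hsP⟩ := havoid
  simp only [Set.mem_iUnion, not_exists, Finset.mem_coe, Set.Finite.mem_toFinset,
    SetLike.mem_coe] at hsP
  have hsm : s • m ∈ K (R := R) M := (hmem s).mp hsq
  have hmK : m ∈ K (R := R) M := by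
    intro p hp
    obtain ⟨t, ht, htm⟩ := hsm p hp
    have hpr : p.IsPrime := hp.1.1
    exact ⟨t * s, fun h => (hpr.mem_or_mem h).elim ht (hsP p hp), by rw [mul_smul, htm]⟩
  have h1 : (1 : R) ∈ q := by
    rw [hmem, one_smul]; exact hmK
  exact hqpr.ne_top ((Ideal.eq_top_iff_one q).mpr h1)

/-- If `f` lies in every embedded prime of `M`, every element of `K` is killed by a power of `f`. -/
theorem exists_pow_smul_eq_zero (f : R)
    (hf : ∀ p ∈ associatedPrimes R M, ¬ Minimal (fun x => x ∈ associatedPrimes R M) p → f ∈ p)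
    {k : M} (hk : k ∈ K (R := R) M) : ∃ n : ℕ, f ^ n • k = 0 := by
  classical
  by_contra hcon
  push_neg at hcon
  let 𝒮 : Set (Ideal R) := {I | ∃ y ∈ K (R := R) M, (∀ n : ℕ, f ^ n • y ≠ 0) ∧
    I = (⊥ : Submodule R M).colon {y}}
  have hne : 𝒮.Nonempty := ⟨_, k, hk, hcon, rfl⟩
  obtain ⟨q, ⟨y, hyK, hy, rfl⟩, hmax⟩ := (wellFounded_gt (α := Ideal R)).has_min 𝒮 hne
  have hmem : ∀ (z : M) (r : R), r ∈ (⊥ : Submodule R M).colon {z} ↔ r • z = 0 := by
    intro z r
    rw [Submodule.mem_colon_singleton, Submodule.mem_bot]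
  -- maximality
  have hmax' : ∀ z ∈ K (R := R) M, (∀ n : ℕ, f ^ n • z ≠ 0) →
      (⊥ : Submodule R M).colon {y} ≤ (⊥ : Submodule R M).colon {z} →
      (⊥ : Submodule R M).colon {z} = (⊥ : Submodule R M).colon {y} := by
    intro z hzK hz hle
    by_contra hne
    exact hmax _ ⟨z, hzK, hz, rfl⟩ (lt_of_le_of_ne hle (Ne.symm hne))
  have hpow : ∀ n : ℕ, (⊥ : Submodule R M).colon {f ^ n • y} = (⊥ : Submodule R M).colon {y} := by
    intro n
    apply hmax' _ (Submodule.smul_mem _ _ hyK)
    · intro j
      rw [← mul_smul, ← pow_add]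
      exact hy _
    · intro r hr
      rw [hmem] at hr ⊢
      rw [smul_comm, hr, smul_zero]
  have hprime : ((⊥ : Submodule R M).colon {y}).IsPrime := by
    rw [Ideal.isPrime_iff]
    constructor
    · rw [Ideal.ne_top_iff_one, hmem, one_smul]
      have := hy 0
      rwa [pow_zero, one_smul] at this
    · intro a b hab
      by_contra hcon2
      push_neg at hcon2
      obtain ⟨ha, hb⟩ := hcon2
      rw [hmem] at hab ha hb
      have hby : ∀ n : ℕ, f ^ n • b • y ≠ 0 := by
        intro n h0
        have : b ∈ (⊥ : Submodule R M).colon {f ^ n • y} := by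
          rw [hmem, smul_comm]; exact h0
        rw [hpow n, hmem] at this
        exact hb this
      have h1 := hmax' (b • y) (Submodule.smul_mem _ _ hyK) hby (by
        intro r hr
        rw [hmem] at hr ⊢
        rw [smul_comm, hr, smul_zero])
      have : a ∈ (⊥ : Submodule R M).colon {b • y} := by
        rw [hmem, ← mul_smul]; exact hab
      rw [h1, hmem] at this
      exact ha this
  have hass : (⊥ : Submodule R M).colon {y} ∈ associatedPrimes R M := by
    rw [AssociatedPrimes.mem_iff, isAssociatedPrime_iff]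
    exact ⟨hprime, y, rfl⟩
  have hfq : f ∉ (⊥ : Submodule R M).colon {y} := by
    rw [hmem]
    have := hy 1
    rwa [pow_one] at this
  have hmin : Minimal (fun x => x ∈ associatedPrimes R M) ((⊥ : Submodule R M).colon {y}) := by
    by_contra h
    exact hfq (hf _ hass h)
  have hann : Module.annihilator R M ≤ (⊥ : Submodule R M).colon {y} := by
    intro r hr
    rw [hmem]
    exact Module.mem_annihilator.mp hr y
  obtain ⟨p, hp, hpq⟩ := Ideal.exists_minimalPrimes_le (J := (⊥ : Submodule R M).colon {y}) hann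
  have hpass : p ∈ associatedPrimes R M :=
    Module.associatedPrimes.minimalPrimes_annihilator_subset_associatedPrimes R M hp
  have hqp : (⊥ : Submodule R M).colon {y} ≤ p := hmin.2 hpass hpq
  have hpeq : p = (⊥ : Submodule R M).colon {y} := le_antisymm hpq hqp
  obtain ⟨s, hs, hsy⟩ := hyK p hp
  apply hs
  rw [hpeq, hmem]
  exact hsy

omit [IsNoetherianRing R] [Module.Finite R M] in
theorem mk_eq_zero_iff' {S : Submonoid R} {m : M} {s : S} :
    LocalizedModule.mk m s = 0 ↔ ∃ u : S, u • m = 0 := by
  rw [← LocalizedModule.zero_mk s, LocalizedModule.mk_eq]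
  constructor
  · rintro ⟨u, hu⟩
    refine ⟨u * s, ?_⟩
    rw [mul_smul, hu, smul_zero, smul_zero]
  · rintro ⟨u, hu⟩
    refine ⟨u, ?_⟩
    rw [smul_comm, hu, smul_zero, smul_zero]

/-- If `f` lies in every embedded prime of `M` then `M_f → (M ⧸ K)_f` is bijective. -/
theorem localizedMap_bijective (f : R)
    (hf : ∀ p ∈ associatedPrimes R M, ¬ Minimal (fun x => x ∈ associatedPrimes R M) p → f ∈ p) :
    Function.Bijective (LocalizedModule.map (Submonoid.powers f) (K (R := R) M).mkQ) := by
  constructor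
  · rw [← LinearMap.ker_eq_bot, LinearMap.ker_eq_bot']
    intro x hx
    induction x using LocalizedModule.induction_on with
    | h m s =>
      rw [LocalizedModule.map_mk, mk_eq_zero_iff'] at hx
      obtain ⟨u, hu⟩ := hx
      have huK : (u : R) • m ∈ K (R := R) M := by
        rw [Submonoid.smul_def, ← map_smul] at hu
        exact (Submodule.Quotient.mk_eq_zero _).mp hu
      obtain ⟨n, hn⟩ := exists_pow_smul_eq_zero f hf huK
      rw [mk_eq_zero_iff']
      refine ⟨⟨f ^ n, n, rfl⟩ * u, ?_⟩
      rw [Submonoid.smul_def, Submonoid.coe_mul, mul_smul]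
      exact hn
  · exact LocalizedModule.map_surjective _ _ (K (R := R) M).mkQ_surjective

end Groth.Agent.Helper4.NowhereDense
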