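import Groth.Prelude.Def_AnCl
import Mathlib

/-!
# Continuity of the inclusion of opens into the classical site
-/

set_option autoImplicit false

namespace Groth.Agent.Helper4.OpCont

open CategoryTheory TopologicalSpace Topology Opposite An
universe w u

variable (T : Type u) [TopologicalSpace T]

theorem coverPreserving :
    CoverPreserving (Opens.grothendieckTopology T) (Cl.topology T) (opensToCl T) := by
  refine ⟨fun {U} {S} hS => ?_⟩
  intro a
  obtain ⟨V, f, hSf, haV⟩ := hS a.1 a.2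
  refine ⟨(opensToCl T).obj V, (opensToCl T).map f, ⟨V, f, 𝟙 _, hSf, by simp⟩, ?_, ?_⟩
  · exact IsOpenEmbedding.inclusion f.le (V.2.preimage continuous_subtype_val)
  · exact ⟨⟨a.1, haV⟩, rfl⟩

theorem compatiblePreserving : CompatiblePreserving.{w} (Cl.topology T) (opensToCl T) := by
  refine ⟨fun ℱ {Z} {P} {x} hx {Y₁ Y₂} {X} f₁ f₂ {g₁ g₂} hg₁ hg₂ hcomm => ?_⟩
  have h1 : ∀ e : X.E, X.p e ∈ Y₁ := fun e => by
    have := f₁.over e
    rw [← this]
    exact (f₁.toFun e).2
  have h2 : ∀ e : X.E, X.p e ∈ Y₂ := fun e => by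
    have := f₂.over e
    rw [← this]
    exact (f₂.toFun e).2
  let f : X ⟶ (opensToCl T).obj (Y₁ ⊓ Y₂) :=
    ⟨fun e => ⟨X.p e, h1 e, h2 e⟩, X.lh.continuous.subtype_mk _, fun _ => rfl⟩
  have e1 : f ≫ (opensToCl T).map (homOfLE inf_le_left) = f₁ := by
    apply Cl.hom_ext
    funext e
    apply Subtype.ext
    exact (f₁.over e).symm
  have e2 : f ≫ (opensToCl T).map (homOfLE inf_le_right) = f₂ := by
    apply Cl.hom_ext
    funext e
    apply Subtype.ext
    exact (f₂.over e).symm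
  have hc := hx (homOfLE (inf_le_left : Y₁ ⊓ Y₂ ≤ Y₁)) (homOfLE (inf_le_right : Y₁ ⊓ Y₂ ≤ Y₂))
    hg₁ hg₂ (Subsingleton.elim _ _)
  rw [← e1, ← e2, op_comp, op_comp, ℱ.obj.map_comp, ℱ.obj.map_comp]
  exact congrArg (ℱ.obj.map f.op) hc

theorem isContinuous :
    (opensToCl T).IsContinuous (Opens.grothendieckTopology T) (Cl.topology T) :=
  Functor.isContinuous_of_coverPreserving (compatiblePreserving T) (coverPreserving T)

end Groth.Agent.Helper4.OpCont
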