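import Groth.Prelude.Def_AnCl
import Groth.Agent.Helper4.OpCont
import Mathlib

/-!
# The inclusion of opens into the classical site is a dense subsite
-/

set_option autoImplicit false

namespace Groth.Agent.Helper4.OpDense

open CategoryTheory TopologicalSpace Topology Opposite An
universe w u

variable (T : Type u) [TopologicalSpace T]

instance faithful : (opensToCl T).Faithful where
  map_injective _ := Subsingleton.elim _ _

lemma le_of_hom {U V : Opens T} (f : (opensToCl T).obj U ⟶ (opensToCl T).obj V) : U ≤ V := by
  intro x hx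
  have := f.over ⟨x, hx⟩
  change (f.toFun ⟨x, hx⟩).1 = x at this
  rw [← this]
  exact (f.toFun ⟨x, hx⟩).2

instance full : (opensToCl T).Full where
  map_surjective {U V} f := by
    refine ⟨homOfLE (le_of_hom T f), ?_⟩
    apply Cl.hom_ext
    funext a
    apply Subtype.ext
    exact (f.over a).symm

instance isCoverDense : (opensToCl T).IsCoverDense (Cl.topology T) where
  is_cover A := by
    intro a
    obtain ⟨e, hae, hpe⟩ := A.lh a
    refine ⟨Cl.restrictOpen A e.source e.open_source, Cl.restrictOpenι A e.source e.open_source, ?_,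
      e.open_source.isOpenEmbedding_subtypeVal, ⟨⟨a, hae⟩, rfl⟩⟩
    refine ⟨⟨⟨e.target, e.open_target⟩, ?_, ?_, ?_⟩⟩
    · refine ⟨fun w => ⟨A.p w.1, ?_⟩, ?_, fun _ => rfl⟩
      · rw [hpe]
        exact e.map_source w.2
      · exact (A.lh.continuous.comp continuous_subtype_val).subtype_mk _
    · refine ⟨fun t => e.symm t.1, ?_, fun t => ?_⟩
      · exact e.continuousOn_symm.restrict
      · rw [hpe]
        exact e.right_inv t.2
    · apply Cl.hom_ext
      funext w
      change e.symm (A.p w.1) = w.1
      rw [hpe]
      exact e.left_inv w.2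

theorem mem_of_functorPushforward_mem {U : Opens T} {S : Sieve U}
    (h : S.functorPushforward (opensToCl T) ∈ Cl.topology T ((opensToCl T).obj U)) :
    S ∈ Opens.grothendieckTopology T U := by
  intro x hx
  obtain ⟨B, g, ⟨V, f, k, hSf, hfac⟩, -, b, hb⟩ := h ⟨x, hx⟩
  refine ⟨V, f, hSf, ?_⟩
  have h1 : g.toFun b = ((opensToCl T).map f).toFun (k.toFun b) := by
    rw [hfac]
    rfl
  have h2 : (g.toFun b).1 = x := by rw [hb]
  have h3 : (((opensToCl T).map f).toFun (k.toFun b)).1 = (k.toFun b).1 := rfl
  rw [← h2, h1, h3]
  exact (k.toFun b).2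

instance isDenseSubsite :
    (opensToCl T).IsDenseSubsite (Opens.grothendieckTopology T) (Cl.topology T) where
  functorPushforward_mem_iff :=
    ⟨mem_of_functorPushforward_mem T, fun h => (OpCont.coverPreserving T).cover_preserve h⟩

theorem isEquivalence [OpCont T] : (An.resOpens T).IsEquivalence := by
  unfold An.resOpens
  infer_instance

end Groth.Agent.Helper4.OpDense
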