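import Mathlib

/-!
# An open-mapping dichotomy for complete first-countable nonarchimedean groups
-/

set_option autoImplicit false

namespace Groth.Agent.Helper4.OpenMapNA

open Filter Topology

universe u

variable {N M : Type u} [AddCommGroup N] [AddCommGroup M] [UniformSpace N] [IsUniformAddGroup N]
  [TopologicalSpace M] [IsTopologicalAddGroup M] [T2Space M] [CompleteSpace N]
  [NonarchimedeanAddGroup N]

/-- a countable antitone basis of open subgroups -/
lemma exists_basis [FirstCountableTopology N] :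
    ∃ V : ℕ → OpenAddSubgroup N, Antitone V ∧ ∀ U ∈ 𝓝 (0 : N), ∃ n, (V n : Set N) ⊆ U := by
  obtain ⟨s, hs⟩ := (𝓝 (0 : N)).exists_antitone_basis
  have hW : ∀ n, ∃ W : OpenAddSubgroup N, (W : Set N) ⊆ s n := fun n =>
    NonarchimedeanAddGroup.is_nonarchimedean (s n) (hs.mem n)
  choose W hW using hW
  let V : ℕ → OpenAddSubgroup N := fun n => Nat.rec (W 0) (fun n Vn => Vn ⊓ W (n + 1)) n
  have hV0 : V 0 = W 0 := rfl
  have hVs : ∀ n, V (n + 1) = V n ⊓ W (n + 1) := fun n => rfl
  have hVW : ∀ n, V n ≤ W n := by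
    intro n
    cases n with
    | zero => exact le_of_eq hV0
    | succ n => rw [hVs]; exact inf_le_right
  refine ⟨V, antitone_nat_of_succ_le fun n => ?_, fun U hU => ?_⟩
  · rw [hVs]; exact inf_le_left
  · obtain ⟨n, -, hn⟩ := hs.toHasBasis.mem_iff.mp hU
    exact ⟨n, fun x hx => hn (hW n (hVW n hx))⟩

lemma core (u : N →+ M) (hu : Continuous u) (V : ℕ → OpenAddSubgroup N) (hanti : Antitone V)
    (hbasis : ∀ U ∈ 𝓝 (0 : N), ∃ n, (V n : Set N) ⊆ U)
    (hopen : ∀ n, IsOpen (closure (u '' (V n : Set N)))) :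
    closure (u '' (V 0 : Set N)) ⊆ u '' (V 0 : Set N) := by
  intro y hy
  have step : ∀ n, ∀ y' ∈ closure (u '' (V n : Set N)),
      ∃ x ∈ V n, y' - u x ∈ closure (u '' (V (n + 1) : Set N)) := by
    intro n y' hy'
    have hopen' : IsOpen {z | y' - z ∈ closure (u '' (V (n + 1) : Set N))} :=
      (hopen (n + 1)).preimage (continuous_const.sub continuous_id)
    have hmem : y' ∈ {z | y' - z ∈ closure (u '' (V (n + 1) : Set N))} := by
      simp only [Set.mem_setOf_eq, sub_self]
      exact subset_closure ⟨0, (V (n + 1)).zero_mem, map_zero u⟩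
    obtain ⟨z, hz1, ⟨x, hx, rfl⟩⟩ := mem_closure_iff.mp hy' _ hopen' hmem
    exact ⟨x, hx, hz1⟩
  choose! next hnext1 hnext2 using step
  let ys : ℕ → M := fun n => Nat.rec y (fun n yn => yn - u (next n yn)) n
  have hys0 : ys 0 = y := rfl
  have hyss : ∀ n, ys (n + 1) = ys n - u (next n (ys n)) := fun n => rfl
  have hysmem : ∀ n, ys n ∈ closure (u '' (V n : Set N)) := by
    intro n
    induction n with
    | zero => exact hy
    | succ n ih => rw [hyss]; exact hnext2 n _ ih
  let xs : ℕ → N := fun n => next n (ys n)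
  have hxs : ∀ n, xs n ∈ V n := fun n => hnext1 n _ (hysmem n)
  let S : ℕ → N := fun n => ∑ i ∈ Finset.range n, xs i
  have hSs : ∀ n, S (n + 1) = S n + xs n := fun n => Finset.sum_range_succ _ _
  have hS : ∀ n, y - u (S n) = ys n := by
    intro n
    induction n with
    | zero => simp [S, hys0]
    | succ n ih =>
      have e1 : ys (n + 1) = ys n - u (xs n) := rfl
      rw [e1, ← ih, hSs, map_add]
      abel
  have hxs0 : Tendsto xs atTop (𝓝 0) := by
    rw [tendsto_def]
    intro U hU
    obtain ⟨n₀, hn₀⟩ := hbasis U hU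
    filter_upwards [Filter.eventually_ge_atTop n₀] with n hn
    exact hn₀ (hanti hn (hxs n))
  have hcauchy : CauchySeq S := by
    apply NonarchimedeanAddGroup.cauchySeq_of_tendsto_sub_nhds_zero
    have : (fun n => S (n + 1) - S n) = xs := by
      funext n; rw [hSs]; abel
    rw [this]
    exact hxs0
  obtain ⟨x, hx⟩ := cauchySeq_tendsto_of_complete hcauchy
  have hxV : x ∈ (V 0 : Set N) := by
    refine (V 0).isClosed.mem_of_tendsto hx (Filter.Eventually.of_forall fun n => ?_)
    exact (V 0).toAddSubgroup.sum_mem (fun i _ => hanti (Nat.zero_le i) (hxs i))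
  have hys0' : Tendsto ys atTop (𝓝 0) := by
    rw [tendsto_def]
    intro W hW
    obtain ⟨W', hW', hW'c, hW'W⟩ := exists_mem_nhds_isClosed_subset hW
    have hpre : u ⁻¹' W' ∈ 𝓝 (0 : N) :=
      hu.continuousAt.preimage_mem_nhds (by rwa [map_zero])
    obtain ⟨n₀, hn₀⟩ := hbasis _ hpre
    filter_upwards [Filter.eventually_ge_atTop n₀] with n hn
    apply hW'W
    have hsub : u '' (V n : Set N) ⊆ W' := by
      rintro _ ⟨v, hv, rfl⟩
      exact hn₀ (hanti hn hv)
    exact (closure_minimal hsub hW'c) (hysmem n)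
  have h1 : Tendsto (fun n => u (S n)) atTop (𝓝 y) := by
    have : (fun n => u (S n)) = fun n => y - ys n := by
      funext n; rw [← hS]; abel
    rw [this]
    simpa using (tendsto_const_nhds (x := y)).sub hys0'
  have h2 : Tendsto (fun n => u (S n)) atTop (𝓝 (u x)) := (hu.tendsto x).comp hx
  exact ⟨x, hxV, tendsto_nhds_unique h2 h1⟩

theorem main [FirstCountableTopology N] (u : N →+ M) (hu : Continuous u) :
    Xor (IsOpenMap u) (∃ V : OpenAddSubgroup N, IsNowhereDense (u '' (V : Set N))) := by
  by_cases h : ∃ V : OpenAddSubgroup N, IsNowhereDense (u '' (V : Set N))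
  · right
    refine ⟨h, fun hopen => ?_⟩
    obtain ⟨V, hV⟩ := h
    have h1 : IsOpen (u '' (V : Set N)) := hopen _ V.isOpen
    have h2 : (0 : M) ∈ interior (closure (u '' (V : Set N))) :=
      interior_mono subset_closure (by
        rw [h1.interior_eq]; exact ⟨0, V.zero_mem, map_zero u⟩)
    rw [IsNowhereDense] at hV
    rw [hV] at h2
    exact h2
  · left
    refine ⟨?_, h⟩
    push Not at h
    -- closures of images of open subgroups are open
    have hcl : ∀ V : OpenAddSubgroup N, IsOpen (closure (u '' (V : Set N))) := by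
      intro V
      have hne : (interior (closure (u '' (V : Set N)))).Nonempty := by
        rw [Set.nonempty_iff_ne_empty]
        exact h V
      obtain ⟨g, hg⟩ := hne
      have : (((V : AddSubgroup N).map u).topologicalClosure : Set M) =
          closure (u '' (V : Set N)) := by
        rw [AddSubgroup.topologicalClosure_coe]
        rfl
      rw [← this]
      apply AddSubgroup.isOpen_of_mem_nhds _ (g := g)
      rw [this]
      exact mem_interior_iff_mem_nhds.mp hg
    obtain ⟨V, hVanti, hVbasis⟩ := exists_basis (N := N)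
    have himg : ∀ V₀ : OpenAddSubgroup N, u '' (V₀ : Set N) ∈ 𝓝 (0 : M) := by
      intro V₀
      have hsub := core u hu (fun n => V₀ ⊓ V n) (fun a b hab => inf_le_inf_left _ (hVanti hab))
        (fun U hU => by
          obtain ⟨n, hn⟩ := hVbasis U hU
          exact ⟨n, fun x hx => hn hx.2⟩)
        (fun n => hcl _)
      have h0 : (0 : M) ∈ closure (u '' ((V₀ ⊓ V 0 : OpenAddSubgroup N) : Set N)) :=
        subset_closure ⟨0, (V₀ ⊓ V 0).zero_mem, map_zero u⟩
      have hnhds : closure (u '' ((V₀ ⊓ V 0 : OpenAddSubgroup N) : Set N)) ∈ 𝓝 (0 : M) :=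
        (hcl _).mem_nhds h0
      refine Filter.mem_of_superset hnhds (hsub.trans ?_)
      exact Set.image_mono (fun x hx => hx.1)
    rw [isOpenMap_iff_nhds_le]
    intro x
    rw [Filter.le_map_iff]
    intro S hS
    have hS' : (fun z => x + z) ⁻¹' S ∈ 𝓝 (0 : N) := by
      apply (continuous_const.add continuous_id).continuousAt.preimage_mem_nhds
      simpa using hS
    obtain ⟨V₀, hV₀⟩ := NonarchimedeanAddGroup.is_nonarchimedean _ hS'
    have h3 : (fun y => u x + y) '' (u '' (V₀ : Set N)) ∈ 𝓝 (u x) := by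
      have := (Homeomorph.addLeft (u x)).isOpenMap.image_mem_nhds (himg V₀)
      simpa using this
    refine Filter.mem_of_superset h3 ?_
    rintro _ ⟨_, ⟨v, hv, rfl⟩, rfl⟩
    exact ⟨x + v, hV₀ hv, map_add u x v⟩

end Groth.Agent.Helper4.OpenMapNA
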