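import Mathlib

/-!
# Criteria for `Proj.map` to be bijective / an isomorphism
-/

set_option autoImplicit false

namespace Groth.Agent.Helper4.ProjIso

open HomogeneousIdeal HomogeneousLocalization CategoryTheory AlgebraicGeometry

universe u

section points

variable {A B σ τ : Type*} [CommRing A] [SetLike σ A] [AddSubgroupClass σ A]
  [CommRing B] [SetLike τ B] [AddSubgroupClass τ B]
  {𝒜 : ℕ → σ} {ℬ : ℕ → τ} [GradedRing 𝒜] [GradedRing ℬ]
  (f : 𝒜 →+*ᵍ ℬ) (hf : ℬ₊ ≤ 𝒜₊.map f)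

theorem irrelevant_le_comap : 𝒜₊ ≤ ℬ₊.comap f := by
  intro a ha
  show f a ∈ ℬ₊
  rw [HomogeneousIdeal.mem_irrelevant_iff, GradedRing.proj_apply] at ha ⊢
  rw [← f.map_directSumDecompose, ha, map_zero]

theorem comap_injective (hs : Function.Surjective f) :
    Function.Injective (ProjectiveSpectrum.comap f hf) := by
  intro p q hpq
  have h1 : p.asHomogeneousIdeal.comap f = q.asHomogeneousIdeal.comap f :=
    congrArg ProjectiveSpectrum.asHomogeneousIdeal hpq
  have h2 : ∀ b : B, b ∈ p.asHomogeneousIdeal.toIdeal ↔ b ∈ q.asHomogeneousIdeal.toIdeal := by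
    intro b
    obtain ⟨a, rfl⟩ := hs b
    have : a ∈ p.asHomogeneousIdeal.comap f ↔ a ∈ q.asHomogeneousIdeal.comap f := by rw [h1]
    exact this
  cases p; cases q
  congr
  exact HomogeneousIdeal.toIdeal_injective (Ideal.ext h2)

theorem comap_surjective (hs : Function.Surjective f) (hnil : ∀ x : A, f x = 0 → IsNilpotent x) :
    Function.Surjective (ProjectiveSpectrum.comap f hf) := by
  intro q
  have hker : RingHom.ker f.toRingHom ≤ q.asHomogeneousIdeal.toIdeal := by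
    intro x hx
    exact nilradical_le_prime _ (mem_nilradical.mpr (hnil x hx))
  have hcm : (q.asHomogeneousIdeal.toIdeal.map f.toRingHom).comap f.toRingHom =
      q.asHomogeneousIdeal.toIdeal := by
    rw [Ideal.comap_map_of_surjective f.toRingHom hs, sup_eq_left]
    exact hker
  have hprime : (q.asHomogeneousIdeal.map f).toIdeal.IsPrime :=
    Ideal.map_isPrime_of_surjective (f := f.toRingHom) hs hker
  refine ⟨⟨q.asHomogeneousIdeal.map f, hprime, fun hle => q.not_irrelevant_le ?_⟩, ?_⟩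
  · intro a ha
    have h1 : f a ∈ (q.asHomogeneousIdeal.map f) := hle (irrelevant_le_comap f ha)
    have h2 : a ∈ (q.asHomogeneousIdeal.toIdeal.map f.toRingHom).comap f.toRingHom := h1
    rw [hcm] at h2
    exact h2
  · have : (q.asHomogeneousIdeal.map f).comap f = q.asHomogeneousIdeal :=
      HomogeneousIdeal.toIdeal_injective hcm
    obtain ⟨q1, q2, q3⟩ := q
    show (⟨_, _, _⟩ : ProjectiveSpectrum 𝒜) = _
    congr

theorem comap_bijective (hs : Function.Surjective f)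
    (hnil : ∀ x : A, f x = 0 → IsNilpotent x) :
    Function.Bijective (ProjectiveSpectrum.comap f hf) :=
  ⟨comap_injective f hf hs, comap_surjective f hf hs hnil⟩

end points

section away

variable {A B σ τ : Type*} [CommRing A] [SetLike σ A] [AddSubgroupClass σ A]
  [CommRing B] [SetLike τ B] [AddSubgroupClass τ B]
  {𝒜 : ℕ → σ} {ℬ : ℕ → τ} [GradedRing 𝒜] [GradedRing ℬ]
  (f : 𝒜 →+*ᵍ ℬ)

theorem away_map_injective (n₀ : ℕ)
    (hi : ∀ n, n₀ ≤ n → ∀ x ∈ 𝒜 n, f x = 0 → x = 0)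
    {d : ℕ} (hd : 0 < d) {s : A} (hs : s ∈ 𝒜 d) :
    Function.Injective (Away.map f s) := by
  rw [injective_iff_map_eq_zero]
  intro x hx
  obtain ⟨n, a, ha, rfl⟩ := Away.mk_surjective 𝒜 hs x
  rw [Away.map_mk f s hs, HomogeneousLocalization.ext_iff_val, Away.val_mk,
    HomogeneousLocalization.val_zero, Localization.mk_eq_mk', IsLocalization.mk'_eq_zero_iff] at hx
  obtain ⟨⟨_, k, rfl⟩, hk⟩ := hx
  have hk' : f s ^ k * f a = 0 := hk
  have hmem : s ^ (k + n₀) * a ∈ 𝒜 ((k + n₀) • d + n • d) :=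
    SetLike.mul_mem_graded (SetLike.pow_mem_graded _ hs) ha
  have hzero : s ^ (k + n₀) * a = 0 := by
    refine hi _ ?_ _ hmem ?_
    · simp only [smul_eq_mul]
      nlinarith
    · rw [map_mul, map_pow, pow_add, mul_assoc, mul_comm (f s ^ n₀), ← mul_assoc, hk', zero_mul]
  rw [HomogeneousLocalization.ext_iff_val, Away.val_mk,
    HomogeneousLocalization.val_zero, Localization.mk_eq_mk', IsLocalization.mk'_eq_zero_iff]
  exact ⟨⟨_, k + n₀, rfl⟩, hzero⟩

theorem away_map_surjective (n₀ : ℕ)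
    (hsurj : ∀ n, n₀ ≤ n → ∀ y ∈ ℬ n, ∃ x ∈ 𝒜 n, f x = y)
    {d : ℕ} (hd : 0 < d) {s : A} (hs : s ∈ 𝒜 d) :
    Function.Surjective (Away.map f s) := by
  intro y
  obtain ⟨n, b, hb, rfl⟩ := Away.mk_surjective ℬ (f.map_mem hs) y
  have hmem : b * f s ^ n₀ ∈ ℬ (n • d + n₀ • d) :=
    SetLike.mul_mem_graded hb (SetLike.pow_mem_graded _ (f.map_mem hs))
  obtain ⟨a, ha, hab⟩ := hsurj _ (by simp only [smul_eq_mul]; nlinarith) _ hmem
  have ha' : a ∈ 𝒜 ((n + n₀) • d) := by rwa [add_smul]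
  refine ⟨Away.mk 𝒜 hs (n + n₀) a ha', ?_⟩
  rw [Away.map_mk f s hs, HomogeneousLocalization.ext_iff_val, Away.val_mk, Away.val_mk,
    Localization.mk_eq_mk_iff, Localization.r_iff_exists]
  refine ⟨1, ?_⟩
  simp only [OneMemClass.coe_one, one_mul]
  rw [hab]
  simp only [GradedRingHom.coe_toRingHom, pow_add]
  ring

theorem away_map_bijective (n₀ : ℕ)
    (hsurj : ∀ n, n₀ ≤ n → ∀ y ∈ ℬ n, ∃ x ∈ 𝒜 n, f x = y)
    (hi : ∀ n, n₀ ≤ n → ∀ x ∈ 𝒜 n, f x = 0 → x = 0)
    {d : ℕ} (hd : 0 < d) {s : A} (hs : s ∈ 𝒜 d) :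
    Function.Bijective (Away.map f s) :=
  ⟨away_map_injective f n₀ hi hd hs, away_map_surjective f n₀ hsurj hd hs⟩

end away

section iso

variable {A B σ τ : Type u} [CommRing A] [SetLike σ A] [AddSubgroupClass σ A]
  [CommRing B] [SetLike τ B] [AddSubgroupClass τ B]
  {𝒜 : ℕ → σ} {ℬ : ℕ → τ} [GradedRing 𝒜] [GradedRing ℬ]
  (f : 𝒜 →+*ᵍ ℬ) (hf : ℬ₊ ≤ 𝒜₊.map f)

theorem isPullback_awayι {d : ℕ} (hd : 0 < d) (s : A) (hs : s ∈ 𝒜 d) :
    IsPullback (Spec.map (CommRingCat.ofHom (Away.map f s)))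
      (Proj.awayι ℬ (f s) (f.map_mem hs) hd) (Proj.awayι 𝒜 s hs hd) (Proj.map f hf) := by
  refine IsOpenImmersion.isPullback _ _ _ _ (Proj.awayι_comp_map f hf hd s hs) ?_
  rw [Proj.opensRange_awayι, Proj.opensRange_awayι, Proj.map_preimage_basicOpen]

theorem isIso_pullback_snd {d : ℕ} (hd : 0 < d) (s : A) (hs : s ∈ 𝒜 d)
    (h : Function.Bijective (Away.map f s)) :
    IsIso (Limits.pullback.snd (Proj.map f hf) (Proj.awayι 𝒜 s hs hd)) := by
  have sq := (isPullback_awayι f hf hd s hs).flip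
  have hiso : IsIso (Spec.map (CommRingCat.ofHom (Away.map f s))) := by
    have : IsIso (CommRingCat.ofHom (Away.map f s)) :=
      (ConcreteCategory.isIso_iff_bijective _).mpr h
    infer_instance
  have e : sq.isoPullback.hom ≫ Limits.pullback.snd _ _ = _ := sq.isoPullback_hom_snd
  have e' : Limits.pullback.snd (Proj.map f hf) (Proj.awayι 𝒜 s hs hd) =
      sq.isoPullback.inv ≫ Spec.map (CommRingCat.ofHom (Away.map f s)) := by
    rw [Iso.eq_inv_comp]
    exact e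
  rw [e']
  infer_instance

theorem isIso_map_of_away_bijective
    (h : ∀ (d : ℕ) (_ : 0 < d) (s : A) (_ : s ∈ 𝒜 d), Function.Bijective (Away.map f s)) :
    IsIso (Proj.map f hf) := by
  have : (MorphismProperty.isomorphisms Scheme) (Proj.map f hf) := by
    refine IsZariskiLocalAtTarget.of_openCover (P := MorphismProperty.isomorphisms Scheme)
      (Proj.affineOpenCover 𝒜).openCover ?_
    intro i
    let j : Σ i : ℕ+, 𝒜 i := i
    exact isIso_pullback_snd f hf j.1.2 j.2.1 j.2.2 (h _ j.1.2 _ j.2.2)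
  exact this

theorem isIso_map (n₀ : ℕ)
    (hsurj : ∀ n, n₀ ≤ n → ∀ y ∈ ℬ n, ∃ x ∈ 𝒜 n, f x = y)
    (hi : ∀ n, n₀ ≤ n → ∀ x ∈ 𝒜 n, f x = 0 → x = 0) :
    IsIso (Proj.map f hf) :=
  isIso_map_of_away_bijective f hf fun _ hd _ hs => away_map_bijective f n₀ hsurj hi hd hs

end iso

end Groth.Agent.Helper4.ProjIso
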