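import Mathlib
import Groth.Prelude.Def_PCone
import Groth.Agent.Helper4.ProjIso

/-!
# The morphism `r_ψ : U(ψ) → Proj A` for a graded hom bijective in high degrees
-/

set_option autoImplicit false

namespace Groth.Agent.Helper4.PConeIso

open HomogeneousIdeal HomogeneousLocalization CategoryTheory AlgebraicGeometry TopologicalSpace

universe u

variable {R A : Type u} [CommRing R] [CommRing A] [Algebra R A] {𝒜 : ℕ → Submodule R A}
  [GradedAlgebra 𝒜] {B : Type u} [CommRing B] [Algebra R B] {ℬ : ℕ → Submodule R B}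
  [GradedAlgebra ℬ] (ψ : 𝒜 →+*ᵍ ℬ)

theorem dom_eq_top (d₀ : ℕ) (hsurj : ∀ d, d₀ ≤ d → ∀ y ∈ ℬ d, ∃ x ∈ 𝒜 d, ψ x = y) :
    PCone.dom ψ = ⊤ := by
  rw [_root_.eq_top_iff]
  intro x _
  have hx := (Proj.affineOpenCover ℬ).covers x
  set i := (Proj.affineOpenCover ℬ).idx x with hi
  let j : Σ i : ℕ+, ℬ i := i
  have hx' : x ∈ (Proj.awayι ℬ j.2.1 j.2.2 j.1.2).opensRange := hx
  rw [Proj.opensRange_awayι] at hx'
  have hmem : (j.2.1 : B) ^ (d₀ + 1) ∈ ℬ ((d₀ + 1) • (j.1 : ℕ)) :=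
    SetLike.pow_mem_graded _ j.2.2
  have hpos : 0 < (j.1 : ℕ) := j.1.2
  obtain ⟨a, ha, hab⟩ := hsurj _ (by simp only [smul_eq_mul]; nlinarith) _ hmem
  refine Opens.mem_iSup.mpr ⟨⟨a, _, ?_, ha⟩, ?_⟩
  · simp only [smul_eq_mul]; positivity
  · show x ∈ Proj.basicOpen ℬ (ψ a)
    rw [hab, Proj.basicOpen_pow _ _ _ (Nat.succ_pos _)]
    exact hx'

variable {ψ}

theorem chart_ι {d : ℕ} {f : A} (hf : f ∈ 𝒜 d) (hd : 0 < d) :
    PCone.chart ψ hf hd ≫ (PCone.dom ψ).ι = Proj.awayι ℬ (ψ f) (ψ.2 hf) hd :=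
  IsOpenImmersion.lift_fac _ _ _

instance {d : ℕ} {f : A} (hf : f ∈ 𝒜 d) (hd : 0 < d) : IsOpenImmersion (PCone.chart ψ hf hd) := by
  have : IsOpenImmersion (PCone.chart ψ hf hd ≫ (PCone.dom ψ).ι) := by
    rw [chart_ι]; infer_instance
  exact IsOpenImmersion.of_comp _ (PCone.dom ψ).ι

theorem mem_range_chart_iff {d : ℕ} {f : A} (hf : f ∈ 𝒜 d) (hd : 0 < d)
    (x : (PCone.dom ψ : Scheme.{u})) :
    x ∈ Set.range (PCone.chart ψ hf hd).base ↔
      (PCone.dom ψ).ι.base x ∈ Proj.basicOpen ℬ (ψ f) := by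
  rw [← Proj.opensRange_awayι ℬ (ψ f) (ψ.2 hf) hd]
  constructor
  · rintro ⟨y, rfl⟩
    refine ⟨y, ?_⟩
    rw [← chart_ι hf hd]
    rfl
  · rintro ⟨y, hy⟩
    refine ⟨y, ?_⟩
    apply (PCone.dom ψ).ι.isOpenEmbedding.injective
    rw [← hy, ← chart_ι hf hd]
    rfl

theorem map_isLocalizationElem {d e : ℕ} {f s : A} (hf : f ∈ 𝒜 d) (hs : s ∈ 𝒜 e) :
    Away.map ψ f (Away.isLocalizationElem hf hs) =
      Away.isLocalizationElem (𝒜 := ℬ) (ψ.2 hf) (ψ.2 hs) := by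
  rw [Away.isLocalizationElem, Away.map_mk ψ f hf, HomogeneousLocalization.ext_iff_val,
    Away.val_mk, Away.val_mk]
  simp

theorem preimage_opensRange (r : (PCone.dom ψ : Scheme.{u}) ⟶ Proj 𝒜)
    (hr : ∀ (d : ℕ) (f : A) (hd : 0 < d) (hf : f ∈ 𝒜 d),
      PCone.chart ψ hf hd ≫ r =
        Spec.map (CommRingCat.ofHom (HomogeneousLocalization.Away.map ψ f)) ≫ Proj.awayι 𝒜 f hf hd)
    {e : ℕ} {s : A} (hs : s ∈ 𝒜 e) (he : 0 < e) :
    r ⁻¹ᵁ (Proj.awayι 𝒜 s hs he).opensRange = (PCone.chart ψ hs he).opensRange := by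
  ext x
  simp only [Opens.map_coe, Set.mem_preimage, SetLike.mem_coe]
  constructor
  · intro hx
    rw [Proj.opensRange_awayι] at hx
    -- x lies in some chart
    have hxd : (PCone.dom ψ).ι.base x ∈ PCone.dom ψ := by
      have := (PCone.dom ψ).ι.opensRange
      have h2 : (PCone.dom ψ).ι.base x ∈ (PCone.dom ψ).ι.opensRange := ⟨x, rfl⟩
      rwa [Scheme.Opens.opensRange_ι] at h2
    obtain ⟨⟨f, d, hd, hf⟩, hxf⟩ := Opens.mem_iSup.mp hxd
    obtain ⟨y, rfl⟩ := (mem_range_chart_iff hf hd x).mpr hxf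
    have h1 : r.base ((PCone.chart ψ hf hd).base y) =
        (Proj.awayι 𝒜 f hf hd).base
          ((Spec.map (CommRingCat.ofHom (HomogeneousLocalization.Away.map ψ f))).base y) := by
      rw [← Scheme.Hom.comp_apply, hr d f hd hf, Scheme.Hom.comp_apply]
    rw [h1] at hx
    have h2 : (Spec.map (CommRingCat.ofHom (HomogeneousLocalization.Away.map ψ f))).base y ∈
        (Proj.awayι 𝒜 f hf hd ⁻¹ᵁ Proj.basicOpen 𝒜 s) := hx
    rw [Proj.awayι_preimage_basicOpen 𝒜 hf hd hs he] at h2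
    have h3 : y ∈ PrimeSpectrum.basicOpen (Away.map ψ f (Away.isLocalizationElem hf hs)) := h2
    rw [map_isLocalizationElem hf hs,
      ← Proj.awayι_preimage_basicOpen ℬ (ψ.2 hf) hd (ψ.2 hs) he] at h3
    have h4 : (Proj.awayι ℬ (ψ f) (ψ.2 hf) hd).base y ∈ Proj.basicOpen ℬ (ψ s) := h3
    show (PCone.chart ψ hf hd).base y ∈ Set.range (PCone.chart ψ hs he).base
    rw [mem_range_chart_iff hs he]
    rw [← chart_ι hf hd] at h4
    exact h4
  · rintro ⟨y, rfl⟩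
    refine ⟨(Spec.map (CommRingCat.ofHom (HomogeneousLocalization.Away.map ψ s))).base y, ?_⟩
    rw [← Scheme.Hom.comp_apply, ← hr e s he hs, Scheme.Hom.comp_apply]

theorem isIso_of_charts (r : (PCone.dom ψ : Scheme.{u}) ⟶ Proj 𝒜)
    (hr : ∀ (d : ℕ) (f : A) (hd : 0 < d) (hf : f ∈ 𝒜 d),
      PCone.chart ψ hf hd ≫ r =
        Spec.map (CommRingCat.ofHom (HomogeneousLocalization.Away.map ψ f)) ≫ Proj.awayι 𝒜 f hf hd)
    (h : ∀ (d : ℕ) (_ : 0 < d) (s : A) (_ : s ∈ 𝒜 d), Function.Bijective (Away.map ψ s)) :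
    IsIso r := by
  have : (MorphismProperty.isomorphisms Scheme) r := by
    refine IsZariskiLocalAtTarget.of_openCover (P := MorphismProperty.isomorphisms Scheme)
      (Proj.affineOpenCover 𝒜).openCover ?_
    intro i
    let j : Σ i : ℕ+, 𝒜 i := i
    have sq : IsPullback (Spec.map (CommRingCat.ofHom (Away.map ψ j.2.1)))
        (PCone.chart ψ j.2.2 j.1.2) (Proj.awayι 𝒜 j.2.1 j.2.2 j.1.2) r :=
      IsOpenImmersion.isPullback _ _ _ _ (hr _ _ j.1.2 j.2.2) (preimage_opensRange r hr j.2.2 j.1.2)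
    have sq' := sq.flip
    have hiso : IsIso (Spec.map (CommRingCat.ofHom (Away.map ψ j.2.1))) := by
      have : IsIso (CommRingCat.ofHom (Away.map ψ j.2.1)) :=
        (ConcreteCategory.isIso_iff_bijective _).mpr (h _ j.1.2 _ j.2.2)
      infer_instance
    have e : sq'.isoPullback.hom ≫ Limits.pullback.snd _ _ = _ := sq'.isoPullback_hom_snd
    have e' : Limits.pullback.snd r (Proj.awayι 𝒜 j.2.1 j.2.2 j.1.2) =
        sq'.isoPullback.inv ≫ Spec.map (CommRingCat.ofHom (Away.map ψ j.2.1)) := by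
      rw [Iso.eq_inv_comp]
      exact e
    show IsIso (Limits.pullback.snd r (Proj.awayι 𝒜 j.2.1 j.2.2 j.1.2))
    rw [e']
    infer_instance
  exact this

end Groth.Agent.Helper4.PConeIso
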