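import Mathlib
import Groth.Prelude.Def_CxOX
import Groth.Agent.Helper9.Lpull5
import Groth.Agent.Lead.PerfLib7
import Groth.Agent.Lead.LocLift3

/-! Transport of strictly perfect local representatives along `V' ≅ j(V')`. -/

set_option autoImplicit false
universe u

open CategoryTheory CategoryTheory.Limits AlgebraicGeometry Opposite
attribute [local instance] HasDerivedCategory.standard

namespace Groth.Agent.Helper4.PerfImage

open Groth.Agent.Helper9.Lpull5

/-- restriction of complexes along a composite of open immersions -/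
noncomputable def rCxCompIso {X Y Z : Scheme.{u}} (a : Z ⟶ Y) (b : Y ⟶ X) (c : Z ⟶ X)
    [IsOpenImmersion a] [IsOpenImmersion b] [IsOpenImmersion c] (h : c = a ≫ b)
    (F : CochainComplex X.Modules ℤ) :
    (rCx c).obj F ≅ (rCx a).obj ((rCx b).obj F) :=
  HomologicalComplex.Hom.isoOfComponents
    (fun i => (Scheme.Modules.restrictFunctorCongr h ≪≫
      Scheme.Modules.restrictFunctorComp a b).app (F.X i))
    (fun i k _ => ((Scheme.Modules.restrictFunctorCongr h ≪≫
      Scheme.Modules.restrictFunctorComp a b).hom.naturality (F.d i k)).symm)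

theorem isStrictlyPerfect_restrict {Y Z : Scheme.{u}} (a : Z ⟶ Y) [IsOpenImmersion a]
    (E : CochainComplex Y.Modules ℤ) (hE : DCoh.IsStrictlyPerfect E) :
    DCoh.IsStrictlyPerfect ((rCx a).obj E) := by
  obtain ⟨⟨m, n, hmn⟩, hfl⟩ := hE
  exact ⟨⟨m, n, fun i hi => Functor.map_isZero (Scheme.Modules.restrictFunctor a) (hmn i hi)⟩,
    fun i => Groth.Agent.Lead.LocLift.isFinLocFree_restrict (hfl i) a⟩

theorem isStrictlyPerfect_zero {Y : Scheme.{u}} (E : CochainComplex Y.Modules ℤ)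
    (hE : IsZero E) : DCoh.IsStrictlyPerfect E := by
  have h : ∀ i, IsZero (E.X i) := fun i =>
    Functor.map_isZero (HomologicalComplex.eval Y.Modules (ComplexShape.up ℤ) i) hE
  exact ⟨⟨0, 0, fun i _ => h i⟩,
    fun i => Groth.Agent.Lead.PerfLib.isFinLocFree_of_isZero (h i)⟩

theorem exists_strictlyPerfect_image {X : Scheme.{u}} (U : X.Opens)
    (V' : (U : Scheme.{u}).Opens) (F : CochainComplex X.Modules ℤ)
    (E' : CochainComplex (V' : Scheme.{u}).Modules ℤ) (hE' : DCoh.IsStrictlyPerfect E')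
    (e : DerivedCategory.Q.obj ((DCoh.restrictCx V').obj ((DCoh.restrictCx U).obj F)) ≅
      DerivedCategory.Q.obj E') :
    ∃ E'' : CochainComplex ((U.ι ''ᵁ V' : X.Opens) : Scheme.{u}).Modules ℤ,
      DCoh.IsStrictlyPerfect E'' ∧
      Nonempty (DerivedCategory.Q.obj ((DCoh.restrictCx (U.ι ''ᵁ V')).obj F) ≅
        DerivedCategory.Q.obj E'') := by
  let φ := U.ι.isoImage V'
  have h1 : (U.ι ''ᵁ V').ι = φ.inv ≫ (V'.ι ≫ U.ι) := (U.ι.isoImage_inv_ι V').symm
  refine ⟨(rCx φ.inv).obj E', isStrictlyPerfect_restrict φ.inv E' hE', ⟨?_⟩⟩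
  let i1 := rCxCompIso φ.inv (V'.ι ≫ U.ι) (U.ι ''ᵁ V').ι h1 F
  let i2 := (rCx φ.inv).mapIso (rCxCompIso V'.ι U.ι (V'.ι ≫ U.ι) rfl F)
  exact DerivedCategory.Q.mapIso (i1 ≪≫ i2) ≪≫ qRestrIso φ.inv e

end Groth.Agent.Helper4.PerfImage
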