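import Mathlib
import Groth.Agent.Helper4.RpushCl

/-! Comparison between the bounded below right derived functor `Ψ.rightDerivedFunctorPlus` and a total
right derived functor on the unbounded derived category. -/

set_option autoImplicit false
universe w w' v v' u u'

open CategoryTheory CategoryTheory.Limits

namespace Groth.Agent.Helper4.PlusCmp

variable {B : Type u'} [Category.{v'} B] [Abelian B] [IsGrothendieckAbelian.{v'} B]
  [HasDerivedCategory.{w'} B]
  {C : Type u} [Category.{v} C] [Abelian C] [HasDerivedCategory.{w} C]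
  (Ψ : B ⥤ C) [Ψ.Additive]
  (RG : DerivedCategory B ⥤ DerivedCategory C)
  (β : Ψ.mapHomotopyCategory (ComplexShape.up ℤ) ⋙ DerivedCategory.Qh ⟶ DerivedCategory.Qh ⋙ RG)
  [RG.IsRightDerivedFunctor β (HomotopyCategory.quasiIso B (ComplexShape.up ℤ))]
  [EnoughInjectives B]

include β in
theorem nonempty_iso (E : DerivedCategory.Plus B) :
    Nonempty ((Ψ.rightDerivedFunctorPlus.obj E).obj ≅ RG.obj E.obj) := by
  obtain ⟨n, hn⟩ := E.property
  haveI : E.IsGE n := (E.isGE_ι_obj_iff n).1 hn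
  obtain ⟨L, _, ⟨e⟩⟩ := DerivedCategory.Plus.exists_injective_nonempty_iso E n
  let KL : CochainComplex.Plus B := (InjectiveObject.ι B).mapCochainComplexPlus.obj L
  haveI : KL.obj.IsKInjective :=
    inferInstanceAs (CochainComplex.IsKInjective
      (((InjectiveObject.ι B).mapHomologicalComplex (.up ℤ)).obj L.obj))
  obtain ⟨e1⟩ := RpushCl.nonempty_iso_of_isKInjective Ψ RG β KL.obj
  haveI : IsIso (Ψ.rightDerivedFunctorPlusUnit.app ((HomotopyCategory.Plus.quotient B).obj KL)) :=
    inferInstance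
  let e2 := asIso (Ψ.rightDerivedFunctorPlusUnit.app ((HomotopyCategory.Plus.quotient B).obj KL))
  let e3 : Ψ.rightDerivedFunctorPlus.obj (DerivedCategory.Plus.Q.obj KL) ≅
      Ψ.rightDerivedFunctorPlus.obj E := Ψ.rightDerivedFunctorPlus.mapIso e
  let e4 := DerivedCategory.Plus.ι.mapIso (e2 ≪≫ e3)
  let e5 : DerivedCategory.Q.obj KL.obj ≅ E.obj := DerivedCategory.Plus.ι.mapIso e
  refine ⟨e4.symm ≪≫ ?_ ≪≫ e1.symm ≪≫ RG.mapIso e5⟩
  exact DerivedCategory.Qh.mapIso ((Ψ.mapHomotopyCategoryFactors (ComplexShape.up ℤ)).app KL.obj)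

end Groth.Agent.Helper4.PlusCmp
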