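import Groth.Prelude.Def_PolLaw2
import Mathlib

/-!
# Basic tools for polynomial laws (helper4)

* `compat`: naturality of a law along an algebra map of test algebras, in `Algebra.TensorProduct.map` form.
* `exists_lift₂`: joint lifting of two tensors to a polynomial ring.
* `poly_const_of_mul_comp_neg`: over a reduced ring, `G(T) G(-T)` constant forces `G` constant.
* `Θ`: the comparison map `S[T] ⊗ C → (S ⊗ C)[T]`.
-/

set_option autoImplicit false
universe u
open scoped TensorProduct

namespace Groth.Agent.Helper4.PolLaw1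

section compat

variable {A : Type u} [CommRing A] {M N : Type u} [AddCommGroup M] [Module A M]
  [AddCommGroup N] [Module A N]

theorem rT_apply {B : Type u} [CommRing B] [Algebra A B]
    {S S' : Type u} [CommSemiring S] [Algebra A S] [CommSemiring S'] [Algebra A S'] (φ : S →ₐ[A] S')
    (x : S ⊗[A] B) :
    φ.toLinearMap.rTensor B x = Algebra.TensorProduct.map φ (AlgHom.id A B) x :=
  PolLaw.rTensor_algHom_apply φ x

variable {B C : Type u} [CommRing B] [Algebra A B] [CommRing C] [Algebra A C]

/-- Naturality of a polynomial law in the test algebra, phrased with `Algebra.TensorProduct.map`. -/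
theorem compat (F : B →ₚₗ[A] C) {S S' : Type u} [CommSemiring S] [Algebra A S] [CommSemiring S']
    [Algebra A S'] (ψ : S →ₐ[A] S') (z : S ⊗[A] B) :
    F.toFun' S' (Algebra.TensorProduct.map ψ (AlgHom.id A B) z) =
      Algebra.TensorProduct.map ψ (AlgHom.id A C) (F.toFun' S z) := by
  rw [← rT_apply, ← rT_apply, PolynomialLaw.isCompat_apply']

theorem exists_lift₂ {S : Type u} [CommSemiring S] [Algebra A S] (x y : S ⊗[A] B) :
    ∃ (n : ℕ) (ψ : MvPolynomial (Fin n) A →ₐ[A] S) (p q : MvPolynomial (Fin n) A ⊗[A] B),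
      Algebra.TensorProduct.map ψ (AlgHom.id A B) p = x ∧
      Algebra.TensorProduct.map ψ (AlgHom.id A B) q = y := by
  obtain ⟨A1, hA1, hx⟩ := TensorProduct.Algebra.exists_of_fg x
  obtain ⟨A2, hA2, hy⟩ := TensorProduct.Algebra.exists_of_fg y
  have hB : Subalgebra.FG (A1 ⊔ A2) := Subalgebra.FG.sup hA1 hA2
  obtain ⟨gen, hgen⟩ := PolynomialLaw.exists_range_φ_eq_of_fg hB
  have h1 : A1 ≤ (PolynomialLaw.φ A gen).range := by rw [hgen]; exact le_sup_left
  have h2 : A2 ≤ (PolynomialLaw.φ A gen).range := by rw [hgen]; exact le_sup_right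
  obtain ⟨p, hp⟩ := PolynomialLaw.exists_lift_of_mem_range_rTensor _ h1 hx
  obtain ⟨q, hq⟩ := PolynomialLaw.exists_lift_of_mem_range_rTensor _ h2 hy
  exact ⟨gen.card, PolynomialLaw.φ A gen, p, q, by rw [← rT_apply, hp], by rw [← rT_apply, hq]⟩

end compat

section poly

open Polynomial

/-- Over a domain, `G(T) G(-T)` constant forces `G` constant. -/
theorem poly_const_of_mul_comp_neg_domain {D : Type*} [CommRing D] [IsDomain D] (G : D[X]) (c : D)
    (h : G * G.comp (-X) = C c) : G = C (G.coeff 0) := by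
  by_cases hG : G = 0
  · simp [hG]
  have hdeg : (G.comp (-X)).natDegree = G.natDegree := by
    rw [natDegree_comp, natDegree_neg, natDegree_X, mul_one]
  have hG' : G.comp (-X) ≠ 0 := by
    intro h0
    apply hG
    have := congrArg (fun p => p.comp (-X)) h0
    simp only [comp_assoc, neg_comp, X_comp, neg_neg, comp_X, zero_comp] at this
    exact this
  have := congrArg natDegree h
  rw [natDegree_mul hG hG', hdeg, natDegree_C] at this
  exact eq_C_of_natDegree_eq_zero (by omega)

/-- Over a reduced ring, `G(T) G(-T)` constant forces `G` constant. -/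
theorem poly_const_of_mul_comp_neg {R : Type*} [CommRing R] [IsReduced R] (G : R[X]) (c : R)
    (h : G * G.comp (-X) = C c) : G = C (G.coeff 0) := by
  ext k
  rcases Nat.eq_zero_or_pos k with rfl | hk
  · simp
  rw [coeff_C, if_neg (by omega)]
  have hnil : G.coeff k ∈ nilradical R := by
    rw [nilradical_eq_sInf, Ideal.mem_sInf]
    intro p hp
    haveI : p.IsPrime := hp
    have h' := congrArg (Polynomial.map (Ideal.Quotient.mk p)) h
    rw [Polynomial.map_mul, Polynomial.map_comp, Polynomial.map_neg, Polynomial.map_X,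
      Polynomial.map_C] at h'
    have := poly_const_of_mul_comp_neg_domain _ _ h'
    have hk' := congrArg (fun q => q.coeff k) this
    simp only [coeff_map, coeff_C, if_neg (show k ≠ 0 by omega)] at hk'
    exact Ideal.Quotient.eq_zero_iff_mem.mp hk'
  rw [nilradical_eq_zero R] at hnil
  exact hnil

end poly

end Groth.Agent.Helper4.PolLaw1

namespace Groth.Agent.Helper4.PolLaw1

section Theta

open Polynomial

variable {A : Type u} [CommRing A] (S : Type u) [CommRing S] [Algebra A S]
  (C : Type u) [CommRing C] [Algebra A C]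

/-- The comparison map `S[T] ⊗ C → (S ⊗ C)[T]`. -/
noncomputable def Θ : S[X] ⊗[A] C →ₐ[A] (S ⊗[A] C)[X] :=
  Algebra.TensorProduct.lift
    (Polynomial.mapAlgHom (Algebra.TensorProduct.includeLeft : S →ₐ[A] S ⊗[A] C))
    ((Polynomial.CAlgHom (R := A) (A := S ⊗[A] C)).comp
      (Algebra.TensorProduct.includeRight : C →ₐ[A] S ⊗[A] C))
    (fun _ _ => Commute.all _ _)

variable {S C}

theorem Θ_tmul (p : S[X]) (c : C) :
    Θ S C (p ⊗ₜ[A] c) =
      Polynomial.map (Algebra.TensorProduct.includeLeft : S →ₐ[A] S ⊗[A] C).toRingHom p *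
        Polynomial.C ((1 : S) ⊗ₜ[A] c) := by
  simp [Θ, Algebra.TensorProduct.lift_tmul]

/-- evaluation at `s₀ : S` as an `A`-algebra map `S[T] → S` -/
noncomputable def evS (s₀ : S) : S[X] →ₐ[A] S := (Polynomial.aeval (R := S) s₀).restrictScalars A

@[simp] theorem evS_apply (s₀ : S) (p : S[X]) : evS (A := A) s₀ p = p.eval s₀ := by
  show Polynomial.aeval s₀ p = p.eval s₀
  rw [Polynomial.coe_aeval_eq_eval]

theorem eval_Θ (s₀ : S) (z : S[X] ⊗[A] C) :
    (Θ S C z).eval (s₀ ⊗ₜ[A] (1 : C)) =
      Algebra.TensorProduct.map (evS (A := A) s₀) (AlgHom.id A C) z := by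
  induction z using TensorProduct.induction_on with
  | zero => simp
  | tmul p c =>
    rw [Θ_tmul, Polynomial.eval_mul, Polynomial.eval_C, Algebra.TensorProduct.map_tmul]
    have : (Polynomial.map (Algebra.TensorProduct.includeLeft : S →ₐ[A] S ⊗[A] C).toRingHom p).eval
        (s₀ ⊗ₜ[A] (1 : C)) = (p.eval s₀) ⊗ₜ[A] (1 : C) := by
      have h := Polynomial.eval_map_apply (f := (Algebra.TensorProduct.includeLeft : S →ₐ[A] S ⊗[A] C).toRingHom) (p := p) s₀
      simpa using h
    rw [this, Algebra.TensorProduct.tmul_mul_tmul]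
    simp
  | add x y hx hy => rw [map_add, Polynomial.eval_add, hx, hy, map_add]

/-- the substitution `T ↦ -T` -/
noncomputable def negT : S[X] →ₐ[A] S[X] := (Polynomial.aeval (R := S) (-X : S[X])).restrictScalars A

@[simp] theorem negT_apply (p : S[X]) : negT (A := A) p = p.comp (-X) := by
  show Polynomial.aeval (-X : S[X]) p = p.comp (-X)
  rfl

theorem Θ_negT (z : S[X] ⊗[A] C) :
    Θ S C (Algebra.TensorProduct.map (negT (A := A)) (AlgHom.id A C) z) = (Θ S C z).comp (-X) := by
  induction z using TensorProduct.induction_on with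
  | zero => simp
  | tmul p c =>
    rw [Algebra.TensorProduct.map_tmul, Θ_tmul, Θ_tmul, negT_apply, Polynomial.map_comp,
      Polynomial.mul_comp, Polynomial.C_comp]
    simp
  | add x y hx hy => rw [map_add, map_add, hx, hy, map_add, Polynomial.add_comp]

/-- constants -/
noncomputable def constT : S →ₐ[A] S[X] := Polynomial.CAlgHom (R := A) (A := S)

@[simp] theorem constT_apply (s : S) : constT (A := A) s = Polynomial.C s := rfl

theorem Θ_constT (r : S ⊗[A] C) :
    Θ S C (Algebra.TensorProduct.map (constT (A := A)) (AlgHom.id A C) r) = Polynomial.C r := by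
  induction r using TensorProduct.induction_on with
  | zero => simp
  | tmul s c =>
    rw [Algebra.TensorProduct.map_tmul, Θ_tmul, constT_apply, Polynomial.map_C, ← Polynomial.C_mul]
    simp
  | add x y hx hy => rw [map_add, map_add, hx, hy, Polynomial.C_add]

end Theta

end Groth.Agent.Helper4.PolLaw1

namespace Groth.Agent.Helper4.PolLaw1

section SQ

open Polynomial

variable {A : Type u} [CommRing A] {B C : Type u} [CommRing B] [Algebra A B] [CommRing C] [Algebra A C]
  {d : ℕ}

/-- If `b * b` lies in the kernel of a multiplicative law `F` and `S ⊗ C` is reduced, then adding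
multiples of `b` does not change the value of `F` over `S`. -/
theorem eq_of_sq_mem_ker (F : PolLaw.MulLaw A B C d) (S : Type u) [CommRing S] [Algebra A S]
    [IsReduced (S ⊗[A] C)] (b : B) (hb : b * b ∈ PolLaw.ker F.law) (x w : S ⊗[A] B) :
    F.law.toFun' S (x + w * ((1 : S) ⊗ₜ[A] b)) = F.law.toFun' S x := by
  -- notation
  set ι : S ⊗[A] B →ₐ[A] S[X] ⊗[A] B := Algebra.TensorProduct.map (constT (A := A)) (AlgHom.id A B)
    with hι
  set σ : S[X] ⊗[A] B →ₐ[A] S[X] ⊗[A] B := Algebra.TensorProduct.map (negT (A := A)) (AlgHom.id A B)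
    with hσ
  set Tt : S[X] ⊗[A] B := (X : S[X]) ⊗ₜ[A] (1 : B) with hTt
  set bt : S[X] ⊗[A] B := (1 : S[X]) ⊗ₜ[A] b with hbt
  set z : S[X] ⊗[A] B := ι x + Tt * ι w * bt with hz
  set G : (S ⊗[A] C)[X] := Θ S C (F.law.toFun' S[X] z) with hG
  -- σ on the pieces
  have hσι : ∀ y : S ⊗[A] B, σ (ι y) = ι y := by
    intro y
    rw [hσ, hι, ← AlgHom.comp_apply, ← Algebra.TensorProduct.map_comp]
    congr 2
    ext s
    simp
  have hσT : σ Tt = -Tt := by
    rw [hσ, hTt, Algebra.TensorProduct.map_tmul, negT_apply]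
    simp [TensorProduct.neg_tmul]
  have hσb : σ bt = bt := by
    rw [hσ, hbt, Algebra.TensorProduct.map_tmul]
    simp
  have hσz : σ z = ι x - Tt * ι w * bt := by
    rw [hz, map_add, map_mul, map_mul, hσι, hσι, hσT, hσb]
    ring
  -- product
  have hprod : z * σ z = ι x * ι x + (-(Tt * Tt * (ι w * ι w))) * ((1 : S[X]) ⊗ₜ[A] (b * b)) := by
    rw [hσz, hz]
    have : ((1 : S[X]) ⊗ₜ[A] (b * b)) = bt * bt := by
      rw [hbt, Algebra.TensorProduct.tmul_mul_tmul, one_mul]
    rw [this]
    ring
  have hF1 : F.law.toFun' S[X] (z * σ z) = F.law.toFun' S[X] (ι x) * F.law.toFun' S[X] (ι x) := by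
    rw [hprod, hb S[X], (F.mult S[X]).2]
  have hFι : F.law.toFun' S[X] (ι x) =
      Algebra.TensorProduct.map (constT (A := A)) (AlgHom.id A C) (F.law.toFun' S x) := by
    rw [hι, compat]
  have hFσ : F.law.toFun' S[X] (σ z) =
      Algebra.TensorProduct.map (negT (A := A)) (AlgHom.id A C) (F.law.toFun' S[X] z) := by
    rw [hσ, compat]
  -- the key polynomial identity
  have hGG : G * G.comp (-X) = Polynomial.C (F.law.toFun' S x * F.law.toFun' S x) := by
    rw [hG, ← Θ_negT, ← hFσ, ← map_mul, ← (F.mult S[X]).2, hF1, hFι, map_mul, Θ_constT,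
      Polynomial.C_mul]
  have hconst := poly_const_of_mul_comp_neg G _ hGG
  -- evaluate at 1 and 0
  have he1 : G.eval ((1 : S) ⊗ₜ[A] (1 : C)) = F.law.toFun' S (x + w * ((1 : S) ⊗ₜ[A] b)) := by
    rw [hG, eval_Θ, ← compat]
    congr 1
    rw [hz, map_add, map_mul, map_mul, hι, ← AlgHom.comp_apply, ← AlgHom.comp_apply,
      ← Algebra.TensorProduct.map_comp]
    have : (evS (A := A) (1 : S)).comp (constT (A := A)) = AlgHom.id A S := by
      ext s; simp
    rw [this, hTt, hbt, Algebra.TensorProduct.map_tmul, Algebra.TensorProduct.map_tmul]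
    simp only [evS_apply, eval_X, AlgHom.coe_id, id_eq, eval_one, AlgHom.comp_id,
      Algebra.TensorProduct.map_id]
    rw [← Algebra.TensorProduct.one_def, one_mul]
  have he0 : G.eval ((0 : S) ⊗ₜ[A] (1 : C)) = F.law.toFun' S x := by
    rw [hG, eval_Θ, ← compat]
    congr 1
    rw [hz, map_add, map_mul, map_mul, hι, ← AlgHom.comp_apply, ← AlgHom.comp_apply,
      ← Algebra.TensorProduct.map_comp]
    have : (evS (A := A) (0 : S)).comp (constT (A := A)) = AlgHom.id A S := by
      ext s; simp
    rw [this, hTt, hbt, Algebra.TensorProduct.map_tmul, Algebra.TensorProduct.map_tmul]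
    simp
  rw [← he1, ← he0, hconst, Polynomial.eval_C, Polynomial.eval_C]

end SQ

end Groth.Agent.Helper4.PolLaw1

namespace Groth.Agent.Helper4.PolLaw1

section more

variable {A : Type u} [CommRing A] {B : Type u} [CommRing B] [Algebra A B]

theorem smul_eq_tmul_one_mul (S : Type u) [CommSemiring S] [Algebra A S] (s : S) (x : S ⊗[A] B) :
    s • x = (s ⊗ₜ[A] (1 : B)) * x := by
  rw [Algebra.smul_def, Algebra.TensorProduct.algebraMap_apply]
  rfl

theorem map_smul' {S S' : Type u} [CommSemiring S] [Algebra A S] [CommSemiring S'] [Algebra A S']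
    (ψ : S →ₐ[A] S') (s : S) (x : S ⊗[A] B) :
    Algebra.TensorProduct.map ψ (AlgHom.id A B) (s • x) =
      ψ s • Algebra.TensorProduct.map ψ (AlgHom.id A B) x := by
  rw [smul_eq_tmul_one_mul, smul_eq_tmul_one_mul, map_mul, Algebra.TensorProduct.map_tmul]
  rfl

/-- joint lifting of a tensor and a scalar -/
theorem exists_lift_smul {S : Type u} [CommSemiring S] [Algebra A S] (x : S ⊗[A] B) (s : S) :
    ∃ (n : ℕ) (ψ : MvPolynomial (Fin n) A →ₐ[A] S) (p : MvPolynomial (Fin n) A ⊗[A] B)
      (q : MvPolynomial (Fin n) A),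
      Algebra.TensorProduct.map ψ (AlgHom.id A B) p = x ∧ ψ q = s := by
  obtain ⟨n, ψ, p, q, hp, hq⟩ := PolynomialLaw.exists_lift' (R := A) x s
  exact ⟨n, ψ, p, q, by rw [← rT_apply, hp], hq⟩

theorem exists_lift₁ {S : Type u} [CommSemiring S] [Algebra A S] (x : S ⊗[A] B) :
    ∃ (n : ℕ) (ψ : MvPolynomial (Fin n) A →ₐ[A] S) (p : MvPolynomial (Fin n) A ⊗[A] B),
      Algebra.TensorProduct.map ψ (AlgHom.id A B) p = x := by
  obtain ⟨n, ψ, p, hp⟩ := PolynomialLaw.exists_lift (R := A) x
  exact ⟨n, ψ, p, by rw [← rT_apply, hp]⟩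

end more

end Groth.Agent.Helper4.PolLaw1
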