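import Groth.Agent.Helper4.PolLaw1

/-!
# Multiplicative polynomials over a connected base (helper4)
-/

set_option autoImplicit false
universe u
open scoped TensorProduct

namespace Groth.Agent.Helper4.PolLaw2

open Polynomial

theorem idem_eq_zero_or_one {A : Type*} [CommRing A] [ConnectedSpace (PrimeSpectrum A)] (e : A)
    (he : IsIdempotentElem e) : e = 0 ∨ e = 1 := by
  have hcl : IsClopen (PrimeSpectrum.basicOpen e : Set (PrimeSpectrum A)) :=
    PrimeSpectrum.isClopen_basicOpen_of_mul_add e (1 - e) (by
      have : e * e = e := he
      rw [mul_sub, mul_one, this, sub_self]) (by ring)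
  rcases isClopen_iff.mp hcl with h | h
  · left
    have : PrimeSpectrum.basicOpen e = PrimeSpectrum.basicOpen (0 : A) := by
      apply TopologicalSpace.Opens.ext
      rw [h]; simp
    exact PrimeSpectrum.basicOpen_injOn_isIdempotentElem he IsIdempotentElem.zero this
  · right
    have : PrimeSpectrum.basicOpen e = PrimeSpectrum.basicOpen (1 : A) := by
      apply TopologicalSpace.Opens.ext
      rw [h]; simp
    exact PrimeSpectrum.basicOpen_injOn_isIdempotentElem he IsIdempotentElem.one this

/-- A polynomial over a ring with connected spectrum which is multiplicative (`g(s) g(s') = g(s s')`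
over all algebras) and has `g(1) = 1` is a monomial `X ^ k`. -/
theorem eq_X_pow_of_mul {A : Type u} [CommRing A] [ConnectedSpace (PrimeSpectrum A)] (g : A[X])
    (hmul : ∀ (S : Type u) [CommRing S] [Algebra A S] (s s' : S),
      aeval s g * aeval s' g = aeval (s * s') g)
    (h1 : g.eval 1 = 1) : ∃ k : ℕ, g = X ^ k := by
  classical
  haveI : Nontrivial A := by
    by_contra h
    rw [not_nontrivial_iff_subsingleton] at h
    have : IsEmpty (PrimeSpectrum A) := inferInstance
    exact (not_isEmpty_of_nonempty (PrimeSpectrum A)) this
  have key := hmul (A[X][X]) (C X) X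
  have e1 : aeval (C X : A[X][X]) g = C g := by
    have := Polynomial.aeval_algHom_apply (Polynomial.CAlgHom (R := A) (A := A[X])) (X : A[X]) g
    simpa using this
  have horth : ∀ k l : ℕ, g.coeff k * g.coeff l = if k = l then g.coeff l else 0 := by
    intro k l
    have h2 : ((aeval (C X : A[X][X]) g * aeval (X : A[X][X]) g).coeff l).coeff k =
        ((aeval (C X * X : A[X][X]) g).coeff l).coeff k := by rw [key]
    rw [e1, coeff_C_mul] at h2
    have e2 : (aeval (X : A[X][X]) g).coeff l = C (g.coeff l) := by
      rw [aeval_def, eval₂_eq_sum_range, finsetSum_coeff]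
      simp only [Polynomial.algebraMap_apply, coeff_C_mul, coeff_X_pow]
      rw [Finset.sum_eq_single l]
      · simp
      · intro b _ hb; simp [hb.symm]
      · intro hl
        simp only [Finset.mem_range, not_lt] at hl
        have : g.coeff l = 0 := coeff_eq_zero_of_natDegree_lt (by omega)
        simp [this]
    have e3 : (aeval (C X * X : A[X][X]) g).coeff l = C (g.coeff l) * X ^ l := by
      rw [aeval_def, eval₂_eq_sum_range, finsetSum_coeff]
      simp only [mul_pow, ← C_pow]
      have : ∀ b : ℕ, ((algebraMap A A[X][X]) (g.coeff b) * (C (X ^ b) * X ^ b)).coeff l =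
          if l = b then C (g.coeff b) * X ^ b else 0 := by
        intro b
        rw [Polynomial.algebraMap_apply, Polynomial.algebraMap_apply, ← mul_assoc, ← C_mul,
          coeff_C_mul, coeff_X_pow]
        split_ifs <;> simp
      simp only [this]
      rw [Finset.sum_eq_single l]
      · simp
      · intro b _ hb; simp [hb.symm]
      · intro hl
        simp only [Finset.mem_range, not_lt] at hl
        have : g.coeff l = 0 := coeff_eq_zero_of_natDegree_lt (by omega)
        simp [this]
    rw [e2, e3, coeff_mul_C, coeff_C_mul, coeff_X_pow] at h2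
    rw [h2]
    split_ifs <;> simp
  have hidem : ∀ k, g.coeff k = 0 ∨ g.coeff k = 1 := by
    intro k
    apply idem_eq_zero_or_one
    have := horth k k
    rw [if_pos rfl] at this
    exact this
  have hsum : ∑ k ∈ Finset.range (g.natDegree + 1), g.coeff k = 1 := by
    rw [← h1, eval_eq_sum_range]
    simp
  have hex : ∃ k, g.coeff k = 1 := by
    by_contra hne
    push Not at hne
    have : ∀ k, g.coeff k = 0 := fun k => (hidem k).resolve_right (hne k)
    rw [Finset.sum_eq_zero (fun k _ => this k)] at hsum
    exact zero_ne_one hsum
  obtain ⟨k, hk⟩ := hex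
  refine ⟨k, ?_⟩
  ext l
  rw [coeff_X_pow]
  split_ifs with h
  · rw [h, hk]
  · have := horth l k
    rw [if_neg h, hk, mul_one] at this
    exact this

end Groth.Agent.Helper4.PolLaw2
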