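import Groth.Agent.Helper4.PolLaw2

/-!
# Multiplicative laws on a product of two algebras over a connected base (helper4)
-/

set_option autoImplicit false
universe u
open scoped TensorProduct

namespace Groth.Agent.Helper4.PolLawProd

open Polynomial Groth.Agent.Helper4.PolLaw1 Groth.Agent.Helper4.PolLaw2

variable {A : Type u} [CommRing A] {B₁ B₂ : Type u} [CommRing B₁] [Algebra A B₁] [CommRing B₂]
  [Algebra A B₂]

/-- `S ⊗ (B₁ × B₂) ≃ (S ⊗ B₁) × (S ⊗ B₂)` -/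
noncomputable abbrev pr (S : Type u) [CommSemiring S] [Algebra A S] :
    S ⊗[A] (B₁ × B₂) ≃ₐ[A] (S ⊗[A] B₁) × (S ⊗[A] B₂) :=
  Algebra.TensorProduct.prodRight A A S B₁ B₂

theorem pr_fst (S : Type u) [CommSemiring S] [Algebra A S] (x : S ⊗[A] (B₁ × B₂)) :
    (pr S x).1 = LinearMap.lTensor S (LinearMap.fst A B₁ B₂) x := by
  induction x using TensorProduct.induction_on with
  | zero => simp
  | tmul s b => simp [Algebra.TensorProduct.prodRight_tmul]
  | add x y hx hy => rw [map_add, Prod.fst_add, hx, hy, map_add]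

theorem pr_snd (S : Type u) [CommSemiring S] [Algebra A S] (x : S ⊗[A] (B₁ × B₂)) :
    (pr S x).2 = LinearMap.lTensor S (LinearMap.snd A B₁ B₂) x := by
  induction x using TensorProduct.induction_on with
  | zero => simp
  | tmul s b => simp [Algebra.TensorProduct.prodRight_tmul]
  | add x y hx hy => rw [map_add, Prod.snd_add, hx, hy, map_add]

theorem pr_map {S S' : Type u} [CommSemiring S] [Algebra A S] [CommSemiring S'] [Algebra A S']
    (φ : S →ₐ[A] S') (x : S ⊗[A] (B₁ × B₂)) :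
    pr S' (Algebra.TensorProduct.map φ (AlgHom.id A (B₁ × B₂)) x) =
      (Algebra.TensorProduct.map φ (AlgHom.id A B₁) (pr S x).1,
        Algebra.TensorProduct.map φ (AlgHom.id A B₂) (pr S x).2) := by
  induction x using TensorProduct.induction_on with
  | zero => simp only [map_zero, Prod.fst_zero, Prod.snd_zero]; rfl
  | tmul s b => simp [Algebra.TensorProduct.prodRight_tmul]
  | add x y hx hy => simp only [map_add, hx, hy, Prod.fst_add, Prod.snd_add, Prod.mk_add_mk]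

theorem map_pr_symm {S S' : Type u} [CommSemiring S] [Algebra A S] [CommSemiring S'] [Algebra A S']
    (φ : S →ₐ[A] S') (y₁ : S ⊗[A] B₁) (y₂ : S ⊗[A] B₂) :
    Algebra.TensorProduct.map φ (AlgHom.id A (B₁ × B₂)) ((pr S).symm (y₁, y₂)) =
      (pr S').symm (Algebra.TensorProduct.map φ (AlgHom.id A B₁) y₁,
        Algebra.TensorProduct.map φ (AlgHom.id A B₂) y₂) := by
  apply (pr S').injective
  rw [pr_map, AlgEquiv.apply_symm_apply, AlgEquiv.apply_symm_apply]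

theorem pr_symm_mul (S : Type u) [CommSemiring S] [Algebra A S] (y₁ : S ⊗[A] B₁) (y₂ : S ⊗[A] B₂) :
    (pr (B₁ := B₁) (B₂ := B₂) S).symm (y₁, y₂) =
      (pr (B₁ := B₁) (B₂ := B₂) S).symm (y₁, 1) * (pr (B₁ := B₁) (B₂ := B₂) S).symm (1, y₂) := by
  rw [← map_mul, Prod.mk_mul_mk, mul_one, one_mul]

variable {d : ℕ} (F : PolLaw.MulLaw A (B₁ × B₂) A d)

/-- first factor law -/
noncomputable def law₁ : B₁ →ₚₗ[A] A where
  toFun' S _ _ := fun x₁ => F.law.toFun' S ((pr S).symm (x₁, 1))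
  isCompat' {S} _ _ {S'} _ _ φ := by
    funext x₁
    simp only [Function.comp_apply]
    rw [PolynomialLaw.isCompat_apply', rT_apply, rT_apply, map_pr_symm, map_one]

/-- second factor law -/
noncomputable def law₂ : B₂ →ₚₗ[A] A where
  toFun' S _ _ := fun x₂ => F.law.toFun' S ((pr S).symm (1, x₂))
  isCompat' {S} _ _ {S'} _ _ φ := by
    funext x₂
    simp only [Function.comp_apply]
    rw [PolynomialLaw.isCompat_apply', rT_apply, rT_apply, map_pr_symm, map_one]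

theorem law_eq_mul (S : Type u) [CommSemiring S] [Algebra A S] (x : S ⊗[A] (B₁ × B₂)) :
    F.law.toFun' S x = (law₁ F).toFun' S (LinearMap.lTensor S (LinearMap.fst A B₁ B₂) x) *
      (law₂ F).toFun' S (LinearMap.lTensor S (LinearMap.snd A B₁ B₂) x) := by
  show _ = F.law.toFun' S _ * F.law.toFun' S _
  rw [← (F.mult S).2, ← pr_symm_mul, ← pr_fst, ← pr_snd, Prod.mk.eta, AlgEquiv.symm_apply_apply]

theorem law₁_one (S : Type u) [CommSemiring S] [Algebra A S] : (law₁ F).toFun' S 1 = 1 := by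
  show F.law.toFun' S ((pr S).symm (1, 1)) = 1
  rw [← Prod.one_eq_mk, map_one, (F.mult S).1]

theorem law₂_one (S : Type u) [CommSemiring S] [Algebra A S] : (law₂ F).toFun' S 1 = 1 := by
  show F.law.toFun' S ((pr S).symm (1, 1)) = 1
  rw [← Prod.one_eq_mk, map_one, (F.mult S).1]

theorem law₁_mul (S : Type u) [CommSemiring S] [Algebra A S] (x y : S ⊗[A] B₁) :
    (law₁ F).toFun' S (x * y) = (law₁ F).toFun' S x * (law₁ F).toFun' S y := by
  show F.law.toFun' S _ = F.law.toFun' S _ * F.law.toFun' S _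
  rw [← (F.mult S).2, ← map_mul, Prod.mk_mul_mk, mul_one]

theorem law₂_mul (S : Type u) [CommSemiring S] [Algebra A S] (x y : S ⊗[A] B₂) :
    (law₂ F).toFun' S (x * y) = (law₂ F).toFun' S x * (law₂ F).toFun' S y := by
  show F.law.toFun' S _ = F.law.toFun' S _ * F.law.toFun' S _
  rw [← (F.mult S).2, ← map_mul, Prod.mk_mul_mk, mul_one]


section tmulone

variable (S : Type u) [CommSemiring S] [Algebra A S]

theorem eq_rid_tmul_one (w : S ⊗[A] A) : w = (Algebra.TensorProduct.rid A A S w) ⊗ₜ[A] (1 : A) := by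
  conv_lhs => rw [← (Algebra.TensorProduct.rid A A S).symm_apply_apply w]
  exact Algebra.TensorProduct.rid_symm_apply (R := A) (S := A) _

theorem tmul_one_injective : Function.Injective (fun a : S => a ⊗ₜ[A] (1 : A)) := by
  intro a a' h
  have := congrArg (Algebra.TensorProduct.rid A A S) h
  simpa using this

end tmulone

/-- the polynomial `F(X e₁ + e₂)` -/
noncomputable def g₁ : A[X] :=
  Algebra.TensorProduct.rid A A A[X]
    (F.law.toFun' A[X] ((pr A[X]).symm ((X : A[X]) ⊗ₜ[A] (1 : B₁), 1)))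

/-- the polynomial `F(e₁ + X e₂)` -/
noncomputable def g₂ : A[X] :=
  Algebra.TensorProduct.rid A A A[X]
    (F.law.toFun' A[X] ((pr A[X]).symm (1, (X : A[X]) ⊗ₜ[A] (1 : B₂))))

theorem law_g₁ (S : Type u) [CommSemiring S] [Algebra A S] (s : S) :
    F.law.toFun' S ((pr S).symm (s ⊗ₜ[A] (1 : B₁), 1)) = (aeval s (g₁ F)) ⊗ₜ[A] (1 : A) := by
  have h1 : (pr S).symm (s ⊗ₜ[A] (1 : B₁), (1 : S ⊗[A] B₂)) =
      Algebra.TensorProduct.map (aeval (R := A) s) (AlgHom.id A (B₁ × B₂))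
        ((pr A[X]).symm ((X : A[X]) ⊗ₜ[A] (1 : B₁), 1)) := by
    rw [map_pr_symm]
    simp only [map_one, Algebra.TensorProduct.map_tmul, aeval_X, AlgHom.coe_id, id_eq]
  rw [h1, compat, eq_rid_tmul_one A[X] (F.law.toFun' A[X] _), Algebra.TensorProduct.map_tmul]
  rfl

theorem law_g₂ (S : Type u) [CommSemiring S] [Algebra A S] (s : S) :
    F.law.toFun' S ((pr S).symm (1, s ⊗ₜ[A] (1 : B₂))) = (aeval s (g₂ F)) ⊗ₜ[A] (1 : A) := by
  have h1 : (pr S).symm ((1 : S ⊗[A] B₁), s ⊗ₜ[A] (1 : B₂)) =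
      Algebra.TensorProduct.map (aeval (R := A) s) (AlgHom.id A (B₁ × B₂))
        ((pr A[X]).symm (1, (X : A[X]) ⊗ₜ[A] (1 : B₂))) := by
    rw [map_pr_symm]
    simp only [map_one, Algebra.TensorProduct.map_tmul, aeval_X, AlgHom.coe_id, id_eq]
  rw [h1, compat, eq_rid_tmul_one A[X] (F.law.toFun' A[X] _), Algebra.TensorProduct.map_tmul]
  rfl

theorem g₁_mul (S : Type u) [CommRing S] [Algebra A S] (s s' : S) :
    aeval s (g₁ F) * aeval s' (g₁ F) = aeval (s * s') (g₁ F) := by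
  apply tmul_one_injective (A := A) S
  show (aeval s (g₁ F) * aeval s' (g₁ F)) ⊗ₜ[A] (1 : A) = aeval (s * s') (g₁ F) ⊗ₜ[A] (1 : A)
  have : (aeval s (g₁ F) * aeval s' (g₁ F)) ⊗ₜ[A] (1 : A) =
      (aeval s (g₁ F) ⊗ₜ[A] (1 : A)) * (aeval s' (g₁ F) ⊗ₜ[A] (1 : A)) := by
    rw [Algebra.TensorProduct.tmul_mul_tmul, mul_one]
  rw [this, ← law_g₁, ← law_g₁, ← law_g₁, ← (F.mult S).2, ← map_mul, Prod.mk_mul_mk, mul_one,
    Algebra.TensorProduct.tmul_mul_tmul, mul_one]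

theorem g₂_mul (S : Type u) [CommRing S] [Algebra A S] (s s' : S) :
    aeval s (g₂ F) * aeval s' (g₂ F) = aeval (s * s') (g₂ F) := by
  apply tmul_one_injective (A := A) S
  show (aeval s (g₂ F) * aeval s' (g₂ F)) ⊗ₜ[A] (1 : A) = aeval (s * s') (g₂ F) ⊗ₜ[A] (1 : A)
  have : (aeval s (g₂ F) * aeval s' (g₂ F)) ⊗ₜ[A] (1 : A) =
      (aeval s (g₂ F) ⊗ₜ[A] (1 : A)) * (aeval s' (g₂ F) ⊗ₜ[A] (1 : A)) := by
    rw [Algebra.TensorProduct.tmul_mul_tmul, mul_one]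
  rw [this, ← law_g₂, ← law_g₂, ← law_g₂, ← (F.mult S).2, ← map_mul, Prod.mk_mul_mk, mul_one,
    Algebra.TensorProduct.tmul_mul_tmul, mul_one]

theorem g₁_one : (g₁ F).eval 1 = 1 := by
  apply tmul_one_injective (A := A) A
  show ((g₁ F).eval 1) ⊗ₜ[A] (1 : A) = (1 : A) ⊗ₜ[A] (1 : A)
  rw [← coe_aeval_eq_eval, ← law_g₁, ← Algebra.TensorProduct.one_def, ← Algebra.TensorProduct.one_def,
    ← Prod.one_eq_mk, map_one, (F.mult A).1]

theorem g₂_one : (g₂ F).eval 1 = 1 := by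
  apply tmul_one_injective (A := A) A
  show ((g₂ F).eval 1) ⊗ₜ[A] (1 : A) = (1 : A) ⊗ₜ[A] (1 : A)
  rw [← coe_aeval_eq_eval, ← law_g₂, ← Algebra.TensorProduct.one_def, ← Algebra.TensorProduct.one_def,
    ← Prod.one_eq_mk, map_one, (F.mult A).1]


theorem smul_eq_tmul_one_mul {B : Type u} [CommRing B] [Algebra A B] (S : Type u) [CommSemiring S]
    [Algebra A S] (s : S) (x : S ⊗[A] B) : s • x = (s ⊗ₜ[A] (1 : B)) * x := by
  rw [Algebra.smul_def, Algebra.TensorProduct.algebraMap_apply]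
  rfl

theorem law₁_homog (d₁ : ℕ) (h : g₁ F = X ^ d₁) : PolLaw.IsHomog (law₁ F) d₁ := by
  intro S _ _ s x
  show F.law.toFun' S ((pr S).symm (s • x, 1)) = s ^ d₁ • F.law.toFun' S ((pr S).symm (x, 1))
  have h1 : (pr S).symm (s • x, (1 : S ⊗[A] B₂)) =
      (pr (B₁ := B₁) (B₂ := B₂) S).symm (s ⊗ₜ[A] (1 : B₁), 1) *
        (pr (B₁ := B₁) (B₂ := B₂) S).symm (x, 1) := by
    rw [← map_mul, Prod.mk_mul_mk, mul_one, smul_eq_tmul_one_mul]
  rw [h1, (F.mult S).2, law_g₁, h, map_pow, aeval_X, smul_eq_tmul_one_mul]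

theorem law₂_homog (d₂ : ℕ) (h : g₂ F = X ^ d₂) : PolLaw.IsHomog (law₂ F) d₂ := by
  intro S _ _ s x
  show F.law.toFun' S ((pr S).symm (1, s • x)) = s ^ d₂ • F.law.toFun' S ((pr S).symm (1, x))
  have h1 : (pr S).symm ((1 : S ⊗[A] B₁), s • x) =
      (pr (B₁ := B₁) (B₂ := B₂) S).symm (1, s ⊗ₜ[A] (1 : B₂)) *
        (pr (B₁ := B₁) (B₂ := B₂) S).symm (1, x) := by
    rw [← map_mul, Prod.mk_mul_mk, mul_one, smul_eq_tmul_one_mul]
  rw [h1, (F.mult S).2, law_g₂, h, map_pow, aeval_X, smul_eq_tmul_one_mul]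

theorem X_pow_inj [Nontrivial A] {m n : ℕ} (h : (X : A[X]) ^ m = X ^ n) : m = n := by
  have := congrArg natDegree h
  simpa using this

theorem deg_add [Nontrivial A] (d₁ d₂ : ℕ) (h₁ : g₁ F = X ^ d₁) (h₂ : g₂ F = X ^ d₂) :
    d₁ + d₂ = d := by
  have hx : (X : A[X]) • (1 : A[X] ⊗[A] (B₁ × B₂)) =
      (pr (B₁ := B₁) (B₂ := B₂) A[X]).symm ((X : A[X]) ⊗ₜ[A] (1 : B₁), 1) *
        (pr (B₁ := B₁) (B₂ := B₂) A[X]).symm (1, (X : A[X]) ⊗ₜ[A] (1 : B₂)) := by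
    rw [← pr_symm_mul]
    apply (pr A[X]).injective
    rw [AlgEquiv.apply_symm_apply, smul_eq_tmul_one_mul, mul_one]
    rfl
  have h := F.homog A[X] X 1
  rw [hx, (F.mult A[X]).2, law_g₁, law_g₂, (F.mult A[X]).1, h₁, h₂, map_pow, map_pow, aeval_X,
    Algebra.TensorProduct.tmul_mul_tmul, mul_one, smul_eq_tmul_one_mul, mul_one, ← pow_add] at h
  exact X_pow_inj (tmul_one_injective (A := A) A[X] h)

theorem deg_unique₁ [Nontrivial A] (d₁ : ℕ) (h₁ : g₁ F = X ^ d₁) (e₁ e₂ : ℕ)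
    (G₁ : PolLaw.MulLaw A B₁ A e₁) (G₂ : PolLaw.MulLaw A B₂ A e₂)
    (hG : ∀ (S : Type u) [CommSemiring S] [Algebra A S] (x : S ⊗[A] (B₁ × B₂)),
      F.law.toFun' S x = G₁.law.toFun' S (LinearMap.lTensor S (LinearMap.fst A B₁ B₂) x) *
        G₂.law.toFun' S (LinearMap.lTensor S (LinearMap.snd A B₁ B₂) x)) : e₁ = d₁ := by
  have h := hG A[X] ((pr A[X]).symm ((X : A[X]) ⊗ₜ[A] (1 : B₁), 1))
  rw [← pr_fst, ← pr_snd, AlgEquiv.apply_symm_apply, law_g₁, h₁, map_pow, aeval_X] at h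
  simp only at h
  have hx : (X : A[X]) ⊗ₜ[A] (1 : B₁) = (X : A[X]) • (1 : A[X] ⊗[A] B₁) := by
    rw [smul_eq_tmul_one_mul, mul_one]
  rw [hx, G₁.homog A[X] X 1, (G₁.mult A[X]).1, (G₂.mult A[X]).1, mul_one, smul_eq_tmul_one_mul,
    mul_one] at h
  exact (X_pow_inj (tmul_one_injective (A := A) A[X] h)).symm

theorem deg_unique₂ [Nontrivial A] (d₂ : ℕ) (h₂ : g₂ F = X ^ d₂) (e₁ e₂ : ℕ)
    (G₁ : PolLaw.MulLaw A B₁ A e₁) (G₂ : PolLaw.MulLaw A B₂ A e₂)
    (hG : ∀ (S : Type u) [CommSemiring S] [Algebra A S] (x : S ⊗[A] (B₁ × B₂)),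
      F.law.toFun' S x = G₁.law.toFun' S (LinearMap.lTensor S (LinearMap.fst A B₁ B₂) x) *
        G₂.law.toFun' S (LinearMap.lTensor S (LinearMap.snd A B₁ B₂) x)) : e₂ = d₂ := by
  have h := hG A[X] ((pr A[X]).symm (1, (X : A[X]) ⊗ₜ[A] (1 : B₂)))
  rw [← pr_fst, ← pr_snd, AlgEquiv.apply_symm_apply, law_g₂, h₂, map_pow, aeval_X] at h
  simp only at h
  have hx : (X : A[X]) ⊗ₜ[A] (1 : B₂) = (X : A[X]) • (1 : A[X] ⊗[A] B₂) := by
    rw [smul_eq_tmul_one_mul, mul_one]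
  rw [hx, G₂.homog A[X] X 1, (G₁.mult A[X]).1, (G₂.mult A[X]).1, one_mul, smul_eq_tmul_one_mul,
    mul_one] at h
  exact (X_pow_inj (tmul_one_injective (A := A) A[X] h)).symm

end Groth.Agent.Helper4.PolLawProd
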