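import Groth.Agent.Helper4.PolarComb
import Groth.Agent.Helper4.PolarCoeff
import Groth.Agent.Helper4.Iversen
import Groth.Agent.Helper4.KerPoly

/-!
# Polarisation of a homogeneous polynomial law (helper4)
-/

set_option autoImplicit false
universe u
open scoped TensorProduct
open MvPolynomial

namespace Groth.Agent.Helper4.Polar

open Groth.Agent.Helper4.PolLaw1 Groth.Agent.Helper4.GammaSpan Groth.Agent.Helper4.GammaFin
  Groth.Agent.Helper4.PolarComb Groth.Agent.Helper4.PolarCoeff Groth.Agent.Helper4.KerPoly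

variable {A : Type u} [CommRing A] {B C : Type u} [CommRing B] [Algebra A B] [CommRing C] [Algebra A C]

section S

variable (S : Type u) [CommRing S] [Algebra A S] (d : ℕ)

/-- `S`-coefficient extraction `S[Y] ⊗ C → S ⊗ C` -/
noncomputable def cfS (m : Fin d →₀ ℕ) : MvPolynomial (Fin d) S ⊗[A] C →ₗ[A] S ⊗[A] C :=
  ((MvPolynomial.lcoeff S m).restrictScalars A).rTensor C

@[simp] theorem cfS_tmul (m : Fin d →₀ ℕ) (p : MvPolynomial (Fin d) S) (c : C) :
    cfS (A := A) S d m (p ⊗ₜ[A] c) = (coeff m p) ⊗ₜ[A] c := rfl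

/-- constants `S → S[Y]` -/
noncomputable def cS : S →ₐ[A] MvPolynomial (Fin d) S :=
  IsScalarTower.toAlgHom A S (MvPolynomial (Fin d) S)

@[simp] theorem cS_apply (s : S) : cS (A := A) S d s = MvPolynomial.C s := rfl

theorem cfS_mul_ι (m : Fin d →₀ ℕ) (p : MvPolynomial (Fin d) S) (g : S ⊗[A] C) :
    cfS (A := A) S d m ((p ⊗ₜ[A] (1 : C)) * Algebra.TensorProduct.map (cS (A := A) S d) (AlgHom.id A C) g) =
      ((coeff m p) ⊗ₜ[A] (1 : C)) * g := by
  induction g using TensorProduct.induction_on with
  | zero => simp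
  | tmul s c =>
    rw [Algebra.TensorProduct.map_tmul, Algebra.TensorProduct.tmul_mul_tmul, cfS_tmul, cS_apply,
      mul_comm p, MvPolynomial.coeff_C_mul, Algebra.TensorProduct.tmul_mul_tmul, mul_comm s]
    rfl
  | add g₁ g₂ h₁ h₂ => rw [map_add, mul_add, map_add, h₁, h₂, mul_add]

variable {S d}

/-- the generic combination `∑ Y_i x_i` -/
noncomputable def E (x : Fin d → S ⊗[A] B) : MvPolynomial (Fin d) S ⊗[A] B :=
  ∑ i, ((X i : MvPolynomial (Fin d) S) ⊗ₜ[A] (1 : B)) *
    Algebra.TensorProduct.map (cS (A := A) S d) (AlgHom.id A B) (x i)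

/-- polarisation over `S` -/
noncomputable def pol (γ : B →ₚₗ[A] C) (x : Fin d → S ⊗[A] B) : S ⊗[A] C :=
  cfS S d (m₁ d) (γ.toFun' (MvPolynomial (Fin d) S) (E x))

theorem pol_diag (γ : B →ₚₗ[A] C) (hγ : PolLaw.IsHomog γ d) (x : S ⊗[A] B) :
    pol γ (fun _ : Fin d => x) = d.factorial • γ.toFun' S x := by
  have hE : E (fun _ : Fin d => x) = (∑ i : Fin d, (X i : MvPolynomial (Fin d) S)) •
      Algebra.TensorProduct.map (cS (A := A) S d) (AlgHom.id A B) x := by
    rw [E, smul_eq_tmul_one_mul, TensorProduct.sum_tmul, Finset.sum_mul]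
  rw [pol, hE, hγ, compat, smul_eq_tmul_one_mul, cfS_mul_ι, coeff_m₁_sum_X_pow,
    ← smul_eq_tmul_one_mul, Nat.cast_smul_eq_nsmul]

theorem E_update [DecidableEq (Fin d)] (x : Fin d → S ⊗[A] B) (k : Fin d) (u : S ⊗[A] B) :
    E (Function.update x k u) = E (Function.update x k 0) +
      ((X k : MvPolynomial (Fin d) S) ⊗ₜ[A] (1 : B)) *
        Algebra.TensorProduct.map (cS (A := A) S d) (AlgHom.id A B) u := by
  rw [E, E, ← Finset.add_sum_erase _ _ (Finset.mem_univ k),
    ← Finset.add_sum_erase (a := k) _ _ (Finset.mem_univ k)]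
  simp only [Function.update_self, map_zero, mul_zero, zero_add]
  rw [add_comm]
  congr 1
  refine Finset.sum_congr rfl fun i hi => ?_
  rw [Function.update_of_ne (Finset.ne_of_mem_erase hi), Function.update_of_ne (Finset.ne_of_mem_erase hi)]


/-- kill a variable, as an `A`-algebra map -/
noncomputable def killA (k : Fin d) : MvPolynomial (Fin d) S →ₐ[A] MvPolynomial (Fin d) S :=
  (kill (R := S) k).restrictScalars A

@[simp] theorem killA_apply (k : Fin d) (q : MvPolynomial (Fin d) S) :
    killA (A := A) k q = kill k q := rfl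

theorem killA_ι (k : Fin d) (y : S ⊗[A] B) :
    Algebra.TensorProduct.map (killA (A := A) k) (AlgHom.id A B)
      (Algebra.TensorProduct.map (cS (A := A) S d) (AlgHom.id A B) y) =
      Algebra.TensorProduct.map (cS (A := A) S d) (AlgHom.id A B) y := by
  rw [← AlgHom.comp_apply, ← Algebra.TensorProduct.map_comp]
  congr 2
  exact AlgHom.ext fun s => by simp [kill_C]

theorem killA_E0 (x : Fin d → S ⊗[A] B) (k : Fin d) :
    Algebra.TensorProduct.map (killA (A := A) k) (AlgHom.id A B) (E (Function.update x k 0)) =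
      E (Function.update x k 0) := by
  rw [E, map_sum]
  refine Finset.sum_congr rfl fun i _ => ?_
  rw [map_mul, killA_ι, Algebra.TensorProduct.map_tmul, killA_apply]
  by_cases hi : i = k
  · subst hi
    simp
  · rw [kill_X_ne k hi]
    simp

open Polynomial in
theorem cfS_split (k : Fin d) (G : (MvPolynomial (Fin d) S)[X] ⊗[A] C) :
    cfS S d (m₁ d) (Algebra.TensorProduct.map (evl (A := A) (MvPolynomial.X k : MvPolynomial (Fin d) S))
        (AlgHom.id A C) G) =
      cfS S d (m₁ d) (Algebra.TensorProduct.map (evl (A := A) (0 : MvPolynomial (Fin d) S))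
        (AlgHom.id A C) G) +
      cfS S d (m₁ d) (Algebra.TensorProduct.map
        ((evl (A := A) (MvPolynomial.X k : MvPolynomial (Fin d) S)).comp
          (Polynomial.mapAlgHom (killA (A := A) k))) (AlgHom.id A C) G) := by
  induction G using TensorProduct.induction_on with
  | zero => simp
  | tmul p c =>
    simp only [Algebra.TensorProduct.map_tmul, cfS_tmul, AlgHom.coe_id, id_eq, AlgHom.comp_apply,
      evl_apply, Polynomial.coe_mapAlgHom]
    rw [← TensorProduct.add_tmul]
    congr 1
    exact coeff_eval_split k (m₁ d) (m₁_apply k) p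
  | add g₁ g₂ h₁ h₂ =>
    simp only [map_add, h₁, h₂]
    abel

open Polynomial in
theorem pol_update_add (γ : B →ₚₗ[A] C) (x : Fin d → S ⊗[A] B) (k : Fin d) (u v : S ⊗[A] B) :
    pol γ (Function.update x k (u + v)) =
      pol γ (Function.update x k u) + pol γ (Function.update x k v) := by
  set ιT : MvPolynomial (Fin d) S ⊗[A] B →ₐ[A] (MvPolynomial (Fin d) S)[X] ⊗[A] B :=
    Algebra.TensorProduct.map (cst (A := A) (MvPolynomial (Fin d) S)) (AlgHom.id A B) with hιT
  set Et : (MvPolynomial (Fin d) S)[X] ⊗[A] B := ιT (E (Function.update x k u)) +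
    ((Polynomial.X : (MvPolynomial (Fin d) S)[X]) ⊗ₜ[A] (1 : B)) *
      ιT (Algebra.TensorProduct.map (cS (A := A) S d) (AlgHom.id A B) v) with hEt
  have hει : ∀ (c : MvPolynomial (Fin d) S) (y : MvPolynomial (Fin d) S ⊗[A] B),
      Algebra.TensorProduct.map (evl (A := A) c) (AlgHom.id A B) (ιT y) = y := by
    intro c y
    rw [hιT, ← AlgHom.comp_apply, ← Algebra.TensorProduct.map_comp]
    have : (evl (A := A) c).comp (cst (A := A) (MvPolynomial (Fin d) S)) = AlgHom.id A _ :=
      AlgHom.ext fun s => by simp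
    rw [this]
    simp
  have hκι : ∀ (y : MvPolynomial (Fin d) S ⊗[A] B),
      Algebra.TensorProduct.map (Polynomial.mapAlgHom (killA (A := A) k)) (AlgHom.id A B) (ιT y) =
        ιT (Algebra.TensorProduct.map (killA (A := A) k) (AlgHom.id A B) y) := by
    intro y
    rw [hιT, ← AlgHom.comp_apply, ← AlgHom.comp_apply, ← Algebra.TensorProduct.map_comp,
      ← Algebra.TensorProduct.map_comp]
    congr 2
    exact AlgHom.ext fun s => by simp
  have h1 : Algebra.TensorProduct.map (evl (A := A) (MvPolynomial.X k : MvPolynomial (Fin d) S))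
      (AlgHom.id A B) Et = E (Function.update x k (u + v)) := by
    rw [hEt, map_add, map_mul, hει, hει, Algebra.TensorProduct.map_tmul, E_update x k (u + v),
      E_update x k u, map_add, mul_add]
    simp only [evl_apply, Polynomial.eval_X, map_one]
    abel
  have h0 : Algebra.TensorProduct.map (evl (A := A) (0 : MvPolynomial (Fin d) S))
      (AlgHom.id A B) Et = E (Function.update x k u) := by
    rw [hEt, map_add, map_mul, hει, hει, Algebra.TensorProduct.map_tmul]
    simp
  have h2 : Algebra.TensorProduct.map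
      ((evl (A := A) (MvPolynomial.X k : MvPolynomial (Fin d) S)).comp
        (Polynomial.mapAlgHom (killA (A := A) k))) (AlgHom.id A B) Et =
      E (Function.update x k v) := by
    have hcomp : Algebra.TensorProduct.map
        ((evl (A := A) (MvPolynomial.X k : MvPolynomial (Fin d) S)).comp
          (Polynomial.mapAlgHom (killA (A := A) k))) (AlgHom.id A B) Et =
        Algebra.TensorProduct.map (evl (A := A) (MvPolynomial.X k : MvPolynomial (Fin d) S))
          (AlgHom.id A B) (Algebra.TensorProduct.map (Polynomial.mapAlgHom (killA (A := A) k))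
            (AlgHom.id A B) Et) := by
      rw [← AlgHom.comp_apply, ← Algebra.TensorProduct.map_comp]
      simp
    have hκE : Algebra.TensorProduct.map (killA (A := A) k) (AlgHom.id A B)
        (E (Function.update x k u)) = E (Function.update x k 0) := by
      rw [E_update x k u, map_add, map_mul, killA_E0, killA_ι, Algebra.TensorProduct.map_tmul,
        killA_apply, kill_X_self]
      simp
    rw [hcomp, hEt, map_add, map_mul, hκι, hκι, killA_ι, hκE, Algebra.TensorProduct.map_tmul,
      map_add, map_mul, hει, hει, Algebra.TensorProduct.map_tmul, E_update x k v]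
    simp
  rw [pol, pol, pol, ← h1, ← h0, ← h2, compat, compat, compat]
  exact cfS_split k _


/-- polarisation as an additive multilinear map -/
noncomputable def polN (γ : B →ₚₗ[A] C) : MultilinearMap ℕ (fun _ : Fin d => S ⊗[A] B) (S ⊗[A] C) :=
  MultilinearMap.mk' (pol γ) (fun m i x y => pol_update_add γ m i x y)
    (fun m i c x => by
      induction c with
      | zero =>
        rw [zero_smul, zero_smul]
        have h := pol_update_add γ m i 0 0
        rw [add_zero] at h
        exact left_eq_add.1 h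
      | succ n ih => rw [succ_nsmul, pol_update_add, ih, succ_nsmul])

@[simp] theorem polN_apply (γ : B →ₚₗ[A] C) (x : Fin d → S ⊗[A] B) : polN γ x = pol γ x := rfl

/-- the fully polarised value at a family of elements of `B` -/
noncomputable def cβ (γ : B →ₚₗ[A] C) (β : Fin d → B) : C :=
  cf (m₁ d) (γ.toFun' (MvPolynomial (Fin d) A) (gen (MvPolynomial (Fin d) A) X β))

theorem cfS_scale (σ : Fin d → S) (m : Fin d →₀ ℕ) (G : MvPolynomial (Fin d) A ⊗[A] C) :
    cfS S d m (Algebra.TensorProduct.map (scale (A := A) σ) (AlgHom.id A C) G) =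
      (m.prod fun i e => σ i ^ e) ⊗ₜ[A] cf m G := by
  induction G using TensorProduct.induction_on with
  | zero => simp
  | tmul p c =>
    rw [Algebra.TensorProduct.map_tmul, cfS_tmul, coeff_scale, cf_tmul, AlgHom.coe_id, id_eq,
      Algebra.algebraMap_eq_smul_one, mul_smul_comm, mul_one, TensorProduct.smul_tmul]
  | add g₁ g₂ h₁ h₂ => rw [map_add, map_add, h₁, h₂, map_add, TensorProduct.tmul_add]

theorem pol_tmul (γ : B →ₚₗ[A] C) (σ : Fin d → S) (β : Fin d → B) :
    pol γ (fun i => σ i ⊗ₜ[A] β i) = (∏ i, σ i) ⊗ₜ[A] cβ γ β := by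
  have hE : E (fun i => σ i ⊗ₜ[A] β i) =
      Algebra.TensorProduct.map (scale (A := A) σ) (AlgHom.id A B)
        (gen (MvPolynomial (Fin d) A) X β) := by
    rw [E, gen, map_sum]
    refine Finset.sum_congr rfl fun i _ => ?_
    rw [Algebra.TensorProduct.map_tmul, Algebra.TensorProduct.map_tmul,
      Algebra.TensorProduct.tmul_mul_tmul, one_mul, cS_apply, mul_comm]
    simp [scale]
  rw [pol, hE, compat, cfS_scale, cβ, Finsupp.prod_fintype _ _ (fun i => pow_zero _)]
  simp

theorem sum_eq (γ : B →ₚₗ[A] C) (hγ : PolLaw.IsHomog γ d) {n : ℕ} (s : Fin n → S) (b : Fin n → B) :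
    (∑ c : Fin d → Fin n, (∏ i, s (c i)) ⊗ₜ[A] cβ γ (fun i => b (c i))) =
      d.factorial • γ.toFun' S (gen S s b) := by
  rw [← pol_diag γ hγ, ← polN_apply, gen, MultilinearMap.map_sum]
  refine Finset.sum_congr rfl fun c _ => ?_
  rw [polN_apply, pol_tmul]

end S

section polA

variable (d : ℕ)

theorem one_tmul_cβ (γ : B →ₚₗ[A] C) (σ : Fin d → A) (β : Fin d → B) :
    (∏ i, σ i) • cβ γ β = TensorProduct.lid A C (pol γ (fun i => σ i ⊗ₜ[A] β i)) := by
  rw [pol_tmul]
  simp

/-- the polarisation as an `A`-multilinear map -/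
noncomputable def polA (γ : B →ₚₗ[A] C) : MultilinearMap A (fun _ : Fin d => B) C :=
  MultilinearMap.mk' (cβ γ)
    (fun β k u v => by
      have h := one_tmul_cβ d γ (fun _ => 1)
      simp only [Finset.prod_const_one, one_smul] at h
      rw [h, h, h, ← map_add]
      congr 1
      have e1 : ∀ w : B, (fun i => (1 : A) ⊗ₜ[A] (Function.update β k w) i) =
          Function.update (fun i => (1 : A) ⊗ₜ[A] β i) k ((1 : A) ⊗ₜ[A] w) := by
        intro w
        funext i
        by_cases hi : i = k
        · subst hi; simp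
        · simp [Function.update_of_ne hi]
      rw [e1, e1, e1, TensorProduct.tmul_add, pol_update_add])
    (fun β k a u => by
      have h := one_tmul_cβ d γ (fun _ => 1)
      simp only [Finset.prod_const_one, one_smul] at h
      rw [h]
      have e1 : (fun i => (1 : A) ⊗ₜ[A] (Function.update β k (a • u)) i) =
          (fun i => (Function.update (fun _ => (1 : A)) k a) i ⊗ₜ[A] (Function.update β k u) i) := by
        funext i
        by_cases hi : i = k
        · subst hi
          simp only [Function.update_self]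
          rw [TensorProduct.tmul_smul, TensorProduct.smul_tmul', smul_eq_mul, mul_one]
        · simp [Function.update_of_ne hi]
      rw [e1, ← one_tmul_cβ]
      congr 1
      rw [Finset.prod_update_of_mem (Finset.mem_univ k)]
      simp)

@[simp] theorem polA_apply (γ : B →ₚₗ[A] C) (β : Fin d → B) : polA d γ β = cβ γ β := rfl

/-- the polarisation as a linear map on the tensor power -/
noncomputable def Pol (γ : B →ₚₗ[A] C) : (⨂[A] _ : Fin d, B) →ₗ[A] C :=
  PiTensorProduct.lift (polA d γ)

@[simp] theorem Pol_tprod (γ : B →ₚₗ[A] C) (β : Fin d → B) :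
    Pol d γ (PiTensorProduct.tprod A β) = cβ γ β := by
  rw [Pol, PiTensorProduct.lift.tprod, polA_apply]

end polA

end Groth.Agent.Helper4.Polar
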