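import Mathlib

/-!
# Combinatorial lemmas on the multilinear coefficient of a polynomial (helper4)
-/

set_option autoImplicit false
open MvPolynomial

namespace Groth.Agent.Helper4.PolarComb

variable {d : ℕ}

/-- the exponent `(1,…,1)` -/
noncomputable def m₁ (d : ℕ) : Fin d →₀ ℕ := Finsupp.equivFunOnFinite.symm (fun _ => 1)

@[simp] theorem m₁_apply (i : Fin d) : m₁ d i = 1 := rfl

theorem sum_single_eq_m₁_iff (c : Fin d → Fin d) :
    (∑ i, Finsupp.single (c i) 1) = m₁ d ↔ Function.Bijective c := by
  classical
  constructor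
  · intro h
    have hsurj : Function.Surjective c := by
      intro j
      by_contra hj
      push Not at hj
      have := DFunLike.congr_fun h j
      rw [Finsupp.finset_sum_apply, m₁_apply] at this
      rw [Finset.sum_eq_zero] at this
      · omega
      · intro i _
        rw [Finsupp.single_apply, if_neg (hj i)]
    exact ⟨Finite.injective_iff_surjective.2 hsurj, hsurj⟩
  · intro h
    ext j
    rw [Finsupp.finset_sum_apply, m₁_apply]
    obtain ⟨i₀, hi₀⟩ := h.2 j
    rw [Finset.sum_eq_single i₀]
    · rw [hi₀, Finsupp.single_eq_same]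
    · intro i _ hi
      rw [Finsupp.single_apply, if_neg]
      intro hc
      exact hi (h.1 (hc.trans hi₀.symm))
    · intro hn
      exact absurd (Finset.mem_univ _) hn

theorem coeff_m₁_prod_X {R : Type*} [CommSemiring R] (c : Fin d → Fin d) :
    coeff (m₁ d) (∏ i, (X (c i) : MvPolynomial (Fin d) R)) =
      if Function.Bijective c then 1 else 0 := by
  classical
  have : (∏ i, (X (c i) : MvPolynomial (Fin d) R)) = monomial (∑ i, Finsupp.single (c i) 1) 1 := by
    rw [monomial_sum_one]
    rfl
  rw [this, coeff_monomial]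
  simp only [sum_single_eq_m₁_iff]

theorem sum_bijective_eq_sum_perm {M : Type*} [AddCommMonoid M] (f : (Fin d → Fin d) → M) :
    (∑ c : Fin d → Fin d, if Function.Bijective c then f c else 0) =
      ∑ σ : Equiv.Perm (Fin d), f σ := by
  classical
  rw [← Finset.sum_filter]
  refine Finset.sum_bij (fun p h => Equiv.ofBijective p (Finset.mem_filter.1 h).2)
    (fun _ _ => Finset.mem_univ _) (fun _ _ _ _ h => by injection h)
    (fun b _ => ⟨b, Finset.mem_filter.2 ⟨Finset.mem_univ _, b.bijective⟩,
      Equiv.coe_fn_injective rfl⟩) (fun _ _ => rfl)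

theorem coeff_m₁_sum_X_pow {R : Type*} [CommSemiring R] :
    coeff (m₁ d) ((∑ i : Fin d, (X i : MvPolynomial (Fin d) R)) ^ d) = (d.factorial : R) := by
  classical
  have h1 : (∑ i : Fin d, (X i : MvPolynomial (Fin d) R)) ^ d =
      ∏ _k : Fin d, ∑ i : Fin d, (X i : MvPolynomial (Fin d) R) := by
    rw [Finset.prod_const, Finset.card_univ, Fintype.card_fin]
  rw [h1, Finset.prod_univ_sum, Fintype.piFinset_univ, coeff_sum]
  simp only [coeff_m₁_prod_X]
  rw [sum_bijective_eq_sum_perm (fun _ => (1 : R))]
  simp [Fintype.card_perm]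

end Groth.Agent.Helper4.PolarComb
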