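import Groth.Prelude.Def_PolLaw
import Mathlib

/-!
# Kernel of the `p`-th power law in characteristic `p` (helper4)
-/

set_option autoImplicit false
universe u
open scoped TensorProduct

namespace Groth.Agent.Helper4.PowLawKer

theorem pow_eq_zero_of_mem_ker {A : Type u} [CommRing A] (p : ℕ) (hp : p ≠ 0) (b : A)
    (hb : b ∈ PolLaw.ker (PolLaw.MulLaw.pow A A p).law) : b ^ p = 0 := by
  have h := hb A 0 1
  have h' : ((0 : A ⊗[A] A) + 1 * ((1 : A) ⊗ₜ[A] b)) ^ p = (0 : A ⊗[A] A) ^ p := h
  rw [zero_add, one_mul, zero_pow hp, Algebra.TensorProduct.tmul_pow, one_pow] at h'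
  have h2 := congrArg (Algebra.TensorProduct.lid A A) h'
  rw [Algebra.TensorProduct.lid_tmul, map_zero, one_smul] at h2
  exact h2

theorem mem_ker_of_pow_eq_zero {k : Type u} [Field k] (p : ℕ) [Fact p.Prime] [CharP k p]
    {A : Type u} [CommRing A] [Algebra k A] (a : A) (ha : a ^ p = 0) :
    a ∈ PolLaw.ker (PolLaw.MulLaw.pow A A p).law := by
  intro S _ _ x w
  show (x + w * _) ^ p = x ^ p
  rcases subsingleton_or_nontrivial (S ⊗[A] A) with hs | hn
  · exact Subsingleton.elim _ _
  · haveI : CharP (S ⊗[A] A) p :=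
      charP_of_injective_ringHom (f := (algebraMap A (S ⊗[A] A)).comp (algebraMap k A))
        (RingHom.injective _) p
    rw [add_pow_char, mul_pow, Algebra.TensorProduct.tmul_pow, ha, TensorProduct.tmul_zero,
      mul_zero, add_zero]

end Groth.Agent.Helper4.PowLawKer
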