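import Groth.Prelude.Def_ProEtS
import Mathlib
set_option autoImplicit false
universe u
open CategoryTheory CategoryTheory.Limits AlgebraicGeometry Opposite

namespace Groth.Agent.Helper4.ProEtCont
variable (X : Scheme.{u})

set_option backward.isDefEq.respectTransparency.types false in
noncomputable instance preservesFiniteLimits_eps : PreservesFiniteLimits (ProEtS.eps X) := by
  have h : PreservesFiniteLimits (ProEtS.eps X ⋙ Scheme.ProEt.forget X) := by
    have : ProEtS.eps X ⋙ Scheme.ProEt.forget X = Scheme.Etale.forget X := rfl
    rw [this]
    infer_instance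
  exact preservesFiniteLimits_of_reflects_of_preserves (ProEtS.eps X) (Scheme.ProEt.forget X)

noncomputable instance flat_eps : RepresentablyFlat (ProEtS.eps X) :=
  flat_of_preservesFiniteLimits _

set_option backward.isDefEq.respectTransparency.types false in
theorem coverPreserving_eps :
    CoverPreserving X.smallEtaleTopology (Scheme.ProEt.topology X) (ProEtS.eps X) := by
  constructor
  intro U S hS
  have eX : X.smallEtaleTopology = (X.smallPretopology (P := EtCoh.etaleMP) (Q := EtCoh.etaleMP)).toGrothendieck :=
    Scheme.smallGrothendieckTopology_eq_toGrothendieck_smallPretopology X le_rfl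
  rw [eX] at hS
  replace hS := (Scheme.mem_toGrothendieck_smallPretopology U S).1 hS
  choose V f y hf hfe hy using hS
  have hmem : Presieve.ofArrows (fun x => (ProEtS.eps X).obj (V x)) (fun x => (ProEtS.eps X).map (f x))
      ∈ Scheme.ProEt.precoverage X ((ProEtS.eps X).obj U) := by
    rw [Scheme.ProEt.precoverage, Precoverage.mem_comap_iff, Presieve.map_ofArrows]
    apply Scheme.etalePrecoverage_le_proetalePrecoverage
    rw [Scheme.etalePrecoverage, Scheme.ofArrows_mem_precoverage_iff]
    refine ⟨fun x => ⟨x, y x, hy x⟩, fun x => hfe x⟩
  refine (Scheme.ProEt.topology X).superset_covering ?_ (Precoverage.generate_mem_toGrothendieck hmem)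
  rw [Sieve.generate_le_iff]
  rintro _ _ ⟨x⟩
  exact Sieve.image_mem_functorPushforward _ _ (hf x)

set_option backward.isDefEq.respectTransparency.types false in
theorem epsCont : ProEtS.EpsCont X :=
  Functor.isContinuous_of_coverPreserving (compatiblePreservingOfFlat _ _) (coverPreserving_eps X)

end Groth.Agent.Helper4.ProEtCont
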