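import Mathlib
import Groth.Agent.Helper4.McCoy

/-! Rings in which every proper f.g. ideal has a nonzero annihilator: injective maps from
finite free modules to free modules split. -/

namespace Groth.Agent.Helper4.PropertyP

open Matrix

universe u

variable {R : Type u} [CommRing R]

theorem exists_leftInverse_fin
    (hP : ∀ I : Ideal R, I.FG → I ≠ ⊤ → I.annihilator ≠ ⊥) {m n : ℕ}
    (φ : (Fin m → R) →ₗ[R] (Fin n → R)) (hφ : Function.Injective φ) :
    ∃ w : (Fin n → R) →ₗ[R] (Fin m → R), w ∘ₗ φ = LinearMap.id := by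
  classical
  set M := LinearMap.toMatrix' φ with hM
  have hMφ : Matrix.mulVecLin M = φ := by
    rw [← Matrix.toLin'_apply', hM, Matrix.toLin'_toMatrix']
  obtain ⟨W, hW⟩ := McCoy.exists_leftInverse_matrix hP M (by rw [hMφ]; exact hφ)
  refine ⟨Matrix.mulVecLin W, ?_⟩
  rw [← hMφ, ← Matrix.mulVecLin_mul, hW, Matrix.mulVecLin_one]

theorem exists_leftInverse_fintype
    (hP : ∀ I : Ideal R, I.FG → I ≠ ⊤ → I.annihilator ≠ ⊥) {ι κ : Type*} [Fintype ι] [Fintype κ]
    (φ : (ι → R) →ₗ[R] (κ → R)) (hφ : Function.Injective φ) :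
    ∃ w : (κ → R) →ₗ[R] (ι → R), w ∘ₗ φ = LinearMap.id := by
  classical
  let e₁ : (Fin (Fintype.card ι) → R) ≃ₗ[R] (ι → R) :=
    LinearEquiv.funCongrLeft R R (Fintype.equivFin ι)
  let e₂ : (κ → R) ≃ₗ[R] (Fin (Fintype.card κ) → R) :=
    LinearEquiv.funCongrLeft R R (Fintype.equivFin κ).symm
  obtain ⟨w, hw⟩ := exists_leftInverse_fin hP (e₂.toLinearMap ∘ₗ φ ∘ₗ e₁.toLinearMap)
    (by
      simp only [LinearMap.coe_comp, LinearEquiv.coe_coe]
      exact e₂.injective.comp (hφ.comp e₁.injective))
  refine ⟨e₁.toLinearMap ∘ₗ w ∘ₗ e₂.toLinearMap, ?_⟩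
  apply LinearMap.ext
  intro x
  have := LinearMap.congr_fun hw (e₁.symm x)
  simp only [LinearMap.coe_comp, LinearEquiv.coe_coe, Function.comp_apply,
    LinearEquiv.apply_symm_apply, LinearMap.id_coe, id_eq] at this ⊢
  rw [this, LinearEquiv.apply_symm_apply]

/-- An injective map from a finite free module to a free module has a left inverse, under (P). -/
theorem exists_leftInverse_of_free
    (hP : ∀ I : Ideal R, I.FG → I ≠ ⊤ → I.annihilator ≠ ⊥)
    {N₀ P : Type*} [AddCommGroup N₀] [Module R N₀] [Module.Free R N₀] [Module.Finite R N₀]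
    [AddCommGroup P] [Module R P] [Module.Free R P]
    (v : N₀ →ₗ[R] P) (hv : Function.Injective v) :
    ∃ w : P →ₗ[R] N₀, w ∘ₗ v = LinearMap.id := by
  classical
  let b := Module.Free.chooseBasis R N₀
  let c := Module.Free.chooseBasis R P
  let J₀ : Finset (Module.Free.ChooseBasisIndex R P) :=
    Finset.univ.biUnion fun i => (c.repr (v (b i))).support
  -- every `v x` has coordinates supported in `J₀`
  have hsupp : ∀ x : N₀, c.repr (v x) ∈ Finsupp.supported R R (J₀ : Set _) := by
    have hle : (⊤ : Submodule R N₀) ≤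
        (Finsupp.supported R R (J₀ : Set _)).comap (c.repr.toLinearMap ∘ₗ v) := by
      rw [← b.span_eq, Submodule.span_le]
      rintro _ ⟨i, rfl⟩
      simp only [Submodule.comap_coe, Set.mem_preimage, LinearMap.coe_comp, LinearEquiv.coe_coe,
        Function.comp_apply, SetLike.mem_coe, Finsupp.mem_supported]
      intro j hj
      simp only [J₀, Finset.coe_biUnion, Finset.coe_univ, Set.mem_univ, Set.iUnion_true,
        Set.mem_iUnion]
      exact ⟨i, hj⟩
    intro x
    exact hle (Submodule.mem_top (x := x))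
  -- coordinate projection to `J₀`
  let ψ : P →ₗ[R] (J₀ → R) :=
    { toFun := fun p j => c.repr p j
      map_add' := fun p q => by ext j; simp
      map_smul' := fun r p => by ext j; simp }
  have hψv : Function.Injective (ψ ∘ₗ v ∘ₗ b.equivFun.symm.toLinearMap) := by
    rw [← LinearMap.ker_eq_bot, LinearMap.ker_eq_bot']
    intro x hx
    have h1 : c.repr (v (b.equivFun.symm x)) = 0 := by
      ext j
      by_cases hj : j ∈ J₀
      · have := congrFun hx ⟨j, hj⟩
        simpa [ψ] using this
      · have := hsupp (b.equivFun.symm x)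
        rw [Finsupp.mem_supported'] at this
        simpa using this j hj
    have h2 : v (b.equivFun.symm x) = 0 := (LinearEquiv.map_eq_zero_iff _).mp h1
    have h3 : b.equivFun.symm x = 0 := by
      apply hv
      rw [h2, map_zero]
    exact (LinearEquiv.map_eq_zero_iff _).mp h3
  obtain ⟨w, hw⟩ := exists_leftInverse_fintype hP _ hψv
  refine ⟨b.equivFun.symm.toLinearMap ∘ₗ w ∘ₗ ψ, ?_⟩
  apply LinearMap.ext
  intro x
  have := LinearMap.congr_fun hw (b.equivFun x)
  simp only [LinearMap.coe_comp, LinearEquiv.coe_coe, Function.comp_apply,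
    LinearEquiv.symm_apply_apply, LinearMap.id_coe, id_eq] at this ⊢
  rw [this, LinearEquiv.symm_apply_apply]


section vmap

variable {N M F F₂ : Type*} [AddCommGroup N] [Module R N] [AddCommGroup M] [Module R M]
  [AddCommGroup F] [Module R F] [AddCommGroup F₂] [Module R F₂]
  (π : F →ₗ[R] N) (s : N →ₗ[R] F)
  (ρ : F₂ →ₗ[R] M) (t : M →ₗ[R] F₂)
  (u : N →ₗ[R] M)

/-- The auxiliary map `F → F₂ × F`, `x ↦ (t (u (π x)), x - s (π x))`. -/
def vmap : F →ₗ[R] (F₂ × F) := (t ∘ₗ u ∘ₗ π).prod (LinearMap.id - s ∘ₗ π)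

include ρ in
theorem vmap_injective (ht : ρ ∘ₗ t = LinearMap.id) (hu : Function.Injective u) :
    Function.Injective (vmap π s t u) := by
  rw [← LinearMap.ker_eq_bot, LinearMap.ker_eq_bot']
  intro x hx
  have h1 : t (u (π x)) = 0 := by
    have := congrArg Prod.fst hx
    simpa [vmap] using this
  have h2 : x - s (π x) = 0 := by
    have := congrArg Prod.snd hx
    simpa [vmap] using this
  have h3 : u (π x) = 0 := by
    have := LinearMap.congr_fun ht (u (π x))
    simp only [LinearMap.coe_comp, Function.comp_apply, LinearMap.id_coe, id_eq] at this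
    rw [← this, h1, map_zero]
  have h4 : π x = 0 := hu (by rw [h3, map_zero])
  rw [h4, map_zero, sub_zero] at h2
  exact h2

theorem vmap_comp_s (hs : π ∘ₗ s = LinearMap.id) :
    vmap π s t u ∘ₗ s = LinearMap.inl R F₂ F ∘ₗ t ∘ₗ u := by
  apply LinearMap.ext
  intro n
  have := LinearMap.congr_fun hs n
  simp only [LinearMap.coe_comp, Function.comp_apply, LinearMap.id_coe, id_eq] at this
  simp [vmap, this]

end vmap

/-- Under (P), an injective map from a finite projective module to a projective module has a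
left inverse. -/
theorem exists_leftInverse_projective
    (hP : ∀ I : Ideal R, I.FG → I ≠ ⊤ → I.annihilator ≠ ⊥)
    {N M : Type*} [AddCommGroup N] [Module R N] [Module.Finite R N] [Module.Projective R N]
    [AddCommGroup M] [Module R M] [Module.Projective R M]
    (u : N →ₗ[R] M) (hu : Function.Injective u) :
    ∃ r : M →ₗ[R] N, r ∘ₗ u = LinearMap.id := by
  obtain ⟨a, π, hπ⟩ := Module.Finite.exists_fin' R N
  obtain ⟨s, hs⟩ := Module.projective_lifting_property π LinearMap.id hπ
  obtain ⟨t, ht⟩ := (Module.projective_def' (R := R) (P := M)).mp inferInstance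
  obtain ⟨w, hw⟩ := exists_leftInverse_of_free hP (vmap π s t u)
    (vmap_injective π s _ t u ht hu)
  refine ⟨π ∘ₗ w ∘ₗ LinearMap.inl R _ _ ∘ₗ t, ?_⟩
  have h1 := vmap_comp_s π s t u hs
  calc (π ∘ₗ w ∘ₗ LinearMap.inl R _ _ ∘ₗ t) ∘ₗ u
      = π ∘ₗ w ∘ₗ (LinearMap.inl R _ _ ∘ₗ t ∘ₗ u) := by simp only [LinearMap.comp_assoc]
    _ = π ∘ₗ (w ∘ₗ vmap π s t u) ∘ₗ s := by rw [← h1]; simp only [LinearMap.comp_assoc]
    _ = LinearMap.id := by rw [hw, LinearMap.id_comp, hs]

open TensorProduct in
theorem exists_finset_supported {N Q : Type*} [AddCommGroup Q] [Module R Q]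
    (z : (N →₀ R) ⊗[R] Q) :
    ∃ (S : Finset N) (z₀ : (Finsupp.supported R R (S : Set N)) ⊗[R] Q),
      (Finsupp.supported R R (S : Set N)).subtype.rTensor Q z₀ = z := by
  classical
  induction z using TensorProduct.induction_on with
  | zero => exact ⟨∅, 0, map_zero _⟩
  | tmul x q =>
    refine ⟨x.support, (⟨x, ?_⟩ : Finsupp.supported R R (x.support : Set N)) ⊗ₜ q, ?_⟩
    · rw [Finsupp.mem_supported]
    · simp
  | add z₁ z₂ h₁ h₂ =>
    obtain ⟨S₁, w₁, hw₁⟩ := h₁
    obtain ⟨S₂, w₂, hw₂⟩ := h₂
    have hle₁ : Finsupp.supported R R (S₁ : Set N) ≤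
        Finsupp.supported R R ((S₁ ∪ S₂ : Finset N) : Set N) :=
      Finsupp.supported_mono (by simp)
    have hle₂ : Finsupp.supported R R (S₂ : Set N) ≤
        Finsupp.supported R R ((S₁ ∪ S₂ : Finset N) : Set N) :=
      Finsupp.supported_mono (by simp)
    refine ⟨S₁ ∪ S₂, (Submodule.inclusion hle₁).rTensor Q w₁ +
      (Submodule.inclusion hle₂).rTensor Q w₂, ?_⟩
    rw [map_add, ← LinearMap.comp_apply, ← LinearMap.comp_apply, ← LinearMap.rTensor_comp,
      ← LinearMap.rTensor_comp, Submodule.subtype_comp_inclusion, Submodule.subtype_comp_inclusion,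
      hw₁, hw₂]

open TensorProduct in
/-- Under (P), an injective map between projective modules is universally injective. -/
theorem rTensor_injective_of_projective
    (hP : ∀ I : Ideal R, I.FG → I ≠ ⊤ → I.annihilator ≠ ⊥)
    {N M Q : Type*} [AddCommGroup N] [Module R N] [Module.Projective R N]
    [AddCommGroup M] [Module R M] [Module.Projective R M] [AddCommGroup Q] [Module R Q]
    (u : N →ₗ[R] M) (hu : Function.Injective u) :
    Function.Injective (u.rTensor Q) := by
  classical
  obtain ⟨s, hs⟩ := (Module.projective_def' (R := R) (P := N)).mp inferInstance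
  obtain ⟨t, ht⟩ := (Module.projective_def' (R := R) (P := M)).mp inferInstance
  set π := Finsupp.linearCombination R (id : N → N) with hπ
  have hv := vmap_injective π s _ t u ht hu
  have hvs := vmap_comp_s π s t u hs
  rw [injective_iff_map_eq_zero]
  intro z hz
  have hz' : (vmap π s t u).rTensor Q (s.rTensor Q z) = 0 := by
    rw [← LinearMap.comp_apply, ← LinearMap.rTensor_comp, hvs, LinearMap.rTensor_comp,
      LinearMap.comp_apply, LinearMap.rTensor_comp, LinearMap.comp_apply, hz, map_zero, map_zero]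
  obtain ⟨S, z₀, hz₀⟩ := exists_finset_supported (s.rTensor Q z)
  haveI : Module.Free R (Finsupp.supported R R (S : Set N)) :=
    Module.Free.of_equiv (Finsupp.supportedEquivFinsupp (M := R) (R := R) (S : Set N)).symm
  haveI : Module.Finite R (Finsupp.supported R R (S : Set N)) :=
    Module.Finite.equiv (Finsupp.supportedEquivFinsupp (M := R) (R := R) (S : Set N)).symm
  obtain ⟨w, hw⟩ := exists_leftInverse_of_free hP (N₀ := Finsupp.supported R R (S : Set N))
    (vmap π s t u ∘ₗ (Finsupp.supported R R (S : Set N)).subtype)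
    (by
      rw [LinearMap.coe_comp]
      exact hv.comp (Submodule.injective_subtype _))
  have hz₀0 : z₀ = 0 := by
    rw [← hz₀] at hz'
    have := congrArg (w.rTensor Q) hz'
    rw [← LinearMap.comp_apply, ← LinearMap.comp_apply, ← LinearMap.rTensor_comp,
      ← LinearMap.rTensor_comp, LinearMap.comp_assoc, hw, LinearMap.rTensor_id,
      LinearMap.id_apply, map_zero] at this
    exact this
  rw [hz₀0, map_zero] at hz₀
  have := congrArg (π.rTensor Q) hz₀
  rw [map_zero, ← LinearMap.comp_apply, ← LinearMap.rTensor_comp, hs, LinearMap.rTensor_id,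
    LinearMap.id_apply] at this
  exact this.symm

end Groth.Agent.Helper4.PropertyP
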