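import Groth.Agent.Helper4.LocIntConn
import Groth.Agent.Helper4.GeomIrrSch
import Mathlib

set_option autoImplicit false
universe u
open CategoryTheory CategoryTheory.Limits AlgebraicGeometry Opposite TopologicalSpace

namespace Groth.Agent.Helper4.PtIntCard

open Groth.Agent.Helper4.DomOpen Groth.Agent.Helper4.LocIntConn

section top
variable {Y : Type*} [TopologicalSpace Y]

/-- The connected component containing an irreducible component. -/
noncomputable def compMap (Z : irreducibleComponents Y) : ConnectedComponents Y :=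
  ConnectedComponents.mk Z.2.1.nonempty.some

theorem compMap_eq (Z : irreducibleComponents Y) (y : Y) (hy : y ∈ Z.1) :
    compMap Z = ConnectedComponents.mk y := by
  unfold compMap
  rw [ConnectedComponents.coe_eq_coe']
  exact Z.2.1.isPreirreducible.isPreconnected.subset_connectedComponent hy
    Z.2.1.nonempty.some_mem

theorem compMap_surjective : Function.Surjective (compMap (Y := Y)) := by
  intro c
  obtain ⟨y, rfl⟩ := ConnectedComponents.surjective_coe c
  exact ⟨⟨irreducibleComponent y, irreducibleComponent_mem_irreducibleComponents y⟩,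
    compMap_eq _ y mem_irreducibleComponent⟩

theorem compMap_injective_of_isClopen
    (h : ∀ Z ∈ irreducibleComponents Y, IsClopen Z) : Function.Injective (compMap (Y := Y)) := by
  intro Z₁ Z₂ h12
  obtain ⟨y₁, hy₁⟩ := Z₁.2.1.nonempty
  obtain ⟨y₂, hy₂⟩ := Z₂.2.1.nonempty
  rw [compMap_eq Z₁ y₁ hy₁, compMap_eq Z₂ y₂ hy₂, ConnectedComponents.coe_eq_coe'] at h12
  -- y₁ ∈ connectedComponent y₂
  have h1 : connectedComponent y₂ ⊆ Z₁.1 :=
    isPreconnected_connectedComponent.subset_isClopen (h Z₁.1 Z₁.2) ⟨y₁, h12, hy₁⟩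
  have h2 : Z₂.1 ⊆ Z₁.1 :=
    (Z₂.2.1.isPreirreducible.isPreconnected.subset_connectedComponent hy₂).trans h1
  exact Subtype.ext (Set.Subset.antisymm (Z₂.2.2 Z₁.2.1 h2) h2)

theorem card_eq_of_isClopen (h : ∀ Z ∈ irreducibleComponents Y, IsClopen Z) :
    Nat.card (irreducibleComponents Y) = Nat.card (ConnectedComponents Y) :=
  Nat.card_eq_of_bijective _ ⟨compMap_injective_of_isClopen h, compMap_surjective⟩

theorem eq_of_mem_of_card_eq (hfin : (irreducibleComponents Y).Finite)
    (hcard : Nat.card (irreducibleComponents Y) = Nat.card (ConnectedComponents Y))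
    {Z₁ Z₂ : Set Y} (h₁ : Z₁ ∈ irreducibleComponents Y) (h₂ : Z₂ ∈ irreducibleComponents Y)
    (y : Y) (hy₁ : y ∈ Z₁) (hy₂ : y ∈ Z₂) : Z₁ = Z₂ := by
  haveI : Finite (irreducibleComponents Y) := hfin.to_subtype
  have hbij : Function.Bijective (compMap (Y := Y)) :=
    compMap_surjective.bijective_of_nat_card_le hcard.le
  have := hbij.1 ((compMap_eq ⟨Z₁, h₁⟩ y hy₁).trans (compMap_eq ⟨Z₂, h₂⟩ y hy₂).symm)
  exact congrArg Subtype.val this

end top

/-- A reduced scheme in which every point lies on a unique irreducible component has domain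
local rings. -/
theorem isDomain_stalk_of_unique_component {Y : Scheme.{u}} [IsReduced Y]
    (huniq : ∀ (Z₁ Z₂ : Set Y), Z₁ ∈ irreducibleComponents (Y : Type u) →
      Z₂ ∈ irreducibleComponents (Y : Type u) → ∀ y : Y, y ∈ Z₁ → y ∈ Z₂ → Z₁ = Z₂) (y : Y) :
    IsDomain (Y.presheaf.stalk y) := by
  apply isDomain_of_subsingleton_minimalPrimes
  intro 𝔭 h𝔭 𝔮 h𝔮
  obtain ⟨hc₁, hs₁⟩ := minimalPrime_point' y (⟨𝔭, h𝔭.1.1⟩ : PrimeSpectrum _) h𝔭
  obtain ⟨hc₂, hs₂⟩ := minimalPrime_point' y (⟨𝔮, h𝔮.1.1⟩ : PrimeSpectrum _) h𝔮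
  have heq := huniq _ _ hc₁ hc₂ y (specializes_iff_mem_closure.mp hs₁)
    (specializes_iff_mem_closure.mp hs₂)
  have h1 : (Y.fromSpecStalk y) (⟨𝔭, h𝔭.1.1⟩ : PrimeSpectrum _) =
      (Y.fromSpecStalk y) (⟨𝔮, h𝔮.1.1⟩ : PrimeSpectrum _) := by
    have ha : (Y.fromSpecStalk y) (⟨𝔭, h𝔭.1.1⟩ : PrimeSpectrum _) ⤳
        (Y.fromSpecStalk y) (⟨𝔮, h𝔮.1.1⟩ : PrimeSpectrum _) := by
      rw [specializes_iff_closure_subset, heq]
    have hb : (Y.fromSpecStalk y) (⟨𝔮, h𝔮.1.1⟩ : PrimeSpectrum _) ⤳
        (Y.fromSpecStalk y) (⟨𝔭, h𝔭.1.1⟩ : PrimeSpectrum _) := by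
      rw [specializes_iff_closure_subset, heq]
    exact (ha.antisymm hb).eq
  have h2 := (Y.fromSpecStalk y).isEmbedding.injective h1
  exact congrArg PrimeSpectrum.asIdeal h2

variable {k : Type u} [Field k]

/-- Geometric pointwise integrality can be tested on the local rings of the base change to an
algebraically closed field. -/
theorem forall_geomPtIntegralAt_iff {Ω : Type u} [Field Ω] [Algebra k Ω] [IsAlgClosed Ω]
    {X : Scheme.{u}} (f : X ⟶ Spec (CommRingCat.of k)) :
    (∀ x : X, FBase.IsGeomPtIntegralAt f x) ↔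
      ∀ y : ↥(pullback f (Spec.map (CommRingCat.ofHom (algebraMap k Ω)))),
        IsDomain ((pullback f (Spec.map (CommRingCat.ofHom (algebraMap k Ω)))).presheaf.stalk y) := by
  set g := Spec.map (CommRingCat.ofHom (algebraMap k Ω)) with hg
  let q := pullback.snd f g
  constructor
  · intro h y
    apply Groth.Agent.Helper4.GeomBC.isDomain_of_geomPtIntegralAt q y
    intro L _ _
    exact Groth.Agent.Helper4.GeomBC.pOver_bc_of_pOver f
      Groth.Agent.Helper4.GeomBC.desc_isDomain Ω y (fun L _ _ => h _ L) L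
  · intro H x
    obtain ⟨y, hy⟩ := Groth.Agent.Helper4.GeomIrrSch.bc_fst_surjective f Ω x
    haveI : IsDomain ((pullback f g).presheaf.stalk y) := H y
    have h1 := Groth.Agent.Helper4.GeomBC.geomPtIntegralAt_of_isDomain q y
    intro L _ _
    have h2 := Groth.Agent.Helper4.GeomBC.pOver_of_pOver_bc f
      Groth.Agent.Helper4.GeomBC.desc_isDomain Ω y (fun L _ _ => h1 L) L
    rw [hy] at h2
    exact h2

/-- Geometric pointwise integrality in terms of geometric reducedness and the numbers of
irreducible and connected components over an algebraically closed field. -/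
theorem forall_geomPtIntegralAt_iff_card {Ω : Type u} [Field Ω] [Algebra k Ω] [IsAlgClosed Ω]
    {X : Scheme.{u}} (f : X ⟶ Spec (CommRingCat.of k)) [LocallyOfFiniteType f] [QuasiCompact f] :
    (∀ x : X, FBase.IsGeomPtIntegralAt f x) ↔
      (GeometricallyReduced f ∧
        Nat.card ↥(irreducibleComponents
          ↥(pullback f (Spec.map (CommRingCat.ofHom (algebraMap k Ω))))) =
        Nat.card (_root_.ConnectedComponents
          ↥(pullback f (Spec.map (CommRingCat.ofHom (algebraMap k Ω)))))) := by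
  set g := Spec.map (CommRingCat.ofHom (algebraMap k Ω)) with hg
  haveI : IsLocallyNoetherian (pullback f g) :=
    LocallyOfFiniteType.isLocallyNoetherian (pullback.snd f g)
  haveI : CompactSpace ↥(pullback f g) :=
    QuasiCompact.compactSpace_of_compactSpace (pullback.snd f g)
  haveI : IsNoetherian (pullback f g) := {}
  have hfin : (irreducibleComponents ↥(pullback f g)).Finite :=
    TopologicalSpace.NoetherianSpace.finite_irreducibleComponents
  constructor
  · intro h
    refine ⟨?_, ?_⟩
    · constructor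
      rw [geometrically_iff_of_commRing_of_isClosedUnderIsomorphisms]
      intro K _ _
      haveI : ∀ x' : ↥(pullback f (Spec.map (CommRingCat.ofHom (algebraMap k K)))),
          _root_.IsReduced
            ((pullback f (Spec.map (CommRingCat.ofHom (algebraMap k K)))).presheaf.stalk x') := by
        intro x'
        haveI : IsDomain
            ((pullback f (Spec.map (CommRingCat.ofHom (algebraMap k K)))).presheaf.stalk x') :=
          h _ K x' rfl
        infer_instance
      exact isReduced_of_isReduced_stalk _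
    · have hdom := (forall_geomPtIntegralAt_iff (Ω := Ω) f).mp h
      exact card_eq_of_isClopen
        (fun Z hZ => isClopen_of_mem_irreducibleComponents hdom hfin hZ)
  · rintro ⟨hred, hcard⟩
    rw [forall_geomPtIntegralAt_iff (Ω := Ω) f]
    haveI : IsReduced (pullback f g) :=
      pullback_of_geometrically hred.geometrically_isReduced Ω g
    exact isDomain_stalk_of_unique_component
      (fun Z₁ Z₂ h₁ h₂ y hy₁ hy₂ => eq_of_mem_of_card_eq hfin hcard h₁ h₂ y hy₁ hy₂)

end Groth.Agent.Helper4.PtIntCard
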