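import Mathlib
import Groth.Agent.Helper4.PullBC
import Groth.Agent.Helper4.AmpleTensor

set_option autoImplicit false
open CategoryTheory Limits AlgebraicGeometry TopologicalSpace Opposite
universe u

namespace Groth.Agent.Helper4.PullExt

open Groth.Agent.Helper4.GenLoc Groth.Agent.Helper4.PullUnit Groth.Agent.Helper4.GenLocIso
  Groth.Agent.Helper4.AmpleIso Groth.Agent.Helper4.PullSec Groth.Agent.Helper4.PullAmple
  Groth.Agent.Helper4.AmpleLocal Groth.Agent.Helper4.TensorInv Groth.Agent.Helper4.TensorGen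
  Groth.Agent.Helper4.TensorAssoc Groth.Agent.Helper4.AmpleTensor Groth.Agent.Helper4.AmpleBasis
  Groth.Agent.Helper4.PullBC

variable {P : Scheme.{u}}

/-- Lemma T: a tensor product of invertible modules is ample as soon as every point lies in an
affine intersection `P_σ ∩ P_σ'` -/
theorem isAmple_tensorMod_of_affine_inf [CompactSpace P] {A B : P.Modules}
    (hA : PicF.IsInvertible A) (hB : PicF.IsInvertible B)
    (h : ∀ z : P, ∃ (n : ℕ) (σ : Coh.structureModule P ⟶ CohB1.tensorPow A (n + 1)) (n' : ℕ)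
      (σ' : Coh.structureModule P ⟶ CohB1.tensorPow B (n' + 1)),
      z ∈ CohB1.genLocus _ σ ⊓ CohB1.genLocus _ σ' ∧
        IsAffineOpen (CohB1.genLocus _ σ ⊓ CohB1.genLocus _ σ')) :
    CohB1.IsAmple (CohB1.tensorMod A B) := by
  refine ⟨isInvertible_tensorMod hA hB, inferInstance, fun z => ?_⟩
  obtain ⟨n, s, n', s', hz, haff⟩ := h z
  obtain ⟨m, hm⟩ : ∃ m, (n + 1) * (n' + 1) = m + 1 :=
    Nat.exists_eq_succ_of_ne_zero (Nat.mul_pos (Nat.succ_pos n) (Nat.succ_pos n')).ne'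
  have hm' : (n' + 1) * (n + 1) = m + 1 := by rw [Nat.mul_comm]; exact hm
  let σ : Coh.structureModule P ⟶ CohB1.tensorPow A (m + 1) :=
    SecTwist.powHom s (n' + 1) ≫ (powMulIso A hA (n + 1) (n' + 1) ≪≫ powCastIso A hm).hom
  let σ' : Coh.structureModule P ⟶ CohB1.tensorPow B (m + 1) :=
    SecTwist.powHom s' (n + 1) ≫ (powMulIso B hB (n' + 1) (n + 1) ≪≫ powCastIso B hm').hom
  have hσ : CohB1.genLocus _ σ = CohB1.genLocus _ s := by
    rw [genLocus_comp_iso, genLocus_powHom (isInvertible_tensorPow hA (n + 1))]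
  have hσ' : CohB1.genLocus _ σ' = CohB1.genLocus _ s' := by
    rw [genLocus_comp_iso, genLocus_powHom (isInvertible_tensorPow hB (n' + 1))]
  have hτ : CohB1.genLocus _ (SecTwist.tmulHom σ σ' ≫ (powTensorIso A B hA hB (m + 1)).hom) =
      CohB1.genLocus _ s ⊓ CohB1.genLocus _ s' := by
    rw [genLocus_comp_iso, genLocus_tmulHom _ _ (isInvertible_tensorPow hA _)
      (isInvertible_tensorPow hB _), hσ, hσ']
  exact ⟨m, SecTwist.tmulHom σ σ' ≫ (powTensorIso A B hA hB (m + 1)).hom,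
    by rw [hτ]; exact hz, by rw [hτ]; exact haff⟩

/-- Lemma E: external tensor products of ample modules -/
theorem isAmple_externalTensor [CompactSpace P] {U₁ U₂ : Scheme.{u}} (p₁ : P ⟶ U₁) (p₂ : P ⟶ U₂)
    {M₁ : U₁.Modules} {M₂ : U₂.Modules} (h₁ : CohB1.IsAmple M₁) (h₂ : CohB1.IsAmple M₂)
    (H : ∀ z : P, ∃ (O₁ : U₁.Opens) (O₂ : U₂.Opens), p₁ z ∈ O₁ ∧ p₂ z ∈ O₂ ∧
      ∀ (A₁ : U₁.Opens) (A₂ : U₂.Opens), IsAffineOpen A₁ → IsAffineOpen A₂ → A₁ ≤ O₁ → A₂ ≤ O₂ →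
        IsAffineOpen (p₁ ⁻¹ᵁ A₁ ⊓ p₂ ⁻¹ᵁ A₂)) :
    CohB1.IsAmple (CohB1.tensorMod ((Scheme.Modules.pullback p₁).obj M₁)
      ((Scheme.Modules.pullback p₂).obj M₂)) := by
  apply isAmple_tensorMod_of_affine_inf (isInvertible_pullback p₁ h₁.1)
    (isInvertible_pullback p₂ h₂.1)
  intro z
  obtain ⟨O₁, O₂, hz₁, hz₂, HA⟩ := H z
  obtain ⟨n, s, hs1, hs2, hs3⟩ := exists_genLocus_nhd h₁ (p₁ z) O₁ hz₁
  obtain ⟨n', t, ht1, ht2, ht3⟩ := exists_genLocus_nhd h₂ (p₂ z) O₂ hz₂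
  refine ⟨n, pullPowSec p₁ h₁.1 (n + 1) s, n', pullPowSec p₂ h₂.1 (n' + 1) t, ?_, ?_⟩
  · rw [genLocus_pullPowSec, genLocus_pullPowSec]
    exact ⟨hs1, ht1⟩
  · rw [genLocus_pullPowSec, genLocus_pullPowSec]
    exact HA _ _ hs3 ht3 hs2 ht2

/-- S9816 -/
theorem isAmple_externalTensor_pullback {X Y S : Scheme.{u}} [QuasiSeparatedSpace S]
    (f : X ⟶ S) (g : Y ⟶ S) (L : X.Modules) (N : Y.Modules) (hL : CohB1.IsAmple L)
    (hN : CohB1.IsAmple N) :
    CohB1.IsAmple (CohB1.tensorMod ((Scheme.Modules.pullback (pullback.fst f g)).obj L)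
      ((Scheme.Modules.pullback (pullback.snd f g)).obj N)) := by
  haveI := hL.2.1
  haveI := hN.2.1
  haveI : QuasiCompact f := inferInstance
  haveI : CompactSpace ↥(pullback f g) :=
    QuasiCompact.compactSpace_of_compactSpace (pullback.snd f g)
  apply isAmple_externalTensor _ _ hL hN
  intro z
  obtain ⟨W, hW, hzW, -⟩ := exists_isAffineOpen_mem_and_subset (X := S)
    (x := f (pullback.fst f g z)) (U := ⊤) trivial
  refine ⟨f ⁻¹ᵁ W, g ⁻¹ᵁ W, hzW, ?_, fun A₁ A₂ hA₁ hA₂ h1 h2 =>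
    isAffineOpen_inf_preimage f g A₁ A₂ W hA₁ hA₂ hW h1 h2⟩
  change g (pullback.snd f g z) ∈ W
  have : g (pullback.snd f g z) = f (pullback.fst f g z) := by
    rw [← Scheme.Hom.comp_apply, ← Scheme.Hom.comp_apply, pullback.condition]
  rw [this]
  exact hzW

end Groth.Agent.Helper4.PullExt
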