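import Mathlib
import Groth.Agent.Helper4.PullExt

set_option autoImplicit false
open CategoryTheory Limits AlgebraicGeometry TopologicalSpace Opposite
universe u

namespace Groth.Agent.Helper4.PullExtRel

open Groth.Agent.Helper4.GenLoc Groth.Agent.Helper4.PullUnit Groth.Agent.Helper4.GenLocIso
  Groth.Agent.Helper4.AmpleIso Groth.Agent.Helper4.PullSec Groth.Agent.Helper4.PullAmple
  Groth.Agent.Helper4.AmpleLocal Groth.Agent.Helper4.TensorInv Groth.Agent.Helper4.TensorGen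
  Groth.Agent.Helper4.TensorAssoc Groth.Agent.Helper4.AmpleTensor Groth.Agent.Helper4.AmpleBasis
  Groth.Agent.Helper4.PullBC Groth.Agent.Helper4.PullExt Groth.Agent.Helper4.TensorRes

variable {X₁ X₂ Y₁ Y₂ S : Scheme.{u}}

/-- S4428 -/
theorem isRelAmple_externalTensor (a₁ : Y₁ ⟶ S) (a₂ : Y₂ ⟶ S)
    (f₁ : X₁ ⟶ Y₁) (f₂ : X₂ ⟶ Y₂) [QuasiCompact f₁] [QuasiCompact f₂] (L₁ : X₁.Modules)
    (L₂ : X₂.Modules) (hL₁ : RelAmple.IsRelAmple f₁ L₁) (hL₂ : RelAmple.IsRelAmple f₂ L₂) :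
    RelAmple.IsRelAmple
      (pullback.map (f₁ ≫ a₁) (f₂ ≫ a₂) a₁ a₂ f₁ f₂ (𝟙 S) (Category.comp_id (f₁ ≫ a₁))
        (Category.comp_id (f₂ ≫ a₂)))
      (CohB1.tensorMod ((Scheme.Modules.pullback (pullback.fst (f₁ ≫ a₁) (f₂ ≫ a₂))).obj L₁)
        ((Scheme.Modules.pullback (pullback.snd (f₁ ≫ a₁) (f₂ ≫ a₂))).obj L₂)) := by
  set F := pullback.map (f₁ ≫ a₁) (f₂ ≫ a₂) a₁ a₂ f₁ f₂ (𝟙 S) (Category.comp_id (f₁ ≫ a₁))
    (Category.comp_id (f₂ ≫ a₂)) with hF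
  set p₁ := pullback.fst (f₁ ≫ a₁) (f₂ ≫ a₂) with hp₁
  set p₂ := pullback.snd (f₁ ≫ a₁) (f₂ ≫ a₂) with hp₂
  set M := CohB1.tensorMod ((Scheme.Modules.pullback p₁).obj L₁)
    ((Scheme.Modules.pullback p₂).obj L₂) with hM
  haveI hFqc : QuasiCompact F :=
    MorphismProperty.pullbackMap (P := @QuasiCompact) (inferInstance : QuasiCompact f₁)
      (inferInstance : QuasiCompact f₂) rfl rfl
  have hF1 : F ≫ pullback.fst a₁ a₂ = p₁ ≫ f₁ := pullback.lift_fst _ _ _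
  have hF2 : F ≫ pullback.snd a₁ a₂ = p₂ ≫ f₂ := pullback.lift_snd _ _ _
  have hF1' : ∀ z, pullback.fst a₁ a₂ (F z) = f₁ (p₁ z) := by
    intro z
    rw [← Scheme.Hom.comp_apply, ← Scheme.Hom.comp_apply, hF1]
  have hF2' : ∀ z, pullback.snd a₁ a₂ (F z) = f₂ (p₂ z) := by
    intro z
    rw [← Scheme.Hom.comp_apply, ← Scheme.Hom.comp_apply, hF2]
  refine ⟨hFqc, fun V => ?_⟩
  have key : ∀ r : V.1, ∃ a : Γ(pullback a₁ a₂, V.1), r.1 ∈ (pullback a₁ a₂).basicOpen a ∧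
      CohB1.IsAmple (M.restrict (F ⁻¹ᵁ (pullback a₁ a₂).basicOpen a).ι) := by
    intro r
    obtain ⟨W, hW, hrW, -⟩ := exists_isAffineOpen_mem_and_subset (X := S)
      (x := a₁ (pullback.fst a₁ a₂ r.1)) (U := ⊤) trivial
    have hrW' : a₂ (pullback.snd a₁ a₂ r.1) ∈ W := by
      have : a₂ (pullback.snd a₁ a₂ r.1) = a₁ (pullback.fst a₁ a₂ r.1) := by
        rw [← Scheme.Hom.comp_apply, ← Scheme.Hom.comp_apply, pullback.condition]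
      rw [this]; exact hrW
    obtain ⟨V₁, hV₁, hrV₁, hV₁W⟩ := exists_isAffineOpen_mem_and_subset (X := Y₁)
      (x := pullback.fst a₁ a₂ r.1) (U := a₁ ⁻¹ᵁ W) hrW
    obtain ⟨V₂, hV₂, hrV₂, hV₂W⟩ := exists_isAffineOpen_mem_and_subset (X := Y₂)
      (x := pullback.snd a₁ a₂ r.1) (U := a₂ ⁻¹ᵁ W) hrW'
    set VV : (pullback a₁ a₂).Opens := pullback.fst a₁ a₂ ⁻¹ᵁ V₁ ⊓ pullback.snd a₁ a₂ ⁻¹ᵁ V₂ with hVV
    have hVVaff : IsAffineOpen VV := isAffineOpen_inf_preimage a₁ a₂ V₁ V₂ W hV₁ hV₂ hW hV₁W hV₂W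
    obtain ⟨a, ha, hra⟩ := V.2.exists_basicOpen_le (V := VV ⊓ V.1) ⟨r.1, ⟨hrV₁, hrV₂⟩, r.2⟩ r.2
    refine ⟨a, hra, ?_⟩
    have hDaff : IsAffineOpen ((pullback a₁ a₂).basicOpen a) := V.2.basicOpen a
    have hDVV : (pullback a₁ a₂).basicOpen a ≤ VV := fun x hx => (ha hx).1
    set P' : (pullback (f₁ ≫ a₁) (f₂ ≫ a₂)).Opens := F ⁻¹ᵁ VV with hP'
    refine isAmple_restrict_of_le (U := P') (fun z hz => hDVV hz)
      (QuasiCompact.isCompact_preimage (f := F) _ ((pullback a₁ a₂).basicOpen a).isOpen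
        hDaff.isCompact) ?_
    haveI : CompactSpace (P' : Scheme.{u}) := isCompact_iff_compactSpace.mp
      (QuasiCompact.isCompact_preimage (f := F) _ VV.isOpen hVVaff.isCompact)
    have hP'1 : P' ≤ p₁ ⁻¹ᵁ (f₁ ⁻¹ᵁ V₁) := by
      intro z hz
      change f₁ (p₁ z) ∈ V₁
      rw [← hF1']
      exact hz.1
    have hP'2 : P' ≤ p₂ ⁻¹ᵁ (f₂ ⁻¹ᵁ V₂) := by
      intro z hz
      change f₂ (p₂ z) ∈ V₂
      rw [← hF2']
      exact hz.2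
    set q₁ := p₁.resLE (f₁ ⁻¹ᵁ V₁) P' hP'1 with hq₁
    set q₂ := p₂.resLE (f₂ ⁻¹ᵁ V₂) P' hP'2 with hq₂
    have hq₁' : ∀ z, (f₁ ⁻¹ᵁ V₁).ι (q₁ z) = p₁ (P'.ι z) := by
      intro z
      rw [← Scheme.Hom.comp_apply, ← Scheme.Hom.comp_apply, hq₁, Scheme.Hom.resLE_comp_ι]
    have hq₂' : ∀ z, (f₂ ⁻¹ᵁ V₂).ι (q₂ z) = p₂ (P'.ι z) := by
      intro z
      rw [← Scheme.Hom.comp_apply, ← Scheme.Hom.comp_apply, hq₂, Scheme.Hom.resLE_comp_ι]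
    have hE := isAmple_externalTensor q₁ q₂ (hL₁.2 ⟨V₁, hV₁⟩) (hL₂.2 ⟨V₂, hV₂⟩) (by
      intro z
      refine ⟨⊤, ⊤, trivial, trivial, fun A₁ A₂ hA₁ hA₂ _ _ => ?_⟩
      rw [← Scheme.Hom.isAffineOpen_iff_of_isOpenImmersion P'.ι]
      have hA₁' : IsAffineOpen ((f₁ ⁻¹ᵁ V₁).ι ''ᵁ A₁) := hA₁.image_of_isOpenImmersion _
      have hA₂' : IsAffineOpen ((f₂ ⁻¹ᵁ V₂).ι ''ᵁ A₂) := hA₂.image_of_isOpenImmersion _
      have h1 := isAffineOpen_inf_preimage (f₁ ≫ a₁) (f₂ ≫ a₂) _ _ W hA₁' hA₂' hW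
        (by
          rintro _ ⟨y, _, rfl⟩
          exact hV₁W y.2)
        (by
          rintro _ ⟨y, _, rfl⟩
          exact hV₂W y.2)
      have h2 : P'.ι ''ᵁ (q₁ ⁻¹ᵁ A₁ ⊓ q₂ ⁻¹ᵁ A₂) =
          p₁ ⁻¹ᵁ ((f₁ ⁻¹ᵁ V₁).ι ''ᵁ A₁) ⊓ p₂ ⁻¹ᵁ ((f₂ ⁻¹ᵁ V₂).ι ''ᵁ A₂) := by
        ext w
        constructor
        · rintro ⟨y, ⟨hy1, hy2⟩, rfl⟩
          exact ⟨⟨q₁ y, hy1, hq₁' y⟩, ⟨q₂ y, hy2, hq₂' y⟩⟩
        · rintro ⟨⟨b₁, hb₁, hb₁w⟩, ⟨b₂, hb₂, hb₂w⟩⟩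
          have hwP' : w ∈ P' := by
            refine ⟨?_, ?_⟩
            · change pullback.fst a₁ a₂ (F w) ∈ V₁
              rw [hF1']
              change p₁ w ∈ f₁ ⁻¹ᵁ V₁
              rw [← hb₁w]
              exact b₁.2
            · change pullback.snd a₁ a₂ (F w) ∈ V₂
              rw [hF2']
              change p₂ w ∈ f₂ ⁻¹ᵁ V₂
              rw [← hb₂w]
              exact b₂.2
          refine ⟨⟨w, hwP'⟩, ⟨?_, ?_⟩, rfl⟩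
          · have : q₁ ⟨w, hwP'⟩ = b₁ := by
              apply (f₁ ⁻¹ᵁ V₁).ι.isOpenEmbedding.injective
              rw [hq₁']
              exact hb₁w.symm
            change q₁ ⟨w, hwP'⟩ ∈ A₁
            rw [this]; exact hb₁
          · have : q₂ ⟨w, hwP'⟩ = b₂ := by
              apply (f₂ ⁻¹ᵁ V₂).ι.isOpenEmbedding.injective
              rw [hq₂']
              exact hb₂w.symm
            change q₂ ⟨w, hwP'⟩ ∈ A₂
            rw [this]; exact hb₂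
      rw [h2]
      exact h1)
    let e₁ := (restrictPullbackIso P'.ι (f₁ ⁻¹ᵁ V₁).ι p₁ q₁
      (Scheme.Hom.resLE_comp_ι _ hP'1).symm).app L₁
    let e₂ := (restrictPullbackIso P'.ι (f₂ ⁻¹ᵁ V₂).ι p₂ q₂
      (Scheme.Hom.resLE_comp_ι _ hP'2).symm).app L₂
    exact isAmple_of_iso ((PicGrp.tensorModIso e₁ e₂).symm ≪≫ resIso P'.ι _ _) hE
  choose a hra ha using key
  exact isAmple_restrict_preimage_of_basicOpen_cover F M V.1 V.2 a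
    (fun y hy => ⟨⟨y, hy⟩, hra ⟨y, hy⟩⟩) ha

end Groth.Agent.Helper4.PullExtRel
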