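import Mathlib

/-!
# Pullback of free sheaves of modules along a morphism of ringed sites whose set-level
pullback preserves the terminal object (no finality assumption on the underlying functor)
-/

set_option autoImplicit false
universe u
open CategoryTheory CategoryTheory.Limits Opposite

namespace Groth.Agent.Helper4.PullFree

variable {C D : Type u} [SmallCategory C] [SmallCategory D] {J : GrothendieckTopology C}
  {K : GrothendieckTopology D} (F : C ⥤ D) [F.IsContinuous J K]

/-- the terminal sheaf of types -/
noncomputable abbrev T (J : GrothendieckTopology C) : Sheaf J (Type u) :=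
  Sheaf.terminal J Types.isTerminalPunit

/-- sections of a sheaf of types as maps out of the terminal sheaf -/
noncomputable def secEquiv (Q : Sheaf K (Type u)) : Q.obj.sections ≃ (T K ⟶ Q) :=
  (Q.obj.sectionsEquivHom PUnit).trans
    { toFun := fun f => ⟨f⟩
      invFun := fun f => f.hom
      left_inv := fun _ => rfl
      right_inv := fun _ => rfl }

theorem secEquiv_apply (Q : Sheaf K (Type u)) (s : Q.obj.sections) (X : Dᵒᵖ) (x : PUnit) :
    (secEquiv Q s).hom.app X x = s.val X := rfl

variable [PreservesFiniteLimits (F.sheafPullback (Type u) J K)]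

/-- the pullback of the terminal sheaf is terminal -/
noncomputable def isTerminalPull (J : GrothendieckTopology C) (K : GrothendieckTopology D) [F.IsContinuous J K]
    [PreservesFiniteLimits (F.sheafPullback (Type u) J K)] : IsTerminal ((F.sheafPullback (Type u) J K).obj (T J)) :=
  IsTerminal.isTerminalObj _ _ (Sheaf.isTerminalTerminal J Types.isTerminalPunit)

/-- maps out of the terminal sheaf downstairs vs upstairs -/
noncomputable def homEquiv (J : GrothendieckTopology C) {K : GrothendieckTopology D} [F.IsContinuous J K]
    [PreservesFiniteLimits (F.sheafPullback (Type u) J K)] (Q : Sheaf K (Type u)) :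
    (T K ⟶ Q) ≃ (T J ⟶ (F.sheafPushforwardContinuous (Type u) J K).obj Q) :=
  ((IsTerminal.uniqueUpToIso (isTerminalPull F J K)
      (Sheaf.isTerminalTerminal K Types.isTerminalPunit)).homFromEquiv).symm.trans
    ((F.sheafAdjunctionContinuous (Type u) J K).homEquiv (T J) Q)

theorem homEquiv_apply (Q : Sheaf K (Type u)) (s : Q.obj.sections) (X : Cᵒᵖ) (x : PUnit) :
    (homEquiv F J Q (secEquiv Q s)).hom.app X x = s.val (F.op.obj X) := by
  have h : homEquiv F J Q (secEquiv Q s) =
      ((F.sheafAdjunctionContinuous (Type u) J K).unit.app (T J) ≫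
        (F.sheafPushforwardContinuous (Type u) J K).map
          (IsTerminal.uniqueUpToIso (isTerminalPull F J K)
            (Sheaf.isTerminalTerminal K Types.isTerminalPunit)).hom) ≫
        (F.sheafPushforwardContinuous (Type u) J K).map (secEquiv Q s) := by
    simp [homEquiv, Adjunction.homEquiv_unit, Iso.homFromEquiv]
  rw [h]
  rfl

theorem bijective_sectionsPrecomp (J : GrothendieckTopology C) {K : GrothendieckTopology D}
    [F.IsContinuous J K] [PreservesFiniteLimits (F.sheafPullback (Type u) J K)] (Q : Sheaf K (Type u)) :
    Function.Bijective (F.op.sectionsPrecomp (P := Q.obj)) := by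
  have h : (secEquiv ((F.sheafPushforwardContinuous (Type u) J K).obj Q)) ∘
      (F.op.sectionsPrecomp (P := Q.obj)) = (homEquiv F J Q) ∘ (secEquiv Q) := by
    funext s
    apply Sheaf.hom_ext
    ext X x
    exact (homEquiv_apply F Q s X x).symm
  have h2 : Function.Bijective ((secEquiv ((F.sheafPushforwardContinuous (Type u) J K).obj Q)) ∘
      (F.op.sectionsPrecomp (P := Q.obj))) := by
    rw [h]
    exact (homEquiv F J Q).bijective.comp (secEquiv Q).bijective
  exact (Function.Bijective.of_comp_iff' (secEquiv _).bijective _).1 h2


section Modules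

variable {S : Sheaf J RingCat.{u}} {R : Sheaf K RingCat.{u}}
  (φ : S ⟶ (F.sheafPushforwardContinuous RingCat.{u} J K).obj R)
  [PreservesFiniteLimits (F.sheafPullback (Type u) J K)]

include F in
theorem bijective_pushforwardSections (M : SheafOfModules.{u} R) :
    Function.Bijective (SheafOfModules.pushforwardSections φ (M := M)) :=
  bijective_sectionsPrecomp F J
    ((sheafCompose K (forget AddCommGrpCat.{u})).obj ⟨M.val.presheaf, M.isSheaf⟩)

variable [(SheafOfModules.pushforward.{u} φ).IsRightAdjoint]

theorem isIso_pullbackObjUnitToUnit : IsIso (SheafOfModules.pullbackObjUnitToUnit φ) := by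
  rw [isIso_iff_coyoneda_map_bijective]
  intro M
  rw [← ((SheafOfModules.pullbackPushforwardAdjunction.{u} φ).homEquiv _ _).bijective.of_comp_iff',
    ← (SheafOfModules.unitHomEquiv _).bijective.of_comp_iff']
  convert! (bijective_pushforwardSections F φ M).comp (SheafOfModules.unitHomEquiv _).bijective
  ext f : 1
  dsimp
  rw [SheafOfModules.pushforwardSections_unitHomEquiv, EmbeddingLike.apply_eq_iff_eq,
    Adjunction.homEquiv_naturality_right,
    SheafOfModules.pullbackPushforwardAdjunction_homEquiv_pullbackObjUnitToUnit]

/-- The pullback of a free sheaf of modules is a free sheaf of modules. -/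
noncomputable def pullbackObjFreeIso (I : Type u) :
    (SheafOfModules.pullback φ).obj (SheafOfModules.free I) ≅ SheafOfModules.free I :=
  haveI := isIso_pullbackObjUnitToUnit F φ
  (asIso (sigmaComparison _ _)).symm ≪≫
    Sigma.mapIso (fun _ ↦ asIso (SheafOfModules.pullbackObjUnitToUnit φ))

end Modules

end Groth.Agent.Helper4.PullFree
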