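import Groth.Agent.Helper4.PureLift
import Mathlib

/-!
# Pure covers by direct sums of finitely presented modules
-/

set_option autoImplicit false

namespace Groth.Agent.Helper4.PureCover
open TensorProduct Groth.Agent.Helper4.PureLift

universe u
variable (R : Type u) [CommRing R] (M : Type u) [AddCommGroup M] [Module R M]

/-- index type: all presented modules mapping to `M` -/
def Idx : Type u :=
  Σ (n k : ℕ) (a : Fin n → Fin k → R), (relMod a →ₗ[R] M)

variable {R M}

/-- the module attached to an index -/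
abbrev Q (i : Idx R M) : Type u := relMod i.2.2.1

variable (R M)

open Classical in
/-- the canonical map from the direct sum -/
noncomputable def cover : (Π₀ i : Idx R M, Q i) →ₗ[R] M :=
  DFinsupp.lsum ℕ (fun i : Idx R M => i.2.2.2)

lemma surjective_of_liftsFP {L : Type u} [AddCommGroup L] [Module R L] (g : L →ₗ[R] M)
    (hg : LiftsFP g) : Function.Surjective g := by
  intro x
  obtain ⟨ψ, hψ⟩ := hg R (LinearMap.toSpanSingleton R M x)
  refine ⟨ψ 1, ?_⟩
  have := LinearMap.congr_fun hψ 1
  simpa using this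

open Classical in
lemma cover_liftsFP : LiftsFP (L := Π₀ i : Idx R M, Q i) (cover R M) := by
  intro P _ _ _ φ
  obtain ⟨k, K, e, hK⟩ := Module.FinitePresentation.exists_fin R P
  obtain ⟨n, a, rfl⟩ := Submodule.fg_iff_exists_fin_generating_family.mp hK
  let i : Idx R M := ⟨n, k, a, φ ∘ₗ e.symm.toLinearMap⟩
  refine ⟨(DFinsupp.lsingle i : Q i →ₗ[R] (Π₀ i : Idx R M, Q i)) ∘ₗ e.toLinearMap, ?_⟩
  ext p
  simp only [LinearMap.comp_apply, cover, LinearEquiv.coe_coe]
  erw [DFinsupp.lsum_single]
  simp [i]

theorem main : ∃ (ι : Type u) (Q : ι → Type u) (_ : ∀ i, AddCommGroup (Q i))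
    (_ : ∀ i, Module R (Q i)),
      (∀ i, Module.FinitePresentation R (Q i)) ∧
      ∃ g : (Π₀ i, Q i) →ₗ[R] M, Function.Surjective g ∧ LiftsFP (L := Π₀ i, Q i) g ∧
        ∀ (N : Type u) [AddCommGroup N] [Module R N],
          Function.Injective ((LinearMap.ker g).subtype.rTensor N) :=
  ⟨Idx R M, fun i => Q i, fun _ => inferInstance, fun _ => inferInstance,
    fun _ => inferInstance, cover R M,
    surjective_of_liftsFP R M (L := Π₀ i : Idx R M, Q i) _ (cover_liftsFP R M),
    cover_liftsFP R M,
    fun N _ _ => rTensor_injective (L := Π₀ i : Idx R M, Q i) _ (cover_liftsFP R M) N⟩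

end Groth.Agent.Helper4.PureCover
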