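import Mathlib

/-!
# Purity via lifting of finitely presented modules

`g : L → M` surjective-ish map such that every map from a finitely presented module to `M`
lifts to `L`; then `ker g ↪ L` is universally injective.  And conversely.
-/

set_option autoImplicit false

namespace Groth.Agent.Helper4.PureLift
open TensorProduct

universe u
variable {R : Type u} [CommRing R]
variable {L M : Type u} [AddCommGroup L] [Module R L] [AddCommGroup M] [Module R M]

/-- lifting property for finitely presented modules -/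
def LiftsFP (g : L →ₗ[R] M) : Prop :=
  ∀ (Q : Type u) [AddCommGroup Q] [Module R Q] [Module.FinitePresentation R Q]
    (φ : Q →ₗ[R] M), ∃ ψ : Q →ₗ[R] L, g ∘ₗ ψ = φ

/-- the finitely presented module attached to a matrix of relations -/
abbrev relMod {n k : ℕ} (a : Fin n → Fin k → R) : Type u :=
  (Fin k → R) ⧸ Submodule.span R (Set.range a)

instance {n k : ℕ} (a : Fin n → Fin k → R) : Module.FinitePresentation R (relMod a) :=
  Module.finitePresentation_of_surjective (Submodule.mkQ _) (Submodule.mkQ_surjective _)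
    (by rw [Submodule.ker_mkQ]; exact Submodule.fg_span (Set.finite_range a))

/-- Solving a linear system in the kernel. -/
lemma solve_in_ker (g : L →ₗ[R] M) (hg : LiftsFP g) {n k : ℕ} (a : Fin n → Fin k → R)
    (y : Fin k → L) (hy : ∀ i, g (∑ j, a i j • y j) = 0) :
    ∃ y' : Fin k → LinearMap.ker g, ∀ i, ∑ j, a i j • (y' j : L) = ∑ j, a i j • y j := by
  classical
  let Φ : (Fin k → R) →ₗ[R] L := Fintype.linearCombination R y
  have hle : Submodule.span R (Set.range a) ≤ LinearMap.ker (g ∘ₗ Φ) := by
    rw [Submodule.span_le]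
    rintro _ ⟨i, rfl⟩
    simp only [SetLike.mem_coe, LinearMap.mem_ker, LinearMap.comp_apply, Φ,
      Fintype.linearCombination_apply]
    exact hy i
  let φ : relMod a →ₗ[R] M := Submodule.liftQ _ (g ∘ₗ Φ) hle
  obtain ⟨ψ, hψ⟩ := hg (relMod a) φ
  let z : Fin k → L := fun j => ψ (Submodule.Quotient.mk (Pi.single j 1))
  have hz1 : ∀ j, g (z j) = g (y j) := by
    intro j
    have := LinearMap.congr_fun hψ (Submodule.Quotient.mk (Pi.single j 1))
    simp only [LinearMap.comp_apply] at this
    rw [this]
    simp [φ, Φ, Fintype.linearCombination_apply_single]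
  have hz2 : ∀ i, ∑ j, a i j • z j = 0 := by
    intro i
    have h1 : ∑ j, a i j • z j = ψ (Submodule.Quotient.mk (∑ j, a i j • Pi.single j 1)) := by
      simp only [z, ← map_smul, ← map_sum, ← Submodule.Quotient.mk_smul]
      congr 1
      rw [← Submodule.mkQ_apply, map_sum]
      rfl
    have h2 : (∑ j, a i j • Pi.single j (1 : R) : Fin k → R) = a i := by
      ext l
      simp [Finset.sum_apply, Pi.single_apply]
    rw [h1, h2]
    have : (Submodule.Quotient.mk (a i) : relMod a) = 0 := by
      rw [Submodule.Quotient.mk_eq_zero]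
      exact Submodule.subset_span ⟨i, rfl⟩
    rw [this, map_zero]
  refine ⟨fun j => ⟨y j - z j, by rw [LinearMap.mem_ker, map_sub, hz1, sub_self]⟩, fun i => ?_⟩
  simp only [smul_sub, Finset.sum_sub_distrib, hz2, sub_zero]

/-- Elements of `Q ⊗ K` in terms of a spanning family of `Q`. -/
lemma exists_sum_of_span {Q K : Type*} [AddCommGroup Q] [Module R Q] [AddCommGroup K]
    [Module R K] {n : ℕ} (q : Fin n → Q) (hq : Submodule.span R (Set.range q) = ⊤)
    (x : Q ⊗[R] K) : ∃ k : Fin n → K, x = ∑ i, q i ⊗ₜ[R] k i := by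
  induction x with
  | zero => exact ⟨0, by simp⟩
  | tmul q' κ =>
    have : q' ∈ Submodule.span R (Set.range q) := hq ▸ Submodule.mem_top
    obtain ⟨c, rfl⟩ := (Submodule.mem_span_range_iff_exists_fun R).mp this
    refine ⟨fun i => c i • κ, ?_⟩
    rw [TensorProduct.sum_tmul]
    refine Finset.sum_congr rfl fun i _ => ?_
    rw [TensorProduct.smul_tmul]
  | add x y hx hy =>
    obtain ⟨k1, rfl⟩ := hx
    obtain ⟨k2, rfl⟩ := hy
    refine ⟨k1 + k2, ?_⟩
    simp [TensorProduct.tmul_add, Finset.sum_add_distrib]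

/-- finitely generated case -/
lemma fg_case (g : L →ₗ[R] M) (hg : LiftsFP g) (Q : Type u) [AddCommGroup Q] [Module R Q]
    [Module.Finite R Q] : Function.Injective ((LinearMap.ker g).subtype.lTensor Q) := by
  rw [injective_iff_map_eq_zero]
  intro x hx
  obtain ⟨n, q, hq⟩ := Module.Finite.exists_fin (R := R) (M := Q)
  obtain ⟨k, rfl⟩ := exists_sum_of_span q hq x
  simp only [map_sum, LinearMap.lTensor_tmul, Submodule.subtype_apply] at hx
  obtain ⟨κ, a, y, h1, h2⟩ := TensorProduct.vanishesTrivially_of_sum_tmul_eq_zero R hq hx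
  obtain ⟨y', hy'⟩ := solve_in_ker g hg a y (fun i => by
    rw [← h1 i]; exact (k i).2)
  apply TensorProduct.sum_tmul_eq_zero_of_vanishesTrivially
  refine ⟨κ, a, y', fun i => ?_, h2⟩
  apply Subtype.ext
  have := h1 i
  simp only at this
  rw [this, ← hy' i]
  simp

/-- `LiftsFP g` implies that `ker g → L` is universally injective (left-tensor form). -/
theorem lTensor_injective (g : L →ₗ[R] M) (hg : LiftsFP g) (Q : Type u) [AddCommGroup Q]
    [Module R Q] : Function.Injective ((LinearMap.ker g).subtype.lTensor Q) := by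
  rw [injective_iff_map_eq_zero]
  intro x hx
  obtain ⟨Q₀, hfg, x₀, rfl⟩ := Submodule.exists_fg_le_eq_rTensor_subtype x
  have h0 : (Q₀.subtype.rTensor L) ((LinearMap.ker g).subtype.lTensor Q₀ x₀) =
      (Q₀.subtype.rTensor L) 0 := by
    rw [map_zero, ← hx, ← LinearMap.comp_apply, ← LinearMap.comp_apply,
      LinearMap.rTensor_comp_lTensor, LinearMap.lTensor_comp_rTensor]
  obtain ⟨Q', hfg', hle, heq⟩ := hfg.exists_rTensor_fg_inclusion_eq h0
  rw [map_zero] at heq
  haveI : Module.Finite R Q' := Module.Finite.iff_fg.mpr hfg'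
  have hx' : (LinearMap.ker g).subtype.lTensor Q'
      ((Q₀.inclusion hle).rTensor (LinearMap.ker g) x₀) = 0 := by
    rw [← heq, ← LinearMap.comp_apply, ← LinearMap.comp_apply,
      LinearMap.rTensor_comp_lTensor, LinearMap.lTensor_comp_rTensor]
  have hzero := (injective_iff_map_eq_zero _).mp (fg_case g hg Q') _ hx'
  have : Q₀.subtype = Q'.subtype ∘ₗ Q₀.inclusion hle := by
    ext; rfl
  rw [this, LinearMap.rTensor_comp, LinearMap.comp_apply, hzero, map_zero]

theorem rTensor_injective (g : L →ₗ[R] M) (hg : LiftsFP g) (Q : Type u) [AddCommGroup Q]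
    [Module R Q] : Function.Injective ((LinearMap.ker g).subtype.rTensor Q) :=
  (LinearMap.lTensor_inj_iff_rTensor_inj _ _).mp (lTensor_injective g hg Q)

end Groth.Agent.Helper4.PureLift
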