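import Groth.Agent.Helper4.PureLift
import Mathlib

/-!
# Converse: universally injective kernel ⇒ lifting of finitely presented modules
-/

set_option autoImplicit false

namespace Groth.Agent.Helper4.PureLift
open TensorProduct

universe u
variable {R : Type u} [CommRing R]
variable {L M : Type u} [AddCommGroup L] [Module R L] [AddCommGroup M] [Module R M]

lemma sum_smul_mk {n k : ℕ} (a : Fin k → Fin n → R) (c : Fin n → R) :
    ∑ i, c i • (Submodule.Quotient.mk (Pi.single i 1) : relMod a) =
      Submodule.Quotient.mk c := by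
  classical
  have h : c = ∑ i, c i • (Pi.single i 1 : Fin n → R) := by
    ext l
    simp [Finset.sum_apply, Pi.single_apply]
  conv_rhs => rw [h]
  rw [← Submodule.mkQ_apply, map_sum]
  simp only [map_smul, Submodule.mkQ_apply]

/-- Solving a linear system in the kernel, from universal injectivity. -/
lemma solve_in_ker' (g : L →ₗ[R] M)
    (hinj : ∀ (Q : Type u) [AddCommGroup Q] [Module R Q],
      Function.Injective ((LinearMap.ker g).subtype.rTensor Q))
    {n k : ℕ} (a : Fin n → Fin k → R)
    (y : Fin k → L) (hy : ∀ i, g (∑ j, a i j • y j) = 0) :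
    ∃ y' : Fin k → LinearMap.ker g, ∀ i, ∑ j, a i j • (y' j : L) = ∑ j, a i j • y j := by
  classical
  -- the transposed relation module
  let aT : Fin k → Fin n → R := fun j i => a i j
  let P := relMod aT
  let e : Fin n → P := fun i => Submodule.Quotient.mk (Pi.single i 1)
  have he : Submodule.span R (Set.range e) = ⊤ := by
    have h1 : Submodule.span R (Set.range (fun i : Fin n => (Pi.single i 1 : Fin n → R))) = ⊤ :=
      (Pi.basisFun R (Fin n)).span_eq ▸ by
        congr 1
        ext v
        simp [Pi.basisFun_apply]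
    have h2 : Set.range e = (Submodule.mkQ (Submodule.span R (Set.range aT))) ''
        (Set.range (fun i : Fin n => (Pi.single i 1 : Fin n → R))) := by
      rw [← Set.range_comp]; rfl
    rw [h2, ← Submodule.map_span, h1, Submodule.map_top, Submodule.range_mkQ]
  let x : Fin n → LinearMap.ker g := fun i => ⟨∑ j, a i j • y j, hy i⟩
  have hzeroL : ∑ i, (x i : L) ⊗ₜ[R] e i = (0 : L ⊗[R] P) := by
    simp only [x, TensorProduct.sum_tmul, TensorProduct.smul_tmul]
    rw [Finset.sum_comm]
    simp only [← TensorProduct.tmul_sum]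
    refine Finset.sum_eq_zero fun j _ => ?_
    have : ∑ i, a i j • e i = 0 := by
      simp only [e]
      rw [sum_smul_mk aT (fun i => a i j), Submodule.Quotient.mk_eq_zero]
      exact Submodule.subset_span ⟨j, rfl⟩
    rw [this, TensorProduct.tmul_zero]
  have hzeroK : ∑ i, x i ⊗ₜ[R] e i = (0 : LinearMap.ker g ⊗[R] P) := by
    apply hinj P
    rw [map_sum, map_zero]
    simpa using hzeroL
  have hzeroK' : ∑ i, e i ⊗ₜ[R] x i = (0 : P ⊗[R] LinearMap.ker g) := by
    have := congrArg (TensorProduct.comm R _ _) hzeroK
    simpa using this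
  obtain ⟨κ, b, w, hb1, hb2⟩ := TensorProduct.vanishesTrivially_of_sum_tmul_eq_zero R he hzeroK'
  -- each column of b lies in the span of the rows of aT
  have hcol : ∀ l : Fin κ, ∃ c : Fin k → R, ∀ i, b i l = ∑ j, c j * a i j := by
    intro l
    have h1 : (Submodule.Quotient.mk (fun i => b i l) : P) = 0 := by
      have := hb2 l
      simp only [e] at this
      rw [sum_smul_mk aT (fun i => b i l)] at this
      exact this
    rw [Submodule.Quotient.mk_eq_zero] at h1
    obtain ⟨c, hc⟩ := (Submodule.mem_span_range_iff_exists_fun R).mp h1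
    refine ⟨c, fun i => ?_⟩
    have := congrFun hc i
    simp only [Finset.sum_apply, Pi.smul_apply, smul_eq_mul, aT] at this
    exact this.symm
  choose c hc using hcol
  refine ⟨fun j => ∑ l, c l j • w l, fun i => ?_⟩
  have hx : (x i : L) = ∑ j, a i j • y j := rfl
  rw [← hx, hb1 i]
  simp only [Submodule.coe_sum, Submodule.coe_smul, Finset.smul_sum, smul_smul, hc]
  rw [Finset.sum_comm]
  refine Finset.sum_congr rfl fun l _ => ?_
  rw [Finset.sum_smul]
  refine Finset.sum_congr rfl fun j _ => ?_
  rw [mul_comm]

/-- universally injective kernel + surjective ⇒ f.p. modules lift -/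
theorem liftsFP_of_injective (g : L →ₗ[R] M) (hsurj : Function.Surjective g)
    (hinj : ∀ (Q : Type u) [AddCommGroup Q] [Module R Q],
      Function.Injective ((LinearMap.ker g).subtype.rTensor Q)) : LiftsFP g := by
  classical
  intro P _ _ _ φ
  obtain ⟨k, K, e, hK⟩ := Module.FinitePresentation.exists_fin R P
  obtain ⟨n, a, rfl⟩ := Submodule.fg_iff_exists_fin_generating_family.mp hK
  let φ' : relMod a →ₗ[R] M := φ ∘ₗ e.symm.toLinearMap
  choose y hy using fun j : Fin k => hsurj (φ' (Submodule.Quotient.mk (Pi.single j 1)))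
  have hrel : ∀ i, g (∑ j, a i j • y j) = 0 := by
    intro i
    simp only [map_sum, map_smul, hy]
    simp only [← map_smul, ← map_sum]
    rw [sum_smul_mk a (fun j => a i j)]
    have : (Submodule.Quotient.mk (fun j => a i j) : relMod a) = 0 := by
      rw [Submodule.Quotient.mk_eq_zero]
      exact Submodule.subset_span ⟨i, rfl⟩
    rw [this, map_zero]
  obtain ⟨y', hy'⟩ := solve_in_ker' g hinj a y hrel
  let z : Fin k → L := fun j => y j - y' j
  have hz : ∀ i, ∑ j, a i j • z j = 0 := by
    intro i
    simp only [z, smul_sub, Finset.sum_sub_distrib, hy' i, sub_self]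
  have hle : Submodule.span R (Set.range a) ≤
      LinearMap.ker (Fintype.linearCombination R z) := by
    rw [Submodule.span_le]
    rintro _ ⟨i, rfl⟩
    simp only [SetLike.mem_coe, LinearMap.mem_ker, Fintype.linearCombination_apply]
    exact hz i
  let ψ' : relMod a →ₗ[R] L := Submodule.liftQ _ (Fintype.linearCombination R z) hle
  refine ⟨ψ' ∘ₗ e.toLinearMap, ?_⟩
  have hkey : g ∘ₗ ψ' = φ' := by
    apply Submodule.linearMap_qext
    apply LinearMap.pi_ext'
    intro j
    ext
    simp only [LinearMap.comp_apply, Submodule.mkQ_apply, LinearMap.coe_single, ψ',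
      Submodule.liftQ_apply, Fintype.linearCombination_apply_single, one_smul, z, map_sub,
      hy]
    have : g (y' j : L) = 0 := (y' j).2
    rw [this, sub_zero]
  ext p
  have := LinearMap.congr_fun hkey (e p)
  simp only [LinearMap.comp_apply, φ', LinearEquiv.coe_coe, LinearEquiv.symm_apply_apply]
    at this ⊢
  exact this

end Groth.Agent.Helper4.PureLift
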