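import Mathlib
import Groth.Agent.Helper1.SiteCoh

/-! If a presheaf `P` is objectwise the cokernel of `Mᵠ⁻¹ → Zᵠ(M)` for a complex of sheaves `M`,
its sheafification is `Hᵠ(M)`. -/

set_option autoImplicit false
set_option linter.unusedSectionVars false
universe u

open CategoryTheory Limits Opposite

namespace Groth.Agent.Helper4.ShfCoker

variable {C : Type u} [SmallCategory C] {J : GrothendieckTopology C}
  (M : CochainComplex (Sheaf J AddCommGrpCat.{u}) ℤ) (q : ℤ)

theorem nonempty_iso_of_rightExact (P : Cᵒᵖ ⥤ AddCommGrpCat.{u}) (c : (M.cycles q).obj ⟶ P)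
    (hc : ∀ U, Function.Surjective (c.app U))
    (hex : ∀ U (s : (M.cycles q).obj.obj U), c.app U s = 0 ↔
      ∃ x : (M.X (q - 1)).obj.obj U, (M.toCycles (q - 1) q).hom.app U x = s) :
    Nonempty ((presheafToSheaf J AddCommGrpCat.{u}).obj P ≅ M.homology q) := by
  have c_zero : (sheafToPresheaf J AddCommGrpCat.{u}).map (M.toCycles (q - 1) q) ≫ c = 0 := by
    ext U x
    exact (hex U _).2 ⟨x, rfl⟩
  let S₁ : ShortComplex (Cᵒᵖ ⥤ AddCommGrpCat.{u}) := ShortComplex.mk _ _ c_zero
  have S₁_exact : S₁.Exact := by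
    apply Groth.Agent.Helper1.SiteCoh.exact_of_evaluation
    intro U
    rw [ShortComplex.ab_exact_iff]
    intro (s : (M.cycles q).obj.obj U) hs
    exact (hex U s).1 hs
  haveI : Epi S₁.g := by
    change Epi c
    haveI : ∀ U, Epi (c.app U) := by
      intro U
      rw [AddCommGrpCat.epi_iff_surjective]
      exact hc U
    exact NatTrans.epi_of_epi_app _
  let F := presheafToSheaf J AddCommGrpCat.{u}
  have hex' : (S₁.map F).Exact := S₁_exact.map F
  haveI : Epi (S₁.map F).g := by
    change Epi (F.map S₁.g)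
    infer_instance
  have hcok := hex'.gIsCokernel
  let ε := asIso (sheafificationAdjunction J AddCommGrpCat.{u}).counit
  have hnat : F.map ((sheafToPresheaf J AddCommGrpCat.{u}).map (M.toCycles (q - 1) q)) ≫
      (ε.app (M.cycles q)).hom = (ε.app (M.X (q - 1))).hom ≫ M.toCycles (q - 1) q :=
    ε.hom.naturality (M.toCycles (q - 1) q)
  have w' : M.toCycles (q - 1) q ≫ ((ε.app (M.cycles q)).inv ≫ F.map c) = 0 := by
    have h0 : F.map ((sheafToPresheaf J AddCommGrpCat.{u}).map (M.toCycles (q - 1) q)) ≫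
        F.map c = 0 := (S₁.map F).zero
    rw [← cancel_epi (ε.app (M.X (q - 1))).hom, ← Category.assoc, ← hnat, Category.assoc,
      Iso.hom_inv_id_assoc, h0, comp_zero]
  have hz : ∀ {Z' : Sheaf J AddCommGrpCat.{u}} (g' : M.cycles q ⟶ Z'),
      M.toCycles (q - 1) q ≫ g' = 0 →
      (S₁.map F).f ≫ ((ε.app (M.cycles q)).hom ≫ g') = 0 := by
    intro Z' g' hg'
    have e1 : F.map ((sheafToPresheaf J AddCommGrpCat.{u}).map (M.toCycles (q - 1) q)) ≫
        ((ε.app (M.cycles q)).hom ≫ g') = 0 := by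
      rw [← Category.assoc, hnat, Category.assoc, hg', comp_zero]
    exact e1
  have hfac : ∀ {Z' : Sheaf J AddCommGrpCat.{u}} (g' : M.cycles q ⟶ Z')
      (hg' : M.toCycles (q - 1) q ≫ g' = 0),
      F.map c ≫ hcok.desc (CokernelCofork.ofπ ((ε.app (M.cycles q)).hom ≫ g') (hz g' hg')) =
        (ε.app (M.cycles q)).hom ≫ g' := fun g' hg' =>
    hcok.fac (CokernelCofork.ofπ ((ε.app (M.cycles q)).hom ≫ g') (hz g' hg'))
      WalkingParallelPair.one
  have hcok' : IsColimit (CokernelCofork.ofπ ((ε.app (M.cycles q)).inv ≫ F.map c) w') := by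
    refine CokernelCofork.IsColimit.ofπ _ _
      (fun {Z'} g' hg' => hcok.desc (CokernelCofork.ofπ ((ε.app (M.cycles q)).hom ≫ g')
        (hz g' hg'))) ?_ ?_
    · intro Z' g' hg'
      rw [Category.assoc, hfac g' hg', Iso.inv_hom_id_assoc]
    · intro Z' g' hg' m hm
      apply Cofork.IsColimit.hom_ext hcok
      change F.map c ≫ m = F.map c ≫ _
      rw [hfac g' hg', ← hm, Category.assoc, Iso.hom_inv_id_assoc]
  exact ⟨IsColimit.coconePointUniqueUpToIso hcok' (M.homologyIsCokernel (q - 1) q (by simp))⟩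

end Groth.Agent.Helper4.ShfCoker
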