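import Mathlib
import Groth.Prelude.Def_CohCx
import Groth.Agent.Helper4.HDUshf
import Groth.Agent.Helper4.ShfCoker

/-! `Hᵖ(f_* I)` is the sheafification of `V ↦ Hᵖ(f⁻¹V, I)` for `I` K-injective. -/

set_option autoImplicit false
set_option linter.unusedSectionVars false
universe u

open CategoryTheory Limits Opposite TopologicalSpace

namespace Groth.Agent.Helper4.PushShf

open Groth.Agent.Helper4.HDUcls Groth.Agent.Helper1.SiteCoh Groth.Agent.Helper4.HDUshf

section
variable {C : Type u} [SmallCategory C] {J : GrothendieckTopology C}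

lemma symm_comp' (U : C) {G G' : Sheaf J AddCommGrpCat.{u}} (φ : G ⟶ G') (s : G.obj.obj (op U)) :
    (homEquiv U G').symm (φ.hom.app (op U) s) = (homEquiv U G).symm s ≫ φ := by
  apply (homEquiv U G').injective
  rw [Equiv.apply_symm_apply, homEquiv_comp, Equiv.apply_symm_apply]

end

variable {X Y : TopCat.{u}} (f : X ⟶ Y) [HasDerivedCategory.{u} (CohTop.Ab X)]
  (I : CochainComplex (CohTop.Ab X) ℤ) (p : ℤ)

/-- the complex `f_* I` -/
noncomputable abbrev M : CochainComplex (CohTop.Ab Y) ℤ :=
  ((CohTop.push f).mapHomologicalComplex (ComplexShape.up ℤ)).obj I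

/-- the cocycle on `f⁻¹ V` of a section of `Zᵖ(f_* I)` over `V` -/
noncomputable def z (V : (Opens Y)ᵒᵖ) (s : ((M f I).cycles p).obj.obj V) :
    CohCx.freeSheaf (Opens.grothendieckTopology X) ((Opens.map f).obj V.unop) ⟶ I.X p :=
  (homEquiv ((Opens.map f).obj V.unop) (I.X p)).symm
    (((M f I).iCycles p).hom.app V s : (I.X p).obj.obj (op ((Opens.map f).obj V.unop)))

lemma d_app (i j : ℤ) (V : (Opens Y)ᵒᵖ) (x : (I.X i).obj.obj (op ((Opens.map f).obj V.unop))) :
    ((M f I).d i j).hom.app V x = (I.d i j).hom.app (op ((Opens.map f).obj V.unop)) x := rfl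

lemma z_d (V : (Opens Y)ᵒᵖ) (s : ((M f I).cycles p).obj.obj V) :
    z f I p V s ≫ I.d p (p + 1) = 0 := by
  unfold z
  rw [← symm_comp]
  have h : (I.d p (p + 1)).hom.app (op ((Opens.map f).obj V.unop))
      (((M f I).iCycles p).hom.app V s) = 0 := by
    rw [← d_app]
    have := congrArg (fun φ => φ.hom.app V s) ((M f I).iCycles_d p (p + 1))
    exact this
  rw [h]
  exact (homAddEquiv ((Opens.map f).obj V.unop) (I.X (p + 1))).symm.map_zero

lemma z_add (V : (Opens Y)ᵒᵖ) (s t : ((M f I).cycles p).obj.obj V) :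
    z f I p V (s + t) = z f I p V s + z f I p V t := by
  unfold z
  rw [map_add]
  exact (homAddEquiv ((Opens.map f).obj V.unop) (I.X p)).symm.map_add _ _

lemma z_map {V W : (Opens Y)ᵒᵖ} (g : V ⟶ W) (s : ((M f I).cycles p).obj.obj V) :
    z f I p W (((M f I).cycles p).obj.map g s) =
      CohCx.freeSheafMap (Opens.grothendieckTopology X) ((Opens.map f).map g.unop) ≫
        z f I p V s := by
  unfold z
  rw [← symm_map]
  congr 1
  have := congrArg (fun φ => φ s) (congrArg (fun φ => φ.hom)
    (((M f I).iCycles p).hom.naturality g))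
  exact this

/-- components -/
noncomputable def cApp (V : (Opens Y)ᵒᵖ) : ((M f I).cycles p).obj.obj V →+
    CohCx.HDU (DerivedCategory.Q.obj I) p ((Opens.map f).obj V.unop) :=
  AddMonoidHom.mk' (fun s => cls _ I p (z f I p V s) (z_d f I p V s)) (by
    intro s t
    rw [← cls_add]
    exact cls_congr I p (z_add f I p V s t) _ _)

/-- the map of presheaves `Zᵖ(f_* I) ⟶ (V ↦ Hᵖ(f⁻¹ V, I))` -/
noncomputable def c : ((M f I).cycles p).obj ⟶
    (Opens.map f).op ⋙ CohCx.HDUPresheaf (DerivedCategory.Q.obj I) p where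
  app V := AddCommGrpCat.ofHom (cApp f I p V)
  naturality V W g := by
    ext s
    change cls _ I p (z f I p W (((M f I).cycles p).obj.map g s)) _ =
      (DerivedCategory.singleFunctor _ 0).map
        (CohCx.freeSheafMap (Opens.grothendieckTopology X) ((Opens.map f).map g.unop)) ≫
        cls _ I p (z f I p V s) (z_d f I p V s)
    rw [← cls_precomp]
    exact cls_congr I p (z_map f I p g s) _ _

lemma c_apply (V : (Opens Y)ᵒᵖ) (s : ((M f I).cycles p).obj.obj V) :
    (c f I p).app V s = cls _ I p (z f I p V s) (z_d f I p V s) := rfl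

lemma iCycles_injective (V : (Opens Y)ᵒᵖ) :
    Function.Injective (((M f I).iCycles p).hom.app V) := by
  have h1 : Mono ((M f I).iCycles p) := inferInstance
  rw [Sheaf.Hom.mono_iff_presheaf_mono] at h1
  have h2 := (NatTrans.mono_iff_mono_app _).1 h1 V
  exact (AddCommGrpCat.mono_iff_injective _).1 h2

variable [I.IsKInjective]

theorem nonempty_iso :
    Nonempty ((presheafToSheaf (Opens.grothendieckTopology Y) AddCommGrpCat.{u}).obj
      ((Opens.map f).op ⋙ CohCx.HDUPresheaf (DerivedCategory.Q.obj I) p) ≅ (M f I).homology p) := by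
  refine Groth.Agent.Helper4.ShfCoker.nonempty_iso_of_rightExact (M f I) p _ (c f I p) ?_ ?_
  · intro V y
    obtain ⟨f', hf', rfl⟩ := cls_surjective
      (A := CohCx.freeSheaf (Opens.grothendieckTopology X) ((Opens.map f).obj V.unop)) (I := I)
      (n := p) y
    have hf'' : f' ≫ I.d p (p + 1) = 0 := hf'
    let t : ((M f I).X p).obj.obj V := homEquiv ((Opens.map f).obj V.unop) (I.X p) f'
    have ht : ((M f I).d p (p + 1)).hom.app V t = 0 := by
      change (I.d p (p + 1)).hom.app (op ((Opens.map f).obj V.unop))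
        (homEquiv ((Opens.map f).obj V.unop) (I.X p) f') = 0
      rw [← homEquiv_comp, hf'']
      exact (homAddEquiv ((Opens.map f).obj V.unop) (I.X (p + 1))).map_zero
    let t' : CohCx.freeSheaf (Opens.grothendieckTopology Y) V.unop ⟶ (M f I).X p :=
      (homEquiv V.unop ((M f I).X p)).symm t
    have ht' : t' ≫ (M f I).d p (p + 1) = 0 := by
      change (homEquiv V.unop ((M f I).X p)).symm t ≫ (M f I).d p (p + 1) = 0
      rw [← symm_comp']
      refine (congrArg _ ht).trans ?_
      exact (homAddEquiv V.unop ((M f I).X (p + 1))).symm.map_zero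
    refine ⟨homEquiv V.unop ((M f I).cycles p) ((M f I).liftCycles t' (p + 1) (by simp) ht'), ?_⟩
    change cls _ I p (z f I p V _) _ = cls _ I p f' hf''
    apply cls_congr
    unfold z
    rw [Equiv.symm_apply_eq]
    have h1 := homEquiv_comp V.unop ((M f I).liftCycles t' (p + 1) (by simp) ht')
      ((M f I).iCycles p)
    rw [HomologicalComplex.liftCycles_i] at h1
    refine h1.symm.trans ?_
    exact Equiv.apply_symm_apply _ _
  · intro V s
    change cls _ I p (z f I p V s) (z_d f I p V s) = 0 ↔ _
    rw [cls_eq_zero_iff]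
    constructor
    · rintro ⟨g, hg⟩
      refine ⟨homEquiv ((Opens.map f).obj V.unop) (I.X (p - 1)) g, ?_⟩
      apply iCycles_injective f I p V
      have h1 : ((M f I).iCycles p).hom.app V (((M f I).toCycles (p - 1) p).hom.app V
          (homEquiv ((Opens.map f).obj V.unop) (I.X (p - 1)) g)) =
          ((M f I).d (p - 1) p).hom.app V (homEquiv ((Opens.map f).obj V.unop) (I.X (p - 1)) g) := by
        have := congrArg (fun φ => φ.hom.app V (homEquiv ((Opens.map f).obj V.unop) (I.X (p - 1)) g))
          ((M f I).toCycles_i (p - 1) p)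
        exact this
      rw [h1, d_app, ← homEquiv_comp, hg]
      unfold z
      exact Equiv.apply_symm_apply _ _
    · rintro ⟨x, rfl⟩
      refine ⟨(homEquiv ((Opens.map f).obj V.unop) (I.X (p - 1))).symm x, ?_⟩
      unfold z
      rw [← symm_comp]
      congr 1
      have := congrArg (fun φ => φ.hom.app V x) ((M f I).toCycles_i (p - 1) p)
      exact this.symm

end Groth.Agent.Helper4.PushShf
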