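import Mathlib
import Groth.Agent.Helper4.PushShf

/-! Surjectivity and kernel of `PushShf.c`. -/

set_option autoImplicit false
set_option linter.unusedSectionVars false
universe u

open CategoryTheory Limits Opposite TopologicalSpace

namespace Groth.Agent.Helper4.PushShf

open Groth.Agent.Helper4.HDUcls Groth.Agent.Helper1.SiteCoh Groth.Agent.Helper4.HDUshf

variable {X Y : TopCat.{u}} (f : X ⟶ Y) [HasDerivedCategory.{u} (CohTop.Ab X)]
  (I : CochainComplex (CohTop.Ab X) ℤ) (p : ℤ) [I.IsKInjective]

theorem c_surjective (V : (Opens Y)ᵒᵖ) : Function.Surjective ((c f I p).app V) := by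
  intro y
  obtain ⟨f', hf', rfl⟩ := cls_surjective
    (A := CohCx.freeSheaf (Opens.grothendieckTopology X) ((Opens.map f).obj V.unop)) (I := I)
    (n := p) y
  have hf'' : f' ≫ I.d p (p + 1) = 0 := hf'
  let t : ((M f I).X p).obj.obj V := homEquiv ((Opens.map f).obj V.unop) (I.X p) f'
  have ht : ((M f I).d p (p + 1)).hom.app V t = 0 := by
    change (I.d p (p + 1)).hom.app (op ((Opens.map f).obj V.unop))
      (homEquiv ((Opens.map f).obj V.unop) (I.X p) f') = 0
    rw [← homEquiv_comp, hf'']
    exact (homAddEquiv ((Opens.map f).obj V.unop) (I.X (p + 1))).map_zero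
  let t' : CohCx.freeSheaf (Opens.grothendieckTopology Y) V.unop ⟶ (M f I).X p :=
    (homEquiv V.unop ((M f I).X p)).symm t
  have ht' : t' ≫ (M f I).d p (p + 1) = 0 := by
    change (homEquiv V.unop ((M f I).X p)).symm t ≫ (M f I).d p (p + 1) = 0
    rw [← symm_comp']
    refine (congrArg _ ht).trans ?_
    exact (homAddEquiv V.unop ((M f I).X (p + 1))).symm.map_zero
  refine ⟨homEquiv V.unop ((M f I).cycles p) ((M f I).liftCycles t' (p + 1) (by simp) ht'), ?_⟩
  change cls _ I p (z f I p V _) _ = cls _ I p f' hf''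
  apply cls_congr
  unfold z
  rw [Equiv.symm_apply_eq]
  have h1 := homEquiv_comp V.unop ((M f I).liftCycles t' (p + 1) (by simp) ht')
    ((M f I).iCycles p)
  rw [HomologicalComplex.liftCycles_i] at h1
  refine h1.symm.trans ?_
  exact Equiv.apply_symm_apply _ _

theorem c_eq_zero_iff (V : (Opens Y)ᵒᵖ) (s : ((M f I).cycles p).obj.obj V) :
    (c f I p).app V s = 0 ↔ ∃ x : ((M f I).X (p - 1)).obj.obj V,
      ((M f I).toCycles (p - 1) p).hom.app V x = s := by
  change cls _ I p (z f I p V s) (z_d f I p V s) = 0 ↔ _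
  rw [cls_eq_zero_iff]
  constructor
  · rintro ⟨g, hg⟩
    refine ⟨homEquiv ((Opens.map f).obj V.unop) (I.X (p - 1)) g, ?_⟩
    apply iCycles_injective f I p V
    have h1 : ((M f I).iCycles p).hom.app V (((M f I).toCycles (p - 1) p).hom.app V
        (homEquiv ((Opens.map f).obj V.unop) (I.X (p - 1)) g)) =
        ((M f I).d (p - 1) p).hom.app V (homEquiv ((Opens.map f).obj V.unop) (I.X (p - 1)) g) := by
      have := congrArg (fun φ => φ.hom.app V (homEquiv ((Opens.map f).obj V.unop) (I.X (p - 1)) g))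
        ((M f I).toCycles_i (p - 1) p)
      exact this
    rw [h1, d_app, ← homEquiv_comp, hg]
    unfold z
    exact Equiv.apply_symm_apply _ _
  · rintro ⟨x, rfl⟩
    refine ⟨(homEquiv ((Opens.map f).obj V.unop) (I.X (p - 1))).symm x, ?_⟩
    unfold z
    rw [← symm_comp]
    congr 1
    have := congrArg (fun φ => φ.hom.app V x) ((M f I).toCycles_i (p - 1) p)
    exact this.symm

end Groth.Agent.Helper4.PushShf
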