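import Mathlib
import Groth.Agent.Helper1.TopPush
import Groth.Agent.Helper9.KInjAdj
import Groth.Agent.Helper4.PushShf2
import Groth.Agent.Helper4.HDUkap
import Groth.Agent.Helper4.HDUmono

/-! If `Hⁱ(f⁻¹V, K) = 0` for `i < 0` and `V` in a basis, then the same holds for all opens `V` and
`V ↦ H⁰(f⁻¹V, K)` is a sheaf. -/

set_option autoImplicit false
set_option linter.unusedSectionVars false
universe w u

open CategoryTheory Limits Opposite TopologicalSpace

namespace Groth.Agent.Helper4.PushGE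

open Groth.Agent.Helper4.HDUcls Groth.Agent.Helper1.SiteCoh Groth.Agent.Helper4.PushShf

section Basis

variable {Y : TopCat.{u}}

/-- a presheaf of abelian groups vanishing on a basis has trivial sheafification -/
theorem isZero_sheafify_of_basis (P : (Opens Y)ᵒᵖ ⥤ AddCommGrpCat.{u}) (B : Set (Opens Y))
    (hB : Opens.IsBasis B) (hP : ∀ V ∈ B, Subsingleton (P.obj (op V))) :
    IsZero ((presheafToSheaf (Opens.grothendieckTopology Y) AddCommGrpCat.{u}).obj P) := by
  let adj := sheafificationAdjunction (Opens.grothendieckTopology Y) AddCommGrpCat.{u}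
  set G := (presheafToSheaf (Opens.grothendieckTopology Y) AddCommGrpCat.{u}).obj P with hG
  have key : ∀ φ : P ⟶ (sheafToPresheaf _ _).obj G, φ = 0 := by
    intro φ
    ext V t
    obtain ⟨V⟩ := V
    let ι : Type u := {W : Opens Y // W ∈ B ∧ W ≤ V}
    refine Groth.Agent.Helper4.HDUmono.section_eq_zero_of_cover V G (φ.app (op V) t)
      (fun i : ι => i.1) (fun i => homOfLE i.2.2) ?_ ?_
    · intro x hx
      obtain ⟨W, hWB, hxW, hWV⟩ := (Opens.isBasis_iff_nbhd.1 hB) hx
      exact ⟨W, homOfLE hWV, ⟨W, 𝟙 _, homOfLE hWV, ⟨(⟨W, hWB, hWV⟩ : ι)⟩, by simp⟩, hxW⟩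
    · intro i
      have hn := NatTrans.naturality_apply φ (homOfLE i.2.2).op t
      refine hn.symm.trans ?_
      haveI := hP i.1 i.2.1
      rw [Subsingleton.elim (P.map (homOfLE i.2.2).op t) 0, map_zero]
  rw [IsZero.iff_id_eq_zero]
  apply (adj.homEquiv P G).injective
  rw [key (adj.homEquiv P G (𝟙 G)), key (adj.homEquiv P G 0)]

end Basis

section Res

variable {A : Type*} [Category A] [Abelian A] [EnoughInjectives A]

/-- a complex with vanishing negative cohomology has a K-injective resolution in degrees `≥ 0` -/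
theorem exists_res (N : CochainComplex A ℤ) (hN : ∀ i : ℤ, i < 0 → IsZero (N.homology i)) :
    ∃ (M' : CochainComplex A ℤ) (α : N ⟶ M'), QuasiIso α ∧ M'.IsKInjective ∧
      M'.IsStrictlyGE 0 := by
  haveI : N.IsGE 0 := by
    rw [CochainComplex.isGE_iff]
    intro i hi
    rw [HomologicalComplex.exactAt_iff_isZero_homology]
    exact hN i hi
  obtain ⟨L, i, hi, hL, hL'⟩ :=
    CochainComplex.Plus.modelCategoryQuillen.exists_quasiIso_injective (N.truncGE 0) 0
  refine ⟨L, N.πTruncGE 0 ≫ i, inferInstance, ?_, hL'⟩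
  exact CochainComplex.isKInjective_of_injective L 0

end Res

variable {X Y : TopCat.{u}} (f : X ⟶ Y) [HasDerivedCategory.{u} (CohTop.Ab X)]
  (I : CochainComplex (CohTop.Ab X) ℤ) [I.IsKInjective]

instance isKInjective_M : (M f I).IsKInjective := by
  let adj : CohTop.pull f ⊣ CohTop.push f :=
    TopCat.Sheaf.pullbackPushforwardAdjunction AddCommGrpCat.{u} f
  haveI : (CohTop.pull f).Additive := adj.left_adjoint_additive
  haveI : PreservesFiniteLimits (CohTop.pull f) := Groth.Agent.Helper1.TopPush.pullPFL f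
  haveI : PreservesFiniteColimits (CohTop.pull f) := by
    haveI := adj.leftAdjoint_preservesColimits
    infer_instance
  exact Groth.Agent.Helper9.KInjAdj.isKInjective_map adj I

theorem isZero_homology (B : Set (Opens Y)) (hB : Opens.IsBasis B)
    (h : ∀ V ∈ B, ∀ i : ℤ, i < 0 →
      Subsingleton (CohCx.HDU (DerivedCategory.Q.obj I) i ((Opens.map f).obj V)))
    (i : ℤ) (hi : i < 0) : IsZero ((M f I).homology i) := by
  obtain ⟨e⟩ := Groth.Agent.Helper4.PushShf.nonempty_iso f I i
  refine IsZero.of_iso ?_ e.symm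
  exact isZero_sheafify_of_basis _ B hB (fun V hV => h V hV i hi)

section Main

variable [HasDerivedCategory.{w} (CohTop.Ab Y)]
  (M' : CochainComplex (CohTop.Ab Y) ℤ) (α : M f I ⟶ M') [QuasiIso α] [M'.IsKInjective]
  [M'.IsStrictlyGE 0]

open Groth.Agent.Helper4.HDUkap

include α in
theorem subsingleton_neg (V : Opens Y) (i : ℤ) (hi : i < 0) :
    Subsingleton (CohCx.HDU (DerivedCategory.Q.obj I) i ((Opens.map f).obj V)) := by
  suffices h0 : ∀ x : CohCx.HDU (DerivedCategory.Q.obj I) i ((Opens.map f).obj V), x = 0 from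
    ⟨fun x y => (h0 x).trans (h0 y).symm⟩
  intro x
  obtain ⟨s, rfl⟩ := c_surjective f I i (op V) x
  have hz : IsZero (M'.X i) := CochainComplex.isZero_of_isStrictlyGE M' 0 i hi
  have hc : IsZero (M'.cycles i) := IsZero.of_mono (M'.iCycles i) hz
  have h1 : HomologicalComplex.cyclesMap α i = 0 := hc.eq_of_tgt _ _
  have h2 := κ_cyclesMap (M f I) i α V s
  rw [h1] at h2
  have h3 : κ M' i V (((0 : (M f I).cycles i ⟶ M'.cycles i)).hom.app (op V) s) = 0 :=
    (κ M' i V).map_zero
  rw [h3] at h2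
  have h4 : κ (M f I) i V s = 0 := by
    have := congrArg (fun t => t ≫ inv ((DerivedCategory.Q.map α)⟦i⟧')) h2
    simpa using this.symm
  exact (c_eq_zero_iff f I i (op V) s).2 ((κ_eq_zero_iff (M f I) i V s).1 h4)

include α in
theorem isSheaf_zero :
    Presheaf.IsSheaf (Opens.grothendieckTopology Y)
      ((Opens.map f).op ⋙ CohCx.HDUPresheaf (DerivedCategory.Q.obj I) 0) := by
  have c_zero : (sheafToPresheaf _ AddCommGrpCat.{u}).map ((M f I).toCycles (0 - 1) 0) ≫
      c f I 0 = 0 := by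
    ext V x
    exact (c_eq_zero_iff f I 0 V _).2 ⟨x, rfl⟩
  let S₁ : ShortComplex ((Opens Y)ᵒᵖ ⥤ AddCommGrpCat.{u}) := ShortComplex.mk _ _ c_zero
  have S₁_exact : S₁.Exact := by
    apply Groth.Agent.Helper1.SiteCoh.exact_of_evaluation
    intro V
    rw [ShortComplex.ab_exact_iff]
    intro (s : ((M f I).cycles 0).obj.obj V) hs
    exact (c_eq_zero_iff f I 0 V s).1 hs
  haveI : Epi S₁.g := by
    change Epi (c f I 0)
    haveI : ∀ V, Epi ((c f I 0).app V) := by
      intro V
      rw [AddCommGrpCat.epi_iff_surjective]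
      exact c_surjective f I 0 V
    exact NatTrans.epi_of_epi_app _
  have hcok := S₁_exact.gIsCokernel
  have hz : IsZero (M'.X (0 - 1)) := CochainComplex.isZero_of_isStrictlyGE M' 0 (0 - 1) (by simp)
  let Θ : ((M f I).cycles 0).obj ⟶ (M'.cycles 0).obj :=
    (sheafToPresheaf _ AddCommGrpCat.{u}).map (HomologicalComplex.cyclesMap α 0)
  have hΘ : S₁.f ≫ Θ = 0 := by
    change (sheafToPresheaf _ AddCommGrpCat.{u}).map ((M f I).toCycles (0 - 1) 0) ≫
      (sheafToPresheaf _ AddCommGrpCat.{u}).map (HomologicalComplex.cyclesMap α 0) = 0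
    rw [← Functor.map_comp]
    have : (M f I).toCycles (0 - 1) 0 ≫ HomologicalComplex.cyclesMap α 0 = 0 := by
      rw [← cancel_mono (M'.iCycles 0), Category.assoc, HomologicalComplex.cyclesMap_i,
        HomologicalComplex.toCycles_i_assoc, zero_comp, ← α.comm]
      have h0 : α.f (0 - 1) = 0 := hz.eq_of_tgt _ _
      rw [h0, zero_comp]
    rw [this, Functor.map_zero]
  let Φ : ((Opens.map f).op ⋙ CohCx.HDUPresheaf (DerivedCategory.Q.obj I) 0) ⟶ (M'.cycles 0).obj :=
    hcok.desc (CokernelCofork.ofπ Θ hΘ)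
  have hΦ : c f I 0 ≫ Φ = Θ := hcok.fac (CokernelCofork.ofπ Θ hΘ) WalkingParallelPair.one
  have hΦ' : ∀ V (s : ((M f I).cycles 0).obj.obj V),
      Φ.app V ((c f I 0).app V s) = (HomologicalComplex.cyclesMap α 0).hom.app V s := by
    intro V s
    have := congrArg (fun φ => φ.app V s) hΦ
    exact this
  have hM'zero : ∀ (V : Opens Y) (m : (M'.cycles 0).obj.obj (op V)), κ M' 0 V m = 0 → m = 0 := by
    intro V m hm
    obtain ⟨x, hx⟩ := (κ_eq_zero_iff M' 0 V m).1 hm
    have h0 : M'.toCycles (0 - 1) 0 = 0 := hz.eq_of_src _ _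
    rw [h0] at hx
    exact hx.symm
  haveI : IsIso Φ := by
    haveI : ∀ V, IsIso (Φ.app V) := by
      intro V
      obtain ⟨V⟩ := V
      rw [ConcreteCategory.isIso_iff_bijective]
      constructor
      · rw [injective_iff_map_eq_zero]
        intro x hx
        obtain ⟨s, rfl⟩ := c_surjective f I 0 (op V) x
        rw [hΦ'] at hx
        have h2 := κ_cyclesMap (M f I) 0 α V s
        rw [hx, map_zero] at h2
        have h4 : κ (M f I) 0 V s = 0 := by
          have := congrArg (fun t => t ≫ inv ((DerivedCategory.Q.map α)⟦(0 : ℤ)⟧')) h2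
          simpa using this.symm
        exact (c_eq_zero_iff f I 0 (op V) s).2 ((κ_eq_zero_iff (M f I) 0 V s).1 h4)
      · intro m
        obtain ⟨s, hs⟩ := κ_surjective (M f I) 0 V
          (κ M' 0 V m ≫ inv ((DerivedCategory.Q.map α)⟦(0 : ℤ)⟧'))
        refine ⟨(c f I 0).app (op V) s, ?_⟩
        rw [hΦ']
        have h2 := κ_cyclesMap (M f I) 0 α V s
        rw [hs, Category.assoc, IsIso.inv_hom_id, Category.comp_id] at h2
        have h5 : κ M' 0 V ((HomologicalComplex.cyclesMap α 0).hom.app (op V) s - m) = 0 := by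
          rw [map_sub, h2, sub_self]
        exact sub_eq_zero.1 (hM'zero V _ h5)
    exact NatIso.isIso_of_isIso_app Φ
  exact (Presheaf.isSheaf_of_iso_iff (asIso Φ)).2 (M'.cycles 0).property

end Main

end Groth.Agent.Helper4.PushGE
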