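import Mathlib

set_option autoImplicit false
universe u
open CategoryTheory CategoryTheory.Limits AlgebraicGeometry TopologicalSpace Opposite

namespace Groth.Agent.Helper4.QAffGrpA

variable {k : Type u} [Field k] {X : Scheme.{u}} (g : X ⟶ Spec (CommRingCat.of k))

/-- the structure map of the affine hull -/
noncomputable def m : Spec Γ(X, ⊤) ⟶ Spec (CommRingCat.of k) :=
  Spec.map g.appTop ≫ (Spec (CommRingCat.of k)).isoSpec.inv

lemma toSpecΓ_m : X.toSpecΓ ≫ m g = g := by
  rw [m, ← Category.assoc, ← Scheme.toSpecΓ_naturality, Category.assoc]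
  have : (Spec (CommRingCat.of k)).toSpecΓ = (Spec (CommRingCat.of k)).isoSpec.hom := rfl
  rw [this, Iso.hom_inv_id, Category.comp_id]

/-- the product of the affinization maps -/
noncomputable def J₂ : pullback g g ⟶ pullback (m g) (m g) :=
  pullback.map g g (m g) (m g) X.toSpecΓ X.toSpecΓ (𝟙 _)
    (by rw [Category.comp_id, toSpecΓ_m]) (by rw [Category.comp_id, toSpecΓ_m])


set_option maxHeartbeats 1600000 in
theorem isIso_J₂_appTop [CompactSpace X] [QuasiSeparatedSpace X] : IsIso (J₂ g).appTop := by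
  have HP : IsPullback (pullback.fst g g) (pullback.snd g g) g g := IsPullback.of_hasPullback g g
  have HQ : IsPullback (pullback.fst (m g) (m g)) (pullback.snd (m g) (m g)) (m g) (m g) :=
    IsPullback.of_hasPullback _ _
  have hflat : (g.appLE ⊤ ⊤ le_top).hom.Flat := by
    have hF : IsField Γ(Spec (CommRingCat.of k), ⊤) :=
      (Scheme.ΓSpecIso (.of k)).commRingCatIsoToRingEquiv.toMulEquiv.isField (Field.toIsField k)
    letI := hF.toField
    algebraize [(g.appLE ⊤ ⊤ le_top).hom]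
    change Module.Flat Γ(Spec (CommRingCat.of k), ⊤) Γ(X, ⊤)
    infer_instance
  have h1 : IsIso (pushoutSection HP (US := ⊤) (UT := ⊤) (UX := ⊤) (UY := ⊤) le_top le_top
      (by simp)) :=
    isIso_pushoutSection_of_isCompact_of_flat_right_of_ringHomFlat HP le_top le_top (by simp)
      (isAffineOpen_top _) isCompact_univ
      (by simpa using (isQuasiSeparated_univ_iff.mpr (inferInstance : QuasiSeparatedSpace X)))
      isCompact_univ
      (by simpa using (isQuasiSeparated_univ_iff.mpr (inferInstance : QuasiSeparatedSpace X)))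
      hflat
  have h2 : IsIso (pushoutSection HQ (US := ⊤) (UT := ⊤) (UX := ⊤) (UY := ⊤) le_top le_top
      (by simp)) :=
    isIso_pushoutSection_of_isAffineOpen HQ le_top le_top (by simp)
      (isAffineOpen_top _) (isAffineOpen_top _) (isAffineOpen_top _)
  have htop : ∀ {Y Z : Scheme.{u}} (f : Y ⟶ Z), f.appTop = f.appLE ⊤ ⊤ le_top := by
    intro Y Z f
    rw [Scheme.Hom.appTop, Scheme.Hom.app_eq_appLE]
    rfl
  have e1 : (m g).appLE ⊤ ⊤ le_top ≫ X.toSpecΓ.appLE ⊤ ⊤ le_top = 𝟙 _ ≫ g.appLE ⊤ ⊤ le_top := by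
    rw [Scheme.Hom.appLE_comp_appLE, Category.id_comp]
    congr 1
    exact toSpecΓ_m g
  haveI hj : IsIso (X.toSpecΓ.appLE ⊤ ⊤ le_top) := by
    rw [← htop, Scheme.toSpecΓ_appTop]; infer_instance
  let θ := pushout.map ((m g).appLE ⊤ ⊤ le_top) ((m g).appLE ⊤ ⊤ le_top) (g.appLE ⊤ ⊤ le_top)
    (g.appLE ⊤ ⊤ le_top) (X.toSpecΓ.appLE ⊤ ⊤ le_top) (X.toSpecΓ.appLE ⊤ ⊤ le_top) (𝟙 _) e1 e1
  haveI : IsIso θ := by
    dsimp only [θ]; infer_instance
  set ψQ := pushoutSection HQ (US := ⊤) (UT := ⊤) (UX := ⊤) (UY := ⊤) le_top le_top (by simp)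
    with hψQ
  set ψP := pushoutSection HP (US := ⊤) (UT := ⊤) (UX := ⊤) (UY := ⊤) le_top le_top (by simp)
    with hψP
  have key : ψQ ≫ (J₂ g).appLE ⊤ ⊤ le_top = θ ≫ ψP := by
    apply pushout.hom_ext
    · simp only [hψQ, hψP, θ, pushout.inl_desc_assoc, pushout.inl_desc, Category.assoc,
        Scheme.Hom.appLE_comp_appLE]
      congr 1
      exact pullback.lift_fst _ _ _
    · simp only [hψQ, hψP, θ, pushout.inr_desc_assoc, pushout.inr_desc, Category.assoc,
        Scheme.Hom.appLE_comp_appLE]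
      congr 1
      exact pullback.lift_snd _ _ _
  rw [htop]
  have : (J₂ g).appLE ⊤ ⊤ le_top = inv ψQ ≫ θ ≫ ψP := by
    rw [← key, IsIso.inv_hom_id_assoc]
  rw [this]
  infer_instance

end Groth.Agent.Helper4.QAffGrpA
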