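import Mathlib
import Groth.Agent.Helper4.QAffGrpA

set_option autoImplicit false
universe u
open CategoryTheory CategoryTheory.Limits AlgebraicGeometry TopologicalSpace Opposite

namespace Groth.Agent.Helper4.QAffGrpB

open Groth.Agent.Helper4.QAffGrpA

variable {k : Type u} [Field k] {X : Scheme.{u}} (g : X ⟶ Spec (CommRingCat.of k))

lemma ext_of_J₂ [CompactSpace X] [QuasiSeparatedSpace X] {Y : Scheme.{u}} [IsAffine Y]
    (a b : pullback (m g) (m g) ⟶ Y) (h : J₂ g ≫ a = J₂ g ≫ b) : a = b := by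
  haveI := isIso_J₂_appTop g
  apply ext_of_isAffine
  have := congrArg Scheme.Hom.appTop h
  rw [Scheme.Hom.comp_appTop, Scheme.Hom.comp_appTop] at this
  exact (cancel_mono _).mp this

lemma exists_ext [CompactSpace X] [QuasiSeparatedSpace X] {Y : Scheme.{u}} [IsAffine Y]
    (c : pullback g g ⟶ Y) : ∃ c' : pullback (m g) (m g) ⟶ Y, J₂ g ≫ c' = c := by
  haveI := isIso_J₂_appTop g
  refine ⟨(pullback (m g) (m g)).toSpecΓ ≫ Spec.map (inv (J₂ g).appTop) ≫ Spec.map c.appTop ≫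
    Y.isoSpec.inv, ?_⟩
  rw [← Category.assoc, Scheme.toSpecΓ_naturality, Category.assoc, ← Spec.map_comp_assoc,
    IsIso.inv_hom_id, Spec.map_id, Category.id_comp, ← Category.assoc,
    ← Scheme.toSpecΓ_naturality, Category.assoc]
  have : Y.toSpecΓ = Y.isoSpec.hom := rfl
  rw [this, Iso.hom_inv_id, Category.comp_id]

/-- Automorphisms of `X ×ₖ X` extend to the product of the affine hulls. -/
lemma exists_iso_ext [CompactSpace X] [QuasiSeparatedSpace X]
    (φ : pullback g g ≅ pullback g g) :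
    ∃ φ' : pullback (m g) (m g) ≅ pullback (m g) (m g), J₂ g ≫ φ'.hom = φ.hom ≫ J₂ g := by
  obtain ⟨a, ha⟩ := exists_ext g (φ.hom ≫ J₂ g)
  obtain ⟨b, hb⟩ := exists_ext g (φ.inv ≫ J₂ g)
  refine ⟨⟨a, b, ?_, ?_⟩, ha⟩
  · apply ext_of_J₂ g
    rw [← Category.assoc, ha, Category.assoc, hb, Iso.hom_inv_id_assoc, Category.comp_id]
  · apply ext_of_J₂ g
    rw [← Category.assoc, hb, Category.assoc, ha, Iso.inv_hom_id_assoc, Category.comp_id]

end Groth.Agent.Helper4.QAffGrpB
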