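import Mathlib
import Groth.Agent.Helper4.QAffGrpB

set_option autoImplicit false
universe u
open CategoryTheory CategoryTheory.Limits AlgebraicGeometry TopologicalSpace Opposite

namespace Groth.Agent.Helper4.QAffGrpC

open Groth.Agent.Helper4.QAffGrpA Groth.Agent.Helper4.QAffGrpB

variable {k : Type u} [Field k] {X : Scheme.{u}} (g : X ⟶ Spec (CommRingCat.of k))

/-- density of `M × X` in the fibres of `fst : M × M → M`. -/
lemma dense_fibre [CompactSpace X] (a : Spec Γ(X, ⊤))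
    (W : Set ↥(pullback (m g) (m g))) (hW : IsOpen W)
    (hne : (W ∩ (pullback.fst (m g) (m g)) ⁻¹' {a}).Nonempty) :
    (W ∩ (pullback.fst (m g) (m g)) ⁻¹' {a} ∩
      (pullback.snd (m g) (m g)) ⁻¹' Set.range X.toSpecΓ).Nonempty := by
  set fQ := pullback.fst (m g) (m g)
  set sQ := pullback.snd (m g) (m g)
  let ιa := (Spec Γ(X, ⊤)).fromSpecResidueField a
  let pr₁ := pullback.fst fQ ιa
  let pr₂ := pullback.snd fQ ιa
  have sq1 : IsPullback pr₁ pr₂ fQ ιa := IsPullback.of_hasPullback _ _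
  have sq2 : IsPullback sQ fQ (m g) (m g) := (IsPullback.of_hasPullback _ _).flip
  have sq3 : IsPullback (pr₁ ≫ sQ) pr₂ (m g) (ιa ≫ m g) := sq1.paste_horiz sq2
  have hopen : UniversallyOpen (pr₁ ≫ sQ) :=
    MorphismProperty.of_isPullback (P := @UniversallyOpen) sq3.flip inferInstance
  have hrange : Set.range pr₁ = fQ ⁻¹' {a} := by
    rw [Scheme.Pullback.range_fst, Scheme.range_fromSpecResidueField]
  obtain ⟨z₀, hz₀W, hz₀a⟩ := hne
  obtain ⟨r₀, hr₀⟩ : z₀ ∈ Set.range pr₁ := by rw [hrange]; exact hz₀a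
  have hV : IsOpen (pr₁ ⁻¹' W) := hW.preimage pr₁.continuous
  have hVimg : IsOpen ((pr₁ ≫ sQ) '' (pr₁ ⁻¹' W)) := (pr₁ ≫ sQ).isOpenMap _ hV
  have hdense : DenseRange X.toSpecΓ := X.toSpecΓ.denseRange
  have hne' : ((pr₁ ≫ sQ) '' (pr₁ ⁻¹' W)).Nonempty :=
    ⟨_, ⟨r₀, by change pr₁ r₀ ∈ W; rw [hr₀]; exact hz₀W, rfl⟩⟩
  obtain ⟨x, r, hrW, hx⟩ := hdense.exists_mem_open hVimg hne'
  refine ⟨pr₁ r, ⟨hrW, ?_⟩, ?_⟩
  · have : pr₁ r ∈ Set.range pr₁ := ⟨r, rfl⟩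
    rw [hrange] at this
    exact this
  · exact ⟨x, by rw [← hx]; rfl⟩


theorem surjective_toSpecΓ [X.IsQuasiAffine]
    (σ τ : pullback g g ≅ pullback g g)
    (hσ : σ.hom ≫ pullback.fst g g = pullback.fst g g)
    (hτ : τ.hom ≫ pullback.snd g g = pullback.snd g g)
    (hστ : σ.hom ≫ pullback.snd g g = τ.hom ≫ pullback.fst g g) :
    Function.Surjective X.toSpecΓ := by
  haveI : QuasiSeparatedSpace X := inferInstance
  obtain ⟨σQ, hσQ⟩ := exists_iso_ext g σ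
  obtain ⟨τQ, hτQ⟩ := exists_iso_ext g τ
  set fQ := pullback.fst (m g) (m g) with hfQ
  set sQ := pullback.snd (m g) (m g) with hsQ
  have hJf : J₂ g ≫ fQ = pullback.fst g g ≫ X.toSpecΓ := pullback.lift_fst _ _ _
  have hJs : J₂ g ≫ sQ = pullback.snd g g ≫ X.toSpecΓ := pullback.lift_snd _ _ _
  have h1 : σQ.hom ≫ fQ = fQ := by
    apply ext_of_J₂ g
    rw [← Category.assoc, hσQ, Category.assoc, hJf, ← Category.assoc, hσ]
  have h2 : τQ.hom ≫ sQ = sQ := by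
    apply ext_of_J₂ g
    rw [← Category.assoc, hτQ, Category.assoc, hJs, ← Category.assoc, hτ]
  have h3 : σQ.hom ≫ sQ = τQ.hom ≫ fQ := by
    apply ext_of_J₂ g
    rw [← Category.assoc, hσQ, Category.assoc, hJs, ← Category.assoc, hστ, ← Category.assoc (J₂ g),
      hτQ, Category.assoc, Category.assoc, hJf]
  have hr : Set.range (J₂ g) = fQ ⁻¹' Set.range X.toSpecΓ ∩ sQ ⁻¹' Set.range X.toSpecΓ :=
    Scheme.Pullback.range_map g g (m g) (m g) X.toSpecΓ X.toSpecΓ (𝟙 _)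
      (by rw [Category.comp_id, toSpecΓ_m]) (by rw [Category.comp_id, toSpecΓ_m])
  have hτinv : τ.inv ≫ J₂ g = J₂ g ≫ τQ.inv := by
    rw [Iso.inv_comp_eq, ← Category.assoc, ← hτQ, Category.assoc, Iso.hom_inv_id, Category.comp_id]
  have hτr : ∀ z, τQ.hom z ∈ Set.range (J₂ g) → z ∈ Set.range (J₂ g) := by
    rintro z ⟨p, hp⟩
    refine ⟨τ.inv p, ?_⟩
    rw [← Scheme.Hom.comp_apply, hτinv, Scheme.Hom.comp_apply, hp, ← Scheme.Hom.comp_apply,
      Iso.hom_inv_id]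
    rfl
  intro a
  -- a point of the fibre over `a`
  obtain ⟨z₀, hz₀, -⟩ := Scheme.Pullback.exists_preimage_pullback (f := m g) (g := m g) a a rfl
  obtain ⟨z₁, ⟨-, hz₁a⟩, hz₁⟩ := dense_fibre g a Set.univ isOpen_univ ⟨z₀, trivial, hz₀⟩
  -- `W = σQ⁻¹ (D₁)`
  have hD₁ : IsOpen (sQ ⁻¹' Set.range X.toSpecΓ) :=
    X.toSpecΓ.isOpenEmbedding.isOpen_range.preimage sQ.continuous
  have hW : IsOpen (σQ.hom ⁻¹' (sQ ⁻¹' Set.range X.toSpecΓ)) := hD₁.preimage σQ.hom.continuous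
  have hfσ : ∀ z, fQ (σQ.hom z) = fQ z := fun z => by
    rw [← Scheme.Hom.comp_apply, h1]
  have hσσ : ∀ z, σQ.hom (σQ.inv z) = z := fun z => by
    rw [← Scheme.Hom.comp_apply, Iso.inv_hom_id]; rfl
  have hfσ' : ∀ z, fQ (σQ.inv z) = fQ z := fun z => by
    rw [← hfσ (σQ.inv z), hσσ]
  have hne : (σQ.hom ⁻¹' (sQ ⁻¹' Set.range X.toSpecΓ) ∩ fQ ⁻¹' {a}).Nonempty := by
    refine ⟨σQ.inv z₁, ?_, ?_⟩
    · rw [Set.mem_preimage, Set.mem_preimage, hσσ]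
      exact hz₁
    · change fQ (σQ.inv z₁) = a
      rw [hfσ']; exact hz₁a
  obtain ⟨z, ⟨hzW, hza⟩, hzD⟩ := dense_fibre g a _ hW hne
  -- now `τQ z ∈ range J₂`
  have hz : z ∈ Set.range (J₂ g) := by
    apply hτr
    rw [hr]
    refine ⟨?_, ?_⟩
    · rw [Set.mem_preimage, ← Scheme.Hom.comp_apply, ← h3]
      exact hzW
    · rw [Set.mem_preimage, ← Scheme.Hom.comp_apply, h2]
      exact hzD
  rw [hr] at hz
  obtain ⟨x, hx⟩ := hz.1
  exact ⟨x, hx.trans hza⟩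

theorem isAffine_of_shears [X.IsQuasiAffine]
    (σ τ : pullback g g ≅ pullback g g)
    (hσ : σ.hom ≫ pullback.fst g g = pullback.fst g g)
    (hτ : τ.hom ≫ pullback.snd g g = pullback.snd g g)
    (hστ : σ.hom ≫ pullback.snd g g = τ.hom ≫ pullback.fst g g) :
    IsAffine X := by
  have hs := surjective_toSpecΓ g σ τ hσ hτ hστ
  haveI : Surjective X.toSpecΓ := ⟨hs⟩
  haveI : IsIso X.toSpecΓ :=
    (isIso_iff_isOpenImmersion_and_surjective _).mpr ⟨inferInstance, inferInstance⟩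
  exact IsAffine.of_isIso X.toSpecΓ

end Groth.Agent.Helper4.QAffGrpC
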