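import Mathlib
import Groth.Agent.Helper4.QAffGrpC

set_option autoImplicit false
universe u v
open CategoryTheory MonoidalCategory CartesianMonoidalCategory MonObj GrpObj

namespace Groth.Agent.Helper4.QAffGrpD

section
variable {C : Type u} [Category.{v} C] [CartesianMonoidalCategory C] (G : C) [GrpObj G]

/-- the shear `(x, y) ↦ (x, x y)` -/
def σ : G ⊗ G ≅ G ⊗ G where
  hom := lift (fst G G) (fst G G * snd G G)
  inv := lift (fst G G) ((fst G G)⁻¹ * snd G G)
  hom_inv_id := by
    apply CartesianMonoidalCategory.hom_ext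
    · simp
    · rw [Category.assoc, lift_snd, MonObj.comp_mul, GrpObj.comp_inv, lift_fst, lift_snd,
        inv_mul_cancel_left, Category.id_comp]
  inv_hom_id := by
    apply CartesianMonoidalCategory.hom_ext
    · simp
    · rw [Category.assoc, lift_snd, MonObj.comp_mul, lift_fst, lift_snd,
        mul_inv_cancel_left, Category.id_comp]

/-- the shear `(x, y) ↦ (x y, y)` -/
def τ : G ⊗ G ≅ G ⊗ G where
  hom := lift (fst G G * snd G G) (snd G G)
  inv := lift (fst G G * (snd G G)⁻¹) (snd G G)
  hom_inv_id := by
    apply CartesianMonoidalCategory.hom_ext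
    · rw [Category.assoc, lift_fst, MonObj.comp_mul, GrpObj.comp_inv, lift_fst, lift_snd,
        mul_inv_cancel_right, Category.id_comp]
    · simp
  inv_hom_id := by
    apply CartesianMonoidalCategory.hom_ext
    · rw [Category.assoc, lift_fst, MonObj.comp_mul, lift_fst, lift_snd,
        inv_mul_cancel_right, Category.id_comp]
    · simp

lemma σ_fst : (σ G).hom ≫ fst G G = fst G G := lift_fst _ _
lemma σ_snd : (σ G).hom ≫ snd G G = fst G G * snd G G := lift_snd _ _
lemma τ_fst : (τ G).hom ≫ fst G G = fst G G * snd G G := lift_fst _ _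
lemma τ_snd : (τ G).hom ≫ snd G G = snd G G := lift_snd _ _

end

end Groth.Agent.Helper4.QAffGrpD
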