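import Mathlib

/-!
# A quasi-affine scheme locally of finite type over `S` immerses into `𝔸ⁿ_S`
-/

set_option autoImplicit false
universe u
open CategoryTheory CategoryTheory.Limits AlgebraicGeometry Opposite TopologicalSpace

namespace Groth.Agent.Helper4.QAffImm

variable {X S : Scheme.{u}}

/-- Local data at a point of a quasi-affine scheme locally of finite type over `S`. -/
theorem exists_local_data (π : X ⟶ S) [LocallyOfFiniteType π] [X.IsQuasiAffine] (x : X) :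
    ∃ (f : Γ(X, ⊤)) (V : S.Opens) (G : Finset Γ(X, ⊤)) (hle : X.basicOpen f ≤ π ⁻¹ᵁ V),
      x ∈ X.basicOpen f ∧ IsAffineOpen (X.basicOpen f) ∧ IsAffineOpen V ∧
      ∀ (R : Subring Γ(X, X.basicOpen f)),
        (∀ s, (π.appLE V (X.basicOpen f) hle).hom s ∈ R) →
        (∀ a ∈ G, (X.presheaf.map (homOfLE (le_top : X.basicOpen f ≤ ⊤)).op).hom a ∈ R) →
        (∀ u : Γ(X, X.basicOpen f),
          u * (X.presheaf.map (homOfLE (le_top : X.basicOpen f ≤ ⊤)).op).hom f = 1 → u ∈ R) →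
        R = ⊤ := by
  classical
  obtain ⟨_, ⟨V, hV : IsAffineOpen V, rfl⟩, hxV, -⟩ :=
    S.isBasis_affineOpens.exists_subset_of_mem_open (Set.mem_univ (π x)) isOpen_univ
  obtain ⟨_, ⟨_, ⟨f, hf, rfl⟩, rfl⟩, hxf, hfV⟩ :=
    (Scheme.IsQuasiAffine.isBasis_basicOpen X).exists_subset_of_mem_open
      (show x ∈ ((π ⁻¹ᵁ V : X.Opens) : Set X) from hxV) (π ⁻¹ᵁ V).2
  have hle : X.basicOpen f ≤ π ⁻¹ᵁ V := hfV
  have hft := Scheme.Hom.finiteType_appLE π hV hf hle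
  have hqs : QuasiSeparatedSpace X := inferInstance
  algebraize [(π.appLE V (X.basicOpen f) hle).hom]
  obtain ⟨s, hs⟩ := ‹Algebra.FiniteType Γ(S, V) Γ(X, X.basicOpen f)›.out
  have hex : ∀ b : Γ(X, X.basicOpen f), ∃ (n : ℕ) (y : Γ(X, ⊤)),
      (X.presheaf.map (homOfLE (le_top : X.basicOpen f ≤ ⊤)).op).hom y =
        ((X.presheaf.map (homOfLE (le_top : X.basicOpen f ≤ ⊤)).op).hom f) ^ n * b := by
    intro b
    obtain ⟨n, y, hy⟩ := exists_eq_pow_mul_of_isCompact_of_isQuasiSeparated X ⊤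
      CompactSpace.isCompact_univ isQuasiSeparated_univ f b
    exact ⟨n, y, hy⟩
  choose N Y hY using hex
  refine ⟨f, V, s.image Y, hle, hxf, hf, hV, ?_⟩
  intro R h1 h2 h3
  have hunit : IsUnit ((X.presheaf.map (homOfLE (le_top : X.basicOpen f ≤ ⊤)).op).hom f) :=
    RingedSpace.isUnit_res_basicOpen X.toRingedSpace f
  obtain ⟨w, hw⟩ := hunit.exists_left_inv
  have hwR : w ∈ R := h3 w hw
  have hcl := congrArg Subalgebra.toSubring hs
  rw [Algebra.adjoin_eq_ring_closure] at hcl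
  rw [eq_top_iff]
  have : (⊤ : Subalgebra Γ(S, V) Γ(X, X.basicOpen f)).toSubring = ⊤ := rfl
  rw [← this, ← hcl, Subring.closure_le]
  rintro b (⟨a, rfl⟩ | hb)
  · rw [RingHom.algebraMap_toAlgebra]
    exact h1 a
  · have hYb := h2 (Y b) (Finset.mem_image_of_mem Y hb)
    rw [hY b] at hYb
    have : b = w ^ (N b) *
        (((X.presheaf.map (homOfLE (le_top : X.basicOpen f ≤ ⊤)).op).hom f) ^ (N b) * b) := by
      rw [← mul_assoc, ← mul_pow, hw, one_pow, one_mul]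
    rw [this]
    exact R.mul_mem (R.pow_mem hwR _) hYb

theorem surj_appLE_congr {X Y : Scheme.{u}} (f : X ⟶ Y) {U U' : Y.Opens} {V V' : X.Opens}
    (hU : U = U') (hV : V = V') (e : V ≤ f ⁻¹ᵁ U) (e' : V' ≤ f ⁻¹ᵁ U')
    (h : Function.Surjective (f.appLE U V e).hom) : Function.Surjective (f.appLE U' V' e').hom := by
  subst hU hV
  exact h

theorem appLE_eq_of_eq {X Y : Scheme.{u}} {f g : X ⟶ Y} (h : f = g) {U : Y.Opens} {V : X.Opens}
    (e : V ≤ f ⁻¹ᵁ U) : f.appLE U V e = g.appLE U V (h ▸ e) := by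
  subst h
  rfl

theorem piece {n : Type u} (π : X ⟶ S) (v : n → Γ(X, ⊤)) (k : n) (V : S.Opens)
    (hV : IsAffineOpen V) (hle : X.basicOpen (v k) ≤ π ⁻¹ᵁ V)
    (haff : IsAffineOpen (X.basicOpen (v k))) (G : Finset Γ(X, ⊤)) (hG : ∀ a ∈ G, ∃ j, v j = a)
    (hgen : ∀ (R : Subring Γ(X, X.basicOpen (v k))),
        (∀ s, (π.appLE V (X.basicOpen (v k)) hle).hom s ∈ R) →
        (∀ a ∈ G, (X.presheaf.map (homOfLE (le_top : X.basicOpen (v k) ≤ ⊤)).op).hom a ∈ R) →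
        (∀ u : Γ(X, X.basicOpen (v k)),
          u * (X.presheaf.map (homOfLE (le_top : X.basicOpen (v k) ≤ ⊤)).op).hom (v k) = 1 →
            u ∈ R) →
        R = ⊤) :
    (AffineSpace.homOfVector π v) ⁻¹ᵁ
        (𝔸(n; S).basicOpen (AffineSpace.coord S k) ⊓ (𝔸(n; S) ↘ S) ⁻¹ᵁ V) = X.basicOpen (v k) ∧
      IsClosedImmersion ((AffineSpace.homOfVector π v) ∣_
        (𝔸(n; S).basicOpen (AffineSpace.coord S k) ⊓ (𝔸(n; S) ↘ S) ⁻¹ᵁ V)) := by
  set i := AffineSpace.homOfVector π v with hi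
  set W : 𝔸(n; S).Opens := 𝔸(n; S).basicOpen (AffineSpace.coord S k) ⊓ (𝔸(n; S) ↘ S) ⁻¹ᵁ V with hW
  have hover : i ≫ (𝔸(n; S) ↘ S) = π := AffineSpace.homOfVector_over π v
  have h1 : i ⁻¹ᵁ W = X.basicOpen (v k) := by
    have e1 : i ⁻¹ᵁ (𝔸(n; S).basicOpen (AffineSpace.coord S k)) = X.basicOpen (v k) := by
      rw [Scheme.preimage_basicOpen_top, AffineSpace.homOfVector_appTop_coord]
    have e2 : i ⁻¹ᵁ ((𝔸(n; S) ↘ S) ⁻¹ᵁ V) = π ⁻¹ᵁ V := by
      rw [← hover]; rfl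
    rw [hW, Scheme.Hom.preimage_inf, e1, e2]
    exact inf_eq_left.2 hle
  refine ⟨h1, ?_⟩
  have hWaff : IsAffineOpen W := by
    have hpre : IsAffineOpen ((𝔸(n; S) ↘ S) ⁻¹ᵁ V) := hV.preimage (𝔸(n; S) ↘ S)
    have := hpre.basicOpen ((𝔸(n; S).presheaf.map (homOfLE (le_top :
      (𝔸(n; S) ↘ S) ⁻¹ᵁ V ≤ ⊤)).op).hom (AffineSpace.coord S k))
    rw [Scheme.basicOpen_res] at this
    rw [hW, inf_comm]
    exact this
  have haff' : IsAffineOpen (i ⁻¹ᵁ W) := by rw [h1]; exact haff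
  haveI : IsAffine (W : Scheme) := hWaff
  haveI : IsAffine (i ⁻¹ᵁ W : Scheme) := haff'
  apply IsClosedImmersion.of_surjective_of_isAffine
  have e : X.basicOpen (v k) ≤ i ⁻¹ᵁ W := h1.ge
  have key : Function.Surjective (i.appLE W (X.basicOpen (v k)) e).hom := by
    set φ := (i.appLE W (X.basicOpen (v k)) e) with hφ
    have hres : ∀ j, φ.hom ((𝔸(n; S).presheaf.map (homOfLE (le_top : W ≤ ⊤)).op).hom
        (AffineSpace.coord S j)) =
        (X.presheaf.map (homOfLE (le_top : X.basicOpen (v k) ≤ ⊤)).op).hom (v j) := by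
      intro j
      have h0 : 𝔸(n; S).presheaf.map (homOfLE (le_top : W ≤ ⊤)).op ≫ φ =
          i.appTop ≫ X.presheaf.map (homOfLE (le_top : X.basicOpen (v k) ≤ ⊤)).op := by
        rw [hφ, Scheme.Hom.map_appLE]
        rfl
      have h2 := congrArg (fun ψ => ψ.hom (AffineSpace.coord S j)) h0
      simp only [CommRingCat.comp_apply] at h2
      rw [h2, hi, AffineSpace.homOfVector_appTop_coord]
    have hR := hgen φ.hom.range ?_ ?_ ?_
    · intro b
      have : b ∈ φ.hom.range := hR ▸ Subring.mem_top b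
      exact this
    · intro s
      have hcomp : π.appLE V (X.basicOpen (v k)) hle =
          (𝔸(n; S) ↘ S).appLE V W inf_le_right ≫ φ := by
        rw [hφ, Scheme.Hom.appLE_comp_appLE]
        exact appLE_eq_of_eq hover.symm hle
      rw [hcomp]
      exact ⟨_, rfl⟩
    · intro a ha
      obtain ⟨j, rfl⟩ := hG a ha
      exact ⟨_, hres j⟩
    · intro u hu
      have hcu : IsUnit ((𝔸(n; S).presheaf.map (homOfLE (le_top : W ≤ ⊤)).op).hom
          (AffineSpace.coord S k)) := by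
        have h0 := RingedSpace.isUnit_res_basicOpen 𝔸(n; S).toRingedSpace (AffineSpace.coord S k)
        have hWle : W ≤ 𝔸(n; S).basicOpen (AffineSpace.coord S k) := inf_le_left
        have h3 := h0.map (𝔸(n; S).presheaf.map (homOfLE hWle).op).hom
        have hcompo : 𝔸(n; S).presheaf.map (homOfLE (le_top : W ≤ ⊤)).op =
            𝔸(n; S).presheaf.map (homOfLE (le_top :
              𝔸(n; S).basicOpen (AffineSpace.coord S k) ≤ ⊤)).op ≫
            𝔸(n; S).presheaf.map (homOfLE hWle).op := by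
          rw [← Functor.map_comp]; rfl
        rw [hcompo]
        exact h3
      obtain ⟨c', hc'⟩ := hcu.exists_left_inv
      have h4 : φ.hom c' * (X.presheaf.map (homOfLE (le_top : X.basicOpen (v k) ≤ ⊤)).op).hom (v k)
          = 1 := by
        rw [← hres k, ← map_mul, hc', map_one]
      refine ⟨c', ?_⟩
      calc φ.hom c' = φ.hom c' * (u * (X.presheaf.map (homOfLE
            (le_top : X.basicOpen (v k) ≤ ⊤)).op).hom (v k)) := by rw [hu, mul_one]
        _ = u * (φ.hom c' * (X.presheaf.map (homOfLE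
            (le_top : X.basicOpen (v k) ≤ ⊤)).op).hom (v k)) := by ring
        _ = u := by rw [h4, mul_one]
  have happ : (i ∣_ W).appTop = i.appLE (W.ι ''ᵁ ⊤) ((i ⁻¹ᵁ W).ι ''ᵁ ((i ∣_ W) ⁻¹ᵁ ⊤))
      (image_morphismRestrict_preimage i W ⊤).le := morphismRestrict_app' i W ⊤
  rw [happ]
  refine surj_appLE_congr i ?_ ?_ e _ key
  · simp
  · rw [← h1]; simp


theorem piece' {n : Type u} (π : X ⟶ S) (v : n → Γ(X, ⊤)) (k : n) (r : Γ(X, ⊤)) (hr : v k = r)
    (V : S.Opens)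
    (hV : IsAffineOpen V) (hle : X.basicOpen r ≤ π ⁻¹ᵁ V)
    (haff : IsAffineOpen (X.basicOpen r)) (G : Finset Γ(X, ⊤)) (hG : ∀ a ∈ G, ∃ j, v j = a)
    (hgen : ∀ (R : Subring Γ(X, X.basicOpen r)),
        (∀ s, (π.appLE V (X.basicOpen r) hle).hom s ∈ R) →
        (∀ a ∈ G, (X.presheaf.map (homOfLE (le_top : X.basicOpen r ≤ ⊤)).op).hom a ∈ R) →
        (∀ u : Γ(X, X.basicOpen r),
          u * (X.presheaf.map (homOfLE (le_top : X.basicOpen r ≤ ⊤)).op).hom r = 1 →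
            u ∈ R) →
        R = ⊤) :
    (AffineSpace.homOfVector π v) ⁻¹ᵁ
        (𝔸(n; S).basicOpen (AffineSpace.coord S k) ⊓ (𝔸(n; S) ↘ S) ⁻¹ᵁ V) = X.basicOpen r ∧
      IsClosedImmersion ((AffineSpace.homOfVector π v) ∣_
        (𝔸(n; S).basicOpen (AffineSpace.coord S k) ⊓ (𝔸(n; S) ↘ S) ⁻¹ᵁ V)) := by
  subst hr
  exact piece π v k V hV hle haff G hG hgen

/-- **S9698** -/
theorem exists_immersion (π : X ⟶ S) [LocallyOfFiniteType π] [X.IsQuasiAffine] :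
    ∃ (n : ℕ) (i : X ⟶ 𝔸(ULift.{u} (Fin n); S)), IsImmersion i ∧
      i ≫ (𝔸(ULift.{u} (Fin n); S) ↘ S) = π := by
  classical
  choose f V G hle hx haff hV hgen using exists_local_data π
  obtain ⟨t, ht⟩ : ∃ t : Finset X, ∀ y : X, ∃ x ∈ t, y ∈ X.basicOpen (f x) := by
    obtain ⟨t, ht⟩ := isCompact_univ.elim_finite_subcover
      (fun x : X => ((X.basicOpen (f x) : X.Opens) : Set X))
      (fun x => (X.basicOpen (f x)).2) (fun y _ => Set.mem_iUnion.2 ⟨y, hx y⟩)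
    refine ⟨t, fun y => ?_⟩
    have := ht (Set.mem_univ y)
    simpa using this
  let T : Finset Γ(X, ⊤) := t.biUnion (fun x => insert (f x) (G x))
  let e : T ≃ Fin T.card := T.equivFin
  let v : ULift.{u} (Fin T.card) → Γ(X, ⊤) := fun k => (e.symm k.down).1
  have hv : ∀ a ∈ T, ∃ k, v k = a := fun a ha => ⟨⟨e ⟨a, ha⟩⟩, by simp [v]⟩
  have hfT : ∀ x ∈ t, f x ∈ T := fun x hx =>
    Finset.mem_biUnion.2 ⟨x, hx, Finset.mem_insert_self _ _⟩
  have hGT : ∀ x ∈ t, ∀ a ∈ G x, a ∈ T := fun x hx a ha =>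
    Finset.mem_biUnion.2 ⟨x, hx, Finset.mem_insert_of_mem ha⟩
  choose kk hkk using fun x : t => hv (f x.1) (hfT x.1 x.2)
  refine ⟨T.card, AffineSpace.homOfVector π v, ?_, AffineSpace.homOfVector_over π v⟩
  let W : t → 𝔸(ULift.{u} (Fin T.card); S).Opens := fun x =>
    𝔸(ULift.{u} (Fin T.card); S).basicOpen (AffineSpace.coord S (kk x)) ⊓
      (𝔸(ULift.{u} (Fin T.card); S) ↘ S) ⁻¹ᵁ V x.1
  have hpiece : ∀ x : t, (AffineSpace.homOfVector π v) ⁻¹ᵁ W x = X.basicOpen (f x.1) ∧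
      IsClosedImmersion ((AffineSpace.homOfVector π v) ∣_ W x) := by
    rintro ⟨x, hxt⟩
    exact piece' π v (kk ⟨x, hxt⟩) (f x) (hkk ⟨x, hxt⟩) (V x) (hV x) (hle x) (haff x) (G x)
      (fun a ha => hv a (hGT x hxt a ha)) (hgen x)
  haveI : MorphismProperty.RespectsRight @IsImmersion @IsOpenImmersion :=
    ⟨fun i hi f hf => by
      haveI : IsOpenImmersion i := hi
      haveI : IsImmersion f := hf
      exact (inferInstance : IsImmersion (f ≫ i))⟩
  refine IsZariskiLocalAtTarget.of_range_subset_iSup (P := @IsImmersion) W ?_ ?_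
  · rintro _ ⟨y, rfl⟩
    obtain ⟨x, hxt, hy⟩ := ht y
    have : y ∈ (AffineSpace.homOfVector π v) ⁻¹ᵁ W ⟨x, hxt⟩ := by
      rw [(hpiece ⟨x, hxt⟩).1]; exact hy
    exact Opens.mem_iSup.2 ⟨⟨x, hxt⟩, this⟩
  · intro x
    haveI := (hpiece x).2
    infer_instance

end Groth.Agent.Helper4.QAffImm
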