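import Groth.Agent.Helper4.AmpleLocal
import Mathlib

set_option autoImplicit false
universe u
open CategoryTheory CategoryTheory.Limits AlgebraicGeometry Opposite TopologicalSpace

namespace Groth.Agent.Helper4.QAffLocal

open Groth.Agent.Helper4.AmpleLocal Groth.Agent.Helper4.AmpleIso Groth.Agent.Helper4.QAffSec
  Groth.Agent.Helper4.TensorInv

/-- S10967 -/
theorem isQuasiAffine_of_cover {X Y : Scheme.{u}} [IsAffine Y]
    (f : X ⟶ Y) {ι : Type u} (V : ι → Y.Opens) (hV : iSup V = ⊤) (hVa : ∀ i, IsAffineOpen (V i))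
    (hq : ∀ i, Scheme.IsQuasiAffine (↑(f ⁻¹ᵁ V i) : Scheme.{u})) :
    X.IsQuasiAffine := by
  classical
  -- compactness of X
  have hcP : ∀ i, IsCompact ((f ⁻¹ᵁ V i : X.Opens) : Set X) := fun i => by
    haveI := hq i
    haveI : CompactSpace ((f ⁻¹ᵁ V i : X.Opens) : Scheme.{u}) := inferInstance
    exact isCompact_iff_compactSpace.mpr this
  have hmemV : ∀ y : Y, ∃ i, y ∈ V i := fun y => by
    have : y ∈ iSup V := by rw [hV]; trivial
    exact Opens.mem_iSup.mp this
  haveI : CompactSpace X := by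
    obtain ⟨S, hS⟩ := CompactSpace.elim_nhds_subcover (fun y : Y => ((V (hmemV y).choose : Y.Opens) : Set Y))
      (fun y => (V (hmemV y).choose).isOpen.mem_nhds (hmemV y).choose_spec)
    refine ⟨?_⟩
    have : (Set.univ : Set X) = ⋃ y ∈ S, ((f ⁻¹ᵁ V (hmemV y).choose : X.Opens) : Set X) := by
      ext x
      simp only [Set.mem_univ, Set.mem_iUnion, true_iff]
      have hx : f x ∈ ⋃ y ∈ S, ((V (hmemV y).choose : Y.Opens) : Set Y) := by rw [hS]; trivial
      simp only [Set.mem_iUnion] at hx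
      obtain ⟨y, hyS, hy⟩ := hx
      exact ⟨y, hyS, hy⟩
    rw [this]
    exact S.finite_toSet.isCompact_biUnion (fun y _ => hcP _)
  -- basic opens of Y inside the V i
  have hbasic : ∀ y : Y, ∃ (i : ι) (a : Γ(Y, ⊤)), y ∈ Y.basicOpen a ∧ Y.basicOpen a ≤ V i := by
    intro y
    obtain ⟨i, hi⟩ := hmemV y
    obtain ⟨a, ha, hya⟩ := (isAffineOpen_top Y).exists_basicOpen_le (V := V i)
      ⟨y, hi⟩ (show y ∈ (⊤ : Y.Opens) from trivial)
    exact ⟨i, a, hya, ha⟩
  choose i a hya hai using hbasic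
  rw [isQuasiAffine_iff_isAmple_unit]
  refine isAmple_of_basicOpen_cover (Coh.structureModule X) (fun y : Y => f.appTop (a y)) ?_ ?_
  · intro x
    refine ⟨f x, ?_⟩
    rw [← Scheme.preimage_basicOpen_top]
    exact hya (f x)
  · intro y
    haveI := hq (i y)
    have hle : X.basicOpen (f.appTop (a y)) ≤ f ⁻¹ᵁ V (i y) := by
      rw [← Scheme.preimage_basicOpen_top]
      exact fun x hx => hai y hx
    haveI : CompactSpace (X.basicOpen (f.appTop (a y)) : Scheme.{u}) := by
      apply isCompact_iff_compactSpace.mp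
      have h1 : X.basicOpen (X.presheaf.map (homOfLE (le_top : f ⁻¹ᵁ V (i y) ≤ ⊤)).op
          (f.appTop (a y))) = X.basicOpen (f.appTop (a y)) := by
        rw [Scheme.basicOpen_res]; exact inf_eq_right.mpr hle
      rw [← h1]
      exact isCompact_basicOpen X (hcP (i y)) _
    haveI : (X.basicOpen (f.appTop (a y)) : Scheme.{u}).IsQuasiAffine :=
      Scheme.IsQuasiAffine.of_isImmersion (X.homOfLE hle)
    exact isAmple_of_iso (Scheme.Modules.restrictUnitIso _).symm
      (isAmple_of_isQuasiAffine _ isInvertible_structureModule)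

end Groth.Agent.Helper4.QAffLocal
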