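import Mathlib
import Groth.Prelude.Def_CohCx
import Groth.Agent.Helper1.Compact
import Groth.Agent.Helper4.QcSumA
import Groth.Agent.Helper4.QcSumD

/-! Sections over a quasi-compact object commute with coproducts of sheaves of modules. -/

set_option backward.isDefEq.respectTransparency false
set_option backward.isDefEq.respectTransparency.types false
set_option autoImplicit false
set_option linter.unusedSectionVars false

namespace Groth.Agent.Helper4.QcSumE
open CategoryTheory Limits Opposite Groth.Agent.Helper6 Groth.Agent.Helper1.Compact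
open Groth.Agent.Helper4.QcSumD Groth.Agent.Helper4.CptSingle

universe u

variable {C : Type u} [SmallCategory C] {J : GrothendieckTopology C} (R : Sheaf J RingCat.{u})

/-- sections over `W` of a sheaf of modules, as an abelian group -/
noncomputable abbrev Γ (W : C) : SheafOfModules.{u} R ⥤ AddCommGrpCat.{u} :=
  SheafOfModules.toSheaf.{u} R ⋙ (sheafSections J AddCommGrpCat.{u}).obj (op W)

instance (W : C) : (Γ R W).Additive where
  map_add {X Y f g} := by
    change ((SheafOfModules.toSheaf.{u} R).map (f + g)).hom.app (op W) = _
    rw [Functor.map_add]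
    rfl

variable {ι : Type u} (F : ι → SheafOfModules.{u} R)

open scoped Classical in
theorem mem_iSup_rangeι (W : C) (hW : CohCx.IsQcObject (CanTop.r J W))
    (x : ((Γ R W).mapCocone (colimit.cocone (Discrete.functor F))).pt) :
    x ∈ ⨆ i, rangeι ((Γ R W).mapCocone (colimit.cocone (Discrete.functor F))) i := by
  obtain ⟨T, hT⟩ := exists_Pm_eq_zero R F W hW x
  have h1 : ((Γ R W).map (Pm R F T)).hom x = 0 := hT
  have h2 : x = ((Γ R W).map (proj F T)).hom x := by
    unfold Pm at h1
    rw [Functor.map_sub, AddCommGrpCat.hom_sub, AddMonoidHom.sub_apply, sub_eq_zero,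
      CategoryTheory.Functor.map_id] at h1
    exact h1
  rw [h2]
  have key : ∀ T : Finset ι, ((Γ R W).map (proj F T)).hom x ∈
      ⨆ i, rangeι ((Γ R W).mapCocone (colimit.cocone (Discrete.functor F))) i := by
    intro T
    rw [proj_eq_sum]
    induction T using Finset.induction_on with
    | empty =>
      rw [Finset.sum_empty, Functor.map_zero]
      exact zero_mem _
    | insert i T hi ih =>
      rw [Finset.sum_insert hi, Functor.map_add, AddCommGrpCat.hom_add, AddMonoidHom.add_apply]
      refine add_mem ?_ ih
      rw [Functor.map_comp]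
      exact (le_iSup (fun i => rangeι ((Γ R W).mapCocone
        (colimit.cocone (Discrete.functor F))) i) i) ⟨((Γ R W).map (π F i)).hom x, rfl⟩
  exact key T

open scoped Classical in
/-- sections over a quasi-compact object send the coproduct cocone to a colimit cocone -/
theorem nonempty_isColimit (W : C) (hW : CohCx.IsQcObject (CanTop.r J W)) :
    Nonempty (IsColimit ((Γ R W).mapCocone (colimit.cocone (Discrete.functor F)))) := by
  refine QcSumA.isColimit_of_proj _ (fun j => (Γ R W).map (π F j)) ?_ ?_
    (mem_iSup_rangeι R F W hW)
  · intro i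
    change (Γ R W).map (Sigma.ι F i) ≫ (Γ R W).map (π F i) = 𝟙 _
    rw [← Functor.map_comp, ι_π_self, CategoryTheory.Functor.map_id]
  · intro i j hij
    change (Γ R W).map (Sigma.ι F i) ≫ (Γ R W).map (π F j) = 0
    rw [← Functor.map_comp, ι_π_of_ne _ _ _ hij, Functor.map_zero]

theorem preservesColimitsOfShape (W : C) (hW : CohCx.IsQcObject (CanTop.r J W)) :
    PreservesColimitsOfShape (Discrete ι) (Γ R W) := by
  constructor
  intro K
  let F : ι → SheafOfModules.{u} R := fun i => K.obj ⟨i⟩
  haveI h1 : PreservesColimit (Discrete.functor (K.obj ∘ Discrete.mk)) (Γ R W) :=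
    preservesColimit_of_preserves_colimit_cocone (colimit.isColimit _)
      (nonempty_isColimit R F W hW).some
  exact preservesColimit_of_iso_diagram (Γ R W) (Discrete.natIsoFunctor (F := K)).symm

end Groth.Agent.Helper4.QcSumE
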