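import Mathlib
import Groth.Prelude.Def_CohSite
import Groth.Prelude.Def_ModSite
import Groth.Agent.Helper3.SheafModLib
import Groth.Agent.Helper9.FreeOnHom

/-! `j_{U!} O_U` is projective when `U` is weakly contractible. -/

set_option backward.isDefEq.respectTransparency false
set_option backward.isDefEq.respectTransparency.types false
set_option autoImplicit false
set_option linter.unusedSectionVars false

namespace Groth.Agent.Helper4.QcSumG
open CategoryTheory Limits Opposite

universe u

variable {C : Type u} [SmallCategory C] {J : GrothendieckTopology C} (O : Sheaf J CommRingCat.{u})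
  (U : C)

theorem projective_freeOn (hwc : CohSite.IsWeaklyContractible J U) :
    Projective (ModSite.freeOn O U) := by
  constructor
  intro E X φ f hf
  let tS := SheafOfModules.toSheaf.{u} (ModSite.ringSh O)
  haveI := Groth.Agent.Helper3.SheafModLib.toSheaf_preservesColimits (ModSite.ringSh O)
  haveI : PreservesColimitsOfSize.{0, 0} tS := preservesColimitsOfSize_shrink.{0, u, 0, u} tS
  haveI : PreservesColimitsOfShape WalkingSpan tS :=
    PreservesColimitsOfSize.preservesColimitsOfShape
  haveI : Epi (tS.map f) := inferInstance
  haveI : Sheaf.IsLocallySurjective (tS.map f) :=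
    (Sheaf.isLocallySurjective_iff_epi' _ (tS.map f)).2 inferInstance
  let V := sheafCompose J (forget AddCommGrpCat.{u})
  haveI : Sheaf.IsLocallySurjective (V.map (tS.map f)) := inferInstance
  haveI : Epi (V.map (tS.map f)) := inferInstance
  have hs := hwc _ _ (V.map (tS.map f)) inferInstance
  let s := Groth.Agent.Helper9.FreeOnHom.homEquiv O U X φ
  obtain ⟨t, ht⟩ := hs s
  refine ⟨(Groth.Agent.Helper9.FreeOnHom.homEquiv O U E).symm t, ?_⟩
  apply (Groth.Agent.Helper9.FreeOnHom.homEquiv O U X).injective
  rw [Groth.Agent.Helper9.FreeOnHom.homEquiv_comp, Equiv.apply_symm_apply]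
  exact ht

end Groth.Agent.Helper4.QcSumG
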