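import Mathlib

/-!
# Helper4: radicial ring maps (injective on spectra with purely inseparable residue extensions)
-/

set_option autoImplicit false

universe u

namespace Groth.Agent.Helper4.Radicial

open TensorProduct

/-- field-valued points of `S` are determined by their restriction to `R`. -/
def Rad (R S : Type u) [CommRing R] [CommRing S] [Algebra R S] : Prop :=
  ∀ (K : Type u) [Field K] (f g : S →+* K),
    f.comp (algebraMap R S) = g.comp (algebraMap R S) → f = g

/-- the purely inseparable residue field condition in power form. -/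
def PI (R S : Type u) [CommRing R] [CommRing S] [Algebra R S] : Prop :=
  ∀ (q : Ideal S) [q.IsPrime] (x : q.ResidueField), ∃ n : ℕ,
    x ^ (ringExpChar (q.comap (algebraMap R S)).ResidueField) ^ n ∈
      Set.range (Ideal.ResidueField.map (q.comap (algebraMap R S)) q (algebraMap R S) rfl)

variable {R S : Type u} [CommRing R] [CommRing S] [Algebra R S]

theorem rad_of_inj_pi (hinj : Function.Injective (PrimeSpectrum.comap (algebraMap R S)))
    (hpi : PI R S) : Rad R S := by
  intro K _ f g hfg
  haveI hf : (RingHom.ker f).IsPrime := RingHom.ker_isPrime f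
  haveI hg : (RingHom.ker g).IsPrime := RingHom.ker_isPrime g
  have hker : RingHom.ker g = RingHom.ker f := by
    have h1 : (⟨RingHom.ker g, hg⟩ : PrimeSpectrum S) = ⟨RingHom.ker f, hf⟩ := by
      apply hinj
      apply PrimeSpectrum.ext
      show (RingHom.ker g).comap (algebraMap R S) = (RingHom.ker f).comap (algebraMap R S)
      rw [RingHom.comap_ker, RingHom.comap_ker, hfg]
    exact congrArg PrimeSpectrum.asIdeal h1
  set q := RingHom.ker f with hq
  have hunit : ∀ h : S →+* K, RingHom.ker h = q →
      q.primeCompl ≤ (IsUnit.submonoid K).comap h := by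
    intro h hh s hs
    have : h s ≠ 0 := fun h0 => hs (by rw [← hh]; exact h0)
    exact isUnit_iff_ne_zero.mpr this
  let fb : q.ResidueField →+* K := Ideal.ResidueField.lift q f le_rfl (hunit f rfl)
  let gb : q.ResidueField →+* K := Ideal.ResidueField.lift q g hker.ge (hunit g hker)
  letI : Algebra (q.comap (algebraMap R S)).ResidueField q.ResidueField :=
    (Ideal.ResidueField.map (q.comap (algebraMap R S)) q (algebraMap R S) rfl).toAlgebra
  haveI : ExpChar (q.comap (algebraMap R S)).ResidueField
      (ringExpChar (q.comap (algebraMap R S)).ResidueField) := ringExpChar.expChar _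
  haveI : IsPurelyInseparable (q.comap (algebraMap R S)).ResidueField q.ResidueField :=
    (isPurelyInseparable_iff_pow_mem _ (ringExpChar (q.comap (algebraMap R S)).ResidueField)).mpr
      (fun x => by
        obtain ⟨n, y, hy⟩ := hpi q x
        exact ⟨n, y, hy⟩)
  have hcomp : fb.comp (algebraMap (q.comap (algebraMap R S)).ResidueField q.ResidueField) =
      gb.comp (algebraMap (q.comap (algebraMap R S)).ResidueField q.ResidueField) := by
    apply Ideal.ResidueField.ringHom_ext
    ext r
    simp only [RingHom.comp_apply]
    rw [RingHom.algebraMap_toAlgebra, Ideal.ResidueField.map_algebraMap]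
    simp only [fb, gb, Ideal.ResidueField.lift_algebraMap]
    exact congr($hfg r)
  have hfb : fb = gb :=
    IsPurelyInseparable.injective_comp_algebraMap (q.comap (algebraMap R S)).ResidueField
      q.ResidueField K hcomp
  ext s
  have h1 : f s = fb (algebraMap S q.ResidueField s) :=
    (Ideal.ResidueField.lift_algebraMap q f le_rfl (hunit f rfl) s).symm
  have h2 : g s = gb (algebraMap S q.ResidueField s) :=
    (Ideal.ResidueField.lift_algebraMap q g hker.ge (hunit g hker) s).symm
  rw [h1, h2, hfb]

theorem rad_baseChange (R' : Type u) [CommRing R'] [Algebra R R'] (h : Rad R S) :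
    Rad R' (R' ⊗[R] S) := by
  intro K _ f g hfg
  have h2 : f.comp (Algebra.TensorProduct.includeRight : S →ₐ[R] R' ⊗[R] S).toRingHom =
      g.comp (Algebra.TensorProduct.includeRight : S →ₐ[R] R' ⊗[R] S).toRingHom := by
    apply h
    ext r
    simp only [RingHom.comp_apply, AlgHom.toRingHom_eq_coe, RingHom.coe_coe,
      Algebra.TensorProduct.includeRight_apply]
    have h0 : (1 : R') ⊗ₜ[R] (algebraMap R S r) = (algebraMap R R' r) ⊗ₜ[R] (1 : S) := by
      rw [Algebra.algebraMap_eq_smul_one, Algebra.algebraMap_eq_smul_one (A := R'),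
        TensorProduct.tmul_smul, TensorProduct.smul_tmul']
    have : (1 : R') ⊗ₜ[R] (algebraMap R S r) = algebraMap R' (R' ⊗[R] S) (algebraMap R R' r) := by
      rw [h0, Algebra.TensorProduct.algebraMap_apply]
      rfl
    rw [this]
    exact congr($hfg (algebraMap R R' r))
  apply RingHom.ext
  intro z
  induction z using TensorProduct.induction_on with
  | zero => simp
  | tmul a s =>
    have : a ⊗ₜ[R] s = algebraMap R' (R' ⊗[R] S) a *
        (Algebra.TensorProduct.includeRight : S →ₐ[R] R' ⊗[R] S) s := by
      simp [Algebra.TensorProduct.algebraMap_apply]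
    rw [this, map_mul, map_mul]
    congr 1
    · exact congr($hfg a)
    · exact congr($h2 s)
  | add x y hx hy => rw [map_add, map_add, hx, hy]

theorem pi_of_rad (h : Rad R S) : PI R S := by
  intro q _ x
  letI : Algebra (q.comap (algebraMap R S)).ResidueField q.ResidueField :=
    (Ideal.ResidueField.map (q.comap (algebraMap R S)) q (algebraMap R S) rfl).toAlgebra
  haveI : ExpChar (q.comap (algebraMap R S)).ResidueField
      (ringExpChar (q.comap (algebraMap R S)).ResidueField) := ringExpChar.expChar _
  have hpi : IsPurelyInseparable (q.comap (algebraMap R S)).ResidueField q.ResidueField := by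
    rw [isPurelyInseparable_iff_subsingleton_emb, subsingleton_iff]
    intro σ₁ σ₂
    apply AlgHom.coe_ringHom_injective
    apply Ideal.ResidueField.ringHom_ext
    apply h
    ext r
    simp only [RingHom.comp_apply, AlgHom.coe_toRingHom]
    have : algebraMap S q.ResidueField (algebraMap R S r) =
        algebraMap (q.comap (algebraMap R S)).ResidueField q.ResidueField
          (algebraMap R (q.comap (algebraMap R S)).ResidueField r) := by
      rw [RingHom.algebraMap_toAlgebra, Ideal.ResidueField.map_algebraMap]
    rw [this, σ₁.commutes, σ₂.commutes]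
  obtain ⟨n, y, hy⟩ := (isPurelyInseparable_iff_pow_mem _
    (ringExpChar (q.comap (algebraMap R S)).ResidueField)).mp hpi x
  exact ⟨n, y, hy⟩

theorem inj_of_rad (h : Rad R S) : Function.Injective (PrimeSpectrum.comap (algebraMap R S)) := by
  intro q₁ q₂ h12
  have hp : q₁.asIdeal.comap (algebraMap R S) = q₂.asIdeal.comap (algebraMap R S) :=
    congrArg PrimeSpectrum.asIdeal h12
  let p := q₁.asIdeal.comap (algebraMap R S)
  letI a₁ : Algebra p.ResidueField q₁.asIdeal.ResidueField :=
    (Ideal.ResidueField.map p q₁.asIdeal (algebraMap R S) rfl).toAlgebra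
  letI a₂ : Algebra p.ResidueField q₂.asIdeal.ResidueField :=
    (Ideal.ResidueField.map p q₂.asIdeal (algebraMap R S) hp).toAlgebra
  let T := q₁.asIdeal.ResidueField ⊗[p.ResidueField] q₂.asIdeal.ResidueField
  haveI : Nontrivial T := by
    have hinj : Function.Injective (Algebra.TensorProduct.includeLeft :
        q₁.asIdeal.ResidueField →ₐ[p.ResidueField] T) :=
      Algebra.TensorProduct.includeLeft_injective (RingHom.injective _)
    exact hinj.nontrivial
  obtain ⟨m, hm⟩ := Ideal.exists_maximal T
  letI := Ideal.Quotient.field m
  let f : S →+* T ⧸ m := (Ideal.Quotient.mk m).comp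
    ((Algebra.TensorProduct.includeLeft : q₁.asIdeal.ResidueField →ₐ[p.ResidueField] T).toRingHom.comp
      (algebraMap S q₁.asIdeal.ResidueField))
  let g : S →+* T ⧸ m := (Ideal.Quotient.mk m).comp
    ((Algebra.TensorProduct.includeRight : q₂.asIdeal.ResidueField →ₐ[p.ResidueField] T).toRingHom.comp
      (algebraMap S q₂.asIdeal.ResidueField))
  have hfg : f = g := by
    apply h
    ext r
    simp only [f, g, RingHom.comp_apply, AlgHom.toRingHom_eq_coe, RingHom.coe_coe,
      Algebra.TensorProduct.includeLeft_apply, Algebra.TensorProduct.includeRight_apply]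
    congr 1
    have h1 : algebraMap S q₁.asIdeal.ResidueField (algebraMap R S r) =
        algebraMap p.ResidueField q₁.asIdeal.ResidueField (algebraMap R p.ResidueField r) := by
      rw [RingHom.algebraMap_toAlgebra, Ideal.ResidueField.map_algebraMap]
    have h2 : algebraMap S q₂.asIdeal.ResidueField (algebraMap R S r) =
        algebraMap p.ResidueField q₂.asIdeal.ResidueField (algebraMap R p.ResidueField r) := by
      rw [RingHom.algebraMap_toAlgebra, Ideal.ResidueField.map_algebraMap]
    rw [h1, h2, Algebra.algebraMap_eq_smul_one, Algebra.algebraMap_eq_smul_one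
      (A := q₂.asIdeal.ResidueField), TensorProduct.tmul_smul, TensorProduct.smul_tmul']
  have hkf : RingHom.ker f = q₁.asIdeal := by
    ext s
    rw [RingHom.mem_ker]
    show (Ideal.Quotient.mk m).comp (Algebra.TensorProduct.includeLeft :
      q₁.asIdeal.ResidueField →ₐ[p.ResidueField] T).toRingHom
        (algebraMap S q₁.asIdeal.ResidueField s) = 0 ↔ _
    rw [map_eq_zero_iff _ (RingHom.injective _), Ideal.algebraMap_residueField_eq_zero]
  have hkg : RingHom.ker g = q₂.asIdeal := by
    ext s
    rw [RingHom.mem_ker]
    show (Ideal.Quotient.mk m).comp (Algebra.TensorProduct.includeRight :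
      q₂.asIdeal.ResidueField →ₐ[p.ResidueField] T).toRingHom
        (algebraMap S q₂.asIdeal.ResidueField s) = 0 ↔ _
    rw [map_eq_zero_iff _ (RingHom.injective _), Ideal.algebraMap_residueField_eq_zero]
  apply PrimeSpectrum.ext
  exact hkf.symm.trans ((congrArg RingHom.ker hfg).trans hkg)

end Groth.Agent.Helper4.Radicial
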