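import Mathlib
import Groth.Agent.Helper4.HopfDense

/-!
# Rational points avoiding hyperplanes defined over an extension field

Given a field extension `K / k`, an invertible matrix `M` over `K`, we find `k`-linear functionals
`lam i : K → k` such that `(lam i (M i j))` is invertible over `k`.
-/

set_option autoImplicit false

namespace Groth.Agent.Helper4.RationalTransversal

open TensorProduct

variable {k K : Type*} [Field k] [Field K] [Algebra k K]

/-- If `Σ f_j m_j ≠ 0` then some `k`-linear functional `lam` has `Σ f_j lam(m_j) ≠ 0`. -/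
lemma exists_functional {ι : Type*} [Fintype ι] (f m : ι → K) (h : ∑ j, f j * m j ≠ 0) :
    ∃ lam : K →ₗ[k] k, ∑ j, f j * algebraMap k K (lam (m j)) ≠ 0 := by
  classical
  by_contra hcon
  push Not at hcon
  apply h
  set t : K ⊗[k] K := ∑ j, f j ⊗ₜ[k] m j with ht
  have ht0 : t = 0 := by
    refine HopfDense.eq_zero_of_forall_lTensor_eq_zero (Set.univ : Set (K →ₗ[k] k)) ?_ t ?_
    · intro a ha
      exact (Module.forall_dual_apply_eq_zero_iff k a).1 fun g => ha g (Set.mem_univ g)
    · intro g _
      apply (TensorProduct.rid k K).injective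
      rw [map_zero, ht, map_sum, map_sum]
      simp only [LinearMap.lTensor_tmul, TensorProduct.rid_tmul]
      rw [← hcon g]
      apply Finset.sum_congr rfl
      intro j _
      rw [Algebra.smul_def, mul_comm]
  have := congrArg (LinearMap.mul' k K) ht0
  rw [ht, map_sum, map_zero] at this
  simpa using this

/-- One row replacement step. -/
lemma step {ι : Type*} [Fintype ι] [DecidableEq ι] (M : Matrix ι ι K) (hM : M.det ≠ 0) (i : ι) :
    ∃ lam : K →ₗ[k] k, (M.updateRow i (fun j => algebraMap k K (lam (M i j)))).det ≠ 0 := by
  classical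
  let F : (ι → K) →ₗ[K] K :=
    (Matrix.detRowAlternating (n := ι) (R := K)).toMultilinearMap.toLinearMap M i
  have hF : ∀ r : ι → K, F r = (M.updateRow i r).det := fun r => rfl
  have hFsum : ∀ r : ι → K, F r = ∑ j, F (Pi.single j 1) * r j := by
    intro r
    rw [LinearMap.pi_apply_eq_sum_univ F r]
    apply Finset.sum_congr rfl
    intro j _
    rw [smul_eq_mul, mul_comm]
    congr 2
    funext l
    simp [Pi.single_apply, eq_comm]
  have h1 : ∑ j, F (Pi.single j 1) * M i j ≠ 0 := by
    rw [← hFsum (M i), hF, Matrix.updateRow_eq_self]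
    exact hM
  obtain ⟨lam, hlam⟩ := exists_functional (k := k) (fun j => F (Pi.single j 1)) (M i) h1
  refine ⟨lam, ?_⟩
  rw [← hF, hFsum]
  exact hlam

/-- Row-by-row replacement: there are functionals making the matrix `k`-rational and invertible. -/
theorem exists_functionals {ι : Type*} [Fintype ι] [DecidableEq ι] (M : Matrix ι ι K)
    (hM : M.det ≠ 0) :
    ∃ lam : ι → (K →ₗ[k] k), (Matrix.of fun i j => lam i (M i j)).det ≠ 0 := by
  classical
  have key : ∀ S : Finset ι, ∃ lam : ι → (K →ₗ[k] k),
      (Matrix.of fun i j => if i ∈ S then algebraMap k K (lam i (M i j)) else M i j).det ≠ 0 := by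
    intro S
    induction S using Finset.induction_on with
    | empty =>
      refine ⟨fun _ => 0, ?_⟩
      have : (Matrix.of fun i j => if i ∈ (∅ : Finset ι) then
          algebraMap k K ((fun _ => (0 : K →ₗ[k] k)) i (M i j)) else M i j) = M := by
        ext i j; simp
      rw [this]; exact hM
    | insert a S ha ih =>
      obtain ⟨lam, hlam⟩ := ih
      set MS : Matrix ι ι K :=
        Matrix.of fun i j => if i ∈ S then algebraMap k K (lam i (M i j)) else M i j with hMS
      obtain ⟨la, hla⟩ := step (k := k) MS hlam a
      refine ⟨Function.update lam a la, ?_⟩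
      convert hla using 2
      ext i j
      by_cases hia : i = a
      · subst hia
        simp [hMS, ha]
      · simp [hMS, hia, Matrix.updateRow_ne, Function.update_of_ne hia]
  obtain ⟨lam, hlam⟩ := key Finset.univ
  refine ⟨lam, ?_⟩
  intro h0
  apply hlam
  have : (Matrix.of fun i j =>
      if i ∈ (Finset.univ : Finset ι) then algebraMap k K (lam i (M i j)) else M i j) =
      (algebraMap k K).mapMatrix (Matrix.of fun i j => lam i (M i j)) := by
    ext i j
    simp
  rw [this, ← RingHom.map_det, h0, map_zero]

end Groth.Agent.Helper4.RationalTransversal
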