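import Groth.Agent.Lead.RegLocal
import Mathlib

/-!
# Regularity of `R/(f)` from a derivation with `D f` a unit mod `f`
-/

set_option autoImplicit false

namespace Groth.Agent.Helper4.RegDeriv
open IsLocalRing

universe u

variable {R : Type u} [CommRing R]

/-- A derivation maps `q ^ 2` into `q`. -/
lemma deriv_sq_mem (D : Derivation ℤ R R) (q : Ideal R) {x : R} (hx : x ∈ q ^ 2) : D x ∈ q := by
  rw [pow_two] at hx
  refine Submodule.mul_induction_on hx ?_ ?_
  · intro a ha b hb
    rw [Derivation.leibniz]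
    exact q.add_mem (q.mul_mem_right _ ha) (q.mul_mem_right _ hb)
  · intro x y hx hy
    rw [map_add]
    exact q.add_mem hx hy

/-- If `D f ∉ q` then `f/1 ∉ (q R_q)^2`. -/
lemma notMem_sq (D : Derivation ℤ R R) (q : Ideal R) [q.IsPrime] (f : R) (hfq : f ∈ q)
    (hDf : D f ∉ q) :
    algebraMap R (Localization.AtPrime q) f ∉ maximalIdeal (Localization.AtPrime q) ^ 2 := by
  intro h
  rw [← Localization.AtPrime.map_eq_maximalIdeal, ← Ideal.map_pow] at h
  obtain ⟨⟨a, s⟩, h⟩ := (IsLocalization.mem_map_algebraMap_iff q.primeCompl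
    (Localization.AtPrime q)).mp h
  rw [← map_mul, IsLocalization.eq_iff_exists q.primeCompl] at h
  obtain ⟨c, hc⟩ := h
  have hmem : (c.1 * s.1) * f ∈ q ^ 2 := by
    have : (c.1 * s.1) * f = c.1 * a.1 := by rw [← hc]; ring
    rw [this]
    exact Ideal.mul_mem_left _ _ a.2
  have h1 := deriv_sq_mem D q hmem
  rw [Derivation.leibniz] at h1
  have h2 : f • D (c.1 * s.1) ∈ q := q.mul_mem_right _ hfq
  have h3 : (c.1 * s.1) • D f ∈ q := (Submodule.add_mem_iff_left _ h2).mp h1
  rcases (‹q.IsPrime›).mem_or_mem h3 with h4 | h4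
  · exact (q.primeCompl.mul_mem c.2 s.2) h4
  · exact hDf h4

theorem main [IsRegularRing R] (f : R) (D : Derivation ℤ R R)
    (hD : IsUnit (Ideal.Quotient.mk (Ideal.span {f}) (D f))) :
    IsRegularRing (R ⧸ Ideal.span ({f} : Set R)) := by
  rw [isRegularRing_iff]
  intro P hP
  set q := P.comap (Ideal.Quotient.mk (Ideal.span {f})) with hq
  haveI hqp : q.IsPrime := Ideal.comap_isPrime _ _
  have hfq : f ∈ q := by
    rw [hq, Ideal.mem_comap,
      Ideal.Quotient.eq_zero_iff_mem.mpr (Ideal.mem_span_singleton_self f)]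
    exact P.zero_mem
  have hDf : D f ∉ q := fun h => hP.ne_top (Ideal.eq_top_of_isUnit_mem _ h hD)
  have hx : algebraMap R (Localization.AtPrime q) f ∈ maximalIdeal (Localization.AtPrime q) :=
    (IsLocalization.AtPrime.to_map_mem_maximal_iff (Localization.AtPrime q) q f).mpr hfq
  have hx2 := notMem_sq D q f hfq hDf
  obtain ⟨hreg, -⟩ := Groth.Agent.Lead.RegLocal.quotient_isRegularLocalRing hx hx2
  have hspan : Ideal.span {algebraMap R (Localization.AtPrime q) f} =
      (Ideal.span {f}).map (algebraMap R (Localization.AtPrime q)) := by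
    rw [Ideal.map_span, Set.image_singleton]
  rw [hspan] at hreg
  haveI : P.LiesOver q := ⟨rfl⟩
  have hsub : Algebra.algebraMapSubmonoid (R ⧸ Ideal.span {f}) q.primeCompl = P.primeCompl :=
    Ideal.algebraMapSubmonoid_primeCompl_of_liesOver_surjective P q
      Ideal.Quotient.mk_surjective
  haveI : IsLocalization.AtPrime (Localization.AtPrime q ⧸
      (Ideal.span {f}).map (algebraMap R (Localization.AtPrime q))) P := by
    have : IsLocalization (Algebra.algebraMapSubmonoid (R ⧸ Ideal.span {f}) q.primeCompl)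
      (Localization.AtPrime q ⧸
        (Ideal.span {f}).map (algebraMap R (Localization.AtPrime q))) := inferInstance
    rwa [hsub] at this
  let e : (Localization.AtPrime q ⧸
      (Ideal.span {f}).map (algebraMap R (Localization.AtPrime q))) ≃+*
      Localization.AtPrime P :=
    (IsLocalization.algEquiv P.primeCompl _ _).toRingEquiv
  exact IsRegularLocalRing.of_ringEquiv e

end Groth.Agent.Helper4.RegDeriv
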