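import Groth.Agent.Helper4.RegDeriv
import Mathlib

/-!
# Coefficientwise extension of a derivation to the polynomial ring
-/

set_option autoImplicit false

namespace Groth.Agent.Helper4.RegDerivPoly
open Polynomial

universe u

variable {R : Type u} [CommRing R]

/-- coefficientwise application of an additive map -/
noncomputable def coeffMap (D : Derivation ℤ R R) (p : R[X]) : R[X] :=
  ⟨⟨Finsupp.mapRange D (map_zero D) p.toFinsupp.coeff⟩⟩

@[simp] lemma coeff_coeffMap (D : Derivation ℤ R R) (p : R[X]) (n : ℕ) :
    (coeffMap D p).coeff n = D (p.coeff n) := by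
  simp [coeffMap, coeff]

noncomputable def coeffDeriv (D : Derivation ℤ R R) :
    @Derivation ℤ R[X] R[X] _ _ _ (Ring.toIntAlgebra R[X]) _ _ :=
  letI := Ring.toIntAlgebra R[X]
  { toFun := coeffMap D
    map_add' := fun p q => by ext n; simp
    map_smul' := fun c p => by ext n; simp
    map_one_eq_zero' := by
      ext n
      simp [coeff_one]
      split_ifs <;> simp
    leibniz' := fun p q => by
      ext n
      simp only [LinearMap.coe_mk, AddHom.coe_mk, coeff_coeffMap, coeff_mul, map_sum,
        Derivation.leibniz, smul_eq_mul, coeff_add, Finset.sum_add_distrib]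
      congr 1
      rw [← Finset.Nat.sum_antidiagonal_swap]
      apply Finset.sum_congr rfl
      intro x _
      simp }

lemma coeffDeriv_apply (D : Derivation ℤ R R) (p : R[X]) : coeffDeriv D p = coeffMap D p := rfl

theorem main [IsRegularRing R] (f : R) (D : Derivation ℤ R R) (hD : IsUnit (D f))
    (p : Polynomial ℤ) :
    IsRegularRing (Polynomial R ⧸
      Ideal.span ({Polynomial.map (Int.castRingHom R) p - Polynomial.C f} :
        Set (Polynomial R))) := by
  apply Groth.Agent.Helper4.RegDeriv.main _ (coeffDeriv D)
  have h1 : coeffDeriv D (Polynomial.map (Int.castRingHom R) p - Polynomial.C f) =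
      - Polynomial.C (D f) := by
    ext n
    rw [coeffDeriv_apply, coeff_coeffMap]
    simp only [coeff_sub, coeff_map, map_sub, coeff_neg, coeff_C]
    have : D ((Int.castRingHom R) (p.coeff n)) = 0 := by
      have := D.map_algebraMap (p.coeff n)
      simpa using this
    rw [this, zero_sub]
    split_ifs <;> simp
  rw [h1]
  exact ((hD.map Polynomial.C).neg).map _

end Groth.Agent.Helper4.RegDerivPoly
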