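import Groth.Prelude.Def_AlgSpRep
import Mathlib

set_option autoImplicit false
universe u v₁ v₂ u₁ u₂
open CategoryTheory CategoryTheory.Limits Opposite

namespace Groth.Agent.Helper4.RelRep

variable {C : Type u₁} [Category.{v₁} C] {D : Type u₂} [Category.{v₂} D]

/-- A section of a relatively representable morphism is relatively representable. -/
theorem relativelyRepresentable_of_section (F : C ⥤ D) [F.Full] [F.Faithful] [HasPullbacks C]
    [PreservesLimitsOfShape WalkingCospan F] {X Y : D} (p : X ⟶ Y)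
    (hp : F.relativelyRepresentable p) (s : Y ⟶ X) (hs : s ≫ p = 𝟙 Y) :
    F.relativelyRepresentable s := by
  intro U g
  -- V = F U ×_Y X
  let γ : U ⟶ hp.pullback (g ≫ p) := hp.lift g (𝟙 U) (by simp)
  let σ : U ⟶ hp.pullback (g ≫ p) := hp.lift (g ≫ p ≫ s) (𝟙 U) (by simp [hs])
  have hγ1 : F.map γ ≫ hp.fst (g ≫ p) = g := hp.lift_fst _ _ _
  have hγ2 : γ ≫ hp.snd (g ≫ p) = 𝟙 U := hp.lift_snd _ _ _
  have hσ1 : F.map σ ≫ hp.fst (g ≫ p) = g ≫ p ≫ s := hp.lift_fst _ _ _
  have hσ2 : σ ≫ hp.snd (g ≫ p) = 𝟙 U := hp.lift_snd _ _ _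
  have hfs : pullback.fst σ γ = pullback.snd σ γ := by
    have := pullback.condition (f := σ) (g := γ) =≫ hp.snd (g ≫ p)
    simpa [hσ2, hγ2] using this
  refine ⟨pullback σ γ, pullback.fst σ γ, F.map (pullback.fst σ γ) ≫ g ≫ p, ?_⟩
  have hPB : IsPullback (F.map (pullback.fst σ γ)) (F.map (pullback.snd σ γ)) (F.map σ) (F.map γ) :=
    (IsPullback.of_hasPullback σ γ).map F
  refine ⟨⟨?_⟩, ⟨PullbackCone.IsLimit.mk _ (fun c => hPB.lift c.snd c.snd ?_) ?_ ?_ ?_⟩⟩
  · -- commutes
    rw [Category.assoc, Category.assoc, ← hσ1, ← Category.assoc, ← F.map_comp, pullback.condition,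
      F.map_comp, Category.assoc, hγ1, hfs]
  · -- c.snd ≫ F σ = c.snd ≫ F γ
    apply (hp.isPullback (g ≫ p)).hom_ext
    · have hc := c.condition
      have h1 : c.fst = c.snd ≫ g ≫ p := by
        have := hc =≫ p
        simpa [hs] using this
      rw [Category.assoc, Category.assoc, hσ1, hγ1, ← hc, h1]
      simp
    · rw [Category.assoc, Category.assoc, ← F.map_comp, ← F.map_comp, hσ2, hγ2]
  · intro c
    have hc := c.condition
    have h1 : c.fst = c.snd ≫ g ≫ p := by
      have := hc =≫ p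
      simpa [hs] using this
    rw [← Category.assoc, hPB.lift_fst, h1]
  · intro c
    exact hPB.lift_fst _ _ _
  · intro c m h1 h2
    apply hPB.hom_ext
    · rw [hPB.lift_fst]; exact h2
    · rw [hPB.lift_snd, ← hfs]; exact h2

end Groth.Agent.Helper4.RelRep

namespace Groth.Agent.Helper4.RelRep

open CategoryTheory CategoryTheory.Limits

variable {C : Type u₁} [Category.{v₁} C] {D : Type u₂} [Category.{v₂} D]

/-- A section of a morphism that is relatively `Q` is relatively `P`, if `P` has the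
of-postcomp property w.r.t. `Q`. -/
theorem relative_of_section (F : C ⥤ D) [F.Full] [F.Faithful] [HasPullbacks C]
    [PreservesLimitsOfShape WalkingCospan F] (P Q : MorphismProperty C)
    [P.IsStableUnderBaseChange] [P.ContainsIdentities] [P.HasOfPostcompProperty Q]
    {X Y : D} (p : X ⟶ Y)
    (hp : Q.relative F p) (s : Y ⟶ X) (hs : s ≫ p = 𝟙 Y) :
    P.relative F s := by
  have : P.RespectsIso := MorphismProperty.IsStableUnderBaseChange.respectsIso
  apply MorphismProperty.relative.of_exists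
  intro U g
  have hp' := hp.rep
  let γ : U ⟶ hp'.pullback (g ≫ p) := hp'.lift g (𝟙 U) (by simp)
  let σ : U ⟶ hp'.pullback (g ≫ p) := hp'.lift (g ≫ p ≫ s) (𝟙 U) (by simp [hs])
  have hγ1 : F.map γ ≫ hp'.fst (g ≫ p) = g := hp'.lift_fst _ _ _
  have hγ2 : γ ≫ hp'.snd (g ≫ p) = 𝟙 U := hp'.lift_snd _ _ _
  have hσ1 : F.map σ ≫ hp'.fst (g ≫ p) = g ≫ p ≫ s := hp'.lift_fst _ _ _
  have hσ2 : σ ≫ hp'.snd (g ≫ p) = 𝟙 U := hp'.lift_snd _ _ _
  have hfs : pullback.fst σ γ = pullback.snd σ γ := by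
    have := pullback.condition (f := σ) (g := γ) =≫ hp'.snd (g ≫ p)
    simpa [hσ2, hγ2] using this
  have hQ : Q (hp'.snd (g ≫ p)) := hp.property_snd (g ≫ p)
  have hPσ : P σ := by
    refine MorphismProperty.of_postcomp (W := P) (W' := Q) σ (hp'.snd (g ≫ p)) hQ ?_
    rw [hσ2]; exact P.id_mem U
  have hPsnd : P (pullback.snd σ γ) := P.pullback_snd _ _ hPσ
  refine ⟨pullback σ γ, F.map (pullback.fst σ γ) ≫ g ≫ p, pullback.fst σ γ, ?_, hfs ▸ hPsnd⟩
  have hPB : IsPullback (F.map (pullback.fst σ γ)) (F.map (pullback.snd σ γ)) (F.map σ) (F.map γ) :=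
    (IsPullback.of_hasPullback σ γ).map F
  refine ⟨⟨?_⟩, ⟨PullbackCone.IsLimit.mk _ (fun c => hPB.lift c.snd c.snd ?_) ?_ ?_ ?_⟩⟩
  · rw [Category.assoc, Category.assoc, ← hσ1, ← Category.assoc, ← F.map_comp, pullback.condition,
      F.map_comp, Category.assoc, hγ1, hfs]
  · apply (hp'.isPullback (g ≫ p)).hom_ext
    · have hc := c.condition
      have h1 : c.fst = c.snd ≫ g ≫ p := by
        have := hc =≫ p
        simpa [hs] using this
      rw [Category.assoc, Category.assoc, hσ1, hγ1, ← hc, h1]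
      simp
    · rw [Category.assoc, Category.assoc, ← F.map_comp, ← F.map_comp, hσ2, hγ2]
  · intro c
    have hc := c.condition
    have h1 : c.fst = c.snd ≫ g ≫ p := by
      have := hc =≫ p
      simpa [hs] using this
    rw [← Category.assoc, hPB.lift_fst, h1]
  · intro c
    exact hPB.lift_fst _ _ _
  · intro c m h1 h2
    apply hPB.hom_ext
    · rw [hPB.lift_fst]; exact h2
    · rw [hPB.lift_snd, ← hfs]; exact h2

end Groth.Agent.Helper4.RelRep
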