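import Mathlib
import Groth.Prelude.Def_RelSpec
import Groth.Prelude.Def_Coh
import Groth.Agent.Helper4.RelSpecIso
import Groth.Agent.Helper4.QcqsMod

universe u

open CategoryTheory CategoryTheory.Limits AlgebraicGeometry TopologicalSpace Opposite

namespace Groth.Agent.Helper4.RelSpecEx

variable {S : Scheme.{u}} (B : Sheaf (Opens.grothendieckTopology S) CommRingCat.{u})
  (φ : S.sheaf ⟶ B)

/-- `B` as an `O_S`-module through `φ` -/
noncomputable def M : S.Modules :=
  (SheafOfModules.restrictScalars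
      ((sheafCompose (Opens.grothendieckTopology S) (forget₂ CommRingCat.{u} RingCat.{u})).map φ)).obj
      (SheafOfModules.unit ((sheafCompose (Opens.grothendieckTopology S) (forget₂ CommRingCat.{u} RingCat.{u})).obj B))

def toB {U : S.Opens} (m : Γ(M B φ, U)) : B.obj.obj (op U) := m
def ofB {U : S.Opens} (b : B.obj.obj (op U)) : Γ(M B φ, U) := b

theorem smul_def {U : S.Opens} (r : Γ(S, U)) (m : Γ(M B φ, U)) :
    toB B φ (r • m) = (φ.hom.app (op U)).hom r * toB B φ m := rfl

theorem map_def {U V : S.Opens} (i : op U ⟶ op V) (m : Γ(M B φ, U)) :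
    toB B φ ((M B φ).presheaf.map i m) = (B.obj.map i).hom (toB B φ m) := rfl

theorem str_res {U V : S.Opens} (i : op U ⟶ op V) (r : Γ(S, U)) :
    (B.obj.map i).hom ((φ.hom.app (op U)).hom r) =
      (φ.hom.app (op V)).hom ((S.presheaf.map i).hom r) := by
  have h := congrArg (fun ψ => ψ.hom r) (φ.hom.naturality i)
  exact h.symm

theorem isQC_of_isQuasicoherent (hB : (M B φ).IsQuasicoherent) :
    RelSpec.IsQC B.obj φ.hom := by
  intro U hU r
  letI := (B.obj.map (homOfLE (S.basicOpen_le r)).op).hom.toAlgebra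
  have hloc := QcqsMod.isLocalizingOn_of_isAffineOpen (M B φ) hU
  have hunit : IsUnit ((B.obj.map (homOfLE (S.basicOpen_le r)).op).hom
      ((φ.hom.app (op U)).hom r)) := by
    rw [str_res]
    exact (RingedSpace.isUnit_res_basicOpen S.toRingedSpace r).map _
  rw [IsLocalization.Away, isLocalization_iff]
  refine ⟨?_, ?_, ?_⟩
  · rintro ⟨_, n, rfl⟩
    change IsUnit ((B.obj.map (homOfLE (S.basicOpen_le r)).op).hom (((φ.hom.app (op U)).hom r) ^ n))
    rw [map_pow]
    exact hunit.pow n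
  · intro t
    obtain ⟨n, m, hm⟩ := hloc.surj r (ofB B φ t)
    refine ⟨⟨toB B φ m, ⟨_, n, rfl⟩⟩, ?_⟩
    have h1 := congrArg (toB B φ) hm
    rw [smul_def, map_def] at h1
    change t * (B.obj.map (homOfLE (S.basicOpen_le r)).op).hom (((φ.hom.app (op U)).hom r) ^ n) =
      (B.obj.map (homOfLE (S.basicOpen_le r)).op).hom (toB B φ m)
    have hpow : (B.obj.map (homOfLE (S.basicOpen_le r)).op).hom (((φ.hom.app (op U)).hom r) ^ n) =
        (φ.hom.app (op (S.basicOpen r))).hom
          ((S.presheaf.map (homOfLE (S.basicOpen_le r)).op).hom (r ^ n)) := by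
      have e1 : (φ.hom.app (op U)).hom (r ^ n) = ((φ.hom.app (op U)).hom r) ^ n := map_pow _ _ _
      exact (congrArg (B.obj.map (homOfLE (S.basicOpen_le r)).op).hom e1.symm).trans
        (str_res B φ _ (r ^ n))
    rw [← h1, mul_comm, hpow]
    rfl
  · intro a b hab
    have h0 : (M B φ).presheaf.map (homOfLE (S.basicOpen_le r)).op (ofB B φ (a - b)) = 0 := by
      change (B.obj.map (homOfLE (S.basicOpen_le r)).op).hom (a - b) = 0
      rw [map_sub, sub_eq_zero]
      exact hab
    obtain ⟨n, hn⟩ := hloc.zero r _ h0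
    refine ⟨⟨_, n, rfl⟩, ?_⟩
    have h1 := congrArg (toB B φ) hn
    rw [smul_def] at h1
    have e1 : (φ.hom.app (op U)).hom (r ^ n) = ((φ.hom.app (op U)).hom r) ^ n := map_pow _ _ _
    have h2 : ((φ.hom.app (op U)).hom r) ^ n * (a - b) = 0 :=
      (congrArg (· * (a - b)) e1.symm).trans h1
    change ((φ.hom.app (op U)).hom r) ^ n * a = ((φ.hom.app (op U)).hom r) ^ n * b
    rw [← sub_eq_zero, ← mul_sub]
    exact h2

end Groth.Agent.Helper4.RelSpecEx

namespace Groth.Agent.Helper4.RelSpecEx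

variable {S : Scheme.{u}} (B : Sheaf (Opens.grothendieckTopology S) CommRingCat.{u})
  (φ : S.sheaf ⟶ B)

theorem exists_relSpec (hB : (M B φ).IsQuasicoherent) :
    ∃ (X : Scheme.{u}) (f : X ⟶ S) (_ : IsAffineHom f)
      (e : B ≅ (TopCat.Sheaf.pushforward CommRingCat.{u} f.base).obj X.sheaf),
      (φ ≫ e.hom).hom = f.c := by
  let A : RelSpec.QCAlg S := ⟨B.obj, B.property, φ.hom, isQC_of_isQuasicoherent B φ hB⟩
  haveI := RelSpecIso.isIso_gammaMap A
  let e0 : B.obj ≅ ((TopCat.Sheaf.pushforward CommRingCat.{u} A.π.base).obj A.spec.sheaf).obj :=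
    (asIso A.gammaMap).symm
  refine ⟨A.spec, A.π, A.isAffineHom_π, ObjectProperty.isoMk _ e0, ?_⟩
  have h1 : A.π.c ≫ A.gammaMap = φ.hom := A.π_c_gammaMap
  change φ.hom ≫ inv A.gammaMap = A.π.c
  exact (IsIso.comp_inv_eq _).mpr h1.symm

end Groth.Agent.Helper4.RelSpecEx
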