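import Groth.Prelude.Def_AlgSpRep
import Mathlib

/-!
# Maps of presheaves representable by algebraic spaces: basic pullback yoga and the sheaf property
-/

set_option autoImplicit false
universe u
open CategoryTheory CategoryTheory.Limits AlgebraicGeometry Opposite

namespace Groth.Agent.Helper4.RepBySp1

open AlgSp

variable {S : Scheme.{u}}

section Elementwise

variable {F G H F' : PSp S} {a : F ⟶ G} {ξ : H ⟶ G} {fst : F' ⟶ F} {snd : F' ⟶ H}

theorem sq_app (sq : IsPullback fst snd a ξ) (V : (Over S)ᵒᵖ) :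
    IsPullback (fst.app V) (snd.app V) (a.app V) (ξ.app V) :=
  sq.map ((evaluation (Over S)ᵒᵖ (Type (u + 1))).obj V)

theorem ext_of_sq (sq : IsPullback fst snd a ξ) {V : (Over S)ᵒᵖ} {p q : F'.obj V}
    (h1 : fst.app V p = fst.app V q) (h2 : snd.app V p = snd.app V q) : p = q :=
  Types.ext_of_isPullback (sq_app sq V) h1 h2

theorem exists_of_sq (sq : IsPullback fst snd a ξ) {V : (Over S)ᵒᵖ} (x : F.obj V) (t : H.obj V)
    (h : a.app V x = ξ.app V t) : ∃ p : F'.obj V, fst.app V p = x ∧ snd.app V p = t :=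
  Types.exists_of_isPullback (sq_app sq V) x t h

end Elementwise


/-- **S10089**: the source of a map representable by algebraic spaces into a sheaf is a sheaf -/
theorem isSheaf_of_repBySp {F G : PSp S} (a : F ⟶ G) (ha : RepBySp a)
    (hG : Presheaf.IsSheaf (J S) G) : Presheaf.IsSheaf (J S) F := by
  rw [isSheaf_iff_isSheaf_of_type] at hG ⊢
  intro T R hR x hx
  have hy := Presieve.FamilyOfElements.Compatible.map a hx
  obtain ⟨g, hg, hguniq⟩ := hG R hR (x.map a) hy
  let ξ : (pyon S).obj T ⟶ G := uliftYonedaEquiv.symm g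
  have hξ : ∀ ⦃V : Over S⦄ (f : V ⟶ T), ξ.app (op V) (ULift.up f) = G.map f.op g := fun V f => rfl
  let F' : PSp S := pullback a ξ
  have sq : IsPullback (pullback.fst a ξ) (pullback.snd a ξ) a ξ := IsPullback.of_hasPullback a ξ
  obtain ⟨hF', -⟩ := ha ξ (pullback.fst a ξ) (pullback.snd a ξ) sq
  rw [isSheaf_iff_isSheaf_of_type] at hF'
  have key : ∀ ⦃V : Over S⦄ (f : V ⟶ T) (hf : R f), ∃ p : F'.obj (op V),
      (pullback.fst a ξ).app (op V) p = x f hf ∧ (pullback.snd a ξ).app (op V) p = ULift.up f := by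
    intro V f hf
    apply exists_of_sq sq
    rw [hξ]
    exact (hg f hf).symm
  choose p hp1 hp2 using key
  let x' : Presieve.FamilyOfElements F' R := fun V f hf => p f hf
  have hx' : x'.Compatible := by
    intro V₁ V₂ Z g₁ g₂ f₁ f₂ h₁ h₂ hcomm
    apply ext_of_sq sq
    · have n1 := NatTrans.naturality_apply (pullback.fst a ξ) g₁.op (p f₁ h₁)
      have n2 := NatTrans.naturality_apply (pullback.fst a ξ) g₂.op (p f₂ h₂)
      refine n1.trans (Eq.trans ?_ n2.symm)
      change F.map g₁.op ((pullback.fst a ξ).app (op V₁) (p f₁ h₁)) =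
        F.map g₂.op ((pullback.fst a ξ).app (op V₂) (p f₂ h₂))
      rw [hp1, hp1]
      exact hx g₁ g₂ h₁ h₂ hcomm
    · have n1 := NatTrans.naturality_apply (pullback.snd a ξ) g₁.op (p f₁ h₁)
      have n2 := NatTrans.naturality_apply (pullback.snd a ξ) g₂.op (p f₂ h₂)
      refine n1.trans (Eq.trans ?_ n2.symm)
      change ((pyon S).obj T).map g₁.op ((pullback.snd a ξ).app (op V₁) (p f₁ h₁)) =
        ((pyon S).obj T).map g₂.op ((pullback.snd a ξ).app (op V₂) (p f₂ h₂))
      rw [hp2, hp2]
      change ULift.up (g₁ ≫ f₁) = ULift.up (g₂ ≫ f₂)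
      rw [hcomm]
  obtain ⟨t', ht', ht'uniq⟩ := hF' R hR x' hx'
  refine ⟨(pullback.fst a ξ).app (op T) t', ?_, ?_⟩
  · intro V f hf
    have n1 := NatTrans.naturality_apply (pullback.fst a ξ) f.op t'
    refine n1.symm.trans ?_
    change (pullback.fst a ξ).app (op V) (F'.map f.op t') = x f hf
    rw [ht' f hf]
    exact hp1 f hf
  · intro t₂ ht₂
    have h1 : a.app (op T) t₂ = g := by
      apply hguniq
      intro V f hf
      have n1 := NatTrans.naturality_apply a f.op t₂
      refine n1.symm.trans ?_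
      change a.app (op V) (F.map f.op t₂) = a.app (op V) (x f hf)
      rw [ht₂ f hf]
    obtain ⟨p₂, hp21, hp22⟩ := exists_of_sq sq (V := op T) t₂ (ULift.up (𝟙 T)) (by
      rw [h1, hξ]
      simp)
    have h2 : p₂ = t' := by
      apply ht'uniq
      intro V f hf
      apply ext_of_sq sq
      · have n1 := NatTrans.naturality_apply (pullback.fst a ξ) f.op p₂
        refine n1.trans ?_
        change F.map f.op ((pullback.fst a ξ).app (op T) p₂) = (pullback.fst a ξ).app (op V) (p f hf)
        rw [hp21, hp1, ht₂ f hf]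
      · have n1 := NatTrans.naturality_apply (pullback.snd a ξ) f.op p₂
        refine n1.trans ?_
        change ((pyon S).obj T).map f.op ((pullback.snd a ξ).app (op T) p₂) =
          (pullback.snd a ξ).app (op V) (p f hf)
        rw [hp22, hp2]
        change ULift.up (f ≫ 𝟙 T) = ULift.up f
        rw [Category.comp_id]
    rw [← hp21, h2]

end Groth.Agent.Helper4.RepBySp1
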