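import Groth.Agent.Helper4.RepBySp1
import Groth.Agent.Helper4.AlgSpPB
import Mathlib

/-!
# The source of a map representable by algebraic spaces into an algebraic space
-/

set_option autoImplicit false
universe u v₁ u₁
open CategoryTheory CategoryTheory.Limits AlgebraicGeometry Opposite

namespace Groth.Agent.Helper4.RepBySp2

section general

variable {C : Type u₁} [Category.{v₁} C] [HasPullbacks C] [HasBinaryProducts C]

/-- the base change of the relative diagonal of `f` along `ξ = (x, y)` is the equalizer of the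
sections `x'`, `y'` of the base change `P = F ×_G T`, computed through the absolute diagonal of
`P`. -/
theorem isPullback_diagonal_of_sections {F G T P E : C} (f : F ⟶ G) (ξ : T ⟶ pullback f f)
    (fstP : P ⟶ F) (sndP : P ⟶ T)
    (hP : IsPullback fstP sndP f (ξ ≫ pullback.fst f f ≫ f))
    (x' y' : T ⟶ P) (hx1 : x' ≫ fstP = ξ ≫ pullback.fst f f) (hx2 : x' ≫ sndP = 𝟙 T)
    (hy1 : y' ≫ fstP = ξ ≫ pullback.snd f f) (hy2 : y' ≫ sndP = 𝟙 T)
    (w : E ⟶ P) (v : E ⟶ T) (hE : IsPullback w v (Limits.diag P) (prod.lift x' y')) :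
    IsPullback (w ≫ fstP) v (pullback.diagonal f) ξ := by
  have hw1 : w = v ≫ x' := by
    have := congrArg (fun k => k ≫ (prod.fst : P ⨯ P ⟶ P)) hE.w
    simp only [Category.assoc, Limits.diag, prod.lift_fst, Category.comp_id] at this
    exact this
  have hw2 : w = v ≫ y' := by
    have := congrArg (fun k => k ≫ (prod.snd : P ⨯ P ⟶ P)) hE.w
    simp only [Category.assoc, Limits.diag, prod.lift_snd, Category.comp_id] at this
    exact this
  have hcomm : (w ≫ fstP) ≫ pullback.diagonal f = v ≫ ξ := by
    apply pullback.hom_ext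
    · rw [Category.assoc, pullback.diagonal_fst, Category.comp_id, Category.assoc, hw1,
        Category.assoc, hx1]
    · rw [Category.assoc, pullback.diagonal_snd, Category.comp_id, Category.assoc, hw2,
        Category.assoc, hy1]
  refine ⟨⟨hcomm⟩, ⟨PullbackCone.IsLimit.mk _ ?_ ?_ ?_ ?_⟩⟩
  · intro c
    have hc1 : c.fst = c.snd ≫ ξ ≫ pullback.fst f f := by
      have := congrArg (fun k => k ≫ pullback.fst f f) c.condition
      simpa using this
    have hc2 : c.fst = c.snd ≫ ξ ≫ pullback.snd f f := by
      have := congrArg (fun k => k ≫ pullback.snd f f) c.condition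
      simpa using this
    have hxy : c.snd ≫ x' = c.snd ≫ y' := by
      apply hP.hom_ext
      · rw [Category.assoc, Category.assoc, hx1, hy1, ← hc1, ← hc2]
      · rw [Category.assoc, Category.assoc, hx2, hy2]
    refine hE.lift (c.snd ≫ x') c.snd ?_
    apply Limits.prod.hom_ext
    · simp only [Category.assoc, Limits.diag, prod.lift_fst, Category.comp_id]
    · simp only [Category.assoc, Limits.diag, prod.lift_snd, Category.comp_id]
      exact hxy
  · intro c
    have hc1 : c.fst = c.snd ≫ ξ ≫ pullback.fst f f := by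
      have := congrArg (fun k => k ≫ pullback.fst f f) c.condition
      simpa using this
    rw [← Category.assoc, hE.lift_fst, Category.assoc, hx1, ← hc1]
  · intro c
    exact hE.lift_snd _ _ _
  · intro c m hm1 hm2
    apply hE.hom_ext
    · rw [hE.lift_fst, hw1, ← Category.assoc, hm2]
    · rw [hE.lift_snd, hm2]

end general


open AlgSp

variable {S : Scheme.{u}}

/-- the relative diagonal of a map representable by algebraic spaces is representable by schemes -/
theorem representable_diagonal_of_repBySp {F G : Sp S} (f : F ⟶ G) (hf : RepBySp f.hom) :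
    Representable (pullback.diagonal f) := by
  rw [repBySp_hom_iff] at hf
  intro U ξ
  let γ : (yon S).obj U ⟶ G := ξ ≫ pullback.fst f f ≫ f
  have hP : IsPullback (pullback.fst f γ) (pullback.snd f γ) f γ := IsPullback.of_hasPullback _ _
  have hPalg : IsAlgSpace (pullback f γ) := hf γ (pullback.fst f γ) (pullback.snd f γ) hP
  have c1 : (ξ ≫ pullback.fst f f) ≫ f = 𝟙 _ ≫ γ := by
    rw [Category.id_comp, Category.assoc]
  have c2 : (ξ ≫ pullback.snd f f) ≫ f = 𝟙 _ ≫ γ := by
    rw [Category.id_comp, Category.assoc, ← pullback.condition]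
  let x' : (yon S).obj U ⟶ pullback f γ := hP.lift (ξ ≫ pullback.fst f f) (𝟙 _) c1
  let y' : (yon S).obj U ⟶ pullback f γ := hP.lift (ξ ≫ pullback.snd f f) (𝟙 _) c2
  obtain ⟨V, v, w, hE⟩ := hPalg.diag (prod.lift x' y')
  exact ⟨V, v, w ≫ pullback.fst f γ,
    isPullback_diagonal_of_sections f ξ (pullback.fst f γ) (pullback.snd f γ) hP x' y'
      (hP.lift_fst _ _ _) (hP.lift_snd _ _ _) (hP.lift_fst _ _ _) (hP.lift_snd _ _ _) w _ hE⟩

/-- **S10091**, sheaf form -/
theorem isAlgSpace_of_repBySp {F G : Sp S} (f : F ⟶ G) (hf : RepBySp f.hom)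
    (hG : IsAlgSpace G) : IsAlgSpace F where
  diag := by
    rw [Groth.Agent.Helper4.AlgSpPB.representable_diag_iff]
    have e : terminal.from F = f ≫ terminal.from G := Subsingleton.elim _ _
    rw [e]
    exact MorphismProperty.comp_mem _ _ _ (representable_diagonal_of_repBySp f hf)
      ((Groth.Agent.Helper4.AlgSpPB.representable_diag_iff G).mp hG.diag)
  atlas := by
    obtain ⟨U, p, hpe, hps⟩ := hG.atlas
    have hP : IsPullback (pullback.fst f p) (pullback.snd f p) f p := IsPullback.of_hasPullback _ _
    have hPalg : IsAlgSpace (pullback f p) :=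
      (repBySp_hom_iff f).mp hf p (pullback.fst f p) (pullback.snd f p) hP
    obtain ⟨V, q, hqe, hqs⟩ := hPalg.atlas
    have inst1 : (RepWith (S := S) @Etale).IsStableUnderBaseChange :=
      repWith_isStableUnderBaseChange (S := S) @Etale
    have inst2 : (RepWith (S := S) @Surjective).IsStableUnderBaseChange :=
      repWith_isStableUnderBaseChange (S := S) @Surjective
    have i1 : (RepWith (S := S) @Etale).IsStableUnderComposition :=
      (repWith_isMultiplicative (S := S) @Etale).toIsStableUnderComposition
    have i2 : (RepWith (S := S) @Surjective).IsStableUnderComposition :=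
      (repWith_isMultiplicative (S := S) @Surjective).toIsStableUnderComposition
    refine ⟨V, q ≫ pullback.fst f p, ?_, ?_⟩
    · exact MorphismProperty.comp_mem _ _ _ hqe (MorphismProperty.of_isPullback hP.flip hpe)
    · exact MorphismProperty.comp_mem _ _ _ hqs (MorphismProperty.of_isPullback hP.flip hps)

/-- **S10091** -/
theorem isAlgSpaceP_of_repBySp {F G : PSp S} (a : F ⟶ G) (ha : RepBySp a)
    (hG : IsAlgSpaceP G) : IsAlgSpaceP F := by
  obtain ⟨hGs, hGalg⟩ := hG
  have hFs : Presheaf.IsSheaf (J S) F :=
    Groth.Agent.Helper4.RepBySp1.isSheaf_of_repBySp a ha hGs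
  let f : (⟨F, hFs⟩ : Sp S) ⟶ ⟨G, hGs⟩ := ObjectProperty.homMk a
  exact ⟨hFs, isAlgSpace_of_repBySp f ha hGalg⟩

end Groth.Agent.Helper4.RepBySp2
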