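import Groth.Agent.Helper4.RepBySp2
import Mathlib

/-!
# Permanence properties of maps representable by algebraic spaces
-/

set_option autoImplicit false
universe u v₁ u₁
open CategoryTheory CategoryTheory.Limits AlgebraicGeometry Opposite

namespace Groth.Agent.Helper4.RepBySp3

open AlgSp Groth.Agent.Helper4.RepBySp2

variable {S : Scheme.{u}}

/-- base change of a map representable by algebraic spaces -/
theorem repBySp_of_isPullback {F G X F' : PSp S} {a : F ⟶ G} {ξ : X ⟶ G} {fst : F' ⟶ X}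
    {snd : F' ⟶ F} (sq : IsPullback fst snd ξ a) (ha : RepBySp a) : RepBySp fst := by
  intro U η E e1 e2 hE
  exact ha (η ≫ ξ) (e1 ≫ snd) e2 (hE.paste_horiz sq.flip)

/-- **S10092** for presheaves: the base change of a map representable by algebraic spaces to an
algebraic space is an algebraic space -/
theorem isAlgSpaceP_of_isPullback {F G X F' : PSp S} {a : F ⟶ G} {ξ : X ⟶ G} {fst : F' ⟶ X}
    {snd : F' ⟶ F} (sq : IsPullback fst snd ξ a) (ha : RepBySp a) (hX : IsAlgSpaceP X) :
    IsAlgSpaceP F' :=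
  isAlgSpaceP_of_repBySp fst (repBySp_of_isPullback sq ha) hX

/-- **S10093**: composition -/
theorem repBySp_comp {F G H : PSp S} (a : F ⟶ G) (b : G ⟶ H) (ha : RepBySp a) (hb : RepBySp b) :
    RepBySp (a ≫ b) := by
  intro U ξ P p1 p2 hP
  have hG' : IsPullback (pullback.fst b ξ) (pullback.snd b ξ) b ξ := IsPullback.of_hasPullback _ _
  have hG'alg : IsAlgSpaceP (pullback b ξ) := hb ξ _ _ hG'
  have hc : (p1 ≫ a) ≫ b = p2 ≫ ξ := by rw [Category.assoc]; exact hP.w
  let l : P ⟶ pullback b ξ := hG'.lift (p1 ≫ a) p2 hc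
  have hl1 : l ≫ pullback.fst b ξ = p1 ≫ a := hG'.lift_fst _ _ _
  have hl2 : l ≫ pullback.snd b ξ = p2 := hG'.lift_snd _ _ _
  have htop : IsPullback p1 l a (pullback.fst b ξ) := by
    refine IsPullback.of_bot ?_ hl1.symm hG'
    rw [hl2]
    exact hP
  exact isAlgSpaceP_of_isPullback htop.flip ha hG'alg


section general

variable {C : Type u₁} [Category.{v₁} C] [HasPullbacks C]

/-- product-free form: the base change of the relative diagonal of `f` along `ξ = (x, y)` is the
fibre product of the sections `x'`, `y'` of `P = F ×_G T` -/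
theorem isPullback_diagonal_of_sections' {F G T P E : C} (f : F ⟶ G) (ξ : T ⟶ pullback f f)
    (fstP : P ⟶ F) (sndP : P ⟶ T)
    (hP : IsPullback fstP sndP f (ξ ≫ pullback.fst f f ≫ f))
    (x' y' : T ⟶ P) (hx1 : x' ≫ fstP = ξ ≫ pullback.fst f f) (hx2 : x' ≫ sndP = 𝟙 T)
    (hy1 : y' ≫ fstP = ξ ≫ pullback.snd f f) (hy2 : y' ≫ sndP = 𝟙 T)
    (w v : E ⟶ T) (hE : IsPullback w v x' y') :
    IsPullback (w ≫ x' ≫ fstP) w (pullback.diagonal f) ξ := by
  have hwv : w = v := by
    have h1 : w = (w ≫ x') ≫ sndP := by rw [Category.assoc, hx2, Category.comp_id]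
    rw [h1, hE.w, Category.assoc, hy2, Category.comp_id]
  have hcomm : (w ≫ x' ≫ fstP) ≫ pullback.diagonal f = w ≫ ξ := by
    apply pullback.hom_ext
    · rw [Category.assoc, pullback.diagonal_fst, Category.comp_id, hx1, Category.assoc]
    · rw [Category.assoc, pullback.diagonal_snd, Category.comp_id, ← Category.assoc, hE.w,
        ← hwv, Category.assoc, hy1, Category.assoc]
  refine ⟨⟨hcomm⟩, ⟨PullbackCone.IsLimit.mk _ ?_ ?_ ?_ ?_⟩⟩
  · intro c
    have hc1 : c.fst = c.snd ≫ ξ ≫ pullback.fst f f := by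
      have := congrArg (fun k => k ≫ pullback.fst f f) c.condition
      simpa using this
    have hc2 : c.fst = c.snd ≫ ξ ≫ pullback.snd f f := by
      have := congrArg (fun k => k ≫ pullback.snd f f) c.condition
      simpa using this
    have hxy : c.snd ≫ x' = c.snd ≫ y' := by
      apply hP.hom_ext
      · rw [Category.assoc, Category.assoc, hx1, hy1, ← hc1, ← hc2]
      · rw [Category.assoc, Category.assoc, hx2, hy2]
    exact hE.lift c.snd c.snd hxy
  · intro c
    have hc1 : c.fst = c.snd ≫ ξ ≫ pullback.fst f f := by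
      have := congrArg (fun k => k ≫ pullback.fst f f) c.condition
      simpa using this
    rw [← Category.assoc, hE.lift_fst, hx1, ← hc1]
  · intro c
    exact hE.lift_fst _ _ _
  · intro c m hm1 hm2
    apply hE.hom_ext
    · rw [hE.lift_fst]; exact hm2
    · rw [hE.lift_snd, ← hwv]; exact hm2

end general

/-- **S10090**: the relative diagonal of a map representable by algebraic spaces is representable
by algebraic spaces (even by schemes) -/
theorem repBySp_diagonal {F G : PSp S} (a : F ⟶ G) (ha : RepBySp a) :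
    RepBySp (pullback.diagonal a) := by
  intro U ξ E e1 e2 hE
  let γ : (pyon S).obj U ⟶ G := ξ ≫ pullback.fst a a ≫ a
  have hP : IsPullback (pullback.fst a γ) (pullback.snd a γ) a γ := IsPullback.of_hasPullback _ _
  obtain ⟨hPs, hPalg⟩ := ha γ (pullback.fst a γ) (pullback.snd a γ) hP
  have c1 : (ξ ≫ pullback.fst a a) ≫ a = 𝟙 _ ≫ γ := by
    rw [Category.id_comp, Category.assoc]
  have c2 : (ξ ≫ pullback.snd a a) ≫ a = 𝟙 _ ≫ γ := by
    rw [Category.id_comp, Category.assoc, ← pullback.condition]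
  let x' : (pyon S).obj U ⟶ pullback a γ := hP.lift (ξ ≫ pullback.fst a a) (𝟙 _) c1
  let y' : (pyon S).obj U ⟶ pullback a γ := hP.lift (ξ ≫ pullback.snd a a) (𝟙 _) c2
  let Psh : Sp S := ⟨pullback a γ, hPs⟩
  let xs : (yon S).obj U ⟶ Psh := ObjectProperty.homMk x'
  let ys : (yon S).obj U ⟶ Psh := ObjectProperty.homMk y'
  obtain ⟨V, v, w, hV⟩ := hPalg.representable_from_yon xs ys
  have hV' : IsPullback w.hom ((yon S).map v).hom x' y' :=
    hV.map (sheafToPresheaf (J S) (Type (u + 1)))
  have key := isPullback_diagonal_of_sections' a ξ (pullback.fst a γ) (pullback.snd a γ) hP x' y'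
    (hP.lift_fst _ _ _) (hP.lift_snd _ _ _) (hP.lift_fst _ _ _) (hP.lift_snd _ _ _)
    w.hom ((yon S).map v).hom hV'
  have hyon : IsAlgSpaceP ((pyon S).obj V) :=
    (isAlgSpaceP_obj_iff ((yon S).obj V)).2 (IsAlgSpace.yon_obj V)
  exact hyon.of_iso (key.isoIsPullback _ _ hE)

end Groth.Agent.Helper4.RepBySp3
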