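import Groth.Agent.Helper4.RepBySp3
import Groth.Agent.Helper4.AlgSpPB
import Mathlib

/-!
# More permanence properties of maps representable by algebraic spaces
-/

set_option autoImplicit false
universe u v₁ u₁
open CategoryTheory CategoryTheory.Limits AlgebraicGeometry Opposite

namespace Groth.Agent.Helper4.RepBySp4

open AlgSp Groth.Agent.Helper4.RepBySp2 Groth.Agent.Helper4.RepBySp3

section general

variable {C : Type u₁} [Category.{v₁} C] [HasPullbacks C]

/-- the base change of `a` along `ξ` is the base change of the diagonal of `b` along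
`(p1 ≫ a, p2 ≫ ξ) : F ×_H U ⟶ G ×_H G` -/
theorem isPullback_of_diagonal {F G H U E P : C} (a : F ⟶ G) (b : G ⟶ H) (ξ : U ⟶ G)
    (e1 : E ⟶ F) (e2 : E ⟶ U) (hE : IsPullback e1 e2 a ξ)
    (p1 : P ⟶ F) (p2 : P ⟶ U) (hP : IsPullback p1 p2 (a ≫ b) (ξ ≫ b))
    (ζ : P ⟶ pullback b b) (hζ1 : ζ ≫ pullback.fst b b = p1 ≫ a)
    (hζ2 : ζ ≫ pullback.snd b b = p2 ≫ ξ)
    (l : E ⟶ P) (hl1 : l ≫ p1 = e1) (hl2 : l ≫ p2 = e2) :
    IsPullback l (e1 ≫ a) ζ (pullback.diagonal b) := by
  have hcomm : l ≫ ζ = (e1 ≫ a) ≫ pullback.diagonal b := by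
    apply pullback.hom_ext
    · rw [Category.assoc, hζ1, ← Category.assoc, hl1, Category.assoc, pullback.diagonal_fst,
        Category.comp_id]
    · rw [Category.assoc, hζ2, ← Category.assoc, hl2, Category.assoc, pullback.diagonal_snd,
        Category.comp_id, hE.w]
  refine ⟨⟨hcomm⟩, ⟨PullbackCone.IsLimit.mk _ ?_ ?_ ?_ ?_⟩⟩
  · intro c
    have hc1 : c.fst ≫ p1 ≫ a = c.snd := by
      have := congrArg (fun k => k ≫ pullback.fst b b) c.condition
      simpa [hζ1] using this
    have hc2 : c.fst ≫ p2 ≫ ξ = c.snd := by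
      have := congrArg (fun k => k ≫ pullback.snd b b) c.condition
      simpa [hζ2] using this
    exact hE.lift (c.fst ≫ p1) (c.fst ≫ p2) (by rw [Category.assoc, Category.assoc, hc1, hc2])
  · intro c
    apply hP.hom_ext
    · rw [Category.assoc, hl1, hE.lift_fst]
    · rw [Category.assoc, hl2, hE.lift_snd]
  · intro c
    have hc1 : c.fst ≫ p1 ≫ a = c.snd := by
      have := congrArg (fun k => k ≫ pullback.fst b b) c.condition
      simpa [hζ1] using this
    rw [← Category.assoc, hE.lift_fst, Category.assoc, hc1]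
  · intro c m hm1 hm2
    apply hE.hom_ext
    · rw [hE.lift_fst, ← hm1, Category.assoc, hl1]
    · rw [hE.lift_snd, ← hm1, Category.assoc, hl2]

end general

variable {S : Scheme.{u}}

/-- **S10095** -/
theorem repBySp_of_comp {F G H : PSp S} (a : F ⟶ G) (b : G ⟶ H)
    (hΔ : RepBySp (pullback.diagonal b)) (hab : RepBySp (a ≫ b)) : RepBySp a := by
  intro U ξ E e1 e2 hE
  have hP : IsPullback (pullback.fst (a ≫ b) (ξ ≫ b)) (pullback.snd (a ≫ b) (ξ ≫ b)) (a ≫ b)
      (ξ ≫ b) := IsPullback.of_hasPullback _ _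
  have hPalg : IsAlgSpaceP (pullback (a ≫ b) (ξ ≫ b)) := hab (ξ ≫ b) _ _ hP
  have hw : (pullback.fst (a ≫ b) (ξ ≫ b) ≫ a) ≫ b = (pullback.snd (a ≫ b) (ξ ≫ b) ≫ ξ) ≫ b := by
    rw [Category.assoc, Category.assoc]; exact hP.w
  have hw' : e1 ≫ a ≫ b = e2 ≫ ξ ≫ b := by
    rw [← Category.assoc, hE.w, Category.assoc]
  have key := isPullback_of_diagonal a b ξ e1 e2 hE _ _ hP
    (pullback.lift _ _ hw) (pullback.lift_fst _ _ _) (pullback.lift_snd _ _ _)
    (hP.lift e1 e2 hw') (hP.lift_fst _ _ _) (hP.lift_snd _ _ _)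
  exact isAlgSpaceP_of_isPullback key hΔ hPalg

section prodmap

section general

variable {C : Type u₁} [Category.{v₁} C]

set_option backward.defeqAttrib.useBackward true in
set_option backward.isDefEq.respectTransparency false in
lemma isPullback_prod_snd_with_id {A B : C} (f : A ⟶ B) (X : C) [HasBinaryProduct X A]
    [HasBinaryProduct X B] :
    IsPullback prod.snd (prod.map (𝟙 X) f) f prod.snd where
  w := by simp
  isLimit' := ⟨PullbackCone.isLimitAux' _ (fun s ↦ by
    refine ⟨prod.lift (s.snd ≫ prod.fst) s.fst, ?_, ?_, ?_⟩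
    · simp
    · ext
      · simp
      · simp [PullbackCone.condition]
    · intro m h₁ h₂
      dsimp at m h₁ h₂ ⊢
      ext
      · simp [← h₂]
      · simpa using h₁)⟩

end general


/-- **S10094** -/
theorem repBySp_prod_map {F₁ G₁ F₂ G₂ : PSp S} (a₁ : F₁ ⟶ G₁) (a₂ : F₂ ⟶ G₂)
    (h₁ : RepBySp a₁) (h₂ : RepBySp a₂) : RepBySp (prod.map a₁ a₂) := by
  have e : prod.map a₁ a₂ = prod.map a₁ (𝟙 F₂) ≫ prod.map (𝟙 G₁) a₂ := by
    rw [prod.map_map, Category.comp_id, Category.id_comp]
  rw [e]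
  exact repBySp_comp _ _
    (repBySp_of_isPullback (IsPullback.of_prod_fst_with_id a₁ F₂).flip h₁)
    (repBySp_of_isPullback (isPullback_prod_snd_with_id a₂ G₁).flip h₂)


end prodmap

section diag

section general

variable {C : Type u₁} [Category.{v₁} C] [HasBinaryProducts C]

set_option backward.defeqAttrib.useBackward true in
set_option backward.isDefEq.respectTransparency false in
/-- `T ×_F U` is the base change of the diagonal of `F` along `ξ × η` -/
theorem isPullback_diag_prod_map {F T U E : C} (ξ : T ⟶ F) (η : U ⟶ F) (e1 : E ⟶ T) (e2 : E ⟶ U)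
    (hE : IsPullback e1 e2 ξ η) :
    IsPullback (e1 ≫ ξ) (prod.lift e1 e2) (diag F) (prod.map ξ η) := by
  have hcomm : (e1 ≫ ξ) ≫ diag F = prod.lift e1 e2 ≫ prod.map ξ η := by
    apply Limits.prod.hom_ext
    · simp
    · simp [hE.w]
  have h1 : prod.lift e1 e2 ≫ prod.fst = e1 := prod.lift_fst _ _
  have h2 : prod.lift e1 e2 ≫ prod.snd = e2 := prod.lift_snd _ _
  refine ⟨⟨hcomm⟩, ⟨PullbackCone.IsLimit.mk _ ?_ ?_ ?_ ?_⟩⟩
  · intro c
    have hc1 : c.fst = c.snd ≫ prod.fst ≫ ξ := by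
      have := congrArg (fun k => k ≫ prod.fst) c.condition
      simpa using this
    have hc2 : c.fst = c.snd ≫ prod.snd ≫ η := by
      have := congrArg (fun k => k ≫ prod.snd) c.condition
      simpa using this
    exact hE.lift (c.snd ≫ prod.fst) (c.snd ≫ prod.snd)
      (by rw [Category.assoc, Category.assoc, ← hc1, ← hc2])
  · intro c
    have hc1 : c.fst = c.snd ≫ prod.fst ≫ ξ := by
      have := congrArg (fun k => k ≫ prod.fst) c.condition
      simpa using this
    rw [← Category.assoc, hE.lift_fst, Category.assoc, ← hc1]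
  · intro c
    apply Limits.prod.hom_ext
    · rw [Category.assoc, h1, hE.lift_fst]
    · rw [Category.assoc, h2, hE.lift_snd]
  · intro c m hm1 hm2
    apply hE.hom_ext
    · rw [hE.lift_fst, ← hm2, Category.assoc, h1]
    · rw [hE.lift_snd, ← hm2, Category.assoc, h2]

set_option backward.defeqAttrib.useBackward true in
set_option backward.isDefEq.respectTransparency false in
/-- `F ×_{F × F} U` is the base change of `U ×_F U ⟶ U × U` along the diagonal of `U` -/
theorem isPullback_diag_of_pullback {F U E P : C} (ξ : U ⟶ F ⨯ F) (e1 : E ⟶ F) (e2 : E ⟶ U)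
    (hE : IsPullback e1 e2 (diag F) ξ) (p1 p2 : P ⟶ U)
    (hP : IsPullback p1 p2 (ξ ≫ prod.fst) (ξ ≫ prod.snd))
    (δ : E ⟶ P) (hδ1 : δ ≫ p1 = e2) (hδ2 : δ ≫ p2 = e2) :
    IsPullback δ e2 (prod.lift p1 p2) (diag U) := by
  have hcomm : δ ≫ prod.lift p1 p2 = e2 ≫ diag U := by
    apply Limits.prod.hom_ext
    · simp [hδ1]
    · simp [hδ2]
  have he1 : e1 = e2 ≫ ξ ≫ prod.fst := by
    have := congrArg (fun k => k ≫ prod.fst) hE.w
    simpa using this
  refine ⟨⟨hcomm⟩, ⟨PullbackCone.IsLimit.mk _ ?_ ?_ ?_ ?_⟩⟩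
  · intro c
    have hc1 : c.fst ≫ p1 = c.snd := by
      have := congrArg (fun k => k ≫ prod.fst) c.condition
      simpa using this
    have hc2 : c.fst ≫ p2 = c.snd := by
      have := congrArg (fun k => k ≫ prod.snd) c.condition
      simpa using this
    refine hE.lift (c.snd ≫ ξ ≫ prod.fst) c.snd ?_
    apply Limits.prod.hom_ext
    · simp
    · simp only [Category.assoc, prod.lift_snd, diag, Category.comp_id]
      rw [← hc1, Category.assoc, hP.w, ← Category.assoc, hc2, hc1]
  · intro c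
    have hc1 : c.fst ≫ p1 = c.snd := by
      have := congrArg (fun k => k ≫ prod.fst) c.condition
      simpa using this
    have hc2 : c.fst ≫ p2 = c.snd := by
      have := congrArg (fun k => k ≫ prod.snd) c.condition
      simpa using this
    apply hP.hom_ext
    · rw [Category.assoc, hδ1, hE.lift_snd, hc1]
    · rw [Category.assoc, hδ2, hE.lift_snd, hc2]
  · intro c
    exact hE.lift_snd _ _ _
  · intro c m hm1 hm2
    apply hE.hom_ext
    · rw [hE.lift_fst, he1, ← Category.assoc, hm2]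
    · rw [hE.lift_snd, hm2]

end general


/-- a map of algebraic spaces is representable by algebraic spaces (presheaf form) -/
theorem repBySp_of_isAlgSpaceP {F G : PSp S} (a : F ⟶ G) (hF : IsAlgSpaceP F)
    (hG : IsAlgSpaceP G) : RepBySp a := by
  obtain ⟨hFs, hFa⟩ := hF
  obtain ⟨hGs, hGa⟩ := hG
  let φ : (⟨F, hFs⟩ : Sp S) ⟶ ⟨G, hGs⟩ := ObjectProperty.homMk a
  have : RepBySp φ.hom := by
    rw [AlgSp.repBySp_hom_iff]
    intro U ξ F' fst snd sq
    exact Groth.Agent.Helper4.AlgSpPB.isAlgSpace_of_isPullback hGa.diag hFa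
      (AlgSp.IsAlgSpace.yon_obj U) φ ξ fst snd sq
  exact this

theorem isAlgSpaceP_pyon (U : Over S) : IsAlgSpaceP ((pyon S).obj U) :=
  (isAlgSpaceP_obj_iff ((yon S).obj U)).2 (IsAlgSpace.yon_obj U)

theorem isAlgSpaceP_pyon_prod (T U : Over S) :
    IsAlgSpaceP ((pyon S).obj T ⨯ (pyon S).obj U) := by
  haveI : HasBinaryProducts (Over S) := Over.ConstructProducts.over_binaryProduct_of_pullback
  exact (isAlgSpaceP_pyon (T ⨯ U)).of_iso (PreservesLimitPair.iso (pyon S) T U)

set_option backward.defeqAttrib.useBackward true in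
set_option backward.isDefEq.respectTransparency false in
/-- **S10097** -/
theorem repBySp_diag_iff (F : PSp S) :
    RepBySp (Limits.diag F) ↔ ∀ (T : Over S) (ξ : (pyon S).obj T ⟶ F), RepBySp ξ := by
  constructor
  · intro h T ξ U η E e1 e2 hE
    exact isAlgSpaceP_of_isPullback (isPullback_diag_prod_map ξ η e1 e2 hE).flip h
      (isAlgSpaceP_pyon_prod T U)
  · intro h U ξ E e1 e2 hE
    have hP : IsPullback (pullback.fst (ξ ≫ prod.fst) (ξ ≫ prod.snd))
        (pullback.snd (ξ ≫ prod.fst) (ξ ≫ prod.snd)) (ξ ≫ prod.fst) (ξ ≫ prod.snd) :=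
      IsPullback.of_hasPullback _ _
    have hPalg : IsAlgSpaceP (pullback (ξ ≫ prod.fst) (ξ ≫ prod.snd)) :=
      h U (ξ ≫ prod.fst) (ξ ≫ prod.snd) _ _ hP
    have hw : e2 ≫ ξ ≫ prod.fst = e2 ≫ ξ ≫ prod.snd := by
      rw [← Category.assoc, ← hE.w, ← Category.assoc, ← hE.w]
      simp
    have key := isPullback_diag_of_pullback ξ e1 e2 hE _ _ hP (hP.lift e2 e2 hw)
      (hP.lift_fst _ _ _) (hP.lift_snd _ _ _)
    exact isAlgSpaceP_of_isPullback key.flip
      (repBySp_of_isAlgSpaceP _ hPalg (isAlgSpaceP_pyon_prod U U)) (isAlgSpaceP_pyon U)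


end diag

end Groth.Agent.Helper4.RepBySp4
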