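import Mathlib
import Groth.Prelude.Def_CxOX
import Groth.Agent.Helper4.RGammaZTri2
import Groth.Agent.Helper4.RGammaZLib
import Groth.Agent.Helper4.RjSupp
import Groth.Agent.Helper4.RjEquivLib
import Groth.Agent.Helper4.QcohWSerre
import Groth.Agent.Helper4.PlusCmp

/-! `RΓ_Z` preserves `D_QCoh` (given that `Rj_*` does) and its cohomology is supported on `Z`;
also for the bounded below version `RgammaZPlus`. -/

set_option autoImplicit false
universe u

open CategoryTheory CategoryTheory.Limits AlgebraicGeometry Pretriangulated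

namespace Groth.Agent.Helper4.RgammaZQc

attribute [local instance] HasDerivedCategory.standard

variable {X : Scheme.{u}} (W : X.Opens) [CxOX.HasRgammaZ W.ι] [DCoh.HasRpush W.ι]

theorem isQCohD_RgammaZ
    (h : ∀ N : DCoh.D (W : Scheme.{u}), DCoh.IsQCohD N → DCoh.IsQCohD ((DCoh.Rpush W.ι).obj N))
    (G : DCoh.D X) (hG : DCoh.IsQCohD G) : DCoh.IsQCohD ((CxOX.RgammaZ W.ι).obj G) := by
  obtain ⟨N, g, k, hT⟩ := RGammaZTri2.exists_triangle W G
  -- restrict the triangle to `W`
  have hT' := (DCoh.restrictD W.ι).map_distinguished _ hT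
  have hz : IsZero ((DCoh.restrictD W.ι).obj ((CxOX.RgammaZ W.ι).obj G)) :=
    RGammaZLib.isZero_restrictD_RgammaZ W G
  have hiso : IsIso ((DCoh.restrictD W.ι).map g) :=
    (Triangle.isZero₁_iff_isIso₂ _ hT').1 hz
  let e : (DCoh.restrictD W.ι).obj G ≅ N :=
    @asIso _ _ _ _ ((DCoh.restrictD W.ι).map g) hiso ≪≫ (asIso (RjSupp.dAdj W).counit).app N
  have hN : DCoh.IsQCohD N :=
    QcohWSerre.isQCohD_of_iso e (RjEquivLib.isQCohD_restrictD W.ι G hG)
  exact QcohWSerre.isQCohD_obj₁ _ hT hG (h N hN)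

omit [DCoh.HasRpush W.ι] in
theorem support_HD_RgammaZ (G : DCoh.D X) (i : ℤ) :
    CohB1.support (DCoh.HD ((CxOX.RgammaZ W.ι).obj G) i) ⊆ (W : Set X)ᶜ := by
  have hz : IsZero ((DCoh.restrictD W.ι).obj ((CxOX.RgammaZ W.ι).obj G)) :=
    RGammaZLib.isZero_restrictD_RgammaZ W G
  intro x hx hxW
  exact (SuppLib.isZero_restrictD_iff W.ι _).1 hz i ⟨x, hxW⟩ hx

omit [DCoh.HasRpush W.ι] in
/-- comparison of the bounded below and unbounded versions -/
theorem nonempty_plus_iso [EnoughInjectives X.Modules] (E : DerivedCategory.Plus X.Modules) :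
    Nonempty (((DCoh.RgammaZPlus W.ι).obj E).obj ≅ (CxOX.RgammaZ W.ι).obj E.obj) := by
  haveI := SchAdj.isGrothendieckAbelian_modules X
  exact PlusCmp.nonempty_iso (DCoh.gammaZ W.ι) (CxOX.RgammaZ W.ι)
    ((CxOX.gammaZKh W.ι).totalRightDerivedUnit DerivedCategory.Qh
      (HomotopyCategory.quasiIso X.Modules (ComplexShape.up ℤ))) E

end Groth.Agent.Helper4.RgammaZQc
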