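import Mathlib
import Groth.Prelude.Def_CohCx
import Groth.Prelude.Def_DCoh2
import Groth.Agent.Helper4.HDUxi
import Groth.Agent.Helper4.HDUsec
import Groth.Agent.Helper4.HDUshf
import Groth.Agent.Helper4.MilnorSeq
import Groth.Agent.Helper4.MilnorInj
import Groth.Agent.Helper9.LC6
import Groth.Agent.Helper9.LC7
import Groth.Agent.Helper9.LCProd1

/-! `Hᵠ(Rlim Kₙ) ≅ lim Hᵠ(Kₙ)` under acyclicity + Mittag-Leffler type hypotheses on a covering
class. -/

set_option autoImplicit false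
set_option linter.unusedSectionVars false
universe u

open CategoryTheory Limits Opposite

namespace Groth.Agent.Helper4.RlimShf

open Groth.Agent.Helper4.HDUxi Groth.Agent.Helper1.SiteCoh Groth.Agent.Helper9.LC3

/-- transport of `R¹lim = 0` along compatible bijections -/
theorem limOneIsZero_of_bijective {A A' : ℕ → Type u} [∀ n, AddCommGroup (A n)]
    [∀ n, AddCommGroup (A' n)] (t : ∀ n, A (n + 1) →+ A n) (t' : ∀ n, A' (n + 1) →+ A' n)
    (e : ∀ n, A' n →+ A n) (he : ∀ n, Function.Bijective (e n))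
    (hc : ∀ n x, e n (t' n x) = t n (e (n + 1) x))
    (h : CohCx.LimOneIsZero A t) : CohCx.LimOneIsZero A' t' := by
  intro b'
  obtain ⟨a, ha⟩ := h (fun n => e n (b' n))
  choose a' ha' using fun n => (he n).2 (a n)
  refine ⟨a', ?_⟩
  funext n
  apply (he n).1
  have := congrFun ha n
  simp only at this
  rw [map_sub, hc, ha', ha', this]

variable {C : Type u} [SmallCategory C] {J : GrothendieckTopology C}
  [HasDerivedCategory.{u} (Sheaf J AddCommGrpCat.{u})]

/-- the canonical map of presheaves `Hᵠ(-, K) ⟶ Hᵠ(K)` -/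
noncomputable def θ (K : DerivedCategory (Sheaf J AddCommGrpCat.{u})) (q : ℤ) :
    CohCx.HDUPresheaf K q ⟶ (CohCx.HD K q).obj where
  app U := AddCommGrpCat.ofHom ((homAddEquiv U.unop (CohCx.HD K q)).toAddMonoidHom.comp
    (Ξ (CohCx.freeSheaf J U.unop) K q))
  naturality U V g := by
    ext x
    change homEquiv V.unop _ (Ξ _ K q ((DerivedCategory.singleFunctor _ 0).map
      (CohCx.freeSheafMap J g.unop) ≫ x)) =
      (CohCx.HD K q).obj.map g (homEquiv U.unop _ (Ξ _ K q x))
    rw [Ξ_precomp]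
    exact homEquiv_map g.unop _

lemma θ_apply (K : DerivedCategory (Sheaf J AddCommGrpCat.{u})) (q : ℤ) (U : C)
    (x : CohCx.HDU K q U) :
    (θ K q).app (op U) x = homEquiv U _ (Ξ (CohCx.freeSheaf J U) K q x) := rfl

theorem nonempty_iso_HD (K : DerivedCategory (Sheaf J AddCommGrpCat.{u})) (q : ℤ) :
    Nonempty ((presheafToSheaf J AddCommGrpCat.{u}).obj (CohCx.HDUPresheaf K q) ≅
      CohCx.HD K q) := by
  obtain ⟨I, hI, ⟨e⟩⟩ := Groth.Agent.Helper4.HDUrep.exists_kinj_rep K
  obtain ⟨i⟩ := Groth.Agent.Helper4.HDUshf.nonempty_iso_homology I q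
  let e1 : CohCx.HDUPresheaf K q ≅ CohCx.HDUPresheaf (DerivedCategory.Q.obj I) q :=
    Functor.isoWhiskerLeft _ (preadditiveYoneda.mapIso ((shiftFunctor _ q).mapIso e))
  exact ⟨(presheafToSheaf J AddCommGrpCat.{u}).mapIso e1 ≪≫ i ≪≫
    ((DerivedCategory.homologyFunctorFactors _ q).app I).symm ≪≫
    (DerivedCategory.homologyFunctor _ q).mapIso e.symm⟩

theorem main (K : ℕ → DerivedCategory (Sheaf J AddCommGrpCat.{u})) (t : ∀ n, K (n + 1) ⟶ K n)
    [HasProduct K] (L : DerivedCategory (Sheaf J AddCommGrpCat.{u})) (hL : DCoh.IsRlim K t L)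
    (B : Set C)
    (hB : ∀ U : C, ∃ (ι : Type u) (Y : ι → C) (f : ∀ i, Y i ⟶ U),
      Sieve.ofArrows Y f ∈ J U ∧ ∀ i, Y i ∈ B)
    (h1 : ∀ U ∈ B, ∀ (p : ℕ) (q : ℤ) (n : ℕ),
      Subsingleton (CohSite.HU (CohCx.HD (K n) q) (p + 1) U))
    (h2 : ∀ U ∈ B, ∀ (q : ℤ), CohCx.LimOneIsZero (fun n => (CohCx.HD (K n) q).obj.obj (op U))
      (fun n => (((DerivedCategory.homologyFunctor _ q).map (t n)).hom.app (op U)).hom))
    (q : ℤ) :
    Nonempty (CohCx.HD L q ≅ limit (CohCx.opSequence (fun n => CohCx.HD (K n) q)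
      (fun n => (DerivedCategory.homologyFunctor _ q).map (t n)))) := by
  obtain ⟨a, c, hT⟩ := hL
  let an : ∀ n, L ⟶ K n := fun n => a ≫ Pi.π K n
  have hL' : CohCx.IsRlimVia K t L an := by
    refine ⟨c, ?_⟩
    have : Pi.lift an = a := by
      apply Pi.hom_ext
      intro n
      simp [an]
    rw [this]
    exact hT
  have hsucc : ∀ n, an (n + 1) ≫ t n = an n := Groth.Agent.Helper4.MilnorInj.a_succ_comp hL'
  let H := DerivedCategory.homologyFunctor (Sheaf J AddCommGrpCat.{u}) q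
  let D := CohCx.opSequence (fun n => CohCx.HD (K n) q) (fun n => H.map (t n))
  have hDsucc : ∀ n, D.map (homOfLE (n.le_add_right 1)).op = H.map (t n) := fun n =>
    Functor.ofOpSequence_map_homOfLE_succ _ n
  let cone : Cone D := ⟨H.obj L, NatTrans.ofOpSequence (fun n => H.map (an n)) (by
    intro n
    rw [hDsucc]
    change 𝟙 _ ≫ H.map (an n) = H.map (an (n + 1)) ≫ H.map (t n)
    rw [Category.id_comp, ← H.map_comp, hsucc])⟩
  let ψ : H.obj L ⟶ limit D := limit.lift D cone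
  have hψ : ∀ n, ψ ≫ limit.π D (op n) = H.map (an n) := fun n => limit.lift_π cone (op n)
  let Φ : CohCx.HDUPresheaf L q ⟶ (limit D).obj := θ L q ≫ (sheafToPresheaf J _).map ψ
  have hΦ : ∀ (U : C) (x : CohCx.HDU L q U),
      Φ.app (op U) x = homEquiv U _ (Ξ (CohCx.freeSheaf J U) L q x ≫ ψ) := by
    intro U x
    rw [homEquiv_comp]
    rfl
  have hΞ : ∀ U ∈ B, ∀ (n : ℕ) (p : ℤ),
      Function.Bijective (Ξ (CohCx.freeSheaf J U) (K n) p) := by
    intro U hU n p
    haveI := Groth.Agent.Helper9.LCProd1.hasProduct_nat (Groth.Agent.Helper9.LC6.En (K n))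
    have hac : ∀ G, Groth.Agent.Helper4.HDUsec.𝒢 (J := J) B G → ∀ p',
        Groth.Agent.Helper9.LC2.Acyc G ((DerivedCategory.homologyFunctor _ p').obj (K n)) := by
      rintro G ⟨W, hW, rfl⟩ p'
      apply Groth.Agent.Helper9.LC6.acyc_of_subsingleton_ext.{u}
      intro m
      exact h1 W hW m p' n
    exact Ξ_bijective _ _ _ (Groth.Agent.Helper9.LC7.bijective_homologyMap
      (Groth.Agent.Helper4.HDUsec.𝒢 (J := J) B)
      (Groth.Agent.Helper4.HDUsec.isSeparating_𝒢 B hB) (K n) hac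
      (CohCx.freeSheaf J U) ⟨U, hU, rfl⟩ p)
  have key1 : ∀ (U : C) (x : CohCx.HDU L q U) (n : ℕ),
      (Ξ (CohCx.freeSheaf J U) L q x ≫ ψ) ≫ limit.π D (op n) =
        Ξ (CohCx.freeSheaf J U) (K n) q (x ≫ (an n)⟦q⟧') := by
    intro U x n
    rw [Category.assoc, hψ]
    exact (Ξ_comp _ _ _ _).symm
  have hbij : ∀ U ∈ B, Function.Bijective (Φ.app (op U)) := by
    intro U hU
    constructor
    · rw [injective_iff_map_eq_zero]
      intro x hx
      rw [hΦ] at hx
      have hx' : Ξ (CohCx.freeSheaf J U) L q x ≫ ψ = 0 := by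
        apply (homEquiv U _).injective
        exact hx.trans (homAddEquiv U _).map_zero.symm
      have hxn : ∀ n, x ≫ (an n)⟦q⟧' = 0 := by
        intro n
        apply (hΞ U hU n q).1
        rw [← key1, hx', zero_comp, map_zero]
        rfl
      refine Groth.Agent.Helper4.MilnorSeq.eq_zero hL' _ q ?_ x hxn
      refine limOneIsZero_of_bijective _ _
        (fun n => (homAddEquiv U (CohCx.HD (K n) (q - 1))).toAddMonoidHom.comp
          (Ξ (CohCx.freeSheaf J U) (K n) (q - 1))) ?_ ?_ (h2 U hU (q - 1))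
      · intro n
        exact (homAddEquiv U _).bijective.comp (hΞ U hU n (q - 1))
      · intro n x
        change homEquiv U _ (Ξ _ (K n) (q - 1) (x ≫ (t n)⟦q - 1⟧')) =
          ((DerivedCategory.homologyFunctor _ (q - 1)).map (t n)).hom.app (op U)
            (homEquiv U _ (Ξ _ (K (n + 1)) (q - 1) x))
        rw [Ξ_comp, homEquiv_comp]
    · intro s
      let σ : CohCx.freeSheaf J U ⟶ limit D := (homEquiv U _).symm s
      choose xn hxn using fun n => (hΞ U hU n q).2 (σ ≫ limit.π D (op n))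
      have hcompat : ∀ n, xn (n + 1) ≫ (t n)⟦q⟧' = xn n := by
        intro n
        apply (hΞ U hU n q).1
        rw [Ξ_comp, hxn, hxn, Category.assoc]
        have hw := limit.w D (homOfLE (n.le_add_right 1)).op
        rw [hDsucc] at hw
        exact congrArg (fun φ => σ ≫ φ) hw
      obtain ⟨x, hx⟩ := Groth.Agent.Helper4.MilnorSeq.exists_lift hL' _ q xn hcompat
      refine ⟨x, ?_⟩
      rw [hΦ]
      have : Ξ (CohCx.freeSheaf J U) L q x ≫ ψ = σ := by
        apply limit.hom_ext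
        intro j
        obtain ⟨n⟩ := j
        rw [key1, hx, hxn]
        rfl
      rw [this]
      exact Equiv.apply_symm_apply _ _
  haveI : Presheaf.IsLocallyInjective J Φ := ⟨by
    intro X x y hxy
    obtain ⟨ι, Yf, f, hcov, hYB⟩ := hB X.unop
    refine J.superset_covering ?_ hcov
    rintro Z g ⟨W, k, _, ⟨i⟩, rfl⟩
    have h1 : (CohCx.HDUPresheaf L q).map (f i).op x = (CohCx.HDUPresheaf L q).map (f i).op y := by
      apply (hbij (Yf i) (hYB i)).1
      have e1 := NatTrans.naturality_apply Φ (f i).op x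
      have e2 := NatTrans.naturality_apply Φ (f i).op y
      exact e1.trans ((congrArg _ hxy).trans e2.symm)
    change (CohCx.HDUPresheaf L q).map (k ≫ f i).op x = (CohCx.HDUPresheaf L q).map (k ≫ f i).op y
    rw [op_comp, Functor.map_comp]
    exact congrArg ((CohCx.HDUPresheaf L q).map k.op) h1⟩
  haveI : Presheaf.IsLocallySurjective J Φ := ⟨by
    intro U s
    obtain ⟨ι, Yf, f, hcov, hYB⟩ := hB U
    refine J.superset_covering ?_ hcov
    rintro Z g ⟨W, k, _, ⟨i⟩, rfl⟩
    obtain ⟨x, hx⟩ := (hbij (Yf i) (hYB i)).2 ((limit D).obj.map (f i).op s)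
    refine ⟨(CohCx.HDUPresheaf L q).map k.op x, ?_⟩
    have e1 := NatTrans.naturality_apply Φ k.op x
    refine e1.trans ?_
    rw [hx, op_comp, Functor.map_comp]
    rfl⟩
  have hW : J.W Φ := J.W_of_isLocallyBijective Φ
  haveI : IsIso ((presheafToSheaf J AddCommGrpCat.{u}).map Φ) := (J.W_iff Φ).1 hW
  obtain ⟨e0⟩ := nonempty_iso_HD L q
  exact ⟨e0.symm ≪≫ asIso ((presheafToSheaf J AddCommGrpCat.{u}).map Φ) ≪≫
    (asIso (sheafificationAdjunction J AddCommGrpCat.{u}).counit).app (limit D)⟩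

end Groth.Agent.Helper4.RlimShf
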