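import Mathlib
import Groth.Agent.Helper4.RlimShf
import Groth.Agent.Helper4.DimBound
import Groth.Agent.Helper1.DerSplit

/-! `lim Fₙ = Rlim Fₙ` for an inverse system of abelian sheaves acyclic on a covering class with
vanishing `R¹lim` of sections. -/

set_option autoImplicit false
set_option linter.unusedSectionVars false
set_option linter.unusedVariables false
universe v' u' u

open CategoryTheory Limits Opposite

namespace Groth.Agent.Helper4.RlimShf2

open Groth.Agent.Helper4.HDUxi Groth.Agent.Helper1.SiteCoh Groth.Agent.Helper9.LC3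
open Groth.Agent.Helper4.RlimShf

section general

variable {T : Type u'} [Category.{v'} T] [Preadditive T] [HasZeroObject T] [HasShift T ℤ]
  [∀ n : ℤ, (shiftFunctor T n).Additive] [Pretriangulated T]

lemma isRlim_of_iso (K : ℕ → T) (t : ∀ n, K (n + 1) ⟶ K n) [HasProduct K] {L L' : T}
    (e : L ≅ L') (h : DCoh.IsRlim K t L) : DCoh.IsRlim K t L' := by
  obtain ⟨a, c, hT⟩ := h
  refine ⟨e.inv ≫ a, c ≫ e.hom⟦(1 : ℤ)⟧', ?_⟩
  refine Pretriangulated.isomorphic_distinguished _ hT _ ?_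
  refine Pretriangulated.Triangle.isoMk _ _ e.symm (Iso.refl _) (Iso.refl _) ?_ ?_ ?_
  · change (e.inv ≫ a) ≫ 𝟙 _ = e.inv ≫ a
    rw [Category.comp_id]
  · change _ ≫ 𝟙 _ = 𝟙 _ ≫ _
    rw [Category.comp_id, Category.id_comp]
    rfl
  · change (c ≫ e.hom⟦(1 : ℤ)⟧') ≫ e.inv⟦(1 : ℤ)⟧' = 𝟙 _ ≫ c
    rw [Category.assoc, ← Functor.map_comp, Iso.hom_inv_id, CategoryTheory.Functor.map_id,
      Category.comp_id, Category.id_comp]

lemma exists_isRlim (K : ℕ → T) (t : ∀ n, K (n + 1) ⟶ K n) [HasProduct K] :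
    ∃ L : T, DCoh.IsRlim K t L := by
  obtain ⟨L, a, c, hT⟩ := Pretriangulated.distinguished_cocone_triangle₁
    (Pi.lift fun n => Pi.π K n - Pi.π K (n + 1) ≫ t n)
  exact ⟨L, a, c, hT⟩

end general

section lim

variable {𝒜 : Type u'} [Category.{v'} 𝒜] [HasZeroMorphisms 𝒜]

lemma isZero_limit (D : ℕᵒᵖ ⥤ 𝒜) [HasLimit D] (h : ∀ j, IsZero (D.obj j)) : IsZero (limit D) := by
  rw [IsZero.iff_id_eq_zero]
  apply limit.hom_ext
  intro j
  exact (h j).eq_of_tgt _ _

/-- a functor isomorphic to the identity does not change the limit of an inverse system -/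
lemma nonempty_limit_iso (Φ : 𝒜 ⥤ 𝒜) (ν : Φ ≅ 𝟭 𝒜) (F : ℕ → 𝒜) (t : ∀ n, F (n + 1) ⟶ F n)
    [HasLimit (CohCx.opSequence F t)]
    [HasLimit (CohCx.opSequence (fun n => Φ.obj (F n)) (fun n => Φ.map (t n)))] :
    Nonempty (limit (CohCx.opSequence (fun n => Φ.obj (F n)) (fun n => Φ.map (t n))) ≅
      limit (CohCx.opSequence F t)) := by
  let α : CohCx.opSequence (fun n => Φ.obj (F n)) (fun n => Φ.map (t n)) ⟶
      CohCx.opSequence F t := NatTrans.ofOpSequence (fun n => ν.hom.app (F n)) (by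
    intro n
    rw [Functor.ofOpSequence_map_homOfLE_succ, Functor.ofOpSequence_map_homOfLE_succ]
    exact ν.hom.naturality (t n))
  haveI : ∀ j, IsIso (α.app j) := by
    rintro ⟨n⟩
    exact inferInstanceAs (IsIso (ν.hom.app (F n)))
  haveI : IsIso α := NatIso.isIso_of_isIso_app α
  exact ⟨HasLimit.isoOfNatIso (asIso α)⟩

end lim

variable {C : Type u} [SmallCategory C] {J : GrothendieckTopology C}
  [HasDerivedCategory.{u} (Sheaf J AddCommGrpCat.{u})]

theorem main (F : ℕ → Sheaf J AddCommGrpCat.{u}) (t : ∀ n, F (n + 1) ⟶ F n)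
    [HasProduct fun n => (DerivedCategory.singleFunctor (Sheaf J AddCommGrpCat.{u}) 0).obj (F n)]
    (B : Set C)
    (hB : ∀ U : C, ∃ (ι : Type u) (Y : ι → C) (f : ∀ i, Y i ⟶ U),
      Sieve.ofArrows Y f ∈ J U ∧ ∀ i, Y i ∈ B)
    (h1 : ∀ U ∈ B, ∀ (p n : ℕ), Subsingleton (CohSite.HU (F n) (p + 1) U))
    (h2 : ∀ U ∈ B, CohCx.LimOneIsZero (fun n => (F n).obj.obj (op U))
      (fun n => ((t n).hom.app (op U)).hom)) :
    DCoh.IsRlim (fun n => (DerivedCategory.singleFunctor _ 0).obj (F n))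
      (fun n => (DerivedCategory.singleFunctor _ 0).map (t n))
      ((DerivedCategory.singleFunctor _ 0).obj (limit (CohCx.opSequence F t))) ∧
    ∀ U ∈ B, ∀ p : ℕ, Subsingleton (CohSite.HU (limit (CohCx.opSequence F t)) (p + 1) U) := by
  let 𝒮 := Sheaf J AddCommGrpCat.{u}
  let S0 := DerivedCategory.singleFunctor 𝒮 0
  let K : ℕ → DerivedCategory 𝒮 := fun n => S0.obj (F n)
  let tK : ∀ n, K (n + 1) ⟶ K n := fun n => S0.map (t n)
  let ν : S0 ⋙ DerivedCategory.homologyFunctor 𝒮 0 ≅ 𝟭 𝒮 :=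
    DerivedCategory.singleFunctorCompHomologyFunctorIso 𝒮 0
  have hzero : ∀ (n : ℕ) (q : ℤ), q ≠ 0 → IsZero (CohCx.HD (K n) q) := fun n q hq =>
    Groth.Agent.Helper1.DerInd.isZero_homology_single (F n) 0 q (Ne.symm hq)
  -- hypotheses of `RlimShf.main`
  have h1' : ∀ U ∈ B, ∀ (p : ℕ) (q : ℤ) (n : ℕ),
      Subsingleton (CohSite.HU (CohCx.HD (K n) q) (p + 1) U) := by
    intro U hU p q n
    by_cases hq : q = 0
    · subst hq
      exact Groth.Agent.Helper4.DimBound.subsingleton_ext_of_iso_right _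
        (ν.app (F n)).symm (p + 1) (h1 U hU p n)
    · exact Groth.Agent.Helper4.DimBound.subsingleton_ext_of_isZero _ (hzero n q hq) (p + 1)
  have h2' : ∀ U ∈ B, ∀ (q : ℤ), CohCx.LimOneIsZero (fun n => (CohCx.HD (K n) q).obj.obj (op U))
      (fun n => (((DerivedCategory.homologyFunctor _ q).map (tK n)).hom.app (op U)).hom) := by
    intro U hU q
    by_cases hq : q = 0
    · subst hq
      refine limOneIsZero_of_bijective _ _
        (fun n => ((ν.hom.app (F n)).hom.app (op U)).hom) ?_ ?_ (h2 U hU)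
      · intro n
        have : IsIso ((ν.hom.app (F n)).hom.app (op U)) :=
          inferInstanceAs (IsIso (((sheafSections J AddCommGrpCat.{u}).obj (op U)).map
            (ν.hom.app (F n))))
        exact (ConcreteCategory.isIso_iff_bijective _).1 this
      · intro n x
        have hn := ν.hom.naturality (t n)
        have h3 := congrArg (fun φ => (φ.hom.app (op U)).hom x) hn
        exact h3
    · intro b
      refine ⟨fun _ => 0, ?_⟩
      funext n
      have hz : ∀ s : (CohCx.HD (K n) q).obj.obj (op U), s = 0 := by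
        intro s
        have h0 : 𝟙 (CohCx.HD (K n) q) = 0 := (hzero n q hq).eq_of_src _ _
        have h3 := congrArg (fun φ => (φ.hom.app (op U)).hom s) h0
        exact h3
      rw [hz (b n)]
      exact hz _
  -- an abstract derived limit
  obtain ⟨L, hL⟩ := exists_isRlim K tK
  have hiso : ∀ q : ℤ, Nonempty (CohCx.HD L q ≅ limit (CohCx.opSequence (fun n => CohCx.HD (K n) q)
      (fun n => (DerivedCategory.homologyFunctor _ q).map (tK n)))) :=
    fun q => Groth.Agent.Helper4.RlimShf.main K tK L hL B hB h1' h2' q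
  have hLzero : ∀ q : ℤ, q ≠ 0 → IsZero (CohCx.HD L q) := by
    intro q hq
    obtain ⟨e⟩ := hiso q
    refine IsZero.of_iso (isZero_limit _ ?_) e
    rintro ⟨n⟩
    exact hzero n q hq
  haveI : L.IsGE 0 := by
    rw [DerivedCategory.isGE_iff]
    intro i hi
    exact hLzero i (by omega)
  haveI : L.IsLE 0 := by
    rw [DerivedCategory.isLE_iff]
    intro i hi
    exact hLzero i (by omega)
  obtain ⟨M, ⟨eL⟩, ⟨eM⟩⟩ := Groth.Agent.Helper9.LC2.exists_iso_single L 0
  obtain ⟨e0⟩ := hiso 0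
  obtain ⟨e1⟩ := nonempty_limit_iso (S0 ⋙ DerivedCategory.homologyFunctor 𝒮 0) ν F t
  have hL' : DCoh.IsRlim K tK (S0.obj (limit (CohCx.opSequence F t))) :=
    isRlim_of_iso K tK (eL ≪≫ S0.mapIso (eM ≪≫ e0 ≪≫ e1)) hL
  refine ⟨hL', ?_⟩
  -- vanishing of higher cohomology of the limit
  intro U hU p
  obtain ⟨a, c, hT⟩ := hL'
  let an : ∀ n, S0.obj (limit (CohCx.opSequence F t)) ⟶ K n := fun n => a ≫ Pi.π K n
  have hL'' : CohCx.IsRlimVia K tK (S0.obj (limit (CohCx.opSequence F t))) an := by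
    refine ⟨c, ?_⟩
    have : Pi.lift an = a := by
      apply Pi.hom_ext
      intro n
      simp [an]
    rw [this]
    exact hT
  have hΞ : ∀ (n : ℕ) (p : ℤ), Function.Bijective (Ξ (CohCx.freeSheaf J U) (K n) p) := by
    intro n p
    haveI := Groth.Agent.Helper9.LCProd1.hasProduct_nat (Groth.Agent.Helper9.LC6.En (K n))
    have hac : ∀ G, Groth.Agent.Helper4.HDUsec.𝒢 (J := J) B G → ∀ p',
        Groth.Agent.Helper9.LC2.Acyc G ((DerivedCategory.homologyFunctor _ p').obj (K n)) := by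
      rintro G ⟨W, hW, rfl⟩ p'
      apply Groth.Agent.Helper9.LC6.acyc_of_subsingleton_ext.{u}
      intro m
      exact h1' W hW m p' n
    exact Ξ_bijective _ _ _ (Groth.Agent.Helper9.LC7.bijective_homologyMap
      (Groth.Agent.Helper4.HDUsec.𝒢 (J := J) B)
      (Groth.Agent.Helper4.HDUsec.isSeparating_𝒢 B hB) (K n) hac
      (CohCx.freeSheaf J U) ⟨U, hU, rfl⟩ p)
  have hsub : ∀ n : ℕ, Subsingleton (W (CohCx.freeSheaf J U) 0 ⟶ (K n)⟦((p + 1 : ℕ) : ℤ)⟧) := by
    intro n
    haveI hs : Subsingleton (Abelian.Ext (CohCx.freeSheaf J U) (F n) (p + 1)) := h1 U hU p n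
    exact (Abelian.Ext.homEquiv (X := CohCx.freeSheaf J U) (Y := F n)
      (n := p + 1)).symm.subsingleton
  haveI : Subsingleton (W (CohCx.freeSheaf J U) 0 ⟶
      (S0.obj (limit (CohCx.opSequence F t)))⟦((p + 1 : ℕ) : ℤ)⟧) := by
    refine ⟨fun y y' => ?_⟩
    have key : ∀ z : W (CohCx.freeSheaf J U) 0 ⟶
        (S0.obj (limit (CohCx.opSequence F t)))⟦((p + 1 : ℕ) : ℤ)⟧, z = 0 := by
      intro z
      refine Groth.Agent.Helper4.MilnorSeq.eq_zero hL'' _ _ ?_ z (fun n => by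
        haveI := hsub n
        exact Subsingleton.elim _ _)
      refine limOneIsZero_of_bijective _ _
        (fun n => (homAddEquiv U (CohCx.HD (K n) (((p + 1 : ℕ) : ℤ) - 1))).toAddMonoidHom.comp
          (Ξ (CohCx.freeSheaf J U) (K n) (((p + 1 : ℕ) : ℤ) - 1))) ?_ ?_
            (h2' U hU (((p + 1 : ℕ) : ℤ) - 1))
      · intro n
        exact (homAddEquiv U _).bijective.comp (hΞ n _)
      · intro n x
        change homEquiv U _ (Ξ _ (K n) _ (x ≫ (tK n)⟦((p + 1 : ℕ) : ℤ) - 1⟧')) =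
          ((DerivedCategory.homologyFunctor _ _).map (tK n)).hom.app (op U)
            (homEquiv U _ (Ξ _ (K (n + 1)) _ x))
        rw [Ξ_comp, homEquiv_comp]
    rw [key y, key y']
  exact (Abelian.Ext.homEquiv (X := CohCx.freeSheaf J U) (Y := limit (CohCx.opSequence F t))
    (n := p + 1)).subsingleton

end Groth.Agent.Helper4.RlimShf2
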