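import Mathlib
set_option autoImplicit false
universe u
open Matrix

namespace Groth.Agent.Helper4.SLCommA

section Basic
variable {n : Type*} [DecidableEq n] [Fintype n] {R : Type*} [CommRing R]

/-- The submonoid of square matrices generated by the transvections. -/
def T (n : Type*) [DecidableEq n] [Fintype n] (R : Type*) [CommRing R] :
    Submonoid (Matrix n n R) :=
  Submonoid.closure (Set.range (TransvectionStruct.toMatrix : TransvectionStruct n R → _))

lemma transvection_mem (i j : n) (h : i ≠ j) (c : R) : transvection i j c ∈ T n R :=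
  Submonoid.subset_closure ⟨⟨i, j, h, c⟩, rfl⟩

lemma map_transvection {S : Type*} [CommRing S] (φ : R →+* S) (i j : n) (c : R) :
    φ.mapMatrix (transvection i j c) = transvection i j (φ c) := by
  ext a b
  simp only [RingHom.mapMatrix_apply, map_apply, transvection, Matrix.add_apply, Matrix.one_apply,
    Matrix.single_apply, map_add]
  split_ifs <;> simp

lemma map_mem {S : Type*} [CommRing S] (φ : R →+* S) {M : Matrix n n R} (hM : M ∈ T n R) :
    φ.mapMatrix M ∈ T n S := by
  induction hM using Submonoid.closure_induction with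
  | mem x hx =>
    obtain ⟨⟨i, j, h, c⟩, rfl⟩ := hx
    rw [TransvectionStruct.toMatrix_mk, map_transvection]
    exact transvection_mem i j h _
  | one => rw [map_one]; exact one_mem _
  | mul x y _ _ hx hy => rw [map_mul]; exact mul_mem hx hy

lemma sumInl_mem {M : Matrix n n R} (hM : M ∈ T n R) :
    fromBlocks M 0 0 (1 : Matrix Unit Unit R) ∈ T (n ⊕ Unit) R := by
  induction hM using Submonoid.closure_induction with
  | mem x hx =>
    obtain ⟨t, rfl⟩ := hx
    rw [← TransvectionStruct.toMatrix_sumInl]
    exact Submonoid.subset_closure ⟨_, rfl⟩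
  | one => rw [fromBlocks_one]; exact one_mem _
  | mul x y _ _ hx hy =>
    have : fromBlocks (x * y) 0 0 (1 : Matrix Unit Unit R) =
        fromBlocks x 0 0 1 * fromBlocks y 0 0 1 := by
      rw [fromBlocks_multiply]; simp
    rw [this]; exact mul_mem hx hy

lemma reindex_mem {p : Type*} [DecidableEq p] [Fintype p] (e : n ≃ p) {M : Matrix n n R}
    (hM : M ∈ T n R) : reindexAlgEquiv R R e M ∈ T p R := by
  induction hM using Submonoid.closure_induction with
  | mem x hx =>
    obtain ⟨t, rfl⟩ := hx
    rw [← TransvectionStruct.toMatrix_reindexEquiv]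
    exact Submonoid.subset_closure ⟨_, rfl⟩
  | one => rw [map_one]; exact one_mem _
  | mul x y _ _ hx hy => rw [map_mul]; exact mul_mem hx hy

end Basic

section Blocks
variable {m p : Type*} [DecidableEq m] [Fintype m] [DecidableEq p] [Fintype p]
  {R : Type*} [CommRing R]

lemma fromBlocks_single₁₂ (i : m) (j : p) (c : R) :
    fromBlocks (1 : Matrix m m R) (single i j c) 0 (1 : Matrix p p R) =
      transvection (Sum.inl i) (Sum.inr j) c := by
  ext (a | a) (b | b) <;>
    simp [transvection, single_apply, one_apply]

lemma fromBlocks_single₂₁ (i : p) (j : m) (c : R) :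
    fromBlocks (1 : Matrix m m R) 0 (single i j c) (1 : Matrix p p R) =
      transvection (Sum.inr i) (Sum.inl j) c := by
  ext (a | a) (b | b) <;>
    simp [transvection, single_apply, one_apply]

lemma upper_mem (b : Matrix m p R) :
    fromBlocks (1 : Matrix m m R) b 0 (1 : Matrix p p R) ∈ T (m ⊕ p) R := by
  rw [matrix_eq_sum_single b]
  refine Finset.sum_induction _
    (fun b => fromBlocks (1 : Matrix m m R) b 0 (1 : Matrix p p R) ∈ T (m ⊕ p) R) ?_ ?_ ?_
  · intro a b ha hb
    have : fromBlocks (1 : Matrix m m R) (a + b) 0 (1 : Matrix p p R) =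
        fromBlocks 1 a 0 1 * fromBlocks 1 b 0 1 := by
      rw [fromBlocks_multiply]; simp [add_comm]
    rw [this]; exact mul_mem ha hb
  · rw [fromBlocks_one]; exact one_mem _
  · intro i _
    refine Finset.sum_induction _
      (fun b => fromBlocks (1 : Matrix m m R) b 0 (1 : Matrix p p R) ∈ T (m ⊕ p) R) ?_ ?_ ?_
    · intro a b ha hb
      have : fromBlocks (1 : Matrix m m R) (a + b) 0 (1 : Matrix p p R) =
          fromBlocks 1 a 0 1 * fromBlocks 1 b 0 1 := by
        rw [fromBlocks_multiply]; simp [add_comm]
      rw [this]; exact mul_mem ha hb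
    · rw [fromBlocks_one]; exact one_mem _
    · intro j _
      rw [fromBlocks_single₁₂]
      exact transvection_mem _ _ (by simp) _

lemma lower_mem (c : Matrix p m R) :
    fromBlocks (1 : Matrix m m R) 0 c (1 : Matrix p p R) ∈ T (m ⊕ p) R := by
  rw [matrix_eq_sum_single c]
  refine Finset.sum_induction _
    (fun c => fromBlocks (1 : Matrix m m R) 0 c (1 : Matrix p p R) ∈ T (m ⊕ p) R) ?_ ?_ ?_
  · intro a b ha hb
    have : fromBlocks (1 : Matrix m m R) 0 (a + b) (1 : Matrix p p R) =
        fromBlocks 1 0 a 1 * fromBlocks 1 0 b 1 := by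
      rw [fromBlocks_multiply]; simp
    rw [this]; exact mul_mem ha hb
  · rw [fromBlocks_one]; exact one_mem _
  · intro i _
    refine Finset.sum_induction _
      (fun c => fromBlocks (1 : Matrix m m R) 0 c (1 : Matrix p p R) ∈ T (m ⊕ p) R) ?_ ?_ ?_
    · intro a b ha hb
      have : fromBlocks (1 : Matrix m m R) 0 (a + b) (1 : Matrix p p R) =
          fromBlocks 1 0 a 1 * fromBlocks 1 0 b 1 := by
        rw [fromBlocks_multiply]; simp
      rw [this]; exact mul_mem ha hb
    · rw [fromBlocks_one]; exact one_mem _
    · intro j _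
      rw [fromBlocks_single₂₁]
      exact transvection_mem _ _ (by simp) _

/-- block decomposition when the corner is `1`. -/
lemma block_decomp (A : Matrix m m R) (b : Matrix m p R) (c : Matrix p m R) :
    fromBlocks A b c (1 : Matrix p p R) =
      fromBlocks 1 b 0 1 * fromBlocks (A - b * c) 0 0 1 * fromBlocks 1 0 c 1 := by
  rw [fromBlocks_multiply, fromBlocks_multiply]
  simp

end Blocks

end Groth.Agent.Helper4.SLCommA
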