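import Mathlib
import Groth.Agent.Helper4.SLCommA
set_option autoImplicit false
universe u
open Matrix

namespace Groth.Agent.Helper4.SLCommB
open Groth.Agent.Helper4.SLCommA

/-- `M` becomes a product of transvections over every ring in which some `f ∉ q` is inverted. -/
def Q {n : Type} [DecidableEq n] [Fintype n] {B : Type u} [CommRing B] (q : Ideal B)
    (M : Matrix n n B) : Prop :=
  ∃ f : B, f ∉ q ∧ ∀ (C : Type u) [CommRing C] (φ : B →+* C), IsUnit (φ f) →
    φ.mapMatrix M ∈ T n C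

section
variable {n : Type} [DecidableEq n] [Fintype n] {B : Type u} [CommRing B]

/-- if a column lies in an ideal, so does the determinant. -/
lemma det_mem_of_col (q : Ideal B) (M : Matrix n n B) (j : n) (h : ∀ i, M i j ∈ q) :
    M.det ∈ q := by
  rw [det_apply]
  refine Ideal.sum_mem _ fun σ _ => ?_
  have : ∏ i, M (σ i) i ∈ q :=
    Ideal.mem_of_dvd q (Finset.dvd_prod_of_mem (fun i => M (σ i) i) (Finset.mem_univ j)) (h _)
  rcases Int.units_eq_one_or (Equiv.Perm.sign σ) with h1 | h1 <;> rw [h1]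
  · simpa using this
  · simpa using this

lemma Q_of_transvection_mul (q : Ideal B) (M : Matrix n n B) (i j : n) (hij : i ≠ j) (c : B)
    (h : Q q (transvection i j c * M)) : Q q M := by
  obtain ⟨f, hf, H⟩ := h
  refine ⟨f, hf, fun C _ φ hφ => ?_⟩
  have h1 := H C φ hφ
  have h2 : M = transvection i j (-c) * (transvection i j c * M) := by
    rw [← Matrix.mul_assoc, transvection_mul_transvection_same _ _ hij, neg_add_cancel,
      transvection_zero, Matrix.one_mul]
  rw [h2, map_mul]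
  exact mul_mem (map_mem φ (transvection_mem i j hij _)) h1

end

/-- The inductive step, given a non-`q` entry in the last column above the corner. -/
lemma step_of_entry (r : ℕ)
    (IH : ∀ (B : Type u) [CommRing B] (q : Ideal B) [q.IsPrime] (M : Matrix (Fin r) (Fin r) B),
      M.det = 1 → Q q M)
    (B : Type u) [CommRing B] (q : Ideal B) [hq : q.IsPrime]
    (M : Matrix (Fin r ⊕ Unit) (Fin r ⊕ Unit) B) (hM : M.det = 1) (i : Fin r)
    (hw : M (Sum.inl i) (Sum.inr ()) ∉ q) : Q q M := by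
  set w := M (Sum.inl i) (Sum.inr ()) with hwdef
  let B₁ := Localization.Away w
  let ι : B →+* B₁ := algebraMap B B₁
  set M₁ : Matrix (Fin r ⊕ Unit) (Fin r ⊕ Unit) B₁ := ι.mapMatrix M with hM₁
  let ω' : B₁ := IsLocalization.Away.invSelf w
  have hω : ι w * ω' = 1 := IsLocalization.Away.mul_invSelf w
  set c₀ : B₁ := (1 - M₁ (Sum.inr ()) (Sum.inr ())) * ω' with hc₀
  set M₂ := transvection (Sum.inr ()) (Sum.inl i) c₀ * M₁ with hM₂
  have hne : (Sum.inr () : Fin r ⊕ Unit) ≠ Sum.inl i := by simp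
  have hcorner : M₂ (Sum.inr ()) (Sum.inr ()) = 1 := by
    rw [hM₂, transvection_mul_apply_same]
    have : M₁ (Sum.inl i) (Sum.inr ()) = ι w := rfl
    rw [this, hc₀, mul_assoc, mul_comm ω', hω]
    ring
  have hdet₁ : M₁.det = 1 := by
    rw [hM₁, ← RingHom.map_det, hM, map_one]
  have hdet₂ : M₂.det = 1 := by
    rw [hM₂, det_mul, det_transvection_of_ne _ _ hne, hdet₁, one_mul]
  -- blocks
  set A := M₂.toBlocks₁₁ with hA
  set b := M₂.toBlocks₁₂ with hb
  set c := M₂.toBlocks₂₁ with hc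
  have hd : M₂.toBlocks₂₂ = 1 := by
    ext ⟨⟩ ⟨⟩
    simpa [toBlocks₂₂] using hcorner
  have hblocks : M₂ = fromBlocks A b c 1 := by
    rw [← hd]; exact (fromBlocks_toBlocks M₂).symm
  set A' := A - b * c with hA'
  have hdecomp : M₂ = fromBlocks 1 b 0 1 * fromBlocks A' 0 0 1 * fromBlocks 1 0 c 1 := by
    rw [hblocks]; exact block_decomp A b c
  have hdetA' : A'.det = 1 := by
    have := hdet₂
    rw [hdecomp, det_mul, det_mul, det_fromBlocks_zero₂₁, det_fromBlocks_zero₂₁,
      det_fromBlocks_zero₁₂] at this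
    simpa using this
  -- the prime of the localization
  have hdisj : Disjoint (Submonoid.powers w : Set B) (q : Set B) := by
    rw [Set.disjoint_left]
    rintro x ⟨k, rfl⟩ hx
    exact hw (hq.mem_of_pow_mem k hx)
  let q₁ : Ideal B₁ := q.map ι
  haveI hq₁ : q₁.IsPrime :=
    IsLocalization.isPrime_of_isPrime_disjoint (Submonoid.powers w) B₁ q hq hdisj
  have hq₁c : q₁.comap ι = q :=
    IsLocalization.under_map_of_isPrime_disjoint (Submonoid.powers w) B₁ hq hdisj
  obtain ⟨g, hg, H⟩ := IH B₁ q₁ A' hdetA'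
  obtain ⟨k, g₀, hg₀⟩ := IsLocalization.Away.surj w g
  have hg₀q : g₀ ∉ q := by
    intro hmem
    have h1 : ι g₀ ∈ q₁ := Ideal.mem_map_of_mem ι hmem
    rw [← hg₀] at h1
    rcases hq₁.mem_or_mem h1 with h2 | h2
    · exact hg h2
    · have h3 : ι w ∈ q₁ := hq₁.mem_of_pow_mem k h2
      have h4 : w ∈ q₁.comap ι := h3
      rw [hq₁c] at h4
      exact hw h4
  refine ⟨w * g₀, fun h => (hq.mem_or_mem h).elim hw hg₀q, fun C _ φ hφ => ?_⟩
  rw [map_mul] at hφ
  have hφw : IsUnit (φ w) := isUnit_of_mul_isUnit_left hφ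
  have hφg : IsUnit (φ g₀) := isUnit_of_mul_isUnit_right hφ
  let ψ : B₁ →+* C := IsLocalization.Away.lift w hφw
  have hψι : ψ.comp ι = φ := IsLocalization.Away.lift_comp w hφw
  have hψg : IsUnit (ψ g) := by
    have h1 : ψ g * ψ (ι w) ^ k = φ g₀ := by
      rw [← map_pow, ← map_mul]
      have := congrArg ψ hg₀
      rw [this]
      exact IsLocalization.Away.lift_eq w hφw g₀
    exact isUnit_of_mul_isUnit_left (h1 ▸ hφg)
  have hA'mem := H C ψ hψg
  have h1 : φ.mapMatrix M = ψ.mapMatrix M₁ := by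
    rw [hM₁, ← hψι]
    ext a b'
    simp
  have h2 : M₁ = transvection (Sum.inr ()) (Sum.inl i) (-c₀) * M₂ := by
    rw [hM₂, ← Matrix.mul_assoc, transvection_mul_transvection_same _ _ hne, neg_add_cancel,
      transvection_zero, Matrix.one_mul]
  rw [h1, h2, hdecomp, map_mul, map_mul, map_mul]
  refine mul_mem (map_mem ψ (transvection_mem _ _ hne _)) (mul_mem (mul_mem ?_ ?_) ?_)
  · exact map_mem ψ (upper_mem b)
  · have : ψ.mapMatrix (fromBlocks A' 0 0 (1 : Matrix Unit Unit B₁)) =
        fromBlocks (ψ.mapMatrix A') 0 0 (1 : Matrix Unit Unit C) := by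
      rw [RingHom.mapMatrix_apply, fromBlocks_map]
      simp
    rw [this]
    exact sumInl_mem hA'mem
  · exact map_mem ψ (lower_mem c)

end Groth.Agent.Helper4.SLCommB
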