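import Mathlib
import Groth.Agent.Helper4.SLCommB
set_option autoImplicit false
universe u
open Matrix

namespace Groth.Agent.Helper4.SLCommC
open Groth.Agent.Helper4.SLCommA Groth.Agent.Helper4.SLCommB

lemma Q_one {n : Type} [DecidableEq n] [Fintype n] {B : Type u} [CommRing B] (q : Ideal B)
    [hq : q.IsPrime] : Q q (1 : Matrix n n B) := by
  refine ⟨1, fun h => hq.ne_top ((Ideal.eq_top_iff_one q).2 h), fun C _ φ _ => ?_⟩
  rw [map_one]; exact one_mem _

lemma Q_sum (r : ℕ)
    (IH : ∀ (B : Type u) [CommRing B] (q : Ideal B) [q.IsPrime] (M : Matrix (Fin r) (Fin r) B),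
      M.det = 1 → Q q M)
    (B : Type u) [CommRing B] (q : Ideal B) [hq : q.IsPrime]
    (M : Matrix (Fin r ⊕ Unit) (Fin r ⊕ Unit) B) (hM : M.det = 1) : Q q M := by
  have h1q : (1 : B) ∉ q := fun h => hq.ne_top ((Ideal.eq_top_iff_one q).2 h)
  by_cases hex : ∃ i : Fin r, M (Sum.inl i) (Sum.inr ()) ∉ q
  · obtain ⟨i, hi⟩ := hex
    exact step_of_entry r IH B q M hM i hi
  · push Not at hex
    have hw : M (Sum.inr ()) (Sum.inr ()) ∉ q := by
      intro hmem
      apply h1q
      rw [← hM]
      refine det_mem_of_col q M (Sum.inr ()) ?_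
      rintro (i | ⟨⟩)
      · exact hex i
      · exact hmem
    rcases Nat.eq_zero_or_pos r with hr | hr
    · subst hr
      have hM1 : M = 1 := by
        have hdet : M.det = M (Sum.inr ()) (Sum.inr ()) := by
          rw [← fromBlocks_toBlocks M]
          have hz : M.toBlocks₂₁ = 0 := by
            ext a b; exact b.elim0
          rw [hz, det_fromBlocks_zero₂₁]
          simp [toBlocks₂₂]
        ext (a | ⟨⟩) (b | ⟨⟩)
        · exact a.elim0
        · exact a.elim0
        · exact b.elim0
        · rw [← hdet, hM]; simp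
      rw [hM1]; exact Q_one q
    · let i' : Fin r := ⟨0, hr⟩
      have hne : (Sum.inl i' : Fin r ⊕ Unit) ≠ Sum.inr () := by simp
      refine Q_of_transvection_mul q M (Sum.inl i') (Sum.inr ()) hne 1 ?_
      refine step_of_entry r IH B q _ ?_ i' ?_
      · rw [det_mul, det_transvection_of_ne _ _ hne, hM, one_mul]
      · rw [transvection_mul_apply_same, one_mul]
        intro hmem
        exact hw ((Ideal.add_mem_iff_right q (hex i')).1 hmem)

theorem main (r : ℕ) : ∀ (n : Type) [DecidableEq n] [Fintype n] (_ : Fintype.card n = r)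
    (B : Type u) [CommRing B] (q : Ideal B) [q.IsPrime] (M : Matrix n n B), M.det = 1 → Q q M := by
  induction r with
  | zero =>
    intro n _ _ hn B _ q _ M _
    haveI : IsEmpty n := Fintype.card_eq_zero_iff.1 hn
    have : M = 1 := Subsingleton.elim _ _
    rw [this]; exact Q_one q
  | succ r ih =>
    intro n _ _ hn B _ q _ M hM
    have hcard : Fintype.card n = Fintype.card (Fin r ⊕ Unit) := by simp [hn]
    let e : n ≃ Fin r ⊕ Unit := Fintype.equivOfCardEq hcard
    have IH : ∀ (B : Type u) [CommRing B] (q : Ideal B) [q.IsPrime]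
        (M : Matrix (Fin r) (Fin r) B), M.det = 1 → Q q M :=
      fun B _ q _ M hM => ih (Fin r) (by simp) B q M hM
    have hdet : (reindexAlgEquiv B B e M).det = 1 := by
      rw [det_reindexAlgEquiv, hM]
    obtain ⟨f, hf, H⟩ := Q_sum r IH B q (reindexAlgEquiv B B e M) hdet
    refine ⟨f, hf, fun C _ φ hφ => ?_⟩
    have h1 := reindex_mem e.symm (H C φ hφ)
    have h2 : reindexAlgEquiv C C e.symm (φ.mapMatrix (reindexAlgEquiv B B e M)) =
        φ.mapMatrix M := by
      ext a b
      simp [reindexAlgEquiv_apply]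
    rw [← h2]; exact h1

end Groth.Agent.Helper4.SLCommC
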