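import Mathlib
import Groth.Agent.Helper4.SLCommC
set_option autoImplicit false
universe u
open Matrix
open scoped commutatorElement

namespace Groth.Agent.Helper4.SLCommD
open Groth.Agent.Helper4.SLCommA Groth.Agent.Helper4.SLCommB

section Comm
variable {n : Type*} [DecidableEq n] [Fintype n] {R : Type*} [CommRing R]

/-- a transvection as an element of `GL`. -/
def tv (i j : n) (hij : i ≠ j) (c : R) : GL n R :=
  ⟨transvection i j c, transvection i j (-c),
    by rw [transvection_mul_transvection_same _ _ hij, add_neg_cancel, transvection_zero],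
    by rw [transvection_mul_transvection_same _ _ hij, neg_add_cancel, transvection_zero]⟩

/-- a diagonal matrix with one entry a unit, as an element of `GL`. -/
def dg (i : n) (u : Rˣ) : GL n R :=
  ⟨diagonal (Function.update 1 i (u : R)), diagonal (Function.update 1 i ((u⁻¹ : Rˣ) : R)),
    by
      rw [diagonal_mul_diagonal, ← diagonal_one]
      congr 1
      funext k
      by_cases hk : k = i
      · subst hk; simp
      · simp [Function.update_of_ne hk],
    by
      rw [diagonal_mul_diagonal, ← diagonal_one]
      congr 1
      funext k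
      by_cases hk : k = i
      · subst hk; simp
      · simp [Function.update_of_ne hk]⟩

lemma dg_mul_tv (i j : n) (hij : i ≠ j) (u : Rˣ) (b : R) :
    dg i u * tv i j hij b = tv i j hij (u * b) * dg i u := by
  apply Units.ext
  change diagonal (Function.update 1 i (u : R)) * transvection i j b =
    transvection i j (u * b) * diagonal (Function.update 1 i (u : R))
  ext a b'
  rw [diagonal_mul, mul_diagonal]
  simp only [transvection, Matrix.add_apply, Matrix.one_apply, Matrix.single_apply]
  by_cases h1 : a = b'
  · subst h1
    by_cases h2 : i = a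
    · subst h2
      simp [hij.symm]
    · simp [h2]
  · by_cases h2 : i = a
    · subst h2
      by_cases h3 : j = b'
      · subst h3
        simp [h1, Function.update_of_ne (Ne.symm hij)]
      · simp [h1, h3]
    · simp [h1, h2]

lemma tv_mem_commutator (u : R) (hu : IsUnit u) (hu1 : IsUnit (u - 1)) (i j : n) (hij : i ≠ j)
    (c : R) : tv i j hij c ∈ commutator (GL n R) := by
  set b : R := c * ((hu1.unit⁻¹ : Rˣ) : R) with hb
  have hmem : ⁅dg i hu.unit, tv i j hij b⁆ ∈ commutator (GL n R) :=
    Subgroup.commutator_mem_commutator (Subgroup.mem_top _) (Subgroup.mem_top _)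
  have heq : ⁅dg i hu.unit, tv i j hij b⁆ = tv i j hij c := by
    rw [commutatorElement_def, dg_mul_tv, mul_assoc (tv i j hij _), mul_inv_cancel, mul_one]
    apply Units.ext
    change transvection i j ((hu.unit : R) * b) * transvection i j (-b) = transvection i j c
    rw [transvection_mul_transvection_same _ _ hij]
    congr 1
    rw [IsUnit.unit_spec, hb]
    have : (u - 1) * ((hu1.unit⁻¹ : Rˣ) : R) = 1 := by
      have := hu1.unit.mul_inv
      rwa [IsUnit.unit_spec] at this
    linear_combination c * this
  rw [← heq]; exact hmem

/-- every matrix in the transvection submonoid lies in the commutator subgroup. -/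
lemma mem_commutator_of_mem_T (u : R) (hu : IsUnit u) (hu1 : IsUnit (u - 1))
    {M : Matrix n n R} (hM : M ∈ T n R) :
    ∃ g : GL n R, g ∈ commutator (GL n R) ∧ (g : Matrix n n R) = M := by
  induction hM using Submonoid.closure_induction with
  | mem x hx =>
    obtain ⟨⟨i, j, hij, c⟩, rfl⟩ := hx
    exact ⟨tv i j hij c, tv_mem_commutator u hu hu1 i j hij c, rfl⟩
  | one => exact ⟨1, one_mem _, rfl⟩
  | mul x y _ _ hx hy =>
    obtain ⟨g₁, h₁, rfl⟩ := hx
    obtain ⟨g₂, h₂, rfl⟩ := hy
    exact ⟨g₁ * g₂, mul_mem h₁ h₂, rfl⟩

end Comm

end Groth.Agent.Helper4.SLCommD
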