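import Mathlib
import Groth.Agent.Helper4.SLCommD
set_option autoImplicit false
universe u
open Polynomial

namespace Groth.Agent.Helper4.SLCommE

variable (A : Type u) [CommRing A]

/-- The standard étale pair `(X² - X + c, δ f₀)` with `δ = 1 - 4c`. -/
noncomputable def pair (c f₀ : A) : StandardEtalePair A where
  f := X ^ 2 - X + C c
  monic_f := by
    nontriviality A
    monicity!
  g := C ((1 - 4 * c) * f₀)
  cond := ⟨(2 * X - 1) * C f₀, -4 * C f₀, 1, by
    have hd : derivative (X ^ 2 - X + C c : A[X]) = 2 * X - 1 := by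
      first | (simp; done) | (simp; ring)
    rw [hd, pow_one]
    simp only [map_mul, map_sub, map_one, map_ofNat]
    ring⟩

/-- In every étale neighbourhood built this way there is a unit `u` with `u - 1` a unit, `f₀`
becomes a unit, and there is a prime over `p` provided `(1 - 4c) f₀ ∉ p`. -/
theorem exists_etale (p : Ideal A) [hp : p.IsPrime] (f₀ : A) (hf₀ : f₀ ∉ p) :
    ∃ (A' : Type u) (_ : CommRing A') (_ : Algebra A A'), Algebra.Etale A A' ∧
      (∃ q : PrimeSpectrum A', q.asIdeal.comap (algebraMap A A') = p) ∧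
      IsUnit (algebraMap A A' f₀) ∧ ∃ u : A', IsUnit u ∧ IsUnit (u - 1) := by
  -- choose c
  obtain ⟨c, hc, hδ⟩ : ∃ c : A, (c = 1 ∨ c = -1) ∧ (1 - 4 * c) ∉ p := by
    by_cases h3 : (1 - 4 * 1 : A) ∈ p
    · refine ⟨-1, Or.inr rfl, fun h5 => ?_⟩
      have h1 : (1 : A) ∈ p := by
        -- 2*5 - 3*3 = 1 : 5 = 1-4*(-1), -3 = 1 - 4*1
        have e'' : (1 : A) = 2 * (1 - 4 * (-1)) + 3 * (1 - 4 * 1) := by ring
        rw [e'']
        exact p.add_mem (p.mul_mem_left _ h5) (p.mul_mem_left _ h3)
      exact hp.ne_top ((Ideal.eq_top_iff_one p).2 h1)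
    · exact ⟨1, Or.inl rfl, h3⟩
  let P := pair A c f₀
  refine ⟨P.Ring, inferInstance, inferInstance, inferInstance, ?_, ?_, ?_⟩
  · -- prime over p
    let K := AlgebraicClosure p.ResidueField
    have hker : ∀ a : A, algebraMap A K a = 0 ↔ a ∈ p := by
      intro a
      rw [IsScalarTower.algebraMap_apply A p.ResidueField K,
        (map_eq_zero_iff _ (algebraMap p.ResidueField K).injective),
        Ideal.algebraMap_residueField_eq_zero]
    have hdeg : (P.f.map (algebraMap A K)).degree ≠ 0 := by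
      rw [P.monic_f.degree_map]
      have : P.f.degree = 2 := by
        change (X ^ 2 - X + C c : A[X]).degree = 2
        haveI : Nontrivial A := ⟨⟨0, 1, fun h => hp.ne_top ((Ideal.eq_top_iff_one p).2 (h ▸ p.zero_mem))⟩⟩
        compute_degree!
      rw [this]; norm_num
    obtain ⟨x₀, hx₀⟩ := IsAlgClosed.exists_root _ hdeg
    rw [IsRoot.def, eval_map_algebraMap] at hx₀
    have hmap : P.HasMap x₀ := by
      refine ⟨hx₀, ?_⟩
      change IsUnit (aeval x₀ (C ((1 - 4 * c) * f₀)))
      rw [aeval_C, isUnit_iff_ne_zero, Ne, hker]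
      exact fun h => (hp.mem_or_mem h).elim hδ hf₀
    let ψ : P.Ring →ₐ[A] K := P.lift x₀ hmap
    refine ⟨⟨RingHom.ker ψ.toRingHom, RingHom.ker_isPrime _⟩, ?_⟩
    ext a
    rw [Ideal.mem_comap, RingHom.mem_ker]
    change ψ (algebraMap A P.Ring a) = 0 ↔ _
    rw [ψ.commutes, hker]
  · have h := (StandardEtalePair.hasMap_X (P := P)).2
    change IsUnit (aeval P.X (C ((1 - 4 * c) * f₀))) at h
    rw [aeval_C, map_mul] at h
    exact isUnit_of_mul_isUnit_right h
  · have h := (StandardEtalePair.hasMap_X (P := P)).1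
    change aeval P.X (X ^ 2 - X + C c : A[X]) = 0 at h
    simp only [map_add, map_sub, map_pow, aeval_X, aeval_C] at h
    have hcu : IsUnit (algebraMap A P.Ring c) := by
      rcases hc with rfl | rfl
      · simp
      · simp
    have hprod : P.X * (P.X - 1) = - algebraMap A P.Ring c := by
      linear_combination h
    have hu : IsUnit (P.X * (P.X - 1)) := by rw [hprod]; exact hcu.neg
    exact ⟨P.X, isUnit_of_mul_isUnit_left hu, isUnit_of_mul_isUnit_right hu⟩

end Groth.Agent.Helper4.SLCommE
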