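import Mathlib
import Groth.Agent.Helper4.SLCommE
set_option autoImplicit false
universe u

namespace Groth.Agent.Helper4.SLCommF

/-- An element of a ring which dies in a flat algebra with a prime over `p`, for every prime `p`,
is zero. -/
theorem eq_zero_of_forall_flat (B : Type u) [CommRing B] (b : B)
    (h : ∀ p : PrimeSpectrum B, ∃ (B' : Type u) (_ : CommRing B') (_ : Algebra B B'),
      Module.Flat B B' ∧ (∃ q : PrimeSpectrum B', q.asIdeal.comap (algebraMap B B') = p.asIdeal) ∧
      algebraMap B B' b = 0) : b = 0 := by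
  by_contra hb
  let I : Ideal B := LinearMap.ker (LinearMap.toSpanSingleton B B b)
  have hI : ∀ a, a ∈ I ↔ a * b = 0 := by
    intro a
    simp [I, LinearMap.mem_ker, LinearMap.toSpanSingleton_apply]
  have hItop : I ≠ ⊤ := by
    intro htop
    have : (1 : B) ∈ I := by rw [htop]; trivial
    rw [hI, one_mul] at this
    exact hb this
  obtain ⟨M, hM, hIM⟩ := Ideal.exists_le_maximal I hItop
  obtain ⟨B', _, _, hflat, ⟨q, hq⟩, hb0⟩ := h ⟨M, hM.isPrime⟩
  obtain ⟨k, a, y, h1, h2⟩ := Module.Flat.isTrivialRelation_of_sum_smul_eq_zero (R := B) (M := B')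
    (ι := Unit) (f := fun _ => b) (x := fun _ => (1 : B')) (by simp [Algebra.smul_def, hb0])
  have h1' : (1 : B') = ∑ j, a () j • y j := h1 ()
  have h2' : ∀ j, a () j ∈ M := by
    intro j
    apply hIM
    rw [hI, mul_comm]
    simpa using h2 j
  have : (1 : B') ∈ q.asIdeal := by
    rw [h1']
    refine Ideal.sum_mem _ fun j _ => ?_
    rw [Algebra.smul_def]
    refine Ideal.mul_mem_right _ _ ?_
    have : a () j ∈ q.asIdeal.comap (algebraMap B B') := by rw [hq]; exact h2' j
    exact this
  exact q.isPrime.ne_top ((Ideal.eq_top_iff_one _).2 this)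

end Groth.Agent.Helper4.SLCommF
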