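import Mathlib
import Groth.Agent.Helper4.SLCommF
set_option autoImplicit false
universe u
open Matrix

namespace Groth.Agent.Helper4.SLCommG
open Groth.Agent.Helper4

variable (R : Type u) [CommRing R] (N : ℕ)
  (a : ∀ (B : Type u) [CommRing B] [Algebra R B], GL (Fin N) B →* Bˣ)
  (ha : ∀ (B C : Type u) [CommRing B] [Algebra R B] [CommRing C] [Algebra R C] (φ : B →ₐ[R] C)
    (g : GL (Fin N) B),
    a C (Matrix.GeneralLinearGroup.map φ.toRingHom g) = Units.map (φ.toRingHom : B →* C) (a B g))

include ha in
/-- A natural character of `GL_N` kills `SL_N`. -/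
theorem kills_SL (B : Type u) [CommRing B] [Algebra R B] (s : Matrix.SpecialLinearGroup (Fin N) B) :
    a B (Matrix.SpecialLinearGroup.toGL s) = 1 := by
  have key : ((a B (Matrix.SpecialLinearGroup.toGL s) : Bˣ) : B) - 1 = 0 := by
    apply SLCommF.eq_zero_of_forall_flat
    intro p
    obtain ⟨f₀, hf₀, H⟩ := SLCommC.main N (Fin N) (by simp) B p.asIdeal s.val s.property
    obtain ⟨B', _, _, het, hq, hunit, u, hu, hu1⟩ := SLCommE.exists_etale B p.asIdeal f₀ hf₀
    refine ⟨B', inferInstance, inferInstance, inferInstance, hq, ?_⟩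
    letI : Algebra R B' := ((algebraMap B B').comp (algebraMap R B)).toAlgebra
    haveI : IsScalarTower R B B' := IsScalarTower.of_algebraMap_eq (fun _ => rfl)
    let φ : B →ₐ[R] B' := IsScalarTower.toAlgHom R B B'
    have hmem := H B' (algebraMap B B') hunit
    obtain ⟨g, hg, hgM⟩ := SLCommD.mem_commutator_of_mem_T u hu hu1 hmem
    have hg' : Matrix.GeneralLinearGroup.map φ.toRingHom (Matrix.SpecialLinearGroup.toGL s) = g := by
      apply Units.ext
      rw [hgM]
      rfl
    have h1 := ha B B' φ (Matrix.SpecialLinearGroup.toGL s)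
    rw [hg'] at h1
    have h3 : a B' g = 1 := by
      have : commutator (GL (Fin N) B') ≤ (a B').ker := Abelianization.commutator_subset_ker _
      exact this hg
    rw [h3] at h1
    have h4 := congrArg Units.val h1
    rw [map_sub, map_one]
    have h5 : (algebraMap B B') ((a B (Matrix.SpecialLinearGroup.toGL s) : Bˣ) : B) = 1 := by
      have h6 : φ ((a B (Matrix.SpecialLinearGroup.toGL s) : Bˣ) : B) = 1 := by simpa using h4.symm
      exact h6
    rw [h5, sub_self]
  exact Units.ext (sub_eq_zero.1 key)

end Groth.Agent.Helper4.SLCommG
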