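import Mathlib
set_option autoImplicit false
universe u

namespace Groth.Agent.Helper4.SLCommH

open AddMonoidAlgebra

section Ev
variable (R : Type u) [CommRing R] {G : Type} [AddCommGroup G] {B : Type u} [CommRing B] [Algebra R B]

/-- evaluation of the group algebra at a homomorphism into the units. -/
noncomputable def evF (F : Multiplicative G →* Bˣ) : AddMonoidAlgebra R G →ₐ[R] B :=
  AddMonoidAlgebra.lift R B G ((Units.coeHom B).comp F)

lemma evF_single (F : Multiplicative G →* Bˣ) (g : G) (c : R) :
    evF R F (single g c) = c • ((F (Multiplicative.ofAdd g) : Bˣ) : B) := by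
  simp [evF, AddMonoidAlgebra.lift_single]

end Ev

/-- idempotents in a ring with connected spectrum are trivial. -/
lemma idem_eq_zero_or_one (R : Type u) [CommRing R] [ConnectedSpace (PrimeSpectrum R)] (e : R)
    (he : IsIdempotentElem e) : e = 0 ∨ e = 1 := by
  have hcl : IsClopen (PrimeSpectrum.basicOpen e : Set (PrimeSpectrum R)) :=
    PrimeSpectrum.isClopen_iff.2 ⟨e, he, rfl⟩
  rcases isClopen_iff.1 hcl with h | h
  · left
    apply PrimeSpectrum.basicOpen_injOn_isIdempotentElem he IsIdempotentElem.zero
    apply TopologicalSpace.Opens.ext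
    rw [h, PrimeSpectrum.basicOpen_zero]; rfl
  · right
    apply PrimeSpectrum.basicOpen_injOn_isIdempotentElem he IsIdempotentElem.one
    apply TopologicalSpace.Opens.ext
    rw [h, PrimeSpectrum.basicOpen_one]; rfl

section Two
variable (R : Type u) [CommRing R]

/-- the canonical units of the two–variable group algebra. -/
noncomputable def W : Multiplicative (ℤ × ℤ) →* (AddMonoidAlgebra R (ℤ × ℤ))ˣ :=
  (AddMonoidAlgebra.of R (ℤ × ℤ)).toHomUnits

lemma W_val (g : ℤ × ℤ) : ((W R (Multiplicative.ofAdd g) : (AddMonoidAlgebra R (ℤ × ℤ))ˣ) :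
    AddMonoidAlgebra R (ℤ × ℤ)) = single g 1 := rfl

lemma zpowersHom_W (g : ℤ × ℤ) (k : ℤ) :
    zpowersHom _ (W R (Multiplicative.ofAdd g)) (Multiplicative.ofAdd k) =
      W R (Multiplicative.ofAdd (k • g)) := by
  rw [zpowersHom_apply, toAdd_ofAdd, ← map_zpow, ← ofAdd_zsmul]

lemma ev_single (g : ℤ × ℤ) (k : ℤ) (c : R) :
    evF R (zpowersHom _ (W R (Multiplicative.ofAdd g))) (single k c) = single (k • g) c := by
  rw [evF_single, zpowersHom_W, W_val, AddMonoidAlgebra.smul_single, smul_eq_mul, mul_one]

lemma coeff_ev_diag (x : AddMonoidAlgebra R ℤ) (k l : ℤ) :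
    (evF R (zpowersHom _ (W R (Multiplicative.ofAdd ((1, 1) : ℤ × ℤ)))) x).coeff (k, l) =
      if k = l then x.coeff k else 0 := by
  induction x using AddMonoidAlgebra.induction_linear with
  | zero => simp
  | add x y hx hy =>
    rw [map_add, AddMonoidAlgebra.coeff_add, Finsupp.add_apply, hx, hy,
      AddMonoidAlgebra.coeff_add, Finsupp.add_apply]
    split_ifs <;> simp
  | single a c =>
    rw [ev_single, AddMonoidAlgebra.coeff_single, AddMonoidAlgebra.coeff_single,
      Finsupp.single_apply, Finsupp.single_apply]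
    have : (a • ((1, 1) : ℤ × ℤ) = (k, l)) ↔ (a = k ∧ a = l) := by
      simp [Prod.ext_iff]
    by_cases h1 : k = l
    · subst h1
      simp [this]
    · have hn : ¬ (a • ((1, 1) : ℤ × ℤ) = (k, l)) := by
        rw [this]; rintro ⟨rfl, rfl⟩; exact h1 rfl
      rw [if_neg hn, if_neg h1]

lemma coeff_ev_mul (x y : AddMonoidAlgebra R ℤ) (k l : ℤ) :
    (evF R (zpowersHom _ (W R (Multiplicative.ofAdd ((1, 0) : ℤ × ℤ)))) x *
      evF R (zpowersHom _ (W R (Multiplicative.ofAdd ((0, 1) : ℤ × ℤ)))) y).coeff (k, l) =
      x.coeff k * y.coeff l := by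
  induction x using AddMonoidAlgebra.induction_linear with
  | zero => simp
  | add x x' hx hx' =>
    rw [map_add, add_mul, AddMonoidAlgebra.coeff_add, Finsupp.add_apply, hx, hx',
      AddMonoidAlgebra.coeff_add, Finsupp.add_apply, add_mul]
  | single a c =>
    induction y using AddMonoidAlgebra.induction_linear with
    | zero => simp
    | add y y' hy hy' =>
      rw [map_add, mul_add, AddMonoidAlgebra.coeff_add, Finsupp.add_apply, hy, hy',
        AddMonoidAlgebra.coeff_add, Finsupp.add_apply, mul_add]
    | single b d =>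
      rw [ev_single, ev_single, AddMonoidAlgebra.single_mul_single, AddMonoidAlgebra.coeff_single,
        AddMonoidAlgebra.coeff_single, AddMonoidAlgebra.coeff_single,
        Finsupp.single_apply, Finsupp.single_apply, Finsupp.single_apply]
      have : (a • ((1, 0) : ℤ × ℤ) + b • ((0, 1) : ℤ × ℤ) = (k, l)) ↔ (a = k ∧ b = l) := by
        simp [Prod.ext_iff]
      by_cases h1 : a = k
      · by_cases h2 : b = l
        · simp [this, h1, h2]
        · simp [this, h1, h2]
      · simp [this, h1]

end Two

end Groth.Agent.Helper4.SLCommH
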