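import Mathlib
import Groth.Agent.Helper4.SLCommH
set_option autoImplicit false
universe u

namespace Groth.Agent.Helper4.SLCommI
open Groth.Agent.Helper4.SLCommH AddMonoidAlgebra

variable (R : Type u) [CommRing R]

/-- the universal unit of the Laurent polynomial ring. -/
noncomputable def Tu : (AddMonoidAlgebra R ℤ)ˣ :=
  (AddMonoidAlgebra.of R ℤ).toHomUnits (Multiplicative.ofAdd 1)

lemma Tu_val : ((Tu R : (AddMonoidAlgebra R ℤ)ˣ) : AddMonoidAlgebra R ℤ) = single 1 1 := rfl

lemma map_ev_Tu {B : Type u} [CommRing B] [Algebra R B] (t : Bˣ) :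
    Units.map ((evF R (zpowersHom Bˣ t)).toRingHom : AddMonoidAlgebra R ℤ →* B) (Tu R) = t := by
  apply Units.ext
  change evF R (zpowersHom Bˣ t) (single 1 1) = t
  rw [evF_single]
  simp

lemma ev_one_eq_sum (x : AddMonoidAlgebra R ℤ) :
    evF R (zpowersHom Rˣ 1) x = x.coeff.sum (fun _ c => c) := by
  induction x using AddMonoidAlgebra.induction_linear with
  | zero => simp
  | add x y hx hy =>
    rw [map_add, hx, hy, AddMonoidAlgebra.coeff_add, Finsupp.sum_add_index'] <;> simp
  | single a c =>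
    rw [evF_single, AddMonoidAlgebra.coeff_single, Finsupp.sum_single_index rfl]
    simp

variable [ConnectedSpace (PrimeSpectrum R)]
  (b : ∀ (B : Type u) [CommRing B] [Algebra R B], Bˣ →* Bˣ)
  (hb : ∀ (B C : Type u) [CommRing B] [Algebra R B] [CommRing C] [Algebra R C] (φ : B →ₐ[R] C)
    (t : Bˣ), b C (Units.map (φ.toRingHom : B →* C) t) = Units.map (φ.toRingHom : B →* C) (b B t))

include hb in
theorem exists_zpow :
    ∃ m : ℤ, ∀ (B : Type u) [CommRing B] [Algebra R B] (t : Bˣ), b B t = t ^ m := by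
  haveI : Nontrivial R := by
    have : Nonempty (PrimeSpectrum R) := inferInstance
    exact (PrimeSpectrum.nonempty_iff_nontrivial).1 this
  set χ : AddMonoidAlgebra R ℤ := ((b (AddMonoidAlgebra R ℤ) (Tu R) : (AddMonoidAlgebra R ℤ)ˣ) :
    AddMonoidAlgebra R ℤ) with hχ
  have key : ∀ (B : Type u) [CommRing B] [Algebra R B] (t : Bˣ),
      ((b B t : Bˣ) : B) = evF R (zpowersHom Bˣ t) χ := by
    intro B _ _ t
    have h1 := hb (AddMonoidAlgebra R ℤ) B (evF R (zpowersHom Bˣ t)) (Tu R)
    rw [map_ev_Tu] at h1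
    rw [h1]
    rfl
  -- orthogonality
  have horth : ∀ k l : ℤ, (if k = l then χ.coeff k else 0) = χ.coeff k * χ.coeff l := by
    intro k l
    have hmul : W R (Multiplicative.ofAdd ((1, 1) : ℤ × ℤ)) =
        W R (Multiplicative.ofAdd ((1, 0) : ℤ × ℤ)) * W R (Multiplicative.ofAdd ((0, 1) : ℤ × ℤ)) := by
      rw [← map_mul, ← ofAdd_add]
      rfl
    have h2 := congrArg (fun z => ((b (AddMonoidAlgebra R (ℤ × ℤ)) z :
      (AddMonoidAlgebra R (ℤ × ℤ))ˣ) : AddMonoidAlgebra R (ℤ × ℤ))) hmul
    simp only [map_mul, Units.val_mul] at h2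
    rw [key, key, key] at h2
    have h3 := congrArg (fun z => z.coeff (k, l)) h2
    beta_reduce at h3
    rw [coeff_ev_diag, coeff_ev_mul] at h3
    exact h3
  have hsum : χ.coeff.sum (fun _ c => c) = 1 := by
    rw [← ev_one_eq_sum, ← key R 1, map_one]
    rfl
  obtain ⟨m, hm⟩ : ∃ m, χ.coeff m ≠ 0 := by
    by_contra hcon
    push Not at hcon
    have : χ.coeff = 0 := Finsupp.ext hcon
    rw [this, Finsupp.sum_zero_index] at hsum
    exact zero_ne_one hsum
  have hm1 : χ.coeff m = 1 := by
    have hidem : IsIdempotentElem (χ.coeff m) := by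
      have := horth m m
      rw [if_pos rfl] at this
      exact this.symm
    exact (idem_eq_zero_or_one R _ hidem).resolve_left hm
  have hχm : χ = single m 1 := by
    apply AddMonoidAlgebra.ext
    rw [AddMonoidAlgebra.coeff_single]
    ext k
    rw [Finsupp.single_apply]
    by_cases hk : m = k
    · subst hk; rw [if_pos rfl, hm1]
    · rw [if_neg hk]
      have := horth m k
      rw [if_neg hk, hm1, one_mul] at this
      exact this.symm
  refine ⟨m, fun B _ _ t => ?_⟩
  apply Units.ext
  rw [key, hχm, evF_single]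
  simp

end Groth.Agent.Helper4.SLCommI
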