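import Mathlib
import Groth.Agent.Helper4.SLCommG
import Groth.Agent.Helper4.SLCommI
set_option autoImplicit false
universe u
open Matrix

namespace Groth.Agent.Helper4.SLCommJ
open Groth.Agent.Helper4 Groth.Agent.Helper4.SLCommD

section Dg
variable {n : Type*} [DecidableEq n] [Fintype n] {B : Type*} [CommRing B]

lemma dg_one (i : n) : dg i (1 : Bˣ) = 1 := by
  apply Units.ext
  change diagonal (Function.update 1 i ((1 : Bˣ) : B)) = 1
  rw [Units.val_one]
  have : Function.update (1 : n → B) i 1 = 1 := by
    funext k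
    by_cases hk : k = i
    · subst hk; simp
    · simp [Function.update_of_ne hk]
  rw [this]; exact diagonal_one

lemma dg_mul (i : n) (u v : Bˣ) : dg i (u * v) = dg i u * dg i v := by
  apply Units.ext
  change diagonal (Function.update 1 i ((u * v : Bˣ) : B)) =
    diagonal (Function.update 1 i (u : B)) * diagonal (Function.update 1 i (v : B))
  rw [diagonal_mul_diagonal]
  congr 1
  funext k
  by_cases hk : k = i
  · subst hk; simp
  · simp [Function.update_of_ne hk]

/-- `dg` as a homomorphism. -/
def dgHom (i : n) : Bˣ →* GL n B where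
  toFun := dg i
  map_one' := dg_one i
  map_mul' := dg_mul i

lemma det_dg (i : n) (u : Bˣ) : Matrix.GeneralLinearGroup.det (dg i u) = u := by
  apply Units.ext
  change (diagonal (Function.update 1 i (u : B))).det = u
  rw [det_diagonal, Finset.prod_update_of_mem (Finset.mem_univ i)]
  simp

lemma map_dg {C : Type*} [CommRing C] (φ : B →+* C) (i : n) (u : Bˣ) :
    Matrix.GeneralLinearGroup.map φ (dg i u) = dg i (Units.map (φ : B →* C) u) := by
  apply Units.ext
  change (diagonal (Function.update 1 i (u : B))).map φ = diagonal (Function.update 1 i (φ u))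
  rw [diagonal_map (map_zero φ)]
  congr 1
  funext k
  by_cases hk : k = i
  · subst hk; simp
  · simp [Function.update_of_ne hk]

end Dg

section One
variable (R : Type u) [CommRing R] [ConnectedSpace (PrimeSpectrum R)] (N : ℕ) (hN : 0 < N)
  (a : ∀ (B : Type u) [CommRing B] [Algebra R B], GL (Fin N) B →* Bˣ)
  (ha : ∀ (B C : Type u) [CommRing B] [Algebra R B] [CommRing C] [Algebra R C] (φ : B →ₐ[R] C)
    (g : GL (Fin N) B),
    a C (Matrix.GeneralLinearGroup.map φ.toRingHom g) = Units.map (φ.toRingHom : B →* C) (a B g))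

include hN ha in
theorem exists_det_zpow : ∃ m : ℤ, ∀ (B : Type u) [CommRing B] [Algebra R B] (g : GL (Fin N) B),
    a B g = (Matrix.GeneralLinearGroup.det g) ^ m := by
  let i₀ : Fin N := ⟨0, hN⟩
  obtain ⟨m, hm⟩ := SLCommI.exists_zpow R (fun B _ _ => (a B).comp (dgHom i₀))
    (fun B C _ _ _ _ φ t => by
      change a C (dg i₀ (Units.map (φ.toRingHom : B →* C) t)) = Units.map _ (a B (dg i₀ t))
      rw [← ha B C φ (dg i₀ t), map_dg])
  refine ⟨m, fun B _ _ g => ?_⟩
  set t := Matrix.GeneralLinearGroup.det g with ht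
  set g' : GL (Fin N) B := (dg i₀ t)⁻¹ * g with hg'
  have hdet : Matrix.GeneralLinearGroup.det g' = 1 := by
    rw [hg', map_mul, map_inv, det_dg, ← ht, inv_mul_cancel]
  have hdet' : (g' : Matrix (Fin N) (Fin N) B).det = 1 := by
    have := congrArg Units.val hdet
    simpa using this
  let s' : Matrix.SpecialLinearGroup (Fin N) B := ⟨g', hdet'⟩
  have hs' : Matrix.SpecialLinearGroup.toGL s' = g' := Units.ext rfl
  have h1 : a B g' = 1 := by
    rw [← hs']; exact SLCommG.kills_SL R N a ha B s'
  have h2 : g = dg i₀ t * g' := by rw [hg', mul_inv_cancel_left]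
  have h3 : a B (dg i₀ t) = t ^ m := hm B t
  have h4 : a B g = t ^ m := by
    rw [h2, map_mul, h1, mul_one, h3]
  exact h4

end One

end Groth.Agent.Helper4.SLCommJ
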