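import Mathlib
import Groth.Agent.Helper4.SN101
import Groth.Agent.Helper1.SerreFin2

/-!
# Uniqueness of the splitting type on the projective line
-/

set_option autoImplicit false
set_option linter.unusedSectionVars false
set_option linter.style.haveILetI false
universe u

open CategoryTheory CategoryTheory.Limits AlgebraicGeometry TopologicalSpace Opposite

namespace Groth.Agent.Helper4.SN

section Comb

/-- for an antitone sequence, the indices with value at least `m` form an initial segment -/
theorem le_iff_lt_card {r : ℕ} (d : Fin r → ℤ) (hd : Antitone d) (m : ℤ) (i : Fin r) :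
    m ≤ d i ↔ i.val < (Finset.univ.filter (fun j => m ≤ d j)).card := by
  constructor
  · intro h
    have hsub : Finset.Iic i ⊆ Finset.univ.filter (fun j => m ≤ d j) := by
      intro j hj
      rw [Finset.mem_Iic] at hj
      rw [Finset.mem_filter]
      exact ⟨Finset.mem_univ _, h.trans (hd hj)⟩
    have := Finset.card_le_card hsub
    rw [Fin.card_Iic] at this
    omega
  · intro h
    by_contra hc
    have hsub : Finset.univ.filter (fun j => m ≤ d j) ⊆ Finset.Iio i := by
      intro j hj
      rw [Finset.mem_filter] at hj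
      rw [Finset.mem_Iio]
      by_contra hji
      rw [not_lt] at hji
      exact hc (hj.2.trans (hd hji))
    have := Finset.card_le_card hsub
    rw [Fin.card_Iio] at this
    omega

/-- an antitone sequence is determined by its counting function -/
theorem antitone_eq_of_card_eq {r : ℕ} (d d' : Fin r → ℤ) (hd : Antitone d) (hd' : Antitone d')
    (h : ∀ m : ℤ, (Finset.univ.filter (fun j => m ≤ d j)).card =
      (Finset.univ.filter (fun j => m ≤ d' j)).card) : d = d' := by
  funext i
  apply le_antisymm
  · have h1 := (le_iff_lt_card d hd (d i) i).1 le_rfl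
    rw [h (d i)] at h1
    exact (le_iff_lt_card d' hd' (d i) i).2 h1
  · have h1 := (le_iff_lt_card d' hd' (d' i) i).1 le_rfl
    rw [← h (d' i)] at h1
    exact (le_iff_lt_card d hd (d' i) i).2 h1

/-- the counting function as a difference of sums -/
theorem card_filter_eq_sub {r : ℕ} (d : Fin r → ℤ) (m : ℤ) :
    ((Finset.univ.filter (fun j => m ≤ d j)).card : ℤ) =
      (∑ i, ((d i + -m + 1).toNat : ℤ)) - ∑ i, ((d i + (-m - 1) + 1).toNat : ℤ) := by
  rw [Finset.card_filter, ← Finset.sum_sub_distrib]
  push_cast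
  refine Finset.sum_congr rfl (fun i _ => ?_)
  by_cases h : m ≤ d i
  · rw [if_pos h]
    omega
  · rw [if_neg h]
    omega

end Comb

section P1Unique

variable (k : Type u) [Field k]

local notation "ℙ" => CohB1.ProjSpace 1 k
local notation "𝕆(" d ")" => Twist.twistProjSpace 1 k d

open Groth.Agent.Helper1.KzLin Groth.Agent.Helper1.ProjTop

/-- `h⁰` of a twist of a sum of twisting modules -/
theorem finrank_H0_sigma_tw {r : ℕ} (d : Fin r → ℤ) (n : ℤ) :
    Module.finrank k (Coh.HH ℙ (CohB1.tensorMod (∐ fun i : Fin r => 𝕆(d i)) 𝕆(n)) 0) =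
      ∑ i, (d i + n + 1).toNat := by
  obtain ⟨e⟩ := sigma_tw_tensor_iso k d n
  rw [(HHlinEquiv k (X := ℙ) e 0).finrank_eq,
    (Groth.Agent.Helper1.EulerCoh.sigmaEquiv (A := k) (fun i : Fin r => 𝕆(d i + n)) 0).finrank_eq]
  haveI : ∀ i : Fin r, Module.Finite k (Coh.HH ℙ 𝕆(d i + n) 0) := fun i =>
    Groth.Agent.Helper1.SerreFin.finite_HH_twist 1 k (d i + n) 0
  rw [Module.finrank_pi_fintype]
  exact Finset.sum_congr rfl (fun i _ => finrank_H0_tw k (d i + n))

/-- **uniqueness of the splitting type** -/
theorem splitting_type_unique {r : ℕ} (d d' : Fin r → ℤ) (hd : Antitone d) (hd' : Antitone d')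
    (e : (∐ fun i : Fin r => 𝕆(d i)) ≅ ∐ fun i : Fin r => 𝕆(d' i)) : d = d' := by
  apply antitone_eq_of_card_eq d d' hd hd'
  intro m
  have key : ∀ n : ℤ, ∑ i, (d i + n + 1).toNat = ∑ i, (d' i + n + 1).toNat := by
    intro n
    rw [← finrank_H0_sigma_tw k d n, ← finrank_H0_sigma_tw k d' n]
    exact (HHlinEquiv k (X := ℙ) (PicGrp.tensorModIso e (Iso.refl 𝕆(n))) 0).finrank_eq
  have h1 := card_filter_eq_sub d m
  have h2 := card_filter_eq_sub d' m
  have k1 := key (-m)
  have k2 := key (-m - 1)
  have k1' : (∑ i, ((d i + -m + 1).toNat : ℤ)) = ∑ i, ((d' i + -m + 1).toNat : ℤ) := by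
    exact_mod_cast k1
  have k2' : (∑ i, ((d i + (-m - 1) + 1).toNat : ℤ)) =
      ∑ i, ((d' i + (-m - 1) + 1).toNat : ℤ) := by
    exact_mod_cast k2
  rw [k1', k2', ← h2] at h1
  exact_mod_cast h1

end P1Unique

end Groth.Agent.Helper4.SN
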