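import Mathlib
import Groth.Agent.Helper4.SN10

/-!
# Curves of genus zero: cohomology of invertible modules of positive degree
-/

set_option autoImplicit false
set_option linter.style.haveILetI false

namespace Groth.Agent.Helper4.SN

open CategoryTheory Limits AlgebraicGeometry Opposite TopologicalSpace

universe u

variable (k : Type u) [Field k] {X : Scheme.{u}} [X.Over (Spec (CommRingCat.of k))]
variable [IsProper (X ↘ (Spec (CommRingCat.of k)))] [IsIntegral X]

include k in
/-- on an integral proper curve, if `χ(L) > 0` (more precisely `h⁰(L) > 0`) and `H¹(O) = 0`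
then `H¹(L) = 0`. -/
theorem h1_eq_zero_of_section (hdim : topologicalKrullDim X = 1)
    (h1O : Subsingleton (Coh.HH X (Coh.structureModule X) 1))
    (L : X.Modules) (hL : PicF.IsInvertible L) (s : Coh.structureModule X ⟶ L) (hs : s ≠ 0) :
    Subsingleton (Coh.HH X L 1) := by
  haveI := Groth.Agent.Helper4.NApx82.isNoetherian_of_proper k X
  have hcN := Groth.Agent.Helper1.SerreFin.isCoh_of_isInvertible _
    (TensorInv.isInvertible_structureModule (X := X))
  have hcL := Groth.Agent.Helper1.SerreFin.isCoh_of_isInvertible L hL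
  haveI hmono : Mono s := NApx81.mono_of_ne_zero s TensorInv.isInvertible_structureModule hL hs
  have hcQ : Coh.IsCoh (cokernel s) := Groth.Agent.Lead.PerfLib.isCoh_cokernel hcN hcL s
  have hξ : Subsingleton ((cokernel s).presheaf.stalk (genericPoint X)) :=
    Groth.Agent.Lead.StalkNhd.subsingleton_stalk_cokernel s _
      (NApx81.stalkLin_surjective_genericPoint s TensorInv.isInvertible_structureModule hL hs)
  obtain ⟨hpt, -⟩ := NApx82.closed_points_of_generic_zero k X hdim (cokernel s) hcQ hξ
  haveI h1Q := Groth.Agent.Helper1.ZeroDimAcyc.subsingleton_HH X (cokernel s) hcQ hpt 1 (by omega)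
  have hex := NApx80.exact_f_g k (Groth.Agent.Helper1.Dev.cokSC s)
    (Groth.Agent.Helper1.Dev.cokSC_shortExact s) 1
  refine ⟨fun a b => ?_⟩
  have key : ∀ x : Coh.HH X L 1, x = 0 := by
    intro x
    obtain ⟨y, hy⟩ := (hex x).1 (Subsingleton.elim _ _)
    rw [← hy, Subsingleton.elim y 0, map_zero]
  rw [key a, key b]

/-- S1635 -/
theorem main1635 (hdim : topologicalKrullDim X = 1)
    (h0 : Module.finrank k (Coh.HH X (Coh.structureModule X) 0) = 1) (hg : Curv2.genus k X = 0)
    (L : X.Modules) (hL : PicF.IsInvertible L) (d : ℕ) (hd : 0 < d)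
    (hdeg : Curv2.deg k X L 1 = d) :
    Module.finrank k (Coh.HH X L 0) = d + 1 ∧ Subsingleton (Coh.HH X L 1) := by
  haveI := Groth.Agent.Helper4.NApx82.isNoetherian_of_proper k X
  have hcN := Groth.Agent.Helper1.SerreFin.isCoh_of_isInvertible _
    (TensorInv.isInvertible_structureModule (X := X))
  have h1 := chi_eq_h0_sub_h1 k hdim.le L
  have h2 := chi_eq_h0_sub_h1 k hdim.le (Coh.structureModule X)
  have hg' := hg
  unfold Curv2.genus at hg
  unfold Curv2.deg at hdeg
  unfold chi at h1 h2
  rw [h0, hg] at h2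
  push_cast at hdeg h2
  have hrel : (Module.finrank k (Coh.HH X L 0) : ℤ) =
      (d : ℤ) + 1 + (Module.finrank k (Coh.HH X L 1) : ℤ) := by linarith
  have hpos : 0 < Module.finrank k (Coh.HH X L 0) := by
    have h3 : (0 : ℤ) < (Module.finrank k (Coh.HH X L 0) : ℤ) := by
      rw [hrel]
      have : (0 : ℤ) ≤ (Module.finrank k (Coh.HH X L 1) : ℤ) := Int.natCast_nonneg _
      have : (0 : ℤ) ≤ (d : ℤ) := Int.natCast_nonneg _
      linarith
    exact_mod_cast h3
  obtain ⟨x, hx⟩ : ∃ x : Coh.HH X L 0, x ≠ 0 := by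
    by_contra hcon
    push Not at hcon
    haveI : Subsingleton (Coh.HH X L 0) := subsingleton_of_forall_eq 0 hcon
    rw [Module.finrank_zero_of_subsingleton] at hpos
    exact lt_irrefl _ hpos
  obtain ⟨s0, hs⟩ := Groth.Agent.Helper4.SubExt.exists_unit_hom_of_section L
    (Groth.Agent.Lead.ProperFinA.h0Equiv L x)
  let s : Coh.structureModule X ⟶ L := s0
  have hs0 : s ≠ 0 := by
    intro h
    apply hx
    apply (Groth.Agent.Lead.ProperFinA.h0Equiv L).injective
    rw [map_zero, ← hs]
    have h' : s0 = (0 : Coh.structureModule X ⟶ L) := h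
    rw [h']
    rfl
  haveI : Module.Finite k (Coh.HH X (Coh.structureModule X) 1) :=
    Groth.Agent.S0002.result k X _ hcN 1
  have h1O : Subsingleton (Coh.HH X (Coh.structureModule X) 1) := Module.finrank_zero_iff.1 hg
  haveI h1L := h1_eq_zero_of_section k hdim h1O L hL s hs0
  refine ⟨?_, h1L⟩
  rw [Module.finrank_zero_of_subsingleton (M := Coh.HH X L 1)] at hrel
  have : (Module.finrank k (Coh.HH X L 0) : ℤ) = ((d + 1 : ℕ) : ℤ) := by
    rw [hrel]; push_cast; ring
  exact_mod_cast this

end Groth.Agent.Helper4.SN
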