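import Mathlib
import Groth.Agent.Helper4.SN92
import Groth.Agent.Helper4.GrpConnA

/-!
# Two linearly equivalent rational points on a normal proper curve: the main argument
-/

set_option autoImplicit false
set_option linter.unusedSectionVars false
set_option linter.style.haveILetI false
universe u

open CategoryTheory CategoryTheory.Limits AlgebraicGeometry Opposite TopologicalSpace
open Groth.Agent.Helper4.GenLoc Groth.Agent.Helper1.PUP

namespace Groth.Agent.Helper4.SN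

theorem cokernel_iso_of_factor {A : Type*} [Category A] [Abelian A] {O I₁ I₂ L : A}
    (e₁ : O ≅ I₁) (e₂ : O ≅ I₂) (ι₁ : I₁ ⟶ L) (ι₂ : I₂ ⟶ L) (u : O ⟶ O) [IsIso u]
    (h : e₁.hom ≫ ι₁ = u ≫ e₂.hom ≫ ι₂) : Nonempty (cokernel ι₁ ≅ cokernel ι₂) := by
  refine ⟨cokernel.mapIso ι₁ ι₂ (e₁.symm ≪≫ asIso u ≪≫ e₂) (Iso.refl L) ?_⟩
  simp only [Iso.refl_hom, Category.comp_id, Iso.trans_hom, Iso.symm_hom, asIso_hom,
    Category.assoc]
  rw [← h, Iso.inv_hom_id_assoc]

section Core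

attribute [local instance] Curv2.resAlgebra

open Groth.Agent.Helper4.Scalar

variable (k : Type u) [Field k] {X : Scheme.{u}} [X.Over (Spec (CommRingCat.of k))]
  [IsIntegral X] [IsProper (X ↘ (Spec (CommRingCat.of k)))]

/-- two sections of an invertible module vanishing exactly at two distinct points are linearly
independent -/
theorem two_le_h0_of_two_points (L : X.Modules) (hL : PicF.IsInvertible L)
    (x y : X) (hx : IsClosed ({x} : Set X)) (hy : IsClosed ({y} : Set X)) (hxy : x ≠ y)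
    (hpx : 0 < Module.finrank k (X.residueField x))
    (hpy : 0 < Module.finrank k (X.residueField y))
    (e₁ : Coh.structureModule X ≅ CohB1.tensorMod
      (ClSub.idealMod (Scheme.IdealSheafData.vanishingIdeal ⟨{x}, hx⟩)) L)
    (e₂ : Coh.structureModule X ≅ CohB1.tensorMod
      (ClSub.idealMod (Scheme.IdealSheafData.vanishingIdeal ⟨{y}, hy⟩)) L) :
    2 ≤ Module.finrank k (Coh.HH X L 0) := by
  haveI := Groth.Agent.Helper4.NApx82.isNoetherian_of_proper k X
  by_contra hlt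
  obtain ⟨D₁, hD₁⟩ : ∃ D, D = Scheme.IdealSheafData.vanishingIdeal ⟨{x}, hx⟩ := ⟨_, rfl⟩
  obtain ⟨D₂, hD₂⟩ : ∃ D, D = Scheme.IdealSheafData.vanishingIdeal ⟨{y}, hy⟩ := ⟨_, rfl⟩
  rw [← hD₁] at e₁
  rw [← hD₂] at e₂
  have hcL := Groth.Agent.Helper1.SerreFin.isCoh_of_isInvertible L hL
  haveI : Module.Finite k (Coh.HH X L 0) := Groth.Agent.S0002.result k X _ hcL 0
  letI := sectModule k L
  haveI : Module.Finite k (LinSer.Sect X L) := Module.Finite.equiv (h0LinEquiv k L)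
  have h1 : Module.finrank k (LinSer.Sect X L) ≤ 1 := by
    rw [← (h0LinEquiv k L).finrank_eq]
    omega
  obtain ⟨v, hv⟩ := finrank_le_one_iff.1 h1
  haveI := mono_idealTwistι D₁ L hL
  haveI := mono_idealTwistι D₂ L hL
  obtain ⟨t₁, ht₁⟩ : ∃ t : Coh.structureModule X ⟶ L, t = e₁.hom ≫ idealTwistι D₁ L := ⟨_, rfl⟩
  obtain ⟨t₂, ht₂⟩ : ∃ t : Coh.structureModule X ⟶ L, t = e₂.hom ≫ idealTwistι D₂ L := ⟨_, rfl⟩
  haveI : Mono t₁ := ht₁ ▸ mono_comp _ _
  haveI : Mono t₂ := ht₂ ▸ mono_comp _ _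
  have hne : ∀ t : Coh.structureModule X ⟶ L, Mono t → sec t ⊤ ≠ 0 := by
    intro t ht h0
    have ht0 : t = 0 := hom_ext_of_sec t 0 (by rw [h0]; rfl)
    have hid : 𝟙 (Coh.structureModule X) = 0 := by
      rw [← cancel_mono t, ht0, comp_zero, comp_zero]
    have h2 := congrArg (fun σ => sec σ ⊤) hid
    have h3 : (1 : Γ(X, ⊤)) = 0 := h2
    exact one_ne_zero h3
  obtain ⟨s₁, hs₁⟩ : ∃ s : LinSer.Sect X L, s = sec t₁ ⊤ := ⟨_, rfl⟩
  obtain ⟨s₂, hs₂⟩ : ∃ s : LinSer.Sect X L, s = sec t₂ ⊤ := ⟨_, rfl⟩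
  obtain ⟨a, ha⟩ := hv s₁
  obtain ⟨b, hb⟩ := hv s₂
  have ha0 : a ≠ 0 := by
    rintro rfl
    rw [zero_smul] at ha
    exact hne t₁ inferInstance (hs₁.symm.trans ha.symm)
  have hb0 : b ≠ 0 := by
    rintro rfl
    rw [zero_smul] at hb
    exact hne t₂ inferInstance (hs₂.symm.trans hb.symm)
  have hc : (a * b⁻¹) • s₂ = s₁ := by
    rw [← hb, ← ha, smul_smul, mul_assoc, inv_mul_cancel₀ hb0, mul_one]
  have hc0 : a * b⁻¹ ≠ 0 := mul_ne_zero ha0 (inv_ne_zero hb0)
  obtain ⟨c, hcdef⟩ : ∃ c, c = a * b⁻¹ := ⟨_, rfl⟩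
  rw [← hcdef] at hc hc0
  -- the unit of `Γ(X, O_X)` attached to `c`
  have hunit : IsUnit (Coh.toGlobal (X ↘ Spec (CommRingCat.of k)) c) :=
    (IsUnit.mk0 c hc0).map _
  haveI := isIso_scalar_of_isUnit _ hunit (Coh.structureModule X)
  have ht : t₁ = scalar (Coh.toGlobal (X ↘ Spec (CommRingCat.of k)) c) (Coh.structureModule X) ≫
      t₂ := by
    apply hom_ext_of_sec
    rw [scalar_comm, sec_comp, scalar_app, ← hs₁, ← hc, hs₂]
    have hres : res (Coh.toGlobal (X ↘ Spec (CommRingCat.of k)) c) ⊤ =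
        Coh.toGlobal (X ↘ Spec (CommRingCat.of k)) c := by
      change X.presheaf.map (𝟙 _) _ = _
      rw [X.presheaf.map_id]
      rfl
    rw [hres]
    rfl
  obtain ⟨e4⟩ := cokernel_iso_of_factor e₁ e₂ (idealTwistι D₁ L) (idealTwistι D₂ L)
    (scalar (Coh.toGlobal (X ↘ Spec (CommRingCat.of k)) c) (Coh.structureModule X))
    (by rw [← ht₁, ← ht₂]; exact ht)
  have e3 : CohB1.tensorMod (ClSub.quotMod D₁) L ≅ CohB1.tensorMod (ClSub.quotMod D₂) L :=
    (cokernelIdealTwistIso D₁ L hL).symm ≪≫ e4 ≪≫ cokernelIdealTwistIso D₂ L hL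
  have hsupp := Groth.Agent.Helper4.ExtZeroStalk.support_eq_of_iso e3
  rw [hD₁, hD₂, support_quotMod_twist k x hx L hL hpx,
    support_quotMod_twist k y hy L hL hpy] at hsupp
  exact hxy (Set.singleton_eq_singleton_iff.1 hsupp)

end Core

section Main7820

attribute [local instance] Curv2.resAlgebra

theorem vanishingIdeal_point_congr {C : Scheme.{u}} (a b : C) (ha : IsClosed ({a} : Set C))
    (hb : IsClosed ({b} : Set C)) (hab : a = b) :
    Scheme.IdealSheafData.vanishingIdeal ⟨{a}, ha⟩ =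
      Scheme.IdealSheafData.vanishingIdeal ⟨{b}, hb⟩ := by
  subst hab
  rfl

/-- **S7820** -/
theorem main7820 (k : Type u) [Field k] {C : Scheme.{u}} (p : C ⟶ Spec (CommRingCat.of k))
    [IsProper p] [ConnectedSpace C] (hN : Pi1.IsNormalScheme C) (hC : topologicalKrullDim C = 1)
    (x y : Spec (CommRingCat.of k) ⟶ C) (hx : x ≫ p = 𝟙 _) (hy : y ≫ p = 𝟙 _) (hxy : x ≠ y)
    (hlin : Nonempty (ClSub.idealMod x.ker ≅ ClSub.idealMod y.ker)) :
    ∃ e : C ≅ CohB1.ProjSpace 1 k, e.hom ≫ CohB1.ProjSpace.toSpec 1 k = p := by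
  letI : C.Over (Spec (CommRingCat.of k)) := ⟨p⟩
  haveI : IsProper (C ↘ Spec (CommRingCat.of k)) := ‹IsProper p›
  haveI := Groth.Agent.Helper4.NApx82.isNoetherian_of_proper k C
  haveI : IrreducibleSpace C :=
    Groth.Agent.Helper4.GrpConnA.irreducibleSpace_of_domain_stalks (fun z => (hN z).1)
  haveI : ∀ z : C, _root_.IsReduced (C.presheaf.stalk z) := fun z => by
    haveI := (hN z).1
    infer_instance
  haveI : IsReduced C := isReduced_of_isReduced_stalk C
  haveI : IsIntegral C := isIntegral_of_irreducibleSpace_of_isReduced C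
  have hx' : x ≫ (C ↘ Spec (CommRingCat.of k)) = 𝟙 _ := hx
  have hy' : y ≫ (C ↘ Spec (CommRingCat.of k)) = 𝟙 _ := hy
  obtain ⟨px, hpx⟩ : ∃ z, z = x (IsLocalRing.closedPoint k) := ⟨_, rfl⟩
  obtain ⟨py, hpy⟩ : ∃ z, z = y (IsLocalRing.closedPoint k) := ⟨_, rfl⟩
  have hclx : IsClosed ({px} : Set C) := hpx ▸ isClosed_of_section k x hx'
  have hcly : IsClosed ({py} : Set C) := hpy ▸ isClosed_of_section k y hy'
  have hkx : x.ker = Scheme.IdealSheafData.vanishingIdeal ⟨{px}, hclx⟩ := by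
    rw [ker_of_section k x hx']
    exact vanishingIdeal_point_congr _ _ _ _ hpx.symm
  have hky : y.ker = Scheme.IdealSheafData.vanishingIdeal ⟨{py}, hcly⟩ := by
    rw [ker_of_section k y hy']
    exact vanishingIdeal_point_congr _ _ _ _ hpy.symm
  have hfx : Module.finrank k (C.residueField px) = 1 := by
    rw [hpx]
    exact finrank_residueField_of_section k x hx'
  have hfy : Module.finrank k (C.residueField py) = 1 := by
    rw [hpy]
    exact finrank_residueField_of_section k y hy'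
  have hpxy : px ≠ py := by
    intro h
    apply hxy
    apply section_eq_of_ker_eq k x y hx' hy'
    rw [hkx, hky]
    exact vanishingIdeal_point_congr _ _ _ _ h
  have hprin := isPrincipal_maximalIdeal_of_isIntegrallyClosed hC.le px (hN px).2
  have hne := maximalIdeal_ne_bot_of_ne_genericPoint px (ne_genericPoint_of_isClosed hC px hclx)
  obtain ⟨L, hL, hdeg, ⟨e⟩⟩ := exists_invertible_deg_point k hC.le px hclx hprin hne
  rw [hfx] at hdeg
  obtain ⟨φ⟩ := hlin
  rw [hkx, hky] at φ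
  let e₁ : Coh.structureModule C ≅ CohB1.tensorMod
      (ClSub.idealMod (Scheme.IdealSheafData.vanishingIdeal ⟨{px}, hclx⟩)) L :=
    e.symm ≪≫ Groth.Agent.Lead.Ref1B.braid _ _
  let e₂ : Coh.structureModule C ≅ CohB1.tensorMod
      (ClSub.idealMod (Scheme.IdealSheafData.vanishingIdeal ⟨{py}, hcly⟩)) L :=
    e₁ ≪≫ (DCoh.tensorRightMod L).mapIso φ
  have h2 := two_le_h0_of_two_points k L hL px py hclx hcly hpxy (by omega) (by omega) e₁ e₂
  exact exists_iso_P1_of_deg_one k hC L hL (by exact_mod_cast hdeg) h2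

end Main7820

end Groth.Agent.Helper4.SN
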