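import Mathlib
import Groth.Agent.Helper4.SN111
import Groth.Agent.Helper4.SN93
import Groth.Agent.Helper4.SN85
import Groth.Agent.Helper4.SN42

/-!
# Invertible modules of degree zero on a genus one curve with a rational point
-/

set_option autoImplicit false
set_option linter.unusedSectionVars false
set_option linter.style.haveILetI false
universe u

open CategoryTheory CategoryTheory.Limits AlgebraicGeometry TopologicalSpace Opposite

namespace Groth.Agent.Helper4.SN

section PicAlg

variable {X : Scheme.{u}}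

open Groth.Agent.Lead.Ref1B

/-- tensor inverses are unique -/
theorem nonempty_iso_of_inverse (A A' B B' : X.Modules)
    (e : CohB1.tensorMod A B ≅ Coh.structureModule X)
    (e' : CohB1.tensorMod A' B ≅ Coh.structureModule X)
    (ε : CohB1.tensorMod B B' ≅ Coh.structureModule X) : Nonempty (A ≅ A') := by
  have h : ∀ (A : X.Modules), (CohB1.tensorMod A B ≅ Coh.structureModule X) → (A ≅ B') :=
    fun A e => (SecTwist.unitorR A).symm ≪≫ PicGrp.tensorModIso (Iso.refl A) ε.symm ≪≫
      (assoc A B B').symm ≪≫ PicGrp.tensorModIso e (Iso.refl B') ≪≫ unitorL B'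
  exact ⟨h A e ≪≫ (h A' e').symm⟩

/-- cancellation of an invertible tensor factor -/
theorem nonempty_iso_of_tensor_iso (A A' B B' : X.Modules)
    (ε : CohB1.tensorMod B B' ≅ Coh.structureModule X)
    (e : CohB1.tensorMod A B ≅ CohB1.tensorMod A' B) : Nonempty (A ≅ A') := by
  let Θ := twistTwistIso B B' ε
  have e' : (DCoh.tensorRightMod B).obj A ≅ (DCoh.tensorRightMod B).obj A' := e
  exact ⟨(Θ.app A).symm ≪≫ (DCoh.tensorRightMod B').mapIso e' ≪≫ Θ.app A'⟩

end PicAlg

section LocalRankOne

/-- in a free module of rank one over a local ring, a vector outside `𝔪 M` spans -/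
theorem span_singleton_eq_top_of_not_mem {R : Type*} [CommRing R] [IsLocalRing R] {M : Type*}
    [AddCommGroup M] [Module R M] (b : Module.Basis (Fin 1) R M) (v : M)
    (hv : v ∉ (IsLocalRing.maximalIdeal R) • (⊤ : Submodule R M)) :
    Submodule.span R {v} = ⊤ := by
  have hrepr : v = b.repr v 0 • b 0 := by
    conv_lhs => rw [← b.sum_repr v]
    rw [Fin.sum_univ_one]
  have hu : IsUnit (b.repr v 0) := by
    by_contra hnu
    apply hv
    rw [hrepr]
    exact Submodule.smul_mem_smul ((IsLocalRing.mem_maximalIdeal _).2 hnu) Submodule.mem_top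
  obtain ⟨u, hu'⟩ := hu
  rw [← top_le_iff, ← b.span_eq, Submodule.span_le]
  rintro _ ⟨i, rfl⟩
  have hi : i = 0 := Subsingleton.elim _ _
  rw [hi]
  have : b 0 = (↑u⁻¹ : R) • v := by
    rw [hrepr, ← hu', smul_smul, Units.inv_mul, one_smul]
  rw [this]
  exact Submodule.smul_mem _ _ (Submodule.subset_span rfl)

end LocalRankOne

section Ell

attribute [local instance] Curv2.resAlgebra

open Groth.Agent.Helper4.StalkDict Groth.Agent.Lead.Ref1B

variable (k : Type u) [Field k] {X : Scheme.{u}} [X.Over (Spec (CommRingCat.of k))]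
  [IsIntegral X] [IsProper (X ↘ (Spec (CommRingCat.of k)))]

/-- a nonzero section of an invertible module of degree one on a regular proper curve vanishes at
exactly one point, which is rational -/
theorem point_of_deg_one (hdim : topologicalKrullDim X = 1)
    (hreg : ∀ x : X, IsRegularLocalRing (X.presheaf.stalk x))
    (M : X.Modules) (hM : PicF.IsInvertible M) (hdM : Curv2.deg k X M 1 = 1)
    (s : Coh.structureModule X ⟶ M) (hs : s ≠ 0) :
    ∃ (P : X) (hP : IsClosed ({P} : Set X)), Module.finrank k (X.residueField P) = 1 ∧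
      Nonempty (CohB1.tensorMod
        (ClSub.idealMod (Scheme.IdealSheafData.vanishingIdeal ⟨{P}, hP⟩)) M ≅
          Coh.structureModule X) := by
  haveI := Groth.Agent.Helper4.NApx82.isNoetherian_of_proper k X
  have hO : PicF.IsInvertible (Coh.structureModule X) :=
    Groth.Agent.Helper4.TensorInv.isInvertible_structureModule
  have hcO := Groth.Agent.Helper1.SerreFin.isCoh_of_isInvertible _ hO
  have hcM := Groth.Agent.Helper1.SerreFin.isCoh_of_isInvertible _ hM
  have hM1 := Groth.Agent.Helper4.QAffSec.isFinLocFreeOfRank_one_of_isInvertible _ hM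
  obtain ⟨hmono, hχ, -⟩ := Groth.Agent.Helper4.NApx82.hom_main k X hdim _ M hO hM s hs
  haveI := hmono
  have hcQ : Coh.IsCoh (cokernel s) := Groth.Agent.Lead.PerfLib.isCoh_cokernel hcO hcM s
  have hQ1 : Module.finrank k (Coh.HH X (cokernel s) 0) = 1 := by
    unfold Curv2.deg at hdM
    have : (Module.finrank k (Coh.HH X (cokernel s) 0) : ℤ) = 1 := by
      push_cast at hdM
      linarith
    exact_mod_cast this
  -- a point of the support of the cokernel
  obtain ⟨P, hPs⟩ : ∃ P : X, P ∈ CohB1.support (cokernel s) := by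
    by_contra hne
    push Not at hne
    have hz : IsZero (cokernel s) := by
      apply Groth.Agent.Helper4.AssDict.isZero_of_subsingleton_stalks
      intro x
      by_contra hx
      exact hne x hx
    haveI := Groth.Agent.Helper1.KzChase.subsingleton_HH_of_isZero hz 0
    rw [Module.finrank_zero_of_subsingleton] at hQ1
    omega
  have hξ : Subsingleton ((cokernel s).presheaf.stalk (genericPoint X)) :=
    Groth.Agent.Lead.StalkNhd.subsingleton_stalk_cokernel s _
      (Groth.Agent.Helper4.NApx81.stalkLin_surjective_genericPoint s hO hM hs)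
  obtain ⟨hpt, -⟩ := Groth.Agent.Helper4.NApx82.closed_points_of_generic_zero k X hdim _ hcQ hξ
  have hP := hpt P hPs
  -- the section vanishes at `P`
  have hmem : M.presheaf.germ ⊤ P trivial (sec1 M s) ∈
      (IsLocalRing.maximalIdeal (X.presheaf.stalk P)) •
        (⊤ : Submodule (X.presheaf.stalk P) (M.presheaf.stalk P)) := by
    by_contra hnot
    apply hPs
    apply Groth.Agent.Lead.StalkNhd.subsingleton_stalk_cokernel s P
    obtain ⟨b⟩ := nonempty_basis_stalk_of_rank M hM1 P
    have hspan := span_singleton_eq_top_of_not_mem b _ hnot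
    rw [← LinearMap.range_eq_top, ← top_le_iff, ← hspan, Submodule.span_le,
      Set.singleton_subset_iff]
    exact ⟨Groth.Agent.Lead.Hartogs2.unitEquiv P 1, stalkLin_unitEquiv_one s P⟩
  obtain ⟨s', hs'⟩ := exists_section_ideal_twist P hP M
    (FinLocFree7.isFinLocFree_of_rank M hM1) s hs hmem
  haveI := hreg P
  obtain ⟨hI, hdI⟩ := ideal_point_of_normal k hdim P hP
    (Groth.Agent.Helper4.RegNormal.isIntegrallyClosed_of_isRegularLocalRing _)
  have hpos := finrank_residueField_pos k P hP
  have hIM := Groth.Agent.Helper4.TensorInv.isInvertible_tensorMod hI hM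
  have h7 := main7637 k hdim.le 1 1 _ M
    (Groth.Agent.Helper4.QAffSec.isFinLocFreeOfRank_one_of_isInvertible _ hI) hM1
  rw [Nat.mul_one, hdM, hdI] at h7
  push_cast at h7
  have h0 := Groth.Agent.Helper4.NApx82.main1518 k X hdim _ hIM s' hs'
  have hf1 : Module.finrank k (X.residueField P) = 1 := by
    have : (Module.finrank k (X.residueField P) : ℤ) ≤ 1 := by linarith
    have h2 : Module.finrank k (X.residueField P) ≤ 1 := by exact_mod_cast this
    omega
  refine ⟨P, hP, hf1, ?_⟩
  apply Groth.Agent.Helper4.NApx82.main1520 k X hdim _ hIM s' hs'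
  rw [h7, hf1]
  norm_num

omit [IsIntegral X] [IsProper (X ↘ (Spec (CommRingCat.of k)))] in
/-- a point is rational iff its residue field has degree one -/
theorem finrank_residueField_eq_one_iff (x : X) :
    Module.finrank k (X.residueField x) = 1 ↔ Function.Bijective (Curv2.resMap k X x) := by
  constructor
  · intro h
    haveI : Module.Finite k (X.residueField x) := Module.finite_of_finrank_pos (by omega)
    have hinj : Function.Injective (Algebra.linearMap k (X.residueField x)) :=
      (Curv2.resMap k X x).injective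
    refine ⟨(Curv2.resMap k X x).injective, ?_⟩
    exact (LinearMap.injective_iff_surjective_of_finrank_eq_finrank
      ((Module.finrank_self k).trans h.symm)).1 hinj
  · intro h
    have hbij : Function.Bijective (Algebra.linearMap k (X.residueField x)) := h
    rw [← (LinearEquiv.ofBijective _ hbij).finrank_eq, Module.finrank_self]

/-- **S14341** (for a regular proper integral curve) -/
theorem main14341 (hdim : topologicalKrullDim X = 1)
    (hreg : ∀ x : X, IsRegularLocalRing (X.presheaf.stalk x))
    (hg : Curv2.genus k X = 1) (O : X) (hOc : IsClosed ({O} : Set X))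
    (hO : Function.Bijective (Curv2.resMap k X O)) (L : X.Modules) (hL : PicF.IsInvertible L)
    (hdeg : Curv2.deg k X L 1 = 0) :
    ∃! P : {x : X // IsClosed ({x} : Set X) ∧ Function.Bijective (Curv2.resMap k X x)},
      Nonempty (CohB1.tensorMod L
        (ClSub.idealMod (Scheme.IdealSheafData.vanishingIdeal ⟨{P.1}, P.2.1⟩)) ≅
          ClSub.idealMod (Scheme.IdealSheafData.vanishingIdeal ⟨{O}, hOc⟩)) := by
  haveI := Groth.Agent.Helper4.NApx82.isNoetherian_of_proper k X
  have hOinv : PicF.IsInvertible (Coh.structureModule X) :=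
    Groth.Agent.Helper4.TensorInv.isInvertible_structureModule
  have hκO := (finrank_residueField_eq_one_iff k O).2 hO
  haveI := hreg O
  obtain ⟨hIO, hdIO⟩ := ideal_point_of_normal k hdim O hOc
    (Groth.Agent.Helper4.RegNormal.isIntegrallyClosed_of_isRegularLocalRing _)
  rw [hκO] at hdIO
  obtain ⟨LO, hLO, ⟨e1⟩, ⟨e2⟩⟩ := Groth.Agent.Lead.InvDual.exists_inverse _ hIO
  have hdLO : Curv2.deg k X LO 1 = 1 := by
    rw [deg_inverse k hdim.le _ LO hIO hLO e1, hdIO]
    norm_num
  have hOO := chi_eq_h0_sub_h1 k hdim.le (Coh.structureModule X)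
  unfold chi at hOO
  have hgen : (Curv2.genus k X : ℤ) =
      (Module.finrank k (Coh.HH X (Coh.structureModule X) 1) : ℤ) := rfl
  rw [← hgen, hg] at hOO
  -- `h⁰(O) ≥ 1`
  have hpos0 : 0 < Module.finrank k (Coh.HH X (Coh.structureModule X) 0) := by
    have hcO := Groth.Agent.Helper1.SerreFin.isCoh_of_isInvertible _ hOinv
    haveI : Module.Finite k (Coh.HH X (Coh.structureModule X) 0) :=
      Groth.Agent.S0002.result k X _ hcO 0
    haveI : Nontrivial (Coh.HH X (Coh.structureModule X) 0) := by
      rw [← not_subsingleton_iff_nontrivial]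
      intro hsub
      have h0 := eq_zero_of_subsingleton_H0 _ hsub (𝟙 (Coh.structureModule X))
      exact not_isZero_of_isInvertible _ hOinv ((IsZero.iff_id_eq_zero _).2 h0)
    exact Module.finrank_pos
  -- invertible modules of degree one have a nonzero section
  have hsec : ∀ N : X.Modules, PicF.IsInvertible N → Curv2.deg k X N 1 = 1 →
      ∃ σ : Coh.structureModule X ⟶ N, σ ≠ 0 := by
    intro N hN hdN
    have hχ := chi_eq_h0_sub_h1 k hdim.le N
    unfold chi at hχ
    have hp : 0 < Module.finrank k (Coh.HH X N 0) := by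
      unfold Curv2.deg at hdN
      rw [hχ, hOO] at hdN
      push_cast at hdN
      have h1 : (0 : ℤ) ≤ (Module.finrank k (Coh.HH X N 1) : ℤ) := Int.natCast_nonneg _
      have h2 : (0 : ℤ) < (Module.finrank k (Coh.HH X (Coh.structureModule X) 0) : ℤ) := by
        exact_mod_cast hpos0
      have : (0 : ℤ) < (Module.finrank k (Coh.HH X N 0) : ℤ) := by linarith
      exact_mod_cast this
    haveI : Nontrivial (Coh.HH X N 0) := Module.nontrivial_of_finrank_pos (R := k) hp
    exact exists_section_of_nontrivial_H0 N inferInstance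
  obtain ⟨σ, hσ⟩ := hsec LO hLO hdLO
  have h0O := h0_unit_eq_one_of_deg_one k hdim LO hLO hdLO σ hσ
  rw [h0O] at hOO
  -- invertible modules of degree one have `h⁰ = 1`
  have hh0 : ∀ N : X.Modules, PicF.IsInvertible N → Curv2.deg k X N 1 = 1 →
      Module.finrank k (Coh.HH X N 0) = 1 := by
    intro N hN hdN
    have hsub : Subsingleton (Coh.HH X N 1) := by
      by_contra hns
      rw [not_subsingleton_iff_nontrivial] at hns
      have := deg_le_of_h1_nontrivial k hdim h0O N hN hns
      rw [hdN, hg] at this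
      norm_num at this
    have hχ := chi_eq_h0_sub_h1 k hdim.le N
    unfold chi at hχ
    unfold Curv2.deg at hdN
    rw [hχ, hOO, Module.finrank_zero_of_subsingleton (M := Coh.HH X N 1)] at hdN
    push_cast at hdN
    have : (Module.finrank k (Coh.HH X N 0) : ℤ) = 1 := by linarith
    exact_mod_cast this
  -- the module `L(O)`
  have hM := Groth.Agent.Helper4.TensorInv.isInvertible_tensorMod hL hLO
  have hdM : Curv2.deg k X (CohB1.tensorMod L LO) 1 = 1 := by
    have h7 := main7637 k hdim.le 1 1 L LO
      (Groth.Agent.Helper4.QAffSec.isFinLocFreeOfRank_one_of_isInvertible _ hL)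
      (Groth.Agent.Helper4.QAffSec.isFinLocFreeOfRank_one_of_isInvertible _ hLO)
    rw [Nat.mul_one, hdLO, hdeg] at h7
    push_cast at h7
    linarith
  obtain ⟨s, hs⟩ := hsec _ hM hdM
  obtain ⟨P, hP, hf1, ⟨eP⟩⟩ := point_of_deg_one k hdim hreg _ hM hdM s hs
  have hexist : Nonempty (CohB1.tensorMod L
      (ClSub.idealMod (Scheme.IdealSheafData.vanishingIdeal ⟨{P}, hP⟩)) ≅
        ClSub.idealMod (Scheme.IdealSheafData.vanishingIdeal ⟨{O}, hOc⟩)) :=
    nonempty_iso_of_inverse _ _ LO _
      (assoc L _ LO ≪≫ swapM L _ LO ≪≫ eP) e2 e1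
  refine ⟨⟨P, hP, (finrank_residueField_eq_one_iff k P).1 hf1⟩, hexist, ?_⟩
  rintro ⟨P', hP', hbij'⟩ ⟨iso'⟩
  obtain ⟨iso⟩ := hexist
  apply Subtype.ext
  change P' = P
  by_contra hne
  obtain ⟨L', hL', ⟨g1⟩, ⟨g2⟩⟩ := Groth.Agent.Lead.InvDual.exists_inverse L hL
  obtain ⟨θ⟩ := nonempty_iso_of_tensor_iso
    (ClSub.idealMod (Scheme.IdealSheafData.vanishingIdeal ⟨{P'}, hP'⟩))
    (ClSub.idealMod (Scheme.IdealSheafData.vanishingIdeal ⟨{P}, hP⟩)) L L' g2
    (braid _ L ≪≫ iso' ≪≫ iso.symm ≪≫ braid L _)
  haveI := hreg P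
  obtain ⟨hIP, hdIP⟩ := ideal_point_of_normal k hdim P hP
    (Groth.Agent.Helper4.RegNormal.isIntegrallyClosed_of_isRegularLocalRing _)
  rw [hf1] at hdIP
  obtain ⟨LP, hLP, ⟨f1⟩, ⟨f2⟩⟩ := Groth.Agent.Lead.InvDual.exists_inverse _ hIP
  have hdLP : Curv2.deg k X LP 1 = 1 := by
    rw [deg_inverse k hdim.le _ LP hIP hLP f1, hdIP]
    norm_num
  have h2 := two_le_h0_of_two_points k LP hLP P P' hP hP' (Ne.symm hne)
    (finrank_residueField_pos k P hP) (finrank_residueField_pos k P' hP') f2.symm
    (PicGrp.tensorModIso θ (Iso.refl LP) ≪≫ f2).symm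
  have := hh0 LP hLP hdLP
  omega

end Ell

end Groth.Agent.Helper4.SN
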