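import Mathlib
import Groth.Prelude.Def_LinSer
import Groth.Prelude.Def_CohB1
import Groth.Agent.Lead.MeroM
import Groth.Agent.Lead.MeroF
import Groth.Agent.Helper4.GenLoc

set_option autoImplicit false
universe u
open CategoryTheory CategoryTheory.Limits AlgebraicGeometry TopologicalSpace Opposite

namespace Groth.Agent.Helper4.SN

open Groth.Agent.Lead.MeroM Groth.Agent.Lead.LocLift Groth.Agent.Lead.MeroF

section RatPt

variable (k : Type u) [Field k] {X : Scheme.{u}} [X.Over (Spec (CommRingCat.of k))]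

/-- preimage of an open containing the image of the closed point is everything -/
theorem top_le_preimage_of_mem (p : Spec (CommRingCat.of k) ⟶ X) (W : X.Opens)
    (h : p (IsLocalRing.closedPoint k) ∈ W) : (⊤ : (Spec (CommRingCat.of k)).Opens) ≤ p ⁻¹ᵁ W := by
  intro y _
  have : y = IsLocalRing.closedPoint k := by
    haveI : Subsingleton (PrimeSpectrum k) := inferInstance
    exact Subsingleton.elim (α := PrimeSpectrum k) _ _
  show p y ∈ W
  rw [this]; exact h

/-- evaluation at a rational point -/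
noncomputable def evPt (p : Spec (CommRingCat.of k) ⟶ X) (W : X.Opens)
    (h : p (IsLocalRing.closedPoint k) ∈ W) : Γ(X, W) →+* k :=
  (Scheme.ΓSpecIso (CommRingCat.of k)).hom.hom.comp
    (p.appLE W ⊤ (top_le_preimage_of_mem k p W h)).hom

theorem evPt_res (p : Spec (CommRingCat.of k) ⟶ X) (V W : X.Opens) (hWV : W ≤ V)
    (h : p (IsLocalRing.closedPoint k) ∈ W) (a : Γ(X, V)) :
    evPt k p W h (X.presheaf.map (homOfLE hWV).op a) = evPt k p V (hWV h) a := by
  unfold evPt
  have := Scheme.Hom.map_appLE p (top_le_preimage_of_mem k p W h) (homOfLE hWV).op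
  simp only [RingHom.comp_apply]
  congr 1
  rw [← this]
  rfl

theorem evPt_toGlobal (p : Spec (CommRingCat.of k) ⟶ X)
    (hp : p ≫ (X ↘ Spec (CommRingCat.of k)) = 𝟙 _) (W : X.Opens)
    (h : p (IsLocalRing.closedPoint k) ∈ W) (c : k) :
    evPt k p W h (X.presheaf.map (homOfLE (le_top : W ≤ ⊤)).op
      (Coh.toGlobal (X ↘ Spec (CommRingCat.of k)) c)) = c := by
  rw [evPt_res k p ⊤ W le_top h]
  unfold evPt Coh.toGlobal
  simp only [RingHom.comp_apply]
  have h0 : p.appLE ⊤ ⊤ (top_le_preimage_of_mem k p ⊤ trivial) = p.appTop := by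
    simp [Scheme.Hom.appLE]
  have h1 : (X ↘ Spec (CommRingCat.of k)).appTop ≫ p.appTop = 𝟙 _ := by
    rw [← Scheme.Hom.comp_appTop, hp]; rfl
  rw [h0]
  have h2 := congrArg (fun φ => φ.hom ((Scheme.ΓSpecIso (CommRingCat.of k)).inv.hom c)) h1
  simp only [CommRingCat.hom_comp, RingHom.comp_apply, CommRingCat.hom_id, RingHom.id_apply] at h2
  exact (congrArg (Scheme.ΓSpecIso (CommRingCat.of k)).hom.hom h2).trans
    (congrArg (fun φ => φ.hom c) (Scheme.ΓSpecIso (CommRingCat.of k)).inv_hom_id)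


theorem res_sum_smul (L : X.Modules) {V W : X.Opens} (i : W ⟶ V) {ι : Type*} (S : Finset ι)
    (a : ι → Γ(X, V)) (m : ι → Γ(L, V)) :
    L.presheaf.map i.op (∑ j ∈ S, a j • m j) =
      ∑ j ∈ S, X.presheaf.map i.op (a j) • L.presheaf.map i.op (m j) := by
  classical
  induction S using Finset.induction_on with
  | empty => simp
  | insert j S hj ih =>
    rw [Finset.sum_insert hj, Finset.sum_insert hj, map_add, ih, Scheme.Modules.map_smul]

theorem main19968 (L : X.Modules) (hL : PicF.IsInvertible L)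
    (n : ℕ) (p : Fin n → (Spec (CommRingCat.of k) ⟶ X))
    (hp : ∀ i, p i ≫ (X ↘ Spec (CommRingCat.of k)) = 𝟙 _)
    (t : Fin (n + 1) → (Coh.structureModule X ⟶ L))
    (ht : LinSer.LinIndep k X L (fun j => (L.unitHomEquiv (t j)).val (op ⊤))) :
    ∃ s : Coh.structureModule X ⟶ L, s ≠ 0 ∧
      ∀ i, (p i) (IsLocalRing.closedPoint k) ∉ CohB1.genLocus L s := by
  classical
  have hb : ∀ i, ∃ (U : X.Opens) (_ : (p i) (IsLocalRing.closedPoint k) ∈ U) (e : Γ(L, U)),
      IsLocalBasis L U e := fun i => exists_isLocalBasis L hL _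
  choose U hxU e he using hb
  obtain ⟨τ, hτ⟩ : ∃ τ : Fin (n + 1) → Γ(L, ⊤), τ = fun j => (L.unitHomEquiv (t j)).val (op ⊤) :=
    ⟨_, rfl⟩
  obtain ⟨a, ha⟩ : ∃ a : k → Γ(X, ⊤), a = fun c => Coh.toGlobal (X ↘ Spec (CommRingCat.of k)) c :=
    ⟨_, rfl⟩
  have ht' : ∀ c : Fin (n + 1) → k, (∑ j, a (c j) • τ j) = 0 → c = 0 := by
    intro c h
    apply ht c
    rw [ha, hτ] at h
    exact h
  have hf : ∀ i j, ∃ r : Γ(X, U i), L.presheaf.map (homOfLE (le_top : U i ≤ ⊤)).op (τ j) =
      r • L.presheaf.map (homOfLE (le_refl (U i))).op (e i) :=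
    fun i j => (he i (U i) le_rfl _).exists
  choose f hf using hf
  let M : Matrix (Fin n) (Fin (n + 1)) k := Matrix.of fun i j => evPt k (p i) (U i) (hxU i) (f i j)
  have hker : LinearMap.ker (Matrix.mulVecLin M) ≠ ⊥ :=
    LinearMap.ker_ne_bot_of_finrank_lt (by simp)
  obtain ⟨c, hcker, hc0⟩ := Submodule.exists_mem_ne_zero_of_ne_bot hker
  have hc : ∀ i, ∑ j, evPt k (p i) (U i) (hxU i) (f i j) * c j = 0 := by
    intro i
    have := congrFun (LinearMap.mem_ker.mp hcker) i
    simpa [Matrix.mulVec, dotProduct, M] using this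
  obtain ⟨σ, hσ⟩ : ∃ σ : Γ(L, ⊤), σ = ∑ j, a (c j) • τ j :=
    ⟨_, rfl⟩
  refine ⟨homOfTop L σ, ?_, ?_⟩
  · intro h0
    apply hc0
    apply ht' c
    rw [← hσ]
    have h1 := homOfTop_app_one L σ
    rw [h0] at h1
    exact h1.symm
  · intro i hmem
    obtain ⟨U', hU', hxU'⟩ : ∃ U' : X.Opens,
        U' ∈ {U : X.Opens | IsIso ((Scheme.Modules.restrictFunctor U.ι).map (homOfTop L σ))} ∧
          (p i) (IsLocalRing.closedPoint k) ∈ U' := TopologicalSpace.Opens.mem_sSup.mp hmem
    have hiso : IsIso ((Scheme.Modules.restrictFunctor U'.ι).map (homOfTop L σ)) := hU'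
    have hW1 : U' ⊓ U i ≤ U' := inf_le_left
    have hW2 : U' ⊓ U i ≤ U i := inf_le_right
    have hxW : (p i) (IsLocalRing.closedPoint k) ∈ U' ⊓ U i := ⟨hxU', hxU i⟩
    obtain ⟨W, hW⟩ : ∃ W : X.Opens, W = U' ⊓ U i := ⟨_, rfl⟩
    rw [← hW] at hW1 hW2 hxW
    have hbij := (Groth.Agent.Helper4.GenLoc.isIso_restrict_iff (homOfTop L σ) U').mp hiso W hW1
    obtain ⟨r, hr⟩ := hbij.2 (L.presheaf.map (homOfLE hW2).op (e i))
    rw [homOfTop_app] at hr
    -- restriction of σ to W
    have hres : ∀ j, L.presheaf.map (homOfLE (le_top : W ≤ ⊤)).op (τ j) =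
        X.presheaf.map (homOfLE hW2).op (f i j) • L.presheaf.map (homOfLE hW2).op (e i) := by
      intro j
      have h1 : L.presheaf.map (homOfLE (le_top : W ≤ ⊤)).op (τ j) =
          L.presheaf.map (homOfLE hW2).op (L.presheaf.map (homOfLE (le_top : U i ≤ ⊤)).op (τ j)) := by
        rw [← ConcreteCategory.comp_apply, ← Functor.map_comp]
        rfl
      rw [h1, hf i j, Scheme.Modules.map_smul]
      congr 1
      rw [← ConcreteCategory.comp_apply, ← Functor.map_comp]
      rfl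
    have hσW : L.presheaf.map (homOfLE (le_top : W ≤ ⊤)).op σ =
        (∑ j, X.presheaf.map (homOfLE (le_top : W ≤ ⊤)).op (a (c j)) *
            X.presheaf.map (homOfLE hW2).op (f i j)) • L.presheaf.map (homOfLE hW2).op (e i) := by
      rw [hσ, res_sum_smul, Finset.sum_smul]
      refine Finset.sum_congr rfl fun j _ => ?_
      rw [hres j, mul_smul]
    rw [hσW, ← mul_smul] at hr
    obtain ⟨r₀, -, huniq⟩ := he i W hW2 (L.presheaf.map (homOfLE hW2).op (e i))
    have e1 := huniq _ hr.symm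
    have e2 := huniq 1 (one_smul _ _).symm
    have e3 := congrArg (evPt k (p i) W hxW) (e1.trans e2.symm)
    rw [map_mul, map_sum, map_one] at e3
    have e4 : ∑ j, evPt k (p i) W hxW (X.presheaf.map (homOfLE (le_top : W ≤ ⊤)).op (a (c j)) *
            X.presheaf.map (homOfLE hW2).op (f i j)) = 0 := by
      rw [← hc i]
      refine Finset.sum_congr rfl fun j _ => ?_
      rw [map_mul, ha, evPt_toGlobal k (p i) (hp i), evPt_res k (p i) (U i) W hW2 hxW, mul_comm]
    rw [e4, mul_zero] at e3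
    exact zero_ne_one e3

end RatPt

end Groth.Agent.Helper4.SN
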