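import Mathlib
import Groth.Agent.Helper4.SN141
import Groth.Agent.Helper9.SkyMod4
import Groth.Agent.Helper4.PullTensor
import Groth.Agent.Helper4.PullSec
import Groth.Agent.Helper3.FlatPullEx

/-!
# Pullback of point ideals along a base field extension (towards S6487)
-/

set_option autoImplicit false
set_option linter.unusedSectionVars false
set_option linter.style.haveILetI false
universe u

open CategoryTheory CategoryTheory.Limits AlgebraicGeometry TopologicalSpace Opposite TensorProduct

namespace Groth.Agent.Helper4.SN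

section PullPt

open Groth.Agent.Helper4.StalkDict Groth.Agent.Helper4.NApx82 Groth.Agent.Lead.Ref1B
  Groth.Agent.Helper4.PullUnit

attribute [local instance] Curv2.resAlgebra

section Stalk

variable {X Y : Scheme.{u}} (g : Y ⟶ X)

/-- pullback preserves stalkwise surjectivity -/
theorem stalkLin_pullback_surjective {F G : X.Modules} (φ : F ⟶ G) (y : Y)
    (h : Function.Surjective (stalkLin φ (g y))) :
    Function.Surjective (stalkLin ((Scheme.Modules.pullback g).map φ) y) := by
  have e := (Groth.Agent.Helper9.SkyMod4.pullStalkIso y g).hom.naturality φ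
  haveI h1 : Epi ((Groth.Agent.Helper9.SkyMod4.St (g.base y)).map φ) := by
    rw [ModuleCat.epi_iff_surjective]
    exact h
  haveI : (Groth.Agent.Helper9.SkyMod4.ext y g).PreservesEpimorphisms :=
    Functor.preservesEpimorphisms_of_adjunction
      (ModuleCat.extendRestrictScalarsAdj (g.stalkMap y).hom)
  haveI h2 : Epi ((Groth.Agent.Helper9.SkyMod4.St (g.base y) ⋙
      Groth.Agent.Helper9.SkyMod4.ext y g).map φ) := by
    rw [Functor.comp_map]
    infer_instance
  haveI h3 : Epi ((Scheme.Modules.pullback g ⋙ Groth.Agent.Helper9.SkyMod4.St y).map φ ≫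
      (Groth.Agent.Helper9.SkyMod4.pullStalkIso y g).hom.app G) := by
    rw [e]
    infer_instance
  have h4 : Epi ((Scheme.Modules.pullback g ⋙ Groth.Agent.Helper9.SkyMod4.St y).map φ) := by
    have := epi_comp ((Scheme.Modules.pullback g ⋙ Groth.Agent.Helper9.SkyMod4.St y).map φ ≫
      (Groth.Agent.Helper9.SkyMod4.pullStalkIso y g).hom.app G)
      ((Groth.Agent.Helper9.SkyMod4.pullStalkIso y g).inv.app G)
    simpa using this
  rw [Functor.comp_map, ModuleCat.epi_iff_surjective] at h4
  exact h4

end Stalk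

section Euler

variable (k : Type u) [Field k] {X : Scheme.{u}} [X.Over (Spec (CommRingCat.of k))]
  (K : Type u) [Field K] [Algebra k K] {Y : Scheme.{u}} [Y.Over (Spec (CommRingCat.of K))]
  (g : Y ⟶ X)
  (hpb : IsPullback g (Y ↘ Spec (CommRingCat.of K)) (X ↘ Spec (CommRingCat.of k))
    (Spec.map (CommRingCat.ofHom (algebraMap k K))))
  [QuasiCompact (X ↘ Spec (CommRingCat.of k))] [IsSeparated (X ↘ Spec (CommRingCat.of k))]

include hpb in
theorem euler_pullback (F : X.Modules) [F.IsQuasicoherent] :
    Curv2.euler K Y ((Scheme.Modules.pullback g).obj F) = Curv2.euler k X F := by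
  unfold Curv2.euler
  refine finsum_congr (fun i => ?_)
  rw [Groth.Agent.Lead.BCField.finrank_HH_baseChange k K X Y g hpb F i]

include hpb in
theorem deg_pullback (E : X.Modules) (hE : PicF.IsInvertible E) :
    Curv2.deg K Y ((Scheme.Modules.pullback g).obj E) 1 = Curv2.deg k X E 1 := by
  haveI : E.IsQuasicoherent := Groth.Agent.Helper4.QAffSec.isQuasicoherent_of_isInvertible E hE
  haveI : (Coh.structureModule X).IsQuasicoherent :=
    Groth.Agent.Helper4.QAffSec.isQuasicoherent_of_isInvertible _
      Groth.Agent.Helper4.TensorInv.isInvertible_structureModule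
  unfold Curv2.deg
  rw [euler_pullback k K g hpb E, ← euler_pullback k K g hpb (Coh.structureModule X),
    Groth.Agent.Lead.BCField.euler_congr K Y (pullbackUnitIso g)]

end Euler

section Pt

variable (k : Type u) [Field k] {X : Scheme.{u}} [X.Over (Spec (CommRingCat.of k))]
  [IsIntegral X] [IsProper (X ↘ Spec (CommRingCat.of k))]
  (K : Type u) [Field K] [Algebra k K] {Y : Scheme.{u}} [Y.Over (Spec (CommRingCat.of K))]
  [IsIntegral Y] [IsProper (Y ↘ Spec (CommRingCat.of K))]
  (g : Y ⟶ X)
  (hpb : IsPullback g (Y ↘ Spec (CommRingCat.of K)) (X ↘ Spec (CommRingCat.of k))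
    (Spec.map (CommRingCat.ofHom (algebraMap k K))))

include hpb in
/-- the pullback of the ideal of a regular rational point: an invertible module of degree `-1`
with a nonzero map to `O_Y` which fails to be surjective at some point over the rational point -/
theorem exists_pullback_point_ideal (hdim : topologicalKrullDim X = 1)
    (σ : Spec (CommRingCat.of k) ⟶ X) (hσ : σ ≫ (X ↘ Spec (CommRingCat.of k)) = 𝟙 _)
    (hreg : IsRegularLocalRing (X.presheaf.stalk (σ (IsLocalRing.closedPoint k)))) :
    ∃ I : X.Modules, PicF.IsInvertible I ∧ Curv2.deg k X I 1 = -1 ∧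
      ∃ a : (Scheme.Modules.pullback g).obj I ⟶ Coh.structureModule Y, a ≠ 0 ∧
        ∃ y : Y, g y = σ (IsLocalRing.closedPoint k) ∧ ¬ Function.Surjective (stalkLin a y) := by
  haveI := Groth.Agent.Helper4.NApx82.isNoetherian_of_proper k X
  obtain ⟨x, hxdef⟩ : ∃ x : X, x = σ (IsLocalRing.closedPoint k) := ⟨_, rfl⟩
  have hx : IsClosed ({x} : Set X) := by rw [hxdef]; exact isClosed_of_section k σ hσ
  have hκ : Module.finrank k (X.residueField x) = 1 := by
    rw [hxdef]; exact finrank_residueField_of_section k σ hσ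
  haveI : IsRegularLocalRing (X.presheaf.stalk x) := by rw [hxdef]; exact hreg
  obtain ⟨hI, hdI⟩ := ideal_point_of_normal k hdim x hx
    (Groth.Agent.Helper4.RegNormal.isIntegrallyClosed_of_isRegularLocalRing _)
  obtain ⟨D, hD⟩ : ∃ D, D = Scheme.IdealSheafData.vanishingIdeal ⟨{x}, hx⟩ := ⟨_, rfl⟩
  rw [← hD] at hI hdI
  rw [hκ] at hdI
  have hdI' : Curv2.deg k X (ClSub.idealMod D) 1 = -1 := by rw [hdI]; norm_num
  refine ⟨ClSub.idealMod D, hI, hdI', ?_⟩
  haveI : Flat g := flat_bc k K g hpb
  have hA := Groth.Agent.Helper4.PullSec.isInvertible_pullback g hI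
  haveI hm1 : Mono ((Scheme.Modules.pullback g).map (ClSub.idealModι D)) :=
    Groth.Agent.Helper3.FlatPullEx.mono_pullback g _
  obtain ⟨a, ha⟩ : ∃ a : (Scheme.Modules.pullback g).obj (ClSub.idealMod D) ⟶
      Coh.structureModule Y,
      a = (Scheme.Modules.pullback g).map (ClSub.idealModι D) ≫ (pullbackUnitIso g).hom :=
    ⟨_, rfl⟩
  haveI hma : Mono a := by
    rw [ha]
    have h2 : Mono (pullbackUnitIso g).hom := inferInstance
    exact @mono_comp _ _ _ _ _ _ hm1 _ h2
  have ha0 : a ≠ 0 := by
    intro h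
    exact not_isZero_of_isInvertible _ hA (IsZero.of_mono_eq_zero a h)
  refine ⟨a, ha0, ?_⟩
  by_contra hcon
  push Not at hcon
  have hall : ∀ y : Y, Function.Surjective (stalkLin a y) := by
    intro y
    by_cases hy : g y = x
    · exact hcon y (hy.trans hxdef)
    · have h1 : Function.Surjective (stalkLin (ClSub.idealModι D) (g y)) := by
        rw [hD]
        exact stalkLin_idealModι_surjective x hx (g y) hy
      have h2 := stalkLin_pullback_surjective g (ClSub.idealModι D) y h1
      have h3 := (Groth.Agent.Helper1.Dev.stalkLin_bijective_of_isIso (pullbackUnitIso g).hom y).2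
      intro t
      obtain ⟨b, hb⟩ := h3 t
      obtain ⟨c, hc⟩ := h2 b
      refine ⟨c, ?_⟩
      rw [ha]
      rw [Groth.Agent.Lead.StalkNhd.stalkLin_comp, hc, hb]
  haveI : Epi a := Groth.Agent.Helper4.QcohLocal.epi_of_stalkLin_surjective a hall
  haveI : IsIso a := isIso_of_mono_of_epi a
  have hdA := deg_pullback k K g hpb (ClSub.idealMod D) hI
  rw [hdI'] at hdA
  have hdA0 : Curv2.deg K Y ((Scheme.Modules.pullback g).obj (ClSub.idealMod D)) 1 = 0 := by
    unfold Curv2.deg
    rw [Groth.Agent.Lead.BCField.euler_congr K Y (asIso a)]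
    push_cast
    ring
  rw [hdA0] at hdA
  norm_num at hdA

include hpb in
/-- one twisting step: lower `h⁰` by exactly one, keeping `h¹`, by the pullback of the ideal of a
rational point of `X` chosen off the image of the zeros of a section -/
theorem exists_twist_step [IsSepClosed k] [Smooth (X ↘ Spec (CommRingCat.of k))]
    (hdim : topologicalKrullDim X = 1) (hdimY : topologicalKrullDim Y = 1)
    (N : Y.Modules) (hN : PicF.IsInvertible N) (hpos : 0 < Module.finrank K (Coh.HH Y N 0)) :
    ∃ I : X.Modules, PicF.IsInvertible I ∧ Curv2.deg k X I 1 = -1 ∧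
      Module.finrank K (Coh.HH Y (CohB1.tensorMod ((Scheme.Modules.pullback g).obj I) N) 0) + 1 =
        Module.finrank K (Coh.HH Y N 0) ∧
      Module.finrank K (Coh.HH Y (CohB1.tensorMod ((Scheme.Modules.pullback g).obj I) N) 1) =
        Module.finrank K (Coh.HH Y N 1) := by
  haveI := Groth.Agent.Helper4.NApx82.isNoetherian_of_proper k X
  haveI := Groth.Agent.Helper4.NApx82.isNoetherian_of_proper K Y
  -- a nonzero section
  rw [← finrank_hom_unit K] at hpos
  haveI : Nontrivial (Coh.structureModule Y ⟶ N) := Module.nontrivial_of_finrank_pos hpos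
  obtain ⟨s, hs⟩ := exists_ne (0 : Coh.structureModule Y ⟶ N)
  obtain ⟨U, hUne, hU⟩ := exists_open_stalkLin_surjective K N hN s hs
  -- the complement of `U` is finite
  have hηU : genericPoint Y ∈ (U : Set Y) := by
    rw [(genericPoint_spec Y).mem_open_set_iff U.isOpen]
    simpa using hUne
  have hZfin : ((U : Set Y)ᶜ).Finite :=
    Groth.Agent.Helper5.ConstrCurve.finite_of_isClosed_of_notMem hdimY.le _
      U.isOpen.isClosed_compl (fun h => h hηU)
  -- remove the closed points in the image
  obtain ⟨F, hF⟩ : ∃ F : Set X, F = (g '' ((U : Set Y)ᶜ)) \ {genericPoint X} := ⟨_, rfl⟩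
  have hFfin : F.Finite := by
    rw [hF]
    exact (hZfin.image _).sdiff
  have hFcl : IsClosed F := by
    have : F = ⋃ x ∈ F, ({x} : Set X) := by simp
    rw [this]
    refine hFfin.isClosed_biUnion (fun x hx => ?_)
    apply Groth.Agent.Helper5.ConstrCurve.isClosed_singleton_of_ne hdim.le
    rw [hF] at hx
    exact hx.2
  obtain ⟨V, hV⟩ : ∃ V : X.Opens, (V : Set X) = Fᶜ := ⟨⟨Fᶜ, hFcl.isOpen_compl⟩, rfl⟩
  have hVne : (V : Set X).Nonempty := by
    refine ⟨genericPoint X, ?_⟩
    rw [hV, hF]
    simp
  obtain ⟨σ, hσ, hσV⟩ := exists_rational_point_mem k V hVne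
  have hxcl : IsClosed ({σ (IsLocalRing.closedPoint k)} : Set X) := isClosed_of_section k σ hσ
  have hxne := ne_genericPoint_of_isClosed hdim _ hxcl
  obtain ⟨I, hI, hdI, a, ha, y, hgy, hay⟩ := exists_pullback_point_ideal k K g hpb hdim σ hσ
    (regular_of_smooth k _)
  have hyU : y ∈ U := by
    by_contra hy
    have h1 : σ (IsLocalRing.closedPoint k) ∈ F := by
      rw [hF]
      exact ⟨⟨y, hy, hgy⟩, hxne⟩
    have h2 : σ (IsLocalRing.closedPoint k) ∈ (V : Set X) := hσV
    rw [hV] at h2
    exact h2 h1
  have hA := Groth.Agent.Helper4.PullSec.isInvertible_pullback g hI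
  have hdA := deg_pullback k K g hpb I hI
  rw [hdI] at hdA
  exact ⟨I, hI, hdI, h0_h1_twist_of_section K hdimY _ N hA hN hdA a ha s y hay (hU y hyU)⟩

end Pt

end PullPt

end Groth.Agent.Helper4.SN
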