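import Mathlib
import Groth.Agent.Helper4.SN142

/-!
# S6487: twisting down to `h⁰ = 1`, `h¹ = 0` by a module defined over the base field
-/

set_option autoImplicit false
set_option linter.unusedSectionVars false
set_option linter.style.haveILetI false
universe u

open CategoryTheory CategoryTheory.Limits AlgebraicGeometry TopologicalSpace Opposite TensorProduct

namespace Groth.Agent.Helper4.SN

section Fin6487

open Groth.Agent.Helper4.StalkDict Groth.Agent.Helper4.NApx82 Groth.Agent.Lead.Ref1B
  Groth.Agent.Helper4.PullUnit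

attribute [local instance] Curv2.resAlgebra

variable (k : Type u) [Field k] [IsSepClosed k] {X : Scheme.{u}} [X.Over (Spec (CommRingCat.of k))]
  [IsIntegral X] [IsProper (X ↘ Spec (CommRingCat.of k))] [Smooth (X ↘ Spec (CommRingCat.of k))]
  (K : Type u) [Field K] [Algebra k K] {Y : Scheme.{u}} [Y.Over (Spec (CommRingCat.of K))]
  (g : Y ⟶ X)
  (hpb : IsPullback g (Y ↘ Spec (CommRingCat.of K)) (X ↘ Spec (CommRingCat.of k))
    (Spec.map (CommRingCat.ofHom (algebraMap k K))))

omit [IsSepClosed k] in
theorem h0_unit_of_smooth_sepClosed [IsSepClosed k] (hdim : topologicalKrullDim X = 1) :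
    Module.finrank k (Coh.HH X (Coh.structureModule X) 0) = 1 := by
  obtain ⟨σ, hσ, -⟩ := exists_rational_point_mem k (⊤ : X.Opens)
    ⟨(inferInstance : Nonempty X).some, trivial⟩
  exact h0_unit_eq_one_of_section k hdim σ hσ (regular_of_smooth k _)

include hpb in
theorem isIntegral_bc (hdim : topologicalKrullDim X = 1) : IsIntegral Y := by
  have h0 := h0_unit_of_smooth_sepClosed k hdim
  have hgc := (Groth.Agent.Lead.H0Geom.main3 k X).1.mp h0
  have hgi := (Groth.Agent.Lead.H0Geom.main3 k X).2.mp hgc
  exact hgi.geometrically_isIntegral _ g (Y ↘ Spec (CommRingCat.of K)) hpb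

/-- invertible modules of every nonnegative degree on `X` -/
theorem exists_invertible_deg (hdim : topologicalKrullDim X = 1) (n : ℕ) :
    ∃ M : X.Modules, PicF.IsInvertible M ∧ Curv2.deg k X M 1 = n := by
  haveI := Groth.Agent.Helper4.NApx82.isNoetherian_of_proper k X
  induction n with
  | zero =>
    exact ⟨Coh.structureModule X, Groth.Agent.Helper4.TensorInv.isInvertible_structureModule,
      by rw [Groth.Agent.Helper4.NApx82.deg_structureModule k X]; norm_num⟩
  | succ n ih =>
    obtain ⟨M, hM, hdM⟩ := ih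
    obtain ⟨σ, hσ, -⟩ := exists_rational_point_mem k (⊤ : X.Opens)
      ⟨(inferInstance : Nonempty X).some, trivial⟩
    obtain ⟨x, hxdef⟩ : ∃ x : X, x = σ (IsLocalRing.closedPoint k) := ⟨_, rfl⟩
    have hx : IsClosed ({x} : Set X) := by rw [hxdef]; exact isClosed_of_section k σ hσ
    have hκ : Module.finrank k (X.residueField x) = 1 := by
      rw [hxdef]; exact finrank_residueField_of_section k σ hσ
    haveI : IsRegularLocalRing (X.presheaf.stalk x) := regular_of_smooth k x
    obtain ⟨hI, hdI⟩ := ideal_point_of_normal k hdim x hx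
      (Groth.Agent.Helper4.RegNormal.isIntegrallyClosed_of_isRegularLocalRing _)
    obtain ⟨J, hJ, ⟨ε₁⟩, -⟩ := Groth.Agent.Lead.InvDual.exists_inverse _ hI
    have hdJ : Curv2.deg k X J 1 = 1 := by
      rw [deg_inverse k hdim.le _ J hI hJ ε₁, hdI, hκ]
      norm_num
    refine ⟨CohB1.tensorMod M J, isInvertible_tensor M J hM hJ, ?_⟩
    rw [deg_tensor_inv_curve k hdim M J hM hJ, hdM, hdJ]
    push_cast
    ring

include hpb in
/-- S6487 -/
theorem main6487 (hdim : topologicalKrullDim X = 1) (L : Y.Modules) (hL : PicF.IsInvertible L) :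
    ∃ L₀ : X.Modules, PicF.IsInvertible L₀ ∧
      Module.finrank K (Coh.HH Y
        (CohB1.tensorMod L ((Scheme.Modules.pullback g).obj L₀)) 0) = 1 ∧
      Subsingleton (Coh.HH Y (CohB1.tensorMod L ((Scheme.Modules.pullback g).obj L₀)) 1) := by
  haveI := Groth.Agent.Helper4.NApx82.isNoetherian_of_proper k X
  haveI : IsProper (Y ↘ Spec (CommRingCat.of K)) := isProper_bc k K g hpb
  haveI : Smooth (Y ↘ Spec (CommRingCat.of K)) := smooth_bc k K g hpb
  haveI : IsIntegral Y := isIntegral_bc k K g hpb hdim
  haveI := Groth.Agent.Helper4.NApx82.isNoetherian_of_proper K Y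
  have hdimY : topologicalKrullDim Y = 1 := (dim_bc k K g hpb).trans hdim
  have h0X := h0_unit_of_smooth_sepClosed k hdim
  have h0Y : Module.finrank K (Coh.HH Y (Coh.structureModule Y) 0) = 1 := by
    rw [Groth.Agent.Lead.BCField.finrank_HH_structure_baseChange k K X Y g hpb 0]
    exact h0X
  -- the induction
  have key : ∀ m : ℕ, ∀ M : X.Modules, PicF.IsInvertible M →
      Module.finrank K (Coh.HH Y (CohB1.tensorMod L ((Scheme.Modules.pullback g).obj M)) 0) =
        m + 1 →
      Subsingleton (Coh.HH Y (CohB1.tensorMod L ((Scheme.Modules.pullback g).obj M)) 1) →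
      ∃ L₀ : X.Modules, PicF.IsInvertible L₀ ∧
        Module.finrank K (Coh.HH Y
          (CohB1.tensorMod L ((Scheme.Modules.pullback g).obj L₀)) 0) = 1 ∧
        Subsingleton (Coh.HH Y (CohB1.tensorMod L ((Scheme.Modules.pullback g).obj L₀)) 1) := by
    intro m
    induction m with
    | zero =>
      intro M hM h0 h1
      exact ⟨M, hM, by simpa using h0, h1⟩
    | succ m ih =>
      intro M hM h0 h1
      have hgM := Groth.Agent.Helper4.PullSec.isInvertible_pullback g hM
      have hN := isInvertible_tensor L _ hL hgM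
      obtain ⟨I, hI, -, h0eq, h1eq⟩ := exists_twist_step k K g hpb hdim hdimY _ hN
        (by rw [h0]; omega)
      have hgI := Groth.Agent.Helper4.PullSec.isInvertible_pullback g hI
      have e : CohB1.tensorMod ((Scheme.Modules.pullback g).obj I)
          (CohB1.tensorMod L ((Scheme.Modules.pullback g).obj M)) ≅
          CohB1.tensorMod L ((Scheme.Modules.pullback g).obj (CohB1.tensorMod I M)) :=
        (assoc _ L _).symm ≪≫ PicGrp.tensorModIso (braid _ L) (Iso.refl _) ≪≫ assoc L _ _ ≪≫
          PicGrp.tensorModIso (Iso.refl L)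
            (Groth.Agent.Helper4.PullTensor.pullTensorIso g hI hM).symm
      apply ih (CohB1.tensorMod I M) (isInvertible_tensor I M hI hM)
      · rw [← (Groth.Agent.Lead.BCField.HHlinEquiv K e 0).finrank_eq]
        omega
      · have hcoh := Groth.Agent.Helper1.SerreFin.isCoh_of_isInvertible _
          (isInvertible_tensor _ _ hgI hN)
        haveI : Module.Finite K (Coh.HH Y (CohB1.tensorMod ((Scheme.Modules.pullback g).obj I)
            (CohB1.tensorMod L ((Scheme.Modules.pullback g).obj M))) 1) :=
          Groth.Agent.S0002.result K Y _ hcoh 1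
        have hz : Module.finrank K (Coh.HH Y (CohB1.tensorMod ((Scheme.Modules.pullback g).obj I)
            (CohB1.tensorMod L ((Scheme.Modules.pullback g).obj M))) 1) = 0 := by
          rw [h1eq]
          exact Module.finrank_zero_of_subsingleton
        have hs := Module.finrank_zero_iff.mp hz
        exact (Groth.Agent.Lead.BCField.HHlinEquiv K e 1).toEquiv.symm.subsingleton
  -- the base: a twist of large degree
  obtain ⟨n, hn⟩ : ∃ n : ℕ, (n : ℤ) = 2 * (Curv2.genus K Y : ℤ) + |Curv2.deg K Y L 1| :=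
    ⟨(2 * (Curv2.genus K Y : ℤ) + |Curv2.deg K Y L 1|).toNat,
      Int.toNat_of_nonneg (by positivity)⟩
  obtain ⟨M₀, hM₀, hdM₀⟩ := exists_invertible_deg k hdim n
  have hgM₀ := Groth.Agent.Helper4.PullSec.isInvertible_pullback g hM₀
  have hN₀ := isInvertible_tensor L _ hL hgM₀
  have hdN₀ : Curv2.deg K Y (CohB1.tensorMod L ((Scheme.Modules.pullback g).obj M₀)) 1 =
      Curv2.deg K Y L 1 + n := by
    rw [deg_tensor_inv_curve K hdimY L _ hL hgM₀, deg_pullback k K g hpb M₀ hM₀, hdM₀]
  have habs := neg_abs_le (Curv2.deg K Y L 1)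
  have h1 : Subsingleton (Coh.HH Y (CohB1.tensorMod L ((Scheme.Modules.pullback g).obj M₀)) 1) := by
    by_contra hns
    rw [not_subsingleton_iff_nontrivial] at hns
    have := deg_le_of_h1_nontrivial K hdimY h0Y _ hN₀ hns
    rw [hdN₀, hn] at this
    linarith
  have hχ := chi_eq_h0_sub_h1 K hdimY.le (CohB1.tensorMod L ((Scheme.Modules.pullback g).obj M₀))
  have hχO := chi_eq_h0_sub_h1 K hdimY.le (Coh.structureModule Y)
  unfold chi at hχ hχO
  have hd : Curv2.deg K Y (CohB1.tensorMod L ((Scheme.Modules.pullback g).obj M₀)) 1 =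
      Curv2.euler K Y (CohB1.tensorMod L ((Scheme.Modules.pullback g).obj M₀)) -
        Curv2.euler K Y (Coh.structureModule Y) := by
    unfold Curv2.deg
    push_cast
    ring
  have hz1 : Module.finrank K
      (Coh.HH Y (CohB1.tensorMod L ((Scheme.Modules.pullback g).obj M₀)) 1) = 0 :=
    Module.finrank_zero_of_subsingleton
  have hg : (Module.finrank K (Coh.HH Y (Coh.structureModule Y) 1) : ℤ) = Curv2.genus K Y := rfl
  have hpos : (1 : ℤ) ≤ Module.finrank K
      (Coh.HH Y (CohB1.tensorMod L ((Scheme.Modules.pullback g).obj M₀)) 0) := by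
    rw [hz1] at hχ
    rw [h0Y] at hχO
    push_cast at hχ hχO
    linarith
  obtain ⟨m, hm⟩ : ∃ m : ℕ, Module.finrank K
      (Coh.HH Y (CohB1.tensorMod L ((Scheme.Modules.pullback g).obj M₀)) 0) = m + 1 :=
    ⟨Module.finrank K
      (Coh.HH Y (CohB1.tensorMod L ((Scheme.Modules.pullback g).obj M₀)) 0) - 1, by omega⟩
  exact key m M₀ hM₀ hm h1

end Fin6487

end Groth.Agent.Helper4.SN
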