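import Mathlib
import Groth.Agent.Helper4.SN141
import Groth.Agent.Helper1.KzLin5

/-!
# `H¹` of globally generated modules on one-dimensional schemes with `H¹(O) = 0` (S17650)
-/

set_option autoImplicit false
set_option linter.unusedSectionVars false
set_option linter.style.haveILetI false
universe u

open CategoryTheory CategoryTheory.Limits AlgebraicGeometry TopologicalSpace Opposite

namespace Groth.Agent.Helper4.SN

section H1GG

open Groth.Agent.Helper1.HHLes Groth.Agent.Helper1.KzLin

variable (k : Type u) [Field k] {X : Scheme.{u}} [X.Over (Spec (CommRingCat.of k))]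

/-- on a Noetherian scheme of dimension at most one, `H¹` is right exact -/
theorem HHlin_one_surjective_of_epi [IsNoetherian X] (hdim : topologicalKrullDim X ≤ 1)
    {F G : X.Modules} (g : F ⟶ G) [Epi g] : Function.Surjective (Canon.HHlin k g 1) := by
  have h1 := exact_g_δ k (kerSC g) (kerSC_shortExact g) 1
  haveI : Subsingleton (Coh.HH X (kerSC g).X₁ (1 + 1)) :=
    subsingleton_HH_of_dim 1 hdim _ 2 (by norm_num)
  intro y
  exact (h1 y).1 (Subsingleton.elim _ _)

/-- S17650 in general form: on a proper scheme of dimension at most one over a field with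
`H¹(O) = 0`, a coherent globally generated module has `H¹ = 0` -/
theorem h1_subsingleton_of_isGloballyGenerated [IsProper (X ↘ Spec (CommRingCat.of k))]
    (hdim : topologicalKrullDim X ≤ 1)
    (hg : Subsingleton (Coh.HH X (Coh.structureModule X) 1))
    (E : X.Modules) (hcE : Coh.IsCoh E) (hgg : Curv2.IsGloballyGenerated E) :
    Subsingleton (Coh.HH X E 1) := by
  haveI := Groth.Agent.Helper4.NApx82.isNoetherian_of_proper k X
  haveI : Module.Finite k (Coh.HH X E 0) := Groth.Agent.S0002.result k X E hcE 0
  obtain ⟨b, σ, hspan⟩ := exists_span_of_finite k E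
  haveI : Epi (secMap E σ) := epi_secMap E hgg σ hspan
  haveI : Subsingleton (Coh.HH X (∐ fun _ : Fin b => Coh.structureModule X) 1) :=
    Groth.Agent.Helper1.SerreVan.subsingleton_HH_sigma _ 1 (fun _ => hg)
  have hs := HHlin_one_surjective_of_epi k hdim (secMap E σ)
  refine ⟨fun x y => ?_⟩
  obtain ⟨x', rfl⟩ := hs x
  obtain ⟨y', rfl⟩ := hs y
  rw [Subsingleton.elim x' y']

end H1GG

end Groth.Agent.Helper4.SN
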