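import Mathlib
import Groth.Agent.Helper4.SN145

/-!
# `H¹(E ⊗ I_p) = 0` for globally generated `E` when `H¹(O) = 0` (S17651)
-/

set_option autoImplicit false
set_option linter.unusedSectionVars false
set_option linter.style.haveILetI false
universe u

open CategoryTheory CategoryTheory.Limits AlgebraicGeometry TopologicalSpace Opposite

namespace Groth.Agent.Helper4.SN

section H1Pt

open Groth.Agent.Helper1.HHLes Groth.Agent.Helper1.KzLin Groth.Agent.Lead.Ref1B

attribute [local instance] Curv2.resAlgebra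

variable (k : Type u) [Field k] {X : Scheme.{u}} [X.Over (Spec (CommRingCat.of k))]
  [IsProper (X ↘ Spec (CommRingCat.of k))]

/-- the residue field of a closed point of a proper `k`-scheme has positive degree
(no integrality assumption) -/
theorem finrank_residueField_pos' (x : X) (hx : IsClosed ({x} : Set X)) :
    0 < Module.finrank k (X.residueField x) := by
  haveI := Groth.Agent.Helper4.NApx82.isNoetherian_of_proper k X
  rw [← finrank_h0_quotMod_point k x hx]
  obtain ⟨D, hD⟩ : ∃ D, D = Scheme.IdealSheafData.vanishingIdeal ⟨{x}, hx⟩ := ⟨_, rfl⟩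
  rw [← hD]
  haveI : Module.Finite k (Coh.HH X (ClSub.quotMod D) 0) :=
    Groth.Agent.S0002.result k X _ (isCoh_quotMod D) 0
  haveI : Nonempty D.subscheme := by
    have h1 : x ∈ Set.range D.subschemeι := by
      rw [Scheme.IdealSheafData.range_subschemeι, hD,
        Scheme.IdealSheafData.coe_support_vanishingIdeal]
      exact Set.mem_singleton x
    obtain ⟨z, -⟩ := h1
    exact ⟨z⟩
  haveI : Nonempty ↥(D.subschemeι ⁻¹ᵁ (⊤ : X.Opens)) := by
    obtain ⟨z⟩ := ‹Nonempty D.subscheme›
    exact ⟨⟨z, trivial⟩⟩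
  haveI h5 : Nontrivial Γ(D.subscheme, D.subschemeι ⁻¹ᵁ (⊤ : X.Opens)) := inferInstance
  haveI : Nontrivial ((Coh.toAb (ClSub.quotMod D)).obj.obj (op ⊤)) := h5
  haveI : Nontrivial (Coh.HH X (ClSub.quotMod D) 0) :=
    (Groth.Agent.Lead.ProperFinA.h0Equiv (ClSub.quotMod D)).toEquiv.nontrivial
  exact Module.finrank_pos

theorem finrank_residueField_eq_one' [IsAlgClosed k] (x : X) (hx : IsClosed ({x} : Set X)) :
    Module.finrank k (X.residueField x) = 1 := by
  have hpos := finrank_residueField_pos' k x hx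
  haveI : Module.Finite k (X.residueField x) := Module.finite_of_finrank_pos hpos
  haveI : Algebra.IsIntegral k (X.residueField x) := Algebra.IsIntegral.of_finite k _
  have hbij := IsAlgClosed.algebraMap_bijective_of_isIntegral (k := k) (K := X.residueField x)
  exact (LinearEquiv.ofBijective (Algebra.linearMap k (X.residueField x)) hbij).finrank_eq.symm.trans
    (Module.finrank_self k)

/-- `H¹(I_p) = 0` when `H¹(O) = 0` and `κ(p) = k` -/
theorem h1_idealMod_point_subsingleton [IsAlgClosed k]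
    (hg : Subsingleton (Coh.HH X (Coh.structureModule X) 1))
    (p : X) (hp : IsClosed ({p} : Set X)) :
    Subsingleton (Coh.HH X (ClSub.idealMod
      (Scheme.IdealSheafData.vanishingIdeal ⟨{p}, hp⟩)) 1) := by
  haveI := Groth.Agent.Helper4.NApx82.isNoetherian_of_proper k X
  have h1 := finrank_h0_quotMod_point k p hp
  rw [finrank_residueField_eq_one' k p hp] at h1
  obtain ⟨D, hD⟩ : ∃ D, D = Scheme.IdealSheafData.vanishingIdeal ⟨{p}, hp⟩ := ⟨_, rfl⟩
  rw [← hD] at h1 ⊢
  rw [← finrank_hom_unit k] at h1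
  have hS := idealSC_shortExact D
  -- the quotient map is a nonzero vector of the line `Hom(O, O/I)`
  obtain ⟨g, hgdef⟩ : ∃ g : Coh.structureModule X ⟶ ClSub.quotMod D, g = (idealSC D).g :=
    ⟨_, rfl⟩
  haveI hepi : Epi g := by rw [hgdef]; exact hS.epi_g
  have hne : g ≠ 0 := by
    intro h0
    have hz : IsZero (ClSub.quotMod D) := IsZero.of_epi_eq_zero g h0
    have : Module.finrank k (Coh.structureModule X ⟶ ClSub.quotMod D) = 0 := by
      haveI : Subsingleton (Coh.structureModule X ⟶ ClSub.quotMod D) :=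
        ⟨fun a b => hz.eq_of_tgt a b⟩
      exact Module.finrank_zero_of_subsingleton
    omega
  have hsurj : Function.Surjective (Canon.HHlin k g 0) := by
    rw [surjective_HHlin_zero_iff]
    intro b
    obtain ⟨c, hc⟩ := (finrank_eq_one_iff_of_nonzero' g hne).1 h1 b
    refine ⟨c • 𝟙 _, ?_⟩
    rw [Linear.smul_comp, Category.id_comp]
    exact hc
  have e1 : Function.Exact (Canon.HHlin k g 0) (δ k (idealSC D) hS 0) := by
    rw [hgdef]
    exact exact_g_δ k (idealSC D) hS 0
  have e2 := exact_δ_f k (idealSC D) hS 0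
  have hzero : ∀ w : Coh.HH X (idealSC D).X₂ (0 + 1), w = 0 := fun w => hg.elim w 0
  refine ⟨fun x y => ?_⟩
  have key : ∀ x : Coh.HH X (ClSub.idealMod D) 1, x = 0 := by
    intro x
    obtain ⟨y, rfl⟩ := (e2 x).1 (hzero _)
    obtain ⟨z, rfl⟩ := hsurj y
    exact (e1 _).2 ⟨z, rfl⟩
  rw [key x, key y]

/-- S17651 in general form -/
theorem h1_tensor_idealMod_point_subsingleton [IsAlgClosed k]
    (hdim : topologicalKrullDim X ≤ 1)
    (hg : Subsingleton (Coh.HH X (Coh.structureModule X) 1))
    (E : X.Modules) (hcE : Coh.IsCoh E) (hgg : Curv2.IsGloballyGenerated E)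
    (p : X) (hp : IsClosed ({p} : Set X)) :
    Subsingleton (Coh.HH X (CohB1.tensorMod E (ClSub.idealMod
      (Scheme.IdealSheafData.vanishingIdeal ⟨{p}, hp⟩))) 1) := by
  haveI := Groth.Agent.Helper4.NApx82.isNoetherian_of_proper k X
  have hI := h1_idealMod_point_subsingleton k hg p hp
  obtain ⟨D, hD⟩ : ∃ D, D = Scheme.IdealSheafData.vanishingIdeal ⟨{p}, hp⟩ := ⟨_, rfl⟩
  rw [← hD] at hI ⊢
  haveI : Module.Finite k (Coh.HH X E 0) := Groth.Agent.S0002.result k X E hcE 0
  obtain ⟨b, σ, hspan⟩ := exists_span_of_finite k E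
  haveI hepi : Epi (secMap E σ) := epi_secMap E hgg σ hspan
  have hT := (exact_map_tensorRightMod (kerSC (secMap E σ))
    (kerSC_shortExact (secMap E σ)).exact (kerSC_shortExact (secMap E σ)).epi_g
    (ClSub.idealMod D)).2
  haveI : Epi ((DCoh.tensorRightMod (ClSub.idealMod D)).map (secMap E σ)) := hT
  have hs := HHlin_one_surjective_of_epi k hdim
    ((DCoh.tensorRightMod (ClSub.idealMod D)).map (secMap E σ))
  -- `H¹` of the source vanishes
  obtain ⟨e⟩ := Groth.Agent.Helper1.TwistExact.nonempty_sigma_tensor_iso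
    (fun _ : Fin b => Coh.structureModule X) (ClSub.idealMod D)
  haveI h2 : Subsingleton (Coh.HH X (∐ fun _ : Fin b =>
      CohB1.tensorMod (Coh.structureModule X) (ClSub.idealMod D)) 1) := by
    apply Groth.Agent.Helper1.SerreVan.subsingleton_HH_sigma _ 1
    intro _
    exact (Groth.Agent.Lead.BCField.HHlinEquiv k (unitorL (ClSub.idealMod D)) 1).toEquiv.subsingleton
  haveI h3 : Subsingleton (Coh.HH X (CohB1.tensorMod (∐ fun _ : Fin b => Coh.structureModule X)
      (ClSub.idealMod D)) 1) :=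
    (Groth.Agent.Lead.BCField.HHlinEquiv k e 1).toEquiv.subsingleton
  refine ⟨fun x y => ?_⟩
  obtain ⟨x', rfl⟩ := hs x
  obtain ⟨y', rfl⟩ := hs y
  have : x' = y' := h3.elim x' y'
  rw [this]

end H1Pt

end Groth.Agent.Helper4.SN
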