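import Mathlib
import Groth.Agent.Helper4.SN141
import Groth.Agent.Helper4.SN112
import Groth.Agent.Helper4.SN52
import Groth.Agent.Helper4.SN32
import Groth.Agent.Helper4.SN88
import Groth.Agent.Helper4.SN103
import Groth.Agent.Helper4.InvOfTensor
import Groth.Agent.Lead.CartProdA

/-!
# Powers of the ideal of a regular rational point; S7933
-/

set_option autoImplicit false
set_option linter.unusedSectionVars false
set_option linter.style.haveILetI false
universe u

open CategoryTheory CategoryTheory.Limits AlgebraicGeometry Opposite TopologicalSpace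

namespace Groth.Agent.Helper4.SN

section AlgPow

/-- the rank of `A / (g ^ n)` for a nonzerodivisor `g` -/
theorem rank_quot_span_pow {k A : Type u} [Field k] [CommRing A] [Algebra k A] (g : A)
    (hg : g ∈ nonZeroDivisors A) (n : ℕ) :
    Module.rank k (A ⧸ Ideal.span {g ^ n}) = n • Module.rank k (A ⧸ Ideal.span {g}) := by
  induction n with
  | zero =>
    rw [pow_zero, zero_smul, Ideal.span_singleton_one]
    haveI : Subsingleton (A ⧸ (⊤ : Ideal A)) := Ideal.Quotient.subsingleton_iff.mpr rfl
    exact rank_subsingleton' k _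
  | succ n ih =>
    have hle : Ideal.span {g ^ (n + 1)} ≤ Ideal.span {g ^ n} := by
      rw [Ideal.span_singleton_le_span_singleton]
      exact ⟨g, pow_succ g n⟩
    let q : (A ⧸ Ideal.span {g ^ (n + 1)}) →ₗ[k] (A ⧸ Ideal.span {g ^ n}) :=
      (Ideal.Quotient.factorₐ k hle).toLinearMap
    have hq : Function.Surjective q := Ideal.Quotient.factor_surjective hle
    have hm0 : Ideal.span {g} ≤
        Submodule.comap (LinearMap.mulLeft A (g ^ n)) (Ideal.span {g ^ (n + 1)}) := by
      intro a ha
      rw [Ideal.mem_span_singleton'] at ha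
      obtain ⟨c, rfl⟩ := ha
      rw [Submodule.mem_comap, LinearMap.mulLeft_apply, Ideal.mem_span_singleton']
      exact ⟨c, by ring⟩
    let mA : (A ⧸ Ideal.span {g}) →ₗ[A] (A ⧸ Ideal.span {g ^ (n + 1)}) :=
      Submodule.mapQ (Ideal.span {g}) (Ideal.span {g ^ (n + 1)}) (LinearMap.mulLeft A (g ^ n)) hm0
    let m : (A ⧸ Ideal.span {g}) →ₗ[k] (A ⧸ Ideal.span {g ^ (n + 1)}) := mA.restrictScalars k
    have hm_mk : ∀ a : A, m (Ideal.Quotient.mk _ a) = Ideal.Quotient.mk _ (g ^ n * a) := fun a => rfl
    have hq_mk : ∀ a : A, q (Ideal.Quotient.mk _ a) = Ideal.Quotient.mk _ a := fun a => rfl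
    have hminj : Function.Injective m := by
      rw [injective_iff_map_eq_zero]
      intro y hy
      obtain ⟨a, rfl⟩ := Ideal.Quotient.mk_surjective y
      rw [hm_mk, Ideal.Quotient.eq_zero_iff_mem, Ideal.mem_span_singleton'] at hy
      obtain ⟨c, hc⟩ := hy
      rw [Ideal.Quotient.eq_zero_iff_mem, Ideal.mem_span_singleton']
      refine ⟨c, ?_⟩
      have h1 : (c * g - a) * g ^ n = 0 := by
        have : (c * g - a) * g ^ n = c * g ^ (n + 1) - g ^ n * a := by ring
        rw [this, hc, sub_self]
      have h2 := (mul_right_mem_nonZeroDivisors_eq_zero_iff (pow_mem hg n)).mp h1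
      exact sub_eq_zero.mp h2
    have hrange : LinearMap.range m = LinearMap.ker q := by
      ext y
      constructor
      · rintro ⟨z, rfl⟩
        obtain ⟨a, rfl⟩ := Ideal.Quotient.mk_surjective z
        rw [LinearMap.mem_ker, hm_mk, hq_mk, Ideal.Quotient.eq_zero_iff_mem,
          Ideal.mem_span_singleton']
        exact ⟨a, mul_comm _ _⟩
      · intro hy
        obtain ⟨b, rfl⟩ := Ideal.Quotient.mk_surjective y
        rw [LinearMap.mem_ker, hq_mk, Ideal.Quotient.eq_zero_iff_mem,
          Ideal.mem_span_singleton'] at hy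
        obtain ⟨c, hc⟩ := hy
        refine ⟨Ideal.Quotient.mk _ c, ?_⟩
        rw [hm_mk, ← hc, mul_comm]
    have h1 := LinearMap.rank_range_add_rank_ker q
    rw [rank_range_of_surjective q hq, ← hrange, rank_range_of_injective m hminj, ih] at h1
    rw [← h1, succ_nsmul]

/-- the dimension of `A / (g ^ n)` for a nonzerodivisor `g` with `A / (g)` finite dimensional -/
theorem finrank_quot_span_pow {k A : Type u} [Field k] [CommRing A] [Algebra k A] (g : A)
    (hg : g ∈ nonZeroDivisors A) [Module.Finite k (A ⧸ Ideal.span {g})] (n : ℕ) :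
    Module.Finite k (A ⧸ Ideal.span {g ^ n}) ∧
      Module.finrank k (A ⧸ Ideal.span {g ^ n}) = n * Module.finrank k (A ⧸ Ideal.span {g}) := by
  have h := rank_quot_span_pow (k := k) g hg n
  rw [← Module.finrank_eq_rank k (A ⧸ Ideal.span {g}), nsmul_eq_mul, ← Nat.cast_mul] at h
  constructor
  · rw [← Module.rank_lt_aleph0_iff, h]
    exact Cardinal.natCast_lt_aleph0
  · exact Module.finrank_eq_of_rank_eq h

end AlgPow

section PointPow

attribute [local instance] Curv2.resAlgebra

variable {X : Scheme.{u}}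
variable (k : Type u) [Field k] [X.Over (Spec (CommRingCat.of k))]

/-- the `k`-algebra structure on the sections over an open -/
@[reducible] noncomputable def sectionAlgebra (U : X.Opens) : Algebra k Γ(X, U) :=
  ((X.presheaf.map (homOfLE (le_top : U ≤ ⊤)).op).hom.comp
    (Coh.toGlobal (X ↘ Spec (CommRingCat.of k)))).toAlgebra

/-- the global sections of `O_X / D` for an ideal sheaf supported at one point -/
theorem finrank_h0_quotMod_of_support_subset (D : X.IdealSheafData) (x : X)
    (hsupp : (D.support : Set X) ⊆ {x}) (U : X.affineOpens) (hxU : x ∈ U.1) :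
    letI := sectionAlgebra k U.1
    Module.finrank k (Coh.HH X (ClSub.quotMod D) 0) =
      Module.finrank k (Γ(X, U.1) ⧸ D.ideal U) := by
  letI := sectionAlgebra k U.1
  letI := sectModule k (ClSub.quotMod D)
  rw [(h0LinEquiv k (ClSub.quotMod D)).finrank_eq]
  have hpre : D.subschemeι ⁻¹ᵁ U.1 = ⊤ := by
    ext z
    simp only [Opens.coe_top, Set.mem_univ, iff_true]
    have hz : D.subschemeι z ∈ Set.range D.subschemeι := ⟨z, rfl⟩
    rw [Scheme.IdealSheafData.range_subschemeι] at hz
    have : D.subschemeι z = x := hsupp hz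
    show D.subschemeι z ∈ U.1
    rw [this]
    exact hxU
  have hle : D.subschemeι ⁻¹ᵁ U.1 ≤ D.subschemeι ⁻¹ᵁ ⊤ := le_top
  let j : k →+* Γ(X, U.1) :=
    (X.presheaf.map (homOfLE (le_top : U.1 ≤ ⊤)).op).hom.comp
      (Coh.toGlobal (X ↘ Spec (CommRingCat.of k)))
  let φ : Γ(X, U.1) →+* Γ(D.subscheme, D.subschemeι ⁻¹ᵁ U.1) := (D.subschemeι.app U.1).hom
  let ρ : LinSer.Sect X (ClSub.quotMod D) →+ Γ(D.subscheme, D.subschemeι ⁻¹ᵁ U.1) :=
    (D.subscheme.presheaf.map (homOfLE hle).op).hom.toAddMonoidHom
  let ev : Γ(X, U.1) →+* Γ(X, U.1) ⧸ D.ideal U := Ideal.Quotient.mk _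
  have hφ : Function.Surjective φ := D.subschemeι_app_surjective U
  have hρ : Function.Bijective ρ := by
    have hiso : IsIso (homOfLE hle) := by
      refine ⟨homOfLE ?_, Subsingleton.elim _ _, Subsingleton.elim _ _⟩
      rw [hpre]
      exact le_top
    haveI : IsIso (D.subscheme.presheaf.map (homOfLE hle).op) := inferInstance
    exact (ConcreteCategory.isIso_iff_bijective
      (D.subscheme.presheaf.map (homOfLE hle).op)).1 inferInstance
  have hev : Function.Surjective ev := Ideal.Quotient.mk_surjective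
  have hker : RingHom.ker φ = RingHom.ker ev := by
    have h1 : RingHom.ker φ = D.ideal U := D.ker_subschemeι_app U
    rw [h1]
    exact Ideal.mk_ker.symm
  refine finrank_eq_of_surjective_of_ker_eq j φ ρ ev hφ hρ hev hker ?_ ?_
  · intro c b
    change (D.subscheme.presheaf.map (homOfLE hle).op).hom
      ((D.subschemeι.app ⊤).hom (Coh.toGlobal (X ↘ Spec (CommRingCat.of k)) c) *
        (show Γ(D.subscheme, D.subschemeι ⁻¹ᵁ ⊤) from b)) = _
    rw [map_mul]
    congr 1
    have hnat := D.subschemeι.naturality (homOfLE (le_top : U.1 ≤ ⊤)).op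
    exact (congr($hnat (Coh.toGlobal (X ↘ Spec (CommRingCat.of k)) c))).symm
  · intro c y
    rw [Algebra.smul_def]
    rfl

variable [IsIntegral X] [IsProper (X ↘ (Spec (CommRingCat.of k)))]

/-- the global sections of `O_X / I_x ^ n` at an effective Cartier point -/
theorem finrank_h0_quotMod_point_pow (x : X) (hx : IsClosed ({x} : Set X))
    (hD : BlowUp.IsEffCartierIdeal (Scheme.IdealSheafData.vanishingIdeal ⟨{x}, hx⟩)) (n : ℕ) :
    Module.finrank k (Coh.HH X (ClSub.quotMod
      ((Scheme.IdealSheafData.vanishingIdeal ⟨{x}, hx⟩) ^ n)) 0) =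
      n * Module.finrank k (X.residueField x) := by
  obtain ⟨D, hDe⟩ : ∃ D, D = Scheme.IdealSheafData.vanishingIdeal ⟨{x}, hx⟩ := ⟨_, rfl⟩
  rw [← hDe] at hD ⊢
  obtain ⟨U, hxU, g, hg, hgI⟩ := hD x
  letI := sectionAlgebra k U.1
  have hsD : (D.support : Set X) ⊆ {x} := by
    rw [hDe, Scheme.IdealSheafData.coe_support_vanishingIdeal]
    exact subset_rfl
  have hsDn : ((D ^ n).support : Set X) ⊆ {x} := by
    rcases Nat.eq_zero_or_pos n with h0 | hpos
    · subst h0
      rw [pow_zero]
      intro y hy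
      exact absurd hy (by
        show y ∉ ((1 : X.IdealSheafData).support : Set X)
        change y ∉ ((⊤ : X.IdealSheafData).support : Set X)
        rw [Scheme.IdealSheafData.support_top]
        exact fun h => h)
    · rw [Scheme.IdealSheafData.support_pow D n (by omega)]
      exact hsD
  have h1 := finrank_h0_quotMod_of_support_subset k D x hsD U hxU
  have hn := finrank_h0_quotMod_of_support_subset k (D ^ n) x hsDn U hxU
  have hpt : Module.finrank k (Coh.HH X (ClSub.quotMod D) 0) =
      Module.finrank k (X.residueField x) := by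
    rw [hDe]
    exact finrank_h0_quotMod_point k x hx
  have hpos := finrank_residueField_pos k x hx
  have hidn : (D ^ n).ideal U = Ideal.span {g ^ n} := by
    show (D.ideal U) ^ n = _
    rw [hgI, Ideal.span_singleton_pow]
  rw [hn, hidn]
  rw [hgI] at h1
  haveI : Module.Finite k (Γ(X, U.1) ⧸ Ideal.span {g}) :=
    Module.finite_of_finrank_pos (by rw [← h1, hpt]; exact hpos)
  rw [(finrank_quot_span_pow (k := k) g hg n).2, ← h1, hpt]

end PointPow

section Main

attribute [local instance] Curv2.resAlgebra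

variable (k : Type u) [Field k] {C : Scheme.{u}} [C.Over (Spec (CommRingCat.of k))]
  [IsIntegral C] [IsProper (C ↘ (Spec (CommRingCat.of k)))]

/-- S7933 for a proper integral curve -/
theorem main7933 (hdim : topologicalKrullDim C = 1)
    (hpa : Curv2.euler k C (Coh.structureModule C) = 0)
    (p : C) (hp : IsClosed ({p} : Set C)) (hrat : Function.Surjective (Curv2.resMap k C p))
    (hreg : IsRegularLocalRing (C.presheaf.stalk p))
    (n : ℕ) (L : C.Modules)
    (hL : ClSub.IsInverseOf L (ClSub.idealMod ((Scheme.IdealSheafData.vanishingIdeal ⟨{p}, hp⟩) ^ n))) :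
    Module.finrank k (Coh.HH C (Coh.structureModule C) 0) = 1 ∧
      Module.finrank k (Coh.HH C (Coh.structureModule C) 1) = 1 ∧
      (n = 1 → Module.finrank k (Coh.HH C L 0) = 1) ∧
      (2 ≤ n → Module.finrank k (Coh.HH C L 0) = n) ∧
      (1 ≤ n → Subsingleton (Coh.HH C L 1)) ∧
      (2 ≤ n → Curv2.IsGloballyGenerated L) := by
  haveI := Groth.Agent.Helper4.NApx82.isNoetherian_of_proper k C
  have hκ : Module.finrank k (C.residueField p) = 1 :=
    (finrank_residueField_eq_one_iff k p).2 ⟨(Curv2.resMap k C p).injective, hrat⟩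
  have hne := ne_genericPoint_of_isClosed hdim p hp
  have hn : IsIntegrallyClosed (C.presheaf.stalk p) :=
    Groth.Agent.Helper4.RegNormal.isIntegrallyClosed_of_isRegularLocalRing _
  have hprin := isPrincipal_maximalIdeal_of_isIntegrallyClosed hdim.le p hn
  have hbot := maximalIdeal_ne_bot_of_ne_genericPoint p hne
  have hD := isEffCartierIdeal_point p hp hprin hbot
  obtain ⟨hI, hdI⟩ := ideal_point_of_normal k hdim p hp hn
  have hq := finrank_h0_quotMod_point_pow k p hp hD n
  obtain ⟨D, hDe⟩ : ∃ D, D = Scheme.IdealSheafData.vanishingIdeal ⟨{p}, hp⟩ := ⟨_, rfl⟩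
  rw [← hDe] at hD hI hdI hL hq
  rw [hκ, Nat.mul_one] at hq
  have hDn := Groth.Agent.Lead.CartProdA.isEffCartier_pow hD n
  have hO : PicF.IsInvertible (Coh.structureModule C) :=
    Groth.Agent.Helper4.TensorInv.isInvertible_structureModule
  -- `h⁰(O) = 1`
  have h0O : Module.finrank k (Coh.HH C (Coh.structureModule C) 0) = 1 := by
    obtain ⟨J, hJ, ⟨ε₁⟩, ⟨ε₂⟩⟩ := Groth.Agent.Lead.InvDual.exists_inverse (ClSub.idealMod D) hI
    have hdJ : Curv2.deg k C J 1 = 1 := by
      rw [deg_inverse k hdim.le _ J hI hJ ε₁, hdI, hκ]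
      norm_num
    haveI := mono_idealTwistι D J hJ
    have hs : ε₂.inv ≫ idealTwistι D J ≠ 0 := by
      intro h
      exact not_isZero_of_isInvertible _ hO (IsZero.of_mono_eq_zero _ h)
    exact h0_unit_eq_one_of_deg_one k hdim J hJ hdJ _ hs
  have hχO := chi_eq_h0_sub_h1 k hdim.le (Coh.structureModule C)
  have h1O : Module.finrank k (Coh.HH C (Coh.structureModule C) 1) = 1 := by
    unfold chi at hχO
    rw [hpa, h0O] at hχO
    omega
  have hg : Curv2.genus k C = 1 := h1O
  obtain ⟨eL⟩ := hL
  have hLinv : PicF.IsInvertible L :=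
    Groth.Agent.Helper4.InvOfTensor.isInvertible_of_tensor_iso L _ eL
  have hdegL : Curv2.deg k C L 1 = n := by
    have h := deg_twist_effCartier k hdim.le (D ^ n) hDn L hLinv ⟨eL⟩ 1 (Coh.structureModule C)
      (Groth.Agent.Helper4.QAffSec.isFinLocFreeOfRank_one_of_isInvertible _ hO)
    rw [deg_iso k (Groth.Agent.Lead.Ref1B.unitorL L) 1, hq, Groth.Agent.Helper4.NApx82.deg_structureModule] at h
    rw [h]
    push_cast
    ring
  have hχL := chi_eq_h0_sub_h1 k hdim.le L
  have hvan : 1 ≤ n → Subsingleton (Coh.HH C L 1) := by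
    intro hn1
    by_contra hns
    rw [not_subsingleton_iff_nontrivial] at hns
    have h := deg_le_of_h1_nontrivial k hdim h0O L hLinv hns
    rw [hdegL, hg] at h
    norm_num at h
    omega
  have hh0 : 1 ≤ n → Module.finrank k (Coh.HH C L 0) = n := by
    intro hn1
    haveI := hvan hn1
    have h1 : Module.finrank k (Coh.HH C L 1) = 0 := Module.finrank_zero_of_subsingleton
    unfold Curv2.deg at hdegL
    unfold chi at hχL
    rw [hpa, hχL, h1] at hdegL
    push_cast at hdegL
    have : (Module.finrank k (Coh.HH C L 0) : ℤ) = n := by linarith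
    exact_mod_cast this
  refine ⟨h0O, h1O, ?_, ?_, hvan, ?_⟩
  · intro hn1
    rw [hh0 (by omega), hn1]
  · intro hn2
    exact hh0 (by omega)
  · intro hn2
    apply main1533 k hdim h0O L hLinv
    rw [hg, hdegL]
    push_cast
    exact_mod_cast hn2

end Main

end Groth.Agent.Helper4.SN
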