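import Mathlib
import Groth.Agent.Helper4.SN114
import Groth.Agent.Helper4.SN112
import Groth.Agent.Helper4.SN52
import Groth.Agent.Helper4.GGSec

/-!
# Genus one curves: `h⁰(O) = 1` and global generation in degree `≥ 2`
-/

set_option autoImplicit false
set_option linter.unusedSectionVars false
set_option linter.style.haveILetI false
universe u

open CategoryTheory CategoryTheory.Limits AlgebraicGeometry Opposite TopologicalSpace

namespace Groth.Agent.Helper4.SN

section GenusOne

variable (k : Type u) [Field k] {X : Scheme.{u}} [X.Over (Spec (CommRingCat.of k))]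
  [IsIntegral X] [IsProper (X ↘ (Spec (CommRingCat.of k)))]

/-- `0 < h⁰(O)` on a nonempty proper scheme -/
theorem h0_unit_pos : 0 < Module.finrank k (Coh.HH X (Coh.structureModule X) 0) := by
  haveI := Groth.Agent.Helper4.NApx82.isNoetherian_of_proper k X
  have hOinv : PicF.IsInvertible (Coh.structureModule X) :=
    Groth.Agent.Helper4.TensorInv.isInvertible_structureModule
  have hcO := Groth.Agent.Helper1.SerreFin.isCoh_of_isInvertible _ hOinv
  haveI : Module.Finite k (Coh.HH X (Coh.structureModule X) 0) :=
    Groth.Agent.S0002.result k X _ hcO 0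
  haveI : Nontrivial (Coh.HH X (Coh.structureModule X) 0) := by
    rw [← not_subsingleton_iff_nontrivial]
    intro hsub
    have h0 := eq_zero_of_subsingleton_H0 _ hsub (𝟙 (Coh.structureModule X))
    exact not_isZero_of_isInvertible _ hOinv ((IsZero.iff_id_eq_zero _).2 h0)
  exact Module.finrank_pos

/-- an integral proper curve with `h¹(O) = 1` has `h⁰(O) = 1` -/
theorem h0_unit_eq_one_of_genus_one (hdim : topologicalKrullDim X = 1)
    (hg : Curv2.genus k X = 1) :
    Module.finrank k (Coh.HH X (Coh.structureModule X) 0) = 1 := by
  have hOinv : PicF.IsInvertible (Coh.structureModule X) :=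
    Groth.Agent.Helper4.TensorInv.isInvertible_structureModule
  have h1 : Nontrivial (Coh.HH X (Coh.structureModule X) 1) := by
    apply Module.nontrivial_of_finrank_pos (R := k)
    have : Module.finrank k (Coh.HH X (Coh.structureModule X) 1) = 1 := hg
    omega
  have hle := h0_le_genus_of_h1_nontrivial_invertible k hdim _ hOinv h1
  have hpos := h0_unit_pos k (X := X)
  omega

/-- invertible modules of degree `≥ 2` on a genus one curve are globally generated -/
theorem isGloballyGenerated_of_genus_one (hdim : topologicalKrullDim X = 1)
    (hg : Curv2.genus k X = 1) (L : X.Modules) (hL : PicF.IsInvertible L)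
    (hdeg : 2 ≤ Curv2.deg k X L 1) : Curv2.IsGloballyGenerated L := by
  apply main1533 k hdim (h0_unit_eq_one_of_genus_one k hdim hg) L hL
  rw [hg]
  exact_mod_cast hdeg

end GenusOne

end Groth.Agent.Helper4.SN
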