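import Mathlib
import Groth.Agent.Helper4.SN103
import Groth.Agent.Helper4.SN112
import Groth.Agent.Helper4.SN63
import Groth.Agent.Helper4.SN52
import Groth.Agent.Helper4.SN139
import Groth.Agent.Helper2.SmoothDense
import Groth.Agent.Lead.IdealModDict

/-!
# Genus zero curves over an algebraically closed field are smooth (S14512)
-/

set_option autoImplicit false
set_option linter.unusedSectionVars false
set_option linter.style.haveILetI false
universe u

open CategoryTheory CategoryTheory.Limits AlgebraicGeometry Opposite TopologicalSpace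

namespace Groth.Agent.Helper4.SN

open Groth.Agent.Helper4.NApx82 Groth.Agent.Helper4.StalkDict Groth.Agent.Lead.Ref1B
  Groth.Agent.Lead.StalkNhd Groth.Agent.Helper4.TensorInv

section GenusZero

attribute [local instance] Curv2.resAlgebra

variable (k : Type u) [Field k] {X : Scheme.{u}} [X.Over (Spec (CommRingCat.of k))]
  [IsIntegral X] [IsProper (X ↘ (Spec (CommRingCat.of k)))]

/-- a generically surjective monomorphism of coherent modules on a proper integral curve -/
theorem hom_main_coh (hdim : topologicalKrullDim X = 1) (N M : X.Modules)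
    (hcN : Coh.IsCoh N) (hcM : Coh.IsCoh M) (φ : N ⟶ M) [Mono φ]
    (hgen : Function.Surjective (stalkLin φ (genericPoint X))) :
    Curv2.euler k X M = Curv2.euler k X N + (Module.finrank k (Coh.HH X (cokernel φ) 0) : ℤ) ∧
      (Module.finrank k (Coh.HH X (cokernel φ) 0) = 0 → IsIso φ) := by
  haveI := isNoetherian_of_proper k X
  have hcQ : Coh.IsCoh (cokernel φ) := Groth.Agent.Lead.PerfLib.isCoh_cokernel hcN hcM φ
  have hξ : Subsingleton ((cokernel φ).presheaf.stalk (genericPoint X)) :=
    subsingleton_stalk_cokernel φ _ hgen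
  obtain ⟨hpt, hdisc⟩ := closed_points_of_generic_zero k X hdim (cokernel φ) hcQ hξ
  refine ⟨?_, ?_⟩
  · rw [← euler_eq_finrank_h0 k X (cokernel φ) hcQ hpt]
    exact NApx80.euler_additive k X (Groth.Agent.Helper1.Dev.cokSC φ)
      (Groth.Agent.Helper1.Dev.cokSC_shortExact φ) hcN hcM hcQ
  · intro h0
    haveI : Module.Finite k (Coh.HH X (cokernel φ) 0) := Groth.Agent.S0002.result k X _ hcQ 0
    have hsub : Subsingleton (Coh.HH X (cokernel φ) 0) := Module.finrank_zero_iff.1 h0
    have hΓ : Subsingleton Γ(cokernel φ, ⊤) :=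
      (Groth.Agent.Lead.ProperFinA.h0Equiv (cokernel φ)).symm.injective.subsingleton
    have hcl : IsClosed (CohB1.support (cokernel φ)) := Groth.Agent.S0020.result X _ hcQ.2
    haveI := hdisc
    have hepi := Groth.Agent.Lead.ZeroDimGG.epi_canFree_of_discrete_support (cokernel φ) hcl
    have hz : IsZero (cokernel φ) :=
      isZero_of_epi_free (cokernel φ) hΓ (Groth.Agent.Lead.GlobGen.canFree (cokernel φ)) hepi
    haveI : Epi φ := Preadditive.epi_of_isZero_cokernel φ hz
    exact isIso_of_mono_of_epi φ

/-- on a genus zero curve over an algebraically closed field, the ideal of every closed point is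
isomorphic to the inverse of any invertible module of degree one -/
theorem idealMod_point_iso_of_genus_zero [IsAlgClosed k] (hdim : topologicalKrullDim X = 1)
    (hg : Curv2.genus k X = 0) (L J : X.Modules) (hL : PicF.IsInvertible L)
    (hdL : Curv2.deg k X L 1 = 1) (eL : CohB1.tensorMod L J ≅ Coh.structureModule X)
    (Q : X) (hQ : IsClosed ({Q} : Set X)) :
    Nonempty (ClSub.idealMod (Scheme.IdealSheafData.vanishingIdeal ⟨{Q}, hQ⟩) ≅ J) := by
  haveI := isNoetherian_of_proper k X
  have hO : PicF.IsInvertible (Coh.structureModule X) := isInvertible_structureModule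
  have hcO := Groth.Agent.Helper1.SerreFin.isCoh_of_isInvertible _ hO
  have h0O := finrank_h0_unit_of_isAlgClosed k (X := X)
  have hχO : Curv2.euler k X (Coh.structureModule X) = 1 := by
    have h := chi_eq_h0_sub_h1 k hdim.le (Coh.structureModule X)
    unfold chi at h
    have hg' : Module.finrank k (Coh.HH X (Coh.structureModule X) 1) = 0 := hg
    rw [h, h0O, hg']
    norm_num
  have hne := ne_genericPoint_of_isClosed hdim Q hQ
  have hκ := finrank_residueField_eq_one k Q hQ
  have hq0 := finrank_h0_quotMod_point k Q hQ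
  have hsurjη := stalkLin_idealModι_surjective Q hQ (genericPoint X) (Ne.symm hne)
  obtain ⟨D, hD⟩ : ∃ D, D = Scheme.IdealSheafData.vanishingIdeal ⟨{Q}, hQ⟩ := ⟨_, rfl⟩
  rw [← hD] at hq0 hsurjη ⊢
  have hcQ : Coh.IsCoh (ClSub.quotMod D) := isCoh_quotMod D
  have hcI : Coh.IsCoh (ClSub.idealMod D) := Groth.Agent.Lead.PerfLib.isCoh_kernel hcO hcQ _
  -- `χ(I) = 0`
  have hχI : Curv2.euler k X (ClSub.idealMod D) = 0 := by
    have hadd := NApx80.euler_additive k X (idealSC D) (idealSC_shortExact D) hcI hcO hcQ
    have hsupp : CohB1.support (ClSub.quotMod D) ⊆ ({Q} : Set X) := by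
      refine (support_quotMod_subset D).trans ?_
      rw [hD, Scheme.IdealSheafData.coe_support_vanishingIdeal]
      exact subset_rfl
    have hχQ := euler_eq_finrank_h0 k X (ClSub.quotMod D) hcQ (fun x hx => by
      rw [Set.mem_singleton_iff.1 (hsupp hx)]; exact hQ)
    change Curv2.euler k X (Coh.structureModule X) =
      Curv2.euler k X (ClSub.idealMod D) + Curv2.euler k X (ClSub.quotMod D) at hadd
    rw [hχQ, hq0, hκ, hχO] at hadd
    push_cast at hadd
    linarith
  -- generic rank of `I`
  have hrk : Module.finrank (X.presheaf.stalk (genericPoint X))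
      ((ClSub.idealMod D).presheaf.stalk (genericPoint X)) = 1 := by
    have hinj := Groth.Agent.Helper4.StalkExact.stalkLin_injective (ClSub.idealModι D)
      (genericPoint X)
    rw [(LinearEquiv.ofBijective (stalkLin (ClSub.idealModι D) (genericPoint X))
      ⟨hinj, hsurjη⟩).finrank_eq]
    exact finrank_generic_of_isInvertible (Coh.structureModule X) hO
  -- `χ(I ⊗ L) = 1`
  have hχM : Curv2.euler k X (CohB1.tensorMod (ClSub.idealMod D) L) = 1 := by
    rw [euler_twist k hdim L hL (ClSub.idealMod D) hcI, hrk, hdL, hχI]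
    norm_num
  have hcL := Groth.Agent.Helper1.SerreFin.isCoh_of_isInvertible L hL
  have hcM : Coh.IsCoh (CohB1.tensorMod (ClSub.idealMod D) L) :=
    Groth.Agent.Lead.Ref1B.isCoh_tensorMod _ _ hcI hcL
  -- a nonzero section of `I ⊗ L`
  obtain ⟨s, hs⟩ : ∃ s : Coh.structureModule X ⟶ CohB1.tensorMod (ClSub.idealMod D) L,
      s ≠ 0 := by
    have hχ := chi_eq_h0_sub_h1 k hdim.le (CohB1.tensorMod (ClSub.idealMod D) L)
    unfold chi at hχ
    rw [hχM] at hχ
    have hpos : 0 < Module.finrank k (Coh.HH X (CohB1.tensorMod (ClSub.idealMod D) L) 0) := by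
      omega
    rw [← finrank_hom_unit] at hpos
    haveI := Module.nontrivial_of_finrank_pos hpos
    exact exists_ne 0
  -- it is a generically surjective monomorphism
  haveI hmj := mono_idealTwistι D L hL
  have hsj : s ≫ idealTwistι D L ≠ 0 := by
    intro h
    exact hs (zero_of_comp_mono (idealTwistι D L) h)
  haveI hmsj : Mono (s ≫ idealTwistι D L) := NApx81.mono_of_ne_zero _ hO hL hsj
  have hsurj := NApx81.stalkLin_surjective_genericPoint (s ≫ idealTwistι D L) hO hL hsj
  haveI hms : Mono s := mono_of_mono s (idealTwistι D L)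
  have hgen : Function.Surjective (stalkLin s (genericPoint X)) := by
    intro m
    obtain ⟨a, ha⟩ := hsurj (stalkLin (idealTwistι D L) (genericPoint X) m)
    refine ⟨a, ?_⟩
    apply Groth.Agent.Helper4.StalkExact.stalkLin_injective (idealTwistι D L) (genericPoint X)
    rw [← ha, Groth.Agent.Lead.StalkNhd.stalkLin_comp]
  obtain ⟨h1, h2⟩ := hom_main_coh k hdim _ _ hcO hcM s hgen
  rw [hχM, hχO] at h1
  haveI : IsIso s := h2 (by omega)
  -- conclude
  have e1 : CohB1.tensorMod (ClSub.idealMod D) L ≅ Coh.structureModule X := (asIso s).symm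
  have e2 : CohB1.tensorMod J L ≅ Coh.structureModule X := braid J L ≪≫ eL
  exact nonempty_iso_of_inverse (ClSub.idealMod D) J L J e1 e2 eL

end GenusZero

section RegPt

variable {X : Scheme.{u}} [IsIntegral X] [IsLocallyNoetherian X]

/-- if the ideal of a closed point (not the generic point) is invertible, the local ring there is
regular -/
theorem isRegularLocalRing_of_isInvertible_idealMod_point (Q : X) (hQ : IsClosed ({Q} : Set X))
    (h : PicF.IsInvertible (ClSub.idealMod (Scheme.IdealSheafData.vanishingIdeal ⟨{Q}, hQ⟩))) :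
    IsRegularLocalRing (X.presheaf.stalk Q) := by
  have hD := Groth.Agent.Lead.IdealModDict.isEffCartierIdeal_of_isInvertible _ h
  obtain ⟨W, hQW, g, hg, hgI⟩ := hD Q
  rw [vanishingIdeal_point_ideal Q hQ W hQW] at hgI
  letI alg : Algebra Γ(X, W.1) (X.presheaf.stalk Q) :=
    TopCat.Presheaf.algebra_section_stalk X.presheaf (⟨Q, hQW⟩ : W.1)
  haveI hloc : IsLocalization.AtPrime (X.presheaf.stalk Q) (W.2.primeIdealOf ⟨Q, hQW⟩).asIdeal :=
    W.2.isLocalization_stalk ⟨Q, hQW⟩
  have hmap : Ideal.map (algebraMap Γ(X, W.1) (X.presheaf.stalk Q))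
      (W.2.primeIdealOf ⟨Q, hQW⟩).asIdeal = IsLocalRing.maximalIdeal (X.presheaf.stalk Q) :=
    IsLocalization.AtPrime.map_eq_maximalIdeal _ _
  have hprin : (IsLocalRing.maximalIdeal (X.presheaf.stalk Q)).IsPrincipal := by
    rw [← hmap, hgI, Ideal.map_span, Set.image_singleton]
    exact ⟨⟨_, rfl⟩⟩
  haveI : IsPrincipalIdealRing (X.presheaf.stalk Q) :=
    ((tfae_of_isNoetherianRing_of_isLocalRing_of_isDomain
      (X.presheaf.stalk Q)).out 4 0).1 hprin
  infer_instance

end RegPt

section Exists

variable (k : Type u) [Field k] {X : Scheme.{u}} [X.Over (Spec (CommRingCat.of k))]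
  [IsIntegral X] [IsProper (X ↘ (Spec (CommRingCat.of k)))]

/-- a proper integral scheme over a perfect field has a regular closed point -/
theorem exists_regular_closedPoint [PerfectField k] :
    ∃ P : X, IsClosed ({P} : Set X) ∧ IsRegularLocalRing (X.presheaf.stalk P) := by
  haveI := isNoetherian_of_proper k X
  haveI : JacobsonSpace X := LocallyOfFiniteType.jacobsonSpace (X ↘ Spec (CommRingCat.of k))
  have hd := Groth.Agent.Helper2.SmoothDense.dense_smoothLocus k X (X ↘ Spec (CommRingCat.of k))
  have hne : ((X ↘ Spec (CommRingCat.of k)).smoothLocus : Set X).Nonempty := hd.nonempty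
  obtain ⟨P, hP, hPc⟩ := nonempty_inter_closedPoints hne
    (X ↘ Spec (CommRingCat.of k)).smoothLocus.isOpen.isLocallyClosed
  exact ⟨P, hPc, (Groth.Agent.Helper2.SmoothDense.mem_smoothLocus_iff_regular k X _ P).1 hP⟩

end Exists

section Main

attribute [local instance] Curv2.resAlgebra

variable (k : Type u) [Field k] {X : Scheme.{u}} [X.Over (Spec (CommRingCat.of k))]
  [IsIntegral X] [IsProper (X ↘ (Spec (CommRingCat.of k)))]

/-- S14512: an integral proper curve of genus zero over an algebraically closed field is smooth -/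
theorem main14512 [IsAlgClosed k] (hdim : topologicalKrullDim X = 1)
    (hg : Curv2.genus k X = 0) : Smooth (X ↘ Spec (CommRingCat.of k)) := by
  haveI := isNoetherian_of_proper k X
  obtain ⟨P, hP, hPreg⟩ := exists_regular_closedPoint k (X := X)
  have hn : IsIntegrallyClosed (X.presheaf.stalk P) :=
    Groth.Agent.Helper4.RegNormal.isIntegrallyClosed_of_isRegularLocalRing _
  have hne := ne_genericPoint_of_isClosed hdim P hP
  have hprin := isPrincipal_maximalIdeal_of_isIntegrallyClosed hdim.le P hn
  have hbot := maximalIdeal_ne_bot_of_ne_genericPoint P hne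
  obtain ⟨L, hL, hdeg, ⟨eL⟩⟩ := exists_invertible_deg_point k hdim.le P hP hprin hbot
  rw [finrank_residueField_eq_one k P hP] at hdeg
  have hJ : PicF.IsInvertible
      (ClSub.idealMod (Scheme.IdealSheafData.vanishingIdeal ⟨{P}, hP⟩)) :=
    Groth.Agent.Lead.IdealModDict.isInvertible_of_isEffCartierIdeal _
      (isEffCartierIdeal_point P hP hprin hbot)
  have hreg : ∀ x : X, IsRegularLocalRing (X.presheaf.stalk x) := by
    intro x
    by_cases hx : x = genericPoint X
    · subst hx
      letI : Field (X.presheaf.stalk (genericPoint X)) := inferInstanceAs (Field X.functionField)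
      infer_instance
    · have hxc := Groth.Agent.Helper5.ConstrCurve.isClosed_singleton_of_ne hdim.le x hx
      obtain ⟨e⟩ := idealMod_point_iso_of_genus_zero k hdim hg L _ hL (by exact_mod_cast hdeg)
        eL x hxc
      exact isRegularLocalRing_of_isInvertible_idealMod_point x hxc
        (Groth.Agent.Helper4.AmpleIso.isInvertible_of_iso e.symm hJ)
  rw [← Scheme.Hom.smoothLocus_eq_top_iff]
  ext x
  simp only [Opens.coe_top, Set.mem_univ, iff_true, SetLike.mem_coe]
  exact (Groth.Agent.Helper2.SmoothDense.mem_smoothLocus_iff_regular k X _ x).2 (hreg x)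

end Main

end Groth.Agent.Helper4.SN
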