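import Mathlib
import Groth.Agent.Helper4.SN146
import Groth.Agent.Helper4.SN139
import Groth.Agent.Helper4.SN74

/-!
# The ideal of a closed point on a reduced curve: torsion free, rank one, degree `-1` (S15922)
-/

set_option autoImplicit false
set_option linter.unusedSectionVars false
set_option linter.style.haveILetI false
universe u

open CategoryTheory CategoryTheory.Limits AlgebraicGeometry Opposite TopologicalSpace

namespace Groth.Agent.Helper4.SN

open Groth.Agent.Helper4.NApx82 Groth.Agent.Helper4.StalkDict Groth.Agent.Lead.Ref1B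
  Groth.Agent.Lead.StalkNhd Groth.Agent.Helper4.TensorInv

section PtIdeal

attribute [local instance] Curv2.resAlgebra

variable {X : Scheme.{u}}

/-- the stalks of the structure module have rank one -/
theorem finrank_stalk_structureModule (x : X) :
    Module.finrank (X.presheaf.stalk x) ((Coh.structureModule X).presheaf.stalk x) = 1 := by
  have hB : PicF.IsInvertible (Coh.structureModule X) := isInvertible_structureModule
  obtain ⟨T, e, hxT, -, hf, -⟩ :=
    Groth.Agent.Helper4.AmpleFinite.exists_chart_forall (Coh.structureModule X) hB x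
  let ε : X.presheaf.stalk x ≃ₗ[X.presheaf.stalk x] (Coh.structureModule X).presheaf.stalk x :=
    LinearEquiv.ofBijective _ (toSpanSingleton_germ_bijective (Coh.structureModule X) T e hf x hxT)
  rw [← ε.finrank_eq]
  exact Module.finrank_self _

/-- the ideal of a closed subscheme is torsion free -/
theorem isTorsionFree_idealMod (D : X.IdealSheafData) : TorSh.IsTorsionFree (ClSub.idealMod D) := by
  intro x
  have hinj := Groth.Agent.Helper4.StalkExact.stalkLin_injective (ClSub.idealModι D) x
  have hB : PicF.IsInvertible (Coh.structureModule X) := isInvertible_structureModule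
  obtain ⟨T, e, hxT, -, hf, -⟩ :=
    Groth.Agent.Helper4.AmpleFinite.exists_chart_forall (Coh.structureModule X) hB x
  let ε : X.presheaf.stalk x ≃ₗ[X.presheaf.stalk x] (Coh.structureModule X).presheaf.stalk x :=
    LinearEquiv.ofBijective _ (toSpanSingleton_germ_bijective (Coh.structureModule X) T e hf x hxT)
  exact Function.Injective.moduleIsTorsionFree
    (fun m => ε.symm (stalkLin (ClSub.idealModι D) x m))
    (ε.symm.injective.comp hinj) (fun r m => by rw [map_smul, map_smul])

variable (k : Type u) [Field k] [X.Over (Spec (CommRingCat.of k))]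
  [IsProper (X ↘ (Spec (CommRingCat.of k)))]

/-- the degree of the ideal of a closed point over an algebraically closed field -/
theorem deg_idealMod_point [IsAlgClosed k] (P : X) (hP : IsClosed ({P} : Set X)) :
    Curv2.deg k X (ClSub.idealMod (Scheme.IdealSheafData.vanishingIdeal ⟨{P}, hP⟩)) 1 = -1 := by
  haveI := isNoetherian_of_proper k X
  have hO : PicF.IsInvertible (Coh.structureModule X) := isInvertible_structureModule
  have hcO := Groth.Agent.Helper1.SerreFin.isCoh_of_isInvertible _ hO
  have hκ := finrank_residueField_eq_one' k P hP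
  have hq0 := finrank_h0_quotMod_point k P hP
  obtain ⟨D, hD⟩ : ∃ D, D = Scheme.IdealSheafData.vanishingIdeal ⟨{P}, hP⟩ := ⟨_, rfl⟩
  rw [← hD] at hq0 ⊢
  have hcQ : Coh.IsCoh (ClSub.quotMod D) := isCoh_quotMod D
  have hcI : Coh.IsCoh (ClSub.idealMod D) := Groth.Agent.Lead.PerfLib.isCoh_kernel hcO hcQ _
  have hadd := NApx80.euler_additive k X (idealSC D) (idealSC_shortExact D) hcI hcO hcQ
  have hsupp : CohB1.support (ClSub.quotMod D) ⊆ ({P} : Set X) := by
    refine (support_quotMod_subset D).trans ?_
    rw [hD, Scheme.IdealSheafData.coe_support_vanishingIdeal]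
    exact subset_rfl
  have hχQ := euler_eq_finrank_h0 k X (ClSub.quotMod D) hcQ (fun x hx => by
    rw [Set.mem_singleton_iff.1 (hsupp hx)]; exact hP)
  change Curv2.euler k X (Coh.structureModule X) =
    Curv2.euler k X (ClSub.idealMod D) + Curv2.euler k X (ClSub.quotMod D) at hadd
  rw [hχQ, hq0, hκ] at hadd
  unfold Curv2.deg
  push_cast at hadd ⊢
  linarith

end PtIdeal

end Groth.Agent.Helper4.SN
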