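import Mathlib
import Groth.Agent.Helper4.SN157
import Groth.Agent.Helper4.SN32
import Groth.Agent.Helper4.NApx80
import Groth.Prelude.Def_W4c5asymptcohfnACF

/-!
# Top asymptotic cohomology of a big invertible module vanishes (S17626)
-/

set_option autoImplicit false
set_option linter.unusedSectionVars false
set_option linter.style.haveILetI false
universe u

open CategoryTheory CategoryTheory.Limits AlgebraicGeometry Opposite TopologicalSpace
open scoped ENNReal

namespace Groth.Agent.Helper4.SN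

open Groth.Agent.Helper4.NApx82 Groth.Agent.Helper4.StalkDict Groth.Agent.Lead.Ref1B
  Groth.Agent.Lead.StalkNhd Groth.Agent.Helper4.TensorInv Groth.Agent.Helper4.TensorAssoc
  Groth.Agent.Helper1.Dev

section Numeric

theorem conv_real_limsup (n : ℕ) (h : ℕ → ℕ)
    (H : 0 < Filter.limsup (fun m : ℕ => (h m : ℝ) * (n.factorial : ℝ) / (m : ℝ) ^ n)
      Filter.atTop) :
    ∃ a : ℕ, ∃ᶠ m : ℕ in Filter.atTop, m ^ n ≤ a * h m := by
  have hcob : Filter.IsCoboundedUnder (· ≤ ·) Filter.atTop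
      (fun m : ℕ => (h m : ℝ) * (n.factorial : ℝ) / (m : ℝ) ^ n) :=
    Filter.isCoboundedUnder_le_of_le Filter.atTop (x := 0) (fun m => by positivity)
  obtain ⟨c, hc0, hc⟩ := exists_between H
  have hfr := Filter.frequently_lt_of_lt_limsup hcob hc
  obtain ⟨a, ha⟩ := exists_nat_gt ((n.factorial : ℝ) / c)
  refine ⟨a, (hfr.and_eventually (Filter.eventually_ge_atTop 1)).mono fun m hm => ?_⟩
  obtain ⟨hm1, hm2⟩ := hm
  have hmpos : (0 : ℝ) < (m : ℝ) ^ n := by
    have : (0 : ℝ) < m := by exact_mod_cast hm2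
    positivity
  rw [lt_div_iff₀ hmpos] at hm1
  have h1 : (m : ℝ) ^ n ≤ (n.factorial : ℝ) / c * (h m : ℝ) := by
    rw [div_mul_eq_mul_div, le_div_iff₀ hc0]
    linarith
  have h2 : (n.factorial : ℝ) / c * (h m : ℝ) ≤ a * h m :=
    mul_le_mul_of_nonneg_right ha.le (by positivity)
  have : ((m ^ n : ℕ) : ℝ) ≤ ((a * h m : ℕ) : ℝ) := by
    push_cast
    linarith
  exact_mod_cast this

end Numeric

section Pre

/-- for a big `L`, all large powers of `L` contain large powers of the ample `H` -/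
theorem exists_gsurj_pow_of_forall_ample (k : Type u) [Field k] {X : Scheme.{u}}
    [X.Over (Spec (CommRingCat.of k))] [IsIntegral X] (H : X.Modules)
    (hH : CohB1.IsAmple H) (L : X.Modules) (hL : PicF.IsInvertible L)
    (hbig : ∀ A : X.Modules, CohB1.IsAmple A →
      ∃ (m : ℕ) (φ : A ⟶ CohB1.tensorPow L m), 0 < m ∧ Mono φ) (j₀ : ℕ) :
    ∃ m₀ : ℕ, ∀ m, m₀ ≤ m → ∃ (j : ℕ) (ψ : CohB1.tensorPow H j ⟶ CohB1.tensorPow L m),
      j₀ ≤ j ∧ GSurj ψ := by
  obtain ⟨m₁, hm₁⟩ := main17587 k X H hH L hL hbig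
  obtain ⟨ν, φ, hν, hφm⟩ := hbig H hH
  have hφ : GSurj φ := GSurj.of_mono hH.1 (isInvertible_tensorPow hL ν) φ
  refine ⟨ν * (j₀ + 1) + m₁ + ν, fun n hn => ?_⟩
  set j := (n - m₁) / ν with hj
  have hdm := Nat.div_add_mod (n - m₁) ν
  have hmod := Nat.mod_lt (n - m₁) hν
  rw [← hj] at hdm
  have hj₀ : j₀ + 1 ≤ j := by
    rw [hj, Nat.le_div_iff_mul_le hν]
    have : ν * (j₀ + 1) ≤ n - m₁ := by omega
    rw [mul_comm]; exact this
  obtain ⟨r, hr⟩ : ∃ r, ν * j + r = n := ⟨n - ν * j, by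
    have : ν * j ≤ n := by omega
    omega⟩
  have hr1 : m₁ ≤ r := by omega
  obtain ⟨s, hs⟩ : GS (CohB1.tensorPow L r) :=
    GS_of_nontrivial (isInvertible_tensorPow hL r) (hm₁ r hr1)
  refine ⟨j, powMap φ j ≫ (powMulIso L hL ν j).hom ≫
    (SecTwist.unitorR (CohB1.tensorPow L (ν * j))).inv ≫
      KoszTw.tensorMap (𝟙 (CohB1.tensorPow L (ν * j))) s ≫ (powAddIso L hL (ν * j) r).hom ≫
      (powCastIso L hr).hom, by omega, ?_⟩
  exact (hφ.powMap j).comp ((GSurj.of_isIso _).comp ((GSurj.of_isIso _).comp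
    (((GSurj.id _).tensorMap hs).comp ((GSurj.of_isIso _).comp (GSurj.of_isIso _)))))

end Pre

section Top

/-- the top cohomology of large powers of a big invertible module vanishes -/
theorem eventually_subsingleton_top_of_forall_ample (k : Type u) [Field k] {X : Scheme.{u}}
    [X.Over (Spec (CommRingCat.of k))]
    [IsProper (X ↘ (Spec (CommRingCat.of k)))] [IsIntegral X] (n : ℕ) (hn : topologicalKrullDim X = n)
    (hn1 : 1 ≤ n) (H : X.Modules)
    (hH : CohB1.IsAmple H) (L : X.Modules) (hL : PicF.IsInvertible L)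
    (hbig : ∀ A : X.Modules, CohB1.IsAmple A →
      ∃ (m : ℕ) (φ : A ⟶ CohB1.tensorPow L m), 0 < m ∧ Mono φ) :
    ∃ m₀ : ℕ, ∀ m, m₀ ≤ m → Subsingleton (Coh.HH X (CohB1.tensorPow L m) n) := by
  haveI := Groth.Agent.Helper4.NApx82.isNoetherian_of_proper k X
  have hO : Coh.IsCoh (Coh.structureModule X) := isCoh_structureModule X
  obtain ⟨j₀, hj₀⟩ := Groth.Agent.Helper1.SV.serre_vanishing k (X ↘ Spec (CommRingCat.of k)) hH
    (Coh.structureModule X) hO
  obtain ⟨m₀, hm₀⟩ := exists_gsurj_pow_of_forall_ample k H hH L hL hbig j₀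
  refine ⟨m₀, fun m hm => ?_⟩
  obtain ⟨j, ψ, hj, hψ⟩ := hm₀ m hm
  have hHj := isInvertible_tensorPow hH.1 j
  have hLm := isInvertible_tensorPow hL m
  have hcH := Groth.Agent.Helper1.SerreFin.isCoh_of_isInvertible _ hHj
  have hcL := Groth.Agent.Helper1.SerreFin.isCoh_of_isInvertible _ hLm
  haveI : Mono ψ := hψ.mono hHj hLm
  have hQ : Coh.IsCoh (cokernel ψ) := Groth.Agent.Lead.PerfLib.isCoh_cokernel hcH hcL ψ
  have hgen : Subsingleton ((cokernel ψ).presheaf.stalk (genericPoint X)) :=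
    subsingleton_stalk_cokernel ψ _ hψ
  have hdX : DimLT (Set.univ : Set X) (n + 1) := dimLT_of_dim_le n hn.le _
  have hdQ : DimLT (CohB1.support (cokernel ψ)) n :=
    hdX.of_lt (IrreducibleSpace.isIrreducible_univ X) isClosed_univ (Set.subset_univ _)
      ⟨genericPoint X, Set.mem_univ _, fun hcon => hcon hgen⟩
  have h3 : Subsingleton (Coh.HH X (cokSC ψ).X₃ n) :=
    subsingleton_HH_of_dimLT_support _ (Groth.Agent.S0020.result _ _ hQ.2) n hdQ n le_rfl
  have h1 : Subsingleton (Coh.HH X (cokSC ψ).X₁ n) := by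
    haveI := hj₀ j hj n hn1
    exact (Groth.Agent.Helper1.ProjTop.HHlinEquiv k
      (unitorL (CohB1.tensorPow H j)) n).symm.toEquiv.subsingleton
  have hex := Groth.Agent.Helper4.NApx80.exact_f_g k (cokSC ψ) (cokSC_shortExact ψ) n
  refine ⟨fun x y => ?_⟩
  have key : ∀ z : Coh.HH X (cokSC ψ).X₂ n, z = 0 := by
    intro z
    obtain ⟨w, hw⟩ := (hex z).1 (Subsingleton.elim _ _)
    rw [← hw, Subsingleton.elim w 0, map_zero]
  exact (key x).trans (key y).symm

/-- S17626 -/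
theorem main17626 (k : Type u) [Field k] (X : Scheme.{u})
    [X.Over (Spec (CommRingCat.of k))] [IsIntegral X]
    [IsProper (X ↘ Spec (CommRingCat.of k))] (hproj : ∃ A : X.Modules, CohB1.IsAmple A)
    (n : ℕ) (hn : topologicalKrullDim X = n) (hn1 : 1 ≤ n)
    (L : X.Modules) (hL : PicF.IsInvertible L) (hbig : 0 < W4c5asymptcohfn.hhat k X n 0 L) :
    W4c5asymptcohfn.hhat k X n n L = 0 := by
  obtain ⟨H, hH⟩ := hproj
  have hfreq := conv_real_limsup n _ hbig
  obtain ⟨m₀, hm₀⟩ := eventually_subsingleton_top_of_forall_ample k n hn hn1 H hH L hL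
    (fun A' hA' => forall_ample_of_frequently k n hn H hH L hL hfreq A' hA'.1)
  unfold W4c5asymptcohfn.hhat
  have hcongr : ∀ᶠ m : ℕ in Filter.atTop,
      (Module.finrank k (Coh.HH X (CohB1.tensorPow L m) n) : ℝ) * (n.factorial : ℝ) /
        (m : ℝ) ^ n = (0 : ℝ) := by
    refine (Filter.eventually_ge_atTop m₀).mono fun m hm => ?_
    haveI := hm₀ m hm
    rw [Module.finrank_zero_of_subsingleton]
    simp
  rw [Filter.limsup_congr hcongr]
  exact Filter.limsup_const 0

end Top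

end Groth.Agent.Helper4.SN
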