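import Mathlib
import Groth.Agent.Helper4.SN157
import Groth.Prelude.Def_NumR

/-!
# The big cone is the sum of the ample and the effective cone (S19739)
-/

set_option autoImplicit false
set_option linter.unusedSectionVars false
set_option linter.style.haveILetI false
universe u

open CategoryTheory CategoryTheory.Limits AlgebraicGeometry Opposite TopologicalSpace

namespace Groth.Agent.Helper4.SN

open Groth.Agent.Helper4.NApx82 Groth.Agent.Helper4.StalkDict Groth.Agent.Lead.Ref1B
  Groth.Agent.Lead.StalkNhd Groth.Agent.Helper4.TensorInv Groth.Agent.Helper4.TensorAssoc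
  Groth.Agent.Helper1.Dev

section Classes

variable {k : Type u} [Field k] {X : Scheme.{u}} [X.Over (Spec (CommRingCat.of k))] [PicGrp.Law X]

theorem cls_tensorMod {A B : X.Modules} (hA : PicF.IsInvertible A) (hB : PicF.IsInvertible B)
    (hAB : PicF.IsInvertible (CohB1.tensorMod A B)) :
    PicGrp.cls (CohB1.tensorMod A B) hAB = PicGrp.cls A hA * PicGrp.cls B hB :=
  Subtype.ext (PicGrp.cls_mul_cls_val hA hB).symm

theorem cls_iso {A B : X.Modules} (hA : PicF.IsInvertible A) (hB : PicF.IsInvertible B)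
    (e : A ≅ B) : PicGrp.cls A hA = PicGrp.cls B hB :=
  (PicGrp.cls_eq_cls_iff hA hB).mpr ⟨e⟩

theorem clR_iso {A B : X.Modules} (hA : PicF.IsInvertible A) (hB : PicF.IsInvertible B)
    (e : A ≅ B) : NumR.clR k X A hA = NumR.clR k X B hB := by
  unfold NumR.clR NumR.cl
  rw [cls_iso hA hB e]

theorem clR_tensorMod {A B : X.Modules} (hA : PicF.IsInvertible A) (hB : PicF.IsInvertible B)
    (hAB : PicF.IsInvertible (CohB1.tensorMod A B)) :
    NumR.clR k X (CohB1.tensorMod A B) hAB = NumR.clR k X A hA + NumR.clR k X B hB := by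
  unfold NumR.clR NumR.cl
  rw [cls_tensorMod hA hB hAB, ofMul_mul, map_add, map_add]

theorem clR_structureModule (hO : PicF.IsInvertible (Coh.structureModule X)) :
    NumR.clR k X (Coh.structureModule X) hO = 0 := by
  unfold NumR.clR NumR.cl
  have : PicGrp.cls (Coh.structureModule X) hO = 1 := PicGrp.cls_structureModule_eq_one
  rw [this, ofMul_one, map_zero, map_zero]

theorem clR_tensorPow {L : X.Modules} (hL : PicF.IsInvertible L) (n : ℕ)
    (hLn : PicF.IsInvertible (CohB1.tensorPow L n)) :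
    NumR.clR k X (CohB1.tensorPow L n) hLn = (n : ℝ) • NumR.clR k X L hL := by
  induction n with
  | zero =>
    rw [Nat.cast_zero, zero_smul]
    exact clR_structureModule hLn
  | succ n ih =>
    have h1 : NumR.clR k X (CohB1.tensorPow L (n + 1)) hLn =
        NumR.clR k X (CohB1.tensorPow L n) (isInvertible_tensorPow hL n) + NumR.clR k X L hL :=
      clR_tensorMod (k := k) (isInvertible_tensorPow hL n) hL hLn
    rw [h1, ih (isInvertible_tensorPow hL n)]
    push_cast
    rw [add_smul, one_smul]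

end Classes

section Geo

variable {X : Scheme.{u}} [IsIntegral X]

/-- the bigness predicate used in S19739, S19740 -/
def BigP (L : X.Modules) : Prop :=
  ∀ A : X.Modules, CohB1.IsAmple A → ∃ (m : ℕ) (φ : A ⟶ CohB1.tensorPow L m), 0 < m ∧ Mono φ

theorem hasSection_of_GS {E : X.Modules} (hE : PicF.IsInvertible E) (h : GS E) :
    NumR.HasSection E := by
  obtain ⟨s, hs⟩ := h
  exact ⟨s, GSurj.ne_zero hs hE⟩

theorem GS_of_hasSection {E : X.Modules} (hE : PicF.IsInvertible E) (h : NumR.HasSection E) :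
    GS E := by
  obtain ⟨s, hs⟩ := h
  exact GS_of_ne_zero hE s hs

/-- (G1) a power of a big module is ample tensor effective -/
theorem exists_decomp_of_big (H : X.Modules) (hH : CohB1.IsAmple H) (L : X.Modules)
    (hL : PicF.IsInvertible L) (hbig : BigP L) :
    ∃ (m : ℕ) (E : X.Modules), 0 < m ∧ PicF.IsInvertible E ∧ NumR.HasSection E ∧
      Nonempty (CohB1.tensorPow L m ≅ CohB1.tensorMod H E) := by
  obtain ⟨m, φ, hm, hφm⟩ := hbig H hH
  have hLm := isInvertible_tensorPow hL m
  have hφ : GSurj φ := GSurj.of_mono hH.1 hLm φ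
  obtain ⟨H', hH', ⟨e⟩, ⟨e'⟩⟩ := Groth.Agent.Lead.InvDual.exists_inverse H hH.1
  have hE := isInvertible_tensorMod hH' hLm
  refine ⟨m, CohB1.tensorMod H' (CohB1.tensorPow L m), hm, hE,
    hasSection_of_GS hE (GS_of_gsurj e φ hφ), ⟨?_⟩⟩
  exact (unitorL (CohB1.tensorPow L m)).symm ≪≫
    PicGrp.tensorModIso e'.symm (Iso.refl _) ≪≫ assocIso H H' (CohB1.tensorPow L m) hH' hLm

/-- (G2) ample modules are big -/
theorem bigP_of_isAmple (A : X.Modules) (hA : CohB1.IsAmple A) : BigP A := by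
  intro A' hA'
  haveI : CompactSpace X := hA.2.1
  obtain ⟨J, hJ, ⟨e⟩, -⟩ := Groth.Agent.Lead.InvDual.exists_inverse A' hA'.1
  obtain ⟨n₀, hn₀pos, hn₀⟩ :=
    Groth.Agent.Helper4.AmpleEventual.exists_forall_isAmple_and_isGloballyGenerated A J hA hJ
  obtain ⟨hA₁, hg₁⟩ := hn₀ n₀ le_rfl
  have hAn := isInvertible_tensorPow hA.1 n₀
  have hGS : GS (CohB1.tensorMod J (CohB1.tensorPow A n₀)) :=
    GS_of_iso (GS_of_isGloballyGenerated hA₁.1 hg₁) (braid _ _)
  obtain ⟨φ, hφ⟩ := exists_gsurj_of_GS hA'.1 hJ hAn e hGS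
  exact ⟨n₀, φ, hn₀pos, hφ.mono hA'.1 hAn⟩

/-- (G3) big tensor effective is big -/
theorem bigP_tensor_of_GS {L E : X.Modules} (hL : PicF.IsInvertible L)
    (hE : PicF.IsInvertible E) (hbig : BigP L) (hs : GS E) : BigP (CohB1.tensorMod L E) := by
  intro A hA
  obtain ⟨m, φ, hm, hφm⟩ := hbig A hA
  have hLm := isInvertible_tensorPow hL m
  have hφ : GSurj φ := GSurj.of_mono hA.1 hLm φ
  obtain ⟨s, hs⟩ := hs
  have hψ : GSurj ((SecTwist.unitorR L).inv ≫ KoszTw.tensorMap (𝟙 L) s) :=
    (GSurj.of_isIso _).comp ((GSurj.id L).tensorMap hs)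
  have hLE := isInvertible_tensorMod hL hE
  exact ⟨m, φ ≫ powMap ((SecTwist.unitorR L).inv ≫ KoszTw.tensorMap (𝟙 L) s) m, hm,
    (hφ.comp (hψ.powMap m)).mono hA.1 (isInvertible_tensorPow hLE m)⟩

end Geo

section Cones

variable (k : Type u) [Field k] (X : Scheme.{u}) [X.Over (Spec (CommRingCat.of k))] [IsIntegral X]
  [PicGrp.Law X]

/-- the big cone -/
noncomputable def bigCone : ConvexCone ℝ (NumR.N1R k X) := NumR.coneOf k X BigP

variable {k X}

theorem clR_mem_coneOf {P : X.Modules → Prop} {L : X.Modules} (hL : PicF.IsInvertible L)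
    (hP : P L) : NumR.clR k X L hL ∈ NumR.coneOf k X P :=
  ConvexCone.subset_hull ⟨L, hL, hP, rfl⟩

theorem ampleCone_le_bigCone : NumR.ampleCone k X ≤ bigCone k X := by
  refine ConvexCone.hull_min ?_
  rintro _ ⟨A, hA, hAamp, rfl⟩
  exact clR_mem_coneOf hA (bigP_of_isAmple A hAamp)

/-- generator step -/
theorem clR_add_smul_mem_bigCone {L E : X.Modules} (hL : PicF.IsInvertible L)
    (hE : PicF.IsInvertible E) (hbig : BigP L) (hs : NumR.HasSection E) (s : ℝ) (hs0 : 0 < s) :
    NumR.clR k X L hL + s • NumR.clR k X E hE ∈ bigCone k X := by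
  obtain ⟨q, hq⟩ := exists_nat_gt s
  have hq0 : (0 : ℝ) < q := lt_trans hs0 hq
  have hEq := isInvertible_tensorPow hE q
  have hM := isInvertible_tensorMod hL hEq
  have hMbig : BigP (CohB1.tensorMod L (CohB1.tensorPow E q)) :=
    bigP_tensor_of_GS hL hEq hbig (GS_pow (GS_of_hasSection hE hs) q)
  have hcl : NumR.clR k X (CohB1.tensorMod L (CohB1.tensorPow E q)) hM =
      NumR.clR k X L hL + (q : ℝ) • NumR.clR k X E hE := by
    rw [clR_tensorMod hL hEq hM, clR_tensorPow hE q hEq]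
  have ht1 : 0 < 1 - s / q := by
    rw [sub_pos, div_lt_one hq0]; exact hq
  have ht2 : 0 < s / q := div_pos hs0 hq0
  have h1 := (bigCone k X).smul_mem ht1 (clR_mem_coneOf (k := k) hL hbig)
  have h2 := (bigCone k X).smul_mem ht2 (clR_mem_coneOf (k := k) hM hMbig)
  have h3 := (bigCone k X).add_mem h1 h2
  rw [hcl] at h3
  have hsq : s / q * q = s := div_mul_cancel₀ s hq0.ne'
  have : (1 - s / q) • NumR.clR k X L hL +
      (s / q) • (NumR.clR k X L hL + (q : ℝ) • NumR.clR k X E hE) =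
      NumR.clR k X L hL + s • NumR.clR k X E hE := by
    rw [smul_add, smul_smul, hsq, ← add_assoc, ← add_smul]
    simp
  rw [this] at h3
  exact h3

variable (k X) in
/-- classes `b` with `b + s e` big for all `s > 0` -/
noncomputable def scaleStable (e : NumR.N1R k X) : ConvexCone ℝ (NumR.N1R k X) where
  carrier := {b | ∀ s : ℝ, 0 < s → b + s • e ∈ bigCone k X}
  smul_mem' c hc b hb s hs := by
    have := (bigCone k X).smul_mem hc (hb (s / c) (div_pos hs hc))
    rw [smul_add, smul_smul, mul_div_cancel₀ _ hc.ne'] at this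
    exact this
  add_mem' b₁ h₁ b₂ h₂ s hs := by
    have := (bigCone k X).add_mem (h₁ (s / 2) (half_pos hs)) (h₂ (s / 2) (half_pos hs))
    have h : b₁ + (s / 2) • e + (b₂ + (s / 2) • e) = b₁ + b₂ + s • e := by
      rw [add_add_add_comm, ← add_smul, add_halves]
    rw [h] at this
    exact this

variable (k X) in
/-- classes `e` with `b + e` big for all big `b` -/
noncomputable def addStable : ConvexCone ℝ (NumR.N1R k X) where
  carrier := {e | ∀ b ∈ bigCone k X, b + e ∈ bigCone k X}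
  smul_mem' c hc e he b hb := by
    have := (bigCone k X).smul_mem hc
      (he (c⁻¹ • b) ((bigCone k X).smul_mem (inv_pos.mpr hc) hb))
    rw [smul_add, smul_smul, mul_inv_cancel₀ hc.ne', one_smul] at this
    exact this
  add_mem' e₁ h₁ e₂ h₂ b hb := by
    rw [← add_assoc]
    exact h₂ _ (h₁ b hb)

theorem effCone_le_addStable : NumR.effCone k X ≤ addStable k X := by
  refine ConvexCone.hull_min ?_
  rintro _ ⟨E, hE, hEs, rfl⟩
  intro b hb
  have h1 : bigCone k X ≤ scaleStable k X (NumR.clR k X E hE) := by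
    refine ConvexCone.hull_min ?_
    rintro _ ⟨L, hL, hLbig, rfl⟩
    intro s hs
    exact clR_add_smul_mem_bigCone hL hE hLbig hEs s hs
  have := h1 hb 1 one_pos
  rwa [one_smul] at this

variable (k X) in
/-- the sum of the ample and the effective cone -/
noncomputable def sumCone : ConvexCone ℝ (NumR.N1R k X) where
  carrier := {x | ∃ a ∈ NumR.ampleCone k X, x - a ∈ NumR.effCone k X}
  smul_mem' c hc x hx := by
    obtain ⟨a, ha, hxa⟩ := hx
    refine ⟨c • a, (NumR.ampleCone k X).smul_mem hc ha, ?_⟩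
    rw [← smul_sub]
    exact (NumR.effCone k X).smul_mem hc hxa
  add_mem' x hx y hy := by
    obtain ⟨a, ha, hxa⟩ := hx
    obtain ⟨a', ha', hya⟩ := hy
    refine ⟨a + a', (NumR.ampleCone k X).add_mem ha ha', ?_⟩
    rw [add_sub_add_comm]
    exact (NumR.effCone k X).add_mem hxa hya

theorem bigCone_le_sumCone (H : X.Modules) (hH : CohB1.IsAmple H) :
    bigCone k X ≤ sumCone k X := by
  refine ConvexCone.hull_min ?_
  rintro _ ⟨L, hL, hLbig, rfl⟩
  obtain ⟨m, E, hm, hE, hEs, ⟨e⟩⟩ := exists_decomp_of_big H hH L hL hLbig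
  have hLm := isInvertible_tensorPow hL m
  have hHE := isInvertible_tensorMod hH.1 hE
  have h1 : (m : ℝ) • NumR.clR k X L hL = NumR.clR k X H hH.1 + NumR.clR k X E hE := by
    rw [← clR_tensorPow hL m hLm, clR_iso hLm hHE e, clR_tensorMod hH.1 hE hHE]
  have hm0 : (0 : ℝ) < m := by exact_mod_cast hm
  have h2 : NumR.clR k X L hL =
      (m : ℝ)⁻¹ • NumR.clR k X H hH.1 + (m : ℝ)⁻¹ • NumR.clR k X E hE := by
    rw [← smul_add, ← h1, smul_smul, inv_mul_cancel₀ hm0.ne', one_smul]
  refine ⟨(m : ℝ)⁻¹ • NumR.clR k X H hH.1,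
    (NumR.ampleCone k X).smul_mem (inv_pos.mpr hm0) (clR_mem_coneOf hH.1 hH), ?_⟩
  have h3 : NumR.clR k X L hL - (m : ℝ)⁻¹ • NumR.clR k X H hH.1 =
      (m : ℝ)⁻¹ • NumR.clR k X E hE := by
    rw [h2]; abel
  rw [h3]
  exact (NumR.effCone k X).smul_mem (inv_pos.mpr hm0) (clR_mem_coneOf hE hEs)

/-- S19739 -/
theorem main19739 (H : X.Modules) (hH : CohB1.IsAmple H) (x : NumR.N1R k X) :
    x ∈ (bigCone k X : Set (NumR.N1R k X)) ↔
      ∃ a ∈ (NumR.ampleCone k X : Set (NumR.N1R k X)),
        x - a ∈ (NumR.effCone k X : Set (NumR.N1R k X)) := by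
  constructor
  · intro hx
    exact bigCone_le_sumCone H hH hx
  · rintro ⟨a, ha, hxa⟩
    have h1 := effCone_le_addStable hxa a (ampleCone_le_bigCone ha)
    rwa [add_sub_cancel] at h1

end Cones

end Groth.Agent.Helper4.SN
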