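import Mathlib
import Groth.Agent.Helper4.SN159

/-!
# The big cone is the interior of the pseudo-effective cone (S19740)
-/

set_option autoImplicit false
set_option linter.unusedSectionVars false
set_option linter.style.haveILetI false
universe u

open CategoryTheory CategoryTheory.Limits AlgebraicGeometry Opposite TopologicalSpace

namespace Groth.Agent.Helper4.SN

open Groth.Agent.Helper4.NApx82 Groth.Agent.Helper4.StalkDict Groth.Agent.Lead.Ref1B
  Groth.Agent.Lead.StalkNhd Groth.Agent.Helper4.TensorInv Groth.Agent.Helper4.TensorAssoc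
  Groth.Agent.Helper1.Dev

section AmpOpen

variable {k : Type u} [Field k] {X : Scheme.{u}} [X.Over (Spec (CommRingCat.of k))] [IsIntegral X]
  [PicGrp.Law X]

/-- the class of an inverse is the negative -/
theorem clR_inverse {M M' : X.Modules} (hM : PicF.IsInvertible M) (hM' : PicF.IsInvertible M')
    (e : CohB1.tensorMod M' M ≅ Coh.structureModule X) :
    NumR.clR k X M' hM' = - NumR.clR k X M hM := by
  have h1 := clR_tensorMod (k := k) hM' hM (isInvertible_tensorMod hM' hM)
  rw [clR_iso (k := k) (isInvertible_tensorMod hM' hM) isInvertible_structureModule e,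
    clR_structureModule] at h1
  exact eq_neg_of_add_eq_zero_left h1.symm

/-- generator step for the openness of the ample cone -/
theorem exists_pos_forall_clR_add_smul_mem_ampleCone (A : X.Modules) (hA : CohB1.IsAmple A)
    (M : X.Modules) (hM : PicF.IsInvertible M) :
    ∃ ε : ℝ, 0 < ε ∧ ∀ t : ℝ, |t| < ε →
      NumR.clR k X A hA.1 + t • NumR.clR k X M hM ∈ NumR.ampleCone k X := by
  haveI : CompactSpace X := hA.2.1
  obtain ⟨M', hM', ⟨e⟩, -⟩ := Groth.Agent.Lead.InvDual.exists_inverse M hM
  obtain ⟨n₁, hn₁pos, hn₁⟩ :=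
    Groth.Agent.Helper4.AmpleEventual.exists_forall_isAmple_and_isGloballyGenerated A M hA hM
  obtain ⟨n₂, hn₂pos, hn₂⟩ :=
    Groth.Agent.Helper4.AmpleEventual.exists_forall_isAmple_and_isGloballyGenerated A M' hA hM'
  set n := max n₁ n₂ with hn
  have hnpos : (0 : ℝ) < n := by
    exact_mod_cast lt_of_lt_of_le hn₁pos (le_max_left _ _)
  obtain ⟨hamp₁, -⟩ := hn₁ n (le_max_left _ _)
  obtain ⟨hamp₂, -⟩ := hn₂ n (le_max_right _ _)
  have hAn := isInvertible_tensorPow hA.1 n
  have hc₁ : NumR.clR k X (CohB1.tensorMod (CohB1.tensorPow A n) M) hamp₁.1 =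
      (n : ℝ) • NumR.clR k X A hA.1 + NumR.clR k X M hM := by
    rw [clR_tensorMod hAn hM hamp₁.1, clR_tensorPow hA.1 n hAn]
  have hc₂ : NumR.clR k X (CohB1.tensorMod (CohB1.tensorPow A n) M') hamp₂.1 =
      (n : ℝ) • NumR.clR k X A hA.1 - NumR.clR k X M hM := by
    rw [clR_tensorMod hAn hM' hamp₂.1, clR_tensorPow hA.1 n hAn, clR_inverse hM hM' e,
      sub_eq_add_neg]
  have hgenA : NumR.clR k X A hA.1 ∈ NumR.ampleCone k X := clR_mem_coneOf hA.1 hA
  refine ⟨1 / n, by positivity, fun t ht => ?_⟩
  rcases lt_trichotomy t 0 with hneg | rfl | hpos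
  · -- t < 0
    have hs : 0 < -t := neg_pos.mpr hneg
    have h1 : 0 < 1 - (-t) * n := by
      rw [abs_of_neg hneg, lt_div_iff₀ hnpos] at ht
      linarith
    have h2 := (NumR.ampleCone k X).add_mem ((NumR.ampleCone k X).smul_mem h1 hgenA)
      ((NumR.ampleCone k X).smul_mem hs (clR_mem_coneOf (k := k) hamp₂.1 hamp₂))
    rw [hc₂] at h2
    have : (1 - -t * ↑n) • NumR.clR k X A hA.1 +
        -t • ((n : ℝ) • NumR.clR k X A hA.1 - NumR.clR k X M hM) =
        NumR.clR k X A hA.1 + t • NumR.clR k X M hM := by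
      module
    rw [this] at h2
    exact h2
  · rw [zero_smul, add_zero]
    exact hgenA
  · have h1 : 0 < 1 - t * n := by
      rw [abs_of_pos hpos, lt_div_iff₀ hnpos] at ht
      linarith
    have h2 := (NumR.ampleCone k X).add_mem ((NumR.ampleCone k X).smul_mem h1 hgenA)
      ((NumR.ampleCone k X).smul_mem hpos (clR_mem_coneOf (k := k) hamp₁.1 hamp₁))
    rw [hc₁] at h2
    have : (1 - t * ↑n) • NumR.clR k X A hA.1 +
        t • ((n : ℝ) • NumR.clR k X A hA.1 + NumR.clR k X M hM) =
        NumR.clR k X A hA.1 + t • NumR.clR k X M hM := by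
      module
    rw [this] at h2
    exact h2

variable (k X) in
/-- classes in the ample cone which stay ample under small perturbations in each direction -/
noncomputable def coreCone : ConvexCone ℝ (NumR.N1R k X) where
  carrier := {x | x ∈ NumR.ampleCone k X ∧ ∀ (M : X.Modules) (hM : PicF.IsInvertible M),
    ∃ ε : ℝ, 0 < ε ∧ ∀ t : ℝ, |t| < ε → x + t • NumR.clR k X M hM ∈ NumR.ampleCone k X}
  smul_mem' c hc x hx := by
    refine ⟨(NumR.ampleCone k X).smul_mem hc hx.1, fun M hM => ?_⟩
    obtain ⟨ε, hε, h⟩ := hx.2 M hM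
    refine ⟨c * ε, mul_pos hc hε, fun t ht => ?_⟩
    have h1 : |t / c| < ε := by
      rw [abs_div, abs_of_pos hc, div_lt_iff₀ hc, mul_comm]
      exact ht
    have h2 := (NumR.ampleCone k X).smul_mem hc (h (t / c) h1)
    rw [smul_add, smul_smul, mul_div_cancel₀ _ hc.ne'] at h2
    exact h2
  add_mem' x hx y hy := by
    refine ⟨(NumR.ampleCone k X).add_mem hx.1 hy.1, fun M hM => ?_⟩
    obtain ⟨ε, hε, h⟩ := hx.2 M hM
    refine ⟨ε, hε, fun t ht => ?_⟩
    have h2 := (NumR.ampleCone k X).add_mem (h t ht) hy.1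
    rw [add_right_comm] at h2
    exact h2

theorem ampleCone_le_coreCone : NumR.ampleCone k X ≤ coreCone k X := by
  refine ConvexCone.hull_min ?_
  rintro _ ⟨A, hA, hAamp, rfl⟩
  exact ⟨clR_mem_coneOf hA hAamp,
    fun M hM => exists_pos_forall_clR_add_smul_mem_ampleCone A hAamp M hM⟩

/-- the ample cone is open -/
theorem isOpen_ampleCone [Module.Finite ℝ (NumR.N1R k X)] :
    IsOpen (NumR.ampleCone k X : Set (NumR.N1R k X)) := by
  classical
  haveI : IsTopologicalAddGroup (NumR.N1R k X) :=
    IsModuleTopology.topologicalAddGroup ℝ (NumR.N1R k X)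
  have hs : ⊤ ≤ Submodule.span ℝ
      {x : NumR.N1R k X | ∃ (L : X.Modules) (hL : PicF.IsInvertible L), x = NumR.clR k X L hL} :=
    NumR.span_clR.ge
  set b := Module.Basis.ofSpan hs with hb
  haveI : Finite ((linearIndepOn_empty ℝ id).extend (Set.empty_subset
      {x : NumR.N1R k X | ∃ (L : X.Modules) (hL : PicF.IsInvertible L),
        x = NumR.clR k X L hL})) := Module.Finite.finite_basis b
  letI := Fintype.ofFinite ((linearIndepOn_empty ℝ id).extend (Set.empty_subset
      {x : NumR.N1R k X | ∃ (L : X.Modules) (hL : PicF.IsInvertible L),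
        x = NumR.clR k X L hL}))
  have hbi : ∀ i, ∃ (M : X.Modules) (hM : PicF.IsInvertible M), b i = NumR.clR k X M hM :=
    fun i => Module.Basis.ofSpan_subset hs ⟨i, rfl⟩
  -- the induction over finite sets of directions
  have key : ∀ s : Finset _, ∀ x ∈ NumR.ampleCone k X, ∃ δ : ℝ, 0 < δ ∧
      ∀ c : _ → ℝ, (∀ i ∈ s, |c i| < δ) →
        x + ∑ i ∈ s, c i • b i ∈ NumR.ampleCone k X := by
    intro s
    induction s using Finset.induction_on with
    | empty =>
      intro x hx
      exact ⟨1, one_pos, fun c _ => by simpa using hx⟩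
    | insert j s hj ih =>
      intro x hx
      have hx2 : (1 / 2 : ℝ) • x ∈ NumR.ampleCone k X :=
        (NumR.ampleCone k X).smul_mem (by norm_num) hx
      obtain ⟨δ₁, hδ₁, h₁⟩ := ih _ hx2
      obtain ⟨M, hM, hbj⟩ := hbi j
      obtain ⟨ε, hε, h₂⟩ := (ampleCone_le_coreCone hx2).2 M hM
      refine ⟨min δ₁ ε, lt_min hδ₁ hε, fun c hc => ?_⟩
      have hcj : |c j| < ε := lt_of_lt_of_le (hc j (Finset.mem_insert_self j s)) (min_le_right _ _)
      have hcs : ∀ i ∈ s, |c i| < δ₁ := fun i hi =>
        lt_of_lt_of_le (hc i (Finset.mem_insert_of_mem hi)) (min_le_left _ _)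
      have h3 := (NumR.ampleCone k X).add_mem (h₂ (c j) hcj) (h₁ c hcs)
      rw [← hbj] at h3
      rw [Finset.sum_insert hj]
      have : (1 / 2 : ℝ) • x + c j • b j + ((1 / 2 : ℝ) • x + ∑ i ∈ s, c i • b i) =
          x + (c j • b j + ∑ i ∈ s, c i • b i) := by
        have hxx : (1 / 2 : ℝ) • x + (1 / 2 : ℝ) • x = x := by
          rw [← add_smul]; norm_num
        calc _ = ((1 / 2 : ℝ) • x + (1 / 2 : ℝ) • x) + (c j • b j + ∑ i ∈ s, c i • b i) := by abel
          _ = _ := by rw [hxx]
      rw [this] at h3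
      exact h3
  rw [isOpen_iff_forall_mem_open]
  intro x hx
  obtain ⟨δ, hδ, h⟩ := key Finset.univ x hx
  refine ⟨⋂ i, {y | |b.coord i (y - x)| < δ}, ?_, ?_, ?_⟩
  · intro y hy
    have hy' : ∀ i, |b.coord i (y - x)| < δ := fun i => Set.mem_iInter.mp hy i
    have h1 := h (fun i => b.coord i (y - x)) (fun i _ => hy' i)
    have h2 : ∑ i, b.coord i (y - x) • b i = y - x := b.sum_repr (y - x)
    rw [h2, add_sub_cancel] at h1
    exact h1
  · refine isOpen_iInter_of_finite fun i => ?_
    have hcont : Continuous fun y : NumR.N1R k X => |b.coord i (y - x)| := by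
      have h1 : Continuous (b.coord i) := IsModuleTopology.continuous_of_linearMap _
      exact continuous_abs.comp (h1.comp (continuous_id.sub continuous_const))
    exact isOpen_lt hcont continuous_const
  · refine Set.mem_iInter.mpr fun i => ?_
    simp [hδ]

theorem ampleCone_le_effCone : NumR.ampleCone k X ≤ NumR.effCone k X := by
  refine ConvexCone.hull_min ?_
  rintro _ ⟨A, hA, hAamp, rfl⟩
  haveI : CompactSpace X := hAamp.2.1
  obtain ⟨n₀, hn₀pos, hn₀⟩ :=
    Groth.Agent.Helper4.AmpleEventual.exists_forall_isAmple_and_isGloballyGenerated A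
      (Coh.structureModule X) hAamp isInvertible_structureModule
  obtain ⟨hamp, hgg⟩ := hn₀ n₀ le_rfl
  have hAn := isInvertible_tensorPow hA n₀
  have hGS : GS (CohB1.tensorPow A n₀) :=
    GS_of_iso (GS_of_isGloballyGenerated hamp.1 hgg) (SecTwist.unitorR _)
  have h1 : NumR.clR k X (CohB1.tensorPow A n₀) hAn ∈ NumR.effCone k X :=
    clR_mem_coneOf hAn (hasSection_of_GS hAn hGS)
  rw [clR_tensorPow hA n₀ hAn] at h1
  have hn0 : (0 : ℝ) < n₀ := by exact_mod_cast hn₀pos
  have h2 := (NumR.effCone k X).smul_mem (inv_pos.mpr hn0) h1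
  rwa [smul_smul, inv_mul_cancel₀ hn0.ne', one_smul] at h2

theorem bigCone_le_effCone (H : X.Modules) (hH : CohB1.IsAmple H) :
    bigCone k X ≤ NumR.effCone k X := by
  intro x hx
  obtain ⟨a, ha, hxa⟩ := (main19739 H hH x).mp hx
  have := (NumR.effCone k X).add_mem (ampleCone_le_effCone ha) hxa
  rwa [add_sub_cancel] at this

theorem isOpen_bigCone [Module.Finite ℝ (NumR.N1R k X)] (H : X.Modules) (hH : CohB1.IsAmple H) :
    IsOpen (bigCone k X : Set (NumR.N1R k X)) := by
  haveI : IsTopologicalAddGroup (NumR.N1R k X) :=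
    IsModuleTopology.topologicalAddGroup ℝ (NumR.N1R k X)
  rw [isOpen_iff_forall_mem_open]
  intro x hx
  obtain ⟨a, ha, hxa⟩ := (main19739 H hH x).mp hx
  refine ⟨{y | y - (x - a) ∈ NumR.ampleCone k X}, ?_, ?_, ?_⟩
  · intro y hy
    refine (main19739 H hH y).mpr ⟨y - (x - a), hy, ?_⟩
    rw [sub_sub_cancel]
    exact hxa
  · exact isOpen_ampleCone.preimage (continuous_id.sub continuous_const)
  · show x - (x - a) ∈ NumR.ampleCone k X
    rw [sub_sub_cancel]
    exact ha

/-- S19740 -/
theorem main19740 [Module.Finite ℝ (NumR.N1R k X)] (H : X.Modules) (hH : CohB1.IsAmple H) :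
    (bigCone k X : Set (NumR.N1R k X)) = interior (NumR.psefCone k X) ∧
      NumR.psefCone k X = closure (bigCone k X : Set (NumR.N1R k X)) := by
  haveI : IsTopologicalAddGroup (NumR.N1R k X) :=
    IsModuleTopology.topologicalAddGroup ℝ (NumR.N1R k X)
  have hh : NumR.clR k X H hH.1 ∈ NumR.ampleCone k X := clR_mem_coneOf hH.1 hH
  have hBE : (bigCone k X : Set (NumR.N1R k X)) ⊆ (NumR.effCone k X : Set (NumR.N1R k X)) :=
    bigCone_le_effCone H hH
  constructor
  · apply Set.Subset.antisymm
    · exact interior_maximal (hBE.trans subset_closure) (isOpen_bigCone H hH)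
    · intro x hx
      -- x - ε h ∈ interior psef for small ε
      have hcont : Continuous fun ε : ℝ => x - ε • NumR.clR k X H hH.1 :=
        continuous_const.sub
          (show Continuous fun ε : ℝ => ε • NumR.clR k X H hH.1 from
            continuous_id.fun_smul continuous_const)
      have hopen : IsOpen ((fun ε : ℝ => x - ε • NumR.clR k X H hH.1) ⁻¹'
          interior (NumR.psefCone k X)) := isOpen_interior.preimage hcont
      have h0 : (0 : ℝ) ∈ (fun ε : ℝ => x - ε • NumR.clR k X H hH.1) ⁻¹'
          interior (NumR.psefCone k X) := by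
        show x - (0 : ℝ) • NumR.clR k X H hH.1 ∈ interior (NumR.psefCone k X)
        rw [zero_smul, sub_zero]
        exact hx
      obtain ⟨ε, hε, hball⟩ := Metric.isOpen_iff.mp hopen 0 h0
      have hmem : x - (ε / 2) • NumR.clR k X H hH.1 ∈ NumR.psefCone k X := by
        apply interior_subset
        apply hball
        rw [Metric.mem_ball, dist_zero_right, Real.norm_eq_abs, abs_of_pos (half_pos hε)]
        exact half_lt_self hε
      -- the open set of y with x - y ample meets the effective cone
      have hV : IsOpen {y : NumR.N1R k X | x - y ∈ NumR.ampleCone k X} :=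
        isOpen_ampleCone.preimage (continuous_const.sub continuous_id)
      have hyV : x - (ε / 2) • NumR.clR k X H hH.1 ∈
          {y : NumR.N1R k X | x - y ∈ NumR.ampleCone k X} := by
        show x - (x - (ε / 2) • NumR.clR k X H hH.1) ∈ NumR.ampleCone k X
        rw [sub_sub_cancel]
        exact (NumR.ampleCone k X).smul_mem (half_pos hε) hh
      obtain ⟨e, heV, heE⟩ := mem_closure_iff.mp hmem _ hV hyV
      refine (main19739 H hH x).mpr ⟨x - e, heV, ?_⟩
      rw [sub_sub_cancel]
      exact heE
  · apply Set.Subset.antisymm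
    · -- psef ⊆ closure big
      have hE : (NumR.effCone k X : Set (NumR.N1R k X)) ⊆
          closure (bigCone k X : Set (NumR.N1R k X)) := by
        intro e he
        have hcont : Continuous fun ε : ℝ => e + ε • NumR.clR k X H hH.1 :=
          continuous_const.add
            (show Continuous fun ε : ℝ => ε • NumR.clR k X H hH.1 from
              continuous_id.fun_smul continuous_const)
        have htend : Filter.Tendsto (fun ε : ℝ => e + ε • NumR.clR k X H hH.1)
            (nhdsWithin 0 (Set.Ioi 0)) (nhds e) := by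
          have := hcont.tendsto 0
          rw [zero_smul, add_zero] at this
          exact this.mono_left nhdsWithin_le_nhds
        refine mem_closure_of_frequently_of_tendsto (Filter.Eventually.frequently ?_) htend
        filter_upwards [self_mem_nhdsWithin] with ε hε
        refine (main19739 H hH _).mpr ⟨ε • NumR.clR k X H hH.1,
          (NumR.ampleCone k X).smul_mem hε hh, ?_⟩
        rw [add_sub_cancel_right]
        exact he
      exact closure_minimal hE isClosed_closure
    · exact closure_mono hBE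

end AmpOpen

end Groth.Agent.Helper4.SN
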