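import Mathlib
import Groth.Agent.Helper4.SN164

/-!
# A uniform bound for asymptotic cohomological functions on integral twists (S17634)
-/

set_option autoImplicit false
set_option linter.unusedSectionVars false
set_option linter.style.haveILetI false
universe u

open CategoryTheory CategoryTheory.Limits AlgebraicGeometry Opposite TopologicalSpace

namespace Groth.Agent.Helper4.SN

open Groth.Agent.Helper4.NApx82 Groth.Agent.Helper4.StalkDict Groth.Agent.Lead.Ref1B
  Groth.Agent.Lead.StalkNhd Groth.Agent.Helper4.TensorInv Groth.Agent.Helper4.TensorAssoc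
  Groth.Agent.Helper1.Dev

section ReachList

variable {X : Scheme.{u}} {s : ℕ} {N : Fin s → X.Modules}

/-- a tensor product of powers of members of the family, along a list of indices, is reached in
at most `length * A` steps when all exponents are at most `A` -/
theorem exists_reach_tensorList (hN : ∀ j, PicF.IsInvertible (N j)) {ι : Type*} (f : ι → Fin s)
    (c : ι → ℕ) (A : ℕ) (hc : ∀ j, c j ≤ A) :
    ∀ l : List ι, ∃ t : ℕ, t ≤ l.length * A ∧
      Reach N t (FGA.tensorList (l.map fun j => CohB1.tensorPow (N (f j)) (c j)))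
  | [] => ⟨0, Nat.zero_le _, Reach.base _ (Iso.refl _)⟩
  | j :: l => by
    obtain ⟨t, ht, h⟩ := exists_reach_tensorList hN f c A hc l
    refine ⟨c j + t, ?_, (Reach.tensorPow_gen (f j) (c j)).tensor hN h⟩
    rw [List.length_cons, Nat.succ_mul]
    have := hc j
    omega

end ReachList

section Numeric

theorem limsup_bound (n r C₀ : ℕ) (h : ℕ → ℕ) (A : ℕ) (x : ℝ) (hAx : (A : ℝ) ≤ x)
    (hb : ∀ m, h m ≤ C₀ * (2 * r * A * m + 1) ^ n) :
    Filter.limsup (fun m : ℕ => (h m : ℝ) * (n.factorial : ℝ) / (m : ℝ) ^ n) Filter.atTop ≤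
      ((C₀ : ℝ) * (n.factorial : ℝ) * (2 * (r : ℝ) + 1) ^ n) * x ^ n := by
  have hu : ∀ m : ℕ, 0 ≤ (h m : ℝ) * (n.factorial : ℝ) / (m : ℝ) ^ n := fun m => by positivity
  have hx0 : (0 : ℝ) ≤ x := le_trans (Nat.cast_nonneg A) hAx
  rcases Nat.eq_zero_or_pos A with hA | hA
  · subst hA
    have hb' : ∀ m, (h m : ℝ) ≤ C₀ := by
      intro m
      have := hb m
      simp only [mul_zero, zero_mul, zero_add, one_pow, mul_one] at this
      exact_mod_cast this
    rcases Nat.eq_zero_or_pos n with hn | hn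
    · subst hn
      refine limsup_le_of_eventually_le _ hu _ (Filter.Eventually.of_forall fun m => ?_)
      simp only [Nat.factorial_zero, Nat.cast_one, mul_one, pow_zero, div_one]
      exact hb' m
    · have hle0 : Filter.limsup (fun m : ℕ => (h m : ℝ) * (n.factorial : ℝ) / (m : ℝ) ^ n)
          Filter.atTop ≤ 0 := by
        apply le_of_forall_pos_le_add
        intro ε hε
        rw [zero_add]
        refine limsup_le_of_eventually_le _ hu _ ?_
        obtain ⟨M, hM⟩ := exists_nat_gt ((C₀ : ℝ) * (n.factorial : ℝ) / ε)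
        filter_upwards [Filter.eventually_ge_atTop (max M 1)] with m hm
        have hm1 : (1 : ℝ) ≤ m := by exact_mod_cast (le_max_right M 1).trans hm
        have hmM : (M : ℝ) ≤ m := by exact_mod_cast (le_max_left M 1).trans hm
        have hmpos : (0 : ℝ) < (m : ℝ) ^ n := by positivity
        rw [div_le_iff₀ hmpos]
        have h1 : (C₀ : ℝ) * (n.factorial : ℝ) ≤ ε * m := by
          have := (lt_of_lt_of_le hM hmM).le
          rwa [div_le_iff₀ hε, mul_comm (m : ℝ)] at this
        have h2 : (m : ℝ) ≤ (m : ℝ) ^ n := by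
          calc (m : ℝ) = (m : ℝ) ^ 1 := (pow_one _).symm
            _ ≤ (m : ℝ) ^ n := pow_le_pow_right₀ hm1 hn
        calc (h m : ℝ) * (n.factorial : ℝ) ≤ (C₀ : ℝ) * (n.factorial : ℝ) :=
              mul_le_mul_of_nonneg_right (hb' m) (by positivity)
          _ ≤ ε * m := h1
          _ ≤ ε * (m : ℝ) ^ n := mul_le_mul_of_nonneg_left h2 hε.le
      exact hle0.trans (by positivity)
  · refine limsup_le_of_eventually_le _ hu _ ?_
    filter_upwards [Filter.eventually_ge_atTop 1] with m hm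
    have hm1 : (1 : ℝ) ≤ m := by exact_mod_cast hm
    have hA1 : (1 : ℝ) ≤ A := by exact_mod_cast hA
    have hmpos : (0 : ℝ) < (m : ℝ) ^ n := by positivity
    rw [div_le_iff₀ hmpos]
    have h1 : (h m : ℝ) ≤ (C₀ : ℝ) * (2 * r * A * m + 1) ^ n := by exact_mod_cast hb m
    have h2 : (2 * (r : ℝ) * A * m + 1) ≤ (2 * r + 1) * (A * m) := by
      have : (1 : ℝ) ≤ A * m := by nlinarith
      nlinarith
    have h3 : (2 * (r : ℝ) * A * m + 1) ^ n ≤ ((2 * r + 1) * (A * m)) ^ n :=
      pow_le_pow_left₀ (by positivity) h2 n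
    have h4 : ((A : ℝ)) ^ n ≤ x ^ n := pow_le_pow_left₀ (by positivity) hAx n
    calc (h m : ℝ) * (n.factorial : ℝ)
        ≤ (C₀ : ℝ) * ((2 * r + 1) * (A * m)) ^ n * (n.factorial : ℝ) :=
          mul_le_mul_of_nonneg_right (h1.trans (mul_le_mul_of_nonneg_left h3 (by positivity)))
            (by positivity)
      _ = (C₀ : ℝ) * (n.factorial : ℝ) * (2 * (r : ℝ) + 1) ^ n * (A : ℝ) ^ n * (m : ℝ) ^ n := by
          rw [mul_pow, mul_pow]; ring
      _ ≤ (C₀ : ℝ) * (n.factorial : ℝ) * (2 * (r : ℝ) + 1) ^ n * x ^ n * (m : ℝ) ^ n := by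
          apply mul_le_mul_of_nonneg_right _ (by positivity)
          exact mul_le_mul_of_nonneg_left h4 (by positivity)

end Numeric

section Main

variable (k : Type u) [Field k] {X : Scheme.{u}} [X.Over (Spec (CommRingCat.of k))]
  [IsProper (X ↘ (Spec (CommRingCat.of k)))]

/-- S17634 -/
theorem main17634 (hproj : ∃ A : X.Modules, CohB1.IsAmple A)
    (n : ℕ) (hn : topologicalKrullDim X = n)
    (r : ℕ) (L M : Fin r → X.Modules) (hL : ∀ j, PicF.IsInvertible (L j))
    (hM : ∀ j, ClSub.IsInverseOf (L j) (M j)) (i : ℕ) :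
    ∃ C : ℝ, ∀ a : Fin r → ℤ,
      W4c5asymptcohfn.hhat k X n i (W4c5asymptcohfn.ztwist X L M a) ≤
        C * ‖(fun j => ((a j : ℤ) : ℝ))‖ ^ n := by
  haveI := Groth.Agent.Helper4.NApx82.isNoetherian_of_proper k X
  obtain ⟨H, hH⟩ := hproj
  have hMi : ∀ j, PicF.IsInvertible (M j) := by
    intro j
    obtain ⟨e⟩ := hM j
    exact Groth.Agent.Helper4.InvOfTensor.isInvertible_of_tensor_iso (M j) (L j)
      (braid (M j) (L j) ≪≫ e)
  set N : Fin (r + r) → X.Modules := Fin.append L M with hNdef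
  have hNL : ∀ j : Fin r, N (Fin.castAdd r j) = L j := fun j => Fin.append_left L M j
  have hNM : ∀ j : Fin r, N (Fin.natAdd r j) = M j := fun j => Fin.append_right L M j
  have hN : ∀ x, PicF.IsInvertible (N x) := by
    intro x
    refine Fin.addCases (fun j => ?_) (fun j => ?_) x
    · rw [hNL]; exact hL j
    · rw [hNM]; exact hMi j
  have hO : Coh.IsCoh (Coh.structureModule X) := isCoh_structureModule X
  have hsuppO : CohB1.support (Coh.structureModule X) ⊆ Set.univ := Set.subset_univ _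
  have hdX : DimLT (CohB1.support (Coh.structureModule X)) (n + 1) :=
    dimLT_of_dim_le n hn.le _
  obtain ⟨C₀, hC₀⟩ := GA_of_dimLT k hN H hH n _ hO hdX i
  refine ⟨(C₀ : ℝ) * (n.factorial : ℝ) * (2 * (r : ℝ) + 1) ^ n, fun a => ?_⟩
  set A := ⌊‖(fun j => ((a j : ℤ) : ℝ))‖⌋₊ with hA
  have hAx : (A : ℝ) ≤ ‖(fun j => ((a j : ℤ) : ℝ))‖ := Nat.floor_le (norm_nonneg _)
  have habs : ∀ j, (a j).natAbs ≤ A := by
    intro j
    apply Nat.le_floor
    have h1 : (((a j).natAbs : ℕ) : ℝ) = |((a j : ℤ) : ℝ)| := by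
      rw [Nat.cast_natAbs, Int.cast_abs]
    rw [h1]
    exact norm_le_pi_norm (fun j => ((a j : ℤ) : ℝ)) j
  -- the twist is reached in at most `2 r A` steps
  obtain ⟨t₁, ht₁, hR₁⟩ := exists_reach_tensorList hN (Fin.castAdd r)
    (fun j => (a j).toNat) A (fun j => by have := habs j; omega) (List.finRange r)
  obtain ⟨t₂, ht₂, hR₂⟩ := exists_reach_tensorList hN (Fin.natAdd r)
    (fun j => (-(a j)).toNat) A (fun j => by have := habs j; omega) (List.finRange r)
  have e₁ : (List.finRange r).map (fun j => CohB1.tensorPow (N (Fin.castAdd r j)) ((a j).toNat)) =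
      (List.finRange r).map (fun j => CohB1.tensorPow (L j) ((a j).toNat)) := by
    congr 1; funext j; rw [hNL]
  have e₂ : (List.finRange r).map (fun j => CohB1.tensorPow (N (Fin.natAdd r j)) ((-(a j)).toNat)) =
      (List.finRange r).map (fun j => CohB1.tensorPow (M j) ((-(a j)).toNat)) := by
    congr 1; funext j; rw [hNM]
  rw [e₁] at hR₁
  rw [e₂] at hR₂
  have hR : Reach N (t₁ + t₂) (W4c5asymptcohfn.ztwist X L M a) := hR₁.tensor hN hR₂
  rw [List.length_finRange] at ht₁ ht₂
  unfold W4c5asymptcohfn.hhat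
  refine limsup_bound n r C₀ _ A _ hAx (fun m => ?_)
  have hRm := hR.pow hN m
  have h1 := hC₀ _ _ hRm
  rw [finrank_hi_iso k (unitorL _) i] at h1
  refine h1.trans (Nat.mul_le_mul_left _ (Nat.pow_le_pow_left ?_ n))
  have h2 : t₁ + t₂ ≤ 2 * r * A := by
    have : 2 * r * A = r * A + r * A := by ring
    omega
  have : (t₁ + t₂) * m ≤ 2 * r * A * m := Nat.mul_le_mul_right m h2
  omega

end Main

end Groth.Agent.Helper4.SN
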