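import Mathlib
import Groth.Agent.Helper4.SN166
import Groth.Agent.Lead.InvDualA
import Groth.Prelude.Def_PicGrp

/-!
# The group law on the Picard set of a scheme, and classes of twists
-/

set_option autoImplicit false
set_option linter.unusedSectionVars false
set_option linter.style.haveILetI false
universe u

open CategoryTheory CategoryTheory.Limits AlgebraicGeometry Opposite TopologicalSpace

namespace Groth.Agent.Helper4.SN

open Groth.Agent.Helper4.NApx82 Groth.Agent.Helper4.StalkDict Groth.Agent.Lead.Ref1B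
  Groth.Agent.Lead.StalkNhd Groth.Agent.Helper4.TensorInv Groth.Agent.Helper4.TensorAssoc
  Groth.Agent.Helper1.Dev

section PicLaw

variable (X : Scheme.{u})

/-- multiplication on the Picard set -/
noncomputable def picMul (a b : PicLoc.PicSet X) : PicLoc.PicSet X :=
  ⟨PicGrp.mulCl a.1 b.1, by
    obtain ⟨L, hL, hLi⟩ := a.2
    obtain ⟨M, hM, hMi⟩ := b.2
    exact ⟨CohB1.tensorMod L M, by rw [← hL, ← hM]; rfl, isInvertible_tensorMod hLi hMi⟩⟩

variable {X}

theorem picMul_cls {L M : X.Modules} (hL : PicF.IsInvertible L) (hM : PicF.IsInvertible M) :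
    picMul X (PicGrp.cls L hL) (PicGrp.cls M hM) =
      PicGrp.cls (CohB1.tensorMod L M) (isInvertible_tensorMod hL hM) :=
  Subtype.ext rfl

theorem exists_picInv (a : PicLoc.PicSet X) :
    ∃ b : PicLoc.PicSet X, picMul X b a = PicLoc.unitPicSet X := by
  obtain ⟨L, hL, rfl⟩ := PicGrp.exists_eq_cls a
  obtain ⟨N, hN, ⟨e⟩, -⟩ := Groth.Agent.Lead.InvDual.exists_inverse L hL
  refine ⟨PicGrp.cls N hN, ?_⟩
  rw [picMul_cls, PicGrp.unitPicSet_eq_cls, PicGrp.cls_eq_cls_iff]
  exact ⟨e⟩

theorem picMul_assoc (a b c : PicLoc.PicSet X) :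
    picMul X (picMul X a b) c = picMul X a (picMul X b c) := by
  obtain ⟨L, hL, rfl⟩ := PicGrp.exists_eq_cls a
  obtain ⟨M, hM, rfl⟩ := PicGrp.exists_eq_cls b
  obtain ⟨N, hN, rfl⟩ := PicGrp.exists_eq_cls c
  rw [picMul_cls, picMul_cls, picMul_cls, picMul_cls, PicGrp.cls_eq_cls_iff]
  exact ⟨assocIso L M N hM hN⟩

theorem picMul_comm (a b : PicLoc.PicSet X) : picMul X a b = picMul X b a := by
  obtain ⟨L, hL, rfl⟩ := PicGrp.exists_eq_cls a
  obtain ⟨M, hM, rfl⟩ := PicGrp.exists_eq_cls b
  rw [picMul_cls, picMul_cls, PicGrp.cls_eq_cls_iff]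
  exact ⟨braid L M⟩

theorem picMul_one (a : PicLoc.PicSet X) : picMul X a (PicLoc.unitPicSet X) = a := by
  obtain ⟨L, hL, rfl⟩ := PicGrp.exists_eq_cls a
  rw [PicGrp.unitPicSet_eq_cls, picMul_cls, PicGrp.cls_eq_cls_iff]
  exact ⟨SecTwist.unitorR L⟩

variable (X)

/-- **the Picard group law exists on every scheme** -/
noncomputable def picLaw : PicGrp.Law X :=
  { mul := picMul X
    mul_assoc := picMul_assoc
    one := PicLoc.unitPicSet X
    one_mul := fun a => by
      change picMul X (PicLoc.unitPicSet X) a = a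
      rw [picMul_comm]; exact picMul_one a
    mul_one := picMul_one
    inv := fun a => Classical.choose (exists_picInv a)
    inv_mul_cancel := fun a => Classical.choose_spec (exists_picInv a)
    mul_comm := picMul_comm
    mul_val := fun _ _ => rfl
    one_eq := rfl }

end PicLaw

section ClsT

variable {X : Scheme.{u}} [PicGrp.Law X]

open Classical in
/-- total class function: the class of an invertible module, `1` otherwise -/
noncomputable def clsT (B : X.Modules) : PicLoc.PicSet X :=
  if h : PicF.IsInvertible B then PicGrp.cls B h else 1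

theorem clsT_eq {B : X.Modules} (h : PicF.IsInvertible B) : clsT B = PicGrp.cls B h :=
  dif_pos h

theorem clsT_structureModule : clsT (Coh.structureModule X) = 1 := by
  rw [clsT_eq isInvertible_structureModule]
  exact PicGrp.cls_structureModule_eq_one

theorem clsT_tensorMod {A B : X.Modules} (hA : PicF.IsInvertible A) (hB : PicF.IsInvertible B) :
    clsT (CohB1.tensorMod A B) = clsT A * clsT B := by
  rw [clsT_eq hA, clsT_eq hB, clsT_eq (isInvertible_tensorMod hA hB)]
  exact Subtype.ext (PicGrp.cls_mul_cls_val hA hB).symm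

theorem clsT_eq_iff {A B : X.Modules} (hA : PicF.IsInvertible A) (hB : PicF.IsInvertible B) :
    clsT A = clsT B ↔ Nonempty (A ≅ B) := by
  rw [clsT_eq hA, clsT_eq hB, PicGrp.cls_eq_cls_iff]

theorem clsT_tensorPow {L : X.Modules} (hL : PicF.IsInvertible L) (n : ℕ) :
    clsT (CohB1.tensorPow L n) = clsT L ^ n := by
  induction n with
  | zero => rw [pow_zero]; exact clsT_structureModule
  | succ n ih =>
    have : CohB1.tensorPow L (n + 1) = CohB1.tensorMod (CohB1.tensorPow L n) L := rfl
    rw [this, clsT_tensorMod (isInvertible_tensorPow hL n) hL, ih, pow_succ]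

theorem clsT_inverse {L M : X.Modules} (hL : PicF.IsInvertible L) (hM : PicF.IsInvertible M)
    (h : ClSub.IsInverseOf L M) : clsT M = (clsT L)⁻¹ := by
  rw [clsT_eq hL, clsT_eq hM]
  exact (PicGrp.cls_inv_eq_cls hL hM h).symm

theorem clsT_tensorList (l : List X.Modules) (hl : ∀ B ∈ l, PicF.IsInvertible B) :
    clsT (FGA.tensorList l) = (l.map clsT).prod := by
  induction l with
  | nil => exact clsT_structureModule
  | cons B l ih =>
    have hl' : ∀ B' ∈ l, PicF.IsInvertible B' := fun B' hB' => hl B' (List.mem_cons_of_mem _ hB')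
    have : FGA.tensorList (B :: l) = CohB1.tensorMod B (FGA.tensorList l) := rfl
    rw [this, clsT_tensorMod (hl B (List.mem_cons_self ..)) (isInvertible_tensorList l hl'),
      ih hl', List.map_cons, List.prod_cons]

theorem clsT_multiTwist {r : ℕ} (L : Fin r → X.Modules) (hL : ∀ j, PicF.IsInvertible (L j))
    (e : Fin r → ℕ) : clsT (FGA.multiTwist L e) = ∏ j, clsT (L j) ^ e j := by
  unfold FGA.multiTwist
  rw [clsT_tensorList]
  · rw [List.map_map, Fin.prod_univ_def]
    congr 1
    apply List.map_congr_left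
    intro j _
    exact clsT_tensorPow (hL j) _
  · intro B hB
    obtain ⟨j, -, rfl⟩ := List.mem_map.mp hB
    exact isInvertible_tensorPow (hL j) _

theorem isInvertible_ztwist {r : ℕ} (L M : Fin r → X.Modules) (hL : ∀ j, PicF.IsInvertible (L j))
    (hM : ∀ j, PicF.IsInvertible (M j)) (a : Fin r → ℤ) :
    PicF.IsInvertible (W4c5asymptcohfn.ztwist X L M a) :=
  isInvertible_tensorMod (isInvertible_multiTwist L hL _) (isInvertible_multiTwist M hM _)

theorem clsT_ztwist {r : ℕ} (L M : Fin r → X.Modules) (hL : ∀ j, PicF.IsInvertible (L j))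
    (hM : ∀ j, PicF.IsInvertible (M j)) (hLM : ∀ j, ClSub.IsInverseOf (L j) (M j))
    (a : Fin r → ℤ) :
    clsT (W4c5asymptcohfn.ztwist X L M a) = ∏ j, clsT (L j) ^ a j := by
  unfold W4c5asymptcohfn.ztwist
  rw [clsT_tensorMod (isInvertible_multiTwist L hL _) (isInvertible_multiTwist M hM _),
    clsT_multiTwist L hL, clsT_multiTwist M hM, ← Finset.prod_mul_distrib]
  refine Finset.prod_congr rfl fun j _ => ?_
  rw [clsT_inverse (hL j) (hM j) (hLM j), inv_pow, ← zpow_natCast, ← zpow_natCast, ← zpow_neg,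
    ← zpow_add]
  congr 1
  omega

/-- the `m`-th power of `L^a` is the tensor product of the `m`-th powers of `L^b` and `L^{a-b}` -/
theorem exists_iso_ztwist_pow {r : ℕ} (L M : Fin r → X.Modules)
    (hL : ∀ j, PicF.IsInvertible (L j))
    (hM : ∀ j, PicF.IsInvertible (M j)) (hLM : ∀ j, ClSub.IsInverseOf (L j) (M j))
    (a b : Fin r → ℤ) (m : ℕ) :
    Nonempty (CohB1.tensorPow (W4c5asymptcohfn.ztwist X L M a) m ≅
      CohB1.tensorMod (CohB1.tensorPow (W4c5asymptcohfn.ztwist X L M b) m)
        (CohB1.tensorPow (W4c5asymptcohfn.ztwist X L M (fun j => a j - b j)) m)) := by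
  have ha := isInvertible_ztwist L M hL hM a
  have hb := isInvertible_ztwist L M hL hM b
  have hc := isInvertible_ztwist L M hL hM (fun j => a j - b j)
  rw [← clsT_eq_iff (isInvertible_tensorPow ha m)
    (isInvertible_tensorMod (isInvertible_tensorPow hb m) (isInvertible_tensorPow hc m)),
    clsT_tensorMod (isInvertible_tensorPow hb m) (isInvertible_tensorPow hc m),
    clsT_tensorPow ha, clsT_tensorPow hb, clsT_tensorPow hc, clsT_ztwist L M hL hM hLM,
    clsT_ztwist L M hL hM hLM, clsT_ztwist L M hL hM hLM, ← mul_pow, ← Finset.prod_mul_distrib]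
  congr 1
  refine Finset.prod_congr rfl fun j _ => ?_
  rw [← zpow_add]
  congr 1
  ring

end ClsT

end Groth.Agent.Helper4.SN
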