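import Mathlib
import Groth.Agent.Helper4.SN165
import Groth.Agent.Helper4.SN168

/-!
# Lipschitz estimate for asymptotic cohomological functions (S17633)
-/

set_option autoImplicit false
set_option linter.unusedSectionVars false
set_option linter.style.haveILetI false
universe u

open CategoryTheory CategoryTheory.Limits AlgebraicGeometry Opposite TopologicalSpace

namespace Groth.Agent.Helper4.SN

open Groth.Agent.Helper4.NApx82 Groth.Agent.Helper4.StalkDict Groth.Agent.Lead.Ref1B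
  Groth.Agent.Lead.StalkNhd Groth.Agent.Helper4.TensorInv Groth.Agent.Helper4.TensorAssoc
  Groth.Agent.Helper1.Dev

section Numeric

theorem abs_limsup_sub_le (u v : ℕ → ℝ) (hu : ∀ m, 0 ≤ u m) (hv : ∀ m, 0 ≤ v m) (D : ℝ)
    (h : ∀ᶠ m in Filter.atTop, |u m - v m| ≤ D) :
    |Filter.limsup u Filter.atTop - Filter.limsup v Filter.atTop| ≤ D := by
  have hD : 0 ≤ D := by
    obtain ⟨m, hm⟩ := h.exists
    exact (abs_nonneg _).trans hm
  have key : ∀ (u v : ℕ → ℝ), (∀ m, 0 ≤ u m) → (∀ m, 0 ≤ v m) →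
      (∀ᶠ m in Filter.atTop, |u m - v m| ≤ D) →
      Filter.limsup v Filter.atTop ≤ Filter.limsup u Filter.atTop + D := by
    intro u v hu hv h
    rw [Filter.limsup_eq, Filter.limsup_eq]
    have hshift : ∀ a ∈ {a : ℝ | ∀ᶠ n in Filter.atTop, u n ≤ a},
        a + D ∈ {a : ℝ | ∀ᶠ n in Filter.atTop, v n ≤ a} := by
      intro a ha
      filter_upwards [ha, h] with m h1 h2
      have := (abs_le.mp h2).1
      linarith
    have hshift' : ∀ a ∈ {a : ℝ | ∀ᶠ n in Filter.atTop, v n ≤ a},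
        a + D ∈ {a : ℝ | ∀ᶠ n in Filter.atTop, u n ≤ a} := by
      intro a ha
      filter_upwards [ha, h] with m h1 h2
      have := (abs_le.mp h2).2
      linarith
    have hbdd : BddBelow {a : ℝ | ∀ᶠ n in Filter.atTop, v n ≤ a} := by
      refine ⟨0, fun a ha => ?_⟩
      obtain ⟨m, hm⟩ := (ha : ∀ᶠ n in Filter.atTop, v n ≤ a).exists
      exact (hv m).trans hm
    by_cases hne : {a : ℝ | ∀ᶠ n in Filter.atTop, u n ≤ a}.Nonempty
    · rw [← sub_le_iff_le_add]
      apply le_csInf hne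
      intro a ha
      rw [sub_le_iff_le_add]
      exact csInf_le hbdd (hshift a ha)
    · have hne' : ¬ {a : ℝ | ∀ᶠ n in Filter.atTop, v n ≤ a}.Nonempty := by
        rintro ⟨b, hb⟩
        exact hne ⟨b + D, hshift' b hb⟩
      rw [Set.not_nonempty_iff_eq_empty] at hne hne'
      rw [hne, hne', Real.sInf_empty, zero_add]
      exact hD
  have h1 := key u v hu hv h
  have h2 := key v u hv hu (by filter_upwards [h] with m hm; rwa [abs_sub_comm])
  rw [abs_le]
  constructor <;> linarith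

theorem eventually_abs_sub_le' (n : ℕ) (hu hv : ℕ → ℕ) (C' Tb Tc : ℕ) (hC0 : n = 0 → C' = 0)
    (h : ∀ m, hu m ≤ hv m + (Tc * m) * (C' * (Tb * m + Tc * m + 1) ^ (n - 1)) ∧
      hv m ≤ hu m + (Tc * m) * (C' * (Tb * m + Tc * m + 1) ^ (n - 1))) :
    ∀ᶠ m : ℕ in Filter.atTop,
      |(hu m : ℝ) * (n.factorial : ℝ) / (m : ℝ) ^ n -
        (hv m : ℝ) * (n.factorial : ℝ) / (m : ℝ) ^ n| ≤
      (Tc : ℝ) * C' * (n.factorial : ℝ) * ((Tb : ℝ) + Tc + 1) ^ (n - 1) := by
  rcases Nat.eq_zero_or_pos n with hn | hn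
  · have hC := hC0 hn
    refine Filter.Eventually.of_forall fun m => ?_
    have h1 := h m
    rw [hC] at h1
    simp only [zero_mul, mul_zero, add_zero] at h1
    have : hu m = hv m := le_antisymm h1.1 h1.2
    rw [this, sub_self, abs_zero, hC]
    simp
  · filter_upwards [Filter.eventually_ge_atTop 1] with m hm
    have hm1 : (1 : ℝ) ≤ m := by exact_mod_cast hm
    have hmpos : (0 : ℝ) < (m : ℝ) ^ n := by positivity
    have hE : (Tc * m) * (C' * (Tb * m + Tc * m + 1) ^ (n - 1)) ≤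
        Tc * C' * (Tb + Tc + 1) ^ (n - 1) * m ^ n := by
      have h1 : Tb * m + Tc * m + 1 ≤ (Tb + Tc + 1) * m := by nlinarith
      have h2 : (Tb * m + Tc * m + 1) ^ (n - 1) ≤ ((Tb + Tc + 1) * m) ^ (n - 1) :=
        Nat.pow_le_pow_left h1 _
      have h3 : m ^ n = m * m ^ (n - 1) := by
        rw [← pow_succ']
        congr 1
        omega
      calc (Tc * m) * (C' * (Tb * m + Tc * m + 1) ^ (n - 1))
          ≤ (Tc * m) * (C' * ((Tb + Tc + 1) * m) ^ (n - 1)) :=
            Nat.mul_le_mul_left _ (Nat.mul_le_mul_left _ h2)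
        _ = Tc * C' * (Tb + Tc + 1) ^ (n - 1) * m ^ n := by
            rw [h3, mul_pow]; ring
    have hE' : ((Tc * C' * (Tb + Tc + 1) ^ (n - 1) * m ^ n : ℕ) : ℝ) =
        (Tc : ℝ) * C' * ((Tb : ℝ) + Tc + 1) ^ (n - 1) * (m : ℝ) ^ n := by
      push_cast; ring
    obtain ⟨h1, h2⟩ := h m
    have h1' : (hu m : ℝ) ≤ hv m + (Tc : ℝ) * C' * ((Tb : ℝ) + Tc + 1) ^ (n - 1) * (m : ℝ) ^ n := by
      rw [← hE']
      exact_mod_cast h1.trans (Nat.add_le_add_left hE _)
    have h2' : (hv m : ℝ) ≤ hu m + (Tc : ℝ) * C' * ((Tb : ℝ) + Tc + 1) ^ (n - 1) * (m : ℝ) ^ n := by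
      rw [← hE']
      exact_mod_cast h2.trans (Nat.add_le_add_left hE _)
    have hfac : (0 : ℝ) ≤ (n.factorial : ℝ) := by positivity
    rw [← sub_div, ← sub_mul, abs_div, abs_of_pos hmpos, div_le_iff₀ hmpos, abs_mul,
      abs_of_nonneg hfac]
    have habs : |(hu m : ℝ) - hv m| ≤
        (Tc : ℝ) * C' * ((Tb : ℝ) + Tc + 1) ^ (n - 1) * (m : ℝ) ^ n := by
      rw [abs_le]
      constructor <;> linarith
    calc |(hu m : ℝ) - hv m| * (n.factorial : ℝ)
        ≤ ((Tc : ℝ) * C' * ((Tb : ℝ) + Tc + 1) ^ (n - 1) * (m : ℝ) ^ n) * (n.factorial : ℝ) :=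
          mul_le_mul_of_nonneg_right habs hfac
      _ = (Tc : ℝ) * C' * (n.factorial : ℝ) * ((Tb : ℝ) + Tc + 1) ^ (n - 1) * (m : ℝ) ^ n := by ring

theorem final_bound (n r C' tb tc Ab Ac : ℕ) (μ δ : ℝ) (hC0 : n = 0 → C' = 0)
    (htb : tb ≤ 2 * r * Ab) (htc : tc ≤ 2 * r * Ac)
    (hAb : (Ab : ℝ) ≤ μ) (hAc : (Ac : ℝ) ≤ δ) (hδμ : δ ≤ 2 * μ) :
    (tc : ℝ) * C' * (n.factorial : ℝ) * ((tb : ℝ) + tc + 1) ^ (n - 1) ≤
      (2 * (r : ℝ) * C' * (n.factorial : ℝ) * (6 * (r : ℝ) + 2) ^ (n - 1)) *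
        (Finset.Icc 1 n).sum (fun q => μ ^ (n - q) * δ ^ q) := by
  have hμ0 : (0 : ℝ) ≤ μ := le_trans (Nat.cast_nonneg _) hAb
  have hδ0 : (0 : ℝ) ≤ δ := le_trans (Nat.cast_nonneg _) hAc
  rcases Nat.eq_zero_or_pos n with hn | hn
  · rw [hC0 hn]
    simp
  · have hsum : μ ^ (n - 1) * δ ≤ (Finset.Icc 1 n).sum (fun q => μ ^ (n - q) * δ ^ q) := by
      have := Finset.single_le_sum (f := fun q => μ ^ (n - q) * δ ^ q) (s := Finset.Icc 1 n)
        (fun q _ => by positivity) (Finset.mem_Icc.mpr ⟨le_refl 1, hn⟩)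
      simpa using this
    have hCnn : (0 : ℝ) ≤ 2 * (r : ℝ) * C' * (n.factorial : ℝ) * (6 * (r : ℝ) + 2) ^ (n - 1) := by
      positivity
    refine le_trans ?_ (mul_le_mul_of_nonneg_left hsum hCnn)
    rcases Nat.eq_zero_or_pos Ac with hAc0 | hAcpos
    · have : tc = 0 := by
        rw [hAc0] at htc
        simpa using htc
      rw [this]
      simp only [Nat.cast_zero, zero_mul]
      positivity
    · have hδ1 : (1 : ℝ) ≤ δ := le_trans (by exact_mod_cast hAcpos) hAc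
      have htb' : (tb : ℝ) ≤ 2 * r * μ := by
        have : (tb : ℝ) ≤ 2 * r * Ab := by exact_mod_cast htb
        exact this.trans (mul_le_mul_of_nonneg_left hAb (by positivity))
      have htc' : (tc : ℝ) ≤ 2 * r * δ := by
        have : (tc : ℝ) ≤ 2 * r * Ac := by exact_mod_cast htc
        exact this.trans (mul_le_mul_of_nonneg_left hAc (by positivity))
      have hr0 : (0 : ℝ) ≤ r := Nat.cast_nonneg r
      have hbase : (tb : ℝ) + tc + 1 ≤ (6 * (r : ℝ) + 2) * μ := by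
        have h1 : (tc : ℝ) ≤ 2 * r * (2 * μ) := htc'.trans (mul_le_mul_of_nonneg_left hδμ (by positivity))
        nlinarith
      have hpow : ((tb : ℝ) + tc + 1) ^ (n - 1) ≤ ((6 * (r : ℝ) + 2) * μ) ^ (n - 1) :=
        pow_le_pow_left₀ (by positivity) hbase _
      calc (tc : ℝ) * C' * (n.factorial : ℝ) * ((tb : ℝ) + tc + 1) ^ (n - 1)
          ≤ (2 * r * δ) * C' * (n.factorial : ℝ) * ((6 * (r : ℝ) + 2) * μ) ^ (n - 1) := by
            apply mul_le_mul _ hpow (by positivity) (by positivity)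
            exact mul_le_mul_of_nonneg_right (mul_le_mul_of_nonneg_right htc' (by positivity))
              (by positivity)
        _ = 2 * (r : ℝ) * C' * (n.factorial : ℝ) * (6 * (r : ℝ) + 2) ^ (n - 1) *
            (μ ^ (n - 1) * δ) := by
            rw [mul_pow]; ring

end Numeric

section Path

variable (k : Type u) [Field k] {X : Scheme.{u}} [X.Over (Spec (CommRingCat.of k))]
  [IsProper (X ↘ (Spec (CommRingCat.of k)))] {s : ℕ} {N : Fin s → X.Modules}

theorem path_bound (hN : ∀ j, PicF.IsInvertible (N j)) (C' n i : ℕ)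
    (hstep : ∀ (j : Fin s) (t : ℕ) (G : X.Modules), Reach N t G →
      Module.finrank k (Coh.HH X (CohB1.tensorMod G (N j)) i) ≤
        Module.finrank k (Coh.HH X G i) + C' * (t + 1) ^ (n - 1) ∧
      Module.finrank k (Coh.HH X G i) ≤
        Module.finrank k (Coh.HH X (CohB1.tensorMod G (N j)) i) + C' * (t + 1) ^ (n - 1))
    {t : ℕ} {G : X.Modules} (hG : Reach N t G) {t' : ℕ} {B' : X.Modules} (hB' : Reach N t' B') :
    Module.finrank k (Coh.HH X (CohB1.tensorMod G B') i) ≤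
        Module.finrank k (Coh.HH X G i) + t' * (C' * (t + t' + 1) ^ (n - 1)) ∧
      Module.finrank k (Coh.HH X G i) ≤
        Module.finrank k (Coh.HH X (CohB1.tensorMod G B') i) +
          t' * (C' * (t + t' + 1) ^ (n - 1)) := by
  induction hB' with
  | base B' e =>
    have := finrank_hi_iso k (PicGrp.tensorModIso (Iso.refl G) e ≪≫ SecTwist.unitorR G) i
    rw [this]
    simp
  | step t' B'' B' j h'' e ih =>
    have hB''i := h''.isInvertible hN
    have e₁ : Module.finrank k (Coh.HH X (CohB1.tensorMod G B') i) =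
        Module.finrank k (Coh.HH X (CohB1.tensorMod (CohB1.tensorMod G B'') (N j)) i) :=
      finrank_hi_iso k (PicGrp.tensorModIso (Iso.refl G) e ≪≫
        (assocIso G B'' (N j) hB''i (hN j)).symm) i
    rw [e₁]
    have h1 := hstep j (t + t') _ (hG.tensor hN h'')
    have hmono : C' * (t + t' + 1) ^ (n - 1) ≤ C' * (t + (t' + 1) + 1) ^ (n - 1) :=
      Nat.mul_le_mul_left _ (Nat.pow_le_pow_left (by omega) _)
    have h2 : t' * (C' * (t + t' + 1) ^ (n - 1)) ≤ t' * (C' * (t + (t' + 1) + 1) ^ (n - 1)) :=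
      Nat.mul_le_mul_left _ hmono
    have h3 : (t' + 1) * (C' * (t + (t' + 1) + 1) ^ (n - 1)) =
        t' * (C' * (t + (t' + 1) + 1) ^ (n - 1)) + C' * (t + (t' + 1) + 1) ^ (n - 1) := by ring
    obtain ⟨ih1, ih2⟩ := ih
    obtain ⟨h1a, h1b⟩ := h1
    constructor <;> omega

theorem exists_uniform_step [IsIntegral X] (hN : ∀ j, PicF.IsInvertible (N j)) (H : X.Modules)
    (hH : CohB1.IsAmple H) (n : ℕ) (hn : topologicalKrullDim X = n) (i : ℕ) :
    ∃ C' : ℕ, (n = 0 → C' = 0) ∧ ∀ (j : Fin s) (t : ℕ) (G : X.Modules), Reach N t G →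
      Module.finrank k (Coh.HH X (CohB1.tensorMod G (N j)) i) ≤
        Module.finrank k (Coh.HH X G i) + C' * (t + 1) ^ (n - 1) ∧
      Module.finrank k (Coh.HH X G i) ≤
        Module.finrank k (Coh.HH X (CohB1.tensorMod G (N j)) i) + C' * (t + 1) ^ (n - 1) := by
  have hex : ∀ j : Fin s, ∃ C' : ℕ, (n = 0 → C' = 0) ∧ ∀ (t : ℕ) (G : X.Modules), Reach N t G →
      Module.finrank k (Coh.HH X (CohB1.tensorMod G (N j)) i) ≤
        Module.finrank k (Coh.HH X G i) + C' * (t + 1) ^ (n - 1) ∧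
      Module.finrank k (Coh.HH X G i) ≤
        Module.finrank k (Coh.HH X (CohB1.tensorMod G (N j)) i) + C' * (t + 1) ^ (n - 1) := by
    intro j
    obtain ⟨P', hP', -, ⟨e⟩⟩ := Groth.Agent.Lead.InvDual.exists_inverse (N j) (hN j)
    exact twoSided_step k hN H hH n hn (N j) P' (hN j) hP' e i
  choose C hC0 hC using hex
  refine ⟨∑ j, C j, fun h => Finset.sum_eq_zero fun j _ => hC0 j h, fun j t G hG => ?_⟩
  have hle : C j ≤ ∑ j, C j := Finset.single_le_sum (fun _ _ => Nat.zero_le _) (Finset.mem_univ j)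
  have hle' : C j * (t + 1) ^ (n - 1) ≤ (∑ j, C j) * (t + 1) ^ (n - 1) :=
    Nat.mul_le_mul_right _ hle
  obtain ⟨h1, h2⟩ := hC j t G hG
  constructor <;> omega

end Path

section ReachZ

variable {X : Scheme.{u}}

theorem reach_ztwist {r : ℕ} (L M : Fin r → X.Modules) (hL : ∀ j, PicF.IsInvertible (L j))
    (hM : ∀ j, PicF.IsInvertible (M j)) (a : Fin r → ℤ) (A : ℕ) (habs : ∀ j, (a j).natAbs ≤ A) :
    ∃ t : ℕ, t ≤ 2 * r * A ∧
      Reach (Fin.append L M) t (W4c5asymptcohfn.ztwist X L M a) := by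
  set N : Fin (r + r) → X.Modules := Fin.append L M with hNdef
  have hNL : ∀ j : Fin r, N (Fin.castAdd r j) = L j := fun j => Fin.append_left L M j
  have hNM : ∀ j : Fin r, N (Fin.natAdd r j) = M j := fun j => Fin.append_right L M j
  have hN : ∀ x, PicF.IsInvertible (N x) := by
    intro x
    refine Fin.addCases (fun j => ?_) (fun j => ?_) x
    · rw [hNL]; exact hL j
    · rw [hNM]; exact hM j
  obtain ⟨t₁, ht₁, hR₁⟩ := exists_reach_tensorList hN (Fin.castAdd r)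
    (fun j => (a j).toNat) A (fun j => by have := habs j; omega) (List.finRange r)
  obtain ⟨t₂, ht₂, hR₂⟩ := exists_reach_tensorList hN (Fin.natAdd r)
    (fun j => (-(a j)).toNat) A (fun j => by have := habs j; omega) (List.finRange r)
  have e₁ : (List.finRange r).map (fun j => CohB1.tensorPow (N (Fin.castAdd r j)) ((a j).toNat)) =
      (List.finRange r).map (fun j => CohB1.tensorPow (L j) ((a j).toNat)) := by
    congr 1; funext j; rw [hNL]
  have e₂ : (List.finRange r).map (fun j => CohB1.tensorPow (N (Fin.natAdd r j)) ((-(a j)).toNat)) =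
      (List.finRange r).map (fun j => CohB1.tensorPow (M j) ((-(a j)).toNat)) := by
    congr 1; funext j; rw [hNM]
  rw [e₁] at hR₁
  rw [e₂] at hR₂
  have hR : Reach N (t₁ + t₂) (W4c5asymptcohfn.ztwist X L M a) := hR₁.tensor hN hR₂
  rw [List.length_finRange] at ht₁ ht₂
  refine ⟨t₁ + t₂, ?_, hR⟩
  have : 2 * r * A = r * A + r * A := by ring
  omega

theorem natAbs_le_floor_norm {r : ℕ} (a : Fin r → ℤ) (j : Fin r) :
    (a j).natAbs ≤ ⌊‖(fun j => ((a j : ℤ) : ℝ))‖⌋₊ := by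
  apply Nat.le_floor
  have h1 : (((a j).natAbs : ℕ) : ℝ) = |((a j : ℤ) : ℝ)| := by
    rw [Nat.cast_natAbs, Int.cast_abs]
  rw [h1]
  exact norm_le_pi_norm (fun j => ((a j : ℤ) : ℝ)) j

end ReachZ

section Main

variable (k : Type u) [Field k] {X : Scheme.{u}} [X.Over (Spec (CommRingCat.of k))]
  [IsProper (X ↘ (Spec (CommRingCat.of k)))] [IsIntegral X]

/-- S17633 -/
theorem main17633 (hproj : ∃ A : X.Modules, CohB1.IsAmple A)
    (n : ℕ) (hn : topologicalKrullDim X = n)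
    (r : ℕ) (L M : Fin r → X.Modules) (hL : ∀ j, PicF.IsInvertible (L j))
    (hM : ∀ j, ClSub.IsInverseOf (L j) (M j)) (i : ℕ) :
    ∃ C : ℝ, ∀ a b : Fin r → ℤ,
      |W4c5asymptcohfn.hhat k X n i (W4c5asymptcohfn.ztwist X L M a) -
          W4c5asymptcohfn.hhat k X n i (W4c5asymptcohfn.ztwist X L M b)| ≤
        C * (Finset.Icc 1 n).sum (fun q =>
          (max ‖(fun j => ((a j : ℤ) : ℝ))‖ ‖(fun j => ((b j : ℤ) : ℝ))‖) ^ (n - q) *
            ‖(fun j => ((a j - b j : ℤ) : ℝ))‖ ^ q) := by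
  haveI := Groth.Agent.Helper4.NApx82.isNoetherian_of_proper k X
  letI := picLaw X
  obtain ⟨H, hH⟩ := hproj
  have hMi : ∀ j, PicF.IsInvertible (M j) := by
    intro j
    obtain ⟨e⟩ := hM j
    exact Groth.Agent.Helper4.InvOfTensor.isInvertible_of_tensor_iso (M j) (L j)
      (braid (M j) (L j) ≪≫ e)
  set N : Fin (r + r) → X.Modules := Fin.append L M with hNdef
  have hN : ∀ x, PicF.IsInvertible (N x) := by
    intro x
    refine Fin.addCases (fun j => ?_) (fun j => ?_) x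
    · rw [hNdef, Fin.append_left]; exact hL j
    · rw [hNdef, Fin.append_right]; exact hMi j
  obtain ⟨C', hC0, hstep⟩ := exists_uniform_step k hN H hH n hn i
  refine ⟨2 * (r : ℝ) * C' * (n.factorial : ℝ) * (6 * (r : ℝ) + 2) ^ (n - 1), fun a b => ?_⟩
  set Ab := ⌊‖(fun j => ((b j : ℤ) : ℝ))‖⌋₊ with hAb
  set Ac := ⌊‖(fun j => ((a j - b j : ℤ) : ℝ))‖⌋₊ with hAc
  obtain ⟨tb, htb, hRb⟩ := reach_ztwist L M hL hMi b Ab (natAbs_le_floor_norm b)
  obtain ⟨tc, htc, hRc⟩ := reach_ztwist L M hL hMi (fun j => a j - b j) Ac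
    (natAbs_le_floor_norm (fun j => a j - b j))
  have hbound : ∀ m : ℕ,
      Module.finrank k (Coh.HH X (CohB1.tensorPow (W4c5asymptcohfn.ztwist X L M a) m) i) ≤
        Module.finrank k (Coh.HH X (CohB1.tensorPow (W4c5asymptcohfn.ztwist X L M b) m) i) +
          (tc * m) * (C' * (tb * m + tc * m + 1) ^ (n - 1)) ∧
      Module.finrank k (Coh.HH X (CohB1.tensorPow (W4c5asymptcohfn.ztwist X L M b) m) i) ≤
        Module.finrank k (Coh.HH X (CohB1.tensorPow (W4c5asymptcohfn.ztwist X L M a) m) i) +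
          (tc * m) * (C' * (tb * m + tc * m + 1) ^ (n - 1)) := by
    intro m
    obtain ⟨e⟩ := exists_iso_ztwist_pow L M hL hMi hM a b m
    rw [finrank_hi_iso k e i]
    exact path_bound k hN C' n i hstep (hRb.pow hN m) (hRc.pow hN m)
  have hev := eventually_abs_sub_le' n _ _ C' tb tc hC0 hbound
  have hlim := abs_limsup_sub_le _ _ (fun m => by positivity) (fun m => by positivity) _ hev
  unfold W4c5asymptcohfn.hhat
  refine hlim.trans ?_
  have hμb : (Ab : ℝ) ≤ max ‖(fun j => ((a j : ℤ) : ℝ))‖ ‖(fun j => ((b j : ℤ) : ℝ))‖ :=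
    (Nat.floor_le (norm_nonneg _)).trans (le_max_right _ _)
  have hδc : (Ac : ℝ) ≤ ‖(fun j => ((a j - b j : ℤ) : ℝ))‖ := Nat.floor_le (norm_nonneg _)
  have hδμ : ‖(fun j => ((a j - b j : ℤ) : ℝ))‖ ≤
      2 * max ‖(fun j => ((a j : ℤ) : ℝ))‖ ‖(fun j => ((b j : ℤ) : ℝ))‖ := by
    have h1 : (fun j => ((a j - b j : ℤ) : ℝ)) =
        (fun j => ((a j : ℤ) : ℝ)) - (fun j => ((b j : ℤ) : ℝ)) := by
      funext j
      simp
    rw [h1]
    have h2 := norm_sub_le (fun j => ((a j : ℤ) : ℝ)) (fun j => ((b j : ℤ) : ℝ))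
    have h3 := le_max_left ‖(fun j => ((a j : ℤ) : ℝ))‖ ‖(fun j => ((b j : ℤ) : ℝ))‖
    have h4 := le_max_right ‖(fun j => ((a j : ℤ) : ℝ))‖ ‖(fun j => ((b j : ℤ) : ℝ))‖
    linarith
  exact final_bound n r C' tb tc Ab Ac _ _ hC0 htb htc hμb hδc hδμ

end Main

end Groth.Agent.Helper4.SN
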