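import Mathlib
import Groth.Agent.Helper4.SN169

/-!
# Continuity-type statement for asymptotic cohomological functions (S17632)
-/

set_option autoImplicit false
set_option linter.unusedSectionVars false
set_option linter.style.haveILetI false
universe u

open CategoryTheory CategoryTheory.Limits AlgebraicGeometry Opposite TopologicalSpace

namespace Groth.Agent.Helper4.SN

open Groth.Agent.Helper4.NApx82 Groth.Agent.Helper4.StalkDict Groth.Agent.Lead.Ref1B
  Groth.Agent.Lead.StalkNhd Groth.Agent.Helper4.TensorInv Groth.Agent.Helper4.TensorAssoc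
  Groth.Agent.Helper1.Dev

section Main

variable (k : Type u) [Field k] {X : Scheme.{u}} [X.Over (Spec (CommRingCat.of k))]
  [IsProper (X ↘ (Spec (CommRingCat.of k)))]

theorem hhat_congr (n i : ℕ) {B B' : X.Modules} (e : B ≅ B') :
    W4c5asymptcohfn.hhat k X n i B = W4c5asymptcohfn.hhat k X n i B' := by
  unfold W4c5asymptcohfn.hhat
  congr 1
  funext m
  rw [finrank_hi_iso k (Groth.Agent.Helper4.AmpleIso.tensorPowIso e m) i]

variable [IsIntegral X]

/-- S17632 -/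
theorem main17632 (hproj : ∃ A : X.Modules, CohB1.IsAmple A)
    (n : ℕ) (hn : topologicalKrullDim X = n)
    (L : X.Modules) (hL : PicF.IsInvertible L) (A A' : X.Modules) (hA : PicF.IsInvertible A)
    (hA' : ClSub.IsInverseOf A A') (i : ℕ) :
    Filter.Tendsto (fun p : ℕ =>
        (W4c5asymptcohfn.hhat k X n i (CohB1.tensorMod (CohB1.tensorPow L p) A') -
          W4c5asymptcohfn.hhat k X n i (CohB1.tensorPow L p)) / (p : ℝ) ^ n)
      Filter.atTop (nhds 0) := by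
  letI := picLaw X
  obtain ⟨L', hL', -, hLL'⟩ := Groth.Agent.Lead.InvDual.exists_inverse L hL
  have hA'i : PicF.IsInvertible A' := by
    obtain ⟨e⟩ := hA'
    exact Groth.Agent.Helper4.InvOfTensor.isInvertible_of_tensor_iso A' A (braid A' A ≪≫ e)
  set Lf : Fin 2 → X.Modules := ![L, A] with hLf
  set Mf : Fin 2 → X.Modules := ![L', A'] with hMf
  have hLfi : ∀ j, PicF.IsInvertible (Lf j) := by
    intro j
    fin_cases j
    · exact hL
    · exact hA
  have hMfi : ∀ j, PicF.IsInvertible (Mf j) := by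
    intro j
    fin_cases j
    · exact hL'
    · exact hA'i
  have hLM : ∀ j, ClSub.IsInverseOf (Lf j) (Mf j) := by
    intro j
    fin_cases j
    · exact hLL'
    · exact hA'
  obtain ⟨C, hC⟩ := main17633 k hproj n hn 2 Lf Mf hLfi hLM i
  -- identify the two twists
  have e₁ : ∀ p : ℕ, Nonempty (W4c5asymptcohfn.ztwist X Lf Mf ![(p : ℤ), -1] ≅
      CohB1.tensorMod (CohB1.tensorPow L p) A') := by
    intro p
    rw [← clsT_eq_iff (isInvertible_ztwist Lf Mf hLfi hMfi _)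
      (isInvertible_tensorMod (isInvertible_tensorPow hL p) hA'i),
      clsT_ztwist Lf Mf hLfi hMfi hLM, Fin.prod_univ_two,
      clsT_tensorMod (isInvertible_tensorPow hL p) hA'i, clsT_tensorPow hL,
      clsT_inverse hA hA'i hA']
    simp [hLf]
  have e₂ : ∀ p : ℕ, Nonempty (W4c5asymptcohfn.ztwist X Lf Mf ![(p : ℤ), 0] ≅
      CohB1.tensorPow L p) := by
    intro p
    rw [← clsT_eq_iff (isInvertible_ztwist Lf Mf hLfi hMfi _) (isInvertible_tensorPow hL p),
      clsT_ztwist Lf Mf hLfi hMfi hLM, Fin.prod_univ_two, clsT_tensorPow hL]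
    simp [hLf]
  -- the bound
  have hbound : ∀ p : ℕ, 1 ≤ p →
      |(W4c5asymptcohfn.hhat k X n i (CohB1.tensorMod (CohB1.tensorPow L p) A') -
          W4c5asymptcohfn.hhat k X n i (CohB1.tensorPow L p)) / (p : ℝ) ^ n| ≤
        |C| * n / p := by
    intro p hp
    have hp1 : (1 : ℝ) ≤ p := by exact_mod_cast hp
    have hp0 : (0 : ℝ) < p := by linarith
    obtain ⟨f₁⟩ := e₁ p
    obtain ⟨f₂⟩ := e₂ p
    have h := hC ![(p : ℤ), -1] ![(p : ℤ), 0]
    rw [hhat_congr k n i f₁, hhat_congr k n i f₂] at h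
    have hna : ‖(fun j => (((![(p : ℤ), -1] : Fin 2 → ℤ) j : ℤ) : ℝ))‖ ≤ p := by
      rw [pi_norm_le_iff_of_nonneg hp0.le]
      intro j
      fin_cases j
      · simp
      · simpa using hp1
    have hnb : ‖(fun j => (((![(p : ℤ), 0] : Fin 2 → ℤ) j : ℤ) : ℝ))‖ ≤ p := by
      rw [pi_norm_le_iff_of_nonneg hp0.le]
      intro j
      fin_cases j
      · simp
      · simpa using hp0.le
    have hnc : ‖(fun j => (((![(p : ℤ), -1] : Fin 2 → ℤ) j - (![(p : ℤ), 0] : Fin 2 → ℤ) j : ℤ) : ℝ))‖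
        ≤ 1 := by
      rw [pi_norm_le_iff_of_nonneg zero_le_one]
      intro j
      fin_cases j
      · simp
      · simp
    have hsum : (Finset.Icc 1 n).sum (fun q =>
          (max ‖(fun j => (((![(p : ℤ), -1] : Fin 2 → ℤ) j : ℤ) : ℝ))‖
            ‖(fun j => (((![(p : ℤ), 0] : Fin 2 → ℤ) j : ℤ) : ℝ))‖) ^ (n - q) *
            ‖(fun j => (((![(p : ℤ), -1] : Fin 2 → ℤ) j - (![(p : ℤ), 0] : Fin 2 → ℤ) j : ℤ) : ℝ))‖ ^ q)
        ≤ n * (p : ℝ) ^ (n - 1) := by
      have hterm : ∀ q ∈ Finset.Icc 1 n,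
          (max ‖(fun j => (((![(p : ℤ), -1] : Fin 2 → ℤ) j : ℤ) : ℝ))‖
            ‖(fun j => (((![(p : ℤ), 0] : Fin 2 → ℤ) j : ℤ) : ℝ))‖) ^ (n - q) *
            ‖(fun j => (((![(p : ℤ), -1] : Fin 2 → ℤ) j - (![(p : ℤ), 0] : Fin 2 → ℤ) j : ℤ) : ℝ))‖ ^ q
          ≤ (p : ℝ) ^ (n - 1) := by
        intro q hq
        obtain ⟨hq1, hqn⟩ := Finset.mem_Icc.mp hq
        have h1 : (max ‖(fun j => (((![(p : ℤ), -1] : Fin 2 → ℤ) j : ℤ) : ℝ))‖
            ‖(fun j => (((![(p : ℤ), 0] : Fin 2 → ℤ) j : ℤ) : ℝ))‖) ^ (n - q) ≤ (p : ℝ) ^ (n - q) :=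
          pow_le_pow_left₀ (le_max_of_le_left (norm_nonneg _)) (max_le hna hnb) _
        have h2 : ‖(fun j => (((![(p : ℤ), -1] : Fin 2 → ℤ) j -
            (![(p : ℤ), 0] : Fin 2 → ℤ) j : ℤ) : ℝ))‖ ^ q ≤ 1 :=
          pow_le_one₀ (norm_nonneg _) hnc
        have h3 : (p : ℝ) ^ (n - q) ≤ (p : ℝ) ^ (n - 1) := pow_le_pow_right₀ hp1 (by omega)
        calc _ ≤ (p : ℝ) ^ (n - q) * 1 :=
              mul_le_mul h1 h2 (by positivity) (by positivity)
          _ ≤ (p : ℝ) ^ (n - 1) := by rw [mul_one]; exact h3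
      calc _ ≤ (Finset.Icc 1 n).sum (fun _ => (p : ℝ) ^ (n - 1)) := Finset.sum_le_sum hterm
        _ = n * (p : ℝ) ^ (n - 1) := by
          rw [Finset.sum_const, Nat.card_Icc, nsmul_eq_mul]
          congr 1
    have hsum0 : 0 ≤ (Finset.Icc 1 n).sum (fun q =>
          (max ‖(fun j => (((![(p : ℤ), -1] : Fin 2 → ℤ) j : ℤ) : ℝ))‖
            ‖(fun j => (((![(p : ℤ), 0] : Fin 2 → ℤ) j : ℤ) : ℝ))‖) ^ (n - q) *
            ‖(fun j => (((![(p : ℤ), -1] : Fin 2 → ℤ) j - (![(p : ℤ), 0] : Fin 2 → ℤ) j : ℤ) : ℝ))‖ ^ q) :=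
      Finset.sum_nonneg fun q _ => by positivity
    have h' : |W4c5asymptcohfn.hhat k X n i (CohB1.tensorMod (CohB1.tensorPow L p) A') -
          W4c5asymptcohfn.hhat k X n i (CohB1.tensorPow L p)| ≤ |C| * (n * (p : ℝ) ^ (n - 1)) :=
      h.trans ((mul_le_mul_of_nonneg_right (le_abs_self C) hsum0).trans
        (mul_le_mul_of_nonneg_left hsum (abs_nonneg C)))
    have hpn : (0 : ℝ) < (p : ℝ) ^ n := by positivity
    rw [abs_div, abs_of_pos hpn, div_le_div_iff₀ hpn hp0]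
    rcases Nat.eq_zero_or_pos n with hn0 | hnpos
    · subst hn0
      simp only [Nat.cast_zero, mul_zero, zero_mul] at h' ⊢
      have : |W4c5asymptcohfn.hhat k X 0 i (CohB1.tensorMod (CohB1.tensorPow L p) A') -
          W4c5asymptcohfn.hhat k X 0 i (CohB1.tensorPow L p)| = 0 :=
        le_antisymm h' (abs_nonneg _)
      rw [this, zero_mul]
    · have hpp : (p : ℝ) ^ n = (p : ℝ) ^ (n - 1) * p := by
        rw [← pow_succ]
        congr 1
        omega
      calc _ ≤ |C| * (n * (p : ℝ) ^ (n - 1)) * p := mul_le_mul_of_nonneg_right h' hp0.le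
        _ = |C| * n * (p : ℝ) ^ n := by rw [hpp]; ring
  refine squeeze_zero_norm' (a := fun p : ℕ => |C| * n / (p : ℝ)) ?_
    (tendsto_const_div_atTop_nhds_zero_nat _)
  filter_upwards [Filter.eventually_ge_atTop 1] with p hp
  rw [Real.norm_eq_abs]
  exact hbound p hp

end Main

end Groth.Agent.Helper4.SN
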