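import Mathlib
import Groth.Agent.Helper4.SN167

/-!
# Homogeneity of the volume in extended non-negative reals (S19805)
-/

set_option autoImplicit false
set_option linter.unusedSectionVars false
set_option linter.style.haveILetI false
universe u

open CategoryTheory CategoryTheory.Limits AlgebraicGeometry Opposite TopologicalSpace
open scoped ENNReal

namespace Groth.Agent.Helper4.SN

open Groth.Agent.Helper4.NApx82 Groth.Agent.Helper4.StalkDict Groth.Agent.Lead.Ref1B
  Groth.Agent.Lead.StalkNhd Groth.Agent.Helper4.TensorInv Groth.Agent.Helper4.TensorAssoc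
  Groth.Agent.Helper1.Dev

section Numeric

theorem ennreal_limsup_eq_ofReal (d : ℕ) (h : ℕ → ℕ) (C : ℕ) (hb : ∀ m, h m ≤ C * (m + 1) ^ d) :
    Filter.limsup (fun m : ℕ => (h m : ℝ≥0∞) / (m : ℝ≥0∞) ^ d) Filter.atTop =
      ENNReal.ofReal (Filter.limsup (fun m : ℕ => (h m : ℝ) / (m : ℝ) ^ d) Filter.atTop) := by
  have hbdd : Filter.IsBoundedUnder (· ≤ ·) Filter.atTop
      (fun m : ℕ => (h m : ℝ) / (m : ℝ) ^ d) := by
    refine ⟨(C : ℝ) * 2 ^ d, ?_⟩
    rw [Filter.eventually_map]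
    filter_upwards [Filter.eventually_ge_atTop 1] with m hm
    have hm1 : (1 : ℝ) ≤ m := by exact_mod_cast hm
    have hmpos : (0 : ℝ) < (m : ℝ) ^ d := by positivity
    rw [div_le_iff₀ hmpos]
    have h1 : (h m : ℝ) ≤ (C : ℝ) * ((m : ℝ) + 1) ^ d := by exact_mod_cast hb m
    have h2 : ((m : ℝ) + 1) ^ d ≤ (2 * (m : ℝ)) ^ d :=
      pow_le_pow_left₀ (by positivity) (by linarith) d
    calc (h m : ℝ) ≤ (C : ℝ) * ((m : ℝ) + 1) ^ d := h1
      _ ≤ (C : ℝ) * (2 * (m : ℝ)) ^ d := mul_le_mul_of_nonneg_left h2 (by positivity)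
      _ = (C : ℝ) * 2 ^ d * (m : ℝ) ^ d := by rw [mul_pow]; ring
  have hcob : Filter.IsCoboundedUnder (· ≤ ·) Filter.atTop
      (fun m : ℕ => (h m : ℝ) / (m : ℝ) ^ d) :=
    Filter.isCoboundedUnder_le_of_le Filter.atTop (x := 0) (fun m => by positivity)
  rw [Monotone.map_limsup_of_continuousAt ENNReal.ofReal_mono _
    ENNReal.continuous_ofReal.continuousAt hbdd hcob]
  apply Filter.limsup_congr
  filter_upwards [Filter.eventually_ge_atTop 1] with m hm
  have hm1 : (1 : ℝ) ≤ m := by exact_mod_cast hm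
  have hmpos : (0 : ℝ) < (m : ℝ) ^ d := by positivity
  simp only [Function.comp_apply]
  rw [ENNReal.ofReal_div_of_pos hmpos, ENNReal.ofReal_natCast,
    ENNReal.ofReal_pow (by positivity), ENNReal.ofReal_natCast]

end Numeric

section Main

variable (k : Type u) [Field k] {X : Scheme.{u}} [X.Over (Spec (CommRingCat.of k))]
  [IsProper (X ↘ (Spec (CommRingCat.of k)))] [IsIntegral X]

/-- polynomial growth of `h⁰` of the powers of an invertible module -/
theorem exists_h0_pow_le (hproj : ∃ A : X.Modules, CohB1.IsAmple A)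
    (d : ℕ) (hd : topologicalKrullDim X = d) (L : X.Modules) (hL : PicF.IsInvertible L) (i : ℕ) :
    ∃ C : ℕ, ∀ m : ℕ, Module.finrank k (Coh.HH X (CohB1.tensorPow L m) i) ≤ C * (m + 1) ^ d := by
  haveI := Groth.Agent.Helper4.NApx82.isNoetherian_of_proper k X
  obtain ⟨H, hH⟩ := hproj
  have hO : Coh.IsCoh (Coh.structureModule X) := isCoh_structureModule X
  have hdX : DimLT (CohB1.support (Coh.structureModule X)) (d + 1) :=
    dimLT_of_dim_le d hd.le _
  obtain ⟨C, hC⟩ := GA_of_dimLT k (N := fun _ : Fin 1 => L) (fun _ => hL) H hH d _ hO hdX i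
  refine ⟨C, fun m => ?_⟩
  have h1 := hC m _ (Reach.tensorPow_gen (N := fun _ : Fin 1 => L) 0 m)
  rwa [finrank_hi_iso k (unitorL _) i] at h1

/-- S19805 -/
theorem main19805 (hproj : ∃ A : X.Modules, CohB1.IsAmple A) (d : ℕ)
    (hd : topologicalKrullDim X = d)
    (L : X.Modules) (hL : PicF.IsInvertible L) (a : ℕ) (ha : 0 < a) :
    Filter.limsup (fun m : ℕ => (Module.finrank k (Coh.HH X
        (CohB1.tensorPow (CohB1.tensorPow L a) m) 0) : ℝ≥0∞) / (m : ℝ≥0∞) ^ d) Filter.atTop =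
      (a : ℝ≥0∞) ^ d * Filter.limsup (fun m : ℕ => (Module.finrank k (Coh.HH X
        (CohB1.tensorPow L m) 0) : ℝ≥0∞) / (m : ℝ≥0∞) ^ d) Filter.atTop := by
  obtain ⟨C₁, hC₁⟩ := exists_h0_pow_le k hproj d hd (CohB1.tensorPow L a)
    (isInvertible_tensorPow hL a) 0
  obtain ⟨C₂, hC₂⟩ := exists_h0_pow_le k hproj d hd L hL 0
  rw [ennreal_limsup_eq_ofReal d _ C₁ hC₁, ennreal_limsup_eq_ofReal d _ C₂ hC₂]
  have key := main17621 k hproj d hd L hL a ha 0
  unfold W4c5asymptcohfn.hhat at key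
  have hfac : (0 : ℝ) < (d.factorial : ℝ) := by positivity
  have e₁ : ∀ w : ℕ → ℕ, (fun m : ℕ => (w m : ℝ) * (d.factorial : ℝ) / (m : ℝ) ^ d) =
      fun m : ℕ => (d.factorial : ℝ) * ((w m : ℝ) / (m : ℝ) ^ d) := by
    intro w
    funext m
    ring
  rw [e₁ (fun m => Module.finrank k (Coh.HH X (CohB1.tensorPow (CohB1.tensorPow L a) m) 0)),
    e₁ (fun m => Module.finrank k (Coh.HH X (CohB1.tensorPow L m) 0)),
    limsup_const_mul_of_pos _ _ hfac, limsup_const_mul_of_pos _ _ hfac] at key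
  have key' : Filter.limsup (fun m : ℕ => (Module.finrank k (Coh.HH X
        (CohB1.tensorPow (CohB1.tensorPow L a) m) 0) : ℝ) / (m : ℝ) ^ d) Filter.atTop =
      (a : ℝ) ^ d * Filter.limsup (fun m : ℕ => (Module.finrank k (Coh.HH X
        (CohB1.tensorPow L m) 0) : ℝ) / (m : ℝ) ^ d) Filter.atTop := by
    have : (d.factorial : ℝ) * Filter.limsup (fun m : ℕ => (Module.finrank k (Coh.HH X
        (CohB1.tensorPow (CohB1.tensorPow L a) m) 0) : ℝ) / (m : ℝ) ^ d) Filter.atTop =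
      (d.factorial : ℝ) * ((a : ℝ) ^ d * Filter.limsup (fun m : ℕ => (Module.finrank k (Coh.HH X
        (CohB1.tensorPow L m) 0) : ℝ) / (m : ℝ) ^ d) Filter.atTop) := by
      rw [key]; ring
    exact mul_left_cancel₀ hfac.ne' this
  rw [key', ENNReal.ofReal_mul (by positivity), ENNReal.ofReal_pow (by positivity),
    ENNReal.ofReal_natCast]

end Main

end Groth.Agent.Helper4.SN
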