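import Mathlib
import Groth.Agent.Helper4.SN166
import Groth.Agent.Helper4.SN5
import Groth.Agent.Helper4.SN78
import Groth.Agent.Lead.InvDualA

/-!
# Polynomial bound for the cohomology of monomials in invertible modules (S17502)
-/

set_option autoImplicit false
set_option linter.unusedSectionVars false
set_option linter.style.haveILetI false
universe u

open CategoryTheory CategoryTheory.Limits AlgebraicGeometry Opposite TopologicalSpace

namespace Groth.Agent.Helper4.SN

open Groth.Agent.Helper4.NApx82 Groth.Agent.Helper4.StalkDict Groth.Agent.Lead.Ref1B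
  Groth.Agent.Lead.StalkNhd Groth.Agent.Helper4.TensorInv Groth.Agent.Helper4.TensorAssoc
  Groth.Agent.Helper1.Dev

section Numeric

theorem sum_natAbs_of_update {r : ℕ} (a b : Fin r → ℤ) (j : Fin r)
    (hne : ∀ l, l ≠ j → b l = a l) (hj : (b j).natAbs + 1 = (a j).natAbs) :
    (∑ l, (b l).natAbs) + 1 = ∑ l, (a l).natAbs := by
  rw [← Finset.add_sum_erase Finset.univ (fun l => (b l).natAbs) (Finset.mem_univ j),
    ← Finset.add_sum_erase Finset.univ (fun l => (a l).natAbs) (Finset.mem_univ j)]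
  have h1 : ∑ l ∈ Finset.univ.erase j, (b l).natAbs =
      ∑ l ∈ Finset.univ.erase j, (a l).natAbs :=
    Finset.sum_congr rfl fun l hl => by rw [hne l (Finset.ne_of_mem_erase hl)]
  rw [h1]
  omega

theorem sum_natAbs_sub_single {r : ℕ} (a : Fin r → ℤ) (j : Fin r) (h : 0 < a j) :
    (∑ l, ((a - Pi.single j 1 : Fin r → ℤ) l).natAbs) + 1 = ∑ l, (a l).natAbs := by
  apply sum_natAbs_of_update a _ j
  · intro l hl
    simp [Pi.single_apply, hl]
  · simp only [Pi.sub_apply, Pi.single_eq_same]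
    omega

theorem sum_natAbs_add_single {r : ℕ} (a : Fin r → ℤ) (j : Fin r) (h : a j < 0) :
    (∑ l, ((a + Pi.single j 1 : Fin r → ℤ) l).natAbs) + 1 = ∑ l, (a l).natAbs := by
  apply sum_natAbs_of_update a _ j
  · intro l hl
    simp [Pi.single_apply, hl]
  · simp only [Pi.add_apply, Pi.single_eq_same]
    omega

theorem succ_pow_le (n d : ℕ) : ((n : ℝ) + 1) ^ d ≤ 2 ^ d * (1 + (n : ℝ) ^ d) := by
  rcases Nat.eq_zero_or_pos n with h | h
  · subst h
    simp only [Nat.cast_zero, zero_add, one_pow]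
    have h1 : (1 : ℝ) ≤ 2 ^ d := one_le_pow₀ (by norm_num)
    have h2 : (0 : ℝ) ≤ (0 : ℝ) ^ d := by positivity
    nlinarith
  · have hn : (1 : ℝ) ≤ n := by exact_mod_cast h
    calc ((n : ℝ) + 1) ^ d ≤ (2 * (n : ℝ)) ^ d := pow_le_pow_left₀ (by positivity) (by linarith) d
      _ = 2 ^ d * (n : ℝ) ^ d := mul_pow _ _ _
      _ ≤ 2 ^ d * (1 + (n : ℝ) ^ d) := by
        apply mul_le_mul_of_nonneg_left _ (by positivity)
        linarith

end Numeric

section Main

variable (k : Type u) [Field k] {Y : Scheme.{u}} [Y.Over (Spec (CommRingCat.of k))]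

/-- the family `F a` is reached in `Σ |a_j|` steps -/
theorem reach_family (r : ℕ) (Lb M : Fin r → Y.Modules) (hLb : ∀ j, PicF.IsInvertible (Lb j))
    (hM : ∀ j, PicF.IsInvertible (M j))
    (hLM : ∀ j, Nonempty (CohB1.tensorMod (Lb j) (M j) ≅ Coh.structureModule Y))
    (F : (Fin r → ℤ) → Y.Modules) (hF0 : Nonempty (F 0 ≅ Coh.structureModule Y))
    (hF : ∀ (a : Fin r → ℤ) (j : Fin r),
      Nonempty (F (a + Pi.single j 1) ≅ CohB1.tensorMod (F a) (Lb j))) :
    ∀ (n : ℕ) (a : Fin r → ℤ), ∑ l, (a l).natAbs = n → Reach (Fin.append Lb M) n (F a) := by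
  have hNL : ∀ j : Fin r, (Fin.append Lb M) (Fin.castAdd r j) = Lb j :=
    fun j => Fin.append_left Lb M j
  have hNM : ∀ j : Fin r, (Fin.append Lb M) (Fin.natAdd r j) = M j :=
    fun j => Fin.append_right Lb M j
  intro n
  induction n with
  | zero =>
    intro a ha
    have h0 : a = 0 := by
      funext l
      have := (Finset.sum_eq_zero_iff.mp ha) l (Finset.mem_univ l)
      simpa using this
    subst h0
    exact Reach.base _ hF0.some
  | succ n ih =>
    intro a ha
    have hex : ∃ j, a j ≠ 0 := by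
      by_contra hcon
      push Not at hcon
      have : ∑ l, (a l).natAbs = 0 := Finset.sum_eq_zero fun l _ => by rw [hcon l]; rfl
      omega
    obtain ⟨j, hj⟩ := hex
    rcases lt_or_gt_of_ne hj with hneg | hpos
    · -- negative coordinate
      have hs := sum_natAbs_add_single a j hneg
      have hR := ih (a + Pi.single j 1) (by omega)
      obtain ⟨e⟩ := hF a j
      obtain ⟨ε⟩ := hLM j
      have iso : F a ≅ CohB1.tensorMod (F (a + Pi.single j 1)) (M j) :=
        (SecTwist.unitorR (F a)).symm ≪≫ PicGrp.tensorModIso (Iso.refl _) ε.symm ≪≫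
          (assocIso (F a) (Lb j) (M j) (hLb j) (hM j)).symm ≪≫
          PicGrp.tensorModIso e.symm (Iso.refl _)
      refine Reach.step n _ _ (Fin.natAdd r j) hR ?_
      rw [hNM]
      exact iso
    · -- positive coordinate
      have hs := sum_natAbs_sub_single a j hpos
      have hR := ih (a - Pi.single j 1) (by omega)
      obtain ⟨e⟩ := hF (a - Pi.single j 1) j
      rw [sub_add_cancel] at e
      refine Reach.step n _ _ (Fin.castAdd r j) hR ?_
      rw [hNL]
      exact e

/-- S17502 -/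
theorem main17502 (N : ℕ) (c : Y ⟶ CohB1.ProjSpace N k) [IsClosedImmersion c]
    (hc : c ≫ CohB1.ProjSpace.toSpec N k = Y ↘ Spec (CommRingCat.of k))
    (d : ℕ) (hd : topologicalKrullDim ↥Y = d)
    (r : ℕ) (Lb : Fin r → Y.Modules) (hLb : ∀ j, PicF.IsInvertible (Lb j))
    (F : (Fin r → ℤ) → Y.Modules) (hF0 : Nonempty (F 0 ≅ Coh.structureModule Y))
    (hF : ∀ (a : Fin r → ℤ) (j : Fin r),
      Nonempty (F (a + Pi.single j 1) ≅ CohB1.tensorMod (F a) (Lb j))) :
    ∃ C : ℝ, 0 < C ∧ ∀ (i : ℕ) (a : Fin r → ℤ),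
      (Module.finrank k (Coh.HH Y (F a) i) : ℝ) ≤ C * (1 + (∑ j, |(a j : ℝ)|) ^ d) := by
  haveI : IsProper (Y ↘ (Spec (CommRingCat.of k))) := by
    rw [← hc]
    haveI := Groth.Agent.Helper6.HProj.isProper_toSpec N k
    infer_instance
  haveI := Groth.Agent.Helper4.NApx82.isNoetherian_of_proper k Y
  -- an ample module
  haveI : CompactSpace (Proj (CohB1.polyGrading N k)) :=
    Groth.Agent.Helper1.VA.compactSpace_proj k N
  have hamp1 : CohB1.IsAmple (Twist.twist (CohB1.polyGrading N k) ((1 : ℕ) : ℤ)) :=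
    Groth.Agent.Helper1.TwistMul.isAmple_twist (CohB1.polyGrading N k)
      (Groth.Agent.Helper1.PUP.hcovP N) 1 one_pos
  have hH := Groth.Agent.Helper4.PullAmple.isAmple_pullback_of_isAffineHom c hamp1
  -- inverses
  choose M hMi hML hLM using fun j => Groth.Agent.Lead.InvDual.exists_inverse (Lb j) (hLb j)
  have hNf : ∀ x, PicF.IsInvertible ((Fin.append Lb M) x) := by
    intro x
    refine Fin.addCases (fun j => ?_) (fun j => ?_) x
    · rw [Fin.append_left]; exact hLb j
    · rw [Fin.append_right]; exact hMi j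
  have hO : Coh.IsCoh (Coh.structureModule Y) := isCoh_structureModule Y
  have hdX : DimLT (CohB1.support (Coh.structureModule Y)) (d + 1) :=
    dimLT_of_dim_le d hd.le _
  have hGA := GA_of_dimLT k hNf _ hH d _ hO hdX
  choose Cf hCf using hGA
  have hreach := reach_family r Lb M hLb hMi hLM F hF0 hF
  set Cmax : ℕ := ∑ i ∈ Finset.range (d + 1), Cf i + 1 with hCmax
  refine ⟨(Cmax : ℝ) * 2 ^ d, by positivity, fun i a => ?_⟩
  set n := ∑ l, (a l).natAbs with hn
  have hnR : (∑ j, |(a j : ℝ)|) = (n : ℝ) := by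
    rw [hn, Nat.cast_sum]
    refine Finset.sum_congr rfl fun j _ => ?_
    rw [Nat.cast_natAbs, Int.cast_abs]
  rw [hnR]
  have hbound : Module.finrank k (Coh.HH Y (F a) i) ≤ Cmax * (n + 1) ^ d := by
    by_cases hi : i ≤ d
    · have h1 := hCf i n (F a) (hreach n a rfl)
      rw [finrank_hi_iso k (unitorL _) i] at h1
      have h2 : Cf i ≤ Cmax := by
        have := Finset.single_le_sum (f := Cf) (fun _ _ => Nat.zero_le _)
          (Finset.mem_range.mpr (show i < d + 1 by omega))
        omega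
      exact h1.trans (Nat.mul_le_mul_right _ h2)
    · haveI := subsingleton_HH_of_dim d hd.le (F a) i (by omega)
      rw [Module.finrank_zero_of_subsingleton]
      exact Nat.zero_le _
  have h3 : (Module.finrank k (Coh.HH Y (F a) i) : ℝ) ≤ (Cmax : ℝ) * ((n : ℝ) + 1) ^ d := by
    exact_mod_cast hbound
  calc (Module.finrank k (Coh.HH Y (F a) i) : ℝ) ≤ (Cmax : ℝ) * ((n : ℝ) + 1) ^ d := h3
    _ ≤ (Cmax : ℝ) * (2 ^ d * (1 + (n : ℝ) ^ d)) :=
      mul_le_mul_of_nonneg_left (succ_pow_le n d) (by positivity)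
    _ = (Cmax : ℝ) * 2 ^ d * (1 + (n : ℝ) ^ d) := by ring

end Main

end Groth.Agent.Helper4.SN
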