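import Mathlib
import Groth.Agent.Helper4.SN187
import Groth.Agent.Helper1.TwistExact
import Groth.Agent.Helper4.TensorLift

/-!
# The syzygy module of generating sections of an invertible module, twisted once, is globally
generated (via the Koszul complex)
-/

set_option autoImplicit false
set_option linter.style.haveILetI false

namespace Groth.Agent.Helper4.SN

open CategoryTheory Limits AlgebraicGeometry Opposite TopologicalSpace MonoidalCategory
open Groth.Agent.Lead.LocLift Groth.Agent.Helper4.GenLoc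

universe u

section S9569

variable {X : Scheme.{u}} {L : X.Modules}

theorem app_eq_smul_val (t : Coh.structureModule X ⟶ L) (V : X.Opens)
    (a : Γ(Coh.structureModule X, V)) :
    t.app V a = toFn a • (SecTwist.val t V : Γ(L, V)) := by
  have : a = toFn a • one X V := (GenLoc.smul_one V (toFn a)).symm
  conv_lhs => rw [this, Scheme.Modules.Hom.app_smul]
  rfl

/-- the comparison iso `(O ⊗ L) ⊗ L ≅ L ⊗ L` -/
noncomputable def betaIso (L : X.Modules) :
    CohB1.tensorMod (CohB1.tensorMod (Coh.structureModule X) L) L ≅ CohB1.tensorMod L L :=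
  (DCoh.tensorRightMod L).mapIso (Groth.Agent.Helper4.AmpleBasis.unitorL L) ≪≫
    Groth.Agent.Helper4.AmpleBasis.braidIso L L

theorem betaIso_hom (L : X.Modules) : (betaIso L).hom =
    KoszTw.tensorMap (Groth.Agent.Helper4.AmpleBasis.unitorL L).hom (𝟙 L) ≫
      (Groth.Agent.Helper4.AmpleBasis.braidIso L L).hom := by
  unfold betaIso
  rw [Iso.trans_hom, Functor.mapIso_hom, KoszTw.tensorRightMod_map]
  rfl

theorem mulS_betaIso (t : Coh.structureModule X ⟶ L) :
    mulS t (CohB1.tensorMod (Coh.structureModule X) L) ≫ (betaIso L).hom =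
      KoszTw.tensorMap t (𝟙 L) := by
  rw [betaIso_hom]
  apply Groth.Agent.Helper4.TensorLift.hom_ext
  intro V a l
  change (Groth.Agent.Helper4.AmpleBasis.braidIso L L).hom.app V
    ((KoszTw.tensorMap (Groth.Agent.Helper4.AmpleBasis.unitorL L).hom (𝟙 L)).app V
      ((mulS t (CohB1.tensorMod (Coh.structureModule X) L)).app V
        (SecTwist.tmul (Coh.structureModule X) L V a l))) = _
  rw [mulS_app, KoszTw.tensorMap_tmul, unitorL_tmul, KoszTw.tensorMap_tmul]
  have e1 : (Scheme.Modules.Hom.app (𝟙 L) V) (SecTwist.val t V) = SecTwist.val t V := rfl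
  have e2 : (Scheme.Modules.Hom.app (𝟙 L) V) l = l := rfl
  rw [e1, e2, braidIso_tmul, app_eq_smul_val]
  exact (Groth.Agent.Helper4.TensorLift.tmul_smul_right L L V (toFn a) (SecTwist.val t V) l).trans
    (Groth.Agent.Helper4.TensorLift.tmul_smul_left L L V (toFn a) (SecTwist.val t V) l).symm

variable {r : ℕ} (s : Fin r → (Coh.structureModule X ⟶ L))

/-- `∐_i (O ⊗ L) ≅ (∐_i O) ⊗ L` -/
noncomputable def alphaIso (r : ℕ) (L : X.Modules) :
    (∐ fun _ : Fin r => CohB1.tensorMod (Coh.structureModule X) L) ≅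
      CohB1.tensorMod (∐ fun _ : Fin r => Coh.structureModule X) L :=
  (PreservesCoproduct.iso (DCoh.tensorRightMod L) (fun _ : Fin r => Coh.structureModule X)).symm

theorem ι_alphaIso_hom (r : ℕ) (L : X.Modules) (i : Fin r) :
    Sigma.ι (fun _ : Fin r => CohB1.tensorMod (Coh.structureModule X) L) i ≫ (alphaIso r L).hom =
      KoszTw.tensorMap (Sigma.ι (fun _ : Fin r => Coh.structureModule X) i) (𝟙 L) := by
  unfold alphaIso
  rw [Iso.symm_hom, PreservesCoproduct.inv_hom, ← KoszTw.tensorRightMod_map]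
  exact ι_comp_sigmaComparison (DCoh.tensorRightMod L) (fun _ : Fin r => Coh.structureModule X) i

theorem kP_betaIso :
    kP s (Coh.structureModule X) ≫ (betaIso L).hom =
      (alphaIso r L).hom ≫ KoszTw.tensorMap (Sigma.desc s) (𝟙 L) := by
  apply Sigma.hom_ext
  intro i
  rw [← Category.assoc, ι_kP, mulS_betaIso, ← Category.assoc, ι_alphaIso_hom,
    ← KoszTw.tensorMap_comp, Sigma.ι_desc, Category.comp_id]

/-- `free (ULift (Fin r)) ≅ ∐_{Fin r} O` -/
noncomputable def freeIsoSigma (X : Scheme.{u}) (J : Type) :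
    (SheafOfModules.free (ULift.{u} J) : X.Modules) ≅ ∐ fun _ : J => Coh.structureModule X :=
  Sigma.whiskerEquiv (f := fun _ : ULift.{u} J => SheafOfModules.unit X.ringCatSheaf)
    (g := fun _ : J => Coh.structureModule X) Equiv.ulift (fun _ => Iso.refl _)

theorem ιFree_freeIsoSigma (X : Scheme.{u}) (J : Type) (i : ULift.{u} J) :
    (SheafOfModules.ιFree i : _ ⟶ (SheafOfModules.free (ULift.{u} J) : X.Modules)) ≫
      (freeIsoSigma X J).hom = Sigma.ι (fun _ : J => Coh.structureModule X) i.down := by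
  unfold freeIsoSigma
  rw [Sigma.whiskerEquiv_hom]
  refine (Sigma.ι_comp_map' _ _ _).trans ?_
  simp
  rfl

theorem exists_mem_genLocus_of_epi_desc (hL : PicF.IsInvertible L)
    (hs : Epi (Sigma.desc s : (∐ fun _ : Fin r => Coh.structureModule X) ⟶ L)) (x : X) :
    ∃ i, x ∈ CohB1.genLocus L (s i) := by
  obtain ⟨W, hxW, ⟨ε⟩⟩ := hL x
  have hp : Epi ((freeIsoSigma X (Fin r)).hom ≫
      (Sigma.desc s : (∐ fun _ : Fin r => Coh.structureModule X) ⟶ L)) :=
    @epi_comp _ _ _ _ _ _ inferInstance _ hs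
  obtain ⟨i, hi⟩ := Groth.Agent.Helper4.GGSec.exists_mem_genLocus_of_epi L
    ((freeIsoSigma X (Fin r)).hom ≫ Sigma.desc s) hp W ε x hxW
  refine ⟨i.down, ?_⟩
  have h : SheafOfModules.ιFree i ≫ (freeIsoSigma X (Fin r)).hom ≫ Sigma.desc s = s i.down := by
    exact (Category.assoc _ _ _).symm.trans
      ((congrArg (· ≫ Sigma.desc s) (ιFree_freeIsoSigma X (Fin r) i)).trans
        (Sigma.ι_desc s i.down))
  exact h ▸ hi

/-- **the twisted syzygy module is globally generated** -/
theorem isGloballyGenerated_kernel_tensor (hL : PicF.IsInvertible L)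
    (hs : Epi (Sigma.desc s : (∐ fun _ : Fin r => Coh.structureModule X) ⟶ L)) :
    Curv2.IsGloballyGenerated (CohB1.tensorMod
      (kernel (Sigma.desc s : (∐ fun _ : Fin r => Coh.structureModule X) ⟶ L)) L) := by
  have hcov : ∀ x : X, ∃ i, x ∈ CohB1.genLocus L (s i) :=
    fun x => exists_mem_genLocus_of_epi_desc s hL hs x
  haveI hE := epi_kernel_lift_kQ s (Coh.structureModule X) hL hcov
  obtain ⟨e1⟩ := Groth.Agent.Helper1.TwistExact.nonempty_kernel_tensorMap_iso
    (Sigma.desc s : (∐ fun _ : Fin r => Coh.structureModule X) ⟶ L) L hL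
  let e2 : kernel (kP s (Coh.structureModule X)) ≅
      kernel (KoszTw.tensorMap (Sigma.desc s : (∐ fun _ : Fin r => Coh.structureModule X) ⟶ L)
        (𝟙 L)) :=
    kernel.mapIso _ _ (alphaIso r L) (betaIso L) (kP_betaIso s)
  refine ⟨ULift.{u} (Fin r × Fin r),
    (freeIsoSigma X (Fin r × Fin r)).hom ≫
      kernel.lift (kP s (Coh.structureModule X)) (kQ s (Coh.structureModule X))
        (kQ_kP s (Coh.structureModule X) hL) ≫ e2.hom ≫ e1.hom, ?_⟩
  have h1 : Epi (e2.hom ≫ e1.hom) := epi_comp _ _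
  have h2 : Epi (kernel.lift (kP s (Coh.structureModule X)) (kQ s (Coh.structureModule X))
        (kQ_kP s (Coh.structureModule X) hL) ≫ e2.hom ≫ e1.hom) :=
    @epi_comp _ _ _ _ _ _ hE _ h1
  exact @epi_comp _ _ _ _ _ _ inferInstance _ h2

end S9569

end Groth.Agent.Helper4.SN
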