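import Mathlib
import Groth.Agent.Helper1.SerreVan
import Groth.Agent.Helper1.HHLes3
import Groth.Agent.Helper1.Dev2
import Groth.Agent.Helper1.Fin10
import Groth.Agent.Helper1.SerreCritE
import Groth.Agent.Helper4.SN32
import Groth.Agent.Helper4.SN9
import Groth.Agent.Helper4.NApx82
import Groth.Agent.Helper6.HProj
import Groth.Agent.S0022
import Groth.Agent.S0020
import Groth.Agent.Lead.PerfLib5

/-!
# Regularity of the cokernel of a termwise regular complex on projective space (S12910)
-/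

set_option autoImplicit false
set_option linter.style.haveILetI false

namespace Groth.Agent.Helper4.SN

open CategoryTheory Limits AlgebraicGeometry Opposite TopologicalSpace

universe u

section VV

variable (k : Type u) [Field k] (n : ℕ)

/-- vanishing of `H^j(F(e))` -/
def VV (F : (CohB1.ProjSpace n k).Modules) (e : ℤ) (j : ℕ) : Prop :=
  Subsingleton (Coh.HH (CohB1.ProjSpace n k) (CohB1.tensorMod F (Twist.twistProjSpace n k e)) j)

variable {k n}

theorem VV_mid (S : ShortComplex (CohB1.ProjSpace n k).Modules) (hS : S.ShortExact) (e : ℤ) (j : ℕ)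
    (h1 : VV k n S.X₁ e j) (h3 : VV k n S.X₃ e j) : VV k n S.X₂ e j := by
  have hB := Groth.Agent.Helper1.SerreVan.isInvertible_twist n k e
  have hS' := Groth.Agent.Helper1.TwistExact.shortExact_map_tensorRightMod hS _ hB
  have hex := Groth.Agent.Helper1.HHLes.exact_f_g k _ hS' j
  haveI h1' : Subsingleton (Coh.HH (CohB1.ProjSpace n k)
      (S.map (DCoh.tensorRightMod (Twist.twistProjSpace n k e))).X₁ j) := h1
  haveI h3' : Subsingleton (Coh.HH (CohB1.ProjSpace n k)
      (S.map (DCoh.tensorRightMod (Twist.twistProjSpace n k e))).X₃ j) := h3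
  have h0 : ∀ x : Coh.HH (CohB1.ProjSpace n k)
      (S.map (DCoh.tensorRightMod (Twist.twistProjSpace n k e))).X₂ j, x = 0 := by
    intro x
    obtain ⟨y, rfl⟩ := (hex x).1 (Subsingleton.elim _ _)
    rw [Subsingleton.elim y 0, map_zero]
  exact ⟨fun x y => (h0 x).trans (h0 y).symm⟩

theorem VV_right (S : ShortComplex (CohB1.ProjSpace n k).Modules) (hS : S.ShortExact) (e : ℤ)
    (j : ℕ) (h2 : VV k n S.X₂ e j) (h1 : VV k n S.X₁ e (j + 1)) : VV k n S.X₃ e j := by
  have hB := Groth.Agent.Helper1.SerreVan.isInvertible_twist n k e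
  have hS' := Groth.Agent.Helper1.TwistExact.shortExact_map_tensorRightMod hS _ hB
  have hex := Groth.Agent.Helper1.HHLes.exact_g_δ k _ hS' j
  haveI h1' : Subsingleton (Coh.HH (CohB1.ProjSpace n k)
      (S.map (DCoh.tensorRightMod (Twist.twistProjSpace n k e))).X₁ (j + 1)) := h1
  haveI h2' : Subsingleton (Coh.HH (CohB1.ProjSpace n k)
      (S.map (DCoh.tensorRightMod (Twist.twistProjSpace n k e))).X₂ j) := h2
  have h0 : ∀ x : Coh.HH (CohB1.ProjSpace n k)
      (S.map (DCoh.tensorRightMod (Twist.twistProjSpace n k e))).X₃ j, x = 0 := by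
    intro x
    obtain ⟨y, rfl⟩ := (hex x).1 (Subsingleton.elim _ _)
    rw [Subsingleton.elim y 0, map_zero]
  exact ⟨fun x y => (h0 x).trans (h0 y).symm⟩

theorem VV_of_iso {F G : (CohB1.ProjSpace n k).Modules} (i : F ≅ G) (e : ℤ) (j : ℕ)
    (h : VV k n F e j) : VV k n G e j :=
  Groth.Agent.Helper1.SerreCrit.subsingleton_HH_of_iso
    ((DCoh.tensorRightMod (Twist.twistProjSpace n k e)).mapIso i) j h

theorem VV_of_isZero {F : (CohB1.ProjSpace n k).Modules} (hF : IsZero F) (e : ℤ) (j : ℕ) :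
    VV k n F e j :=
  Groth.Agent.Helper1.Fin.subsingleton_HH_of_isZero
    (Functor.map_isZero (DCoh.tensorRightMod (Twist.twistProjSpace n k e)) hF) j

/-- regular, in all cohomological degrees -/
def RegAll (F : (CohB1.ProjSpace n k).Modules) (m : ℤ) : Prop :=
  ∀ j : ℕ, 1 ≤ j → VV k n F (m - j) j

/-- the vanishing of a regular module in degrees at least two -/
def Van2 (F : (CohB1.ProjSpace n k).Modules) (m : ℤ) : Prop :=
  ∀ j : ℕ, 2 ≤ j → VV k n F (m - j) j

theorem RegAll.van2 {F : (CohB1.ProjSpace n k).Modules} {m : ℤ} (h : RegAll F m) : Van2 F m :=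
  fun j hj => h j (by omega)

theorem RegAll.isMRegular {F : (CohB1.ProjSpace n k).Modules} {m : ℤ} (h : RegAll F m) :
    Curv2.IsMRegular k n F m := fun j hj _ => h j hj

theorem regAll_of_isMRegular {F : (CohB1.ProjSpace n k).Modules} (hF : Coh.IsCoh F) {m : ℤ}
    (h : Curv2.IsMRegular k n F m) : RegAll F m := by
  intro j hj
  by_cases hjn : j ≤ n
  · exact h j hj hjn
  · have hc : Coh.IsCoh (CohB1.tensorMod F (Twist.twistProjSpace n k (m - j))) :=
      Groth.Agent.Lead.Ref1B.isCoh_tensorMod _ _ hF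
        (Groth.Agent.Helper1.SerreFin.isCoh_of_isInvertible _
          (Groth.Agent.Helper1.SerreVan.isInvertible_twist n k _))
    haveI : Coh.IsQCoh (CohB1.tensorMod F (Twist.twistProjSpace n k (m - j))) := hc.1
    exact Groth.Agent.S0022.result n k _ j (by omega)

theorem regAll_right (S : ShortComplex (CohB1.ProjSpace n k).Modules) (hS : S.ShortExact) (m : ℤ)
    (h2 : RegAll S.X₂ m) (h1 : Van2 S.X₁ (m + 1)) : RegAll S.X₃ m := by
  intro j hj
  refine VV_right S hS (m - j) j (h2 j hj) ?_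
  have := h1 (j + 1) (by omega)
  rwa [show (m + 1) - ((j + 1 : ℕ) : ℤ) = m - (j : ℤ) by push_cast; ring] at this

theorem van2_mid (S : ShortComplex (CohB1.ProjSpace n k).Modules) (hS : S.ShortExact) (m : ℤ)
    (h1 : RegAll S.X₁ m) (h3 : ∀ (e : ℤ) (j : ℕ), 2 ≤ j → VV k n S.X₃ e j) : Van2 S.X₂ m :=
  fun j hj => VV_mid S hS _ j (h1 j (by omega)) (h3 _ j hj)

theorem Van2.of_iso {F G : (CohB1.ProjSpace n k).Modules} (i : F ≅ G) {m : ℤ} (h : Van2 F m) :
    Van2 G m := fun j hj => VV_of_iso i _ j (h j hj)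

/-- vanishing above the dimension of the support -/
theorem VV_of_support_dim_le_one {H : (CohB1.ProjSpace n k).Modules} (hH : Coh.IsCoh H)
    (hsupp : topologicalKrullDim (CohB1.support H) ≤ 1) (e : ℤ) (j : ℕ) (hj : 2 ≤ j) :
    VV k n H e j := by
  haveI : IsProper ((CohB1.ProjSpace n k) ↘ (Spec (CommRingCat.of k))) :=
    Groth.Agent.Helper6.HProj.isProper_toSpec n k
  haveI := Groth.Agent.Helper4.NApx82.isNoetherian_of_proper k (CohB1.ProjSpace n k)
  have hc : Coh.IsCoh (CohB1.tensorMod H (Twist.twistProjSpace n k e)) :=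
    Groth.Agent.Lead.Ref1B.isCoh_tensorMod _ _ hH
      (Groth.Agent.Helper1.SerreFin.isCoh_of_isInvertible _
        (Groth.Agent.Helper1.SerreVan.isInvertible_twist n k _))
  have hcl : IsClosed (CohB1.support (CohB1.tensorMod H (Twist.twistProjSpace n k e))) :=
    Groth.Agent.S0020.result _ _ hc.2
  have hd : DimLT (CohB1.support H) 2 := by
    apply dimLT_of_krullDim_lt
    refine lt_of_le_of_lt hsupp ?_
    exact_mod_cast (by norm_num : (1 : ℕ) < 2)
  exact subsingleton_HH_of_dimLT_support _ hcl 2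
    (hd.mono (support_tensorMod_subset_left _ _)) j hj

end VV

section Chain

variable {k : Type u} [Field k] {n : ℕ}
  (E : ChainComplex ((CohB1.ProjSpace n k).Modules) ℕ)

/-- the lift of `d : E_{s+2} → E_{s+1}` to the kernel of `d : E_{s+1} → E_s` -/
noncomputable def cLift (s : ℕ) : E.X (s + 2) ⟶ kernel (E.d (s + 1) s) :=
  kernel.lift (E.d (s + 1) s) (E.d (s + 2) (s + 1)) (E.d_comp_d _ _ _)

/-- the homology in terms of the lift -/
noncomputable def homologyIsoCokerLift (s : ℕ) : E.homology (s + 1) ≅ cokernel (cLift E s) :=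
  E.homologyIsoSc' (s + 2) (s + 1) s (ChainComplex.prev ℕ (s + 1)) (ChainComplex.next_nat_succ s) ≪≫
    (E.sc' (s + 2) (s + 1) s).homologyIsoCokernelLift

/-- the kernel of the lift is the kernel of the differential -/
noncomputable def kernelLiftIso (s : ℕ) : kernel (cLift E s) ≅ kernel (E.d (s + 2) (s + 1)) :=
  (kernelCompMono (cLift E s) (kernel.ι (E.d (s + 1) s))).symm ≪≫
    kernelIsoOfEq (kernel.lift_ι _ _ _)

theorem main12910 (t : ℕ) (hbdd : ∀ s : ℕ, t < s → IsZero (E.X s))
    (hcoh : ∀ s : ℕ, Coh.IsCoh (E.X s)) (d : ℤ)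
    (hreg : ∀ s : ℕ, Curv2.IsMRegular k n (E.X s) (d + s))
    (hsupp : ∀ i : ℕ, 0 < i → topologicalKrullDim (CohB1.support (E.homology i)) ≤ 1) :
    Curv2.IsMRegular k n (cokernel (E.d 1 0)) d ∧
      Curv2.IsMRegular k n (Abelian.image (E.d 1 0)) (d + 1) := by
  haveI : IsProper ((CohB1.ProjSpace n k) ↘ (Spec (CommRingCat.of k))) :=
    Groth.Agent.Helper6.HProj.isProper_toSpec n k
  haveI := Groth.Agent.Helper4.NApx82.isNoetherian_of_proper k (CohB1.ProjSpace n k)
  have hregA : ∀ s : ℕ, RegAll (E.X s) (d + s) := fun s => regAll_of_isMRegular (hcoh s) (hreg s)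
  -- coherence of the auxiliary modules
  have hZ : ∀ s, Coh.IsCoh (kernel (E.d (s + 1) s)) := fun s =>
    Groth.Agent.Lead.PerfLib.isCoh_kernel (hcoh _) (hcoh _) _
  have hH : ∀ s, Coh.IsCoh (cokernel (cLift E s)) := fun s =>
    Groth.Agent.Lead.PerfLib.isCoh_cokernel (hcoh _) (hZ s) _
  -- vanishing for the homology
  have hHv : ∀ s (e : ℤ) (j : ℕ), 2 ≤ j → VV k n (cokernel (cLift E s)) e j := by
    intro s e j hj
    refine VV_of_support_dim_le_one (hH s) ?_ e j hj
    rw [← Groth.Agent.Helper1.Dev.support_eq_of_iso (homologyIsoCokerLift E s)]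
    exact hsupp (s + 1) (Nat.succ_pos s)
  -- the vanishing for the cycles from the regularity of the boundaries
  have hstepZ : ∀ s, RegAll (Abelian.image (cLift E s)) (d + s + 2) →
      Van2 (kernel (E.d (s + 1) s)) (d + s + 2) := by
    intro s h
    exact van2_mid (Groth.Agent.Helper1.Dev.imCokSC (cLift E s))
      (Groth.Agent.Helper1.Dev.imCokSC_shortExact (cLift E s)) _ h (hHv s)
  -- descending induction
  have key : ∀ r s : ℕ, t ≤ s + r → RegAll (Abelian.image (cLift E s)) (d + s + 2) := by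
    intro r
    induction r with
    | zero =>
      intro s hs j hj
      have h0 : IsZero (E.X (s + 2)) := hbdd _ (by omega)
      have h1 : IsZero (Abelian.image (cLift E s)) :=
        IsZero.of_epi_eq_zero (Abelian.factorThruImage (cLift E s)) (h0.eq_of_src _ _)
      exact VV_of_isZero h1 _ j
    | succ r ih =>
      intro s hs
      have h1 := ih (s + 1) (by omega)
      have h2 : Van2 (kernel (E.d (s + 2) (s + 1))) (d + s + 3) := by
        have := hstepZ (s + 1) (by
          rw [show d + ((s + 1 : ℕ) : ℤ) + 2 = d + (s : ℤ) + 1 + 2 by push_cast; ring]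
          exact (show d + ((s + 1 : ℕ) : ℤ) + 2 = d + (s : ℤ) + 1 + 2 by push_cast; ring) ▸ h1)
        rwa [show d + ((s + 1 : ℕ) : ℤ) + 2 = d + (s : ℤ) + 3 by push_cast; ring] at this
      have h3 : Van2 (kernel (cLift E s)) (d + s + 2 + 1) := by
        rw [show d + (s : ℤ) + 2 + 1 = d + s + 3 by ring]
        exact h2.of_iso (kernelLiftIso E s).symm
      have h4 : RegAll (E.X (s + 2)) (d + s + 2) := by
        have := hregA (s + 2)
        rwa [show d + ((s + 2 : ℕ) : ℤ) = d + (s : ℤ) + 2 by push_cast; ring] at this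
      exact regAll_right (Groth.Agent.Helper1.Dev.kerImSC (cLift E s))
        (Groth.Agent.Helper1.Dev.kerImSC_shortExact (cLift E s)) _ h4 h3
  have hP0 : RegAll (Abelian.image (cLift E 0)) (d + 2) := by
    have := key t 0 (by omega)
    rwa [show d + ((0 : ℕ) : ℤ) + 2 = d + 2 by push_cast; ring] at this
  have hZ0 : Van2 (kernel (E.d 1 0)) (d + 1 + 1) := by
    have := hstepZ 0 (by
      rw [show d + ((0 : ℕ) : ℤ) + 2 = d + 2 by push_cast; ring]; exact hP0)
    rwa [show d + ((0 : ℕ) : ℤ) + 2 = d + 1 + 1 by push_cast; ring] at this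
  have hE1 : RegAll (E.X 1) (d + 1) := by
    have := hregA 1
    rwa [show d + ((1 : ℕ) : ℤ) = d + 1 by push_cast; ring] at this
  have hI : RegAll (Abelian.image (E.d 1 0)) (d + 1) :=
    regAll_right (Groth.Agent.Helper1.Dev.kerImSC (E.d 1 0))
      (Groth.Agent.Helper1.Dev.kerImSC_shortExact (E.d 1 0)) _ hE1 hZ0
  have hE0 : RegAll (E.X 0) d := by
    have := hregA 0
    rwa [show d + ((0 : ℕ) : ℤ) = d by push_cast; ring] at this
  have hC : RegAll (cokernel (E.d 1 0)) d :=
    regAll_right (Groth.Agent.Helper1.Dev.imCokSC (E.d 1 0))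
      (Groth.Agent.Helper1.Dev.imCokSC_shortExact (E.d 1 0)) _ hE0 hI.van2
  exact ⟨hC.isMRegular, hI.isMRegular⟩

end Chain

end Groth.Agent.Helper4.SN
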