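import Mathlib

/-!
# Graded prime avoidance and hypersurfaces cutting down a Noetherian space over `Proj`
-/

set_option autoImplicit false
set_option linter.style.haveILetI false

namespace Groth.Agent.Helper4.SN

open TopologicalSpace

universe u

section Avoid

variable {R A : Type*} [CommRing R] [CommRing A] [Algebra R A] (𝒜 : ℕ → Submodule R A)
  [GradedAlgebra 𝒜]

/-- a homogeneous ideal not contained in an ideal has a homogeneous element outside of it -/
theorem exists_homogeneous_notMem_of_not_le (I : HomogeneousIdeal 𝒜) (P : Ideal A)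
    (hI : ¬ I.toIdeal ≤ P) : ∃ (i : ℕ) (a : A), a ∈ 𝒜 i ∧ a ∈ I.toIdeal ∧ a ∉ P := by
  classical
  obtain ⟨a, haI, haP⟩ := SetLike.not_le_iff_exists.mp hI
  by_contra hcon
  push Not at hcon
  apply haP
  rw [← DirectSum.sum_support_decompose 𝒜 a]
  exact Ideal.sum_mem _ (fun i _ => hcon i _ (SetLike.coe_mem _) (I.isHomogeneous i haI))

/-- a point of `Proj` has a homogeneous element of positive degree outside of it -/
theorem exists_pos_homogeneous_notMem (z : ProjectiveSpectrum 𝒜) :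
    ∃ (i : ℕ) (c : A), 0 < i ∧ c ∈ 𝒜 i ∧ c ∉ z.asHomogeneousIdeal := by
  obtain ⟨i, c, hci, hcirr, hcz⟩ := exists_homogeneous_notMem_of_not_le 𝒜
    (HomogeneousIdeal.irrelevant 𝒜) z.asHomogeneousIdeal.toIdeal z.not_irrelevant_le
  refine ⟨i, c, ?_, hci, hcz⟩
  rcases Nat.eq_zero_or_pos i with rfl | hpos
  · exfalso
    apply hcz
    have h0 : GradedRing.proj 𝒜 0 c = 0 := (HomogeneousIdeal.mem_irrelevant_iff 𝒜 c).mp hcirr
    have h1 : GradedRing.proj 𝒜 0 c = c := by
      rw [GradedRing.proj_apply, DirectSum.decompose_of_mem_same 𝒜 hci]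
    rw [h1] at h0
    rw [h0]
    exact z.asHomogeneousIdeal.toIdeal.zero_mem
  · exact hpos

/-- one point -/
theorem exists_homogeneous_avoiding_one (I : HomogeneousIdeal 𝒜) (z : ProjectiveSpectrum 𝒜)
    (hz : ¬ I.toIdeal ≤ z.asHomogeneousIdeal.toIdeal) :
    ∃ (d : ℕ) (f : A), 0 < d ∧ f ∈ 𝒜 d ∧ f ∈ I.toIdeal ∧ f ∉ z.asHomogeneousIdeal := by
  obtain ⟨i, a, hai, haI, haz⟩ := exists_homogeneous_notMem_of_not_le 𝒜 I _ hz
  obtain ⟨j, c, hj, hcj, hcz⟩ := exists_pos_homogeneous_notMem 𝒜 z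
  refine ⟨i + j, a * c, by omega, SetLike.mul_mem_graded hai hcj, Ideal.mul_mem_right _ _ haI, ?_⟩
  intro h
  rcases (z.isPrime.mem_or_mem h) with h1 | h1
  · exact haz h1
  · exact hcz h1

/-- **graded prime avoidance** -/
theorem exists_homogeneous_avoiding (I : HomogeneousIdeal 𝒜) :
    ∀ (n : ℕ) (s : Finset (ProjectiveSpectrum 𝒜)), s.card = n →
      (∀ z ∈ s, ¬ I.toIdeal ≤ z.asHomogeneousIdeal.toIdeal) →
      ∃ (d : ℕ) (f : A), 0 < d ∧ f ∈ 𝒜 d ∧ f ∈ I.toIdeal ∧ ∀ z ∈ s, f ∉ z.asHomogeneousIdeal := by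
  classical
  intro n
  induction n using Nat.strong_induction_on with
  | _ n ih =>
  intro s hn hs
  rcases Nat.lt_or_ge n 2 with hlt | hge
  · interval_cases n
    · refine ⟨1, 0, Nat.one_pos, Submodule.zero_mem _, Submodule.zero_mem _, ?_⟩
      intro z hz
      rw [Finset.card_eq_zero.mp hn] at hz
      exact absurd hz (Finset.notMem_empty z)
    · obtain ⟨z, rfl⟩ := Finset.card_eq_one.mp hn
      obtain ⟨d, f, hd, hf, hfI, hfz⟩ :=
        exists_homogeneous_avoiding_one 𝒜 I z (hs z (Finset.mem_singleton_self z))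
      exact ⟨d, f, hd, hf, hfI, fun w hw => by rw [Finset.mem_singleton.mp hw]; exact hfz⟩
  · have hx : ∀ z ∈ s, ∃ (d : ℕ) (f : A), 0 < d ∧ f ∈ 𝒜 d ∧ f ∈ I.toIdeal ∧
        ∀ w ∈ s.erase z, f ∉ w.asHomogeneousIdeal := fun z hz =>
      ih (n - 1) (by omega) (s.erase z) (by rw [Finset.card_erase_of_mem hz, hn])
        (fun w hw => hs w (Finset.mem_of_mem_erase hw))
    by_cases hex : ∃ z ∈ s, ∃ (d : ℕ) (f : A), 0 < d ∧ f ∈ 𝒜 d ∧ f ∈ I.toIdeal ∧
        (∀ w ∈ s.erase z, f ∉ w.asHomogeneousIdeal) ∧ f ∉ z.asHomogeneousIdeal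
    · obtain ⟨z, hz, d, f, hd, hf, hfI, hfw, hfz⟩ := hex
      refine ⟨d, f, hd, hf, hfI, fun w hw => ?_⟩
      by_cases hwz : w = z
      · rw [hwz]; exact hfz
      · exact hfw w (Finset.mem_erase.mpr ⟨hwz, hw⟩)
    · push Not at hex
      choose! dd x hdpos hxdeg hxI hxavoid using hx
      have hxin : ∀ z ∈ s, x z ∈ z.asHomogeneousIdeal := fun z hz =>
        hex z hz (dd z) (x z) (hdpos z hz) (hxdeg z hz) (hxI z hz) (hxavoid z hz)
      have hsne : s.Nonempty := Finset.card_pos.mp (by omega)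
      obtain ⟨q, hq⟩ := hsne
      set s' := s.erase q with hs'
      have hs'card : s'.card = n - 1 := by rw [hs', Finset.card_erase_of_mem hq, hn]
      have hs'ne : s'.Nonempty := Finset.card_pos.mp (by omega)
      have hmem' : ∀ z ∈ s', z ∈ s := fun z hz => Finset.mem_of_mem_erase hz
      set p := ∏ z ∈ s', x z with hp
      set D := ∑ z ∈ s', dd z with hD
      have hpdeg : p ∈ 𝒜 D := SetLike.prod_mem_graded _ _ _ (fun z hz => hxdeg z (hmem' z hz))
      have hDpos : 0 < D := Finset.sum_pos (fun z hz => hdpos z (hmem' z hz)) hs'ne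
      have hpI : p ∈ I.toIdeal := by
        obtain ⟨w, hw⟩ := hs'ne
        rw [hp, ← Finset.mul_prod_erase s' x hw]
        exact Ideal.mul_mem_right _ _ (hxI w (hmem' w hw))
      have hdq := hdpos q hq
      refine ⟨dd q * D, p ^ (dd q) + (x q) ^ D, Nat.mul_pos hdq hDpos, ?_, ?_, ?_⟩
      · apply Submodule.add_mem
        · have := SetLike.pow_mem_graded (dd q) hpdeg
          rwa [smul_eq_mul] at this
        · have := SetLike.pow_mem_graded D (hxdeg q hq)
          rwa [smul_eq_mul, mul_comm] at this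
      · exact Ideal.add_mem _ (Ideal.pow_mem_of_mem _ hpI _ hdq)
          (Ideal.pow_mem_of_mem _ (hxI q hq) _ hDpos)
      · intro w hw hmem
        by_cases hwq : w = q
        · subst hwq
          have h1 : (x w) ^ D ∈ w.asHomogeneousIdeal.toIdeal :=
            Ideal.pow_mem_of_mem _ (hxin w hw) _ hDpos
          have h2 : p ^ (dd w) ∈ w.asHomogeneousIdeal.toIdeal := by
            have := Ideal.sub_mem _ hmem h1
            rwa [add_sub_cancel_right] at this
          have h3 : p ∈ w.asHomogeneousIdeal.toIdeal := w.isPrime.mem_of_pow_mem _ h2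
          rw [hp, Ideal.IsPrime.prod_mem_iff] at h3
          obtain ⟨z, hz, hxz⟩ := h3
          have hzs := hmem' z hz
          have hwz : w ≠ z := fun h => by
            rw [hs', ← h] at hz
            exact Finset.notMem_erase w s hz
          exact hxavoid z hzs w (Finset.mem_erase.mpr ⟨hwz, hw⟩) hxz
        · have hws' : w ∈ s' := Finset.mem_erase.mpr ⟨hwq, hw⟩
          have h1 : p ∈ w.asHomogeneousIdeal.toIdeal := by
            rw [hp, ← Finset.mul_prod_erase s' x hws']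
            exact Ideal.mul_mem_right _ _ (hxin w hw)
          have h2 : p ^ (dd q) ∈ w.asHomogeneousIdeal.toIdeal :=
            Ideal.pow_mem_of_mem _ h1 _ hdq
          have h3 : (x q) ^ D ∈ w.asHomogeneousIdeal.toIdeal := by
            have := Ideal.sub_mem _ hmem h2
            rwa [add_sub_cancel_left] at this
          exact hxavoid q hq w hws' (w.isPrime.mem_of_pow_mem _ h3)

end Avoid

section Cut

variable {R A : Type*} [CommRing R] [CommRing A] [Algebra R A] (𝒜 : ℕ → Submodule R A)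
  [GradedAlgebra 𝒜]
variable {T : Type*} [TopologicalSpace T] [NoetherianSpace T]

open ProjectiveSpectrum

omit [NoetherianSpace T] in
theorem isClosed_setOf_mem_asHomogeneousIdeal (f : T → ProjectiveSpectrum 𝒜) (hf : Continuous f)
    (g : A) : IsClosed {x : T | g ∈ (f x).asHomogeneousIdeal} := by
  have h1 : {x : T | g ∈ (f x).asHomogeneousIdeal} = f ⁻¹' (zeroLocus 𝒜 {g}) := by
    ext x
    simp only [Set.mem_ofPred_eq, Set.mem_preimage, mem_zeroLocus, Set.singleton_subset_iff,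
      SetLike.mem_coe]
  rw [h1]
  exact (isClosed_zeroLocus 𝒜 _).preimage hf

theorem exists_hypersurfaces_aux (r : ℕ) (hT : topologicalKrullDim T ≤ r)
    (f : T → ProjectiveSpectrum 𝒜) (hf : Continuous f) (Y : Set (ProjectiveSpectrum 𝒜))
    (hY : IsClosed Y) : ∀ j : ℕ, ∃ (h : Fin j → A), (∀ i, ∃ d, 0 < d ∧ h i ∈ 𝒜 d) ∧
      (∀ i, h i ∈ (vanishingIdeal Y).toIdeal) ∧
      ∀ S : IrreducibleCloseds T, (∀ x ∈ (S : Set T), ∀ i, h i ∈ (f x).asHomogeneousIdeal) →
        (∃ x ∈ (S : Set T), f x ∉ Y) → Order.height S + (j : ℕ∞) ≤ (r : ℕ∞) := by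
  classical
  intro j
  induction j with
  | zero =>
    refine ⟨Fin.elim0, fun i => i.elim0, fun i => i.elim0, fun S _ _ => ?_⟩
    have h1 : ((Order.height S : ℕ∞) : WithBot ℕ∞) ≤ Order.krullDim (IrreducibleCloseds T) :=
      Order.height_le_krullDim S
    have h2 : ((Order.height S : ℕ∞) : WithBot ℕ∞) ≤ ((r : ℕ∞) : WithBot ℕ∞) := h1.trans hT
    have h3 : Order.height S ≤ (r : ℕ∞) := WithBot.coe_le_coe.mp h2
    simpa using h3
  | succ j ih =>
    obtain ⟨h, hdeg, hvan, hinv⟩ := ih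
    set W : Set T := {x | ∀ i, h i ∈ (f x).asHomogeneousIdeal} with hW
    have hWcl : IsClosed W := by
      have : W = ⋂ i, {x : T | h i ∈ (f x).asHomogeneousIdeal} := by
        ext x; simp [hW]
      rw [this]
      exact isClosed_iInter (fun i => isClosed_setOf_mem_asHomogeneousIdeal 𝒜 f hf (h i))
    obtain ⟨𝒮, h𝒮fin, h𝒮cl, h𝒮irr, h𝒮U⟩ :=
      NoetherianSpace.exists_finite_set_isClosed_irreducible hWcl
    -- witnesses outside of `Y`
    set 𝒮' : Set (Set T) := {C | C ∈ 𝒮 ∧ ∃ x ∈ C, f x ∉ Y} with h𝒮'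
    have h𝒮'fin : 𝒮'.Finite := h𝒮fin.subset (fun C hC => hC.1)
    haveI : Fintype ↥𝒮' := h𝒮'fin.fintype
    have hc : ∀ C : ↥𝒮', ∃ c : T, c ∈ C.1 ∧ f c ∉ Y := fun C => C.2.2
    choose c hcC hcY using hc
    set s : Finset (ProjectiveSpectrum 𝒜) := Finset.univ.image (fun C : ↥𝒮' => f (c C)) with hs
    have hYzl : zeroLocus 𝒜 (vanishingIdeal Y : Set A) = Y := by
      rw [zeroLocus_vanishingIdeal_eq_closure, hY.closure_eq]
    have hsavoid : ∀ z ∈ s, ¬ (vanishingIdeal Y).toIdeal ≤ z.asHomogeneousIdeal.toIdeal := by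
      intro z hz hle
      obtain ⟨C, -, rfl⟩ := Finset.mem_image.mp hz
      apply hcY C
      rw [← hYzl, mem_zeroLocus]
      exact hle
    obtain ⟨d, g, hd, hgd, hgI, hgs⟩ :=
      exists_homogeneous_avoiding 𝒜 (vanishingIdeal Y) s.card s rfl hsavoid
    refine ⟨Fin.snoc h g, ?_, ?_, ?_⟩
    · intro i
      refine Fin.lastCases ?_ (fun i => ?_) i
      · rw [Fin.snoc_last]; exact ⟨d, hd, hgd⟩
      · rw [Fin.snoc_castSucc]; exact hdeg i
    · intro i
      refine Fin.lastCases ?_ (fun i => ?_) i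
      · rw [Fin.snoc_last]; exact hgI
      · rw [Fin.snoc_castSucc]; exact hvan i
    · intro S hS hSY
      have hSW : (S : Set T) ⊆ W := by
        intro x hx i
        have := hS x hx i.castSucc
        rwa [Fin.snoc_castSucc] at this
      have hSg : ∀ x ∈ (S : Set T), g ∈ (f x).asHomogeneousIdeal := by
        intro x hx
        have := hS x hx (Fin.last j)
        rwa [Fin.snoc_last] at this
      obtain ⟨C, hC𝒮, hSC⟩ := isIrreducible_iff_sUnion_isClosed.mp S.isIrreducible h𝒮fin.toFinset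
        (fun z hz => h𝒮cl z (h𝒮fin.mem_toFinset.mp hz))
        (by rw [h𝒮fin.coe_toFinset, ← h𝒮U]; exact hSW)
      rw [h𝒮fin.mem_toFinset] at hC𝒮
      obtain ⟨x₀, hx₀S, hx₀Y⟩ := hSY
      have hC𝒮' : C ∈ 𝒮' := ⟨hC𝒮, x₀, hSC hx₀S, hx₀Y⟩
      set C' : IrreducibleCloseds T := ⟨C, h𝒮irr C hC𝒮, h𝒮cl C hC𝒮⟩ with hC'
      have hcnot : c ⟨C, hC𝒮'⟩ ∉ (S : Set T) := by
        intro hmem
        have h1 := hSg _ hmem
        exact hgs (f (c ⟨C, hC𝒮'⟩)) (Finset.mem_image.mpr ⟨⟨C, hC𝒮'⟩, Finset.mem_univ _, rfl⟩) h1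
      have hlt : S < C' := by
        refine lt_of_le_of_ne hSC ?_
        intro heq
        apply hcnot
        rw [heq]
        exact hcC ⟨C, hC𝒮'⟩
      have hCW : (C : Set T) ⊆ W := by
        rw [h𝒮U]
        exact Set.subset_sUnion_of_mem hC𝒮
      have h1 := hinv C' (fun x hx i => hCW hx i) ⟨x₀, hSC hx₀S, hx₀Y⟩
      have h2 := Order.height_add_one_le hlt
      calc Order.height S + ((j + 1 : ℕ) : ℕ∞) = (Order.height S + 1) + (j : ℕ∞) := by
            push_cast; ring
        _ ≤ Order.height C' + (j : ℕ∞) := by gcongr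
        _ ≤ (r : ℕ∞) := h1

/-- **hypersurfaces through `Y` cutting down `T`**: if `T` is a Noetherian space of dimension at
most `r` mapping to `Proj`, then `r + 1` hypersurfaces through the closed set `Y` cover the
complement of the preimage of `Y` by their non-vanishing loci -/
theorem exists_hypersurfaces_cover (r : ℕ) (hT : topologicalKrullDim T ≤ r)
    (f : T → ProjectiveSpectrum 𝒜) (hf : Continuous f) (Y : Set (ProjectiveSpectrum 𝒜))
    (hY : IsClosed Y) :
    ∃ (h : Fin (r + 1) → A), (∀ j, ∃ d, 0 < d ∧ h j ∈ 𝒜 d) ∧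
      (∀ j, ∀ y ∈ Y, h j ∈ y.asHomogeneousIdeal) ∧
      (∀ x : T, f x ∉ Y → ∃ j, h j ∉ (f x).asHomogeneousIdeal) := by
  obtain ⟨h, hdeg, hvan, hinv⟩ := exists_hypersurfaces_aux 𝒜 r hT f hf Y hY (r + 1)
  refine ⟨h, hdeg, fun j y hy => (mem_vanishingIdeal Y (h j)).mp (hvan j) y hy, ?_⟩
  intro x hx
  by_contra hcon
  push Not at hcon
  set S : IrreducibleCloseds T := ⟨closure {x}, isIrreducible_singleton.closure, isClosed_closure⟩
    with hS
  have h1 : ∀ y ∈ (S : Set T), ∀ i, h i ∈ (f y).asHomogeneousIdeal := by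
    intro y hy i
    have hcl := isClosed_setOf_mem_asHomogeneousIdeal 𝒜 f hf (h i)
    have hsub : closure ({x} : Set T) ⊆ {x : T | h i ∈ (f x).asHomogeneousIdeal} :=
      closure_minimal (Set.singleton_subset_iff.mpr (hcon i)) hcl
    exact hsub hy
  have h2 := hinv S h1 ⟨x, subset_closure rfl, hx⟩
  have h3 : ((r + 1 : ℕ) : ℕ∞) ≤ (r : ℕ∞) := le_trans le_add_self h2
  have h4 : r + 1 ≤ r := by exact_mod_cast h3
  omega

end Cut

end Groth.Agent.Helper4.SN
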