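import Mathlib
import Groth.Agent.Helper4.SN194
import Groth.Agent.Helper1.Fin11
import Groth.Agent.Helper6.HProj
import Groth.Prelude.Def_CohB1

/-!
# Hypersurfaces through a closed subset, and affine covers of quasi-projective schemes
(S10939, S10940, S11556)
-/

set_option autoImplicit false
set_option linter.style.haveILetI false

namespace Groth.Agent.Helper4.SN

open CategoryTheory Limits AlgebraicGeometry Opposite TopologicalSpace

universe u

section Gen

variable (A : Type u) [CommRing A] [IsNoetherianRing A] (n : ℕ)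

/-- projective space over a Noetherian ring is a Noetherian scheme -/
theorem isNoetherian_projSpace : IsNoetherian (CohB1.ProjSpace n A) := by
  haveI : IsProper (CohB1.ProjSpace.toSpec n A) := Groth.Agent.Helper6.HProj.isProper_toSpec n A
  haveI : IsLocallyNoetherian (CohB1.ProjSpace n A) :=
    LocallyOfFiniteType.isLocallyNoetherian (CohB1.ProjSpace.toSpec n A)
  haveI : CompactSpace (CohB1.ProjSpace n A) :=
    QuasiCompact.compactSpace_of_compactSpace (CohB1.ProjSpace.toSpec n A)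
  exact {}

/-- the basic open `D₊(h)` of projective space -/
noncomputable def pbo (h : MvPolynomial (Fin (n + 1)) A) : (CohB1.ProjSpace n A).Opens :=
  Proj.basicOpen (CohB1.polyGrading n A) h

omit [IsNoetherianRing A] in
theorem isAffineOpen_pbo (h : MvPolynomial (Fin (n + 1)) A) (d : ℕ) (hd : 0 < d)
    (hh : h.IsHomogeneous d) : IsAffineOpen (pbo A n h) :=
  Proj.isAffineOpen_basicOpen (CohB1.polyGrading n A) h hh hd

/-- `r + 1` hypersurfaces in projective space through a closed set `Y`, covering the part of `X`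
away from `Y` -/
theorem exists_hypersurfaces_projSpace {X : Scheme.{u}} (f : X ⟶ CohB1.ProjSpace n A)
    (hemb : Topology.IsInducing f.base) (r : ℕ) (hX : topologicalKrullDim ↥X ≤ r)
    (Y : Set ↥(CohB1.ProjSpace n A)) (hY : IsClosed Y) :
    ∃ (h : Fin (r + 1) → MvPolynomial (Fin (n + 1)) A),
      (∀ j, ∃ d : ℕ, 0 < d ∧ (h j).IsHomogeneous d) ∧
      (∀ j, Y ⊆ ((pbo A n (h j) : (CohB1.ProjSpace n A).Opens) : Set ↥(CohB1.ProjSpace n A))ᶜ) ∧
      (∀ x : X, f.base x ∉ Y → ∃ j, f.base x ∈ pbo A n (h j)) := by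
  haveI := isNoetherian_projSpace A n
  haveI : NoetherianSpace ↥(CohB1.ProjSpace n A) := inferInstance
  haveI : NoetherianSpace ↥X := hemb.noetherianSpace
  obtain ⟨h, hdeg, hvan, hcov⟩ := exists_hypersurfaces_cover (CohB1.polyGrading n A) r hX
    (fun x => (f.base x : ProjectiveSpectrum (CohB1.polyGrading n A))) f.continuous Y hY
  refine ⟨h, ?_, ?_, ?_⟩
  · intro j
    obtain ⟨d, hd, hh⟩ := hdeg j
    exact ⟨d, hd, hh⟩
  · intro j y hy hyD
    exact hyD (hvan j y hy)
  · intro x hx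
    obtain ⟨j, hj⟩ := hcov x hx
    exact ⟨j, hj⟩

end Gen

section M10939

/-- **S10939** -/
theorem main10939 (k : Type u) [Field k] (n r : ℕ)
    {X Y : Scheme.{u}} (iX : X ⟶ CohB1.ProjSpace n k) (iY : Y ⟶ CohB1.ProjSpace n k)
    [IsClosedImmersion iX] [IsClosedImmersion iY] (hX : topologicalKrullDim ↥X = r) :
    ∃ (h : Fin (r + 1) → MvPolynomial (Fin (n + 1)) k)
      (D : Fin (r + 1) → (CohB1.ProjSpace n k).Opens),
      (∀ j, D j = Proj.basicOpen (CohB1.polyGrading n k) (h j)) ∧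
      (∀ j, ∃ d : ℕ, 0 < d ∧ (h j).IsHomogeneous d) ∧
      (∀ j, Set.range iY.base ⊆ (D j : Set ↥(CohB1.ProjSpace n k))ᶜ) ∧
      (Set.range iX.base \ Set.range iY.base ⊆ ⋃ j, (D j : Set ↥(CohB1.ProjSpace n k))) ∧
      ∀ j, IsAffineOpen (iX ⁻¹ᵁ (D j)) := by
  obtain ⟨h, hdeg, hvan, hcov⟩ := exists_hypersurfaces_projSpace k n iX
    iX.isEmbedding.isInducing r hX.le (Set.range iY.base) iY.isClosedEmbedding.isClosed_range
  refine ⟨h, fun j => pbo k n (h j), fun j => rfl, hdeg, hvan, ?_, ?_⟩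
  · rintro p ⟨⟨x, rfl⟩, hpY⟩
    obtain ⟨j, hj⟩ := hcov x hpY
    exact Set.mem_iUnion.mpr ⟨j, hj⟩
  · intro j
    obtain ⟨d, hd, hh⟩ := hdeg j
    exact (isAffineOpen_pbo k n (h j) d hd hh).preimage iX

end M10939

section Cover

variable (A : Type u) [CommRing A] [IsNoetherianRing A] (n : ℕ)

/-- a scheme of dimension `d` with an immersion into projective space over a Noetherian ring is
covered by `d + 1` affine opens -/
theorem exists_affine_cover_of_immersion {X : Scheme.{u}} (j : X ⟶ CohB1.ProjSpace n A)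
    [IsImmersion j] (d : ℕ) (hX : topologicalKrullDim ↥X ≤ d) :
    ∃ U : Fin (d + 1) → X.Opens, (∀ i, IsAffineOpen (U i)) ∧ ⨆ i, U i = ⊤ := by
  set V := j.coborderRange with hV
  have hYcl : IsClosed ((V : Set ↥(CohB1.ProjSpace n A))ᶜ) := V.isOpen.isClosed_compl
  obtain ⟨h, hdeg, hvan, hcov⟩ := exists_hypersurfaces_projSpace A n j
    j.isEmbedding.isInducing d hX _ hYcl
  have hjV : ∀ x : X, j.base x ∈ (V : Set ↥(CohB1.ProjSpace n A)) := fun x =>
    subset_coborder (Set.mem_range_self x)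
  refine ⟨fun i => j ⁻¹ᵁ (pbo A n (h i)), fun i => ?_, ?_⟩
  · obtain ⟨e, he, hh⟩ := hdeg i
    have hD : IsAffineOpen (pbo A n (h i)) := isAffineOpen_pbo A n (h i) e he hh
    have hDV : pbo A n (h i) ≤ V := by
      intro p hp
      by_contra hpV
      exact hvan i hpV hp
    have h1 : IsAffineOpen (V.ι ⁻¹ᵁ (pbo A n (h i))) :=
      hD.preimage_of_isOpenImmersion V.ι (by rw [Scheme.Opens.opensRange_ι]; exact hDV)
    have h2 := h1.preimage j.liftCoborder
    rw [← Scheme.Hom.comp_preimage, Scheme.Hom.liftCoborder_ι] at h2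
    exact h2
  · rw [eq_top_iff]
    intro x _
    obtain ⟨i, hi⟩ := hcov x (fun hx => hx (hjV x))
    exact Opens.mem_iSup.mpr ⟨i, hi⟩

end Cover

section Mains

/-- **S10940** -/
theorem main10940 (k : Type u) [Field k] (n r : ℕ)
    {X : Scheme.{u}} (j : X ⟶ CohB1.ProjSpace n k) [IsImmersion j]
    (hX : topologicalKrullDim ↥X = r) :
    ∃ U : Fin (r + 1) → X.Opens, (∀ i, IsAffineOpen (U i)) ∧ ⨆ i, U i = ⊤ :=
  exists_affine_cover_of_immersion k n j r hX.le

/-- **S11556** -/
theorem main11556 (A : Type u) [CommRing A] [IsNoetherianRing A] (n d : ℕ) {X : Scheme.{u}}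
    (j : X ⟶ CohB1.ProjSpaceOver n (Spec (CommRingCat.of A))) [IsImmersion j]
    (hX : topologicalKrullDim ↥X = d) :
    ∃ U : Fin (d + 1) → X.Opens, (∀ i, IsAffineOpen (U i)) ∧ ⨆ i, U i = ⊤ := by
  haveI : IsImmersion (j ≫ Groth.Agent.Helper1.Fin.κκ A n) := inferInstance
  exact exists_affine_cover_of_immersion A n (j ≫ Groth.Agent.Helper1.Fin.κκ A n) d hX.le

end Mains

end Groth.Agent.Helper4.SN
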