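import Mathlib

/-!
Lower bound for the "Hilbert function" of a finitely generated domain of Krull dimension `≥ 2`
with respect to a finite dimensional generating subspace `V`:  `dim V^(t+1) ≥ e + t`
whenever `e ≤ dim A`, `2 ≤ e`.
-/

namespace Groth.Agent.Helper4.SN204

open Polynomial

section Integral

variable {R S : Type*} [CommRing R] [CommRing S] [Algebra R S] [Algebra.IsIntegral R S]

theorem ringKrullDim_le_of_isIntegral : ringKrullDim S ≤ ringKrullDim R := by
  apply Order.krullDim_le_of_strictMono (PrimeSpectrum.comap (algebraMap R S))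
  intro P Q hPQ
  have h : P.asIdeal < Q.asIdeal := hPQ
  have := Ideal.IsIntegral.comap_lt_comap (R := R) h
  exact this

end Integral

variable {k : Type*} [Field k] {A : Type*} [CommRing A] [Algebra k A]

/-- The union of the powers of a generating subspace is everything. -/
theorem iSup_pow_eq_top (V : Submodule k A) (hV : Algebra.adjoin k (V : Set A) = ⊤) :
    (⨆ s : ℕ, V ^ s) = ⊤ := by
  rw [eq_top_iff]
  intro a ha0
  clear ha0
  have ha : a ∈ Algebra.adjoin k (V : Set A) := by rw [hV]; trivial
  induction ha using Algebra.adjoin_induction with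
  | mem x hx =>
    exact (le_iSup (fun s : ℕ => V ^ s) 1) (by simpa using hx)
  | algebraMap r =>
    refine (le_iSup (fun s : ℕ => V ^ s) 0) ?_
    rw [pow_zero, Submodule.one_eq_range]
    exact ⟨r, rfl⟩
  | add x y _ _ hx hy => exact Submodule.add_mem _ hx hy
  | mul x y _ _ hx hy =>
    have h : (⨆ s : ℕ, V ^ s) * (⨆ s : ℕ, V ^ s) ≤ ⨆ s : ℕ, V ^ s := by
      rw [Submodule.iSup_mul]
      refine iSup_le fun i => ?_
      rw [Submodule.mul_iSup]
      refine iSup_le fun j => ?_
      rw [← pow_add]
      exact le_iSup (fun s : ℕ => V ^ s) (i + j)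
    exact h (Submodule.mul_mem_mul hx hy)

/-- The dimension of `A` is at most the dimension of a generating subspace. -/
theorem dim_le_finrank (V : Submodule k A) [Module.Finite k V]
    (hV : Algebra.adjoin k (V : Set A) = ⊤) :
    ringKrullDim A ≤ (Module.finrank k V : WithBot ℕ∞) := by
  classical
  let b := Module.finBasis k V
  let f : MvPolynomial (Fin (Module.finrank k V)) k →ₐ[k] A := MvPolynomial.aeval (fun j => (b j : A))
  have hsurj : Function.Surjective f := by
    rw [← AlgHom.range_eq_top, eq_top_iff, ← hV]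
    refine Algebra.adjoin_le ?_
    intro v hv
    have hv' : (⟨v, hv⟩ : V) ∈ Submodule.span k (Set.range b) := by
      rw [b.span_eq]; trivial
    have : ∀ w : V, w ∈ Submodule.span k (Set.range b) → (w : A) ∈ f.range := by
      intro w hw
      induction hw using Submodule.span_induction with
      | mem x hx =>
        obtain ⟨j, rfl⟩ := hx
        exact ⟨MvPolynomial.X j, by simp [f]⟩
      | zero => simp
      | add x y _ _ hx hy => simpa using add_mem hx hy
      | smul r x _ hx => simpa using Subalgebra.smul_mem _ hx r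
    exact this _ hv'
  calc ringKrullDim A ≤ ringKrullDim (MvPolynomial (Fin (Module.finrank k V)) k) :=
        ringKrullDim_le_of_surjective f.toRingHom hsurj
    _ = (Module.finrank k V : WithBot ℕ∞) := by
        rw [MvPolynomial.ringKrullDim_of_isNoetherianRing, ringKrullDim_eq_zero_of_field]
        simp

/-- If multiplication by `x ∈ V` maps `V^t` onto `V^(t+1)`, then `A` is finite over `k[x]`,
hence of dimension at most one. -/
theorem dim_le_one_of_stable (V : Submodule k A) (hfin : V.FG)
    (hV : Algebra.adjoin k (V : Set A) = ⊤) (x : A) (t : ℕ)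
    (hst : Submodule.span k {x} * V ^ t = V ^ (t + 1)) : ringKrullDim A ≤ 1 := by
  classical
  have hst' : ∀ s, t ≤ s → Submodule.span k {x} * V ^ s = V ^ (s + 1) := by
    intro s hs
    induction s, hs using Nat.le_induction with
    | base => exact hst
    | succ s _ ih => rw [pow_succ V s, ← mul_assoc, ih, ← pow_succ]
  let p : k[X] →ₐ[k] A := Polynomial.aeval x
  letI alg : Algebra k[X] A := p.toRingHom.toAlgebra
  haveI : IsScalarTower k k[X] A := IsScalarTower.of_algebraMap_eq (fun r => (p.commutes r).symm)
  have hsmul : ∀ (q : k[X]) (a : A), q • a = p q * a := fun q a => Algebra.smul_def q a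
  let Wfin : Submodule k A := ⨆ s : Fin (t + 1), V ^ (s : ℕ)
  have hWfg : Wfin.FG := Submodule.fg_iSup _ (fun s => hfin.pow _)
  let N : Submodule k[X] A := Submodule.span k[X] (Wfin : Set A)
  have hNfg : N.FG := by
    obtain ⟨F, hF⟩ := hWfg
    refine ⟨F, ?_⟩
    change _ = Submodule.span k[X] (Wfin : Set A)
    rw [← hF, Submodule.span_span_of_tower]
  have hle : ∀ s, V ^ s ≤ N.restrictScalars k := by
    intro s
    induction s using Nat.strong_induction_on with
    | _ s ih =>
      by_cases hs : s ≤ t
      · intro a ha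
        refine Submodule.subset_span ?_
        exact (le_iSup (fun s : Fin (t + 1) => V ^ (s : ℕ)) ⟨s, by omega⟩) ha
      · obtain ⟨s', rfl⟩ : ∃ s', s = s' + 1 := ⟨s - 1, by omega⟩
        rw [← hst' s' (by omega)]
        intro a ha
        obtain ⟨z, hz, rfl⟩ := Submodule.mem_span_singleton_mul.mp ha
        have hzN : z ∈ N := ih s' (by omega) hz
        have : x * z = (Polynomial.X : k[X]) • z := by
          rw [hsmul]; simp [p]
        change x * z ∈ N
        rw [this]
        exact N.smul_mem _ hzN
  have hNtop : N = ⊤ := by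
    rw [eq_top_iff]
    intro a _
    have : a ∈ ⨆ s : ℕ, V ^ s := by rw [iSup_pow_eq_top V hV]; trivial
    exact (iSup_le hle : (⨆ s : ℕ, V ^ s) ≤ N.restrictScalars k) this
  haveI : Module.Finite k[X] A := ⟨hNtop ▸ hNfg⟩
  haveI : Algebra.IsIntegral k[X] A := Algebra.IsIntegral.of_finite k[X] A
  calc ringKrullDim A ≤ ringKrullDim k[X] := ringKrullDim_le_of_isIntegral
    _ = 1 := by
      rw [Polynomial.ringKrullDim_of_isNoetherianRing, ringKrullDim_eq_zero_of_field]
      simp

theorem span_singleton_mul_eq_map (x : A) (W : Submodule k A) :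
    Submodule.span k {x} * W = W.map (LinearMap.mulLeft k x) := by
  ext a
  rw [Submodule.mem_span_singleton_mul, Submodule.mem_map]
  rfl

/-- Lower bound for the Hilbert function of a domain of dimension `≥ 2`. -/
theorem finrank_pow_ge [IsDomain A] (V : Submodule k A) (hfin : V.FG)
    (hV : Algebra.adjoin k (V : Set A) = ⊤) (e : ℕ) (he : 2 ≤ e)
    (hdim : (e : WithBot ℕ∞) ≤ ringKrullDim A) (t : ℕ) :
    e + t ≤ Module.finrank k ↥(V ^ (t + 1)) := by
  classical
  haveI : Module.Finite k V := Module.Finite.iff_fg.mpr hfin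
  have hfinpow : ∀ s, Module.Finite k ↥(V ^ s) := fun s => Module.Finite.iff_fg.mpr (hfin.pow s)
  have h1 : e ≤ Module.finrank k V := by
    have := hdim.trans (dim_le_finrank V hV)
    exact_mod_cast this
  have hVne : V ≠ ⊥ := by
    intro h
    rw [h] at h1
    simp at h1
    omega
  obtain ⟨x, hxV, hx0⟩ := Submodule.exists_mem_ne_zero_of_ne_bot hVne
  have hinj : Function.Injective (LinearMap.mulLeft k x) := by
    intro a b hab
    exact mul_left_cancel₀ hx0 hab
  induction t with
  | zero =>
    have : V ^ (0 + 1) = V := by simp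
    rw [this]
    simpa using h1
  | succ t ih =>
    by_contra hcon
    have hle : Module.finrank k ↥(V ^ (t + 1 + 1)) ≤ Module.finrank k ↥(V ^ (t + 1)) := by omega
    have hsub : Submodule.span k {x} * V ^ (t + 1) ≤ V ^ (t + 1 + 1) := by
      rw [pow_succ' V (t + 1)]
      exact mul_le_mul' ((Submodule.span_singleton_le_iff_mem x V).mpr hxV) le_rfl
    have hfr : Module.finrank k ↥(Submodule.span k {x} * V ^ (t + 1)) =
        Module.finrank k ↥(V ^ (t + 1)) := by
      rw [span_singleton_mul_eq_map]
      exact (LinearEquiv.finrank_eq (Submodule.equivMapOfInjective _ hinj (V ^ (t + 1)))).symm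
    haveI := hfinpow (t + 1 + 1)
    have heq : Submodule.span k {x} * V ^ (t + 1) = V ^ (t + 1 + 1) :=
      Submodule.eq_of_le_of_finrank_le hsub (by rw [hfr]; exact hle)
    have hd1 : ringKrullDim A ≤ 1 := dim_le_one_of_stable V hfin hV x (t + 1) heq
    have : (e : WithBot ℕ∞) ≤ 1 := hdim.trans hd1
    have : e ≤ 1 := by exact_mod_cast this
    omega

section Poly

variable {σ : Type*} [Finite σ]

open MvPolynomial in
/-- Polynomial ring version: for a prime `P` of `k[x_σ]` with `dim k[x]/P ≥ e ≥ 2`, the forms of
degree `t + 1` lying in `P` have codimension at least `e + t`. -/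
theorem poly_bound (P : Ideal (MvPolynomial σ k)) [P.IsPrime] (e : ℕ) (he : 2 ≤ e)
    (hdim : (e : WithBot ℕ∞) ≤ ringKrullDim (MvPolynomial σ k ⧸ P)) (t : ℕ) :
    e + t + Module.finrank k
        ↥(MvPolynomial.homogeneousSubmodule σ k (t + 1) ⊓ Submodule.restrictScalars k P) ≤
      Module.finrank k ↥(MvPolynomial.homogeneousSubmodule σ k (t + 1)) := by
  classical
  let π : MvPolynomial σ k →ₐ[k] (MvPolynomial σ k ⧸ P) := Ideal.Quotient.mkₐ k P
  have hπs : Function.Surjective π := Ideal.Quotient.mkₐ_surjective k P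
  let V : Submodule k (MvPolynomial σ k ⧸ P) :=
    (MvPolynomial.homogeneousSubmodule σ k 1).map π.toLinearMap
  have hVfg : V.FG := (MvPolynomial.homogeneousSubmodule_fg σ k 1).map _
  have hVgen : Algebra.adjoin k (V : Set (MvPolynomial σ k ⧸ P)) = ⊤ := by
    rw [eq_top_iff]
    have h1 : (⊤ : Subalgebra k (MvPolynomial σ k ⧸ P)) =
        (Algebra.adjoin k (Set.range (X : σ → MvPolynomial σ k))).map π := by
      rw [MvPolynomial.adjoin_range_X, Algebra.map_top]
      exact (AlgHom.range_eq_top π |>.mpr hπs).symm
    rw [h1, AlgHom.map_adjoin]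
    refine Algebra.adjoin_mono ?_
    rintro _ ⟨_, ⟨i, rfl⟩, rfl⟩
    exact ⟨X i, MvPolynomial.isHomogeneous_X k i, rfl⟩
  have hpow : V ^ (t + 1) = (MvPolynomial.homogeneousSubmodule σ k (t + 1)).map π.toLinearMap := by
    rw [← MvPolynomial.homogeneousSubmodule_one_pow (σ := σ) (R := k) (t + 1), Submodule.map_pow]
  have hmain := finrank_pow_ge V hVfg hVgen e he hdim t
  rw [hpow] at hmain
  let G := MvPolynomial.homogeneousSubmodule σ k (t + 1)
  haveI : Module.Finite k ↥G := Module.Finite.iff_fg.mpr (MvPolynomial.homogeneousSubmodule_fg σ k (t + 1))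
  let f : ↥G →ₗ[k] (MvPolynomial σ k ⧸ P) := π.toLinearMap.domRestrict G
  have hrange : LinearMap.range f = G.map π.toLinearMap := LinearMap.range_domRestrict _ _
  have hrn := LinearMap.finrank_range_add_finrank_ker f
  rw [hrange] at hrn
  -- the kernel contains `G ⊓ P`
  let g : ↥(G ⊓ Submodule.restrictScalars k P) →ₗ[k] ↥(LinearMap.ker f) :=
    LinearMap.codRestrict (LinearMap.ker f) (Submodule.inclusion inf_le_left) (by
      intro a
      rw [LinearMap.mem_ker]
      change π (a : MvPolynomial σ k) = 0
      exact Ideal.Quotient.eq_zero_iff_mem.mpr a.2.2)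
  have hginj : Function.Injective g := by
    intro a b hab
    have := congrArg (fun z : ↥(LinearMap.ker f) => ((z : ↥G) : MvPolynomial σ k)) hab
    exact Subtype.ext this
  have hker := LinearMap.finrank_le_finrank_of_injective hginj
  change e + t + Module.finrank k ↥(G ⊓ Submodule.restrictScalars k P) ≤ Module.finrank k ↥G
  change e + t ≤ Module.finrank k ↥(G.map π.toLinearMap) at hmain
  omega

end Poly

end Groth.Agent.Helper4.SN204
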