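import Mathlib
import Groth.Agent.Helper1.TwistAmple
import Groth.Agent.Helper4.PullSec
import Groth.Agent.Helper4.GenLocIso

/-!
# A quasi-compact open of `Proj` carries an ample twist
-/

set_option autoImplicit false
set_option linter.unusedSectionVars false
set_option linter.style.haveILetI false

namespace Groth.Agent.Helper4.SN205

open CategoryTheory AlgebraicGeometry TopologicalSpace Opposite
open Groth.Agent.Helper1.GrT Groth.Agent.Helper1.ProjO Groth.Agent.Helper1.TwistEpi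
open Groth.Agent.Helper1.TwistMul
open Groth.Agent.Helper4.GenLoc Groth.Agent.Helper4.GenLocIso Groth.Agent.Helper4.PullSec

universe u

section ProjSide

variable {R A : Type u} [CommRing R] [CommRing A] [Algebra R A] (𝒜 : ℕ → Submodule R A)
  [GradedAlgebra 𝒜]

/-- the `D₊(h)`, `h` homogeneous of positive degree, form a basis of `Proj 𝒜` -/
theorem exists_pos_basicOpen_nhd (x : Proj 𝒜) (W : (Proj 𝒜).Opens) (hx : x ∈ W) :
    ∃ (m : ℕ) (h : A), 0 < m ∧ h ∈ 𝒜 m ∧ x ∈ Proj.basicOpen 𝒜 h ∧ Proj.basicOpen 𝒜 h ≤ W := by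
  classical
  obtain ⟨_, ⟨a, rfl⟩, hxa, haW⟩ :=
    (ProjectiveSpectrum.isTopologicalBasis_basic_opens 𝒜).exists_subset_of_mem_open
      (u := ((W : Set (Proj 𝒜)) : Set (ProjectiveSpectrum 𝒜)))
      (a := (show ProjectiveSpectrum 𝒜 from x)) hx W.2
  have hxa' : (show ProjectiveSpectrum 𝒜 from x) ∈ ProjectiveSpectrum.basicOpen 𝒜 a := hxa
  rw [ProjectiveSpectrum.basicOpen_eq_union_of_projection, Opens.mem_iSup] at hxa'
  obtain ⟨i, hi⟩ := hxa'
  -- a homogeneous element of positive degree outside `x`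
  obtain ⟨g, hg, hgx⟩ : ∃ g : A, g ∈ (HomogeneousIdeal.irrelevant 𝒜) ∧
      g ∉ (show ProjectiveSpectrum 𝒜 from x).asHomogeneousIdeal := by
    by_contra hcon
    push Not at hcon
    exact (show ProjectiveSpectrum 𝒜 from x).not_irrelevant_le (fun g hg => hcon g hg)
  -- some homogeneous component of `g` is outside `x`
  obtain ⟨k, hk0, hkx⟩ : ∃ k : ℕ, 0 < k ∧
      GradedRing.proj 𝒜 k g ∉ (show ProjectiveSpectrum 𝒜 from x).asHomogeneousIdeal := by
    by_contra hcon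
    push Not at hcon
    apply hgx
    rw [← DirectSum.sum_support_decompose 𝒜 g]
    refine Ideal.sum_mem _ fun k _ => ?_
    by_cases hk : k = 0
    · subst hk
      have : (DirectSum.decompose 𝒜 g 0 : A) = 0 := by
        have := (HomogeneousIdeal.mem_irrelevant_iff 𝒜 g).mp hg
        simpa [GradedRing.proj_apply] using this
      rw [this]
      exact zero_mem _
    · exact hcon k (Nat.pos_of_ne_zero hk)
  refine ⟨i + k, GradedRing.proj 𝒜 i a * GradedRing.proj 𝒜 k g, by omega, ?_, ?_, ?_⟩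
  · exact SetLike.mul_mem_graded (SetLike.coe_mem (DirectSum.decompose 𝒜 a i))
      (SetLike.coe_mem (DirectSum.decompose 𝒜 g k))
  · rw [Proj.basicOpen_mul]
    exact ⟨hi, hkx⟩
  · rw [Proj.basicOpen_mul]
    intro z hz
    have hz1 : (show ProjectiveSpectrum 𝒜 from z) ∈
        ProjectiveSpectrum.basicOpen 𝒜 (GradedRing.proj 𝒜 i a) := hz.1
    have hz2 : (show ProjectiveSpectrum 𝒜 from z) ∈ ProjectiveSpectrum.basicOpen 𝒜 a := by
      rw [ProjectiveSpectrum.basicOpen_eq_union_of_projection, Opens.mem_iSup]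
      exact ⟨i, hz1⟩
    exact haW hz2

/-- `D₊(f)` is contained in the locus where `f` generates `A(n)~` -/
theorem basicOpen_le_genLocus_secHom (n : ℕ) (f : A) (hf : f ∈ 𝒜 n) :
    Proj.basicOpen 𝒜 f ≤ CohB1.genLocus (GrTilde.tilde 𝒜 𝒜 (n : ℤ)) (secHom 𝒜 n f hf) := by
  unfold CohB1.genLocus
  apply le_sSup
  rw [Set.mem_setOf_eq, Groth.Agent.Helper4.GenLoc.isIso_restrict_iff]
  intro V hV
  let P : InvPair 𝒜 (n : ℤ) V := InvPair.ofFrac 𝒜 (n : ℤ) V f 1 hf SetLike.GradedOne.one_mem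
    (by simp) (fun y hy => hV hy) (fun y _ => one_notMem 𝒜 y)
  have h1 : ∀ r : Γ(Proj 𝒜, V), (secHom 𝒜 n f hf).app V r = r • P.eΓ := by
    intro r
    rw [secHom_app]
    rfl
  have h4 : ⇑(ConcreteCategory.hom (Scheme.Modules.Hom.app (secHom 𝒜 n f hf) V)) =
      (fun c : Γ(Proj 𝒜, V) => c • P.eΓ) := funext h1
  rw [h4]
  exact P.smul_bijective

/-- a point of the generating locus of `f` at which some element of the same degree does not
vanish lies in `D₊(f)` -/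
theorem mem_basicOpen_of_mem_genLocus_secHom (n : ℕ) (f : A) (hf : f ∈ 𝒜 n) (x : Proj 𝒜)
    (hx : x ∈ CohB1.genLocus (GrTilde.tilde 𝒜 𝒜 (n : ℤ)) (secHom 𝒜 n f hf))
    (b : A) (hb : b ∈ 𝒜 n) (hxb : x ∈ Proj.basicOpen 𝒜 b) : x ∈ Proj.basicOpen 𝒜 f := by
  unfold CohB1.genLocus at hx
  obtain ⟨U, hU, hxU⟩ := Opens.mem_sSup.mp hx
  rw [Set.mem_setOf_eq, Groth.Agent.Helper4.GenLoc.isIso_restrict_iff] at hU
  obtain ⟨r, hr⟩ := (hU (U ⊓ Proj.basicOpen 𝒜 b) inf_le_left).2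
    ((secHom 𝒜 n b hb).app _ (1 : Γ(Proj 𝒜, U ⊓ Proj.basicOpen 𝒜 b)))
  have hxV : x ∈ U ⊓ Proj.basicOpen 𝒜 b := ⟨hxU, hxb⟩
  have h1 := val_secHom_app 𝒜 n f hf _ r x hxV
  have h2 := val_secHom_app 𝒜 n b hb _ 1 x hxV
  rw [hr, h2, evO_val_one, one_mul] at h1
  have h3 : IsUnit (mkO x b 1 (one_notMem 𝒜 x)) := (isUnit_mkO x _ 1 _).2 hxb
  rw [h1] at h3
  exact (isUnit_mkO x f 1 _).1 (isUnit_of_mul_isUnit_right h3)

end ProjSide

section PullSide

open Groth.Agent.Helper4.PullUnit Groth.Agent.Helper4.AmpleIso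

variable {X' X : Scheme.{u}} (f : X' ⟶ X)

/-- pointwise version of `genLocus_pullSec`: only local triviality near `f x'` is needed -/
theorem map_mem_genLocus_of_mem_genLocus_pullSec {N : X.Modules}
    (s : Coh.structureModule X ⟶ N) (x' : X') (hx' : x' ∈ CohB1.genLocus _ (pullSec f s))
    (T : X.Opens) (hxT : f x' ∈ T) (ε : N.restrict T.ι ≅ Coh.structureModule (↑T)) :
    f x' ∈ CohB1.genLocus _ s := by
  set G' := CohB1.genLocus _ (pullSec f s) with hG'
  let W' : X'.Opens := G' ⊓ f ⁻¹ᵁ T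
  have hW'G : W' ≤ G' := inf_le_left
  have hrange : Set.range (W'.ι ≫ f) ⊆ Set.range T.ι := by
    rintro _ ⟨y, rfl⟩
    rw [Scheme.Opens.range_ι]
    exact y.2.2
  let f'' : (W' : Scheme.{u}) ⟶ (T : Scheme.{u}) := IsOpenImmersion.lift T.ι (W'.ι ≫ f) hrange
  have hf'' : W'.ι ≫ f = f'' ≫ T.ι := (IsOpenImmersion.lift_fac T.ι (W'.ι ≫ f) hrange).symm
  have h1 : IsIso ((Scheme.Modules.restrictFunctor W'.ι).map (pullSec f s)) :=
    (le_genLocus_iff _ _).mp hW'G
  have h2 : IsIso ((Scheme.Modules.restrictFunctor W'.ι).map ((Scheme.Modules.pullback f).map s)) := by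
    have : (Scheme.Modules.pullback f).map s = (pullbackUnitIso f).hom ≫ pullSec f s := by
      unfold pullSec; rw [Iso.hom_inv_id_assoc]
    rw [this, Functor.map_comp]
    infer_instance
  rw [isIso_restrict_pullback_iff W'.ι T.ι f f'' hf''] at h2
  have h3 : IsIso ((Scheme.Modules.pullback f'').map (endo N s T ε)) := by
    unfold endo
    rw [Functor.map_comp, Functor.map_comp]
    infer_instance
  have h4 := isUnit_of_isIso_pullback f'' _ h3
  have h5 : f'' ⟨x', hx', hxT⟩ ∈ (T : Scheme.{u}).basicOpen (fn (endo N s T ε)) := by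
    have : f'' ⁻¹ᵁ ((T : Scheme.{u}).basicOpen (fn (endo N s T ε))) = ⊤ := by
      rw [Scheme.Hom.preimage_basicOpen]
      exact Scheme.basicOpen_of_isUnit _ h4
    have h6 : (⟨x', hx', hxT⟩ : W') ∈ f'' ⁻¹ᵁ ((T : Scheme.{u}).basicOpen (fn (endo N s T ε))) := by
      rw [this]; trivial
    exact h6
  have h7 : T.ι (f'' ⟨x', hx', hxT⟩) ∈ CohB1.genLocus N s ⊓ T := by
    rw [genLocus_inf_eq N s T ε]
    exact ⟨_, h5, rfl⟩
  have h8 : T.ι (f'' ⟨x', hx', hxT⟩) = f x' := by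
    rw [← Scheme.Hom.comp_apply, ← hf'', Scheme.Hom.comp_apply]
    rfl
  rw [h8] at h7
  exact h7.1

/-- pointwise version of `isInvertible_pullback` -/
theorem nonempty_restrict_pullback_iso (L : X.Modules) (U : X.Opens)
    (ε : L.restrict U.ι ≅ Coh.structureModule (↑U)) :
    Nonempty (((Scheme.Modules.pullback f).obj L).restrict (f ⁻¹ᵁ U).ι ≅
      Coh.structureModule (↑(f ⁻¹ᵁ U))) :=
  ⟨resPullIso f U L ≪≫ (Scheme.Modules.pullback (f ∣_ U)).mapIso ε ≪≫ pullbackUnitIso (f ∣_ U)⟩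

end PullSide

section Main

variable {R A : Type u} [CommRing R] [CommRing A] [Algebra R A] (𝒜 : ℕ → Submodule R A)
  [GradedAlgebra 𝒜]

/-- **S9817** -/
theorem main (X : Scheme.{u}) [CompactSpace X] (j : X ⟶ Proj 𝒜) [IsOpenImmersion j] :
    ∃ d : ℕ, 0 < d ∧ CohB1.IsAmple ((Scheme.Modules.pullback j).obj (Twist.twist 𝒜 (d : ℤ))) := by
  classical
  -- basic opens of positive degree inside the image
  have hnhd : ∀ x : X, ∃ (m : ℕ) (h : A), 0 < m ∧ h ∈ 𝒜 m ∧ j x ∈ Proj.basicOpen 𝒜 h ∧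
      Proj.basicOpen 𝒜 h ≤ j.opensRange :=
    fun x => exists_pos_basicOpen_nhd 𝒜 (j x) j.opensRange ⟨x, rfl⟩
  choose m h hm hh hxh hhU using hnhd
  -- finite subcover
  obtain ⟨t, ht⟩ := isCompact_univ.elim_finite_subcover
    (fun x : X => ((j ⁻¹ᵁ Proj.basicOpen 𝒜 (h x) : X.Opens) : Set X))
    (fun x => (j ⁻¹ᵁ Proj.basicOpen 𝒜 (h x)).2)
    (fun x _ => Set.mem_iUnion.mpr ⟨x, hxh x⟩)
  have hcov : ∀ x : X, ∃ y ∈ t, j x ∈ Proj.basicOpen 𝒜 (h y) := by
    intro x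
    have := ht (Set.mem_univ x)
    simp only [Set.mem_iUnion] at this
    obtain ⟨y, hy, hxy⟩ := this
    exact ⟨y, hy, hxy⟩
  -- common degree
  let d : ℕ := ∏ y ∈ t, m y
  have hd : 0 < d := Finset.prod_pos fun y _ => hm y
  have hdvd : ∀ y ∈ t, m y ∣ d := fun y hy => Finset.dvd_prod_of_mem m hy
  let b : X → A := fun y => h y ^ (d / m y)
  have hb : ∀ y ∈ t, b y ∈ 𝒜 d := by
    intro y hy
    have := SetLike.pow_mem_graded (d / m y) (hh y)
    have e : (d / m y) • m y = d := by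
      rw [smul_eq_mul, Nat.div_mul_cancel (hdvd y hy)]
    rwa [e] at this
  have hbo : ∀ y ∈ t, Proj.basicOpen 𝒜 (b y) = Proj.basicOpen 𝒜 (h y) := by
    intro y hy
    exact Proj.basicOpen_pow 𝒜 (h y) (d / m y)
      (Nat.div_pos (Nat.le_of_dvd hd (hdvd y hy)) (hm y))
  -- local trivialisations of `O(d)`
  have htriv : ∀ y ∈ t, Nonempty ((Twist.twist 𝒜 (d : ℤ)).restrict (Proj.basicOpen 𝒜 (b y)).ι ≅
      Coh.structureModule ((Proj.basicOpen 𝒜 (b y) : (Proj 𝒜).Opens) : Scheme.{u})) := by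
    intro y hy
    exact (InvPair.ofFrac 𝒜 (d : ℤ) (Proj.basicOpen 𝒜 (b y)) (b y) 1 (hb y hy)
      SetLike.GradedOne.one_mem (by simp) (fun z hz => hz)
      (fun z _ => one_notMem 𝒜 z)).nonempty_iso_twist
  refine ⟨d, hd, ?_, inferInstance, fun x => ?_⟩
  · -- invertibility
    intro x
    obtain ⟨y, hy, hxy⟩ := hcov x
    obtain ⟨ε⟩ := htriv y hy
    refine ⟨j ⁻¹ᵁ Proj.basicOpen 𝒜 (b y), ?_, nonempty_restrict_pullback_iso j _ _ ε⟩
    rw [hbo y hy]
    exact hxy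
  · obtain ⟨y, hy, hxy⟩ := hcov x
    let M := Twist.twist 𝒜 (d : ℤ)
    let L := (Scheme.Modules.pullback j).obj M
    let s₀ : Coh.structureModule (Proj 𝒜) ⟶ M :=
      secHom 𝒜 d (b y) (hb y hy) ≫ (Groth.Agent.Helper1.TwistIso.twistIsoTilde 𝒜 (d : ℤ)).inv
    have hgs₀ : CohB1.genLocus M s₀ =
        CohB1.genLocus (GrTilde.tilde 𝒜 𝒜 (d : ℤ)) (secHom 𝒜 d (b y) (hb y hy)) :=
      Groth.Agent.Helper4.AmpleIso.genLocus_comp_iso (Groth.Agent.Helper1.TwistIso.twistIsoTilde 𝒜 (d : ℤ)).symm _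
    let e' : L ≅ CohB1.tensorPow L (0 + 1) := (Groth.Agent.Helper4.AmpleBasis.unitorL L).symm
    have hgen : CohB1.genLocus _ (pullSec j s₀) = j ⁻¹ᵁ Proj.basicOpen 𝒜 (b y) := by
      apply le_antisymm
      · intro x' hx'
        obtain ⟨y', hy', hxy'⟩ := hcov x'
        obtain ⟨ε⟩ := htriv y' hy'
        have hxb' : j x' ∈ Proj.basicOpen 𝒜 (b y') := by rw [hbo y' hy']; exact hxy'
        have h1 := map_mem_genLocus_of_mem_genLocus_pullSec j s₀ x' hx' _ hxb' ε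
        rw [hgs₀] at h1
        exact mem_basicOpen_of_mem_genLocus_secHom 𝒜 d (b y) (hb y hy) (j x') h1 (b y')
          (hb y' hy') hxb'
      · refine le_trans ?_ (preimage_genLocus_le j s₀)
        intro x' hx'
        change j x' ∈ CohB1.genLocus M s₀
        rw [hgs₀]
        exact basicOpen_le_genLocus_secHom 𝒜 d (b y) (hb y hy) hx'
    refine ⟨0, pullSec j s₀ ≫ e'.hom, ?_, ?_⟩
    · rw [Groth.Agent.Helper4.AmpleIso.genLocus_comp_iso, hgen]
      change j x ∈ Proj.basicOpen 𝒜 (b y)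
      rw [hbo y hy]
      exact hxy
    · rw [Groth.Agent.Helper4.AmpleIso.genLocus_comp_iso, hgen]
      refine (Proj.isAffineOpen_basicOpen 𝒜 _ (hb y hy) hd).preimage_of_isOpenImmersion j ?_
      rw [hbo y hy]
      exact hhU y

end Main

end Groth.Agent.Helper4.SN205
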