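import Mathlib
import Groth.Agent.Helper4.SN217
import Groth.Agent.Helper4.SN213
import Groth.Agent.Helper4.SN208
import Groth.Agent.Helper1.SV1
import Groth.Agent.Helper1.ClTr
import Groth.Agent.Helper1.MVTop6
import Groth.Agent.Helper1.Fin3
import Groth.Agent.Helper3.FlatPullEx

set_option autoImplicit false
set_option linter.unusedSectionVars false
set_option linter.style.haveILetI false

/-!
# SN218: resolutions of coherent modules on `P^n_k` by finite sums of twisting sheaves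
-/

namespace Groth.Agent.Helper4.SN218

open CategoryTheory Limits AlgebraicGeometry TopologicalSpace Opposite

universe u

section mapRes

open Groth.Agent.Helper9.ResThm

variable {C : Type*} [Category C] [Abelian C] {D : Type*} [Category D] [Abelian D]

/-- the image of a resolution under an exact functor -/
noncomputable def mapRes (Φ : C ⥤ D) [Φ.Additive] [PreservesFiniteLimits Φ]
    [PreservesFiniteColimits Φ] {P₀ : ObjectProperty C} {Q₀ : ObjectProperty D}
    (hPQ : ∀ X, P₀ X → Q₀ (Φ.obj X)) {A : C} (R : Res P₀ A) : Res Q₀ (Φ.obj A) :=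
  haveI : Φ.PreservesHomology := {}
  { L := (Φ.mapHomologicalComplex _).obj R.L
    hP := fun i => hPQ _ (R.hP i)
    hex := fun i => (R.hex i).map Φ
    ε := Φ.map R.ε
    epi := by
      haveI := R.epi
      haveI : Φ.PreservesEpimorphisms := preservesEpimorphisms_of_preservesColimitsOfShape Φ
      exact Φ.map_epi R.ε
    w := by
      show Φ.map (R.L.d 1 0) ≫ Φ.map R.ε = 0
      rw [← Φ.map_comp, R.w, Φ.map_zero]
    ex0 := R.ex0.map Φ }

end mapRes

section bridge

/-- over an affine base, vanishing of `H^{q+1}` gives vanishing of `R^{q+1} f_*` -/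
theorem isZero_RpushAb_of_subsingleton_HH {X Y : Scheme.{u}} (f : X ⟶ Y) [IsAffine Y]
    [QuasiCompact f] [IsSeparated f] (M : X.Modules) (hM : Coh.IsQCoh M) (q : ℕ)
    (h : Subsingleton (Coh.HH X M (q + 1))) :
    IsZero ((Coh.RpushAb f (q + 1)).obj (Coh.toAb M)) := by
  haveI : M.IsQuasicoherent := hM
  apply Groth.Agent.Helper1.Fin.isZero_RpushAb_of_cover f M {⊤} ?_ ?_ q ?_
  · intro V hV
    rw [Set.mem_singleton_iff.1 hV]
    exact isAffineOpen_top Y
  · intro x
    exact ⟨⊤, rfl, trivial⟩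
  · intro V hV
    rw [Set.mem_singleton_iff.1 hV]
    exact (Groth.Agent.Helper1.MVTop.globEquiv (Coh.toAb M) (q + 1)).symm.toEquiv.subsingleton

end bridge

section main

variable (n : ℕ) (k : Type u) [Field k]

local notation "Yk" => Spec (CommRingCat.of k)
local notation "Pk" => CohB1.ProjSpace n k
local notation "P'" => KRR.PY n (Spec (CommRingCat.of k))

open Groth.Agent.Helper1.Fin Groth.Agent.Helper1.ProjBC

/-- the comparison `P^n_{Spec k} ⟶ P^n_k` -/
noncomputable abbrev κ : P' ⟶ Pk := κκ k n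

instance isIso_κ : IsIso (κ n k) := by
  unfold κ κκ
  exact IsIso.comp_isIso' inferInstance (Groth.Agent.Helper4.SN213.isIso_ββ (φ₀ k) n)

/-- `κ^* O(d) ≅ O(d)` -/
theorem nonempty_κ_twist (d : ℤ) :
    Nonempty ((Scheme.Modules.pullback (κ n k)).obj (Twist.twistProjSpace n k d) ≅
      Twist.twistOver n Yk d) :=
  Groth.Agent.Helper4.SN208.nonempty_pull_twist (φ₀ k) n (κ n k) (pullback.fst _ _)
    (Groth.Agent.Helper1.SV.κκ_γγ k n) d

/-- Serre vanishing on `P^n_{Spec k}` -/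
theorem exists_vanishing (F' : (P').Modules) (hF' : Coh.IsCoh F') :
    ∃ d₀ : ℤ, ∀ d : ℤ, d₀ ≤ d → ∀ j : ℕ, 1 ≤ j →
      Subsingleton (Coh.HH (P') (KRR.twF n Yk d F') j) := by
  obtain ⟨d₀, h⟩ := Groth.Agent.Helper1.ClTr.vanishing n k (κ n k) F' hF'
  refine ⟨d₀, fun d hd j hj => ?_⟩
  obtain ⟨e⟩ := nonempty_κ_twist n k d
  exact Groth.Agent.Helper1.SerreCrit.subsingleton_HH_of_iso
    (PicGrp.tensorModIso (Iso.refl F') e ≪≫ Groth.Agent.Lead.Ref1B.braid _ _) j (h d hd j hj)

/-- a large twist of a coherent module is regular -/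
theorem exists_isRegSheaf_twF (F' : (P').Modules) (hF' : Coh.IsCoh F') :
    ∃ m : ℤ, KRR.IsRegSheaf n Yk (KRR.twF n Yk m F') := by
  obtain ⟨d₀, h⟩ := exists_vanishing n k F' hF'
  refine ⟨d₀ + n, fun i hi => ?_⟩
  obtain ⟨e⟩ := Groth.Agent.Helper1.RegSh.nonempty_twF_twF n Yk (-(i : ℤ)) (d₀ + n) (d₀ + n - i)
    (by ring) F'
  apply Groth.Agent.Helper1.RegSh.isZero_Rpush_of_iso n Yk e.symm i
  have hq : Coh.IsQCoh (KRR.twF n Yk (d₀ + n - i) F') :=
    Groth.Agent.Helper4.SN209.isQCoh_twF n Yk F' hF'.1 _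
  by_cases hin : n < i
  · exact Groth.Agent.Helper4.SN211.isZero_RpushAb_of_gt n Yk _ hq i hin
  · obtain ⟨q, rfl⟩ : ∃ q, i = q + 1 := ⟨i - 1, by omega⟩
    haveI : IsProper (KRR.pr n Yk) := Groth.Agent.Helper6.HProj.isProper_toBase n Yk
    exact isZero_RpushAb_of_subsingleton_HH (KRR.pr n Yk) _ hq q
      (h _ (by push_cast; omega) _ (by omega))

/-- `(κ⁻¹)^* κ^* M ≅ M` -/
noncomputable def pullInvPull (M : (Pk).Modules) :
    (Scheme.Modules.pullback (inv (κ n k))).obj ((Scheme.Modules.pullback (κ n k)).obj M) ≅ M :=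
  (Scheme.Modules.pullbackComp (inv (κ n k)) (κ n k)).app M ≪≫
    (Scheme.Modules.pullbackCongr (IsIso.inv_hom_id (κ n k))).app M ≪≫
    (Scheme.Modules.pullbackId _).app M

/-- untwisting by `O(-m)` followed by transport to `P^n_k` -/
noncomputable abbrev Φ (m : ℤ) : (P').Modules ⥤ (Pk).Modules :=
  (DCoh.tensorBi (X := P')).obj (Twist.twistOver n Yk (-m)) ⋙
    Scheme.Modules.pullback (inv (κ n k))

open Groth.Agent.Helper9.ResThm in
/-- **S14439**: a coherent module on `P^n_k` has a resolution of length at most `n` by finite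
sums of twisting sheaves -/
theorem main14439 (F : (Pk).Modules) (hF : Coh.IsCoh F) :
    ∃ (C : ChainComplex (Pk).Modules ℕ) (π : C.X 0 ⟶ F) (w : C.d 1 0 ≫ π = 0),
      (∀ i : ℕ, n + 1 < i → IsZero (C.X i)) ∧
      (∀ i : ℕ, ∃ (m : ℕ) (d : Fin m → ℤ),
        Nonempty (C.X i ≅ ∐ fun j : Fin m => Twist.twistProjSpace n k (d j))) ∧
      (∀ i : ℕ, 1 ≤ i → IsZero (C.homology i)) ∧ Epi π ∧
      (ShortComplex.mk (C.d 1 0) π w).Exact := by
  classical
  haveI hadd2 : (Scheme.Modules.pullback (inv (κ n k))).Additive :=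
    (Scheme.Modules.pullbackPushforwardAdjunction _).left_adjoint_additive
  haveI hcol2 : PreservesFiniteColimits (Scheme.Modules.pullback (inv (κ n k))) :=
    haveI : PreservesColimitsOfSize.{0, 0} (Scheme.Modules.pullback (inv (κ n k))) :=
      (Scheme.Modules.pullbackPushforwardAdjunction _).leftAdjoint_preservesColimits
    PreservesColimitsOfSize.preservesFiniteColimits _
  haveI hlim2 : PreservesFiniteLimits (Scheme.Modules.pullback (inv (κ n k))) :=
    Groth.Agent.Helper3.FlatPullEx.preservesFiniteLimits_pullback _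
  have hF' : Coh.IsCoh ((Scheme.Modules.pullback (κ n k)).obj F) :=
    Groth.Agent.Helper1.Dev.isCoh_pullback (κ n k) F hF
  obtain ⟨m, hreg⟩ := exists_isRegSheaf_twF n k _ hF'
  have hex1 := ((Functor.exact_tfae
      ((DCoh.tensorBi (X := P')).obj (Twist.twistOver n Yk (-m)))).out 0 3).1
    (fun S hS => Groth.Agent.Helper1.RegSh.shortExact_map_tensorBi hS _
      (Groth.Agent.Helper1.FlatTw.isInvertible_twistOver n Yk (-m)))
  haveI := hex1.1
  haveI := hex1.2
  let x : Groth.Agent.Helper4.SN216.RQ n Yk :=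
    ⟨KRR.twF n Yk m ((Scheme.Modules.pullback (κ n k)).obj F),
      Groth.Agent.Helper4.SN209.isQCoh_twF n Yk _ hF'.1 m, hreg⟩
  have hxc : Coh.IsCoh x.W := Groth.Agent.Helper4.SN217.isCoh_twF n Yk _ hF' m
  let R₁ : Res (fun _ : (Pk).Modules => True) ((Φ n k m).obj x.W) :=
    mapRes (Φ n k m) (fun _ _ => trivial) (Groth.Agent.Helper4.SN216.quillenRes n Yk x)
  obtain ⟨e1⟩ := Groth.Agent.Helper1.RegSh.nonempty_twF_twF n Yk (-m) m 0 (by ring)
    ((Scheme.Modules.pullback (κ n k)).obj F)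
  obtain ⟨e2⟩ := Groth.Agent.Helper4.SN216.nonempty_twF_zero n Yk
    ((Scheme.Modules.pullback (κ n k)).obj F)
  let e : (Φ n k m).obj x.W ≅ F :=
    (Scheme.Modules.pullback (inv (κ n k))).mapIso (e1 ≪≫ e2) ≪≫ pullInvPull n k F
  let R := Groth.Agent.Helper4.SN216.resOfIso R₁ e
  refine ⟨R.L, R.ε, R.w, ?_, ?_, ?_, R.epi, R.ex0⟩
  · intro i hi
    show IsZero ((Φ n k m).obj (Groth.Agent.Helper4.SN216.Lk n Yk x i))
    apply Functor.map_isZero
    exact Groth.Agent.Helper4.SN216.isZero_twF n Yk (Groth.Agent.Helper4.SN216.isZero_pullback n Yk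
      (Groth.Agent.Helper4.SN216.isZero_push n Yk
        (Groth.Agent.Helper4.SN216.isZero_seq_of_gt n Yk x i (by omega)))) _
  · intro i
    obtain ⟨r, ⟨e3⟩⟩ := Groth.Agent.Helper4.SN217.nonempty_Lk_iso n k x hxc i
    obtain ⟨e4⟩ := Groth.Agent.Helper1.RegSh.nonempty_twistOver_mul n Yk (-m) (-(i : ℤ)) (-m - i)
      (by ring)
    obtain ⟨e5⟩ := nonempty_κ_twist n k (-m - i)
    refine ⟨r, fun _ => -m - i, ⟨?_⟩⟩
    show (Φ n k m).obj (Groth.Agent.Helper4.SN216.Lk n Yk x i) ≅ _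
    exact (Φ n k m).mapIso e3 ≪≫ PreservesCoproduct.iso (Φ n k m) _ ≪≫
      Sigma.mapIso (fun _ => (Scheme.Modules.pullback (inv (κ n k))).mapIso (e4 ≪≫ e5.symm) ≪≫
        pullInvPull n k _)
  · intro i hi
    exact (HomologicalComplex.exactAt_iff_isZero_homology _ _).1 (R.exactAt i hi)

end main

end Groth.Agent.Helper4.SN218
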