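import Mathlib
import Groth.Agent.Helper4.SN225

set_option autoImplicit false
set_option linter.unusedSectionVars false
set_option linter.style.haveILetI false

/-!
# SN226: the Koszul relation after an additive functor
-/

namespace Groth.Agent.Helper4.SN226

open CategoryTheory Limits AlgebraicGeometry TopologicalSpace Opposite
open Groth.Agent.Helper4.SN221 Groth.Agent.Helper4.SN222 Groth.Agent.Helper4.SN223

universe v' u' u

variable (n : ℕ) (Y : Scheme.{u}) (F : (KRR.PY n Y).Modules)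
  {D : Type u'} [Category.{v'} D] [Abelian D] (Ψ : (KRR.PY n Y).Modules ⥤ D) [Ψ.Additive]
  {Q : ObjectProperty D} (hQ : Good Q)

theorem map_fF_gF (p : ℕ) : Ψ.map (fF n Y F p) ≫ Ψ.map (gF n Y F p) = 0 := by
  rw [← Ψ.map_comp, fF_gF, Ψ.map_zero]

theorem nonempty_map_MF_iso (p : ℕ) :
    Nonempty (Ψ.obj (MF n Y F p) ≅ ∐ fun _ : Fin (Nat.choose (n + 1) (p + 1)) =>
      Ψ.obj (KRR.twF n Y ((n : ℤ) + 1 - ((p + 1 : ℕ) : ℤ)) F)) := by
  obtain ⟨e⟩ := nonempty_MF_iso n Y F p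
  haveI := (inferInstance : PreservesFiniteCoproducts Ψ).preserves (Nat.choose (n + 1) (p + 1))
  exact ⟨Ψ.mapIso e ≪≫ PreservesCoproduct.iso Ψ _⟩

theorem nonempty_map_BF_zero_iso :
    Nonempty (Ψ.obj (BF n Y F 0) ≅ ∐ fun _ : Fin (Nat.choose (n + 1) 0) =>
      Ψ.obj (KRR.twF n Y ((n : ℤ) + 1 - ((0 : ℕ) : ℤ)) F)) := by
  obtain ⟨e⟩ := nonempty_BF_zero_iso n Y F
  haveI := (inferInstance : PreservesFiniteCoproducts Ψ).preserves (Nat.choose (n + 1) 0)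
  exact ⟨Ψ.mapIso e ≪≫ PreservesCoproduct.iso Ψ _⟩

include hQ in
theorem prop_map_MF (hQF : ∀ a : ℤ, 0 ≤ a → Q (Ψ.obj (KRR.twF n Y a F))) (p : ℕ) :
    Q (Ψ.obj (MF n Y F p)) := by
  by_cases hp : n + 1 ≤ p
  · exact hQ.zero (Ψ.map_isZero (isZero_MF n Y F p hp))
  · obtain ⟨e⟩ := nonempty_map_MF_iso n Y F Ψ p
    exact hQ.iso e.symm (sigma_const hQ _ (hQF _ (by push_cast; omega)) _).1

/-- the coefficients of the Koszul relation -/
noncomputable def coefΨ (Q : ObjectProperty D) (q : ℕ) : KZero.K0sub Q :=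
  (Nat.choose (n + 1) q) • KZero.clSub Q (Ψ.obj (KRR.twF n Y ((n : ℤ) + 1 - (q : ℤ)) F))

include hQ in
/-- **the Koszul relation after an additive functor `Ψ`** which keeps the Koszul sequences
exact: `Σ_{q ≤ n+1} (-1)^q C(n+1,q) [Ψ(F(n+1-q))] = 0` -/
theorem koszul_rel_functor
    (hS : ∀ p, (ShortComplex.mk (Ψ.map (fF n Y F p)) (Ψ.map (gF n Y F p))
      (map_fF_gF n Y F Ψ p)).ShortExact)
    (hQF : ∀ a : ℤ, 0 ≤ a → Q (Ψ.obj (KRR.twF n Y a F)))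
    (hB : ∀ p, Q (Ψ.obj (BF n Y F p))) :
    ∑ q ∈ Finset.range (n + 2), (-1 : ℤ) ^ q • coefΨ n Y F Ψ Q q = 0 := by
  have hM := prop_map_MF n Y F Ψ hQ hQF
  have h1 := euler hQ (fun p => Ψ.obj (BF n Y F p)) (fun p => Ψ.obj (MF n Y F p))
    (fun p => Ψ.map (fF n Y F p)) (fun p => Ψ.map (gF n Y F p)) (map_fF_gF n Y F Ψ)
    hS hB hM (n + 1) (Ψ.map_isZero (isZero_BF n Y F (n + 1) le_rfl))
  have h2 : ∀ p : ℕ, p < n + 1 → KZero.clSub Q (Ψ.obj (MF n Y F p)) = coefΨ n Y F Ψ Q (p + 1) := by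
    intro p hp
    obtain ⟨e⟩ := nonempty_map_MF_iso n Y F Ψ p
    rw [clSub_iso hQ e (hM p)]
    exact (sigma_const hQ _ (hQF _ (by push_cast; omega)) _).2
  have h3 : KZero.clSub Q (Ψ.obj (BF n Y F 0)) = coefΨ n Y F Ψ Q 0 := by
    obtain ⟨e⟩ := nonempty_map_BF_zero_iso n Y F Ψ
    rw [clSub_iso hQ e (hB 0)]
    exact (sigma_const hQ _ (hQF _ (by push_cast; omega)) _).2
  simp only [h3] at h1
  have h5 : ∑ p ∈ Finset.range (n + 1), (-1 : ℤ) ^ p • KZero.clSub Q (Ψ.obj (MF n Y F p)) =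
      ∑ p ∈ Finset.range (n + 1), (-1 : ℤ) ^ p • coefΨ n Y F Ψ Q (p + 1) :=
    Finset.sum_congr rfl (fun p hp => by rw [h2 p (Finset.mem_range.1 hp)])
  rw [h5] at h1
  rw [Finset.sum_range_succ', pow_zero, one_smul, ← h1, ← Finset.sum_add_distrib]
  apply Finset.sum_eq_zero
  intro p _
  rw [pow_succ, mul_neg_one, neg_smul, neg_add_cancel]

end Groth.Agent.Helper4.SN226
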