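import Mathlib
import Groth.Agent.Helper4.SN226
import Groth.Agent.Helper1.PSB2

set_option autoImplicit false
set_option linter.unusedSectionVars false
set_option linter.style.haveILetI false

/-!
# SN227: the Koszul relations among the classes of the `O(k)` in `K(P^n_Y)` and among the
classes of their direct images in `K(Y)`
-/

namespace Groth.Agent.Helper4.SN227

open CategoryTheory Limits AlgebraicGeometry TopologicalSpace Opposite
open Groth.Agent.Helper4.SN221 Groth.Agent.Helper4.SN222 Groth.Agent.Helper4.SN223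
  Groth.Agent.Helper4.SN226
open Groth.Agent.Helper1.RegSh Groth.Agent.Helper4.SN216 Groth.Agent.Helper4.SN220

universe u

variable (n : ℕ) (Y : Scheme.{u}) [IsNoetherian Y]

/-- `O_P` -/
noncomputable abbrev OP : (KRR.PY n Y).Modules := Coh.structureModule (KRR.PY n Y)

/-- `O_P(k)` -/
noncomputable abbrev T (k : ℤ) : (KRR.PY n Y).Modules := KRR.twF n Y k (OP n Y)

theorem isFinLocFree_OP : FlatMod.IsFinLocFree (OP n Y) :=
  Groth.Agent.Helper4.FinLocFree6.isFinLocFree_unit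

theorem isFinLocFree_T (k : ℤ) : FlatMod.IsFinLocFree (T n Y k) :=
  isFinLocFree_twF n Y _ (isFinLocFree_OP n Y) k

/-- `O_P(a)(d) ≅ O_P(d + a)` -/
theorem nonempty_twF_T_iso (d a c : ℤ) (hc : c = d + a) :
    Nonempty (KRR.twF n Y d (T n Y a) ≅ T n Y c) :=
  nonempty_twF_twF n Y d a c hc (OP n Y)

/-- the twist functor -/
noncomputable abbrev twFun (d : ℤ) : (KRR.PY n Y).Modules ⥤ (KRR.PY n Y).Modules :=
  (DCoh.tensorBi (X := KRR.PY n Y)).obj (Twist.twistOver n Y d)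

/-- **relation (A)**: `Σ_q (-1)^q C(n+1,q) [O_P(n+1-q)(d)] = 0` in `K(P^n_Y)` -/
theorem relA (d : ℤ) :
    ∑ q ∈ Finset.range (n + 2), (-1 : ℤ) ^ q •
      coefΨ n Y (OP n Y) (twFun n Y d) (KRR.vbP (KRR.PY n Y)) q = 0 := by
  apply koszul_rel_functor n Y (OP n Y) (twFun n Y d) (good_vb n Y)
  · intro p
    have h := shortExact_map_tensorBi (shortExact_F n Y (OP n Y) (isFinLocFree_OP n Y) p) _
      (Groth.Agent.Helper1.FlatTw.isInvertible_twistOver n Y d)
    exact h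
  · intro a _
    exact isFinLocFree_twF n Y _ (isFinLocFree_T n Y a) d
  · intro p
    exact isFinLocFree_twF n Y _ (isFinLocFree_BF n Y _ (isFinLocFree_OP n Y) p) d

section vanishing

/-- finite locally free with vanishing higher direct images of the `d`-th twist -/
def Vd (d : ℤ) : ObjectProperty (KRR.PY n Y).Modules :=
  fun G => FlatMod.IsFinLocFree G ∧ ∀ q : ℕ, 1 ≤ q → IsZero ((RT n Y d q).obj G)

theorem good_Vd (d : ℤ) : Good (Vd n Y d) where
  iso := fun {A B} e h =>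
    ⟨Groth.Agent.Helper1.FlatTw.isFinLocFree_of_iso e h.1, fun q hq =>
      (h.2 q hq).of_iso ((RT n Y d q).mapIso e.symm)⟩
  zero := fun {A} hA =>
    ⟨Groth.Agent.Lead.PerfLib.isFinLocFree_of_isZero hA, fun q _ => (RT n Y d q).map_isZero hA⟩
  biprod := fun {A B} hA hB => by
    refine ⟨Groth.Agent.Lead.LocLift.isFinLocFree_biprod hA.1 hB.1, fun q hq => ?_⟩
    have hS := (ShortComplex.Splitting.ofHasBinaryBiproduct A B).shortExact
    obtain ⟨w, hex⟩ := exact_Rpush_twF n Y hS d q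
    exact hex.isZero_of_both_zeros ((hA.2 q hq).eq_of_src _ _) ((hB.2 q hq).eq_of_tgt _ _)

theorem Vd_X₃ (d : ℤ) {S : ShortComplex (KRR.PY n Y).Modules} (hS : S.ShortExact)
    (h₃ : FlatMod.IsFinLocFree S.X₃) (h₁ : Vd n Y d S.X₁) (h₂ : Vd n Y d S.X₂) :
    Vd n Y d S.X₃ := by
  refine ⟨h₃, fun q hq => ?_⟩
  obtain ⟨δ, w₁, w₂, hex, -⟩ := hasLES_RT n Y hS d q
  exact hex.isZero_of_both_zeros ((h₂.2 q hq).eq_of_src _ _)
    ((h₁.2 (q + 1) (by omega)).eq_of_tgt _ _)

theorem Vd_T (d a : ℤ) (h : -(n : ℤ) ≤ d + a) : Vd n Y d (T n Y a) := by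
  refine ⟨isFinLocFree_T n Y a, fun q hq => ?_⟩
  obtain ⟨e⟩ := nonempty_twF_T_iso n Y d a (d + a) rfl
  have e' : KRR.twF n Y d (T n Y a) ≅ Twist.twistOver n Y (d + a) :=
    e ≪≫ SecTwist.unitorR (Twist.twistOver n Y (d + a))
  have h0 : ¬ ((q = 0 ∧ 0 ≤ d + a) ∨ (q = n ∧ d + a ≤ -((n : ℤ) + 1))) := by
    rintro (⟨h1, -⟩ | ⟨-, h2⟩) <;> omega
  have h1 := Groth.Agent.Helper1.PSB.isZero_RpushAb_twistOver n Y q (d + a) h0
  exact isZero_Rpush_of_iso n Y e'.symm q h1

/-- the images of the Koszul complex of `O_P` have vanishing higher direct images after a twist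
`d ≥ -n` -/
theorem Vd_BF (d : ℤ) (hd : -(n : ℤ) ≤ d) : ∀ p, Vd n Y d (BF n Y (OP n Y) p) := by
  have hM := prop_MF n Y (OP n Y) (good_Vd n Y d) (fun a ha => Vd_T n Y d a (by omega))
  have key : ∀ k p : ℕ, p + k = n + 1 → Vd n Y d (BF n Y (OP n Y) p) := by
    intro k
    induction k with
    | zero =>
      intro p hp
      exact (good_Vd n Y d).zero (isZero_BF n Y _ p (by omega))
    | succ k ih =>
      intro p hp
      exact Vd_X₃ n Y d (shortExact_F n Y (OP n Y) (isFinLocFree_OP n Y) p)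
        (isFinLocFree_BF n Y _ (isFinLocFree_OP n Y) p) (ih (p + 1) (by omega)) (hM p)
  intro p
  by_cases hp : p ≤ n + 1
  · exact key (n + 1 - p) p (by omega)
  · exact (good_Vd n Y d).zero (isZero_BF n Y _ p (by omega))

/-- the functor `G ↦ p_*(G(d))` -/
noncomputable abbrev pushTw (d : ℤ) : (KRR.PY n Y).Modules ⥤ Y.Modules :=
  twFun n Y d ⋙ Scheme.Modules.pushforward (KRR.pr n Y)

instance additive_pushTw (d : ℤ) : (pushTw n Y d).Additive := by
  haveI : (Scheme.Modules.pushforward (KRR.pr n Y)).Additive :=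
    (Scheme.Modules.pullbackPushforwardAdjunction (KRR.pr n Y)).right_adjoint_additive
  infer_instance

theorem isZero_Rpush_twF (d : ℤ) (G : (KRR.PY n Y).Modules) (h : Vd n Y d G) (q : ℕ) (hq : 0 < q)
    [HasInjectiveResolutions (KRR.PY n Y).Modules] :
    IsZero ((Coh.Rpush (KRR.pr n Y) q).obj (KRR.twF n Y d G)) :=
  Groth.Agent.Helper4.SN210.isZero_Rpush_of_isZero_RpushAb (KRR.pr n Y) _ q (h.2 q hq)

theorem isFinLocFree_pushTw (d : ℤ) (G : (KRR.PY n Y).Modules) (h : Vd n Y d G) :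
    FlatMod.IsFinLocFree ((pushTw n Y d).obj G) := by
  haveI := Groth.Agent.Helper4.SchAdj.isGrothendieckAbelian_modules (KRR.PY n Y)
  haveI : HasInjectiveResolutions (KRR.PY n Y).Modules := inferInstance
  haveI : IsProper (KRR.pr n Y) := Groth.Agent.Helper6.HProj.isProper_toBase n Y
  have hF : FlatMod.IsFinLocFree (KRR.twF n Y d G) := isFinLocFree_twF n Y G h.1 d
  have hcoh : Coh.IsCoh (KRR.twF n Y d G) := Groth.Agent.Lead.PerfLib.isCoh_of_isFinLocFree hF
  have hfl : FlatMod.IsFlatOver (KRR.pr n Y) (KRR.twF n Y d G) :=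
    Groth.Agent.Lead.PerfLib.isFlatOver_of_isFinLocFree (KRR.pr n Y) hF
  obtain ⟨-, h2⟩ := Groth.Agent.S2390.result (KRR.pr n Y) _ hcoh hfl
    (fun q hq => isZero_Rpush_twF n Y d G h q hq)
  intro y
  obtain ⟨U, hyU, ⟨e⟩⟩ := h2 y
  exact ⟨U, _, hyU, ⟨e⟩⟩

theorem shortExact_map_pushTw (d : ℤ) {S : ShortComplex (KRR.PY n Y).Modules}
    (hS : S.ShortExact) (h₁ : Vd n Y d S.X₁) : (S.map (pushTw n Y d)).ShortExact := by
  haveI := Groth.Agent.Helper4.SchAdj.isGrothendieckAbelian_modules (KRR.PY n Y)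
  haveI : HasInjectiveResolutions (KRR.PY n Y).Modules := inferInstance
  have h1 := shortExact_map_tensorBi hS _
    (Groth.Agent.Helper1.FlatTw.isInvertible_twistOver n Y d)
  have h2 := Groth.Agent.Helper4.SN225.shortExact_map_push (KRR.pr n Y) h1
    (isZero_Rpush_twF n Y d S.X₁ h₁ 1 Nat.one_pos)
  exact h2

/-- **relation (B)**: `Σ_q (-1)^q C(n+1,q) [p_*(O_P(n+1-q)(d))] = 0` in `K(Y)`, `d ≥ -n` -/
theorem relB (d : ℤ) (hd : -(n : ℤ) ≤ d) :
    ∑ q ∈ Finset.range (n + 2), (-1 : ℤ) ^ q •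
      coefΨ n Y (OP n Y) (pushTw n Y d) (KRR.vbP Y) q = 0 := by
  have hvbY : Good (KRR.vbP Y) :=
    { iso := fun {A B} e h => Groth.Agent.Helper1.FlatTw.isFinLocFree_of_iso e h
      zero := fun {A} hA => Groth.Agent.Lead.PerfLib.isFinLocFree_of_isZero hA
      biprod := fun {A B} hA hB => Groth.Agent.Lead.LocLift.isFinLocFree_biprod hA hB }
  have hB := Vd_BF n Y d hd
  apply koszul_rel_functor n Y (OP n Y) (pushTw n Y d) hvbY
  · intro p
    have h := shortExact_map_pushTw n Y d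
      (shortExact_F n Y (OP n Y) (isFinLocFree_OP n Y) p) (hB (p + 1))
    exact h
  · intro a ha
    exact isFinLocFree_pushTw n Y d _ (Vd_T n Y d a (by omega))
  · intro p
    exact isFinLocFree_pushTw n Y d _ (hB p)

end vanishing

end Groth.Agent.Helper4.SN227
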