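import Mathlib

set_option autoImplicit false

namespace Groth.Agent.Helper4.SN228

open Finset

/-- the `(n+1)`-st difference of `x ↦ C(x, n)` vanishes -/
theorem binom_id (n K : ℕ) (hK : n + 1 ≤ K) :
    ∑ q ∈ range (n + 2), (-1 : ℤ) ^ q * ((n + 1).choose q : ℤ) * ((K - q).choose n : ℤ) = 0 := by
  have h := fwdDiff_iter_eq_sum_shift (h := (1 : ℕ)) (fun x : ℕ => (x.choose n : ℤ)) (n + 1)
    (K - (n + 1))
  have h0 : (fwdDiff (1 : ℕ))^[n + 1] (fun x : ℕ => (x.choose n : ℤ)) = fun _ => 0 := by
    rw [Function.iterate_succ_apply']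
    have := fwdDiff_iter_choose 0 n
    rw [add_zero] at this
    rw [this]
    simp
  rw [h0, ← sum_range_reflect] at h
  have h' : (0 : ℤ) = _ := h
  rw [h']
  apply sum_congr rfl
  intro q hq
  have hq' : q < n + 2 := mem_range.1 hq
  have e1 : n + 1 + 1 - 1 - q = n + 1 - q := by omega
  have e2 : n + 1 - (n + 1 - q) = q := by omega
  have e3 : K - (n + 1) + (n + 1 - q) • 1 = K - q := by
    simp only [smul_eq_mul, mul_one]
    omega
  rw [e1, e2, e3, Nat.choose_symm (by omega), smul_eq_mul]

/-- the recursion satisfied by the classes of the `O(k)` -/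
def Rec {G : Type*} [AddCommGroup G] (n : ℕ) (a : ℤ → G) (d : ℤ) : Prop :=
  ∑ q ∈ range (n + 2), (-1 : ℤ) ^ q • ((n + 1).choose q • a (d + ((n : ℤ) + 1 - (q : ℤ)))) = 0

theorem neg_one_pow_smul_cancel {G : Type*} [AddCommGroup G] (m : ℕ) {x y : G}
    (h : (-1 : ℤ) ^ m • x = (-1 : ℤ) ^ m • y) : x = y := by
  have h1 := congrArg (fun z => (-1 : ℤ) ^ m • z) h
  simp only [smul_smul, ← mul_pow] at h1
  simpa using h1

/-- two solutions of the recursion which agree in degrees `≥ 0` agree in degrees `≥ -n` -/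
theorem eq_of_rec {G : Type*} [AddCommGroup G] (n : ℕ) (a b : ℤ → G)
    (ra : ∀ d : ℤ, Rec n a d) (rb : ∀ d : ℤ, -(n : ℤ) ≤ d → Rec n b d)
    (e : ∀ k : ℤ, 0 ≤ k → a k = b k) : ∀ k : ℤ, -(n : ℤ) ≤ k → a k = b k := by
  have key : ∀ j : ℕ, ∀ k : ℤ, -(j : ℤ) ≤ k → -(n : ℤ) ≤ k → a k = b k := by
    intro j
    induction j with
    | zero =>
      intro k hk _
      exact e k (by simpa using hk)
    | succ j ih =>
      intro k hk hkn
      by_cases hk' : -(j : ℤ) ≤ k
      · exact ih k hk' hkn
      · have ha := ra k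
        have hb := rb k hkn
        unfold Rec at ha hb
        rw [sum_range_succ] at ha hb
        have hS : ∑ q ∈ range (n + 1), (-1 : ℤ) ^ q •
            ((n + 1).choose q • a (k + ((n : ℤ) + 1 - (q : ℤ)))) =
            ∑ q ∈ range (n + 1), (-1 : ℤ) ^ q •
            ((n + 1).choose q • b (k + ((n : ℤ) + 1 - (q : ℤ)))) := by
          apply sum_congr rfl
          intro q hq
          have hq' : q < n + 1 := mem_range.1 hq
          rw [ih _ (by push_cast at hk ⊢; omega) (by omega)]
        rw [hS] at ha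
        have h3 : (-1 : ℤ) ^ (n + 1) •
            ((n + 1).choose (n + 1) • a (k + ((n : ℤ) + 1 - ((n + 1 : ℕ) : ℤ)))) =
            (-1 : ℤ) ^ (n + 1) •
            ((n + 1).choose (n + 1) • b (k + ((n : ℤ) + 1 - ((n + 1 : ℕ) : ℤ)))) :=
          add_left_cancel (ha.trans hb.symm)
        have h4 : k + ((n : ℤ) + 1 - ((n + 1 : ℕ) : ℤ)) = k := by push_cast; ring
        rw [h4, Nat.choose_self, one_smul, one_smul] at h3
        exact neg_one_pow_smul_cancel _ h3
  intro k hk
  exact key n k hk hk

/-- the solution of the recursion with the initial values `0, …, 0, 1` -/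
theorem eq_choose_of_rec {R : Type*} [Ring R] (n : ℕ) (a : ℤ → R)
    (ra : ∀ d : ℤ, Rec n a d) (h0 : ∀ k : ℤ, -(n : ℤ) ≤ k → k < 0 → a k = 0) (h1 : a 0 = 1) :
    ∀ m : ℕ, a (m : ℤ) = ((n + m).choose m : R) := by
  have key : ∀ K : ℕ, a ((K : ℤ) - (n : ℤ)) = (K.choose n : R) := by
    intro K
    induction K using Nat.strong_induction_on with
    | _ K ih =>
      rcases lt_trichotomy K n with hK | hK | hK
      · rw [h0 _ (by omega) (by omega), Nat.choose_eq_zero_of_lt hK, Nat.cast_zero]
      · subst hK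
        rw [sub_self, h1, Nat.choose_self, Nat.cast_one]
      · have hr := ra ((K : ℤ) - (n : ℤ) - ((n : ℤ) + 1))
        unfold Rec at hr
        have hid := congrArg (Int.cast : ℤ → R) (binom_id n K hK)
        rw [Int.cast_sum, Int.cast_zero] at hid
        -- the difference of the two relations
        have hdiff : ∑ q ∈ range (n + 2), (-1 : ℤ) ^ q • ((n + 1).choose q •
            (a ((K : ℤ) - (n : ℤ) - ((n : ℤ) + 1) + ((n : ℤ) + 1 - (q : ℤ))) -
              ((K - q).choose n : R))) = 0 := by
          simp only [smul_sub, sum_sub_distrib]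
          rw [hr, zero_sub, neg_eq_zero, ← hid]
          apply sum_congr rfl
          intro q _
          push_cast
          rw [zsmul_eq_mul, nsmul_eq_mul]
          push_cast
          rw [mul_assoc]
        rw [sum_eq_single 0] at hdiff
        · simp only [pow_zero, Nat.choose_zero_right, one_smul, Nat.cast_zero, sub_zero,
            Nat.sub_zero] at hdiff
          have h5 : (K : ℤ) - (n : ℤ) - ((n : ℤ) + 1) + ((n : ℤ) + 1) = (K : ℤ) - (n : ℤ) := by
            ring
          rw [h5] at hdiff
          exact sub_eq_zero.1 hdiff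
        · intro q hq hq0
          have hq' : q < n + 2 := mem_range.1 hq
          have h6 : (K : ℤ) - (n : ℤ) - ((n : ℤ) + 1) + ((n : ℤ) + 1 - (q : ℤ)) =
              ((K - q : ℕ) : ℤ) - (n : ℤ) := by
            have : q ≤ K := by omega
            push_cast [Nat.cast_sub this]
            ring
          rw [h6, ih (K - q) (by omega), sub_self, smul_zero, smul_zero]
        · intro h
          exact absurd (mem_range.2 (by omega)) h
  intro m
  have h := key (m + n)
  have e1 : ((m + n : ℕ) : ℤ) - (n : ℤ) = (m : ℤ) := by push_cast; ring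
  rw [e1] at h
  rw [h, add_comm n m, Nat.choose_symm_add]

end Groth.Agent.Helper4.SN228
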