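import Mathlib
import Groth.Agent.Helper4.SN227
import Groth.Agent.Helper4.SN228

set_option autoImplicit false
set_option linter.unusedSectionVars false
set_option linter.style.haveILetI false

/-!
# SN229: `p_K[O(m)] = C(n+m, m)` for `m ≥ 0` (**S3760**) and `p_K[O(-i)] = 0` for `1 ≤ i ≤ n`
(**S3761**)
-/

namespace Groth.Agent.Helper4.SN229

open CategoryTheory Limits AlgebraicGeometry TopologicalSpace Opposite
open Groth.Agent.Helper4.SN221 Groth.Agent.Helper4.SN222 Groth.Agent.Helper4.SN223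
  Groth.Agent.Helper4.SN226 Groth.Agent.Helper4.SN227 Groth.Agent.Helper4.SN228
open Groth.Agent.Helper1.RegSh Groth.Agent.Helper4.SN216 Groth.Agent.Helper4.SN220

universe u

variable (n : ℕ) (Y : Scheme.{u}) [IsNoetherian Y]
  {KP KY : Type*} [CommRing KP] [CommRing KY]
  (φP : SGA6.Kvb (KRR.PY n Y) →+ KP) (φY : SGA6.Kvb Y →+ KY) (g : KP →+ KY)

/-- `p_K[O(k)]` -/
noncomputable def aSeq (k : ℤ) : KY := g (φP (KRR.cl (KRR.PY n Y) (T n Y k)))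

/-- `[p_* O(k)]` -/
noncomputable def bSeq (k : ℤ) : KY :=
  φY (KRR.cl Y ((Scheme.Modules.pushforward (KRR.pr n Y)).obj (T n Y k)))

theorem rec_aSeq (d : ℤ) : Rec n (aSeq n Y φP g) d := by
  have h := congrArg (g.comp φP) (relA n Y d)
  rw [map_sum, map_zero] at h
  unfold Rec
  rw [← h]
  apply Finset.sum_congr rfl
  intro q _
  rw [map_zsmul]
  unfold coefΨ
  rw [map_nsmul]
  obtain ⟨e⟩ := nonempty_twF_T_iso n Y d ((n : ℤ) + 1 - (q : ℤ)) (d + ((n : ℤ) + 1 - (q : ℤ))) rfl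
  have h1 : KZero.clSub (KRR.vbP (KRR.PY n Y))
      ((twFun n Y d).obj (KRR.twF n Y ((n : ℤ) + 1 - (q : ℤ)) (OP n Y))) =
      KRR.cl (KRR.PY n Y) (T n Y (d + ((n : ℤ) + 1 - (q : ℤ)))) :=
    Groth.Agent.Helper4.SN214.cl_eq_of_iso e
  rw [h1]
  rfl

theorem rec_bSeq (d : ℤ) (hd : -(n : ℤ) ≤ d) : Rec n (bSeq n Y φY) d := by
  have h := congrArg φY (relB n Y d hd)
  rw [map_sum, map_zero] at h
  unfold Rec
  rw [← h]
  apply Finset.sum_congr rfl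
  intro q _
  rw [map_zsmul]
  unfold coefΨ
  rw [map_nsmul]
  obtain ⟨e⟩ := nonempty_twF_T_iso n Y d ((n : ℤ) + 1 - (q : ℤ)) (d + ((n : ℤ) + 1 - (q : ℤ))) rfl
  have h1 : KZero.clSub (KRR.vbP Y)
      ((pushTw n Y d).obj (KRR.twF n Y ((n : ℤ) + 1 - (q : ℤ)) (OP n Y))) =
      KRR.cl Y ((Scheme.Modules.pushforward (KRR.pr n Y)).obj
        (T n Y (d + ((n : ℤ) + 1 - (q : ℤ))))) :=
    Groth.Agent.Helper4.SN214.cl_eq_of_iso ((Scheme.Modules.pushforward (KRR.pr n Y)).mapIso e)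
  rw [h1]
  rfl

theorem isRegSheaf_T (k : ℤ) (hk : 0 ≤ k) : KRR.IsRegSheaf n Y (T n Y k) := by
  obtain ⟨m, rfl⟩ := Int.eq_ofNat_of_zero_le hk
  exact Groth.Agent.Helper4.SN209.isRegSheaf_twF n (OP n Y)
    (isQCoh_of_isFinLocFree (isFinLocFree_OP n Y))
    (Groth.Agent.Helper4.SN214.isRegSheaf_structureModule n Y) m

variable {φP φY g}

theorem aSeq_eq_bSeq_of_nonneg (hg : KRR.IsPushPr n Y φP φY g) (k : ℤ) (hk : 0 ≤ k) :
    aSeq n Y φP g k = bSeq n Y φY k :=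
  hg (T n Y k) (isFinLocFree_T n Y k) (isRegSheaf_T n Y k hk)

theorem bSeq_eq_zero (k : ℤ) (hk : -(n : ℤ) ≤ k) (hk' : k < 0) : bSeq n Y φY k = 0 := by
  have h0 : ¬ (((0 : ℕ) = 0 ∧ 0 ≤ k) ∨ ((0 : ℕ) = n ∧ k ≤ -((n : ℤ) + 1))) := by
    rintro (⟨-, h1⟩ | ⟨-, h2⟩) <;> omega
  have h1 := Groth.Agent.Helper1.PSB.isZero_RpushAb_twistOver n Y 0 k h0
  have h2 : IsZero ((Coh.RpushAb (KRR.pr n Y) 0).obj (Coh.toAb (T n Y k))) :=
    isZero_Rpush_of_iso n Y (SecTwist.unitorR (Twist.twistOver n Y k)).symm 0 h1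
  have h3 := isZero_push_of_isZero_RpushAb_zero (KRR.pr n Y) _ h2
  have hvbY : Good (KRR.vbP Y) :=
    { iso := fun {A B} e h => Groth.Agent.Helper1.FlatTw.isFinLocFree_of_iso e h
      zero := fun {A} hA => Groth.Agent.Lead.PerfLib.isFinLocFree_of_isZero hA
      biprod := fun {A B} hA hB => Groth.Agent.Lead.LocLift.isFinLocFree_biprod hA hB }
  unfold bSeq KRR.cl
  rw [clSub_zero hvbY h3, map_zero]

theorem aSeq_eq_bSeq (hg : KRR.IsPushPr n Y φP φY g) (k : ℤ) (hk : -(n : ℤ) ≤ k) :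
    aSeq n Y φP g k = bSeq n Y φY k :=
  eq_of_rec n _ _ (rec_aSeq n Y φP g) (rec_bSeq n Y φY) (aSeq_eq_bSeq_of_nonneg n Y hg) k hk

/-- **S3761** -/
theorem main3761 (hg : KRR.IsPushPr n Y φP φY g) (i : ℕ) (hi : 1 ≤ i) (hin : i ≤ n) :
    g (φP (KRR.cl (KRR.PY n Y) (KRR.twF n Y (-(i : ℤ)) (Coh.structureModule (KRR.PY n Y))))) = 0 := by
  have h := aSeq_eq_bSeq n Y hg (-(i : ℤ)) (by omega)
  rw [bSeq_eq_zero n Y (-(i : ℤ)) (by omega) (by omega)] at h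
  exact h

/-- **S3760** -/
theorem main3760 (h1 : φY (KRR.cl Y (Coh.structureModule Y)) = 1)
    (hg : KRR.IsPushPr n Y φP φY g) (m : ℕ) :
    g (φP (KRR.cl (KRR.PY n Y) (KRR.twF n Y (m : ℤ) (Coh.structureModule (KRR.PY n Y))))) =
      (Nat.choose (n + m) m : KY) := by
  have ha0 : aSeq n Y φP g 0 = 1 := by
    have h := Groth.Agent.Helper4.SN214.main3759 n Y φP φY h1 g hg
    obtain ⟨e⟩ := nonempty_twF_zero n Y (OP n Y)
    unfold aSeq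
    rw [Groth.Agent.Helper4.SN214.cl_eq_of_iso e]
    exact h
  have hz : ∀ k : ℤ, -(n : ℤ) ≤ k → k < 0 → aSeq n Y φP g k = 0 := by
    intro k hk hk'
    rw [aSeq_eq_bSeq n Y hg k hk, bSeq_eq_zero n Y k hk hk']
  exact eq_choose_of_rec n (aSeq n Y φP g) (rec_aSeq n Y φP g) hz ha0 m

end Groth.Agent.Helper4.SN229
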