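import Mathlib
import Groth.Agent.Helper4.SN229
import Groth.Agent.Helper4.SN72
import Groth.Agent.Helper4.PullSec
import Groth.Agent.Helper4.TensorRes

set_option autoImplicit false
set_option linter.unusedSectionVars false
set_option linter.style.haveILetI false

/-!
# SN230: the projection formula `p_K(x · p^K y) = p_K(x) · y` (**S3762**)
-/

namespace Groth.Agent.Helper4.SN230

open CategoryTheory Limits AlgebraicGeometry TopologicalSpace Opposite
open Groth.Agent.Helper4.SN221 Groth.Agent.Helper4.SN222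

universe u

section general

variable {X S : Scheme.{u}}

/-- `A ⊗ O^r ≅ A^r` -/
theorem nonempty_tensor_free_iso (A : X.Modules) (r : ℕ) :
    Nonempty (CohB1.tensorMod A (FlatMod.freeMod X r) ≅ ∐ fun _ : Fin r => A) := by
  haveI := (inferInstance :
    PreservesFiniteCoproducts ((DCoh.tensorBi (X := X)).obj A)).preserves r
  have e : ((DCoh.tensorBi (X := X)).obj A).obj (∐ fun _ : Fin r => Coh.structureModule X) ≅
      ∐ fun _ : Fin r => ((DCoh.tensorBi (X := X)).obj A).obj (Coh.structureModule X) :=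
    PreservesCoproduct.iso ((DCoh.tensorBi (X := X)).obj A) _
  exact ⟨e ≪≫ Sigma.mapIso (fun _ => SecTwist.unitorR A)⟩

/-- tensoring with the pullback of a finite locally free module preserves the vanishing of a
higher direct image -/
theorem isZero_RpushAb_tensor_pullback (f : X ⟶ S) [QuasiCompact f] [IsSeparated f]
    (G : X.Modules) (hG : Coh.IsQCoh G) (E : S.Modules) (hE : FlatMod.IsFinLocFree E) (q : ℕ)
    (h : IsZero ((Coh.RpushAb f (q + 1)).obj (Coh.toAb G))) :
    IsZero ((Coh.RpushAb f (q + 1)).obj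
      (Coh.toAb (CohB1.tensorMod G ((Scheme.Modules.pullback f).obj E)))) := by
  haveI : G.IsQuasicoherent := hG
  haveI : E.IsQuasicoherent :=
    Groth.Agent.Helper4.FinLocFree4.isQuasicoherent_of_isFinLocFree E hE
  haveI : ((Scheme.Modules.pullback f).obj E).IsQuasicoherent :=
    Groth.Agent.Lead.StalkPull.isQuasicoherent_pullbackObj f E
  haveI : (CohB1.tensorMod G ((Scheme.Modules.pullback f).obj E)).IsQuasicoherent :=
    Groth.Agent.Lead.QcohTensor.isQuasicoherent_tensorMod G _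
  apply Groth.Agent.Helper1.Fin.isZero_RpushAb_of_cover f _
    {V | IsAffineOpen V ∧ ∃ r : ℕ, Groth.Agent.Helper4.FinLocFree.IsFreeAlong E V.ι r}
    (fun V hV => hV.1) ?_ q ?_
  · intro x
    obtain ⟨U, r, hxU, hfree⟩ := hE x
    obtain ⟨V, hV, hxV, hVU⟩ := Opens.isBasis_iff_nbhd.1 S.isBasis_affineOpens hxU
    exact ⟨V, ⟨hV, r, Groth.Agent.Helper4.FinLocFree.IsFreeAlong.of_le hVU hfree⟩, hxV⟩
  · rintro V ⟨hV, r, ⟨ε⟩⟩
    have h1 := Groth.Agent.Helper4.SN209.subsingleton_HHon_of_isZero_RpushAb f G hG (q + 1) h V hV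
    obtain ⟨e0⟩ := nonempty_tensor_free_iso (G.restrict (f ⁻¹ᵁ V).ι) r
    have e : (CohB1.tensorMod G ((Scheme.Modules.pullback f).obj E)).restrict (f ⁻¹ᵁ V).ι ≅
        ∐ fun _ : Fin r => G.restrict (f ⁻¹ᵁ V).ι :=
      (Groth.Agent.Helper4.TensorRes.resIso (f ⁻¹ᵁ V).ι G
        ((Scheme.Modules.pullback f).obj E)).symm ≪≫
      PicGrp.tensorModIso (Iso.refl _)
        (Groth.Agent.Helper4.PullSec.resPullIso f V E ≪≫
          (Scheme.Modules.pullback (f ∣_ V)).mapIso ε ≪≫
          Groth.Agent.Helper8.TildeBC.pullbackFreeIso (f ∣_ V) r) ≪≫ e0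
    have h2 : Subsingleton (Coh.HH (f ⁻¹ᵁ V) (∐ fun _ : Fin r => G.restrict (f ⁻¹ᵁ V).ι) (q + 1)) :=
      Groth.Agent.Helper1.SerreVan.subsingleton_HH_sigma _ _ (fun _ => h1)
    have h3 : Subsingleton (Coh.HHon X (CohB1.tensorMod G ((Scheme.Modules.pullback f).obj E))
        (f ⁻¹ᵁ V) (q + 1)) :=
      Groth.Agent.Helper1.SerreCrit.subsingleton_HH_of_iso e.symm (q + 1) h2
    obtain ⟨e'⟩ := Groth.Agent.Helper1.HHonHU.nonempty_HHon_HU X
      (CohB1.tensorMod G ((Scheme.Modules.pullback f).obj E)) (f ⁻¹ᵁ V) (q + 1)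
    exact e'.symm.toEquiv.subsingleton

end general

variable (n : ℕ) (Y : Scheme.{u}) [IsNoetherian Y]

/-- `F ⊗ p^* E` is regular for `F` regular and `E` finite locally free -/
theorem isRegSheaf_tensor_pullback (F : (KRR.PY n Y).Modules) (hF : Coh.IsQCoh F)
    (hreg : KRR.IsRegSheaf n Y F) (E : Y.Modules) (hE : FlatMod.IsFinLocFree E) :
    KRR.IsRegSheaf n Y (CohB1.tensorMod F ((Scheme.Modules.pullback (KRR.pr n Y)).obj E)) := by
  intro i hi
  obtain ⟨q, rfl⟩ : ∃ q, i = q + 1 := ⟨i - 1, by omega⟩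
  haveI : IsProper (KRR.pr n Y) := Groth.Agent.Helper6.HProj.isProper_toBase n Y
  have h1 := isZero_RpushAb_tensor_pullback (KRR.pr n Y) (KRR.twF n Y (-((q + 1 : ℕ) : ℤ)) F)
    (Groth.Agent.Helper4.SN209.isQCoh_twF n Y F hF _) E hE q (hreg (q + 1) hi)
  have e : CohB1.tensorMod (KRR.twF n Y (-((q + 1 : ℕ) : ℤ)) F)
      ((Scheme.Modules.pullback (KRR.pr n Y)).obj E) ≅
      KRR.twF n Y (-((q + 1 : ℕ) : ℤ))
        (CohB1.tensorMod F ((Scheme.Modules.pullback (KRR.pr n Y)).obj E)) :=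
    Groth.Agent.Lead.Ref1B.assoc _ _ _
  exact Groth.Agent.Helper1.RegSh.isZero_Rpush_of_iso n Y e (q + 1) h1

section main

variable {KP KY : Type*} [CommRing KP] [CommRing KY]
  (φP : SGA6.Kvb (KRR.PY n Y) →+ KP) (hφP : Function.Bijective φP) (φY : SGA6.Kvb Y →+ KY)
  (hφY : Function.Surjective φY)
  (mulP : ∀ E F : (KRR.PY n Y).Modules, FlatMod.IsFinLocFree E → FlatMod.IsFinLocFree F →
    φP (KRR.cl _ E) * φP (KRR.cl _ F) =
      φP (KRR.cl _ (((DCoh.tensorBi (X := KRR.PY n Y)).obj E).obj F)))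
  (mulY : ∀ E F : Y.Modules, FlatMod.IsFinLocFree E → FlatMod.IsFinLocFree F →
    φY (KRR.cl _ E) * φY (KRR.cl _ F) = φY (KRR.cl _ (((DCoh.tensorBi (X := Y)).obj E).obj F)))

include hφP hφY mulP mulY in
/-- **S3762** -/
theorem main3762 (g : KP →+ KY) (hg : KRR.IsPushPr n Y φP φY g) (q : KY →+ KP)
    (hq : KRR.IsPull (KRR.pr n Y) φY φP q) (x : KP) (y : KY) : g (x * q y) = g x * y := by
  have key : ∀ (E : Y.Modules), FlatMod.IsFinLocFree E → ∀ x : KP,
      g (x * q (φY (KRR.cl Y E))) = g x * φY (KRR.cl Y E) := by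
    intro E hE x
    have hpE : FlatMod.IsFinLocFree ((Scheme.Modules.pullback (KRR.pr n Y)).obj E) :=
      Groth.Agent.Helper9.Lpull5.isFinLocFree_pullback _ _ hE
    have h : g.comp (AddMonoidHom.mulRight (q (φY (KRR.cl Y E)))) =
        (AddMonoidHom.mulRight (φY (KRR.cl Y E))).comp g := by
      apply Groth.Agent.Helper4.SN225.hom_ext_reg n Y φP hφP
      intro F hF hreg
      have hFE : FlatMod.IsFinLocFree (((DCoh.tensorBi (X := KRR.PY n Y)).obj F).obj
          ((Scheme.Modules.pullback (KRR.pr n Y)).obj E)) :=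
        Groth.Agent.Helper9.FlfTensor1.isFinLocFree_tensor _ _ hF hpE
      have hregFE := isRegSheaf_tensor_pullback n Y F
        (Groth.Agent.Helper4.SN220.isQCoh_of_isFinLocFree hF) hreg E hE
      have hpF := Groth.Agent.Helper4.SN210.isFinLocFree_push n Y F hF hreg
      rw [AddMonoidHom.comp_apply, AddMonoidHom.comp_apply, AddMonoidHom.mulRight_apply,
        AddMonoidHom.mulRight_apply, hq E hE, mulP F _ hF hpE, hg _ hFE hregFE, hg F hF hreg,
        mulY _ E hpF hE]
      congr 1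
      exact Groth.Agent.Helper4.SN214.cl_eq_of_iso
        (Groth.Agent.Helper4.SN.projIsoLF (KRR.pr n Y) F E hE).symm
    exact DFunLike.congr_fun h x
  obtain ⟨y', rfl⟩ := hφY y
  induction y' using Groth.Agent.Helper4.SN221.induction_on with
  | h0 => simp
  | hof E hE =>
    rw [← Groth.Agent.Helper4.SN224.clSub_eq_mk (KRR.vbP Y) E hE]
    exact key E hE x
  | hneg y ih => rw [map_neg, map_neg, mul_neg, map_neg, ih, mul_neg]
  | hadd y z ihy ihz => rw [map_add, map_add, mul_add, map_add, ihy, ihz, mul_add]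

end main

end Groth.Agent.Helper4.SN230
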