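import Mathlib
import Groth.Agent.Helper4.SN221

/-!
# SN231: more abstract `K₀` lemmas: homomorphisms out of `K0sub`, classes of finite sums,
the class of an object with a finite resolution
-/

set_option autoImplicit false
set_option linter.unusedSectionVars false
set_option linter.style.haveILetI false

universe v u

open CategoryTheory CategoryTheory.Limits ZeroObject

namespace Groth.Agent.Helper4.SN231

open Groth.Agent.Helper4.SN221

variable {C : Type u} [Category.{v} C] [Abelian C]

attribute [local instance] Abelian.hasFiniteBiproducts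

section lift

variable {P : ObjectProperty C} {G : Type*} [AddCommGroup G] (φ : ∀ X : C, P X → G)
  (hadd : ∀ (S : ShortComplex C), S.ShortExact → ∀ (h₁ : P S.X₁) (h₂ : P S.X₂) (h₃ : P S.X₃),
    φ S.X₂ h₂ = φ S.X₁ h₁ + φ S.X₃ h₃)

/-- an additive function on the objects of `P` induces a homomorphism on `K0sub P` -/
noncomputable def liftSub : KZero.K0sub P →+ G :=
  QuotientAddGroup.lift (KZero.relSub P)
    (FreeAbelianGroup.lift (fun X : Subtype P => φ X.1 X.2)) (by
      unfold KZero.relSub
      rw [AddSubgroup.closure_le]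
      rintro x ⟨S, h₁, h₂, h₃, hS, rfl⟩
      show FreeAbelianGroup.lift (fun X : Subtype P => φ X.1 X.2) _ = 0
      rw [map_sub, map_sub, FreeAbelianGroup.lift_apply_of, FreeAbelianGroup.lift_apply_of,
        FreeAbelianGroup.lift_apply_of]
      show φ S.X₂ h₂ - φ S.X₁ h₁ - φ S.X₃ h₃ = 0
      rw [hadd S hS h₁ h₂ h₃]
      abel)

theorem liftSub_clSub (X : C) (hX : P X) : liftSub φ hadd (KZero.clSub P X) = φ X hX := by
  classical
  rw [KZero.clSub, dif_pos hX]
  unfold liftSub
  rw [QuotientAddGroup.lift_mk, FreeAbelianGroup.lift_apply_of]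

end lift

section family

variable {P : ObjectProperty C} (hP : Good P)
include hP

theorem biproduct_family : ∀ (m : ℕ) (G : Fin m → C), (∀ j, P (G j)) →
    P (⨁ G) ∧ KZero.clSub P (⨁ G) = ∑ j, KZero.clSub P (G j) := by
  intro m
  induction m with
  | zero =>
    intro G _
    have hz : IsZero (⨁ G) := by
      rw [IsZero.iff_id_eq_zero]
      apply biproduct.hom_ext
      intro j
      exact j.elim0
    exact ⟨hP.zero hz, by rw [clSub_zero hP hz]; simp⟩
  | succ m ih =>
    intro G hG
    obtain ⟨i⟩ := nonempty_biproduct_fin_succ_iso G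
    have ih' := ih (fun j => G j.succ) (fun j => hG j.succ)
    have h1 : P (G 0 ⊞ ⨁ fun j : Fin m => G j.succ) := prop_biprod hP (hG 0) ih'.1
    refine ⟨hP.iso i.symm h1, ?_⟩
    rw [clSub_iso hP i (hP.iso i.symm h1), clSub_biprod hP (hG 0) ih'.1, ih'.2,
      Fin.sum_univ_succ]

theorem sigma_family (m : ℕ) (G : Fin m → C) (hG : ∀ j, P (G j)) :
    P (∐ G) ∧ KZero.clSub P (∐ G) = ∑ j, KZero.clSub P (G j) := by
  obtain ⟨h1, h2⟩ := biproduct_family hP m G hG
  have e : (⨁ G) ≅ ∐ G := biproduct.isoCoproduct _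
  exact ⟨hP.iso e h1, by rw [← clSub_iso hP e h1, h2]⟩

end family

section resolution

variable (X : ℕ → C) (d : ∀ p, X (p + 1) ⟶ X p) (F : C) (π : X 0 ⟶ F)

/-- the augmented sequence of objects -/
def augX : ℕ → C
  | 0 => F
  | p + 1 => X p

/-- the augmented differentials -/
def augD : ∀ p, augX X F (p + 1) ⟶ augX X F p
  | 0 => π
  | p + 1 => d p

variable {P : ObjectProperty C} (hP : Good P)
  (himg : ∀ {A B : C} (f : A ⟶ B), P A → P B → P (Abelian.image f))

include hP himg in
/-- **the class of an object with a finite resolution** -/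
theorem class_of_resolution [Epi π] (hd : ∀ p, d (p + 1) ≫ d p = 0) (w : d 0 ≫ π = 0)
    (hex : ∀ p, (ShortComplex.mk (d (p + 1)) (d p) (hd p)).Exact)
    (hex0 : (ShortComplex.mk (d 0) π w).Exact) (hX : ∀ p, P (X p)) (hF : P F)
    (r : ℕ) (hr : IsZero (X r)) :
    ∑ p ∈ Finset.range r, (-1 : ℤ) ^ p • KZero.clSub P (X p) = KZero.clSub P F := by
  have hd' : ∀ p, augD X d F π (p + 1) ≫ augD X d F π p = 0 := by
    intro p
    cases p with
    | zero => exact w
    | succ p => exact hd p
  have hex' : ∀ p, (ShortComplex.mk (augD X d F π (p + 1)) (augD X d F π p) (hd' p)).Exact := by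
    intro p
    cases p with
    | zero => exact hex0
    | succ p => exact hex p
  have hX' : ∀ p, P (augX X F p) := by
    intro p
    cases p with
    | zero => exact hF
    | succ p => exact hX p
  haveI : Epi (augD X d F π 0) := inferInstanceAs (Epi π)
  have hB : ∀ p, P (Bd (augX X F) (augD X d F π) p) := fun p => himg _ (hX' (p + 1)) (hX' p)
  have h := euler hP (Bd (augX X F) (augD X d F π)) (fun p => augX X F (p + 1))
    (fB (augX X F) (augD X d F π)) (gB (augX X F) (augD X d F π))
    (fB_gB (augX X F) (augD X d F π) hd') (shortExact_B (augX X F) (augD X d F π) hd' hex')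
    hB (fun p => hX' (p + 1)) r (isZero_Bd (augX X F) (augD X d F π) r hr)
  obtain ⟨e⟩ := nonempty_Bd_zero_iso (augX X F) (augD X d F π)
  rw [clSub_iso hP e (hB 0)] at h
  exact h

include hP himg in
/-- **the Euler relation of a finite exact complex ending in an epimorphism** -/
theorem class_of_exact [Epi (d 0)] (hd : ∀ p, d (p + 1) ≫ d p = 0)
    (hex : ∀ p, (ShortComplex.mk (d (p + 1)) (d p) (hd p)).Exact) (hX : ∀ p, P (X p))
    (r : ℕ) (hr : IsZero (X (r + 1))) :
    ∑ p ∈ Finset.range r, (-1 : ℤ) ^ p • KZero.clSub P (X (p + 1)) = KZero.clSub P (X 0) := by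
  have hB : ∀ p, P (Bd X d p) := fun p => himg _ (hX (p + 1)) (hX p)
  have h := euler hP (Bd X d) (fun p => X (p + 1)) (fB X d) (gB X d) (fB_gB X d hd)
    (shortExact_B X d hd hex) hB (fun p => hX (p + 1)) r (isZero_Bd X d r hr)
  obtain ⟨e⟩ := nonempty_Bd_zero_iso X d
  rw [clSub_iso hP e (hB 0)] at h
  exact h

end resolution

end Groth.Agent.Helper4.SN231
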