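import Mathlib
import Groth.Agent.Helper4.SN231
import Groth.Agent.Helper4.SN195
import Groth.Agent.Helper1.KzMain
import Groth.Agent.Helper1.KzPn
import Groth.Agent.Helper1.TwistIso
import Groth.Agent.Helper1.SerreFin2
import Groth.Agent.Helper2.CohQ1
import Groth.Agent.Helper2.ZA4
import Groth.Agent.Lead.CohPull
import Groth.Agent.Lead.PerfLib5

set_option autoImplicit false
set_option linter.unusedSectionVars false
set_option linter.style.haveILetI false

/-!
# SN232: the Koszul relation in `K₀` of the coherent sheaves on `P^n_R`, and the classes of the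
twisting sheaves
-/

namespace Groth.Agent.Helper4.SN232

open CategoryTheory Limits AlgebraicGeometry TopologicalSpace Opposite
open Groth.Agent.Helper4.SN221 Groth.Agent.Helper4.SN231

universe u

variable (n : ℕ) (R : Type u) [CommRing R]

/-- the grading of the polynomial ring -/
noncomputable abbrev Ar : ℕ → Submodule R (MvPolynomial (Fin (n + 1)) R) :=
  CohB1.polyGrading n R

/-- the terms of the Koszul resolution of `O(s)` on `P^n_R` -/
noncomputable def Xr (s : ℤ) (p : ℕ) : (CohB1.ProjSpace n R).Modules :=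
  Groth.Agent.Helper1.KzMain.Cs (Ar n R) (Ar n R) (n + 1) s p

/-- the differentials -/
noncomputable def dr (s : ℤ) (p : ℕ) : Xr n R s (p + 1) ⟶ Xr n R s p :=
  Groth.Agent.Helper1.KzMain.ds (Ar n R) (Ar n R) (Groth.Agent.Helper1.KzPn.xs n R)
    (Groth.Agent.Helper1.KzPn.xs_mem n R) (n + 1) s p

theorem dr_comp (s : ℤ) (p : ℕ) : dr n R s (p + 1) ≫ dr n R s p = 0 :=
  Groth.Agent.Helper1.KzMain.ds_comp (Ar n R) (Ar n R) (Groth.Agent.Helper1.KzPn.xs n R)
    (Groth.Agent.Helper1.KzPn.xs_mem n R) (n + 1) s p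

theorem dr_exact (s : ℤ) (p : ℕ) :
    (ShortComplex.mk (dr n R s (p + 1)) (dr n R s p) (dr_comp n R s p)).Exact :=
  Groth.Agent.Helper1.KzMain.ds_exact (Ar n R) (Ar n R)
    (Groth.Agent.Helper1.KzPn.xs n R) (Groth.Agent.Helper1.KzPn.xs_mem n R) (n + 1)
    (Groth.Agent.Helper1.KzPn.xs_cov n R) s p

instance dr_epi (s : ℤ) : Epi (dr n R s 0) :=
  Groth.Agent.Helper1.KzMain.ds_epi (Ar n R) (Ar n R)
    (Groth.Agent.Helper1.KzPn.xs n R) (Groth.Agent.Helper1.KzPn.xs_mem n R) (n + 1)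
    (Groth.Agent.Helper1.KzPn.xs_cov n R) s

theorem isZero_Xr (s : ℤ) (p : ℕ) (hp : n + 1 < p) : IsZero (Xr n R s p) :=
  Groth.Agent.Helper1.KzMain.Cs_isZero (Ar n R) (Ar n R) (n + 1) s p hp

/-- the terms are sums of twisting sheaves -/
theorem nonempty_Xr_iso (s : ℤ) (p : ℕ) :
    Nonempty (Xr n R s p ≅ ∐ fun _ : Fin (Nat.choose (n + 1) p) =>
      Twist.twistProjSpace n R (s - p)) := by
  obtain ⟨e⟩ := Groth.Agent.Helper1.KzSheaf.nonempty_C_iso_sigma (Ar n R) (Ar n R) (n + 1) p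
    (s - p)
  exact ⟨e ≪≫ Sigma.mapIso (fun _ =>
    (Groth.Agent.Helper1.TwistIso.twistIsoTilde (Ar n R) (s - p)).symm)⟩

section noeth

variable [IsNoetherianRing R]

/-- the coherent sheaves form a good class -/
theorem good_coh :
    Good (fun M : (CohB1.ProjSpace n R).Modules => Coh.IsCoh M) where
  iso := fun {A B} e h => Groth.Agent.Helper2.CohQ1.isCoh_of_iso e h
  zero := fun {A} hA => Groth.Agent.Helper2.ZA.isCoh_of_isZero hA
  biprod := fun {A B} hA hB => Groth.Agent.Lead.CohPull.isCoh_biprod hA hB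

theorem isCoh_image {A B : (CohB1.ProjSpace n R).Modules} (f : A ⟶ B) (hA : Coh.IsCoh A)
    (hB : Coh.IsCoh B) : Coh.IsCoh (Abelian.image f) := by
  haveI := Groth.Agent.Helper4.SN.isNoetherian_projSpace R n
  exact Groth.Agent.Lead.PerfLib.isCoh_kernel hB
    (Groth.Agent.Lead.PerfLib.isCoh_cokernel hA hB f) _

/-- the class of a coherent sheaf -/
noncomputable abbrev cc (F : (CohB1.ProjSpace n R).Modules) :
    KZero.K0sub (fun M : (CohB1.ProjSpace n R).Modules => Coh.IsCoh M) :=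
  KZero.clSub (fun M : (CohB1.ProjSpace n R).Modules => Coh.IsCoh M) F

theorem isCoh_Xr (s : ℤ) (p : ℕ) : Coh.IsCoh (Xr n R s p) := by
  obtain ⟨e⟩ := nonempty_Xr_iso n R s p
  exact (good_coh n R).iso e.symm
    (sigma_const (good_coh n R) _ (Groth.Agent.Helper1.SerreFin.isCoh_twist n R (s - p)) _).1

theorem cc_Xr (s : ℤ) (p : ℕ) :
    cc n R (Xr n R s p) = (Nat.choose (n + 1) p) • cc n R (Twist.twistProjSpace n R (s - p)) := by
  obtain ⟨e⟩ := nonempty_Xr_iso n R s p
  have h := sigma_const (good_coh n R) _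
    (Groth.Agent.Helper1.SerreFin.isCoh_twist n R (s - p)) (Nat.choose (n + 1) p)
  unfold cc
  rw [clSub_iso (good_coh n R) e (isCoh_Xr n R s p)]
  exact h.2

/-- **the Koszul relation** -/
theorem koszul (s : ℤ) :
    ∑ p ∈ Finset.range (n + 1), (-1 : ℤ) ^ p •
      ((Nat.choose (n + 1) (p + 1)) • cc n R (Twist.twistProjSpace n R (s - ((p + 1 : ℕ) : ℤ)))) =
      cc n R (Twist.twistProjSpace n R s) := by
  have h : ∑ p ∈ Finset.range (n + 1), (-1 : ℤ) ^ p • cc n R (Xr n R s (p + 1)) =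
      cc n R (Xr n R s 0) := class_of_exact (Xr n R s) (dr n R s) (good_coh n R)
    (fun f hA hB => isCoh_image n R f hA hB) (dr_comp n R s) (dr_exact n R s)
    (isCoh_Xr n R s) (n + 1) (isZero_Xr n R s (n + 1 + 1) (by omega))
  have h0 := cc_Xr n R s 0
  simp only [Nat.choose_zero_right, one_smul, Nat.cast_zero, sub_zero] at h0
  rw [h0] at h
  rw [← h]
  refine Finset.sum_congr rfl (fun p _ => ?_)
  have h1 := cc_Xr n R s (p + 1)
  rw [h1]

end noeth

end Groth.Agent.Helper4.SN232
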