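import Mathlib

set_option autoImplicit false
set_option linter.unusedSectionVars false
set_option linter.style.haveILetI false

/-!
# SN233: pure algebra for the projective bundle formula: a sequence satisfying the Koszul
recursion lies in the subgroup generated by `n + 1` consecutive terms; unitriangular systems
-/

namespace Groth.Agent.Helper4.SN233

variable {G : Type*} [AddCommGroup G]

theorem mem_of_negOnePow_smul (H : AddSubgroup G) (n : ℕ) (x : G)
    (h : (-1 : ℤ) ^ n • x ∈ H) : x ∈ H := by
  have h1 : x = (-1 : ℤ) ^ n • ((-1 : ℤ) ^ n • x) := by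
    rw [smul_smul, ← mul_pow]
    simp
  rw [h1]
  exact H.zsmul_mem h _

/-- a sequence satisfying the Koszul recursion lies in the subgroup generated by the terms
`g 0, g (-1), …, g (-n)` -/
theorem mem_of_rel (n : ℕ) (g : ℤ → G)
    (hrel : ∀ s : ℤ, ∑ p ∈ Finset.range (n + 1), (-1 : ℤ) ^ p •
      ((Nat.choose (n + 1) (p + 1)) • g (s - ((p + 1 : ℕ) : ℤ))) = g s)
    (H : AddSubgroup G) (hH : ∀ i : ℕ, i ≤ n → g (-(i : ℤ)) ∈ H) : ∀ d : ℤ, g d ∈ H := by
  have key : ∀ m : ℕ, ∀ d : ℤ, -(n : ℤ) - m ≤ d → d ≤ m → g d ∈ H := by
    intro m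
    induction m with
    | zero =>
      intro d h1 h2
      obtain ⟨i, rfl⟩ : ∃ i : ℕ, d = -(i : ℤ) := ⟨(-d).toNat, by omega⟩
      exact hH i (by push_cast at h1; omega)
    | succ m ih =>
      intro d h1 h2
      by_cases hc : -(n : ℤ) - m ≤ d ∧ d ≤ m
      · exact ih d hc.1 hc.2
      · by_cases hd : d = (m : ℤ) + 1
        · rw [hd, ← hrel]
          refine H.sum_mem (fun p hp => H.zsmul_mem (H.nsmul_mem (ih _ ?_ ?_) _) _)
          · have := Finset.mem_range.1 hp
            push_cast
            omega
          · push_cast
            omega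
        · have hd' : d = -(m : ℤ) - ((n + 1 : ℕ) : ℤ) := by
            push_cast at h1 h2 ⊢
            omega
          have h3 := hrel (-(m : ℤ))
          rw [Finset.sum_range_succ, Nat.choose_self, one_smul] at h3
          have h4 : (-1 : ℤ) ^ n • g (-(m : ℤ) - ((n + 1 : ℕ) : ℤ)) =
              g (-(m : ℤ)) - ∑ p ∈ Finset.range n, (-1 : ℤ) ^ p •
                ((Nat.choose (n + 1) (p + 1)) • g (-(m : ℤ) - ((p + 1 : ℕ) : ℤ))) := by
            rw [← h3]
            abel
          rw [hd']
          apply mem_of_negOnePow_smul H n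
          rw [h4]
          refine H.sub_mem (ih _ (by omega) (by omega)) ?_
          refine H.sum_mem (fun p hp => H.zsmul_mem (H.nsmul_mem (ih _ ?_ ?_) _) _)
          · have := Finset.mem_range.1 hp
            push_cast
            omega
          · push_cast
            omega
  intro d
  exact key d.natAbs d (by omega) (by omega)

/-- a unitriangular homogeneous system has only the trivial solution -/
theorem eq_zero_of_unitriangular (n : ℕ) (a : Fin (n + 1) → ℤ) (e : ℤ → ℤ) (h0 : e 0 = 1)
    (hneg : ∀ m : ℤ, -(n : ℤ) ≤ m → m < 0 → e m = 0)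
    (hsys : ∀ j : Fin (n + 1), ∑ i : Fin (n + 1), a i * e ((j : ℕ) - (i : ℕ) : ℤ) = 0) :
    a = 0 := by
  have key : ∀ j : ℕ, ∀ hj : j < n + 1, a ⟨j, hj⟩ = 0 := by
    intro j
    induction j using Nat.strong_induction_on with
    | _ j ih =>
      intro hj
      have h := hsys ⟨j, hj⟩
      rw [Finset.sum_eq_single (⟨j, hj⟩ : Fin (n + 1))] at h
      · simpa [h0] using h
      · intro i _ hij
        by_cases hlt : (i : ℕ) < j
        · have := ih i hlt i.2
          rw [Fin.eta] at this
          rw [this, zero_mul]
        · have hgt : j < (i : ℕ) := by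
            rcases Nat.lt_or_ge j i with h | h
            · exact h
            · exfalso
              apply hij
              ext
              simp only
              omega
          rw [hneg _ (by have := i.2; simp only; omega) (by simp only; omega), mul_zero]
      · intro h'
        exact absurd (Finset.mem_univ _) h'
  funext j
  exact key j j.2

end Groth.Agent.Helper4.SN233
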