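import Mathlib
import Groth.Agent.Helper4.SN232
import Groth.Agent.Helper4.SN233
import Groth.Agent.Helper4.SN1
import Groth.Agent.Helper4.SN213
import Groth.Agent.Helper4.SN218
import Groth.Agent.S0844
import Groth.Agent.Helper1.SerreVan
import Groth.Agent.Helper1.TwistMul5
import Groth.Agent.Helper6.HProj

set_option autoImplicit false
set_option linter.unusedSectionVars false
set_option linter.style.haveILetI false

/-!
# SN234: `K₀` of the coherent sheaves on `P^n_k` is free on `[O], [O(-1)], …, [O(-n)]`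
-/

namespace Groth.Agent.Helper4.SN234

open CategoryTheory Limits AlgebraicGeometry TopologicalSpace Opposite
open Groth.Agent.Helper4.SN221 Groth.Agent.Helper4.SN231 Groth.Agent.Helper4.SN232

universe u

variable (k : Type u) [Field k] (n : ℕ)

/-- the Euler characteristic of `O(m)` -/
noncomputable def ee (m : ℤ) : ℤ :=
  Groth.Agent.Helper4.SN.chi k (CohB1.ProjSpace n k) (Twist.twistProjSpace n k m)

theorem ee_neg (m : ℤ) (h1 : -(n : ℤ) ≤ m) (h2 : m < 0) : ee k n m = 0 := by
  unfold ee Groth.Agent.Helper4.SN.chi Curv2.euler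
  refine finsum_eq_zero_of_forall_eq_zero (fun q => ?_)
  haveI := Groth.Agent.S0844.result k n m q (by omega) (by omega)
  rw [Module.finrank_zero_of_subsingleton]
  simp

theorem ee_zero : ee k n 0 = 1 := by
  unfold ee Groth.Agent.Helper4.SN.chi Curv2.euler
  rw [finsum_eq_single _ 0]
  · obtain ⟨e⟩ := Groth.Agent.Helper4.SN213.nonempty_HH_structure_equiv n k
    obtain ⟨e0⟩ := Groth.Agent.Helper1.KzLin.tw_zero n k
    have h := ((Groth.Agent.Helper1.ProjTop.HHlinEquiv k e0 0).trans e).finrank_eq
    rw [h, Module.finrank_self]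
    simp
  · intro q hq
    haveI := Groth.Agent.S0844.result k n 0 q (by omega) (by omega)
    rw [Module.finrank_zero_of_subsingleton]
    simp

section psi

/-- the additive function `F ↦ χ(F(j))` -/
noncomputable def psi (j : ℤ) :
    KZero.K0sub (fun M : (CohB1.ProjSpace n k).Modules => Coh.IsCoh M) →+ ℤ :=
  haveI : IsProper ((CohB1.ProjSpace n k) ↘ (Spec (CommRingCat.of k))) :=
    Groth.Agent.Helper6.HProj.isProper_toSpec n k
  liftSub (fun F _ => Groth.Agent.Helper4.SN.chiT k (Twist.twistProjSpace n k j) F)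
    (fun S hS h₁ h₂ h₃ => Groth.Agent.Helper4.SN.chiT_add k (Twist.twistProjSpace n k j)
      (Groth.Agent.Helper1.SerreVan.isInvertible_twist n k j) S hS h₁ h₂ h₃)

theorem psi_cc (j : ℤ) (F : (CohB1.ProjSpace n k).Modules) (hF : Coh.IsCoh F) :
    psi k n j (cc n k F) = Groth.Agent.Helper4.SN.chiT k (Twist.twistProjSpace n k j) F := by
  unfold psi
  exact liftSub_clSub _ _ F hF

theorem psi_twist (j m : ℤ) :
    psi k n j (cc n k (Twist.twistProjSpace n k m)) = ee k n (j + m) := by
  rw [psi_cc k n j _ (Groth.Agent.Helper1.SerreFin.isCoh_twist n k m)]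
  obtain ⟨e⟩ := Groth.Agent.Helper1.TwistMul.nonempty_twist_tensor_twist_iso
    (CohB1.polyGrading n k) (Groth.Agent.Helper1.SerreFin.hcov_poly n k) j m (j + m) rfl
  exact Groth.Agent.Helper4.SN.chi_iso k e

end psi

section main

/-- the comparison homomorphism -/
noncomputable def Φm : (Fin (n + 1) → ℤ) →+
    KZero.K0sub (fun M : (CohB1.ProjSpace n k).Modules => Coh.IsCoh M) :=
  AddMonoidHom.mk' (fun a => ∑ i : Fin (n + 1), a i • cc n k
    (Twist.twistProjSpace n k (-((i : ℕ) : ℤ)))) (by
      intro a b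
      simp only [Pi.add_apply, add_smul, Finset.sum_add_distrib])

theorem Φm_apply (a : Fin (n + 1) → ℤ) :
    Φm k n a = ∑ i : Fin (n + 1), a i • cc n k (Twist.twistProjSpace n k (-((i : ℕ) : ℤ))) :=
  rfl

theorem injective_Φm : Function.Injective (Φm k n) := by
  rw [injective_iff_map_eq_zero]
  intro a ha
  apply Groth.Agent.Helper4.SN233.eq_zero_of_unitriangular n a (ee k n) (ee_zero k n)
    (ee_neg k n)
  intro j
  have h := congrArg (psi k n (((j : ℕ) : ℤ))) ha
  rw [Φm_apply, map_sum, map_zero] at h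
  rw [← h]
  refine Finset.sum_congr rfl (fun i _ => ?_)
  rw [map_zsmul, psi_twist, smul_eq_mul, sub_eq_add_neg]

theorem twist_mem_range (d : ℤ) :
    cc n k (Twist.twistProjSpace n k d) ∈ (Φm k n).range := by
  refine Groth.Agent.Helper4.SN233.mem_of_rel n (fun d => cc n k (Twist.twistProjSpace n k d))
    (koszul n k) (Φm k n).range ?_ d
  intro i hi
  refine ⟨Pi.single (⟨i, by omega⟩ : Fin (n + 1)) 1, ?_⟩
  rw [Φm_apply, Finset.sum_eq_single (⟨i, by omega⟩ : Fin (n + 1))]
  · simp
  · intro b _ hb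
    rw [Pi.single_eq_of_ne hb, zero_smul]
  · intro h'
    exact absurd (Finset.mem_univ _) h'

theorem coh_mem_range (F : (CohB1.ProjSpace n k).Modules) (hF : Coh.IsCoh F) :
    cc n k F ∈ (Φm k n).range := by
  obtain ⟨C, π, w, hz, hsum, hhom, hepi, hex0⟩ :=
    Groth.Agent.Helper4.SN218.main14439 n k F hF
  haveI := hepi
  have hX : ∀ p, Coh.IsCoh (C.X p) := by
    intro p
    obtain ⟨m, d, ⟨e⟩⟩ := hsum p
    exact (good_coh n k).iso e.symm (sigma_family (good_coh n k) m _
      (fun j => Groth.Agent.Helper1.SerreFin.isCoh_twist n k (d j))).1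
  have hd : ∀ p, C.d (p + 1 + 1) (p + 1) ≫ C.d (p + 1) p = 0 := fun p => C.d_comp_d _ _ _
  have hex : ∀ p, (ShortComplex.mk (C.d (p + 1 + 1) (p + 1)) (C.d (p + 1) p) (hd p)).Exact := by
    intro p
    have h1 := hhom (p + 1) (by omega)
    rw [← HomologicalComplex.exactAt_iff_isZero_homology,
      HomologicalComplex.exactAt_iff' C (p + 1 + 1) (p + 1) p (by simp) (by simp)] at h1
    exact h1
  have h := class_of_resolution C.X (fun p => C.d (p + 1) p) F π (good_coh n k)
    (fun f hA hB => isCoh_image n k f hA hB) hd w hex hex0 hX hF (n + 2)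
    (hz (n + 2) (by omega))
  have h' : cc n k F = ∑ p ∈ Finset.range (n + 2), (-1 : ℤ) ^ p • cc n k (C.X p) := h.symm
  rw [h']
  refine (Φm k n).range.sum_mem (fun p _ => (Φm k n).range.zsmul_mem ?_ _)
  obtain ⟨m, d, ⟨e⟩⟩ := hsum p
  have h2 := sigma_family (good_coh n k) m (fun j => Twist.twistProjSpace n k (d j))
    (fun j => Groth.Agent.Helper1.SerreFin.isCoh_twist n k (d j))
  have h3 : cc n k (C.X p) = ∑ j, cc n k (Twist.twistProjSpace n k (d j)) := by
    unfold cc
    rw [clSub_iso (good_coh n k) e (hX p)]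
    exact h2.2
  rw [h3]
  exact (Φm k n).range.sum_mem (fun j _ => twist_mem_range k n (d j))

theorem surjective_Φm : Function.Surjective (Φm k n) := by
  intro x
  have h : x ∈ (Φm k n).range := by
    induction x using Groth.Agent.Helper4.SN221.induction_on with
    | h0 => exact (Φm k n).range.zero_mem
    | hof X hX =>
      have := coh_mem_range k n X hX
      rw [cc, Groth.Agent.Helper2.KZ1.clSub_eq _ _ hX] at this
      exact this
    | hneg x hx => exact (Φm k n).range.neg_mem hx
    | hadd x y hx hy => exact (Φm k n).range.add_mem hx hy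
  exact h

/-- **S14429** -/
theorem main14429 :
    Function.Bijective (fun a : Fin (n + 1) → ℤ =>
      ∑ i : Fin (n + 1), a i • KZero.clSub (fun M : (CohB1.ProjSpace n k).Modules => Coh.IsCoh M)
        (Twist.twistProjSpace n k (-((i : ℕ) : ℤ)))) :=
  ⟨injective_Φm k n, surjective_Φm k n⟩

end main

end Groth.Agent.Helper4.SN234
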