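import Mathlib
import Groth.Agent.Helper4.SN223
import Groth.Agent.Helper4.SN30
import Groth.Agent.Helper4.FlatQuotPure

set_option autoImplicit false
set_option linter.unusedSectionVars false
set_option linter.style.haveILetI false

/-!
# SN235: tensoring a short exact sequence with flat cokernel by an arbitrary module
-/

namespace Groth.Agent.Helper4.SN235

open CategoryTheory Limits AlgebraicGeometry Opposite TopologicalSpace MonoidalCategory
open Groth.Agent.Helper9.SkyMod1 Groth.Agent.Helper9.SkyMod2 Groth.Agent.Helper9.SkyMod4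
  Groth.Agent.Helper9.SkyMod5 Groth.Agent.Helper9.StalkTensor8 Groth.Agent.Helper9.PullMon4
open Groth.Agent.Lead.Ref1B Groth.Agent.Helper4.SN

universe u

variable {X : Scheme.{u}}

/-- tensoring a short exact sequence with flat cokernel by any module is exact -/
theorem shortExact_map_tensorRightMod_of_flat_X₃ (S : ShortComplex X.Modules) (hS : S.ShortExact)
    (hfl : ∀ x : X, Module.Flat (X.presheaf.stalk x) (S.X₃.presheaf.stalk x)) (E : X.Modules) :
    (S.map (DCoh.tensorRightMod E)).ShortExact := by
  haveI := hS.epi_g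
  haveI := hS.mono_f
  obtain ⟨hex, hepi⟩ := exact_map_tensorRightMod S hS.exact hS.epi_g E
  refine { exact := hex, mono_f := ?_, epi_g := hepi }
  show Mono ((DCoh.tensorRightMod E).map S.f)
  apply mono_of_stalks
  intro x
  have hnat := (stRightIso E x).hom.naturality S.f
  let a₁ := (stRightIso E x).app S.X₁
  let a₂ := (stRightIso E x).app S.X₂
  have h3 : (St x).map ((DCoh.tensorRightMod E).map S.f) =
      a₁.hom ≫ (tensorRight ((St x).obj E)).map ((St x).map S.f) ≫ a₂.inv := by
    rw [← Category.assoc, Iso.eq_comp_inv]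
    exact hnat
  rw [h3]
  have hm : Mono ((tensorRight ((St x).obj E)).map ((St x).map S.f)) := by
    rw [ModuleCat.mono_iff_injective]
    have hT : (S.map (St x)).ShortExact := hS.map_of_exact (St x)
    set T := S.map (St x) with hTdef
    have hsurj : Function.Surjective T.g.hom := (ModuleCat.epi_iff_surjective T.g).1 hT.epi_g
    have hinj : Function.Injective T.f.hom := (ModuleCat.mono_iff_injective T.f).1 hT.mono_f
    have hex' : LinearMap.range T.f.hom = LinearMap.ker T.g.hom :=
      (ShortComplex.moduleCat_exact_iff_range_eq_ker T).1 hT.exact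
    haveI : Module.Flat (X.presheaf.stalk x) T.X₃ := hfl x
    have h1 := Groth.Agent.Helper4.FlatQuotPure.ker_rTensor_injective T.g.hom hsurj
      ((St x).obj E)
    let e : T.X₁ ≃ₗ[X.presheaf.stalk x] LinearMap.ker T.g.hom :=
      (LinearEquiv.ofInjective T.f.hom hinj).trans (LinearEquiv.ofEq _ _ hex')
    have h2 : T.f.hom = (LinearMap.ker T.g.hom).subtype ∘ₗ e.toLinearMap := by
      ext a
      rfl
    show Function.Injective (LinearMap.rTensor ((St x).obj E) T.f.hom)
    rw [h2, LinearMap.rTensor_comp]
    exact h1.comp (e.rTensor ((St x).obj E)).injective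
  have e1 : Mono a₂.inv := @IsIso.mono_of_iso _ _ _ _ a₂.inv (Iso.isIso_inv a₂)
  have e2 : Mono a₁.hom := @IsIso.mono_of_iso _ _ _ _ a₁.hom (Iso.isIso_hom a₁)
  have e3 := @mono_comp _ _ _ _ _ _ hm _ e1
  exact @mono_comp _ _ _ _ _ _ e2 _ e3

section phi

open Groth.Agent.Helper4.SN223

variable (n : ℕ) (Y : Scheme.{u})

/-- `Φ_F` is exact on short exact sequences with finite locally free cokernel, for any `F` -/
theorem shortExact_map_Φ' (F : (KRR.PY n Y).Modules)
    {S : ShortComplex (Pz.{u} n).Modules} (hS : S.ShortExact) (h₃ : FlatMod.IsFinLocFree S.X₃) :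
    (S.map (Φ n Y F)).ShortExact := by
  have h1 := Groth.Agent.Helper4.SN219.shortExact_map_pullback (fstP n Y) hS
    (Groth.Agent.Lead.FlatLib.isFlat_of_isFinLocFree h₃)
  have h3' : FlatMod.IsFinLocFree ((Scheme.Modules.pullback (fstP n Y)).obj S.X₃) :=
    Groth.Agent.Helper9.Lpull5.isFinLocFree_pullback _ _ h₃
  exact shortExact_map_tensorRightMod_of_flat_X₃ _ h1
    (Groth.Agent.Lead.FlatLib.isFlat_of_isFinLocFree h3') F

end phi

end Groth.Agent.Helper4.SN235
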