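import Mathlib
import Groth.Agent.Helper4.SN235
import Groth.Agent.Helper4.SN215
import Groth.Agent.Helper4.SN227

set_option autoImplicit false
set_option linter.unusedSectionVars false
set_option linter.style.haveILetI false

/-!
# SN236: `R^j p_*((p^* G)(-m)) = 0` for `j ≠ n`, `m ≥ 1`, `G` quasi-coherent on `Y`, `p : P^n_Y → Y`
-/

namespace Groth.Agent.Helper4.SN236

open CategoryTheory Limits AlgebraicGeometry TopologicalSpace Opposite
open Groth.Agent.Helper4.SN221 Groth.Agent.Helper4.SN223 Groth.Agent.Helper4.SN235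
open Groth.Agent.Helper1.RegSh

universe u

section bridge

variable {X Y : Scheme.{u}} (f : X ⟶ Y)

/-- `R^0 f_*(M_ab) = 0` iff `f_* M = 0` -/
theorem isZero_RpushAb_zero_iff (M : X.Modules) :
    IsZero ((Coh.RpushAb f 0).obj (Coh.toAb M)) ↔
      IsZero ((Scheme.Modules.pushforward f).obj M) := by
  refine ⟨fun h => ?_, Groth.Agent.Helper4.SN215.isZero_RpushAb_zero f M⟩
  haveI := Groth.Agent.Helper4.SchAdj.isGrothendieckAbelian_modules X
  haveI : HasInjectiveResolutions X.Modules := inferInstance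
  haveI : PreservesLimitsOfSize.{u, u} (Scheme.Modules.pushforward f) :=
    (Scheme.Modules.pullbackPushforwardAdjunction f).rightAdjoint_preservesLimits
  haveI : PreservesFiniteLimits (Scheme.Modules.pushforward f) :=
    PreservesLimitsOfSize.preservesFiniteLimits _
  have e1 := (Groth.Agent.Helper1.RpCmpNat.iso f 0).app M
  have e2 : (Coh.Rpush f 0).obj M ≅ (Scheme.Modules.pushforward f).obj M :=
    (Functor.rightDerivedZeroIsoSelf (Scheme.Modules.pushforward f)).app M
  have h1 : IsZero ((Coh.Rpush f 0).obj M) :=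
    Groth.Agent.Helper4.SN209.isZero_of_isZero_toAb _ (h.of_iso e1)
  exact h1.of_iso e2.symm

end bridge

variable (n : ℕ) (Y : Scheme.{u})

/-- vanishing of `R^j p_*(-(d))` as an object property -/
def Zj (d : ℤ) (j : ℕ) : ObjectProperty (KRR.PY n Y).Modules :=
  fun M => IsZero ((RT n Y d j).obj M)

theorem good_Zj (d : ℤ) (j : ℕ) : Good (Zj n Y d j) where
  iso := fun {A B} e h => IsZero.of_iso h ((RT n Y d j).mapIso e.symm)
  zero := fun {A} hA => (RT n Y d j).map_isZero hA
  biprod := fun {A B} hA hB => by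
    have hS := (ShortComplex.Splitting.ofHasBinaryBiproduct A B).shortExact
    obtain ⟨w, hex⟩ := exact_Rpush_twF n Y hS d j
    exact hex.isZero_of_both_zeros (IsZero.eq_of_src hA _ _) (IsZero.eq_of_tgt hB _ _)

theorem Zj_X₂ (d : ℤ) (j : ℕ) {S : ShortComplex (KRR.PY n Y).Modules} (hS : S.ShortExact)
    (h₁ : Zj n Y d j S.X₁) (h₃ : Zj n Y d j S.X₃) : Zj n Y d j S.X₂ := by
  obtain ⟨w, hex⟩ := exact_Rpush_twF n Y hS d j
  exact hex.isZero_of_both_zeros (IsZero.eq_of_src h₁ _ _) (IsZero.eq_of_tgt h₃ _ _)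

theorem Zj_X₁_succ (d : ℤ) (j : ℕ) {S : ShortComplex (KRR.PY n Y).Modules} (hS : S.ShortExact)
    (h₂ : Zj n Y d (j + 1) S.X₂) (h₃ : Zj n Y d j S.X₃) : Zj n Y d (j + 1) S.X₁ := by
  obtain ⟨δ, w₁, w₂, -, hex⟩ := hasLES_RT n Y hS d j
  exact hex.isZero_of_both_zeros (IsZero.eq_of_src h₃ _ _) (IsZero.eq_of_tgt h₂ _ _)

theorem Zj_zero_iff (d : ℤ) (M : (KRR.PY n Y).Modules) :
    Zj n Y d 0 M ↔ IsZero ((Scheme.Modules.pushforward (KRR.pr n Y)).obj (KRR.twF n Y d M)) :=
  isZero_RpushAb_zero_iff (KRR.pr n Y) (KRR.twF n Y d M)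

theorem Zj_X₁_zero (d : ℤ) {S : ShortComplex (KRR.PY n Y).Modules} (hS : S.ShortExact)
    (h₂ : Zj n Y d 0 S.X₂) : Zj n Y d 0 S.X₁ := by
  rw [Zj_zero_iff] at h₂ ⊢
  have hL : PicF.IsInvertible (Twist.twistOver n Y d) :=
    Groth.Agent.Helper1.FlatTw.isInvertible_twistOver n Y d
  have h1 := shortExact_map_tensorBi hS _ hL
  haveI : Mono (((DCoh.tensorBi (X := KRR.PY n Y)).obj (Twist.twistOver n Y d)).map S.f) :=
    h1.mono_f
  haveI : PreservesLimitsOfSize.{u, u} (Scheme.Modules.pushforward (KRR.pr n Y)) :=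
    (Scheme.Modules.pullbackPushforwardAdjunction (KRR.pr n Y)).rightAdjoint_preservesLimits
  haveI : PreservesFiniteLimits (Scheme.Modules.pushforward (KRR.pr n Y)) :=
    PreservesLimitsOfSize.preservesFiniteLimits _
  haveI : (Scheme.Modules.pushforward (KRR.pr n Y)).PreservesMonomorphisms :=
    CategoryTheory.preservesMonomorphisms_of_preservesLimitsOfShape _
  haveI : Mono ((Scheme.Modules.pushforward (KRR.pr n Y)).map
      (((DCoh.tensorBi (X := KRR.PY n Y)).obj (Twist.twistOver n Y d)).map S.f)) :=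
    Functor.map_mono _ _
  have h₂' : IsZero ((Scheme.Modules.pushforward (KRR.pr n Y)).obj
      (((DCoh.tensorBi (X := KRR.PY n Y)).obj (Twist.twistOver n Y d)).obj S.X₂)) := h₂
  show IsZero ((Scheme.Modules.pushforward (KRR.pr n Y)).obj
      (((DCoh.tensorBi (X := KRR.PY n Y)).obj (Twist.twistOver n Y d)).obj S.X₁))
  exact IsZero.of_mono ((Scheme.Modules.pushforward (KRR.pr n Y)).map
      (((DCoh.tensorBi (X := KRR.PY n Y)).obj (Twist.twistOver n Y d)).map S.f)) h₂'

/-- the two left-hand cases together -/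
theorem Zj_X₁ (d : ℤ) (j : ℕ) {S : ShortComplex (KRR.PY n Y).Modules} (hS : S.ShortExact)
    (h₂ : Zj n Y d j S.X₂) (h₃ : ∀ j', j' + 1 = j → Zj n Y d j' S.X₃) : Zj n Y d j S.X₁ := by
  cases j with
  | zero => exact Zj_X₁_zero n Y d hS h₂
  | succ j => exact Zj_X₁_succ n Y d j hS h₂ (h₃ j rfl)

/-- unbundled form -/
theorem Zj_X₁' (d : ℤ) (j : ℕ) {A B C : (KRR.PY n Y).Modules} (f : A ⟶ B) (g : B ⟶ C)
    (w : f ≫ g = 0) (hS : (ShortComplex.mk f g w).ShortExact)
    (h₂ : Zj n Y d j B) (h₃ : ∀ j', j' + 1 = j → Zj n Y d j' C) : Zj n Y d j A :=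
  Zj_X₁ n Y d j (S := ShortComplex.mk f g w) hS h₂ h₃

/-- unbundled form -/
theorem Zj_X₂' (d : ℤ) (j : ℕ) {A B C : (KRR.PY n Y).Modules} (f : A ⟶ B) (g : B ⟶ C)
    (w : f ≫ g = 0) (hS : (ShortComplex.mk f g w).ShortExact)
    (h₁ : Zj n Y d j A) (h₃ : Zj n Y d j C) : Zj n Y d j B :=
  Zj_X₂ n Y d j (S := ShortComplex.mk f g w) hS h₁ h₃

/-- a summand of a finite coproduct of copies -/
theorem Zj_of_sigma (d : ℤ) (j : ℕ) (M : (KRR.PY n Y).Modules) (c : ℕ) (hc : 0 < c)
    (h : Zj n Y d j (∐ fun _ : Fin c => M)) : Zj n Y d j M := by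
  let i0 : Fin c := ⟨0, hc⟩
  let s : M ⟶ ∐ fun _ : Fin c => M := Sigma.ι (fun _ : Fin c => M) i0
  let r : (∐ fun _ : Fin c => M) ⟶ M := Sigma.desc (fun _ => 𝟙 M)
  have hsr : s ≫ r = 𝟙 M := by simp [s, r]
  show IsZero ((RT n Y d j).obj M)
  rw [IsZero.iff_id_eq_zero, ← (RT n Y d j).map_id, ← hsr, (RT n Y d j).map_comp]
  rw [IsZero.eq_of_tgt h ((RT n Y d j).map s) 0, zero_comp]

section main

variable (G : Y.Modules) (hG : Coh.IsQCoh G)

/-- `p^* G` -/
noncomputable abbrev FG : (KRR.PY n Y).Modules := (Scheme.Modules.pullback (KRR.pr n Y)).obj G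

theorem shortExact_F' (F : (KRR.PY n Y).Modules) (p : ℕ) :
    (ShortComplex.mk (fF n Y F p) (gF n Y F p) (fF_gF n Y F p)).ShortExact := by
  have h0 := shortExact_B (Xz.{u} n ((n : ℤ) + 1)) (dz n ((n : ℤ) + 1)) (dz_comp n ((n : ℤ) + 1))
      (dz_exact n ((n : ℤ) + 1)) p
  have h := shortExact_map_Φ' n Y F h0 (isFinLocFree_Bd n ((n : ℤ) + 1) p)
  exact h

include hG in
/-- **the vanishing theorem** -/
theorem van : ∀ m : ℕ, 1 ≤ m → ∀ j : ℕ, j ≠ n →
    IsZero ((Coh.RpushAb (KRR.pr n Y) j).obj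
      (Coh.toAb (KRR.twF n Y (-(m : ℤ)) (FG n Y G)))) := by
  intro m
  induction m using Nat.strong_induction_on with
  | _ m ih =>
    intro hm j hj
    by_cases hmn : m ≤ n
    · -- the range already known
      by_cases hj0 : j = 0
      · subst hj0
        exact Groth.Agent.Helper4.SN215.isZero_RpushAb_zero _ _
          (Groth.Agent.Helper4.SN215.isZero_push_twF_pullback n Y G hG (-(m : ℤ)) (by omega)
            (by omega))
      · exact Groth.Agent.Helper4.SN211.isZero_RpushAb_twF_pullback n Y G hG j (by omega)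
          (-(m : ℤ)) (by omega)
    · by_cases hjn : n < j
      · exact Groth.Agent.Helper4.SN211.isZero_RpushAb_of_gt n Y _
          (Groth.Agent.Helper4.SN209.isQCoh_twF n Y _
            (Groth.Agent.Helper4.SN211.isQCoh_pullback n Y G hG) _) j hjn
      · have hjn' : j < n := by omega
        -- the chase
        set d : ℤ := -(m : ℤ) with hd
        have hM : ∀ p : ℕ, p < n → ∀ j' : ℕ, j' < n → Zj n Y d j' (MF n Y (FG n Y G) p) := by
          intro p hp j' hj'
          obtain ⟨e⟩ := nonempty_MF_iso n Y (FG n Y G) p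
          refine (good_Zj n Y d j').iso e.symm (sigma_const (good_Zj n Y d j') _ ?_ _).1
          show IsZero ((RT n Y d j').obj _)
          rw [isZero_RT_iff]
          have hlt : m - (n - p) < m := by omega
          have h1 := ih (m - (n - p)) hlt (by omega) j' (by omega)
          obtain ⟨e'⟩ := nonempty_twF_twF n Y d ((n : ℤ) + 1 - ((p + 1 : ℕ) : ℤ))
            (-((m - (n - p) : ℕ) : ℤ)) (by rw [hd]; push_cast; omega) (FG n Y G)
          exact isZero_Rpush_of_iso n Y e'.symm j' h1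
        have claim : ∀ p : ℕ, p ≤ n → ∀ j' : ℕ, j' < p → j' < n →
            Zj n Y d j' (BF n Y (FG n Y G) p) := by
          intro p
          induction p with
          | zero => intro _ j' hj' _; omega
          | succ p ihp =>
            intro hp j' hj' hj'n
            have h₂ := hM p (by omega) j' hj'n
            have h₃ : ∀ j'', j'' + 1 = j' → Zj n Y d j'' (BF n Y (FG n Y G) p) := by
              intro j'' hj''
              exact ihp (by omega) j'' (by omega) (by omega)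
            exact Zj_X₁' n Y d j' (fF n Y (FG n Y G) p) (gF n Y (FG n Y G) p)
              (fF_gF n Y (FG n Y G) p) (shortExact_F' n Y (FG n Y G) p) h₂ h₃
        have hMn : Zj n Y d j (MF n Y (FG n Y G) n) := by
          have h₁ : Zj n Y d j (BF n Y (FG n Y G) (n + 1)) :=
            (good_Zj n Y d j).zero (isZero_BF n Y _ (n + 1) le_rfl)
          have h₃ := claim n le_rfl j hjn' hjn'
          exact Zj_X₂' n Y d j (fF n Y (FG n Y G) n) (gF n Y (FG n Y G) n)
            (fF_gF n Y (FG n Y G) n) (shortExact_F' n Y (FG n Y G) n) h₁ h₃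
        obtain ⟨e⟩ := nonempty_MF_iso n Y (FG n Y G) n
        have h2 : Zj n Y d j (KRR.twF n Y ((n : ℤ) + 1 - ((n + 1 : ℕ) : ℤ)) (FG n Y G)) :=
          Zj_of_sigma n Y d j _ _ (Nat.choose_pos le_rfl)
            ((good_Zj n Y d j).iso e hMn)
        have h3 : IsZero ((RT n Y d j).obj
            (KRR.twF n Y ((n : ℤ) + 1 - ((n + 1 : ℕ) : ℤ)) (FG n Y G))) := h2
        rw [isZero_RT_iff] at h3
        obtain ⟨e'⟩ := nonempty_twF_twF n Y d ((n : ℤ) + 1 - ((n + 1 : ℕ) : ℤ)) d
          (by push_cast; ring) (FG n Y G)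
        exact isZero_Rpush_of_iso n Y e' j h3

end main

end Groth.Agent.Helper4.SN236
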