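import Mathlib
import Groth.Agent.Helper4.SN236

set_option autoImplicit false
set_option linter.unusedSectionVars false
set_option linter.style.haveILetI false

/-!
# SN237: `R^i p_*(∐_j p^* G_j ⊗ O(-m_j)) = 0` for `i ≠ n`, `m_j ≥ 1`
-/

namespace Groth.Agent.Helper4.SN237

open CategoryTheory Limits AlgebraicGeometry TopologicalSpace Opposite
open Groth.Agent.Helper4.SN208 Groth.Agent.Helper4.SN211

universe u

variable (n : ℕ) (Y : Scheme.{u})

/-- the summand, in `KRR.twF` form -/
theorem nonempty_summand_iso (G : Y.Modules) (d : ℤ) :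
    Nonempty (CohB1.tensorMod ((Scheme.Modules.pullback (CohB1.ProjSpaceOver.toBase n Y)).obj G)
        (Twist.twistOver n Y d) ≅
      KRR.twF n Y d ((Scheme.Modules.pullback (KRR.pr n Y)).obj G)) :=
  ⟨Groth.Agent.Lead.Ref1B.braid _ _⟩

/-- cohomology of the restriction of a coproduct to a compact quasi-separated open -/
theorem subsingleton_HHon_sigma {X : Scheme.{u}} (U : X.Opens) [CompactSpace (U : Scheme.{u})]
    [QuasiSeparatedSpace (U : Scheme.{u})] {J : Type u} (E : J → X.Modules) (q : ℕ)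
    (h : ∀ j, Subsingleton (Coh.HHon X (E j) U q)) : Subsingleton (Coh.HHon X (∐ E) U q) := by
  have e : (∐ E).restrict U.ι ≅ ∐ fun j => (E j).restrict U.ι :=
    PreservesCoproduct.iso (Scheme.Modules.restrictFunctor U.ι) E
  have h1 : Subsingleton (Coh.HH (U : Scheme.{u}) (∐ fun j => (E j).restrict U.ι) q) :=
    subsingleton_HH_sigma q _ h
  exact Groth.Agent.Helper1.SerreCrit.subsingleton_HH_of_iso e.symm q h1

theorem main {ι : Type u} (G : ι → Y.Modules) (hG : ∀ j, Coh.IsQCoh (G j)) (m : ι → ℕ)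
    (hm : ∀ j, 0 < m j) (i : ℕ) (hi : i ≠ n) :
    IsZero ((Coh.RpushAb (CohB1.ProjSpaceOver.toBase n Y) i).obj (Coh.toAb
      (∐ fun j => CohB1.tensorMod
        ((Scheme.Modules.pullback (CohB1.ProjSpaceOver.toBase n Y)).obj (G j))
        (Twist.twistOver n Y (-((m j : ℕ) : ℤ)))))) := by
  haveI : IsProper (KRR.pr n Y) := Groth.Agent.Helper6.HProj.isProper_toBase n Y
  set L : ι → (KRR.PY n Y).Modules := fun j => CohB1.tensorMod
        ((Scheme.Modules.pullback (CohB1.ProjSpaceOver.toBase n Y)).obj (G j))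
        (Twist.twistOver n Y (-((m j : ℕ) : ℤ))) with hL
  have hq : ∀ j, Coh.IsQCoh (L j) := by
    intro j
    obtain ⟨e⟩ := nonempty_summand_iso n Y (G j) (-((m j : ℕ) : ℤ))
    haveI : (KRR.twF n Y (-((m j : ℕ) : ℤ))
        ((Scheme.Modules.pullback (KRR.pr n Y)).obj (G j))).IsQuasicoherent :=
      Groth.Agent.Helper4.SN209.isQCoh_twF n Y _ (isQCoh_pullback n Y (G j) (hG j)) _
    exact Groth.Agent.Helper4.QcohLimits.isQuasicoherent_of_iso e.symm
  have hP : Coh.IsQCoh (∐ L) := Groth.Agent.Helper4.QcohLimits.isQuasicoherent_sigma L hq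
  have hv : ∀ j, IsZero ((Coh.RpushAb (KRR.pr n Y) i).obj (Coh.toAb (L j))) := by
    intro j
    obtain ⟨e⟩ := nonempty_summand_iso n Y (G j) (-((m j : ℕ) : ℤ))
    have h := Groth.Agent.Helper4.SN236.van n Y (G j) (hG j) (m j) (hm j) i hi
    exact h.of_iso ((Coh.RpushAb (KRR.pr n Y) i).mapIso
      ((SheafOfModules.toSheaf _).mapIso e))
  have key : ∀ V : Y.Opens, IsAffineOpen V →
      Subsingleton (Coh.HHon (KRR.PY n Y) (∐ L) (KRR.pr n Y ⁻¹ᵁ V) i) := by
    intro V hV
    haveI := compactSpace_XV n hV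
    haveI := quasiSeparatedSpace_XV n hV
    apply subsingleton_HHon_sigma
    intro j
    exact Groth.Agent.Helper4.SN209.subsingleton_HHon_of_isZero_RpushAb (KRR.pr n Y) (L j) (hq j) i
      (hv j) V hV
  cases i with
  | zero =>
    apply Groth.Agent.Helper4.SN215.isZero_RpushAb_zero
    apply Groth.Agent.Helper4.SN215.isZero_of_subsingleton_basis _ Y.isBasis_affineOpens
    intro V hV
    exact Groth.Agent.Helper4.SN215.subsingleton_sections_of_HHon _ (XV n V) (key V hV)
  | succ q =>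
    exact Groth.Agent.Helper4.SN209.isZero_RpushAb_of_subsingleton_HHon (KRR.pr n Y) _ hP q key

end Groth.Agent.Helper4.SN237
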