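import Mathlib

/-!
# Graded algebras generated in bounded positive degrees: algebra for the embedding of `Proj`
-/

set_option autoImplicit false

namespace Groth.Agent.Helper4.SN244

open HomogeneousLocalization

universe u

variable {R A : Type u} [CommRing R] [CommRing A] [Algebra R A] (𝒜 : ℕ → Submodule R A)
  [GradedAlgebra 𝒜]

/-- the degree-zero part of an algebra generated in positive degrees is the image of the base -/
theorem zero_mem_range (d : ℕ)
    (hgen : Algebra.adjoin R (⋃ i ∈ Finset.Icc 1 d, (𝒜 i : Set A)) = ⊤)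
    (a : A) (ha : a ∈ 𝒜 0) : a ∈ Set.range (algebraMap R A) := by
  have key : ∀ x : A, GradedRing.projZeroRingHom 𝒜 x ∈ (algebraMap R A).range := by
    intro x
    have hx : x ∈ Algebra.adjoin R (⋃ i ∈ Finset.Icc 1 d, (𝒜 i : Set A)) := by
      rw [hgen]; trivial
    induction hx using Algebra.adjoin_induction with
    | mem x hx =>
      simp only [Set.mem_iUnion] at hx
      obtain ⟨i, hi, hxi⟩ := hx
      have hi1 : 1 ≤ i := (Finset.mem_Icc.mp hi).1
      have : GradedRing.projZeroRingHom 𝒜 x = 0 := by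
        rw [GradedRing.projZeroRingHom_apply]
        rw [DirectSum.decompose_of_mem_ne 𝒜 hxi (by omega)]
      rw [this]
      exact zero_mem _
    | algebraMap r =>
      refine ⟨r, ?_⟩
      rw [GradedRing.projZeroRingHom_apply]
      exact (DirectSum.decompose_of_mem_same 𝒜 (SetLike.algebraMap_mem_graded 𝒜 r)).symm
    | add x y _ _ hx hy =>
      rw [map_add]; exact add_mem hx hy
    | mul x y _ _ hx hy =>
      rw [map_mul]; exact mul_mem hx hy
  have h := key a
  rw [GradedRing.projZeroRingHom_apply, DirectSum.decompose_of_mem_same 𝒜 ha] at h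
  exact h

/-- every element lies in the subalgebra generated by finitely many of the given generators -/
theorem exists_finset_mem_adjoin (S : Set A) (x : A) (hx : x ∈ Algebra.adjoin R S) :
    ∃ F : Finset A, (F : Set A) ⊆ S ∧ x ∈ Algebra.adjoin R (F : Set A) := by
  classical
  induction hx using Algebra.adjoin_induction with
  | mem x hx =>
    refine ⟨{x}, by simpa using hx, Algebra.subset_adjoin (by simp)⟩
  | algebraMap r => exact ⟨∅, by simp, Subalgebra.algebraMap_mem _ r⟩
  | add x y _ _ hx hy =>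
    obtain ⟨F, hF, hxF⟩ := hx
    obtain ⟨G, hG, hyG⟩ := hy
    refine ⟨F ∪ G, by rw [Finset.coe_union]; exact Set.union_subset hF hG, ?_⟩
    exact add_mem (Algebra.adjoin_mono (by simp) hxF) (Algebra.adjoin_mono (by simp) hyG)
  | mul x y _ _ hx hy =>
    obtain ⟨F, hF, hxF⟩ := hx
    obtain ⟨G, hG, hyG⟩ := hy
    refine ⟨F ∪ G, by rw [Finset.coe_union]; exact Set.union_subset hF hG, ?_⟩
    exact mul_mem (Algebra.adjoin_mono (by simp) hxF) (Algebra.adjoin_mono (by simp) hyG)

/-- a finitely generated algebra generated by a set is generated by a finite subset -/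
theorem exists_finset_adjoin_eq_top [Algebra.FiniteType R A] (S : Set A)
    (hS : Algebra.adjoin R S = ⊤) :
    ∃ F : Finset A, (F : Set A) ⊆ S ∧ Algebra.adjoin R (F : Set A) = ⊤ := by
  classical
  obtain ⟨G, hG⟩ := (Algebra.FiniteType.out : (⊤ : Subalgebra R A).FG)
  have h : ∀ x : A, ∃ F : Finset A, (F : Set A) ⊆ S ∧ x ∈ Algebra.adjoin R (F : Set A) :=
    fun x => exists_finset_mem_adjoin S x (by rw [hS]; trivial)
  choose Fx hFx1 hFx2 using h
  refine ⟨G.biUnion Fx, ?_, ?_⟩
  · intro y hy
    simp only [Finset.coe_biUnion, Set.mem_iUnion] at hy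
    obtain ⟨x, -, hy⟩ := hy
    exact hFx1 x hy
  · rw [eq_top_iff, ← hG]
    apply Algebra.adjoin_le
    intro x hx
    refine Algebra.adjoin_mono ?_ (hFx2 x)
    intro y hy
    simp only [Finset.coe_biUnion, Set.mem_iUnion]
    exact ⟨x, hx, hy⟩

/-- finitely many homogeneous generators of degrees between `1` and `d` -/
theorem exists_generators [Algebra.FiniteType R A] (d : ℕ)
    (hgen : Algebra.adjoin R (⋃ i ∈ Finset.Icc 1 d, (𝒜 i : Set A)) = ⊤) :
    ∃ (m : ℕ) (v : Fin m → A) (dv : Fin m → ℕ), (∀ i, v i ∈ 𝒜 (dv i)) ∧ (∀ i, 1 ≤ dv i) ∧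
      (∀ i, dv i ≤ d) ∧ Algebra.adjoin R (Set.range v) = ⊤ := by
  classical
  obtain ⟨F, hF, hFtop⟩ := exists_finset_adjoin_eq_top _ hgen
  have h : ∀ x : F, ∃ i, 1 ≤ i ∧ i ≤ d ∧ (x : A) ∈ 𝒜 i := by
    intro x
    have := hF x.2
    simp only [Set.mem_iUnion] at this
    obtain ⟨i, hi, hxi⟩ := this
    exact ⟨i, (Finset.mem_Icc.mp hi).1, (Finset.mem_Icc.mp hi).2, hxi⟩
  choose dx h1 h2 h3 using h
  refine ⟨F.card, fun i => (F.equivFin.symm i : A), fun i => dx (F.equivFin.symm i),
    fun i => h3 _, fun i => h1 _, fun i => h2 _, ?_⟩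
  rw [eq_top_iff, ← hFtop]
  apply Algebra.adjoin_mono
  intro x hx
  exact ⟨F.equivFin ⟨x, hx⟩, by simp⟩

section Away

variable {g : A} (hg : g ∈ 𝒜 1) {m : ℕ} (v : Fin m → A) (dv : Fin m → ℕ)
  (hv : ∀ i, v i ∈ 𝒜 (dv i))

/-- the fraction `v i / g ^ (dv i)` -/
noncomputable def frac (i : Fin m) : Away 𝒜 g :=
  Away.mk 𝒜 hg (dv i) (v i) (by simpa using hv i)

omit hv in
theorem adjoin_zero_eq_top (hgen : Algebra.adjoin R (Set.range v) = ⊤) :
    Algebra.adjoin (𝒜 0) (Set.range v) = ⊤ := by
  rw [eq_top_iff]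
  intro x _
  have hx : x ∈ Algebra.adjoin R (Set.range v) := by rw [hgen]; trivial
  induction hx using Algebra.adjoin_induction with
  | mem x hx => exact Algebra.subset_adjoin hx
  | algebraMap r =>
    have : algebraMap R A r = algebraMap (𝒜 0) A ⟨algebraMap R A r,
        SetLike.algebraMap_mem_graded 𝒜 r⟩ := rfl
    rw [this]
    exact Subalgebra.algebraMap_mem _ _
  | add x y _ _ hx hy => exact add_mem (hx trivial) (hy trivial)
  | mul x y _ _ hx hy => exact mul_mem (hx trivial) (hy trivial)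

/-- the degree-zero localisation at a degree-one element is generated, over the degree-zero
part, by the fractions `v i / g ^ (dv i)` -/
theorem away_generated (hgen : Algebra.adjoin R (Set.range v) = ⊤) (T : Subring (Away 𝒜 g))
    (h0 : ∀ a : 𝒜 0, algebraMap (𝒜 0) (Away 𝒜 g) a ∈ T)
    (h1 : ∀ i, frac 𝒜 hg v dv hv i ∈ T) : T = ⊤ := by
  let T' : Subalgebra (𝒜 0) (Away 𝒜 g) := { T with algebraMap_mem' := h0 }
  have hT' : T' = ⊤ := by
    rw [eq_top_iff, ← Away.adjoin_mk_prod_pow_eq_top hg (Fin m) v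
      (adjoin_zero_eq_top 𝒜 v hgen) dv hv]
    apply Algebra.adjoin_le
    rintro _ ⟨a, ai, hai, -, rfl⟩
    have key : Away.mk 𝒜 hg a (∏ i, v i ^ ai i)
        (hai ▸ SetLike.prod_pow_mem_graded _ _ _ _ fun i _ ↦ hv i) =
        ∏ i, frac 𝒜 hg v dv hv i ^ ai i := by
      apply (show Function.Injective (algebraMap (Away 𝒜 g) (Localization.Away g))
        from val_injective _)
      simp only [map_pow, map_prod]
      simp only [HomogeneousLocalization.algebraMap_apply, frac, Away.val_mk,
        Localization.mk_pow, Localization.mk_prod]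
      congr 1
      apply Subtype.ext
      simp only [SubmonoidClass.coe_finsetProd, SubmonoidClass.coe_pow]
      simp only [← pow_mul, Finset.prod_pow_eq_pow_sum]
      congr 1
      have : ∑ i, ai i • dv i = a := by simpa using hai
      rw [← this]
      exact Finset.sum_congr rfl (fun i _ => by rw [smul_eq_mul, mul_comm])
    rw [key]
    exact prod_mem (fun i _ => pow_mem (h1 i) _)
  rw [eq_top_iff]
  intro x _
  have : x ∈ T' := by rw [hT']; trivial
  exact this

end Away

end Groth.Agent.Helper4.SN244
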