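import Mathlib
import Groth.Agent.Helper1.VA3
import Groth.Agent.Helper1.PUP8
import Groth.Agent.Helper6.HProj
import Groth.Agent.Helper4.SN244

/-!
# Sections of `O(n)` on `Proj` and their ratios on `D₊(g)`, `g` of degree one
-/

set_option autoImplicit false
set_option linter.style.haveILetI false

namespace Groth.Agent.Helper4.SN245

open CategoryTheory Limits AlgebraicGeometry TopologicalSpace Opposite HomogeneousLocalization
open Groth.Agent.Helper4.GenLoc Groth.Agent.Helper1.PUP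

universe u

variable {R A : Type u} [CommRing R] [CommRing A] [Algebra R A] (𝒜 : ℕ → Submodule R A)
  [GradedAlgebra 𝒜]

theorem globalOf_res_eq_smul' {g : A} (hg : g ∈ 𝒜 1) {e n : ℕ} {s : A} (hs : s ∈ 𝒜 e)
    (he : e ≤ n) (h1 : s * g ^ (n - e) ∈ 𝒜 n) (h2 : g ^ n ∈ 𝒜 n) :
    (Twist.twist 𝒜 ((n : ℕ) : ℤ)).presheaf.map (homOfLE (le_top : Proj.basicOpen 𝒜 g ≤ ⊤)).op
      (Twist.globalOf 𝒜 ⟨s * g ^ (n - e), h1⟩) =
    ((Proj.awayToSection 𝒜 g).hom (Away.mk 𝒜 hg e s (by simpa using hs))) •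
      (Twist.twist 𝒜 ((n : ℕ) : ℤ)).presheaf.map (homOfLE (le_top : Proj.basicOpen 𝒜 g ≤ ⊤)).op
        (Twist.globalOf 𝒜 ⟨g ^ n, h2⟩) := by
  apply Subtype.ext
  funext y
  apply Subtype.ext
  have hy1 : (1 : A) ∉ y.1.asHomogeneousIdeal :=
    fun h => y.1.isPrime.ne_top ((Ideal.eq_top_iff_one _).mpr h)
  have hyg : g ∉ y.1.asHomogeneousIdeal := y.2
  have hL : (((ConcreteCategory.hom ((Twist.twist 𝒜 ((n : ℕ) : ℤ)).presheaf.map
      (homOfLE (le_top : Proj.basicOpen 𝒜 g ≤ ⊤)).op)) (Twist.globalOf 𝒜 ⟨s * g ^ (n - e), h1⟩)).1 y).1 =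
      Localization.mk (s * g ^ (n - e)) ⟨1, hy1⟩ := rfl
  have hR : (((ConcreteCategory.hom ((Twist.twist 𝒜 ((n : ℕ) : ℤ)).presheaf.map
      (homOfLE (le_top : Proj.basicOpen 𝒜 g ≤ ⊤)).op)) (Twist.globalOf 𝒜 ⟨g ^ n, h2⟩)).1 y).1 =
      Localization.mk (g ^ n) ⟨1, hy1⟩ := rfl
  refine hL.trans ?_
  refine Eq.trans ?_ (Twist.coe_smul_val ((n : ℕ) : ℤ) y.1
    (((Proj.awayToSection 𝒜 g).hom (Away.mk 𝒜 hg e s (by simpa using hs))).1 y)
    (((ConcreteCategory.hom ((Twist.twist 𝒜 ((n : ℕ) : ℤ)).presheaf.map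
      (homOfLE (le_top : Proj.basicOpen 𝒜 g ≤ ⊤)).op)) (Twist.globalOf 𝒜 ⟨g ^ n, h2⟩)).1 y)).symm
  rw [hR]
  have hge : g ^ e ∉ y.1.asHomogeneousIdeal := fun h => hyg (y.1.isPrime.mem_of_pow_mem e h)
  have hc : (((Proj.awayToSection 𝒜 g).hom (Away.mk 𝒜 hg e s (by simpa using hs))).1 y).val =
      Localization.mk s ⟨g ^ e, hge⟩ := by
    change (HomogeneousLocalization.mapId 𝒜 _ (Away.mk 𝒜 hg e s _)).val = _
    unfold Away.mk HomogeneousLocalization.mapId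
    rw [HomogeneousLocalization.map_mk, HomogeneousLocalization.val_mk]
    rfl
  rw [hc, Localization.mk_mul, Localization.mk_eq_mk_iff, Localization.r_iff_exists]
  refine ⟨1, ?_⟩
  simp only [OneMemClass.coe_one, one_mul, Submonoid.coe_mul, mul_one]
  have : g ^ n = g ^ e * g ^ (n - e) := by rw [← pow_add, Nat.add_sub_cancel' he]
  rw [this]
  ring

theorem appTop_structure {g : A} {m : ℕ} (hg : g ∈ 𝒜 m) (hm : 0 < m) (r : R) :
    ((Proj.basicOpen 𝒜 g).ι ≫ Proj.toSpecZero 𝒜 ≫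
        Spec.map (CommRingCat.ofHom (algebraMap R (𝒜 0)))).appTop.hom
      ((Scheme.ΓSpecIso (CommRingCat.of R)).inv.hom r) =
    toTop ((Proj.awayToSection 𝒜 g).hom
      (algebraMap (𝒜 0) (Away 𝒜 g) (algebraMap R (𝒜 0) r))) := by
  have h1 : (Proj.basicOpen 𝒜 g).ι ≫ Proj.toSpecZero 𝒜 =
      Proj.basicOpenToSpec 𝒜 g ≫ Spec.map (CommRingCat.ofHom (fromZeroRingHom 𝒜 _)) := by
    have := Proj.awayι_toSpecZero 𝒜 g hg hm
    rw [← Proj.basicOpenIsoSpec_inv_ι, Category.assoc, Iso.inv_comp_eq] at this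
    rw [this, Proj.basicOpenIsoSpec_hom]
  rw [← Category.assoc, h1, Category.assoc, ← Spec.map_comp]
  rw [Scheme.Hom.comp_appTop]
  have h2 := Proj.basicOpenToSpec_app_top 𝒜 g
  have h3 := Scheme.ΓSpecIso_inv_naturality
    (CommRingCat.ofHom (algebraMap R (𝒜 0)) ≫ CommRingCat.ofHom (fromZeroRingHom 𝒜 (Submonoid.powers g)))
  have h4 := congrArg (fun φ => φ.hom r) h3
  simp only [CommRingCat.hom_comp, RingHom.comp_apply] at h4
  refine (congrArg (Proj.basicOpenToSpec 𝒜 g).appTop.hom h4.symm).trans ?_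
  have h5 := congrArg (fun φ => φ.hom ((Scheme.ΓSpecIso _).inv.hom
    ((fromZeroRingHom 𝒜 (Submonoid.powers g)) (algebraMap R (𝒜 0) r)))) h2
  dsimp only at h5
  refine h5.trans ?_
  have h6 : ∀ z : Away 𝒜 g, (Scheme.ΓSpecIso (CommRingCat.of (Away 𝒜 g))).hom.hom
      ((Scheme.ΓSpecIso (CommRingCat.of (Away 𝒜 g))).inv.hom z) = z := fun z =>
    congrArg (fun φ => φ.hom z) (Scheme.ΓSpecIso (CommRingCat.of (Away 𝒜 g))).inv_hom_id
  change (Proj.basicOpen 𝒜 g).topIso.inv.hom ((Proj.awayToSection 𝒜 g).hom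
    ((Scheme.ΓSpecIso (CommRingCat.of (Away 𝒜 g))).hom.hom _)) = _
  rw [h6]
  rfl

/-- the ring of functions of the chart `D₊(g)`, `g` of degree one, is generated by the image of the
base ring and the ratios `v i g ^ (n - dv i) / g ^ n` of sections of `O(n)` -/
theorem chart_generated {g : A} (hg : g ∈ 𝒜 1) (n : ℕ) {m : ℕ} (v : Fin m → A) (dv : Fin m → ℕ)
    (hv : ∀ i, v i ∈ 𝒜 (dv i)) (hdn : ∀ i, dv i ≤ n)
    (hgen : Algebra.adjoin R (Set.range v) = ⊤)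
    (h0 : ∀ a ∈ 𝒜 0, a ∈ Set.range (algebraMap R A))
    (hgn : g ^ n ∈ 𝒜 n) (hvg : ∀ i, v i * g ^ (n - dv i) ∈ 𝒜 n)
    (U : (Proj 𝒜).Opens) (hU : U = Proj.basicOpen 𝒜 g)
    (T : Subring Γ((U : Scheme.{u}), ⊤))
    (hT1 : ∀ a, (U.ι ≫ Proj.toSpecZero 𝒜 ≫
      Spec.map (CommRingCat.ofHom (algebraMap R (𝒜 0)))).appTop.hom a ∈ T)
    (hT2 : ∀ i, ∀ ρ : Γ(Proj 𝒜, U),
      ρ • (Twist.twist 𝒜 ((n : ℕ) : ℤ)).presheaf.map (homOfLE (le_top : U ≤ ⊤)).op
          (Twist.globalOf 𝒜 ⟨g ^ n, hgn⟩) =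
        (Twist.twist 𝒜 ((n : ℕ) : ℤ)).presheaf.map (homOfLE (le_top : U ≤ ⊤)).op
          (Twist.globalOf 𝒜 ⟨v i * g ^ (n - dv i), hvg i⟩) →
      toTop ρ ∈ T) : T = ⊤ := by
  subst hU
  let ψ : Away 𝒜 g →+* Γ((Proj.basicOpen 𝒜 g : Scheme.{u}), ⊤) :=
    (Proj.basicOpen 𝒜 g).topIso.inv.hom.comp (Proj.awayToSection 𝒜 g).hom
  have hψ : Function.Surjective ψ := by
    have h1 : Function.Surjective (Proj.awayToSection 𝒜 g).hom := by
      have : IsIso (Proj.awayToSection 𝒜 g) := by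
        rw [← Proj.basicOpenIsoAway_hom 𝒜 g hg one_pos]
        infer_instance
      exact ((ConcreteCategory.isIso_iff_bijective (Proj.awayToSection 𝒜 g)).mp this).2
    have h2 : Function.Surjective (Proj.basicOpen 𝒜 g).topIso.inv.hom :=
      ((ConcreteCategory.isIso_iff_bijective (Proj.basicOpen 𝒜 g).topIso.inv).mp
        inferInstance).2
    exact h2.comp h1
  have hT'' : T.comap ψ = ⊤ := by
    apply Groth.Agent.Helper4.SN244.away_generated 𝒜 hg v dv hv hgen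
    · intro a
      obtain ⟨r, hr⟩ := h0 a a.2
      have ha : a = algebraMap R (𝒜 0) r := Subtype.ext hr.symm
      rw [ha]
      have h := appTop_structure 𝒜 hg one_pos r
      have h' := hT1 ((Scheme.ΓSpecIso (CommRingCat.of R)).inv.hom r)
      rw [h] at h'
      exact h'
    · intro i
      exact hT2 i _ (globalOf_res_eq_smul' 𝒜 hg (hv i) (hdn i) (hvg i) hgn).symm
  rw [eq_top_iff]
  intro x _
  obtain ⟨z, rfl⟩ := hψ x
  have : z ∈ T.comap ψ := by rw [hT'']; trivial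
  exact this

end Groth.Agent.Helper4.SN245
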