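import Mathlib
import Groth.Agent.Helper4.SN245

/-!
# `Proj` of a graded algebra of finite type generated in degrees `1..d`, covered by the
`D₊(g)`, `g` of degree one: `O(n)`, `n ≥ d`, is very ample
-/

set_option autoImplicit false
set_option linter.style.haveILetI false

namespace Groth.Agent.Helper4.SN246

open CategoryTheory Limits AlgebraicGeometry TopologicalSpace Opposite HomogeneousLocalization
open Groth.Agent.Helper4.GenLoc Groth.Agent.Helper1.PUP Groth.Agent.Helper1.VA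

universe u

variable {R A : Type u} [CommRing R] [CommRing A] [Algebra R A] (𝒜 : ℕ → Submodule R A)
  [GradedAlgebra 𝒜]

/-- the structure morphism of `Proj` over the base ring -/
noncomputable abbrev str : Proj 𝒜 ⟶ Spec (CommRingCat.of R) :=
  Proj.toSpecZero 𝒜 ≫ Spec.map (CommRingCat.ofHom (algebraMap R (𝒜 0)))

theorem isProper_str [Algebra.FiniteType R A] (h0 : ∀ a ∈ 𝒜 0, a ∈ Set.range (algebraMap R A)) :
    IsProper (str 𝒜) := by
  haveI : IsScalarTower R (𝒜 0) A := ⟨fun r a x => smul_mul_assoc r (a : A) x⟩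
  haveI : Algebra.FiniteType (𝒜 0) A := Algebra.FiniteType.of_restrictScalars_finiteType R (𝒜 0) A
  haveI : IsClosedImmersion (Spec.map (CommRingCat.ofHom (algebraMap R (𝒜 0)))) := by
    apply IsClosedImmersion.spec_of_surjective
    intro a
    obtain ⟨r, hr⟩ := h0 a a.2
    exact ⟨r, Subtype.ext hr⟩
  infer_instance


/-- the sections used for the embedding -/
noncomputable def sfun {m : ℕ} (v : Fin m → A) (dv : Fin m → ℕ) (n : ℕ) (t : Finset (𝒜 1)) :
    Option (t × Option (Fin m)) → A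
  | none => 0
  | some (g, none) => ((g : 𝒜 1) : A) ^ n
  | some (g, some i) => v i * ((g : 𝒜 1) : A) ^ (n - dv i)

theorem pow_mem' (g : 𝒜 1) (k : ℕ) : ((g : A)) ^ k ∈ 𝒜 k := by
  have := SetLike.pow_mem_graded k g.2
  simpa using this

theorem sfun_mem {m : ℕ} (v : Fin m → A) (dv : Fin m → ℕ) (hv : ∀ i, v i ∈ 𝒜 (dv i)) (n : ℕ)
    (hdn : ∀ i, dv i ≤ n) (t : Finset (𝒜 1)) (j : Option (t × Option (Fin m))) :
    sfun 𝒜 v dv n t j ∈ 𝒜 n := by
  rcases j with _ | ⟨g, _ | i⟩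
  · exact zero_mem _
  · exact pow_mem' 𝒜 g n
  · have := SetLike.mul_mem_graded (hv i) (pow_mem' 𝒜 (g : 𝒜 1) (n - dv i))
    have h2 : dv i + (n - dv i) = n := Nat.add_sub_cancel' (hdn i)
    rw [h2] at this
    exact this

theorem main (d : ℕ) (hgen : Algebra.adjoin R (⋃ i ∈ Finset.Icc 1 d, (𝒜 i : Set A)) = ⊤)
    (hcov : (⨆ g : 𝒜 1, Proj.basicOpen 𝒜 (g : A)) = ⊤) [Algebra.FiniteType R A] (n : ℕ)
    (hn : d ≤ n) (hn1 : 0 < n) :
    ∃ (N : ℕ) (i : Proj 𝒜 ⟶ CohB1.ProjSpaceOver N (Spec (CommRingCat.of R))),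
      IsClosedImmersion i ∧
      i ≫ pullback.snd (CohB1.ProjSpace.toSpec N (ULift.{u} ℤ))
        (specULiftZIsTerminal.from (Spec (CommRingCat.of R))) = str 𝒜 ∧
      Nonempty (Twist.twist 𝒜 (n : ℤ) ≅
        (Scheme.Modules.pullback i).obj (Twist.twistOver N (Spec (CommRingCat.of R)) 1)) := by
  classical
  have h0 := Groth.Agent.Helper4.SN244.zero_mem_range 𝒜 d hgen
  haveI := isProper_str 𝒜 h0
  haveI : CompactSpace (Proj 𝒜) := QuasiCompact.compactSpace_of_compactSpace (str 𝒜)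
  obtain ⟨m, v, dv, hv, hdv1, hdvd, hvgen⟩ :=
    Groth.Agent.Helper4.SN244.exists_generators 𝒜 d hgen
  have hdn : ∀ i, dv i ≤ n := fun i => (hdvd i).trans hn
  -- finite subcover
  obtain ⟨t, ht⟩ : ∃ t : Finset (𝒜 1), ∀ x : Proj 𝒜, ∃ g ∈ t, x ∈ Proj.basicOpen 𝒜 (g : A) := by
    have := isCompact_univ.elim_finite_subcover
      (fun g : 𝒜 1 => ((Proj.basicOpen 𝒜 (g : A) : (Proj 𝒜).Opens) : Set (Proj 𝒜)))
      (fun g => (Proj.basicOpen 𝒜 (g : A)).2) (by
        intro x _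
        have hx : x ∈ (⨆ g : 𝒜 1, Proj.basicOpen 𝒜 (g : A)) := by rw [hcov]; trivial
        obtain ⟨g, hg⟩ := Opens.mem_iSup.mp hx
        exact Set.mem_iUnion.mpr ⟨g, hg⟩)
    obtain ⟨t, ht⟩ := this
    refine ⟨t, fun x => ?_⟩
    have := ht (Set.mem_univ x)
    simp only [Set.mem_iUnion] at this
    obtain ⟨g, hg, hx⟩ := this
    exact ⟨g, hg, hx⟩
  -- the index type
  let J := Option (t × Option (Fin m))
  let K : ℕ := Fintype.card (t × Option (Fin m))
  have hK : Fintype.card J = K + 1 := Fintype.card_option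
  let e : J ≃ Fin (K + 1) := Fintype.equivFinOfCardEq hK
  let s : J → A := sfun 𝒜 v dv n t
  have hs : ∀ j, s j ∈ 𝒜 n := sfun_mem 𝒜 v dv hv n hdn t
  let σ' : J → (Coh.structureModule (Proj 𝒜) ⟶ Twist.twist 𝒜 ((n : ℕ) : ℤ)) := fun j =>
    TT 𝒜 (s j) (hs j)
  let σ : Fin (K + 1) → (Coh.structureModule (Proj 𝒜) ⟶ Twist.twist 𝒜 ((n : ℕ) : ℤ)) :=
    fun k => σ' (e.symm k)
  have hσ : ∀ j, σ (e j) = σ' j := fun j => by
    show σ' (e.symm (e j)) = σ' j
    rw [Equiv.symm_apply_apply]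
  have hXE : ∀ j, XE σ (e j) = Proj.basicOpen 𝒜 (s j) := fun j => by
    show CohB1.genLocus _ (σ (e j)) = _
    rw [hσ]
    exact genLocus_TT 𝒜 hcov (s j) (hs j)
  have hXEg : ∀ g : t, XE σ (e (some (g, none))) = Proj.basicOpen 𝒜 ((g : 𝒜 1) : A) := fun g =>
    (hXE _).trans (Proj.basicOpen_pow 𝒜 _ n hn1)
  have hcovσ : ⨆ k, XE σ k = ⊤ := by
    rw [eq_top_iff]
    intro x _
    obtain ⟨g, hg, hx⟩ := ht x
    refine Opens.mem_iSup.mpr ⟨e (some (⟨g, hg⟩, none)), ?_⟩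
    rw [hXEg]
    exact hx
  let I : Set (Fin (K + 1)) := Set.range (fun g : t => e (some (g, none)))
  have hI : ⨆ α : I, XE σ α = ⊤ := by
    rw [eq_top_iff]
    intro x _
    obtain ⟨g, hg, hx⟩ := ht x
    refine Opens.mem_iSup.mpr ⟨⟨e (some (⟨g, hg⟩, none)), ⟨⟨g, hg⟩, rfl⟩⟩, ?_⟩
    show x ∈ XE σ (e (some (⟨g, hg⟩, none)))
    rw [hXEg]
    exact hx
  have haff : ∀ α : I, IsAffineOpen (XE σ α) := by
    rintro ⟨_, g, rfl⟩
    show IsAffineOpen (XE σ (e (some (g, none))))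
    rw [hXE]
    exact Proj.isAffineOpen_basicOpen 𝒜 _ (hs (some (g, none))) hn1
  have hgenσ : ∀ α : I, ∀ T : Subring Γ((XE σ α : Scheme.{u}), ⊤),
      (∀ a, ((XE σ α).ι ≫ str 𝒜).appTop.hom a ∈ T) → (∀ k, toTop (ratio σ k α) ∈ T) →
      T = ⊤ := by
    rintro ⟨_, g, rfl⟩ T hT1 hT2
    refine Groth.Agent.Helper4.SN245.chart_generated 𝒜 (g : 𝒜 1).2 n v dv hv hdn hvgen h0
      (hs (some (g, none))) (fun i => hs (some (g, some i)))
      (XE σ (e (some (g, none)))) (hXEg g) T hT1 (fun i ρ hρ => ?_)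
    have hr := ratio_spec σ (e (some (g, some i))) (e (some (g, none)))
    have h1 : ∀ j, sec (σ (e j)) (XE σ (e (some (g, none)))) =
        (Twist.twist 𝒜 ((n : ℕ) : ℤ)).presheaf.map
          (homOfLE (le_top : XE σ (e (some (g, none))) ≤ ⊤)).op
          (Twist.globalOf 𝒜 ⟨s j, hs j⟩) := fun j => by
      rw [hσ]
      exact sec_homOfTop' _ _
    rw [h1, h1] at hr
    have h2 : (ρ - ratio σ (e (some (g, some i))) (e (some (g, none)))) •
        sec (σ (e (some (g, none)))) (XE σ (e (some (g, none)))) = 0 := by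
      rw [sub_smul, h1]
      exact sub_eq_zero.mpr (hρ.trans hr.symm)
    have h3 := eq_zero_of_smul_sec (σ (e (some (g, none)))) (le_refl _) _ h2
    rw [sub_eq_zero.mp h3]
    exact hT2 _
  obtain ⟨N, i, himm, hi, hiso⟩ := isRelVeryAmplePn_of_charts (str 𝒜) σ hcovσ I hI haff hgenσ
  haveI := himm
  haveI : IsProper (CohB1.ProjSpaceOver.toBase N (Spec (CommRingCat.of R))) :=
    Groth.Agent.Helper6.HProj.isProper_toBase N _
  haveI : IsProper (i ≫ CohB1.ProjSpaceOver.toBase N (Spec (CommRingCat.of R))) := by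
    have : i ≫ CohB1.ProjSpaceOver.toBase N (Spec (CommRingCat.of R)) = str 𝒜 := hi
    rw [this]
    infer_instance
  haveI : IsProper i := IsProper.of_comp i (CohB1.ProjSpaceOver.toBase N (Spec (CommRingCat.of R)))
  exact ⟨N, i, IsClosedImmersion.of_isPreimmersion _ i.isClosedMap.isClosed_range, hi, hiso⟩

end Groth.Agent.Helper4.SN246
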