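import Mathlib

/-!
# Graded algebras generated by finitely many homogeneous elements: the Veronese subring of
degree `a · lcm`, `a ≥ s - 1`, is generated in degree one (combinatorics and localisations)
-/

set_option autoImplicit false

namespace Groth.Agent.Helper4.SN247

open HomogeneousLocalization

universe u

section Comb

/-- a sub-multi-index with prescribed total -/
theorem exists_le_sum_eq {s : ℕ} (q : Fin s → ℕ) (a : ℕ) (ha : a ≤ ∑ j, q j) :
    ∃ c : Fin s → ℕ, (∀ j, c j ≤ q j) ∧ ∑ j, c j = a := by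
  classical
  induction a with
  | zero => exact ⟨0, fun j => Nat.zero_le _, by simp⟩
  | succ a ih =>
    obtain ⟨c, hc, hsum⟩ := ih (Nat.le_of_succ_le ha)
    have : ∃ j, c j < q j := by
      by_contra hcon
      push Not at hcon
      have : ∑ j, q j ≤ ∑ j, c j := Finset.sum_le_sum (fun j _ => hcon j)
      omega
    obtain ⟨j, hj⟩ := this
    refine ⟨fun i => c i + if i = j then 1 else 0, fun i => ?_, ?_⟩
    · by_cases h : i = j
      · subst h; simp; omega
      · simp [h, hc i]
    · rw [Finset.sum_add_distrib, hsum]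
      simp

variable {s : ℕ} (deg : Fin s → ℕ) (hdeg : ∀ i, 0 < deg i)

include hdeg in
theorem lcm_pos : 0 < Finset.univ.lcm deg := by
  rw [Nat.pos_iff_ne_zero, Ne, Finset.lcm_eq_zero_iff]
  rintro ⟨j, -, hj⟩
  exact (hdeg j).ne' hj

include hdeg in
/-- a monomial of weighted degree `p · n`, `n = a · lcm`, `a ≥ s - 1`, `p ≥ 1`, has a factor of
weighted degree `n` -/
theorem exists_sub_index (a : ℕ) (ha : 0 < a) (has : s - 1 ≤ a) (p : ℕ) (hp : 1 ≤ p)
    (k : Fin s → ℕ) (hk : ∑ j, k j * deg j = p * (a * Finset.univ.lcm deg)) :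
    ∃ c : Fin s → ℕ, (∀ j, c j ≤ k j) ∧ ∑ j, c j * deg j = a * Finset.univ.lcm deg := by
  rcases Nat.eq_or_lt_of_le hp with h1 | hp2
  · refine ⟨k, fun j => le_refl _, ?_⟩
    rw [hk, ← h1, one_mul]
  set l := Finset.univ.lcm deg with hl
  have hlpos : 0 < l := lcm_pos deg hdeg
  have hdvd : ∀ j, deg j ∣ l := fun j => Finset.dvd_lcm (Finset.mem_univ j)
  let L : Fin s → ℕ := fun j => l / deg j
  have hL : ∀ j, L j * deg j = l := fun j => Nat.div_mul_cancel (hdvd j)
  have hLpos : ∀ j, 0 < L j := fun j => by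
    rcases Nat.eq_zero_or_pos (L j) with h | h
    · have := hL j; rw [h, zero_mul] at this; omega
    · exact h
  let q : Fin s → ℕ := fun j => k j / L j
  let r : Fin s → ℕ := fun j => k j % L j
  have hkj : ∀ j, k j * deg j = q j * l + r j * deg j := fun j => by
    have h := Nat.div_add_mod (k j) (L j)
    calc k j * deg j = (L j * (k j / L j) + k j % L j) * deg j := by rw [h]
      _ = q j * (L j * deg j) + r j * deg j := by ring
      _ = q j * l + r j * deg j := by rw [hL j]
  have hr : ∀ j, r j * deg j + 1 ≤ l := fun j => by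
    have h1 : r j + 1 ≤ L j := Nat.mod_lt _ (hLpos j)
    have h2 : (r j + 1) * deg j ≤ L j * deg j := Nat.mul_le_mul_right _ h1
    rw [hL j, add_mul, one_mul] at h2
    have := hdeg j
    omega
  have hsum : ∑ j, k j * deg j = (∑ j, q j) * l + ∑ j, r j * deg j := by
    rw [Finset.sum_mul, ← Finset.sum_add_distrib]
    exact Finset.sum_congr rfl (fun j _ => hkj j)
  have hρdvd : l ∣ ∑ j, r j * deg j := by
    have h1 : l ∣ ∑ j, k j * deg j := by rw [hk]; exact ⟨p * a, by ring⟩
    rw [hsum] at h1
    exact (Nat.dvd_add_right (Dvd.intro_left _ rfl)).mp h1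
  obtain ⟨ρ, hρ⟩ := hρdvd
  have hρle : ρ ≤ a := by
    rcases Nat.eq_zero_or_pos s with hs0 | hspos
    · subst hs0
      simp at hρ
      rcases hρ with h | h
      · omega
      · rw [h]; exact Nat.zero_le _
    · have h1 : ∑ j, (r j * deg j + 1) ≤ ∑ _j : Fin s, l := Finset.sum_le_sum (fun j _ => hr j)
      rw [Finset.sum_add_distrib, hρ] at h1
      simp only [Finset.sum_const, Finset.card_univ, Fintype.card_fin, smul_eq_mul, mul_one] at h1
      have h2 : l * ρ < l * s := by
        have : s * l = l * s := mul_comm s l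
        omega
      have h3 : ρ < s := Nat.lt_of_mul_lt_mul_left h2
      omega
  have hq : a ≤ ∑ j, q j := by
    have h1 : (∑ j, q j) * l + l * ρ = p * (a * l) := by rw [← hρ, ← hsum, hk]
    have h2 : ((∑ j, q j) + ρ) * l = (p * a) * l := by rw [add_mul, mul_comm ρ l, h1]; ring
    have h3 : (∑ j, q j) + ρ = p * a := Nat.eq_of_mul_eq_mul_right hlpos h2
    have h4 : 2 * a ≤ p * a := Nat.mul_le_mul_right a hp2
    omega
  obtain ⟨c', hc', hc'sum⟩ := exists_le_sum_eq q a hq
  refine ⟨fun j => c' j * L j, fun j => ?_, ?_⟩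
  · calc c' j * L j ≤ q j * L j := Nat.mul_le_mul_right _ (hc' j)
      _ ≤ k j := by rw [mul_comm]; exact Nat.mul_div_le (k j) (L j)
  · calc ∑ j, c' j * L j * deg j = ∑ j, c' j * l := Finset.sum_congr rfl (fun j _ => by
          rw [mul_assoc, hL j])
      _ = a * l := by rw [← Finset.sum_mul, hc'sum]

end Comb


section Away

variable {R A : Type u} [CommRing R] [CommRing A] [Algebra R A] (𝒜 : ℕ → Submodule R A)
  [GradedAlgebra 𝒜] {s : ℕ} (f : Fin s → A) (deg : Fin s → ℕ) (hdeg : ∀ i, 0 < deg i)
  (hf : ∀ i, f i ∈ 𝒜 (deg i))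

theorem adjoin_zero_eq_top (hgen : Algebra.adjoin R (Set.range f) = ⊤) :
    Algebra.adjoin (𝒜 0) (Set.range f) = ⊤ := by
  rw [eq_top_iff]
  intro x _
  have hx : x ∈ Algebra.adjoin R (Set.range f) := by rw [hgen]; trivial
  induction hx using Algebra.adjoin_induction with
  | mem x hx => exact Algebra.subset_adjoin hx
  | algebraMap r =>
    have : algebraMap R A r = algebraMap (𝒜 0) A ⟨algebraMap R A r,
        SetLike.algebraMap_mem_graded 𝒜 r⟩ := rfl
    rw [this]
    exact Subalgebra.algebraMap_mem _ _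
  | add x y _ _ hx hy => exact add_mem (hx trivial) (hy trivial)
  | mul x y _ _ hx hy => exact mul_mem (hx trivial) (hy trivial)

include hdeg in
/-- the degree-zero localisation at an element `F` of degree `n = a · lcm` is generated, over the
degree-zero part, by the fractions `M / F`, `M` a monomial of weighted degree `n` -/
theorem away_generated (hgen : Algebra.adjoin R (Set.range f) = ⊤) (a : ℕ) (ha : 0 < a)
    (has : s - 1 ≤ a) {F : A} (hF : F ∈ 𝒜 (a * Finset.univ.lcm deg))
    (T : Subring (Away 𝒜 F))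
    (h0 : ∀ z : 𝒜 0, algebraMap (𝒜 0) (Away 𝒜 F) z ∈ T)
    (h1 : ∀ (k : Fin s → ℕ) (hk : ∑ j, k j • deg j = 1 • (a * Finset.univ.lcm deg)),
      Away.mk 𝒜 hF 1 (∏ j, f j ^ k j)
        (hk ▸ SetLike.prod_pow_mem_graded _ _ _ _ fun i _ ↦ hf i) ∈ T) : T = ⊤ := by
  have claim : ∀ (p : ℕ) (ai : Fin s → ℕ)
      (hai : ∑ j, ai j • deg j = p • (a * Finset.univ.lcm deg)),
      Away.mk 𝒜 hF p (∏ j, f j ^ ai j)
        (hai ▸ SetLike.prod_pow_mem_graded _ _ _ _ fun i _ ↦ hf i) ∈ T := by
    intro p
    induction p with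
    | zero =>
      intro ai hai
      obtain rfl : ai = 0 := funext fun j => by
        have h : ∑ j, ai j • deg j = 0 := by simpa using hai
        have := (Finset.sum_eq_zero_iff.mp h) j (Finset.mem_univ j)
        have hd := hdeg j
        simp only [smul_eq_mul, mul_eq_zero] at this
        rcases this with h | h
        · exact h
        · omega
      have : Away.mk 𝒜 hF 0 (∏ j, f j ^ (0 : Fin s → ℕ) j)
          (hai ▸ SetLike.prod_pow_mem_graded _ _ _ _ fun i _ ↦ hf i) = 1 := by
        apply val_injective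
        rw [Away.val_mk, val_one]
        simp [Localization.mk_one]
      rw [this]
      exact one_mem _
    | succ p ih =>
      intro ai hai
      have hai' : ∑ j, ai j * deg j = (p + 1) * (a * Finset.univ.lcm deg) := by
        simpa using hai
      obtain ⟨c, hc, hcsum⟩ := exists_sub_index deg hdeg a ha has (p + 1) (by omega) ai hai'
      have hck : ∑ j, c j • deg j = 1 • (a * Finset.univ.lcm deg) := by simpa using hcsum
      have hrest : ∑ j, (ai j - c j) • deg j = p • (a * Finset.univ.lcm deg) := by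
        have h1 : ∑ j, (ai j - c j) * deg j + ∑ j, c j * deg j = ∑ j, ai j * deg j := by
          rw [← Finset.sum_add_distrib]
          refine Finset.sum_congr rfl (fun j _ => ?_)
          rw [← add_mul, Nat.sub_add_cancel (hc j)]
        simp only [smul_eq_mul]
        rw [hcsum, hai'] at h1
        have : (p + 1) * (a * Finset.univ.lcm deg) =
          p * (a * Finset.univ.lcm deg) + a * Finset.univ.lcm deg := by ring
        omega
      have key : Away.mk 𝒜 hF (p + 1) (∏ j, f j ^ ai j)
          (hai ▸ SetLike.prod_pow_mem_graded _ _ _ _ fun i _ ↦ hf i) =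
          Away.mk 𝒜 hF 1 (∏ j, f j ^ c j)
            (hck ▸ SetLike.prod_pow_mem_graded _ _ _ _ fun i _ ↦ hf i) *
          Away.mk 𝒜 hF p (∏ j, f j ^ (ai j - c j))
            (hrest ▸ SetLike.prod_pow_mem_graded _ _ _ _ fun i _ ↦ hf i) := by
        apply val_injective
        rw [val_mul, Away.val_mk, Away.val_mk, Away.val_mk, Localization.mk_mul]
        congr 1
        · rw [← Finset.prod_mul_distrib]
          refine Finset.prod_congr rfl (fun j _ => ?_)
          rw [← pow_add, Nat.add_sub_cancel' (hc j)]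
        · apply Subtype.ext
          simp only [Submonoid.coe_mul]
          rw [← pow_add, add_comm]
      rw [key]
      exact mul_mem (h1 c hck) (ih _ hrest)
  let T' : Subalgebra (𝒜 0) (Away 𝒜 F) := { T with algebraMap_mem' := h0 }
  have hT' : T' = ⊤ := by
    rw [eq_top_iff, ← Away.adjoin_mk_prod_pow_eq_top hF (Fin s) f
      (adjoin_zero_eq_top 𝒜 f hgen) deg hf]
    apply Algebra.adjoin_le
    rintro _ ⟨p, ai, hai, -, rfl⟩
    exact claim p ai hai
  rw [eq_top_iff]
  intro x _
  have : x ∈ T' := by rw [hT']; trivial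
  exact this

end Away

end Groth.Agent.Helper4.SN247
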