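import Mathlib
import Groth.Agent.Helper4.SN245

/-!
# Sections of `O(n)` on `Proj` and their ratios on `D₊(F)`, `F` of degree `n`
-/

set_option autoImplicit false
set_option linter.style.haveILetI false

namespace Groth.Agent.Helper4.SN248

open CategoryTheory Limits AlgebraicGeometry TopologicalSpace Opposite HomogeneousLocalization
open Groth.Agent.Helper4.GenLoc Groth.Agent.Helper1.PUP

universe u

variable {R A : Type u} [CommRing R] [CommRing A] [Algebra R A] (𝒜 : ℕ → Submodule R A)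
  [GradedAlgebra 𝒜]

theorem globalOf_res_eq_smul'' {n : ℕ} {t s : A} (ht : t ∈ 𝒜 n) (hs : s ∈ 𝒜 n) :
    (Twist.twist 𝒜 ((n : ℕ) : ℤ)).presheaf.map (homOfLE (le_top : Proj.basicOpen 𝒜 t ≤ ⊤)).op
      (Twist.globalOf 𝒜 ⟨s, hs⟩) =
    ((Proj.awayToSection 𝒜 t).hom (Away.mk 𝒜 ht 1 s (by simpa using hs))) •
      (Twist.twist 𝒜 ((n : ℕ) : ℤ)).presheaf.map (homOfLE (le_top : Proj.basicOpen 𝒜 t ≤ ⊤)).op
        (Twist.globalOf 𝒜 ⟨t, ht⟩) := by
  apply Subtype.ext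
  funext y
  apply Subtype.ext
  have hy1 : (1 : A) ∉ y.1.asHomogeneousIdeal :=
    fun h => y.1.isPrime.ne_top ((Ideal.eq_top_iff_one _).mpr h)
  have hyt : t ∉ y.1.asHomogeneousIdeal := y.2
  have hL : (((ConcreteCategory.hom ((Twist.twist 𝒜 ((n : ℕ) : ℤ)).presheaf.map
      (homOfLE (le_top : Proj.basicOpen 𝒜 t ≤ ⊤)).op)) (Twist.globalOf 𝒜 ⟨s, hs⟩)).1 y).1 =
      Localization.mk s ⟨1, hy1⟩ := rfl
  have hR : (((ConcreteCategory.hom ((Twist.twist 𝒜 ((n : ℕ) : ℤ)).presheaf.map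
      (homOfLE (le_top : Proj.basicOpen 𝒜 t ≤ ⊤)).op)) (Twist.globalOf 𝒜 ⟨t, ht⟩)).1 y).1 =
      Localization.mk t ⟨1, hy1⟩ := rfl
  refine hL.trans ?_
  refine Eq.trans ?_ (Twist.coe_smul_val ((n : ℕ) : ℤ) y.1
    (((Proj.awayToSection 𝒜 t).hom (Away.mk 𝒜 ht 1 s (by simpa using hs))).1 y)
    (((ConcreteCategory.hom ((Twist.twist 𝒜 ((n : ℕ) : ℤ)).presheaf.map
      (homOfLE (le_top : Proj.basicOpen 𝒜 t ≤ ⊤)).op)) (Twist.globalOf 𝒜 ⟨t, ht⟩)).1 y)).symm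
  rw [hR]
  have hc : (((Proj.awayToSection 𝒜 t).hom (Away.mk 𝒜 ht 1 s (by simpa using hs))).1 y).val =
      Localization.mk s ⟨t, hyt⟩ := by
    change (HomogeneousLocalization.mapId 𝒜 _ (Away.mk 𝒜 ht 1 s _)).val = _
    unfold Away.mk HomogeneousLocalization.mapId
    rw [HomogeneousLocalization.map_mk, HomogeneousLocalization.val_mk]
    simp only [RingHom.id_apply]
    congr 1
    exact Subtype.ext (pow_one t)
  rw [hc, Localization.mk_mul, Localization.mk_eq_mk_iff, Localization.r_iff_exists]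
  refine ⟨1, ?_⟩
  simp only [OneMemClass.coe_one, one_mul, Submonoid.coe_mul, mul_one]
  ring

theorem genLocus_TT' {n : ℕ}
    (hloc : ∀ x : Proj 𝒜, ∃ b : A, b ∈ 𝒜 n ∧ x ∈ Proj.basicOpen 𝒜 b) (t : A) (ht : t ∈ 𝒜 n) :
    CohB1.genLocus _ (TT 𝒜 t ht) = Proj.basicOpen 𝒜 t := by
  rw [← Groth.Agent.Helper4.AmpleIso.genLocus_comp_iso
    (Groth.Agent.Helper1.TwistIso.twistIsoTilde 𝒜 (n : ℤ)) (TT 𝒜 t ht), TT_comp_iso]
  exact Groth.Agent.Helper1.TwistMul.genLocus_secHom' 𝒜 n hloc t ht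

/-- the ring of functions of the chart `D₊(F)`, `F` of positive degree `n`, is generated by the
image of the base ring and the ratios `b k / F` of sections of `O(n)`, provided the corresponding
statement holds in the degree-zero localisation -/
theorem chart_generated' {F : A} {n : ℕ} (hn : 0 < n) (hF : F ∈ 𝒜 n) {ι : Type*} (b : ι → A)
    (hb : ∀ k, b k ∈ 𝒜 n)
    (halg : ∀ T : Subring (Away 𝒜 F), (∀ z : 𝒜 0, algebraMap (𝒜 0) (Away 𝒜 F) z ∈ T) →
      (∀ k, Away.mk 𝒜 hF 1 (b k) (by simpa using hb k) ∈ T) → T = ⊤)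
    (h0 : ∀ a ∈ 𝒜 0, a ∈ Set.range (algebraMap R A))
    (U : (Proj 𝒜).Opens) (hU : U = Proj.basicOpen 𝒜 F)
    (T : Subring Γ((U : Scheme.{u}), ⊤))
    (hT1 : ∀ a, (U.ι ≫ Proj.toSpecZero 𝒜 ≫
      Spec.map (CommRingCat.ofHom (algebraMap R (𝒜 0)))).appTop.hom a ∈ T)
    (hT2 : ∀ k, ∀ ρ : Γ(Proj 𝒜, U),
      ρ • (Twist.twist 𝒜 ((n : ℕ) : ℤ)).presheaf.map (homOfLE (le_top : U ≤ ⊤)).op
          (Twist.globalOf 𝒜 ⟨F, hF⟩) =
        (Twist.twist 𝒜 ((n : ℕ) : ℤ)).presheaf.map (homOfLE (le_top : U ≤ ⊤)).op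
          (Twist.globalOf 𝒜 ⟨b k, hb k⟩) →
      toTop ρ ∈ T) : T = ⊤ := by
  subst hU
  let ψ : Away 𝒜 F →+* Γ((Proj.basicOpen 𝒜 F : Scheme.{u}), ⊤) :=
    (Proj.basicOpen 𝒜 F).topIso.inv.hom.comp (Proj.awayToSection 𝒜 F).hom
  have hψ : Function.Surjective ψ := by
    have h1 : Function.Surjective (Proj.awayToSection 𝒜 F).hom := by
      have : IsIso (Proj.awayToSection 𝒜 F) := by
        rw [← Proj.basicOpenIsoAway_hom 𝒜 F hF hn]
        infer_instance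
      exact ((ConcreteCategory.isIso_iff_bijective (Proj.awayToSection 𝒜 F)).mp this).2
    have h2 : Function.Surjective (Proj.basicOpen 𝒜 F).topIso.inv.hom :=
      ((ConcreteCategory.isIso_iff_bijective (Proj.basicOpen 𝒜 F).topIso.inv).mp
        inferInstance).2
    exact h2.comp h1
  have hT'' : T.comap ψ = ⊤ := by
    apply halg
    · intro a
      obtain ⟨r, hr⟩ := h0 a a.2
      have ha : a = algebraMap R (𝒜 0) r := Subtype.ext hr.symm
      rw [ha]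
      have h := Groth.Agent.Helper4.SN245.appTop_structure 𝒜 hF hn r
      have h' := hT1 ((Scheme.ΓSpecIso (CommRingCat.of R)).inv.hom r)
      rw [h] at h'
      exact h'
    · intro k
      exact hT2 k _ (globalOf_res_eq_smul'' 𝒜 hF (hb k)).symm
  rw [eq_top_iff]
  intro x _
  obtain ⟨z, rfl⟩ := hψ x
  have : z ∈ T.comap ψ := by rw [hT'']; trivial
  exact this

end Groth.Agent.Helper4.SN248
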