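import Mathlib
import Groth.Agent.Helper4.SN246
import Groth.Agent.Helper4.SN247
import Groth.Agent.Helper4.SN248

/-!
# `Proj` of a graded algebra generated by finitely many homogeneous elements of positive degree:
`O(a · lcm)`, `a ≥ max(1, s - 1)`, is very ample
-/

set_option autoImplicit false
set_option linter.style.haveILetI false

namespace Groth.Agent.Helper4.SN249

open CategoryTheory Limits AlgebraicGeometry TopologicalSpace Opposite HomogeneousLocalization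
open Groth.Agent.Helper4.GenLoc Groth.Agent.Helper1.PUP Groth.Agent.Helper1.VA
open Groth.Agent.Helper4.SN246

universe u

variable {R A : Type u} [CommRing R] [CommRing A] [Algebra R A] (𝒜 : ℕ → Submodule R A)
  [GradedAlgebra 𝒜] {s : ℕ} (f : Fin s → A) (deg : Fin s → ℕ)

/-- the degree of the embedding -/
abbrev nn (a : ℕ) : ℕ := a * Finset.univ.lcm deg

/-- monomials of weighted degree `n` -/
abbrev Mon (a : ℕ) : Type :=
  {k : Fin s → Fin (nn deg a + 1) // ∑ j, (k j : ℕ) • deg j = 1 • nn deg a}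

/-- the sections used for the embedding -/
noncomputable def sfun (a : ℕ) : Option (Fin s ⊕ Mon deg a) → A
  | none => 0
  | some (Sum.inl j) => f j ^ (nn deg a / deg j)
  | some (Sum.inr k) => ∏ j, f j ^ (k.1 j : ℕ)

variable (hdeg : ∀ i, 0 < deg i) (hf : ∀ i, f i ∈ 𝒜 (deg i))

include hf in
theorem sfun_mem (a : ℕ) (j : Option (Fin s ⊕ Mon deg a)) : sfun f deg a j ∈ 𝒜 (nn deg a) := by
  rcases j with _ | j | k
  · exact zero_mem _
  · have h1 : deg j ∣ nn deg a :=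
      Dvd.dvd.mul_left (Finset.dvd_lcm (Finset.mem_univ j)) a
    have h2 := SetLike.pow_mem_graded (nn deg a / deg j) (hf j)
    rw [smul_eq_mul, Nat.div_mul_cancel h1] at h2
    exact h2
  · have h := SetLike.prod_pow_mem_graded 𝒜 deg f (fun j => (k.1 j : ℕ))
      (F := Finset.univ) (fun i _ => hf i)
    have h2 : ∑ j, (k.1 j : ℕ) • deg j = nn deg a := by simpa using k.2
    rw [h2] at h
    exact h


include hdeg hf in
theorem main (hgen : Algebra.adjoin R (Set.range f) = ⊤) (a : ℕ) (ha : 0 < a)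
    (has : s - 1 ≤ a) :
    ∃ (N : ℕ) (i : Proj 𝒜 ⟶ CohB1.ProjSpaceOver N (Spec (CommRingCat.of R))),
      IsClosedImmersion i ∧
      i ≫ pullback.snd (CohB1.ProjSpace.toSpec N (ULift.{u} ℤ))
        (specULiftZIsTerminal.from (Spec (CommRingCat.of R))) = str 𝒜 ∧
      Nonempty (Twist.twist 𝒜 ((nn deg a : ℕ) : ℤ) ≅
        (Scheme.Modules.pullback i).obj (Twist.twistOver N (Spec (CommRingCat.of R)) 1)) := by
  classical
  have hlpos : 0 < Finset.univ.lcm deg := Groth.Agent.Helper4.SN247.lcm_pos deg hdeg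
  have hn : 0 < nn deg a := Nat.mul_pos ha hlpos
  haveI : Algebra.FiniteType R A :=
    ⟨⟨Finset.univ.image f, by
      rw [Finset.coe_image, Finset.coe_univ, Set.image_univ]; exact hgen⟩⟩
  -- degree zero
  have hgen' : Algebra.adjoin R (⋃ i ∈ Finset.Icc 1 (Finset.univ.sup deg), (𝒜 i : Set A)) = ⊤ := by
    rw [eq_top_iff, ← hgen]
    apply Algebra.adjoin_mono
    rintro _ ⟨j, rfl⟩
    simp only [Set.mem_iUnion]
    exact ⟨deg j, Finset.mem_Icc.mpr ⟨hdeg j, Finset.le_sup (f := deg) (Finset.mem_univ j)⟩, hf j⟩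
  have h0 := Groth.Agent.Helper4.SN244.zero_mem_range 𝒜 _ hgen'
  haveI := isProper_str 𝒜 h0
  -- the cover
  have hcovf : ⨆ j, Proj.basicOpen 𝒜 (f j) = ⊤ :=
    Proj.iSup_basicOpen_eq_top' 𝒜 f (fun i => ⟨deg i, hf i⟩)
      (Groth.Agent.Helper4.SN247.adjoin_zero_eq_top 𝒜 f hgen)
  have hdvd : ∀ j, deg j ∣ nn deg a := fun j =>
    Dvd.dvd.mul_left (Finset.dvd_lcm (Finset.mem_univ j)) a
  have hqpos : ∀ j, 0 < nn deg a / deg j := fun j =>
    Nat.div_pos (Nat.le_of_dvd hn (hdvd j)) (hdeg j)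
  -- the index type
  let J := Option (Fin s ⊕ Mon deg a)
  let K : ℕ := Fintype.card (Fin s ⊕ Mon deg a)
  have hK : Fintype.card J = K + 1 := Fintype.card_option
  let e : J ≃ Fin (K + 1) := Fintype.equivFinOfCardEq hK
  let sf : J → A := sfun f deg a
  have hs : ∀ j, sf j ∈ 𝒜 (nn deg a) := sfun_mem 𝒜 f deg hf a
  have hloc : ∀ x : Proj 𝒜, ∃ b : A, b ∈ 𝒜 (nn deg a) ∧ x ∈ Proj.basicOpen 𝒜 b := by
    intro x
    have hx : x ∈ ⨆ j, Proj.basicOpen 𝒜 (f j) := by rw [hcovf]; trivial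
    obtain ⟨j, hj⟩ := Opens.mem_iSup.mp hx
    refine ⟨sf (some (Sum.inl j)), hs _, ?_⟩
    show x ∈ Proj.basicOpen 𝒜 (f j ^ (nn deg a / deg j))
    rw [Proj.basicOpen_pow 𝒜 _ _ (hqpos j)]
    exact hj
  let σ' : J → (Coh.structureModule (Proj 𝒜) ⟶ Twist.twist 𝒜 ((nn deg a : ℕ) : ℤ)) := fun j =>
    TT 𝒜 (sf j) (hs j)
  let σ : Fin (K + 1) → (Coh.structureModule (Proj 𝒜) ⟶ Twist.twist 𝒜 ((nn deg a : ℕ) : ℤ)) :=
    fun k => σ' (e.symm k)
  have hσ : ∀ j, σ (e j) = σ' j := fun j => by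
    show σ' (e.symm (e j)) = σ' j
    rw [Equiv.symm_apply_apply]
  have hXE : ∀ j, XE σ (e j) = Proj.basicOpen 𝒜 (sf j) := fun j => by
    show CohB1.genLocus _ (σ (e j)) = _
    rw [hσ]
    exact Groth.Agent.Helper4.SN248.genLocus_TT' 𝒜 hloc (sf j) (hs j)
  have hXEj : ∀ j : Fin s, XE σ (e (some (Sum.inl j))) = Proj.basicOpen 𝒜 (f j) := fun j =>
    (hXE _).trans (Proj.basicOpen_pow 𝒜 _ _ (hqpos j))
  have hcovσ : ⨆ k, XE σ k = ⊤ := by
    rw [eq_top_iff]
    intro x _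
    have hx : x ∈ ⨆ j, Proj.basicOpen 𝒜 (f j) := by rw [hcovf]; trivial
    obtain ⟨j, hj⟩ := Opens.mem_iSup.mp hx
    refine Opens.mem_iSup.mpr ⟨e (some (Sum.inl j)), ?_⟩
    rw [hXEj]
    exact hj
  let I : Set (Fin (K + 1)) := Set.range (fun j : Fin s => e (some (Sum.inl j)))
  have hI : ⨆ α : I, XE σ α = ⊤ := by
    rw [eq_top_iff]
    intro x _
    have hx : x ∈ ⨆ j, Proj.basicOpen 𝒜 (f j) := by rw [hcovf]; trivial
    obtain ⟨j, hj⟩ := Opens.mem_iSup.mp hx
    refine Opens.mem_iSup.mpr ⟨⟨e (some (Sum.inl j)), ⟨j, rfl⟩⟩, ?_⟩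
    show x ∈ XE σ (e (some (Sum.inl j)))
    rw [hXEj]
    exact hj
  have haff : ∀ α : I, IsAffineOpen (XE σ α) := by
    rintro ⟨_, j, rfl⟩
    show IsAffineOpen (XE σ (e (some (Sum.inl j))))
    rw [hXE]
    exact Proj.isAffineOpen_basicOpen 𝒜 _ (hs (some (Sum.inl j))) hn
  have hgenσ : ∀ α : I, ∀ T : Subring Γ((XE σ α : Scheme.{u}), ⊤),
      (∀ a, ((XE σ α).ι ≫ str 𝒜).appTop.hom a ∈ T) → (∀ k, toTop (ratio σ k α) ∈ T) →
      T = ⊤ := by
    rintro ⟨_, j, rfl⟩ T hT1 hT2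
    refine Groth.Agent.Helper4.SN248.chart_generated' 𝒜 hn (hs (some (Sum.inl j)))
      (fun k : Mon deg a => sf (some (Sum.inr k))) (fun k => hs (some (Sum.inr k)))
      ?_ h0 (XE σ (e (some (Sum.inl j)))) (hXE _) T hT1 (fun k ρ hρ => ?_)
    · intro T' hT'0 hT'1
      refine Groth.Agent.Helper4.SN247.away_generated 𝒜 f deg hdeg hf hgen a ha has
        (hs (some (Sum.inl j))) T' hT'0 (fun k hk => ?_)
      have hkle : ∀ i, k i < nn deg a + 1 := by
        intro i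
        have h1 : k i * deg i ≤ ∑ j, k j • deg j :=
          Finset.single_le_sum (f := fun j => k j • deg j) (fun _ _ => Nat.zero_le _)
            (Finset.mem_univ i)
        have h2 : k i ≤ k i * deg i := Nat.le_mul_of_pos_right _ (hdeg i)
        have h3 : ∑ j, k j • deg j = nn deg a := by rw [hk]; exact one_smul _ _
        omega
      exact hT'1 ⟨fun i => ⟨k i, hkle i⟩, hk⟩
    · have hr := ratio_spec σ (e (some (Sum.inr k))) (e (some (Sum.inl j)))
      have h1 : ∀ j', sec (σ (e j')) (XE σ (e (some (Sum.inl j)))) =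
          (Twist.twist 𝒜 ((nn deg a : ℕ) : ℤ)).presheaf.map
            (homOfLE (le_top : XE σ (e (some (Sum.inl j))) ≤ ⊤)).op
            (Twist.globalOf 𝒜 ⟨sf j', hs j'⟩) := fun j' => by
        rw [hσ]
        exact sec_homOfTop' _ _
      rw [h1, h1] at hr
      have h2 : (ρ - ratio σ (e (some (Sum.inr k))) (e (some (Sum.inl j)))) •
          sec (σ (e (some (Sum.inl j)))) (XE σ (e (some (Sum.inl j)))) = 0 := by
        rw [sub_smul, h1]
        exact sub_eq_zero.mpr (hρ.trans hr.symm)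
      have h3 := eq_zero_of_smul_sec (σ (e (some (Sum.inl j)))) (le_refl _) _ h2
      rw [sub_eq_zero.mp h3]
      exact hT2 _
  obtain ⟨N, i, himm, hi, hiso⟩ := isRelVeryAmplePn_of_charts (str 𝒜) σ hcovσ I hI haff hgenσ
  haveI := himm
  haveI : IsProper (CohB1.ProjSpaceOver.toBase N (Spec (CommRingCat.of R))) :=
    Groth.Agent.Helper6.HProj.isProper_toBase N _
  haveI : IsProper (i ≫ CohB1.ProjSpaceOver.toBase N (Spec (CommRingCat.of R))) := by
    have : i ≫ CohB1.ProjSpaceOver.toBase N (Spec (CommRingCat.of R)) = str 𝒜 := hi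
    rw [this]
    infer_instance
  haveI : IsProper i := IsProper.of_comp i (CohB1.ProjSpaceOver.toBase N (Spec (CommRingCat.of R)))
  exact ⟨N, i, IsClosedImmersion.of_isPreimmersion _ i.isClosedMap.isClosed_range, hi, hiso⟩

end Groth.Agent.Helper4.SN249
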