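import Mathlib

/-!
# Splitting monomials: a monomial of weighted degree `n + j · d_{j₀}` with `n ≥ (s-1)(l-1)`
has, after multiplication by a power of `f_{j₀}`, a factor of weighted degree `n`
-/

set_option autoImplicit false

namespace Groth.Agent.Helper4.SN250

universe u

section Comb

variable {s : ℕ} (deg : Fin s → ℕ) (hdeg : ∀ i, 0 < deg i)

include hdeg in
theorem exists_split (j₀ : Fin s) (n j : ℕ)
    (hn : (s - 1) * (Finset.univ.lcm deg - 1) ≤ n) (e : Fin s → ℕ)
    (he : ∑ i, e i * deg i = n + j * deg j₀) :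
    ∃ (b c : Fin s → ℕ) (β : ℕ), (∀ i, e i + (if i = j₀ then β else 0) = b i + c i) ∧
      ∑ i, b i * deg i = n ∧ ∑ i, c i * deg i = (j + β) * deg j₀ := by
  classical
  set l := Finset.univ.lcm deg with hl
  have hlpos : 0 < l := by
    rw [Nat.pos_iff_ne_zero, Ne, hl, Finset.lcm_eq_zero_iff]
    rintro ⟨i, -, hi⟩
    exact (hdeg i).ne' hi
  have hdvd : ∀ i, deg i ∣ l := fun i => Finset.dvd_lcm (Finset.mem_univ i)
  let L : Fin s → ℕ := fun i => l / deg i
  have hL : ∀ i, L i * deg i = l := fun i => Nat.div_mul_cancel (hdvd i)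
  have hLpos : ∀ i, 0 < L i := fun i => by
    rcases Nat.eq_zero_or_pos (L i) with h | h
    · have := hL i; rw [h, zero_mul] at this; omega
    · exact h
  let q : Fin s → ℕ := fun i => e i / L i
  let r : Fin s → ℕ := fun i => e i % L i
  have hei : ∀ i, e i * deg i = q i * l + r i * deg i := fun i => by
    have h := Nat.div_add_mod (e i) (L i)
    calc e i * deg i = (L i * (e i / L i) + e i % L i) * deg i := by rw [h]
      _ = q i * (L i * deg i) + r i * deg i := by ring
      _ = q i * l + r i * deg i := by rw [hL i]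
  have hr : ∀ i, r i * deg i ≤ l - 1 := fun i => by
    have h1 : r i + 1 ≤ L i := Nat.mod_lt _ (hLpos i)
    have h2 : (r i + 1) * deg i ≤ L i * deg i := Nat.mul_le_mul_right _ h1
    rw [hL i, add_mul, one_mul] at h2
    have := hdeg i
    omega
  set T := Finset.univ.erase j₀ with hT
  have hTcard : T.card = s - 1 := by
    rw [hT, Finset.card_erase_of_mem (Finset.mem_univ _), Finset.card_univ, Fintype.card_fin]
  set S := ∑ i ∈ T, r i * deg i with hS
  have hSle : S ≤ n := by
    have h1 : S ≤ ∑ _i ∈ T, (l - 1) := Finset.sum_le_sum (fun i _ => hr i)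
    rw [Finset.sum_const, hTcard, smul_eq_mul] at h1
    exact h1.trans hn
  set Q := ∑ i ∈ T, q i with hQ
  have hsplit : ∑ i, e i * deg i = e j₀ * deg j₀ + (Q * l + S) := by
    rw [← Finset.add_sum_erase _ _ (Finset.mem_univ j₀)]
    congr 1
    rw [hQ, hS, Finset.sum_mul, ← Finset.sum_add_distrib]
    exact Finset.sum_congr rfl (fun i _ => hei i)
  have hdiv : deg j₀ ∣ n - S := by
    have h1 : (n - S) + j * deg j₀ = deg j₀ * (e j₀ + Q * L j₀) := by
      have h2 : L j₀ * deg j₀ = l := hL j₀
      have h3 : n + j * deg j₀ = e j₀ * deg j₀ + (Q * l + S) := by rw [← he, hsplit]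
      have h4 : deg j₀ * (e j₀ + Q * L j₀) = e j₀ * deg j₀ + Q * (L j₀ * deg j₀) := by ring
      rw [h4, h2]
      omega
    have h5 : deg j₀ ∣ (n - S) + j * deg j₀ := ⟨_, h1⟩
    exact (Nat.dvd_add_left (Dvd.intro_left _ rfl)).mp h5
  obtain ⟨β, hβ⟩ := hdiv
  refine ⟨fun i => if i = j₀ then β else r i, fun i => if i = j₀ then e j₀ else q i * L i, β,
    fun i => ?_, ?_, ?_⟩
  · by_cases h : i = j₀
    · subst h; simp; ring
    · simp only [h, if_false, add_zero]
      have := Nat.div_add_mod (e i) (L i)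
      show e i = e i % L i + e i / L i * L i
      rw [mul_comm (e i / L i)]
      omega
  · rw [← Finset.add_sum_erase _ _ (Finset.mem_univ j₀)]
    simp only [if_true]
    have h1 : ∑ i ∈ Finset.univ.erase j₀, (if i = j₀ then β else r i) * deg i = S := by
      rw [hS, hT]
      refine Finset.sum_congr rfl (fun i hi => ?_)
      rw [if_neg (Finset.ne_of_mem_erase hi)]
    rw [h1, mul_comm β, ← hβ]
    omega
  · rw [← Finset.add_sum_erase _ _ (Finset.mem_univ j₀)]
    simp only [if_true]
    have h1 : ∑ i ∈ Finset.univ.erase j₀, (if i = j₀ then e j₀ else q i * L i) * deg i = Q * l := by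
      rw [hQ, Finset.sum_mul, hT]
      refine Finset.sum_congr rfl (fun i hi => ?_)
      rw [if_neg (Finset.ne_of_mem_erase hi), mul_assoc, hL i]
    rw [h1]
    have h3 : n + j * deg j₀ = e j₀ * deg j₀ + (Q * l + S) := by rw [← he, hsplit]
    have h4 : (j + β) * deg j₀ = j * deg j₀ + deg j₀ * β := by ring
    rw [h4, ← hβ]
    omega

end Comb

end Groth.Agent.Helper4.SN250
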