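import Mathlib
import Groth.Prelude.Def_ProjUP

/-!
# Fractions as sections of the twisting sheaves `O(n)` on `Proj`, and a local criterion for
generation by global sections
-/

set_option autoImplicit false

namespace Groth.Agent.Helper4.SN251

open CategoryTheory AlgebraicGeometry TopologicalSpace Opposite

universe u

/-- a module is generated by global sections `s i` as soon as, locally, every section is in the
span of their restrictions -/
theorem generatedBy_of_local_span {X : Scheme.{u}} (L : X.Modules) {ι : Type*}
    (s : ι → ProjUP.Γm L)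
    (h : ∀ (x : X) (V : X.Opens) (_ : x ∈ V) (t : Γ(L, V)),
      ∃ (W : X.Opens) (hW : W ≤ V), x ∈ W ∧
        L.presheaf.map (homOfLE hW).op t ∈ Submodule.span Γ(X, W)
          (Set.range fun i => L.presheaf.map (homOfLE (le_top : W ≤ ⊤)).op (s i))) :
    ProjUP.GeneratedBy L s := by
  intro x
  rw [eq_top_iff]
  intro z _
  obtain ⟨V, hxV, t, rfl⟩ := TopCat.Presheaf.exists_germ_eq L.presheaf z
  obtain ⟨W, hW, hxW, hmem⟩ := h x V hxV t
  have h1 : (L.presheaf.germ V x hxV).hom t =
      (L.presheaf.germ W x hxW).hom (L.presheaf.map (homOfLE hW).op t) :=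
    (TopCat.Presheaf.germ_res_apply L.presheaf (homOfLE hW) x hxW t).symm
  rw [h1]
  have key : ∀ (a b : ↑(TopCat.Presheaf.stalk L.val.presheaf x)), a = b →
      b ∈ Submodule.span (X.presheaf.stalk x)
        (Set.range fun i => (L.presheaf.germ ⊤ x trivial).hom (s i)) →
      a ∈ Submodule.span (X.presheaf.stalk x)
        (Set.range fun i => (L.presheaf.germ ⊤ x trivial).hom (s i)) :=
    fun a b e hb => e ▸ hb
  have gen : ∀ y : Γ(L, W), y ∈ Submodule.span Γ(X, W)
      (Set.range fun i => L.presheaf.map (homOfLE (le_top : W ≤ ⊤)).op (s i)) →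
      (L.presheaf.germ W x hxW).hom y ∈ Submodule.span (X.presheaf.stalk x)
        (Set.range fun i => (L.presheaf.germ ⊤ x trivial).hom (s i)) := by
    intro y hy
    induction hy using Submodule.span_induction with
    | mem y hy =>
      obtain ⟨i, rfl⟩ := hy
      have h3 : TopCat.Presheaf.germ L.val.presheaf W x hxW
          (L.presheaf.map (homOfLE (le_top : W ≤ ⊤)).op (s i)) =
          TopCat.Presheaf.germ L.val.presheaf ⊤ x trivial (s i) :=
        TopCat.Presheaf.germ_res_apply L.presheaf (homOfLE (le_top : W ≤ ⊤)) x hxW (s i)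
      refine key _ _ h3 ?_
      exact Submodule.subset_span ⟨i, rfl⟩
    | zero =>
      rw [map_zero]
      exact Submodule.zero_mem _
    | add y y' _ _ hy hy' =>
      rw [map_add]
      exact Submodule.add_mem _ hy hy'
    | smul r y _ hy =>
      have h2 := PresheafOfModules.germ_smul (R := X.presheaf) L.val x W hxW r y
      refine key _ _ h2 ?_
      exact Submodule.smul_mem _ _ hy
  exact gen _ hmem

end Groth.Agent.Helper4.SN251
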