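import Mathlib
import Groth.Prelude.Def_ProjUP
import Groth.Agent.Helper4.SN250
import Groth.Agent.Helper4.SN251

/-!
# `O(n)` on `Proj B` is generated by the sections `b/1`, `b ∈ B_n`, for `n ≥ (s-1)(l-1)`
-/

set_option autoImplicit false

namespace Groth.Agent.Helper4.SN252

open CategoryTheory AlgebraicGeometry TopologicalSpace Opposite

universe u

variable {R A : Type u} [CommRing R] [CommRing A] [Algebra R A] (𝒜 : ℕ → Submodule R A)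
  [GradedAlgebra 𝒜]

/-- the section `a / b` of the structure sheaf of `Proj` over an open on which `b` vanishes
nowhere -/
noncomputable def frO (W : (Proj 𝒜).Opens) {i : ℕ} (a b : A) (ha : a ∈ 𝒜 i) (hb : b ∈ 𝒜 i)
    (hW : ∀ y : ProjectiveSpectrum.top 𝒜, y ∈ W → b ∉ y.asHomogeneousIdeal) : Γ(Proj 𝒜, W) :=
  (show Twist.O (𝒜 := 𝒜) (op W) from
    ⟨fun y => HomogeneousLocalization.mk ⟨i, ⟨a, ha⟩, ⟨b, hb⟩, hW y.1 y.2⟩,
      fun y => ⟨W, y.2, 𝟙 _, i, ⟨a, ha⟩, ⟨b, hb⟩, fun z => hW z.1 z.2, fun _ => rfl⟩⟩)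

/-- the section `a / v` of `O(n)` over an open on which `v` vanishes nowhere -/
noncomputable def fracSec (n : ℤ) (W : (Proj 𝒜).Opens) {i j : ℕ} (a v : A) (ha : a ∈ 𝒜 i)
    (hv : v ∈ 𝒜 j) (hij : (i : ℤ) = j + n)
    (hW : ∀ y : ProjectiveSpectrum.top 𝒜, y ∈ W → v ∉ y.asHomogeneousIdeal) :
    Γ(Twist.twist 𝒜 n, W) :=
  (show Twist.sectN (𝒜 := 𝒜) n (op W) from
    ⟨fun y => ⟨Localization.mk a ⟨v, hW y.1 y.2⟩,
      Submodule.subset_span ⟨i, j, ⟨a, ha⟩, ⟨v, hv⟩, hW y.1 y.2, hij, rfl⟩⟩,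
     fun y => ⟨W, y.2, 𝟙 _, i, j, ⟨a, ha⟩, ⟨v, hv⟩, fun z => hW z.1 z.2, Or.inl hij,
      fun _ => rfl⟩⟩)

/-- the value of a section of `O(n)` at a point, in the localisation -/
noncomputable def valAt (n : ℤ) (W : (Proj 𝒜).Opens) (y : ProjectiveSpectrum.top 𝒜) (hy : y ∈ W)
    (t : Γ(Twist.twist 𝒜 n, W)) : Twist.Loc 𝒜 y :=
  ((show Twist.sectN (𝒜 := 𝒜) n (op W) from t).1 ⟨y, hy⟩).1

lemma valAt_fracSec (n : ℤ) (W : (Proj 𝒜).Opens) {i j : ℕ} (a v : A) (ha : a ∈ 𝒜 i)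
    (hv : v ∈ 𝒜 j) (hij : (i : ℤ) = j + n)
    (hW : ∀ y : ProjectiveSpectrum.top 𝒜, y ∈ W → v ∉ y.asHomogeneousIdeal)
    (y : ProjectiveSpectrum.top 𝒜) (hy : y ∈ W) :
    valAt 𝒜 n W y hy (fracSec 𝒜 n W a v ha hv hij hW) = Localization.mk a ⟨v, hW y hy⟩ := rfl

lemma sec_ext (n : ℤ) (W : (Proj 𝒜).Opens) (t t' : Γ(Twist.twist 𝒜 n, W))
    (h : ∀ (y : ProjectiveSpectrum.top 𝒜) (hy : y ∈ W), valAt 𝒜 n W y hy t = valAt 𝒜 n W y hy t') :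
    t = t' := by
  apply Subtype.ext
  funext y
  apply Subtype.ext
  exact h y.1 y.2

lemma valAt_add (n : ℤ) (W : (Proj 𝒜).Opens) (y : ProjectiveSpectrum.top 𝒜) (hy : y ∈ W)
    (t t' : Γ(Twist.twist 𝒜 n, W)) :
    valAt 𝒜 n W y hy (t + t') = valAt 𝒜 n W y hy t + valAt 𝒜 n W y hy t' := rfl

lemma valAt_zero (n : ℤ) (W : (Proj 𝒜).Opens) (y : ProjectiveSpectrum.top 𝒜) (hy : y ∈ W) :
    valAt 𝒜 n W y hy (0 : Γ(Twist.twist 𝒜 n, W)) = 0 := rfl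

lemma valAt_smul (n : ℤ) (W : (Proj 𝒜).Opens) (y : ProjectiveSpectrum.top 𝒜) (hy : y ∈ W)
    (c : Γ(Proj 𝒜, W)) (t : Γ(Twist.twist 𝒜 n, W)) :
    valAt 𝒜 n W y hy (c • t) =
      ((show Twist.O (𝒜 := 𝒜) (op W) from c).1 ⟨y, hy⟩).val * valAt 𝒜 n W y hy t :=
  Twist.coe_smul_val n y _ _

lemma valAt_res (n : ℤ) {W V : (Proj 𝒜).Opens} (h : W ≤ V) (y : ProjectiveSpectrum.top 𝒜)
    (hy : y ∈ W) (t : Γ(Twist.twist 𝒜 n, V)) :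
    valAt 𝒜 n W y hy ((Twist.twist 𝒜 n).presheaf.map (homOfLE h).op t) =
      valAt 𝒜 n V y (h hy) t := rfl

lemma valAt_globalOf {n : ℕ} (b : 𝒜 n) (y : ProjectiveSpectrum.top 𝒜)
    (hy : y ∈ (⊤ : (Proj 𝒜).Opens)) :
    valAt 𝒜 (n : ℤ) ⊤ y hy (Twist.globalOf 𝒜 b) = Localization.mk b.1
      (⟨1, fun h => y.isPrime.ne_top ((Ideal.eq_top_iff_one _).mpr h)⟩ :
        y.asHomogeneousIdeal.toIdeal.primeCompl) := rfl

lemma val_frO (W : (Proj 𝒜).Opens) {i : ℕ} (a b : A) (ha : a ∈ 𝒜 i) (hb : b ∈ 𝒜 i)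
    (hW : ∀ y : ProjectiveSpectrum.top 𝒜, y ∈ W → b ∉ y.asHomogeneousIdeal)
    (y : ProjectiveSpectrum.top 𝒜) (hy : y ∈ W) :
    ((show Twist.O (𝒜 := 𝒜) (op W) from frO 𝒜 W a b ha hb hW).1 ⟨y, hy⟩).val =
      Localization.mk a (⟨b, hW y hy⟩ : y.asHomogeneousIdeal.toIdeal.primeCompl) := by
  change (HomogeneousLocalization.mk ⟨i, ⟨a, ha⟩, ⟨b, hb⟩, hW y hy⟩ :
    HomogeneousLocalization.AtPrime 𝒜 y.asHomogeneousIdeal.toIdeal).val = _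
  rw [HomogeneousLocalization.val_mk]

/-- the basic relation between fractions -/
lemma fracSec_eq_smul (n : ℤ) (W : (Proj 𝒜).Opens) {k i j i' j' : ℕ} (c w a v a' v' : A)
    (hc : c ∈ 𝒜 k) (hw : w ∈ 𝒜 k) (ha : a ∈ 𝒜 i) (hv : v ∈ 𝒜 j) (hij : (i : ℤ) = j + n)
    (ha' : a' ∈ 𝒜 i') (hv' : v' ∈ 𝒜 j') (hij' : (i' : ℤ) = j' + n)
    (hWw : ∀ y : ProjectiveSpectrum.top 𝒜, y ∈ W → w ∉ y.asHomogeneousIdeal)
    (hWv : ∀ y : ProjectiveSpectrum.top 𝒜, y ∈ W → v ∉ y.asHomogeneousIdeal)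
    (hWv' : ∀ y : ProjectiveSpectrum.top 𝒜, y ∈ W → v' ∉ y.asHomogeneousIdeal)
    (h : a' * (w * v) = (c * a) * v') :
    fracSec 𝒜 n W a' v' ha' hv' hij' hWv' =
      frO 𝒜 W c w hc hw hWw • fracSec 𝒜 n W a v ha hv hij hWv := by
  apply sec_ext
  intro y hy
  rw [valAt_smul, valAt_fracSec, valAt_fracSec, val_frO, Localization.mk_mul,
    Localization.mk_eq_mk_iff, Localization.r_iff_exists]
  refine ⟨1, ?_⟩
  simp only [OneMemClass.coe_one, one_mul, Submonoid.coe_mul]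
  rw [mul_comm (w * v) a', h, mul_comm]

lemma fracSec_eq_of (n : ℤ) (W : (Proj 𝒜).Opens) {i j i' j' : ℕ} (a v a' v' : A)
    (ha : a ∈ 𝒜 i) (hv : v ∈ 𝒜 j) (hij : (i : ℤ) = j + n)
    (ha' : a' ∈ 𝒜 i') (hv' : v' ∈ 𝒜 j') (hij' : (i' : ℤ) = j' + n)
    (hWv : ∀ y : ProjectiveSpectrum.top 𝒜, y ∈ W → v ∉ y.asHomogeneousIdeal)
    (hWv' : ∀ y : ProjectiveSpectrum.top 𝒜, y ∈ W → v' ∉ y.asHomogeneousIdeal)
    (h : a' * v = a * v') :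
    fracSec 𝒜 n W a' v' ha' hv' hij' hWv' = fracSec 𝒜 n W a v ha hv hij hWv := by
  apply sec_ext
  intro y hy
  rw [valAt_fracSec, valAt_fracSec, Localization.mk_eq_mk_iff, Localization.r_iff_exists]
  refine ⟨1, ?_⟩
  simp only [OneMemClass.coe_one, one_mul]
  rw [mul_comm v a', h, mul_comm]

lemma fracSec_add (n : ℤ) (W : (Proj 𝒜).Opens) {i j : ℕ} (a a' v : A) (ha : a ∈ 𝒜 i)
    (ha' : a' ∈ 𝒜 i) (hv : v ∈ 𝒜 j) (hij : (i : ℤ) = j + n)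
    (hW : ∀ y : ProjectiveSpectrum.top 𝒜, y ∈ W → v ∉ y.asHomogeneousIdeal) :
    fracSec 𝒜 n W (a + a') v (Submodule.add_mem _ ha ha') hv hij hW =
      fracSec 𝒜 n W a v ha hv hij hW + fracSec 𝒜 n W a' v ha' hv hij hW := by
  apply sec_ext
  intro y hy
  rw [valAt_add, valAt_fracSec, valAt_fracSec, valAt_fracSec, Localization.add_mk_self]

lemma fracSec_zero (n : ℤ) (W : (Proj 𝒜).Opens) {i j : ℕ} (v : A)
    (hv : v ∈ 𝒜 j) (hij : (i : ℤ) = j + n)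
    (hW : ∀ y : ProjectiveSpectrum.top 𝒜, y ∈ W → v ∉ y.asHomogeneousIdeal) :
    fracSec 𝒜 n W 0 v (Submodule.zero_mem (𝒜 i)) hv hij hW = 0 := by
  apply sec_ext
  intro y hy
  rw [valAt_fracSec, valAt_zero, Localization.mk_zero]

lemma res_globalOf {n : ℕ} (W : (Proj 𝒜).Opens) (b : 𝒜 n) :
    (Twist.twist 𝒜 (n : ℤ)).presheaf.map (homOfLE (le_top : W ≤ ⊤)).op (Twist.globalOf 𝒜 b) =
      fracSec 𝒜 (n : ℤ) W b.1 1 b.2 SetLike.GradedOne.one_mem (by simp)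
        (fun y _ h => y.isPrime.ne_top ((Ideal.eq_top_iff_one _).mpr h)) := by
  apply sec_ext
  intro y hy
  rfl

end Groth.Agent.Helper4.SN252
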