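import Mathlib
import Groth.Prelude.Def_ProjUP
import Groth.Agent.Helper4.SN252

/-!
# `O(n)` on `Proj B` is generated by the sections `b/1`, `b ∈ B_n`, for `n ≥ (s-1)(l-1)`:
monomials and the local statement
-/

set_option autoImplicit false

namespace Groth.Agent.Helper4.SN253

open CategoryTheory AlgebraicGeometry TopologicalSpace Opposite
open Groth.Agent.Helper4.SN252

universe u

variable {R A : Type u} [CommRing R] [CommRing A] [Algebra R A] (𝒜 : ℕ → Submodule R A)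
  [GradedAlgebra 𝒜] {s : ℕ} (f : Fin s → A) (deg : Fin s → ℕ)
  (hf : ∀ i, f i ∈ 𝒜 (deg i))

/-- the monomials of weighted degree `m` -/
def monos (m : ℕ) : Set A := {x | ∃ e : Fin s → ℕ, ∑ i, e i * deg i = m ∧ x = ∏ i, f i ^ e i}

include hf in
lemma mono_mem (e : Fin s → ℕ) : ∏ i, f i ^ e i ∈ 𝒜 (∑ i, e i * deg i) := by
  have := SetLike.prod_pow_mem_graded 𝒜 deg f e (F := Finset.univ) (fun i _ => hf i)
  simpa [smul_eq_mul] using this

include hf in
lemma monos_le (m : ℕ) : Submodule.span R (monos f deg m) ≤ 𝒜 m := by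
  rw [Submodule.span_le]
  rintro x ⟨e, he, rfl⟩
  rw [← he]
  exact mono_mem 𝒜 f deg hf e

include hf in
/-- a homogeneous element of degree `m` is a combination of monomials of weighted degree `m` -/
theorem mem_span_monos (hgen : Algebra.adjoin R (Set.range f) = ⊤) (m : ℕ) (a : A)
    (ha : a ∈ 𝒜 m) : a ∈ Submodule.span R (monos f deg m) := by
  classical
  have h0 : a ∈ Submodule.span R (Submonoid.closure (Set.range f) : Set A) := by
    rw [← Algebra.adjoin_eq_span, hgen]; trivial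
  have key : ∀ x ∈ Submodule.span R (Submonoid.closure (Set.range f) : Set A),
      GradedAlgebra.proj 𝒜 m x ∈ Submodule.span R (monos f deg m) := by
    intro x hx
    induction hx using Submodule.span_induction with
    | mem x hx =>
      obtain ⟨e, rfl⟩ := Submonoid.exists_of_mem_closure_range f x hx
      have hmem := mono_mem 𝒜 f deg hf e
      rw [GradedAlgebra.proj_apply]
      by_cases hm : ∑ i, e i * deg i = m
      · rw [DirectSum.decompose_of_mem_same 𝒜 (hm ▸ hmem)]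
        exact Submodule.subset_span ⟨e, hm, rfl⟩
      · rw [DirectSum.decompose_of_mem_ne 𝒜 hmem hm]
        exact Submodule.zero_mem _
    | zero => rw [map_zero]; exact Submodule.zero_mem _
    | add x y _ _ hx hy => rw [map_add]; exact Submodule.add_mem _ hx hy
    | smul r x _ hx => rw [map_smul]; exact Submodule.smul_mem _ _ hx
  have h1 := key a h0
  rwa [GradedAlgebra.proj_apply, DirectSum.decompose_of_mem_same 𝒜 ha] at h1

/-- the restrictions to `W` of the global sections `b / 1` -/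
def gens (n : ℕ) (W : (Proj 𝒜).Opens) : Set Γ(Twist.twist 𝒜 (n : ℤ), W) :=
  Set.range fun b : 𝒜 n =>
    (Twist.twist 𝒜 (n : ℤ)).presheaf.map (homOfLE (le_top : W ≤ ⊤)).op (Twist.globalOf 𝒜 b)

lemma hij_aux (n j d : ℕ) : ((n + j * d : ℕ) : ℤ) = ((j * d : ℕ) : ℤ) + (n : ℤ) := by
  push_cast; ring

variable (hdeg : ∀ i, 0 < deg i)

include hf hdeg in
theorem mono_mem_span (n : ℕ) (hn : (s - 1) * (Finset.univ.lcm deg - 1) ≤ n) (j₀ : Fin s)
    (W : (Proj 𝒜).Opens)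
    (hWj : ∀ y : ProjectiveSpectrum.top 𝒜, y ∈ W → f j₀ ∉ y.asHomogeneousIdeal) (j : ℕ) (v : A)
    (hv : v ∈ 𝒜 (j * deg j₀))
    (hWv : ∀ y : ProjectiveSpectrum.top 𝒜, y ∈ W → v ∉ y.asHomogeneousIdeal)
    (e : Fin s → ℕ) (he : ∑ i, e i * deg i = n + j * deg j₀)
    (hx : ∏ i, f i ^ e i ∈ 𝒜 (n + j * deg j₀)) :
    fracSec 𝒜 (n : ℤ) W (∏ i, f i ^ e i) v hx hv (hij_aux n j (deg j₀)) hWv ∈
      Submodule.span Γ(Proj 𝒜, W) (gens 𝒜 n W) := by
  classical
  obtain ⟨b, c, β, hbc, hb, hc⟩ := SN250.exists_split deg hdeg j₀ n j hn e he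
  have hfb : ∏ i, f i ^ b i ∈ 𝒜 n := hb ▸ mono_mem 𝒜 f deg hf b
  have hfc : ∏ i, f i ^ c i ∈ 𝒜 ((j + β) * deg j₀) := hc ▸ mono_mem 𝒜 f deg hf c
  have hw : v * f j₀ ^ β ∈ 𝒜 ((j + β) * deg j₀) := by
    have h1 := SetLike.mul_mem_graded hv (SetLike.pow_mem_graded β (hf j₀))
    have h2 : j * deg j₀ + β • deg j₀ = (j + β) * deg j₀ := by rw [smul_eq_mul]; ring
    rwa [h2] at h1
  have hWw : ∀ y : ProjectiveSpectrum.top 𝒜, y ∈ W → v * f j₀ ^ β ∉ y.asHomogeneousIdeal :=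
    fun y hy h => (y.isPrime.mem_or_mem h).elim (hWv y hy)
      (fun h' => hWj y hy (y.isPrime.mem_of_pow_mem _ h'))
  have hW1 : ∀ y : ProjectiveSpectrum.top 𝒜, y ∈ W → (1 : A) ∉ y.asHomogeneousIdeal :=
    fun y _ h => y.isPrime.ne_top ((Ideal.eq_top_iff_one _).mpr h)
  have hid : (∏ i, f i ^ e i) * f j₀ ^ β = (∏ i, f i ^ b i) * ∏ i, f i ^ c i := by
    have h1 : ∏ i, f i ^ (if i = j₀ then β else 0) = f j₀ ^ β := by
      rw [Finset.prod_eq_single j₀]
      · simp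
      · intro i _ hi; simp [hi]
      · intro h; exact absurd (Finset.mem_univ _) h
    rw [← h1, ← Finset.prod_mul_distrib, ← Finset.prod_mul_distrib]
    refine Finset.prod_congr rfl (fun i _ => ?_)
    rw [← pow_add, ← pow_add, hbc i]
  have hid2 : (∏ i, f i ^ e i) * (v * f j₀ ^ β * 1) =
      ((∏ i, f i ^ c i) * ∏ i, f i ^ b i) * v := by
    calc (∏ i, f i ^ e i) * (v * f j₀ ^ β * 1) = v * ((∏ i, f i ^ e i) * f j₀ ^ β) := by ring
      _ = v * ((∏ i, f i ^ b i) * ∏ i, f i ^ c i) := by rw [hid]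
      _ = ((∏ i, f i ^ c i) * ∏ i, f i ^ b i) * v := by ring
  have hstep := fracSec_eq_smul 𝒜 (n : ℤ) W (∏ i, f i ^ c i) (v * f j₀ ^ β) (∏ i, f i ^ b i) 1
    (∏ i, f i ^ e i) v hfc hw hfb SetLike.GradedOne.one_mem (by simp) hx hv
    (hij_aux n j (deg j₀)) hWw hW1 hWv hid2
  rw [hstep]
  refine Submodule.smul_mem _ _ ?_
  rw [← res_globalOf 𝒜 W ⟨∏ i, f i ^ b i, hfb⟩]
  exact Submodule.subset_span ⟨⟨∏ i, f i ^ b i, hfb⟩, rfl⟩

include hf hdeg in
theorem mem_span_aux (n : ℕ) (hn : (s - 1) * (Finset.univ.lcm deg - 1) ≤ n) (j₀ : Fin s)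
    (W : (Proj 𝒜).Opens)
    (hWj : ∀ y : ProjectiveSpectrum.top 𝒜, y ∈ W → f j₀ ∉ y.asHomogeneousIdeal) (j : ℕ) (v : A)
    (hv : v ∈ 𝒜 (j * deg j₀))
    (hWv : ∀ y : ProjectiveSpectrum.top 𝒜, y ∈ W → v ∉ y.asHomogeneousIdeal)
    (x : A) (hxs : x ∈ Submodule.span R (monos f deg (n + j * deg j₀))) :
    ∀ hx : x ∈ 𝒜 (n + j * deg j₀),
      fracSec 𝒜 (n : ℤ) W x v hx hv (hij_aux n j (deg j₀)) hWv ∈
        Submodule.span Γ(Proj 𝒜, W) (gens 𝒜 n W) := by
  have hW1 : ∀ y : ProjectiveSpectrum.top 𝒜, y ∈ W → (1 : A) ∉ y.asHomogeneousIdeal :=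
    fun y _ h => y.isPrime.ne_top ((Ideal.eq_top_iff_one _).mpr h)
  induction hxs using Submodule.span_induction with
  | mem x hx =>
    obtain ⟨e, he, rfl⟩ := hx
    intro hx'
    exact mono_mem_span 𝒜 f deg hf hdeg n hn j₀ W hWj j v hv hWv e he hx'
  | zero =>
    intro hx
    rw [fracSec_zero]
    exact Submodule.zero_mem _
  | add x y hxs hys hx hy =>
    intro hxy
    have hx' := monos_le 𝒜 f deg hf _ hxs
    have hy' := monos_le 𝒜 f deg hf _ hys
    rw [fracSec_add 𝒜 (n : ℤ) W x y v hx' hy' hv (hij_aux n j (deg j₀)) hWv]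
    exact Submodule.add_mem _ (hx hx') (hy hy')
  | smul r x hxs hx =>
    intro hrx
    have hx' := monos_le 𝒜 f deg hf _ hxs
    have hstep := fracSec_eq_smul 𝒜 (n : ℤ) W (algebraMap R A r) 1 x v (r • x) v
      (SetLike.algebraMap_mem_graded 𝒜 r) SetLike.GradedOne.one_mem hx' hv
      (hij_aux n j (deg j₀)) hrx hv (hij_aux n j (deg j₀)) hW1 hWv hWv
      (by rw [one_mul, Algebra.smul_def])
    rw [hstep]
    exact Submodule.smul_mem _ _ (hx hx')

end Groth.Agent.Helper4.SN253
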