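import Mathlib
import Groth.Prelude.Def_ProjUP
import Groth.Agent.Helper4.SN247
import Groth.Agent.Helper4.SN253

/-!
# `O(n)` on `Proj B` is generated by the sections `b/1`, `b ∈ B_n`, for `n ≥ (s-1)(l-1)`
-/

set_option autoImplicit false

namespace Groth.Agent.Helper4.SN254

open CategoryTheory AlgebraicGeometry TopologicalSpace Opposite
open Groth.Agent.Helper4.SN252 Groth.Agent.Helper4.SN253

universe u

variable {R A : Type u} [CommRing R] [CommRing A] [Algebra R A] (𝒜 : ℕ → Submodule R A)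
  [GradedAlgebra 𝒜] {s : ℕ} (f : Fin s → A) (deg : Fin s → ℕ)

theorem main (hdeg : ∀ i, 0 < deg i) (hf : ∀ i, f i ∈ 𝒜 (deg i))
    (hgen : Algebra.adjoin R (Set.range f) = ⊤) (n : ℕ)
    (hn : (s - 1) * (Finset.univ.lcm deg - 1) ≤ n) :
    ProjUP.GeneratedBy (Twist.twist 𝒜 (n : ℤ))
      (fun b : 𝒜 n => (Twist.globalOf 𝒜 b : ProjUP.Γm (Twist.twist 𝒜 (n : ℤ)))) := by
  apply SN251.generatedBy_of_local_span
  intro x V hxV t
  have hcov : (⨆ i, Proj.basicOpen 𝒜 (f i)) = ⊤ :=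
    Proj.iSup_basicOpen_eq_top' 𝒜 f (fun i => ⟨deg i, hf i⟩)
      (SN247.adjoin_zero_eq_top 𝒜 f hgen)
  have hx : x ∈ (⨆ i, Proj.basicOpen 𝒜 (f i)) := by rw [hcov]; trivial
  obtain ⟨j₀, hj₀⟩ := Opens.mem_iSup.mp hx
  obtain ⟨Va, ma, ia, i, j, ⟨a, ha⟩, ⟨u, hu⟩, nin, hcase, hval⟩ :=
    (show Twist.sectN (𝒜 := 𝒜) (n : ℤ) (op V) from t).2 ⟨x, hxV⟩
  let W : (Proj 𝒜).Opens := (show (Proj 𝒜).Opens from Va) ⊓ Proj.basicOpen 𝒜 (f j₀)
  have hWV : W ≤ V := fun y hy => ia.le hy.1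
  have hWj : ∀ y : ProjectiveSpectrum.top 𝒜, y ∈ W → f j₀ ∉ y.asHomogeneousIdeal :=
    fun y hy => hy.2
  have hWu : ∀ y : ProjectiveSpectrum.top 𝒜, y ∈ W → u ∉ y.asHomogeneousIdeal :=
    fun y hy => nin ⟨y, hy.1⟩
  refine ⟨W, hWV, ⟨ma, hj₀⟩, ?_⟩
  have hvalW : ∀ (y : ProjectiveSpectrum.top 𝒜) (hy : y ∈ W),
      valAt 𝒜 (n : ℤ) W y hy ((Twist.twist 𝒜 (n : ℤ)).presheaf.map (homOfLE hWV).op t) =
        Localization.mk a ⟨u, hWu y hy⟩ := fun y hy => hval ⟨y, hy.1⟩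
  rcases hcase with hij | ha0
  · have hij' : i = j + n := by exact_mod_cast hij
    obtain ⟨d', hd'⟩ : ∃ d', deg j₀ = d' + 1 := Nat.exists_eq_succ_of_ne_zero (hdeg j₀).ne'
    have hv : u ^ deg j₀ ∈ 𝒜 (j * deg j₀) := by
      have := SetLike.pow_mem_graded (deg j₀) hu
      rwa [smul_eq_mul, mul_comm] at this
    have ha' : a * u ^ d' ∈ 𝒜 (n + j * deg j₀) := by
      have h1 := SetLike.mul_mem_graded ha (SetLike.pow_mem_graded d' hu)
      have h2 : i + d' • j = n + j * deg j₀ := by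
        rw [hij', hd', smul_eq_mul]; ring
      rwa [h2] at h1
    have hWv : ∀ y : ProjectiveSpectrum.top 𝒜, y ∈ W → u ^ deg j₀ ∉ y.asHomogeneousIdeal :=
      fun y hy h => hWu y hy (y.isPrime.mem_of_pow_mem _ h)
    have hres : (Twist.twist 𝒜 (n : ℤ)).presheaf.map (homOfLE hWV).op t =
        fracSec 𝒜 (n : ℤ) W (a * u ^ d') (u ^ deg j₀) ha' hv (hij_aux n j (deg j₀)) hWv := by
      apply sec_ext
      intro y hy
      rw [hvalW y hy, valAt_fracSec, Localization.mk_eq_mk_iff, Localization.r_iff_exists]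
      refine ⟨1, ?_⟩
      simp only [OneMemClass.coe_one, one_mul]
      rw [hd']
      ring
    rw [hres]
    exact mem_span_aux 𝒜 f deg hf hdeg n hn j₀ W hWj j (u ^ deg j₀) hv hWv (a * u ^ d')
      (mem_span_monos 𝒜 f deg hf hgen _ _ ha') ha'
  · have ha0' : a = 0 := ha0
    have hres : (Twist.twist 𝒜 (n : ℤ)).presheaf.map (homOfLE hWV).op t = 0 := by
      apply sec_ext
      intro y hy
      rw [hvalW y hy, valAt_zero, ha0', Localization.mk_zero]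
    rw [hres]
    exact Submodule.zero_mem _

end Groth.Agent.Helper4.SN254
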