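import Mathlib
import Groth.Agent.Helper4.SN200
import Groth.Agent.Helper1.GlueHom

/-!
# Morphisms out of a module with local frames
-/

set_option autoImplicit false
set_option linter.unusedSectionVars false
set_option linter.unusedVariables false

namespace Groth.Agent.Helper4.SN255

open CategoryTheory CategoryTheory.Limits AlgebraicGeometry TopologicalSpace Opposite
open Groth.Agent.Helper4.TwistExt Groth.Agent.Helper4.SN200 Groth.Agent.Helper1.GlueHom

universe u

variable {X : Scheme.{u}}

theorem coord_add {L : X.Modules} {T : X.Opens} {e : Γ(L, T)} (he : IsFrame L T e)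
    {W : X.Opens} (hW : W ≤ T) (m m' : Γ(L, W)) :
    coord he hW (m + m') = coord he hW m + coord he hW m' := by
  symm
  apply coord_unique
  rw [add_smul, ← coord_spec, ← coord_spec]

variable {N K : X.Modules} {E : Type*} (W : E → X.Opens) (e : ∀ k, Γ(N, W k))
  (he : ∀ k, IsFrame N (W k) (e k)) (m : ∀ k, Γ(K, W k))
  (hcompat : ∀ k l, coord (he l) (inf_le_right : W k ⊓ W l ≤ W l)
      (N.presheaf.map (homOfLE (inf_le_left : W k ⊓ W l ≤ W k)).op (e k)) •
        K.presheaf.map (homOfLE (inf_le_right : W k ⊓ W l ≤ W l)).op (m l) =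
      K.presheaf.map (homOfLE (inf_le_left : W k ⊓ W l ≤ W k)).op (m k))

/-- the local map attached to an index -/
noncomputable def tk (k : E) (V : X.Opens) (hV : V ≤ W k) : Γ(N, V) →+ Γ(K, V) where
  toFun s := coord (he k) hV s • K.presheaf.map (homOfLE hV).op (m k)
  map_zero' := by
    have : coord (he k) hV (0 : Γ(N, V)) = 0 := by
      symm; apply coord_unique; rw [zero_smul]
    rw [this, zero_smul]
  map_add' s s' := by rw [coord_add, add_smul]

include hcompat in
theorem tk_indep (k l : E) (V : X.Opens) (hk : V ≤ W k) (hl : V ≤ W l) (s : Γ(N, V)) :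
    tk W e he m k V hk s = tk W e he m l V hl s := by
  show coord (he k) hk s • K.presheaf.map (homOfLE hk).op (m k) =
    coord (he l) hl s • K.presheaf.map (homOfLE hl).op (m l)
  have hkl : V ≤ W k ⊓ W l := le_inf hk hl
  have h1 : coord (he l) hl s = coord (he k) hk s *
      X.presheaf.map (homOfLE hkl).op (coord (he l) (inf_le_right : W k ⊓ W l ≤ W l)
        (N.presheaf.map (homOfLE (inf_le_left : W k ⊓ W l ≤ W k)).op (e k))) := by
    have h2 := coord_spec (he k) hk s
    have h3 := congrArg (coord (he l) hl) h2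
    rw [coord_smul] at h3
    rw [h3]
    congr 1
    have h4 := coord_res (he l) (inf_le_right : W k ⊓ W l ≤ W l) hkl
      (N.presheaf.map (homOfLE (inf_le_left : W k ⊓ W l ≤ W k)).op (e k))
    rw [map_map] at h4
    exact h4
  rw [h1, mul_smul]
  congr 1
  have h5 := congrArg (K.presheaf.map (homOfLE hkl).op) (hcompat k l)
  rw [Groth.Agent.Helper4.QcohExt.res_smul, map_map, map_map] at h5
  exact h5.symm

include hcompat in
/-- **morphisms out of a module with local frames**: compatible families of sections of the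
target give a morphism -/
theorem exists_hom_of_frames (hcov : ⨆ k, W k = ⊤) :
    ∃ τ : N ⟶ K, ∀ k, τ.app (W k) (e k) = m k := by
  let t : ∀ V : Small W, Γ(N, V.1) →+ Γ(K, V.1) := fun V =>
    tk W e he m V.2.choose V.1 V.2.choose_spec
  have ht : ∀ (V : Small W) (k : E) (hk : V.1 ≤ W k) (s : Γ(N, V.1)),
      t V s = tk W e he m k V.1 hk s := fun V k hk s =>
    tk_indep W e he m hcompat _ k V.1 _ hk s
  have hnat : ∀ (V V' : Small W) (h : V'.1 ≤ V.1) (n : Γ(N, V.1)),
      K.presheaf.map (homOfLE h).op (t V n) = t V' (N.presheaf.map (homOfLE h).op n) := by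
    intro V V' h n
    obtain ⟨k, hk⟩ := V.2
    rw [ht V k hk, ht V' k (h.trans hk)]
    show K.presheaf.map (homOfLE h).op (coord (he k) hk n • K.presheaf.map (homOfLE hk).op (m k)) =
      coord (he k) (h.trans hk) (N.presheaf.map (homOfLE h).op n) •
        K.presheaf.map (homOfLE (h.trans hk)).op (m k)
    rw [Groth.Agent.Helper4.QcohExt.res_smul, map_map, coord_res]
  have hlin : ∀ (V : Small W) (c : Γ(X, V.1)) (n : Γ(N, V.1)), t V (c • n) = c • t V n := by
    intro V c n
    obtain ⟨k, hk⟩ := V.2
    rw [ht V k hk, ht V k hk]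
    show coord (he k) hk (c • n) • K.presheaf.map (homOfLE hk).op (m k) =
      c • (coord (he k) hk n • K.presheaf.map (homOfLE hk).op (m k))
    rw [coord_smul, mul_smul]
  obtain ⟨τ, hτ⟩ := exists_glue W t hnat hlin hcov
  refine ⟨τ, fun k => ?_⟩
  have h1 := hτ ⟨W k, k, le_rfl⟩ (e k)
  rw [h1, ht ⟨W k, k, le_rfl⟩ k le_rfl]
  show coord (he k) le_rfl (e k) • K.presheaf.map (homOfLE (le_refl (W k))).op (m k) = m k
  have h2 : coord (he k) (le_refl (W k)) (e k) = 1 := by
    symm
    apply coord_unique
    rw [one_smul]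
    change e k = N.presheaf.map (𝟙 _) (e k)
    rw [N.presheaf.map_id]; rfl
  rw [h2, one_smul]
  change K.presheaf.map (𝟙 _) (m k) = m k
  rw [K.presheaf.map_id]; rfl

end Groth.Agent.Helper4.SN255
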