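import Mathlib
import Groth.Agent.Helper4.SN200
import Groth.Agent.Helper4.SN252
import Groth.Agent.Helper1.TwistMul7

/-!
# Frames of the twisting sheaves `O(n)` on `Proj`
-/

set_option autoImplicit false
set_option linter.unusedSectionVars false
set_option linter.unusedVariables false

namespace Groth.Agent.Helper4.SN256

open CategoryTheory CategoryTheory.Limits AlgebraicGeometry TopologicalSpace Opposite
open Groth.Agent.Helper4.TwistExt Groth.Agent.Helper4.SN200 Groth.Agent.Helper4.SN252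
open Groth.Agent.Helper1.TwistMul

universe u

variable {R A : Type u} [CommRing R] [CommRing A] [Algebra R A] (𝒜 : ℕ → Submodule R A)
  [GradedAlgebra 𝒜]

/-- a fraction `a / b` with `a` and `b` vanishing nowhere on `W` is a frame of `O(n)` on `W` -/
theorem isFrame_fracSec (n : ℤ) (W : (Proj 𝒜).Opens) {i j : ℕ} (a b : A) (ha : a ∈ 𝒜 i)
    (hb : b ∈ 𝒜 j) (hij : (i : ℤ) = j + n)
    (hWa : ∀ y : ProjectiveSpectrum.top 𝒜, y ∈ W → a ∉ y.asHomogeneousIdeal)
    (hWb : ∀ y : ProjectiveSpectrum.top 𝒜, y ∈ W → b ∉ y.asHomogeneousIdeal) :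
    IsFrame (Twist.twist 𝒜 n) W (fracSec 𝒜 n W a b ha hb hij hWb) := by
  apply isFrame_of_bijective
  intro V hV
  let P : InvPair 𝒜 n V := InvPair.ofFrac 𝒜 n V a b ha hb hij
    (fun y hy => hWa y (hV hy)) (fun y hy => hWb y (hV hy))
  let τ := Groth.Agent.Helper1.TwistIso.twistIsoTilde 𝒜 n
  have hτ : τ.hom.app V ((Twist.twist 𝒜 n).presheaf.map (homOfLE hV).op
      (fracSec 𝒜 n W a b ha hb hij hWb)) = P.eΓ := rfl
  have hbij : Function.Bijective (τ.hom.app V) :=
    (ConcreteCategory.isIso_iff_bijective (τ.hom.app V)).mp inferInstance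
  have hcomp : (fun r : Γ(Proj 𝒜, V) => τ.hom.app V (r • (Twist.twist 𝒜 n).presheaf.map
      (homOfLE hV).op (fracSec 𝒜 n W a b ha hb hij hWb))) =
      fun r : Γ(Proj 𝒜, V) => r • P.eΓ := by
    funext r
    rw [Scheme.Modules.Hom.app_smul, hτ]
  have h1 : Function.Bijective (fun r : Γ(Proj 𝒜, V) => τ.hom.app V
      (r • (Twist.twist 𝒜 n).presheaf.map (homOfLE hV).op
        (fracSec 𝒜 n W a b ha hb hij hWb))) := by
    rw [hcomp]; exact P.smul_bijective
  exact (Function.Bijective.of_comp_iff' hbij _).mp h1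

end Groth.Agent.Helper4.SN256
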