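import Mathlib
import Groth.Prelude.Def_PCone

/-!
# The morphism `G(φ) ⟶ Proj 𝒜` attached to a graded homomorphism: preimages of basic opens
-/

set_option autoImplicit false
set_option linter.unusedSectionVars false
set_option linter.unusedVariables false

namespace Groth.Agent.Helper4.SN258

open CategoryTheory CategoryTheory.Limits AlgebraicGeometry TopologicalSpace Opposite
open HomogeneousLocalization

universe u

variable {R A : Type u} [CommRing R] [CommRing A] [Algebra R A] {𝒜 : ℕ → Submodule R A}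
  [GradedAlgebra 𝒜] {B : Type u} [CommRing B] [Algebra R B] {ℬ : ℕ → Submodule R B}
  [GradedAlgebra ℬ] (φ : 𝒜 →+*ᵍ ℬ)

theorem chart_ι {d : ℕ} {f : A} (hf : f ∈ 𝒜 d) (hd : 0 < d) :
    PCone.chart φ hf hd ≫ (PCone.dom φ).ι = Proj.awayι ℬ (φ f) (φ.2 hf) hd :=
  IsOpenImmersion.lift_fac _ _ _

/-- points of `G(φ)` over `D₊(φ f)` come from the chart -/
theorem exists_chart_eq {d : ℕ} {f : A} (hf : f ∈ 𝒜 d) (hd : 0 < d)
    (z : (PCone.dom φ : Scheme.{u})) (hz : (PCone.dom φ).ι z ∈ Proj.basicOpen ℬ (φ f)) :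
    ∃ z' : Spec (CommRingCat.of (Away ℬ (φ f))), PCone.chart φ hf hd z' = z := by
  rw [← Proj.opensRange_awayι ℬ (φ f) (φ.2 hf) hd] at hz
  obtain ⟨z', hz'⟩ := hz
  refine ⟨z', ?_⟩
  apply (PCone.dom φ).ι.injective
  rw [← hz', ← chart_ι φ hf hd]
  rfl

variable (p : (PCone.dom φ : Scheme.{u}) ⟶ Proj 𝒜)
  (hp : ∀ (d : ℕ) (f : A) (hd : 0 < d) (hf : f ∈ 𝒜 d),
    PCone.chart φ hf hd ≫ p =
      Spec.map (CommRingCat.ofHom (Away.map φ f)) ≫ Proj.awayι 𝒜 f hf hd)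

include hp in
theorem p_chart {d : ℕ} {f : A} (hf : f ∈ 𝒜 d) (hd : 0 < d)
    (z' : Spec (CommRingCat.of (Away ℬ (φ f)))) :
    p (PCone.chart φ hf hd z') =
      Proj.awayι 𝒜 f hf hd (Spec.map (CommRingCat.ofHom (Away.map φ f)) z') := by
  rw [← Scheme.Hom.comp_apply, hp d f hd hf, Scheme.Hom.comp_apply]

include hp in
/-- the easy inclusion -/
theorem preimage_ι_le {d : ℕ} {f : A} (hf : f ∈ 𝒜 d) (hd : 0 < d) :
    (PCone.dom φ).ι ⁻¹ᵁ Proj.basicOpen ℬ (φ f) ≤ p ⁻¹ᵁ Proj.basicOpen 𝒜 f := by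
  intro z hz
  obtain ⟨z', rfl⟩ := exists_chart_eq φ hf hd z hz
  show p (PCone.chart φ hf hd z') ∈ Proj.basicOpen 𝒜 f
  rw [p_chart φ p hp hf hd, ← Proj.opensRange_awayι 𝒜 f hf hd]
  exact ⟨_, rfl⟩

include hp in
/-- the other inclusion -/
theorem preimage_p_le {e : ℕ} {g : A} (hg : g ∈ 𝒜 e) (he : 0 < e) :
    p ⁻¹ᵁ Proj.basicOpen 𝒜 g ≤ (PCone.dom φ).ι ⁻¹ᵁ Proj.basicOpen ℬ (φ g) := by
  intro z hz
  have hzdom : (PCone.dom φ).ι z ∈ PCone.dom φ := z.2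
  obtain ⟨⟨f, d, hd, hf⟩, hzf⟩ := Opens.mem_iSup.mp hzdom
  obtain ⟨z', rfl⟩ := exists_chart_eq φ hf hd z hzf
  have h1 : p (PCone.chart φ hf hd z') ∈ Proj.basicOpen 𝒜 g := hz
  rw [p_chart φ p hp hf hd] at h1
  have h2 : Spec.map (CommRingCat.ofHom (Away.map φ f)) z' ∈
      Proj.awayι 𝒜 f hf hd ⁻¹ᵁ Proj.basicOpen 𝒜 g := h1
  rw [Proj.awayι_preimage_basicOpen 𝒜 hf hd hg he] at h2
  have h3 : z' ∈ Spec.map (CommRingCat.ofHom (Away.map φ f)) ⁻¹ᵁ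
      PrimeSpectrum.basicOpen (Away.isLocalizationElem hf hg) := h2
  have h4 : Spec.map (CommRingCat.ofHom (Away.map φ f)) ⁻¹ᵁ
      PrimeSpectrum.basicOpen (Away.isLocalizationElem hf hg) =
      PrimeSpectrum.basicOpen (Away.isLocalizationElem (φ.2 hf) (φ.2 hg)) := by
    have h5 : Away.map φ f (Away.isLocalizationElem hf hg) =
        Away.isLocalizationElem (φ.2 hf) (φ.2 hg) := by
      unfold Away.isLocalizationElem
      rw [Away.map_mk]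
      congr 1
      exact map_pow φ g d
    rw [← h5]
    rfl
  rw [h4, ← Proj.awayι_preimage_basicOpen ℬ (φ.2 hf) hd (φ.2 hg) he] at h3
  show (PCone.dom φ).ι (PCone.chart φ hf hd z') ∈ Proj.basicOpen ℬ (φ g)
  have h6 : (PCone.dom φ).ι (PCone.chart φ hf hd z') = Proj.awayι ℬ (φ f) (φ.2 hf) hd z' := by
    rw [← chart_ι φ hf hd]; rfl
  rw [h6]
  exact h3

include hp in
theorem preimage_p_eq {e : ℕ} {g : A} (hg : g ∈ 𝒜 e) (he : 0 < e) :
    p ⁻¹ᵁ Proj.basicOpen 𝒜 g = (PCone.dom φ).ι ⁻¹ᵁ Proj.basicOpen ℬ (φ g) :=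
  le_antisymm (preimage_p_le φ p hp hg he) (preimage_ι_le φ p hp hg he)

end Groth.Agent.Helper4.SN258
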