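import Mathlib
import Groth.Prelude.Def_PCone
import Groth.Agent.Helper4.SN258

/-!
# The morphism `G(φ) ⟶ Proj 𝒜` attached to a graded homomorphism: the comorphism on the charts
-/

set_option autoImplicit false
set_option linter.unusedSectionVars false
set_option linter.unusedVariables false

namespace Groth.Agent.Helper4.SN259

open CategoryTheory CategoryTheory.Limits AlgebraicGeometry TopologicalSpace Opposite
open HomogeneousLocalization Groth.Agent.Helper4.SN258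

universe u

section F1

variable {R A : Type u} [CommRing R] [CommRing A] [Algebra R A] (𝒜 : ℕ → Submodule R A)
  [GradedAlgebra 𝒜]

set_option backward.isDefEq.respectTransparency false in
theorem awayToSection_appLE {d : ℕ} {f : A} (hf : f ∈ 𝒜 d) (hd : 0 < d)
    (e : (⊤ : (Spec (CommRingCat.of (Away 𝒜 f))).Opens) ≤
      Proj.awayι 𝒜 f hf hd ⁻¹ᵁ Proj.basicOpen 𝒜 f) :
    Proj.awayToSection 𝒜 f ≫ (Proj.awayι 𝒜 f hf hd).appLE (Proj.basicOpen 𝒜 f) ⊤ e =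
      (Scheme.ΓSpecIso _).inv := by
  have h1 := Proj.basicOpenToSpec_app_top 𝒜 f
  rw [← Iso.inv_comp_eq, Iso.eq_comp_inv] at h1
  rw [← h1]
  simp only [Category.assoc]
  rw [← Proj.basicOpenIsoSpec_hom 𝒜 f hf hd]
  have h3 : (Proj.awayι 𝒜 f hf hd).appLE (Proj.basicOpen 𝒜 f) ⊤ e =
      (Proj.basicOpen 𝒜 f).ι.appLE (Proj.basicOpen 𝒜 f) ⊤ (by simp) ≫
        (Proj.basicOpenIsoSpec 𝒜 f hf hd).inv.appLE ⊤ ⊤ (by simp) := by
    rw [Scheme.Hom.appLE_comp_appLE]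
    rfl
  rw [h3]
  have h4 : (Proj.basicOpen 𝒜 f).topIso.hom ≫
      (Proj.basicOpen 𝒜 f).ι.appLE (Proj.basicOpen 𝒜 f) ⊤ (by simp) = 𝟙 _ := by
    rw [Scheme.Opens.topIso_hom, Scheme.Opens.ι_appLE, ← Functor.map_comp]
    exact (congrArg _ (Subsingleton.elim _ _)).trans ((Proj 𝒜).presheaf.map_id _)
  have h5 : Scheme.Hom.app (Proj.basicOpenIsoSpec 𝒜 f hf hd).hom ⊤ ≫
      Scheme.Hom.appLE (Proj.basicOpenIsoSpec 𝒜 f hf hd).inv ⊤ ⊤ (by simp) = 𝟙 _ := by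
    have h6 : Scheme.Hom.appLE (Proj.basicOpenIsoSpec 𝒜 f hf hd).inv ⊤ ⊤ (by simp) =
        (Proj.basicOpenIsoSpec 𝒜 f hf hd).inv.appTop := by
      simp [Scheme.Hom.appLE]
    rw [h6]
    have h7 := Scheme.Hom.comp_appTop (Proj.basicOpenIsoSpec 𝒜 f hf hd).inv
      (Proj.basicOpenIsoSpec 𝒜 f hf hd).hom
    rw [Iso.inv_hom_id] at h7
    exact h7.symm.trans Scheme.Hom.id_appTop
  rw [reassoc_of% h4, h5, Category.comp_id]

end F1

variable {R A : Type u} [CommRing R] [CommRing A] [Algebra R A] {𝒜 : ℕ → Submodule R A}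
  [GradedAlgebra 𝒜] {B : Type u} [CommRing B] [Algebra R B] {ℬ : ℕ → Submodule R B}
  [GradedAlgebra ℬ] (φ : 𝒜 →+*ᵍ ℬ)

theorem appLE_congr_hom {X Y : Scheme.{u}} {q q' : X ⟶ Y} (h : q = q') (U : Y.Opens)
    (V : X.Opens) (e : V ≤ q ⁻¹ᵁ U) : q.appLE U V e = q'.appLE U V (h ▸ e) := by
  subst h; rfl

variable (p : (PCone.dom φ : Scheme.{u}) ⟶ Proj 𝒜)
  (hp : ∀ (d : ℕ) (f : A) (hd : 0 < d) (hf : f ∈ 𝒜 d),
    PCone.chart φ hf hd ≫ p =
      Spec.map (CommRingCat.ofHom (Away.map φ f)) ≫ Proj.awayι 𝒜 f hf hd)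

include hp in
/-- **the comorphism of `p` over a chart** is the map of degree-zero localisations induced by
`φ` -/
theorem awayToSection_comp_appLE {d : ℕ} {f : A} (hf : f ∈ 𝒜 d) (hd : 0 < d) :
    Proj.awayToSection 𝒜 f ≫ p.appLE (Proj.basicOpen 𝒜 f)
        ((PCone.dom φ).ι ⁻¹ᵁ Proj.basicOpen ℬ (φ f)) (preimage_ι_le φ p hp hf hd) =
      CommRingCat.ofHom (Away.map φ f) ≫ Proj.awayToSection ℬ (φ f) ≫
        (PCone.dom φ).ι.app (Proj.basicOpen ℬ (φ f)) := by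
  set c := PCone.chart φ hf hd with hc
  set P := (PCone.dom φ).ι ⁻¹ᵁ Proj.basicOpen ℬ (φ f) with hP
  have hci : IsOpenImmersion (c ≫ (PCone.dom φ).ι) := by
    rw [hc, chart_ι]; infer_instance
  have hci' : IsOpenImmersion c := IsOpenImmersion.of_comp c (PCone.dom φ).ι
  have hPc : P ≤ c.opensRange := by
    intro z hz
    obtain ⟨z', hz'⟩ := exists_chart_eq φ hf hd z hz
    exact ⟨z', hz'⟩
  have : IsIso (c.app P) := Scheme.Hom.isIso_app c P hPc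
  rw [← cancel_mono (c.app P)]
  have htop : c ⁻¹ᵁ P = ⊤ := by
    ext z'
    simp only [Opens.coe_top, Set.mem_univ, iff_true]
    show (PCone.dom φ).ι (c z') ∈ Proj.basicOpen ℬ (φ f)
    have : (PCone.dom φ).ι (c z') = Proj.awayι ℬ (φ f) (φ.2 hf) hd z' := by
      rw [← chart_ι φ hf hd]; rfl
    rw [this, ← Proj.opensRange_awayι ℬ (φ f) (φ.2 hf) hd]
    exact ⟨z', rfl⟩
  -- the left hand side
  have hL : p.appLE (Proj.basicOpen 𝒜 f) P (preimage_ι_le φ p hp hf hd) ≫ c.app P =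
      (Proj.awayι 𝒜 f hf hd).appLE (Proj.basicOpen 𝒜 f) ⊤
        (by rw [← Proj.opensRange_awayι 𝒜 f hf hd]; intro z _; exact ⟨z, rfl⟩) ≫
      (Spec.map (CommRingCat.ofHom (Away.map φ f))).appLE ⊤ (c ⁻¹ᵁ P) le_top := by
    rw [Scheme.Hom.app_eq_appLE, Scheme.Hom.appLE_comp_appLE, Scheme.Hom.appLE_comp_appLE]
    exact appLE_congr_hom (hp d f hd hf) _ _ _
  -- the right hand side
  have hR : (PCone.dom φ).ι.app (Proj.basicOpen ℬ (φ f)) ≫ c.app P =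
      (Proj.awayι ℬ (φ f) (φ.2 hf) hd).appLE (Proj.basicOpen ℬ (φ f)) ⊤
        (by rw [← Proj.opensRange_awayι ℬ (φ f) (φ.2 hf) hd]; intro z _; exact ⟨z, rfl⟩) ≫
      (Spec (CommRingCat.of (Away ℬ (φ f)))).presheaf.map (homOfLE (le_top : c ⁻¹ᵁ P ≤ ⊤)).op := by
    rw [Scheme.Hom.app_eq_appLE, Scheme.Hom.app_eq_appLE, Scheme.Hom.appLE_comp_appLE,
      Scheme.Hom.appLE_map]
    exact appLE_congr_hom (chart_ι φ hf hd) _ _ _
  rw [Category.assoc, hL, Category.assoc, Category.assoc, hR]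
  rw [← Category.assoc (Proj.awayToSection 𝒜 f), awayToSection_appLE 𝒜 hf hd]
  rw [← Category.assoc (Proj.awayToSection ℬ (φ f)), awayToSection_appLE ℬ (f := φ f) (φ.2 hf) hd]
  have h8 : (Spec.map (CommRingCat.ofHom (Away.map φ f))).appLE ⊤ (c ⁻¹ᵁ P) le_top =
      (Spec.map (CommRingCat.ofHom (Away.map φ f))).appTop ≫
        (Spec (CommRingCat.of (Away ℬ (φ f)))).presheaf.map
          (homOfLE (le_top : c ⁻¹ᵁ P ≤ ⊤)).op := rfl
  rw [h8, ← Category.assoc, ← Scheme.ΓSpecIso_inv_naturality, Category.assoc]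

end Groth.Agent.Helper4.SN259
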