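import Mathlib
import Groth.Prelude.Def_ProjUP
import Groth.Agent.Helper4.SN256

/-!
# The standard frames of `O(n)` on the opens `D₊(g)`, `g` of degree one, and their ratios
-/

set_option autoImplicit false
set_option linter.unusedSectionVars false
set_option linter.unusedVariables false

namespace Groth.Agent.Helper4.SN260

open CategoryTheory CategoryTheory.Limits AlgebraicGeometry TopologicalSpace Opposite
open HomogeneousLocalization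
open Groth.Agent.Helper4.TwistExt Groth.Agent.Helper4.SN200 Groth.Agent.Helper4.SN252
  Groth.Agent.Helper4.SN256

universe u

variable {R A : Type u} [CommRing R] [CommRing A] [Algebra R A] (𝒜 : ℕ → Submodule R A)
  [GradedAlgebra 𝒜]

lemma pow_mem_one {g : A} (hg : g ∈ 𝒜 1) (k : ℕ) : g ^ k ∈ 𝒜 k := by
  have := SetLike.pow_mem_graded k hg
  rwa [smul_eq_mul, mul_one] at this

lemma hnn (n : ℤ) : ((n.toNat : ℕ) : ℤ) = (((-n).toNat : ℕ) : ℤ) + n := by omega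

lemma pow_notMem {g : A} {W : (Proj 𝒜).Opens} (hW : W ≤ Proj.basicOpen 𝒜 g) (k : ℕ)
    (y : ProjectiveSpectrum.top 𝒜) (hy : y ∈ W) : g ^ k ∉ y.asHomogeneousIdeal :=
  fun h => (hW hy) (y.isPrime.mem_of_pow_mem _ h)

/-- the standard section `g ^ n` of `O(n)` on an open contained in `D₊(g)` -/
noncomputable def stdSec (n : ℤ) (W : (Proj 𝒜).Opens) {g : A} (hg : g ∈ 𝒜 1)
    (hW : W ≤ Proj.basicOpen 𝒜 g) : Γ(Twist.twist 𝒜 n, W) :=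
  fracSec 𝒜 n W (g ^ n.toNat) (g ^ (-n).toNat) (pow_mem_one 𝒜 hg _) (pow_mem_one 𝒜 hg _)
    (hnn n) (pow_notMem 𝒜 hW _)

theorem isFrame_stdSec (n : ℤ) (W : (Proj 𝒜).Opens) {g : A} (hg : g ∈ 𝒜 1)
    (hW : W ≤ Proj.basicOpen 𝒜 g) : IsFrame (Twist.twist 𝒜 n) W (stdSec 𝒜 n W hg hW) :=
  isFrame_fracSec 𝒜 n W _ _ _ _ _ (pow_notMem 𝒜 hW _) (pow_notMem 𝒜 hW _)

theorem res_stdSec (n : ℤ) {W W' : (Proj 𝒜).Opens} (h : W' ≤ W) {g : A} (hg : g ∈ 𝒜 1)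
    (hW : W ≤ Proj.basicOpen 𝒜 g) :
    (Twist.twist 𝒜 n).presheaf.map (homOfLE h).op (stdSec 𝒜 n W hg hW) =
      stdSec 𝒜 n W' hg (h.trans hW) := rfl

/-- the value of a restriction of a section `a / f ^ k` of the structure sheaf -/
theorem val_awayToSection_mk {d : ℕ} {f : A} (hf : f ∈ 𝒜 d) (k : ℕ) (a : A)
    (ha : a ∈ 𝒜 (k • d)) (W : (Proj 𝒜).Opens) (hW : W ≤ Proj.basicOpen 𝒜 f)
    (y : ProjectiveSpectrum.top 𝒜) (hy : y ∈ W) :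
    ((show Twist.O (𝒜 := 𝒜) (op W) from (Proj 𝒜).presheaf.map (homOfLE hW).op
      ((Proj.awayToSection 𝒜 f).hom (Away.mk 𝒜 hf k a ha))).1 ⟨y, hy⟩).val =
      Localization.mk a (⟨f ^ k, pow_notMem 𝒜 hW k y hy⟩ :
        y.asHomogeneousIdeal.toIdeal.primeCompl) := by
  change (HomogeneousLocalization.mapId 𝒜 _ (Away.mk 𝒜 hf k a ha)).val = _
  unfold Away.mk HomogeneousLocalization.mapId
  rw [HomogeneousLocalization.map_mk, HomogeneousLocalization.val_mk]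
  rfl

/-- the basic relation between fractions, the ratio being given as a section over `D₊(f)` -/
theorem fracSec_eq_away_smul (n : ℤ) {d : ℕ} {f : A} (hf : f ∈ 𝒜 d) (k : ℕ) (a : A)
    (ha : a ∈ 𝒜 (k • d)) (W : (Proj 𝒜).Opens) (hW : W ≤ Proj.basicOpen 𝒜 f)
    {i₁ j₁ i₂ j₂ : ℕ} (a₁ b₁ a₂ b₂ : A)
    (ha₁ : a₁ ∈ 𝒜 i₁) (hb₁ : b₁ ∈ 𝒜 j₁) (h₁ : (i₁ : ℤ) = j₁ + n)
    (ha₂ : a₂ ∈ 𝒜 i₂) (hb₂ : b₂ ∈ 𝒜 j₂) (h₂ : (i₂ : ℤ) = j₂ + n)
    (hW₁ : ∀ y : ProjectiveSpectrum.top 𝒜, y ∈ W → b₁ ∉ y.asHomogeneousIdeal)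
    (hW₂ : ∀ y : ProjectiveSpectrum.top 𝒜, y ∈ W → b₂ ∉ y.asHomogeneousIdeal)
    (h : a₁ * (f ^ k * b₂) = (a * a₂) * b₁) :
    fracSec 𝒜 n W a₁ b₁ ha₁ hb₁ h₁ hW₁ =
      ((Proj 𝒜).presheaf.map (homOfLE hW).op
        ((Proj.awayToSection 𝒜 f).hom (Away.mk 𝒜 hf k a ha)) : Γ(Proj 𝒜, W)) •
      fracSec 𝒜 n W a₂ b₂ ha₂ hb₂ h₂ hW₂ := by
  apply sec_ext
  intro y hy
  rw [valAt_smul, valAt_fracSec, valAt_fracSec, val_awayToSection_mk 𝒜 hf k a ha W hW y hy,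
    Localization.mk_mul, Localization.mk_eq_mk_iff, Localization.r_iff_exists]
  refine ⟨1, ?_⟩
  simp only [OneMemClass.coe_one, one_mul, Submonoid.coe_mul]
  rw [mul_comm (f ^ k * b₂) a₁, h, mul_comm]

end Groth.Agent.Helper4.SN260
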