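import Mathlib
import Groth.Prelude.Def_PCone
import Groth.Prelude.Def_ProjUP
import Groth.Agent.Helper4.SN255
import Groth.Agent.Helper4.SN257
import Groth.Agent.Helper4.SN259
import Groth.Agent.Helper4.SN260
import Groth.Agent.Helper3.PullCrit

/-!
# The inverse image of `O(n)` along the morphism `G(φ) ⟶ Proj 𝒜` attached to a graded
homomorphism `φ : 𝒜 → ℬ` is the restriction of `O(n)` from `Proj ℬ`
-/

set_option autoImplicit false
set_option linter.unusedSectionVars false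
set_option linter.unusedVariables false

namespace Groth.Agent.Helper4.SN261

open CategoryTheory CategoryTheory.Limits AlgebraicGeometry TopologicalSpace Opposite
open HomogeneousLocalization
open Groth.Agent.Helper4.TwistExt Groth.Agent.Helper4.SN200 Groth.Agent.Helper4.SN252
  Groth.Agent.Helper4.SN256 Groth.Agent.Helper4.SN258 Groth.Agent.Helper4.SN259
  Groth.Agent.Helper4.SN260

universe u

variable {R A : Type u} [CommRing R] [CommRing A] [Algebra R A] {𝒜 : ℕ → Submodule R A}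
  [GradedAlgebra 𝒜] {B : Type u} [CommRing B] [Algebra R B] {ℬ : ℕ → Submodule R B}
  [GradedAlgebra ℬ] (φ : 𝒜 →+*ᵍ ℬ)
  (p : (PCone.dom φ : Scheme.{u}) ⟶ Proj 𝒜)
  (hp : ∀ (d : ℕ) (f : A) (hd : 0 < d) (hf : f ∈ 𝒜 d),
    PCone.chart φ hf hd ≫ p =
      Spec.map (CommRingCat.ofHom (Away.map φ f)) ≫ Proj.awayι 𝒜 f hf hd)

theorem opens_appIso_inv {X : Scheme.{u}} (U : X.Opens) (V : (U : Scheme.{u}).Opens)
    (r : Γ((U : Scheme.{u}), V)) : (U.ι.appIso V).inv.hom r = r := by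
  rw [Scheme.Opens.ι_appIso]
  rfl

include hp in
/-- the comorphism of `p` on restrictions of sections over a chart -/
theorem app_res_awayToSection {d : ℕ} {f : A} (hf : f ∈ 𝒜 d) (hd : 0 < d)
    (V : (Proj 𝒜).Opens) (hV : V ≤ Proj.basicOpen 𝒜 f) (x : Away 𝒜 f) :
    (p.app V).hom ((Proj 𝒜).presheaf.map (homOfLE hV).op ((Proj.awayToSection 𝒜 f).hom x)) =
      (PCone.dom φ : Scheme.{u}).presheaf.map
        (homOfLE (show p ⁻¹ᵁ V ≤ (PCone.dom φ).ι ⁻¹ᵁ Proj.basicOpen ℬ (φ f) from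
          fun z hz => preimage_p_le φ p hp hf hd (hV hz))).op
        (((PCone.dom φ).ι.app (Proj.basicOpen ℬ (φ f))).hom
          ((Proj.awayToSection ℬ (φ f)).hom (Away.map φ f x))) := by
  have h := congrArg (fun ψ => ψ.hom x) (awayToSection_comp_appLE φ p hp hf hd)
  simp only [CommRingCat.hom_comp, RingHom.comp_apply, CommRingCat.hom_ofHom] at h
  rw [← h]
  have h1 : (Proj 𝒜).presheaf.map (homOfLE hV).op ≫ p.app V =
      p.appLE (Proj.basicOpen 𝒜 f) ((PCone.dom φ).ι ⁻¹ᵁ Proj.basicOpen ℬ (φ f))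
        (preimage_ι_le φ p hp hf hd) ≫
      (PCone.dom φ : Scheme.{u}).presheaf.map
        (homOfLE (show p ⁻¹ᵁ V ≤ (PCone.dom φ).ι ⁻¹ᵁ Proj.basicOpen ℬ (φ f) from
          fun z hz => preimage_p_le φ p hp hf hd (hV hz))).op := by
    rw [Scheme.Hom.app_eq_appLE, Scheme.Hom.map_appLE, Scheme.Hom.appLE_map]
  exact congrArg (fun ψ => ψ.hom ((Proj.awayToSection 𝒜 f).hom x)) h1

/-- the ratio of the standard sections attached to `g` and `h` -/
noncomputable def ratioElem (n : ℤ) {g h : A} (hg : g ∈ 𝒜 1) (hh : h ∈ 𝒜 1) : Away 𝒜 (g * h) :=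
  Away.mk 𝒜 (SetLike.mul_mem_graded hg hh) (n.toNat + (-n).toNat)
    (g ^ (2 * n.toNat) * h ^ (2 * (-n).toNat)) (by
      have h1 := SetLike.mul_mem_graded (pow_mem_one 𝒜 hg (2 * n.toNat))
        (pow_mem_one 𝒜 hh (2 * (-n).toNat))
      have h2 : 2 * n.toNat + 2 * (-n).toNat = (n.toNat + (-n).toNat) • (1 + 1) := by
        rw [smul_eq_mul]; ring
      rwa [h2] at h1)

theorem stdSec_eq_ratio_smul (n : ℤ) (W : (Proj 𝒜).Opens) {g h : A} (hg : g ∈ 𝒜 1)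
    (hh : h ∈ 𝒜 1) (hWg : W ≤ Proj.basicOpen 𝒜 g) (hWh : W ≤ Proj.basicOpen 𝒜 h)
    (hWgh : W ≤ Proj.basicOpen 𝒜 (g * h)) :
    stdSec 𝒜 n W hg hWg =
      ((Proj 𝒜).presheaf.map (homOfLE hWgh).op
        ((Proj.awayToSection 𝒜 (g * h)).hom (ratioElem n hg hh)) : Γ(Proj 𝒜, W)) •
      stdSec 𝒜 n W hh hWh := by
  unfold stdSec ratioElem
  apply fracSec_eq_away_smul
  ring

include hp in
theorem main (hgen : (HomogeneousIdeal.irrelevant 𝒜).toIdeal = Ideal.span (𝒜 1 : Set A))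
    (n : ℤ) :
    Nonempty ((Scheme.Modules.pullback p).obj (Twist.twist 𝒜 n) ≅
      (Twist.twist ℬ n).restrict (PCone.dom φ).ι) := by
  have hcov : (⨆ g : 𝒜 1, Proj.basicOpen 𝒜 (g : A)) = ⊤ :=
    Groth.Agent.Helper1.TwistMul.iSup_eq_top_of_hgen 𝒜 hgen
  set ι := (PCone.dom φ).ι with hι
  let L := Twist.twist 𝒜 n
  let M := (Twist.twist ℬ n).restrict ι
  let K := (Scheme.Modules.pushforward p).obj M
  -- the opens
  let D : 𝒜 1 → (Proj 𝒜).Opens := fun g => Proj.basicOpen 𝒜 (g : A)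
  have hD' : ∀ (V : (Proj 𝒜).Opens) (g : 𝒜 1), V ≤ D g →
      ι ''ᵁ (p ⁻¹ᵁ V) ≤ Proj.basicOpen ℬ (φ g) := by
    rintro V g hV _ ⟨z, hz, rfl⟩
    exact preimage_p_le φ p hp g.2 one_pos (hV hz)
  -- invertibility
  have hL : PicF.IsInvertible L := Groth.Agent.Helper1.TwistMul.isInvertible_twist 𝒜 hcov n
  have hM : PicF.IsInvertible M := by
    apply Groth.Agent.Helper4.SN257.isInvertible_restrict_of_local
    intro z
    have hz : p z ∈ (⨆ g : 𝒜 1, Proj.basicOpen 𝒜 (g : A)) := by rw [hcov]; trivial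
    obtain ⟨g, hg⟩ := Opens.mem_iSup.mp hz
    refine ⟨Proj.basicOpen ℬ (φ g), preimage_p_le φ p hp g.2 one_pos hg, ?_⟩
    obtain ⟨P⟩ := Groth.Agent.Helper1.TwistMul.nonempty_invPair_of_degOne ℬ
      (Proj.basicOpen ℬ (φ g)) (φ g) (φ.2 g.2) le_rfl n
    exact P.nonempty_iso_twist
  -- the frames
  let e : ∀ g : 𝒜 1, Γ(L, D g) := fun g => stdSec 𝒜 n (D g) g.2 le_rfl
  have he : ∀ g, IsFrame L (D g) (e g) := fun g => isFrame_stdSec 𝒜 n (D g) g.2 le_rfl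
  let m : ∀ g : 𝒜 1, Γ(K, D g) := fun g =>
    (show Γ(Twist.twist ℬ n, ι ''ᵁ (p ⁻¹ᵁ D g)) from
      stdSec ℬ n (ι ''ᵁ (p ⁻¹ᵁ D g)) (g := φ g) (φ.2 g.2) (hD' (D g) g le_rfl))
  have hcompat : ∀ g h : 𝒜 1, coord (he h) (inf_le_right : D g ⊓ D h ≤ D h)
      (L.presheaf.map (homOfLE (inf_le_left : D g ⊓ D h ≤ D g)).op (e g)) •
        K.presheaf.map (homOfLE (inf_le_right : D g ⊓ D h ≤ D h)).op (m h) =
      K.presheaf.map (homOfLE (inf_le_left : D g ⊓ D h ≤ D g)).op (m g) := by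
    intro g h
    have hVgh : D g ⊓ D h ≤ Proj.basicOpen 𝒜 ((g : A) * (h : A)) := by
      rw [Proj.basicOpen_mul]
    obtain ⟨ρ, hρ⟩ : ∃ ρ : Γ(Proj 𝒜, D g ⊓ D h), ρ = (Proj 𝒜).presheaf.map (homOfLE hVgh).op
      ((Proj.awayToSection 𝒜 ((g : A) * (h : A))).hom (ratioElem n g.2 h.2)) := ⟨_, rfl⟩
    have h1 : L.presheaf.map (homOfLE (inf_le_left : D g ⊓ D h ≤ D g)).op (e g) =
        ρ • L.presheaf.map (homOfLE (inf_le_right : D g ⊓ D h ≤ D h)).op (e h) := by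
      rw [hρ]
      exact stdSec_eq_ratio_smul n (D g ⊓ D h) g.2 h.2 inf_le_left inf_le_right hVgh
    have h2 : ρ = coord (he h) (inf_le_right : D g ⊓ D h ≤ D h)
        (L.presheaf.map (homOfLE (inf_le_left : D g ⊓ D h ≤ D g)).op (e g)) :=
      coord_unique (he h) _ _ ρ h1
    rw [← h2]
    -- the equation in `O(n)` on `Proj ℬ`
    have hVle : ι ''ᵁ (p ⁻¹ᵁ (D g ⊓ D h)) ≤ Proj.basicOpen ℬ (φ ((g : A) * (h : A))) := by
      rintro _ ⟨z, hz, rfl⟩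
      exact preimage_p_le φ p hp (SetLike.mul_mem_graded g.2 h.2) (by omega) (hVgh hz)
    have h3 : (ι.appIso (p ⁻¹ᵁ (D g ⊓ D h))).inv.hom ((p.app (D g ⊓ D h)).hom ρ) =
        (Proj ℬ).presheaf.map (homOfLE hVle).op
          ((Proj.awayToSection ℬ (φ ((g : A) * (h : A)))).hom
            (Away.map φ ((g : A) * (h : A)) (ratioElem n g.2 h.2))) := by
      rw [hρ, app_res_awayToSection φ p hp (SetLike.mul_mem_graded g.2 h.2) (by omega)]
      refine (opens_appIso_inv (PCone.dom φ) _ _).trans ?_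
      rfl
    change ((ι.appIso (p ⁻¹ᵁ (D g ⊓ D h))).inv.hom ((p.app (D g ⊓ D h)).hom ρ)) •
        stdSec ℬ n (ι ''ᵁ (p ⁻¹ᵁ (D g ⊓ D h))) (g := φ h) (φ.2 h.2) (hD' _ h inf_le_right) =
      stdSec ℬ n (ι ''ᵁ (p ⁻¹ᵁ (D g ⊓ D h))) (g := φ g) (φ.2 g.2) (hD' _ g inf_le_left)
    rw [h3]
    symm
    unfold stdSec ratioElem
    rw [Away.map_mk]
    apply fracSec_eq_away_smul
    simp only [map_mul, map_pow]
    ring
  obtain ⟨ψ, hψ⟩ := Groth.Agent.Helper4.SN255.exists_hom_of_frames D e he m hcompat hcov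
  refine Groth.Agent.Helper3.PullCrit.nonempty_iso_of_frames p L hL M hM ψ ?_
  intro y
  have hy : y ∈ (⨆ g : 𝒜 1, Proj.basicOpen 𝒜 (g : A)) := by rw [hcov]; trivial
  obtain ⟨g, hg⟩ := Opens.mem_iSup.mp hy
  refine ⟨D g, e g, hg, ?_⟩
  intro W' hW' ℓ
  rw [hψ g]
  have hfr : IsFrame M (p ⁻¹ᵁ D g) (show Γ(M, p ⁻¹ᵁ D g) from m g) :=
    Groth.Agent.Helper4.SN257.isFrame_restrict ι (Twist.twist ℬ n) (p ⁻¹ᵁ D g) _
      (isFrame_stdSec ℬ n (ι ''ᵁ (p ⁻¹ᵁ D g)) (g := φ g) (φ.2 g.2) (hD' (D g) g le_rfl))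
  exact (hfr W' hW').1 ℓ

end Groth.Agent.Helper4.SN261
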