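import Mathlib
import Groth.Agent.Helper4.SN255

/-!
# A frame on an open `W₀` gives a morphism to the direct image of the structure sheaf of the
preimage of `W₀`
-/

set_option autoImplicit false
set_option linter.unusedSectionVars false
set_option linter.unusedVariables false

namespace Groth.Agent.Helper4.SN262

open CategoryTheory CategoryTheory.Limits AlgebraicGeometry TopologicalSpace Opposite
open Groth.Agent.Helper4.TwistExt Groth.Agent.Helper4.SN200 Groth.Agent.Helper1.GlueHom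

universe u

variable {Y Z : Scheme.{u}} (i : Z ⟶ Y) (N : Y.Modules) (W₀ : Y.Opens)

/-- the target module: the direct image of the structure sheaf of `i⁻¹ W₀` -/
noncomputable abbrev KK : Y.Modules :=
  (Scheme.Modules.pushforward i).obj
    ((Scheme.Modules.pushforward (i ⁻¹ᵁ W₀).ι).obj (Coh.structureModule ((i ⁻¹ᵁ W₀ : Z.Opens) : Scheme.{u})))

lemma le_aux (U : Y.Opens) :
    (i ⁻¹ᵁ W₀).ι ⁻¹ᵁ (i ⁻¹ᵁ U) ≤ ((i ⁻¹ᵁ W₀).ι ≫ i) ⁻¹ᵁ (U ⊓ W₀) := by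
  intro z hz
  exact ⟨hz, z.2⟩

/-- the ring map from functions on `U ⊓ W₀` to the sections of the target over `U` -/
noncomputable def γ (U : Y.Opens) :
    Γ(Y, U ⊓ W₀) →+* Γ(((i ⁻¹ᵁ W₀ : Z.Opens) : Scheme.{u}), (i ⁻¹ᵁ W₀).ι ⁻¹ᵁ (i ⁻¹ᵁ U)) :=
  (((i ⁻¹ᵁ W₀).ι ≫ i).appLE (U ⊓ W₀) ((i ⁻¹ᵁ W₀).ι ⁻¹ᵁ (i ⁻¹ᵁ U)) (le_aux i W₀ U)).hom

theorem γ_res {U U' : Y.Opens} (h : U' ≤ U) (r : Γ(Y, U ⊓ W₀)) :
    γ i W₀ U' (Y.presheaf.map (homOfLE (inf_le_inf_right W₀ h)).op r) =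
      ((i ⁻¹ᵁ W₀ : Z.Opens) : Scheme.{u}).presheaf.map
        (homOfLE (show (i ⁻¹ᵁ W₀).ι ⁻¹ᵁ (i ⁻¹ᵁ U') ≤ (i ⁻¹ᵁ W₀).ι ⁻¹ᵁ (i ⁻¹ᵁ U) from
          fun z hz => h hz)).op (γ i W₀ U r) := by
  unfold γ
  have h1 := Scheme.Hom.map_appLE ((i ⁻¹ᵁ W₀).ι ≫ i) (le_aux i W₀ U')
    (homOfLE (inf_le_inf_right W₀ h)).op
  have h2 := Scheme.Hom.appLE_map ((i ⁻¹ᵁ W₀).ι ≫ i) (le_aux i W₀ U)
    (homOfLE (show (i ⁻¹ᵁ W₀).ι ⁻¹ᵁ (i ⁻¹ᵁ U') ≤ (i ⁻¹ᵁ W₀).ι ⁻¹ᵁ (i ⁻¹ᵁ U) from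
      fun z hz => h hz)).op
  have h3 := congrArg (fun ψ => ψ.hom r) (h1.trans h2.symm)
  simpa using h3

theorem γ_of_top (U : Y.Opens) (c : Γ(Y, U)) :
    γ i W₀ U (Y.presheaf.map (homOfLE (inf_le_left : U ⊓ W₀ ≤ U)).op c) =
      ((i ⁻¹ᵁ W₀).ι.app (i ⁻¹ᵁ U)).hom ((i.app U).hom c) := by
  unfold γ
  have h1 := Scheme.Hom.map_appLE ((i ⁻¹ᵁ W₀).ι ≫ i) (le_aux i W₀ U)
    (homOfLE (inf_le_left : U ⊓ W₀ ≤ U)).op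
  have h3 := congrArg (fun ψ => ψ.hom c) h1
  simp only [CommRingCat.hom_comp, RingHom.comp_apply] at h3
  rw [h3]
  rw [Scheme.Hom.comp_appLE]
  simp only [CommRingCat.hom_comp, RingHom.comp_apply]
  rw [Scheme.Hom.appLE_eq_app]

theorem smul_KK (U : Y.Opens) (c : Γ(Y, U)) (y : Γ(KK i W₀, U)) :
    c • y = (show Γ(((i ⁻¹ᵁ W₀ : Z.Opens) : Scheme.{u}), (i ⁻¹ᵁ W₀).ι ⁻¹ᵁ (i ⁻¹ᵁ U)) from
      ((i ⁻¹ᵁ W₀).ι.app (i ⁻¹ᵁ U)).hom ((i.app U).hom c) *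
        (show Γ(((i ⁻¹ᵁ W₀ : Z.Opens) : Scheme.{u}), (i ⁻¹ᵁ W₀).ι ⁻¹ᵁ (i ⁻¹ᵁ U)) from y)) := rfl

variable {N W₀} {e₀ : Γ(N, W₀)} (he₀ : IsFrame N W₀ e₀)

/-- the map on sections -/
noncomputable def tU (U : Y.Opens) : Γ(N, U) →+ Γ(KK i W₀, U) where
  toFun s := (show Γ(KK i W₀, U) from γ i W₀ U (coord he₀ (inf_le_right : U ⊓ W₀ ≤ W₀)
    (N.presheaf.map (homOfLE (inf_le_left : U ⊓ W₀ ≤ U)).op s)))
  map_zero' := by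
    have : coord he₀ (inf_le_right : U ⊓ W₀ ≤ W₀)
        (N.presheaf.map (homOfLE (inf_le_left : U ⊓ W₀ ≤ U)).op (0 : Γ(N, U))) = 0 := by
      symm; apply coord_unique; rw [zero_smul, map_zero]
    rw [this]
    exact map_zero _
  map_add' s s' := by
    rw [map_add, Groth.Agent.Helper4.SN255.coord_add]
    exact map_add _ _ _

theorem tU_nat {U U' : Y.Opens} (h : U' ≤ U) (s : Γ(N, U)) :
    (KK i W₀).presheaf.map (homOfLE h).op (tU i he₀ U s) =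
      tU i he₀ U' (N.presheaf.map (homOfLE h).op s) := by
  show ((i ⁻¹ᵁ W₀ : Z.Opens) : Scheme.{u}).presheaf.map
      (homOfLE (show (i ⁻¹ᵁ W₀).ι ⁻¹ᵁ (i ⁻¹ᵁ U') ≤ (i ⁻¹ᵁ W₀).ι ⁻¹ᵁ (i ⁻¹ᵁ U) from
        fun z hz => h hz)).op (γ i W₀ U (coord he₀ (inf_le_right : U ⊓ W₀ ≤ W₀)
        (N.presheaf.map (homOfLE (inf_le_left : U ⊓ W₀ ≤ U)).op s))) =
    γ i W₀ U' (coord he₀ (inf_le_right : U' ⊓ W₀ ≤ W₀)
        (N.presheaf.map (homOfLE (inf_le_left : U' ⊓ W₀ ≤ U')).op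
          (N.presheaf.map (homOfLE h).op s)))
  rw [← γ_res i W₀ h]
  congr 1
  rw [← coord_res he₀ (inf_le_right : U ⊓ W₀ ≤ W₀) (inf_le_inf_right W₀ h), map_map, map_map]

theorem tU_smul (U : Y.Opens) (c : Γ(Y, U)) (s : Γ(N, U)) :
    tU i he₀ U (c • s) = c • tU i he₀ U s := by
  rw [smul_KK]
  show γ i W₀ U (coord he₀ (inf_le_right : U ⊓ W₀ ≤ W₀)
        (N.presheaf.map (homOfLE (inf_le_left : U ⊓ W₀ ≤ U)).op (c • s))) =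
    ((i ⁻¹ᵁ W₀).ι.app (i ⁻¹ᵁ U)).hom ((i.app U).hom c) *
      γ i W₀ U (coord he₀ (inf_le_right : U ⊓ W₀ ≤ W₀)
        (N.presheaf.map (homOfLE (inf_le_left : U ⊓ W₀ ≤ U)).op s))
  rw [Groth.Agent.Helper4.QcohExt.res_smul, coord_smul, map_mul, γ_of_top]

include he₀ in
/-- a frame `e₀` of `N` on `W₀` gives a morphism from `N` to the direct image of the structure
sheaf of `i⁻¹ W₀`, sending `r • e₀` to the inverse image of `r` -/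
theorem exists_hom :
    ∃ τ : N ⟶ KK i W₀, ∀ r : Γ(Y, W₀),
      τ.app W₀ (r • e₀) = (show Γ(KK i W₀, W₀) from
        ((i ⁻¹ᵁ W₀).ι.app (i ⁻¹ᵁ W₀)).hom ((i.app W₀).hom r)) := by
  let W : Unit → Y.Opens := fun _ => ⊤
  have hcov : ⨆ k, W k = ⊤ := by simp [W]
  obtain ⟨τ, hτ⟩ := exists_glue W (fun V : Small W => tU i he₀ V.1)
    (fun V V' h n => tU_nat i he₀ h n) (fun V c n => tU_smul i he₀ V.1 c n) hcov
  refine ⟨τ, fun r => ?_⟩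
  rw [hτ ⟨W₀, (), le_top⟩]
  show γ i W₀ W₀ (coord he₀ (inf_le_right : W₀ ⊓ W₀ ≤ W₀)
        (N.presheaf.map (homOfLE (inf_le_left : W₀ ⊓ W₀ ≤ W₀)).op (r • e₀))) = _
  rw [Groth.Agent.Helper4.QcohExt.res_smul, coord_smul]
  have h1 : coord he₀ (inf_le_right : W₀ ⊓ W₀ ≤ W₀)
      (N.presheaf.map (homOfLE (inf_le_left : W₀ ⊓ W₀ ≤ W₀)).op e₀) = 1 :=
    coord_self he₀ (inf_le_right : W₀ ⊓ W₀ ≤ W₀)
  rw [h1, mul_one, γ_of_top]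

end Groth.Agent.Helper4.SN262
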