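import Mathlib
import Groth.Prelude.Def_ProjUP
import Groth.Agent.Helper4.SN262
import Groth.Agent.Helper4.QcqsMod

/-!
# Vanishing of the inverse image of a global section, tested on frames
-/

set_option autoImplicit false
set_option linter.unusedSectionVars false
set_option linter.unusedVariables false

namespace Groth.Agent.Helper4.SN263

open CategoryTheory CategoryTheory.Limits AlgebraicGeometry TopologicalSpace Opposite
open Groth.Agent.Helper4.TwistExt Groth.Agent.Helper4.SN200 Groth.Agent.Helper4.SN262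

universe u

variable {Y Z : Scheme.{u}} (i : Z ⟶ Y) (N : Y.Modules)

theorem pullSec_eq (s : Γ(N, ⊤)) :
    ProjUP.pullSec i N s =
      ((Scheme.Modules.pullbackPushforwardAdjunction i).unit.app N).app ⊤ s := rfl

/-- if the inverse image of the global section `s` vanishes and `s = r • e₀` on an open `W₀`
on which `e₀` is a frame, then the inverse image of the function `r` vanishes -/
theorem app_eq_zero_of_pullSec_eq_zero {W₀ : Y.Opens} {e₀ : Γ(N, W₀)} (he₀ : IsFrame N W₀ e₀)
    (s : Γ(N, ⊤)) (r : Γ(Y, W₀))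
    (hs : N.presheaf.map (homOfLE (le_top : W₀ ≤ ⊤)).op s = r • e₀)
    (h0 : ProjUP.pullSec i N s = 0) : (i.app W₀).hom r = 0 := by
  obtain ⟨τ, hτ⟩ := exists_hom i he₀
  set adj := Scheme.Modules.pullbackPushforwardAdjunction i with hadj
  set M := (Scheme.Modules.pushforward (i ⁻¹ᵁ W₀).ι).obj
    (Coh.structureModule ((i ⁻¹ᵁ W₀ : Z.Opens) : Scheme.{u})) with hM
  let τ' : (Scheme.Modules.pullback i).obj N ⟶ M := (adj.homEquiv N M).symm τ
  have h1 : adj.unit.app N ≫ (Scheme.Modules.pushforward i).map τ' = τ := by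
    have := (adj.homEquiv N M).apply_symm_apply τ
    rw [Adjunction.homEquiv_unit] at this
    exact this
  have h2 : τ.app ⊤ s = 0 := by
    have h3 := congrArg (fun ψ => (Scheme.Modules.Hom.app ψ ⊤) s) h1
    simp only at h3
    rw [← h3]
    show τ'.app (i ⁻¹ᵁ ⊤) ((adj.unit.app N).app ⊤ s) = 0
    rw [← pullSec_eq, h0]
    exact map_zero (τ'.app (i ⁻¹ᵁ ⊤)).hom
  have h4 : τ.app W₀ (N.presheaf.map (homOfLE (le_top : W₀ ≤ ⊤)).op s) = 0 := by
    have h5 : τ.app W₀ (N.presheaf.map (homOfLE (le_top : W₀ ≤ ⊤)).op s) =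
        (KK i W₀).presheaf.map (homOfLE (le_top : W₀ ≤ ⊤)).op (τ.app ⊤ s) := by
      have := τ.mapPresheaf.naturality (homOfLE (le_top : W₀ ≤ ⊤)).op
      exact congrArg (fun f => f.hom s) this
    rw [h5, h2, map_zero]
  rw [hs, hτ r] at h4
  have h6 : IsIso ((i ⁻¹ᵁ W₀).ι.app (i ⁻¹ᵁ W₀)) := by
    apply Scheme.Hom.isIso_app
    rw [Scheme.Opens.opensRange_ι]
  exact (ConcreteCategory.bijective_of_isIso ((i ⁻¹ᵁ W₀).ι.app (i ⁻¹ᵁ W₀))).1
    (h4.trans (map_zero _).symm)

/-- if the global section `s` is, on each member `W k` of an open cover, a multiple `r k • e k`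
with the inverse image of `r k` zero, then the inverse image of `s` vanishes -/
theorem pullSec_eq_zero_of_cover {E : Type*} (W : E → Y.Opens) (hcov : ⨆ k, W k = ⊤)
    (s : Γ(N, ⊤)) (r : ∀ k, Γ(Y, W k)) (e : ∀ k, Γ(N, W k))
    (hs : ∀ k, N.presheaf.map (homOfLE (le_top : W k ≤ ⊤)).op s = r k • e k)
    (hr : ∀ k, (i.app (W k)).hom (r k) = 0) : ProjUP.pullSec i N s = 0 := by
  rw [pullSec_eq]
  set adj := Scheme.Modules.pullbackPushforwardAdjunction i with hadj
  set P' := (Scheme.Modules.pullback i).obj N with hP'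
  set η := adj.unit.app N with hη
  have key : ∀ k, P'.presheaf.map (homOfLE (i.preimage_mono (le_top : W k ≤ ⊤))).op
      (show Γ(P', i ⁻¹ᵁ ⊤) from η.app ⊤ s) = 0 := by
    intro k
    have h5 : η.app (W k) (N.presheaf.map (homOfLE (le_top : W k ≤ ⊤)).op s) =
        ((Scheme.Modules.pushforward i).obj P').presheaf.map (homOfLE (le_top : W k ≤ ⊤)).op
          (η.app ⊤ s) := by
      have := η.mapPresheaf.naturality (homOfLE (le_top : W k ≤ ⊤)).op
      exact congrArg (fun f => f.hom s) this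
    have h6 : η.app (W k) (r k • e k) = 0 := by
      rw [Scheme.Modules.Hom.app_smul]
      show (show Γ(P', i ⁻¹ᵁ W k) from ((i.app (W k)).hom (r k)) •
        (show Γ(P', i ⁻¹ᵁ W k) from η.app (W k) (e k))) = 0
      rw [hr k, zero_smul]
    rw [hs k, h6] at h5
    exact h5.symm
  apply Groth.Agent.Helper4.AssDict.section_eq_zero_of_germ P' (i ⁻¹ᵁ ⊤)
  intro z hz
  have hz' : i z ∈ (⨆ k, W k) := by rw [hcov]; trivial
  obtain ⟨k, hk⟩ := Opens.mem_iSup.mp hz'
  have h7 := Groth.Agent.Helper4.QcqsMod.germ_res P' (i.preimage_mono (le_top : W k ≤ ⊤)) z hk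
    (show Γ(P', i ⁻¹ᵁ ⊤) from η.app ⊤ s)
  rw [key k, map_zero] at h7
  exact h7.symm

end Groth.Agent.Helper4.SN263
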