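import Mathlib
import Groth.Agent.Helper4.SN263
import Groth.Agent.Helper4.SN260
import Groth.Agent.Helper3.ProjClosedSub

/-!
# Vanishing of the inverse image of the section `F` of `O(d)` along a morphism to `Proj`
-/

set_option autoImplicit false
set_option linter.unusedSectionVars false
set_option linter.unusedVariables false

namespace Groth.Agent.Helper4.SN264

open CategoryTheory CategoryTheory.Limits AlgebraicGeometry TopologicalSpace Opposite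
open HomogeneousLocalization
open Groth.Agent.Helper4.TwistExt Groth.Agent.Helper4.SN200 Groth.Agent.Helper4.SN252
  Groth.Agent.Helper4.SN260 Groth.Agent.Helper4.SN263 Groth.Agent.Helper3.ProjClosedSub

universe u

variable {R A : Type u} [CommRing R] [CommRing A] [Algebra R A] (𝒜 : ℕ → Submodule R A)
  [GradedAlgebra 𝒜] {Z : Scheme.{u}} (i : Z ⟶ Proj 𝒜)

lemma mem_smul_one {d : ℕ} {F : A} (hF : F ∈ 𝒜 d) : F ∈ 𝒜 (d • 1) := by
  simpa using hF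

/-- the section `F` of `O(d)` on `D₊(g)` is `F / g ^ d` times the standard frame -/
theorem res_globalOf_eq {g : A} (hg : g ∈ 𝒜 1) {d : ℕ} {F : A} (hF : F ∈ 𝒜 d) :
    (Twist.twist 𝒜 (d : ℤ)).presheaf.map (homOfLE (le_top : Proj.basicOpen 𝒜 g ≤ ⊤)).op
        (Twist.globalOf 𝒜 ⟨F, hF⟩) =
      ((Proj.awayToSection 𝒜 g).hom (Away.mk 𝒜 hg d F (mem_smul_one 𝒜 hF)) :
        Γ(Proj 𝒜, Proj.basicOpen 𝒜 g)) •
      stdSec 𝒜 (d : ℤ) (Proj.basicOpen 𝒜 g) hg le_rfl := by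
  rw [res_globalOf]
  unfold stdSec
  have h := fracSec_eq_away_smul 𝒜 (d : ℤ) hg d F (mem_smul_one 𝒜 hF) (Proj.basicOpen 𝒜 g) le_rfl
    F 1 (g ^ ((d : ℤ)).toNat) (g ^ (-(d : ℤ)).toNat) hF SetLike.GradedOne.one_mem (by simp)
    (pow_mem_one 𝒜 hg _) (pow_mem_one 𝒜 hg _) (hnn (d : ℤ))
    (fun y _ h => y.isPrime.ne_top ((Ideal.eq_top_iff_one _).mpr h))
    (pow_notMem 𝒜 le_rfl _)
    (by
      have h1 : ((d : ℤ)).toNat = d := by simp
      have h2 : (-(d : ℤ)).toNat = 0 := by simp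
      rw [h1, h2]; ring)
  rw [h]
  rfl

/-- if the inverse image of the section `F` of `O(d)` vanishes then `F / g ^ d` lies in the ideal
of `i` on `D₊(g)` -/
theorem mem_Jf_of_pullSec_eq_zero {g : A} (hg : g ∈ 𝒜 1) {d : ℕ} {F : A} (hF : F ∈ 𝒜 d)
    (h0 : ProjUP.pullSec i (Twist.twist 𝒜 (d : ℤ)) (Twist.globalOf 𝒜 ⟨F, hF⟩) = 0) :
    Away.mk 𝒜 hg d F (mem_smul_one 𝒜 hF) ∈ Jf 𝒜 i g := by
  rw [mem_Jf]
  exact app_eq_zero_of_pullSec_eq_zero i (Twist.twist 𝒜 (d : ℤ))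
    (isFrame_stdSec 𝒜 (d : ℤ) (Proj.basicOpen 𝒜 g) hg le_rfl)
    (Twist.globalOf 𝒜 ⟨F, hF⟩) _ (res_globalOf_eq 𝒜 hg hF) h0

/-- if `F / T l ^ d` lies in the ideal of `i` on `D₊(T l)` for a family `T` of elements of
degree one whose basic opens cover, then the inverse image of the section `F` of `O(d)`
vanishes -/
theorem pullSec_eq_zero_of_mem_Jf {E : Type*} (T : E → A) (hT : ∀ l, T l ∈ 𝒜 1)
    (hcov : ⨆ l, Proj.basicOpen 𝒜 (T l) = ⊤) {d : ℕ} {F : A} (hF : F ∈ 𝒜 d)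
    (h : ∀ l, Away.mk 𝒜 (hT l) d F (mem_smul_one 𝒜 hF) ∈ Jf 𝒜 i (T l)) :
    ProjUP.pullSec i (Twist.twist 𝒜 (d : ℤ)) (Twist.globalOf 𝒜 ⟨F, hF⟩) = 0 := by
  refine pullSec_eq_zero_of_cover i (Twist.twist 𝒜 (d : ℤ)) (fun l => Proj.basicOpen 𝒜 (T l)) hcov
    (Twist.globalOf 𝒜 ⟨F, hF⟩)
    (fun l => ((Proj.awayToSection 𝒜 (T l)).hom (Away.mk 𝒜 (hT l) d F (mem_smul_one 𝒜 hF)) :
      Γ(Proj 𝒜, Proj.basicOpen 𝒜 (T l))))
    (fun l => stdSec 𝒜 (d : ℤ) (Proj.basicOpen 𝒜 (T l)) (hT l) le_rfl)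
    (fun l => res_globalOf_eq 𝒜 (hT l) hF) (fun l => ?_)
  have := h l
  rw [mem_Jf] at this
  exact this

end Groth.Agent.Helper4.SN264
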