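import Mathlib
import Groth.Agent.Helper4.SN264
import Groth.Agent.Helper8.ProjClosed

/-!
# A closed subscheme of `Proj 𝒜` is `Proj` of the quotient by the ideal of forms whose inverse
image vanishes
-/

set_option autoImplicit false
set_option linter.unusedSectionVars false
set_option linter.unusedVariables false

namespace Groth.Agent.Helper4.SN265

open CategoryTheory CategoryTheory.Limits AlgebraicGeometry TopologicalSpace Opposite
open HomogeneousLocalization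
open Groth.Agent.Helper4.SN264 Groth.Agent.Helper3.ProjClosedSub Groth.Agent.Helper3.ProjQuotCore

universe u

variable {R A : Type u} [CommRing R] [CommRing A] [Algebra R A] (𝒜 : ℕ → Submodule R A)
  [GradedAlgebra 𝒜] {Z : Scheme.{u}} (i : Z ⟶ Proj 𝒜)
  {B : Type u} [CommRing B] [Algebra R B] (ℬ : ℕ → Submodule R B) [GradedAlgebra ℬ]
  (φ : 𝒜 →+*ᵍ ℬ)
  (hker : ∀ (d : ℕ) (F : A) (hF : F ∈ 𝒜 d),
    φ F = 0 ↔ ProjUP.pullSec i (Twist.twist 𝒜 (d : ℤ)) (Twist.globalOf 𝒜 ⟨F, hF⟩) = 0)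
  (s : Finset A) (hs1 : ∀ f ∈ s, f ∈ 𝒜 1)

lemma pow_mem' {f : A} (hf : f ∈ 𝒜 1) (n : ℕ) : f ^ n ∈ 𝒜 n := by
  simpa using SetLike.pow_mem_graded n hf

lemma away_mk_eq_zero_iff {f : A} (hf : f ∈ 𝒜 1) (k : ℕ) (a : A) (ha : a ∈ 𝒜 (k • 1)) :
    Away.mk ℬ (φ.map_mem hf) k (φ a) (φ.map_mem ha) = 0 ↔ ∃ m : ℕ, φ (f ^ m * a) = 0 := by
  rw [HomogeneousLocalization.ext_iff_val, Away.val_mk, val_zero, Localization.mk_eq_mk',
    IsLocalization.mk'_eq_zero_iff]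
  constructor
  · rintro ⟨⟨_, m, rfl⟩, hm⟩
    refine ⟨m, ?_⟩
    rw [map_mul, map_pow]
    exact hm
  · rintro ⟨m, hm⟩
    refine ⟨⟨_, m, rfl⟩, ?_⟩
    rw [map_mul, map_pow] at hm
    exact hm

include hker in
theorem key_mp {f : A} (hf : f ∈ 𝒜 1) (z : Away 𝒜 f) (hz : Away.map φ f z = 0) :
    z ∈ Jf 𝒜 i f := by
  obtain ⟨k, a, ha, rfl⟩ := Away.mk_surjective 𝒜 hf z
  have hak : a ∈ 𝒜 k := by simpa using ha
  rw [Away.map_mk, away_mk_eq_zero_iff 𝒜 ℬ φ hf k a ha] at hz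
  obtain ⟨m, hm⟩ := hz
  have hFm : f ^ m * a ∈ 𝒜 (m + k) := SetLike.mul_mem_graded (pow_mem' 𝒜 hf m) hak
  have h1 := mem_Jf_of_pullSec_eq_zero 𝒜 i hf hFm ((hker (m + k) _ hFm).mp hm)
  have h2 : Away.mk 𝒜 hf (m + k) (f ^ m * a) (mem_smul_one 𝒜 hFm) = Away.mk 𝒜 hf k a ha := by
    rw [HomogeneousLocalization.ext_iff_val, Away.val_mk, Away.val_mk, Localization.mk_eq_mk_iff,
      Localization.r_iff_exists]
    exact ⟨1, by simp only [OneMemClass.coe_one, one_mul, pow_add]; ring⟩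
  rw [← h2]
  exact h1

include hker hs1 in
theorem key_mpr [QuasiCompact i]
    (hcov : ⨆ l : s, Proj.basicOpen 𝒜 (l : A) = ⊤) {f : A} (hf : f ∈ s) (z : Away 𝒜 f)
    (hz : z ∈ Jf 𝒜 i f) : Away.map φ f z = 0 := by
  classical
  obtain ⟨k, a, ha, rfl⟩ := Away.mk_surjective 𝒜 (hs1 f hf) z
  have hak : a ∈ 𝒜 k := by simpa using ha
  rw [Away.map_mk, away_mk_eq_zero_iff 𝒜 ℬ φ (hs1 f hf) k a ha]
  have hgood : Goodg 𝒜 (Jf 𝒜 i) f a k := ⟨_, hz, Away.val_mk ..⟩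
  choose! mg hmg using fun g (hg' : g ∈ s) =>
    hK 𝒜 i (hs1 f hf) (hs1 g hg') k a hak hgood
  refine ⟨∑ g ∈ s, mg g, ?_⟩
  have hFm : f ^ (∑ g ∈ s, mg g) * a ∈ 𝒜 ((∑ g ∈ s, mg g) + k) :=
    SetLike.mul_mem_graded (pow_mem' 𝒜 (hs1 f hf) _) hak
  rw [hker _ _ hFm]
  apply pullSec_eq_zero_of_mem_Jf 𝒜 i (fun l : s => (l : A)) (fun l => hs1 l l.2) hcov hFm
  intro l
  have hle : mg l ≤ ∑ g ∈ s, mg g := Finset.single_le_sum (fun _ _ => Nat.zero_le _) l.2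
  have h1 := goodg_mul (hs1 l l.2) (pow_mem' 𝒜 (hs1 f hf) ((∑ g ∈ s, mg g) - mg l)) (hmg l l.2)
  have e1 : f ^ ((∑ g ∈ s, mg g) - mg l) * (f ^ mg l * a) = f ^ (∑ g ∈ s, mg g) * a := by
    rw [← mul_assoc, ← pow_add, Nat.sub_add_cancel hle]
  rw [e1] at h1
  obtain ⟨w, hw, hw'⟩ := goodg_cast (show (∑ g ∈ s, mg g) - mg l + (mg l + k) =
    (∑ g ∈ s, mg g) + k by omega) h1
  have : w = Away.mk 𝒜 (hs1 l l.2) ((∑ g ∈ s, mg g) + k) (f ^ (∑ g ∈ s, mg g) * a)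
      (mem_smul_one 𝒜 hFm) := by
    rw [HomogeneousLocalization.ext_iff_val, hw', Away.val_mk]
  rw [← this]
  exact hw

include hker hs1 in
theorem ker_eq [IsClosedImmersion i]
    (hs : (HomogeneousIdeal.irrelevant 𝒜).toIdeal = Ideal.span (s : Set A))
    (hφ : HomogeneousIdeal.irrelevant ℬ ≤ (HomogeneousIdeal.irrelevant 𝒜).map φ)
    [IsClosedImmersion (Proj.map φ hφ)] :
    (Proj.map φ hφ).ker = i.ker := by
  have hcov : ⨆ l : s, Proj.basicOpen 𝒜 (l : A) = ⊤ := by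
    apply Proj.iSup_basicOpen_eq_top 𝒜 (fun f : s => (f : A))
    rw [hs]
    apply Ideal.span_mono
    intro x hx
    exact ⟨⟨x, hx⟩, rfl⟩
  apply Scheme.IdealSheafData.ext_of_iSup_eq_top
    (fun f : s => (⟨Proj.basicOpen 𝒜 (f : A),
      Proj.isAffineOpen_basicOpen 𝒜 (f : A) (hs1 f f.2) Nat.one_pos⟩ : (Proj 𝒜).affineOpens))
  · exact hcov
  · intro f
    rw [Scheme.Hom.ker_apply, Scheme.Hom.ker_apply]
    ext y
    have hiso : IsIso (Proj.awayToSection 𝒜 (f : A)) :=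
      (Proj.basicOpenIsoAway 𝒜 (f : A) (hs1 f f.2) Nat.one_pos).isIso_hom
    obtain ⟨z, rfl⟩ : ∃ z, (Proj.awayToSection 𝒜 (f : A)).hom z = y :=
      (ConcreteCategory.bijective_of_isIso (Proj.awayToSection 𝒜 (f : A))).2 y
    rw [RingHom.mem_ker, RingHom.mem_ker]
    change ((Proj.map φ hφ).app (Proj.basicOpen 𝒜 (f : A))).hom
        ((Proj.awayToSection 𝒜 (f : A)).hom z) = 0 ↔
      (i.app (Proj.basicOpen 𝒜 (f : A))).hom ((Proj.awayToSection 𝒜 (f : A)).hom z) = 0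
    rw [map_app_awayToSection 𝒜 ℬ φ hφ (hs1 f f.2), ← mem_Jf]
    have hiso' : IsIso (Proj.awayToSection ℬ (φ (f : A))) :=
      (Proj.basicOpenIsoAway ℬ _ (φ.map_mem (hs1 f f.2)) Nat.one_pos).isIso_hom
    constructor
    · intro h
      apply key_mp 𝒜 i ℬ φ hker (hs1 f f.2)
      apply (ConcreteCategory.bijective_of_isIso (Proj.awayToSection ℬ (φ (f : A)))).1
      rw [map_zero]
      exact h
    · intro h
      rw [key_mpr 𝒜 i ℬ φ hker s hs1 hcov f.2 z h]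
      exact map_zero _

include hker hs1 in
/-- **a closed subscheme of `Proj 𝒜` is `Proj` of the quotient by the forms whose inverse
image vanishes** -/
theorem main [IsClosedImmersion i]
    (hs : (HomogeneousIdeal.irrelevant 𝒜).toIdeal = Ideal.span (s : Set A))
    (hφs : Function.Surjective φ)
    (hφ : HomogeneousIdeal.irrelevant ℬ ≤ (HomogeneousIdeal.irrelevant 𝒜).map φ) :
    ∃ e : Z ≅ Proj ℬ, e.hom ≫ Proj.map φ hφ = i := by
  haveI : IsClosedImmersion (Proj.map φ hφ) :=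
    Groth.Agent.Helper8.ProjClosed.main 𝒜 ℬ φ hφs hφ
  have hk := ker_eq 𝒜 i ℬ φ hker s hs1 hs hφ
  let f := IsClosedImmersion.lift (Proj.map φ hφ) i hk.le
  have hfac : f ≫ Proj.map φ hφ = i := IsClosedImmersion.lift_fac _ _ _
  haveI : IsIso f := IsClosedImmersion.isIso_of_ker_eq i (Proj.map φ hφ) f hfac hk.symm
  exact ⟨asIso f, hfac⟩

end Groth.Agent.Helper4.SN265
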