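import Mathlib

/-!
# Finite-difference combinatorics for `S12640`
-/

set_option autoImplicit false

namespace Groth.Agent.Helper4.SN266

open Finset Polynomial
open scoped fwdDiff

/-- the `n`-th finite difference of `m ↦ C(md+n, n)` is `d^n` -/
theorem key1 (n d : ℕ) (hd : 0 < d) :
    ∑ k ∈ range (n + 1), ((-1 : ℤ) ^ (n - k) * (n.choose k : ℤ)) * (((k * d + n).choose n : ℕ) : ℤ) =
      (d : ℤ) ^ n := by
  -- the polynomial `P(x) = (dx+1)(dx+2)⋯(dx+n)` over `ℚ`
  set q : ℚ[X] := C (d : ℚ) * X + 1 with hq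
  set P : ℚ[X] := (ascPochhammer ℚ n).comp q with hP
  have hqdeg : q.natDegree = 1 := by
    rw [hq]
    have : (1 : ℚ[X]) = C 1 := by simp
    rw [this]
    exact natDegree_linear (by exact_mod_cast hd.ne')
  have hqlead : q.leadingCoeff = d := by
    rw [hq]
    have : (1 : ℚ[X]) = C 1 := by simp
    rw [this]
    exact leadingCoeff_linear (by exact_mod_cast hd.ne')
  have hPdeg : P.natDegree = n := by
    rw [hP, natDegree_comp, hqdeg, mul_one, ascPochhammer_natDegree]
  have hPlead : P.leadingCoeff = (d : ℚ) ^ n := by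
    rw [hP, leadingCoeff_comp (by rw [hqdeg]; exact one_ne_zero), hqlead,
      (monic_ascPochhammer ℚ n).leadingCoeff, one_mul, ascPochhammer_natDegree]
  have hPeval : ∀ k : ℕ, P.eval (k : ℚ) = (n.factorial : ℚ) * ((k * d + n).choose n : ℚ) := by
    intro k
    rw [hP, eval_comp, hq]
    simp only [eval_add, eval_mul, eval_C, eval_X, eval_one]
    have h1 : ((d : ℚ) * (k : ℚ) + 1) = ((k * d + 1 : ℕ) : ℚ) := by push_cast; ring
    rw [h1, ← ascPochhammer_eval_cast, ascPochhammer_nat_eq_ascFactorial,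
      Nat.ascFactorial_eq_factorial_mul_choose]
    push_cast
    ring
  have h1 := congrFun (Polynomial.fwdDiff_iter_degree_eq_factorial P) (0 : ℚ)
  rw [hPdeg, hPlead, fwdDiff_iter_eq_sum_shift] at h1
  simp only [Pi.smul_apply, Pi.natCast_def, zero_add, nsmul_eq_mul, mul_one, smul_eq_mul,
    zsmul_eq_mul] at h1
  have h2 : (((∑ k ∈ range (n + 1), ((-1 : ℤ) ^ (n - k) * (n.choose k : ℤ)) *
      (((k * d + n).choose n : ℕ) : ℤ)) : ℤ) : ℚ) * (n.factorial : ℚ) =
      ((d : ℤ) ^ n : ℤ) * (n.factorial : ℚ) := by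
    push_cast
    rw [← h1, Finset.sum_mul]
    refine Finset.sum_congr rfl (fun k _ => ?_)
    rw [hPeval k]
    push_cast
    ring
  have h3 : (n.factorial : ℚ) ≠ 0 := by exact_mod_cast n.factorial_ne_zero
  exact_mod_cast mul_right_cancel₀ h3 h2


theorem fwdDiff_iter_const_eq_zero (t : ℕ) (c : ℤ) :
    (fwdDiff (1 : ℕ))^[t + 1] (fun _ : ℕ => c) = 0 := by
  funext x
  rw [Function.iterate_succ_apply]
  have : fwdDiff (1 : ℕ) (fun _ : ℕ => c) = 0 := by
    funext y
    simp [fwdDiff]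
  rw [this, fwdDiff_iter_eq_sum_shift]
  simp

/-- the `n`-th finite difference of `m ↦ C(m+i-1, i)` at `0`, for `i ≤ n` -/
theorem key2 (n i : ℕ) (hi : i ≤ n) :
    ∑ k ∈ range (n + 1), ((-1 : ℤ) ^ (n - k) * (n.choose k : ℤ)) * (((k + i - 1).choose i : ℕ) : ℤ) =
      if i = n then 1 else 0 := by
  have h0 : ∑ k ∈ range (n + 1), ((-1 : ℤ) ^ (n - k) * (n.choose k : ℤ)) *
      (((k + i - 1).choose i : ℕ) : ℤ) =
      (fwdDiff (1 : ℕ))^[n] (fun x : ℕ => (((x + i - 1).choose i : ℕ) : ℤ)) 0 := by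
    rw [fwdDiff_iter_eq_sum_shift]
    refine Finset.sum_congr rfl (fun k _ => ?_)
    simp
  rw [h0]
  rcases Nat.eq_zero_or_pos i with rfl | hipos
  · -- constant function `1`
    have hc : (fun x : ℕ => (((x + 0 - 1).choose 0 : ℕ) : ℤ)) = fun _ => (1 : ℤ) := by
      funext x; simp
    rw [hc]
    rcases Nat.eq_zero_or_pos n with rfl | hn
    · simp
    · obtain ⟨t, rfl⟩ : ∃ t, n = t + 1 := ⟨n - 1, by omega⟩
      rw [fwdDiff_iter_const_eq_zero, if_neg (by omega)]
      rfl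
  · obtain ⟨j, rfl⟩ : ∃ j, i = j + 1 := ⟨i - 1, by omega⟩
    have hc : (fun x : ℕ => (((x + (j + 1) - 1).choose (j + 1) : ℕ) : ℤ)) =
        fun r : ℕ => (fun y : ℕ => ((y.choose (j + 1) : ℕ) : ℤ)) (r + j) := by
      funext x
      have : x + (j + 1) - 1 = x + j := by omega
      rw [this]
    rw [hc]
    refine (fwdDiff_iter_comp_add (1 : ℕ) (fun y : ℕ => ((y.choose (j + 1) : ℕ) : ℤ)) j n 0).trans ?_
    rcases Nat.lt_or_ge (j + 1) n with hlt | hge
    · obtain ⟨t, rfl⟩ : ∃ t, n = (t + 1) + (j + 1) := ⟨n - (j + 1) - 1, by omega⟩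
      rw [Function.iterate_add_apply]
      have := fwdDiff_iter_choose 0 (j + 1)
      simp only [add_zero, Nat.choose_zero_right, Nat.cast_one] at this
      rw [this, fwdDiff_iter_const_eq_zero, if_neg (by omega)]
      rfl
    · have hn : n = j + 1 := by omega
      subst hn
      have := fwdDiff_iter_choose 0 (j + 1)
      simp only [add_zero, Nat.choose_zero_right, Nat.cast_one] at this
      rw [this, if_pos rfl]

/-- extraction of the top coefficient -/
theorem main (n d : ℕ) (hd : 0 < d) (I : ℕ → ℤ)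
    (h : ∀ m : ℕ, (((m * d + n).choose n : ℕ) : ℤ) =
      ∑ i ∈ range (n + 1), (((m + i - 1).choose i : ℕ) : ℤ) * I i) :
    I n = (d : ℤ) ^ n := by
  rw [← key1 n d hd]
  have h1 : ∑ k ∈ range (n + 1), ((-1 : ℤ) ^ (n - k) * (n.choose k : ℤ)) *
      (((k * d + n).choose n : ℕ) : ℤ) =
      ∑ i ∈ range (n + 1), (∑ k ∈ range (n + 1), ((-1 : ℤ) ^ (n - k) * (n.choose k : ℤ)) *
        (((k + i - 1).choose i : ℕ) : ℤ)) * I i := by
    simp_rw [h, Finset.mul_sum, Finset.sum_mul]
    rw [Finset.sum_comm]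
    refine Finset.sum_congr rfl (fun i _ => Finset.sum_congr rfl (fun k _ => ?_))
    ring
  rw [h1]
  have h2 : ∀ i ∈ range (n + 1), (∑ k ∈ range (n + 1), ((-1 : ℤ) ^ (n - k) * (n.choose k : ℤ)) *
        (((k + i - 1).choose i : ℕ) : ℤ)) * I i = if i = n then I n else 0 := by
    intro i hi
    rw [key2 n i (by have := Finset.mem_range.mp hi; omega)]
    split_ifs with hin
    · subst hin; ring
    · ring
  rw [Finset.sum_congr rfl h2, Finset.sum_ite_eq' (range (n + 1)) n (fun _ => I n),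
    if_pos (Finset.mem_range.mpr (Nat.lt_succ_self n))]

end Groth.Agent.Helper4.SN266
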