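import Mathlib
import Groth.Agent.Helper4.SN266
import Groth.Agent.Helper4.SN13
import Groth.Agent.Helper4.SN26
import Groth.Agent.S0843
import Groth.Agent.S0844
import Groth.Agent.S10829
import Groth.Agent.Helper1.TwistMul6
import Groth.Agent.Helper1.SerreFin2
import Groth.Agent.Helper6.HProj
import Groth.Agent.Helper6.HomogRank

/-!
# The intersection number `(c₁ O(d))^n` on `P^n_k` (S12640)
-/

set_option autoImplicit false
set_option linter.style.haveILetI false

namespace Groth.Agent.Helper4.SN267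

open CategoryTheory Limits AlgebraicGeometry Opposite TopologicalSpace
open Groth.Agent.Lead.Ref1B Groth.Agent.Helper4.SN

universe u

variable (k : Type u) [Field k] (n : ℕ)

instance isProper : IsProper (CohB1.ProjSpace n k ↘ Spec (CommRingCat.of k)) :=
  Groth.Agent.Helper6.HProj.isProper_toSpec n k

theorem dim_le : topologicalKrullDim (CohB1.ProjSpace n k) ≤ (n : WithBot ℕ∞) :=
  (Groth.Agent.S10829.result k n).le

/-- `O(d)^{⊗ m} ≅ O(md)` -/
theorem nonempty_tensorPow_iso (d : ℤ) (m : ℕ) :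
    Nonempty (CohB1.tensorPow (Twist.twistProjSpace n k d) m ≅
      Twist.twistProjSpace n k ((m : ℤ) * d)) := by
  induction m with
  | zero =>
    obtain ⟨e⟩ := Groth.Agent.Helper1.TwistMul.nonempty_twist_zero_iso (CohB1.polyGrading n k)
    have h0 : ((0 : ℕ) : ℤ) * d = 0 := by simp
    rw [h0]
    exact ⟨e.symm⟩
  | succ m ih =>
    obtain ⟨e⟩ := ih
    obtain ⟨e'⟩ := Groth.Agent.Helper1.TwistMul.nonempty_twist_tensor_twist_iso
      (CohB1.polyGrading n k) (Groth.Agent.Helper1.SerreFin.hcov_poly n k)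
      ((m : ℤ) * d) d (((m + 1 : ℕ) : ℤ) * d) (by push_cast; ring)
    exact ⟨PicGrp.tensorModIso e (Iso.refl _) ≪≫ e'⟩

/-- `χ(P^n, O(e)) = C(e+n, n)` for `e ≥ 0` -/
theorem eulerCharLE_twist (e : ℕ) :
    FGA.eulerCharLE k (CohB1.ProjSpace n k) (Twist.twistProjSpace n k (e : ℤ)) n =
      (((e + n).choose n : ℕ) : ℤ) := by
  unfold FGA.eulerCharLE
  rw [Finset.sum_eq_single 0]
  · obtain ⟨φ⟩ := Groth.Agent.S0843.result k n e
    rw [pow_zero, one_mul, LinearEquiv.finrank_eq φ,
      Groth.Agent.Helper6.HomogRank.finrank_homogeneousSubmodule]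
  · intro q _ hq
    haveI := Groth.Agent.S0844.result k n (e : ℤ) q (fun h => hq h.1)
      (fun h => by have := h.2; omega)
    rw [Module.finrank_zero_of_subsingleton]
    simp
  · intro h
    exact absurd (Finset.mem_range.mpr (Nat.succ_pos n)) h

theorem main (d : ℕ) (hd : 0 < d) :
    FGA.intNum k (CohB1.ProjSpace n k) n (fun _ : Fin n => Twist.twistProjSpace n k (-(d : ℤ)))
      (Coh.structureModule (CohB1.ProjSpace n k)) = (d : ℤ) ^ n := by
  haveI := Groth.Agent.Helper4.NApx82.isNoetherian_of_proper k (CohB1.ProjSpace n k)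
  have hO : PicF.IsInvertible (Coh.structureModule (CohB1.ProjSpace n k)) :=
    TensorInv.isInvertible_structureModule
  have hcO : Coh.IsCoh (Coh.structureModule (CohB1.ProjSpace n k)) :=
    Groth.Agent.Helper1.SerreFin.isCoh_of_isInvertible _ hO
  have hL : PicF.IsInvertible (Twist.twistProjSpace n k (d : ℤ)) :=
    Groth.Agent.Helper1.SerreVan.isInvertible_twist n k d
  have hLM : Nonempty (CohB1.tensorMod (Twist.twistProjSpace n k (d : ℤ))
      (Twist.twistProjSpace n k (-(d : ℤ))) ≅ Coh.structureModule (CohB1.ProjSpace n k)) := by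
    obtain ⟨e⟩ := Groth.Agent.Helper1.TwistMul.nonempty_twist_tensor_twist_iso
      (CohB1.polyGrading n k) (Groth.Agent.Helper1.SerreFin.hcov_poly n k)
      (d : ℤ) (-(d : ℤ)) 0 (by ring)
    obtain ⟨e0⟩ := Groth.Agent.Helper1.TwistMul.nonempty_twist_zero_iso (CohB1.polyGrading n k)
    exact ⟨e ≪≫ e0⟩
  have hr : topologicalKrullDim (CohB1.support (Coh.structureModule (CohB1.ProjSpace n k))) ≤
      (n : WithBot ℕ∞) :=
    (topologicalKrullDim_subspace_le _ _).trans (dim_le k n)
  refine Groth.Agent.Helper4.SN266.main n d hd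
    (fun i => FGA.intNum k (CohB1.ProjSpace n k) n
      (fun _ : Fin i => Twist.twistProjSpace n k (-(d : ℤ)))
      (Coh.structureModule (CohB1.ProjSpace n k))) (fun m => ?_)
  have h := main11753 k n (dim_le k n) (Twist.twistProjSpace n k (d : ℤ))
    (Twist.twistProjSpace n k (-(d : ℤ))) hL hLM _ hcO n hr m
  rw [← h]
  obtain ⟨e1⟩ := nonempty_tensorPow_iso k n (d : ℤ) m
  have e : CohB1.tensorMod (CohB1.tensorPow (Twist.twistProjSpace n k (d : ℤ)) m)
      (Coh.structureModule (CohB1.ProjSpace n k)) ≅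
      Twist.twistProjSpace n k (((m * d : ℕ)) : ℤ) := by
    refine SecTwist.unitorR _ ≪≫ e1 ≪≫ eqToIso ?_
    congr 1
  rw [eulerCharLE_eq_chi k n (dim_le k n), chi_iso k e, ← eulerCharLE_eq_chi k n (dim_le k n),
    eulerCharLE_twist]

end Groth.Agent.Helper4.SN267
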