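import Mathlib
import Groth.Prelude.Def_GrTwist
import Groth.Agent.Helper1.GT1
import Groth.Agent.Helper1.OIAdj
import Groth.Agent.Helper4.ProjIso

/-!
# Twisting sheaves along a graded homomorphism that is bijective in high degrees (S9574)

Adaptation of `Helper1.TR31`/`TR38` (localization at a degree-zero element) to a graded
homomorphism `ψ : 𝒜 → ℬ` bijective in all degrees `≥ d₀`: denominators and numerators are pushed
into high degrees by multiplying with powers of a homogeneous element of positive degree.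
-/

set_option autoImplicit false
set_option linter.style.haveILetI false

namespace Groth.Agent.Helper4.SN268

open CategoryTheory AlgebraicGeometry TopologicalSpace Opposite
open scoped HomogeneousIdeal

universe u

variable {A B σ τ : Type u} [CommRing A] [SetLike σ A] [AddSubgroupClass σ A]
  [CommRing B] [SetLike τ B] [AddSubgroupClass τ B]
  {𝒜 : ℕ → σ} {ℬ : ℕ → τ} [GradedRing 𝒜] [GradedRing ℬ]
  (ψ : 𝒜 →+*ᵍ ℬ) (hirr : ℬ₊ ≤ 𝒜₊.map ψ) (d₀ : ℕ)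
  (hsurj : ∀ n, d₀ ≤ n → ∀ y ∈ ℬ n, ∃ x ∈ 𝒜 n, ψ x = y)
  (hinj : ∀ n, d₀ ≤ n → ∀ x ∈ 𝒜 n, ψ x = 0 → x = 0)

include hirr in
/-- a homogeneous element of positive degree whose image does not vanish at `z` -/
lemma exists_homog_notMem (z : ProjectiveSpectrum ℬ) :
    ∃ (e : ℕ) (h : A), 0 < e ∧ h ∈ 𝒜 e ∧ ψ h ∉ z.asHomogeneousIdeal := by
  by_contra hcon
  push Not at hcon
  apply (ProjectiveSpectrum.comap ψ hirr z).not_irrelevant_le
  rw [HomogeneousIdeal.irrelevant_le]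
  intro i hi a ha
  exact hcon i a hi ha

include hsurj in
/-- pushing a homogeneous element into the image of `ψ` by a power of `ψ h` -/
lemma exists_preimage_mul_pow {e : ℕ} (he : 0 < e) {h : A} (hh : h ∈ 𝒜 e) {l : ℕ} {b : B}
    (hb : b ∈ ℬ l) : ∃ t ∈ 𝒜 (l + d₀ * e), ψ t = b * ψ h ^ d₀ := by
  have h1 : ψ h ^ d₀ ∈ ℬ (d₀ * e) := by
    have := SetLike.pow_mem_graded d₀ (ψ.map_mem hh)
    simpa [smul_eq_mul] using this
  have h2 : b * ψ h ^ d₀ ∈ ℬ (l + d₀ * e) := SetLike.mul_mem_graded hb h1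
  have h3 : d₀ ≤ l + d₀ * e := by nlinarith
  exact hsurj _ h3 _ h2

include hirr hsurj hinj in
/-- equality of fractions downstairs comes from an equation upstairs (homogeneous data) -/
lemma exists_mul_eq_of_mk_eq (z : ProjectiveSpectrum ℬ) (a a' s s' : A) {m : ℕ}
    (hm : s' * a - s * a' ∈ 𝒜 m)
    (hs : ψ s ∉ z.asHomogeneousIdeal) (hs' : ψ s' ∉ z.asHomogeneousIdeal)
    (heq : (Localization.mk (ψ a) ⟨ψ s, hs⟩ : GrTwist.Loc ℬ z) =
      Localization.mk (ψ a') ⟨ψ s', hs'⟩) :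
    ∃ t : A, ψ t ∉ z.asHomogeneousIdeal ∧ t * (s' * a) = t * (s * a') := by
  classical
  rw [Localization.mk_eq_mk_iff, Localization.r_iff_exists] at heq
  obtain ⟨u, hu⟩ := heq
  have hu' : (u : B) * (ψ s' * ψ a) = (u : B) * (ψ s * ψ a') := hu
  set w : B := ψ (s' * a - s * a') with hw
  have hwm : w ∈ ℬ m := ψ.map_mem hm
  have huw : (u : B) * w = 0 := by
    rw [hw, map_sub, map_mul, map_mul, mul_sub, hu', sub_self]
  -- a homogeneous component of `u` outside `z`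
  obtain ⟨l, hl⟩ : ∃ l : ℕ, (DirectSum.decompose ℬ (u : B) l : B) ∉ z.asHomogeneousIdeal := by
    by_contra hcon
    push Not at hcon
    apply u.2
    rw [← DirectSum.sum_support_decompose ℬ (u : B)]
    exact Ideal.sum_mem _ fun l _ => hcon l
  have hlw : (DirectSum.decompose ℬ (u : B) l : B) * w = 0 := by
    rw [← DirectSum.coe_decompose_mul_add_of_right_mem ℬ hwm, huw, DirectSum.decompose_zero]
    rfl
  obtain ⟨e, h, he, hh, hhz⟩ := exists_homog_notMem ψ hirr z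
  obtain ⟨t, ht, hteq⟩ := exists_preimage_mul_pow ψ d₀ hsurj he hh
    (SetLike.coe_mem (DirectSum.decompose ℬ (u : B) l))
  refine ⟨t, ?_, ?_⟩
  · rw [hteq]
    intro hmem
    rcases z.isPrime.mem_or_mem hmem with h1 | h1
    · exact hl h1
    · exact hhz (z.isPrime.mem_of_pow_mem _ h1)
  · have h0 : ψ (t * (s' * a - s * a')) = 0 := by
      rw [map_mul, hteq, ← hw]
      calc (DirectSum.decompose ℬ (u : B) l : B) * ψ h ^ d₀ * w
          = ψ h ^ d₀ * ((DirectSum.decompose ℬ (u : B) l : B) * w) := by ring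
        _ = 0 := by rw [hlw, mul_zero]
    have h1 : t * (s' * a - s * a') ∈ 𝒜 (l + d₀ * e + m) := SetLike.mul_mem_graded ht hm
    have h2 : d₀ ≤ l + d₀ * e + m := by nlinarith
    have h3 := hinj _ h2 _ h1 h0
    have : t * (s' * a) - t * (s * a') = 0 := by rw [← h3]; ring
    exact sub_eq_zero.1 this

/-- homogeneity of the cross difference of two fractions of degree `n` (or zero numerators) -/
lemma cross_diff_mem (n : ℤ) {i j i' j' : ℕ} {a s a' s' : A} (ha : a ∈ 𝒜 i) (hs : s ∈ 𝒜 j)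
    (ha' : a' ∈ 𝒜 i') (hs' : s' ∈ 𝒜 j') (hij : (i : ℤ) = j + n ∨ a = 0)
    (hij' : (i' : ℤ) = j' + n ∨ a' = 0) : ∃ m : ℕ, s' * a - s * a' ∈ 𝒜 m := by
  rcases hij with h1 | h1
  · rcases hij' with h2 | h2
    · refine ⟨j' + i, sub_mem (SetLike.mul_mem_graded hs' ha) ?_⟩
      have e : j + i' = j' + i := by omega
      exact e ▸ SetLike.mul_mem_graded hs ha'
    · refine ⟨j' + i, ?_⟩
      rw [h2, mul_zero, sub_zero]
      exact SetLike.mul_mem_graded hs' ha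
  · refine ⟨j + i', ?_⟩
    rw [h1, mul_zero, zero_sub]
    exact neg_mem (SetLike.mul_mem_graded hs ha')

/-- the value of a section at a point is a homogeneous fraction -/
lemma exists_frac_at {n : ℤ} {V : (Proj 𝒜).Opens} (s : Γ(GrTwist.twist 𝒜 n, V)) (x : V) :
    ∃ (i j : ℕ) (a b : A) (_ : a ∈ 𝒜 i) (_ : b ∈ 𝒜 j) (hb : b ∉ x.1.asHomogeneousIdeal),
      ((i : ℤ) = j + n ∨ a = 0) ∧ GrTwist.val s x = Localization.mk a ⟨b, hb⟩ := by
  obtain ⟨N, hxN, iN, i, j, a, b, nin, hij, hfrac⟩ :=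
    (s : GrTwist.sectN (𝒜 := 𝒜) n (op V)).2 x
  exact ⟨i, j, a, b, a.2, b.2, nin ⟨x.1, hxN⟩, hij, hfrac ⟨x.1, hxN⟩⟩


include hsurj in
/-- the local data of the descended section -/
lemma exists_data (hcinj : Function.Injective (ProjectiveSpectrum.comap ψ hirr))
    (n : ℤ) (V : (Proj 𝒜).Opens) (V'' : (Proj ℬ).Opens)
    (hsur : ∀ x : ProjectiveSpectrum.top 𝒜, x ∈ V →
      ∃ z : ProjectiveSpectrum.top ℬ, z ∈ V'' ∧ ProjectiveSpectrum.comap ψ hirr z = x)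
    (τ'' : Γ(GrTwist.twist ℬ n, V'')) (x : V) :
    ∃ (i j : ℕ) (a₁ b₁ : A), a₁ ∈ 𝒜 i ∧ b₁ ∈ 𝒜 j ∧ ((i : ℤ) = j + n ∨ a₁ = 0) ∧
      b₁ ∉ x.1.asHomogeneousIdeal ∧
      ∀ (z : ProjectiveSpectrum.top ℬ), z ∈ V'' → ProjectiveSpectrum.comap ψ hirr z = x.1 →
        ∃ N'' : (Proj ℬ).Opens, z ∈ N'' ∧ ∀ (w : ProjectiveSpectrum.top ℬ), w ∈ N'' →
          ∃ (hwV : w ∈ V'') (hb : ψ b₁ ∉ w.asHomogeneousIdeal),
            GrTwist.val τ'' ⟨w, hwV⟩ = Localization.mk (ψ a₁) ⟨ψ b₁, hb⟩ := by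
  obtain ⟨z₀, hz₀, hz₀x⟩ := hsur x.1 x.2
  obtain ⟨N, hzN, iN, i, j, a', b', nin, hij, hfrac⟩ :=
    (τ'' : GrTwist.sectN (𝒜 := ℬ) n (op V'')).2 ⟨z₀, hz₀⟩
  replace hij : (i : ℤ) = j + n ∨ (a' : B) = 0 := hij
  obtain ⟨e, h, he, hh, hhz⟩ := exists_homog_notMem ψ hirr z₀
  obtain ⟨a, ha, hak⟩ := exists_preimage_mul_pow ψ d₀ hsurj he hh a'.2
  obtain ⟨b, hb, hbl⟩ := exists_preimage_mul_pow ψ d₀ hsurj he hh b'.2
  -- the neighbourhood `N ⊓ D₊(ψ h)`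
  set N'' : (Proj ℬ).Opens := N ⊓ Proj.basicOpen ℬ (ψ h) with hN''
  have hzN'' : z₀ ∈ N'' := ⟨hzN, (ProjectiveSpectrum.mem_basicOpen ℬ (ψ h) z₀).2 hhz⟩
  have hb₁ : ∀ w : ProjectiveSpectrum.top ℬ, w ∈ N'' → ψ b ∉ w.asHomogeneousIdeal := by
    intro w hw hmem
    rw [hbl] at hmem
    rcases w.isPrime.mem_or_mem hmem with h1 | h1
    · exact nin ⟨w, hw.1⟩ h1
    · exact (ProjectiveSpectrum.mem_basicOpen ℬ (ψ h) w).1 hw.2 (w.isPrime.mem_of_pow_mem _ h1)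
  have hb₁x : b ∉ x.1.asHomogeneousIdeal := by
    intro hmem
    rw [← hz₀x] at hmem
    exact hb₁ z₀ hzN'' hmem
  rcases hij with hij | ha0
  · refine ⟨i + d₀ * e, j + d₀ * e, a, b, ha, hb, Or.inl (by push_cast; omega), hb₁x, ?_⟩
    intro z hz hzx
    obtain rfl : z = z₀ := hcinj (hzx.trans hz₀x.symm)
    refine ⟨N'', hzN'', fun w hw => ⟨(leOfHom iN) hw.1, hb₁ w hw, ?_⟩⟩
    refine (hfrac ⟨w, hw.1⟩).trans ?_
    rw [Localization.mk_eq_mk_iff]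
    apply Localization.r_of_eq
    show ψ b * (a' : B) = (b' : B) * ψ a
    rw [hak, hbl]
    ring
  · refine ⟨i, j + d₀ * e, 0, b, zero_mem _, hb, Or.inr rfl, hb₁x, ?_⟩
    intro z hz hzx
    obtain rfl : z = z₀ := hcinj (hzx.trans hz₀x.symm)
    refine ⟨N'', hzN'', fun w hw => ⟨(leOfHom iN) hw.1, hb₁ w hw, ?_⟩⟩
    refine (hfrac ⟨w, hw.1⟩).trans ?_
    rw [ha0, map_zero, Localization.mk_zero, Localization.mk_zero]

include hsurj hinj in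
/-- **descent of sections of the twisting sheaves along `ψ`** -/
theorem exists_descent [IsOpenImmersion (Proj.map ψ hirr)]
    (hcinj : Function.Injective (ProjectiveSpectrum.comap ψ hirr))
    (n : ℤ) (V : (Proj 𝒜).Opens) (V'' : (Proj ℬ).Opens)
    (hV : ∀ z : ProjectiveSpectrum.top ℬ, z ∈ V'' → ProjectiveSpectrum.comap ψ hirr z ∈ V)
    (hsur : ∀ x : ProjectiveSpectrum.top 𝒜, x ∈ V →
      ∃ z : ProjectiveSpectrum.top ℬ, z ∈ V'' ∧ ProjectiveSpectrum.comap ψ hirr z = x)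
    (τ'' : Γ(GrTwist.twist ℬ n, V'')) :
    ∃ τ : Γ(GrTwist.twist 𝒜 n, V), ∀ (z : ProjectiveSpectrum.top ℬ) (hz : z ∈ V''),
      GrTwist.val τ'' ⟨z, hz⟩ = GrTwist.locMap ψ hirr z (GrTwist.val τ ⟨_, hV z hz⟩) := by
  choose i j a₁ b₁ ha₁ hb₁ hij hbx hdata using
    exists_data ψ hirr d₀ hsurj hcinj n V V'' hsur τ''
  -- equality of two local descriptions at a common point
  have hcmp : ∀ (x x₀ : V) (w : ProjectiveSpectrum.top ℬ)
      (hxw : ProjectiveSpectrum.comap ψ hirr w = x.1)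
      (hb : ψ (b₁ x) ∉ w.asHomogeneousIdeal) (hb₀ : ψ (b₁ x₀) ∉ w.asHomogeneousIdeal)
      (_ : (Localization.mk (ψ (a₁ x)) ⟨ψ (b₁ x), hb⟩ : GrTwist.Loc ℬ w) =
        Localization.mk (ψ (a₁ x₀)) ⟨ψ (b₁ x₀), hb₀⟩)
      (hb₀x : b₁ x₀ ∉ x.1.asHomogeneousIdeal),
      (Localization.mk (a₁ x) ⟨b₁ x, hbx x⟩ : GrTwist.Loc 𝒜 x.1) =
        Localization.mk (a₁ x₀) ⟨b₁ x₀, hb₀x⟩ := by
    intro x x₀ w hxw hb hb₀ heq hb₀x
    obtain ⟨m, hm⟩ := cross_diff_mem n (ha₁ x) (hb₁ x) (ha₁ x₀) (hb₁ x₀) (hij x) (hij x₀)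
    obtain ⟨t, ht, hteq⟩ := exists_mul_eq_of_mk_eq ψ hirr d₀ hsurj hinj w _ _ _ _ hm hb hb₀ heq
    rw [Localization.mk_eq_mk_iff, Localization.r_iff_exists]
    refine ⟨⟨t, ?_⟩, hteq⟩
    intro hmem
    rw [← hxw] at hmem
    exact ht hmem
  refine ⟨(⟨fun x => ⟨Localization.mk (a₁ x) ⟨b₁ x, hbx x⟩, ?_⟩, ?_⟩ :
    GrTwist.sectN (𝒜 := 𝒜) n (op V)), ?_⟩
  · rcases hij x with hx | hx
    · exact Submodule.subset_span ⟨i x, j x, ⟨a₁ x, ha₁ x⟩, ⟨b₁ x, hb₁ x⟩, hbx x, hx, rfl⟩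
    · rw [hx, Localization.mk_zero]; exact zero_mem _
  · intro x₀
    obtain ⟨z₀, hz₀, hz₀x⟩ := hsur x₀.1 x₀.2
    obtain ⟨N'', hzN, hN⟩ := hdata x₀ z₀ hz₀ hz₀x
    have hnin : ∀ x : ((Proj.map ψ hirr ''ᵁ N'' ⊓ V : (Proj 𝒜).Opens)),
        b₁ x₀ ∉ x.1.asHomogeneousIdeal := by
      rintro ⟨x, ⟨w, hw, rfl⟩, hxV⟩
      obtain ⟨-, hb, -⟩ := hN w hw
      exact hb
    refine ⟨Proj.map ψ hirr ''ᵁ N'' ⊓ V, ⟨⟨z₀, hzN, hz₀x⟩, x₀.2⟩, homOfLE inf_le_right,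
      i x₀, j x₀, ⟨a₁ x₀, ha₁ x₀⟩, ⟨b₁ x₀, hb₁ x₀⟩, hnin, hij x₀, ?_⟩
    rintro ⟨x, ⟨w, hw, hwx⟩, hxV⟩
    have hwx' : ProjectiveSpectrum.comap ψ hirr w = x := hwx
    obtain ⟨hwV, hb₀, hval₀⟩ := hN w hw
    obtain ⟨Nx, hwNx, hNx⟩ := hdata ⟨x, hxV⟩ w hwV hwx'
    obtain ⟨hwV', hb, hval⟩ := hNx w hwNx
    exact hcmp ⟨x, hxV⟩ x₀ w hwx' hb hb₀ (hval.symm.trans hval₀) _
  · intro z hz
    obtain ⟨Nz, hzNz, hNz⟩ := hdata ⟨_, hV z hz⟩ z hz rfl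
    obtain ⟨hwV, hb, hval⟩ := hNz z hzNz
    refine hval.trans ?_
    exact (GrTwist.locMap_mk ψ hirr z (a₁ ⟨_, hV z hz⟩)
      ⟨b₁ ⟨_, hV z hz⟩, hbx ⟨_, hV z hz⟩⟩).symm

include hsurj hinj in
/-- the comparison map is bijective on sections -/
theorem comap_app_bijective [IsOpenImmersion (Proj.map ψ hirr)]
    (hcinj : Function.Injective (ProjectiveSpectrum.comap ψ hirr)) (n : ℤ) (V : (Proj 𝒜).Opens)
    (hV : ∀ x : ProjectiveSpectrum.top 𝒜, x ∈ V →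
      ∃ z : ProjectiveSpectrum.top ℬ, ProjectiveSpectrum.comap ψ hirr z = x) :
    Function.Bijective ((GrTwist.comap ψ hirr n).app V) := by
  constructor
  · intro s s' hss
    apply Groth.Agent.Helper1.GT.sect_ext
    rintro ⟨x, hx⟩
    obtain ⟨z, rfl⟩ := hV x hx
    obtain ⟨i, j, a, b, ha, hb, hbx, hij, hval⟩ := exists_frac_at s ⟨_, hx⟩
    obtain ⟨i', j', a', b', ha', hb', hbx', hij', hval'⟩ := exists_frac_at s' ⟨_, hx⟩
    have h1 : GrTwist.locMap ψ hirr z (GrTwist.val s ⟨_, hx⟩) =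
        GrTwist.locMap ψ hirr z (GrTwist.val s' ⟨_, hx⟩) :=
      congrArg (fun t : Γ(GrTwist.twist ℬ n, Proj.map ψ hirr ⁻¹ᵁ V) =>
        GrTwist.val t ⟨z, hx⟩) hss
    rw [hval, hval', GrTwist.locMap_mk, GrTwist.locMap_mk] at h1
    obtain ⟨m, hm⟩ := cross_diff_mem n ha hb ha' hb' hij hij'
    obtain ⟨t, ht, hteq⟩ := exists_mul_eq_of_mk_eq ψ hirr d₀ hsurj hinj z _ _ _ _ hm hbx hbx' h1
    rw [hval, hval', Localization.mk_eq_mk_iff, Localization.r_iff_exists]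
    exact ⟨⟨t, ht⟩, hteq⟩
  · intro τ''
    obtain ⟨τ, hτ⟩ := exists_descent ψ hirr d₀ hsurj hinj hcinj n V (Proj.map ψ hirr ⁻¹ᵁ V)
      (fun z hz => hz)
      (fun x hx => by
        obtain ⟨z, rfl⟩ := hV x hx
        exact ⟨z, hx, rfl⟩) τ''
    refine ⟨τ, ?_⟩
    apply Groth.Agent.Helper1.GT.sect_ext (𝒜 := ℬ)
    rintro ⟨z, hz⟩
    exact (hτ z hz).symm

include hsurj hinj in
/-- **the adjoint `r^* O(n) ⟶ O(n)` is an isomorphism** -/
theorem isIso_adjoint_comap (n : ℤ) :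
    IsIso (((Scheme.Modules.pullbackPushforwardAdjunction (Proj.map ψ hirr)).homEquiv _ _).symm
      (GrTwist.comap ψ hirr n)) := by
  haveI : IsIso (Proj.map ψ hirr) :=
    Groth.Agent.Helper4.ProjIso.isIso_map ψ hirr d₀ hsurj hinj
  have hbij : Function.Bijective (ProjectiveSpectrum.comap ψ hirr) := by
    exact (Scheme.Hom.homeomorph (Proj.map ψ hirr)).bijective
  apply Groth.Agent.Helper1.OIAdj.isIso_adjoint
  intro V _
  apply comap_app_bijective ψ hirr d₀ hsurj hinj hbij.1 n V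
  intro x _
  exact hbij.2 x

end Groth.Agent.Helper4.SN268
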