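import Mathlib
import Groth.Prelude.Def_RelProj

/-!
# Direct image of a quasi-coherent graded algebra along an affine morphism

For an affine morphism `f : X ⟶ Y` and a quasi-coherent graded algebra `𝒮` on `X`, the direct image
`f_* 𝒮` is a quasi-coherent graded algebra on `Y`, and `Proj(𝒮) ⟶ X ⟶ Y` is its relative
homogeneous spectrum.
-/

set_option autoImplicit false
set_option linter.style.haveILetI false

namespace Groth.Agent.Helper4.SN269

open CategoryTheory Limits AlgebraicGeometry TopologicalSpace Opposite RelSpec RelProj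
open scoped HomogeneousIdeal

universe u

noncomputable section

variable {X Y : Scheme.{u}} (f : X ⟶ Y) [IsAffineHom f]

/-- the structure map of the direct image -/
def pushStr (A : QCAlg X) : Y.presheaf ⟶ f.base _* A.presheaf :=
  f.c ≫ (TopCat.Presheaf.pushforward _ f.base).map A.str

theorem pushStr_app (A : QCAlg X) (U : Y.Opens) (r : Γ(Y, U)) :
    ((pushStr f A).app (op U)).hom r = (A.str.app (op (f ⁻¹ᵁ U))).hom ((f.app U).hom r) := rfl

theorem isQC_push (A : QCAlg X) : IsQC (f.base _* A.presheaf) (pushStr f A) := by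
  intro U hU r
  have hV : IsAffineOpen (f ⁻¹ᵁ U) := hU.preimage f
  let inst : Algebra (A.presheaf.obj (op (f ⁻¹ᵁ U))) (A.presheaf.obj (op (f ⁻¹ᵁ Y.basicOpen r))) :=
    (A.presheaf.map (homOfLE (f.preimage_mono (Y.basicOpen_le r))).op).hom.toAlgebra
  change IsLocalization.Away ((A.str.app (op (f ⁻¹ᵁ U))).hom ((f.app U).hom r))
    (A.presheaf.obj (op (f ⁻¹ᵁ Y.basicOpen r)))
  have key := A.isQC (f ⁻¹ᵁ U) hV ((f.app U).hom r)
  dsimp +instances [inst]
  rw! (castMode := .all) [f.preimage_basicOpen r]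
  exact key

/-- the direct image `f_* A` of a quasi-coherent algebra along an affine morphism -/
def pushAlg (A : QCAlg X) : QCAlg Y where
  presheaf := f.base _* A.presheaf
  isSheaf := TopCat.Sheaf.pushforward_sheaf_of_sheaf _ A.isSheaf
  str := pushStr f A
  isQC := isQC_push f A

/-- the direct image `f_* 𝒮` of a quasi-coherent graded algebra along an affine morphism -/
def pushGr (𝒮 : QCGrAlg X) : QCGrAlg Y where
  toQCAlg := pushAlg f 𝒮.toQCAlg
  deg U hU := 𝒮.deg (f ⁻¹ᵁ U) (hU.preimage f)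
  graded U hU := 𝒮.graded (f ⁻¹ᵁ U) (hU.preimage f)
  map_mem := by
    intro U V hU hV i d x hx
    exact 𝒮.map_mem (hU.preimage f) (hV.preimage f) (f.preimage_mono i) hx
  str_mem := by
    intro U hU r
    exact 𝒮.str_mem (f ⁻¹ᵁ U) (hU.preimage f) ((f.app U).hom r)


theorem strZero_push (𝒮 : QCGrAlg X) (U : Y.Opens) (hU : IsAffineOpen U) :
    (pushGr f 𝒮).strZero U hU = f.app U ≫ 𝒮.strZero (f ⁻¹ᵁ U) (hU.preimage f) := rfl

theorem res_push (𝒮 : QCGrAlg X) {U V : Y.Opens} (hU : IsAffineOpen U) (hV : IsAffineOpen V)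
    (i : V ≤ U) :
    (pushGr f 𝒮).res hU hV i = 𝒮.res (hU.preimage f) (hV.preimage f) (f.preimage_mono i) := rfl

/-- the chart compatibility over a basic open, with the basic open as a variable -/
theorem chart_res_aux (𝒮 : QCGrAlg X) {P : Scheme.{u}} (p : P ⟶ X)
    (chart : ∀ (U : X.Opens) (hU : IsAffineOpen U),
      (((p ⁻¹ᵁ U : P.Opens) : Scheme.{u}) ≅ Proj (𝒮.deg U hU)))
    (hP : IsRelProj 𝒮 p chart) (V : X.Opens) (hV : IsAffineOpen V) (s : Γ(X, V))
    (W : X.Opens) (hW : IsAffineOpen W) (hWV : W ≤ V) (hWs : W = X.basicOpen s)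
    (hirr : (𝒮.deg W hW)₊ ≤ ((𝒮.deg V hV)₊).map (𝒮.res hV hW hWV)) :
    P.homOfLE (p.preimage_mono hWV) ≫ (chart V hV).hom =
      (chart W hW).hom ≫ Proj.map (𝒮.res hV hW hWV) hirr := by
  subst hWs
  exact hP.chart_res V hV s

theorem isRelProj_push (𝒮 : QCGrAlg X) {P : Scheme.{u}} (p : P ⟶ X)
    (chart : ∀ (U : X.Opens) (hU : IsAffineOpen U),
      (((p ⁻¹ᵁ U : P.Opens) : Scheme.{u}) ≅ Proj (𝒮.deg U hU)))
    (hP : IsRelProj 𝒮 p chart) :
    IsRelProj (pushGr f 𝒮) (p ≫ f) (fun U hU => chart (f ⁻¹ᵁ U) (hU.preimage f)) where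
  chart_over := by
    intro U hU
    have h1 := hP.chart_over (f ⁻¹ᵁ U) (hU.preimage f)
    have h2 : Spec.map (f.app U) ≫ hU.fromSpec = (hU.preimage f).fromSpec ≫ f := by
      rw [Scheme.Hom.app_eq_appLE]
      exact IsAffineOpen.SpecMap_appLE_fromSpec f hU (hU.preimage f) le_rfl
    change (chart (f ⁻¹ᵁ U) (hU.preimage f)).hom ≫
      Proj.toSpecZero (𝒮.deg (f ⁻¹ᵁ U) (hU.preimage f)) ≫
      Spec.map (f.app U ≫ 𝒮.strZero (f ⁻¹ᵁ U) (hU.preimage f)) ≫ hU.fromSpec =
      (p ⁻¹ᵁ (f ⁻¹ᵁ U)).ι ≫ p ≫ f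
    rw [Spec.map_comp, Category.assoc, h2]
    have h3 := congrArg (fun m => m ≫ f) h1
    simp only [Category.assoc] at h3
    exact h3
  chart_res := by
    intro U hU r
    exact chart_res_aux 𝒮 p chart hP (f ⁻¹ᵁ U) (hU.preimage f) ((f.app U).hom r)
      (f ⁻¹ᵁ Y.basicOpen r) ((hU.basicOpen r).preimage f) (f.preimage_mono (Y.basicOpen_le r))
      (f.preimage_basicOpen r) _

end

end Groth.Agent.Helper4.SN269
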