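import Mathlib
import Groth.Prelude.Def_RelProj
import Groth.Agent.Helper4.SN269
import Groth.Agent.Helper4.TensorInv
import Groth.Agent.Helper4.QAffSec
import Groth.Agent.Helper1.PL3
import Groth.Agent.Helper1.SG6
import Groth.Agent.Helper1.RP10
import Groth.Agent.Helper1.SY11

/-!
# Finite morphisms are projective (S4452)
-/

set_option autoImplicit false
set_option linter.style.haveILetI false

namespace Groth.Agent.Helper4.SN270

open CategoryTheory Limits AlgebraicGeometry TopologicalSpace Opposite RelSpec RelProj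
open Groth.Agent.Helper4.SN269
open scoped HomogeneousIdeal

universe u

variable {X Y : Scheme.{u}} (f : X ⟶ Y)

theorem isGenDegOne_push [IsAffineHom f] (𝒮 : QCGrAlg X) (h : 𝒮.IsGenDegOne) :
    (pushGr f 𝒮).IsGenDegOne :=
  fun U hU => h (f ⁻¹ᵁ U) (hU.preimage f)

theorem isFTDeg_push [IsFinite f] (𝒮 : QCGrAlg X) (h : 𝒮.IsFTDeg 1) :
    (pushGr f 𝒮).IsFTDeg 1 := by
  classical
  intro U hU
  have hV : IsAffineOpen (f ⁻¹ᵁ U) := hU.preimage f
  obtain ⟨T₀, hT₀, hx₀⟩ := h (f ⁻¹ᵁ U) hV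
  have hfin := IsFinite.finite_app f U hU
  letI := (f.app U).hom.toAlgebra
  obtain ⟨B, hB⟩ := (hfin : Module.Finite Γ(Y, U) Γ(X, f ⁻¹ᵁ U)).fg_top
  set str := (𝒮.str.app (op (f ⁻¹ᵁ U))).hom with hstr
  set φ := (f.app U).hom with hφ
  let T : Finset (𝒮.presheaf.obj (op (f ⁻¹ᵁ U))) :=
    (B ×ˢ T₀).image (fun bt => str bt.1 * bt.2)
  refine ⟨T, ?_, ?_⟩
  · intro τ hτ
    obtain ⟨⟨b, t⟩, hbt, rfl⟩ := Finset.mem_image.mp (Finset.mem_coe.mp hτ)
    have hb0 : str b ∈ 𝒮.deg (f ⁻¹ᵁ U) hV 0 := 𝒮.str_mem _ hV b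
    have ht1 : t ∈ 𝒮.deg (f ⁻¹ᵁ U) hV 1 :=
      hT₀ (Finset.mem_coe.mpr (Finset.mem_product.mp hbt).2)
    have h01 := SetLike.mul_mem_graded hb0 ht1
    rw [zero_add] at h01
    exact h01
  · intro x hx
    let G : 𝒮.presheaf.obj (op (f ⁻¹ᵁ U)) → Prop := fun y =>
      ∃ c : 𝒮.presheaf.obj (op (f ⁻¹ᵁ U)) → Γ(Y, U), y = ∑ τ ∈ T, str (φ (c τ)) * τ
    have G0 : G 0 := ⟨0, by simp⟩
    have Gadd : ∀ y z, G y → G z → G (y + z) := by
      rintro y z ⟨c, rfl⟩ ⟨c', rfl⟩
      refine ⟨c + c', ?_⟩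
      rw [← Finset.sum_add_distrib]
      refine Finset.sum_congr rfl (fun τ _ => ?_)
      rw [Pi.add_apply, map_add, map_add, add_mul]
    have Gsmul : ∀ (r : Γ(Y, U)) y, G y → G (str (φ r) * y) := by
      rintro r y ⟨c, rfl⟩
      refine ⟨fun τ => r * c τ, ?_⟩
      rw [Finset.mul_sum]
      refine Finset.sum_congr rfl (fun τ _ => ?_)
      rw [map_mul, map_mul, mul_assoc]
    have GT : ∀ τ ∈ T, G τ := by
      intro τ hτ
      refine ⟨fun σ => if σ = τ then 1 else 0, ?_⟩
      rw [Finset.sum_eq_single τ]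
      · simp
      · intro σ _ hσ
        simp [hσ]
      · intro h
        exact absurd hτ h
    have key : ∀ (a : Γ(X, f ⁻¹ᵁ U)) (t : 𝒮.presheaf.obj (op (f ⁻¹ᵁ U))), t ∈ T₀ →
        G (str a * t) := by
      intro a t ht
      have ha : a ∈ Submodule.span Γ(Y, U) (B : Set Γ(X, f ⁻¹ᵁ U)) := by
        rw [hB]; exact Submodule.mem_top
      induction ha using Submodule.span_induction with
      | mem b hb =>
        exact GT _ (Finset.mem_image.mpr ⟨(b, t), Finset.mem_product.mpr ⟨hb, ht⟩, rfl⟩)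
      | zero => simpa using G0
      | add a a' _ _ h1 h2 =>
        rw [map_add, add_mul]
        exact Gadd _ _ h1 h2
      | smul r a _ h1 =>
        have : r • a = φ r * a := Algebra.smul_def r a
        rw [this, map_mul, mul_assoc]
        exact Gsmul r _ h1
    obtain ⟨c₀, hc₀⟩ := hx₀ x hx
    have hGx : G x := by
      rw [hc₀]
      exact Finset.sum_induction _ G Gadd G0 (fun t ht => key _ t ht)
    obtain ⟨c, hc⟩ := hGx
    exact ⟨c, hc⟩

/-- a projective morphism followed by a finite morphism is projective -/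
theorem isProjective_comp_finite [IsFinite f] {P : Scheme.{u}} (p : P ⟶ X)
    (hp : IsProjective p) : IsProjective (p ≫ f) := by
  obtain ⟨𝒮, P', p', chart, e, hgen, hft, hP, he⟩ := hp
  refine ⟨pushGr f 𝒮, P', p' ≫ f, fun U hU => chart (f ⁻¹ᵁ U) (hU.preimage f), e,
    isGenDegOne_push f 𝒮 hgen, isFTDeg_push f 𝒮 hft, isRelProj_push f 𝒮 p' chart hP, ?_⟩
  rw [← Category.assoc, he]


open Groth.Agent.Helper1.SY Groth.Agent.Helper1.SG in
/-- the degree-one part of the symmetric algebra of the structure sheaf is generated by `j(1)` -/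
theorem isFTDeg_one_sym (X : Scheme.{u}) [(Coh.structureModule X).IsQuasicoherent]
    {𝒮 : QCGrAlg X} {j : Coh.structureModule X ⟶ 𝒮.toModule}
    (hj : IsGrSymAlg (Coh.structureModule X) 𝒮 j) : 𝒮.IsFTDeg 1 := by
  classical
  intro U hU
  let one : Γ(Coh.structureModule X, U) := (1 : Γ(X, U))
  let g : 𝒮.presheaf.obj (op U) := j.app U one
  have hg : g ∈ 𝒮.deg U hU 1 := hj.2 U hU one
  refine ⟨{g}, ?_, ?_⟩
  · intro τ hτ
    rw [Finset.coe_singleton, Set.mem_singleton_iff] at hτ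
    rw [hτ]
    exact hg
  · intro x hx
    obtain ⟨y, hy, rfl⟩ := exists_of_mem_deg hj U hU hx
    have hy' : y ∈ LinearMap.range
        (SymmetricAlgebra.ι Γ(X, U) Γ(Coh.structureModule X, U)) := by
      simpa only [symPow, pow_one] using hy
    obtain ⟨m, rfl⟩ := hy'
    rw [symLift_ι]
    let c : Γ(X, U) := m
    have hm : m = c • one := (mul_one c).symm
    refine ⟨fun _ => c, ?_⟩
    rw [Finset.sum_singleton, hm]
    letI : Algebra Γ(X, U) (𝒮.presheaf.obj (op U)) := (𝒮.str.app (op U)).hom.toAlgebra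
    have h1 := (linOf 𝒮.toQCAlg j U).map_smul c one
    exact h1

/-- the identity is projective -/
theorem isProjective_id (X : Scheme.{u}) : IsProjective (𝟙 X) := by
  have hL : PicF.IsInvertible (Coh.structureModule X) :=
    Groth.Agent.Helper4.TensorInv.isInvertible_structureModule
  haveI : (Coh.structureModule X).IsQuasicoherent :=
    Groth.Agent.Helper4.QAffSec.isQuasicoherent_of_isInvertible _ hL
  have hj := Groth.Agent.Helper1.SG.isGrSymAlg_grAlg
    (Groth.Agent.Helper1.SY.isSymAlg_symAlg (Coh.structureModule X))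
  obtain ⟨P, p, chart, hP⟩ := Groth.Agent.Helper1.RP.exists_isRelProj
    (Groth.Agent.Helper1.SG.grAlg (Groth.Agent.Helper1.SY.isSymAlg_symAlg (Coh.structureModule X)))
  haveI : IsIso p := Groth.Agent.Helper1.PL.isIso_relProj_of_isInvertible hL hj p chart hP
  exact ⟨_, P, p, chart, (asIso p).symm, Groth.Agent.Helper1.SG.isGenDegOne hj,
    isFTDeg_one_sym X hj, hP, by simp⟩

/-- **finite morphisms are projective** -/
theorem isProjective_of_isFinite [IsFinite f] : IsProjective f := by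
  have := isProjective_comp_finite f (𝟙 X) (isProjective_id X)
  rwa [Category.id_comp] at this

end Groth.Agent.Helper4.SN270
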