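import Mathlib
import Groth.Agent.Helper4.TensorLift
import Groth.Agent.Helper4.QcqsMod
import Groth.Agent.Helper4.StalkExact
import Groth.Agent.Helper4.GenLoc

/-!
# A local version of `Bil.isIso_lift`: bijectivity of the lift on sections over opens inside an
open where the bilinear family is locally bijective
-/

set_option autoImplicit false
set_option linter.style.haveILetI false

namespace Groth.Agent.Helper4.SN271

open CategoryTheory Limits AlgebraicGeometry TopologicalSpace Opposite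
open Groth.Agent.Helper4.TensorLift

universe u

variable {X : Scheme.{u}} {A B T : X.Modules}

theorem res_res' (M : X.Modules) {U V W : X.Opens} (i : V ⟶ U) (j : W ⟶ V) (k : W ⟶ U)
    (m : Γ(M, U)) :
    M.presheaf.map j.op (M.presheaf.map i.op m) = M.presheaf.map k.op m := by
  rw [← ConcreteCategory.comp_apply, ← Functor.map_comp]
  rfl

/-- injectivity of the lift on sections over opens inside `W₀` -/
theorem lift_app_injective (b : Bil A B T) (W₀ : X.Opens)
    (hinj : ∀ (V : X.Opens), V ≤ W₀ → ∀ (x y : TT A B V), b.lin V x = b.lin V y → ∀ p ∈ V,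
      ∃ (W : X.Opens) (i : W ⟶ V), p ∈ W ∧ preMap A B i x = preMap A B i y)
    (V : X.Opens) (hV : V ≤ W₀) : Function.Injective (b.lift.app V) := by
  intro s s' hss
  apply Groth.Agent.Helper4.QcqsMod.section_ext
  intro p hp
  obtain ⟨W₁, i₁, hp₁, x, hx⟩ := toTensor_locSurj A B V s p hp
  obtain ⟨W₁', i₁', hp₁', x', hx'⟩ := toTensor_locSurj A B V s' p hp
  let W₂ : X.Opens := W₁ ⊓ W₁'
  let j : W₂ ⟶ W₁ := homOfLE inf_le_left
  let j' : W₂ ⟶ W₁' := homOfLE inf_le_right
  let k : W₂ ⟶ V := j ≫ i₁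
  have hW₂ : W₂ ≤ W₀ := (leOfHom k).trans hV
  have h1 : tt A B W₂ (preMap A B j x) = (CohB1.tensorMod A B).presheaf.map k.op s := by
    have := tt_map A B j x
    rw [hx, res_res' _ i₁ j k] at this
    exact this.symm
  have h1' : tt A B W₂ (preMap A B j' x') = (CohB1.tensorMod A B).presheaf.map k.op s' := by
    have := tt_map A B j' x'
    rw [hx', res_res' _ i₁' j' k] at this
    exact this.symm
  have h2 : b.lin W₂ (preMap A B j x) = b.lin W₂ (preMap A B j' x') := by
    rw [← b.lift_tt, ← b.lift_tt, h1, h1', Groth.Agent.Helper4.StalkExact.app_res,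
      Groth.Agent.Helper4.StalkExact.app_res, hss]
  obtain ⟨W₃, i₃, hp₃, h3⟩ := hinj W₂ hW₂ _ _ h2 p ⟨hp₁, hp₁'⟩
  have h4 : (CohB1.tensorMod A B).presheaf.map (i₃ ≫ k).op s =
      (CohB1.tensorMod A B).presheaf.map (i₃ ≫ k).op s' := by
    rw [← res_res' _ k i₃ (i₃ ≫ k) s, ← res_res' _ k i₃ (i₃ ≫ k) s', ← h1, ← h1', tt_map, tt_map]
    exact congrArg (tt A B W₃) h3
  have h5 := congrArg ((CohB1.tensorMod A B).presheaf.germ W₃ p hp₃) h4
  rw [TopCat.Presheaf.germ_res_apply, TopCat.Presheaf.germ_res_apply] at h5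
  exact h5


/-- surjectivity of the lift on sections over opens inside `W₀` -/
theorem lift_app_surjective (b : Bil A B T) (W₀ : X.Opens)
    (hinj : ∀ (V : X.Opens), V ≤ W₀ → ∀ (x y : TT A B V), b.lin V x = b.lin V y → ∀ p ∈ V,
      ∃ (W : X.Opens) (i : W ⟶ V), p ∈ W ∧ preMap A B i x = preMap A B i y)
    (hsurj : ∀ (V : X.Opens), V ≤ W₀ → ∀ (s : Γ(T, V)), ∀ p ∈ V,
      ∃ (W : X.Opens) (i : W ⟶ V), p ∈ W ∧ ∃ x : TT A B W, b.lin W x = T.presheaf.map i.op s)
    (V : X.Opens) (hV : V ≤ W₀) : Function.Surjective (b.lift.app V) := by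
  intro t
  choose W i hpW x hx using fun p : V => hsurj V hV t p.1 p.2
  let sec : ∀ p : V, Γ(CohB1.tensorMod A B, W p) := fun p => tt A B (W p) (x p)
  have hsec : ∀ p : V, b.lift.app (W p) (sec p) = T.presheaf.map (i p).op t := by
    intro p
    rw [b.lift_tt, hx]
  have hcompat : TopCat.Presheaf.IsCompatible (CohB1.tensorMod A B).presheaf W sec := by
    intro p q
    have hle : W p ⊓ W q ≤ W₀ := (inf_le_left.trans (leOfHom (i p))).trans hV
    apply lift_app_injective b W₀ hinj (W p ⊓ W q) hle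
    rw [Groth.Agent.Helper4.StalkExact.app_res, Groth.Agent.Helper4.StalkExact.app_res, hsec, hsec,
      res_res' T (i p) _ (homOfLE (inf_le_left.trans (leOfHom (i p)))),
      res_res' T (i q) _ (homOfLE (inf_le_left.trans (leOfHom (i p))))]
  have hcover : V ≤ iSup W := by
    intro p hp
    exact Opens.mem_iSup.mpr ⟨⟨p, hp⟩, hpW ⟨p, hp⟩⟩
  obtain ⟨s, hs, -⟩ := TopCat.Sheaf.existsUnique_gluing'
    (⟨(CohB1.tensorMod A B).presheaf, (CohB1.tensorMod A B).isSheaf⟩ : TopCat.Sheaf Ab X)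
    W V i hcover sec hcompat
  refine ⟨s, ?_⟩
  apply Groth.Agent.Helper4.QcqsMod.section_ext
  intro p hp
  have h1 : T.presheaf.map (i ⟨p, hp⟩).op (b.lift.app V s) =
      T.presheaf.map (i ⟨p, hp⟩).op t := by
    rw [← Groth.Agent.Helper4.StalkExact.app_res, hs ⟨p, hp⟩, hsec]
  have h2 := congrArg (T.presheaf.germ (W ⟨p, hp⟩) p (hpW ⟨p, hp⟩)) h1
  rw [TopCat.Presheaf.germ_res_apply, TopCat.Presheaf.germ_res_apply] at h2
  exact h2

/-- the restriction of the lift to `W₀` is an isomorphism -/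
theorem isIso_restrict_lift (b : Bil A B T) (W₀ : X.Opens)
    (hinj : ∀ (V : X.Opens), V ≤ W₀ → ∀ (x y : TT A B V), b.lin V x = b.lin V y → ∀ p ∈ V,
      ∃ (W : X.Opens) (i : W ⟶ V), p ∈ W ∧ preMap A B i x = preMap A B i y)
    (hsurj : ∀ (V : X.Opens), V ≤ W₀ → ∀ (s : Γ(T, V)), ∀ p ∈ V,
      ∃ (W : X.Opens) (i : W ⟶ V), p ∈ W ∧ ∃ x : TT A B W, b.lin W x = T.presheaf.map i.op s) :
    IsIso ((Scheme.Modules.restrictFunctor W₀.ι).map b.lift) := by
  apply Groth.Agent.Helper4.GenLoc.isIso_of_app_bijective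
  intro V
  have hle : W₀.ι ''ᵁ V ≤ W₀ := by
    rintro _ ⟨x, -, rfl⟩
    exact x.2
  exact ⟨lift_app_injective b W₀ hinj _ hle, lift_app_surjective b W₀ hinj hsurj _ hle⟩

end Groth.Agent.Helper4.SN271
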