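import Mathlib
import Groth.Agent.Helper4.SN271
import Groth.Agent.Helper1.TwistMul6

/-!
# `M~ ⊗ O(nd) ≅ M(nd)~` over the open where `O(d)` is generated by fractions `a / b` (S9578)
-/

set_option autoImplicit false
set_option linter.style.haveILetI false
set_option linter.unusedSectionVars false

namespace Groth.Agent.Helper4.SN272

open CategoryTheory Limits AlgebraicGeometry TopologicalSpace Opposite
open Groth.Agent.Helper1.TwistMul Groth.Agent.Helper1.GrT Groth.Agent.Helper1.ProjO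
open Groth.Agent.Helper4.TensorLift

universe u

variable {R A : Type u} [CommRing R] [CommRing A] [Algebra R A] (𝒜 : ℕ → Submodule R A)
  [GradedAlgebra 𝒜]
variable {M : Type u} [AddCommGroup M] [Module R M] [Module A M] [IsScalarTower R A M]
  (ℳ : ℕ → Submodule R M) [DirectSum.Decomposition ℳ] [SetLike.GradedSMul 𝒜 ℳ]

/-- an invertible section of `A(nd)~` over `D₊(ab)`, `deg a = deg b + d` -/
theorem nonempty_invPair {d j : ℕ} (n : ℤ) (a b : A) (ha : a ∈ 𝒜 (j + d)) (hb : b ∈ 𝒜 j) :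
    Nonempty (InvPair 𝒜 (n * d) (Proj.basicOpen 𝒜 (a * b))) := by
  have hWa : ∀ (m : ℕ) (y : ProjectiveSpectrum.top 𝒜), y ∈ Proj.basicOpen 𝒜 (a * b) →
      a ^ m ∉ y.asHomogeneousIdeal := by
    intro m y hy hmem
    have h1 : a * b ∉ y.asHomogeneousIdeal := (ProjectiveSpectrum.mem_basicOpen 𝒜 _ y).1 hy
    exact h1 (Ideal.mul_mem_right _ _ (y.isPrime.mem_of_pow_mem m hmem))
  have hWb : ∀ (m : ℕ) (y : ProjectiveSpectrum.top 𝒜), y ∈ Proj.basicOpen 𝒜 (a * b) →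
      b ^ m ∉ y.asHomogeneousIdeal := by
    intro m y hy hmem
    have h1 : a * b ∉ y.asHomogeneousIdeal := (ProjectiveSpectrum.mem_basicOpen 𝒜 _ y).1 hy
    exact h1 (Ideal.mul_mem_left _ _ (y.isPrime.mem_of_pow_mem m hmem))
  have hpa : ∀ m : ℕ, a ^ m ∈ 𝒜 (m * (j + d)) := fun m => by
    have := SetLike.pow_mem_graded m ha
    simpa [smul_eq_mul] using this
  have hpb : ∀ m : ℕ, b ^ m ∈ 𝒜 (m * j) := fun m => by
    have := SetLike.pow_mem_graded m hb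
    simpa [smul_eq_mul] using this
  rcases le_total 0 n with hn | hn
  · obtain ⟨m, rfl⟩ := Int.eq_ofNat_of_zero_le hn
    exact ⟨InvPair.ofFrac 𝒜 _ _ (a ^ m) (b ^ m) (hpa m) (hpb m) (by push_cast; ring)
      (hWa m) (hWb m)⟩
  · obtain ⟨m, hm⟩ := Int.eq_ofNat_of_zero_le (neg_nonneg.mpr hn)
    have hnm : n = -(m : ℤ) := by omega
    subst hnm
    exact ⟨InvPair.ofFrac 𝒜 _ _ (b ^ m) (a ^ m) (hpb m) (hpa m) (by push_cast; ring)
      (hWb m) (hWa m)⟩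

theorem main {d : ℕ} (n : ℤ) :
    Nonempty ((Twist.twistBy 𝒜 (GrTilde.tilde 𝒜 ℳ 0) (n * d)).restrict
        (⨆ (j : ℕ) (a : 𝒜 (j + d)) (b : 𝒜 j), Proj.basicOpen 𝒜 ((a : A) * b)).ι ≅
      (GrTilde.tilde 𝒜 ℳ (n * d)).restrict
        (⨆ (j : ℕ) (a : 𝒜 (j + d)) (b : 𝒜 j), Proj.basicOpen 𝒜 ((a : A) * b)).ι) := by
  set W₀ : (Proj 𝒜).Opens :=
    ⨆ (j : ℕ) (a : 𝒜 (j + d)) (b : 𝒜 j), Proj.basicOpen 𝒜 ((a : A) * b) with hW₀
  have hk : n * (d : ℤ) = 0 + n * (d : ℤ) := by ring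
  have hcov : ∀ p : Proj 𝒜, p ∈ W₀ → ∃ W : (Proj 𝒜).Opens, p ∈ W ∧
      Nonempty (InvPair 𝒜 (n * d) W) := by
    intro p hp
    rw [hW₀] at hp
    simp only [Opens.mem_iSup] at hp
    obtain ⟨j, a, b, hpab⟩ := hp
    exact ⟨_, hpab, nonempty_invPair 𝒜 n (a : A) b a.2 b.2⟩
  haveI : IsIso ((Scheme.Modules.restrictFunctor W₀.ι).map
      (bil 𝒜 ℳ 0 (n * d) (n * d) hk).lift) := by
    apply Groth.Agent.Helper4.SN271.isIso_restrict_lift
    · intro V hV x y hxy p hp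
      obtain ⟨W, hpW, ⟨P⟩⟩ := hcov p (hV hp)
      refine ⟨V ⊓ W, homOfLE inf_le_left, ⟨hp, hpW⟩, ?_⟩
      apply ((P.res (inf_le_right : V ⊓ W ≤ W)).lin_bijective ℳ 0 (n * d) hk).1
      rw [Bil.lin_map, Bil.lin_map, hxy]
    · intro V hV s p hp
      obtain ⟨W, hpW, ⟨P⟩⟩ := hcov p (hV hp)
      refine ⟨V ⊓ W, homOfLE inf_le_left, ⟨hp, hpW⟩, ?_⟩
      exact ((P.res (inf_le_right : V ⊓ W ≤ W)).lin_bijective ℳ 0 (n * d) hk).2 _
  let e₁ : Twist.twistBy 𝒜 (GrTilde.tilde 𝒜 ℳ 0) (n * d) ≅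
      CohB1.tensorMod (GrTilde.tilde 𝒜 ℳ 0) (GrTilde.tilde 𝒜 𝒜 (n * d)) :=
    PicGrp.tensorModIso (Iso.refl _) (Groth.Agent.Helper1.TwistIso.twistIsoTilde 𝒜 (n * d))
  exact ⟨(Scheme.Modules.restrictFunctor W₀.ι).mapIso e₁ ≪≫
    asIso ((Scheme.Modules.restrictFunctor W₀.ι).map (bil 𝒜 ℳ 0 (n * d) (n * d) hk).lift)⟩

end Groth.Agent.Helper4.SN272
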