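import Mathlib
import Groth.Prelude.Def_RelProj3
import Groth.Agent.Helper1.GM10
import Groth.Agent.Helper1.GM12
import Groth.Agent.Helper1.TR0
import Groth.Agent.Helper4.SN273
import Groth.Agent.Helper4.SN274d

/-!
# Base change of `O(n)` on `Proj` along a base change of graded algebras (S4406)
-/

set_option autoImplicit false
set_option linter.unusedSectionVars false
set_option linter.style.haveILetI false

namespace Groth.Agent.Helper4.SN274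

open CategoryTheory AlgebraicGeometry TopologicalSpace Opposite HomogeneousLocalization
open Groth.Agent.Helper1 TensorProduct
open scoped HomogeneousIdeal

universe u

section main

variable {R R' A B : Type u} [CommRing R'] [CommRing R] [Algebra R' R]
  [CommRing B] [Algebra R' B] (ℬ : ℕ → Submodule R' B) [GradedAlgebra ℬ]
  [CommRing A] [Algebra R A] [Algebra R' A] [IsScalarTower R' R A] (𝒜 : ℕ → Submodule R A)
  [GradedAlgebra 𝒜] [Algebra B A] [IsScalarTower R' B A] [Algebra.IsPushout R' R B A]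
  (φ : ℬ →+*ᵍ 𝒜) (hφA : ∀ b : B, φ b = algebraMap B A b)
  (hφ : 𝒜₊ ≤ (ℬ₊).map φ) (n : ℤ) {g : B} {e : ℕ} (he : 0 < e) (hg : g ∈ ℬ e)

include hφA hg in
lemma appLE_cR (r' : R') :
    ((Proj.map φ hφ).appLE (Proj.basicOpen ℬ g) (Proj.basicOpen 𝒜 (φ g))
      (GMH.basicOpen_le φ hφ)).hom (cR ℬ g r') = cR 𝒜 (φ g) (algebraMap R' R r') := by
  change ((Proj.map φ hφ).appLE (Proj.basicOpen ℬ g) (Proj.basicOpen 𝒜 (φ g))
      (GMH.basicOpen_le φ hφ)).hom (cst g (algebraMap R' (ℬ 0) r')) =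
    cst (φ g) (algebraMap R (𝒜 0) (algebraMap R' R r'))
  rw [appLE_cst φ hφ hg]
  congr 1
  apply Subtype.ext
  change φ (algebraMap R' B r') = algebraMap R A (algebraMap R' R r')
  rw [hφA, ← IsScalarTower.algebraMap_apply, ← IsScalarTower.algebraMap_apply]

include hφA he hg in
/-- **the map on sections over `D₊(g)` is a base change** -/
theorem exists_isBaseChange_secMap :
    letI := ((Proj.map φ hφ).appLE (Proj.basicOpen ℬ g) (Proj.basicOpen 𝒜 (φ g))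
      (GMH.basicOpen_le φ hφ)).hom.toAlgebra
    letI : Module Γ(Proj ℬ, Proj.basicOpen ℬ g) Γ(GrMod.tilde 𝒜 𝒜 n, Proj.basicOpen 𝒜 (φ g)) :=
      Module.compHom _ ((Proj.map φ hφ).appLE (Proj.basicOpen ℬ g) (Proj.basicOpen 𝒜 (φ g))
        (GMH.basicOpen_le φ hφ)).hom
    haveI : IsScalarTower Γ(Proj ℬ, Proj.basicOpen ℬ g) Γ(Proj 𝒜, Proj.basicOpen 𝒜 (φ g))
        Γ(GrMod.tilde 𝒜 𝒜 n, Proj.basicOpen 𝒜 (φ g)) := IsScalarTower.of_compHom _ _ _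
    ∃ β : Γ(GrMod.tilde ℬ ℬ n, Proj.basicOpen ℬ g) →ₗ[Γ(Proj ℬ, Proj.basicOpen ℬ g)]
        Γ(GrMod.tilde 𝒜 𝒜 n, Proj.basicOpen 𝒜 (φ g)),
      (∀ m, β m = (GrMod.tilde 𝒜 𝒜 n).presheaf.map (homOfLE (GMH.basicOpen_le φ hφ (f := g))).op
        ((GrMod.comap φ hφ (vφ φ) (hvφ φ) n).app (Proj.basicOpen ℬ g) m)) ∧
      IsBaseChange Γ(Proj 𝒜, Proj.basicOpen 𝒜 (φ g)) β := by
  letI := ((Proj.map φ hφ).appLE (Proj.basicOpen ℬ g) (Proj.basicOpen 𝒜 (φ g))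
    (GMH.basicOpen_le φ hφ)).hom.toAlgebra
  letI : Module Γ(Proj ℬ, Proj.basicOpen ℬ g) Γ(GrMod.tilde 𝒜 𝒜 n, Proj.basicOpen 𝒜 (φ g)) :=
    Module.compHom _ ((Proj.map φ hφ).appLE (Proj.basicOpen ℬ g) (Proj.basicOpen 𝒜 (φ g))
      (GMH.basicOpen_le φ hφ)).hom
  haveI : IsScalarTower Γ(Proj ℬ, Proj.basicOpen ℬ g) Γ(Proj 𝒜, Proj.basicOpen 𝒜 (φ g))
      Γ(GrMod.tilde 𝒜 𝒜 n, Proj.basicOpen 𝒜 (φ g)) := IsScalarTower.of_compHom _ _ _
  let β : Γ(GrMod.tilde ℬ ℬ n, Proj.basicOpen ℬ g) →ₗ[Γ(Proj ℬ, Proj.basicOpen ℬ g)]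
      Γ(GrMod.tilde 𝒜 𝒜 n, Proj.basicOpen 𝒜 (φ g)) :=
    { toFun := GMH.secMap ℬ 𝒜 φ hφ (vφ φ) (hvφ φ) n
      map_add' := secMap_add ℬ 𝒜 φ hφ (vφ φ) (hvφ φ)
      map_smul' := fun t s => secMap_smul ℬ 𝒜 φ hφ (vφ φ) (hvφ φ) he hg t s }
  refine ⟨β, fun m => rfl, ?_⟩
  refine SN273.isBaseChange_of_families β (cR 𝒜 (φ g)) ?_ ?_ ?_
  · exact fun t => exists_family_functions ℬ 𝒜 φ hφA hφ he hg t
  · exact fun p => exists_family_sections ℬ 𝒜 φ hφA hφ n he hg p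
  · intro ι _ r s h
    obtain ⟨K, i₁, hi₁, b, hbs, hrel⟩ := exists_relation ℬ 𝒜 φ hφA hφ n he hg r s h
    have hfr : ∀ b : ℬ i₁, HasNum (GM.fracSect n (b : B) b.2 (g ^ K) (pow_mem_deg hg K) hi₁
        (Proj.basicOpen ℬ g) (fun z hz => pow_notMem ⟨z, hz⟩ K)) K (b : B) := fun b =>
      hasNum_fracSect (ℳ := ℬ) (n := n) hg K i₁ (b : B) b.2 hi₁
    let frac : ℬ i₁ →+ Γ(GrMod.tilde ℬ ℬ n, Proj.basicOpen ℬ g) :=
      AddMonoidHom.mk' (fun b => GM.fracSect n (b : B) b.2 (g ^ K) (pow_mem_deg hg K) hi₁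
        (Proj.basicOpen ℬ g) (fun z hz => pow_notMem ⟨z, hz⟩ K))
        (fun b b' => (hfr (b + b')).ext ((hfr b).add (hfr b')))
    have hfrac : ∀ (r' : R') (b : ℬ i₁), frac (r' • b) = cR ℬ g r' • frac b := fun r' b =>
      (hfr (r' • b)).ext (HasNum.cR_smul hg (hfr b) r')
    obtain ⟨Ψ, hΨ⟩ := SN273.exists_tensor_addHom (cR 𝒜 (φ g)) (cR ℬ g)
      (fun r' => appLE_cR ℬ 𝒜 φ hφA hφ hg r') frac hfrac
    have h1 := congrArg Ψ hrel
    rw [map_sum, map_zero] at h1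
    simp_rw [hΨ] at h1
    have hfs : ∀ j, frac (b j) = s j := fun j => (hfr (b j)).ext (hbs j)
    simp_rw [hfs] at h1
    exact h1

include hφA in
/-- **`Φ^*(B(n)~) ⟶ A(n)~` is an isomorphism for `A = B ⊗_{R'} R`** -/
theorem isIso_adjoint_comap :
    IsIso (((Scheme.Modules.pullbackPushforwardAdjunction (Proj.map φ hφ)).homEquiv _ _).symm
      (GrMod.comap φ hφ (vφ φ) (hvφ φ) n)) := by
  haveI := TRT.isQuasicoherent_tilde ℬ ℬ n
  haveI := TRT.isQuasicoherent_tilde 𝒜 𝒜 n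
  apply PBIso.isIso_adjoint_of_isBaseChange
  intro y
  obtain ⟨g, e, he, hg, hgy⟩ : ∃ (g : B) (e : ℕ), 0 < e ∧ g ∈ ℬ e ∧
      φ g ∉ (show ProjectiveSpectrum 𝒜 from y).asHomogeneousIdeal := by
    by_contra hcon
    push Not at hcon
    apply (ProjectiveSpectrum.comap φ hφ (show ProjectiveSpectrum 𝒜 from y)).not_irrelevant_le
    rw [HomogeneousIdeal.irrelevant_le]
    intro i hi a ha
    exact hcon a i hi ha
  exact ⟨Proj.basicOpen ℬ g, Proj.basicOpen 𝒜 (φ g), GMH.basicOpen_le φ hφ,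
    Proj.isAffineOpen_basicOpen ℬ g hg he,
    Proj.isAffineOpen_basicOpen 𝒜 (φ g) (φ.map_mem hg) he,
    (ProjectiveSpectrum.mem_basicOpen 𝒜 (φ g) y).2 hgy,
    exists_isBaseChange_secMap ℬ 𝒜 φ hφA hφ n he hg⟩

include hφA in
/-- **S4406**: `Φ^* O(n) ≅ O(n)` -/
theorem main : Nonempty ((Scheme.Modules.pullback (Proj.map φ hφ)).obj (GrTwist.twist ℬ n) ≅
    GrTwist.twist 𝒜 n) := by
  haveI := isIso_adjoint_comap ℬ 𝒜 φ hφA hφ n
  exact ⟨(Scheme.Modules.pullback (Proj.map φ hφ)).mapIso (TR0.twistIsoTilde ℬ n) ≪≫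
    asIso (((Scheme.Modules.pullbackPushforwardAdjunction (Proj.map φ hφ)).homEquiv _ _).symm
      (GrMod.comap φ hφ (vφ φ) (hvφ φ) n)) ≪≫ (TR0.twistIsoTilde 𝒜 n).symm⟩

end main

end Groth.Agent.Helper4.SN274
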