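import Mathlib
import Groth.Prelude.Def_RelProj2
import Groth.Agent.S8336
import Groth.Agent.Helper1.TR34
import Groth.Agent.Helper1.RPP4
import Groth.Agent.Helper1.TR27
import Groth.Agent.Helper4.RelGenTwist
import Groth.Agent.Lead.Ref1B

/-!
# Relative Serre generation on a relative Proj: `p^* p_* F(n) → F(n)` is epi for `n ≫ 0`
-/

set_option autoImplicit false
set_option linter.style.haveILetI false

namespace Groth.Agent.Helper4.SN275

open CategoryTheory CategoryTheory.Limits AlgebraicGeometry TopologicalSpace Opposite RelProj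

universe u

variable {Y P : Scheme.{u}} {𝒮 : QCGrAlg Y} {p : P ⟶ Y}
  {chart : ∀ (U : Y.Opens) (hU : IsAffineOpen U),
    (((p ⁻¹ᵁ U : P.Opens) : Scheme.{u}) ≅ Proj (𝒮.deg U hU))}

/-- the type of chart identifications -/
abbrev Lam (𝒮 : QCGrAlg Y) (p : P ⟶ Y) (chart : ∀ (U : Y.Opens) (hU : IsAffineOpen U),
    (((p ⁻¹ᵁ U : P.Opens) : Scheme.{u}) ≅ Proj (𝒮.deg U hU))) (n : ℤ) (L : P.Modules) :=
  ∀ (U : Y.Opens) (hU : IsAffineOpen U),
    L ⟶ (Scheme.Modules.pushforward (emb p chart U hU)).obj (GrTwist.twist (𝒮.deg U hU) n)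

theorem key3 (hP : IsRelProj 𝒮 p chart) (hgen : 𝒮.IsGenDegOne) (m n k : ℤ) (hk : k = m + n)
    {L L' L'' : P.Modules} {lam : Lam 𝒮 p chart m L} {lam' : Lam 𝒮 p chart n L'}
    {lam'' : Lam 𝒮 p chart k L''}
    (hL : IsRelTwist 𝒮 p chart m L lam) (hL' : IsRelTwist 𝒮 p chart n L' lam')
    (hL'' : IsRelTwist 𝒮 p chart k L'' lam'') :
    Nonempty (CohB1.tensorMod L L' ≅ L'') := by
  subst hk
  exact Groth.Agent.S8336.result 𝒮 p chart hP hgen m n L lam hL L' lam' hL' L'' lam'' hL''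

/-- uniqueness of the twisting sheaf up to isomorphism -/
theorem unique (hP : IsRelProj 𝒮 p chart) (hgen : 𝒮.IsGenDegOne) (m : ℤ)
    {L L' : P.Modules} {lam : Lam 𝒮 p chart m L} {lam' : Lam 𝒮 p chart m L'}
    (hL : IsRelTwist 𝒮 p chart m L lam) (hL' : IsRelTwist 𝒮 p chart m L' lam') :
    Nonempty (L ≅ L') := by
  obtain ⟨e⟩ := key3 hP hgen 0 m m (by ring) (Groth.Agent.Helper1.TRM.isRelTwist_zero hP) hL hL'
  exact ⟨(Groth.Agent.Lead.Ref1B.unitorL L).symm ≪≫ e⟩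

theorem tensorPow_iso (hP : IsRelProj 𝒮 p chart) (hgen : 𝒮.IsGenDegOne)
    {O1 : P.Modules} {lam1 : Lam 𝒮 p chart ((1 : ℕ) : ℤ) O1}
    (hO1 : IsRelTwist 𝒮 p chart ((1 : ℕ) : ℤ) O1 lam1) :
    ∀ (k : ℕ) {L : P.Modules} {lam : Lam 𝒮 p chart (k : ℤ) L},
      IsRelTwist 𝒮 p chart (k : ℤ) L lam → Nonempty (CohB1.tensorPow O1 k ≅ L) := by
  intro k
  induction k with
  | zero =>
    intro L lam hL
    exact unique hP hgen 0 (Groth.Agent.Helper1.TRM.isRelTwist_zero hP) hL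
  | succ k ih =>
    intro L lam hL
    obtain ⟨Lk, lamk, hLk⟩ := Groth.Agent.Helper1.TRE.exists_isRelTwist (k : ℤ) hP
    obtain ⟨e⟩ := ih hLk
    obtain ⟨e'⟩ := key3 hP hgen (k : ℤ) ((1 : ℕ) : ℤ) ((k + 1 : ℕ) : ℤ) (by push_cast; ring)
      hLk hO1 hL
    exact ⟨PicGrp.tensorModIso e (Iso.refl _) ≪≫ e'⟩

theorem epi_counit_of_iso {X Z : Scheme.{u}} (f : X ⟶ Z) {G G' : X.Modules} (e : G ≅ G')
    (h : Epi ((Scheme.Modules.pullbackPushforwardAdjunction f).counit.app G)) :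
    Epi ((Scheme.Modules.pullbackPushforwardAdjunction f).counit.app G') := by
  have hnat := (Scheme.Modules.pullbackPushforwardAdjunction f).counit.naturality e.hom
  have : (Scheme.Modules.pullbackPushforwardAdjunction f).counit.app G' =
      inv ((Scheme.Modules.pushforward f ⋙ Scheme.Modules.pullback f).map e.hom) ≫
        (Scheme.Modules.pullbackPushforwardAdjunction f).counit.app G ≫ e.hom := by
    rw [IsIso.eq_inv_comp]
    exact hnat
  rw [this]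
  haveI := h
  infer_instance

theorem main (hP : IsRelProj 𝒮 p chart) [CompactSpace Y] (hgen : 𝒮.IsGenDegOne)
    (hft : 𝒮.IsFTDeg 1) (F : P.Modules) (hFq : Coh.IsQCoh F) (hFt : CohB1.IsFT F) :
    ∃ n₀ : ℤ, ∀ (n : ℤ), n₀ ≤ n → ∀ (L : P.Modules) (lam : Lam 𝒮 p chart n L),
      IsRelTwist 𝒮 p chart n L lam →
        Epi ((Scheme.Modules.pullbackPushforwardAdjunction p).counit.app (CohB1.tensorMod F L)) := by
  haveI : IsProper p := Groth.Agent.Helper1.RPP.isProper_of_isRelProj 𝒮 hgen hft p chart hP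
  haveI : CompactSpace P := QuasiCompact.compactSpace_of_compactSpace p
  obtain ⟨O1, lam1, hO1⟩ := Groth.Agent.Helper1.TRE.exists_isRelTwist ((1 : ℕ) : ℤ) hP
  have hamp := Groth.Agent.Helper1.RPP.isRelAmple_of_isRelTwist hgen hft hP Nat.one_pos hO1
  haveI : F.IsQuasicoherent := hFq
  obtain ⟨N, hN⟩ := Groth.Agent.Helper4.RelGenTwist.exists_forall_epi_counit_twist p O1 hamp F hFt
  refine ⟨(N : ℤ), fun n hn L lam hL => ?_⟩
  obtain ⟨k, rfl⟩ : ∃ k : ℕ, n = (k : ℤ) := ⟨n.toNat, (Int.toNat_of_nonneg (by omega)).symm⟩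
  obtain ⟨e⟩ := tensorPow_iso hP hgen hO1 k hL
  exact epi_counit_of_iso p (PicGrp.tensorModIso (Iso.refl F) e) (hN k (by exact_mod_cast hn))

end Groth.Agent.Helper4.SN275
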