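import Mathlib
import Groth.Prelude.Def_RelProj2
import Groth.Agent.Helper4.SubSum
import Groth.Agent.Helper4.QcohGlue
import Groth.Agent.Helper1.EpiColim
import Groth.Agent.Helper1.SerreFin1
import Groth.Agent.Lead.StalkPull

/-!
# An epimorphism `f^* G₀ → M` onto a module of finite type comes from a finite type submodule
-/

set_option autoImplicit false
set_option linter.style.haveILetI false

namespace Groth.Agent.Helper4.SN276

open CategoryTheory CategoryTheory.Limits AlgebraicGeometry TopologicalSpace Opposite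
open Groth.Agent.Helper4

universe u

variable {X Y : Scheme.{u}}

section Diagram

variable (G₀ : Y.Modules) {I : Type u} (E : I → Y.Modules) (i : ∀ a, E a ⟶ G₀)

/-- finite coproducts of the `E a` -/
noncomputable def Dobj (T : Finset I) : Y.Modules := ∐ (fun a : T => E a.1)

noncomputable def Dmap {T T' : Finset I} (h : T ≤ T') : Dobj E T ⟶ Dobj E T' :=
  Sigma.desc (fun a : T => Sigma.ι (fun b : T' => E b.1) ⟨a.1, h a.2⟩)

@[reassoc (attr := simp)]
theorem ι_Dmap {T T' : Finset I} (h : T ≤ T') (a : T) :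
    Sigma.ι (fun b : T => E b.1) a ≫ Dmap E h = Sigma.ι (fun b : T' => E b.1) ⟨a.1, h a.2⟩ := by
  unfold Dmap
  simp

noncomputable def D : Finset I ⥤ Y.Modules where
  obj := Dobj E
  map f := Dmap E (leOfHom f)
  map_id T := by
    apply Sigma.hom_ext
    intro a
    change Sigma.ι (fun b : T => E b.1) a ≫ Dmap E _ = _
    rw [ι_Dmap]
    exact (Category.comp_id _).symm
  map_comp {T₁ T₂ T₃} f g := by
    apply Sigma.hom_ext
    intro a
    change Sigma.ι (fun b : T₁ => E b.1) a ≫ Dmap E _ =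
      Sigma.ι (fun b : T₁ => E b.1) a ≫ Dmap E _ ≫ Dmap E _
    rw [ι_Dmap, ι_Dmap_assoc]
    exact (ι_Dmap E (leOfHom g) ⟨a.1, leOfHom f a.2⟩).symm

noncomputable def Ddesc (T : Finset I) : Dobj E T ⟶ G₀ := Sigma.desc (fun a : T => i a.1)

@[reassoc (attr := simp)]
theorem ι_Ddesc (T : Finset I) (a : T) :
    Sigma.ι (fun b : T => E b.1) a ≫ Ddesc G₀ E i T = i a.1 := by
  unfold Ddesc
  simp

noncomputable def cocone : Cocone (D E) where
  pt := G₀
  ι :=
    { app := fun T => Ddesc G₀ E i T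
      naturality := by
        intro T T' f
        apply Sigma.hom_ext
        intro a
        change Sigma.ι (fun b : T => E b.1) a ≫ Dmap E (leOfHom f) ≫ Ddesc G₀ E i T' =
          Sigma.ι (fun b : T => E b.1) a ≫ Ddesc G₀ E i T ≫ 𝟙 _
        rw [ι_Dmap_assoc, ι_Ddesc_assoc, Category.comp_id]
        exact ι_Ddesc G₀ E i T' ⟨a.1, leOfHom f a.2⟩ }

end Diagram

theorem isQuasicoherent_Dobj {I : Type u} (E : I → Y.Modules) (hq : ∀ a, (E a).IsQuasicoherent)
    (T : Finset I) : (Dobj E T).IsQuasicoherent :=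
  QcohLimits.isQuasicoherent_sigma (fun a : T => E a.1) (fun a => hq a.1)

theorem isFiniteType_Dobj {I : Type u} (E : I → Y.Modules) (hq : ∀ a, (E a).IsQuasicoherent)
    (hft : ∀ a, SheafOfModules.IsFiniteType (R := Y.ringCatSheaf) (E a))
    (T : Finset I) : SheafOfModules.IsFiniteType (R := Y.ringCatSheaf) (Dobj E T) := by
  let ε : Fin T.card ≃ T := T.equivFin.symm
  let e : (∐ (fun a : T => E a.1) ∘ ε) ≅ ∐ (fun a : T => E a.1) :=
    Sigma.reindex ε (fun a : T => E a.1)
  have h1 : SheafOfModules.IsFiniteType (R := Y.ringCatSheaf) (∐ (fun a : T => E a.1) ∘ ε) :=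
    Groth.Agent.Helper1.SerreFin.isFiniteType_sigma_fin _ (fun j => hq _) (fun j => hft _)
  haveI : (∐ (fun a : T => E a.1) ∘ ε).IsQuasicoherent :=
    Groth.Agent.Helper1.SerreFin.isQuasicoherent_sigma_fin _ (fun j => hq _)
  haveI : (Dobj E T).IsQuasicoherent := isQuasicoherent_Dobj E hq T
  exact QcohEpi.isFiniteType_of_epi (G := Dobj E T) e.hom h1

set_option maxHeartbeats 800000 in
/-- an epimorphism from the pullback of a quasi-coherent module onto a module of finite type
factors through the pullback of a quasi-coherent module of finite type -/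
theorem exists_ft_epi_pullback [CompactSpace Y] [QuasiSeparatedSpace Y] [CompactSpace X]
    (f : X ⟶ Y) (G₀ : Y.Modules) [G₀.IsQuasicoherent] (M : X.Modules) [M.IsQuasicoherent]
    (hM : SheafOfModules.IsFiniteType (R := X.ringCatSheaf) M)
    (u : (Scheme.Modules.pullback f).obj G₀ ⟶ M) [Epi u] :
    ∃ (G : Y.Modules) (j : G ⟶ G₀), G.IsQuasicoherent ∧
      SheafOfModules.IsFiniteType (R := Y.ringCatSheaf) G ∧
      Epi ((Scheme.Modules.pullback f).map j ≫ u) := by
  classical
  let I := Σ U : Y.affineOpens, G₀.val.obj (op U.1)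
  have hex : ∀ a : I, ∃ (E : Y.Modules) (i : E ⟶ G₀), Mono i ∧ E.IsQuasicoherent ∧
      SheafOfModules.IsFiniteType (R := Y.ringCatSheaf) E ∧
      ∃ g : E.val.obj (op a.1.1), (i.val.app (op a.1.1)).hom g = a.2 := fun a =>
    SubExt.exists_submodule_through_section G₀ a.1.1 a.1.2.isCompact a.2
  choose E i _ hq hft g hg using hex
  haveI hDq : ∀ T, Coh.IsQCoh ((D E).obj T) := fun T => isQuasicoherent_Dobj E hq T
  have hDft : ∀ T, SheafOfModules.IsFiniteType (R := Y.ringCatSheaf) ((D E).obj T) :=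
    fun T => isFiniteType_Dobj E hq hft T
  -- the comparison map from the colimit
  let v : colimit (D E) ⟶ G₀ := colimit.desc (D E) (cocone G₀ E i)
  haveI hcq : (colimit (D E)).IsQuasicoherent :=
    QcohLimits.isQuasicoherent_colimit (D E) (fun T => hDq T)
  haveI hv : Epi v := by
    apply QcohLocal.epi_of_app_surjective_of_affine_cover
    intro x
    obtain ⟨U, hU, hxU⟩ := QcohLimits.exists_affine_nhd x
    refine ⟨U, hU, hxU, ?_⟩
    intro s
    let a : I := ⟨⟨U, hU⟩, s⟩
    have ha : a ∈ ({a} : Finset I) := Finset.mem_singleton_self a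
    have h1 : Sigma.ι (fun b : ({a} : Finset I) => E b.1) ⟨a, ha⟩ ≫
        colimit.ι (D E) {a} ≫ v = i a := by
      have h2 : colimit.ι (D E) {a} ≫ v = Ddesc G₀ E i {a} := colimit.ι_desc _ _
      exact (congrArg (fun z => Sigma.ι (fun b : ({a} : Finset I) => E b.1) ⟨a, ha⟩ ≫ z) h2).trans
        (ι_Ddesc G₀ E i {a} ⟨a, ha⟩)
    refine ⟨(colimit.ι (D E) {a}).app U
      ((Sigma.ι (fun b : ({a} : Finset I) => E b.1) ⟨a, ha⟩).app U (g a)), ?_⟩
    have h3 := congrArg (fun φ => (Scheme.Modules.Hom.app φ U) (g a)) h1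
    exact h3.trans (hg a)
  -- pull back to `X`
  haveI : PreservesColimitsOfSize.{u, u} (Scheme.Modules.pullback f) :=
    (Scheme.Modules.pullbackPushforwardAdjunction f).leftAdjoint_preservesColimits
  haveI : (Scheme.Modules.pullback f).PreservesEpimorphisms :=
    (Scheme.Modules.pullback f).preservesEpimorphisms_of_adjunction
      (Scheme.Modules.pullbackPushforwardAdjunction f)
  let c' : Cocone (D E ⋙ Scheme.Modules.pullback f) :=
    (Scheme.Modules.pullback f).mapCocone (colimit.cocone (D E))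
  have hc' : IsColimit c' := isColimitOfPreserves _ (colimit.isColimit (D E))
  haveI : ∀ T, Coh.IsQCoh ((D E ⋙ Scheme.Modules.pullback f).obj T) := fun T => by
    haveI : ((D E).obj T).IsQuasicoherent := hDq T
    exact Groth.Agent.Lead.StalkPull.isQuasicoherent_pullbackObj f _
  haveI : Coh.IsQCoh c'.pt :=
    Groth.Agent.Lead.StalkPull.isQuasicoherent_pullbackObj f (colimit (D E))
  haveI : Coh.IsQCoh M := ‹M.IsQuasicoherent›
  let u' : c'.pt ⟶ M := (Scheme.Modules.pullback f).map v ≫ u
  haveI : Epi u' := epi_comp _ _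
  obtain ⟨T, hT⟩ := (Groth.Agent.Helper1.EpiColim.epi_iff_eventually
    (D E ⋙ Scheme.Modules.pullback f) c' hc' M hM u').1 inferInstance
  refine ⟨(D E).obj T, Ddesc G₀ E i T, hDq T, hDft T, ?_⟩
  have h4 := hT T ⟨𝟙 _⟩
  have h5 : c'.ι.app T ≫ u' = (Scheme.Modules.pullback f).map (Ddesc G₀ E i T) ≫ u := by
    change (Scheme.Modules.pullback f).map (colimit.ι (D E) T) ≫
      (Scheme.Modules.pullback f).map v ≫ u = _
    rw [← Category.assoc, ← Functor.map_comp]
    congr 2
    exact colimit.ι_desc _ _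
  rw [h5] at h4
  exact h4

end Groth.Agent.Helper4.SN276
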