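import Mathlib
import Groth.Prelude.Def_RelProj2
import Groth.Agent.Helper4.SN275
import Groth.Agent.Helper4.SN276
import Groth.Agent.Helper1.TwistExact
import Groth.Agent.Helper1.TR6
import Groth.Agent.Lead.QcohTensor

/-!
# On a relative Proj, `F` is a quotient of `p^*G ⊗ O(-n)` with `G` of finite type, `n ≫ 0`
-/

set_option autoImplicit false
set_option linter.style.haveILetI false

namespace Groth.Agent.Helper4.SN277

open CategoryTheory CategoryTheory.Limits AlgebraicGeometry TopologicalSpace Opposite RelProj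
open Groth.Agent.Helper4 Groth.Agent.Helper4.SN275

universe u

variable {Y P : Scheme.{u}} {𝒮 : QCGrAlg Y} {p : P ⟶ Y}
  {chart : ∀ (U : Y.Opens) (hU : IsAffineOpen U),
    (((p ⁻¹ᵁ U : P.Opens) : Scheme.{u}) ≅ Proj (𝒮.deg U hU))}

set_option maxHeartbeats 800000 in
theorem main (hP : IsRelProj 𝒮 p chart)
    (hY : (CompactSpace Y ∧ Y.IsSeparated) ∨ NoetherianSpace Y) (hgen : 𝒮.IsGenDegOne)
    (hft : 𝒮.IsFTDeg 1) (F : P.Modules) (hFq : Coh.IsQCoh F) (hFt : CohB1.IsFT F) :
    ∃ n₀ : ℤ, ∀ (n : ℤ), n₀ ≤ n → ∀ (L : P.Modules) (lam : Lam 𝒮 p chart (-n) L),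
      IsRelTwist 𝒮 p chart (-n) L lam →
        ∃ (G : Y.Modules) (π : CohB1.tensorMod ((Scheme.Modules.pullback p).obj G) L ⟶ F),
          Coh.IsQCoh G ∧ CohB1.IsFT G ∧ Epi π := by
  obtain ⟨hc, hqs⟩ : CompactSpace Y ∧ QuasiSeparatedSpace Y := by
    rcases hY with ⟨h1, h2⟩ | h
    · exact ⟨h1, inferInstance⟩
    · exact ⟨inferInstance, inferInstance⟩
  haveI := hc
  haveI := hqs
  haveI : IsProper p := Groth.Agent.Helper1.RPP.isProper_of_isRelProj 𝒮 hgen hft p chart hP
  haveI : CompactSpace P := QuasiCompact.compactSpace_of_compactSpace p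
  haveI : F.IsQuasicoherent := hFq
  obtain ⟨n₀, hn₀⟩ := SN275.main hP hgen hft F hFq hFt
  refine ⟨n₀, fun n hn L lam hL => ?_⟩
  obtain ⟨L', lam', hL'⟩ := Groth.Agent.Helper1.TRE.exists_isRelTwist n hP
  have hL'inv := Groth.Agent.Helper1.TRR.isInvertible_of_isRelTwist hgen hL'
  have hLinv := Groth.Agent.Helper1.TRR.isInvertible_of_isRelTwist hgen hL
  have hL'coh := Groth.Agent.Helper1.SerreFin.isCoh_of_isInvertible L' hL'inv
  haveI : L'.IsQuasicoherent := hL'coh.1
  let M : P.Modules := CohB1.tensorMod F L'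
  haveI hMq : M.IsQuasicoherent := Groth.Agent.Lead.QcohTensor.isQuasicoherent_tensorMod F L'
  have hMft : SheafOfModules.IsFiniteType (R := P.ringCatSheaf) M :=
    Groth.Agent.Lead.QcohTensor.isFT_tensorMod F L' hFt hL'coh.2
  haveI hepi : Epi ((Scheme.Modules.pullbackPushforwardAdjunction p).counit.app M) :=
    hn₀ n hn L' lam' hL'
  haveI : ((Scheme.Modules.pushforward p).obj M).IsQuasicoherent :=
    QcohGlue.isQuasicoherent_pushforward p M
  obtain ⟨G, j, hGq, hGft, hφ⟩ := SN276.exists_ft_epi_pullback p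
    ((Scheme.Modules.pushforward p).obj M) M hMft
    ((Scheme.Modules.pullbackPushforwardAdjunction p).counit.app M)
  haveI := hφ
  haveI := Groth.Agent.Helper1.TwistExact.epi_tensorMap
    ((Scheme.Modules.pullback p).map j ≫
      (Scheme.Modules.pullbackPushforwardAdjunction p).counit.app M) L hLinv
  obtain ⟨e0⟩ := key3 hP hgen n (-n) 0 (by ring) hL' hL
    (Groth.Agent.Helper1.TRM.isRelTwist_zero hP)
  let e : CohB1.tensorMod M L ≅ F :=
    Groth.Agent.Lead.Ref1B.assoc F L' L ≪≫ PicGrp.tensorModIso (Iso.refl F) e0 ≪≫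
      SecTwist.unitorR F
  exact ⟨G, KoszTw.tensorMap ((Scheme.Modules.pullback p).map j ≫
      (Scheme.Modules.pullbackPushforwardAdjunction p).counit.app M) (𝟙 L) ≫ e.hom,
    hGq, hGft, epi_comp _ _⟩

end Groth.Agent.Helper4.SN277
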