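import Mathlib
import Groth.Prelude.Def_RelProj2
import Groth.Agent.S5721
import Groth.Agent.S8259
import Groth.Agent.Helper4.SN276
import Groth.Agent.Helper4.RelGenTwist
import Groth.Agent.Helper4.TensorInv
import Groth.Agent.Lead.QcohTensor

/-!
# A finite type module twisted by a high power of a relatively very ample sheaf is a quotient of
a pullback of a finite type module
-/

set_option autoImplicit false
set_option linter.style.haveILetI false

namespace Groth.Agent.Helper4.SN278

open CategoryTheory CategoryTheory.Limits AlgebraicGeometry TopologicalSpace Opposite RelProj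
open Groth.Agent.Helper4

universe u

set_option maxHeartbeats 800000 in
theorem main {Y Z : Scheme.{u}}
    (hZ : (CompactSpace Z ∧ Z.IsSeparated) ∨ TopologicalSpace.NoetherianSpace Z) (g : Y ⟶ Z)
    [QuasiCompact g]
    (K : Y.Modules) (hK : PicF.IsInvertible K) (hKva : RelProj.IsRelVeryAmple g K)
    (E : Y.Modules) (hE : Coh.IsQCoh E) (hEft : CohB1.IsFT E) :
    ∃ m₀ : ℕ, ∀ m : ℕ, m₀ ≤ m →
      ∃ (F : Z.Modules) (φ : (Scheme.Modules.pullback g).obj F ⟶
          CohB1.tensorMod E (CohB1.tensorPow K m)),
        Coh.IsQCoh F ∧ CohB1.IsFT F ∧ Epi φ := by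
  obtain ⟨hc, hqs⟩ : CompactSpace Z ∧ QuasiSeparatedSpace Z := by
    rcases hZ with ⟨h1, h2⟩ | h
    · exact ⟨h1, inferInstance⟩
    · exact ⟨inferInstance, inferInstance⟩
  haveI := hc
  haveI := hqs
  haveI : CompactSpace Y := QuasiCompact.compactSpace_of_compactSpace g
  have hamp : RelAmple.IsRelAmple g K := Groth.Agent.S5721.result g K hK hKva
  haveI : IsSeparated g := by
    obtain ⟨E', hE', 𝒮, j, hj, P, p, chart, hP, O1, lam, hO1, i, hi, hif, -⟩ := hKva
    haveI := hi
    haveI : IsSeparated p := Groth.Agent.S8259.result 𝒮 p chart hP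
    rw [← hif]
    infer_instance
  haveI : E.IsQuasicoherent := hE
  obtain ⟨N, hN⟩ := RelGenTwist.exists_forall_epi_counit_twist g K hamp E hEft
  refine ⟨N, fun m hm => ?_⟩
  have hKm := Groth.Agent.Helper1.SerreFin.isCoh_of_isInvertible _
    (TensorInv.isInvertible_tensorPow hK m)
  haveI : (CohB1.tensorPow K m).IsQuasicoherent := hKm.1
  let M : Y.Modules := CohB1.tensorMod E (CohB1.tensorPow K m)
  haveI hMq : M.IsQuasicoherent := Groth.Agent.Lead.QcohTensor.isQuasicoherent_tensorMod E _
  have hMft : SheafOfModules.IsFiniteType (R := Y.ringCatSheaf) M :=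
    Groth.Agent.Lead.QcohTensor.isFT_tensorMod E _ hEft hKm.2
  haveI hepi : Epi ((Scheme.Modules.pullbackPushforwardAdjunction g).counit.app M) := hN m hm
  haveI : ((Scheme.Modules.pushforward g).obj M).IsQuasicoherent :=
    QcohGlue.isQuasicoherent_pushforward g M
  obtain ⟨G, j, hGq, hGft, hφ⟩ := SN276.exists_ft_epi_pullback g
    ((Scheme.Modules.pushforward g).obj M) M hMft
    ((Scheme.Modules.pullbackPushforwardAdjunction g).counit.app M)
  exact ⟨G, (Scheme.Modules.pullback g).map j ≫
      (Scheme.Modules.pullbackPushforwardAdjunction g).counit.app M, hGq, hGft, hφ⟩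

end Groth.Agent.Helper4.SN278
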