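import Mathlib
import Groth.Prelude.Def_RelProj4
import Groth.Agent.Helper1.SY12
import Groth.Agent.Lead.BCMap5
import Groth.Agent.Lead.StalkPull
import Groth.Agent.Helper4.SN282

/-!
# `Sym(g^*E) = g^* Sym(E)`: the pushout squares over affine pairs
-/

set_option autoImplicit false
set_option linter.unusedSectionVars false
set_option linter.style.haveILetI false

namespace Groth.Agent.Helper4.SN283

open CategoryTheory CategoryTheory.Limits AlgebraicGeometry TopologicalSpace Opposite RelSpec
open Groth.Agent.Helper1.SY Groth.Agent.Lead.BCMap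

universe u

variable {S S' : Scheme.{u}} (g : S' ⟶ S) (E : S.Modules) [E.IsQuasicoherent]
  {A : QCAlg S} {j : E ⟶ A.toModule} (hA : IsSymAlg E A j)
  {B : QCAlg S'} {j' : (Scheme.Modules.pullback g).obj E ⟶ B.toModule}
  (hB : IsSymAlg ((Scheme.Modules.pullback g).obj E) B j')
  (u : QHom g A B)
  (hu : ∀ (U : S.Opens) (x : Γ(E, U)),
    (u.app U).hom ((j.app U) x) =
      (j'.app (g ⁻¹ᵁ U)) (((Scheme.Modules.pullbackPushforwardAdjunction g).unit.app E).app U x))

include hu in
lemma appLE_j (U : S.Opens) (U' : S'.Opens) (hle : U' ≤ g ⁻¹ᵁ U) (x : Γ(E, U)) :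
    (u.appLE U U' hle).hom ((j.app U) x) = (j'.app U') (pbSec g E U U' hle x) := by
  change (B.presheaf.map (homOfLE hle).op).hom ((u.app U).hom ((j.app U) x)) = _
  rw [hu, pbSec_apply]
  exact (Groth.Agent.Helper4.StalkExact.app_res j' (homOfLE hle) _).symm

include hA hB hu in
theorem isQBaseChange : IsQBaseChange u := by
  intro U hU U' hU' hle
  haveI : ((Scheme.Modules.pullback g).obj E).IsQuasicoherent :=
    Groth.Agent.Lead.StalkPull.isQuasicoherent_pullbackObj g E
  letI := (g.appLE U U' hle).hom.toAlgebra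
  letI : Module Γ(S, U) Γ((Scheme.Modules.pullback g).obj E, U') :=
    Module.compHom _ (g.appLE U U' hle).hom
  haveI : IsScalarTower Γ(S, U) Γ(S', U') Γ((Scheme.Modules.pullback g).obj E, U') :=
    IsScalarTower.of_compHom _ _ _
  obtain ⟨ρ, hρ, hbc⟩ := exists_isBaseChange_pbSec g E hU hU' hle
  have h0 := Groth.Agent.Helper4.SN282.isPushout_symMapLin ρ hbc
  let eA : CommRingCat.of (SymmetricAlgebra Γ(S, U) Γ(E, U)) ≅ A.presheaf.obj (op U) :=
    (RingEquiv.ofBijective (symLift A j U) (symLift_bijective hA U hU)).toCommRingCatIso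
  let eB : CommRingCat.of (SymmetricAlgebra Γ(S', U') Γ((Scheme.Modules.pullback g).obj E, U')) ≅
      B.presheaf.obj (op U') :=
    (RingEquiv.ofBijective (symLift B j' U') (symLift_bijective hB U' hU')).toCommRingCatIso
  refine IsPushout.of_iso h0 (Iso.refl _) (Iso.refl _) eA eB ?_ ?_ ?_ ?_
  · rfl
  · ext a
    exact symLift_algebraMap A j U a
  · ext a
    exact symLift_algebraMap B j' U' a
  · have hring : (symLift B j' U').comp (Groth.Agent.Helper4.SN282.symMapLin ρ) =
        (u.appLE U U' hle).hom.comp (symLift A j U) := by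
      refine sym_ringHom_ext (fun a => ?_) (fun m => ?_)
      · rw [RingHom.comp_apply, RingHom.comp_apply, Groth.Agent.Helper4.SN282.symMapLin_algebraMap,
          symLift_algebraMap, symLift_algebraMap]
        exact (congrArg (fun k => k.hom a) (u.str_appLE U U' hle)).symm
      · rw [RingHom.comp_apply, RingHom.comp_apply, Groth.Agent.Helper4.SN282.symMapLin_ι,
          symLift_ι, symLift_ι, hρ, appLE_j g E u hu]
    ext x
    exact congrArg (fun k => k x) hring

end Groth.Agent.Helper4.SN283
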