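import Mathlib
import Groth.Prelude.Def_RelProj4
import Groth.Agent.Helper1.SG4
import Groth.Agent.Helper1.SY11
import Groth.Agent.Helper4.SN286
import Groth.Agent.S8258
import Groth.Agent.S8284

/-!
# Relative very ampleness is stable under base change
-/

set_option autoImplicit false
set_option linter.unusedSectionVars false
set_option linter.style.haveILetI false

namespace Groth.Agent.Helper4.SN287

open CategoryTheory CategoryTheory.Limits AlgebraicGeometry TopologicalSpace Opposite RelSpec RelProj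
open Groth.Agent.Helper1

universe u

theorem isRelVeryAmple_baseChange {X Y X' Y' : Scheme.{u}} (f : X ⟶ Y) (g : Y' ⟶ Y) (g' : X' ⟶ X)
    (f' : X' ⟶ Y') (hsq : IsPullback g' f' f g) (L : X.Modules)
    (hva : IsRelVeryAmple f L) :
    IsRelVeryAmple f' ((Scheme.Modules.pullback g').obj L) := by
  obtain ⟨E, hE, 𝒮, j, hj, P, p, chart, hP, O1, lam, hO1, i, himm, hip, ⟨eL⟩⟩ := hva
  haveI : E.IsQuasicoherent := hE
  haveI hE' : ((Scheme.Modules.pullback g).obj E).IsQuasicoherent :=
    Groth.Agent.Lead.StalkPull.isQuasicoherent_pullbackObj g E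
  have hA' := SY.isSymAlg_symAlg ((Scheme.Modules.pullback g).obj E)
  have hj' := SG.isGrSymAlg_grAlg hA'
  obtain ⟨P', p', chart', hP'⟩ := Groth.Agent.S8258.result (SG.grAlg hA')
  obtain ⟨O1', lam', hO1'⟩ := Groth.Agent.S8284.result (SG.grAlg hA') p' chart' hP' 1
  obtain ⟨h, hpb, hiso⟩ := Groth.Agent.Helper4.SN286.exists_baseChange g E hj hj' hP hP'
  obtain ⟨eO⟩ := hiso 1 O1 lam hO1 O1' lam' hO1'
  subst hip
  have htop := IsPullback.of_bot' hsq hpb
  have himm' : IsImmersion (hpb.lift (g' ≫ i) f' (by rw [Category.assoc, hsq.w])) :=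
    MorphismProperty.of_isPullback htop himm
  refine ⟨_, hE', SG.grAlg hA', _, hj', P', p', chart', hP', O1', lam', hO1',
    hpb.lift (g' ≫ i) f' (by rw [Category.assoc, hsq.w]), himm', hpb.lift_snd _ _ _, ⟨?_⟩⟩
  exact (Scheme.Modules.pullback g').mapIso eL ≪≫
    (Scheme.Modules.pullbackComp g' i).app O1 ≪≫
    (Scheme.Modules.pullbackCongr (hpb.lift_fst (g' ≫ i) f'
      (by rw [Category.assoc, hsq.w])).symm).app O1 ≪≫
    ((Scheme.Modules.pullbackComp (hpb.lift (g' ≫ i) f' (by rw [Category.assoc, hsq.w]))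
      h).app O1).symm ≪≫
    (Scheme.Modules.pullback (hpb.lift (g' ≫ i) f' (by rw [Category.assoc, hsq.w]))).mapIso eO

end Groth.Agent.Helper4.SN287
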