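import Mathlib
import Groth.Prelude.Def_RelProj4
import Groth.Agent.Helper1.SG4
import Groth.Agent.Helper1.SY11
import Groth.Agent.Helper4.SN286
import Groth.Agent.S8258
import Groth.Agent.S8284

/-!
# Very ample relative to a composite implies very ample relative to the first morphism
-/

set_option autoImplicit false
set_option linter.unusedSectionVars false
set_option linter.style.haveILetI false

namespace Groth.Agent.Helper4.SN288

open CategoryTheory CategoryTheory.Limits AlgebraicGeometry TopologicalSpace Opposite RelSpec RelProj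
open Groth.Agent.Helper1

universe u

theorem isRelVeryAmple_of_comp {X Y Z : Scheme.{u}} (f : X ⟶ Y) (g : Y ⟶ Z) (L : X.Modules)
    (hva : IsRelVeryAmple (f ≫ g) L) : IsRelVeryAmple f L := by
  obtain ⟨E, hE, 𝒮, j, hj, P, p, chart, hP, O1, lam, hO1, i, himm, hip, ⟨eL⟩⟩ := hva
  haveI : E.IsQuasicoherent := hE
  haveI hE' : ((Scheme.Modules.pullback g).obj E).IsQuasicoherent :=
    Groth.Agent.Lead.StalkPull.isQuasicoherent_pullbackObj g E
  have hA' := SY.isSymAlg_symAlg ((Scheme.Modules.pullback g).obj E)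
  have hj' := SG.isGrSymAlg_grAlg hA'
  obtain ⟨P', p', chart', hP'⟩ := Groth.Agent.S8258.result (SG.grAlg hA')
  obtain ⟨O1', lam', hO1'⟩ := Groth.Agent.S8284.result (SG.grAlg hA') p' chart' hP' 1
  obtain ⟨h, hpb, hiso⟩ := Groth.Agent.Helper4.SN286.exists_baseChange g E hj hj' hP hP'
  obtain ⟨eO⟩ := hiso 1 O1 lam hO1 O1' lam' hO1'
  have hfst : hpb.lift i f hip ≫ h = i := hpb.lift_fst i f hip
  haveI : IsImmersion (hpb.lift i f hip ≫ h) := by rw [hfst]; exact himm
  have himm' : IsImmersion (hpb.lift i f hip) := IsImmersion.of_comp (hpb.lift i f hip) h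
  refine ⟨_, hE', SG.grAlg hA', _, hj', P', p', chart', hP', O1', lam', hO1',
    hpb.lift i f hip, himm', hpb.lift_snd _ _ _, ⟨?_⟩⟩
  exact eL ≪≫ (Scheme.Modules.pullbackCongr hfst.symm).app O1 ≪≫
    ((Scheme.Modules.pullbackComp (hpb.lift i f hip) h).app O1).symm ≪≫
    (Scheme.Modules.pullback (hpb.lift i f hip)).mapIso eO

end Groth.Agent.Helper4.SN288
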