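import Mathlib
import Groth.Agent.S5729
import Groth.Agent.Helper4.SN286
import Groth.Agent.Lead.LimPres

/-!
# Projective morphisms: base change
-/

set_option autoImplicit false
set_option linter.unusedSectionVars false

namespace Groth.Agent.Helper4.SN299

open CategoryTheory CategoryTheory.Limits AlgebraicGeometry TopologicalSpace Opposite RelSpec RelProj

universe u

/-- projective morphisms are stable under base change (any pullback square) -/
theorem isProjective_of_isPullback {X Y X' Y' : Scheme.{u}} {f : X ⟶ Y} {g : Y' ⟶ Y}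
    {fst : X' ⟶ X} {snd : X' ⟶ Y'} (sq : IsPullback fst snd f g) (hf : IsProjective f) :
    IsProjective snd := by
  obtain ⟨E, 𝒯, j, P, p, chart, i, hq, hft, hj, hP, hi, hip⟩ := (Groth.Agent.S5729.result f).mp hf
  haveI : E.IsQuasicoherent := hq
  haveI := hi
  haveI hq' := Groth.Agent.Lead.StalkPull.isQuasicoherent_pullbackObj g E
  have hsym' := Groth.Agent.Helper1.SY.isSymAlg_symAlg ((Scheme.Modules.pullback g).obj E)
  have hj' := Groth.Agent.Helper1.SG.isGrSymAlg_grAlg hsym'
  obtain ⟨P', p', chart', hP'⟩ := Groth.Agent.S8258.result (Groth.Agent.Helper1.SG.grAlg hsym')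
  obtain ⟨h, hpb, -⟩ := Groth.Agent.Helper4.SN286.exists_baseChange g E hj hj' hP hP'
  have hw : (fst ≫ i) ≫ p = snd ≫ g := by rw [Category.assoc, hip, sq.w]
  have hl1 : hpb.lift (fst ≫ i) snd hw ≫ h = fst ≫ i := hpb.lift_fst _ _ _
  have hl2 : hpb.lift (fst ≫ i) snd hw ≫ p' = snd := hpb.lift_snd _ _ _
  have t : IsPullback fst (hpb.lift (fst ≫ i) snd hw ≫ p') (i ≫ p) g := by
    rw [hl2, hip]; exact sq
  have sq' : IsPullback fst (hpb.lift (fst ≫ i) snd hw) i h := IsPullback.of_bot t hl1.symm hpb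
  haveI : IsClosedImmersion (hpb.lift (fst ≫ i) snd hw) :=
    MorphismProperty.of_isPullback (P := @IsClosedImmersion) sq' inferInstance
  exact (Groth.Agent.S5729.result snd).mpr ⟨(Scheme.Modules.pullback g).obj E,
    Groth.Agent.Helper1.SG.grAlg hsym', Groth.Agent.Helper1.SY.symJ _, P', p', chart',
    hpb.lift (fst ≫ i) snd hw, hq', Groth.Agent.Lead.LimPres.isFT_pullback g E hft, hj', hP',
    inferInstance, hl2⟩


/-- a closed subscheme of the source of a projective morphism is projective over any base through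
which it factors by a separated morphism -/
theorem isProjective_of_comp_closedImmersion {X₀ X Y₀ Y : Scheme.{u}} (f : X ⟶ Y)
    (hf : IsProjective f) (j : X₀ ⟶ X) [IsClosedImmersion j] (k : Y₀ ⟶ Y) [IsSeparated k]
    (f₀ : X₀ ⟶ Y₀) (hcomm : j ≫ f = f₀ ≫ k) : IsProjective f₀ := by
  obtain ⟨E, 𝒯, jE, P, p, chart, i, hq, hft, hj, hP, hi, hip⟩ :=
    (Groth.Agent.S5729.result f).mp hf
  haveI : E.IsQuasicoherent := hq
  haveI := hi
  haveI hq' := Groth.Agent.Lead.StalkPull.isQuasicoherent_pullbackObj k E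
  have hsym' := Groth.Agent.Helper1.SY.isSymAlg_symAlg ((Scheme.Modules.pullback k).obj E)
  have hj' := Groth.Agent.Helper1.SG.isGrSymAlg_grAlg hsym'
  obtain ⟨P', p', chart', hP'⟩ := Groth.Agent.S8258.result (Groth.Agent.Helper1.SG.grAlg hsym')
  obtain ⟨h, hpb, -⟩ := Groth.Agent.Helper4.SN286.exists_baseChange k E hj hj' hP hP'
  have hw : (j ≫ i) ≫ p = f₀ ≫ k := by rw [Category.assoc, hip, hcomm]
  have hl1 : hpb.lift (j ≫ i) f₀ hw ≫ h = j ≫ i := hpb.lift_fst _ _ _
  have hl2 : hpb.lift (j ≫ i) f₀ hw ≫ p' = f₀ := hpb.lift_snd _ _ _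
  haveI : IsSeparated h := MorphismProperty.of_isPullback (P := @IsSeparated) hpb.flip inferInstance
  haveI : IsClosedImmersion (hpb.lift (j ≫ i) f₀ hw ≫ h) := by rw [hl1]; infer_instance
  haveI : IsClosedImmersion (hpb.lift (j ≫ i) f₀ hw) := IsClosedImmersion.of_comp _ h
  exact (Groth.Agent.S5729.result f₀).mpr ⟨(Scheme.Modules.pullback k).obj E,
    Groth.Agent.Helper1.SG.grAlg hsym', Groth.Agent.Helper1.SY.symJ _, P', p', chart',
    hpb.lift (j ≫ i) f₀ hw, hq', Groth.Agent.Lead.LimPres.isFT_pullback k E hft, hj', hP',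
    inferInstance, hl2⟩

end Groth.Agent.Helper4.SN299
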