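import Groth.Agent.Helper4.SN299

set_option autoImplicit false
set_option maxHeartbeats 1600000

universe u

open CategoryTheory CategoryTheory.Limits AlgebraicGeometry TopologicalSpace Opposite RelSpec RelProj

namespace Groth.Agent.Helper4.SN300

/-- restriction of a pullback square over an open of the base is a pullback square -/
theorem isPullback_restrict {X S S' P : Scheme.{u}} {f : X ⟶ S} {g : S' ⟶ S}
    {fst : P ⟶ X} {snd : P ⟶ S'} (sq : IsPullback fst snd f g) (U : S.Opens) :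
    ∃ a : ((snd ⁻¹ᵁ (g ⁻¹ᵁ U) : P.Opens) : Scheme.{u}) ⟶ ((f ⁻¹ᵁ U : X.Opens) : Scheme.{u}),
      IsPullback a (snd ∣_ (g ⁻¹ᵁ U)) (f ∣_ U) (g ∣_ U) := by
  have A := (isPullback_morphismRestrict snd (g ⁻¹ᵁ U)).flip
  have B := (isPullback_morphismRestrict g U)
  have C := (isPullback_morphismRestrict f U).flip
  have big := A.paste_horiz sq
  have e1 : (g ⁻¹ᵁ U).ι ≫ g = (g ∣_ U) ≫ U.ι := B.w.symm
  rw [e1] at big
  have hw : ((snd ⁻¹ᵁ (g ⁻¹ᵁ U)).ι ≫ fst) ≫ f = ((snd ∣_ (g ⁻¹ᵁ U)) ≫ (g ∣_ U)) ≫ U.ι := by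
    simpa [Category.assoc] using big.w
  refine ⟨C.lift ((snd ⁻¹ᵁ (g ⁻¹ᵁ U)).ι ≫ fst) ((snd ∣_ (g ⁻¹ᵁ U)) ≫ (g ∣_ U)) hw, ?_⟩
  refine IsPullback.of_right ?_ (C.lift_snd _ _ _) C
  rw [C.lift_fst]
  exact big

theorem isLocallyProjective_of_isPullback {X S S' P : Scheme.{u}} {f : X ⟶ S} {g : S' ⟶ S}
    {fst : P ⟶ X} {snd : P ⟶ S'} (sq : IsPullback fst snd f g)
    (hf : IsLocallyProjective f) : IsLocallyProjective snd := by
  intro s'
  obtain ⟨U, hsU, hU⟩ := hf (g.base s')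
  obtain ⟨a, ha⟩ := isPullback_restrict sq U
  exact ⟨g ⁻¹ᵁ U, hsU, Groth.Agent.Helper4.SN299.isProjective_of_isPullback ha hU⟩

end Groth.Agent.Helper4.SN300
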