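import Mathlib
import Groth.Agent.Helper1.RP2

/-!
# Isomorphisms of `Proj` from bijective graded ring homomorphisms
-/

set_option autoImplicit false

namespace Groth.Agent.Helper4.SN301

open CategoryTheory CategoryTheory.Limits AlgebraicGeometry HomogeneousIdeal

universe u

variable {A B σ τ : Type u} [CommRing A] [SetLike σ A] [AddSubgroupClass σ A]
  [CommRing B] [SetLike τ B] [AddSubgroupClass τ B]
  {𝒜 : ℕ → σ} {ℬ : ℕ → τ} [GradedRing 𝒜] [GradedRing ℬ]

/-- an injective graded homomorphism reflects homogeneity -/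
theorem mem_of_map_mem (f : 𝒜 →+*ᵍ ℬ) (hf : Function.Injective f) {d : ℕ} {a : A}
    (h : f a ∈ ℬ d) : a ∈ 𝒜 d := by
  classical
  have h1 : f (DirectSum.decompose 𝒜 a d : A) = f a := by
    rw [GradedRingHom.map_directSumDecompose, DirectSum.decompose_of_mem_same _ h]
  rw [← hf h1]
  exact SetLike.coe_mem _

/-- the inverse of a bijective graded homomorphism, as a graded homomorphism -/
noncomputable def gradedSymm (f : 𝒜 →+*ᵍ ℬ) (hf : Function.Bijective f) : ℬ →+*ᵍ 𝒜 :=
  { (RingEquiv.ofBijective f.toRingHom hf).symm.toRingHom with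
    map_mem := fun {d} {b} hb => by
      apply mem_of_map_mem f hf.1
      have : f ((RingEquiv.ofBijective f.toRingHom hf).symm b) = b :=
        (RingEquiv.ofBijective f.toRingHom hf).apply_symm_apply b
      change f ((RingEquiv.ofBijective f.toRingHom hf).symm b) ∈ ℬ d
      rw [this]
      exact hb }

theorem gradedSymm_apply (f : 𝒜 →+*ᵍ ℬ) (hf : Function.Bijective f) (b : B) :
    f (gradedSymm f hf b) = b :=
  (RingEquiv.ofBijective f.toRingHom hf).apply_symm_apply b

theorem apply_gradedSymm (f : 𝒜 →+*ᵍ ℬ) (hf : Function.Bijective f) (a : A) :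
    gradedSymm f hf (f a) = a :=
  (RingEquiv.ofBijective f.toRingHom hf).symm_apply_apply a

theorem gradedSymm_bijective (f : 𝒜 →+*ᵍ ℬ) (hf : Function.Bijective f) :
    Function.Bijective (gradedSymm f hf) :=
  (RingEquiv.ofBijective f.toRingHom hf).symm.bijective

/-- the irrelevant-ideal condition for a bijective graded homomorphism -/
theorem irrelevant_le_map (f : 𝒜 →+*ᵍ ℬ) (hf : Function.Bijective f) : ℬ₊ ≤ 𝒜₊.map f := by
  rw [HomogeneousIdeal.irrelevant_le]
  intro i hi b hb
  change b ∈ Ideal.map f (𝒜₊).toIdeal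
  rw [← gradedSymm_apply f hf b]
  exact Ideal.mem_map_of_mem _
    (HomogeneousIdeal.mem_irrelevant_of_mem _ hi ((gradedSymm f hf).map_mem hb))

theorem comp_gradedSymm (f : 𝒜 →+*ᵍ ℬ) (hf : Function.Bijective f) :
    f.comp (gradedSymm f hf) = GradedRingHom.id ℬ := by
  ext b
  exact gradedSymm_apply f hf b

theorem gradedSymm_comp (f : 𝒜 →+*ᵍ ℬ) (hf : Function.Bijective f) :
    (gradedSymm f hf).comp f = GradedRingHom.id 𝒜 := by
  ext a
  exact apply_gradedSymm f hf a

/-- the isomorphism of `Proj`'s induced by a bijective graded homomorphism -/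
noncomputable def projIso (f : 𝒜 →+*ᵍ ℬ) (hf : Function.Bijective f) : Proj ℬ ≅ Proj 𝒜 where
  hom := Proj.map f (irrelevant_le_map f hf)
  inv := Proj.map (gradedSymm f hf) (irrelevant_le_map _ (gradedSymm_bijective f hf))
  hom_inv_id := by
    rw [← Proj.map_comp, ← Proj.map_id]
    exact Groth.Agent.Helper1.RP.map_congr (comp_gradedSymm f hf) _ _
  inv_hom_id := by
    rw [← Proj.map_comp, ← Proj.map_id]
    exact Groth.Agent.Helper1.RP.map_congr (gradedSymm_comp f hf) _ _

theorem projIso_hom_toSpecZero (f : 𝒜 →+*ᵍ ℬ) (hf : Function.Bijective f) :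
    (projIso f hf).hom ≫ Proj.toSpecZero 𝒜 =
      Proj.toSpecZero ℬ ≫ Spec.map (CommRingCat.ofHom f.gradedZeroRingHom) :=
  Groth.Agent.Helper1.RP.map_toSpecZero f _

end Groth.Agent.Helper4.SN301
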