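import Mathlib
import Groth.Prelude.Def_RelProj2
import Groth.Prelude.Def_CohB1
import Groth.Agent.Helper1.SG6
import Groth.Agent.Helper1.SY17
import Groth.Agent.Helper4.SN301

/-!
# `P(E)` for `E` free of rank `n + 1` over an affine base is `P^n`
-/

set_option autoImplicit false
set_option linter.style.haveILetI false

namespace Groth.Agent.Helper4.SN302

open CategoryTheory CategoryTheory.Limits AlgebraicGeometry TopologicalSpace Opposite RelSpec RelProj
  Groth.Agent.Helper1.SY Groth.Agent.Helper1.SG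
open scoped HomogeneousIdeal

universe u

section general

variable {A σ : Type u} [CommRing A] [SetLike σ A] [AddSubgroupClass σ A] (𝒜 : ℕ → σ)
  [GradedRing 𝒜] {R : Type u} [CommRing R] {ι : Type}

/-- evaluation of a homogeneous polynomial at degree-one elements is homogeneous -/
theorem eval₂_mem (c : R →+* A) (hc : ∀ r, c r ∈ 𝒜 0) (x : ι → A) (hx : ∀ i, x i ∈ 𝒜 1)
    {d : ℕ} {p : MvPolynomial ι R} (hp : p.IsHomogeneous d) :
    MvPolynomial.eval₂ c x p ∈ 𝒜 d := by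
  induction hp using MvPolynomial.IsWeightedHomogeneous.induction_on with
  | zero => rw [MvPolynomial.eval₂_zero]; exact zero_mem _
  | add p q _ _ hp hq => rw [MvPolynomial.eval₂_add]; exact add_mem hp hq
  | monomial m r hr =>
    rw [MvPolynomial.eval₂_monomial, Finsupp.prod]
    have h1 : ∏ k ∈ m.support, x k ^ m k ∈ 𝒜 (∑ k ∈ m.support, m k • 1) :=
      SetLike.prod_pow_mem_graded 𝒜 (fun _ => 1) x (fun k => m k) (fun k _ => hx k)
    have h2 : ∑ k ∈ m.support, m k • 1 = d := by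
      rw [← hr, Finsupp.weight_apply, Finsupp.sum]
      simp
    rw [h2] at h1
    have h3 := SetLike.mul_mem_graded (hc r) h1
    rwa [zero_add] at h3

end general

noncomputable section

variable {S : Scheme.{u}} (hT : IsAffineOpen (⊤ : S.Opens)) {E : S.Modules} [E.IsQuasicoherent]
  {𝒯 : QCGrAlg S} {j : E ⟶ 𝒯.toModule} (hj : IsGrSymAlg E 𝒯 j)
  {R : Type u} [CommRing R] (ρ : R ≃+* Γ(S, ⊤)) {n : ℕ} (κ : (Fin (n + 1) → R) ≃+ Γ(E, ⊤))
  (hκ : ∀ (r : R) (m : Fin (n + 1) → R), κ (r • m) = ρ r • κ m)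

/-- coefficients -/
def cR : R →+* 𝒯.presheaf.obj (op ⊤) := (𝒯.str.app (op ⊤)).hom.comp ρ.toRingHom

/-- the images of the basis vectors -/
def xs (i : Fin (n + 1)) : 𝒯.presheaf.obj (op ⊤) := jR j ⊤ (κ (Pi.single i 1))

/-- the comparison `R[T₀..Tₙ] ⟶ 𝒯(⊤)` -/
def θ : MvPolynomial (Fin (n + 1)) R →+* 𝒯.presheaf.obj (op ⊤) :=
  MvPolynomial.eval₂Hom (cR (𝒯 := 𝒯) ρ) (xs (j := j) κ)

theorem θ_C (r : R) : θ (j := j) ρ κ (MvPolynomial.C r) = (𝒯.str.app (op ⊤)).hom (ρ r) := by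
  unfold θ
  rw [MvPolynomial.coe_eval₂Hom, MvPolynomial.eval₂_C]
  rfl

theorem θ_X (i : Fin (n + 1)) : θ (j := j) ρ κ (MvPolynomial.X i) = jR j ⊤ (κ (Pi.single i 1)) := by
  unfold θ
  rw [MvPolynomial.coe_eval₂Hom, MvPolynomial.eval₂_X]
  rfl

/-- the linear form `m ↦ ∑ mᵢ Tᵢ` -/
def lin : (Fin (n + 1) → R) →ₗ[R] MvPolynomial (Fin (n + 1)) R :=
  Fintype.linearCombination R (fun i => (MvPolynomial.X i : MvPolynomial (Fin (n + 1)) R))

include hκ in
theorem hφ (c : Γ(S, ⊤)) (m : Γ(E, ⊤)) :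
    ((lin (R := R) (n := n)).toAddMonoidHom.comp κ.symm.toAddMonoidHom) (c • m) =
      (MvPolynomial.C.comp ρ.symm.toRingHom) c *
        ((lin (R := R) (n := n)).toAddMonoidHom.comp κ.symm.toAddMonoidHom) m := by
  have h1 : κ.symm (c • m) = ρ.symm c • κ.symm m := by
    apply κ.injective
    rw [AddEquiv.apply_symm_apply, hκ, RingEquiv.apply_symm_apply, AddEquiv.apply_symm_apply]
  change lin (κ.symm (c • m)) = MvPolynomial.C (ρ.symm c) * lin (κ.symm m)
  rw [h1, map_smul, MvPolynomial.smul_eq_C_mul]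

/-- the inverse comparison -/
def θ' : 𝒯.presheaf.obj (op ⊤) →+* MvPolynomial (Fin (n + 1)) R :=
  secDesc hj.1 ⊤ hT (MvPolynomial.C.comp ρ.symm.toRingHom)
    ((lin (R := R) (n := n)).toAddMonoidHom.comp κ.symm.toAddMonoidHom) (hφ ρ κ hκ)

theorem θ'_str (c : Γ(S, ⊤)) :
    θ' hT hj ρ κ hκ ((𝒯.str.app (op ⊤)).hom c) = MvPolynomial.C (ρ.symm c) :=
  secDesc_str hj.1 ⊤ hT _ _ _ c

theorem θ'_j (m : Γ(E, ⊤)) : θ' hT hj ρ κ hκ (jR j ⊤ m) = lin (κ.symm m) :=
  secDesc_jR hj.1 ⊤ hT _ _ _ m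

theorem θ'_θ (p : MvPolynomial (Fin (n + 1)) R) : θ' hT hj ρ κ hκ (θ (j := j) ρ κ p) = p := by
  have : (θ' hT hj ρ κ hκ).comp (θ (j := j) ρ κ) = RingHom.id _ := by
    refine MvPolynomial.ringHom_ext (fun r => ?_) (fun i => ?_)
    · rw [RingHom.comp_apply, θ_C, θ'_str, RingEquiv.symm_apply_apply, RingHom.id_apply]
    · rw [RingHom.comp_apply, θ_X, θ'_j, AddEquiv.symm_apply_apply, RingHom.id_apply]
      unfold lin
      rw [Fintype.linearCombination_apply_single, one_smul]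
  exact congrArg (fun k => k p) this

theorem θ_θ' (y : 𝒯.presheaf.obj (op ⊤)) : θ (j := j) ρ κ (θ' hT hj ρ κ hκ y) = y := by
  have : (θ (j := j) ρ κ).comp (θ' hT hj ρ κ hκ) = RingHom.id _ := by
    refine secHom_ext' hj.1 ⊤ hT (fun c => ?_) (fun m => ?_)
    · rw [RingHom.comp_apply, θ'_str, θ_C, RingEquiv.apply_symm_apply, RingHom.id_apply]
    · rw [RingHom.comp_apply, θ'_j, RingHom.id_apply]
      unfold lin
      rw [Fintype.linearCombination_apply, map_sum]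
      have h1 : ∀ i : Fin (n + 1), θ (j := j) ρ κ ((κ.symm m) i • MvPolynomial.X i) =
          jR j ⊤ (κ (Pi.single i ((κ.symm m) i))) := by
        intro i
        rw [MvPolynomial.smul_eq_C_mul, map_mul, θ_C, θ_X]
        have h2 := jR_smul j ⊤ (ρ ((κ.symm m) i)) (κ (Pi.single i 1))
        rw [← h2, ← hκ]
        congr 2
        rw [← Pi.single_smul, smul_eq_mul, mul_one]
      rw [Finset.sum_congr rfl (fun i _ => h1 i), ← map_sum, ← map_sum, Finset.univ_sum_single,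
        AddEquiv.apply_symm_apply]
  exact congrArg (fun k => k y) this

include hT hj hκ in
theorem θ_bijective : Function.Bijective (θ (j := j) ρ κ) :=
  ⟨Function.LeftInverse.injective (θ'_θ hT hj ρ κ hκ),
    Function.RightInverse.surjective (θ_θ' hT hj ρ κ hκ)⟩

include hj in
theorem θ_mem {d : ℕ} {p : MvPolynomial (Fin (n + 1)) R} (hp : p ∈ CohB1.polyGrading n R d) :
    θ (j := j) ρ κ p ∈ 𝒯.deg ⊤ hT d := by
  unfold θ
  rw [MvPolynomial.coe_eval₂Hom]
  exact eval₂_mem (A := 𝒯.presheaf.obj (op ⊤)) (𝒯.deg ⊤ hT) (cR (𝒯 := 𝒯) ρ)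
    (fun r => 𝒯.str_mem ⊤ hT (ρ r)) (xs (j := j) κ)
    (fun i => hj.2 ⊤ hT (κ (Pi.single i 1))) ((MvPolynomial.mem_homogeneousSubmodule d p).1 hp)

/-- the comparison as a graded homomorphism -/
def θg : CohB1.polyGrading n R →+*ᵍ 𝒯.deg ⊤ hT :=
  { θ (j := j) ρ κ with map_mem := fun hp => θ_mem hT hj ρ κ hp }

include hκ in
theorem θg_bijective : Function.Bijective (θg hT hj ρ κ) := θ_bijective hT hj ρ κ hκ

end

end Groth.Agent.Helper4.SN302
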