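import Mathlib
import Groth.Agent.Helper4.SN302

/-!
# `P(E)` for `E` free of rank `n + 1` over an affine base is `P^n` (scheme level)
-/

set_option autoImplicit false
set_option linter.style.haveILetI false

namespace Groth.Agent.Helper4.SN303

open CategoryTheory CategoryTheory.Limits AlgebraicGeometry TopologicalSpace Opposite RelSpec RelProj
  Groth.Agent.Helper1.SY Groth.Agent.Helper1.SG Groth.Agent.Helper4.SN302
open scoped HomogeneousIdeal

universe u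

variable {S : Scheme.{u}} {𝒯 : QCGrAlg S} {P : Scheme.{u}} {p : P ⟶ S}
  {chart : ∀ (U : S.Opens) (hU : IsAffineOpen U),
    (((p ⁻¹ᵁ U : P.Opens) : Scheme.{u}) ≅ Proj (𝒯.deg U hU))}
  (hP : IsRelProj 𝒯 p chart) (hT : IsAffineOpen (⊤ : S.Opens))

include hP in
/-- over an affine base, the relative Proj is the Proj of the global sections -/
theorem exists_iso_proj_top :
    ∃ e : P ≅ Proj (𝒯.deg ⊤ hT),
      e.hom ≫ Proj.toSpecZero (𝒯.deg ⊤ hT) ≫ Spec.map (𝒯.strZero ⊤ hT) ≫ hT.fromSpec = p := by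
  have h := hP.chart_over ⊤ hT
  let e0 : P ≅ ((p ⁻¹ᵁ ⊤ : P.Opens) : Scheme.{u}) := P.topIso.symm
  have h0 : e0.hom ≫ (p ⁻¹ᵁ ⊤).ι = 𝟙 P := Scheme.toIso_inv_ι P
  refine ⟨e0 ≪≫ chart ⊤ hT, ?_⟩
  rw [Iso.trans_hom, Category.assoc, h, ← Category.assoc, h0, Category.id_comp]

variable {E : S.Modules} [E.IsQuasicoherent] {j : E ⟶ 𝒯.toModule} (hj : IsGrSymAlg E 𝒯 j)
  {R : Type u} [CommRing R] (ρ : R ≃+* Γ(S, ⊤)) {n : ℕ} (κ : (Fin (n + 1) → R) ≃+ Γ(E, ⊤))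
  (hκ : ∀ (r : R) (m : Fin (n + 1) → R), κ (r • m) = ρ r • κ m)

/-- the isomorphism `Proj 𝒯(⊤) ≅ P^n_R` -/
noncomputable def e₂ : Proj (𝒯.deg ⊤ hT) ≅ CohB1.ProjSpace n R :=
  Groth.Agent.Helper4.SN301.projIso (θg hT hj ρ κ) (θg_bijective hT hj ρ κ hκ)

theorem e₂_toSpec :
    (e₂ hT hj ρ κ hκ).hom ≫ CohB1.ProjSpace.toSpec n R =
      Proj.toSpecZero (𝒯.deg ⊤ hT) ≫
        Spec.map (CommRingCat.ofHom (θg hT hj ρ κ).gradedZeroRingHom) ≫
          Spec.map (CommRingCat.ofHom (algebraMap R (CohB1.polyGrading n R 0))) := by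
  have h := Groth.Agent.Helper4.SN301.projIso_hom_toSpecZero (θg hT hj ρ κ)
    (θg_bijective hT hj ρ κ hκ)
  have h' := congrArg
    (fun k => k ≫ Spec.map (CommRingCat.ofHom (algebraMap R (CohB1.polyGrading n R 0)))) h
  simp only [Category.assoc] at h'
  exact h'

include hP hj hκ in
/-- `P(E)` for `E` free of rank `n + 1` over an affine base is `P^n` -/
theorem exists_iso_projSpace :
    ∃ e : P ≅ CohB1.ProjSpace n R,
      e.hom ≫ CohB1.ProjSpace.toSpec n R ≫ Spec.map (CommRingCat.ofHom ρ.symm.toRingHom) ≫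
        hT.fromSpec = p := by
  obtain ⟨e₁, he₁⟩ := exists_iso_proj_top hP hT
  refine ⟨e₁ ≪≫ e₂ hT hj ρ κ hκ, ?_⟩
  have h2 := e₂_toSpec hT hj ρ κ hκ
  rw [Iso.trans_hom, Category.assoc, reassoc_of% h2, ← Spec.map_comp_assoc,
    ← Spec.map_comp_assoc]
  rw [← he₁]
  congr 4
  ext c
  change θ (j := j) ρ κ (MvPolynomial.C (ρ.symm c)) = (𝒯.str.app (op ⊤)).hom c
  rw [θ_C, RingEquiv.apply_symm_apply]

end Groth.Agent.Helper4.SN303
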