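import Mathlib
import Groth.Agent.Helper4.SN303
import Groth.Agent.Helper4.FTGlue

/-!
# `P^n_R` is the projective bundle of the free module of rank `n + 1` over `Spec R`
-/

set_option autoImplicit false
set_option linter.style.haveILetI false

namespace Groth.Agent.Helper4.SN304

open CategoryTheory CategoryTheory.Limits AlgebraicGeometry TopologicalSpace Opposite RelSpec RelProj
  Groth.Agent.Helper1.SY Groth.Agent.Helper1.SG
open scoped HomogeneousIdeal

universe u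

section abstract

variable {S : Scheme.{u}} {E : S.Modules}
  {R : Type u} [CommRing R] (ρ : R ≃+* Γ(S, ⊤)) {n : ℕ} (κ : (Fin (n + 1) → R) ≃+ Γ(E, ⊤))
  (hκ : ∀ (r : R) (m : Fin (n + 1) → R), κ (r • m) = ρ r • κ m)

include hκ in
theorem finite_top : Module.Finite Γ(S, ⊤) Γ(E, ⊤) := by
  classical
  refine Module.finite_def.2 ⟨Finset.univ.image (fun i : Fin (n + 1) => κ (Pi.single i 1)), ?_⟩
  rw [eq_top_iff]
  intro x _
  obtain ⟨m, rfl⟩ := κ.surjective x
  have h1 : m = ∑ i, m i • (Pi.single i 1 : Fin (n + 1) → R) := by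
    conv_lhs => rw [← Finset.univ_sum_single m]
    refine Finset.sum_congr rfl fun i _ => ?_
    rw [← Pi.single_smul, smul_eq_mul, mul_one]
  rw [h1, map_sum]
  refine Submodule.sum_mem _ fun i _ => ?_
  rw [hκ]
  refine Submodule.smul_mem _ _ (Submodule.subset_span ?_)
  rw [Finset.coe_image]
  exact ⟨i, Finset.mem_coe.2 (Finset.mem_univ i), rfl⟩

end abstract

noncomputable section

variable (R : Type u) [CommRing R] (n : ℕ)

/-- the free module of rank `n + 1` -/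
def M₀ : ModuleCat.{u} (CommRingCat.of R) := ModuleCat.of R (Fin (n + 1) → R)

/-- the free sheaf of rank `n + 1` on `Spec R` -/
def E₀ : (Spec (CommRingCat.of R)).Modules := tilde (M₀ R n)

instance : (E₀ R n).IsQuasicoherent := inferInstanceAs (tilde (M₀ R n)).IsQuasicoherent

/-- `R ≃ Γ(Spec R, ⊤)` -/
def ρ₀ : R ≃+* Γ(Spec (CommRingCat.of R), ⊤) :=
  (Scheme.ΓSpecIso (CommRingCat.of R)).symm.commRingCatIsoToRingEquiv

/-- `R^{n+1} ≃ Γ(E₀, ⊤)` -/
def κ₀ : (Fin (n + 1) → R) ≃+ Γ(E₀ R n, ⊤) :=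
  (tilde.isoTop (M₀ R n)).toLinearEquiv.toAddEquiv

theorem hκ₀ (r : R) (m : Fin (n + 1) → R) : κ₀ R n (r • m) = ρ₀ R r • κ₀ R n m := by
  have h1 := (tilde.isoTop (M₀ R n)).toLinearEquiv.map_smul r m
  refine h1.trans ?_
  have h2 : ((Spec (CommRingCat.of R)).presheaf.map
      (⊤ : (Spec (CommRingCat.of R)).Opens).leTop.op).hom
        ((Scheme.ΓSpecIso (CommRingCat.of R)).inv.hom r) = ρ₀ R r := by
    have : ((⊤ : (Spec (CommRingCat.of R)).Opens).leTop) = 𝟙 _ := Subsingleton.elim _ _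
    rw [this, op_id, CategoryTheory.Functor.map_id]
    rfl
  change (((Spec (CommRingCat.of R)).presheaf.map
      (⊤ : (Spec (CommRingCat.of R)).Opens).leTop.op).hom
        ((Scheme.ΓSpecIso (CommRingCat.of R)).inv.hom r)) • (κ₀ R n m) = _
  rw [h2]

theorem isFT_E₀ : CohB1.IsFT (E₀ R n) := by
  apply Groth.Agent.Helper4.FTGlue.isFiniteType_of_finite_sections
  intro x
  exact ⟨⊤, isAffineOpen_top _, trivial, finite_top (ρ₀ R) (κ₀ R n) (hκ₀ R n)⟩

theorem spec_ρ₀_fromSpec :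
    Spec.map (CommRingCat.ofHom (ρ₀ R).symm.toRingHom) ≫
      (isAffineOpen_top (Spec (CommRingCat.of R))).fromSpec = 𝟙 _ := by
  rw [IsAffineOpen.fromSpec_top, Scheme.isoSpec_Spec_inv]
  have : CommRingCat.ofHom (ρ₀ R).symm.toRingHom = (Scheme.ΓSpecIso (CommRingCat.of R)).hom := rfl
  rw [this, ← Spec.map_comp, Iso.inv_hom_id, Spec.map_id]

variable {R n}

/-- `P(O^{n+1})` over `Spec R` is `P^n_R` -/
theorem exists_iso_projSpace_spec {𝒯 : QCGrAlg (Spec (CommRingCat.of R))}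
    {j : E₀ R n ⟶ 𝒯.toModule} (hj : IsGrSymAlg (E₀ R n) 𝒯 j) {P : Scheme.{u}}
    {p : P ⟶ Spec (CommRingCat.of R)}
    {chart : ∀ (U : (Spec (CommRingCat.of R)).Opens) (hU : IsAffineOpen U),
      (((p ⁻¹ᵁ U : P.Opens) : Scheme.{u}) ≅ Proj (𝒯.deg U hU))}
    (hP : IsRelProj 𝒯 p chart) :
    ∃ e : P ≅ CohB1.ProjSpace n R, e.hom ≫ CohB1.ProjSpace.toSpec n R = p := by
  obtain ⟨e, he⟩ := Groth.Agent.Helper4.SN303.exists_iso_projSpace hP (isAffineOpen_top _) hj
    (ρ₀ R) (κ₀ R n) (hκ₀ R n)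
  refine ⟨e, ?_⟩
  rw [spec_ρ₀_fromSpec, Category.comp_id] at he
  exact he

end

end Groth.Agent.Helper4.SN304
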