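import Mathlib
import Groth.Agent.Helper4.SN304
import Groth.Agent.Helper4.SN299
import Groth.Agent.S8258

/-!
# H-projective morphisms are projective
-/

set_option autoImplicit false
set_option linter.style.haveILetI false

namespace Groth.Agent.Helper4.SN305

open CategoryTheory CategoryTheory.Limits AlgebraicGeometry TopologicalSpace Opposite RelSpec RelProj
  Groth.Agent.Helper1.SY Groth.Agent.Helper1.SG Groth.Agent.Helper4.SN304
open scoped HomogeneousIdeal

universe u

/-- projective space over a ring is projective over its spectrum -/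
theorem isProjective_toSpec (R : Type u) [CommRing R] (n : ℕ) :
    IsProjective (CohB1.ProjSpace.toSpec n R) := by
  have hsym := isSymAlg_symAlg (E₀ R n)
  have hj := isGrSymAlg_grAlg hsym
  obtain ⟨P, p, chart, hP⟩ := Groth.Agent.S8258.result (grAlg hsym)
  obtain ⟨e, he⟩ := exists_iso_projSpace_spec hj hP
  refine (Groth.Agent.S5729.result _).mpr ⟨E₀ R n, grAlg hsym, symJ _, P, p, chart, e.inv,
    inferInstance, isFT_E₀ R n, hj, hP, inferInstance, ?_⟩
  rw [Iso.inv_comp_eq, he]

/-- projective space over a scheme is projective over it -/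
theorem isProjective_toBase (n : ℕ) (S : Scheme.{u}) :
    IsProjective (CohB1.ProjSpaceOver.toBase n S) :=
  Groth.Agent.Helper4.SN299.isProjective_of_isPullback
    (IsPullback.of_hasPullback (CohB1.ProjSpace.toSpec n (ULift.{u} ℤ))
      (specULiftZIsTerminal.from S)) (isProjective_toSpec (ULift.{u} ℤ) n)

/-- H-projective morphisms are projective -/
theorem isProjective_of_isHProjective {X S : Scheme.{u}} (f : X ⟶ S) (hf : IsHProjective f) :
    IsProjective f := by
  obtain ⟨n, i, hi, hif⟩ := hf
  haveI := hi
  exact Groth.Agent.Helper4.SN299.isProjective_of_comp_closedImmersion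
    (CohB1.ProjSpaceOver.toBase n S) (isProjective_toBase n S) i (𝟙 S) f
    (by rw [hif, Category.comp_id])

end Groth.Agent.Helper4.SN305
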