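import Mathlib
import Groth.Agent.Helper4.SN304
import Groth.Agent.Helper4.QcohEpi
import Groth.Agent.Helper4.QcohLocal

/-!
# Finitely many generating global sections give an epimorphism from the pullback of a free module
-/

set_option autoImplicit false
set_option linter.style.haveILetI false

namespace Groth.Agent.Helper4.SN306

open CategoryTheory CategoryTheory.Limits AlgebraicGeometry TopologicalSpace Opposite
  Groth.Agent.Helper4.SN304

universe u

noncomputable section

variable {R : Type u} [CommRing R] {S : Scheme.{u}} (g : S ⟶ Spec (CommRingCat.of R))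
  (E : S.Modules) {n : ℕ} (s : Fin (n + 1) → Γ(E, ⊤))

/-- global sections of `g_* E` as an `R`-module -/
def ΓN : ModuleCat.{u} (CommRingCat.of R) :=
  (moduleSpecΓFunctor (R := CommRingCat.of R)).obj ((Scheme.Modules.pushforward g).obj E)

/-- global sections of `E` as elements of `ΓN` -/
def toΓN (x : Γ(E, ⊤)) : ΓN g E := x

/-- the linear map `R^{n+1} ⟶ Γ(g_* E, ⊤)` -/
def ℓ : M₀ R n ⟶ ΓN g E :=
  ModuleCat.ofHom (X := Fin (n + 1) → R) (Y := ↑(ΓN g E))
    (Fintype.linearCombination R (fun i => toΓN g E (s i)))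

/-- the map `O^{n+1} ⟶ g_* E` -/
def w : E₀ R n ⟶ (Scheme.Modules.pushforward g).obj E :=
  ((tilde.adjunction (R := CommRingCat.of R)).homEquiv (M₀ R n)
    ((Scheme.Modules.pushforward g).obj E)).symm (ℓ g E s)

/-- the map `g^* O^{n+1} ⟶ E` -/
def v : (Scheme.Modules.pullback g).obj (E₀ R n) ⟶ E :=
  ((Scheme.Modules.pullbackPushforwardAdjunction g).homEquiv (E₀ R n) E).symm (w g E s)

theorem w_app (i : Fin (n + 1)) :
    (w g E s).app ⊤ (κ₀ R n (Pi.single i 1)) = s i := by
  have h1 : ((tilde.adjunction (R := CommRingCat.of R)).homEquiv (M₀ R n)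
      ((Scheme.Modules.pushforward g).obj E)) (w g E s) = ℓ g E s := Equiv.apply_symm_apply _ _
  rw [Adjunction.homEquiv_unit] at h1
  have h2 := congrArg (fun k => k.hom (Pi.single i 1 : Fin (n + 1) → R)) h1
  have h3 : (ℓ g E s).hom (Pi.single i 1 : Fin (n + 1) → R) = s i := by
    change Fintype.linearCombination R (fun i => toΓN g E (s i)) (Pi.single i 1) = toΓN g E (s i)
    rw [Fintype.linearCombination_apply_single, one_smul]
  exact h2.trans h3

theorem v_app (x : Γ(E₀ R n, ⊤)) :
    (v g E s).app ⊤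
      ((((Scheme.Modules.pullbackPushforwardAdjunction g).unit.app (E₀ R n)).app ⊤) x) =
      (w g E s).app ⊤ x := by
  have h1 : ((Scheme.Modules.pullbackPushforwardAdjunction g).homEquiv (E₀ R n) E)
      (v g E s) = w g E s := Equiv.apply_symm_apply _ _
  rw [Adjunction.homEquiv_unit] at h1
  exact congrArg (fun k => k.app ⊤ x) h1

variable [E.IsQuasicoherent]

theorem epi_v (hT : IsAffineOpen (⊤ : S.Opens))
    (hs : Submodule.span Γ(S, ⊤) (Set.range s) = ⊤) : Epi (v g E s) := by
  apply Groth.Agent.Helper4.QcohLocal.epi_of_app_surjective_of_affine_cover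
  intro x
  refine ⟨⊤, hT, trivial, ?_⟩
  have hle : Submodule.span Γ(S, ⊤) (Set.range s) ≤
      LinearMap.range (Groth.Agent.Helper4.QcohEpi.appLin (v g E s) ⊤) := by
    rw [Submodule.span_le]
    rintro _ ⟨i, rfl⟩
    refine ⟨(((Scheme.Modules.pullbackPushforwardAdjunction g).unit.app (E₀ R n)).app ⊤)
      (κ₀ R n (Pi.single i 1)), ?_⟩
    rw [Groth.Agent.Helper4.QcohEpi.appLin_apply]
    exact (v_app g E s _).trans (w_app g E s i)
  intro t
  have ht : t ∈ LinearMap.range (Groth.Agent.Helper4.QcohEpi.appLin (v g E s) ⊤) :=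
    hle (by rw [hs]; trivial)
  obtain ⟨z, hz⟩ := ht
  exact ⟨z, hz⟩

end

end Groth.Agent.Helper4.SN306
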