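import Mathlib
import Groth.Agent.Helper4.SN305
import Groth.Agent.Helper4.SN306
import Groth.Agent.Helper4.SN286
import Groth.Agent.Helper4.SecDict
import Groth.Agent.Helper1.SG8

/-!
# Projective morphisms over an affine base are H-projective
-/

set_option autoImplicit false
set_option linter.style.haveILetI false

namespace Groth.Agent.Helper4.SN307

open CategoryTheory CategoryTheory.Limits AlgebraicGeometry TopologicalSpace Opposite RelSpec RelProj
  Groth.Agent.Helper1.SY Groth.Agent.Helper1.SG Groth.Agent.Helper4.SN304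
open scoped HomogeneousIdeal

universe u

/-- a projective morphism to an affine scheme is H-projective -/
theorem isHProjective_of_isProjective_of_isAffine {X S : Scheme.{u}} [IsAffine S] (f : X ⟶ S)
    (hf : IsProjective f) : IsHProjective f := by
  obtain ⟨E, 𝒯, j, P, p, chart, i, hq, hft, hj, hP, hi, hip⟩ :=
    (Groth.Agent.S5729.result f).mp hf
  haveI : E.IsQuasicoherent := hq
  haveI := hi
  have hT := isAffineOpen_top S
  haveI hfin : Module.Finite Γ(S, ⊤) Γ(E, ⊤) :=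
    Groth.Agent.Helper4.SecDict.finite_sections hT E hq hft
  obtain ⟨k, s₀, hs₀⟩ := Module.Finite.exists_fin (R := Γ(S, ⊤)) (M := Γ(E, ⊤))
  let s : Fin (k + 1) → Γ(E, ⊤) := Fin.cons 0 s₀
  have hs : Submodule.span Γ(S, ⊤) (Set.range s) = ⊤ := by
    rw [eq_top_iff, ← hs₀]
    apply Submodule.span_mono
    rintro _ ⟨a, rfl⟩
    exact ⟨a.succ, by simp [s]⟩
  let g : S ⟶ Spec (CommRingCat.of (ULift.{u} ℤ)) := specULiftZIsTerminal.from S
  haveI : ((Scheme.Modules.pullback g).obj (E₀ (ULift.{u} ℤ) k)).IsQuasicoherent :=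
    Groth.Agent.Lead.StalkPull.isQuasicoherent_pullbackObj g (E₀ (ULift.{u} ℤ) k)
  haveI := Groth.Agent.Helper4.SN306.epi_v g E s hT hs
  have hsymF := isSymAlg_symAlg ((Scheme.Modules.pullback g).obj (E₀ (ULift.{u} ℤ) k))
  have hjF := isGrSymAlg_grAlg hsymF
  obtain ⟨PF, pF, chartF, hPF⟩ := Groth.Agent.S8258.result (grAlg hsymF)
  obtain ⟨h, hcl, hcomm, -⟩ :=
    exists_closedImmersion_of_epi hjF hj (Groth.Agent.Helper4.SN306.v g E s) hPF hP
  haveI := hcl
  have hsym₁ := isSymAlg_symAlg (E₀ (ULift.{u} ℤ) k)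
  have hj₁ := isGrSymAlg_grAlg hsym₁
  obtain ⟨P₁, p₁, chart₁, hP₁⟩ := Groth.Agent.S8258.result (grAlg hsym₁)
  obtain ⟨e₁, he₁⟩ := exists_iso_projSpace_spec hj₁ hP₁
  obtain ⟨h', hpb, -⟩ :=
    Groth.Agent.Helper4.SN286.exists_baseChange g (E₀ (ULift.{u} ℤ) k) hj₁ hjF hP₁ hPF
  have hpb' : IsPullback (h' ≫ e₁.hom) pF (CohB1.ProjSpace.toSpec k (ULift.{u} ℤ)) g :=
    IsPullback.of_iso hpb (Iso.refl _) e₁ (Iso.refl _) (Iso.refl _) (by simp) (by simp)
      (by simp [he₁]) (by simp)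
  obtain ⟨ε, hε⟩ : ∃ ε : PF ≅ CohB1.ProjSpaceOver k S,
      ε.hom ≫ CohB1.ProjSpaceOver.toBase k S = pF :=
    ⟨hpb'.isoPullback, hpb'.isoPullback_hom_snd⟩
  refine ⟨k, i ≫ h ≫ ε.hom, inferInstance, ?_⟩
  rw [Category.assoc, Category.assoc, hε, hcomm, hip]

end Groth.Agent.Helper4.SN307
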