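import Mathlib
import Groth.Agent.Helper4.SN307

/-!
# Locally projective = locally H-projective
-/

set_option autoImplicit false
set_option linter.style.haveILetI false

namespace Groth.Agent.Helper4.SN308

open CategoryTheory CategoryTheory.Limits AlgebraicGeometry TopologicalSpace Opposite RelSpec RelProj

universe u

/-- restricting a restriction: a pullback square -/
theorem isPullback_restrict_le {X S : Scheme.{u}} (f : X ⟶ S) {U V : S.Opens} (hVU : V ≤ U) :
    IsPullback (X.homOfLE (f.preimage_mono hVU)) (f ∣_ V) (f ∣_ U) (S.homOfLE hVU) := by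
  have CU := (isPullback_morphismRestrict f U).flip
  have CV := (isPullback_morphismRestrict f V).flip
  have e1 : (f ⁻¹ᵁ V).ι = X.homOfLE (f.preimage_mono hVU) ≫ (f ⁻¹ᵁ U).ι :=
    (Scheme.homOfLE_ι X _).symm
  have e2 : V.ι = S.homOfLE hVU ≫ U.ι := (Scheme.homOfLE_ι S _).symm
  rw [e1, e2] at CV
  refine IsPullback.of_right CV ?_ CU
  rw [← cancel_mono U.ι, Category.assoc, Category.assoc, ← CU.w, ← e2, ← reassoc_of% e1]
  exact (isPullback_morphismRestrict f V).w.symm

theorem isProjective_restrict_le {X S : Scheme.{u}} (f : X ⟶ S) {U V : S.Opens} (hVU : V ≤ U)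
    (h : IsProjective (f ∣_ U)) : IsProjective (f ∣_ V) :=
  Groth.Agent.Helper4.SN299.isProjective_of_isPullback (isPullback_restrict_le f hVU) h

theorem isLocallyProjective_iff {X S : Scheme.{u}} (f : X ⟶ S) :
    IsLocallyProjective f ↔ ∀ s : S, ∃ U : S.Opens, s ∈ U ∧ IsHProjective (f ∣_ U) := by
  constructor
  · intro hf s
    obtain ⟨U, hsU, hU⟩ := hf s
    obtain ⟨V, hV, hsV, hVU⟩ := (Opens.isBasis_iff_nbhd.mp S.isBasis_affineOpens) hsU
    haveI : IsAffine (V : Scheme.{u}) := hV
    exact ⟨V, hsV, Groth.Agent.Helper4.SN307.isHProjective_of_isProjective_of_isAffine _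
      (isProjective_restrict_le f hVU hU)⟩
  · intro hf s
    obtain ⟨U, hsU, hU⟩ := hf s
    exact ⟨U, hsU, Groth.Agent.Helper4.SN305.isProjective_of_isHProjective _ hU⟩

end Groth.Agent.Helper4.SN308
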