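import Mathlib
import Groth.Prelude.Def_RelProj4
import Groth.Agent.Helper4.SN286
import Groth.Agent.Helper4.QcohGlue
import Groth.Agent.S12472
import Groth.Agent.S8258
import Groth.Agent.S8284

/-!
# Very ampleness and composition with a quasi-compact open immersion
-/

set_option autoImplicit false
set_option linter.unusedSectionVars false
set_option linter.style.haveILetI false

namespace Groth.Agent.Helper4.SN309

open CategoryTheory CategoryTheory.Limits AlgebraicGeometry TopologicalSpace Opposite RelSpec RelProj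
open Groth.Agent.Helper1

universe u

/-- transport of a graded symmetric algebra structure along an isomorphism of modules -/
theorem isGrSymAlg_of_iso {S : Scheme.{u}} {E E' : S.Modules} (ε : E' ≅ E) {𝒮 : QCGrAlg S}
    {j : E ⟶ 𝒮.toModule} (hj : IsGrSymAlg E 𝒮 j) : IsGrSymAlg E' 𝒮 (ε.hom ≫ j) := by
  refine ⟨fun B φ => ?_, fun U hU x => ?_⟩
  · obtain ⟨ψ, hψ, huniq⟩ := hj.1 B (ε.inv ≫ φ)
    refine ⟨ψ, ?_, fun ψ' hψ' => huniq ψ' ?_⟩
    · change (ε.hom ≫ j) ≫ QCAlg.Hom.toModuleMap ψ = φ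
      rw [Category.assoc, hψ, Iso.hom_inv_id_assoc]
    · change j ≫ QCAlg.Hom.toModuleMap ψ' = ε.inv ≫ φ
      have h1 : (ε.hom ≫ j) ≫ QCAlg.Hom.toModuleMap ψ' = φ := hψ'
      rw [← h1, ← Category.assoc, ← Category.assoc, Iso.inv_hom_id, Category.id_comp]
  · exact hj.2 U hU ((ε.hom.app U) x)

theorem isRelVeryAmple_comp_openImmersion {X Y Z : Scheme.{u}} (f : X ⟶ Y) (j : Y ⟶ Z)
    [IsOpenImmersion j] [QuasiCompact j] (L : X.Modules) (hva : IsRelVeryAmple f L) :
    IsRelVeryAmple (f ≫ j) L := by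
  obtain ⟨E₁, hE₁, 𝒮₁, j₁, hj₁, P₁, p₁, chart₁, hP₁, O1₁, lam₁, hO1₁, i₁, himm, hip, ⟨eL⟩⟩ := hva
  haveI : E₁.IsQuasicoherent := hE₁
  haveI := himm
  haveI hE : ((Scheme.Modules.pushforward j).obj E₁).IsQuasicoherent :=
    Groth.Agent.Helper4.QcohGlue.isQuasicoherent_pushforward j E₁
  let ε : (Scheme.Modules.pullback j).obj ((Scheme.Modules.pushforward j).obj E₁) ≅ E₁ :=
    (Scheme.Modules.restrictFunctorIsoPullback j).symm.app _ ≪≫
      asIso ((Scheme.Modules.restrictAdjunction j).counit.app E₁)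
  have hj'' := isGrSymAlg_of_iso ε hj₁
  have hA := SY.isSymAlg_symAlg ((Scheme.Modules.pushforward j).obj E₁)
  have hj := SG.isGrSymAlg_grAlg hA
  obtain ⟨P, p, chart, hP⟩ := Groth.Agent.S8258.result (SG.grAlg hA)
  obtain ⟨O1, lam, hO1⟩ := Groth.Agent.S8284.result (SG.grAlg hA) p chart hP 1
  obtain ⟨h, hpb, hiso⟩ := Groth.Agent.Helper4.SN286.exists_baseChange j
    ((Scheme.Modules.pushforward j).obj E₁) hj hj'' hP hP₁
  obtain ⟨eO⟩ := hiso 1 O1 lam hO1 O1₁ lam₁ hO1₁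
  haveI : IsOpenImmersion h := MorphismProperty.of_isPullback hpb.flip inferInstance
  refine ⟨_, hE, SG.grAlg hA, _, hj, P, p, chart, hP, O1, lam, hO1, i₁ ≫ h, inferInstance, ?_, ⟨?_⟩⟩
  · rw [Category.assoc, hpb.w, ← Category.assoc, hip]
  · exact eL ≪≫ (Scheme.Modules.pullback i₁).mapIso eO.symm ≪≫
      (Scheme.Modules.pullbackComp i₁ h).app O1

end Groth.Agent.Helper4.SN309
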