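import Mathlib
import Groth.Prelude.Def_RelProj4
import Groth.Agent.Helper4.SN318
import Groth.Agent.Helper4.SN298
import Groth.Agent.Helper1.VA12
import Groth.Agent.Helper1.PUP8
import Groth.Agent.Helper1.CF3

/-!
# The fundamental sheaf of a projective bundle `P(E)` over an affine base, `E` of finite type,
is very ample relative to a projective space
-/

set_option autoImplicit false
set_option linter.unusedSectionVars false
set_option linter.style.haveILetI false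

open CategoryTheory CategoryTheory.Limits AlgebraicGeometry TopologicalSpace Opposite RelSpec RelProj
open Groth.Agent.Helper1 Groth.Agent.Helper1.RP Groth.Agent.Helper1.SY Groth.Agent.Helper1.SG
open HomogeneousLocalization
open scoped HomogeneousIdeal

universe u

namespace Groth.Agent.Helper4.SN331

open Groth.Agent.Helper4.SN318

noncomputable section

section gen

variable {Y P : Scheme.{u}} {E : Y.Modules} [E.IsQuasicoherent] {𝒮 : QCGrAlg Y}
  {j : E ⟶ 𝒮.toModule} (hj : IsGrSymAlg E 𝒮 j) {p : P ⟶ Y}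
  {chart : ∀ (U : Y.Opens) (hU : IsAffineOpen U),
    (((p ⁻¹ᵁ U : P.Opens) : Scheme.{u}) ≅ Proj (𝒮.deg U hU))}
  (hP : IsRelProj 𝒮 p chart)
  {O1 : P.Modules}
  {lam : ∀ (U : Y.Opens) (hU : IsAffineOpen U),
    O1 ⟶ (Scheme.Modules.pushforward (emb p chart U hU)).obj (GrTwist.twist (𝒮.deg U hU) 1)}
  (hO1 : IsRelTwist 𝒮 p chart 1 O1 lam)
  (φE : E ⟶ (Scheme.Modules.pushforward p).obj O1)
  (hφE : ∀ (U : Y.Opens) (hU : IsAffineOpen U) (e : Γ(E, U))
    (y : ↥(emb p chart U hU ⁻¹ᵁ (p ⁻¹ᵁ U))),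
    GrTwist.val (V := emb p chart U hU ⁻¹ᵁ (p ⁻¹ᵁ U))
        ((lam U hU).app (p ⁻¹ᵁ U) ((φE.app U) e)) y =
      algebraMap (𝒮.presheaf.obj (op U)) (GrTwist.Loc (𝒮.deg U hU) y.1)
        ((j.app U) e : 𝒮.presheaf.obj (op U)))
  (U : Y.Opens) (hU : IsAffineOpen U)

/-- the section `φ(m)` restricted to an open `V` over `U` -/
def φV (V : P.Opens) (hV : V ≤ p ⁻¹ᵁ U) (m : Γ(E, U)) : Γ(O1, V) :=
  O1.presheaf.map (homOfLE hV).op (φE.app U m)

lemma φV_res {V V' : P.Opens} (hV : V ≤ p ⁻¹ᵁ U) (h : V' ≤ V) (m : Γ(E, U)) :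
    O1.presheaf.map (homOfLE h).op (φV φE U V hV m) = φV φE U V' (h.trans hV) m := by
  unfold φV
  exact Groth.Agent.Helper4.QAffSec.res_res O1 hV h _

include hφE in
lemma val_lam_φV (V : P.Opens) (hV : V ≤ p ⁻¹ᵁ U) (m : Γ(E, U))
    (y : ↥(emb p chart U hU ⁻¹ᵁ V)) :
    GrTwist.val ((lam U hU).app V (φV φE U V hV m)) y =
      algebraMap (𝒮.presheaf.obj (op U)) (GrTwist.Loc (𝒮.deg U hU) y.1)
        ((j.app U) m : 𝒮.presheaf.obj (op U)) := by
  unfold φV
  rw [Groth.Agent.Helper4.StalkExact.app_res]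
  exact hφE U hU m ⟨y.1, (emb p chart U hU).preimage_mono hV y.2⟩

include hj hO1 hφE in
/-- **`φ(e₀)` is a free generator of `O(1)` on every open inside `W_{j e₀}`** -/
theorem gen_φV (e₀ : Γ(E, U)) (V : P.Opens) (hV : V ≤ Wf p chart U hU (j.app U e₀)) :
    Function.Bijective (fun c : Γ(P, V) =>
      c • φV φE U V (hV.trans (Wf_le p chart U hU _)) e₀) := by
  have h1mem : (1 : 𝒮.presheaf.obj (op U)) ∈ 𝒮.deg U hU 0 := SetLike.GradedOne.one_mem
  have hij : ((1 : ℕ) : ℤ) = ((0 : ℕ) : ℤ) + 1 := by norm_num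
  have hWa : ∀ z : ProjectiveSpectrum.top (𝒮.deg U hU),
      z ∈ emb p chart U hU ⁻¹ᵁ V →
      (j.app U e₀ : 𝒮.presheaf.obj (op U)) ∉ z.asHomogeneousIdeal :=
    fun z hz => notMem_of_mem_pre p chart U hU _ ((emb p chart U hU).preimage_mono hV hz)
  have hWb : ∀ z : ProjectiveSpectrum.top (𝒮.deg U hU),
      z ∈ emb p chart U hU ⁻¹ᵁ V →
      (1 : 𝒮.presheaf.obj (op U)) ∉ z.asHomogeneousIdeal := by
    intro z _ h1
    exact z.isPrime.ne_top ((Ideal.eq_top_iff_one _).2 h1)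
  refine TRS.smul_bijective_of_fracSect hO1 U hU _ (hV.trans (Wf_le p chart U hU _))
    (j.app U e₀ : 𝒮.presheaf.obj (op U)) (hj.2 U hU e₀) 1 h1mem hij hWa hWb _ ?_
  apply GT.sect_ext
  rintro ⟨z, hz⟩
  rw [GT.val_fracSect, val_lam_φV φE hφE U hU]
  exact (Localization.mk_one_eq_algebraMap _).symm

include hj hO1 hφE in
/-- `φ(m) = (j m / j e₀) • φ(e₀)` on every open inside `W_{j e₀}` -/
theorem φV_smul (e₀ m : Γ(E, U)) (V : P.Opens) (hV : V ≤ Wf p chart U hU (j.app U e₀)) :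
    φV φE U V (hV.trans (Wf_le p chart U hU _)) m =
      (P.presheaf.map (homOfLE hV).op).hom
        (Qf p chart U hU (j.app U e₀)
          (Away.mk _ (hj.2 U hU e₀) 1 (j.app U m) (mem1 hj U hU m))) •
        φV φE U V (hV.trans (Wf_le p chart U hU _)) e₀ := by
  have h := congrArg (O1.presheaf.map (homOfLE hV).op) (phi_smul hj hO1 φE hφE U hU e₀ m)
  rw [Scheme.Modules.map_smul] at h
  unfold φres at h
  rw [Groth.Agent.Helper4.QAffSec.res_res, Groth.Agent.Helper4.QAffSec.res_res] at h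
  exact h

end gen

section alg

variable {Y : Scheme.{u}} {E : Y.Modules} [E.IsQuasicoherent] {𝒮 : QCGrAlg Y}
  {j : E ⟶ 𝒮.toModule} (hj : IsGrSymAlg E 𝒮 j) (U : Y.Opens) (hU : IsAffineOpen U)
  {f : 𝒮.presheaf.obj (op U)} (hf : f ∈ 𝒮.deg U hU 1)

include hj in
/-- a subring of `𝒮(U)_(f)` containing the functions from the base and the fractions `j m / f`
is everything -/
theorem away_subring_eq_top (T : Subring (Away (𝒮.deg U hU) f))
    (h0 : ∀ c : Γ(Y, U),
      Away.mk _ hf 0 ((𝒮.str.app (op U)).hom c) (AwayExt.mem0 U hU c) ∈ T)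
    (h1 : ∀ m : Γ(E, U), Away.mk _ hf 1 (j.app U m) (AwayExt.mem1 hj U hU m) ∈ T) : T = ⊤ := by
  have claim : ∀ (n : ℕ) (x : SymmetricAlgebra Γ(Y, U) Γ(E, U))
      (_ : x ∈ symPow Γ(Y, U) Γ(E, U) n)
      (hmem : symLift 𝒮.toQCAlg j U x ∈ 𝒮.deg U hU (n • 1)),
      Away.mk _ hf n (symLift 𝒮.toQCAlg j U x) hmem ∈ T := by
    intro n x hx
    unfold symPow at hx
    induction hx using Submodule.pow_induction_on_left' with
    | algebraMap c =>
      intro hmem
      have e1 : Away.mk _ hf 0 (symLift 𝒮.toQCAlg j U (algebraMap _ _ c)) hmem =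
          Away.mk _ hf 0 ((𝒮.str.app (op U)).hom c) (AwayExt.mem0 U hU c) := by
        apply HomogeneousLocalization.val_injective
        rw [Away.val_mk, Away.val_mk, symLift_algebraMap]
      rw [e1]
      exact h0 c
    | add x y i hx hy ihx ihy =>
      intro hmem
      have hxm : symLift 𝒮.toQCAlg j U x ∈ 𝒮.deg U hU (i • 1) := by
        have := symLift_mem_deg hj U hU (x := x) (n := i) hx
        simpa using this
      have hym : symLift 𝒮.toQCAlg j U y ∈ 𝒮.deg U hU (i • 1) := by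
        have := symLift_mem_deg hj U hU (x := y) (n := i) hy
        simpa using this
      have e1 : Away.mk _ hf i (symLift 𝒮.toQCAlg j U (x + y)) hmem =
          Away.mk _ hf i (symLift 𝒮.toQCAlg j U x) hxm +
            Away.mk _ hf i (symLift 𝒮.toQCAlg j U y) hym := by
        apply HomogeneousLocalization.val_injective
        rw [HomogeneousLocalization.val_add, Away.val_mk, Away.val_mk, Away.val_mk, map_add,
          Localization.add_mk_self]
      rw [e1]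
      exact T.add_mem (ihx hxm) (ihy hym)
    | mem_mul m hm i x hx ih =>
      intro hmem
      obtain ⟨m, rfl⟩ := hm
      have hxm : symLift 𝒮.toQCAlg j U x ∈ 𝒮.deg U hU (i • 1) := by
        have := symLift_mem_deg hj U hU (x := x) (n := i) hx
        simpa using this
      have e1 : Away.mk _ hf (i + 1) (symLift 𝒮.toQCAlg j U (SymmetricAlgebra.ι _ _ m * x)) hmem =
          Away.mk _ hf 1 (j.app U m) (AwayExt.mem1 hj U hU m) *
            Away.mk _ hf i (symLift 𝒮.toQCAlg j U x) hxm := by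
        apply HomogeneousLocalization.val_injective
        rw [HomogeneousLocalization.val_mul, Away.val_mk, Away.val_mk, Away.val_mk, map_mul,
          symLift_ι, Localization.mk_mul]
        congr 1
        apply Subtype.ext
        change f ^ (i + 1) = f ^ 1 * f ^ i
        rw [pow_one, pow_succ']
      rw [e1]
      exact T.mul_mem (h1 m) (ih hxm)
  rw [eq_top_iff]
  rintro z -
  obtain ⟨n, a, ha, rfl⟩ := Away.mk_surjective (𝒜 := 𝒮.deg U hU) hf z
  have ha' : a ∈ 𝒮.deg U hU n := by simpa using ha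
  obtain ⟨x, hx, rfl⟩ := exists_of_mem_deg hj U hU ha'
  exact claim n x hx ha

include hj in
/-- the same, with the fractions `j e / f` for `e` in a spanning set only -/
theorem away_subring_eq_top_of_span (G : Set Γ(E, U)) (hG : Submodule.span Γ(Y, U) G = ⊤)
    (T : Subring (Away (𝒮.deg U hU) f))
    (h0 : ∀ c : Γ(Y, U),
      Away.mk _ hf 0 ((𝒮.str.app (op U)).hom c) (AwayExt.mem0 U hU c) ∈ T)
    (h1 : ∀ m ∈ G, Away.mk _ hf 1 (j.app U m) (AwayExt.mem1 hj U hU m) ∈ T) : T = ⊤ := by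
  apply away_subring_eq_top hj U hU hf T h0
  intro m
  have hm : m ∈ Submodule.span Γ(Y, U) G := by rw [hG]; trivial
  induction hm using Submodule.span_induction with
  | mem x hx => exact h1 x hx
  | zero =>
    have e1 : Away.mk _ hf 1 (j.app U (0 : Γ(E, U))) (AwayExt.mem1 hj U hU 0) = 0 := by
      apply HomogeneousLocalization.val_injective
      rw [Away.val_mk, HomogeneousLocalization.val_zero]
      have e2 : @Eq (𝒮.presheaf.obj (op U)) (j.app U (0 : Γ(E, U))) 0 := map_zero (jR j U)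
      rw [e2, Localization.mk_zero]
    rw [e1]
    exact T.zero_mem
  | add x y _ _ ihx ihy =>
    have e1 : Away.mk _ hf 1 (j.app U (x + y)) (AwayExt.mem1 hj U hU (x + y)) =
        Away.mk _ hf 1 (j.app U x) (AwayExt.mem1 hj U hU x) +
          Away.mk _ hf 1 (j.app U y) (AwayExt.mem1 hj U hU y) := by
      apply HomogeneousLocalization.val_injective
      rw [HomogeneousLocalization.val_add, Away.val_mk, Away.val_mk, Away.val_mk]
      have e2 : @Eq (𝒮.presheaf.obj (op U)) (j.app U (x + y))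
          (@HAdd.hAdd (𝒮.presheaf.obj (op U)) (𝒮.presheaf.obj (op U)) _ _
            (j.app U x) (j.app U y)) := map_add (jR j U) x y
      rw [e2]
      exact (Localization.add_mk_self _ _ _).symm
    rw [e1]
    exact T.add_mem ihx ihy
  | smul c x _ ihx =>
    have e1 : Away.mk _ hf 1 (j.app U (c • x)) (AwayExt.mem1 hj U hU (c • x)) =
        Away.mk _ hf 0 ((𝒮.str.app (op U)).hom c) (AwayExt.mem0 U hU c) *
          Away.mk _ hf 1 (j.app U x) (AwayExt.mem1 hj U hU x) := by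
      apply HomogeneousLocalization.val_injective
      rw [HomogeneousLocalization.val_mul, Away.val_mk, Away.val_mk, Away.val_mk,
        Localization.mk_mul]
      have e2 : @Eq (𝒮.presheaf.obj (op U)) (j.app U (c • x))
          (@HMul.hMul (𝒮.presheaf.obj (op U)) (𝒮.presheaf.obj (op U)) _ _
            ((𝒮.str.app (op U)).hom c) (j.app U x)) :=
        jR_smul j U c x
      rw [e2]
      congr 1
      apply Subtype.ext
      change f ^ 1 = f ^ 0 * f ^ 1
      rw [pow_zero, one_mul]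
    rw [e1]
    exact T.mul_mem (h0 c) ihx

/-- a homogeneous ideal containing `j e` for `e` in a spanning set contains all `j m` -/
theorem j_mem_of_span (G : Set Γ(E, U)) (hG : Submodule.span Γ(Y, U) G = ⊤)
    (I : Ideal (𝒮.presheaf.obj (op U)))
    (h1 : ∀ m ∈ G, (j.app U m : 𝒮.presheaf.obj (op U)) ∈ I) (m : Γ(E, U)) :
    (j.app U m : 𝒮.presheaf.obj (op U)) ∈ I := by
  have hm : m ∈ Submodule.span Γ(Y, U) G := by rw [hG]; trivial
  induction hm using Submodule.span_induction with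
  | mem x hx => exact h1 x hx
  | zero =>
    have e2 : @Eq (𝒮.presheaf.obj (op U)) (j.app U (0 : Γ(E, U))) 0 := map_zero (jR j U)
    rw [e2]
    exact I.zero_mem
  | add x y _ _ ihx ihy =>
    have e2 : @Eq (𝒮.presheaf.obj (op U)) (j.app U (x + y))
        (@HAdd.hAdd (𝒮.presheaf.obj (op U)) (𝒮.presheaf.obj (op U)) _ _
          (j.app U x) (j.app U y)) := map_add (jR j U) x y
    rw [e2]
    exact I.add_mem ihx ihy
  | smul c x _ ihx =>
    have e2 : @Eq (𝒮.presheaf.obj (op U)) (j.app U (c • x))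
        (@HMul.hMul (𝒮.presheaf.obj (op U)) (𝒮.presheaf.obj (op U)) _ _
          ((𝒮.str.app (op U)).hom c) (j.app U x)) :=
      jR_smul j U c x
    rw [e2]
    exact I.mul_mem_left _ ihx

end alg

section affine

open Groth.Agent.Helper1.PUP Groth.Agent.Helper4.GenLoc

variable {S P : Scheme.{u}} {E : S.Modules} [E.IsQuasicoherent] {𝒮 : QCGrAlg S}
  {j : E ⟶ 𝒮.toModule} (hj : IsGrSymAlg E 𝒮 j) {p : P ⟶ S}
  {chart : ∀ (U : S.Opens) (hU : IsAffineOpen U),
    (((p ⁻¹ᵁ U : P.Opens) : Scheme.{u}) ≅ Proj (𝒮.deg U hU))}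
  (hP : IsRelProj 𝒮 p chart)
  {O1 : P.Modules}
  {lam : ∀ (U : S.Opens) (hU : IsAffineOpen U),
    O1 ⟶ (Scheme.Modules.pushforward (emb p chart U hU)).obj (GrTwist.twist (𝒮.deg U hU) 1)}
  (hO1 : IsRelTwist 𝒮 p chart 1 O1 lam)
  (φE : E ⟶ (Scheme.Modules.pushforward p).obj O1)
  (hφE : ∀ (U : S.Opens) (hU : IsAffineOpen U) (e : Γ(E, U))
    (y : ↥(emb p chart U hU ⁻¹ᵁ (p ⁻¹ᵁ U))),
    GrTwist.val (V := emb p chart U hU ⁻¹ᵁ (p ⁻¹ᵁ U))
        ((lam U hU).app (p ⁻¹ᵁ U) ((φE.app U) e)) y =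
      algebraMap (𝒮.presheaf.obj (op U)) (GrTwist.Loc (𝒮.deg U hU) y.1)
        ((j.app U) e : 𝒮.presheaf.obj (op U)))
  (hS : IsAffineOpen (⊤ : S.Opens))

lemma top_le (p : P ⟶ S) : (⊤ : P.Opens) ≤ p ⁻¹ᵁ (⊤ : S.Opens) := fun _ _ => trivial

lemma le_pre_top (p : P ⟶ S) (V : P.Opens) : V ≤ p ⁻¹ᵁ (⊤ : S.Opens) := fun _ _ => trivial

/-- the global section of `O(1)` attached to a global section of `E` -/
def zsec (m : Γ(E, (⊤ : S.Opens))) : Γ(O1, ⊤) := φV φE ⊤ ⊤ (top_le p) m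

/-- the same, as a morphism from the structure sheaf -/
def σ (m : Γ(E, (⊤ : S.Opens))) : Coh.structureModule P ⟶ O1 :=
  Groth.Agent.Lead.LocLift.homOfTop O1 (zsec φE m)

lemma sec_σ (m : Γ(E, (⊤ : S.Opens))) (V : P.Opens) (hV : V ≤ p ⁻¹ᵁ (⊤ : S.Opens)) :
    sec (σ φE m) V = φV φE ⊤ V hV m := by
  unfold σ
  rw [sec_homOfTop']
  exact φV_res φE ⊤ (top_le p) le_top m

lemma app_σ (m : Γ(E, (⊤ : S.Opens))) (V : P.Opens) (hV : V ≤ p ⁻¹ᵁ (⊤ : S.Opens)) :
    ⇑((σ φE m).app V) = fun c : Γ(P, V) => c • φV φE ⊤ V hV m := by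
  funext c
  rw [app_eq_smul_sec, sec_σ φE m V hV]
  rfl

include hj hO1 hφE in
/-- `W_{j e₀}` is contained in the locus where `σ(e₀)` generates -/
theorem Wf_le_genLocus (e₀ : Γ(E, (⊤ : S.Opens))) :
    Wf p chart ⊤ hS (j.app ⊤ e₀) ≤ CohB1.genLocus O1 (σ φE e₀) := by
  rw [Groth.Agent.Helper4.PullSec.le_genLocus_iff, isIso_restrict_iff]
  intro V hV
  rw [app_σ φE e₀ V (le_pre_top p V)]
  exact gen_φV hj hO1 φE hφE ⊤ hS e₀ V hV

include hj hO1 hφE in
/-- the locus where `σ(e₁)` generates is contained in `W_{j e₁}` -/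
theorem genLocus_le_Wf (e₁ : Γ(E, (⊤ : S.Opens))) :
    CohB1.genLocus O1 (σ φE e₁) ≤ Wf p chart ⊤ hS (j.app ⊤ e₁) := by
  intro z hz
  obtain ⟨e₀, hz0⟩ := exists_mem_Wf hj ⊤ hS z (le_pre_top p ⊤ (show z ∈ (⊤ : P.Opens) from trivial))
  set V : P.Opens := CohB1.genLocus O1 (σ φE e₁) ⊓ Wf p chart ⊤ hS (j.app ⊤ e₀) with hVdef
  have hV1 : V ≤ CohB1.genLocus O1 (σ φE e₁) := inf_le_left
  have hV0 : V ≤ Wf p chart ⊤ hS (j.app ⊤ e₀) := inf_le_right
  have hzV : z ∈ V := ⟨hz, hz0⟩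
  have b1 : Function.Bijective (fun c : Γ(P, V) => c • φV φE ⊤ V (le_pre_top p V) e₁) := by
    rw [← app_σ φE e₁ V (le_pre_top p V)]
    exact bijective_app_of_le (σ φE e₁) hV1
  have b0 : Function.Bijective (fun c : Γ(P, V) => c • φV φE ⊤ V (le_pre_top p V) e₀) :=
    gen_φV hj hO1 φE hφE ⊤ hS e₀ V hV0
  set q := Qf p chart ⊤ hS (j.app ⊤ e₀)
    (Away.mk _ (hj.2 ⊤ hS e₀) 1 (j.app ⊤ e₁) (mem1 hj ⊤ hS e₁)) with hq
  have hrel : φV φE ⊤ V (le_pre_top p V) e₁ =
      (P.presheaf.map (homOfLE hV0).op).hom q • φV φE ⊤ V (le_pre_top p V) e₀ :=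
    φV_smul hj hO1 φE hφE ⊤ hS e₀ e₁ V hV0
  obtain ⟨c, hc⟩ := b1.2 (φV φE ⊤ V (le_pre_top p V) e₀)
  have hc' : c • φV φE ⊤ V (le_pre_top p V) e₁ = φV φE ⊤ V (le_pre_top p V) e₀ := hc
  rw [hrel, ← mul_smul] at hc'
  have h1 : c * (P.presheaf.map (homOfLE hV0).op).hom q = 1 := by
    apply b0.1
    show (c * (P.presheaf.map (homOfLE hV0).op).hom q) • φV φE ⊤ V (le_pre_top p V) e₀ =
      (1 : Γ(P, V)) • φV φE ⊤ V (le_pre_top p V) e₀
    rw [hc', one_smul]
  have hu : IsUnit ((P.presheaf.map (homOfLE hV0).op).hom q) :=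
    isUnit_iff_exists_inv'.mpr ⟨c, h1⟩
  have h2 := Scheme.basicOpen_res P q (homOfLE hV0).op
  rw [Scheme.basicOpen_of_isUnit P hu] at h2
  have hzq : z ∈ P.basicOpen q := by
    have : z ∈ V ⊓ P.basicOpen q := h2 ▸ hzV
    exact this.2
  exact mem_Wf_of_mem_basicOpen ⊤ hS (hj.2 ⊤ hS e₀) (mem1 hj ⊤ hS e₁) z hzq

include hj hO1 hφE in
theorem genLocus_eq_Wf (e₁ : Γ(E, (⊤ : S.Opens))) :
    CohB1.genLocus O1 (σ φE e₁) = Wf p chart ⊤ hS (j.app ⊤ e₁) :=
  le_antisymm (genLocus_le_Wf hj hO1 φE hφE hS e₁) (Wf_le_genLocus hj hO1 φE hφE hS e₁)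

include hj in
/-- the opens `W_{j e}`, `e` in a spanning set, cover `P` -/
theorem exists_mem_Wf_of_span (G : Set Γ(E, (⊤ : S.Opens)))
    (hG : Submodule.span Γ(S, (⊤ : S.Opens)) G = ⊤) (z : P) :
    ∃ e ∈ G, z ∈ Wf p chart ⊤ hS (j.app ⊤ e) := by
  have hz : z ∈ p ⁻¹ᵁ (⊤ : S.Opens) := trivial
  set y : Proj (𝒮.deg ⊤ hS) := (chart ⊤ hS).hom ⟨z, hz⟩ with hy_def
  have hyz : (emb p chart ⊤ hS) y = z := emb_chart_hom p chart ⊤ hS z hz
  by_contra hcon
  push Not at hcon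
  obtain ⟨e₀, ⟨y', hy', hy'z⟩⟩ := exists_mem_Wf hj ⊤ hS z hz
  have hyy : y' = y := by
    apply (emb p chart ⊤ hS).isOpenEmbedding.injective
    rw [hyz]
    exact hy'z
  subst hyy
  apply hy'
  refine j_mem_of_span ⊤ G hG y.asHomogeneousIdeal.toIdeal (fun m hm => ?_) e₀
  by_contra hm'
  exact hcon m hm ⟨y, hm', hyz⟩


include hj hP hO1 hφE hS in
/-- **the fundamental sheaf of `P(E)` is very ample relative to a projective space when `E` is
generated by finitely many global sections over an affine base** -/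
theorem isRelVeryAmplePn_of_finite (hfin : Module.Finite Γ(S, (⊤ : S.Opens)) Γ(E, (⊤ : S.Opens))) :
    RelAmple.IsRelVeryAmplePn p O1 := by
  classical
  obtain ⟨G₀, hG₀⟩ := Module.finite_def.mp hfin
  let G : Finset Γ(E, (⊤ : S.Opens)) := insert 0 G₀
  have hG : Submodule.span Γ(S, (⊤ : S.Opens)) (G : Set Γ(E, (⊤ : S.Opens))) = ⊤ := by
    rw [eq_top_iff, ← hG₀]
    exact Submodule.span_mono (Finset.coe_subset.mpr (Finset.subset_insert _ _))
  let Idx := {x // x ∈ G}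
  haveI : Nonempty Idx := ⟨⟨0, Finset.mem_insert_self _ _⟩⟩
  let σ' : Idx → (Coh.structureModule P ⟶ O1) := fun x => σ φE x.1
  have hXE : ∀ x : Idx, XE σ' x = Wf p chart ⊤ hS (j.app ⊤ x.1) :=
    fun x => genLocus_eq_Wf hj hO1 φE hφE hS x.1
  refine Groth.Agent.Helper1.VA.isRelVeryAmplePn_of_charts_finite' p σ' Set.univ ?_ ?_
    (fun _ => ⊤) (fun _ _ => hS) (fun α _ => le_pre_top p _) ?_
  · rw [eq_top_iff]
    intro z _
    obtain ⟨e, he, hz⟩ := exists_mem_Wf_of_span hj hS (G : Set Γ(E, (⊤ : S.Opens))) hG z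
    refine Opens.mem_iSup.mpr ⟨⟨⟨e, he⟩, trivial⟩, ?_⟩
    show z ∈ XE σ' ⟨e, he⟩
    rw [hXE]
    exact hz
  · intro α _
    rw [hXE]
    exact isAffineOpen_Wf p chart ⊤ hS _ (hj.2 ⊤ hS α.1) one_pos
  · intro α hα T h1 h2
    have hle : XE σ' α ≤ Wf p chart ⊤ hS (j.app ⊤ α.1) := (hXE α).le
    have hge : Wf p chart ⊤ hS (j.app ⊤ α.1) ≤ XE σ' α := (hXE α).ge
    let ψ : Γ(P, Wf p chart ⊤ hS (j.app ⊤ α.1)) →+* Γ((XE σ' α : Scheme.{u}), ⊤) :=
      (XE σ' α).topIso.inv.hom.comp (P.presheaf.map (homOfLE hle).op).hom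
    have hsurj : Function.Surjective ψ := by
      intro t
      let t' : Γ(P, XE σ' α) := (XE σ' α).topIso.hom.hom t
      refine ⟨(P.presheaf.map (homOfLE hge).op).hom t', ?_⟩
      show (XE σ' α).topIso.inv.hom ((P.presheaf.map (homOfLE hle).op).hom
        ((P.presheaf.map (homOfLE hge).op).hom t')) = t
      have e1 : (P.presheaf.map (homOfLE hle).op).hom
          ((P.presheaf.map (homOfLE hge).op).hom t') = t' := by
        change (P.presheaf.map _ ≫ P.presheaf.map _).hom t' = t'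
        rw [← Functor.map_comp]
        exact congrArg (fun k => k.hom t') (P.presheaf.map_id _)
      rw [e1]
      exact congrArg (fun k => k.hom t) (XE σ' α).topIso.hom_inv_id
    let T' : Subring (Away (𝒮.deg ⊤ hS) (show 𝒮.presheaf.obj (op ⊤) from j.app ⊤ α.1)) :=
      T.comap (ψ.comp (Qf p chart ⊤ hS (j.app ⊤ α.1)))
    have hT' : T' = ⊤ := by
      apply away_subring_eq_top_of_span hj ⊤ hS (hj.2 ⊤ hS α.1)
        (G : Set Γ(E, (⊤ : S.Opens))) hG T'
      · intro c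
        show ψ (Qf p chart ⊤ hS (j.app ⊤ α.1) _) ∈ T
        rw [Qf_str hP ⊤ hS (hj.2 ⊤ hS α.1) c]
        have e1 : ψ ((p.appLE ⊤ (Wf p chart ⊤ hS (j.app ⊤ α.1)) (Wf_le p chart ⊤ hS _)).hom c) =
            toTop ((p.appLE ⊤ (XE σ' α) (le_pre_top p _)).hom c) := by
          show (XE σ' α).topIso.inv.hom ((P.presheaf.map (homOfLE hle).op).hom _) = _
          unfold toTop
          congr 1
          have := congrArg (fun k => k.hom c)
            (Scheme.Hom.appLE_map p (Wf_le p chart ⊤ hS (j.app ⊤ α.1)) (homOfLE hle).op)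
          exact this
        rw [e1]
        exact h1 c
      · intro m hm
        show ψ (Qf p chart ⊤ hS (j.app ⊤ α.1) _) ∈ T
        have e1 : ratio σ' ⟨m, hm⟩ α = (P.presheaf.map (homOfLE hle).op).hom
            (Qf p chart ⊤ hS (j.app ⊤ α.1)
              (Away.mk _ (hj.2 ⊤ hS α.1) 1 (j.app ⊤ m) (mem1 hj ⊤ hS m))) := by
          apply Groth.Agent.Helper1.VA.ratio_eq_of_smul
          show _ • sec (σ φE α.1) (XE σ' α) = sec (σ φE m) (XE σ' α)
          rw [sec_σ φE α.1 _ (le_pre_top p _), sec_σ φE m _ (le_pre_top p _)]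
          exact (φV_smul hj hO1 φE hφE ⊤ hS α.1 m (XE σ' α) hle).symm
        have e2 := h2 ⟨m, hm⟩
        rw [e1] at e2
        exact e2
    rw [eq_top_iff]
    intro t _
    obtain ⟨w, rfl⟩ := hsurj t
    obtain ⟨z, rfl⟩ := Qf_surjective p chart ⊤ hS _ (hj.2 ⊤ hS α.1) Nat.one_pos w
    have hz : z ∈ T' := hT' ▸ Subring.mem_top z
    exact hz

end affine

section final

variable {S P : Scheme.{u}} [IsAffine S] {E : S.Modules} [E.IsQuasicoherent] {𝒮 : QCGrAlg S}
  {j : E ⟶ 𝒮.toModule} (hj : IsGrSymAlg E 𝒮 j) {p : P ⟶ S}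
  {chart : ∀ (U : S.Opens) (hU : IsAffineOpen U),
    (((p ⁻¹ᵁ U : P.Opens) : Scheme.{u}) ≅ Proj (𝒮.deg U hU))}
  (hP : IsRelProj 𝒮 p chart)
  {O1 : P.Modules}
  {lam : ∀ (U : S.Opens) (hU : IsAffineOpen U),
    O1 ⟶ (Scheme.Modules.pushforward (emb p chart U hU)).obj (GrTwist.twist (𝒮.deg U hU) 1)}
  (hO1 : IsRelTwist 𝒮 p chart 1 O1 lam)

include hj hP hO1 in
/-- **`O_{P(E)}(1)` is very ample relative to a projective space over an affine base, for `E`
quasi-coherent of finite type** -/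
theorem isRelVeryAmplePn_O1 (hE : CohB1.IsFT E) : RelAmple.IsRelVeryAmplePn p O1 := by
  have hS : IsAffineOpen (⊤ : S.Opens) := isAffineOpen_top S
  haveI : Module.Finite Γ(S, (⊤ : S.Opens)) Γ(E, (⊤ : S.Opens)) :=
    Groth.Agent.Helper4.SecDict.finite_sections hS E inferInstance hE
  exact isRelVeryAmplePn_of_finite hj hP hO1 (CF.can j hj.2 hP hO1) (CF.val_can j hj.2 hP hO1) hS
    inferInstance

end final

end

end Groth.Agent.Helper4.SN331
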