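import Mathlib
import Groth.Prelude.Def_RelProj4
import Groth.Agent.Helper4.SN330
import Groth.Agent.Helper4.SN331
import Groth.Agent.Helper4.SN287
import Groth.Agent.Helper1.VA9

/-!
# Very ample relative to a finite type morphism over an affine base: immersion into `P^n`
-/

set_option autoImplicit false
set_option linter.unusedSectionVars false
set_option linter.style.haveILetI false

namespace Groth.Agent.Helper4.SN332

open CategoryTheory CategoryTheory.Limits AlgebraicGeometry TopologicalSpace Opposite RelSpec RelProj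
open Groth.Agent.Helper1

universe u

/-- **very ample relative to a morphism of finite type over an affine base: immersion into a
projective space** -/
theorem main707 {X S : Scheme.{u}} [IsAffine S] (f : X ⟶ S)
    [LocallyOfFiniteType f] [QuasiCompact f] (L : X.Modules) (hLinv : PicF.IsInvertible L)
    (hL : RelProj.IsRelVeryAmple f L) : RelAmple.IsRelVeryAmplePn f L := by
  haveI : L.IsQuasicoherent := Groth.Agent.Helper4.QAffSec.isQuasicoherent_of_isInvertible L hLinv
  obtain ⟨E, 𝒯, j, P, p, chart, O1, lam, i, hEq, hEft, hj, hP, hO1, himm, hip, ⟨e⟩⟩ :=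
    Groth.Agent.Helper4.SN330.main486 f L hLinv hL
  haveI : E.IsQuasicoherent := hEq
  haveI := himm
  obtain ⟨n, c, hc, hcp, ⟨ε⟩⟩ := Groth.Agent.Helper4.SN331.isRelVeryAmplePn_O1 hj hP hO1 hEft
  haveI := hc
  refine ⟨n, i ≫ c, inferInstance, by rw [Category.assoc, hcp, hip], ⟨?_⟩⟩
  exact e ≪≫ (Scheme.Modules.pullback i).mapIso ε ≪≫ (Scheme.Modules.pullbackComp i c).app _

/-- the local form over an arbitrary base -/
theorem main719 {X S : Scheme.{u}} (f : X ⟶ S)
    [LocallyOfFiniteType f] [QuasiCompact f] (L : X.Modules) (hLinv : PicF.IsInvertible L)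
    (hL : RelProj.IsRelVeryAmple f L) (V : S.Opens) (hV : IsAffineOpen V) :
    RelAmple.IsRelVeryAmplePn (f ∣_ V) (L.restrict (f ⁻¹ᵁ V).ι) := by
  haveI : IsAffine (V : Scheme.{u}) := hV
  have h1 : RelProj.IsRelVeryAmple (f ∣_ V) ((Scheme.Modules.pullback (f ⁻¹ᵁ V).ι).obj L) :=
    Groth.Agent.Helper4.SN287.isRelVeryAmple_baseChange f V.ι (f ⁻¹ᵁ V).ι (f ∣_ V)
      (isPullback_morphismRestrict f V).flip L hL
  have h2 : PicF.IsInvertible ((Scheme.Modules.pullback (f ⁻¹ᵁ V).ι).obj L) :=
    Groth.Agent.Helper4.PullSec.isInvertible_pullback (f ⁻¹ᵁ V).ι hLinv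
  have h3 := main707 (f ∣_ V) _ h2 h1
  exact Groth.Agent.Helper1.VA.isRelVeryAmplePn_of_iso (f ∣_ V)
    ((Scheme.Modules.restrictFunctorIsoPullback (f ⁻¹ᵁ V).ι).app L).symm h3

end Groth.Agent.Helper4.SN332
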