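import Mathlib
import Groth.Prelude.Def_RelProj4
import Groth.Agent.Helper4.SN330
import Groth.Agent.Helper4.SN297
import Groth.Agent.Helper4.SN298
import Groth.Agent.Helper4.SN286
import Groth.Agent.Helper1.SG10
import Groth.Agent.Helper1.RPP3
import Groth.Agent.S8287

/-!
# A very ample sheaf for a finite type morphism over a quasi-compact quasi-separated base:
an open dense immersion into a projective `Y`-scheme
-/

set_option autoImplicit false
set_option linter.unusedSectionVars false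
set_option linter.style.haveILetI false

namespace Groth.Agent.Helper4.SN333

open CategoryTheory CategoryTheory.Limits AlgebraicGeometry TopologicalSpace Opposite RelSpec RelProj
open Groth.Agent.Helper1 Groth.Agent.Helper1.RP
open scoped HomogeneousIdeal

universe u

noncomputable section

section conv

variable {S PA PB : Scheme.{u}} {𝒜 ℬ : QCGrAlg S} (φ : 𝒜.toQCAlg ⟶ ℬ.toQCAlg) (hφ : IsGradedHom φ)
  {pA : PA ⟶ S} {pB : PB ⟶ S}
  {chartA : ∀ (U : S.Opens) (hU : IsAffineOpen U),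
    (((pA ⁻¹ᵁ U : PA.Opens) : Scheme.{u}) ≅ Proj (𝒜.deg U hU))}
  {chartB : ∀ (U : S.Opens) (hU : IsAffineOpen U),
    (((pB ⁻¹ᵁ U : PB.Opens) : Scheme.{u}) ≅ Proj (ℬ.deg U hU))}

lemma gradedAt_ofHom_self (U : S.Opens) (hU : IsAffineOpen U) (hle : U ≤ (𝟙 S) ⁻¹ᵁ U) :
    (QGrHom.ofHom φ hφ).gradedAt U hU U hU hle = gradedHomAt φ hφ U hU := by
  apply GradedRingHom.ext
  intro x
  change (ℬ.presheaf.map (homOfLE hle).op).hom ((φ.hom.app (op U)).hom x) = (φ.hom.app (op U)).hom x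
  have : (homOfLE hle).op = 𝟙 (op U) := Subsingleton.elim _ _
  rw [this]
  exact congrArg (fun k => k.hom ((φ.hom.app (op U)).hom x)) (ℬ.presheaf.map_id (op U))

/-- a morphism satisfying the standard chart equations of `IsProjQMap` for a homomorphism over
the identity is the relative `Proj.map` -/
theorem isRelProjMap_of_isProjQMap
    (hirr : ∀ (U : S.Opens) (hU : IsAffineOpen U),
      (ℬ.deg U hU)₊ ≤ ((𝒜.deg U hU)₊).map (gradedHomAt φ hφ U hU))
    {h : PB ⟶ PA} (hh : IsProjQMap (QGrHom.ofHom φ hφ) pA chartA pB chartB h) :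
    IsRelProjMap φ hφ hirr chartA chartB h := by
  intro U hU
  have hle : U ≤ (𝟙 S) ⁻¹ᵁ U := le_rfl
  have hirr₀ : (ℬ.deg U hU)₊ ≤ ((𝒜.deg U hU)₊).map
      ((QGrHom.ofHom φ hφ).gradedAt U hU U hU hle) := by
    rw [gradedAt_ofHom_self]
    exact hirr U hU
  have h1 := Groth.Agent.Helper4.SN286.map_form_of_isProjQMap (QGrHom.ofHom φ hφ) hh U hU U hU hle
    hirr₀
  rw [h1]
  have h2 : Proj.map ((QGrHom.ofHom φ hφ).gradedAt U hU U hU hle) hirr₀ =
      Proj.map (gradedHomAt φ hφ U hU) (hirr U hU) := by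
    congr 1
    exact gradedAt_ofHom_self φ hφ U hU hle
  rw [h2]
  rfl


/-- the irrelevant-ideal condition for a degreewise surjective graded homomorphism -/
theorem hirr_of_surj
    (hdeg : ∀ (U : S.Opens) (hU : IsAffineOpen U) (d : ℕ), ∀ y ∈ ℬ.deg U hU d,
      ∃ x ∈ 𝒜.deg U hU d, (φ.hom.app (op U)).hom x = y)
    (U : S.Opens) (hU : IsAffineOpen U) :
    (ℬ.deg U hU)₊ ≤ ((𝒜.deg U hU)₊).map (gradedHomAt φ hφ U hU) := by
  intro b hb
  change b ∈ ((𝒜.deg U hU)₊).toIdeal.map (gradedHomAt φ hφ U hU)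
  have h1 := Groth.Agent.Helper4.SN286.irrelevant_le_span (ℬ.deg U hU) hb
  refine (Ideal.span_le.2 ?_) h1
  rintro _ ⟨⟨d, y⟩, rfl⟩
  obtain ⟨x, hx, hxy⟩ := hdeg U hU d y.1 y.2
  have h2 : (y : ℬ.presheaf.obj (op U)) = gradedHomAt φ hφ U hU x := hxy.symm
  change (y : ℬ.presheaf.obj (op U)) ∈ _
  rw [h2]
  exact Ideal.mem_map_of_mem _ (HomogeneousIdeal.mem_irrelevant_of_mem _ d.pos hx)

end conv

section main

variable {X Y : Scheme.{u}} (q : X ⟶ Y) [QuasiCompact q] [LocallyOfFiniteType q]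
  (L : X.Modules) (hL : PicF.IsInvertible L)

include hL in
/-- **a very ample sheaf for a morphism of finite type over a quasi-compact quasi-separated
base gives a dense open immersion into a projective scheme, compatible with `O(1)`** -/
theorem main5726 [CompactSpace Y] [QuasiSeparatedSpace Y] (h : IsRelVeryAmple q L) :
    ∃ (𝒮 : RelProj.QCGrAlg Y) (P : Scheme.{u}) (p : P ⟶ Y)
      (chart : ∀ (U : Y.Opens) (hU : IsAffineOpen U),
        ((p ⁻¹ᵁ U : P.Opens) : Scheme.{u}) ≅ Proj (𝒮.deg U hU))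
      (O1 : P.Modules)
      (lam : ∀ (U : Y.Opens) (hU : IsAffineOpen U),
        O1 ⟶ (Scheme.Modules.pushforward (RelProj.emb p chart U hU)).obj
          (GrTwist.twist (𝒮.deg U hU) 1))
      (i : X ⟶ P),
      𝒮.IsGenDegOne ∧ 𝒮.IsFTDeg 1 ∧ RelProj.IsRelProj 𝒮 p chart ∧
        RelProj.IsRelTwist 𝒮 p chart 1 O1 lam ∧
        IsOpenImmersion i ∧ Dense (Set.range i.base) ∧ i ≫ p = q ∧
        Nonempty (L ≅ (Scheme.Modules.pullback i).obj O1) := by
  haveI : L.IsQuasicoherent := Groth.Agent.Helper4.QAffSec.isQuasicoherent_of_isInvertible L hL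
  obtain ⟨E, 𝒯, j, P, p, chart, O1, lam, i, hEq, hEft, hj, hP, hO1, himm, hip, ⟨e⟩⟩ :=
    Groth.Agent.Helper4.SN330.main486 q L hL h
  haveI : E.IsQuasicoherent := hEq
  haveI := himm
  have hgenT := Groth.Agent.Helper1.SG.isGenDegOne hj
  have hftT := Groth.Agent.Helper4.SN298.isFTDeg_one_of_isFT hEft hj
  haveI : IsProper p := Groth.Agent.Helper1.RPP.isProper_of_isRelProj 𝒯 hgenT hftT p chart hP
  haveI : QuasiCompact (i ≫ p) := by rw [hip]; infer_instance
  haveI : QuasiCompact i := QuasiCompact.of_comp i p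
  obtain ⟨ℬ, φ, hφ, PB, pB, chartB, hh, eZ, hdeg, hsurj, hB, hhh, he⟩ :=
    Groth.Agent.Helper4.SN297.main hP i.imageι
  have hgenB := Groth.Agent.Helper4.SN298.isGenDegOne_of_surjective φ hφ hsurj hgenT
  have hftB := Groth.Agent.Helper4.SN298.isFTDeg_of_surjective φ hφ hdeg 1 hftT
  obtain ⟨O1B, lamB, hO1B⟩ := TRE.exists_isRelTwist 1 hB
  have hirr := hirr_of_surj φ hφ hdeg
  have hrel := isRelProjMap_of_isProjQMap φ hφ hirr hhh
  obtain ⟨κ⟩ := Groth.Agent.S8287.result φ hφ hgenT hsurj hirr p pB chart chartB hP hB hh hrel 1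
    O1 lam hO1 O1B lamB hO1B
  have hcomm : hh ≫ p = pB := Groth.Agent.Helper1.RP.projQMap_comm hP hB
    (Groth.Agent.Helper4.SN297.hdom_of φ hφ hdeg) hh hhh
  have hfac : (i.toImage ≫ eZ.inv) ≫ hh = i := by
    rw [Category.assoc, ← he, Iso.inv_hom_id_assoc, Scheme.Hom.toImage_imageι]
  refine ⟨ℬ, PB, pB, chartB, O1B, lamB, i.toImage ≫ eZ.inv, hgenB, hftB, hB, hO1B, inferInstance,
    ?_, ?_, ⟨?_⟩⟩
  · have h1 : DenseRange (i.toImage ≫ eZ.inv).base := by
      rw [Scheme.Hom.comp_base]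
      exact (eZ.inv.homeomorph.surjective.denseRange).comp i.toImage.denseRange
        eZ.inv.continuous
    exact h1
  · rw [← hcomm, ← Category.assoc, hfac, hip]
  · exact e ≪≫ (Scheme.Modules.pullbackCongr hfac).symm.app O1 ≪≫
      ((Scheme.Modules.pullbackComp (i.toImage ≫ eZ.inv) hh).app O1).symm ≪≫
      (Scheme.Modules.pullback (i.toImage ≫ eZ.inv)).mapIso κ

end main

end

end Groth.Agent.Helper4.SN333
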