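import Mathlib
import Groth.Prelude.Def_RelProj4
import Groth.Agent.Helper1.SG6
import Groth.Agent.Helper1.SY15
import Groth.Agent.Helper1.SY17
import Groth.Agent.Helper4.TensorRes

/-!
# Symmetric algebras and restriction to an open subscheme: comparison on affine opens
-/

set_option autoImplicit false
set_option linter.unusedSectionVars false
set_option linter.style.haveILetI false

namespace Groth.Agent.Helper4.SN335

open CategoryTheory CategoryTheory.Limits AlgebraicGeometry TopologicalSpace Opposite RelSpec RelProj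
open Groth.Agent.Helper1 Groth.Agent.Helper1.SY Groth.Agent.Helper1.SG
open scoped HomogeneousIdeal

universe u

noncomputable section

section gradedGen

variable {S : Scheme.{u}} {E : S.Modules} [E.IsQuasicoherent] {A : QCGrAlg S}
  {j : E ⟶ A.toModule} (hA : IsGrSymAlg E A j) (U : S.Opens) (hU : IsAffineOpen U)
  {B : Type u} [CommRing B] (ℬ : ℕ → AddSubgroup B) [GradedRing ℬ]

/-- a ring homomorphism out of the sections of a graded symmetric algebra which sends the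
functions to degree zero and the module to degree one sends symmetric powers to graded pieces -/
theorem symLift_mem_of_gen (f : A.presheaf.obj (op U) →+* B)
    (h0 : ∀ c : Γ(S, U), f ((A.str.app (op U)).hom c) ∈ ℬ 0)
    (h1 : ∀ m : Γ(E, U), f (jR j U m) ∈ ℬ 1) (n : ℕ)
    (y : SymmetricAlgebra Γ(S, U) Γ(E, U)) (hy : y ∈ symPow Γ(S, U) Γ(E, U) n) :
    f (symLift A.toQCAlg j U y) ∈ ℬ n := by
  unfold symPow at hy
  induction hy using Submodule.pow_induction_on_left' with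
  | algebraMap c =>
    rw [symLift_algebraMap]
    exact h0 c
  | add x y i hx hy ihx ihy =>
    rw [map_add, map_add]
    exact add_mem ihx ihy
  | mem_mul m hm i x hx ih =>
    obtain ⟨m, rfl⟩ := hm
    rw [map_mul, map_mul, symLift_ι]
    have := SetLike.mul_mem_graded (h1 m) ih
    rw [add_comm] at this
    exact this

include hA in
theorem mem_of_gen (f : A.presheaf.obj (op U) →+* B)
    (h0 : ∀ c : Γ(S, U), f ((A.str.app (op U)).hom c) ∈ ℬ 0)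
    (h1 : ∀ m : Γ(E, U), f (jR j U m) ∈ ℬ 1) (n : ℕ) (x : A.presheaf.obj (op U))
    (hx : x ∈ A.deg U hU n) : f x ∈ ℬ n := by
  obtain ⟨y, hy, rfl⟩ := exists_of_mem_deg hA U hU hx
  exact symLift_mem_of_gen U ℬ f h0 h1 n y hy

end gradedGen

section G

variable {S : Scheme.{u}} (T : S.Opens)
  {E : S.Modules} [E.IsQuasicoherent] {A : QCGrAlg S} (j : E ⟶ A.toModule)
  (hA : IsGrSymAlg E A j)
  {ET : (T : Scheme.{u}).Modules} [ET.IsQuasicoherent] {AT : QCGrAlg (T : Scheme.{u})}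
  (jT : ET ⟶ AT.toModule) (hAT : IsGrSymAlg ET AT jT)
  (W : (T : Scheme.{u}).Opens) (hW : IsAffineOpen W)

/-- the identification of functions on an open of the open subscheme -/
def ρ : Γ((T : Scheme.{u}), W) →+* Γ(S, T.ι ''ᵁ W) := (T.ι.appIso W).inv.hom

def ρ' : Γ(S, T.ι ''ᵁ W) →+* Γ((T : Scheme.{u}), W) := (T.ι.appIso W).hom.hom

lemma ρ_ρ' (c : Γ(S, T.ι ''ᵁ W)) : ρ T W (ρ' T W c) = c := by
  change ((T.ι.appIso W).hom ≫ (T.ι.appIso W).inv).hom c = c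
  rw [Iso.hom_inv_id]; rfl

lemma ρ'_ρ (c : Γ((T : Scheme.{u}), W)) : ρ' T W (ρ T W c) = c := by
  change ((T.ι.appIso W).inv ≫ (T.ι.appIso W).hom).hom c = c
  rw [Iso.inv_hom_id]; rfl

lemma isAffineOpen_image (hW : IsAffineOpen W) : IsAffineOpen (T.ι ''ᵁ W) :=
  IsAffineOpen.image_of_isOpenImmersion hW T.ι

variable (t : Γ(ET, W) →+ Γ(E, T.ι ''ᵁ W))
  (ht : ∀ (c : Γ((T : Scheme.{u}), W)) (m : Γ(ET, W)), t (c • m) = ρ T W c • t m)

/-- the comparison `𝒜_T(W) → 𝒜(ι W)` -/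
def G : AT.presheaf.obj (op W) →+* A.presheaf.obj (op (T.ι ''ᵁ W)) :=
  secDesc hAT.1 W hW ((A.str.app (op (T.ι ''ᵁ W))).hom.comp (ρ T W))
    ((jR j (T.ι ''ᵁ W)).comp t)
    (fun c m => by
      rw [AddMonoidHom.comp_apply, AddMonoidHom.comp_apply, ht, RingHom.comp_apply]
      exact jR_smul j (T.ι ''ᵁ W) _ _)

theorem G_str (c : Γ((T : Scheme.{u}), W)) :
    G T j jT hAT W hW t ht ((AT.str.app (op W)).hom c) =
      (A.str.app (op (T.ι ''ᵁ W))).hom (ρ T W c) :=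
  secDesc_str hAT.1 W hW _ _ _ c

theorem G_j (m : Γ(ET, W)) :
    G T j jT hAT W hW t ht (jR jT W m) = jR j (T.ι ''ᵁ W) (t m) :=
  secDesc_jR hAT.1 W hW _ _ _ m

include hA in
theorem G_mem (n : ℕ) (x : AT.presheaf.obj (op W)) (hx : x ∈ AT.deg W hW n) :
    G T j jT hAT W hW t ht x ∈ A.deg (T.ι ''ᵁ W) (isAffineOpen_image T W hW) n := by
  refine mem_of_gen hAT W hW (A.deg (T.ι ''ᵁ W) (isAffineOpen_image T W hW)) _ ?_ ?_ n x hx
  · intro c
    rw [G_str]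
    exact A.str_mem _ _ _
  · intro m
    rw [G_j]
    exact hA.2 _ _ _


variable (t' : Γ(E, T.ι ''ᵁ W) →+ Γ(ET, W))
  (ht' : ∀ (c : Γ(S, T.ι ''ᵁ W)) (m : Γ(E, T.ι ''ᵁ W)), t' (c • m) = ρ' T W c • t' m)

/-- the comparison `𝒜(ι W) → 𝒜_T(W)` -/
def G' : A.presheaf.obj (op (T.ι ''ᵁ W)) →+* AT.presheaf.obj (op W) :=
  secDesc hA.1 (T.ι ''ᵁ W) (isAffineOpen_image T W hW) ((AT.str.app (op W)).hom.comp (ρ' T W))
    ((jR jT W).comp t')
    (fun c m => by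
      rw [AddMonoidHom.comp_apply, AddMonoidHom.comp_apply, ht', RingHom.comp_apply]
      exact jR_smul jT W _ _)

theorem G'_str (c : Γ(S, T.ι ''ᵁ W)) :
    G' T j hA jT W hW t' ht' ((A.str.app (op (T.ι ''ᵁ W))).hom c) =
      (AT.str.app (op W)).hom (ρ' T W c) :=
  secDesc_str hA.1 _ _ _ _ _ c

theorem G'_j (m : Γ(E, T.ι ''ᵁ W)) :
    G' T j hA jT W hW t' ht' (jR j (T.ι ''ᵁ W) m) = jR jT W (t' m) :=
  secDesc_jR hA.1 _ _ _ _ _ m

include hAT in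
theorem G'_mem (n : ℕ) (x : A.presheaf.obj (op (T.ι ''ᵁ W)))
    (hx : x ∈ A.deg (T.ι ''ᵁ W) (isAffineOpen_image T W hW) n) :
    G' T j hA jT W hW t' ht' x ∈ AT.deg W hW n := by
  refine mem_of_gen hA (T.ι ''ᵁ W) (isAffineOpen_image T W hW) (AT.deg W hW) _ ?_ ?_ n x hx
  · intro c
    rw [G'_str]
    exact AT.str_mem _ _ _
  · intro m
    rw [G'_j]
    exact hAT.2 _ _ _

theorem G_G' (h1 : ∀ m, t (t' m) = m) (x : A.presheaf.obj (op (T.ι ''ᵁ W))) :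
    G T j jT hAT W hW t ht (G' T j hA jT W hW t' ht' x) = x := by
  have key : (G T j jT hAT W hW t ht).comp (G' T j hA jT W hW t' ht') = RingHom.id _ := by
    apply secHom_ext' hA.1 (T.ι ''ᵁ W) (isAffineOpen_image T W hW)
    · intro c
      rw [RingHom.comp_apply, G'_str, G_str, ρ_ρ']
      rfl
    · intro m
      rw [RingHom.comp_apply, G'_j, G_j, h1]
      rfl
  exact congrArg (fun k => k x) key

theorem G'_G (h2 : ∀ m, t' (t m) = m) (x : AT.presheaf.obj (op W)) :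
    G' T j hA jT W hW t' ht' (G T j jT hAT W hW t ht x) = x := by
  have key : (G' T j hA jT W hW t' ht').comp (G T j jT hAT W hW t ht) = RingHom.id _ := by
    apply secHom_ext' hAT.1 W hW
    · intro c
      rw [RingHom.comp_apply, G_str, G'_str, ρ'_ρ]
      rfl
    · intro m
      rw [RingHom.comp_apply, G_j, G'_j, h2]
      rfl
  exact congrArg (fun k => k x) key

end G

section Psi

variable {X : Scheme.{u}} (T : X.Opens) {L : X.Modules} [L.IsQuasicoherent]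
  {𝒮L : QCGrAlg X} (jL : L ⟶ 𝒮L.toModule) (hjL : IsGrSymAlg L 𝒮L jL)
  [(L.restrict T.ι).IsQuasicoherent] {𝒮LT : QCGrAlg (T : Scheme.{u})}
  (jLT : L.restrict T.ι ⟶ 𝒮LT.toModule) (hjLT : IsGrSymAlg (L.restrict T.ι) 𝒮LT jLT)
  (V : (T : Scheme.{u}).Opens) (hV : IsAffineOpen V)

/-- sections of the restriction, as sections of the module -/
def tid : Γ(L.restrict T.ι, V) →+ Γ(L, T.ι ''ᵁ V) := AddMonoidHom.id _

def tid' : Γ(L, T.ι ''ᵁ V) →+ Γ(L.restrict T.ι, V) := AddMonoidHom.id _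

lemma tid_smul (c : Γ((T : Scheme.{u}), V)) (m : Γ(L.restrict T.ι, V)) :
    tid T V (c • m) = ρ T V c • tid T V m :=
  Groth.Agent.Helper4.TensorRes.restrict_smul T.ι L V c m

lemma tid'_smul (c : Γ(X, T.ι ''ᵁ V)) (m : Γ(L, T.ι ''ᵁ V)) :
    tid' T V (c • m) = ρ' T V c • tid' T V m := by
  have h := tid_smul (L := L) T V (ρ' T V c) (tid' T V m)
  rw [ρ_ρ'] at h
  exact h.symm

/-- `Sym(L|_T)(V) → Sym(L)(ι V)` -/
def Ψ : 𝒮LT.presheaf.obj (op V) →+* 𝒮L.presheaf.obj (op (T.ι ''ᵁ V)) :=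
  G T jL jLT hjLT V hV (tid T V) (tid_smul T V)

/-- `Sym(L)(ι V) → Sym(L|_T)(V)` -/
def Ψ' : 𝒮L.presheaf.obj (op (T.ι ''ᵁ V)) →+* 𝒮LT.presheaf.obj (op V) :=
  G' T jL hjL jLT V hV (tid' T V) (tid'_smul T V)

theorem Ψ_Ψ' (x : 𝒮L.presheaf.obj (op (T.ι ''ᵁ V))) :
    Ψ T jL jLT hjLT V hV (Ψ' T jL hjL jLT V hV x) = x :=
  G_G' T jL hjL jLT hjLT V hV _ _ _ _ (fun _ => rfl) x

theorem Ψ'_Ψ (x : 𝒮LT.presheaf.obj (op V)) :
    Ψ' T jL hjL jLT V hV (Ψ T jL jLT hjLT V hV x) = x :=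
  G'_G T jL hjL jLT hjLT V hV _ _ _ _ (fun _ => rfl) x

theorem Ψ_str (c : Γ((T : Scheme.{u}), V)) :
    Ψ T jL jLT hjLT V hV ((𝒮LT.str.app (op V)).hom c) =
      (𝒮L.str.app (op (T.ι ''ᵁ V))).hom (ρ T V c) := G_str _ _ _ _ _ _ _ _ c

theorem Ψ_j (m : Γ(L.restrict T.ι, V)) :
    Ψ T jL jLT hjLT V hV (jR jLT V m) = jR jL (T.ι ''ᵁ V) (tid T V m) := G_j _ _ _ _ _ _ _ _ m

include hjL in
theorem Ψ_mem (n : ℕ) (x : 𝒮LT.presheaf.obj (op V)) (hx : x ∈ 𝒮LT.deg V hV n) :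
    Ψ T jL jLT hjLT V hV x ∈ 𝒮L.deg (T.ι ''ᵁ V) (isAffineOpen_image T V hV) n :=
  G_mem T jL hjL jLT hjLT V hV _ _ n x hx

include hjLT in
theorem Ψ'_mem (n : ℕ) (x : 𝒮L.presheaf.obj (op (T.ι ''ᵁ V)))
    (hx : x ∈ 𝒮L.deg (T.ι ''ᵁ V) (isAffineOpen_image T V hV) n) :
    Ψ' T jL hjL jLT V hV x ∈ 𝒮LT.deg V hV n :=
  G'_mem T jL hjL jLT hjLT V hV _ _ n x hx

end Psi

end

end Groth.Agent.Helper4.SN335
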