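import Mathlib
import Groth.Prelude.Def_RelProj4
import Groth.Agent.Helper4.SN335
import Groth.Agent.Helper4.SN324
import Groth.Agent.Helper4.Scalar
import Groth.Agent.Helper1.IM13

/-!
# The canonical graded morphism `Sym(q_* L) → q_* Sym(L)` and restriction to an open of the base
-/

set_option autoImplicit false
set_option linter.unusedSectionVars false
set_option linter.style.haveILetI false

namespace Groth.Agent.Helper4.SN336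

open CategoryTheory CategoryTheory.Limits AlgebraicGeometry TopologicalSpace Opposite RelSpec RelProj
open Groth.Agent.Helper1 Groth.Agent.Helper1.SY Groth.Agent.Helper1.SG
open Groth.Agent.Helper4.SN335
open scoped HomogeneousIdeal

universe u

noncomputable section

section basic

variable {S : Scheme.{u}} (T : S.Opens) (W : (T : Scheme.{u}).Opens)

lemma ρ_eq (c : Γ((T : Scheme.{u}), W)) : ρ T W c = (show Γ(S, T.ι ''ᵁ W) from c) := by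
  unfold ρ
  rw [Scheme.Opens.ι_appIso]
  rfl

end basic

section Phi

lemma map_map_eq {X : Scheme.{u}} {A B : X.Opens} (h : A = B) (x : Γ(X, A)) :
    (X.presheaf.map (eqToHom h).op).hom ((X.presheaf.map (eqToHom h.symm).op).hom x) = x := by
  subst h
  simp

lemma mapL_map_eq {X : Scheme.{u}} (L : X.Modules) {A B : X.Opens} (h : A = B) (x : Γ(L, A)) :
    (L.presheaf.map (eqToHom h).op).hom ((L.presheaf.map (eqToHom h.symm).op).hom x) = x := by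
  subst h
  simp


variable {X Y : Scheme.{u}} (q : X ⟶ Y) (U : Y.Opens) (L : X.Modules)
  (W : (U : Scheme.{u}).Opens)

/-- the identification `((q|_U)_* (L|))(W) → (q_* L)(ι W)` -/
def tF : Γ((Scheme.Modules.pushforward (q ∣_ U)).obj (L.restrict (q ⁻¹ᵁ U).ι), W) →+
    Γ((Scheme.Modules.pushforward q).obj L, U.ι ''ᵁ W) :=
  (L.presheaf.map (eqToHom (image_morphismRestrict_preimage q U W).symm).op).hom

lemma tF_smul (c : Γ((U : Scheme.{u}), W))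
    (m : Γ((Scheme.Modules.pushforward (q ∣_ U)).obj (L.restrict (q ⁻¹ᵁ U).ι), W)) :
    tF q U L W (c • m) = ρ U W c • tF q U L W m := by
  rw [Groth.Agent.Helper4.Scalar.pushforward_smul (q ∣_ U) (L.restrict (q ⁻¹ᵁ U).ι) W c m,
    Groth.Agent.Helper4.Scalar.pushforward_smul q L (U.ι ''ᵁ W) (ρ U W c) (tF q U L W m)]
  rw [Groth.Agent.Helper4.TensorRes.restrict_smul]
  have h1 := Scheme.Modules.map_smul L
    (eqToHom (image_morphismRestrict_preimage q U W).symm)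
    (((q ⁻¹ᵁ U).ι.appIso ((q ∣_ U) ⁻¹ᵁ W)).inv ((q ∣_ U).app W c))
    (show Γ(L, (q ⁻¹ᵁ U).ι ''ᵁ (q ∣_ U) ⁻¹ᵁ W) from m)
  refine h1.trans ?_
  congr 1
  rw [ρ_eq]
  have h := congrArg (fun k => k.hom c) (morphismRestrict_app q U W)
  have h2 : (((q ⁻¹ᵁ U).ι.appIso ((q ∣_ U) ⁻¹ᵁ W)).inv) ((q ∣_ U).app W c) =
      (show Γ(X, (q ⁻¹ᵁ U).ι ''ᵁ (q ∣_ U) ⁻¹ᵁ W) from (q ∣_ U).app W c) := by
    rw [Scheme.Opens.ι_appIso]
    rfl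
  rw [h2]
  change (X.presheaf.map _).hom ((q ∣_ U).app W c) = _
  rw [show ((q ∣_ U).app W) c = (q.app (U.ι ''ᵁ W) ≫ X.presheaf.map
    (eqToHom (image_morphismRestrict_preimage q U W)).op).hom c from h]
  exact map_map_eq (image_morphismRestrict_preimage q U W).symm _

end Phi

section compat

variable {X Y : Scheme.{u}} (q : X ⟶ Y) (U : Y.Opens) (L : X.Modules) [L.IsQuasicoherent]
  [(L.restrict (q ⁻¹ᵁ U).ι).IsQuasicoherent]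
  [((Scheme.Modules.pushforward q).obj L).IsQuasicoherent]
  [((Scheme.Modules.pushforward (q ∣_ U)).obj (L.restrict (q ⁻¹ᵁ U).ι)).IsQuasicoherent]
  {𝒜 : QCGrAlg Y} {jF : (Scheme.Modules.pushforward q).obj L ⟶ 𝒜.toModule}
  (h𝒜 : IsGrSymAlg ((Scheme.Modules.pushforward q).obj L) 𝒜 jF)
  {𝒜' : QCGrAlg (U : Scheme.{u})}
  {jF' : (Scheme.Modules.pushforward (q ∣_ U)).obj (L.restrict (q ⁻¹ᵁ U).ι) ⟶ 𝒜'.toModule}
  (h𝒜' : IsGrSymAlg ((Scheme.Modules.pushforward (q ∣_ U)).obj (L.restrict (q ⁻¹ᵁ U).ι)) 𝒜' jF')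
  {𝒮L : QCGrAlg X} {jL : L ⟶ 𝒮L.toModule} (hjL : IsGrSymAlg L 𝒮L jL)
  {𝒮L' : QCGrAlg ((q ⁻¹ᵁ U : X.Opens) : Scheme.{u})}
  {jL' : L.restrict (q ⁻¹ᵁ U).ι ⟶ 𝒮L'.toModule}
  (hjL' : IsGrSymAlg (L.restrict (q ⁻¹ᵁ U).ι) 𝒮L' jL')
  (u : QGrHom q 𝒜 𝒮L)
  (hu : ∀ (W : Y.Opens) (x : Γ((Scheme.Modules.pushforward q).obj L, W)),
    (u.app W).hom ((jF.app W) x) = (jL.app (q ⁻¹ᵁ W)) x)
  (u' : QGrHom (q ∣_ U) 𝒜' 𝒮L')
  (hu' : ∀ (W : (U : Scheme.{u}).Opens)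
    (x : Γ((Scheme.Modules.pushforward (q ∣_ U)).obj (L.restrict (q ⁻¹ᵁ U).ι), W)),
    (u'.app W).hom ((jF'.app W) x) = (jL'.app ((q ∣_ U) ⁻¹ᵁ W)) x)
  (W : (U : Scheme.{u}).Opens) (hW : IsAffineOpen W)
  (V' : ((q ⁻¹ᵁ U : X.Opens) : Scheme.{u}).Opens) (hV' : IsAffineOpen V')
  (hle : V' ≤ (q ∣_ U) ⁻¹ᵁ W)

variable (jF) in
/-- `Sym((q|_U)_* L|)(W) → Sym(q_* L)(ι W)` -/
def Φ : 𝒜'.presheaf.obj (op W) →+* 𝒜.presheaf.obj (op (U.ι ''ᵁ W)) :=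
  G U jF jF' h𝒜' W hW (tF q U L W) (tF_smul q U L W)

include h𝒜 in
theorem Φ_mem (n : ℕ) (x : 𝒜'.presheaf.obj (op W)) (hx : x ∈ 𝒜'.deg W hW n) :
    Φ q U L jF h𝒜' W hW x ∈ 𝒜.deg (U.ι ''ᵁ W) (isAffineOpen_image U W hW) n :=
  G_mem U jF h𝒜 jF' h𝒜' W hW _ _ n x hx

include hle in
lemma le_image : (q ⁻¹ᵁ U).ι ''ᵁ V' ≤ q ⁻¹ᵁ (U.ι ''ᵁ W) := by
  rw [← image_morphismRestrict_preimage q U W]
  exact (q ⁻¹ᵁ U).ι.image_mono hle

include hu hu' in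
theorem compat (a : 𝒜'.presheaf.obj (op W)) :
    Ψ (q ⁻¹ᵁ U) jL jL' hjL' V' hV' ((u'.appLE W V' hle).hom a) =
      (u.appLE (U.ι ''ᵁ W) ((q ⁻¹ᵁ U).ι ''ᵁ V') (le_image q U W V' hle)).hom
        (Φ q U L jF h𝒜' W hW a) := by
  have key : (Ψ (q ⁻¹ᵁ U) jL jL' hjL' V' hV').comp (u'.appLE W V' hle).hom =
      (u.appLE (U.ι ''ᵁ W) ((q ⁻¹ᵁ U).ι ''ᵁ V') (le_image q U W V' hle)).hom.comp
        (Φ q U L jF h𝒜' W hW) := by
    apply secHom_ext' h𝒜'.1 W hW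
    · intro c
      rw [RingHom.comp_apply, RingHom.comp_apply]
      have h1 := congrArg (fun k => k.hom c) (u'.toQHom.str_appLE W V' hle)
      have h1' : (u'.appLE W V' hle).hom ((𝒜'.str.app (op W)).hom c) =
          (𝒮L'.str.app (op V')).hom (((q ∣_ U).appLE W V' hle).hom c) := h1
      rw [h1', Ψ_str]
      unfold Φ
      rw [G_str]
      have h2 := congrArg (fun k => k.hom (ρ U W c))
        (u.toQHom.str_appLE (U.ι ''ᵁ W) ((q ⁻¹ᵁ U).ι ''ᵁ V') (le_image q U W V' hle))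
      have h2' : (u.appLE (U.ι ''ᵁ W) ((q ⁻¹ᵁ U).ι ''ᵁ V') (le_image q U W V' hle)).hom
          ((𝒜.str.app (op (U.ι ''ᵁ W))).hom (ρ U W c)) =
          (𝒮L.str.app (op ((q ⁻¹ᵁ U).ι ''ᵁ V'))).hom
            ((q.appLE (U.ι ''ᵁ W) ((q ⁻¹ᵁ U).ι ''ᵁ V') (le_image q U W V' hle)).hom
              (ρ U W c)) := h2
      rw [h2']
      congr 1
      rw [ρ_eq, ρ_eq, morphismRestrict_appLE]
      rfl
    · intro m
      rw [RingHom.comp_apply, RingHom.comp_apply]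
      have h1 : (u'.appLE W V' hle).hom (jR jF' W m) =
          jR jL' V' ((L.restrict (q ⁻¹ᵁ U).ι).presheaf.map (homOfLE hle).op m) := by
        change (𝒮L'.presheaf.map (homOfLE hle).op).hom ((u'.app W).hom ((jF'.app W) m)) = _
        rw [hu' W m]
        exact (Groth.Agent.Helper4.StalkExact.app_res jL' (homOfLE hle) _).symm
      rw [h1, Ψ_j]
      unfold Φ
      rw [G_j]
      have h2 : (u.appLE (U.ι ''ᵁ W) ((q ⁻¹ᵁ U).ι ''ᵁ V') (le_image q U W V' hle)).hom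
          (jR jF (U.ι ''ᵁ W) (tF q U L W m)) =
          jR jL ((q ⁻¹ᵁ U).ι ''ᵁ V')
            (L.presheaf.map (homOfLE (le_image q U W V' hle)).op (tF q U L W m)) := by
        change (𝒮L.presheaf.map (homOfLE (le_image q U W V' hle)).op).hom
          ((u.app (U.ι ''ᵁ W)).hom ((jF.app (U.ι ''ᵁ W)) (tF q U L W m))) = _
        rw [hu (U.ι ''ᵁ W) (tF q U L W m)]
        exact (Groth.Agent.Helper4.StalkExact.app_res jL
          (homOfLE (le_image q U W V' hle)) _).symm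
      rw [h2]
      congr 1
      unfold tF
      change (L.presheaf.map _).hom m = (L.presheaf.map _).hom ((L.presheaf.map _).hom m)
      rw [← ConcreteCategory.comp_apply, ← Functor.map_comp]
      rfl
  exact congrArg (fun k => k a) key

section gen

open Groth.Agent.Helper1.PT

variable {n : ℕ} (s : 𝒜'.presheaf.obj (op W)) (hs : s ∈ 𝒜'.deg W hW n)

include hu hu' hjL hjL' in
theorem isGenAt_image
    (h : IsGenAt (famOf u' W hW s hs) V' hV' hle) :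
    IsGenAt (famOf u (U.ι ''ᵁ W) (isAffineOpen_image U W hW) (Φ q U L jF h𝒜' W hW s)
      (Φ_mem q U L h𝒜 h𝒜' W hW n s hs)) ((q ⁻¹ᵁ U).ι ''ᵁ V')
      (isAffineOpen_image (q ⁻¹ᵁ U) V' hV') (le_image q U W V' hle) := by
  intro b hb
  have hb' := Ψ'_mem (q ⁻¹ᵁ U) jL hjL jL' hjL' V' hV' n b hb
  obtain ⟨x, hx⟩ := Ideal.mem_span_singleton'.mp (h _ hb')
  refine Ideal.mem_span_singleton'.mpr ⟨Ψ (q ⁻¹ᵁ U) jL jL' hjL' V' hV' x, ?_⟩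
  have h1 := congrArg (Ψ (q ⁻¹ᵁ U) jL jL' hjL' V' hV') hx
  rw [map_mul, Ψ_Ψ'] at h1
  rw [← h1]
  congr 1
  exact (compat q U L h𝒜' hjL' u hu u' hu' W hW V' hV' hle s).symm

include hu hu' hjL hjL' in
theorem isGenAt_of_image
    (h : IsGenAt (famOf u (U.ι ''ᵁ W) (isAffineOpen_image U W hW) (Φ q U L jF h𝒜' W hW s)
      (Φ_mem q U L h𝒜 h𝒜' W hW n s hs)) ((q ⁻¹ᵁ U).ι ''ᵁ V')
      (isAffineOpen_image (q ⁻¹ᵁ U) V' hV') (le_image q U W V' hle)) :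
    IsGenAt (famOf u' W hW s hs) V' hV' hle := by
  intro b hb
  have hb' := Ψ_mem (q ⁻¹ᵁ U) jL hjL jL' hjL' V' hV' n b hb
  obtain ⟨x, hx⟩ := Ideal.mem_span_singleton'.mp (h _ hb')
  refine Ideal.mem_span_singleton'.mpr ⟨Ψ' (q ⁻¹ᵁ U) jL hjL jL' V' hV' x, ?_⟩
  have h1 := congrArg (Ψ' (q ⁻¹ᵁ U) jL hjL jL' V' hV') hx
  rw [map_mul, Ψ'_Ψ] at h1
  rw [← h1]
  congr 1
  have h2 := compat q U L h𝒜' hjL' u hu u' hu' W hW V' hV' hle s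
  have h3 := congrArg (Ψ' (q ⁻¹ᵁ U) jL hjL jL' V' hV') h2
  rw [Ψ'_Ψ] at h3
  exact h3

include hu hu' hjL hjL' h𝒜 in
theorem Xw_eq :
    Xw (famOf u (U.ι ''ᵁ W) (isAffineOpen_image U W hW) (Φ q U L jF h𝒜' W hW s)
      (Φ_mem q U L h𝒜 h𝒜' W hW n s hs)) =
      (q ⁻¹ᵁ U).ι ''ᵁ Xw (famOf u' W hW s hs) := by
  apply le_antisymm
  · intro x hx
    obtain ⟨V, hxV⟩ := Opens.mem_iSup.mp hx
    have hV0 : IsAffineOpen (V.1.1.1 : X.Opens) := V.1.1.2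
    have hle0 : (V.1.1.1 : X.Opens) ≤ q ⁻¹ᵁ (U.ι ''ᵁ W) := V.1.2
    have hVX : (V.1.1.1 : X.Opens) ≤ (q ⁻¹ᵁ U).ι.opensRange := by
      rw [Scheme.Opens.opensRange_ι]
      exact hle0.trans (q.preimage_mono (U.ι_image_le W))
    have hV' : IsAffineOpen ((q ⁻¹ᵁ U).ι ⁻¹ᵁ (V.1.1.1 : X.Opens)) :=
      hV0.preimage_of_isOpenImmersion _ hVX
    have himg : (q ⁻¹ᵁ U).ι ''ᵁ ((q ⁻¹ᵁ U).ι ⁻¹ᵁ (V.1.1.1 : X.Opens)) = (V.1.1.1 : X.Opens) := by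
      rw [Scheme.Hom.image_preimage_eq_opensRange_inf]
      exact inf_eq_right.mpr hVX
    have hle' : (q ⁻¹ᵁ U).ι ⁻¹ᵁ (V.1.1.1 : X.Opens) ≤ (q ∣_ U) ⁻¹ᵁ W := by
      rw [← Scheme.Hom.image_le_image_iff (q ⁻¹ᵁ U).ι, himg, image_morphismRestrict_preimage]
      exact hle0
    have hgen := isGenAt_of_image q U L h𝒜 h𝒜' hjL hjL' u hu u' hu' W hW _ hV' hle' s hs
      (Groth.Agent.Helper1.IM.isGenAt_congr _ himg.symm hV0
        (isAffineOpen_image (q ⁻¹ᵁ U) _ hV') hle0 (le_image q U W _ hle') V.2)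
    have hle2 : (q ⁻¹ᵁ U).ι ⁻¹ᵁ (V.1.1.1 : X.Opens) ≤ Xw (famOf u' W hW s hs) :=
      le_iSup_of_le ⟨⟨⟨_, hV'⟩, hle'⟩, hgen⟩ le_rfl
    rw [← himg] at hxV
    exact (q ⁻¹ᵁ U).ι.image_mono hle2 hxV
  · rintro x ⟨x', hx', rfl⟩
    obtain ⟨V, hxV⟩ := Opens.mem_iSup.mp hx'
    have hgen := isGenAt_image q U L h𝒜 h𝒜' hjL hjL' u hu u' hu' W hW V.1.1.1 V.1.1.2 V.1.2 s hs V.2
    exact Opens.mem_iSup.mpr ⟨⟨⟨⟨_, isAffineOpen_image (q ⁻¹ᵁ U) _ V.1.1.2⟩,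
      le_image q U W _ V.1.2⟩, hgen⟩, ⟨x', hxV, rfl⟩⟩

open Groth.Agent.Helper1.IM in
include hu hu' hjL hjL' h𝒜 hV' in
theorem isFrac_image (τ : Γ(((q ⁻¹ᵁ U : X.Opens) : Scheme.{u}), V'))
    (h : IsFrac u' W hW n s V' hle τ) :
    IsFrac u (U.ι ''ᵁ W) (isAffineOpen_image U W hW) n (Φ q U L jF h𝒜' W hW s)
      ((q ⁻¹ᵁ U).ι ''ᵁ V') (le_image q U W V' hle) (ρ (q ⁻¹ᵁ U) V' τ) := by
  obtain ⟨m, hm, s', hs', e⟩ := h
  refine ⟨m, hm, Φ q U L jF h𝒜' W hW s', Φ_mem q U L h𝒜 h𝒜' W hW (m * n) s' hs', ?_⟩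
  have h1 := congrArg (Ψ (q ⁻¹ᵁ U) jL jL' hjL' V' hV') e
  rw [map_mul, map_pow, Ψ_str, compat q U L h𝒜' hjL' u hu u' hu' W hW V' hV' hle s,
    compat q U L h𝒜' hjL' u hu u' hu' W hW V' hV' hle s'] at h1
  exact h1

open Groth.Agent.Helper1.IM in
lemma isFrac_of_eq {X Y : Scheme.{u}} {q : X ⟶ Y} {𝒮 : QCGrAlg Y} {𝒮L : QCGrAlg X}
    (u : QGrHom q 𝒮 𝒮L) (U : Y.Opens) (hU : IsAffineOpen U) (n : ℕ) (s : 𝒮.presheaf.obj (op U))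
    {V V₁ : X.Opens} (h : V₁ = V) (hT : V ≤ q ⁻¹ᵁ U) (hT₁ : V₁ ≤ q ⁻¹ᵁ U)
    (H : ∀ τ, IsFrac u U hU n s V hT τ) : ∀ τ, IsFrac u U hU n s V₁ hT₁ τ := by
  subst h
  exact H

open Groth.Agent.Helper1.IM in
include hu hu' hjL hjL' h𝒜 in
theorem isFrac_Xw (hXw : IsAffineOpen (Xw (famOf u' W hW s hs)))
    (H : ∀ τ, IsFrac u' W hW n s (Xw (famOf u' W hW s hs)) (Xw_le _) τ) :
    ∀ τ, IsFrac u (U.ι ''ᵁ W) (isAffineOpen_image U W hW) n (Φ q U L jF h𝒜' W hW s)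
      (Xw (famOf u (U.ι ''ᵁ W) (isAffineOpen_image U W hW) (Φ q U L jF h𝒜' W hW s)
        (Φ_mem q U L h𝒜 h𝒜' W hW n s hs))) (Xw_le _) τ := by
  refine isFrac_of_eq u _ _ n _ (Xw_eq q U L h𝒜 h𝒜' hjL hjL' u hu u' hu' W hW s hs)
    (le_image q U W _ (Xw_le _)) (Xw_le _) ?_
  intro τ
  rw [← ρ_ρ' (q ⁻¹ᵁ U) _ τ]
  exact isFrac_image q U L h𝒜 h𝒜' hjL hjL' u hu u' hu' W hW _ hXw (Xw_le _) s _ (H _)

include hu hu' hjL hjL' h𝒜 in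
theorem isAffineOpen_Xw (hXw : IsAffineOpen (Xw (famOf u' W hW s hs))) :
    IsAffineOpen (Xw (famOf u (U.ι ''ᵁ W) (isAffineOpen_image U W hW) (Φ q U L jF h𝒜' W hW s)
        (Φ_mem q U L h𝒜 h𝒜' W hW n s hs))) := by
  rw [Xw_eq q U L h𝒜 h𝒜' hjL hjL' u hu u' hu' W hW s hs]
  exact isAffineOpen_image (q ⁻¹ᵁ U) _ hXw

end gen

section surj

open Groth.Agent.Helper1.PT

include hu hu' hjL hjL' h𝒜 h𝒜' hW in
theorem hsurj_image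
    (e' : Γ((Scheme.Modules.pushforward (q ∣_ U)).obj (L.restrict (q ⁻¹ᵁ U).ι), W))
    (h : ((𝒮L'.deg V' hV' 1 : AddSubgroup (𝒮L'.presheaf.obj (op V'))) :
            Set (𝒮L'.presheaf.obj (op V'))) ⊆
        (Ideal.span {(u'.appLE W V' hle).hom ((jF'.app W) e')} :
          Set (𝒮L'.presheaf.obj (op V')))) :
    ((𝒮L.deg ((q ⁻¹ᵁ U).ι ''ᵁ V') (isAffineOpen_image (q ⁻¹ᵁ U) V' hV') 1 :
        AddSubgroup (𝒮L.presheaf.obj (op ((q ⁻¹ᵁ U).ι ''ᵁ V')))) :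
            Set (𝒮L.presheaf.obj (op ((q ⁻¹ᵁ U).ι ''ᵁ V')))) ⊆
        (Ideal.span {(u.appLE (U.ι ''ᵁ W) ((q ⁻¹ᵁ U).ι ''ᵁ V') (le_image q U W V' hle)).hom
          ((jF.app (U.ι ''ᵁ W)) (tF q U L W e'))} :
          Set (𝒮L.presheaf.obj (op ((q ⁻¹ᵁ U).ι ''ᵁ V')))) := by
  have h1 := isGenAt_image q U L h𝒜 h𝒜' hjL hjL' u hu u' hu' W hW V' hV' hle
    (jR jF' W e') (h𝒜'.2 W hW e') (fun b hb => h hb)
  intro b hb
  have h2 := h1 b hb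
  have h3 : Φ q U L jF h𝒜' W hW (jR jF' W e') = jR jF (U.ι ''ᵁ W) (tF q U L W e') := by
    unfold Φ
    rw [G_j]
  change b ∈ Ideal.span {(u.appLE (U.ι ''ᵁ W) ((q ⁻¹ᵁ U).ι ''ᵁ V') (le_image q U W V' hle)).hom
    (Φ q U L jF h𝒜' W hW (jR jF' W e'))} at h2
  rw [h3] at h2
  exact h2

end surj

end compat

end

end Groth.Agent.Helper4.SN336
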