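import Mathlib
import Groth.Prelude.Def_RelProj4
import Groth.Agent.Helper4.SN336
import Groth.Agent.Helper4.SN334
import Groth.Agent.Helper4.SN328
import Groth.Agent.Helper4.SN323
import Groth.Agent.Helper4.QcohGlue
import Groth.Agent.Helper4.SN287

/-!
# Relative very ampleness is local on the base
-/

set_option autoImplicit false
set_option linter.unusedSectionVars false
set_option linter.style.haveILetI false

namespace Groth.Agent.Helper4.SN337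

open CategoryTheory CategoryTheory.Limits AlgebraicGeometry TopologicalSpace Opposite RelSpec RelProj
open Groth.Agent.Helper1 Groth.Agent.Helper1.SY Groth.Agent.Helper1.SG Groth.Agent.Helper1.RP
open Groth.Agent.Helper4.SN335 Groth.Agent.Helper4.SN336
open scoped HomogeneousIdeal

universe u

noncomputable section

section one

variable {X Y : Scheme.{u}} (q : X ⟶ Y) [QuasiCompact q] [QuasiSeparated q] (U : Y.Opens)
  (L : X.Modules) (hL : PicF.IsInvertible L) [L.IsQuasicoherent]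
  [((Scheme.Modules.pushforward q).obj L).IsQuasicoherent]
  {𝒜 : QCGrAlg Y} {jF : (Scheme.Modules.pushforward q).obj L ⟶ 𝒜.toModule}
  (h𝒜 : IsGrSymAlg ((Scheme.Modules.pushforward q).obj L) 𝒜 jF)
  {𝒮L : QCGrAlg X} {jL : L ⟶ 𝒮L.toModule} (hjL : IsGrSymAlg L 𝒮L jL)
  (u : QGrHom q 𝒜 𝒮L)
  (hu : ∀ (W : Y.Opens) (x : Γ((Scheme.Modules.pushforward q).obj L, W)),
    (u.app W).hom ((jF.app W) x) = (jL.app (q ⁻¹ᵁ W)) x)

include hL h𝒜 hjL hu in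
theorem exists_family_of_local
    (h : IsRelVeryAmple (q ∣_ U) (L.restrict (q ⁻¹ᵁ U).ι)) (x : X) (hx : x ∈ q ⁻¹ᵁ U) :
    (∃ (U₀ : Y.Opens) (hU₀ : IsAffineOpen U₀) (n : ℕ) (_ : 0 < n) (s : 𝒜.presheaf.obj (op U₀))
      (hs : s ∈ 𝒜.deg U₀ hU₀ n),
      x ∈ PT.Xw (PT.famOf u U₀ hU₀ s hs) ∧ IsAffineOpen (PT.Xw (PT.famOf u U₀ hU₀ s hs)) ∧
      ∀ τ, IM.IsFrac u U₀ hU₀ n s (PT.Xw (PT.famOf u U₀ hU₀ s hs)) (PT.Xw_le _) τ) ∧
    (∃ (U₀ : Y.Opens) (hU₀ : IsAffineOpen U₀)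
      (e : Γ((Scheme.Modules.pushforward q).obj L, U₀)) (V : X.Opens)
      (hV : IsAffineOpen V) (hVU : V ≤ q ⁻¹ᵁ U₀), x ∈ V ∧
        ((𝒮L.deg V hV 1 : AddSubgroup (𝒮L.presheaf.obj (op V))) :
            Set (𝒮L.presheaf.obj (op V))) ⊆
        (Ideal.span {(u.appLE U₀ V hVU).hom ((jF.app U₀) e)} :
          Set (𝒮L.presheaf.obj (op V)))) := by
  have hL' : PicF.IsInvertible (L.restrict (q ⁻¹ᵁ U).ι) :=
    Groth.Agent.Helper4.QAffSec.isInvertible_restrict (q ⁻¹ᵁ U).ι hL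
  haveI : (L.restrict (q ⁻¹ᵁ U).ι).IsQuasicoherent :=
    Groth.Agent.Helper4.QAffSec.isQuasicoherent_of_isInvertible _ hL'
  haveI : ((Scheme.Modules.pushforward (q ∣_ U)).obj (L.restrict (q ⁻¹ᵁ U).ι)).IsQuasicoherent :=
    Groth.Agent.Helper4.QcohGlue.isQuasicoherent_pushforward (q ∣_ U) _
  obtain ⟨𝒜', jF', h𝒜'⟩ : ∃ (𝒜' : QCGrAlg (U : Scheme.{u}))
      (jF' : (Scheme.Modules.pushforward (q ∣_ U)).obj (L.restrict (q ⁻¹ᵁ U).ι) ⟶ 𝒜'.toModule),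
      IsGrSymAlg ((Scheme.Modules.pushforward (q ∣_ U)).obj (L.restrict (q ⁻¹ᵁ U).ι)) 𝒜' jF' :=
    ⟨_, _, SG.isGrSymAlg_grAlg (SY.isSymAlg_symAlg _)⟩
  obtain ⟨𝒮L', jL', hjL'⟩ : ∃ (𝒮L' : QCGrAlg ((q ⁻¹ᵁ U : X.Opens) : Scheme.{u}))
      (jL' : L.restrict (q ⁻¹ᵁ U).ι ⟶ 𝒮L'.toModule),
      IsGrSymAlg (L.restrict (q ⁻¹ᵁ U).ι) 𝒮L' jL' :=
    ⟨_, _, SG.isGrSymAlg_grAlg (SY.isSymAlg_symAlg _)⟩
  obtain ⟨P', p', chart', hP'⟩ := RP.exists_isRelProj 𝒜'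
  obtain ⟨PL', pL', chartL', hPL'⟩ := RP.exists_isRelProj 𝒮L'
  set u' := Groth.Agent.Helper4.SN324.uσ (q ∣_ U) (L.restrict (q ⁻¹ᵁ U).ι) h𝒜' hjL' with hu'def
  have hu' := Groth.Agent.Helper4.SN324.uσ_j (q ∣_ U) (L.restrict (q ⁻¹ᵁ U).ι) h𝒜' hjL'
  obtain ⟨r', hr', -⟩ := existsUnique_projQMapOn (u := u') hP' hPL'
  obtain ⟨hdom', himm'⟩ := Groth.Agent.Helper4.SN323.main (q ∣_ U) (L.restrict (q ⁻¹ᵁ U).ι) hL'
    hjL' hPL' h𝒜' u' hu' hP' r' hr' h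
  haveI := himm'
  constructor
  · obtain ⟨W, hW, n, hn, s, hs, hxw, hXw, hfrac⟩ :=
      Groth.Agent.Helper4.SN334.exists_local_family u' hjL' hL' hP' hPL' hr' hdom' ⟨x, hx⟩
    refine ⟨U.ι ''ᵁ W, isAffineOpen_image U W hW, n, hn, Φ q U L jF h𝒜' W hW s,
      Φ_mem q U L h𝒜 h𝒜' W hW n s hs, ?_, ?_, ?_⟩
    · rw [Xw_eq q U L h𝒜 h𝒜' hjL hjL' u hu u' hu' W hW s hs]
      exact ⟨⟨x, hx⟩, hxw, rfl⟩
    · exact isAffineOpen_Xw q U L h𝒜 h𝒜' hjL hjL' u hu u' hu' W hW s hs hXw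
    · exact isFrac_Xw q U L h𝒜 h𝒜' hjL hjL' u hu u' hu' W hW s hs hXw hfrac
  · haveI hepi := Groth.Agent.Helper4.SN329.epi_counit_of_isRelVeryAmple (q ∣_ U)
      (L.restrict (q ⁻¹ᵁ U).ι) h
    set s' := ((Scheme.Modules.pullbackPushforwardAdjunction (q ∣_ U)).homEquiv
      ((Scheme.Modules.pushforward (q ∣_ U)).obj (L.restrict (q ⁻¹ᵁ U).ι))
      (L.restrict (q ⁻¹ᵁ U).ι)).symm (𝟙 _) with hs'
    have hs'eq : s' = (Scheme.Modules.pullbackPushforwardAdjunction (q ∣_ U)).counit.app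
        (L.restrict (q ⁻¹ᵁ U).ι) := by
      rw [hs', Adjunction.homEquiv_counit, CategoryTheory.Functor.map_id, Category.id_comp]
    haveI : Epi s' := by
      rw [hs'eq]
      exact hepi
    have hu₀ := Groth.Agent.Helper4.SN329.gradedAt_j (q ∣_ U) (𝟙 _) u' (fun W x => hu' W x)
    obtain ⟨W, hW, e', V', hV', hle, hxV', hsub⟩ :=
      Groth.Agent.Helper4.SN328.exists_gen_of_epi (q ∣_ U) _ h𝒜' hL' hjL' s' u' hu₀ ⟨x, hx⟩
    exact ⟨U.ι ''ᵁ W, isAffineOpen_image U W hW, tF q U L W e', (q ⁻¹ᵁ U).ι ''ᵁ V',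
      isAffineOpen_image _ V' hV', le_image q U W V' hle, ⟨⟨x, hx⟩, hxV', rfl⟩,
      hsurj_image q U L h𝒜 h𝒜' hjL hjL' u hu u' hu' W hW V' hV' hle e' hsub⟩

end one

section main

/-- **relative very ampleness is local on the base** (for a quasi-compact morphism) -/
theorem isRelVeryAmple_of_local {X Y : Scheme.{u}} (q : X ⟶ Y) [QuasiCompact q] (L : X.Modules)
    (hL : PicF.IsInvertible L) {ι : Type u} (U : ι → Y.Opens) (hU : ⨆ i, U i = ⊤)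
    (h : ∀ i, IsRelVeryAmple (q ∣_ (U i)) (L.restrict (q ⁻¹ᵁ (U i)).ι)) :
    IsRelVeryAmple q L := by
  haveI : IsSeparated q := by
    rw [IsZariskiLocalAtTarget.iff_of_iSup_eq_top (P := @IsSeparated) U hU]
    exact fun i => Groth.Agent.Helper4.SN329.isSeparated_of_isRelVeryAmple _ _ (h i)
  haveI : L.IsQuasicoherent := Groth.Agent.Helper4.QAffSec.isQuasicoherent_of_isInvertible L hL
  haveI : ((Scheme.Modules.pushforward q).obj L).IsQuasicoherent :=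
    Groth.Agent.Helper4.QcohGlue.isQuasicoherent_pushforward q L
  obtain ⟨𝒜, jF, h𝒜⟩ : ∃ (𝒜 : QCGrAlg Y)
      (jF : (Scheme.Modules.pushforward q).obj L ⟶ 𝒜.toModule),
      IsGrSymAlg ((Scheme.Modules.pushforward q).obj L) 𝒜 jF :=
    ⟨_, _, SG.isGrSymAlg_grAlg (SY.isSymAlg_symAlg _)⟩
  obtain ⟨𝒮L, jL, hjL⟩ : ∃ (𝒮L : QCGrAlg X) (jL : L ⟶ 𝒮L.toModule), IsGrSymAlg L 𝒮L jL :=
    ⟨_, _, SG.isGrSymAlg_grAlg (SY.isSymAlg_symAlg _)⟩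
  obtain ⟨P, p, chart, hP⟩ := RP.exists_isRelProj 𝒜
  obtain ⟨PL, pL, chartL, hPL⟩ := RP.exists_isRelProj 𝒮L
  set u := Groth.Agent.Helper4.SN324.uσ q L h𝒜 hjL with hudef
  have hu := Groth.Agent.Helper4.SN324.uσ_j q L h𝒜 hjL
  obtain ⟨r, hr, -⟩ := existsUnique_projQMapOn (u := u) hP hPL
  have hloc : ∀ x : X, ∃ i, x ∈ q ⁻¹ᵁ U i := by
    intro x
    have h1 : q x ∈ (⨆ i, U i) := by rw [hU]; trivial
    obtain ⟨i, hi⟩ := Opens.mem_iSup.mp h1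
    exact ⟨i, hi⟩
  choose i hi using hloc
  have key := fun x => exists_family_of_local q (U (i x)) L hL h𝒜 hjL u hu (h (i x)) x (hi x)
  choose U₀ hU₀ n hn s hs hxw hXw hfrac using fun x => (key x).1
  obtain ⟨hdom, himm⟩ := IM.isImmersion_of_family u hjL hL hP hPL hr U₀ hU₀ n hn s hs
    (fun x => ⟨x, hxw x⟩) hXw hfrac
  exact Groth.Agent.Helper4.SN334.isRelVeryAmple_of_immersion q L hL hjL hPL h𝒜 (𝟙 _) u
    (fun W x => hu W x) (fun x => (key x).2) hP r hr hdom himm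

theorem isRelVeryAmple_of_iso {X Y : Scheme.{u}} (f : X ⟶ Y) {L L' : X.Modules} (e : L ≅ L')
    (h : IsRelVeryAmple f L) : IsRelVeryAmple f L' := by
  obtain ⟨E, hE, 𝒮, j, hj, P, p, chart, hP, O1, lam, hO1, i, himm, hip, ⟨eL⟩⟩ := h
  exact ⟨E, hE, 𝒮, j, hj, P, p, chart, hP, O1, lam, hO1, i, himm, hip, ⟨e.symm ≪≫ eL⟩⟩

theorem isRelVeryAmple_restrict {X Y : Scheme.{u}} (q : X ⟶ Y) (L : X.Modules) (U : Y.Opens)
    (h : IsRelVeryAmple q L) : IsRelVeryAmple (q ∣_ U) (L.restrict (q ⁻¹ᵁ U).ι) := by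
  have h1 := Groth.Agent.Helper4.SN287.isRelVeryAmple_baseChange q U.ι (q ⁻¹ᵁ U).ι (q ∣_ U)
    (isPullback_morphismRestrict q U).flip L h
  exact isRelVeryAmple_of_iso _
    ((Scheme.Modules.restrictFunctorIsoPullback (q ⁻¹ᵁ U).ι).app L).symm h1

theorem main467 {X Y : Scheme.{u}} (q : X ⟶ Y) [QuasiCompact q] (L : X.Modules)
    (hL : PicF.IsInvertible L) {ι : Type u} (U : ι → Y.Opens) (hU : ⨆ i, U i = ⊤) :
    IsRelVeryAmple q L ↔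
      ∀ i, IsRelVeryAmple (q ∣_ (U i)) (L.restrict (q ⁻¹ᵁ (U i)).ι) :=
  ⟨fun h i => isRelVeryAmple_restrict q L (U i) h, isRelVeryAmple_of_local q L hL U hU⟩

end main

end

end Groth.Agent.Helper4.SN337
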