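import Mathlib
import Groth.Agent.Helper4.SN338
import Groth.Agent.Helper1.VA4

/-!
# Functoriality of the morphism to projective space attached to generating sections
-/

set_option autoImplicit false
set_option linter.unusedSectionVars false
set_option linter.style.haveILetI false

namespace Groth.Agent.Helper4.SN339

open CategoryTheory CategoryTheory.Limits AlgebraicGeometry TopologicalSpace Opposite
open Groth.Agent.Helper4.PullSec Groth.Agent.Helper4.PullUnit Groth.Agent.Helper1.ProjBC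
  Groth.Agent.Helper1.PUP Groth.Agent.Helper1.VA Groth.Agent.Helper1.Segre
  Groth.Agent.Helper4.SN338

universe u

noncomputable section

section rr

variable {X P : Scheme.{u}} {R : Type u} [CommRing R] (n : ℕ) (q : P ⟶ Spec (CommRingCat.of R))
  (r : X ⟶ P) {O1 : P.Modules} {L : X.Modules}
  (τ : Fin (n + 1) → (Coh.structureModule P ⟶ O1)) (hcovτ : ⨆ e, XE τ e = ⊤)
  (σ : Fin (n + 1) → (Coh.structureModule X ⟶ L)) (hcovσ : ⨆ e, XE σ e = ⊤)
  (ρ : (Scheme.Modules.pullback r).obj O1 ≅ L) (hρ : ∀ k, pullSec r (τ k) ≫ ρ.hom = σ k)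

include hρ in
theorem rr_comp : r ≫ rr n q τ hcovτ = rr n (r ≫ q) σ hcovσ := by
  obtain ⟨τ', hτ'⟩ := exists_iso_rr n q τ hcovτ
  obtain ⟨σ'', hσ''⟩ := exists_iso_rr n (r ≫ q) σ hcovσ
  refine eq_of_hτ n (r ≫ rr n q τ hcovτ) (rr n (r ≫ q) σ hcovσ) ?_
    ((Scheme.Modules.pullbackComp r (rr n q τ hcovτ)).symm.app _ ≪≫
      (Scheme.Modules.pullback r).mapIso τ' ≪≫ ρ ≪≫ σ''.symm) ?_
  · have h1 := rr'_toSpec n q τ hcovτ
    have h2 := rr'_toSpec n (r ≫ q) σ hcovσ
    unfold rr' at h1 h2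
    rw [Category.assoc]
    exact (congrArg (fun k => r ≫ k) h1).trans h2.symm
  · intro k
    have h1 : σr n (r ≫ rr n q τ hcovτ) k ≫
        (Scheme.Modules.pullbackComp r (rr n q τ hcovτ)).inv.app _ =
        pullSec r (σr n (rr n q τ hcovτ) k) := pullSec_comp r (rr n q τ hcovτ) _
    have h2 : σr n (rr n q τ hcovτ) k ≫ τ'.hom = τ k := hτ' k
    have h3 : σr n (rr n (r ≫ q) σ hcovσ) k ≫ σ''.hom = σ k := hσ'' k
    simp only [Iso.trans_hom, Iso.symm_hom, Iso.app_hom, Functor.mapIso_hom]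
    rw [← Category.assoc, h1, ← Category.assoc, ← pullSec_map, h2, ← Category.assoc, hρ k, ← h3,
      Category.assoc, Iso.hom_inv_id, Category.comp_id]

end rr

section iS

variable {X P S : Scheme.{u}} {n : ℕ} (p : P ⟶ S)
  (r : X ⟶ P) {O1 : P.Modules} {L : X.Modules}
  (τ : Fin (n + 1) → (Coh.structureModule P ⟶ O1)) (hcovτ : ⨆ e, XE τ e = ⊤)
  (σ : Fin (n + 1) → (Coh.structureModule X ⟶ L)) (hcovσ : ⨆ e, XE σ e = ⊤)
  (ρ : (Scheme.Modules.pullback r).obj O1 ≅ L) (hρ : ∀ k, pullSec r (τ k) ≫ ρ.hom = σ k)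

include hρ in
theorem iS_comp : r ≫ iS p τ hcovτ = iS (r ≫ p) σ hcovσ := by
  apply hom_ext_PSO
  · unfold iS
    rw [Category.assoc, liftPSO_prZ, liftPSO_prZ]
    have h1 := rr_comp n qz r τ hcovτ σ hcovσ ρ hρ
    have h2 : r ≫ (qz : P ⟶ Spec (CommRingCat.of (ULift.{u} ℤ))) = qz :=
      specULiftZIsTerminal.hom_ext _ _
    rw [h2] at h1
    exact h1
  · unfold iS
    rw [Category.assoc, liftPSO_toBase, liftPSO_toBase]

end iS

end

end Groth.Agent.Helper4.SN339
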