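import Mathlib
import Groth.Prelude.Def_RelProj4
import Groth.Prelude.Def_LCI2
import Groth.Agent.Helper4.SN339
import Groth.Agent.Helper4.SN331
import Groth.Agent.Helper4.SN306
import Groth.Agent.Lead.BCMap5

/-!
# A module very ample relative to a projective space is very ample (affine base)
-/

set_option autoImplicit false
set_option linter.unusedSectionVars false
set_option linter.style.haveILetI false

namespace Groth.Agent.Helper4.SN340

open CategoryTheory CategoryTheory.Limits AlgebraicGeometry TopologicalSpace Opposite RelSpec RelProj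
open Groth.Agent.Helper1 Groth.Agent.Helper1.SY Groth.Agent.Helper1.SG Groth.Agent.Helper1.RP
open Groth.Agent.Helper4.PullSec Groth.Agent.Helper4.PullUnit Groth.Agent.Helper1.PUP
  Groth.Agent.Helper4.SN304 Groth.Agent.Lead.BCMap
open scoped HomogeneousIdeal

universe u

noncomputable section

section alg

theorem span_of_isBaseChange {R S M N : Type*} [CommRing R] [CommRing S] [Algebra R S]
    [AddCommGroup M] [Module R M] [AddCommGroup N] [Module R N] [Module S N]
    [IsScalarTower R S N] {ρ : M →ₗ[R] N} (h : IsBaseChange S ρ) (G : Set M)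
    (hG : Submodule.span R G = ⊤) : Submodule.span S (ρ '' G) = ⊤ := by
  rw [eq_top_iff]
  rintro x -
  induction x using h.inductionOn with
  | zero => exact zero_mem _
  | tmul m =>
    have hm : m ∈ Submodule.span R G := hG ▸ Submodule.mem_top
    induction hm using Submodule.span_induction with
    | mem x hx => exact Submodule.subset_span ⟨x, hx, rfl⟩
    | zero => rw [map_zero]; exact zero_mem _
    | add x y _ _ hx hy => rw [map_add]; exact add_mem hx hy
    | smul a x _ hx =>
      rw [map_smul, ← algebraMap_smul S a (ρ x)]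
      exact Submodule.smul_mem _ _ hx
  | smul s n hn => exact Submodule.smul_mem _ _ hn
  | add n₁ n₂ h₁ h₂ => exact add_mem h₁ h₂

end alg

section free

variable (R : Type u) [CommRing R] (n : ℕ)

/-- the standard global sections of the free module on `Spec R` span -/
theorem span_κ₀ : Submodule.span Γ(Spec (CommRingCat.of R), ⊤)
    (Set.range fun k : Fin (n + 1) => κ₀ R n (Pi.single k 1)) = ⊤ := by
  rw [eq_top_iff]
  intro m _
  have h1 : m = ∑ k : Fin (n + 1), ρ₀ R ((κ₀ R n).symm m k) • κ₀ R n (Pi.single k 1) := by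
    have h2 : (κ₀ R n).symm m = ∑ k : Fin (n + 1), ((κ₀ R n).symm m k) • (Pi.single k 1 : Fin (n + 1) → R) := by
      funext l
      simp [Finset.sum_apply, Pi.single_apply]
    have h3 := congrArg (κ₀ R n) h2
    rw [AddEquiv.apply_symm_apply, map_sum] at h3
    refine h3.trans ?_
    refine Finset.sum_congr rfl (fun k _ => ?_)
    exact hκ₀ R n _ _
  rw [h1]
  exact Submodule.sum_mem _ (fun k _ => Submodule.smul_mem _ _ (Submodule.subset_span ⟨k, rfl⟩))

end free

section pullfree

variable {R : Type u} [CommRing R] {S : Scheme.{u}} (g : S ⟶ Spec (CommRingCat.of R)) (n : ℕ)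

/-- the free module of rank `n + 1` on `S` -/
def EF : S.Modules := (Scheme.Modules.pullback g).obj (E₀ R n)

instance : (EF g n).IsQuasicoherent :=
  Groth.Agent.Lead.StalkPull.isQuasicoherent_pullbackObj g (E₀ R n)

/-- its standard global sections -/
def eF (k : Fin (n + 1)) : Γ(EF g n, ⊤) :=
  ((Scheme.Modules.pullbackPushforwardAdjunction g).unit.app (E₀ R n)).app ⊤
    (κ₀ R n (Pi.single k 1))

theorem span_eF (hS : IsAffineOpen (⊤ : S.Opens)) :
    Submodule.span Γ(S, ⊤) (Set.range (eF g n)) = ⊤ := by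
  have e : (⊤ : S.Opens) ≤ g ⁻¹ᵁ (⊤ : (Spec (CommRingCat.of R)).Opens) := fun _ _ => trivial
  letI := (g.appLE ⊤ ⊤ e).hom.toAlgebra
  letI : Module Γ(Spec (CommRingCat.of R), ⊤) Γ((Scheme.Modules.pullback g).obj (E₀ R n), ⊤) :=
    Module.compHom _ (g.appLE ⊤ ⊤ e).hom
  haveI : IsScalarTower Γ(Spec (CommRingCat.of R), ⊤) Γ(S, ⊤)
      Γ((Scheme.Modules.pullback g).obj (E₀ R n), ⊤) :=
    IsScalarTower.of_compHom _ _ _
  obtain ⟨ρ, hρ, hb⟩ := exists_isBaseChange_pbSec g (E₀ R n) (isAffineOpen_top _) hS e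
  have h1 := span_of_isBaseChange hb _ (span_κ₀ R n)
  have h2 : (ρ '' Set.range fun k : Fin (n + 1) => κ₀ R n (Pi.single k 1)) =
      Set.range (eF g n) := by
    rw [← Set.range_comp]
    congr 1
    funext k
    rw [Function.comp_apply, hρ, pbSec_apply]
    unfold eF
    exact Groth.Agent.Helper4.QAffSec.res_self _ _ _
  rw [h2] at h1
  exact h1

end pullfree

section sections

variable {X S : Scheme.{u}} (f : X ⟶ S) {L : X.Modules} [L.IsQuasicoherent] {n : ℕ}
  (σ : Fin (n + 1) → (Coh.structureModule X ⟶ L)) (hcov : ⨆ e, XE σ e = ⊤)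
  {R : Type u} [CommRing R] (g : S ⟶ Spec (CommRingCat.of R))

/-- the global sections of `f_* L` given by the `σ k` -/
def sF (k : Fin (n + 1)) : Γ((Scheme.Modules.pushforward f).obj L, ⊤) := sec (σ k) ⊤

/-- the map from the free module to `f_* L` -/
def ιF : EF g n ⟶ (Scheme.Modules.pushforward f).obj L :=
  Groth.Agent.Helper4.SN306.v g ((Scheme.Modules.pushforward f).obj L) (sF f σ)

theorem ιF_eF (k : Fin (n + 1)) : (ιF f σ g).app ⊤ (eF g n k) = sF f σ k :=
  (Groth.Agent.Helper4.SN306.v_app g _ (sF f σ) _).trans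
    (Groth.Agent.Helper4.SN306.w_app g _ (sF f σ) k)

/-- the map from the pullback of the free module to `L` -/
def sE : (Scheme.Modules.pullback f).obj (EF g n) ⟶ L :=
  ((Scheme.Modules.pullbackPushforwardAdjunction f).homEquiv _ _).symm (ιF f σ g)

theorem sE_app (k : Fin (n + 1)) (U : X.Opens) (hU : U ≤ f ⁻¹ᵁ (⊤ : S.Opens)) :
    (sE f σ g).app U (pbSec f (EF g n) ⊤ U hU (eF g n k)) = sec (σ k) U := by
  rw [← homEquiv_app f (EF g n) (sE f σ g) ⊤ U hU (eF g n k)]
  unfold sE
  rw [Equiv.apply_symm_apply, ιF_eF]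
  exact sec_res (σ k) (le_top : U ≤ ⊤)

include hcov in
theorem epi_sE : Epi (sE f σ g) := by
  apply Groth.Agent.Helper4.QcohLocal.epi_of_app_surjective_of_affine_cover
  intro x
  have hx : x ∈ (⨆ e, XE σ e) := by rw [hcov]; trivial
  obtain ⟨k, hk⟩ := Opens.mem_iSup.mp hx
  obtain ⟨U, hU, hxU, hUle⟩ := exists_isAffineOpen_mem_and_subset (x := x) (U := XE σ k) hk
  refine ⟨U, hU, hxU, ?_⟩
  intro t
  obtain ⟨c, hc⟩ := (bijective_app_of_le (σ k) (V := U) hUle).2 t
  rw [app_eq_smul_sec] at hc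
  refine ⟨Groth.Agent.Helper4.GenLoc.toFn c • pbSec f (EF g n) ⊤ U (fun _ _ => trivial) (eF g n k), ?_⟩
  rw [Scheme.Modules.Hom.app_smul, sE_app]
  exact hc

end sections

section main

open Groth.Agent.Helper1.VA Groth.Agent.Helper1.ProjBC

variable {X S : Scheme.{u}} [IsAffine S] (f : X ⟶ S) (L : X.Modules) (hL : PicF.IsInvertible L)

include hL in
/-- **over an affine base, a module very ample relative to a projective space is very ample** -/
theorem isRelVeryAmple_of_isRelVeryAmplePn (h : RelAmple.IsRelVeryAmplePn f L) :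
    IsRelVeryAmple f L := by
  obtain ⟨n, i, himm, hif, ⟨φ⟩⟩ := h
  haveI := himm
  haveI : L.IsQuasicoherent := Groth.Agent.Helper4.QAffSec.isQuasicoherent_of_isInvertible L hL
  have hS : IsAffineOpen (⊤ : S.Opens) := isAffineOpen_top S
  set σ := σi i φ with hσ
  have hcovσ := hcov_σi i φ
  have hiS := iS_σi i φ
  set g : S ⟶ Spec (CommRingCat.of (ULift.{u} ℤ)) := specULiftZIsTerminal.from S with hg
  obtain ⟨𝒮, j, hj⟩ : ∃ (𝒮 : QCGrAlg S) (j : EF g n ⟶ 𝒮.toModule), IsGrSymAlg (EF g n) 𝒮 j :=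
    ⟨_, _, SG.isGrSymAlg_grAlg (SY.isSymAlg_symAlg _)⟩
  obtain ⟨P, p, chart, hP⟩ := RP.exists_isRelProj 𝒮
  obtain ⟨O1, lam, hO1⟩ := TRE.exists_isRelTwist 1 hP
  set φE := CF.can j hj.2 hP hO1 with hφEdef
  have hφE := CF.val_can j hj.2 hP hO1
  haveI := epi_sE f σ hcovσ g
  obtain ⟨r, hr, ρ, hρ⟩ := Groth.Agent.Helper4.SN315.exists_hom_of_epi f (EF g n) hj hP hO1 φE hφE
    hL (sE f σ g)
  set τ : Fin (n + 1) → (Coh.structureModule P ⟶ O1) :=
    fun k => Groth.Agent.Helper4.SN331.σ φE (eF g n k) with hτ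
  have hcovτ : ⨆ e, XE τ e = ⊤ := by
    rw [eq_top_iff]
    intro z _
    obtain ⟨e, ⟨k, rfl⟩, hz⟩ := Groth.Agent.Helper4.SN331.exists_mem_Wf_of_span hj hS
      (Set.range (eF g n)) (span_eF g n hS) z
    refine Opens.mem_iSup.mpr ⟨k, ?_⟩
    show z ∈ CohB1.genLocus O1 (Groth.Agent.Helper4.SN331.σ φE (eF g n k))
    rw [Groth.Agent.Helper4.SN331.genLocus_eq_Wf hj hO1 φE hφE hS]
    exact hz
  have hcompat : ∀ k, pullSec r (τ k) ≫ ρ.hom = σ k := by
    intro k
    set θ := (Scheme.Modules.pullbackPushforwardAdjunction r).homEquiv O1 L ρ.hom with hθ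
    have hρθ : ρ.hom = ((Scheme.Modules.pullbackPushforwardAdjunction r).homEquiv O1 L).symm θ := by
      rw [hθ, Equiv.symm_apply_apply]
    have key := pullSec_comp_adj r (τ k) θ (σ k) ?_
    · rw [← hρθ] at key
      exact key
    · apply hom_ext_of_sec
      have e1 : sec (τ k ≫ θ) ⊤ = θ.app ⊤ (φE.app ⊤ (eF g n k)) := by
        rw [sec_comp]
        congr 1
        rw [hτ]
        simp only
        rw [Groth.Agent.Helper4.SN331.sec_σ φE (eF g n k) ⊤
          (Groth.Agent.Helper4.SN331.le_pre_top p ⊤)]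
        unfold Groth.Agent.Helper4.SN331.φV
        exact Groth.Agent.Helper4.QAffSec.res_self _ _ _
      have e2 : sec (uu r ≫ (Scheme.Modules.pushforward r).map (σ k)) ⊤ = sec (σ k) ⊤ := by
        show ((Scheme.Modules.pushforward r).map (σ k)).app ⊤ ((uu r).app ⊤ (1 : Γ(P, ⊤))) = _
        rw [uu_app_one]
        rfl
      subst hr
      have h1 := congrArg
        ((Scheme.Modules.pullbackPushforwardAdjunction (r ≫ p)).homEquiv (EF g n) L) hρ
      rw [hρθ, Groth.Agent.Helper4.SN315.transpose_eq r p rfl (EF g n) O1 L φE θ,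
        Groth.Agent.Helper4.SN315.pushforwardCongr_rfl_app, Category.comp_id] at h1
      have h2 : (Scheme.Modules.pullbackPushforwardAdjunction (r ≫ p)).homEquiv (EF g n) L
          (sE (r ≫ p) σ g) = ιF (r ≫ p) σ g := Equiv.apply_symm_apply _ _
      rw [h2] at h1
      have h3 := congrArg (fun k' => k'.app ⊤ (eF g n k)) h1
      simp only at h3
      rw [ιF_eF] at h3
      rw [e1, e2]
      exact h3
  have hc := Groth.Agent.Helper4.SN339.iS_comp p r τ hcovτ σ hcovσ ρ hcompat
  have hfi : r ≫ p = i ≫ CohB1.ProjSpaceOver.toBase n S := hr.trans hif.symm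
  have hri : r ≫ iS p τ hcovτ = i := by
    rw [hc]
    refine Eq.trans ?_ hiS
    congr 1
  haveI : IsImmersion (r ≫ iS p τ hcovτ) := by
    rw [hri]
    infer_instance
  haveI : IsImmersion r := IsImmersion.of_comp r (iS p τ hcovτ)
  exact ⟨EF g n, inferInstance, 𝒮, j, hj, P, p, chart, hP, O1, lam, hO1, r, inferInstance, hr,
    ⟨ρ.symm⟩⟩

end main

end

end Groth.Agent.Helper4.SN340
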