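import Mathlib
import Groth.Prelude.Def_RelProj4
import Groth.Prelude.Def_LCI2
import Groth.Agent.Helper4.SN340
import Groth.Agent.Helper4.SN337
import Groth.Agent.Helper1.VA13

/-!
# A module very ample relative to a projective space is very ample (general base), and the
local characterisation of very ampleness for finite type morphisms
-/

set_option autoImplicit false
set_option linter.unusedSectionVars false
set_option linter.style.haveILetI false

namespace Groth.Agent.Helper4.SN341

open CategoryTheory CategoryTheory.Limits AlgebraicGeometry TopologicalSpace Opposite RelSpec RelProj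

universe u

/-- **a module very ample relative to a projective space is very ample** (quasi-compact
morphisms, arbitrary base) -/
theorem isRelVeryAmple_of_isRelVeryAmplePn {X S : Scheme.{u}} (f : X ⟶ S) [QuasiCompact f]
    (L : X.Modules) (hL : PicF.IsInvertible L) (h : RelAmple.IsRelVeryAmplePn f L) :
    IsRelVeryAmple f L := by
  refine Groth.Agent.Helper4.SN337.isRelVeryAmple_of_local f L hL
    (fun W : S.affineOpens => (W : S.Opens)) (iSup_affineOpens_eq_top S) ?_
  intro W
  haveI : IsAffine ((W : S.Opens) : Scheme.{u}) := W.2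
  exact Groth.Agent.Helper4.SN340.isRelVeryAmple_of_isRelVeryAmplePn (f ∣_ W.1) _
    (Groth.Agent.Helper4.QAffSec.isInvertible_restrict (f ⁻¹ᵁ W.1).ι hL)
    (Groth.Agent.Helper1.VA.isRelVeryAmplePn_restrict f W.1 L h)

theorem main481 {X S : Scheme.{u}} (f : X ⟶ S) [QuasiCompact f] (L : X.Modules)
    (hLinv : PicF.IsInvertible L) {ι : Type u} (V : ι → S.Opens) (hV : (⨆ j, V j) = ⊤)
    (h : ∀ j, RelAmple.IsRelVeryAmplePn (f ∣_ V j) (L.restrict (f ⁻¹ᵁ V j).ι)) :
    IsRelVeryAmple f L :=
  Groth.Agent.Helper4.SN337.isRelVeryAmple_of_local f L hLinv V hV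
    (fun j => isRelVeryAmple_of_isRelVeryAmplePn (f ∣_ V j) _
      (Groth.Agent.Helper4.QAffSec.isInvertible_restrict (f ⁻¹ᵁ V j).ι hLinv) (h j))

end Groth.Agent.Helper4.SN341
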