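import Mathlib
import Groth.Prelude.Def_RelProj4
import Groth.Prelude.Def_LCI2
import Groth.Agent.Helper4.SN341
import Groth.Agent.Helper4.AmpleRestrict
import Groth.Agent.Helper1.VA12

/-!
# Large powers of a relatively ample module are relatively very ample (quasi-compact base)
-/

set_option autoImplicit false
set_option linter.unusedSectionVars false
set_option linter.style.haveILetI false

namespace Groth.Agent.Helper4.SN342

open CategoryTheory CategoryTheory.Limits AlgebraicGeometry TopologicalSpace Opposite RelSpec RelProj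
open Groth.Agent.Helper4.TensorInv Groth.Agent.Helper4.AmpleRestrict Groth.Agent.Helper4.TensorRes

universe u

/-- a quasi-compact scheme is covered by finitely many affine opens -/
theorem exists_finset_affine_cover (Y : Scheme.{u}) [CompactSpace Y] :
    ∃ T : Finset Y.affineOpens, (⨆ V : T, (V.1 : Y.Opens)) = ⊤ := by
  obtain ⟨T, hT⟩ := isCompact_univ.elim_finite_subcover
    (fun V : Y.affineOpens => ((V : Y.Opens) : Set Y)) (fun V => V.1.isOpen) (by
      intro y _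
      have hy : y ∈ (⨆ V : Y.affineOpens, (V : Y.Opens)) := by
        rw [iSup_affineOpens_eq_top]; trivial
      obtain ⟨V, hV⟩ := Opens.mem_iSup.mp hy
      exact Set.mem_iUnion.mpr ⟨V, hV⟩)
  refine ⟨T, ?_⟩
  rw [eq_top_iff]
  intro y _
  obtain ⟨V, hVT, hyV⟩ := Set.mem_iUnion₂.mp (hT (Set.mem_univ y))
  exact Opens.mem_iSup.mpr ⟨⟨V, hVT⟩, hyV⟩

theorem main478 {X Y : Scheme.{u}} [CompactSpace Y] (f : X ⟶ Y)
    [QuasiCompact f] [LocallyOfFiniteType f] (L : X.Modules) (hL : PicF.IsInvertible L)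
    (h : RelAmple.IsRelAmple f L) :
    ∃ n₀ : ℕ, 0 < n₀ ∧ ∀ n : ℕ, n₀ ≤ n → IsRelVeryAmple f (CohB1.tensorPow L n) := by
  obtain ⟨T, hT⟩ := exists_finset_affine_cover Y
  choose n₁ hn₁pos hn₁ using fun V : Y.affineOpens =>
    Groth.Agent.Helper1.VA.exists_forall_veryAmple_pow' (f ∣_ V.1) (h.2 V)
  refine ⟨T.sup n₁ + 1, Nat.succ_pos _, fun n hn => ?_⟩
  refine Groth.Agent.Helper4.SN341.main481 f (CohB1.tensorPow L n) (isInvertible_tensorPow hL n)
    (fun V : T => (V.1 : Y.Opens)) hT (fun V => ?_)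
  have h1 : n₁ V.1 ≤ T.sup n₁ := Finset.le_sup V.2
  have h2 := hn₁ V.1 n (by omega)
  exact Groth.Agent.Helper1.VA.isRelVeryAmplePn_of_iso (f ∣_ V.1.1)
    (resPowIso (f ⁻¹ᵁ V.1.1).ι L n) h2

theorem main479 {X Y : Scheme.{u}} [CompactSpace Y] (f : X ⟶ Y)
    [QuasiCompact f] [LocallyOfFiniteType f] (L L' : X.Modules) (hL : PicF.IsInvertible L)
    (hL' : PicF.IsInvertible L') (h : RelAmple.IsRelAmple f L) :
    ∃ n₀ : ℕ, ∀ n : ℕ, n₀ ≤ n →
      IsRelVeryAmple f (CohB1.tensorMod (CohB1.tensorPow L n) L') := by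
  obtain ⟨T, hT⟩ := exists_finset_affine_cover Y
  choose n₁ hn₁ using fun V : Y.affineOpens =>
    Groth.Agent.Helper1.VA.exists_forall_veryAmple' (f ∣_ V.1) (h.2 V)
      (L'.restrict (f ⁻¹ᵁ V.1).ι)
      (Groth.Agent.Helper4.QAffSec.isInvertible_restrict (f ⁻¹ᵁ V.1).ι hL')
  refine ⟨T.sup n₁, fun n hn => ?_⟩
  refine Groth.Agent.Helper4.SN341.main481 f (CohB1.tensorMod (CohB1.tensorPow L n) L')
    (isInvertible_tensorMod (isInvertible_tensorPow hL n) hL')
    (fun V : T => (V.1 : Y.Opens)) hT (fun V => ?_)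
  have h1 : n₁ V.1 ≤ T.sup n₁ := Finset.le_sup V.2
  have h2 := hn₁ V.1 n (by omega)
  exact Groth.Agent.Helper1.VA.isRelVeryAmplePn_of_iso (f ∣_ V.1.1)
    (PicGrp.tensorModIso (resPowIso (f ⁻¹ᵁ V.1.1).ι L n) (Iso.refl _) ≪≫
      resIso (f ⁻¹ᵁ V.1.1).ι (CohB1.tensorPow L n) L') h2

end Groth.Agent.Helper4.SN342
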