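import Mathlib
import Groth.Prelude.Def_RelProj4
import Groth.Prelude.Def_LCI2
import Groth.Agent.Helper4.SN342
import Groth.Agent.Helper4.SN330
import Groth.Agent.Helper4.RelCompTwist
import Groth.Agent.S5729
import Groth.Agent.S8259

/-!
# Quasi-projective morphisms embed into the projective bundle of a finite type module;
quasi-projective and proper implies projective
-/

set_option autoImplicit false
set_option linter.unusedSectionVars false
set_option linter.style.haveILetI false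

namespace Groth.Agent.Helper4.SN343

open CategoryTheory CategoryTheory.Limits AlgebraicGeometry TopologicalSpace Opposite RelSpec RelProj
open Groth.Agent.Helper4.TensorInv

universe u

theorem compact_qs_of {Y : Scheme.{u}}
    (hY : (CompactSpace Y ∧ Y.IsSeparated) ∨ TopologicalSpace.NoetherianSpace Y) :
    CompactSpace Y ∧ QuasiSeparatedSpace Y := by
  rcases hY with ⟨h1, h2⟩ | h
  · haveI := h2
    exact ⟨h1, inferInstance⟩
  · haveI := h
    exact ⟨inferInstance, ⟨fun U V _ _ _ _ => TopologicalSpace.NoetherianSpace.isCompact _⟩⟩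

theorem main484' {X Y : Scheme.{u}} [CompactSpace Y] [QuasiSeparatedSpace Y] (f : X ⟶ Y)
    (hf : RelProj.IsQuasiProjective f) :
    ∃ (E : Y.Modules) (𝒯 : RelProj.QCGrAlg Y) (j : E ⟶ 𝒯.toModule) (P : Scheme.{u}) (p : P ⟶ Y)
      (chart : ∀ (U : Y.Opens) (hU : IsAffineOpen U),
        ((p ⁻¹ᵁ U : P.Opens) : Scheme.{u}) ≅ Proj (𝒯.deg U hU))
      (i : X ⟶ P),
      Coh.IsQCoh E ∧ CohB1.IsFT E ∧ RelProj.IsGrSymAlg E 𝒯 j ∧ RelProj.IsRelProj 𝒯 p chart ∧
        IsImmersion i ∧ i ≫ p = f := by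
  obtain ⟨hlft, hqc, L, hLamp⟩ := hf
  haveI := hlft
  haveI := hqc
  have hL := Groth.Agent.Helper4.RelCompTwist.isInvertible_of_isRelAmple f L hLamp
  obtain ⟨n₀, -, hva⟩ := Groth.Agent.Helper4.SN342.main478 f L hL hLamp
  have hLn := isInvertible_tensorPow hL n₀
  haveI : (CohB1.tensorPow L n₀).IsQuasicoherent :=
    Groth.Agent.Helper4.QAffSec.isQuasicoherent_of_isInvertible _ hLn
  obtain ⟨E, 𝒯, j, P, p, chart, O1, lam, i, h1, h2, h3, h4, -, h6, h7, -⟩ :=
    Groth.Agent.Helper4.SN330.main486 f (CohB1.tensorPow L n₀) hLn (hva n₀ le_rfl)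
  exact ⟨E, 𝒯, j, P, p, chart, i, h1, h2, h3, h4, h6, h7⟩

theorem main484 {X Y : Scheme.{u}}
    (hY : (CompactSpace Y ∧ Y.IsSeparated) ∨ TopologicalSpace.NoetherianSpace Y) (f : X ⟶ Y)
    (hf : RelProj.IsQuasiProjective f) :
    ∃ (E : Y.Modules) (𝒯 : RelProj.QCGrAlg Y) (j : E ⟶ 𝒯.toModule) (P : Scheme.{u}) (p : P ⟶ Y)
      (chart : ∀ (U : Y.Opens) (hU : IsAffineOpen U),
        ((p ⁻¹ᵁ U : P.Opens) : Scheme.{u}) ≅ Proj (𝒯.deg U hU))
      (i : X ⟶ P),
      Coh.IsQCoh E ∧ CohB1.IsFT E ∧ RelProj.IsGrSymAlg E 𝒯 j ∧ RelProj.IsRelProj 𝒯 p chart ∧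
        IsImmersion i ∧ i ≫ p = f := by
  obtain ⟨h1, h2⟩ := compact_qs_of hY
  exact main484' f hf

theorem main416 {X S : Scheme.{u}} (f : X ⟶ S) [CompactSpace S] [QuasiSeparatedSpace S]
    [IsProper f] (hq : RelProj.IsQuasiProjective f) : RelProj.IsProjective f := by
  obtain ⟨E, 𝒯, j, P, p, chart, i, h1, h2, h3, h4, h5, h6⟩ := main484' f hq
  haveI := h5
  haveI : IsSeparated p := Groth.Agent.S8259.result 𝒯 p chart h4
  haveI : IsProper (i ≫ p) := by
    rw [h6]
    infer_instance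
  haveI : IsProper i := IsProper.of_comp i p
  haveI : IsClosedImmersion i :=
    IsClosedImmersion.of_isPreimmersion i i.isClosedMap.isClosed_range
  exact (Groth.Agent.S5729.result f).mpr ⟨E, 𝒯, j, P, p, chart, i, h1, h2, h3, h4, inferInstance, h6⟩

theorem main4419 {X Y : Scheme.{u}}
    (hY : (CompactSpace Y ∧ Y.IsSeparated) ∨ TopologicalSpace.NoetherianSpace Y) (f : X ⟶ Y)
    (hq : RelProj.IsQuasiProjective f) [IsProper f] : RelProj.IsProjective f := by
  obtain ⟨h1, h2⟩ := compact_qs_of hY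
  exact main416 f hq

end Groth.Agent.Helper4.SN343
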