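import Mathlib
import Groth.Prelude.Def_RelProj4
import Groth.Prelude.Def_LCI2
import Groth.Agent.Helper4.SN343
import Groth.Agent.Helper4.SN333
import Groth.Agent.Helper4.SN332
import Groth.Agent.Helper1.VA14
import Groth.Agent.Helper1.TR6

/-!
# Quasi-projective morphisms as open subschemes of projective ones
-/

set_option autoImplicit false
set_option linter.unusedSectionVars false
set_option linter.style.haveILetI false

namespace Groth.Agent.Helper4.SN344

open CategoryTheory CategoryTheory.Limits AlgebraicGeometry TopologicalSpace Opposite RelSpec RelProj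
open Groth.Agent.Helper4.TensorInv Groth.Agent.Helper1

universe u

/-- (⇒): a quasi-projective morphism over a quasi-compact quasi-separated base is a dense open
subscheme of a projective one -/
theorem exists_openImmersion {X Y : Scheme.{u}} [CompactSpace Y] [QuasiSeparatedSpace Y]
    (f : X ⟶ Y) (hf : RelProj.IsQuasiProjective f) :
    ∃ (𝒮 : RelProj.QCGrAlg Y) (P : Scheme.{u}) (p : P ⟶ Y)
      (chart : ∀ (U : Y.Opens) (hU : IsAffineOpen U),
        ((p ⁻¹ᵁ U : P.Opens) : Scheme.{u}) ≅ Proj (𝒮.deg U hU))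
      (j : X ⟶ P), 𝒮.IsGenDegOne ∧ 𝒮.IsFTDeg 1 ∧ RelProj.IsRelProj 𝒮 p chart ∧
        IsOpenImmersion j ∧ Dense (Set.range j.base) ∧ j ≫ p = f := by
  obtain ⟨hlft, hqc, L, hLamp⟩ := hf
  haveI := hlft
  haveI := hqc
  have hL := Groth.Agent.Helper4.RelCompTwist.isInvertible_of_isRelAmple f L hLamp
  obtain ⟨n₀, -, hva⟩ := Groth.Agent.Helper4.SN342.main478 f L hL hLamp
  have hLn := isInvertible_tensorPow hL n₀
  obtain ⟨𝒮, P, p, chart, O1, lam, i, h1, h2, h3, -, h5, h6, h7, -⟩ :=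
    Groth.Agent.Helper4.SN333.main5726 f (CohB1.tensorPow L n₀) hLn (hva n₀ le_rfl)
  exact ⟨𝒮, P, p, chart, i, h1, h2, h3, h5, h6, h7⟩

theorem main9706 {X S : Scheme.{u}} [CompactSpace S] [QuasiSeparatedSpace S] (f : X ⟶ S)
    (hf : RelProj.IsQuasiProjective f) :
    ∃ (X' : Scheme.{u}) (j : X ⟶ X') (g : X' ⟶ S),
      IsOpenImmersion j ∧ RelProj.IsProjective g ∧ j ≫ g = f := by
  obtain ⟨𝒮, P, p, chart, j, h1, h2, h3, h4, -, h6⟩ := exists_openImmersion f hf
  exact ⟨P, j, p, h4, ⟨𝒮, P, p, chart, Iso.refl P, h1, h2, h3, Category.id_comp p⟩, h6⟩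

/-- (⇐): an open subscheme (of finite type over the base) of a projective scheme is
quasi-projective -/
theorem isQuasiProjective_of_immersion {X Y : Scheme.{u}} (f : X ⟶ Y)
    [LocallyOfFiniteType f] [QuasiCompact f]
    (𝒮 : RelProj.QCGrAlg Y) (P : Scheme.{u}) (p : P ⟶ Y)
    (chart : ∀ (U : Y.Opens) (hU : IsAffineOpen U),
      ((p ⁻¹ᵁ U : P.Opens) : Scheme.{u}) ≅ Proj (𝒮.deg U hU))
    (j : X ⟶ P) (hgen : 𝒮.IsGenDegOne) (hft : 𝒮.IsFTDeg 1) (hP : RelProj.IsRelProj 𝒮 p chart)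
    [IsImmersion j] (hjp : j ≫ p = f) : RelProj.IsQuasiProjective f := by
  have hsym := SY.isSymAlg_symAlg (SG.degMod 𝒮 1)
  have hj := SG.isGrSymAlg_grAlg hsym
  obtain ⟨PT, pT, chartT, hPT⟩ := Groth.Agent.S8258.result (SG.grAlg hsym)
  obtain ⟨h, hcl, hcomm, -⟩ := SG.exists_closedImmersion_degOne hgen hj hP hPT
  haveI := hcl
  obtain ⟨O1, lam, hO1⟩ := TRE.exists_isRelTwist 1 hPT
  have hO1inv : PicF.IsInvertible O1 := TRR.isInvertible_of_isRelTwist (SG.isGenDegOne hj) hO1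
  set L := (Scheme.Modules.pullback (j ≫ h)).obj O1 with hLdef
  have hL : PicF.IsInvertible L := Groth.Agent.Helper4.PullSec.isInvertible_pullback (j ≫ h) hO1inv
  have hva : IsRelVeryAmple f L :=
    ⟨SG.degMod 𝒮 1, inferInstance, SG.grAlg hsym, SY.symJ _, hj, PT, pT, chartT, hPT, O1, lam, hO1,
      j ≫ h, inferInstance, by rw [Category.assoc, hcomm, hjp], ⟨Iso.refl _⟩⟩
  refine ⟨inferInstance, inferInstance, L, inferInstance, fun V => ?_⟩
  haveI : IsAffine ((V.1 : Y.Opens) : Scheme.{u}) := V.2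
  exact VA.isAmple_of_isRelVeryAmplePn (f ∣_ V.1) _
    (Groth.Agent.Helper4.SN332.main719 f L hL hva V.1 V.2)

theorem main4425 {X Y : Scheme.{u}} [CompactSpace Y] [Y.IsSeparated] (f : X ⟶ Y) :
    RelProj.IsQuasiProjective f ↔
      (LocallyOfFiniteType f ∧ QuasiCompact f ∧
        ∃ (𝒮 : RelProj.QCGrAlg Y) (P : Scheme.{u}) (p : P ⟶ Y)
          (chart : ∀ (U : Y.Opens) (hU : IsAffineOpen U),
            ((p ⁻¹ᵁ U : P.Opens) : Scheme.{u}) ≅ Proj (𝒮.deg U hU))
          (j : X ⟶ P), 𝒮.IsGenDegOne ∧ 𝒮.IsFTDeg 1 ∧ RelProj.IsRelProj 𝒮 p chart ∧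
            IsOpenImmersion j ∧ Dense (Set.range j.base) ∧ j ≫ p = f) := by
  constructor
  · intro hf
    exact ⟨hf.1, hf.2.1, exists_openImmersion f hf⟩
  · rintro ⟨hlft, hqc, 𝒮, P, p, chart, j, h1, h2, h3, h4, -, h6⟩
    haveI := hlft
    haveI := hqc
    haveI := h4
    exact isQuasiProjective_of_immersion f 𝒮 P p chart j h1 h2 h3 h6

end Groth.Agent.Helper4.SN344
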