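import Mathlib
import Groth.Prelude.Def_RelProj4
import Groth.Agent.Helper4.SN330
import Groth.Agent.S12146
import Groth.Agent.S8259

set_option autoImplicit false
set_option linter.unusedSectionVars false
set_option linter.style.haveILetI false

namespace Groth.Agent.Helper4.SN345

open CategoryTheory CategoryTheory.Limits AlgebraicGeometry TopologicalSpace Opposite RelSpec RelProj
open Groth.Agent.Helper1 Groth.Agent.Helper1.RP
open scoped HomogeneousIdeal

universe u

theorem main692 {X Y P PL : Scheme.{u}} [CompactSpace X]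
    (f : X ⟶ Y) [QuasiCompact f] (hY : IsAffineOpen (⊤ : Y.Opens))
    (L : X.Modules) (hL : PicF.IsInvertible L) (hLq : Coh.IsQCoh L)
    (𝒮L : RelProj.QCGrAlg X) (jL : L ⟶ 𝒮L.toModule) (hjL : RelProj.IsGrSymAlg L 𝒮L jL)
    (pL : PL ⟶ X) (chartL : ∀ (U : X.Opens) (hU : IsAffineOpen U), (((pL ⁻¹ᵁ U : PL.Opens) : Scheme.{u}) ≅ Proj (𝒮L.deg U hU)))
    (hPL : RelProj.IsRelProj 𝒮L pL chartL)
    (𝒜 : RelProj.QCGrAlg Y) (u : RelProj.QGrHom f 𝒜 𝒮L)
    (p : P ⟶ Y) (chart : ∀ (U : Y.Opens) (hU : IsAffineOpen U), (((p ⁻¹ᵁ U : P.Opens) : Scheme.{u}) ≅ Proj (𝒜.deg U hU)))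
    (hP : RelProj.IsRelProj 𝒜 p chart)
    (r : ((RelProj.domQ u pL chartL : PL.Opens) : Scheme.{u}) ⟶ P)
    (hr : RelProj.IsProjQMapOn u p chart pL chartL (RelProj.domQ u pL chartL) r)
    (hu : Function.Injective (u.app ⊤).hom)
    (htop : RelProj.domQ u pL chartL = ⊤) :
    QuasiCompact r ∧ IsDominant r := by
  haveI : L.IsQuasicoherent := hLq
  haveI : IsIso pL := Groth.Agent.Helper1.PL.isIso_relProj_of_isInvertible hL hjL pL chartL hPL
  haveI : IsSeparated p := Groth.Agent.S8259.result 𝒜 p chart hP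
  have hcomm := projQMapOn_comm hP hPL hr
  constructor
  · haveI : IsIso (RelProj.domQ u pL chartL).ι :=
      Groth.Agent.Helper4.SN330.isIso_ι_of_eq_top _ htop
    haveI : QuasiCompact (r ≫ p) := by rw [hcomm]; infer_instance
    exact QuasiCompact.of_comp r p
  · rw [Groth.Agent.S12146.result f L hL hLq 𝒜 𝒮L jL hjL u p chart hP pL chartL hPL r hr hY]
    intro n hn s hs hloc
    choose V hV hxV hnil using hloc
    choose N hN using hnil
    obtain ⟨t, ht⟩ := CompactSpace.elim_nhds_subcover (fun x => (V x : Set X))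
      (fun x => (V x).2.mem_nhds (hxV x))
    refine ⟨t.sup N, ?_⟩
    apply hu
    rw [map_zero, map_pow]
    refine TopCat.Sheaf.eq_of_locally_eq' (⟨𝒮L.presheaf, 𝒮L.isSheaf⟩ : TopCat.Sheaf CommRingCat X)
      (fun x : t => V x.1) (f ⁻¹ᵁ ⊤) (fun x => homOfLE (le_top.trans (Scheme.Hom.preimage_top f).ge)) ?_ _ _ ?_
    · intro z _
      have hz : z ∈ (⋃ x ∈ t, (V x : Set X)) := by rw [ht]; trivial
      simp only [Set.mem_iUnion] at hz
      obtain ⟨x, hx, hzx⟩ := hz
      exact Opens.mem_iSup.mpr ⟨⟨x, hx⟩, hzx⟩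
    · intro x
      rw [map_zero, map_pow]
      have h1 := hN x.1
      have h2 : N x.1 ≤ t.sup N := Finset.le_sup x.2
      have h3 : (CommRingCat.Hom.hom (u.appLE ⊤ (V x.1)
          (le_top.trans (Scheme.Hom.preimage_top f).ge))) s ^ t.sup N = 0 :=
        pow_eq_zero_of_le h2 h1
      exact h3

end Groth.Agent.Helper4.SN345
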