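import Mathlib
import Groth.Prelude.Def_RelProj4
import Groth.Agent.Helper4.SN357
import Groth.Agent.Helper1.PL11

/-!
# `r_{L,σ}` is dominant when `u` is injective on sections over affine opens (general base)
-/

set_option autoImplicit false
set_option linter.unusedSectionVars false
set_option linter.style.haveILetI false

namespace Groth.Agent.Helper4.SN358

open CategoryTheory CategoryTheory.Limits AlgebraicGeometry TopologicalSpace Opposite RelSpec RelProj
  HomogeneousLocalization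
open Groth.Agent.Helper1 Groth.Agent.Helper1.RP
  Groth.Agent.Helper4.SN353 Groth.Agent.Helper4.SN355
open scoped HomogeneousIdeal

universe u

noncomputable section

variable {X Y : Scheme.{u}} {q : X ⟶ Y} {𝒮 : QCGrAlg Y} {𝒮L : QCGrAlg X}
  (u : QGrHom q 𝒮 𝒮L)
  {P : Scheme.{u}} {p : P ⟶ Y}
  {chart : ∀ (U : Y.Opens) (hU : IsAffineOpen U),
    (((p ⁻¹ᵁ U : P.Opens) : Scheme.{u}) ≅ Proj (𝒮.deg U hU))}
  {PL : Scheme.{u}} {pL : PL ⟶ X}
  {chartL : ∀ (U : X.Opens) (hU : IsAffineOpen U),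
    (((pL ⁻¹ᵁ U : PL.Opens) : Scheme.{u}) ≅ Proj (𝒮L.deg U hU))}
  {L : X.Modules} [L.IsQuasicoherent] {j : L ⟶ 𝒮L.toModule} (hj : IsGrSymAlg L 𝒮L j)

include hj in
/-- the local statement: over an affine open `U` with `q⁻¹U` quasi-compact and `u` injective over
`U`, every non-empty `D_+(f)` of the chart over `U` meets the image of `r`. -/
theorem exists_mem_locus_of_injective (hL : PicF.IsInvertible L) (hPL : IsRelProj 𝒮L pL chartL)
    (U : Y.Opens) (hU : IsAffineOpen U) (hu : Function.Injective (u.app U).hom)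
    (hWc : IsCompact ((q ⁻¹ᵁ U : X.Opens) : Set X))
    {d : ℕ} (hd : 0 < d) (f : 𝒮.presheaf.obj (op U)) (hf : f ∈ 𝒮.deg U hU d)
    (hnil : ¬ IsNilpotent f) :
    ∃ z : PL, z ∈ PT.locus (PT.famOf u U hU f hf) pL chartL := by
  haveI : IsIso pL := Groth.Agent.Helper1.PL.isIso_relProj_of_isInvertible hL hj pL chartL hPL
  have hsurj : Function.Surjective pL :=
    (ConcreteCategory.bijective_of_isIso pL.base).2
  by_contra hcon
  push Not at hcon
  apply hnil
  -- every point of `q⁻¹U` has an affine neighbourhood on which `u f` is nilpotent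
  have hloc : ∀ x₀ : X, x₀ ∈ q ⁻¹ᵁ U → ∃ (V : X.Opens) (hV : IsAffineOpen V) (hT : V ≤ q ⁻¹ᵁ U),
      x₀ ∈ V ∧ IsNilpotent ((PT.famOf u U hU f hf).w V hV hT) := by
    intro x₀ hx₀
    by_contra h
    push Not at h
    obtain ⟨z, hz⟩ := PT.exists_mem_locus (PT.famOf u U hU f hf) hj hL hPL hd hsurj x₀ hx₀
      (fun V hV hT hxV => h V hV hT hxV)
    exact hcon z hz
  choose V hV hVT hxV hN using hloc
  choose N hN using hN
  obtain ⟨S, hS⟩ := hWc.elim_finite_subcover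
    (fun x : (q ⁻¹ᵁ U : X.Opens) => ((V x.1 x.2 : X.Opens) : Set X))
    (fun x => (V x.1 x.2).2) (fun x hx => Set.mem_iUnion.mpr ⟨⟨x, hx⟩, hxV x hx⟩)
  refine ⟨S.sup (fun x => N x.1 x.2), ?_⟩
  apply hu
  rw [map_zero, map_pow]
  refine TopCat.Sheaf.eq_of_locally_eq' (⟨𝒮L.presheaf, 𝒮L.isSheaf⟩ : TopCat.Sheaf CommRingCat X)
    (fun x : S => V x.1.1 x.1.2) (q ⁻¹ᵁ U) (fun x => homOfLE (hVT x.1.1 x.1.2)) ?_ _ _ ?_
  · intro z hz
    have := hS hz
    simp only [Set.mem_iUnion] at this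
    obtain ⟨x, hxS, hzx⟩ := this
    exact Opens.mem_iSup.mpr ⟨⟨x, hxS⟩, hzx⟩
  · intro x
    rw [map_zero, map_pow]
    have h1 := hN x.1.1 x.1.2
    have h2 : N x.1.1 x.1.2 ≤ S.sup (fun x => N x.1 x.2) :=
      Finset.le_sup (f := fun x : (q ⁻¹ᵁ U : X.Opens) => N x.1 x.2) x.2
    exact pow_eq_zero_of_le h2 h1

include hj in
/-- **dominance over a general base** -/
theorem main_dominant (hL : PicF.IsInvertible L) (hP : IsRelProj 𝒮 p chart)
    (hPL : IsRelProj 𝒮L pL chartL)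
    {r : ((domQ u pL chartL : PL.Opens) : Scheme.{u}) ⟶ P}
    (hr : IsProjQMapOn u p chart pL chartL (domQ u pL chartL) r)
    [QuasiCompact q]
    (hu : ∀ (U : Y.Opens), IsAffineOpen U → Function.Injective (u.app U).hom) :
    IsDominant r := by
  refine ⟨?_⟩
  rw [DenseRange, dense_iff_inter_open]
  intro W hW ⟨pt, hpt⟩
  obtain ⟨_, ⟨U, hU : IsAffineOpen U, rfl⟩, hptU, -⟩ :=
    Y.isBasis_affineOpens.exists_subset_of_mem_open (Set.mem_univ (p pt)) isOpen_univ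
  have hpt' : pt ∈ (emb p chart U hU).opensRange := by
    rw [opensRange_emb]; exact hptU
  obtain ⟨y₀, rfl⟩ := hpt'
  let W' : (Proj (𝒮.deg U hU)).Opens := emb p chart U hU ⁻¹ᵁ ⟨W, hW⟩
  obtain ⟨d, hd, f, hf, hy₀f, hfW⟩ :=
    Groth.Agent.Helper1.PL.exists_homog_basicOpen_le (𝒮.deg U hU) W' y₀ hpt
  have hWc : IsCompact ((q ⁻¹ᵁ U : X.Opens) : Set X) :=
    QuasiCompact.isCompact_preimage (f := q) _ U.2 hU.isCompact
  obtain ⟨z, hz⟩ := exists_mem_locus_of_injective u hj hL hPL U hU (hu U hU) hWc hd f hf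
    (Groth.Agent.Helper1.PL.not_isNilpotent_of_mem_basicOpen (𝒮.deg U hU) y₀ hy₀f)
  rw [← PT.image_preimage_basicOpen u hP hPL hr U hU hd f hf] at hz
  obtain ⟨x, hx, -⟩ := hz
  obtain ⟨y, hy, hyx⟩ := hx
  refine ⟨r x, ?_, x, rfl⟩
  have hyx' : (emb p chart U hU) y = r x := hyx
  rw [← hyx']
  exact hfW hy

end

end Groth.Agent.Helper4.SN358
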