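import Mathlib
import Groth.Prelude.Def_RelProj4
import Groth.Agent.Helper4.SN358
import Groth.Agent.Helper4.SN345

/-!
# `r_{L,σ}` over an affine base: quasi-compact, scheme-theoretically dominant open immersion
-/

set_option autoImplicit false
set_option linter.unusedSectionVars false
set_option linter.style.haveILetI false

namespace Groth.Agent.Helper4.SN359

open CategoryTheory CategoryTheory.Limits AlgebraicGeometry TopologicalSpace Opposite RelSpec RelProj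
  HomogeneousLocalization
open Groth.Agent.Helper1 Groth.Agent.Helper1.RP Groth.Agent.Helper1.PL Groth.Agent.Helper1.PT
  Groth.Agent.Helper1.IM
  Groth.Agent.Helper4.SN353 Groth.Agent.Helper4.SN355 Groth.Agent.Helper4.SN356
  Groth.Agent.Helper4.SN357
open scoped HomogeneousIdeal

universe u

noncomputable section

theorem appTop_eq_appLE {X Y : Scheme.{u}} (f : X ⟶ Y) (le : (⊤ : X.Opens) ≤ f ⁻¹ᵁ ⊤) :
    f.appTop = f.appLE ⊤ ⊤ le := by
  rw [Scheme.Hom.appLE]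
  show f.app ⊤ = f.app ⊤ ≫ X.presheaf.map (𝟙 (op (f ⁻¹ᵁ ⊤)))
  rw [CategoryTheory.Functor.map_id, Category.comp_id]

/-- a morphism is injective on the sections over an affine chart of the target as soon as a
family of affine charts of the source lying over it is jointly injective -/
theorem app_injective_of_charts {D P : Scheme.{u}} (r : D ⟶ P) {R : CommRingCat.{u}}
    (ι : Spec R ⟶ P) [IsOpenImmersion ι]
    {κ : Type*} (B : κ → CommRingCat.{u}) (e : ∀ i, Spec (B i) ⟶ D) (φ : ∀ i, R ⟶ B i)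
    (comm : ∀ i, e i ≫ r = Spec.map (φ i) ≫ ι)
    (hjoint : ∀ y : R, (∀ i, (φ i).hom y = 0) → y = 0) :
    Function.Injective (r.app (ι ''ᵁ ⊤)).hom := by
  rw [injective_iff_map_eq_zero]
  intro x hx
  have hinj : Function.Injective (ι.appIso ⊤).hom.hom :=
    (ConcreteCategory.bijective_of_isIso (ι.appIso ⊤).hom).1
  apply hinj
  rw [map_zero]
  have hinj2 : Function.Injective (Scheme.ΓSpecIso R).hom.hom :=
    (ConcreteCategory.bijective_of_isIso (Scheme.ΓSpecIso R).hom).1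
  apply hinj2
  rw [map_zero]
  apply hjoint
  intro i
  have h1 := Scheme.ΓSpecIso_naturality (φ i)
  have h2 : (φ i).hom ((Scheme.ΓSpecIso R).hom.hom ((ι.appIso ⊤).hom.hom x)) =
      (Scheme.ΓSpecIso (B i)).hom.hom ((Spec.map (φ i)).appTop.hom ((ι.appIso ⊤).hom.hom x)) := by
    have := congrArg (fun k => k.hom ((ι.appIso ⊤).hom.hom x)) h1
    exact this.symm
  rw [h2]
  have key : ∀ (g g' : Spec (B i) ⟶ P) (h : g = g') (le : ⊤ ≤ g ⁻¹ᵁ (ι ''ᵁ ⊤)),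
      g.appLE (ι ''ᵁ ⊤) ⊤ le = g'.appLE (ι ''ᵁ ⊤) ⊤ (h ▸ le) := by
    intro g g' h le; subst h; rfl
  have le1 : (⊤ : (Spec (B i)).Opens) ≤ (Spec.map (φ i) ≫ ι) ⁻¹ᵁ (ι ''ᵁ ⊤) := by
    intro z _
    exact ⟨Spec.map (φ i) z, trivial, rfl⟩
  have h0 : (Spec.map (φ i)).appTop = (Spec.map (φ i)).appLE ⊤ ⊤
      (Scheme.Hom.preimage_top _).ge := appTop_eq_appLE _ _
  have h3 : (ι.appIso ⊤).hom ≫ (Spec.map (φ i)).appTop =
      (Spec.map (φ i) ≫ ι).appLE (ι ''ᵁ ⊤) ⊤ le1 := by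
    rw [Scheme.Hom.appIso_hom', h0, Scheme.Hom.appLE_comp_appLE]
  have h4 := key _ _ (comm i).symm le1
  rw [Scheme.Hom.comp_appLE] at h4
  have h5 : (Spec.map (φ i)).appTop.hom ((ι.appIso ⊤).hom.hom x) = 0 := by
    have := congrArg (fun k => k.hom x) (h3.trans h4)
    refine this.trans ?_
    change ((e i).appLE _ ⊤ _).hom ((r.app (ι ''ᵁ ⊤)).hom x) = 0
    rw [hx, map_zero]
  rw [h5, map_zero]

section main

variable {X Y : Scheme.{u}} {q : X ⟶ Y} {𝒮 : QCGrAlg Y} {𝒮L : QCGrAlg X}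
  (u : QGrHom q 𝒮 𝒮L)
  {P : Scheme.{u}} {p : P ⟶ Y}
  {chart : ∀ (U : Y.Opens) (hU : IsAffineOpen U),
    (((p ⁻¹ᵁ U : P.Opens) : Scheme.{u}) ≅ Proj (𝒮.deg U hU))}
  {PL : Scheme.{u}} {pL : PL ⟶ X}
  {chartL : ∀ (U : X.Opens) (hU : IsAffineOpen U),
    (((pL ⁻¹ᵁ U : PL.Opens) : Scheme.{u}) ≅ Proj (𝒮L.deg U hU))}
  {L : X.Modules} [L.IsQuasicoherent] {j : L ⟶ 𝒮L.toModule} (hj : IsGrSymAlg L 𝒮L j)

theorem le_preimage_top (q : X ⟶ Y) (V : X.Opens) : V ≤ q ⁻¹ᵁ ⊤ := fun _ _ => trivial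

/-- joint injectivity of the maps `A_(s) → 𝒮L(V)_(u s)` over all affine opens `V` of a
quasi-compact `X` -/
theorem joint_injective [CompactSpace X] (hY : IsAffineOpen (⊤ : Y.Opens))
    (hu : Function.Injective (u.app ⊤).hom) {d : ℕ}
    (s : 𝒮.presheaf.obj (op ⊤)) (hs : s ∈ 𝒮.deg ⊤ hY d) (y : Away (𝒮.deg ⊤ hY) s)
    (hy : ∀ V : X.affineOpens,
      Away.map (u.gradedAt ⊤ hY V.1 V.2 (le_preimage_top q V.1)) s y = 0) : y = 0 := by
  classical
  obtain ⟨k, a, ha, rfl⟩ := Away.mk_surjective (𝒮.deg ⊤ hY) hs y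
  rw [away_mk_eq_zero_iff (𝒮.deg ⊤ hY) hs k a ha]
  have hloc : ∀ V : X.affineOpens, ∃ l : ℕ,
      (rs (le_preimage_top q V.1) ((u.app ⊤).hom s)) ^ l *
        rs (le_preimage_top q V.1) ((u.app ⊤).hom a) = 0 := by
    intro V
    have h1 := hy V
    rw [Away.map_mk] at h1
    exact (away_mk_eq_zero_iff (𝒮L.deg V.1 V.2)
      ((u.gradedAt ⊤ hY V.1 V.2 (le_preimage_top q V.1)).map_mem hs) k _
      ((u.gradedAt ⊤ hY V.1 V.2 (le_preimage_top q V.1)).map_mem ha)).mp h1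
  choose l hl using hloc
  have hnhd : ∀ x : X, ∃ V : X.affineOpens, x ∈ V.1 := by
    intro x
    obtain ⟨_, ⟨V, hV : IsAffineOpen V, rfl⟩, hxV, -⟩ :=
      X.isBasis_affineOpens.exists_subset_of_mem_open (Set.mem_univ x) isOpen_univ
    exact ⟨⟨V, hV⟩, hxV⟩
  choose V hxV using hnhd
  obtain ⟨S, hS⟩ := CompactSpace.elim_nhds_subcover (fun x => ((V x).1 : Set X))
    (fun x => (V x).1.2.mem_nhds (hxV x))
  refine ⟨S.sup (fun x => l (V x)), hu ?_⟩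
  rw [map_zero]
  refine TopCat.Sheaf.eq_of_locally_eq' (⟨𝒮L.presheaf, 𝒮L.isSheaf⟩ : TopCat.Sheaf CommRingCat X)
    (fun x : S => (V x.1).1) (q ⁻¹ᵁ ⊤) (fun x => homOfLE (le_preimage_top q _)) ?_ _ _ ?_
  · intro z _
    have hz : z ∈ (⋃ x ∈ S, ((V x).1 : Set X)) := by rw [hS]; trivial
    simp only [Set.mem_iUnion] at hz
    obtain ⟨x, hx, hzx⟩ := hz
    exact Opens.mem_iSup.mpr ⟨⟨x, hx⟩, hzx⟩
  · intro x
    change rs (le_preimage_top q (V x.1).1) ((u.app ⊤).hom (s ^ S.sup (fun x => l (V x)) * a)) =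
      rs (le_preimage_top q (V x.1).1) 0
    have h2 : l (V x.1) ≤ S.sup (fun x => l (V x)) :=
      Finset.le_sup (f := fun x => l (V x)) x.2
    rw [map_mul, map_pow, rs_mul, rs_pow, ← Nat.sub_add_cancel h2, pow_add, mul_assoc, hl (V x.1),
      mul_zero]
    exact (map_zero _).symm

include hj in
/-- a covering family of charts over an affine base from ampleness and bijectivity of `u` on global
sections -/
theorem exists_family_top [CompactSpace X] (hL : PicF.IsInvertible L)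
    (hY : IsAffineOpen (⊤ : Y.Opens)) (hu : Function.Bijective (u.app ⊤).hom)
    (hA : CohB1.IsAmple (L.restrict (q ⁻¹ᵁ ⊤).ι)) (x : X) :
    ∃ (n : ℕ) (_ : 0 < n) (s : 𝒮.presheaf.obj (op ⊤))
      (hs : s ∈ 𝒮.deg ⊤ hY n), x ∈ PT.Xw (PT.famOf u ⊤ hY s hs) ∧
      IsAffineOpen (PT.Xw (PT.famOf u ⊤ hY s hs)) := by
  obtain ⟨m, t, hxt, haff⟩ := exists_sec_of_isAmple hj hL (q ⁻¹ᵁ ⊤) hA x trivial
  obtain ⟨s, hs, hsb⟩ := exists_homog_preimage u ⊤ hY hu (m + 1)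
    (σ (j := j) (m + 1) (q ⁻¹ᵁ ⊤) t)
    (fun V hV hVW => (Groth.Agent.Helper4.SN349.secFam hj hL (m + 1) (q ⁻¹ᵁ ⊤) t).mem V hV hVW)
  have hw : Groth.Agent.Helper4.SN349.secFam hj hL (m + 1) (q ⁻¹ᵁ ⊤) t =
      PT.famOf u ⊤ hY s hs := by
    refine Groth.Agent.Helper4.SN350.fam_ext _ _ (fun V hV hT => ?_)
    change rs hT (σ (j := j) (m + 1) (q ⁻¹ᵁ ⊤) t) = rs hT ((u.app ⊤).hom s)
    exact congrArg (rs hT) hsb.symm
  rw [hw] at hxt haff
  exact ⟨m + 1, Nat.succ_pos m, s, hs, hxt, haff⟩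

/-- scheme-theoretic dominance over an affine base -/
theorem isSchemeTheoreticallyDominant_of_injective [CompactSpace X]
    (hY : IsAffineOpen (⊤ : Y.Opens))
    {r : ((domQ u pL chartL : PL.Opens) : Scheme.{u}) ⟶ P}
    (hr : IsProjQMapOn u p chart pL chartL (domQ u pL chartL) r) [QuasiCompact r]
    (hu : Function.Injective (u.app ⊤).hom) :
    IsSchemeTheoreticallyDominant r := by
  let I := {t : ℕ × 𝒮.presheaf.obj (op ⊤) // 0 < t.1 ∧ t.2 ∈ 𝒮.deg ⊤ hY t.1}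
  let ιc : ∀ i : I, Spec (CommRingCat.of (Away (𝒮.deg ⊤ hY) i.1.2)) ⟶ P := fun i =>
    Proj.awayι (𝒮.deg ⊤ hY) i.1.2 i.2.2 i.2.1 ≫ emb p chart ⊤ hY
  refine ⟨Scheme.IdealSheafData.ext_of_iSup_eq_top
    (fun i : I => (⟨ιc i ''ᵁ ⊤, (isAffineOpen_top _).image_of_isOpenImmersion (ιc i)⟩ :
      P.affineOpens)) ?_ (fun i => ?_)⟩
  · -- the charts cover `P`
    refine eq_top_iff.mpr fun pt _ => ?_
    have hpt' : pt ∈ (emb p chart ⊤ hY).opensRange := by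
      rw [opensRange_emb]; trivial
    obtain ⟨y₀, rfl⟩ := hpt'
    obtain ⟨d, hd, f, hf, hy₀f, -⟩ :=
      Groth.Agent.Helper1.PL.exists_homog_basicOpen_le (𝒮.deg ⊤ hY) ⊤ y₀ trivial
    have hy₀ : y₀ ∈ (Proj.awayι (𝒮.deg ⊤ hY) f hf hd).opensRange := by
      rw [Proj.opensRange_awayι]; exact hy₀f
    obtain ⟨z, hz⟩ := hy₀
    refine Opens.mem_iSup.mpr ⟨⟨(d, f), hd, hf⟩, z, trivial, ?_⟩
    change (emb p chart ⊤ hY) ((Proj.awayι (𝒮.deg ⊤ hY) f hf hd) z) = _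
    rw [hz]
  · -- injectivity on each chart
    rw [Scheme.Hom.ker_apply]
    change RingHom.ker (r.app (ιc i ''ᵁ ⊤)).hom = ⊥
    refine (RingHom.injective_iff_ker_eq_bot _).mp ?_
    exact app_injective_of_charts r (ιc i)
      (fun V : X.affineOpens => CommRingCat.of (Away (𝒮L.deg V.1 V.2)
        (u.gradedAt ⊤ hY V.1 V.2 (le_preimage_top q V.1) i.1.2)))
      (fun V => liftEmb u pL chartL ⊤ hY V.1 V.2 (le_preimage_top q V.1) i.2.1 i.1.2 i.2.2)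
      (fun V => CommRingCat.ofHom (Away.map (u.gradedAt ⊤ hY V.1 V.2 (le_preimage_top q V.1))
        i.1.2))
      (fun V => liftEmb_r hr ⊤ hY V.1 V.2 (le_preimage_top q V.1) i.2.1 i.1.2 i.2.2)
      (fun y hy => joint_injective u hY hu i.1.2 i.2.2 y hy)

include hj in
/-- **S12683** -/
theorem main683 [CompactSpace X] [QuasiCompact q] (hY : IsAffineOpen (⊤ : Y.Opens))
    (hL : PicF.IsInvertible L) (hLa : CohB1.IsAmple L)
    (hP : IsRelProj 𝒮 p chart) (hPL : IsRelProj 𝒮L pL chartL)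
    {r : ((domQ u pL chartL : PL.Opens) : Scheme.{u}) ⟶ P}
    (hr : IsProjQMapOn u p chart pL chartL (domQ u pL chartL) r)
    (hu : Function.Bijective (u.app ⊤).hom) :
    domQ u pL chartL = ⊤ ∧ IsOpenImmersion r ∧ QuasiCompact r ∧
      IsSchemeTheoreticallyDominant r := by
  have hWc : IsCompact ((q ⁻¹ᵁ ⊤ : X.Opens) : Set X) := by
    have : ((q ⁻¹ᵁ ⊤ : X.Opens) : Set X) = Set.univ := rfl
    rw [this]; exact isCompact_univ
  haveI : CompactSpace ((q ⁻¹ᵁ ⊤ : X.Opens) : Scheme.{u}) := isCompact_iff_compactSpace.mp hWc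
  have hA : CohB1.IsAmple (L.restrict (q ⁻¹ᵁ ⊤).ι) :=
    Groth.Agent.Helper4.AmpleRestrict.isAmple_restrict (q ⁻¹ᵁ ⊤).ι hLa
  have hWq : IsQuasiSeparated ((q ⁻¹ᵁ ⊤ : X.Opens) : Set X) := by
    refine (isQuasiSeparated_iff_quasiSeparatedSpace _ (q ⁻¹ᵁ ⊤).2).mpr ?_
    exact Groth.Agent.Helper4.AmpleBasis.quasiSeparatedSpace_of_isAmple hA
  choose n hn s hs hx haff using exists_family_top u hj hL hY hu hA
  obtain ⟨hdom, hopen⟩ := isOpenImmersion_of_family u hj hL hP hPL hr (fun _ : X => ⊤)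
    (fun _ => hY) n hn s hs (fun x => ⟨x, hx x⟩) haff
    (fun x => away_bijective u hj hL ⊤ hY hu hWc hWq (s x) (hs x) (haff x))
  obtain ⟨hqc, -⟩ := Groth.Agent.Helper4.SN345.main692 q hY L hL inferInstance 𝒮L j hj pL chartL
    hPL 𝒮 u p chart hP r hr hu.1 hdom
  haveI := hqc
  exact ⟨hdom, hopen, hqc, isSchemeTheoreticallyDominant_of_injective u hY hr hu.1⟩

end main

end

end Groth.Agent.Helper4.SN359
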