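import Mathlib
import Groth.Prelude.Def_RelProj4
import Groth.Agent.Helper4.SN359
import Groth.Agent.Helper4.Scalar

/-!
# The degree-one part of a graded `f`-morphism `𝒜 → f_* Sym L`, as a map `𝒜₁ → f_* L`
-/

set_option autoImplicit false
set_option linter.unusedSectionVars false
set_option linter.style.haveILetI false
set_option linter.unusedVariables false

namespace Groth.Agent.Helper4.SN360

open CategoryTheory CategoryTheory.Limits AlgebraicGeometry TopologicalSpace Opposite RelSpec RelProj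
  HomogeneousLocalization
open Groth.Agent.Helper1 Groth.Agent.Helper1.RP Groth.Agent.Helper1.PL Groth.Agent.Helper1.PT
  Groth.Agent.Helper1.IM Groth.Agent.Helper4.TensorLift
  Groth.Agent.Helper4.SN347 Groth.Agent.Helper4.SN348
  Groth.Agent.Helper4.SN353 Groth.Agent.Helper4.SN355
  Groth.Agent.Helper1.SY Groth.Agent.Helper1.SG Groth.Agent.Helper4.GenLoc
open scoped HomogeneousIdeal

universe u

noncomputable section

section unitor

variable {X : Scheme.{u}} (L : X.Modules)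

/-- the bilinear family `(r, l) ↦ r • l` -/
def lamBil : Bil (Coh.structureModule X) L L where
  f V r l := toFn r • l
  add_left V m m' n := add_smul (toFn m) (toFn m') n
  add_right V m n n' := smul_add (toFn m) n n'
  smul_left V r m n := mul_smul r (toFn m) n
  smul_right V r m n := smul_comm (toFn m) r n
  map {V V'} i m n := Scheme.Modules.map_smul L i (toFn m) n

/-- the left unitor `O_X ⊗ L ⟶ L` -/
def lam : CohB1.tensorPow L 1 ⟶ L := (lamBil L).lift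

theorem lam_tmul (V : X.Opens) (r : Γ(CohB1.tensorPow L 0, V)) (l : Γ(L, V)) :
    (lam L).app V (SecTwist.tmul (CohB1.tensorPow L 0) L V r l) =
      (show Γ(X, V) from r) • l :=
  (lamBil L).lift_tmul V r l

end unitor

section comp

variable {X : Scheme.{u}} {L : X.Modules} (A : QCAlg X) (j : L ⟶ A.toModule)

/-- `μ₁` is the unitor followed by `j` -/
theorem lam_comp : lam L ≫ j = μ A j 1 := by
  apply TensorLift.hom_ext
  intro V r l
  have h1 : (lam L ≫ j).app V (SecTwist.tmul (CohB1.tensorPow L 0) L V r l) =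
      j.app V ((lam L).app V (SecTwist.tmul (CohB1.tensorPow L 0) L V r l)) := rfl
  refine h1.trans ?_
  rw [lam_tmul]
  have h2 : toR A (j.app V ((show Γ(X, V) from r) • l)) =
      (A.str.app (op V)).hom (show Γ(X, V) from r) * jR j V l := jR_smul j V _ l
  have h3 := μ_succ_tmul A j 0 V r l
  rw [μ_zero A j V (show Γ(X, V) from r)] at h3
  exact h2.trans h3.symm

theorem lam_comp_app (V : X.Opens) (t : Γ(CohB1.tensorPow L 1, V)) :
    jR j V ((lam L).app V t) = toR A ((μ A j 1).app V t) := by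
  rw [← lam_comp A j]
  rfl

end comp

section degOne

variable {X Y : Scheme.{u}} {f : X ⟶ Y} {𝒜 : QCGrAlg Y} {𝒮L : QCGrAlg X}
  (u : QGrHom f 𝒜 𝒮L)
  {L : X.Modules} [L.IsQuasicoherent] {jL : L ⟶ 𝒮L.toModule} (hjL : IsGrSymAlg L 𝒮L jL)
  (hL : PicF.IsInvertible L)

/-- the image under `u` of a degree-one section -/
def bOf (U : Y.Opens) (x : Γ(degMod 𝒜 1, U)) : 𝒮L.presheaf.obj (op (f ⁻¹ᵁ U)) :=
  (u.app U).hom (show 𝒜.presheaf.obj (op U) from (degι 𝒜 1).app U x)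

theorem bOf_mem (U : Y.Opens) (hU : IsAffineOpen U) (x : Γ(degMod 𝒜 1, U))
    (V : X.Opens) (hV : IsAffineOpen V) (hVU : V ≤ f ⁻¹ᵁ U) :
    rs hVU (bOf u U x) ∈ 𝒮L.deg V hV 1 :=
  u.map_mem U hU V hV hVU (degι_mem 𝒜 1 U hU x)

theorem bOf_add (U : Y.Opens) (x y : Γ(degMod 𝒜 1, U)) :
    bOf u U (x + y) = bOf u U x + bOf u U y := by
  unfold bOf
  rw [map_add]
  exact map_add (u.app U).hom _ _

theorem bOf_res {U U' : Y.Opens} (i : U' ≤ U) (x : Γ(degMod 𝒜 1, U)) :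
    bOf u U' ((degMod 𝒜 1).presheaf.map (homOfLE i).op x) =
      rs (f.preimage_mono i) (bOf u U x) := by
  unfold bOf
  rw [Groth.Agent.Helper4.StalkExact.app_res]
  have h := congrArg (fun k => k.hom (show 𝒜.presheaf.obj (op U) from (degι 𝒜 1).app U x))
    (u.naturality i)
  exact h.symm

theorem bOf_smul (U : Y.Opens) (a : Γ(Y, U)) (x : Γ(degMod 𝒜 1, U)) :
    bOf u U (a • x) = (𝒮L.str.app (op (f ⁻¹ᵁ U))).hom (f.app U a) * bOf u U x := by
  unfold bOf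
  rw [Scheme.Modules.Hom.app_smul]
  have h1 : (show 𝒜.presheaf.obj (op U) from a • (degι 𝒜 1).app U x) =
      (𝒜.str.app (op U)).hom a * (show 𝒜.presheaf.obj (op U) from (degι 𝒜 1).app U x) := rfl
  rw [h1, map_mul]
  congr 1
  exact congrArg (fun k => k.hom a) (u.str_app U)

include hjL hL in
theorem exists_τ (U : Y.Opens) (hU : IsAffineOpen U) (x : Γ(degMod 𝒜 1, U)) :
    ∃ t : Γ(CohB1.tensorPow L 1, f ⁻¹ᵁ U),
      toR 𝒮L.toQCAlg ((μ 𝒮L.toQCAlg jL 1).app (f ⁻¹ᵁ U) t) = bOf u U x :=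
  exists_of_homog hjL hL 1 (f ⁻¹ᵁ U) (bOf u U x) (fun V hV i => bOf_mem u U hU x V hV i)

/-- the section of `L^{⊗1}` over `f⁻¹U` named by a degree-one section of `𝒜` over `U` -/
def τOf (U : Y.Opens) (hU : IsAffineOpen U) (x : Γ(degMod 𝒜 1, U)) :
    Γ(CohB1.tensorPow L 1, f ⁻¹ᵁ U) :=
  (exists_τ u hjL hL U hU x).choose

theorem τOf_spec (U : Y.Opens) (hU : IsAffineOpen U) (x : Γ(degMod 𝒜 1, U)) :
    toR 𝒮L.toQCAlg ((μ 𝒮L.toQCAlg jL 1).app (f ⁻¹ᵁ U) (τOf u hjL hL U hU x)) = bOf u U x :=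
  (exists_τ u hjL hL U hU x).choose_spec

theorem τOf_add (U : Y.Opens) (hU : IsAffineOpen U) (x y : Γ(degMod 𝒜 1, U)) :
    τOf u hjL hL U hU (x + y) = τOf u hjL hL U hU x + τOf u hjL hL U hU y := by
  apply μ_injective hjL hL 1 (f ⁻¹ᵁ U)
  rw [map_add]
  change toR 𝒮L.toQCAlg _ = toR 𝒮L.toQCAlg _ + toR 𝒮L.toQCAlg _
  rw [τOf_spec, τOf_spec, τOf_spec, bOf_add]
  rfl

theorem τOf_res (U : Y.Opens) (hU : IsAffineOpen U) (U' : Y.Opens) (hU' : IsAffineOpen U')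
    (i : U' ≤ U) (x : Γ(degMod 𝒜 1, U)) :
    τOf u hjL hL U' hU' ((degMod 𝒜 1).presheaf.map (homOfLE i).op x) =
      (CohB1.tensorPow L 1).presheaf.map (homOfLE (f.preimage_mono i)).op
        (τOf u hjL hL U hU x) := by
  apply μ_injective hjL hL 1 (f ⁻¹ᵁ U')
  change toR 𝒮L.toQCAlg _ = toR 𝒮L.toQCAlg _
  rw [τOf_spec, μ_res 𝒮L.toQCAlg jL 1 (f.preimage_mono i), τOf_spec, bOf_res]

theorem τOf_smul (U : Y.Opens) (hU : IsAffineOpen U) (a : Γ(Y, U)) (x : Γ(degMod 𝒜 1, U)) :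
    τOf u hjL hL U hU (a • x) = (f.app U a) • τOf u hjL hL U hU x := by
  apply μ_injective hjL hL 1 (f ⁻¹ᵁ U)
  change toR 𝒮L.toQCAlg _ = toR 𝒮L.toQCAlg _
  rw [τOf_spec, μ_smul, τOf_spec, bOf_smul]

end degOne

section iota

variable {X Y : Scheme.{u}} {f : X ⟶ Y} {𝒜 : QCGrAlg Y} {𝒮L : QCGrAlg X}
  (u : QGrHom f 𝒜 𝒮L)
  {L : X.Modules} [L.IsQuasicoherent] {jL : L ⟶ 𝒮L.toModule} (hjL : IsGrSymAlg L 𝒮L jL)
  (hL : PicF.IsInvertible L)

/-- the value of `ι` on sections over an affine open -/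
def ιFun (U : Y.Opens) (hU : IsAffineOpen U) (x : Γ(degMod 𝒜 1, U)) :
    Γ((Scheme.Modules.pushforward f).obj L, U) :=
  (show Γ(L, f ⁻¹ᵁ U) from (lam L).app (f ⁻¹ᵁ U) (τOf u hjL hL U hU x))

theorem ιFun_add (U : Y.Opens) (hU : IsAffineOpen U) (x y : Γ(degMod 𝒜 1, U)) :
    ιFun u hjL hL U hU (x + y) = ιFun u hjL hL U hU x + ιFun u hjL hL U hU y := by
  unfold ιFun
  rw [τOf_add, map_add]
  rfl

theorem jR_ιFun (U : Y.Opens) (hU : IsAffineOpen U) (x : Γ(degMod 𝒜 1, U)) :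
    jR jL (f ⁻¹ᵁ U) (show Γ(L, f ⁻¹ᵁ U) from ιFun u hjL hL U hU x) = bOf u U x := by
  unfold ιFun
  rw [lam_comp_app 𝒮L.toQCAlg jL, τOf_spec]

/-- the affine-local data of `ι` -/
def ιAff : Groth.Agent.Helper1.QH.AffModHom (degMod 𝒜 1)
    ((Scheme.Modules.pushforward f).obj L) where
  app U hU := AddCommGrpCat.ofHom (AddMonoidHom.mk' (ιFun u hjL hL U hU) (ιFun_add u hjL hL U hU))
  naturality U hU r := by
    ext x
    change ιFun u hjL hL (Y.basicOpen r) (hU.basicOpen r)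
        ((degMod 𝒜 1).presheaf.map (homOfLE (Y.basicOpen_le r)).op x) =
      L.presheaf.map (homOfLE (f.preimage_mono (Y.basicOpen_le r))).op
        (show Γ(L, f ⁻¹ᵁ U) from ιFun u hjL hL U hU x)
    unfold ιFun
    rw [τOf_res u hjL hL U hU (Y.basicOpen r) (hU.basicOpen r) (Y.basicOpen_le r) x]
    exact Groth.Agent.Helper4.StalkExact.app_res (lam L)
      (homOfLE (f.preimage_mono (Y.basicOpen_le r))) _
  smul U hU a m := by
    change ιFun u hjL hL U hU (a • m) = a • ιFun u hjL hL U hU m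
    rw [Groth.Agent.Helper4.Scalar.pushforward_smul f L U a]
    unfold ιFun
    rw [τOf_smul, Scheme.Modules.Hom.app_smul]

/-- **the degree-one part of `u`, as a map `𝒜₁ ⟶ f_* L`** -/
def ι : degMod 𝒜 1 ⟶ (Scheme.Modules.pushforward f).obj L := (ιAff u hjL hL).toHom

theorem ι_app (U : Y.Opens) (hU : IsAffineOpen U) (x : Γ(degMod 𝒜 1, U)) :
    (ι u hjL hL).app U x = ιFun u hjL hL U hU x := by
  unfold ι
  rw [Groth.Agent.Helper1.QH.AffModHom.toHom_app _ U hU]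
  rfl

end iota

section key

variable {X Y : Scheme.{u}} {f : X ⟶ Y} {𝒜 : QCGrAlg Y} {𝒮L : QCGrAlg X}
  (u : QGrHom f 𝒜 𝒮L)
  {L : X.Modules} [L.IsQuasicoherent] {jL : L ⟶ 𝒮L.toModule} (hjL : IsGrSymAlg L 𝒮L jL)
  (hL : PicF.IsInvertible L)

/-- `j_L ∘ ι = u ∘ (𝒜₁ ⊆ 𝒜)` on sections over every open -/
theorem jR_ι (U : Y.Opens) (x : Γ(degMod 𝒜 1, U)) :
    jR jL (f ⁻¹ᵁ U) (show Γ(L, f ⁻¹ᵁ U) from (ι u hjL hL).app U x) = bOf u U x := by
  refine TopCat.Sheaf.eq_of_locally_eq' (⟨𝒮L.presheaf, 𝒮L.isSheaf⟩ : TopCat.Sheaf CommRingCat X)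
    (fun V : {V : Y.affineOpens // (V : Y.Opens) ≤ U} => f ⁻¹ᵁ V.1.1) (f ⁻¹ᵁ U)
    (fun V => homOfLE (f.preimage_mono V.2)) ?_ _ _ ?_
  · intro z hz
    obtain ⟨_, ⟨V, hV, rfl⟩, hzV, hVU⟩ :=
      Y.isBasis_affineOpens.exists_subset_of_mem_open (show f z ∈ U from hz) U.2
    exact Opens.mem_iSup.mpr ⟨⟨⟨V, hV⟩, hVU⟩, hzV⟩
  · intro V
    change rs (f.preimage_mono V.2) (jR jL _ _) = rs (f.preimage_mono V.2) (bOf u U x)
    rw [← bOf_res u V.2 x, ← jR_ιFun u hjL hL V.1.1 V.1.2, ← ι_app,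
      Groth.Agent.Helper4.StalkExact.app_res (ι u hjL hL) (homOfLE V.2) x,
      Groth.Agent.Helper4.SN354.rs_jR]
    rfl

end key

end

end Groth.Agent.Helper4.SN360
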