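import Mathlib
import Groth.Prelude.Def_RelProj4
import Groth.Agent.Helper4.SN360
import Groth.Agent.Helper4.SN334
import Groth.Agent.Helper4.SN321
import Groth.Agent.Helper1.SG10

/-!
# S12691: `𝒜` generated in degree one, `r_{L,ψ}` an immersion ⇒ `L` very ample relative to `f`
-/

set_option autoImplicit false
set_option linter.unusedSectionVars false
set_option linter.style.haveILetI false
set_option linter.unusedVariables false

namespace Groth.Agent.Helper4.SN361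

open CategoryTheory CategoryTheory.Limits AlgebraicGeometry TopologicalSpace Opposite RelSpec RelProj
  HomogeneousLocalization
open Groth.Agent.Helper1 Groth.Agent.Helper1.RP Groth.Agent.Helper1.PL Groth.Agent.Helper1.PT
  Groth.Agent.Helper1.IM
  Groth.Agent.Helper4.SN353 Groth.Agent.Helper4.SN355 Groth.Agent.Helper4.SN360
  Groth.Agent.Helper1.SY Groth.Agent.Helper1.SG
open scoped HomogeneousIdeal

universe u

noncomputable section

/-- transport of `IsFrac` along an equality of opens -/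
theorem isFrac_of_eq {X Y : Scheme.{u}} {q : X ⟶ Y} {𝒮 : QCGrAlg Y} {𝒮L : QCGrAlg X}
    (u : QGrHom q 𝒮 𝒮L) (U : Y.Opens) (hU : IsAffineOpen U) (n : ℕ)
    (s : 𝒮.presheaf.obj (op U)) (V V' : X.Opens) (hT : V ≤ q ⁻¹ᵁ U) (hT' : V' ≤ q ⁻¹ᵁ U)
    (h : V' = V) (H : ∀ τ, IsFrac u U hU n s V hT τ) : ∀ τ, IsFrac u U hU n s V' hT' τ := by
  subst h
  exact H

theorem main691 {X Y P PL : Scheme.{u}} (f : X ⟶ Y) [QuasiCompact f]
    (L : X.Modules) (hL : PicF.IsInvertible L) [L.IsQuasicoherent]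
    (𝒮L : RelProj.QCGrAlg X) (jL : L ⟶ 𝒮L.toModule) (hjL : RelProj.IsGrSymAlg L 𝒮L jL)
    (pL : PL ⟶ X) (chartL : ∀ (U : X.Opens) (hU : IsAffineOpen U),
      (((pL ⁻¹ᵁ U : PL.Opens) : Scheme.{u}) ≅ Proj (𝒮L.deg U hU)))
    (hPL : RelProj.IsRelProj 𝒮L pL chartL)
    (𝒜 : RelProj.QCGrAlg Y) (h1 : 𝒜.IsGenDegOne)
    (u : RelProj.QGrHom f 𝒜 𝒮L)
    (hsurj : ∀ x : X, ∃ (U : Y.Opens) (hU : IsAffineOpen U) (e : 𝒜.presheaf.obj (op U))
        (_ : e ∈ 𝒜.deg U hU 1) (V : X.Opens) (hV : IsAffineOpen V) (hVU : V ≤ f ⁻¹ᵁ U), x ∈ V ∧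
          ((𝒮L.deg V hV 1 : AddSubgroup (𝒮L.presheaf.obj (op V))) :
              Set (𝒮L.presheaf.obj (op V))) ⊆
            (Ideal.span {(u.appLE U V hVU).hom e} : Set (𝒮L.presheaf.obj (op V))))
    (p : P ⟶ Y) (chart : ∀ (U : Y.Opens) (hU : IsAffineOpen U),
      (((p ⁻¹ᵁ U : P.Opens) : Scheme.{u}) ≅ Proj (𝒜.deg U hU)))
    (hP : RelProj.IsRelProj 𝒜 p chart)
    (r : ((RelProj.domQ u pL chartL : PL.Opens) : Scheme.{u}) ⟶ P)
    (hr : RelProj.IsProjQMapOn u p chart pL chartL (RelProj.domQ u pL chartL) r)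
    (himm : IsImmersion r) :
    RelProj.IsRelVeryAmple f L := by
  haveI := himm
  -- `r` is everywhere defined
  have hdom : RelProj.domQ u pL chartL = ⊤ := by
    apply Groth.Agent.Helper1.IM.domQ_eq_top_of_cover u hjL hL hPL
    intro x
    obtain ⟨U, hU, e, he, V, hV, hVU, hxV, hgen⟩ := hsurj x
    refine ⟨U, hU, 1, Nat.one_pos, e, he, ?_⟩
    exact Opens.mem_iSup.mpr ⟨⟨⟨⟨V, hV⟩, hVU⟩, fun b hb => hgen hb⟩, hxV⟩
  -- the symmetric algebra of the degree-one part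
  have hsym := SY.isSymAlg_symAlg (SG.degMod 𝒜 1)
  have hjE := SG.isGrSymAlg_grAlg hsym
  obtain ⟨ψ, hψ, -⟩ := hjE.1 𝒜.toQCAlg (degι 𝒜 1)
  have hψg := SG.isGradedHom_degOne hjE ψ hψ
  have hψs := SG.degOne_surj_pos h1 hjE ψ hψ
  have hψj := SG.ψ_jT ψ hψ
  set u' := Groth.Agent.Helper4.SN321.compV u ψ hψg with hu'def
  have hu' : ∀ U : Y.Opens, u'.app U = ψ.hom.app (op U) ≫ u.app U := fun _ => rfl
  -- compatibility with `ι`
  have hu'j : ∀ (U : Y.Opens) (x : Γ(SG.degMod 𝒜 1, U)),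
      (u'.app U).hom (((SY.symJ (SG.degMod 𝒜 1)).app U) x) =
        (jL.app (f ⁻¹ᵁ U)) (((ι u hjL hL).app U) x) := by
    intro U x
    have h2 := jR_ι u hjL hL U x
    have h3 := congrArg (u.app U).hom (hψj U x)
    exact h3.trans h2.symm
  -- generation in degree one
  have hsurj' : ∀ x : X, ∃ (U : Y.Opens) (hU : IsAffineOpen U) (e : Γ(SG.degMod 𝒜 1, U))
      (V : X.Opens) (hV : IsAffineOpen V) (hVU : V ≤ f ⁻¹ᵁ U), x ∈ V ∧
        ((𝒮L.deg V hV 1 : AddSubgroup (𝒮L.presheaf.obj (op V))) :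
            Set (𝒮L.presheaf.obj (op V))) ⊆
        (Ideal.span {(u'.appLE U V hVU).hom (((SY.symJ (SG.degMod 𝒜 1)).app U) e)} :
          Set (𝒮L.presheaf.obj (op V))) := by
    intro x
    obtain ⟨U, hU, e, he, V, hV, hVU, hxV, hgen⟩ := hsurj x
    obtain ⟨e', he'⟩ := SG.exists_of_mem_deg' 𝒜 1 U hU he
    refine ⟨U, hU, e', V, hV, hVU, hxV, ?_⟩
    have h3 : (u'.appLE U V hVU).hom (((SY.symJ (SG.degMod 𝒜 1)).app U) e') =
        (u.appLE U V hVU).hom e := by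
      have h4 := congrArg (u.appLE U V hVU).hom ((hψj U e').trans he')
      exact h4
    rw [h3]
    exact hgen
  -- the projective bundle and `r'`
  obtain ⟨P', p', chart', hP'⟩ := RP.exists_isRelProj (SG.grAlg hsym)
  obtain ⟨r', hr', -⟩ := existsUnique_projQMapOn (u := u') hP' hPL
  -- the family for `u`, lifted to `u'`
  choose U hU n hn s hs hx haff hfrac using
    Groth.Agent.Helper4.SN334.exists_local_family u hjL hL hP hPL hr hdom
  choose t ht hts using fun x => hψs (U x) (hU x) (n x) (hn x) (s x) (hs x)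
  have hXw : ∀ x, PT.Xw (PT.famOf u' (U x) (hU x) (t x) (ht x)) =
      PT.Xw (PT.famOf u (U x) (hU x) (s x) (hs x)) := fun x =>
    Xw_famOf_comp_eq u (U x) (hU x) (s x) (hs x) ψ u' hu' (t x) (ht x) (hts x)
  obtain ⟨hdom', himm'⟩ := Groth.Agent.Helper1.IM.isImmersion_of_family u' hjL hL hP' hPL hr'
    U hU n hn t ht (fun x => ⟨x, by rw [hXw x]; exact hx x⟩)
    (fun x => by rw [hXw x]; exact haff x)
    (fun x => by
      refine isFrac_of_eq u' (U x) (hU x) (n x) (t x) _ _ ((PT.Xw_le _).trans_eq rfl) (PT.Xw_le _)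
        (hXw x) (fun τ => ?_)
      obtain ⟨m, hm, s', hs', e⟩ := hfrac x τ
      obtain ⟨t', ht', htt'⟩ := hψs (U x) (hU x) (m * n x) (Nat.mul_pos hm (hn x)) s' hs'
      refine isFrac_comp u (U x) (hU x) _ _ ψ u' hu' (t x) τ ⟨m, hm, t', ht', ?_⟩
      rw [hts x, htt']
      exact e)
  exact Groth.Agent.Helper4.SN334.isRelVeryAmple_of_immersion f L hL hjL hPL hjE
    (ι u hjL hL) u' hu'j hsurj' hP' r' hr' hdom' himm'

end

end Groth.Agent.Helper4.SN361
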