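import Mathlib
import Groth.Prelude.Def_RelProj4
import Groth.Agent.Helper4.SN324

/-!
# The graded morphism `Sym(E) → q_* Sym(L)` attached to `s : q^*E ⟶ L`, on sections of `E`
over arbitrary opens
-/

set_option autoImplicit false
set_option linter.unusedSectionVars false
set_option linter.style.haveILetI false

namespace Groth.Agent.Helper4.SN362

open CategoryTheory CategoryTheory.Limits AlgebraicGeometry TopologicalSpace Opposite RelSpec RelProj
open Groth.Agent.Helper1 Groth.Agent.Helper1.RP Groth.Agent.Lead.BCMap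

universe u

noncomputable section

variable {X Y : Scheme.{u}} (q : X ⟶ Y) (E : Y.Modules) [E.IsQuasicoherent]
  {𝒮 : QCGrAlg Y} {j : E ⟶ 𝒮.toModule} (hj : IsGrSymAlg E 𝒮 j)
  {L : X.Modules} [L.IsQuasicoherent]
  {𝒮L : QCGrAlg X} {jL : L ⟶ 𝒮L.toModule} (hjL : IsGrSymAlg L 𝒮L jL)
  (s : (Scheme.Modules.pullback q).obj E ⟶ L)

/-- the adjoint `E ⟶ q_* L` of `s` -/
abbrev adj : E ⟶ (Scheme.Modules.pushforward q).obj L :=
  (Scheme.Modules.pullbackPushforwardAdjunction q).homEquiv E L s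

theorem uS_app_j_affine (U : Y.Opens) (hU : IsAffineOpen U) (x : Γ(E, U)) :
    ((Groth.Agent.Helper4.SN311.uS q E hj hjL s).app U).hom ((j.app U) x) =
      (jL.app (q ⁻¹ᵁ U)) ((adj q E s).app U x) := by
  have h1 := Groth.Agent.Helper4.SN284.cmp_j_apply q E hj.1 𝒮L.toQCAlg (s ≫ jL) U hU x
  refine h1.trans ?_
  have h2 : (adj q E s).app U x = s.app (q ⁻¹ᵁ U)
      (((Scheme.Modules.pullbackPushforwardAdjunction q).unit.app E).app U x) := by
    unfold adj
    rw [Adjunction.homEquiv_unit]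
    rfl
  rw [h2]
  rfl

theorem uS_app_j (U : Y.Opens) (x : Γ(E, U)) :
    ((Groth.Agent.Helper4.SN311.uS q E hj hjL s).app U).hom ((j.app U) x) =
      (jL.app (q ⁻¹ᵁ U)) ((adj q E s).app U x) := by
  let ι := {V : Y.affineOpens // (V : Y.Opens) ≤ U}
  refine TopCat.Sheaf.eq_of_locally_eq'
    (⟨𝒮L.toModule.presheaf, 𝒮L.toModule.isSheaf⟩ : TopCat.Sheaf Ab X)
    (fun V : ι => q ⁻¹ᵁ (V.1 : Y.Opens)) (q ⁻¹ᵁ U) (fun V => homOfLE (q.preimage_mono V.2)) ?_
    (show Γ(𝒮L.toModule, q ⁻¹ᵁ U) from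
      ((Groth.Agent.Helper4.SN311.uS q E hj hjL s).app U).hom ((j.app U) x))
    ((jL.app (q ⁻¹ᵁ U)) ((adj q E s).app U x)) ?_
  · intro y hy
    obtain ⟨_, ⟨V, hV : IsAffineOpen V, rfl⟩, hyV, hVU⟩ :=
      Y.isBasis_affineOpens.exists_subset_of_mem_open (show q y ∈ U from hy) U.2
    exact Opens.mem_iSup.mpr ⟨⟨⟨V, hV⟩, hVU⟩, hyV⟩
  · rintro ⟨⟨V, hV⟩, hVU⟩
    have h1 := congrArg (fun k => k.hom ((j.app U) x))
      ((Groth.Agent.Helper4.SN311.uS q E hj hjL s).naturality hVU)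
    have h2 := Groth.Agent.Helper4.StalkExact.app_res j (homOfLE hVU) x
    have h3 := uS_app_j_affine q E hj hjL s V hV (E.presheaf.map (homOfLE hVU).op x)
    have h4 := Groth.Agent.Helper4.StalkExact.app_res jL (homOfLE (q.preimage_mono hVU))
      ((adj q E s).app U x)
    have h5 := Groth.Agent.Helper4.StalkExact.app_res (adj q E s) (homOfLE hVU) x
    refine Eq.trans ?_ ((h3.trans (congrArg (jL.app (q ⁻¹ᵁ V)) h5)).trans h4)
    refine Eq.trans h1 ?_
    exact congrArg ((Groth.Agent.Helper4.SN311.uS q E hj hjL s).app V).hom h2.symm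

/-- the `appLE` form -/
theorem uS_appLE_j (U : Y.Opens) (V : X.Opens) (hle : V ≤ q ⁻¹ᵁ U) (x : Γ(E, U)) :
    ((Groth.Agent.Helper4.SN311.uS q E hj hjL s).appLE U V hle).hom ((j.app U) x) =
      (jL.app V) (L.presheaf.map (homOfLE hle).op ((adj q E s).app U x)) := by
  have h1 := uS_app_j q E hj hjL s U x
  have h2 := Groth.Agent.Helper4.StalkExact.app_res jL (homOfLE hle) ((adj q E s).app U x)
  refine Eq.trans ?_ h2.symm
  exact congrArg (𝒮L.presheaf.map (homOfLE hle).op).hom h1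

end

end Groth.Agent.Helper4.SN362
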