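import Mathlib
import Groth.Prelude.Def_RelProj4
import Groth.Agent.Helper4.SN334

/-!
# Pointwise necessity of the immersion criterion, inside prescribed opens
-/

set_option autoImplicit false
set_option linter.unusedSectionVars false
set_option linter.style.haveILetI false

namespace Groth.Agent.Helper4.SN367

open CategoryTheory CategoryTheory.Limits AlgebraicGeometry TopologicalSpace Opposite RelSpec RelProj
  HomogeneousLocalization
open Groth.Agent.Helper1 Groth.Agent.Helper1.RP Groth.Agent.Helper1.SY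
open Groth.Agent.Helper1.IM Groth.Agent.Helper1.PL Groth.Agent.Helper1.PT
open scoped HomogeneousIdeal

universe u

noncomputable section

variable {X Y : Scheme.{u}} {q : X ⟶ Y} {𝒮 : QCGrAlg Y} {𝒮L : QCGrAlg X}
  (u : QGrHom q 𝒮 𝒮L)
  {P : Scheme.{u}} {p : P ⟶ Y}
  {chart : ∀ (U : Y.Opens) (hU : IsAffineOpen U),
    (((p ⁻¹ᵁ U : P.Opens) : Scheme.{u}) ≅ Proj (𝒮.deg U hU))}
  {PL : Scheme.{u}} {pL : PL ⟶ X}
  {chartL : ∀ (U : X.Opens) (hU : IsAffineOpen U),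
    (((pL ⁻¹ᵁ U : PL.Opens) : Scheme.{u}) ≅ Proj (𝒮L.deg U hU))}
  {L : X.Modules} [L.IsQuasicoherent] {j : L ⟶ 𝒮L.toModule} (hj : IsGrSymAlg L 𝒮L j)

include hj in
/-- a pointwise form of `exists_mem_Xw'`, inside a prescribed open of the base -/
theorem exists_mem_Xw'' (hL : PicF.IsInvertible L) (hP : IsRelProj 𝒮 p chart)
    (hPL : IsRelProj 𝒮L pL chartL)
    {r : ((domQ u pL chartL : PL.Opens) : Scheme.{u}) ⟶ P}
    (hr : IsProjQMapOn u p chart pL chartL (domQ u pL chartL) r)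
    (hdom : domQ u pL chartL = ⊤) (C : P.Opens) (x : X)
    (hC : ∀ z, pL ((domQ u pL chartL).ι z) = x → r z ∈ C) (U₀ : Y.Opens) (hxU₀ : q x ∈ U₀) :
    ∃ (U : Y.Opens) (hU : IsAffineOpen U) (n : ℕ) (_ : 0 < n) (s : 𝒮.presheaf.obj (op U))
      (hs : s ∈ 𝒮.deg U hU n), U ≤ U₀ ∧
      emb p chart U hU ''ᵁ Proj.basicOpen (𝒮.deg U hU) s ≤ C ∧
        x ∈ PT.Xw (PT.famOf u U hU s hs) := by
  haveI : IsIso pL := isIso_relProj_of_isInvertible hL hj pL chartL hPL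
  let z₀ : PL := (inv pL) x
  have hz₀x : pL z₀ = x := by
    show pL ((inv pL) x) = x
    rw [← Scheme.Hom.comp_apply, IsIso.inv_hom_id]
    rfl
  have hz₀ : z₀ ∈ domQ u pL chartL := by rw [hdom]; trivial
  let z : ((domQ u pL chartL : PL.Opens) : Scheme.{u}) := ⟨z₀, hz₀⟩
  have hzx : pL ((domQ u pL chartL).ι z) = x := hz₀x
  have hprz : p (r z) ∈ U₀ := by
    have h1 := projQMapOn_comm hP hPL hr
    have h2 : p (r z) = q (pL ((domQ u pL chartL).ι z)) := by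
      rw [← Scheme.Hom.comp_apply, h1]
      rfl
    rw [h2, hzx]
    exact hxU₀
  obtain ⟨_, ⟨U, hU, rfl⟩, hzU, hUU₀⟩ :=
    Y.isBasis_affineOpens.exists_subset_of_mem_open hprz U₀.2
  replace hU : IsAffineOpen U := hU
  have hrz : r z ∈ (emb p chart U hU).opensRange := by
    rw [opensRange_emb]; exact hzU
  obtain ⟨y, hy⟩ := hrz
  let W' : (Proj (𝒮.deg U hU)).Opens := emb p chart U hU ⁻¹ᵁ C
  have hyW : y ∈ W' := by
    show (emb p chart U hU) y ∈ C
    rw [hy]; exact hC z hzx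
  obtain ⟨d, hd, f, hf, hyf, hfW⟩ := exists_homog_basicOpen_le (𝒮.deg U hU) W' y hyW
  refine ⟨U, hU, d, hd, f, hf, hUU₀, ?_, ?_⟩
  · rintro _ ⟨y', hy', rfl⟩
    exact hfW hy'
  · have h1 : (domQ u pL chartL).ι z ∈ (domQ u pL chartL).ι ''ᵁ
        (r ⁻¹ᵁ ((emb p chart U hU) ''ᵁ Proj.basicOpen (𝒮.deg U hU) f)) :=
      ⟨z, ⟨y, hyf, hy⟩, rfl⟩
    rw [PT.image_preimage_basicOpen u hP hPL hr U hU hd f hf,
      PT.locus_eq_preimage _ hj hL hPL hd] at h1
    have h2 : pL z₀ ∈ PT.Xw (PT.famOf u U hU f hf) := h1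
    rw [hz₀x] at h2
    exact h2

include hj in
/-- pointwise necessity of the immersion criterion, inside prescribed opens of `X` and `Y` -/
theorem exists_local_family' (hL : PicF.IsInvertible L) (hP : IsRelProj 𝒮 p chart)
    (hPL : IsRelProj 𝒮L pL chartL)
    {r : ((domQ u pL chartL : PL.Opens) : Scheme.{u}) ⟶ P}
    (hr : IsProjQMapOn u p chart pL chartL (domQ u pL chartL) r)
    (hdom : domQ u pL chartL = ⊤) [IsImmersion r] (x : X) (O : X.Opens) (hxO : x ∈ O)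
    (U₀ : Y.Opens) (hxU₀ : q x ∈ U₀) :
    ∃ (U : Y.Opens) (hU : IsAffineOpen U) (n : ℕ) (_ : 0 < n) (s : 𝒮.presheaf.obj (op U))
      (hs : s ∈ 𝒮.deg U hU n), U ≤ U₀ ∧
      x ∈ PT.Xw (PT.famOf u U hU s hs) ∧ PT.Xw (PT.famOf u U hU s hs) ≤ O ∧
      IsAffineOpen (PT.Xw (PT.famOf u U hU s hs)) ∧
      ∀ τ, IsFrac u U hU n s (PT.Xw (PT.famOf u U hU s hs)) (PT.Xw_le _) τ := by
  haveI : IsIso pL := isIso_relProj_of_isInvertible hL hj pL chartL hPL
  -- an open of `P` cutting out `O`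
  obtain ⟨C'set, hC'open, hC'eq⟩ := (r.isEmbedding.isInducing.isOpen_iff).mp
    (((domQ u pL chartL).ι ≫ pL) ⁻¹ᵁ O).2
  let C' : P.Opens := ⟨C'set, hC'open⟩
  have hC'mem : ∀ z, r z ∈ C' ↔ pL ((domQ u pL chartL).ι z) ∈ O := by
    intro z
    have h1 : z ∈ r ⁻¹' C'set ↔ z ∈ ((((domQ u pL chartL).ι ≫ pL) ⁻¹ᵁ O : Opens _) : Set _) := by
      rw [hC'eq]
      rfl
    exact h1
  obtain ⟨U, hU, n, hn, s, hs, hUU₀, hC, hx⟩ := exists_mem_Xw'' u hj hL hP hPL hr hdom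
    (r.coborderRange ⊓ C') x
    (fun z hz => ⟨subset_coborder ⟨z, rfl⟩, (hC'mem z).mpr (by rw [hz]; exact hxO)⟩) U₀ hxU₀
  have hle : (Proj.awayι (𝒮.deg U hU) s hs hn ≫ emb p chart U hU).opensRange ≤
      r.coborderRange := by
    rw [opensRange_chartP U hU hn s hs]
    exact hC.trans inf_le_left
  have hV : IsAffineOpen (PT.Xw (PT.famOf u U hU s hs)) :=
    isAffineOpen_Xw u hj hL hP hPL hr U hU hn s hs
      (isAffineOpen_preimage_of_isImmersion r (isAffineOpen_opensRange _) hle)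
  refine ⟨U, hU, n, hn, s, hs, hUU₀, hx, ?_, hV, fun τ => ?_⟩
  · intro y hy
    let z₀ : PL := (inv pL) y
    have hz₀y : pL z₀ = y := by
      show pL ((inv pL) y) = y
      rw [← Scheme.Hom.comp_apply, IsIso.inv_hom_id]
      rfl
    have h1 : z₀ ∈ pL ⁻¹ᵁ (PT.Xw (PT.famOf u U hU s hs)) := by
      show pL z₀ ∈ PT.Xw (PT.famOf u U hU s hs)
      rw [hz₀y]; exact hy
    rw [← PT.locus_eq_preimage _ hj hL hPL hn,
      ← PT.image_preimage_basicOpen u hP hPL hr U hU hn s hs] at h1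
    obtain ⟨z, hz, hzz₀⟩ := h1
    have h2 : r z ∈ C' := (hC hz).2
    have h3 := (hC'mem z).mp h2
    have h4 : (domQ u pL chartL).ι z = z₀ := hzz₀
    rw [h4, hz₀y] at h3
    exact h3
  · have hcl : IsClosedImmersion (Spec.map (CommRingCat.ofHom
        (Away.map (u.gradedAt U hU _ hV (PT.Xw_le _)) s))) :=
      isClosedImmersion_chart_of_isImmersion r _ _ _
        (liftEmb_r hr U hU _ hV (PT.Xw_le _) hn s hs)
        (preimage_chart u hj hL hP hPL hr U hU hn s hs _ hV (PT.Xw_le _) rfl) hle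
    rw [isClosedImmersion_specMap_iff] at hcl
    exact (away_surjective_iff u hj hL U hU s hs _ hV (PT.Xw_le _)
      (isGenAt_of_le_Xw _ hV (PT.Xw_le _) le_rfl)).mp hcl τ

end

end Groth.Agent.Helper4.SN367
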