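import Mathlib
import Groth.Prelude.Def_RelProj4
import Groth.Agent.Helper4.SN366
import Groth.Agent.Helper4.QcohEpi
import Groth.Agent.Lead.BCMap5

/-!
# An epimorphism `q^*E' ⟶ L'` onto an invertible module: locally a section of `E'` is a frame
-/

set_option autoImplicit false
set_option linter.unusedSectionVars false
set_option linter.style.haveILetI false

namespace Groth.Agent.Helper4.SN368

open CategoryTheory CategoryTheory.Limits AlgebraicGeometry TopologicalSpace Opposite RelSpec RelProj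
open Groth.Agent.Lead.BCMap
open Groth.Agent.Helper4.SN365 Groth.Agent.Helper4.SN366
open Groth.Agent.Helper4.TwistExt Groth.Agent.Helper4.SN352 Groth.Agent.Helper4.SN346

universe u

noncomputable section

variable {X : Scheme.{u}}

/-- a unit multiple of a frame is a frame -/
theorem IsFrame.smul_unit {M : X.Modules} {T : X.Opens} {e : Γ(M, T)} (he : IsFrame M T e)
    (c : Γ(X, T)) (hc : IsUnit c) : IsFrame M T (c • e) := by
  intro V h
  have hc' : IsUnit (X.presheaf.map (homOfLE h).op c) := hc.map (X.presheaf.map (homOfLE h).op).hom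
  obtain ⟨d, hd⟩ := hc'.exists_left_inv
  rw [Scheme.Modules.map_smul]
  constructor
  · intro m
    obtain ⟨r, hr⟩ := (he V h).1 m
    refine ⟨r * d, ?_⟩
    rw [smul_smul, mul_assoc, hd, mul_one]
    exact hr
  · intro r hr
    rw [smul_smul] at hr
    have h1 := (he V h).2 _ hr
    have h2 : r = r * X.presheaf.map (homOfLE h).op c * d := by
      rw [mul_assoc, mul_comm _ d, hd, mul_one]
    rw [h2, h1, zero_mul]

variable {Y : Scheme.{u}} (q : X ⟶ Y) (E' : Y.Modules) [E'.IsQuasicoherent]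
  {L' : X.Modules} [L'.IsQuasicoherent] (hL' : PicF.IsInvertible L')
  (φ : (Scheme.Modules.pullback q).obj E' ⟶ L') [Epi φ]

theorem sec'_eq (U : Y.Opens) (V : X.Opens) (hle : V ≤ q ⁻¹ᵁ U) (e' : Γ(E', U)) :
    sec' q ((Scheme.Modules.pullbackPushforwardAdjunction q).homEquiv E' L' φ) U V hle e' =
      φ.app V (pbSec q E' U V hle e') :=
  homEquiv_app q E' φ U V hle e'

include hL' in
/-- **locally a section of `E'` names a frame of `L'`** -/
theorem exists_frame_sec (x : X) (U₀ : Y.Opens) (hU₀ : IsAffineOpen U₀) (hx : q x ∈ U₀) :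
    ∃ (e' : Γ(E', U₀)) (V₀ : X.Opens) (hle : V₀ ≤ q ⁻¹ᵁ U₀), x ∈ V₀ ∧
      IsFrame L' V₀
        (sec' q ((Scheme.Modules.pullbackPushforwardAdjunction q).homEquiv E' L' φ) U₀ V₀ hle e') := by
  haveI : ((Scheme.Modules.pullback q).obj E').IsQuasicoherent :=
    Groth.Agent.Lead.StalkPull.isQuasicoherent_pullbackObj q E'
  obtain ⟨V, l', hxV, hle, hV, hl', -⟩ := exists_frames L' hL' (q ⁻¹ᵁ U₀) x hx
  -- the coefficient of `φ(pbSec e')` in the frame
  by_contra hcon
  have H : ∀ e' : Γ(E', U₀), ∃ a : Γ(X, V), φ.app V (pbSec q E' U₀ V hle e') = a • l' ∧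
      x ∉ X.basicOpen a := by
    intro e'
    obtain ⟨a, ha⟩ := isFrame_coeff hl' (φ.app V (pbSec q E' U₀ V hle e'))
    refine ⟨a, ha, fun hxa => hcon ?_⟩
    refine ⟨e', X.basicOpen a, (X.basicOpen_le a).trans hle, hxa, ?_⟩
    have h1 : sec' q ((Scheme.Modules.pullbackPushforwardAdjunction q).homEquiv E' L' φ) U₀
        (X.basicOpen a) ((X.basicOpen_le a).trans hle) e' =
        L'.presheaf.map (homOfLE (X.basicOpen_le a)).op
          (sec' q ((Scheme.Modules.pullbackPushforwardAdjunction q).homEquiv E' L' φ) U₀ V hle e') :=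
      (Groth.Agent.Helper4.QAffSec.res_res L' _ _ _).symm
    rw [h1, sec'_eq, ha, Scheme.Modules.map_smul]
    exact IsFrame.smul_unit (IsFrame.res hl' (X.basicOpen_le a)) _
      (RingedSpace.isUnit_res_basicOpen X.toRingedSpace a)
  obtain ⟨m₀, hm₀⟩ := Groth.Agent.Helper4.QcohEpi.app_surjective_of_epi φ hV l'
  letI := (q.appLE U₀ V hle).hom.toAlgebra
  letI : Module Γ(Y, U₀) Γ((Scheme.Modules.pullback q).obj E', V) :=
    Module.compHom _ (q.appLE U₀ V hle).hom
  haveI : IsScalarTower Γ(Y, U₀) Γ(X, V) Γ((Scheme.Modules.pullback q).obj E', V) :=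
    IsScalarTower.of_compHom _ _ _
  obtain ⟨ρ, hρ, hbc⟩ := exists_isBaseChange_pbSec q E' hU₀ hV hle
  have key : ∀ m : Γ((Scheme.Modules.pullback q).obj E', V),
      ∃ a : Γ(X, V), φ.app V m = a • l' ∧ x ∉ X.basicOpen a := by
    intro m
    refine hbc.inductionOn m
      (motive := fun m => ∃ a : Γ(X, V), φ.app V m = a • l' ∧ x ∉ X.basicOpen a) ?_ ?_ ?_ ?_
    · refine ⟨0, ?_, ?_⟩
      · rw [map_zero, zero_smul]
      · rw [Scheme.basicOpen_zero]; exact fun h => h
    · intro e'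
      rw [hρ]
      exact H e'
    · rintro c m ⟨a, ha, hxa⟩
      refine ⟨c * a, ?_, ?_⟩
      · rw [Scheme.Modules.Hom.app_smul, ha, smul_smul]
      · rw [Scheme.basicOpen_mul]
        exact fun h => hxa h.2
    · rintro m₁ m₂ ⟨a₁, ha₁, hx₁⟩ ⟨a₂, ha₂, hx₂⟩
      refine ⟨a₁ + a₂, ?_, ?_⟩
      · rw [map_add, ha₁, ha₂, add_smul]
      · intro h
        rcases X.basicOpen_add_le a₁ a₂ h with h | h
        · exact hx₁ h
        · exact hx₂ h
  obtain ⟨a, ha, hxa⟩ := key m₀
  have h1 : (a - 1) • l' = 0 := by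
    rw [sub_smul, one_smul, ← ha, hm₀, sub_self]
  have h2 : a = 1 := sub_eq_zero.mp (isFrame_inj hl' _ h1)
  rw [h2, Scheme.basicOpen_one] at hxa
  exact hxa hxV

end

end Groth.Agent.Helper4.SN368
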