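import Mathlib
import Groth.Prelude.Def_RelProj4
import Groth.Agent.Helper4.SN362
import Groth.Agent.Helper4.SN367
import Groth.Agent.Helper4.SN368
import Groth.Agent.Lead.QcohTensor
import Groth.Agent.Helper4.TensorInv

/-!
# `L` very ample and `q^*E' ⟶ L'` an epimorphism onto an invertible module: `L ⊗ L'` is very ample
-/

set_option autoImplicit false
set_option linter.unusedSectionVars false
set_option linter.style.haveILetI false

namespace Groth.Agent.Helper4.SN369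

open CategoryTheory CategoryTheory.Limits AlgebraicGeometry TopologicalSpace Opposite RelSpec RelProj
open Groth.Agent.Helper1 Groth.Agent.Helper1.RP Groth.Agent.Lead.BCMap Groth.Agent.Helper1.SY
open Groth.Agent.Helper1.IM Groth.Agent.Helper1.PL
open Groth.Agent.Helper4.SN362 Groth.Agent.Helper4.SN363 Groth.Agent.Helper4.SN364
  Groth.Agent.Helper4.SN365 Groth.Agent.Helper4.SN366 Groth.Agent.Helper4.SN367
  Groth.Agent.Helper4.SN368
open Groth.Agent.Helper4.TwistExt Groth.Agent.Helper4.SN352 Groth.Agent.Helper4.TensorLift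

universe u

noncomputable section

section frames

variable {X : Scheme.{u}}

/-- locally the tensor product of two frames is a frame -/
theorem exists_frame_tmul (L L' : X.Modules) (hL : PicF.IsInvertible L)
    (hL' : PicF.IsInvertible L') (T₀ : X.Opens) (σ₀ : Γ(L, T₀)) (σ' : Γ(L', T₀))
    (h₀ : IsFrame L T₀ σ₀) (h' : IsFrame L' T₀ σ') (x : X) (hx : x ∈ T₀) :
    ∃ (T : X.Opens) (hT : T ≤ T₀), x ∈ T ∧ IsAffineOpen T ∧
      IsFrame (CohB1.tensorMod L L') T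
        (SecTwist.tmul L L' T (L.presheaf.map (homOfLE hT).op σ₀)
          (L'.presheaf.map (homOfLE hT).op σ')) := by
  obtain ⟨T, l, l', hxT, hT, hTaff, hl, hl', hll'⟩ := exists_frames₂ L L' hL hL' T₀ x hx
  refine ⟨T, hT, hxT, hTaff, ?_⟩
  obtain ⟨a, ha⟩ := isFrame_coeff hl (L.presheaf.map (homOfLE hT).op σ₀)
  obtain ⟨c, hc⟩ := isFrame_coeff hl' (L'.presheaf.map (homOfLE hT).op σ')
  have hau : IsUnit a := isUnit_coeff hl (IsFrame.res h₀ hT) a ha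
  have hcu : IsUnit c := isUnit_coeff hl' (IsFrame.res h' hT) c hc
  rw [ha, hc, tmul_smul_left, tmul_smul_right, smul_smul]
  exact IsFrame.smul_unit hll' _ (hau.mul hcu)

end frames

section main

open Groth.Agent.Helper1.PT

/-- transport of `IsFrac` along an equality of opens -/
theorem isFrac_of_eq {X Y : Scheme.{u}} {q : X ⟶ Y} {𝒮 : QCGrAlg Y} {𝒮L : QCGrAlg X}
    (u : QGrHom q 𝒮 𝒮L) (U : Y.Opens) (hU : IsAffineOpen U) (n : ℕ)
    (s : 𝒮.presheaf.obj (op U)) (V V' : X.Opens) (hT : V ≤ q ⁻¹ᵁ U) (hT' : V' ≤ q ⁻¹ᵁ U)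
    (h : V' = V) (H : ∀ τ, IsFrac u U hU n s V hT τ) : ∀ τ, IsFrac u U hU n s V' hT' τ := by
  subst h
  exact H

variable {X Y : Scheme.{u}}

theorem main468 (q : X ⟶ Y) (L L' : X.Modules)
    (hL : PicF.IsInvertible L) (hva : IsRelVeryAmple q L) (hL' : PicF.IsInvertible L')
    (E' : Y.Modules) (hE' : Coh.IsQCoh E') (φ : (Scheme.Modules.pullback q).obj E' ⟶ L')
    (hφ : Epi φ) : IsRelVeryAmple q (CohB1.tensorMod L L') := by
  haveI : L.IsQuasicoherent := Groth.Agent.Helper4.QAffSec.isQuasicoherent_of_isInvertible L hL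
  haveI : L'.IsQuasicoherent := Groth.Agent.Helper4.QAffSec.isQuasicoherent_of_isInvertible L' hL'
  have hM : PicF.IsInvertible (CohB1.tensorMod L L') :=
    Groth.Agent.Helper4.TensorInv.isInvertible_tensorMod hL hL'
  haveI : (CohB1.tensorMod L L').IsQuasicoherent :=
    Groth.Agent.Helper4.QAffSec.isQuasicoherent_of_isInvertible _ hM
  haveI : E'.IsQuasicoherent := hE'
  haveI := hφ
  -- the symmetric algebras of `L` and of `L ⊗ L'`
  obtain ⟨𝒮L, jL, hjL⟩ : ∃ (𝒮L : QCGrAlg X) (jL : L ⟶ 𝒮L.toModule), IsGrSymAlg L 𝒮L jL :=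
    ⟨_, _, SG.isGrSymAlg_grAlg (SY.isSymAlg_symAlg L)⟩
  obtain ⟨PL, pL, chartL, hPL⟩ := RP.exists_isRelProj 𝒮L
  obtain ⟨𝒮M, jM, hjM⟩ : ∃ (𝒮M : QCGrAlg X) (jM : CohB1.tensorMod L L' ⟶ 𝒮M.toModule),
      IsGrSymAlg (CohB1.tensorMod L L') 𝒮M jM :=
    ⟨_, _, SG.isGrSymAlg_grAlg (SY.isSymAlg_symAlg _)⟩
  obtain ⟨PM, pM, chartM, hPM⟩ := RP.exists_isRelProj 𝒮M
  -- the immersion for `L`
  obtain ⟨E₀, hE₀, 𝒮₀, j₀, hj₀, P₀, p₀, chart₀, hP₀, O1, lam, hO1, i, himm, hip, ⟨e⟩⟩ := hva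
  haveI : E₀.IsQuasicoherent := hE₀
  haveI := himm
  haveI : IsIso pL := Groth.Agent.Helper1.PL.isIso_relProj_of_isInvertible hL hjL pL chartL hPL
  set φ₀ := CF.can j₀ hj₀.2 hP₀ hO1 with hφ₀def
  have hφ₀ := CF.val_can j₀ hj₀.2 hP₀ hO1
  haveI hepa : Epi (((Scheme.Modules.pullbackPushforwardAdjunction p₀).homEquiv E₀ O1).symm φ₀) :=
    TRS.epi_adjoint_canonical hj₀ hO1 φ₀ hφ₀
  haveI : Epi ((Scheme.Modules.pullback i).map
      (((Scheme.Modules.pullbackPushforwardAdjunction p₀).homEquiv E₀ O1).symm φ₀)) :=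
    @Functor.map_epi _ _ _ _ (Scheme.Modules.pullback i) _ _ _ _ hepa
  set s : (Scheme.Modules.pullback q).obj E₀ ⟶ L :=
    (Scheme.Modules.pullbackCongr hip).inv.app E₀ ≫ (Scheme.Modules.pullbackComp i p₀).inv.app E₀ ≫
      (Scheme.Modules.pullback i).map
        (((Scheme.Modules.pullbackPushforwardAdjunction p₀).homEquiv E₀ O1).symm φ₀) ≫ e.symm.hom
    with hs
  haveI : Epi s := by
    rw [hs]
    infer_instance
  set u₀ := Groth.Agent.Helper4.SN311.uS q E₀ hj₀ hjL s with hu₀def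
  obtain ⟨r₀, hr₀, -⟩ := existsUnique_projQMapOn (u := u₀) hP₀ hPL
  obtain ⟨hdom₀, hr₀eq⟩ := Groth.Agent.Helper4.SN322.projQMapOn_eq_of_epi q E₀ hj₀ hP₀ hO1 φ₀ hφ₀ hL
    hjL hPL s u₀ (Groth.Agent.Helper4.SN311.uS_j q E₀ hj₀ hjL s) r₀ hr₀ i hip e.symm rfl
  haveI himm₀ : IsImmersion r₀ := by
    rw [hr₀eq]
    infer_instance
  -- the module `E₀ ⊗ E'` and its map to `q_*(L ⊗ L')`
  set ι₀ := adj q E₀ s with hι₀
  set ι' := (Scheme.Modules.pullbackPushforwardAdjunction q).homEquiv E' L' φ with hι'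
  haveI : (CohB1.tensorMod E₀ E').IsQuasicoherent :=
    Groth.Agent.Lead.QcohTensor.isQuasicoherent_tensorMod E₀ E'
  obtain ⟨𝒮₁, j₁, hj₁⟩ : ∃ (𝒮₁ : QCGrAlg Y) (j₁ : CohB1.tensorMod E₀ E' ⟶ 𝒮₁.toModule),
      IsGrSymAlg (CohB1.tensorMod E₀ E') 𝒮₁ j₁ :=
    ⟨_, _, SG.isGrSymAlg_grAlg (SY.isSymAlg_symAlg _)⟩
  obtain ⟨P₁, p₁, chart₁, hP₁⟩ := RP.exists_isRelProj 𝒮₁
  set s₁ : (Scheme.Modules.pullback q).obj (CohB1.tensorMod E₀ E') ⟶ CohB1.tensorMod L L' :=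
    ((Scheme.Modules.pullbackPushforwardAdjunction q).homEquiv _ _).symm (ι₁ q ι₀ ι') with hs₁
  have hadj₁ : adj q (CohB1.tensorMod E₀ E') s₁ = ι₁ q ι₀ ι' := Equiv.apply_symm_apply _ _
  set u₁ := Groth.Agent.Helper4.SN311.uS q (CohB1.tensorMod E₀ E') hj₁ hjM s₁ with hu₁def
  have hu₀ : ∀ (U : Y.Opens) (V : X.Opens) (hle : V ≤ q ⁻¹ᵁ U) (e : Γ(E₀, U)),
      (u₀.appLE U V hle).hom (j₀.app U e) =
        jL.app V (L.presheaf.map (homOfLE hle).op (ι₀.app U e)) :=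
    fun U V hle e => uS_appLE_j q E₀ hj₀ hjL s U V hle e
  have hu₁ : ∀ (U : Y.Opens) (V : X.Opens) (hle : V ≤ q ⁻¹ᵁ U)
      (x : Γ(CohB1.tensorMod E₀ E', U)),
      (u₁.appLE U V hle).hom (j₁.app U x) =
        jM.app V ((CohB1.tensorMod L L').presheaf.map (homOfLE hle).op
          ((ι₁ q ι₀ ι').app U x)) := by
    intro U V hle x
    have h := uS_appLE_j q (CohB1.tensorMod E₀ E') hj₁ hjM s₁ U V hle x
    rw [hadj₁] at h
    exact h
  obtain ⟨r₁, hr₁, -⟩ := existsUnique_projQMapOn (u := u₁) hP₁ hPM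
  -- the family
  have hfam : ∀ x : X, ∃ (U : Y.Opens) (hU : IsAffineOpen U) (n : ℕ) (_ : 0 < n)
      (t : 𝒮₁.presheaf.obj (op U)) (ht : t ∈ 𝒮₁.deg U hU n),
      x ∈ PT.Xw (PT.famOf u₁ U hU t ht) ∧ IsAffineOpen (PT.Xw (PT.famOf u₁ U hU t ht)) ∧
      ∀ τ, IsFrac u₁ U hU n t (PT.Xw (PT.famOf u₁ U hU t ht)) (PT.Xw_le _) τ := by
    intro x
    obtain ⟨_, ⟨U₀, hU₀, rfl⟩, hxU₀, -⟩ :=
      Y.isBasis_affineOpens.exists_subset_of_mem_open (Set.mem_univ (q x)) isOpen_univ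
    replace hU₀ : IsAffineOpen U₀ := hU₀
    obtain ⟨e'₀, V₀, hle₀, hxV₀, hframe₀⟩ := exists_frame_sec q E' hL' φ x U₀ hU₀ hxU₀
    obtain ⟨U, hU, n, hn, s', hs', hUU₀, hxW, hWV₀, hWaff, hfrac⟩ :=
      exists_local_family' u₀ hjL hL hP₀ hPL hr₀ hdom₀ x V₀ hxV₀ U₀ hxU₀
    have hσ : IsFrame L' (PT.Xw (PT.famOf u₀ U hU s' hs'))
        (sec' q ι' U (PT.Xw (PT.famOf u₀ U hU s' hs')) (PT.Xw_le _)
          (E'.presheaf.map (homOfLE hUU₀).op e'₀)) := by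
      have h1 := IsFrame.res hframe₀ hWV₀
      have h2 : L'.presheaf.map (homOfLE hWV₀).op (sec' q ι' U₀ V₀ hle₀ e'₀) =
          sec' q ι' U (PT.Xw (PT.famOf u₀ U hU s' hs')) (PT.Xw_le _)
            (E'.presheaf.map (homOfLE hUU₀).op e'₀) := by
        unfold sec'
        rw [Groth.Agent.Helper4.StalkExact.app_res, Groth.Agent.Helper4.QAffSec.res_res]
        exact (Groth.Agent.Helper4.QAffSec.res_res L' (q.preimage_mono hUU₀) (PT.Xw_le _) _).symm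
      rwa [h2] at h1
    have hXw := Xw_tw_eq q hj₀ hj₁.2 hL hL' hjL hjM ι₀ ι' u₀ u₁ hu₀ hu₁ U hU s' hs'
      (E'.presheaf.map (homOfLE hUU₀).op e'₀) hσ
    refine ⟨U, hU, n, hn, tw hj₀ j₁ U hU (E'.presheaf.map (homOfLE hUU₀).op e'₀) s',
      tw_mem hj₀ hj₁.2 U hU _ hs', ?_, ?_, ?_⟩
    · rw [hXw]; exact hxW
    · rw [hXw]; exact hWaff
    · refine isFrac_of_eq u₁ U hU n _ _ _ (PT.Xw_le _) (PT.Xw_le _) hXw (fun τ => ?_)
      exact isFrac_tw q hj₀ hj₁.2 hjL jM ι₀ ι' u₀ u₁ hu₀ hu₁ U hU _ hWaff (PT.Xw_le _) _ n s' τ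
        (hfrac τ)
  choose U hU n hn t ht hx haff hfrac using hfam
  obtain ⟨hdom₁, himm₁⟩ := Groth.Agent.Helper1.IM.isImmersion_of_family u₁ hjM hM hP₁ hPM hr₁
    U hU n hn t ht (fun x => ⟨x, hx x⟩) haff hfrac
  -- generation in degree one
  have hu'j : ∀ (W : Y.Opens) (x : Γ(CohB1.tensorMod E₀ E', W)),
      (u₁.app W).hom ((j₁.app W) x) = (jM.app (q ⁻¹ᵁ W)) ((ι₁ q ι₀ ι').app W x) := by
    intro W x
    have h := uS_app_j q (CohB1.tensorMod E₀ E') hj₁ hjM s₁ W x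
    rw [hadj₁] at h
    exact h
  have hsurj' : ∀ x : X, ∃ (W : Y.Opens) (hW : IsAffineOpen W) (e : Γ(CohB1.tensorMod E₀ E', W))
      (V : X.Opens) (hV : IsAffineOpen V) (hVW : V ≤ q ⁻¹ᵁ W), x ∈ V ∧
        ((𝒮M.deg V hV 1 : AddSubgroup (𝒮M.presheaf.obj (op V))) :
            Set (𝒮M.presheaf.obj (op V))) ⊆
        (Ideal.span {(u₁.appLE W V hVW).hom ((j₁.app W) e)} :
          Set (𝒮M.presheaf.obj (op V))) := by
    intro x
    obtain ⟨_, ⟨U₀, hU₀, rfl⟩, hxU₀, -⟩ :=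
      Y.isBasis_affineOpens.exists_subset_of_mem_open (Set.mem_univ (q x)) isOpen_univ
    replace hU₀ : IsAffineOpen U₀ := hU₀
    obtain ⟨e₀, V₁, hle₁, hxV₁, hframe₁⟩ := exists_frame_sec q E₀ hL s x U₀ hU₀ hxU₀
    obtain ⟨e', V₂, hle₂, hxV₂, hframe₂⟩ := exists_frame_sec q E' hL' φ x U₀ hU₀ hxU₀
    obtain ⟨T, hT, hxT, hTaff, hfr⟩ := exists_frame_tmul L L' hL hL' (V₁ ⊓ V₂)
      (L.presheaf.map (homOfLE (inf_le_left : V₁ ⊓ V₂ ≤ V₁)).op (sec' q ι₀ U₀ V₁ hle₁ e₀))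
      (L'.presheaf.map (homOfLE (inf_le_right : V₁ ⊓ V₂ ≤ V₂)).op (sec' q ι' U₀ V₂ hle₂ e'))
      (IsFrame.res hframe₁ inf_le_left) (IsFrame.res hframe₂ inf_le_right) x ⟨hxV₁, hxV₂⟩
    have hTle : T ≤ q ⁻¹ᵁ U₀ := (hT.trans inf_le_left).trans hle₁
    refine ⟨U₀, hU₀, SecTwist.tmul E₀ E' U₀ e₀ e', T, hTaff, hTle, hxT, ?_⟩
    have hsec : (CohB1.tensorMod L L').presheaf.map (homOfLE hTle).op
        ((ι₁ q ι₀ ι').app U₀ (SecTwist.tmul E₀ E' U₀ e₀ e')) =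
        SecTwist.tmul L L' T
          (L.presheaf.map (homOfLE hT).op
            (L.presheaf.map (homOfLE (inf_le_left : V₁ ⊓ V₂ ≤ V₁)).op (sec' q ι₀ U₀ V₁ hle₁ e₀)))
          (L'.presheaf.map (homOfLE hT).op
            (L'.presheaf.map (homOfLE (inf_le_right : V₁ ⊓ V₂ ≤ V₂)).op
              (sec' q ι' U₀ V₂ hle₂ e'))) := by
      rw [ι₁_tmul, Groth.Agent.Helper4.TwistExt.tmul_res]
      unfold sec'
      rw [Groth.Agent.Helper4.QAffSec.res_res, Groth.Agent.Helper4.QAffSec.res_res,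
        Groth.Agent.Helper4.QAffSec.res_res, Groth.Agent.Helper4.QAffSec.res_res]
    have h1 : (u₁.appLE U₀ T hTle).hom ((j₁.app U₀) (SecTwist.tmul E₀ E' U₀ e₀ e')) =
        (mkFrame hfr).t jM := by
      rw [hu₁ U₀ T hTle, hsec]
      rfl
    rw [h1]
    intro b hb
    obtain ⟨β, hβ⟩ := (mkFrame hfr).exists_eq hjM hTaff hb
    rw [pow_one] at hβ
    rw [hβ]
    exact Ideal.mul_mem_left _ _ (Ideal.subset_span rfl)
  exact Groth.Agent.Helper4.SN334.isRelVeryAmple_of_immersion q (CohB1.tensorMod L L') hM hjM hPM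
    hj₁ (ι₁ q ι₀ ι') u₁ hu'j hsurj' hP₁ r₁ hr₁ hdom₁ himm₁

end main

end

end Groth.Agent.Helper4.SN369
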