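import Mathlib
import Groth.Prelude.Def_RelProj4
import Groth.Agent.Helper4.SN369
import Groth.Agent.Helper4.AmpleBasis
import Groth.Agent.Helper4.TensorAssoc
import Groth.Agent.Helper4.PullSec
import Groth.Agent.Lead.InvDualA

/-!
# Tensor products, tensor powers and twists by the base of very ample modules
-/

set_option autoImplicit false
set_option linter.unusedSectionVars false
set_option linter.style.haveILetI false

namespace Groth.Agent.Helper4.SN370

open CategoryTheory CategoryTheory.Limits AlgebraicGeometry TopologicalSpace Opposite RelSpec RelProj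
open Groth.Agent.Helper1 Groth.Agent.Helper1.RP Groth.Agent.Lead.BCMap Groth.Agent.Helper1.SY
open Groth.Agent.Helper4.SN369

universe u

noncomputable section

variable {X Y : Scheme.{u}}

/-- relative very ampleness is invariant under isomorphism -/
theorem isRelVeryAmple_of_iso (q : X ⟶ Y) {L L' : X.Modules} (e : L ≅ L')
    (h : IsRelVeryAmple q L) : IsRelVeryAmple q L' := by
  obtain ⟨E₀, hE₀, 𝒮₀, j₀, hj₀, P₀, p₀, chart₀, hP₀, O1, lam, hO1, i, himm, hip, ⟨ε⟩⟩ := h
  exact ⟨E₀, hE₀, 𝒮₀, j₀, hj₀, P₀, p₀, chart₀, hP₀, O1, lam, hO1, i, himm, hip, ⟨e.symm ≪≫ ε⟩⟩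

/-- a very ample module is a quotient of the inverse image of a quasi-coherent module -/
theorem exists_epi_of_isRelVeryAmple (q : X ⟶ Y) (L : X.Modules) (h : IsRelVeryAmple q L) :
    ∃ (E₀ : Y.Modules) (_ : Coh.IsQCoh E₀) (s : (Scheme.Modules.pullback q).obj E₀ ⟶ L), Epi s := by
  obtain ⟨E₀, hE₀, 𝒮₀, j₀, hj₀, P₀, p₀, chart₀, hP₀, O1, lam, hO1, i, himm, hip, ⟨e⟩⟩ := h
  haveI : E₀.IsQuasicoherent := hE₀
  set φ₀ := CF.can j₀ hj₀.2 hP₀ hO1 with hφ₀def
  have hφ₀ := CF.val_can j₀ hj₀.2 hP₀ hO1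
  haveI hepa : Epi (((Scheme.Modules.pullbackPushforwardAdjunction p₀).homEquiv E₀ O1).symm φ₀) :=
    TRS.epi_adjoint_canonical hj₀ hO1 φ₀ hφ₀
  haveI : Epi ((Scheme.Modules.pullback i).map
      (((Scheme.Modules.pullbackPushforwardAdjunction p₀).homEquiv E₀ O1).symm φ₀)) :=
    @Functor.map_epi _ _ _ _ (Scheme.Modules.pullback i) _ _ _ _ hepa
  refine ⟨E₀, hE₀, (Scheme.Modules.pullbackCongr hip).inv.app E₀ ≫
    (Scheme.Modules.pullbackComp i p₀).inv.app E₀ ≫
      (Scheme.Modules.pullback i).map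
        (((Scheme.Modules.pullbackPushforwardAdjunction p₀).homEquiv E₀ O1).symm φ₀) ≫ e.symm.hom,
    ?_⟩
  infer_instance

/-- the tensor product of two very ample modules is very ample -/
theorem main470 (q : X ⟶ Y) (L L' : X.Modules) (hL : PicF.IsInvertible L)
    (hL' : PicF.IsInvertible L') (hva : IsRelVeryAmple q L) (hva' : IsRelVeryAmple q L') :
    IsRelVeryAmple q (CohB1.tensorMod L L') := by
  obtain ⟨E', hE', s', hs'⟩ := exists_epi_of_isRelVeryAmple q L' hva'
  exact main468 q L L' hL hva hL' E' hE' s' hs'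

/-- positive tensor powers of a very ample module are very ample -/
theorem main471 (q : X ⟶ Y) (L : X.Modules) (hL : PicF.IsInvertible L)
    (hva : IsRelVeryAmple q L) (n : ℕ) (hn : 0 < n) :
    IsRelVeryAmple q (CohB1.tensorPow L n) := by
  obtain ⟨k, rfl⟩ : ∃ k, n = k + 1 := ⟨n - 1, by omega⟩
  clear hn
  induction k with
  | zero =>
    exact isRelVeryAmple_of_iso q (Groth.Agent.Helper4.AmpleBasis.unitorL L).symm hva
  | succ k ih =>
    exact main470 q (CohB1.tensorPow L (k + 1)) L
      (Groth.Agent.Helper4.TensorInv.isInvertible_tensorPow hL (k + 1)) hL ih hva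

/-- twisting by the inverse image of an invertible module of the base -/
theorem main469_mp (q : X ⟶ Y) (L : X.Modules) (hL : PicF.IsInvertible L) (K : Y.Modules)
    (hK : PicF.IsInvertible K) (hva : IsRelVeryAmple q L) :
    IsRelVeryAmple q (CohB1.tensorMod L ((Scheme.Modules.pullback q).obj K)) :=
  main468 q L _ hL hva (Groth.Agent.Helper4.PullSec.isInvertible_pullback q hK) K
    (Groth.Agent.Helper4.QAffSec.isQuasicoherent_of_isInvertible K hK) (𝟙 _) inferInstance

theorem main469 (q : X ⟶ Y) (L : X.Modules) (hL : PicF.IsInvertible L) (K : Y.Modules)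
    (hK : PicF.IsInvertible K) :
    IsRelVeryAmple q L ↔
      IsRelVeryAmple q (CohB1.tensorMod L ((Scheme.Modules.pullback q).obj K)) := by
  refine ⟨main469_mp q L hL K hK, fun h => ?_⟩
  obtain ⟨N, hN, -, ⟨eKN⟩⟩ := Groth.Agent.Lead.InvDual.exists_inverse K hK
  have hqK := Groth.Agent.Helper4.PullSec.isInvertible_pullback q hK
  have hqN := Groth.Agent.Helper4.PullSec.isInvertible_pullback q hN
  have h1 := main469_mp q _ (Groth.Agent.Helper4.TensorInv.isInvertible_tensorMod hL hqK) N hN h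
  refine isRelVeryAmple_of_iso q ?_ h1
  exact Groth.Agent.Helper4.TensorAssoc.assocIso L _ _ hqK hqN ≪≫
    PicGrp.tensorModIso (Iso.refl L)
      ((Groth.Agent.Helper4.PullTensor.pullTensorIso q hK hN).symm ≪≫
        (Scheme.Modules.pullback q).mapIso eKN ≪≫
        Groth.Agent.Helper4.PullUnit.pullbackUnitIso q) ≪≫
    SecTwist.unitorR L

end

end Groth.Agent.Helper4.SN370
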