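import Mathlib
import Groth.Prelude.Def_BlowUp2
import Groth.Agent.Helper4.SN96

/-!
# Inverse image ideals on the projective line are effective Cartier
-/

set_option autoImplicit false
set_option linter.unusedSectionVars false
set_option linter.style.haveILetI false
universe u

open CategoryTheory CategoryTheory.Limits AlgebraicGeometry MvPolynomial HomogeneousLocalization
  TopologicalSpace

namespace Groth.Agent.Helper4.SN371

open Groth.Agent.Helper4.SN Groth.Agent.Helper4.SN.P1Chart

variable (k : Type u) [Field k]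

/-- an ideal sheaf on the projective line whose support is not everything is effective Cartier -/
theorem isEffCartierIdeal_P1 (𝓙 : (CohB1.ProjSpace 1 k).IdealSheafData)
    (h : (𝓙.support : Set (CohB1.ProjSpace 1 k)) ≠ Set.univ) : BlowUp.IsEffCartierIdeal 𝓙 := by
  intro x
  obtain ⟨i, hxi⟩ := exists_mem_basicOpen_P1 k x
  obtain ⟨j, hij⟩ : ∃ j : Fin 2, i ≠ j := by
    fin_cases i
    · exact ⟨1, by decide⟩
    · exact ⟨0, by decide⟩
  have hU : IsAffineOpen (Proj.basicOpen (CohB1.polyGrading 1 k) (X i : MvPolynomial (Fin 2) k)) :=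
    Proj.isAffineOpen_basicOpen (CohB1.polyGrading 1 k) (X i) (Xi_mem k i) Nat.one_pos
  let e := Proj.basicOpenIsoAway (CohB1.polyGrading 1 k) (X i : MvPolynomial (Fin 2) k)
    (Xi_mem k i) Nat.one_pos
  let U : (CohB1.ProjSpace 1 k).affineOpens :=
    ⟨Proj.basicOpen (CohB1.polyGrading 1 k) (X i : MvPolynomial (Fin 2) k), hU⟩
  let ε : Γ(CohB1.ProjSpace 1 k, U.1) ≃+* Polynomial k :=
    e.commRingCatIsoToRingEquiv.symm.trans (equivPoly k i j hij)
  haveI : IsDomain Γ(CohB1.ProjSpace 1 k, U.1) := ε.toMulEquiv.isDomain _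
  haveI : IsPrincipalIdealRing Γ(CohB1.ProjSpace 1 k, U.1) :=
    IsPrincipalIdealRing.of_surjective ε.symm.toRingHom ε.symm.surjective
  refine ⟨U, hxi, ?_⟩
  obtain ⟨g, hg⟩ := (IsPrincipalIdealRing.principal (𝓙.ideal U)).principal
  refine ⟨g, ?_, hg⟩
  have hg0 : g ≠ 0 := by
    rintro rfl
    apply h
    have hbot : 𝓙.ideal U = ⊥ := by
      rw [hg]; exact Ideal.span_singleton_eq_bot.mpr rfl
    have hsub : (U.1 : Set (CohB1.ProjSpace 1 k)) ⊆ 𝓙.support := by
      intro y hy
      rw [SetLike.mem_coe, Scheme.IdealSheafData.mem_support_iff_of_mem (U := U) hy,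
        Scheme.mem_zeroLocus_iff]
      intro a ha
      rw [hbot] at ha
      have : a = 0 := ha
      subst this
      rw [Scheme.basicOpen_zero]
      exact fun hh => hh
    have hdense : Dense (U.1 : Set (CohB1.ProjSpace 1 k)) :=
      (U.1.isOpen.dense ⟨x, hxi⟩)
    have := hdense.closure_eq
    rw [← Set.univ_subset_iff, ← this]
    exact closure_minimal hsub 𝓙.support.isClosed
  exact mem_nonZeroDivisors_of_ne_zero hg0

end Groth.Agent.Helper4.SN371

namespace Groth.Agent.Helper4.SN371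

theorem main17086
    {k : Type u} [Field k] (X : Scheme.{u})
    (Z : Scheme.{u}) (iZ : Z ⟶ X) [IsClosedImmersion iZ]
    (B : Scheme.{u}) (σ : B ⟶ X) (hσ : BlowUp.IsBlowUp σ iZ.ker)
    (f : CohB1.ProjSpace 1 k ⟶ X)
    (hfZ : ¬ Set.range f ⊆ Set.range iZ) :
    ∃! g : CohB1.ProjSpace 1 k ⟶ B, g ≫ σ = f := by
  apply hσ.2
  apply isEffCartierIdeal_P1
  intro hs
  apply hfZ
  rintro _ ⟨y, rfl⟩
  have hy : y ∈ ((iZ.ker.comap f).support : Set (CohB1.ProjSpace 1 k)) := by
    rw [hs]; trivial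
  rw [Scheme.IdealSheafData.support_comap, TopologicalSpace.Closeds.coe_preimage,
    Set.mem_preimage, Scheme.Hom.support_ker, iZ.isClosedEmbedding.isClosed_range.closure_eq] at hy
  exact hy

end Groth.Agent.Helper4.SN371
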