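import Mathlib
import Groth.Prelude.Def_RelProj
import Groth.Agent.Helper4.QAffSec
import Groth.Agent.Helper4.TensorInv

/-!
# Dense affine opens in Noetherian schemes; affine opens are quasi-projective over the base
-/

set_option autoImplicit false
set_option linter.unusedSectionVars false
set_option linter.style.haveILetI false
universe u

open CategoryTheory CategoryTheory.Limits AlgebraicGeometry TopologicalSpace

namespace Groth.Agent.Helper4.SN372

/-- in a scheme with Noetherian underlying space every point has a dense affine open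
neighbourhood -/
theorem exists_dense_affine_nhd (X : Scheme.{u}) [NoetherianSpace X] (x : X) :
    ∃ U : X.Opens, IsAffineOpen U ∧ x ∈ U ∧ Dense (U : Set X) := by
  let 𝓕 : Set X.Opens := {U | IsAffineOpen U ∧ x ∈ U}
  have hne : 𝓕.Nonempty := by
    obtain ⟨_, ⟨V, hV, rfl⟩, hxV, -⟩ := X.isBasis_affineOpens.exists_subset_of_mem_open
      (Set.mem_univ x) isOpen_univ
    exact ⟨V, hV, hxV⟩
  obtain ⟨U, ⟨hU, hxU⟩, hmax⟩ :=
    (wellFounded_gt (α := X.Opens)).has_min 𝓕 hne
  refine ⟨U, hU, hxU, ?_⟩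
  by_contra hd
  have hW : ((closure (U : Set X))ᶜ).Nonempty := by
    rw [Set.nonempty_compl]
    intro h
    exact hd (dense_iff_closure_eq.mpr h)
  obtain ⟨y, hy⟩ := hW
  obtain ⟨_, ⟨V, hV, rfl⟩, hyV, hVW⟩ := X.isBasis_affineOpens.exists_subset_of_mem_open
    hy isClosed_closure.isOpen_compl
  have hdis : Disjoint U V := by
    rw [← TopologicalSpace.Opens.coe_disjoint, Set.disjoint_left]
    intro z hzU hzV
    exact hVW hzV (subset_closure hzU)
  have hUV : IsAffineOpen (U ⊔ V) := hU.sup_of_disjoint hV hdis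
  apply hmax (U ⊔ V) ⟨hUV, Or.inl hxU⟩
  show U < U ⊔ V
  refine lt_of_le_of_ne le_sup_left ?_
  intro h
  have hyU : y ∈ U := by rw [h]; exact Or.inr hyV
  exact hy (subset_closure hyU)

/-- a quasi-compact scheme with Noetherian underlying space is covered by finitely many dense
affine opens -/
theorem exists_finite_dense_affine_cover (X : Scheme.{u}) [NoetherianSpace X] :
    ∃ (n : ℕ) (U : Fin n → X.Opens), (⨆ i, U i) = ⊤ ∧
      ∀ i, IsAffineOpen (U i) ∧ Dense ((U i : Set X)) := by
  choose W hWa hxW hWd using exists_dense_affine_nhd X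
  have hcov : (Set.univ : Set X) ⊆ ⋃ x, (W x : Set X) := fun x _ =>
    Set.mem_iUnion.mpr ⟨x, hxW x⟩
  obtain ⟨t, ht⟩ := isCompact_univ.elim_finite_subcover (fun x => (W x : Set X))
    (fun x => (W x).isOpen) hcov
  refine ⟨t.card, fun i => W (t.equivFin.symm i), ?_, fun i => ⟨hWa _, hWd _⟩⟩
  rw [eq_top_iff]
  intro y _
  obtain ⟨x, hx, hyx⟩ := Set.mem_iUnion₂.mp (ht (Set.mem_univ y))
  refine TopologicalSpace.Opens.mem_iSup.mpr ⟨t.equivFin ⟨x, hx⟩, ?_⟩
  show y ∈ W (t.equivFin.symm (t.equivFin ⟨x, hx⟩))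
  rw [Equiv.symm_apply_apply]
  exact hyx

end Groth.Agent.Helper4.SN372

namespace Groth.Agent.Helper4.SN372

/-- an affine open of a scheme with Noetherian underlying space is quasi-projective over any base
over which the scheme is locally of finite type -/
theorem isQuasiProjective_affineOpen {X S : Scheme.{u}} (f : X ⟶ S) [LocallyOfFiniteType f]
    [NoetherianSpace X] (U : X.Opens) (hU : IsAffineOpen U) :
    RelProj.IsQuasiProjective (U.ι ≫ f) := by
  haveI : IsAffine (U : Scheme.{u}) := hU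
  have hqc : QuasiCompact (U.ι ≫ f) := inferInstance
  refine ⟨inferInstance, hqc, Coh.structureModule (U : Scheme.{u}), hqc, fun V => ?_⟩
  have hO : PicF.IsInvertible (Coh.structureModule (U : Scheme.{u})) :=
    Groth.Agent.Helper4.TensorInv.isInvertible_structureModule
  haveI : CompactSpace (((U.ι ≫ f) ⁻¹ᵁ V.1 : (U : Scheme.{u}).Opens) : Scheme.{u}) :=
    isCompact_iff_compactSpace.mp
      (hqc.isCompact_preimage _ V.1.isOpen V.2.isCompact)
  haveI : (((U.ι ≫ f) ⁻¹ᵁ V.1 : (U : Scheme.{u}).Opens) : Scheme.{u}).IsQuasiAffine :=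
    Scheme.IsQuasiAffine.of_isImmersion ((U.ι ≫ f) ⁻¹ᵁ V.1).ι
  exact Groth.Agent.Helper4.QAffSec.isAmple_of_isQuasiAffine _
    (Groth.Agent.Helper4.QAffSec.isInvertible_restrict _ hO)

theorem main17886 {S X : Scheme.{u}} (f : X ⟶ S)
    [IsNoetherian S] [QuasiCompact f] [LocallyOfFiniteType f] :
    ∃ (n : ℕ) (U : Fin n → X.Opens), (⨆ i, U i) = ⊤ ∧
      ∀ i, IsAffineOpen (U i) ∧ Dense ((U i : Set X)) ∧
        RelProj.IsQuasiProjective ((U i).ι ≫ f) := by
  haveI : IsLocallyNoetherian X := LocallyOfFiniteType.isLocallyNoetherian f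
  haveI : CompactSpace X := QuasiCompact.compactSpace_of_compactSpace f
  haveI : IsNoetherian X := {}
  obtain ⟨n, U, hcov, hU⟩ := exists_finite_dense_affine_cover X
  exact ⟨n, U, hcov, fun i => ⟨(hU i).1, (hU i).2, isQuasiProjective_affineOpen f (U i) (hU i).1⟩⟩

end Groth.Agent.Helper4.SN372
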