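import Mathlib
import Groth.Prelude.Def_Rees

/-!
# Functoriality and localization of the Rees algebra
-/

set_option autoImplicit false
set_option linter.unusedSectionVars false
set_option linter.style.haveILetI false
universe u

open Polynomial

namespace Groth.Agent.Helper4.SN373

variable {A B C : Type u} [CommRing A] [CommRing B] [CommRing C]

theorem map_mem_rees (φ : A →+* B) (I : Ideal A) (J : Ideal B) (h : I.map φ ≤ J)
    (p : A[X]) (hp : p ∈ reesAlgebra I) : p.map φ ∈ reesAlgebra J := by
  rw [mem_reesAlgebra_iff] at hp ⊢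
  intro i
  rw [Polynomial.coeff_map]
  have h1 : φ (p.coeff i) ∈ (I ^ i).map φ := Ideal.mem_map_of_mem φ (hp i)
  rw [Ideal.map_pow] at h1
  exact Ideal.pow_right_mono h i h1

/-- the map of Rees algebras induced by a ring homomorphism -/
noncomputable def reesMap (φ : A →+* B) (I : Ideal A) (J : Ideal B) (h : I.map φ ≤ J) :
    reesAlgebra I →+* reesAlgebra J :=
  ((Polynomial.mapRingHom φ).comp (reesAlgebra I).val.toRingHom).codRestrict (reesAlgebra J)
    (fun x => map_mem_rees φ I J h x.1 x.2)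

@[simp] theorem coe_reesMap (φ : A →+* B) (I : Ideal A) (J : Ideal B) (h : I.map φ ≤ J)
    (x : reesAlgebra I) : ((reesMap φ I J h x : reesAlgebra J) : B[X]) = (x : A[X]).map φ := rfl

theorem reesMap_algebraMap (φ : A →+* B) (I : Ideal A) (J : Ideal B) (h : I.map φ ≤ J) (a : A) :
    reesMap φ I J h (algebraMap A (reesAlgebra I) a) = algebraMap B (reesAlgebra J) (φ a) := by
  apply Subtype.ext
  rw [coe_reesMap]
  show (Polynomial.C a).map φ = Polynomial.C (φ a)
  rw [Polynomial.map_C]

theorem reesMap_id (I : Ideal A) (h : I.map (RingHom.id A) ≤ I) (x : reesAlgebra I) :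
    reesMap (RingHom.id A) I I h x = x := by
  apply Subtype.ext
  rw [coe_reesMap, Polynomial.map_id]

theorem reesMap_comp (φ : A →+* B) (ψ : B →+* C) (I : Ideal A) (J : Ideal B) (K : Ideal C)
    (h : I.map φ ≤ J) (h' : J.map ψ ≤ K) (h'' : I.map (ψ.comp φ) ≤ K) (x : reesAlgebra I) :
    reesMap (ψ.comp φ) I K h'' x = reesMap ψ J K h' (reesMap φ I J h x) := by
  apply Subtype.ext
  rw [coe_reesMap, coe_reesMap, coe_reesMap, Polynomial.map_map]

theorem reesMap_congr {φ φ' : A →+* B} (e : φ = φ') (I : Ideal A) (J : Ideal B)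
    (h : I.map φ ≤ J) (h' : I.map φ' ≤ J) (x : reesAlgebra I) :
    reesMap φ I J h x = reesMap φ' I J h' x := by
  subst e; rfl

/-- degrees are preserved -/
theorem reesMap_mem_deg (φ : A →+* B) (I : Ideal A) (J : Ideal B) (h : I.map φ ≤ J) {n : ℕ}
    {x : reesAlgebra I} (hx : x ∈ Rees.deg (reesAlgebra I) n) :
    reesMap φ I J h x ∈ Rees.deg (reesAlgebra J) n := by
  rw [Rees.mem_deg_iff] at hx ⊢
  intro m hm
  rw [coe_reesMap, Polynomial.coeff_map, hx m hm, map_zero]

end Groth.Agent.Helper4.SN373
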