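import Mathlib
import Groth.Agent.Helper4.SN373

/-!
# The Rees algebra commutes with localization at one element
-/

set_option autoImplicit false
set_option linter.unusedSectionVars false
set_option linter.style.haveILetI false
universe u

open Polynomial

namespace Groth.Agent.Helper4.SN374

open Groth.Agent.Helper4.SN373

variable {A B : Type u} [CommRing A] [CommRing B] [Algebra A B] (r : A)
  [IsLocalization.Away r B] (I : Ideal A)

local notation "φ" => algebraMap A B

include r in
theorem exists_mono {i : ℕ} {b : B} (hb : b ∈ (I.map φ) ^ i) :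
    ∃ a ∈ I ^ i, ∃ n : ℕ, b * φ r ^ n = φ a := by
  rw [← Ideal.map_pow,
    IsLocalization.mem_map_algebraMap_iff (Submonoid.powers r) B] at hb
  obtain ⟨⟨a, ⟨_, n, rfl⟩⟩, h⟩ := hb
  exact ⟨a.1, a.2, n, by simpa using h⟩

/-- the predicate: becomes an element of the Rees algebra of `I` after multiplication by a power
of `r` -/
def Q (p : B[X]) : Prop :=
  ∃ (q : A[X]) (n : ℕ), q ∈ reesAlgebra I ∧ p * C (φ r) ^ n = q.map φ

theorem C_mem (a : A) : (C a : A[X]) ∈ reesAlgebra I :=
  (reesAlgebra I).algebraMap_mem a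

theorem Q_zero : Q r I (0 : B[X]) := ⟨0, 0, (reesAlgebra I).zero_mem, by simp⟩

theorem Q_add {p p' : B[X]} (h : Q r I p) (h' : Q r I p') : Q r I (p + p') := by
  obtain ⟨q, n, hq, e⟩ := h
  obtain ⟨q', n', hq', e'⟩ := h'
  refine ⟨q * C r ^ n' + q' * C r ^ n, n + n', ?_, ?_⟩
  · exact (reesAlgebra I).add_mem
      ((reesAlgebra I).mul_mem hq ((reesAlgebra I).pow_mem (C_mem I r) _))
      ((reesAlgebra I).mul_mem hq' ((reesAlgebra I).pow_mem (C_mem I r) _))
  · rw [Polynomial.map_add, Polynomial.map_mul, Polynomial.map_mul, Polynomial.map_pow,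
      Polynomial.map_pow, Polynomial.map_C, ← e, ← e']
    ring

theorem Q_monomial {i : ℕ} {b : B} (hb : b ∈ (I.map φ) ^ i) : Q r I (monomial i b) := by
  obtain ⟨a, ha, n, e⟩ := exists_mono r I hb
  refine ⟨monomial i a, n, reesAlgebra.monomial_mem.mpr ha, ?_⟩
  rw [Polynomial.map_monomial, ← e, ← C_pow, Polynomial.monomial_mul_C]

theorem Q_of_mem {p : B[X]} (hp : p ∈ reesAlgebra (I.map φ)) : Q r I p := by
  rw [p.as_sum_support]
  refine Finset.sum_induction _ (Q r I) (fun _ _ => Q_add r I) (Q_zero r I) ?_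
  intro i _
  exact Q_monomial r I ((mem_reesAlgebra_iff _ _).mp hp i)

include r in
theorem exists_pow_mul_eq_zero (d : A[X]) (hd : d.map φ = 0) : ∃ N : ℕ, C r ^ N * d = 0 := by
  have h1 : ∀ i, ∃ n : ℕ, r ^ n * d.coeff i = 0 := by
    intro i
    have h2 : φ (d.coeff i) = φ 0 := by
      rw [map_zero, ← Polynomial.coeff_map, hd, Polynomial.coeff_zero]
    obtain ⟨⟨_, n, rfl⟩, hc⟩ := IsLocalization.exists_of_eq (M := Submonoid.powers r) h2
    exact ⟨n, by simpa using hc⟩
  choose n hn using h1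
  refine ⟨d.support.sup n, ?_⟩
  ext i
  rw [← C_pow, Polynomial.coeff_C_mul, Polynomial.coeff_zero]
  by_cases hi : i ∈ d.support
  · have hle : n i ≤ d.support.sup n := Finset.le_sup hi
    obtain ⟨k, hk⟩ := Nat.exists_eq_add_of_le hle
    rw [hk, pow_add, mul_comm (r ^ n i), mul_assoc, hn i, mul_zero]
  · rw [Polynomial.notMem_support_iff.mp hi, mul_zero]

/-- the Rees algebra of the extended ideal is the localization of the Rees algebra -/
theorem isLocalization_rees (J : Ideal B) (hJ : J = I.map φ) :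
    letI := (reesMap φ I J hJ.ge).toAlgebra
    IsLocalization.Away (algebraMap A (reesAlgebra I) r) (reesAlgebra J) := by
  subst hJ
  letI := (reesMap φ I (I.map φ) le_rfl).toAlgebra
  have halg : ∀ x : reesAlgebra I,
      algebraMap (reesAlgebra I) (reesAlgebra (I.map φ)) x = reesMap φ I (I.map φ) le_rfl x :=
    fun _ => rfl
  have hunit : IsUnit (φ r) := IsLocalization.Away.algebraMap_isUnit r
  refine ⟨?_, ?_, ?_⟩
  · rintro ⟨_, n, rfl⟩
    rw [halg, map_pow, reesMap_algebraMap]
    exact (hunit.map (algebraMap B (reesAlgebra (I.map φ)))).pow n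
  · intro z
    obtain ⟨q, n, hq, e⟩ := Q_of_mem r I z.2
    refine ⟨(⟨q, hq⟩, ⟨_, n, rfl⟩), ?_⟩
    apply Subtype.ext
    rw [halg, halg, coe_reesMap]
    show (z : B[X]) * ((reesMap φ I (I.map φ) le_rfl
      (algebraMap A (reesAlgebra I) r ^ n) : reesAlgebra (I.map φ)) : B[X]) = q.map φ
    rw [map_pow, reesMap_algebraMap, ← e]
    rfl
  · intro x y hxy
    rw [halg, halg] at hxy
    have h1 : ((x : A[X]) - (y : A[X])).map φ = 0 := by
      rw [Polynomial.map_sub, sub_eq_zero]
      exact congrArg Subtype.val hxy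
    obtain ⟨N, hN⟩ := exists_pow_mul_eq_zero r _ h1
    refine ⟨⟨_, N, rfl⟩, ?_⟩
    apply Subtype.ext
    show (C r ^ N : A[X]) * (x : A[X]) = C r ^ N * (y : A[X])
    rw [← sub_eq_zero, ← mul_sub]
    exact hN

end Groth.Agent.Helper4.SN374
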