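import Mathlib
import Groth.Agent.Helper4.SN374
import Groth.Agent.Helper1.AQ2

/-!
# The Rees algebra of a quasi-coherent ideal, on the affine site
-/

set_option autoImplicit false
set_option linter.unusedSectionVars false
set_option linter.style.haveILetI false
universe u

open CategoryTheory Limits AlgebraicGeometry TopologicalSpace Opposite Polynomial

namespace Groth.Agent.Helper4.SN375

open Groth.Agent.Helper4.SN373 Groth.Agent.Helper4.SN374

variable {X : Scheme.{u}} (𝓘 : X.IdealSheafData)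

/-- the ideal over an object of the affine site -/
abbrev idl (U : X.AffineZariskiSite) : Ideal Γ(X, U.1) := 𝓘.ideal ⟨U.1, U.2⟩

/-- the restriction map of Rees algebras -/
noncomputable def resMap {U V : X.AffineZariskiSite} (i : V.1 ≤ U.1) :
    reesAlgebra (idl 𝓘 U) →+* reesAlgebra (idl 𝓘 V) :=
  reesMap (X.presheaf.map (homOfLE i).op).hom (idl 𝓘 U) (idl 𝓘 V)
    (𝓘.map_ideal' (U := ⟨V.1, V.2⟩) (V := ⟨U.1, U.2⟩) (homOfLE i).op).le

theorem coe_resMap {U V : X.AffineZariskiSite} (i : V.1 ≤ U.1) (x : reesAlgebra (idl 𝓘 U)) :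
    ((resMap 𝓘 i x : reesAlgebra (idl 𝓘 V)) : Γ(X, V.1)[X]) =
      (x : Γ(X, U.1)[X]).map (X.presheaf.map (homOfLE i).op).hom := rfl

/-- the Rees algebra as a functor on the affine site -/
noncomputable def F : X.AffineZariskiSiteᵒᵖ ⥤ CommRingCat.{u} where
  obj U := CommRingCat.of (reesAlgebra (idl 𝓘 U.unop))
  map {U V} i := CommRingCat.ofHom (resMap 𝓘 (Scheme.AffineZariskiSite.toOpens_mono i.unop.le))
  map_id U := by
    refine CommRingCat.hom_ext (RingHom.ext fun x => ?_)
    apply Subtype.ext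
    show ((resMap 𝓘 _ x : reesAlgebra (idl 𝓘 U.unop)) : Γ(X, U.unop.1)[X]) = _
    rw [coe_resMap]
    have : (X.presheaf.map (homOfLE (Scheme.AffineZariskiSite.toOpens_mono
        (𝟙 U : U ⟶ U).unop.le)).op).hom = RingHom.id _ := by
      have h1 : (homOfLE (Scheme.AffineZariskiSite.toOpens_mono
        (𝟙 U : U ⟶ U).unop.le)).op = 𝟙 (op U.unop.1) := Subsingleton.elim _ _
      rw [h1, X.presheaf.map_id]
      rfl
    rw [this, Polynomial.map_id]
    rfl
  map_comp {U V W} f g := by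
    refine CommRingCat.hom_ext (RingHom.ext fun x => ?_)
    apply Subtype.ext
    show ((resMap 𝓘 _ x : reesAlgebra (idl 𝓘 W.unop)) : Γ(X, W.unop.1)[X]) =
      ((resMap 𝓘 _ (resMap 𝓘 _ x) : reesAlgebra (idl 𝓘 W.unop)) : Γ(X, W.unop.1)[X])
    rw [coe_resMap, coe_resMap, coe_resMap, Polynomial.map_map]
    congr 1
    rw [← CommRingCat.hom_comp, ← X.presheaf.map_comp]
    rfl

/-- the structure map -/
noncomputable def α : (Scheme.AffineZariskiSite.toOpensFunctor X).op ⋙ X.presheaf ⟶ F 𝓘 where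
  app U := CommRingCat.ofHom (algebraMap Γ(X, U.unop.1) (reesAlgebra (idl 𝓘 U.unop)))
  naturality {U V} i := by
    refine CommRingCat.hom_ext (RingHom.ext fun a => ?_)
    exact (reesMap_algebraMap (X.presheaf.map
      (homOfLE (Scheme.AffineZariskiSite.toOpens_mono i.unop.le)).op).hom _ _
      (𝓘.map_ideal' (U := ⟨V.unop.1, V.unop.2⟩) (V := ⟨U.unop.1, U.unop.2⟩) _).le a).symm

theorem coequifibered : (α 𝓘).Coequifibered := by
  rw [Scheme.AffineZariskiSite.coequifibered_iff_forall_isLocalizationAway]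
  intro U f
  letI alg : Algebra Γ(X, U.toOpens) Γ(X, X.basicOpen f) :=
    (X.presheaf.map (homOfLE (X.basicOpen_le f)).op).hom.toAlgebra
  haveI : IsLocalization.Away f Γ(X, X.basicOpen f) := U.2.isLocalization_basicOpen f
  have hJ : idl 𝓘 (U.basicOpen f) = (idl 𝓘 U).map (@algebraMap Γ(X, U.toOpens) Γ(X, X.basicOpen f) _ _ alg) :=
    (𝓘.map_ideal_basicOpen ⟨U.1, U.2⟩ f).symm
  have key := @isLocalization_rees Γ(X, U.toOpens) Γ(X, X.basicOpen f) _ _ alg f _
    (idl 𝓘 U) (idl 𝓘 (U.basicOpen f)) hJ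
  exact key

end Groth.Agent.Helper4.SN375
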