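import Mathlib
import Groth.Prelude.Def_RelProj
import Groth.Agent.Helper4.SN375
import Groth.Agent.Helper4.NApx33
import Groth.Agent.Helper1.SG2

/-!
# The Rees algebra of a quasi-coherent ideal as a quasi-coherent graded algebra
-/

set_option autoImplicit false
set_option linter.unusedSectionVars false
set_option linter.style.haveILetI false
universe u

open CategoryTheory Limits AlgebraicGeometry TopologicalSpace Opposite Polynomial RelSpec RelProj

namespace Groth.Agent.Helper4.SN376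

open Groth.Agent.Helper4.SN373 Groth.Agent.Helper4.SN374 Groth.Agent.Helper4.SN375
open Groth.Agent.Helper1

variable {X : Scheme.{u}} (𝓘 : X.IdealSheafData)

/-- the Rees algebra as a quasi-coherent algebra -/
noncomputable def reesQC : QCAlg X := AQ.alg (coequifibered 𝓘)

/-- the Rees algebra over an affine open -/
abbrev R (U : X.Opens) (hU : IsAffineOpen U) : Subalgebra Γ(X, U) Γ(X, U)[X] :=
  reesAlgebra (𝓘.ideal ⟨U, hU⟩)

/-- sections over an affine open are the Rees algebra -/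
noncomputable def secEquiv (U : X.Opens) (hU : IsAffineOpen U) :
    (reesQC 𝓘).presheaf.obj (op U) ≃+* R 𝓘 U hU :=
  (asIso (AQ.gammaAff (coequifibered 𝓘) U hU)).commRingCatIsoToRingEquiv

theorem secEquiv_apply (U : X.Opens) (hU : IsAffineOpen U) (x : (reesQC 𝓘).presheaf.obj (op U)) :
    secEquiv 𝓘 U hU x = (AQ.gammaAff (coequifibered 𝓘) U hU).hom x := rfl

theorem secEquiv_str (U : X.Opens) (hU : IsAffineOpen U) (r : Γ(X, U)) :
    secEquiv 𝓘 U hU (((reesQC 𝓘).str.app (op U)).hom r) = algebraMap Γ(X, U) (R 𝓘 U hU) r := by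
  have h := AQ.π_app_gammaAff (coequifibered 𝓘) U hU
  have h2 := congrArg (fun φ => φ.hom r) h
  exact h2

theorem secEquiv_res_basic (U : X.Opens) (hU : IsAffineOpen U) (f : Γ(X, U))
    (x : (reesQC 𝓘).presheaf.obj (op U)) :
    secEquiv 𝓘 (X.basicOpen f) (hU.basicOpen f)
        (((reesQC 𝓘).presheaf.map (homOfLE (X.basicOpen_le f)).op).hom x) =
      resMap 𝓘 (U := ⟨U, hU⟩) (V := ⟨X.basicOpen f, hU.basicOpen f⟩) (X.basicOpen_le f)
        (secEquiv 𝓘 U hU x) := by
  have h := AQ.gammaAff_naturality (coequifibered 𝓘)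
    (U := ⟨U, hU⟩) (V := ⟨X.basicOpen f, hU.basicOpen f⟩)
    (homOfLE (Scheme.AffineZariskiSite.basicOpen_le ⟨U, hU⟩ f))
  have h2 := congrArg (fun φ => φ.hom x) h
  exact h2

theorem secEquiv_res (U : X.Opens) (hU : IsAffineOpen U) (f : Γ(X, U))
    (W : X.Opens) (hW : IsAffineOpen W) (e : W = X.basicOpen f) (i : W ≤ U)
    (x : (reesQC 𝓘).presheaf.obj (op U)) :
    secEquiv 𝓘 W hW (((reesQC 𝓘).presheaf.map (homOfLE i).op).hom x) =
      resMap 𝓘 (U := ⟨U, hU⟩) (V := ⟨W, hW⟩) i (secEquiv 𝓘 U hU x) := by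
  subst e
  exact secEquiv_res_basic 𝓘 U hU f x

end Groth.Agent.Helper4.SN376
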