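import Mathlib
import Groth.Agent.Helper4.SN376

/-!
# The Rees algebra of a quasi-coherent ideal: grading, generation in degree one, finite type
-/

set_option autoImplicit false
set_option linter.unusedSectionVars false
set_option linter.style.haveILetI false
universe u

open CategoryTheory Limits AlgebraicGeometry TopologicalSpace Opposite Polynomial RelSpec RelProj

namespace Groth.Agent.Helper4.SN377

open Groth.Agent.Helper4.SN373 Groth.Agent.Helper4.SN374 Groth.Agent.Helper4.SN375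
  Groth.Agent.Helper4.SN376
open Groth.Agent.Helper1

section Ring

variable {A : Type u} [CommRing A] (I : Ideal A)

theorem algebraMap_mem_deg_zero (a : A) :
    algebraMap A (reesAlgebra I) a ∈ Rees.deg (reesAlgebra I) 0 := by
  rw [Rees.mem_deg_iff]
  intro m hm
  show (C a : A[X]).coeff m = 0
  rw [Polynomial.coeff_C, if_neg hm]

/-- `a T` as an element of the Rees algebra -/
noncomputable def mono1 (a : A) (ha : a ∈ I) : reesAlgebra I :=
  ⟨monomial 1 a, reesAlgebra.monomial_mem.mpr (by rwa [pow_one])⟩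

theorem mono1_mem (a : A) (ha : a ∈ I) : mono1 I a ha ∈ Rees.deg (reesAlgebra I) 1 := by
  rw [Rees.mem_deg_iff]
  intro m hm
  show (monomial 1 a : A[X]).coeff m = 0
  rw [Polynomial.coeff_monomial, if_neg (Ne.symm hm)]

theorem eq_mono1 {x : reesAlgebra I} (hx : x ∈ Rees.deg (reesAlgebra I) 1) :
    ∃ (a : A) (ha : a ∈ I), x = mono1 I a ha := by
  refine ⟨(x : A[X]).coeff 1, by simpa using (mem_reesAlgebra_iff _ _).mp x.2 1, ?_⟩
  apply Subtype.ext
  show (x : A[X]) = monomial 1 ((x : A[X]).coeff 1)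
  ext m
  rw [Polynomial.coeff_monomial]
  by_cases hm : 1 = m
  · rw [if_pos hm, hm]
  · rw [if_neg hm]
    exact (Rees.mem_deg_iff _ _ _).mp hx m (Ne.symm hm)

/-- the Rees algebra is generated by its parts of degree zero and one -/
theorem closure_deg_zero_one :
    Subring.closure ((Rees.deg (reesAlgebra I) 0 : Set (reesAlgebra I)) ∪
      (Rees.deg (reesAlgebra I) 1 : Set (reesAlgebra I))) = ⊤ := by
  rw [eq_top_iff]
  rintro ⟨p, hp⟩ -
  have hp' : p ∈ Algebra.adjoin A (Submodule.map (monomial 1 : A →ₗ[A] A[X]) I : Set A[X]) := by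
    rw [adjoin_monomial_eq_reesAlgebra]; exact hp
  set T := Subring.closure ((Rees.deg (reesAlgebra I) 0 : Set (reesAlgebra I)) ∪
      (Rees.deg (reesAlgebra I) 1 : Set (reesAlgebra I))) with hT
  suffices h : ∃ h : p ∈ reesAlgebra I, (⟨p, h⟩ : reesAlgebra I) ∈ T by
    obtain ⟨_, h2⟩ := h
    exact h2
  clear hp
  induction hp' using Algebra.adjoin_induction with
  | mem x hx =>
    obtain ⟨a, ha, rfl⟩ := hx
    exact ⟨(mono1 I a ha).2, Subring.subset_closure (Or.inr (mono1_mem I a ha))⟩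
  | algebraMap r =>
    exact ⟨(algebraMap A (reesAlgebra I) r).2,
      Subring.subset_closure (Or.inl (algebraMap_mem_deg_zero I r))⟩
  | add x y _ _ hx hy =>
    obtain ⟨h1, h2⟩ := hx
    obtain ⟨h3, h4⟩ := hy
    exact ⟨(reesAlgebra I).add_mem h1 h3, T.add_mem h2 h4⟩
  | mul x y _ _ hx hy =>
    obtain ⟨h1, h2⟩ := hx
    obtain ⟨h3, h4⟩ := hy
    exact ⟨(reesAlgebra I).mul_mem h1 h3, T.mul_mem h2 h4⟩

end Ring


section Sheaf

variable {X : Scheme.{u}} (𝓘 : X.IdealSheafData)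

/-- the degree `d` part of the Rees algebra over an affine open -/
noncomputable def deg (U : X.Opens) (hU : IsAffineOpen U) (d : ℕ) :
    AddSubgroup ((reesQC 𝓘).presheaf.obj (op U)) :=
  SG.mapDeg (Rees.deg (R 𝓘 U hU)) (secEquiv 𝓘 U hU).symm d

theorem mem_deg (U : X.Opens) (hU : IsAffineOpen U) (d : ℕ)
    (x : (reesQC 𝓘).presheaf.obj (op U)) :
    x ∈ deg 𝓘 U hU d ↔ secEquiv 𝓘 U hU x ∈ Rees.deg (R 𝓘 U hU) d := Iff.rfl

theorem res_mem {U V : X.Opens} (hU : IsAffineOpen U) (hV : IsAffineOpen V) (i : V ≤ U) {d : ℕ}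
    {x : (reesQC 𝓘).presheaf.obj (op U)} (hx : x ∈ deg 𝓘 U hU d) :
    ((reesQC 𝓘).presheaf.map (homOfLE i).op).hom x ∈ deg 𝓘 V hV d := by
  rw [mem_deg] at hx ⊢
  rw [Rees.mem_deg_iff]
  intro m hm
  set y := ((reesQC 𝓘).presheaf.map (homOfLE i).op).hom x with hy
  apply Groth.Agent.Helper4.NApx33.sec_ext
  intro p hp
  obtain ⟨f, g, hfg, hpf⟩ := exists_basicOpen_le_affine_inter hU hV p ⟨i hp, hp⟩
  refine ⟨X.basicOpen g, X.basicOpen_le g, hfg ▸ hpf, ?_⟩
  rw [map_zero]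
  have hD : IsAffineOpen (X.basicOpen g) := hV.basicOpen g
  have h1 := secEquiv_res_basic 𝓘 V hV g y
  have h2 := secEquiv_res 𝓘 U hU f (X.basicOpen g) hD hfg.symm ((X.basicOpen_le g).trans i) x
  have h3 : ((reesQC 𝓘).presheaf.map (homOfLE (X.basicOpen_le g)).op).hom y =
      ((reesQC 𝓘).presheaf.map (homOfLE ((X.basicOpen_le g).trans i)).op).hom x := by
    rw [hy, ← CommRingCat.comp_apply, ← (reesQC 𝓘).presheaf.map_comp]
    rfl
  rw [h3, h2] at h1
  have h4 := reesMap_mem_deg _ _ _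
    (𝓘.map_ideal' (U := ⟨X.basicOpen g, hD⟩) (V := ⟨U, hU⟩)
      (homOfLE ((X.basicOpen_le g).trans i)).op).le hx
  have h5 := (Rees.mem_deg_iff _ _ _).mp h4 m hm
  have h6 := congrArg (fun z : R 𝓘 (X.basicOpen g) hD => (z : Γ(X, X.basicOpen g)[X]).coeff m) h1
  simp only at h6
  have h7 : ((resMap 𝓘 (U := ⟨V, hV⟩) (V := ⟨X.basicOpen g, hV.basicOpen g⟩) (X.basicOpen_le g)
      (secEquiv 𝓘 V hV y) : R 𝓘 (X.basicOpen g) hD) : Γ(X, X.basicOpen g)[X]).coeff m =
      (X.presheaf.map (homOfLE (X.basicOpen_le g)).op).hom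
        ((secEquiv 𝓘 V hV y : Γ(X, V)[X]).coeff m) := by
    rw [coe_resMap, Polynomial.coeff_map]
  rw [← h7, ← h6]
  exact h5

/-- the Rees algebra as a quasi-coherent graded algebra -/
noncomputable def reesGr : QCGrAlg X where
  toQCAlg := reesQC 𝓘
  deg U hU n := deg 𝓘 U hU n
  graded U hU := SG.gradedRing_mapDeg (Rees.deg (R 𝓘 U hU)) (secEquiv 𝓘 U hU).symm
  map_mem hU hV i _ _ hx := res_mem 𝓘 hU hV i hx
  str_mem U hU r := by
    show ((reesQC 𝓘).str.app (op U)).hom r ∈ deg 𝓘 U hU 0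
    rw [mem_deg, secEquiv_str]
    exact algebraMap_mem_deg_zero _ r


theorem isGenDegOne : (reesGr 𝓘).IsGenDegOne := by
  intro U hU
  rw [eq_top_iff]
  intro y _
  set e := secEquiv 𝓘 U hU with he
  have h1 : e y ∈ Subring.closure ((Rees.deg (R 𝓘 U hU) 0 : Set (R 𝓘 U hU)) ∪
      (Rees.deg (R 𝓘 U hU) 1 : Set (R 𝓘 U hU))) := by
    rw [closure_deg_zero_one]; trivial
  have h2 : ∀ z : R 𝓘 U hU, z ∈ Subring.closure ((Rees.deg (R 𝓘 U hU) 0 : Set (R 𝓘 U hU)) ∪
      (Rees.deg (R 𝓘 U hU) 1 : Set (R 𝓘 U hU))) → e.symm z ∈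
      Subring.closure ((((reesGr 𝓘).deg U hU 0 : AddSubgroup _) :
        Set ((reesGr 𝓘).presheaf.obj (op U))) ∪ ((reesGr 𝓘).deg U hU 1 : Set _)) := by
    intro z hz
    induction hz using Subring.closure_induction with
    | mem z hz =>
      apply Subring.subset_closure
      rcases hz with hz | hz
      · left
        show e.symm z ∈ deg 𝓘 U hU 0
        rw [mem_deg, ← he, RingEquiv.apply_symm_apply]; exact hz
      · right
        show e.symm z ∈ deg 𝓘 U hU 1
        rw [mem_deg, ← he, RingEquiv.apply_symm_apply]; exact hz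
    | zero => rw [map_zero]; exact Subring.zero_mem _
    | one => rw [map_one]; exact Subring.one_mem _
    | add a b _ _ ha hb => rw [map_add]; exact Subring.add_mem _ ha hb
    | neg a _ ha => rw [map_neg]; exact Subring.neg_mem _ ha
    | mul a b _ _ ha hb => rw [map_mul]; exact Subring.mul_mem _ ha hb
  have h3 := h2 (e y) h1
  rwa [RingEquiv.symm_apply_apply] at h3

theorem isFTDeg_one (h𝓘 : BlowUp.IsFiniteTypeIdeal 𝓘) : (reesGr 𝓘).IsFTDeg 1 := by
  classical
  intro U hU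
  set e := secEquiv 𝓘 U hU with he
  set I := 𝓘.ideal ⟨U, hU⟩ with hI
  obtain ⟨G, hG⟩ := h𝓘 ⟨U, hU⟩
  have hGI : ∀ g ∈ G, g ∈ I := fun g hg => by
    rw [hI, ← hG]; exact Ideal.subset_span hg
  let ψ : {g // g ∈ G} → (reesQC 𝓘).presheaf.obj (op U) :=
    fun g => e.symm (mono1 I g.1 (hGI g.1 g.2))
  have hψ1 : ∀ g, ((e (ψ g) : R 𝓘 U hU) : Γ(X, U)[X]).coeff 1 = g.1 := by
    intro g
    show ((e (e.symm (mono1 I g.1 (hGI g.1 g.2))) : R 𝓘 U hU) : Γ(X, U)[X]).coeff 1 = g.1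
    rw [RingEquiv.apply_symm_apply]
    show (monomial 1 g.1 : Γ(X, U)[X]).coeff 1 = g.1
    rw [Polynomial.coeff_monomial, if_pos rfl]
  have hψinj : Function.Injective ψ := by
    intro g g' h
    apply Subtype.ext
    rw [← hψ1 g, ← hψ1 g', h]
  refine ⟨G.attach.image ψ, ?_, ?_⟩
  · intro (t : (reesQC 𝓘).presheaf.obj (op U)) ht
    rw [Finset.coe_image] at ht
    obtain ⟨g, -, rfl⟩ := ht
    show ψ g ∈ deg 𝓘 U hU 1
    rw [mem_deg, ← he]
    show e (e.symm (mono1 I g.1 (hGI g.1 g.2))) ∈ _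
    rw [RingEquiv.apply_symm_apply]
    exact mono1_mem I _ _
  · intro (x : (reesQC 𝓘).presheaf.obj (op U)) hx
    have hx' : e x ∈ Rees.deg (R 𝓘 U hU) 1 := hx
    obtain ⟨a, ha, hxa⟩ := eq_mono1 I hx'
    have ha' : a ∈ Submodule.span Γ(X, U) (G : Set Γ(X, U)) := by
      have : a ∈ Ideal.span (G : Set Γ(X, U)) := by rw [hG]; exact ha
      exact this
    obtain ⟨l, -, hl⟩ := Submodule.mem_span_finset.mp ha'
    refine ⟨fun (t : (reesQC 𝓘).presheaf.obj (op U)) =>
      l (((e t : R 𝓘 U hU) : Γ(X, U)[X]).coeff 1), ?_⟩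
    show x = ∑ t ∈ G.attach.image ψ, ((reesQC 𝓘).str.app (op U)).hom
      (l (((e t : R 𝓘 U hU) : Γ(X, U)[X]).coeff 1)) * t
    rw [Finset.sum_image (fun g _ g' _ h => hψinj h)]
    apply e.injective
    rw [map_sum, hxa]
    apply Subtype.ext
    rw [AddSubmonoidClass.coe_finsetSum]
    have hterm : ∀ g ∈ G.attach,
        ((e (((reesQC 𝓘).str.app (op U)).hom (l (((e (ψ g) : R 𝓘 U hU) : Γ(X, U)[X]).coeff 1)) *
          ψ g) : R 𝓘 U hU) : Γ(X, U)[X]) = monomial 1 (l g.1 • g.1) := by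
      intro g _
      rw [map_mul, hψ1 g, he, secEquiv_str, ← he]
      show (C (l g.1) : Γ(X, U)[X]) *
        ((e (e.symm (mono1 I g.1 (hGI g.1 g.2))) : R 𝓘 U hU) : Γ(X, U)[X]) = _
      rw [RingEquiv.apply_symm_apply]
      show (C (l g.1) : Γ(X, U)[X]) * monomial 1 g.1 = _
      rw [Polynomial.C_mul_monomial, smul_eq_mul]
    rw [Finset.sum_congr rfl hterm]
    show (monomial 1 a : Γ(X, U)[X]) = _
    rw [← hl, ← Finset.sum_attach G (fun g => l g • g), map_sum]

end Sheaf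

end Groth.Agent.Helper4.SN377
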