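import Mathlib
import Groth.Prelude.Def_RelProj
import Groth.Agent.Helper4.SN377
import Groth.Agent.Helper4.SN379
import Groth.Agent.Helper4.SN301
import Groth.Agent.Helper1.RP10

/-!
# A blow-up in an ideal of finite type is projective
-/

set_option autoImplicit false
set_option linter.unusedSectionVars false
set_option linter.style.haveILetI false
universe u

open CategoryTheory Limits AlgebraicGeometry TopologicalSpace Opposite Polynomial RelSpec RelProj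

namespace Groth.Agent.Helper4.SN380

open Groth.Agent.Helper4.SN376 Groth.Agent.Helper4.SN377 Groth.Agent.Helper4.SN378
  Groth.Agent.Helper4.SN379 Groth.Agent.Helper4.NApx38

variable {X : Scheme.{u}} (𝓘 : X.IdealSheafData)

/-- the identification of graded rings over an affine open -/
noncomputable def γ (U : X.Opens) (hU : IsAffineOpen U) :
    Rees.deg (R 𝓘 U hU) →+*ᵍ (reesGr 𝓘).deg U hU :=
  { (secEquiv 𝓘 U hU).symm.toRingHom with
    map_mem := fun {d} {z} hz => by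
      show (secEquiv 𝓘 U hU).symm z ∈ deg 𝓘 U hU d
      rw [mem_deg, RingEquiv.apply_symm_apply]
      exact hz }

theorem γ_apply (U : X.Opens) (hU : IsAffineOpen U) (z : R 𝓘 U hU) :
    γ 𝓘 U hU z = (secEquiv 𝓘 U hU).symm z := rfl

theorem γ_bijective (U : X.Opens) (hU : IsAffineOpen U) : Function.Bijective (γ 𝓘 U hU) :=
  (secEquiv 𝓘 U hU).symm.bijective

theorem γ_algebraMap (U : X.Opens) (hU : IsAffineOpen U) (r : Γ(X, U)) :
    γ 𝓘 U hU (algebraMap Γ(X, U) (R 𝓘 U hU) r) = ((reesQC 𝓘).str.app (op U)).hom r := by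
  rw [γ_apply, ← secEquiv_str, RingEquiv.symm_apply_apply]

theorem strZero_eq (U : X.Opens) (hU : IsAffineOpen U) :
    (CommRingCat.ofHom (algebraMap Γ(X, U) (Rees.deg (R 𝓘 U hU) 0)) :
      CommRingCat.of Γ(X, U) ⟶ CommRingCat.of (Rees.deg (R 𝓘 U hU) 0)) ≫
      (CommRingCat.ofHom (γ 𝓘 U hU).gradedZeroRingHom :
        CommRingCat.of (Rees.deg (R 𝓘 U hU) 0) ⟶ CommRingCat.of ((reesGr 𝓘).deg U hU 0)) =
      (reesGr 𝓘).strZero U hU := by
  refine CommRingCat.hom_ext (RingHom.ext fun r => ?_)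
  apply Subtype.ext
  exact γ_algebraMap 𝓘 U hU r

variable {P : Scheme.{u}} {p : P ⟶ X}
  {chart : ∀ (U : X.Opens) (hU : IsAffineOpen U),
    (((p ⁻¹ᵁ U : P.Opens) : Scheme.{u}) ≅ Proj ((reesGr 𝓘).deg U hU))}
  (hP : IsRelProj (reesGr 𝓘) p chart)

include hP in
theorem isLocalBlowUpAt_relProj (U : X.Opens) (hU : IsAffineOpen U) :
    IsLocalBlowUpAt 𝓘 ((p ⁻¹ᵁ U).ι ≫ p) U := by
  let Φ : ((p ⁻¹ᵁ U : P.Opens) : Scheme.{u}) ≅ Proj (Rees.deg (R 𝓘 U hU)) :=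
    chart U hU ≪≫ Groth.Agent.Helper4.SN301.projIso (γ 𝓘 U hU) (γ_bijective 𝓘 U hU)
  have h1 := (isLocalBlowUpAt_bb 𝓘 hU).of_iso Φ
  have h2 : Φ.hom ≫ bb Γ(X, U) (𝓘.ideal ⟨U, hU⟩) ≫ hU.fromSpec = (p ⁻¹ᵁ U).ι ≫ p := by
    rw [← hP.chart_over U hU, ← strZero_eq, Spec.map_comp]
    show ((chart U hU).hom ≫ (Groth.Agent.Helper4.SN301.projIso (γ 𝓘 U hU)
      (γ_bijective 𝓘 U hU)).hom) ≫ (Proj.toSpecZero (Rees.deg (R 𝓘 U hU)) ≫
        Spec.map (CommRingCat.ofHom (algebraMap Γ(X, U) (Rees.deg (R 𝓘 U hU) 0)))) ≫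
          hU.fromSpec = _
    simp only [Category.assoc]
    rw [reassoc_of% Groth.Agent.Helper4.SN301.projIso_hom_toSpecZero (γ 𝓘 U hU)
      (γ_bijective 𝓘 U hU)]
  rwa [h2] at h1

/-- the relative `Proj` of the Rees algebra is a blow-up -/
theorem isBlowUp_relProj (hP : IsRelProj (reesGr 𝓘) p chart) : BlowUp.IsBlowUp p 𝓘 :=
  isBlowUp_of_local p fun U => isLocalBlowUpAt_relProj 𝓘 hP U.1 U.2

theorem main8910 {X' : Scheme.{u}} (h𝓘 : BlowUp.IsFiniteTypeIdeal 𝓘)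
    (b : X' ⟶ X) (hb : BlowUp.IsBlowUp b 𝓘) : RelProj.IsProjective b := by
  obtain ⟨P, p, chart, hP⟩ := Groth.Agent.Helper1.RP.exists_isRelProj (reesGr 𝓘)
  obtain ⟨e, he⟩ := Groth.Agent.Helper4.NApx27.isBlowUp_unique 𝓘 b p hb (isBlowUp_relProj 𝓘 hP)
  exact ⟨reesGr 𝓘, P, p, chart, e, isGenDegOne 𝓘, isFTDeg_one 𝓘 h𝓘, hP, he⟩

end Groth.Agent.Helper4.SN380
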