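import Mathlib

/-!
# Graded rings of finite type: `A_{nd} = (A_d)^n` for suitable `d`, and `A_d` is finite over `A_0`
-/

set_option autoImplicit false
set_option linter.unusedSectionVars false
set_option linter.style.haveILetI false
universe u

open DirectSum

namespace Groth.Agent.Helper4.SN381

variable {A : Type u} [CommRing A] (𝒜 : ℕ → AddSubgroup A) [GradedRing 𝒜]

/-- the degree `m` piece as a `ℤ`-submodule -/
abbrev M (m : ℕ) : Submodule ℤ A := AddSubgroup.toIntSubmodule (𝒜 m)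

theorem mem_M {m : ℕ} {a : A} : a ∈ M 𝒜 m ↔ a ∈ 𝒜 m := Iff.rfl

theorem M_mul_le (a b : ℕ) : M 𝒜 a * M 𝒜 b ≤ M 𝒜 (a + b) :=
  Submodule.mul_le.mpr fun _ hx _ hy =>
    SetLike.mul_mem_graded (A := 𝒜) ((mem_M 𝒜).mp hx) ((mem_M 𝒜).mp hy)

theorem M_pow_le (d n : ℕ) : M 𝒜 d ^ n ≤ M 𝒜 (n * d) := by
  induction n with
  | zero =>
    rw [pow_zero, Submodule.one_eq_span, Submodule.span_le, zero_mul]
    rintro _ rfl
    exact (SetLike.GradedOne.one_mem : (1 : A) ∈ 𝒜 0)
  | succ n ih =>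
    rw [pow_succ, Nat.succ_mul]
    exact (mul_le_mul' ih le_rfl).trans (M_mul_le 𝒜 _ _)

section Core

variable {J : Type*} [Fintype J] [DecidableEq J] (x : J → A) (h : J → ℕ)

/-- monomials -/
def μ (β : J → ℕ) : A := ∏ j, x j ^ β j

/-- degrees of monomials -/
def dg (β : J → ℕ) : ℕ := ∑ j, β j * h j

variable {x h} (hx : ∀ j, x j ∈ 𝒜 (h j))

include hx in
theorem μ_mem (β : J → ℕ) : μ x β ∈ 𝒜 (dg h β) := by
  have := SetLike.prod_pow_mem_graded 𝒜 h x β (F := Finset.univ) (fun j _ => hx j)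
  simpa [μ, dg] using this

theorem μ_zero : μ x (0 : J → ℕ) = 1 := by simp [μ]

theorem μ_add (β β' : J → ℕ) : μ x (β + β') = μ x β * μ x β' := by
  simp [μ, pow_add, Finset.prod_mul_distrib]

theorem dg_add (β β' : J → ℕ) : dg h (β + β') = dg h β + dg h β' := by
  simp [dg, add_mul, Finset.sum_add_distrib]

theorem μ_single (j : J) (n : ℕ) : μ x (Pi.single j n) = x j ^ n := by
  unfold μ
  rw [Finset.prod_eq_single j]
  · rw [Pi.single_eq_same]
  · intro i _ hi
    rw [Pi.single_eq_of_ne hi, pow_zero]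
  · intro hj; exact (hj (Finset.mem_univ j)).elim

theorem dg_single (j : J) (n : ℕ) : dg h (Pi.single j n) = n * h j := by
  unfold dg
  rw [Finset.sum_eq_single j]
  · rw [Pi.single_eq_same]
  · intro i _ hi
    rw [Pi.single_eq_of_ne hi, zero_mul]
  · intro hj; exact (hj (Finset.mem_univ j)).elim

/-- the span of the products of a degree zero element and a monomial of degree `m` -/
def N (x : J → A) (h : J → ℕ) (m : ℕ) : Submodule ℤ A :=
  Submodule.span ℤ {a | ∃ c ∈ 𝒜 0, ∃ β : J → ℕ, dg h β = m ∧ a = c * μ x β}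

include hx in
theorem N_le_M (m : ℕ) : N 𝒜 x h m ≤ M 𝒜 m := by
  rw [N, Submodule.span_le]
  rintro _ ⟨c, hc, β, hβ, rfl⟩
  have := SetLike.mul_mem_graded hc (μ_mem 𝒜 hx β)
  rw [zero_add, hβ] at this
  exact this

variable (hgen : Subring.closure ((𝒜 0 : Set A) ∪ Set.range x) = ⊤)

/-- all products of a degree zero element and a monomial -/
def Nall (x : J → A) : Submodule ℤ A :=
  Submodule.span ℤ {a | ∃ c ∈ 𝒜 0, ∃ β : J → ℕ, a = c * μ x β}

theorem Nall_mul {a b : A} (ha : a ∈ Nall 𝒜 x) (hb : b ∈ Nall 𝒜 x) : a * b ∈ Nall 𝒜 x := by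
  have : Nall 𝒜 x * Nall 𝒜 x ≤ Nall 𝒜 x := by
    rw [Nall, Submodule.span_mul_span, Submodule.span_le]
    rintro _ ⟨_, ⟨c, hc, β, rfl⟩, _, ⟨c', hc', β', rfl⟩, rfl⟩
    apply Submodule.subset_span
    refine ⟨c * c', ?_, β + β', ?_⟩
    · have := SetLike.mul_mem_graded hc hc'
      rwa [zero_add] at this
    · rw [μ_add]; ring
  exact this (Submodule.mul_mem_mul ha hb)

include hgen in
theorem mem_Nall (a : A) : a ∈ Nall 𝒜 x := by
  have ha : a ∈ Subring.closure ((𝒜 0 : Set A) ∪ Set.range x) := by rw [hgen]; trivial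
  induction ha using Subring.closure_induction with
  | mem a ha =>
    apply Submodule.subset_span
    rcases ha with ha | ⟨j, rfl⟩
    · exact ⟨a, ha, 0, by rw [μ_zero, mul_one]⟩
    · exact ⟨1, SetLike.GradedOne.one_mem, Pi.single j 1, by rw [μ_single, pow_one, one_mul]⟩
  | zero => exact Submodule.zero_mem _
  | one =>
    apply Submodule.subset_span
    exact ⟨1, SetLike.GradedOne.one_mem, 0, by rw [μ_zero, mul_one]⟩
  | add a b _ _ ha hb => exact Submodule.add_mem _ ha hb
  | neg a _ ha => exact Submodule.neg_mem _ ha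
  | mul a b _ _ ha hb => exact Nall_mul 𝒜 ha hb

include hx hgen in
theorem M_le_N (m : ℕ) : M 𝒜 m ≤ N 𝒜 x h m := by
  have key : ∀ b, b ∈ Nall 𝒜 x → GradedRing.proj 𝒜 m b ∈ N 𝒜 x h m := by
    intro b hb
    unfold Nall at hb
    induction hb using Submodule.span_induction with
    | mem b hb =>
      obtain ⟨c, hc, β, rfl⟩ := hb
      have hcβ : c * μ x β ∈ 𝒜 (dg h β) := by
        have := SetLike.mul_mem_graded hc (μ_mem 𝒜 hx β)
        rwa [zero_add] at this
      rw [GradedRing.proj_apply]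
      by_cases hβ : dg h β = m
      · rw [← hβ, DirectSum.decompose_of_mem_same 𝒜 hcβ]
        exact Submodule.subset_span ⟨c, hc, β, rfl, rfl⟩
      · rw [DirectSum.decompose_of_mem_ne 𝒜 hcβ hβ]
        exact Submodule.zero_mem _
    | zero => rw [map_zero]; exact Submodule.zero_mem _
    | add b b' _ _ hb hb' => rw [map_add]; exact Submodule.add_mem _ hb hb'
    | smul n b _ hb => rw [map_zsmul]; exact Submodule.smul_mem _ n hb
  intro a ha
  have ha' : a ∈ 𝒜 m := ha
  have h1 : GradedRing.proj 𝒜 m a = a := by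
    rw [GradedRing.proj_apply, DirectSum.decompose_of_mem_same 𝒜 ha']
  rw [← h1]
  exact key a (mem_Nall 𝒜 hgen a)

end Core

end Groth.Agent.Helper4.SN381
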