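import Mathlib
import Groth.Agent.Helper4.SN381

/-!
# Graded rings of finite type, part 2
-/

set_option autoImplicit false
set_option linter.unusedSectionVars false
set_option linter.style.haveILetI false
universe u

open DirectSum

namespace Groth.Agent.Helper4.SN382

open Groth.Agent.Helper4.SN381

variable {A : Type u} [CommRing A] (𝒜 : ℕ → AddSubgroup A) [GradedRing 𝒜]
variable {J : Type*} [Fintype J] [DecidableEq J] {x : J → A} {h : J → ℕ}
  (hx : ∀ j, x j ∈ 𝒜 (h j)) (hpos : ∀ j, 0 < h j)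
  (hgen : Subring.closure ((𝒜 0 : Set A) ∪ Set.range x) = ⊤)

include hpos in
theorem le_of_dg_eq {β : J → ℕ} {d : ℕ} (hβ : dg h β = d) (j : J) : β j ≤ d := by
  have h1 : β j * h j ≤ dg h β :=
    Finset.single_le_sum (f := fun j => β j * h j) (fun _ _ => Nat.zero_le _) (Finset.mem_univ j)
  have h2 : β j ≤ β j * h j := Nat.le_mul_of_pos_right _ (hpos j)
  omega

open Classical in
/-- the finite set of monomials of degree `d` -/
noncomputable def T (x : J → A) (h : J → ℕ) (d : ℕ) : Finset A :=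
  (Finset.univ.filter (fun β : J → Fin (d + 1) => dg h (fun j => (β j : ℕ)) = d)).image
    (fun β => μ x (fun j => (β j : ℕ)))

open Classical in
include hx in
theorem T_subset (d : ℕ) : (↑(T x h d) : Set A) ⊆ (𝒜 d : Set A) := by
  intro t ht
  rw [T, Finset.coe_image] at ht
  obtain ⟨β, hβ, rfl⟩ := ht
  rw [Finset.mem_coe, Finset.mem_filter] at hβ
  have := μ_mem 𝒜 hx (fun j => (β j : ℕ))
  rw [hβ.2] at this
  exact this

open Classical in
include hx hpos hgen in
theorem M_eq_mul_span (d : ℕ) :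
    M 𝒜 d = M 𝒜 0 * Submodule.span ℤ (↑(T x h d) : Set A) := by
  apply le_antisymm
  · refine (M_le_N 𝒜 hx hgen d).trans ?_
    rw [N, Submodule.span_le]
    rintro _ ⟨c, hc, β, hβ, rfl⟩
    apply Submodule.mul_mem_mul hc
    apply Submodule.subset_span
    rw [T, Finset.coe_image]
    refine ⟨fun j => ⟨β j, Nat.lt_succ_of_le (le_of_dg_eq hpos hβ j)⟩, ?_, rfl⟩
    rw [Finset.mem_coe, Finset.mem_filter]
    exact ⟨Finset.mem_univ _, hβ⟩
  · have h1 : Submodule.span ℤ (↑(T x h d) : Set A) ≤ M 𝒜 d := by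
      rw [Submodule.span_le]
      exact T_subset 𝒜 hx d
    refine (mul_le_mul' le_rfl h1).trans ?_
    have := M_mul_le 𝒜 0 d
    rwa [zero_add] at this

/-- the product of the degrees -/
def q (h : J → ℕ) : ℕ := ∏ j, h j

include hpos in
theorem q_pos : 0 < q h := Finset.prod_pos fun j _ => hpos j

theorem div_mul (j : J) : q h / h j * h j = q h :=
  Nat.div_mul_cancel (Finset.dvd_prod_of_mem h (Finset.mem_univ j))

include hx hpos hgen in
theorem M_succ_le (n : ℕ) (hn : Fintype.card J ≤ n) :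
    M 𝒜 ((n + 1) * q h) ≤ M 𝒜 (q h) * M 𝒜 (n * q h) := by
  refine (M_le_N 𝒜 hx hgen _).trans ?_
  rw [N, Submodule.span_le]
  rintro _ ⟨c, hc, β, hβ, rfl⟩
  have hex : ∃ j, q h / h j ≤ β j := by
    by_contra hne
    push Not at hne
    have h1 : ∀ j, β j * h j ≤ q h := by
      intro j
      have := Nat.mul_le_mul_right (h j) (hne j).le
      rwa [div_mul] at this
    have h2 : dg h β ≤ Fintype.card J * q h := by
      unfold dg
      calc ∑ j, β j * h j ≤ ∑ _j : J, q h := Finset.sum_le_sum fun j _ => h1 j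
        _ = Fintype.card J * q h := by simp
    have h3 : Fintype.card J * q h ≤ n * q h := Nat.mul_le_mul_right _ hn
    have h4 := q_pos hpos
    rw [hβ, Nat.succ_mul] at h2
    omega
  obtain ⟨j, hj⟩ := hex
  set β' : J → ℕ := Function.update β j (β j - q h / h j) with hβ'
  have hsplit : β = β' + Pi.single j (q h / h j) := by
    funext i
    by_cases hi : i = j
    · subst hi
      simp [hβ', Nat.sub_add_cancel hj]
    · simp [hβ', hi]
  have hμ : μ x β = x j ^ (q h / h j) * μ x β' := by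
    conv_lhs => rw [hsplit]
    rw [μ_add, μ_single, mul_comm]
  have hdg : dg h β' = n * q h := by
    have h1 : dg h β = dg h β' + q h := by
      conv_lhs => rw [hsplit]
      rw [dg_add, dg_single, div_mul]
    rw [hβ, Nat.succ_mul] at h1
    omega
  have hxq : x j ^ (q h / h j) ∈ 𝒜 (q h) := by
    have := SetLike.pow_mem_graded (q h / h j) (hx j)
    rwa [smul_eq_mul, div_mul] at this
  have hrest : c * μ x β' ∈ 𝒜 (n * q h) := by
    have := SetLike.mul_mem_graded hc (μ_mem 𝒜 hx β')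
    rwa [zero_add, hdg] at this
  have : c * μ x β = x j ^ (q h / h j) * (c * μ x β') := by rw [hμ]; ring
  rw [this]
  exact Submodule.mul_mem_mul hxq hrest

include hx hpos hgen in
theorem M_add_le (s' : ℕ) (hs' : Fintype.card J ≤ s') (k : ℕ) :
    M 𝒜 ((s' + k) * q h) ≤ M 𝒜 (q h) ^ k * M 𝒜 (s' * q h) := by
  induction k with
  | zero => rw [pow_zero, one_mul, add_zero]
  | succ k ih =>
    have h1 := M_succ_le 𝒜 hx hpos hgen (s' + k) (hs'.trans (Nat.le_add_right _ _))
    rw [← add_assoc]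
    refine h1.trans ?_
    rw [pow_succ', mul_assoc]
    exact mul_le_mul' le_rfl ih

include hx hpos hgen in
/-- the base case: with `e = (card J + 1) q`, one has `A_{n e} = (A_e)^n` -/
theorem M_mul_eq_pow (n : ℕ) (hn : 0 < n) :
    M 𝒜 (n * ((Fintype.card J + 1) * q h)) = M 𝒜 ((Fintype.card J + 1) * q h) ^ n := by
  set s' := Fintype.card J + 1 with hs'
  apply le_antisymm _ (M_pow_le 𝒜 _ n)
  obtain ⟨k, rfl⟩ : ∃ k, n = k + 1 := ⟨n - 1, by omega⟩
  have h1 := M_add_le 𝒜 hx hpos hgen s' (Nat.le_succ _) (k * s')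
  have e1 : (s' + k * s') * q h = (k + 1) * (s' * q h) := by ring
  rw [e1] at h1
  refine h1.trans ?_
  rw [mul_comm k s', pow_mul, pow_succ]
  refine mul_le_mul' ?_ le_rfl
  exact pow_le_pow_left' (M_pow_le 𝒜 (q h) s') k

include hx hpos hgen in
/-- for every multiple `d` of `e`, one has `A_{n d} = (A_d)^n` -/
theorem exists_e : ∃ e : ℕ, 0 < e ∧ ∀ m : ℕ, 0 < m → ∀ n : ℕ, 0 < n →
    M 𝒜 (n * (m * e)) = M 𝒜 (m * e) ^ n := by
  refine ⟨(Fintype.card J + 1) * q h, Nat.mul_pos (Nat.succ_pos _) (q_pos hpos), ?_⟩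
  intro m hm n hn
  rw [← mul_assoc, M_mul_eq_pow 𝒜 hx hpos hgen (n * m) (Nat.mul_pos hn hm),
    M_mul_eq_pow 𝒜 hx hpos hgen m hm, ← pow_mul, mul_comm n m]

end Groth.Agent.Helper4.SN382
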