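import Mathlib
import Groth.Prelude.Def_RelProj
import Groth.Agent.Helper4.SN382

/-!
# Graded rings of finite type, part 3: homogeneous generators, and S12133
-/

set_option autoImplicit false
set_option linter.unusedSectionVars false
set_option linter.style.haveILetI false
universe u

open DirectSum CategoryTheory AlgebraicGeometry Opposite

namespace Groth.Agent.Helper4.SN383

open Groth.Agent.Helper4.SN381 Groth.Agent.Helper4.SN382

section Ring

variable {R A : Type u} [CommRing R] [CommRing A] (𝒜 : ℕ → AddSubgroup A) [GradedRing 𝒜]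
  (φ : R →+* A) (hφ : ∀ r, φ r ∈ 𝒜 0) (hft : φ.FiniteType)

include hφ hft in
open Classical in
theorem exists_gens : ∃ (J : Type u) (_ : Fintype J) (_ : DecidableEq J) (x : J → A) (h : J → ℕ),
    (∀ j, x j ∈ 𝒜 (h j)) ∧ (∀ j, 0 < h j) ∧
      Subring.closure ((𝒜 0 : Set A) ∪ Set.range x) = ⊤ := by
  letI := φ.toAlgebra
  have hft' : Algebra.FiniteType R A := hft
  obtain ⟨S, hS⟩ := hft'.out
  let L : Finset (ℕ × A) := S.biUnion (fun a =>
    (decompose 𝒜 a).support.image (fun m => (m, ((decompose 𝒜 a m : 𝒜 m) : A))))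
  let L' : Finset (ℕ × A) := L.filter (fun p => 0 < p.1)
  have hL : ∀ p ∈ L, p.2 ∈ 𝒜 p.1 := by
    intro p hp
    rw [Finset.mem_biUnion] at hp
    obtain ⟨a, -, hp⟩ := hp
    rw [Finset.mem_image] at hp
    obtain ⟨m, -, rfl⟩ := hp
    exact (decompose 𝒜 a m).2
  refine ⟨↥L', inferInstance, inferInstance, fun p => p.1.2, fun p => p.1.1, ?_, ?_, ?_⟩
  · intro p
    exact hL p.1 (Finset.mem_filter.mp p.2).1
  · intro p
    exact (Finset.mem_filter.mp p.2).2
  · rw [eq_top_iff]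
    intro a ha0
    clear ha0
    set C := Subring.closure ((𝒜 0 : Set A) ∪ Set.range (fun p : ↥L' => p.1.2)) with hC
    have ha : a ∈ Algebra.adjoin R (S : Set A) := by rw [hS]; trivial
    induction ha using Algebra.adjoin_induction with
    | mem a ha =>
      rw [← DirectSum.sum_support_decompose 𝒜 a]
      apply Subring.sum_mem
      intro m hm
      by_cases hm0 : m = 0
      · subst hm0
        exact Subring.subset_closure (Or.inl (decompose 𝒜 a 0).2)
      · apply Subring.subset_closure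
        right
        have hmem : (m, ((decompose 𝒜 a m : 𝒜 m) : A)) ∈ L' := by
          rw [Finset.mem_filter]
          refine ⟨?_, Nat.pos_of_ne_zero hm0⟩
          rw [Finset.mem_biUnion]
          exact ⟨a, ha, Finset.mem_image.mpr ⟨m, hm, rfl⟩⟩
        exact ⟨⟨_, hmem⟩, rfl⟩
    | algebraMap r => exact Subring.subset_closure (Or.inl (hφ r))
    | add a b _ _ ha hb => exact C.add_mem ha hb
    | mul a b _ _ ha hb => exact C.mul_mem ha hb

include hφ hft in
/-- the two statements for one graded ring of finite type -/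
theorem exists_e_and_fg : ∃ e : ℕ, 0 < e ∧
    (∀ m : ℕ, 0 < m → ∀ n : ℕ, 0 < n → M 𝒜 (n * (m * e)) = M 𝒜 (m * e) ^ n) ∧
    ∀ d : ℕ, ∃ T : Finset A, (↑T : Set A) ⊆ (𝒜 d : Set A) ∧
      M 𝒜 d = M 𝒜 0 * Submodule.span ℤ (↑T : Set A) := by
  obtain ⟨J, _, _, x, h, hx, hpos, hgen⟩ := exists_gens 𝒜 φ hφ hft
  obtain ⟨e, he, hpow⟩ := exists_e 𝒜 hx hpos hgen
  exact ⟨e, he, hpow, fun d => ⟨T x h d, T_subset 𝒜 hx d, M_eq_mul_span 𝒜 hx hpos hgen d⟩⟩

end Ring

theorem main12133 {Y : Scheme.{u}} (𝒮 : RelProj.QCGrAlg Y)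
    {ι : Type u} [Finite ι] (U : ι → Y.Opens) (hU : ∀ i, IsAffineOpen (U i))
    (hft : ∀ i, (𝒮.str.app (op (U i))).hom.FiniteType) :
    ∃ d : ℕ, 0 < d ∧ ∀ i,
      (∀ n : ℕ, 0 < n →
        AddSubgroup.toIntSubmodule (𝒮.deg (U i) (hU i) (n * d)) =
          AddSubgroup.toIntSubmodule (𝒮.deg (U i) (hU i) d) ^ n) ∧
      ∃ T : Finset (𝒮.presheaf.obj (op (U i))),
        (↑T : Set (𝒮.presheaf.obj (op (U i)))) ⊆
          (𝒮.deg (U i) (hU i) d : Set (𝒮.presheaf.obj (op (U i)))) ∧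
        AddSubgroup.toIntSubmodule (𝒮.deg (U i) (hU i) d) =
          AddSubgroup.toIntSubmodule (𝒮.deg (U i) (hU i) 0) *
            Submodule.span ℤ (↑T : Set (𝒮.presheaf.obj (op (U i)))) := by
  classical
  haveI := Fintype.ofFinite ι
  have key : ∀ i, ∃ e : ℕ, 0 < e ∧
      (∀ m : ℕ, 0 < m → ∀ n : ℕ, 0 < n →
        M (𝒮.deg (U i) (hU i)) (n * (m * e)) = M (𝒮.deg (U i) (hU i)) (m * e) ^ n) ∧
      ∀ d : ℕ, ∃ T : Finset (𝒮.presheaf.obj (op (U i))),
        (↑T : Set (𝒮.presheaf.obj (op (U i)))) ⊆ (𝒮.deg (U i) (hU i) d : Set _) ∧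
        M (𝒮.deg (U i) (hU i)) d = M (𝒮.deg (U i) (hU i)) 0 * Submodule.span ℤ (↑T : Set _) :=
    fun i => exists_e_and_fg (𝒮.deg (U i) (hU i)) (𝒮.str.app (op (U i))).hom
      (𝒮.str_mem (U i) (hU i)) (hft i)
  choose e he hpow hfg using key
  refine ⟨∏ i, e i, Finset.prod_pos fun i _ => he i, fun i => ⟨?_, hfg i _⟩⟩
  intro n hn
  have hd : ∏ i, e i = (∏ j ∈ Finset.univ.erase i, e j) * e i :=
    (Finset.prod_erase_mul _ _ (Finset.mem_univ i)).symm
  rw [hd]
  exact hpow i _ (Finset.prod_pos fun j _ => he j) n hn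

end Groth.Agent.Helper4.SN383
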