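import Groth.Agent.Helper4.AmpleFinite
import Groth.Agent.Helper4.SN184
import Mathlib

/-!
# Avoidance: sections of a globally generated invertible module generating at finitely many points

Over a scheme whose ring of global functions receives an infinite field, finitely many points can be
avoided simultaneously by a single global section of an invertible module generated by its sections
at each of the points.
-/

set_option autoImplicit false
universe u
open CategoryTheory CategoryTheory.Limits AlgebraicGeometry Opposite TopologicalSpace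

namespace Groth.Agent.Helper4.SN393

open Groth.Agent.Helper4.GenLoc Groth.Agent.Helper4.Scalar Groth.Agent.Helper4.AmpleBasis
  Groth.Agent.Helper4.AmpleFinite Groth.Agent.Helper4.AmpleLocal

variable {X : Scheme.{u}}

/-- a section times a global function -/
noncomputable def mulSec {N : X.Modules} (g : Γ(X, ⊤)) (τ : Coh.structureModule X ⟶ N) :
    Coh.structureModule X ⟶ N := τ ≫ scalar g N

theorem sec_mulSec {N : X.Modules} (g : Γ(X, ⊤)) (τ : Coh.structureModule X ⟶ N) :
    sec (mulSec g τ) ⊤ = g • sec τ ⊤ := by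
  change (scalar g N).app ⊤ (τ.app ⊤ (one X ⊤)) = _
  rw [scalar_app]
  congr 1
  change X.presheaf.map (𝟙 _) g = g
  rw [X.presheaf.map_id]; rfl

theorem mulSec_add {N : X.Modules} (g h : Γ(X, ⊤)) (τ : Coh.structureModule X ⟶ N) :
    mulSec (g + h) τ = mulSec g τ + mulSec h τ := by
  apply unit_hom_ext
  change sec (mulSec (g + h) τ) ⊤ = sec (mulSec g τ) ⊤ + sec (mulSec h τ) ⊤
  rw [sec_mulSec, sec_mulSec, sec_mulSec, add_smul]

theorem mulSec_sub {N : X.Modules} (g h : Γ(X, ⊤)) (τ : Coh.structureModule X ⟶ N) :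
    mulSec (g - h) τ = mulSec g τ - mulSec h τ := by
  apply unit_hom_ext
  change sec (mulSec (g - h) τ) ⊤ = sec (mulSec g τ) ⊤ - sec (mulSec h τ) ⊤
  rw [sec_mulSec, sec_mulSec, sec_mulSec, sub_smul]

theorem mulSec_neg_one {N : X.Modules} (τ : Coh.structureModule X ⟶ N) :
    mulSec (-1) τ = -τ := by
  apply unit_hom_ext
  change sec (mulSec (-1) τ) ⊤ = - sec τ ⊤
  rw [sec_mulSec, neg_smul, one_smul]

theorem genLocus_mulSec_le {N : X.Modules} (hN : PicF.IsInvertible N) (g : Γ(X, ⊤))
    (τ : Coh.structureModule X ⟶ N) : CohB1.genLocus N (mulSec g τ) ≤ CohB1.genLocus N τ :=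
  Groth.Agent.Helper4.SN.genLocus_le_of_smul hN τ (mulSec g τ) g (sec_mulSec g τ)

theorem genLocus_mulSec_of_isUnit {N : X.Modules} (g : Γ(X, ⊤)) (hg : IsUnit g)
    (τ : Coh.structureModule X ⟶ N) : CohB1.genLocus N (mulSec g τ) = CohB1.genLocus N τ :=
  genLocus_eq_of_smul_unit (mulSec g τ) τ g hg (sec_mulSec g τ)

theorem notMem_genLocus_neg {N : X.Modules} (hN : PicF.IsInvertible N)
    (τ : Coh.structureModule X ⟶ N) (z : X) (hτ : z ∉ CohB1.genLocus N τ) :
    z ∉ CohB1.genLocus N (-τ) := by
  rw [← mulSec_neg_one]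
  exact fun h => hτ (genLocus_mulSec_le hN _ τ h)

theorem notMem_genLocus_sub {N : X.Modules} (hN : PicF.IsInvertible N)
    (σ τ : Coh.structureModule X ⟶ N) (z : X) (hσ : z ∉ CohB1.genLocus N σ)
    (hτ : z ∉ CohB1.genLocus N τ) : z ∉ CohB1.genLocus N (σ - τ) := by
  rw [sub_eq_add_neg]
  exact notMem_genLocus_add hN σ (-τ) z hσ (notMem_genLocus_neg hN τ z hτ)

/-- the set of bad parameters at a point has at most one element as soon as one of the two sections
generates at the point -/
theorem bad_subsingleton {K : Type*} [Field K] (ρ : K →+* Γ(X, ⊤)) {N : X.Modules}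
    (hN : PicF.IsInvertible N) (σ τ : Coh.structureModule X ⟶ N) (z : X)
    (hz : z ∈ CohB1.genLocus N σ ∨ z ∈ CohB1.genLocus N τ) :
    {c : K | z ∉ CohB1.genLocus N (σ + mulSec (ρ c) τ)}.Subsingleton := by
  intro c hc c' hc'
  by_contra hne
  have hu : IsUnit (ρ (c - c')) := (isUnit_iff_ne_zero.mpr (sub_ne_zero.mpr hne)).map ρ
  have h1 : (σ + mulSec (ρ c) τ) - (σ + mulSec (ρ c') τ) = mulSec (ρ (c - c')) τ := by
    rw [map_sub, mulSec_sub]; abel
  have h2 : z ∉ CohB1.genLocus N τ := by
    have := notMem_genLocus_sub hN _ _ z hc hc'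
    rw [h1, genLocus_mulSec_of_isUnit _ hu] at this
    exact this
  have h3 : z ∉ CohB1.genLocus N (mulSec (ρ c) τ) := fun h => h2 (genLocus_mulSec_le hN _ τ h)
  have h4 : z ∉ CohB1.genLocus N σ := by
    have := notMem_genLocus_sub hN _ _ z hc h3
    rwa [add_sub_cancel_right] at this
  rcases hz with hz | hz
  · exact h4 hz
  · exact h2 hz

/-- avoidance of finitely many points -/
theorem exists_section_of_finset {K : Type*} [Field K] [Infinite K] (ρ : K →+* Γ(X, ⊤))
    {N : X.Modules} (hN : PicF.IsInvertible N)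
    (hgen : ∀ z : X, ∃ t : Coh.structureModule X ⟶ N, z ∈ CohB1.genLocus N t) (Z : Finset X) :
    ∃ s : Coh.structureModule X ⟶ N, ∀ z ∈ Z, z ∈ CohB1.genLocus N s := by
  classical
  induction Z using Finset.induction_on with
  | empty => exact ⟨0, fun z hz => absurd hz (Finset.notMem_empty z)⟩
  | insert z₀ Z hz₀ ih =>
    obtain ⟨s, hs⟩ := ih
    obtain ⟨t, ht⟩ := hgen z₀
    have hfin : (⋃ z ∈ (insert z₀ Z : Finset X),
        {c : K | z ∉ CohB1.genLocus N (s + mulSec (ρ c) t)}).Finite := by
      refine Set.Finite.biUnion (Finset.finite_toSet _) ?_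
      intro z hz
      refine (bad_subsingleton ρ hN s t z ?_).finite
      rcases Finset.mem_insert.mp hz with rfl | hz
      · exact Or.inr ht
      · exact Or.inl (hs z hz)
    obtain ⟨c, hc⟩ := hfin.exists_notMem
    refine ⟨s + mulSec (ρ c) t, fun z hz => ?_⟩
    by_contra hbad
    exact hc (Set.mem_biUnion hz hbad)

end Groth.Agent.Helper4.SN393
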