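import Mathlib
import Groth.Prelude.Def_HTop
import Groth.Agent.Helper8.HCart
import Groth.Agent.Helper2.LfpComp

/-!
# Sheaves for topologies finer than "jointly surjective proper pairs": cartesian squares of sections

Abstract version of the argument that a sheaf turns a square `E → X`, `E → Z`, `f : X → Y`,
`i : Z → Y` (a fibre square with `i` a closed immersion and `f` an isomorphism off `Z`) into a
cartesian square of sections, for any topology in which jointly surjective pairs of proper morphisms
(with a property `P`) are covering.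
-/

set_option autoImplicit false
set_option linter.deprecated false
set_option linter.style.haveILetI false
universe w₁ v₁ u₁ u
open CategoryTheory CategoryTheory.Limits AlgebraicGeometry Opposite

namespace Groth.Agent.Helper4.SN394

section abstract

variable {C : Type u₁} [Category.{v₁} C] (J : GrothendieckTopology C) (F : Cᵒᵖ ⥤ Type w₁)

/-- a sheaf is separated for a pair of arrows such that every sieve containing both is covering -/
theorem eq_of_pair (hF : Presieve.IsSheaf J F) {T A B : C} (a : A ⟶ T) (b : B ⟶ T)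
    (hcov : ∀ R : Sieve T, R a → R b → R ∈ J T)
    (x y : F.obj (op T)) (ha : F.map a.op x = F.map a.op y)
    (hb : F.map b.op x = F.map b.op y) : x = y := by
  let R : Sieve T :=
    { arrows := fun V g => F.map g.op x = F.map g.op y
      downward_closed := by
        intro V W g hg h
        show F.map (h ≫ g).op x = F.map (h ≫ g).op y
        rw [op_comp, FunctorToTypes.map_comp_apply, FunctorToTypes.map_comp_apply]
        exact congrArg (F.map h.op) hg }
  exact (hF.isSeparated _ (hcov R ha hb)).ext (fun V g hg => hg)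

/-- gluing along a covering pair `i`, `f` with `i` a monomorphism -/
theorem existsUnique_of_pair (hF : Presieve.IsSheaf J F) {E Z X Y : C} (e : E ⟶ X) (π : E ⟶ Z)
    (f : X ⟶ Y) (i : Z ⟶ Y) [Mono i]
    (hlift : ∀ {T : C} (g₁ : T ⟶ Z) (g₂ : T ⟶ X), g₁ ≫ i = g₂ ≫ f →
      ∃ h : T ⟶ E, h ≫ π = g₁ ∧ h ≫ e = g₂)
    (hcov : ∀ R : Sieve Y, R i → R f → R ∈ J Y)
    (t : F.obj (op Z)) (s' : F.obj (op X)) (hts : F.map π.op t = F.map e.op s')
    (hcompat : ∀ {T : C} (p₁ p₂ : T ⟶ X), p₁ ≫ f = p₂ ≫ f → F.map p₁.op s' = F.map p₂.op s') :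
    ∃! s : F.obj (op Y), F.map i.op s = t ∧ F.map f.op s = s' := by
  let Xs : Bool → C := fun b => match b with | true => Z | false => X
  let πs : ∀ b, Xs b ⟶ Y := fun b => match b with | true => i | false => f
  let xs : ∀ b, F.obj (op (Xs b)) := fun b => match b with | true => t | false => s'
  have hsh : Presieve.IsSheafFor F (Presieve.ofArrows Xs πs) := by
    rw [Presieve.isSheafFor_iff_generate]
    apply hF
    apply hcov
    · exact ⟨Z, 𝟙 Z, i, Presieve.ofArrows.mk (ι := Bool) (Y := Xs) (f := πs) true,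
        Category.id_comp _⟩
    · exact ⟨X, 𝟙 X, f, Presieve.ofArrows.mk (ι := Bool) (Y := Xs) (f := πs) false,
        Category.id_comp _⟩
  rw [Presieve.isSheafFor_arrows_iff] at hsh
  have key : ∀ {T : C} (g₁ : T ⟶ Z) (g₂ : T ⟶ X), g₁ ≫ i = g₂ ≫ f →
      F.map g₁.op t = F.map g₂.op s' := by
    intro T g₁ g₂ hg
    obtain ⟨h, h1, h2⟩ := hlift g₁ g₂ hg
    rw [← h1, ← h2, op_comp, op_comp, FunctorToTypes.map_comp_apply,
      FunctorToTypes.map_comp_apply, hts]
  have hcomp : Presieve.Arrows.Compatible F πs xs := by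
    intro b₁ b₂ T g₁ g₂ hg
    match b₁, b₂, g₁, g₂, hg with
    | true, true, g₁, g₂, hg =>
      have : g₁ = g₂ := (cancel_mono i).mp hg
      rw [this]
    | true, false, g₁, g₂, hg => exact key g₁ g₂ hg
    | false, true, g₁, g₂, hg => exact (key g₂ g₁ hg.symm).symm
    | false, false, g₁, g₂, hg => exact hcompat g₁ g₂ hg
  obtain ⟨s, hs, huniq⟩ := hsh xs hcomp
  refine ⟨s, ⟨hs true, hs false⟩, fun s₂ h₂ => huniq s₂ ?_⟩
  intro b
  match b with
  | true => exact h₂.1
  | false => exact h₂.2

end abstract

section schemes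

variable (K : GrothendieckTopology Scheme.{u}) (P : MorphismProperty Scheme.{u})

/-- jointly surjective pairs of proper morphisms with `P` are covering for `K` -/
def PairCov : Prop :=
  ∀ {T A B : Scheme.{u}} (a : A ⟶ T) (b : B ⟶ T), IsProper a → IsProper b → P a → P b →
    (∀ t : T, t ∈ Set.range a ∨ t ∈ Set.range b) → ∀ Q : Sieve T, Q a → Q b → Q ∈ K T

variable {K P}

theorem mem_over_of_pair (hK : PairCov K P) {S : Scheme.{u}} {T A B : Over S} (a : A ⟶ T)
    (b : B ⟶ T) (ha : IsProper a.left) (hb : IsProper b.left) (hPa : P a.left) (hPb : P b.left)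
    (hsurj : ∀ t : T.left, t ∈ Set.range a.left ∨ t ∈ Set.range b.left)
    (R : Sieve T) (hRa : R a) (hRb : R b) : R ∈ K.over S T := by
  rw [GrothendieckTopology.mem_over_iff]
  apply hK a.left b.left ha hb hPa hPb hsurj
  · have h1 : (Sieve.overEquiv T).symm (Sieve.overEquiv T R) a := by
      rw [OrderIso.symm_apply_apply]; exact hRa
    exact (Sieve.overEquiv_symm_iff _ _).mp h1
  · have h1 : (Sieve.overEquiv T).symm (Sieve.overEquiv T R) b := by
      rw [OrderIso.symm_apply_apply]; exact hRb
    exact (Sieve.overEquiv_symm_iff _ _).mp h1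

/-- the equalizer of two morphisms into a separated scheme of finite type over the target -/
theorem exists_T₁ {S : Scheme.{u}} {X Y : Over S} (f : X ⟶ Y)
    [IsSeparated f.left] [LocallyOfFiniteType f.left] {T : Over S} (p₁ p₂ : T ⟶ X)
    (hpl : p₁.left ≫ f.left = p₂.left ≫ f.left) :
    ∃ (T₁ : Over S) (a : T₁ ⟶ T),
      IsClosedImmersion a.left ∧ LocallyOfFinitePresentation a.left ∧
      Set.range a.left.base = (pullback.lift p₁.left p₂.left hpl).base ⁻¹'
        Set.range (pullback.diagonal f.left).base ∧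
      a ≫ p₁ = a ≫ p₂ := by
  haveI : LocallyOfFinitePresentation (pullback.diagonal f.left) :=
    Groth.Agent.Helper2.LfpComp.locallyOfFinitePresentation_of_comp (pullback.diagonal f.left)
      (pullback.fst f.left f.left) (by rw [pullback.diagonal_fst]; infer_instance) inferInstance
  have hcond := pullback.condition (f := pullback.lift p₁.left p₂.left hpl)
    (g := pullback.diagonal f.left)
  have hd1 : pullback.fst (pullback.lift p₁.left p₂.left hpl) (pullback.diagonal f.left) ≫
      p₁.left = pullback.snd _ _ := by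
    have h := congrArg (fun m => m ≫ pullback.fst f.left f.left) hcond
    simp only [Category.assoc, pullback.diagonal_fst, Category.comp_id] at h
    rw [pullback.lift_fst] at h
    exact h
  have hd2 : pullback.fst (pullback.lift p₁.left p₂.left hpl) (pullback.diagonal f.left) ≫
      p₂.left = pullback.snd _ _ := by
    have h := congrArg (fun m => m ≫ pullback.snd f.left f.left) hcond
    simp only [Category.assoc, pullback.diagonal_snd, Category.comp_id] at h
    rw [pullback.lift_snd] at h
    exact h
  refine ⟨Over.mk (pullback.fst (pullback.lift p₁.left p₂.left hpl)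
      (pullback.diagonal f.left) ≫ T.hom),
    Over.homMk (pullback.fst (pullback.lift p₁.left p₂.left hpl) (pullback.diagonal f.left)) rfl,
    ?_, ?_, ?_, ?_⟩
  · show IsClosedImmersion (pullback.fst (pullback.lift p₁.left p₂.left hpl)
      (pullback.diagonal f.left))
    infer_instance
  · show LocallyOfFinitePresentation (pullback.fst (pullback.lift p₁.left p₂.left hpl)
      (pullback.diagonal f.left))
    infer_instance
  · exact Scheme.Pullback.range_fst _ _
  · apply Over.OverMorphism.ext
    show pullback.fst (pullback.lift p₁.left p₂.left hpl) (pullback.diagonal f.left) ≫ p₁.left =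
      pullback.fst (pullback.lift p₁.left p₂.left hpl) (pullback.diagonal f.left) ≫ p₂.left
    rw [hd1, hd2]

open Groth.Agent.Helper8.HCart in
/-- the two pullbacks of `s'` to any `T` over `X ×_Y X` agree -/
theorem compat (hK : PairCov K P)
    (hP : ∀ {A B : Scheme.{u}} (g : A ⟶ B), LocallyOfFinitePresentation g → P g)
    {S : Scheme.{u}} (F : (Over S)ᵒᵖ ⥤ Type w₁) (hF : Presieve.IsSheaf (K.over S) F)
    {E Z X Y : Over S} (e : E ⟶ X) (π : E ⟶ Z) (f : X ⟶ Y) (i : Z ⟶ Y)
    [IsSeparated f.left] [LocallyOfFiniteType f.left]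
    [IsClosedImmersion i.left] [LocallyOfFinitePresentation i.left]
    (hsq : IsPullback e.left π.left f.left i.left)
    (U : Y.left.Opens) (hU : (U : Set Y.left) = (Set.range i.left.base)ᶜ) [Mono (f.left ∣_ U)]
    (t : F.obj (op Z)) (s' : F.obj (op X)) (hts : F.map π.op t = F.map e.op s')
    {T : Over S} (p₁ p₂ : T ⟶ X) (hp : p₁ ≫ f = p₂ ≫ f) :
    F.map p₁.op s' = F.map p₂.op s' := by
  have hpl : p₁.left ≫ f.left = p₂.left ≫ f.left := by
    rw [← Over.comp_left, ← Over.comp_left, hp]
  obtain ⟨T₂, b, q₁, q₂, r, hb1, hb2, hbr, h1e, h2e, h1π, h2π⟩ := exists_T₂ e π f i hsq p₁ p₂ hp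
  obtain ⟨T₁, a, ha1, ha2, har, hap⟩ := exists_T₁ f p₁ p₂ hpl
  have hsurj : ∀ τ : T.left, τ ∈ Set.range a.left ∨ τ ∈ Set.range b.left := by
    intro τ
    have h1 := cover_T f.left i.left U hU p₁.left p₂.left hpl τ
    rw [← har, ← hbr] at h1
    exact h1
  apply eq_of_pair (K.over S) F hF a b
    (mem_over_of_pair hK a b inferInstance inferInstance (hP _ ha2) (hP _ hb2) hsurj)
  · rw [← FunctorToTypes.map_comp_apply, ← FunctorToTypes.map_comp_apply, ← op_comp, ← op_comp,
      hap]
  · have key : ∀ (p : T ⟶ X) (q : T₂ ⟶ E), q ≫ e = b ≫ p → q ≫ π = r →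
        F.map b.op (F.map p.op s') = F.map r.op t := by
      intro p q he hπ
      rw [← FunctorToTypes.map_comp_apply, ← op_comp, ← he, op_comp,
        FunctorToTypes.map_comp_apply, ← hts, ← FunctorToTypes.map_comp_apply, ← op_comp, hπ]
    rw [key p₁ q₁ h1e h1π, key p₂ q₂ h2e h2π]

/-- **cartesian square of sections**: `i` a closed immersion of finite presentation, `f` proper with
`P`, the square a fibre square, and `f` an isomorphism over the complement of `Z` -/
theorem main (hK : PairCov K P)
    (hP : ∀ {A B : Scheme.{u}} (g : A ⟶ B), LocallyOfFinitePresentation g → P g)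
    {S : Scheme.{u}} (F : (Over S)ᵒᵖ ⥤ Type w₁) (hF : Presieve.IsSheaf (K.over S) F)
    {E Z X Y : Over S} (e : E ⟶ X) (π : E ⟶ Z) (f : X ⟶ Y) (i : Z ⟶ Y)
    [IsProper f.left] (hPf : P f.left)
    [IsClosedImmersion i.left] [LocallyOfFinitePresentation i.left]
    (hsq : IsPullback e.left π.left f.left i.left)
    (U : Y.left.Opens) (hU : (U : Set Y.left) = (Set.range i.left.base)ᶜ)
    (hiso : IsIso (f.left ∣_ U))
    (t : F.obj (op Z)) (s' : F.obj (op X)) (hts : F.map π.op t = F.map e.op s') :
    ∃! s : F.obj (op Y), F.map i.op s = t ∧ F.map f.op s = s' := by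
  haveI : Mono i := (Over.forget S).mono_of_mono_map (inferInstanceAs (Mono i.left))
  have hsurj : ∀ y : Y.left, y ∈ Set.range i.left ∨ y ∈ Set.range f.left := by
    intro y
    by_cases hy : y ∈ Set.range i.left
    · exact Or.inl hy
    · right
      have hyU : y ∈ U := by
        show y ∈ (U : Set Y.left)
        rw [hU]; exact hy
      haveI : Surjective (f.left ∣_ U) := inferInstance
      obtain ⟨x, hx⟩ := (f.left ∣_ U).surjective ⟨y, hyU⟩
      refine ⟨(f.left ⁻¹ᵁ U).ι x, ?_⟩
      have h1 : ((f.left ⁻¹ᵁ U).ι ≫ f.left) x = ((f.left ∣_ U) ≫ U.ι) x := by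
        rw [morphismRestrict_ι]
      rw [Scheme.Hom.comp_apply, Scheme.Hom.comp_apply, hx] at h1
      exact h1
  refine existsUnique_of_pair (K.over S) F hF e π f i ?_
    (mem_over_of_pair hK i f inferInstance inferInstance (hP _ inferInstance) hPf hsurj) t s' hts
    (fun {T} p₁ p₂ hp => compat hK hP F hF e π f i hsq U hU t s' hts p₁ p₂ hp)
  intro T g₁ g₂ hg
  have hgl : g₂.left ≫ f.left = g₁.left ≫ i.left := by
    rw [← Over.comp_left, ← Over.comp_left, hg]
  refine ⟨Over.homMk (hsq.lift g₂.left g₁.left hgl) ?_, ?_, ?_⟩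
  · rw [← Over.w e, ← Category.assoc, hsq.lift_fst, Over.w g₂]
  · apply Over.OverMorphism.ext
    exact hsq.lift_snd _ _ _
  · apply Over.OverMorphism.ext
    exact hsq.lift_fst _ _ _

end schemes

end Groth.Agent.Helper4.SN394
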