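import Mathlib
import Groth.Prelude.Def_HTop
import Groth.Agent.Helper8.HCart
import Groth.Agent.Helper3.PhRef5
import Groth.Agent.Helper3.PhRef1
import Groth.Agent.Helper4.SN394

/-!
# Jointly surjective proper pairs are covering for the h and ph topologies
-/

set_option autoImplicit false
set_option linter.deprecated false
set_option linter.style.haveILetI false
universe u
open CategoryTheory CategoryTheory.Limits AlgebraicGeometry Opposite

namespace Groth.Agent.Helper4.SN395

open Groth.Agent.Helper4.SN394

/-- a sieve on a binary coproduct of schemes containing both inclusions is a ph covering sieve -/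
theorem mem_phTopology_coprod {A B : Scheme.{u}} (R : Sieve (A ⨿ B))
    (hl : R (coprod.inl : A ⟶ A ⨿ B)) (hr : R (coprod.inr : B ⟶ A ⨿ B)) :
    R ∈ HTop.phTopology (A ⨿ B) := by
  let 𝒰 := coprodOpenCover.{_, 0} A B
  have hH : HTop.IsPhCover 𝒰.toPreZeroHypercover := by
    apply Groth.Agent.Helper3.PhRef.isPhCover_of_fppf
    · rintro (x | x)
      · exact inferInstanceAs (Flat (coprod.inl : A ⟶ A ⨿ B))
      · exact inferInstanceAs (Flat (coprod.inr : B ⟶ A ⨿ B))
    · rintro (x | x)
      · exact inferInstanceAs (LocallyOfFinitePresentation (coprod.inl : A ⟶ A ⨿ B))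
      · exact inferInstanceAs (LocallyOfFinitePresentation (coprod.inr : B ⟶ A ⨿ B))
    · intro t
      obtain ⟨i, y, hy⟩ := 𝒰.exists_eq t
      exact ⟨i, y, hy⟩
  have hmem : 𝒰.toPreZeroHypercover.presieve₀ ∈ HTop.phPrecoverage (A ⨿ B) :=
    (HTop.presieve₀_mem_phPrecoverage_iff _).mpr hH
  refine HTop.phTopology.superset_covering ?_ (Precoverage.generate_mem_toGrothendieck hmem)
  rw [Sieve.generate_le_iff]
  rintro Z g ⟨x⟩
  rcases x with x | x
  · exact hl
  · exact hr

theorem surjective_coprodDesc {T A B : Scheme.{u}} (a : A ⟶ T) (b : B ⟶ T)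
    (hsurj : ∀ t : T, t ∈ Set.range a ∨ t ∈ Set.range b) : Surjective (coprod.desc a b) :=
  ⟨fun t => by
    rcases hsurj t with ⟨x, rfl⟩ | ⟨y, rfl⟩
    · refine ⟨(coprod.inl : A ⟶ A ⨿ B) x, ?_⟩
      rw [← Scheme.Hom.comp_apply, coprod.inl_desc]
    · refine ⟨(coprod.inr : B ⟶ A ⨿ B) y, ?_⟩
      rw [← Scheme.Hom.comp_apply, coprod.inr_desc]⟩

/-- jointly surjective proper pairs are ph covering -/
theorem pairCov_ph : PairCov HTop.phTopology (⊤ : MorphismProperty Scheme.{u}) := by
  intro T A B a b ha hb _ _ hsurj Q hQa hQb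
  haveI : IsProper (coprod.desc a b) := Groth.Agent.Helper3.PhRef.isProper_coprodDesc a b
  haveI : Surjective (coprod.desc a b) := surjective_coprodDesc a b hsurj
  have hc : Sieve.generate (Presieve.singleton (coprod.desc a b)) ∈ HTop.phTopology T := by
    apply Precoverage.generate_mem_toGrothendieck
    have h := (HTop.presieve₀_mem_phPrecoverage_iff
      (PreZeroHypercover.singleton.{0} (coprod.desc a b))).mpr
      (Groth.Agent.Lead.HCov.isPhCover_singleton (coprod.desc a b))
    rw [PreZeroHypercover.presieve₀_singleton] at h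
    exact h
  refine HTop.phTopology.transitive hc Q ?_
  rintro Y g ⟨W, h, k, ⟨⟩, rfl⟩
  rw [Sieve.pullback_comp]
  apply HTop.phTopology.pullback_stable
  apply mem_phTopology_coprod
  · show Q (coprod.inl ≫ coprod.desc a b)
    rw [coprod.inl_desc]; exact hQa
  · show Q (coprod.inr ≫ coprod.desc a b)
    rw [coprod.inr_desc]; exact hQb

/-- jointly surjective proper pairs of finite presentation are h covering -/
theorem pairCov_h : PairCov HTop.hTopology (@LocallyOfFinitePresentation : MorphismProperty Scheme.{u}) := by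
  intro T A B a b ha hb hPa hPb hsurj Q hQa hQb
  haveI : LocallyOfFinitePresentation a := hPa
  haveI : LocallyOfFinitePresentation b := hPb
  haveI : IsProper (coprod.desc a b) := Groth.Agent.Helper3.PhRef.isProper_coprodDesc a b
  haveI : Surjective (coprod.desc a b) := surjective_coprodDesc a b hsurj
  haveI : LocallyOfFinitePresentation (coprod.desc a b) := by
    rw [IsZariskiLocalAtSource.iff_of_openCover (P := @LocallyOfFinitePresentation)
      (coprodOpenCover.{_, 0} A B)]
    rintro (x | x)
    · show LocallyOfFinitePresentation (coprod.inl ≫ coprod.desc a b)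
      rw [coprod.inl_desc]; infer_instance
    · show LocallyOfFinitePresentation (coprod.inr ≫ coprod.desc a b)
      rw [coprod.inr_desc]; infer_instance
  have hc : Sieve.generate (Presieve.singleton (coprod.desc a b)) ∈ HTop.hTopology T := by
    apply Precoverage.generate_mem_toGrothendieck
    have h := (HTop.presieve₀_mem_hPrecoverage_iff
      (PreZeroHypercover.singleton.{0} (coprod.desc a b))).mpr
      (Groth.Agent.Lead.HCov.isHCover_singleton (coprod.desc a b))
    rw [PreZeroHypercover.presieve₀_singleton] at h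
    exact h
  refine HTop.hTopology.transitive hc Q ?_
  rintro Y g ⟨W, h, k, ⟨⟩, rfl⟩
  rw [Sieve.pullback_comp]
  apply HTop.hTopology.pullback_stable
  apply Groth.Agent.Helper8.HCart.mem_hTopology_coprod
  · show Q (coprod.inl ≫ coprod.desc a b)
    rw [coprod.inl_desc]; exact hQa
  · show Q (coprod.inr ≫ coprod.desc a b)
    rw [coprod.inr_desc]; exact hQb

end Groth.Agent.Helper4.SN395
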