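import Mathlib
import Groth.Prelude.Def_BlowUp2
import Groth.Agent.Helper4.NApx49
import Groth.Agent.Helper4.NApx31
import Groth.Agent.Helper4.NApx27

/-!
# Blow-ups are isomorphisms away from the centre; the ideal of a finitely presented closed immersion
-/

set_option autoImplicit false
set_option linter.style.haveILetI false
universe u
open CategoryTheory CategoryTheory.Limits AlgebraicGeometry Opposite TopologicalSpace

namespace Groth.Agent.Helper4.SN396

theorem comap_eq_top_of_disjoint {Y T : Scheme.{u}} (I : Y.IdealSheafData) (j : T ⟶ Y)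
    (h : ∀ x : T, j x ∉ I.support) : I.comap j = ⊤ := by
  rw [← Scheme.IdealSheafData.support_eq_bot_iff, Scheme.IdealSheafData.support_comap]
  apply Closeds.ext
  rw [Closeds.coe_preimage, Closeds.coe_bot, Set.eq_empty_iff_forall_notMem]
  intro x hx
  exact h x hx

/-- a blow-up is an isomorphism over any open that misses the centre -/
theorem isIso_restrict_of_isBlowUp {X X' : Scheme.{u}} (𝓘 : X.IdealSheafData) (b : X' ⟶ X)
    (hb : BlowUp.IsBlowUp b 𝓘) (U : X.Opens) (hU : ∀ x ∈ U, x ∉ 𝓘.support) : IsIso (b ∣_ U) := by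
  have h1 := Groth.Agent.Helper4.NApx49.isBlowUp_restrict 𝓘 b hb U
  have h2 : 𝓘.comap U.ι = ⊤ := comap_eq_top_of_disjoint 𝓘 U.ι (fun x => hU _ x.2)
  rw [h2] at h1
  obtain ⟨e, he⟩ := Groth.Agent.Helper4.NApx27.isBlowUp_unique _ _ _ h1
    (Groth.Agent.Helper4.NApx31.isBlowUp_id_top (U : Scheme.{u}))
  rw [Category.comp_id] at he
  rw [← he]
  infer_instance

theorem ker_fg_of_surjective_of_finitePresentation {R B : Type*} [CommRing R] [CommRing B]
    (φ : R →+* B) (hs : Function.Surjective φ) (hfp : φ.FinitePresentation) :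
    (RingHom.ker φ).FG := by
  algebraize [φ]
  haveI : Algebra.FinitePresentation R B := hfp
  exact Algebra.FinitePresentation.ker_fG_of_surjective (Algebra.ofId R B) hs

/-- the ideal of a closed immersion of finite presentation is of finite type -/
theorem isFiniteTypeIdeal_ker {Z X : Scheme.{u}} (i : Z ⟶ X) [IsClosedImmersion i]
    [LocallyOfFinitePresentation i] : BlowUp.IsFiniteTypeIdeal i.ker := by
  intro V
  rw [Scheme.Hom.ker_apply]
  have hs := i.app_surjective V.1 V.2
  have hfp := i.finitePresentation_appLE V.2 (V.2.preimage i) le_rfl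
  rw [← Scheme.Hom.app_eq_appLE] at hfp
  exact ker_fg_of_surjective_of_finitePresentation (i.app V.1).hom hs hfp

/-- the support of the ideal of a closed immersion is its range -/
theorem support_ker_of_isClosedImmersion {Z X : Scheme.{u}} (i : Z ⟶ X) [IsClosedImmersion i] :
    (i.ker.support : Set X) = Set.range i := by
  rw [Scheme.Hom.support_ker, i.isClosedEmbedding.isClosed_range.closure_eq]

end Groth.Agent.Helper4.SN396
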