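import Groth.Agent.Helper4.RelCompTwist
import Mathlib

set_option autoImplicit false
universe u
open CategoryTheory CategoryTheory.Limits AlgebraicGeometry Opposite TopologicalSpace

namespace Groth.Agent.Helper4.SN397

open Groth.Agent.Helper4.GenLoc Groth.Agent.Helper4.TensorInv Groth.Agent.Helper4.TensorGen
  Groth.Agent.Helper4.TensorAssoc Groth.Agent.Helper4.PullSec Groth.Agent.Helper4.PullUnit
  Groth.Agent.Helper4.GenLocIso Groth.Agent.Helper4.AmplePoints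
  Groth.Agent.Helper4.RelCompTwist

variable {X' X : Scheme.{u}}

/-- for `N` invertible: the pullback of a section is an iso iff the map lands in its generating
locus. -/
theorem isIso_pullback_map_iff (f : X' ⟶ X) {N : X.Modules} (hN : PicF.IsInvertible N)
    (s : Coh.structureModule X ⟶ N) :
    IsIso ((Scheme.Modules.pullback f).map s) ↔ f ⁻¹ᵁ CohB1.genLocus _ s = ⊤ := by
  have hps : (Scheme.Modules.pullback f).map s = (pullbackUnitIso f).hom ≫ pullSec f s := by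
    unfold pullSec; rw [Iso.hom_inv_id_assoc]
  constructor
  · intro h
    have h2 : IsIso (pullSec f s) := by unfold pullSec; infer_instance
    rw [← genLocus_pullSec f hN s]
    apply top_le_iff.mp
    apply le_sSup
    change IsIso _
    infer_instance
  · intro h
    have h2 : IsIso (pullSec f s) := by
      apply isIso_of_genLocus_eq_top
      rw [genLocus_pullSec f hN s, h]
    rw [hps]
    infer_instance


theorem yBlowUp_comp {X Y : Scheme.{u}} (f : Y ⟶ X) [CompactSpace X]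
    {Xᵢ Xⱼ : Scheme.{u}} (fᵢ : Y ⟶ Xᵢ) (gᵢ : Xᵢ ⟶ X) (fⱼ : Y ⟶ Xⱼ) (gᵢⱼ : Xⱼ ⟶ Xᵢ)
    (hᵢ : IsSchemeTheoreticallyDominant fᵢ ∧ IsProper gᵢ ∧ fᵢ ≫ gᵢ = f ∧
        ∃ (L : Xᵢ.Modules) (ε : Coh.structureModule Xᵢ ⟶ L),
          RelAmple.IsRelAmple gᵢ L ∧ IsIso ((Scheme.Modules.pullback fᵢ).map ε))
    (hⱼ : IsSchemeTheoreticallyDominant fⱼ ∧ IsProper gᵢⱼ ∧ fⱼ ≫ gᵢⱼ = fᵢ ∧
        ∃ (L : Xⱼ.Modules) (ε : Coh.structureModule Xⱼ ⟶ L),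
          RelAmple.IsRelAmple gᵢⱼ L ∧ IsIso ((Scheme.Modules.pullback fⱼ).map ε)) :
    IsSchemeTheoreticallyDominant fⱼ ∧ IsProper (gᵢⱼ ≫ gᵢ) ∧ fⱼ ≫ (gᵢⱼ ≫ gᵢ) = f ∧
        ∃ (L : Xⱼ.Modules) (ε : Coh.structureModule Xⱼ ⟶ L),
          RelAmple.IsRelAmple (gᵢⱼ ≫ gᵢ) L ∧ IsIso ((Scheme.Modules.pullback fⱼ).map ε) := by
  obtain ⟨-, hpᵢ, hfᵢ, Lᵢ, εᵢ, hLᵢ, hεᵢ⟩ := hᵢ
  obtain ⟨hdⱼ, hpⱼ, hfⱼ, Lⱼ, εⱼ, hLⱼ, hεⱼ⟩ := hⱼ
  refine ⟨hdⱼ, inferInstance, by rw [← Category.assoc, hfⱼ, hfᵢ], ?_⟩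
  obtain ⟨n₀, hn₀, hn⟩ := exists_forall_isRelAmple_comp gᵢⱼ gᵢ Lⱼ Lᵢ hLⱼ hLᵢ
  have hIᵢ := isInvertible_of_isRelAmple gᵢ Lᵢ hLᵢ
  have hIⱼ := isInvertible_of_isRelAmple gᵢⱼ Lⱼ hLⱼ
  have hIp := isInvertible_tensorPow hIᵢ n₀
  have hIpp := isInvertible_pullback gᵢⱼ hIp
  refine ⟨_, SecTwist.tmulHom εⱼ (pullSec gᵢⱼ (SecTwist.powHom εᵢ n₀)), hn n₀ le_rfl, ?_⟩
  rw [isIso_pullback_map_iff fⱼ (isInvertible_tensorMod hIⱼ hIpp),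
    genLocus_tmulHom _ _ hIⱼ hIpp, genLocus_pullSec gᵢⱼ hIp]
  rw [isIso_pullback_map_iff fⱼ hIⱼ] at hεⱼ
  rw [isIso_pullback_map_iff fᵢ hIᵢ] at hεᵢ
  apply top_le_iff.mp
  intro y _
  refine ⟨?_, ?_⟩
  · have : y ∈ fⱼ ⁻¹ᵁ CohB1.genLocus Lⱼ εⱼ := by rw [hεⱼ]; trivial
    exact this
  · have : y ∈ fᵢ ⁻¹ᵁ CohB1.genLocus Lᵢ εᵢ := by rw [hεᵢ]; trivial
    have h2 : fᵢ y ∈ CohB1.genLocus Lᵢ εᵢ := this
    have h3 := genLocus_le_genLocus_powHom hIᵢ εᵢ n₀ h2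
    subst hfⱼ
    exact h3

end Groth.Agent.Helper4.SN397
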