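import Groth.Agent.Helper4.SN397
import Groth.Agent.Helper4.PullBC
import Groth.Agent.Helper4.PullRel
import Groth.Agent.Helper4.NApx15
import Mathlib

set_option autoImplicit false
universe u
open CategoryTheory CategoryTheory.Limits AlgebraicGeometry Opposite TopologicalSpace

namespace Groth.Agent.Helper4.SN398

open Groth.Agent.Helper4.GenLoc Groth.Agent.Helper4.TensorInv Groth.Agent.Helper4.TensorGen
  Groth.Agent.Helper4.TensorAssoc Groth.Agent.Helper4.PullSec Groth.Agent.Helper4.PullUnit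
  Groth.Agent.Helper4.GenLocIso Groth.Agent.Helper4.AmplePoints
  Groth.Agent.Helper4.RelCompTwist Groth.Agent.Helper4.SN397

theorem yBlowUp_common {X Y : Scheme.{u}} (f : Y ⟶ X) [CompactSpace X] [QuasiCompact f]
    {X₁ X₂ : Scheme.{u}} (f₁ : Y ⟶ X₁) (g₁ : X₁ ⟶ X) (f₂ : Y ⟶ X₂) (g₂ : X₂ ⟶ X)
    (h₁ : IsSchemeTheoreticallyDominant f₁ ∧ IsProper g₁ ∧ f₁ ≫ g₁ = f ∧
        ∃ (L : X₁.Modules) (ε : Coh.structureModule X₁ ⟶ L),
          RelAmple.IsRelAmple g₁ L ∧ IsIso ((Scheme.Modules.pullback f₁).map ε))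
    (h₂ : IsSchemeTheoreticallyDominant f₂ ∧ IsProper g₂ ∧ f₂ ≫ g₂ = f ∧
        ∃ (L : X₂.Modules) (ε : Coh.structureModule X₂ ⟶ L),
          RelAmple.IsRelAmple g₂ L ∧ IsIso ((Scheme.Modules.pullback f₂).map ε)) :
    ∃ (X₃ : Scheme.{u}) (f₃ : Y ⟶ X₃) (g₃ : X₃ ⟶ X) (d₁ : X₃ ⟶ X₁) (d₂ : X₃ ⟶ X₂),
      (IsSchemeTheoreticallyDominant f₃ ∧ IsProper g₃ ∧ f₃ ≫ g₃ = f ∧
        ∃ (L : X₃.Modules) (ε : Coh.structureModule X₃ ⟶ L),
          RelAmple.IsRelAmple g₃ L ∧ IsIso ((Scheme.Modules.pullback f₃).map ε)) ∧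
      f₃ ≫ d₁ = f₁ ∧ d₁ ≫ g₁ = g₃ ∧ f₃ ≫ d₂ = f₂ ∧ d₂ ≫ g₂ = g₃ := by
  obtain ⟨-, hp₁, hf₁, L₁, ε₁, hL₁, hε₁⟩ := h₁
  obtain ⟨-, hp₂, hf₂, L₂, ε₂, hL₂, hε₂⟩ := h₂
  have hI₁ := isInvertible_of_isRelAmple g₁ L₁ hL₁
  have hI₂ := isInvertible_of_isRelAmple g₂ L₂ hL₂
  let p₁ := pullback.fst g₁ g₂
  let p₂ := pullback.snd g₁ g₂
  let h : Y ⟶ pullback g₁ g₂ := pullback.lift f₁ f₂ (hf₁.trans hf₂.symm)
  have hh₁ : h ≫ p₁ = f₁ := pullback.lift_fst _ _ _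
  have hh₂ : h ≫ p₂ = f₂ := pullback.lift_snd _ _ _
  -- h is quasi-compact
  haveI : QuasiCompact (h ≫ (p₁ ≫ g₁)) := by
    rw [← Category.assoc, hh₁, hf₁]; infer_instance
  haveI : QuasiCompact h := QuasiCompact.of_comp h (p₁ ≫ g₁)
  -- relative ampleness on the product
  have hA₁ : RelAmple.IsRelAmple p₂ ((Scheme.Modules.pullback p₁).obj L₁) :=
    Groth.Agent.Helper4.PullBC.isRelAmple_baseChange g₁ g₂ L₁ hL₁
  obtain ⟨n₀, hn₀, hn⟩ := exists_forall_isRelAmple_comp p₂ g₂ _ L₂ hA₁ hL₂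
  have hA := hn n₀ le_rfl
  have hj : Topology.IsEmbedding h.imageι.base := h.imageι.isEmbedding
  haveI : QuasiCompact (p₂ ≫ g₂) := inferInstance
  have hA₃ := Groth.Agent.Helper4.PullRel.isRelAmple_pullback_of_isEmbedding (p₂ ≫ g₂) h.imageι
    hj _ hA
  have hIa := isInvertible_pullback p₁ hI₁
  have hIp := isInvertible_tensorPow hI₂ n₀
  have hIpp := isInvertible_pullback p₂ hIp
  have hIt := isInvertible_tensorMod hIa hIpp
  have hcond : p₁ ≫ g₁ = p₂ ≫ g₂ := pullback.condition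
  refine ⟨h.image, h.toImage, h.imageι ≫ (p₂ ≫ g₂), h.imageι ≫ p₁, h.imageι ≫ p₂,
    ⟨Groth.Agent.Helper4.NApx15.isSchemeTheoreticallyDominant_toImage h, inferInstance, ?_,
      _, pullSec h.imageι (SecTwist.tmulHom (pullSec p₁ ε₁) (pullSec p₂ (SecTwist.powHom ε₂ n₀))),
      hA₃, ?_⟩, ?_, ?_, ?_, ?_⟩
  · rw [Scheme.Hom.toImage_imageι_assoc, reassoc_of% hh₂, hf₂]
  · rw [isIso_pullback_map_iff h.toImage (isInvertible_pullback h.imageι hIt),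
      genLocus_pullSec h.imageι hIt, genLocus_tmulHom _ _ hIa hIpp, genLocus_pullSec p₁ hI₁,
      genLocus_pullSec p₂ hIp]
    rw [isIso_pullback_map_iff f₁ hI₁] at hε₁
    rw [isIso_pullback_map_iff f₂ hI₂] at hε₂
    apply top_le_iff.mp
    intro y _
    have e1 : p₁ (h.imageι (h.toImage y)) = f₁ y := by
      rw [← Scheme.Hom.comp_apply, ← Scheme.Hom.comp_apply, Scheme.Hom.toImage_imageι_assoc, hh₁]
    have e2 : p₂ (h.imageι (h.toImage y)) = f₂ y := by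
      rw [← Scheme.Hom.comp_apply, ← Scheme.Hom.comp_apply, Scheme.Hom.toImage_imageι_assoc, hh₂]
    refine ⟨?_, ?_⟩
    · have : y ∈ f₁ ⁻¹ᵁ CohB1.genLocus L₁ ε₁ := by rw [hε₁]; trivial
      change p₁ (h.imageι (h.toImage y)) ∈ CohB1.genLocus L₁ ε₁
      rw [e1]; exact this
    · have : y ∈ f₂ ⁻¹ᵁ CohB1.genLocus L₂ ε₂ := by rw [hε₂]; trivial
      change p₂ (h.imageι (h.toImage y)) ∈ CohB1.genLocus _ (SecTwist.powHom ε₂ n₀)
      rw [e2]; exact genLocus_le_genLocus_powHom hI₂ ε₂ n₀ this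
  · rw [Scheme.Hom.toImage_imageι_assoc, hh₁]
  · rw [Category.assoc, hcond]
  · rw [Scheme.Hom.toImage_imageι_assoc, hh₂]
  · rw [Category.assoc]

end Groth.Agent.Helper4.SN398
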