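import Mathlib
import Groth.Agent.Helper4.SN399
import Groth.Agent.Helper1.VA14
import Groth.Agent.S2333
import Groth.Agent.S12416

set_option autoImplicit false
set_option linter.style.haveILetI false

namespace Groth.Agent.Helper4.SN400

open CategoryTheory Limits AlgebraicGeometry TopologicalSpace
open Groth.Agent.Helper1.Chow

universe u

theorem irreducibleSpace_of_denseRange {X Y : Scheme.{u}} (u : X ⟶ Y) [IrreducibleSpace X]
    (hu : DenseRange u) : IrreducibleSpace Y := by
  rw [irreducibleSpace_def]
  have h1 : IsIrreducible (Set.univ : Set X) := (irreducibleSpace_def X).mp inferInstance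
  have h2 : IsIrreducible (u '' Set.univ) := h1.image u u.continuous.continuousOn
  have h3 := h2.closure
  rw [Set.image_univ, hu.closure_eq] at h3
  exact h3

theorem irreducibleSpace_opens {X : Scheme.{u}} [IrreducibleSpace X] (U : X.Opens)
    (hU : Dense (U : Set X)) : IrreducibleSpace (U : Scheme.{u}) := by
  have h1 : IsIrreducible (Set.univ : Set X) := (irreducibleSpace_def X).mp inferInstance
  have hne : (U : Set X).Nonempty := hU.nonempty
  have h2 : IsPreirreducible (U : Set X) := h1.2.open_subset U.isOpen (Set.subset_univ _)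
  haveI : PreirreducibleSpace (U : Set X) := Subtype.preirreducibleSpace h2
  haveI : Nonempty (U : Set X) := hne.to_subtype
  exact { toPreirreducibleSpace := inferInstanceAs (PreirreducibleSpace (U : Set X))
          toNonempty := inferInstanceAs (Nonempty (U : Set X)) }

/-- Chow's lemma in the form of EGA II 5.6.1, for a qcqs base and finitely many irreducible
components. -/
theorem chow_ega {X S : Scheme.{u}} (r : X ⟶ S) [IsSeparated r] [LocallyOfFiniteType r]
    [QuasiCompact r] [CompactSpace S] [QuasiSeparatedSpace S]
    (hirr : (irreducibleComponents X).Finite) :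
    ∃ (X' : Scheme.{u}) (f : X' ⟶ X),
      RelProj.IsQuasiProjective (f ≫ r) ∧ RelProj.IsProjective f ∧ IsProper f ∧ Surjective f ∧
      (∃ U : X.Opens, Dense (U : Set X) ∧ Dense ((f ⁻¹ᵁ U : X'.Opens) : Set X') ∧
        IsIso (f ∣_ U)) ∧
      (IsReduced X → IsReduced X') ∧ (IrreducibleSpace X → IrreducibleSpace X') ∧
      (IsIntegral X → IsIntegral X') := by
  haveI : CompactSpace X := QuasiCompact.compactSpace_of_compactSpace r
  haveI : QuasiSeparatedSpace X := quasiSeparatedSpace_of_quasiSeparated r
  obtain ⟨M, X', π, j, hj, h2, hπ, hsurj, U, hUd, hiso, u, hu, hud, hus, huq⟩ :=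
    Groth.Agent.Helper4.SN399.chow_strong r hirr
  haveI := Groth.Agent.Helper6.HProj.isProper_toBase M S
  haveI : QuasiCompact (j ≫ CohB1.ProjSpaceOver.toBase M S) := by rw [h2]; infer_instance
  haveI : QuasiCompact j :=
    MorphismProperty.of_postcomp (W := @QuasiCompact) (W' := @QuasiSeparated)
      j (CohB1.ProjSpaceOver.toBase M S) inferInstance inferInstance
  have hA := Groth.Agent.Helper1.VA.isRelAmple_of_immersion j
  rw [h2] at hA
  have hq1 : RelProj.IsQuasiProjective (π ≫ r) := ⟨inferInstance, inferInstance, _, hA⟩
  have hq2 : RelProj.IsQuasiProjective π :=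
    ⟨inferInstance, inferInstance, _, Groth.Agent.S2333.result π r _ hA⟩
  have hp : RelProj.IsProjective π := Groth.Agent.S12416.result π hq2
  have hred : IsReduced X → IsReduced X' := by
    intro _
    exact IsSchemeTheoreticallyDominant.isReduced u
  have hirr' : IrreducibleSpace X → IrreducibleSpace X' := by
    intro _
    haveI := irreducibleSpace_opens U hUd
    exact irreducibleSpace_of_denseRange u hud
  refine ⟨X', π, hq1, hp, hπ, ⟨hsurj⟩, ⟨U, hUd, ?_, hiso⟩, hred, hirr', ?_⟩
  · refine hud.mono ?_
    rintro _ ⟨y, rfl⟩
    change π (u y) ∈ U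
    rw [← Scheme.Hom.comp_apply, hu]
    exact y.2
  · intro hX
    haveI := hred inferInstance
    haveI := hirr' inferInstance
    exact isIntegral_of_irreducibleSpace_of_isReduced X'


/-- the two alternative hypotheses of EGA II 5.6.1 both give a qcqs base and finitely many
irreducible components. -/
theorem hyp_of_or {X S : Scheme.{u}} (r : X ⟶ S) [LocallyOfFiniteType r] [QuasiCompact r]
    (h : IsNoetherian S ∨ (CompactSpace S ∧ S.IsSeparated ∧ (irreducibleComponents X).Finite)) :
    CompactSpace S ∧ QuasiSeparatedSpace S ∧ (irreducibleComponents X).Finite := by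
  rcases h with h | ⟨h1, h2, h3⟩
  · haveI : CompactSpace X := QuasiCompact.compactSpace_of_compactSpace r
    haveI : IsLocallyNoetherian X := LocallyOfFiniteType.isLocallyNoetherian r
    haveI : IsNoetherian X := { }
    exact ⟨inferInstance, inferInstance, finite_irreducibleComponents_of_isNoetherian⟩
  · exact ⟨h1, inferInstance, h3⟩

end Groth.Agent.Helper4.SN400
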