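import Mathlib

set_option autoImplicit false
set_option linter.style.haveILetI false

namespace Groth.Agent.Helper4.SN401

open CategoryTheory Limits AlgebraicGeometry TopologicalSpace

universe u

/-- an element of a minimal prime becomes nilpotent after multiplying with an element outside -/
theorem exists_notMem_isNilpotent_mul {B : Type*} [CommRing B] (p : Ideal B)
    (hp : p ∈ minimalPrimes B) (b : B) (hb : b ∈ p) : ∃ s ∉ p, IsNilpotent (s * b) := by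
  haveI : p.IsPrime := hp.1.1
  have h := IsLocalization.AtPrime.radical_map_of_mem_minimalPrimes (A := Localization.AtPrime p)
    p ⊥ hp
  have hb' : algebraMap B (Localization.AtPrime p) b ∈
      ((⊥ : Ideal B).map (algebraMap B (Localization.AtPrime p))).radical := by
    rw [h]; exact Ideal.mem_map_of_mem _ hb
  rw [Ideal.map_bot] at hb'
  obtain ⟨n, hn⟩ := hb'
  rw [Ideal.mem_bot, ← map_pow, IsLocalization.map_eq_zero_iff p.primeCompl] at hn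
  obtain ⟨s, hs⟩ := hn
  refine ⟨s.1, s.2, n + 1, ?_⟩
  rw [mul_pow, pow_succ, pow_succ]
  calc s.1 ^ n * s.1 * (b ^ n * b) = s.1 ^ n * b * (s.1 * b ^ n) := by ring
    _ = 0 := by rw [hs, mul_zero]

theorem exists_basicOpen_disjoint {X : Scheme.{u}} {V₀ : X.Opens} (hV₀ : IsAffineOpen V₀)
    (𝔭 : PrimeSpectrum Γ(X, V₀)) (hmin : 𝔭.asIdeal ∈ minimalPrimes Γ(X, V₀))
    (W : X.Opens) (hW : IsCompact ((W ⊓ V₀ : X.Opens) : Set X)) (hξ : hV₀.fromSpec 𝔭 ∉ W) :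
    ∃ s : Γ(X, V₀), hV₀.fromSpec 𝔭 ∈ X.basicOpen s ∧ X.basicOpen s ⊓ W = ⊥ := by
  classical
  have hmem : ∀ b : Γ(X, V₀), hV₀.fromSpec 𝔭 ∈ X.basicOpen b ↔ b ∉ 𝔭.asIdeal := by
    intro b
    change 𝔭 ∈ hV₀.fromSpec ⁻¹ᵁ X.basicOpen b ↔ _
    rw [hV₀.fromSpec_preimage_basicOpen]
    rfl
  choose b hb1 hb2 using fun w : ↥(W ⊓ V₀) => hV₀.exists_basicOpen_le (V := W ⊓ V₀) w w.2.2
  have hbp : ∀ w, b w ∈ 𝔭.asIdeal := by
    intro w
    by_contra h
    exact hξ ((hb1 w) ((hmem _).mpr h)).1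
  choose s hs1 hs2 using fun w => exists_notMem_isNilpotent_mul 𝔭.asIdeal hmin (b w) (hbp w)
  obtain ⟨t, ht⟩ := hW.elim_finite_subcover (fun w : ↥(W ⊓ V₀) => (X.basicOpen (b w) : Set X))
    (fun w => (X.basicOpen (b w)).isOpen)
    (fun x hx => Set.mem_iUnion.mpr ⟨⟨x, hx⟩, hb2 ⟨x, hx⟩⟩)
  refine ⟨∏ w ∈ t, s w, ?_, ?_⟩
  · rw [hmem, Ideal.IsPrime.prod_mem_iff]
    push Not
    exact fun w _ => hs1 w
  · rw [eq_bot_iff]
    rintro x ⟨hx1, hx2⟩
    have hxV : x ∈ V₀ := X.basicOpen_le _ hx1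
    have hx3 := ht (show x ∈ ((W ⊓ V₀ : X.Opens) : Set X) from ⟨hx2, hxV⟩)
    simp only [Set.mem_iUnion] at hx3
    obtain ⟨w, hwt, hxw⟩ := hx3
    obtain ⟨c, hc⟩ := Finset.dvd_prod_of_mem s hwt
    have h1 : x ∈ X.basicOpen (s w) := by
      rw [hc, Scheme.basicOpen_mul] at hx1
      exact hx1.1
    have h2 : x ∈ X.basicOpen (s w * b w) := by
      rw [Scheme.basicOpen_mul]; exact ⟨h1, hxw⟩
    have h3 : X.basicOpen (s w * b w) = ⊥ := X.basicOpen_eq_bot_of_isNilpotent V₀ _ (hs2 w)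
    rw [h3] at h2
    exact h2

end Groth.Agent.Helper4.SN401
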