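import Mathlib
import Groth.Agent.Helper1.Chow15
import Groth.Agent.Helper4.SN401

set_option autoImplicit false
set_option linter.style.haveILetI false

namespace Groth.Agent.Helper4.SN402

open CategoryTheory Limits AlgebraicGeometry TopologicalSpace
open Groth.Agent.Helper1.Chow Groth.Agent.Helper4.SN401

universe u

/-- a quasi-projective quasi-compact open neighbourhood of `y` containing a given maximal point -/
theorem exists_immersion_through {X S : Scheme.{u}} (f : X ⟶ S) [LocallyOfFiniteType f]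
    [QuasiSeparatedSpace X] {V₀ : X.Opens} (hV₀ : IsAffineOpen V₀)
    (𝔭 : PrimeSpectrum Γ(X, V₀)) (hmin : 𝔭.asIdeal ∈ minimalPrimes Γ(X, V₀)) (y : X) :
    ∃ (Y : X.Opens) (d : ℕ) (j₁ : (Y : Scheme.{u}) ⟶ CohB1.ProjSpaceOver d S),
      y ∈ Y ∧ hV₀.fromSpec 𝔭 ∈ Y ∧ IsCompact (Y : Set X) ∧ IsImmersion j₁ ∧
        j₁ ≫ CohB1.ProjSpaceOver.toBase d S = Y.ι ≫ f := by
  obtain ⟨Y', d', j', hy, haff, himm, hj⟩ := exists_affine_immersion f y
  by_cases hξ : hV₀.fromSpec 𝔭 ∈ Y'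
  · exact ⟨Y', d', j', hy, hξ, haff.isCompact, himm, hj⟩
  · have hc : IsCompact ((Y' ⊓ V₀ : X.Opens) : Set X) :=
      QuasiSeparatedSpace.inter_isCompact _ _ Y'.isOpen haff.isCompact V₀.isOpen hV₀.isCompact
    obtain ⟨s, hξs, hdisj⟩ := exists_basicOpen_disjoint hV₀ 𝔭 hmin Y' hc hξ
    obtain ⟨Y'', d'', j'', hξ'', -, himm'', hj''⟩ := exists_affine_immersion f (hV₀.fromSpec 𝔭)
    obtain ⟨V, hVaff, hξV, hVle⟩ : ∃ V : X.Opens, V ∈ X.affineOpens ∧ hV₀.fromSpec 𝔭 ∈ V ∧
        V ≤ Y'' ⊓ X.basicOpen s :=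
      Opens.isBasis_iff_nbhd.mp X.isBasis_affineOpens
        (show hV₀.fromSpec 𝔭 ∈ Y'' ⊓ X.basicOpen s from ⟨hξ'', hξs⟩)
    have hVY'' : V ≤ Y'' := hVle.trans inf_le_left
    have hVs : V ≤ X.basicOpen s := hVle.trans inf_le_right
    have hdisj' : Y' ⊓ V = ⊥ := by
      rw [eq_bot_iff]
      intro x hx
      have : x ∈ X.basicOpen s ⊓ Y' := ⟨hVs hx.2, hx.1⟩
      rw [hdisj] at this
      exact this
    haveI := himm''
    have himmV : IsImmersion (X.homOfLE hVY'' ≫ j'') := inferInstance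
    have hjV : (X.homOfLE hVY'' ≫ j'') ≫ CohB1.ProjSpaceOver.toBase d'' S = V.ι ≫ f := by
      rw [Category.assoc, hj'', Scheme.homOfLE_ι_assoc]
    obtain ⟨N, c, hcimm, hc⟩ := Groth.Agent.Helper1.LinEmb.exists_immersion_sup f Y' V hdisj'
      j' (X.homOfLE hVY'' ≫ j'') himm himmV hj hjV
    refine ⟨Y' ⊔ V, N, c, Or.inl hy, Or.inr hξV, ?_, hcimm, hc⟩
    show IsCompact ((Y' : Set X) ∪ (V : Set X))
    exact haff.isCompact.union (hVaff : IsAffineOpen V).isCompact

/-- a nonempty scheme has an affine open with a minimal prime -/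
theorem exists_minimal_point (X : Scheme.{u}) [Nonempty X] :
    ∃ (V₀ : X.Opens) (_ : IsAffineOpen V₀) (𝔭 : PrimeSpectrum Γ(X, V₀)),
      𝔭.asIdeal ∈ minimalPrimes Γ(X, V₀) := by
  obtain ⟨x⟩ := ‹Nonempty X›
  obtain ⟨V₀, hV₀, hx, -⟩ : ∃ V : X.Opens, V ∈ X.affineOpens ∧ x ∈ V ∧ V ≤ ⊤ :=
    Opens.isBasis_iff_nbhd.mp X.isBasis_affineOpens (show x ∈ (⊤ : X.Opens) from trivial)
  have hV₀' : IsAffineOpen V₀ := hV₀
  let 𝔮 := hV₀'.primeIdealOf ⟨x, hx⟩
  obtain ⟨p, hp, -⟩ := Ideal.exists_minimalPrimes_le (I := ⊥) (J := 𝔮.asIdeal) bot_le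
  exact ⟨V₀, hV₀', ⟨p, hp.1.1⟩, hp⟩

/-- Chow's lemma with a nonempty open, no hypothesis on irreducible components (proof after
`Helper1.Chow.chow_finite_components`). -/
theorem chow_nonempty {X S : Scheme.{u}} (f : X ⟶ S) [IsSeparated f]
    [LocallyOfFiniteType f] [CompactSpace X] [QuasiSeparatedSpace X] [hX : Nonempty X] :
    ∃ (M : ℕ) (X' : Scheme.{u}) (π : X' ⟶ X) (q : X' ⟶ CohB1.ProjSpaceOver M S),
      IsImmersion q ∧ q ≫ CohB1.ProjSpaceOver.toBase M S = π ≫ f ∧ IsProper π ∧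
        ∃ U : X.Opens, (U : Set X).Nonempty ∧ IsIso (π ∣_ U) := by
  classical
  obtain ⟨V₀, hV₀, 𝔭, hmin⟩ := exists_minimal_point X
  -- local immersions
  choose Y d j₁ hxY hξY hYc hj₁imm hj₁ using
    fun x : X => exists_immersion_through f hV₀ 𝔭 hmin x
  -- a finite subcover
  obtain ⟨t, ht⟩ := isCompact_univ.elim_finite_subcover (fun x : X => (Y x : Set X))
    (fun x => (Y x).isOpen) (fun x _ => Set.mem_iUnion.2 ⟨x, hxY x⟩)
  have htne : t.Nonempty := by
    obtain ⟨x⟩ := hX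
    have hx := ht (Set.mem_univ x)
    simp only [Set.mem_iUnion] at hx
    obtain ⟨y, hy, -⟩ := hx
    exact ⟨y, hy⟩
  obtain ⟨n, hn⟩ : ∃ n, t.card = n + 1 :=
    Nat.exists_eq_succ_of_ne_zero (Finset.card_ne_zero.2 htne)
  let e : Fin (n + 1) ≃ t := (finCongr hn.symm).trans t.equivFin.symm
  let xx : Fin (n + 1) → X := fun i => (e i).1
  let Y' : Fin (n + 1) → X.Opens := fun i => Y (xx i)
  let d' : Fin (n + 1) → ℕ := fun i => d (xx i)
  have hcov : ⨆ i, Y' i = ⊤ := by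
    rw [eq_top_iff]
    intro x _
    have hx := ht (Set.mem_univ x)
    simp only [Set.mem_iUnion] at hx
    obtain ⟨y, hy, hxy⟩ := hx
    refine Opens.mem_iSup.2 ⟨e.symm ⟨y, hy⟩, ?_⟩
    show x ∈ Y ((e (e.symm ⟨y, hy⟩)).1)
    rw [Equiv.apply_symm_apply]
    exact hxy
  obtain ⟨D⟩ := nonempty_multiProj S n d'
  haveI := D.isProper
  -- the dense open
  let U : X.Opens := Finset.univ.inf Y'
  have hUY : ∀ i, U ≤ Y' i := fun i => Finset.inf_le (Finset.mem_univ i)
  have hUne : (U : Set X).Nonempty := by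
    refine ⟨hV₀.fromSpec 𝔭, ?_⟩
    have : ∀ s : Finset (Fin (n + 1)), hV₀.fromSpec 𝔭 ∈ (s.inf Y' : X.Opens) := by
      intro s
      induction s using Finset.induction_on with
      | empty =>
        rw [Finset.inf_empty]
        trivial
      | insert a s _ ih =>
        rw [Finset.inf_insert]
        exact ⟨hξY (xx a), ih⟩
    exact this _
  have hUc : IsCompact (U : Set X) := by
    have : ∀ s : Finset (Fin (n + 1)), IsCompact ((s.inf Y' : X.Opens) : Set X) := by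
      intro s
      induction s using Finset.induction_on with
      | empty =>
        rw [Finset.inf_empty]
        exact isCompact_univ
      | insert a s _ ih =>
        rw [Finset.inf_insert]
        exact QuasiSeparatedSpace.inter_isCompact _ _ (Y' a).isOpen (hYc (xx a))
          (s.inf Y').isOpen ih
    exact this _
  haveI : QuasiCompact U.ι := quasiCompact_ι U hUc
  -- the morphism to the product
  obtain ⟨j, hj, hjp⟩ := D.lift U (fun i => X.homOfLE (hUY i) ≫ j₁ (xx i)) (U.ι ≫ f)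
    (fun i => by
      rw [Category.assoc, hj₁ (xx i), Scheme.homOfLE_ι_assoc])
  haveI : QuasiCompact (hh f D.g U j hj) := by
    haveI : QuasiCompact (hh f D.g U j hj ≫ pullback.fst f D.g) := by
      rw [hh_fst]; infer_instance
    exact MorphismProperty.of_postcomp (W := @QuasiCompact) (W' := @QuasiSeparated)
      (hh f D.g U j hj) (pullback.fst f D.g) inferInstance inferInstance
  haveI : ∀ i, IsSeparated (CohB1.ProjSpaceOver.toBase (d' i) S) := fun i =>
    (Groth.Agent.Helper6.HProj.isProper_toBase (d' i) S).toIsSeparated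
  haveI : ∀ i, IsImmersion (j₁ (xx i)) := fun i => hj₁imm (xx i)
  have himm : IsImmersion (qq f D.g U j hj) :=
    isImmersion_qq f D.g U j hj Y' hUY hcov (fun i => CohB1.ProjSpaceOver (d' i) S)
      (fun i => CohB1.ProjSpaceOver.toBase (d' i) S) (fun i => j₁ (xx i))
      (fun i => hj₁ (xx i)) D.p D.p_toBase hjp
  haveI := D.hc
  refine ⟨D.M, XX f D.g U j hj, ππ f D.g U j hj, qq f D.g U j hj ≫ D.c, inferInstance, ?_,
    inferInstance, U, hUne, isIso_ππ_restrict f D.g U j hj⟩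
  rw [Category.assoc, D.c_toBase, ππ_f]

end Groth.Agent.Helper4.SN402
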