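import Mathlib
import Groth.Agent.Helper4.SN402
import Groth.Agent.Helper1.VA14
import Groth.Agent.S2333
import Groth.Agent.S12416

set_option autoImplicit false
set_option linter.style.haveILetI false

namespace Groth.Agent.Helper4.SN403

open CategoryTheory Limits AlgebraicGeometry TopologicalSpace

universe u

theorem chow_qcqs_nonempty {X S : Scheme.{u}} (f : X ⟶ S)
    [CompactSpace S] [QuasiSeparatedSpace S] [IsSeparated f] [LocallyOfFiniteType f]
    [QuasiCompact f] [Nonempty X] :
    ∃ (Xbar : Scheme.{u}) (π : Xbar ⟶ X), RelProj.IsProjective π ∧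
      RelProj.IsQuasiProjective (π ≫ f) ∧
      ∃ U : X.Opens, (U : Set X).Nonempty ∧ IsIso (π ∣_ U) := by
  haveI : CompactSpace X := QuasiCompact.compactSpace_of_compactSpace f
  haveI : QuasiSeparatedSpace X := quasiSeparatedSpace_of_quasiSeparated f
  obtain ⟨M, X', π, j, hj, h2, hπ, U, hUne, hiso⟩ := Groth.Agent.Helper4.SN402.chow_nonempty f
  haveI := Groth.Agent.Helper6.HProj.isProper_toBase M S
  haveI : QuasiCompact (j ≫ CohB1.ProjSpaceOver.toBase M S) := by rw [h2]; infer_instance
  haveI : QuasiCompact j :=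
    MorphismProperty.of_postcomp (W := @QuasiCompact) (W' := @QuasiSeparated)
      j (CohB1.ProjSpaceOver.toBase M S) inferInstance inferInstance
  have hA := Groth.Agent.Helper1.VA.isRelAmple_of_immersion j
  rw [h2] at hA
  have hq1 : RelProj.IsQuasiProjective (π ≫ f) := ⟨inferInstance, inferInstance, _, hA⟩
  have hq2 : RelProj.IsQuasiProjective π :=
    ⟨inferInstance, inferInstance, _, Groth.Agent.S2333.result π f _ hA⟩
  exact ⟨X', π, Groth.Agent.S12416.result π hq2, hq1, U, hUne, hiso⟩

end Groth.Agent.Helper4.SN403
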