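import Mathlib
import Groth.Agent.Helper4.RelCompTwist
import Groth.Agent.S4418
import Groth.Agent.S4414
import Groth.Agent.S9717
import Groth.Agent.S12416
import Groth.Agent.Helper6.HProj

set_option autoImplicit false
set_option linter.style.haveILetI false

namespace Groth.Agent.Helper4.SN404

open CategoryTheory Limits AlgebraicGeometry TopologicalSpace

universe u

/-- composition of projective morphisms over a qcqs base -/
theorem isProjective_comp {X Y S : Scheme.{u}} [CompactSpace ↥S] [QuasiSeparatedSpace ↥S]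
    (f : X ⟶ Y) (g : Y ⟶ S) (hf : RelProj.IsProjective f) (hg : RelProj.IsProjective g) :
    RelProj.IsProjective (f ≫ g) := by
  obtain ⟨⟨hf1, hf2, L, hL⟩, hfp⟩ := Groth.Agent.S4418.result f hf
  obtain ⟨⟨hg1, hg2, K, hK⟩, hgp⟩ := Groth.Agent.S4418.result g hg
  obtain ⟨n₀, -, hn⟩ :=
    Groth.Agent.Helper4.RelCompTwist.exists_forall_isRelAmple_comp f g L K hL hK
  haveI : IsProper (f ≫ g) := inferInstance
  exact Groth.Agent.S12416.result (f ≫ g) ⟨inferInstance, inferInstance, _, hn n₀ le_rfl⟩

/-- EGA II 5.5.4 (ii) -/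
theorem isProjective_iff_isHProjective {X Y : Scheme.{u}} [CompactSpace Y] [Y.IsSeparated]
    (hY : ∃ M : Y.Modules, CohB1.IsAmple M) (f : X ⟶ Y) :
    RelProj.IsProjective f ↔ RelProj.IsHProjective f := by
  constructor
  · intro hf
    obtain ⟨hq, hp⟩ := Groth.Agent.S4418.result f hf
    obtain ⟨-, -, r, i, hi, hif⟩ := (Groth.Agent.S4414.result hY f).mp hq
    haveI := Groth.Agent.Helper6.HProj.isProper_toBase r Y
    haveI : IsProper (i ≫ CohB1.ProjSpaceOver.toBase r Y) := by rw [hif]; exact hp
    haveI : IsProper i := IsProper.of_comp i (CohB1.ProjSpaceOver.toBase r Y)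
    exact ⟨r, i, IsClosedImmersion.of_isPreimmersion i i.isClosedMap.isClosed_range, hif⟩
  · exact Groth.Agent.S9717.result f

end Groth.Agent.Helper4.SN404
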