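import Mathlib
import Groth.Agent.Helper4.QAffImm

/-!
# Immersions into a scheme affine over the base: finite data controlling the immersion property
-/

set_option autoImplicit false
universe u
open CategoryTheory CategoryTheory.Limits AlgebraicGeometry Opposite TopologicalSpace

namespace Groth.Agent.Helper4.SN410

variable {X Y Z : Scheme.{u}}

/-- an immersion restricted to an open inside the coborder of its range is a closed immersion -/
theorem isClosedImmersion_restrict (g : X ⟶ Z) [IsImmersion g] (V : Z.Opens)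
    (hV : V ≤ g.coborderRange) : IsClosedImmersion (g ∣_ V) := by
  apply IsClosedImmersion.of_isPreimmersion
  have h1 : Set.range (g ∣_ V) = (Subtype.val : V → Z) ⁻¹' (closure (Set.range g)) := by
    ext z
    simp only [Set.mem_range, Set.mem_preimage]
    constructor
    · rintro ⟨x, hxz⟩
      have : g x.1 = z.1 := by rw [← morphismRestrict_base_coe, hxz]
      exact subset_closure ⟨x.1, this⟩
    · intro hcl
      have hzc : z.1 ∈ coborder (Set.range g) := hV z.2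
      have hzr : z.1 ∈ Set.range g := by
        by_contra hnot
        exact hzc ⟨hcl, hnot⟩
      obtain ⟨x, hx⟩ := hzr
      have hxV : x ∈ g ⁻¹ᵁ V := by
        change g x ∈ V
        rw [hx]; exact z.2
      refine ⟨⟨x, hxV⟩, Subtype.ext ?_⟩
      rw [morphismRestrict_base_coe]
      exact hx
  rw [h1]
  exact isClosed_closure.preimage continuous_subtype_val

/-- a morphism which is, over a family of affine opens of the target covering its range, a morphism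
of affine schemes surjective on functions, is an immersion -/
theorem isImmersion_of_affine_cover (g : X ⟶ Z) {ι : Type*} (W : ι → Z.Opens)
    (hW : ∀ k, IsAffineOpen (W k)) (hcov : ∀ x : X, ∃ k, g x ∈ W k)
    (haff : ∀ k, IsAffineOpen (g ⁻¹ᵁ W k))
    (hsurj : ∀ k, Function.Surjective (g.app (W k)).hom) : IsImmersion g := by
  haveI : MorphismProperty.RespectsRight @IsImmersion @IsOpenImmersion :=
    ⟨fun i hi f hf => by
      haveI : IsOpenImmersion i := hi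
      haveI : IsImmersion f := hf
      exact (inferInstance : IsImmersion (f ≫ i))⟩
  refine IsZariskiLocalAtTarget.of_range_subset_iSup (P := @IsImmersion) W ?_ ?_
  · rintro _ ⟨y, rfl⟩
    obtain ⟨k, hk⟩ := hcov y
    exact Opens.mem_iSup.2 ⟨k, hk⟩
  · intro k
    haveI : IsAffine (W k : Scheme) := hW k
    haveI : IsAffine (g ⁻¹ᵁ W k : Scheme) := haff k
    haveI : IsClosedImmersion (g ∣_ W k) := by
      apply IsClosedImmersion.of_surjective_of_isAffine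
      have happ : (g ∣_ W k).appTop = g.appLE ((W k).ι ''ᵁ ⊤)
          ((g ⁻¹ᵁ W k).ι ''ᵁ ((g ∣_ W k) ⁻¹ᵁ ⊤))
          (image_morphismRestrict_preimage g (W k) ⊤).le := morphismRestrict_app' g (W k) ⊤
      rw [happ]
      have key : Function.Surjective (g.appLE (W k) (g ⁻¹ᵁ W k) le_rfl).hom := by
        rw [Scheme.Hom.appLE_eq_app]; exact hsurj k
      refine QAffImm.surj_appLE_congr g ?_ ?_ le_rfl _ key
      · simp
      · simp
    infer_instance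

/-- the generation property of the local data -/
def GenProp (p : Z ⟶ Y) (g : X ⟶ Z) (U : Y.Opens) (c : Γ(Z, p ⁻¹ᵁ U))
    (T : Finset Γ(Z, p ⁻¹ᵁ U)) : Prop :=
  ∀ R : Subring Γ(X, g ⁻¹ᵁ (Z.basicOpen c)),
    (∀ s, ((g ≫ p).appLE U (g ⁻¹ᵁ (Z.basicOpen c))
      (g.preimage_mono (Z.basicOpen_le c))).hom s ∈ R) →
    (∀ t ∈ T, (g.appLE (p ⁻¹ᵁ U) (g ⁻¹ᵁ (Z.basicOpen c))
      (g.preimage_mono (Z.basicOpen_le c))).hom t ∈ R) →
    (∀ u, u * (g.appLE (p ⁻¹ᵁ U) (g ⁻¹ᵁ (Z.basicOpen c))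
      (g.preimage_mono (Z.basicOpen_le c))).hom c = 1 → u ∈ R) →
    R = ⊤

theorem exists_local_data (p : Z ⟶ Y) [IsAffineHom p] (g : X ⟶ Z) [IsImmersion g]
    [LocallyOfFiniteType (g ≫ p)] (x : X) :
    ∃ (U : Y.Opens) (_ : IsAffineOpen U) (c : Γ(Z, p ⁻¹ᵁ U)) (T : Finset Γ(Z, p ⁻¹ᵁ U)),
      x ∈ g ⁻¹ᵁ (Z.basicOpen c) ∧ IsAffineOpen (g ⁻¹ᵁ (Z.basicOpen c)) ∧ GenProp p g U c T := by
  classical
  obtain ⟨_, ⟨U, hU : IsAffineOpen U, rfl⟩, hxU, -⟩ :=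
    Y.isBasis_affineOpens.exists_subset_of_mem_open (Set.mem_univ ((g ≫ p) x)) isOpen_univ
  have hpU : IsAffineOpen (p ⁻¹ᵁ U) := hU.preimage p
  have hx1 : g x ∈ p ⁻¹ᵁ U := hxU
  have hx2 : g x ∈ g.coborderRange := subset_coborder ⟨x, rfl⟩
  obtain ⟨c, hc1, hc2⟩ := hpU.exists_basicOpen_le (V := g.coborderRange) ⟨g x, hx2⟩ hx1
  set D : Z.Opens := Z.basicOpen c with hD
  have hDaff : IsAffineOpen D := hpU.basicOpen c
  haveI hci : IsClosedImmersion (g ∣_ D) := isClosedImmersion_restrict g D hc1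
  haveI : IsAffine (D : Scheme) := hDaff
  have hVaff : IsAffineOpen (g ⁻¹ᵁ D) := isAffine_of_isAffineHom (g ∣_ D)
  have hsurj : Function.Surjective (g.appLE D (g ⁻¹ᵁ D) le_rfl).hom := by
    have h0 := (IsClosedImmersion.isAffine_surjective_of_isAffine (f := g ∣_ D)).2
    have happ : (g ∣_ D).appTop = g.appLE (D.ι ''ᵁ ⊤)
        ((g ⁻¹ᵁ D).ι ''ᵁ ((g ∣_ D) ⁻¹ᵁ ⊤))
        (image_morphismRestrict_preimage g D ⊤).le := morphismRestrict_app' g D ⊤
    rw [happ] at h0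
    refine QAffImm.surj_appLE_congr g ?_ ?_ _ le_rfl h0
    · simp
    · simp
  have hle : g ⁻¹ᵁ D ≤ (g ≫ p) ⁻¹ᵁ U := g.preimage_mono (Z.basicOpen_le c)
  have hft := Scheme.Hom.finiteType_appLE (g ≫ p) hU hVaff hle
  algebraize [((g ≫ p).appLE U (g ⁻¹ᵁ D) hle).hom]
  obtain ⟨s, hs⟩ := ‹Algebra.FiniteType Γ(Y, U) Γ(X, g ⁻¹ᵁ D)›.out
  set φ := g.appLE (p ⁻¹ᵁ U) (g ⁻¹ᵁ D) (g.preimage_mono (Z.basicOpen_le c)) with hφ
  have hex : ∀ b : Γ(X, g ⁻¹ᵁ D), ∃ (n : ℕ) (y : Γ(Z, p ⁻¹ᵁ U)),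
      φ.hom y = (φ.hom c) ^ n * b := by
    intro b
    obtain ⟨a, rfl⟩ := hsurj b
    obtain ⟨n, y, hy⟩ := exists_eq_pow_mul_of_isAffineOpen Z (p ⁻¹ᵁ U) hpU c a
    refine ⟨n, y, ?_⟩
    have hfac : φ = Z.presheaf.map (homOfLE (Z.basicOpen_le c)).op ≫ g.appLE D (g ⁻¹ᵁ D) le_rfl := by
      rw [hφ, Scheme.Hom.map_appLE]
    rw [hfac]
    simp only [CommRingCat.hom_comp, RingHom.comp_apply]
    rw [← map_pow, ← map_mul]
    congr 1
  choose N Yb hY using hex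
  refine ⟨U, hU, c, s.image Yb, hc2, hVaff, ?_⟩
  intro R h1 h2 h3
  have hunit : IsUnit (φ.hom c) := by
    have h0 : IsUnit ((Z.presheaf.map (homOfLE (Z.basicOpen_le c)).op).hom c) :=
      RingedSpace.isUnit_res_basicOpen Z.toRingedSpace c
    have hfac : φ = Z.presheaf.map (homOfLE (Z.basicOpen_le c)).op ≫ g.appLE D (g ⁻¹ᵁ D) le_rfl := by
      rw [hφ, Scheme.Hom.map_appLE]
    rw [hfac]
    exact h0.map (g.appLE D (g ⁻¹ᵁ D) le_rfl).hom
  obtain ⟨w, hw⟩ := hunit.exists_left_inv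
  have hwR : w ∈ R := h3 w hw
  have hcl := congrArg Subalgebra.toSubring hs
  rw [Algebra.adjoin_eq_ring_closure] at hcl
  rw [eq_top_iff]
  have : (⊤ : Subalgebra Γ(Y, U) Γ(X, g ⁻¹ᵁ D)).toSubring = ⊤ := rfl
  rw [← this, ← hcl, Subring.closure_le]
  rintro b (⟨a, rfl⟩ | hb)
  · rw [RingHom.algebraMap_toAlgebra]
    exact h1 a
  · have hYb := h2 (Yb b) (Finset.mem_image_of_mem Yb hb)
    rw [hY b] at hYb
    have : b = w ^ (N b) * ((φ.hom c) ^ (N b) * b) := by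
      rw [← mul_assoc, ← mul_pow, hw, one_pow, one_mul]
    rw [this]
    exact R.mul_mem (R.pow_mem hwR _) hYb

theorem isImmersion_comp_of_local_data (p : Z ⟶ Y) [IsAffineHom p] (g : X ⟶ Z)
    {Z' : Scheme.{u}} (p' : Z' ⟶ Y) [IsAffineHom p'] (h : Z ⟶ Z') (wh : h ≫ p' = p)
    {ι : Type*} (U : ι → Y.Opens) (hU : ∀ k, IsAffineOpen (U k))
    (c : ∀ k, Γ(Z, p ⁻¹ᵁ U k)) (T : ∀ k, Finset Γ(Z, p ⁻¹ᵁ U k))
    (hcov : ∀ x : X, ∃ k, x ∈ g ⁻¹ᵁ (Z.basicOpen (c k)))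
    (haff : ∀ k, IsAffineOpen (g ⁻¹ᵁ (Z.basicOpen (c k))))
    (hgen : ∀ k, GenProp p g (U k) (c k) (T k))
    (hle : ∀ k, p ⁻¹ᵁ U k ≤ h ⁻¹ᵁ (p' ⁻¹ᵁ U k))
    (hc : ∀ k, c k ∈ Set.range (h.appLE (p' ⁻¹ᵁ U k) (p ⁻¹ᵁ U k) (hle k)).hom)
    (hT : ∀ k, ∀ t ∈ T k, t ∈ Set.range (h.appLE (p' ⁻¹ᵁ U k) (p ⁻¹ᵁ U k) (hle k)).hom) :
    IsImmersion (g ≫ h) := by
  subst wh
  choose c' hc' using hc
  let W : ι → Z'.Opens := fun k => Z'.basicOpen (c' k)
  have hW : ∀ k, IsAffineOpen (W k) := fun k => ((hU k).preimage p').basicOpen (c' k)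
  have hpre : ∀ k, h ⁻¹ᵁ (W k) = Z.basicOpen (c k) := by
    intro k
    change h ⁻¹ᵁ (Z'.basicOpen (c' k)) = _
    rw [Scheme.preimage_basicOpen, ← hc' k]
    have : (h.appLE (p' ⁻¹ᵁ U k) ((h ≫ p') ⁻¹ᵁ U k) (hle k)).hom (c' k) =
        (Z.presheaf.map (homOfLE (hle k)).op).hom ((h.app (p' ⁻¹ᵁ U k)).hom (c' k)) := by
      rw [Scheme.Hom.appLE]; rfl
    rw [this, Scheme.basicOpen_res]
    exact (inf_eq_right.mpr ((Z.basicOpen_le _).trans le_rfl)).symm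
  have hpre2 : ∀ k, (g ≫ h) ⁻¹ᵁ (W k) = g ⁻¹ᵁ (Z.basicOpen (c k)) := by
    intro k
    rw [Scheme.Hom.comp_preimage, hpre]
  refine isImmersion_of_affine_cover (g ≫ h) W hW ?_ ?_ ?_
  · intro x
    obtain ⟨k, hk⟩ := hcov x
    refine ⟨k, ?_⟩
    change x ∈ (g ≫ h) ⁻¹ᵁ (W k)
    rw [hpre2]; exact hk
  · intro k
    rw [hpre2]; exact haff k
  · intro k
    set V : X.Opens := g ⁻¹ᵁ (Z.basicOpen (c k)) with hVdef
    have e : V ≤ (g ≫ h) ⁻¹ᵁ (W k) := (hpre2 k).ge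
    set ψ := (g ≫ h).appLE (W k) V e with hψ
    have hWle : W k ≤ p' ⁻¹ᵁ U k := Z'.basicOpen_le (c' k)
    have hVle : V ≤ g ⁻¹ᵁ ((h ≫ p') ⁻¹ᵁ U k) := g.preimage_mono (Z.basicOpen_le (c k))
    -- the basic computation
    have hcomp : ∀ t' : Γ(Z', p' ⁻¹ᵁ U k),
        (g.appLE ((h ≫ p') ⁻¹ᵁ U k) V hVle).hom
          ((h.appLE (p' ⁻¹ᵁ U k) ((h ≫ p') ⁻¹ᵁ U k) (hle k)).hom t') =
        ψ.hom ((Z'.presheaf.map (homOfLE hWle).op).hom t') := by
      intro t'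
      have h1 : h.appLE (p' ⁻¹ᵁ U k) ((h ≫ p') ⁻¹ᵁ U k) (hle k) ≫
          g.appLE ((h ≫ p') ⁻¹ᵁ U k) V hVle =
          Z'.presheaf.map (homOfLE hWle).op ≫ ψ := by
        rw [hψ, Scheme.Hom.map_appLE, Scheme.Hom.appLE_comp_appLE]
      have h2 := congrArg (fun k => k.hom t') h1
      simpa only [CommRingCat.hom_comp, RingHom.comp_apply] using h2
    have hR := hgen k ψ.hom.range ?_ ?_ ?_
    · have key : Function.Surjective ψ.hom := by
        intro b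
        have : b ∈ ψ.hom.range := hR ▸ Subring.mem_top b
        exact this
      have key2 : Function.Surjective ((g ≫ h).appLE (W k) ((g ≫ h) ⁻¹ᵁ (W k)) le_rfl).hom :=
        QAffImm.surj_appLE_congr (g ≫ h) rfl (hpre2 k).symm e le_rfl key
      rw [Scheme.Hom.appLE_eq_app] at key2
      exact key2
    · intro s
      have h1 : (g ≫ h ≫ p').appLE (U k) V (g.preimage_mono (Z.basicOpen_le (c k))) =
          p'.appLE (U k) (W k) hWle ≫ ψ := by
        rw [hψ, Scheme.Hom.appLE_comp_appLE]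
        exact QAffImm.appLE_eq_of_eq (Category.assoc g h p').symm _
      rw [h1]
      exact ⟨_, rfl⟩
    · intro t ht
      obtain ⟨t', rfl⟩ := hT k t ht
      rw [hcomp]
      exact ⟨_, rfl⟩
    · intro u hu
      have hcu : (g.appLE ((h ≫ p') ⁻¹ᵁ U k) V hVle).hom (c k) =
          ψ.hom ((Z'.presheaf.map (homOfLE hWle).op).hom (c' k)) := by
        have h5 := hcomp (c' k)
        rw [hc' k] at h5
        exact h5
      replace hu : u * ψ.hom ((Z'.presheaf.map (homOfLE hWle).op).hom (c' k)) = 1 := by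
        rw [← hcu]; exact hu
      have h0 : IsUnit ((Z'.presheaf.map (homOfLE hWle).op).hom (c' k)) :=
        RingedSpace.isUnit_res_basicOpen Z'.toRingedSpace (c' k)
      obtain ⟨v, hv⟩ := h0.exists_left_inv
      refine ⟨v, ?_⟩
      have h4 : ψ.hom v * ψ.hom ((Z'.presheaf.map (homOfLE hWle).op).hom (c' k)) = 1 := by
        rw [← map_mul, hv, map_one]
      calc ψ.hom v = ψ.hom v * (u * ψ.hom ((Z'.presheaf.map (homOfLE hWle).op).hom (c' k))) := by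
            rw [hu, mul_one]
        _ = u * (ψ.hom v * ψ.hom ((Z'.presheaf.map (homOfLE hWle).op).hom (c' k))) := by ring
        _ = u := by rw [h4, mul_one]

/-- **Finite data controlling an immersion into a scheme affine over the base.** -/
theorem exists_finite_data [CompactSpace X] (p : Z ⟶ Y) [IsAffineHom p] (g : X ⟶ Z)
    [IsImmersion g] [LocallyOfFiniteType (g ≫ p)] :
    ∃ (ι : Type u) (_ : Fintype ι) (U : ι → Y.Opens) (_ : ∀ k, IsAffineOpen (U k))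
      (S : ∀ k, Finset Γ(Z, p ⁻¹ᵁ U k)),
      ∀ (Z' : Scheme.{u}) (p' : Z' ⟶ Y) [IsAffineHom p'] (h : Z ⟶ Z') (_ : h ≫ p' = p)
        (hle : ∀ k, p ⁻¹ᵁ U k ≤ h ⁻¹ᵁ (p' ⁻¹ᵁ U k)),
        (∀ k, ∀ t ∈ S k, t ∈ Set.range (h.appLE (p' ⁻¹ᵁ U k) (p ⁻¹ᵁ U k) (hle k)).hom) →
        IsImmersion (g ≫ h) := by
  classical
  choose U hU c T hx haff hgen using exists_local_data p g
  obtain ⟨t, ht⟩ : ∃ t : Finset X, ∀ y : X, ∃ x ∈ t, y ∈ g ⁻¹ᵁ (Z.basicOpen (c x)) := by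
    obtain ⟨t, ht⟩ := isCompact_univ.elim_finite_subcover
      (fun x : X => ((g ⁻¹ᵁ (Z.basicOpen (c x)) : X.Opens) : Set X))
      (fun x => (g ⁻¹ᵁ (Z.basicOpen (c x))).2) (fun y _ => Set.mem_iUnion.2 ⟨y, hx y⟩)
    refine ⟨t, fun y => ?_⟩
    have := ht (Set.mem_univ y)
    simpa using this
  refine ⟨{x // x ∈ t}, inferInstance, fun k => U k.1, fun k => hU k.1,
    fun k => insert (c k.1) (T k.1), ?_⟩
  intro Z' p' _ h wh hle hS
  refine isImmersion_comp_of_local_data p g p' h wh (fun k : {x // x ∈ t} => U k.1)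
    (fun k => hU k.1) (fun k => c k.1) (fun k => T k.1) ?_ (fun k => haff k.1)
    (fun k => hgen k.1) hle ?_ ?_
  · intro y
    obtain ⟨x, hxt, hy⟩ := ht y
    exact ⟨⟨x, hxt⟩, hy⟩
  · intro k
    exact hS k (c k.1) (Finset.mem_insert_self _ _)
  · intro k t' ht'
    exact hS k t' (Finset.mem_insert_of_mem ht')

end Groth.Agent.Helper4.SN410
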