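import Mathlib
import Groth.Agent.Helper4.SN410
import Groth.Agent.Helper4.SubSum
import Groth.Agent.Helper1.FT5
import Groth.Agent.Helper1.SP1
import Groth.Agent.Helper4.RelSpecIso

/-!
# Immersions into a relative spectrum and quasi-coherent subalgebras of finite type
-/

set_option autoImplicit false
universe u
open CategoryTheory CategoryTheory.Limits AlgebraicGeometry Opposite TopologicalSpace

namespace Groth.Agent.Helper4.SN411

open RelSpec

/-- finitely many sections of a quasi-coherent algebra over quasi-compact opens lie in a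
quasi-coherent subalgebra of finite type -/
theorem exists_subalgebra_through_sections {Y : Scheme.{u}} [CompactSpace Y]
    [QuasiSeparatedSpace Y] (B : QCAlg Y) {ι : Type*} (U : ι → Y.Opens)
    (hU : ∀ a, IsCompact ((U a : Y.Opens) : Set Y)) (s : ∀ a, B.presheaf.obj (op (U a)))
    (t : Finset ι) :
    ∃ (B' : QCAlg Y) (φ : B' ⟶ B),
      (∀ V : Y.Opens, Function.Injective (φ.hom.app (op V)).hom) ∧
      (∀ V : Y.Opens, IsAffineOpen V → (B'.str.app (op V)).hom.FiniteType) ∧
      ∀ a ∈ t, s a ∈ Set.range (φ.hom.app (op (U a))).hom := by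
  open Groth.Agent.Helper4.QCAlgGen Groth.Agent.Helper1.FT in
  haveI : B.toModule.IsQuasicoherent := inferInstance
  obtain ⟨E, j, hmono, hq, hft, hs⟩ := SubSum.exists_submodule_through_sections B.toModule U hU
    (fun a => ofB B (s a)) t
  haveI := hq
  refine ⟨subAlg B j, subHom B j, subHom_injective B j, fun V hV => finiteType_sub B j hft hV, ?_⟩
  intro a ha
  obtain ⟨g, hg⟩ := hs a ha
  have := mem_range_subHom B j (U a) g
  have h2 : jB B j (U a) g = s a := hg
  rw [h2] at this
  exact this

/-- the structure morphism of the relative spectrum of an algebra of finite type is locally of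
finite type -/
theorem locallyOfFiniteType_π {S : Scheme.{u}} (A : QCAlg S)
    (h : ∀ V : S.Opens, IsAffineOpen V → (A.str.app (op V)).hom.FiniteType) :
    LocallyOfFiniteType A.π := by
  refine (IsZariskiLocalAtSource.iff_of_openCover (P := @LocallyOfFiniteType) (f := A.π)
    (show A.spec.OpenCover from A.glueData.cover)).mpr ?_
  intro i
  have h1 : A.glueData.cover.f i ≫ A.π = Spec.map (A.str.app (op i.1)) ≫ i.2.fromSpec :=
    A.ι_π i.1 i.2
  change LocallyOfFiniteType (A.glueData.cover.f i ≫ A.π)
  rw [h1]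
  have h2 : LocallyOfFiniteType (Spec.map (A.str.app (op i.1))) := by
    rw [HasRingHomProperty.Spec_iff (P := @LocallyOfFiniteType)]
    exact h i.1 i.2
  have h3 : LocallyOfFiniteType i.2.fromSpec := inferInstance
  exact MorphismProperty.comp_mem (W := @LocallyOfFiniteType) _ _ h2 h3

/-- **EGA IV 8.?**: an immersion into a relative spectrum stays an immersion into the relative
spectrum of a suitable quasi-coherent subalgebra of finite type -/
theorem exists_finiteType_subalgebra_isImmersion {X Y : Scheme.{u}} [CompactSpace Y]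
    [QuasiSeparatedSpace Y] (C : QCAlg Y) (g : X ⟶ C.spec) [IsImmersion g]
    [LocallyOfFiniteType (g ≫ C.π)] [QuasiCompact (g ≫ C.π)] :
    ∃ (C' : QCAlg Y) (φ : C' ⟶ C),
      (∀ V : Y.Opens, Function.Injective (φ.hom.app (op V)).hom) ∧
      (∀ V : Y.Opens, IsAffineOpen V → (C'.str.app (op V)).hom.FiniteType) ∧
      IsImmersion (g ≫ QCAlg.specMap φ) := by
  classical
  haveI : CompactSpace X := (quasiCompact_iff_compactSpace (g ≫ C.π)).mp inferInstance
  obtain ⟨ι, _, U, hU, S, hM⟩ := SN410.exists_finite_data C.π g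
  obtain ⟨C', φ, hinj, hft, hs⟩ := exists_subalgebra_through_sections C
    (fun a : (Σ k : ι, {t // t ∈ S k}) => U a.1) (fun a => (hU a.1).isCompact)
    (fun a => (C.gammaAff (U a.1) (hU a.1)).hom a.2.1) Finset.univ
  refine ⟨C', φ, hinj, hft, hM C'.spec C'.π (QCAlg.specMap φ) (QCAlg.specMap_π φ)
    (fun k => (Groth.Agent.Helper1.SP.specMap_preimage φ (U k)).ge) ?_⟩
  intro k t ht
  obtain ⟨s', hs'⟩ := hs ⟨k, ⟨t, ht⟩⟩ (Finset.mem_univ _)
  haveI := RelSpecIso.isIso_gammaAff C (U k) (hU k)
  haveI := RelSpecIso.isIso_gammaAff C' (U k) (hU k)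
  refine ⟨(inv (C'.gammaAff (U k) (hU k))).hom s', ?_⟩
  have h := congrArg (fun m => m.hom ((inv (C'.gammaAff (U k) (hU k))).hom s'))
    (Groth.Agent.Helper1.SP.gammaAff_specMap φ (U k) (hU k))
  simp only [CommRingCat.hom_comp, RingHom.comp_apply] at h
  have h3 : (C'.gammaAff (U k) (hU k)).hom ((inv (C'.gammaAff (U k) (hU k))).hom s') = s' :=
    congrArg (fun m => m.hom s') (IsIso.inv_hom_id (C'.gammaAff (U k) (hU k)))
  rw [h3, hs'] at h
  have hinj' : Function.Injective (C.gammaAff (U k) (hU k)).hom :=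
    ((ConcreteCategory.isIso_iff_bijective (C.gammaAff (U k) (hU k))).mp inferInstance).1
  exact hinj' h

end Groth.Agent.Helper4.SN411
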