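import Groth.Agent.S4418
import Groth.Agent.S12416
import Groth.Agent.S14401
import Groth.Agent.Helper1.FinCondTop
import Groth.Agent.Helper4.AmpleIso
import Groth.Agent.Helper4.CoprodMod
import Groth.Agent.Helper4.RelCompTwist
import Groth.Agent.Helper4.AmpleLocal
import Groth.Agent.Helper4.PullRel
import Groth.Agent.Helper4.SN125
import Groth.Agent.Helper4.AmpleBasis
import Groth.Agent.Helper4.PullUnit

set_option autoImplicit false
universe u
open CategoryTheory CategoryTheory.Limits AlgebraicGeometry TopologicalSpace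

namespace Groth.Agent.Helper4.SN412

/-- connected components of a Noetherian scheme with domain stalks are open and irreducible -/
theorem cc_open_irred (S : Scheme.{u}) [IsNoetherian S]
    (hS : ∀ s : S, IsDomain (S.presheaf.stalk s)) (s : S) :
    IsOpen (connectedComponent s) ∧ IsIrreducible (connectedComponent s) := by
  have h1 := (Groth.Agent.S14401.result S hS).1
  have hZ : irreducibleComponent s ∈ irreducibleComponents S :=
    irreducibleComponent_mem_irreducibleComponents s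
  have hZo := h1 _ hZ
  have := Groth.Agent.Helper1.FinCondTop.connectedComponent_eq_of_isOpen_irreducibleComponent
    hZ hZo mem_irreducibleComponent
  rw [this]
  exact ⟨hZo, isIrreducible_irreducibleComponent⟩

/-- tensor powers of the structure sheaf are trivial -/
noncomputable def tensorPowUnitIso (X : Scheme.{u}) : (n : ℕ) →
    (CohB1.tensorPow (Coh.structureModule X) n ≅ Coh.structureModule X)
  | 0 => Iso.refl _
  | n + 1 => SecTwist.unitorR (CohB1.tensorPow (Coh.structureModule X) n) ≪≫ tensorPowUnitIso X n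

theorem forward {X S : Scheme.{u}} (f : X ⟶ S) [IsProper f] [IsNoetherian S]
    (hcc : ∀ s : S, IsPreirreducible (connectedComponent s))
    (U : X.Opens) (hq : RelProj.IsQuasiProjective (U.ι ≫ f))
    (hU : ∀ s : S, ∃ s' : S, s' ∈ connectedComponent s ∧ s' ∉ ⇑f.base '' (U : Set X)ᶜ) :
    ∃ V : S.Opens, Dense (V : Set S) ∧ RelProj.IsProjective (f ∣_ V) := by
  have hcl : IsClosed (f.base '' (U : Set X)ᶜ) := f.isClosedMap _ U.isOpen.isClosed_compl
  let V : S.Opens := ⟨(f.base '' (U : Set X)ᶜ)ᶜ, hcl.isOpen_compl⟩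
  have hVU : f ⁻¹ᵁ V ≤ U := by
    intro x hx
    by_contra hxU
    exact hx ⟨x, hxU, rfl⟩
  have hdense : Dense (V : Set S) := by
    rw [dense_iff_inter_open]
    intro W hW ⟨s, hs⟩
    obtain ⟨s', hs', hs'V⟩ := hU s
    obtain ⟨t, ht⟩ := hcc s W V hW V.isOpen ⟨s, mem_connectedComponent, hs⟩ ⟨s', hs', hs'V⟩
    exact ⟨t, ht.2.1, ht.2.2⟩
  refine ⟨V, hdense, ?_⟩
  obtain ⟨hlft, hqc, L, hL⟩ := hq
  haveI := hqc
  let j : (f ⁻¹ᵁ V : Scheme.{u}) ⟶ U := X.homOfLE hVU
  have hj : j ≫ U.ι = (f ⁻¹ᵁ V).ι := X.homOfLE_ι hVU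
  haveI : IsLocallyNoetherian X := LocallyOfFiniteType.isLocallyNoetherian f
  haveI : QuasiCompact (j ≫ U.ι) := by rw [hj]; infer_instance
  haveI : QuasiCompact j := QuasiCompact.of_comp j U.ι
  have h1 := Groth.Agent.Helper4.PullRel.isRelAmple_pullback_of_isEmbedding (U.ι ≫ f) j
    j.isOpenEmbedding.isEmbedding L hL
  have h2 : j ≫ U.ι ≫ f = (f ∣_ V) ≫ V.ι := by
    rw [← Category.assoc, hj, morphismRestrict_ι]
  rw [h2] at h1
  have h3 := Groth.Agent.Helper4.AmpleLocal.isRelAmple_of_comp (f ∣_ V) V.ι _ h1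
  haveI : CompactSpace (V : Scheme.{u}) := QuasiCompact.compactSpace_of_compactSpace V.ι
  haveI : IsLocallyNoetherian (V : Scheme.{u}) := isLocallyNoetherian_of_isOpenImmersion V.ι
  refine Groth.Agent.S12416.result (f ∣_ V) ⟨?_, inferInstance, _, h3⟩
  have : LocallyOfFiniteType f := inferInstance
  infer_instance

theorem backward {X S : Scheme.{u}} (f : X ⟶ S) [QuasiCompact f] [LocallyOfFiniteType f]
    [IsNoetherian S] (hopen : IsOpenMap f.base)
    (hcc : ∀ s : S, IsOpen (connectedComponent s))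
    (V : S.Opens) (hV : Dense (V : Set S)) (hp : RelProj.IsProjective (f ∣_ V)) :
    ∃ U : X.Opens, Dense (U : Set X) ∧ RelProj.IsQuasiProjective (U.ι ≫ f) ∧
        ∀ s : S, ∃ s' : S, s' ∈ connectedComponent s ∧ s' ∉ ⇑f.base '' (U : Set X)ᶜ := by
  refine ⟨f ⁻¹ᵁ V, hV.preimage hopen, ?_, ?_⟩
  · obtain ⟨⟨hlft, hqc, L, hL⟩, -⟩ := Groth.Agent.S4418.result (f ∣_ V) hp
    have h2 : (f ⁻¹ᵁ V).ι ≫ f = (f ∣_ V) ≫ V.ι := (morphismRestrict_ι f V).symm
    rw [h2]
    refine ⟨inferInstance, inferInstance, L, ?_⟩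
    have hK : RelAmple.IsRelAmple V.ι (Coh.structureModule V) := by
      rw [← Groth.Agent.Helper4.AmpleIso.isQuasiAffineHom_iff_isRelAmple_unit]
      refine ⟨inferInstance, fun W hW => ?_⟩
      haveI : IsAffine (W : Scheme.{u}) := hW
      haveI : CompactSpace ((V.ι ⁻¹ᵁ W : V.toScheme.Opens) : Scheme.{u}) :=
        isCompact_iff_compactSpace.mp
          (QuasiCompact.isCompact_preimage (f := V.ι) _ W.isOpen hW.isCompact)
      exact Scheme.IsQuasiAffine.of_isImmersion (V.ι ∣_ W)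
    obtain ⟨n₀, hn₀, hn⟩ :=
      Groth.Agent.Helper4.RelCompTwist.exists_forall_isRelAmple_comp (f ∣_ V) V.ι L _ hL hK
    have := hn n₀ le_rfl
    refine Groth.Agent.Helper4.CoprodMod.isRelAmple_of_iso ?_ this
    exact Groth.Agent.Helper4.SN.tensorLeftIso L
      ((Scheme.Modules.pullback _).mapIso (tensorPowUnitIso _ n₀) ≪≫
        Groth.Agent.Helper4.PullUnit.pullbackUnitIso _) ≪≫ SecTwist.unitorR L
  · intro s
    obtain ⟨s', hs'⟩ := hV.inter_open_nonempty _ (hcc s) ⟨s, mem_connectedComponent⟩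
    refine ⟨s', hs'.1, ?_⟩
    rintro ⟨x, hx, rfl⟩
    exact hx hs'.2

end Groth.Agent.Helper4.SN412
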