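import Mathlib
import Groth.Agent.Helper4.SN414
import Groth.Agent.Helper4.AmpleFinite
import Groth.Agent.Helper4.PullAmple
import Groth.Agent.Helper4.TensorAssoc
import Groth.Agent.Helper8.NormQAff
import Groth.Agent.S0593

/-!
# Ampleness descends along a finite morphism carrying a norm
-/

set_option autoImplicit false
set_option linter.unusedSectionVars false
set_option linter.style.haveILetI false

namespace Groth.Agent.Helper4.SN415

open CategoryTheory CategoryTheory.Limits AlgebraicGeometry TopologicalSpace Opposite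
open Groth.Agent.Helper4.GenLoc Groth.Agent.Helper4.TensorInv Groth.Agent.Helper4.TensorGen
  Groth.Agent.Helper4.TwistLocal Groth.Agent.Helper4.TwistExt Groth.Agent.Helper4.PullMate
  Groth.Agent.Helper4.PullTensor Groth.Agent.Helper4.SN346 Groth.Agent.Helper4.SN200
  Groth.Agent.Helper4.QAffSec Groth.Agent.Helper4.PullSec Groth.Agent.Helper4.SN413
  Groth.Agent.Helper4.SN414 Groth.Agent.Helper4.AmpleFinite Groth.Agent.Helper4.AmpleIso
  Groth.Agent.Helper4.AmpleBasis Groth.Agent.Helper4.TensorAssoc Groth.Agent.Helper4.PullAmple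

universe u

variable {X' X : Scheme.{u}} (π : X' ⟶ X) {d : ℕ} (N : Nrm.NormOfDegree π d)

include N in
/-- **Theorem N'**: if `π` is finite with a norm and `π^*L` is ample then `L` is ample. -/
theorem isAmple_of_norm [IsFinite π] (L : X.Modules) (hL : PicF.IsInvertible L)
    (hA : CohB1.IsAmple ((Scheme.Modules.pullback π).obj L)) : CohB1.IsAmple L := by
  have hsurj := Groth.Agent.Helper8.NormQAff.surjective π N
  obtain ⟨hL', hc', -⟩ := id hA
  haveI := hc'
  haveI : CompactSpace X := by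
    rw [← isCompact_univ_iff, ← Set.range_eq_univ.2 hsurj, ← Set.image_univ]
    exact isCompact_univ.image π.continuous
  refine ⟨hL, inferInstance, fun x => ?_⟩
  obtain ⟨n, s', hFs, -, haff⟩ := exists_affine_genLocus_of_finite hA (π ⁻¹' {x})
    (π.finite_preimage_singleton x) ⊤ (fun _ _ => trivial)
  have hM : PicF.IsInvertible (CohB1.tensorPow L (n + 1)) := isInvertible_tensorPow hL (n + 1)
  obtain ⟨σ', hσ'def⟩ : ∃ σ' : Coh.structureModule X' ⟶
      (Scheme.Modules.pullback π).obj (CohB1.tensorPow L (n + 1)),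
      σ' = s' ≫ (pullPowIso π hL (n + 1)).inv := ⟨_, rfl⟩
  have hσ' : CohB1.genLocus _ σ' = CohB1.genLocus _ s' := by
    rw [hσ'def]; exact genLocus_comp_iso (pullPowIso π hL (n + 1)).symm s'
  obtain ⟨τ, hτ⟩ := exists_norm_section π N (CohB1.tensorPow L (n + 1)) hM σ'
  have hd := N.one_le
  obtain ⟨m, hm⟩ : ∃ m, (n + 1) * d = m + 1 :=
    Nat.exists_eq_succ_of_ne_zero (Nat.mul_pos (Nat.succ_pos n) hd).ne'
  obtain ⟨t, htdef⟩ : ∃ t : Coh.structureModule X ⟶ CohB1.tensorPow L (m + 1),
      t = τ ≫ (powMulIso L hL (n + 1) d ≪≫ powCastIso L hm).hom := ⟨_, rfl⟩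
  have ht : CohB1.genLocus _ t = CohB1.genLocus _ τ := by
    rw [htdef]; exact genLocus_comp_iso _ τ
  refine ⟨m, t, ?_, ?_⟩
  · rw [ht, hτ]
    intro x' hx'
    rw [hσ']
    exact hFs hx'
  · rw [ht]
    obtain ⟨G, hG⟩ : ∃ G : X.Opens, G = CohB1.genLocus _ τ := ⟨_, rfl⟩
    rw [← hG]
    have hle : π ⁻¹ᵁ G ≤ CohB1.genLocus _ s' := by
      intro x' hx'
      rw [← hσ']
      have hx'' : π x' ∈ CohB1.genLocus _ τ := hG ▸ hx'
      exact (hτ (π x')).mp hx'' x' rfl
    have hpre : CohB1.genLocus _ (pullSec π τ) = π ⁻¹ᵁ G := by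
      rw [hG]; exact genLocus_pullSec π (isInvertible_tensorPow hM d) τ
    have haff' : IsAffineOpen (π ⁻¹ᵁ G) := by
      have := isAffineOpen_genLocus_inf_affine _
        (isInvertible_pullback π (isInvertible_tensorPow hM d)) (pullSec π τ) haff
      rwa [hpre, inf_eq_left.mpr hle] at this
    haveI : IsAffine ((π ⁻¹ᵁ G : X'.Opens) : Scheme.{u}) := haff'
    haveI : Surjective π := ⟨hsurj⟩
    haveI : Surjective (π ∣_ G) := IsZariskiLocalAtTarget.restrict ‹Surjective π› G
    exact Groth.Agent.S0593.result _ _ (π ∣_ G)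

end Groth.Agent.Helper4.SN415
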