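import Mathlib
import Groth.Agent.Helper4.SN415
import Groth.Agent.Helper4.AmpleCoprod
import Groth.Agent.Helper4.AmpleRestrict
import Groth.Agent.Helper4.FinLocFree6
import Groth.Agent.S8878
import Groth.Agent.Helper4.PullRel

/-!
# Ampleness descends along finite locally free surjective morphisms
-/

set_option autoImplicit false
set_option linter.unusedSectionVars false
set_option linter.style.haveILetI false

namespace Groth.Agent.Helper4.SN416

open CategoryTheory CategoryTheory.Limits AlgebraicGeometry TopologicalSpace Opposite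
open Groth.Agent.Helper4.QAffSec Groth.Agent.Helper4.PullSec Groth.Agent.Helper4.SN415
  Groth.Agent.Helper4.AmpleIso Groth.Agent.Helper4.AmpleCoprod Groth.Agent.Helper4.AmpleRestrict

universe u

/-- restriction of the data to an open of the base -/
theorem isAmple_restrict_pull {X' X : Scheme.{u}} (g : X' ⟶ X) [QuasiCompact g] (U : X.Opens)
    [CompactSpace (U : Scheme.{u})] (L : X.Modules)
    (hA : CohB1.IsAmple ((Scheme.Modules.pullback g).obj L)) :
    CohB1.IsAmple ((Scheme.Modules.pullback (g ∣_ U)).obj (L.restrict U.ι)) := by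
  haveI : CompactSpace ((g ⁻¹ᵁ U : X'.Opens) : Scheme.{u}) :=
    QuasiCompact.compactSpace_of_compactSpace (g ∣_ U)
  exact isAmple_of_iso (resPullIso g U L) (isAmple_restrict (g ⁻¹ᵁ U).ι hA)

theorem isAmple_of_finLocFree_aux (k : ℕ) : ∀ {X' X : Scheme.{u}} (g : X' ⟶ X) [IsFinite g]
    [Flat g] [LocallyOfFinitePresentation g] [Surjective g] (_ : ∀ x, g.finrank x ≤ k)
    (L : X.Modules) (_ : PicF.IsInvertible L)
    (_ : CohB1.IsAmple ((Scheme.Modules.pullback g).obj L)), CohB1.IsAmple L := by
  induction k with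
  | zero =>
    intro X' X g _ _ _ _ hk L hL hA
    have hempty : ∀ x : X, False := by
      intro x
      obtain ⟨x', rfl⟩ := g.surjective x
      have h1 := Scheme.Hom.one_le_finrank_map g x'
      have h2 := hk (g x')
      omega
    haveI : IsEmpty X := ⟨hempty⟩
    exact ⟨hL, inferInstance, fun x => (hempty x).elim⟩
  | succ k ih =>
    intro X' X g _ _ _ _ hk L hL hA
    haveI : CompactSpace X' := hA.2.1
    haveI : CompactSpace X := by
      rw [← isCompact_univ_iff, ← Set.range_eq_univ.2 g.surjective, ← Set.image_univ]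
      exact isCompact_univ.image g.continuous
    have hlc := Scheme.Hom.isLocallyConstant_finrank g
    let U₁ : X.Opens := ⟨g.finrank ⁻¹' {k + 1}, hlc.isOpen_fiber _⟩
    let U₂ : X.Opens := ⟨g.finrank ⁻¹' {k + 1}ᶜ, hlc _⟩
    have hsup : U₁ ⊔ U₂ = ⊤ := by
      ext x
      simp only [Opens.coe_sup, Opens.coe_top, Set.mem_univ, iff_true]
      by_cases h : g.finrank x = k + 1
      · exact Or.inl h
      · exact Or.inr h
    have hinf : U₁ ⊓ U₂ = ⊥ := by
      ext x
      simp only [Opens.coe_inf, Opens.coe_bot, Set.mem_empty_iff_false, iff_false]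
      rintro ⟨h1, h2⟩
      exact h2 h1
    have hc₁ : IsClosed (U₁ : Set X) := (hlc.isClopen_fiber _).1
    have hc₂ : IsClosed (U₂ : Set X) := by
      have : (U₂ : Set X) = (U₁ : Set X)ᶜ := rfl
      rw [this]; exact U₁.isOpen.isClosed_compl
    haveI : CompactSpace (U₁ : Scheme.{u}) := isCompact_iff_compactSpace.mp hc₁.isCompact
    haveI : CompactSpace (U₂ : Scheme.{u}) := isCompact_iff_compactSpace.mp hc₂.isCompact
    have hrank : ∀ (U : X.Opens) (y : (U : Scheme.{u})),
        (g ∣_ U).finrank y = g.finrank y.1 := fun U y =>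
      Scheme.Hom.finrank_of_isPullback _ _ _ _ (isPullback_morphismRestrict g U).flip y
    refine isAmple_of_isCompl L U₁ U₂ hsup hinf ?_ ?_
    · -- constant rank `k + 1`: the norm
      have hdeg : Mor2.IsFinLocFreeOfDeg (k + 1) (g ∣_ U₁) :=
        ⟨⟨inferInstance, inferInstance, inferInstance⟩, fun y => (hrank U₁ y).trans y.2⟩
      obtain ⟨N⟩ := Groth.Agent.S8878.result (g ∣_ U₁) (k + 1) (by omega) hdeg
      exact isAmple_of_norm (g ∣_ U₁) N _ (isInvertible_restrict U₁.ι hL)
        (isAmple_restrict_pull g U₁ L hA)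
    · haveI : Surjective (g ∣_ U₂) := IsZariskiLocalAtTarget.restrict ‹Surjective g› U₂
      refine ih (g ∣_ U₂) (fun y => ?_) _ (isInvertible_restrict U₂.ι hL)
        (isAmple_restrict_pull g U₂ L hA)
      have h1 := hk y.1
      have h2 : g.finrank y.1 ≠ k + 1 := y.2
      rw [hrank U₂ y]
      omega

/-- **Theorem A**: ampleness descends along a finite locally free surjective morphism -/
theorem isAmple_of_flat_finite {X' X : Scheme.{u}} (g : X' ⟶ X) [IsFinite g] [Surjective g]
    [Flat g] [LocallyOfFinitePresentation g]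
    (L : X.Modules) (hL : PicF.IsInvertible L)
    (hA : CohB1.IsAmple ((Scheme.Modules.pullback g).obj L)) : CohB1.IsAmple L := by
  haveI : CompactSpace X' := hA.2.1
  haveI : CompactSpace X := by
    rw [← isCompact_univ_iff, ← Set.range_eq_univ.2 g.surjective, ← Set.image_univ]
    exact isCompact_univ.image g.continuous
  have hlc := Scheme.Hom.isLocallyConstant_finrank g
  obtain ⟨k, hk⟩ : ∃ k, ∀ x, g.finrank x ≤ k := by
    have hfin : (Set.range g.finrank).Finite := hlc.range_finite
    obtain ⟨k, hk⟩ := hfin.bddAbove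
    exact ⟨k, fun x => hk ⟨x, rfl⟩⟩
  exact isAmple_of_finLocFree_aux k g hk L hL hA

/-- relative version -/
theorem isRelAmple_of_flat_finite {X' X Y : Scheme.{u}} (f : X ⟶ Y) [QuasiCompact f]
    (g : X' ⟶ X) [IsFinite g] [Surjective g] [Flat g] [LocallyOfFinitePresentation g]
    (L : X.Modules) (hL : PicF.IsInvertible L)
    (h : RelAmple.IsRelAmple (g ≫ f) ((Scheme.Modules.pullback g).obj L)) :
    RelAmple.IsRelAmple f L := by
  refine ⟨inferInstance, fun V => ?_⟩
  have h1 : CohB1.IsAmple (((Scheme.Modules.pullback g).obj L).restrict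
      (g ⁻¹ᵁ (f ⁻¹ᵁ V.1)).ι) := h.2 V
  have h2 := isAmple_of_iso (resPullIso g (f ⁻¹ᵁ V.1) L) h1
  haveI : Surjective (g ∣_ (f ⁻¹ᵁ V.1)) :=
    IsZariskiLocalAtTarget.restrict ‹Surjective g› (f ⁻¹ᵁ V.1)
  exact isAmple_of_flat_finite (g ∣_ (f ⁻¹ᵁ V.1)) _ (isInvertible_restrict _ hL) h2

/-- S3565 -/
theorem isRelAmple_iff_pullback_finLocFree {X X' Y : Scheme.{u}} (f : X ⟶ Y) [QuasiCompact f]
    (g : X' ⟶ X) [IsFinite g] [Surjective g]
    (hfree : FlatMod.IsFinLocFree ((Coh.push g).obj (Coh.structureModule X')))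
    (L : X.Modules) (hL : PicF.IsInvertible L) :
    RelAmple.IsRelAmple f L ↔ RelAmple.IsRelAmple (g ≫ f) ((Scheme.Modules.pullback g).obj L) := by
  obtain ⟨-, hflat, hlfp⟩ :=
    Groth.Agent.Helper4.FinLocFree6.finite_flat_lfp_of_isFinLocFree_push g hfree
  haveI := hflat
  haveI := hlfp
  constructor
  · intro h
    refine Groth.Agent.Helper4.PullRel.isRelAmple_pullback_of_isQuasiAffine f g
      ⟨inferInstance, fun V hV => ?_⟩ L h
    haveI : IsAffine ((g ⁻¹ᵁ V : X'.Opens) : Scheme.{u}) := hV.preimage g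
    infer_instance
  · exact isRelAmple_of_flat_finite f g L hL

end Groth.Agent.Helper4.SN416
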