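import Mathlib
import Groth.Prelude.Def_Fitting
import Groth.Agent.Helper4.SN414
import Groth.Agent.Helper4.SN417

/-!
# The norm of a section, for a pair of compatibly framed modules
-/

set_option autoImplicit false
set_option linter.unusedSectionVars false
set_option linter.style.haveILetI false

namespace Groth.Agent.Helper4.SN418

open CategoryTheory CategoryTheory.Limits AlgebraicGeometry TopologicalSpace Opposite
open Groth.Agent.Helper4.GenLoc Groth.Agent.Helper4.TensorInv Groth.Agent.Helper4.TensorGen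
  Groth.Agent.Helper4.TwistLocal Groth.Agent.Helper4.TwistExt Groth.Agent.Helper4.PullMate
  Groth.Agent.Helper4.PullTensor Groth.Agent.Helper4.SN346 Groth.Agent.Helper4.SN200
  Groth.Agent.Helper4.QAffSec Groth.Agent.Helper4.PullSec Groth.Agent.Helper4.SN413
  Groth.Agent.Helper4.SN414 Groth.Agent.Helper4.SN417

universe u

variable {X' X : Scheme.{u}} (π : X' ⟶ X) {d : ℕ} (N : Nrm.NormOfDegree π d)

theorem preimage_mono {W V : X.Opens} (h : W ≤ V) : π ⁻¹ᵁ W ≤ π ⁻¹ᵁ V := fun _ hx => h hx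

/-- the framings `e'` of `M'` over the `π⁻¹U_i` and `s` of `L` over the `U_i` are compatible with
the norm: the transition functions of `s` are the norms of those of `e'`. -/
def NormCompat (M' : X'.Modules) (L : X.Modules) {I : Type u} (U : I → X.Opens)
    (e' : ∀ i, Γ(M', π ⁻¹ᵁ U i)) (s : ∀ i, Γ(L, U i)) : Prop :=
  ∀ (i j : I) (W : X.Opens) (hi : W ≤ U i) (hj : W ≤ U j) (g : Γ(X', π ⁻¹ᵁ W)),
    M'.presheaf.map (homOfLE (preimage_mono π hi)).op (e' i) =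
      g • M'.presheaf.map (homOfLE (preimage_mono π hj)).op (e' j) →
    L.presheaf.map (homOfLE hi).op (s i) = N.norm W g • L.presheaf.map (homOfLE hj).op (s j)

include N in
theorem chart_compat' (M' : X'.Modules) (L : X.Modules) {I : Type u} (U : I → X.Opens)
    (e' : ∀ i, Γ(M', π ⁻¹ᵁ U i)) (he' : ∀ i, IsFrame M' (π ⁻¹ᵁ U i) (e' i))
    (s : ∀ i, Γ(L, U i)) (hc : NormCompat π N M' L U e' s)
    (σ' : Coh.structureModule X' ⟶ M') (i j : I)
    (ai : Γ(X', π ⁻¹ᵁ U i)) (aj : Γ(X', π ⁻¹ᵁ U j))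
    (hai : (show Γ(M', π ⁻¹ᵁ U i) from SecTwist.val σ' (π ⁻¹ᵁ U i)) = ai • e' i)
    (haj : (show Γ(M', π ⁻¹ᵁ U j) from SecTwist.val σ' (π ⁻¹ᵁ U j)) = aj • e' j)
    (W : X.Opens) (hi : W ≤ U i) (hj : W ≤ U j) :
    L.presheaf.map (homOfLE hi).op (N.norm (U i) ai • s i) =
      L.presheaf.map (homOfLE hj).op (N.norm (U j) aj • s j) := by
  have hi' : π ⁻¹ᵁ W ≤ π ⁻¹ᵁ U i := preimage_mono π hi
  have hj' : π ⁻¹ᵁ W ≤ π ⁻¹ᵁ U j := preimage_mono π hj
  obtain ⟨g, hg⟩ := (he' j (π ⁻¹ᵁ W) hj').1 (M'.presheaf.map (homOfLE hi').op (e' i))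
  obtain ⟨Ai, hAi⟩ : ∃ Ai : Γ(X', π ⁻¹ᵁ W), Ai = X'.presheaf.map (homOfLE hi').op ai := ⟨_, rfl⟩
  obtain ⟨Aj, hAj⟩ : ∃ Aj : Γ(X', π ⁻¹ᵁ W), Aj = X'.presheaf.map (homOfLE hj').op aj := ⟨_, rfl⟩
  have e2 : (show Γ(M', π ⁻¹ᵁ W) from SecTwist.val σ' (π ⁻¹ᵁ W)) =
      Ai • M'.presheaf.map (homOfLE hi').op (e' i) := by
    rw [hAi, ← Scheme.Modules.map_smul, ← hai]
    exact (val_res σ' hi').symm
  have e3 : (show Γ(M', π ⁻¹ᵁ W) from SecTwist.val σ' (π ⁻¹ᵁ W)) =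
      Aj • M'.presheaf.map (homOfLE hj').op (e' j) := by
    rw [hAj, ← Scheme.Modules.map_smul, ← haj]
    exact (val_res σ' hj').symm
  have e4 : Aj = Ai * g := by
    have : (Aj - Ai * g) • M'.presheaf.map (homOfLE hj').op (e' j) = 0 := by
      rw [sub_smul, mul_smul, ← hg, ← e2, ← e3, sub_self]
    exact sub_eq_zero.mp ((he' j _ hj').2 _ this)
  have e5 : N.norm W Aj = N.norm W Ai * N.norm W g := by rw [e4, map_mul]
  have e6 : X.presheaf.map (homOfLE hi).op (N.norm (U i) ai) = N.norm W Ai := by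
    rw [hAi]; exact N.norm_res (homOfLE hi) ai
  have e7 : X.presheaf.map (homOfLE hj).op (N.norm (U j) aj) = N.norm W Aj := by
    rw [hAj]; exact N.norm_res (homOfLE hj) aj
  rw [Scheme.Modules.map_smul, Scheme.Modules.map_smul, e6, e7, hc i j W hi hj g hg, e5, mul_smul]

include N in
/-- **the norm of a section**, for compatibly framed modules -/
theorem exists_norm_section_of_compat [IsFinite π] (M' : X'.Modules) (L : X.Modules) {I : Type u}
    (U : I → X.Opens) (hU : ∀ x : X, ∃ i, x ∈ U i)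
    (e' : ∀ i, Γ(M', π ⁻¹ᵁ U i)) (he' : ∀ i, IsFrame M' (π ⁻¹ᵁ U i) (e' i))
    (s : ∀ i, Γ(L, U i)) (hs : ∀ i, IsFrame L (U i) (s i)) (hc : NormCompat π N M' L U e' s)
    (σ' : Coh.structureModule X' ⟶ M') :
    ∃ τ : Coh.structureModule X ⟶ L,
      ∀ x : X, x ∈ CohB1.genLocus _ τ ↔ ∀ x' : X', π x' = x → x' ∈ CohB1.genLocus _ σ' := by
  classical
  have hco : ∀ i : I, ∃ a : Γ(X', π ⁻¹ᵁ U i),
      (show Γ(M', π ⁻¹ᵁ U i) from SecTwist.val σ' (π ⁻¹ᵁ U i)) = a • e' i := by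
    intro i
    obtain ⟨a, ha⟩ := ((he' i) (π ⁻¹ᵁ U i) le_rfl).1 (SecTwist.val σ' (π ⁻¹ᵁ U i))
    refine ⟨a, ?_⟩
    rw [res_self] at ha
    exact ha
  choose a ha using hco
  obtain ⟨τl, hτl⟩ : ∃ τl : ∀ i : I, Γ(L, U i), τl = fun i => N.norm (U i) (a i) • s i := ⟨_, rfl⟩
  have hcompat : TopCat.Presheaf.IsCompatible L.presheaf U τl := by
    intro i j
    rw [hτl]
    exact chart_compat' π N M' L U e' he' s hc σ' i j (a i) (a j) (ha i) (ha j) (U i ⊓ U j)
      inf_le_left inf_le_right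
  have hcover : (⊤ : X.Opens) ≤ iSup U := by
    intro y _
    obtain ⟨i, hi⟩ := hU y
    exact Opens.mem_iSup.mpr ⟨i, hi⟩
  obtain ⟨t, ht, -⟩ := TopCat.Sheaf.existsUnique_gluing'
    (⟨L.presheaf, L.isSheaf⟩ : TopCat.Sheaf Ab X)
    U ⊤ (fun i => homOfLE le_top) hcover τl hcompat
  obtain ⟨τ0, hτ0⟩ := Groth.Agent.Helper4.SubExt.exists_unit_hom_of_section L t
  let τ : Coh.structureModule X ⟶ L := τ0
  refine ⟨τ, fun x => ?_⟩
  obtain ⟨i, hxi⟩ := hU x
  have hval : (show Γ(L, U i) from SecTwist.val τ (U i)) = N.norm (U i) (a i) • s i := by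
    have h1 : L.presheaf.map (homOfLE (le_top : U i ≤ ⊤)).op t = τl i := ht i
    have h2 : τl i = N.norm (U i) (a i) • s i := by rw [hτl]
    refine Eq.trans ?_ (h1.trans h2)
    refine (val_res τ (le_top : U i ≤ ⊤)).symm.trans ?_
    exact congrArg (L.presheaf.map (homOfLE (le_top : U i ≤ ⊤)).op) hτ0
  have h1 := genLocus_inf_eq_basicOpen_of_isFrame τ (hs i) _ hval
  have h2 := genLocus_inf_eq_basicOpen_of_isFrame σ' (he' i) _ (ha i)
  constructor
  · intro hx x' hx'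
    have h3 : π x' ∈ X.basicOpen (N.norm (U i) (a i)) := by
      rw [← h1, hx']; exact ⟨hx, hxi⟩
    have h4 := mem_basicOpen_of_norm π N _ _ x' h3
    rw [← h2] at h4
    exact h4.1
  · intro h
    have h3 : x ∈ X.basicOpen (N.norm (U i) (a i)) := by
      refine norm_mem_basicOpen π N (U i) (a i) x hxi (fun x' hx' => ?_)
      rw [← h2]
      refine ⟨h x' hx', ?_⟩
      show π x' ∈ U i
      rw [hx']
      exact hxi
    rw [← h1] at h3
    exact h3.1

end Groth.Agent.Helper4.SN418
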