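import Mathlib
import Groth.Agent.Helper4.SN419
import Groth.Agent.Helper4.SN415
import Groth.Agent.Helper4.AmplePoints

/-!
# A scheme admitting a finite morphism with a norm from a scheme with an ample module has an
ample module
-/

set_option autoImplicit false
set_option linter.unusedSectionVars false
set_option linter.style.haveILetI false

namespace Groth.Agent.Helper4.SN420

open CategoryTheory CategoryTheory.Limits AlgebraicGeometry TopologicalSpace Opposite
open Groth.Agent.Helper4.GenLoc Groth.Agent.Helper4.TensorInv Groth.Agent.Helper4.TensorGen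
  Groth.Agent.Helper4.TwistLocal Groth.Agent.Helper4.TwistExt
  Groth.Agent.Helper4.SN200 Groth.Agent.Helper4.QAffSec Groth.Agent.Helper4.SN413
  Groth.Agent.Helper4.SN414 Groth.Agent.Helper4.SN417 Groth.Agent.Helper4.SN418
  Groth.Agent.Helper4.SN419 Groth.Agent.Helper4.SN352 Groth.Agent.Helper4.PullSec
  Groth.Agent.Helper4.AmpleFinite Groth.Agent.Helper4.AmpleIso
  Groth.Agent.Helper4.AmpleBasis Groth.Agent.Helper4.TensorAssoc Groth.Agent.Helper4.AmplePoints

universe u

variable {X' X : Scheme.{u}} (π : X' ⟶ X) {d : ℕ} (N : Nrm.NormOfDegree π d)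

/-- compatibility with the norm passes to tensor powers -/
theorem NormCompat.pow {M' : X'.Modules} {L : X.Modules} {I : Type u} {U : I → X.Opens}
    {e' : ∀ i, Γ(M', π ⁻¹ᵁ U i)} (he' : ∀ i, IsFrame M' (π ⁻¹ᵁ U i) (e' i))
    {s : ∀ i, Γ(L, U i)} (hc : NormCompat π N M' L U e' s) (n : ℕ) :
    NormCompat π N (CohB1.tensorPow M' n) (CohB1.tensorPow L n) U
      (fun i => ePow M' (π ⁻¹ᵁ U i) (e' i) n) (fun i => ePow L (U i) (s i) n) := by
  intro i j W hi hj c hcW
  have hi' := preimage_mono π hi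
  have hj' := preimage_mono π hj
  obtain ⟨g, hg⟩ := (he' j (π ⁻¹ᵁ W) hj').1 (M'.presheaf.map (homOfLE hi').op (e' i))
  have hfj := isFrame_ePow_of_isFrame (he' j) n
  have hcg : c = g ^ n := by
    apply coeff_unique hfj hj'
    change (CohB1.tensorPow M' n).presheaf.map (homOfLE hi').op (ePow M' _ (e' i) n) =
      c • (CohB1.tensorPow M' n).presheaf.map (homOfLE hj').op (ePow M' _ (e' j) n) at hcW
    rw [← hcW, ePow_map, ePow_map, hg, ePow_smul]
  have h1 := hc i j W hi hj g hg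
  change (CohB1.tensorPow L n).presheaf.map (homOfLE hi).op (ePow L (U i) (s i) n) =
    N.norm W c • (CohB1.tensorPow L n).presheaf.map (homOfLE hj).op (ePow L (U j) (s j) n)
  rw [ePow_map, ePow_map, h1, ePow_smul, hcg, map_pow]

include N in
/-- **Theorem N''** -/
theorem exists_isAmple_of_norm [IsFinite π] (L' : X'.Modules) (hA : CohB1.IsAmple L') :
    ∃ L : X.Modules, CohB1.IsAmple L := by
  classical
  have hsurj := Groth.Agent.Helper8.NormQAff.surjective π N
  obtain ⟨hL', hc', -⟩ := id hA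
  haveI := hc'
  haveI : CompactSpace X := by
    rw [← isCompact_univ_iff, ← Set.range_eq_univ.2 hsurj, ← Set.image_univ]
    exact isCompact_univ.image π.continuous
  -- step 1: local sections generating along the fibres
  have h1 : ∀ x : X, ∃ (n : ℕ) (t : Coh.structureModule X' ⟶ CohB1.tensorPow L' (n + 1)),
      π ⁻¹' {x} ⊆ CohB1.genLocus _ t := by
    intro x
    obtain ⟨n, t, h, -, -⟩ := exists_affine_genLocus_of_finite hA (π ⁻¹' {x})
      (π.finite_preimage_singleton x) ⊤ (fun _ _ => trivial)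
    exact ⟨n, t, h⟩
  choose n t ht using h1
  have hcl : ∀ x : X, IsClosed (π '' ((CohB1.genLocus _ (t x) : Set X')ᶜ)) := fun x =>
    π.isClosedMap _ (CohB1.genLocus _ (t x)).isOpen.isClosed_compl
  let V : X → X.Opens := fun x => ⟨(π '' ((CohB1.genLocus _ (t x) : Set X')ᶜ))ᶜ, (hcl x).isOpen_compl⟩
  have hxV : ∀ x, x ∈ V x := by
    rintro x ⟨x', hx', hxx⟩
    exact hx' (ht x hxx)
  have hVle : ∀ x, π ⁻¹ᵁ V x ≤ CohB1.genLocus _ (t x) := by
    intro x x' hx'
    by_contra hcon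
    exact hx' ⟨x', hcon, rfl⟩
  obtain ⟨S, hS⟩ := CompactSpace.elim_nhds_subcover (fun x => (V x : Set X))
    (fun x => (V x).isOpen.mem_nhds (hxV x))
  -- step 2: a common power
  obtain ⟨m, hm⟩ : ∃ m, m = ∏ x ∈ S, (n x + 1) := ⟨_, rfl⟩
  have hmpos : 0 < m := by
    rw [hm]; exact Finset.prod_pos (fun x _ => Nat.succ_pos _)
  have hdiv : ∀ x ∈ S, (n x + 1) * (m / (n x + 1)) = m := by
    intro x hx
    exact Nat.mul_div_cancel' (hm ▸ Finset.dvd_prod_of_mem (fun x => n x + 1) hx)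
  have hMinv : PicF.IsInvertible (CohB1.tensorPow L' m) := isInvertible_tensorPow hL' m
  have h2 : ∀ x : S, ∃ t' : Coh.structureModule X' ⟶ CohB1.tensorPow L' m,
      π ⁻¹ᵁ V x.1 ≤ CohB1.genLocus _ t' := by
    intro x
    refine ⟨SecTwist.powHom (t x.1) (m / (n x.1 + 1)) ≫
      (powMulIso L' hL' (n x.1 + 1) (m / (n x.1 + 1)) ≪≫ powCastIso L' (hdiv x.1 x.2)).hom, ?_⟩
    rw [genLocus_comp_iso]
    exact (hVle x.1).trans
      (genLocus_le_genLocus_powHom (isInvertible_tensorPow hL' _) (t x.1) _)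
  choose t' ht' using h2
  -- step 3: the norm module
  let U : S → X.Opens := fun x => V x.1
  have hU : ∀ y : X, ∃ i : S, y ∈ U i := by
    intro y
    have hy : y ∈ ⋃ x ∈ S, (V x : Set X) := by rw [hS]; trivial
    simp only [Set.mem_iUnion] at hy
    obtain ⟨x, hxS, hyx⟩ := hy
    exact ⟨⟨x, hxS⟩, hyx⟩
  let e' : ∀ i : S, Γ(CohB1.tensorPow L' m, π ⁻¹ᵁ U i) := fun i =>
    SecTwist.val (t' i) (π ⁻¹ᵁ U i)
  have he' : ∀ i : S, IsFrame (CohB1.tensorPow L' m) (π ⁻¹ᵁ U i) (e' i) := fun i =>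
    isFrame_of_le_genLocus (t' i) _ (ht' i)
  obtain ⟨L, s, hinv, hs, hcomp⟩ := exists_norm_module π N (CohB1.tensorPow L' m) U hU e' he'
  have hMample : CohB1.IsAmple (CohB1.tensorPow L' m) := isAmple_tensorPow hL' m hmpos hA
  -- step 4: ampleness
  refine ⟨L, hinv, inferInstance, fun x => ?_⟩
  obtain ⟨k, σ', hFs, -, haff⟩ := exists_affine_genLocus_of_finite hMample (π ⁻¹' {x})
    (π.finite_preimage_singleton x) ⊤ (fun _ _ => trivial)
  obtain ⟨τ, hτ⟩ := exists_norm_section_of_compat π N (CohB1.tensorPow (CohB1.tensorPow L' m) (k + 1))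
    (CohB1.tensorPow L (k + 1)) U hU _ (fun i => isFrame_ePow_of_isFrame (he' i) (k + 1)) _
    (fun i => isFrame_ePow_of_isFrame (hs i) (k + 1)) (NormCompat.pow π N he' hcomp (k + 1)) σ'
  refine ⟨k, τ, ?_, ?_⟩
  · rw [hτ]
    intro x' hx'
    exact hFs hx'
  · obtain ⟨G, hG⟩ : ∃ G : X.Opens, G = CohB1.genLocus _ τ := ⟨_, rfl⟩
    rw [← hG]
    have hle : π ⁻¹ᵁ G ≤ CohB1.genLocus _ σ' := by
      intro x' hx'
      have hx'' : π x' ∈ CohB1.genLocus _ τ := hG ▸ hx'
      exact (hτ (π x')).mp hx'' x' rfl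
    have hinvk : PicF.IsInvertible (CohB1.tensorPow L (k + 1)) := isInvertible_tensorPow hinv _
    have hpre : CohB1.genLocus _ (pullSec π τ) = π ⁻¹ᵁ G := by
      rw [hG]; exact genLocus_pullSec π hinvk τ
    have haff' : IsAffineOpen (π ⁻¹ᵁ G) := by
      have := isAffineOpen_genLocus_inf_affine _ (isInvertible_pullback π hinvk) (pullSec π τ) haff
      rwa [hpre, inf_eq_left.mpr hle] at this
    haveI : IsAffine ((π ⁻¹ᵁ G : X'.Opens) : Scheme.{u}) := haff'
    haveI : Surjective π := ⟨hsurj⟩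
    haveI : Surjective (π ∣_ G) := IsZariskiLocalAtTarget.restrict ‹Surjective π› G
    exact Groth.Agent.S0593.result _ _ (π ∣_ G)

end Groth.Agent.Helper4.SN420
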