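import Mathlib
import Groth.Agent.Helper4.SN420
import Groth.Agent.Helper1.Dev9
import Groth.Agent.S8881

/-!
# Ample modules descend along finite surjective morphisms onto normal integral schemes
-/

set_option autoImplicit false
set_option linter.unusedSectionVars false
set_option linter.style.haveILetI false

namespace Groth.Agent.Helper4.SN421

open CategoryTheory CategoryTheory.Limits AlgebraicGeometry TopologicalSpace Opposite

universe u

theorem exists_isAmple_of_finite_surjective_normal {X Y : Scheme.{u}} (π : X ⟶ Y) [IsFinite π]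
    [Surjective π] [IsIntegral Y] (hY : Pi1.IsNormalScheme Y) (L : X.Modules)
    (hL : CohB1.IsAmple L) : ∃ M : Y.Modules, CohB1.IsAmple M := by
  obtain ⟨ξ, hξ⟩ := π.surjective (genericPoint Y)
  let Z : Closeds X := ⟨closure {ξ}, isClosed_closure⟩
  haveI : IsIntegral (Scheme.IdealSheafData.vanishingIdeal Z).subscheme :=
    Groth.Agent.Helper1.Dev.isIntegral_subscheme Z isIrreducible_singleton.closure
  obtain ⟨i, hi⟩ : ∃ i : (Scheme.IdealSheafData.vanishingIdeal Z).subscheme ⟶ X,
      i = (Scheme.IdealSheafData.vanishingIdeal Z).subschemeι := ⟨_, rfl⟩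
  haveI : IsClosedImmersion i := by rw [hi]; infer_instance
  have hrange : Set.range i = closure {ξ} := by
    rw [hi]; exact Groth.Agent.Helper1.Dev.range_ι_vanishingIdeal Z
  haveI : Surjective (i ≫ π) := by
    constructor
    intro y
    have hcl : IsClosed (Set.range (i ≫ π)) := (i ≫ π).isClosedMap.isClosed_range
    have hη : genericPoint Y ∈ Set.range (i ≫ π) := by
      have hξZ : ξ ∈ Set.range i := by rw [hrange]; exact subset_closure rfl
      obtain ⟨z, hz⟩ := hξZ
      exact ⟨z, by rw [Scheme.Hom.comp_apply, hz, hξ]⟩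
    have h1 : closure {genericPoint Y} ⊆ Set.range (i ≫ π) :=
      (hcl.closure_subset_iff).mpr (Set.singleton_subset_iff.mpr hη)
    have h2 : closure {genericPoint Y} = Set.univ := (genericPoint_spec Y).def
    rw [h2] at h1
    exact h1 (Set.mem_univ y)
  have hA' := Groth.Agent.Helper4.PullAmple.isAmple_pullback_of_isAffineHom i hL
  obtain ⟨d, ⟨N⟩⟩ := Groth.Agent.S8881.result (i ≫ π) hY
  exact Groth.Agent.Helper4.SN420.exists_isAmple_of_norm (i ≫ π) N _ hA'

end Groth.Agent.Helper4.SN421
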