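import Mathlib
import Groth.Prelude.Def_Fitting
import Groth.Agent.Helper4.SN414

/-!
# Norms without a degree: multiplicative, compatible with restriction, reflecting non-vanishing
-/

set_option autoImplicit false
set_option linter.unusedSectionVars false
set_option linter.style.haveILetI false

namespace Groth.Agent.Helper4.SN422

open CategoryTheory CategoryTheory.Limits AlgebraicGeometry TopologicalSpace Opposite

universe u

variable {X' X : Scheme.{u}}

/-- a norm for `π`, without a degree: multiplicative maps `Γ(π⁻¹U, O_{X'}) → Γ(U, O_X)`, compatible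
with restriction, such that `s` does not vanish where `N s` does not vanish. -/
structure PreNorm (π : X' ⟶ X) where
  /-- the norm maps -/
  norm : ∀ U : X.Opens, Γ(X', π ⁻¹ᵁ U) →* Γ(X, U)
  /-- compatibility with restriction -/
  norm_res : ∀ {U V : X.Opens} (i : V ⟶ U) (s : Γ(X', π ⁻¹ᵁ U)),
    X.presheaf.map i.op (norm U s) = norm V (X'.presheaf.map ((Opens.map π.base).map i).op s)
  /-- non-vanishing is reflected -/
  norm_basicOpen : ∀ (U : X.Opens) (s : Γ(X', π ⁻¹ᵁ U)),
    π ⁻¹ᵁ (X.basicOpen (norm U s)) ≤ X'.basicOpen s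

variable {π : X' ⟶ X}

/-- a norm of degree `d` is a norm -/
def PreNorm.ofNormOfDegree {d : ℕ} (N : Nrm.NormOfDegree π d) : PreNorm π where
  norm := N.norm
  norm_res := N.norm_res
  norm_basicOpen U s := fun x' hx' =>
    Groth.Agent.Helper4.SN414.mem_basicOpen_of_norm π N U s x' hx'

variable (N : PreNorm π)

/-- if `N s` does not vanish at `π x'` then `s` does not vanish at `x'` -/
lemma mem_basicOpen_of_norm (U : X.Opens) (s : Γ(X', π ⁻¹ᵁ U)) (x' : X')
    (hx : π x' ∈ X.basicOpen (N.norm U s)) : x' ∈ X'.basicOpen s :=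
  N.norm_basicOpen U s hx

/-- if `s` does not vanish on the fibre over `x` then `N s` does not vanish at `x` -/
lemma norm_mem_basicOpen [IsFinite π] (U : X.Opens) (s : Γ(X', π ⁻¹ᵁ U)) (x : X) (hxU : x ∈ U)
    (hs : ∀ x', π x' = x → x' ∈ X'.basicOpen s) : x ∈ X.basicOpen (N.norm U s) := by
  have hC : IsClosed (π '' ((X'.basicOpen s : Set X')ᶜ)) :=
    π.isClosedMap _ (X'.basicOpen s).2.isClosed_compl
  let W : X.Opens := ⟨(π '' ((X'.basicOpen s : Set X')ᶜ))ᶜ, hC.isOpen_compl⟩ ⊓ U
  have hxW : x ∈ W := by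
    refine ⟨?_, hxU⟩
    rintro ⟨x', hx', hxx⟩
    exact hx' (hs x' hxx)
  have hWU : W ≤ U := inf_le_right
  have hW : π ⁻¹ᵁ W ≤ X'.basicOpen s := by
    intro x' hx'
    by_contra hxs
    exact hx'.1 ⟨x', hxs, rfl⟩
  have hu : IsUnit (X'.presheaf.map ((Opens.map π.base).map (homOfLE hWU)).op s) := by
    have h1 : IsUnit ((X'.presheaf.map (homOfLE (X'.basicOpen_le s)).op).hom s) :=
      X'.toRingedSpace.isUnit_res_basicOpen s
    have h2 := h1.map (X'.presheaf.map (homOfLE hW).op).hom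
    have e : (X'.presheaf.map (homOfLE hW).op).hom
        ((X'.presheaf.map (homOfLE (X'.basicOpen_le s)).op).hom s) =
        (X'.presheaf.map ((Opens.map π.base).map (homOfLE hWU)).op).hom s := by
      show (X'.presheaf.map (homOfLE (X'.basicOpen_le s)).op ≫
        X'.presheaf.map (homOfLE hW).op).hom s = _
      rw [← Functor.map_comp]
      rfl
    rw [e] at h2
    exact h2
  have hu2 := hu.map (N.norm W)
  rw [← N.norm_res (homOfLE hWU) s] at hu2
  have h3 := X.basicOpen_of_isUnit hu2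
  rw [X.basicOpen_res] at h3
  have : x ∈ W ⊓ X.basicOpen (N.norm U s) := by rw [h3]; exact hxW
  exact this.2

/-- the restriction of a norm to an open of the base -/
noncomputable def PreNorm.restrict (W : X.Opens) : PreNorm (π ∣_ W) where
  norm T := (N.norm (W.ι ''ᵁ T)).comp
    (X'.presheaf.map (eqToHom (image_morphismRestrict_preimage π W T).symm).op).hom.toMonoidHom
  norm_res := by
    intro T₁ T₂ i s
    have h := N.norm_res (W.ι.opensFunctor.map i)
      (X'.presheaf.map (eqToHom (image_morphismRestrict_preimage π W T₁).symm).op s)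
    show X.presheaf.map (W.ι.opensFunctor.map i).op (N.norm (W.ι ''ᵁ T₁)
        (X'.presheaf.map (eqToHom (image_morphismRestrict_preimage π W T₁).symm).op s)) =
      N.norm (W.ι ''ᵁ T₂) (X'.presheaf.map
        (eqToHom (image_morphismRestrict_preimage π W T₂).symm).op
        (X'.presheaf.map ((π ⁻¹ᵁ W).ι.opensFunctor.map
          ((Opens.map (π ∣_ W).base).map i)).op s))
    rw [h]
    congr 1
    rw [← CommRingCat.comp_apply, ← CommRingCat.comp_apply, ← Functor.map_comp,
      ← Functor.map_comp]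
    rfl
  norm_basicOpen := by
    intro T s x' hx'
    obtain ⟨s', hs'⟩ : ∃ s' : Γ(X', π ⁻¹ᵁ (W.ι ''ᵁ T)), s' = X'.presheaf.map
      (eqToHom (image_morphismRestrict_preimage π W T).symm).op s := ⟨_, rfl⟩
    have h1 : (π ∣_ W) x' ∈ (W : Scheme.{u}).basicOpen
        (show Γ((W : Scheme.{u}), T) from N.norm (W.ι ''ᵁ T) s') := by
      rw [hs']; exact hx'
    have h2 : W.ι ((π ∣_ W) x') ∈ W.ι ''ᵁ ((W : Scheme.{u}).basicOpen
        (show Γ((W : Scheme.{u}), T) from N.norm (W.ι ''ᵁ T) s')) := ⟨_, h1, rfl⟩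
    rw [Scheme.image_basicOpen, Scheme.Opens.ι_appIso] at h2
    have h3 : W.ι ((π ∣_ W) x') = π ((π ⁻¹ᵁ W).ι x') := by
      rw [← Scheme.Hom.comp_apply, ← Scheme.Hom.comp_apply, morphismRestrict_ι]
    rw [h3] at h2
    have h4 : (π ⁻¹ᵁ W).ι x' ∈ X'.basicOpen s' := N.norm_basicOpen _ s' h2
    rw [hs', Scheme.basicOpen_res] at h4
    have h5 : (π ⁻¹ᵁ W).ι x' ∈ (π ⁻¹ᵁ W).ι ''ᵁ ((π ⁻¹ᵁ W : Scheme.{u}).basicOpen s) := by
      rw [Scheme.image_basicOpen, Scheme.Opens.ι_appIso]
      exact h4.2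
    obtain ⟨y, hy, hyx⟩ := h5
    have := (π ⁻¹ᵁ W).ι.isOpenEmbedding.injective hyx
    rw [← this]
    exact hy

theorem PreNorm.restrict_norm (W : X.Opens) (T : (W : Scheme.{u}).Opens)
    (c : Γ((π ⁻¹ᵁ W : Scheme.{u}), (π ∣_ W) ⁻¹ᵁ T)) :
    (N.restrict W).norm T c = N.norm (W.ι ''ᵁ T) (X'.presheaf.map
      (eqToHom (image_morphismRestrict_preimage π W T).symm).op c) := rfl

end Groth.Agent.Helper4.SN422
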