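import Mathlib
import Groth.Prelude.Def_Fitting
import Groth.Agent.Helper8.NormGlue
import Groth.Agent.Helper8.NormFreeAlg
import Groth.Agent.Helper8.NormFree
import Groth.Agent.Helper4.SN422

/-!
# The norm of a finite locally free morphism (of locally constant rank)

A variant of helper8's `NormGlue`/`NormFree` without a fixed degree.
-/

set_option autoImplicit false
set_option linter.unusedSectionVars false
set_option linter.style.haveILetI false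
universe u

open AlgebraicGeometry CategoryTheory Opposite TopologicalSpace Module

namespace Groth.Agent.Helper4.SN423

open Groth.Agent.Helper8.NormGlue Groth.Agent.Helper8.NormFree Groth.Agent.Helper4.SN422

variable {X Y : Scheme.{u}} (π : X ⟶ Y)

/-- norm data on a family `𝓑` of opens of `Y`, without a degree -/
structure BasisNorm' (𝓑 : Set Y.Opens) where
  n : ∀ V : 𝓑, Γ(X, π ⁻¹ᵁ V.1) →* Γ(Y, V.1)
  res : ∀ (V W : 𝓑) (h : W.1 ≤ V.1) (s : Γ(X, π ⁻¹ᵁ V.1)),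
    rY h (n V s) = n W (rX π h s)
  mem : ∀ (V : 𝓑) (s : Γ(X, π ⁻¹ᵁ V.1)), π ⁻¹ᵁ (Y.basicOpen (n V s)) ≤ X.basicOpen s

variable {π} {𝓑 : Set Y.Opens} (D : BasisNorm' π 𝓑)
  (h𝓑 : ∀ (U : Y.Opens) (y : Y), y ∈ U → ∃ V ∈ 𝓑, y ∈ V ∧ V ≤ U)

include h𝓑 in
lemma exists_glue (U : Y.Opens) (s : Γ(X, π ⁻¹ᵁ U)) :
    ∃ t : Γ(Y, U), ∀ V : Idx 𝓑 U, rY V.2 t = D.n V.1 (rX π V.2 s) := by
  have hcompat : TopCat.Presheaf.IsCompatible Y.sheaf.1 (fun V : Idx 𝓑 U => V.1.1)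
      (fun V => D.n V.1 (rX π V.2 s)) := by
    intro V V'
    refine ext_basis h𝓑 (V.1.1 ⊓ V'.1.1) _ _ (fun W => ?_)
    have hWV : W.1.1 ≤ V.1.1 := W.2.trans inf_le_left
    have hWV' : W.1.1 ≤ V'.1.1 := W.2.trans inf_le_right
    have e1 : rY W.2 (rY (inf_le_left : V.1.1 ⊓ V'.1.1 ≤ V.1.1) (D.n V.1 (rX π V.2 s))) =
        D.n W.1 (rX π (hWV.trans V.2) s) := by
      rw [rY_rY, D.res V.1 W.1 hWV, rX_rX]
    have e2 : rY W.2 (rY (inf_le_right : V.1.1 ⊓ V'.1.1 ≤ V'.1.1) (D.n V'.1 (rX π V'.2 s))) =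
        D.n W.1 (rX π (hWV'.trans V'.2) s) := by
      rw [rY_rY, D.res V'.1 W.1 hWV', rX_rX]
    exact e1.trans e2.symm
  obtain ⟨t, ht, -⟩ := Y.sheaf.existsUnique_gluing' (fun V : Idx 𝓑 U => V.1.1) U
    (fun V => homOfLE V.2) (cover h𝓑 U) _ hcompat
  exact ⟨t, ht⟩

/-- the glued norm -/
noncomputable def glue (U : Y.Opens) (s : Γ(X, π ⁻¹ᵁ U)) : Γ(Y, U) :=
  (exists_glue D h𝓑 U s).choose

lemma glue_spec (U : Y.Opens) (s : Γ(X, π ⁻¹ᵁ U)) (V : Idx 𝓑 U) :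
    rY V.2 (glue D h𝓑 U s) = D.n V.1 (rX π V.2 s) :=
  (exists_glue D h𝓑 U s).choose_spec V

lemma glue_unique (U : Y.Opens) (s : Γ(X, π ⁻¹ᵁ U)) (t : Γ(Y, U))
    (ht : ∀ V : Idx 𝓑 U, rY V.2 t = D.n V.1 (rX π V.2 s)) : t = glue D h𝓑 U s :=
  ext_basis h𝓑 U _ _ (fun V => (ht V).trans (glue_spec D h𝓑 U s V).symm)

/-- the norm glued from the basis data -/
noncomputable def preNorm : PreNorm π where
  norm U :=
    { toFun := glue D h𝓑 U
      map_one' := by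
        symm
        refine glue_unique D h𝓑 U 1 1 (fun V => ?_)
        rw [map_one, map_one, map_one]
      map_mul' := fun s s' => by
        symm
        refine glue_unique D h𝓑 U (s * s') _ (fun V => ?_)
        rw [map_mul, map_mul, map_mul, glue_spec, glue_spec] }
  norm_res := by
    intro U V i s
    have hVU : V ≤ U := i.le
    have hi : i = homOfLE hVU := Subsingleton.elim _ _
    subst hi
    show rY hVU (glue D h𝓑 U s) = glue D h𝓑 V (rX π hVU s)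
    refine glue_unique D h𝓑 V _ _ (fun W => ?_)
    rw [rY_rY, rX_rX]
    exact glue_spec D h𝓑 U s ⟨W.1, W.2.trans hVU⟩
  norm_basicOpen := by
    intro U s x hx
    have hxU : π x ∈ U := Y.basicOpen_le _ hx
    obtain ⟨V, hV, hxV, hVU⟩ := h𝓑 U (π x) hxU
    have e1 := glue_spec D h𝓑 U s ⟨⟨V, hV⟩, hVU⟩
    have h1 : π x ∈ Y.basicOpen (rY hVU (glue D h𝓑 U s)) := by
      show π x ∈ Y.basicOpen (Y.presheaf.map (homOfLE hVU).op (glue D h𝓑 U s))
      rw [Y.basicOpen_res]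
      exact ⟨hxV, hx⟩
    rw [e1] at h1
    have h2 : x ∈ X.basicOpen (rX π hVU s) := D.mem ⟨V, hV⟩ _ h1
    have h3 : x ∈ X.basicOpen (X.presheaf.map ((Opens.map π.base).map (homOfLE hVU)).op s) := h2
    rw [X.basicOpen_res] at h3
    exact h3.2

section free

variable (π)

/-- the affine opens over which `π_* O_X` is free (of any rank) -/
def freeOpensAll : Set Y.Opens := {V | ∃ d, V ∈ freeOpens π d}

/-- compatibility of the norms on free affine opens with restriction -/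
lemma res_free_all [IsAffineHom π] (V W : Y.Opens) (hV : V ∈ freeOpensAll π)
    (hW : W ∈ freeOpensAll π) (h : W ≤ V) (s : Γ(X, π ⁻¹ᵁ V)) :
    letI := secAlg π V;
    letI := secAlg π W;
    rY h (Algebra.norm Γ(Y, V) s) = Algebra.norm Γ(Y, W) (rX π h s) := by
  obtain ⟨d, hVa, ⟨bV⟩⟩ := hV
  obtain ⟨d', hWa, ⟨bW⟩⟩ := hW
  refine ext_cover W _ _ (fun y hy => ?_)
  obtain ⟨f, g, e, hyf⟩ := exists_basicOpen_le_affine_inter hVa hWa y ⟨h hy, hy⟩
  have hTW : Y.basicOpen f ≤ W := e ▸ Y.basicOpen_le g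
  have hTV : Y.basicOpen f ≤ V := Y.basicOpen_le f
  refine ⟨Y.basicOpen f, hTW, hyf, ?_⟩
  have e1 := res_basicOpen (π := π) hVa f rfl hTV d bV s
  have e2 := res_basicOpen (π := π) hWa g e hTW d' bW (rX π h s)
  rw [rY_rY, e1, e2, rX_rX]

/-- points have free affine neighbourhoods -/
lemma exists_freeOpen_all [IsFinite π] [Flat π] [LocallyOfFinitePresentation π]
    (U : Y.Opens) (y : Y) (hy : y ∈ U) :
    ∃ V ∈ freeOpensAll π, y ∈ V ∧ V ≤ U := by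
  obtain ⟨_, ⟨V₀, hV₀, rfl⟩, hyV₀, hV₀U⟩ :=
    Y.isBasis_affineOpens.exists_subset_of_mem_open hy U.2
  have hV₀' : IsAffineOpen (π ⁻¹ᵁ V₀) := hV₀.preimage π
  letI := secAlg π V₀
  have happ : π.app V₀ = π.appLE V₀ (π ⁻¹ᵁ V₀) le_rfl := π.app_eq_appLE
  have hf₁ : (π.app V₀).hom.Finite := π.finite_app V₀ hV₀
  have hf₂ : (π.app V₀).hom.Flat := happ ▸ π.flat_appLE hV₀ hV₀' le_rfl
  have hf₃ : (π.app V₀).hom.FinitePresentation := happ ▸ π.finitePresentation_appLE hV₀ hV₀' le_rfl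
  haveI : Module.Finite Γ(Y, V₀) Γ(X, π ⁻¹ᵁ V₀) := hf₁
  haveI : Module.Flat Γ(Y, V₀) Γ(X, π ⁻¹ᵁ V₀) := hf₂
  haveI : Algebra.FinitePresentation Γ(Y, V₀) Γ(X, π ⁻¹ᵁ V₀) := hf₃
  haveI : Module.FinitePresentation Γ(Y, V₀) Γ(X, π ⁻¹ᵁ V₀) :=
    Module.FinitePresentation.of_finite_of_finitePresentation _ _
  let p := hV₀.primeIdealOf ⟨y, hyV₀⟩
  have hp : hV₀.fromSpec p = y := hV₀.fromSpec_primeIdealOf ⟨y, hyV₀⟩
  obtain ⟨r, hr, ⟨b'⟩⟩ := Groth.Agent.Helper8.NormFreeAlg.exists_basis_away p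
    (Module.rankAtStalk (R := Γ(Y, V₀)) Γ(X, π ⁻¹ᵁ V₀) p) rfl
  have hTV : Y.basicOpen r ≤ V₀ := Y.basicOpen_le r
  refine ⟨Y.basicOpen r, ⟨Module.rankAtStalk (R := Γ(Y, V₀)) Γ(X, π ⁻¹ᵁ V₀) p,
    hV₀.basicOpen r, ?_⟩, ?_, hTV.trans hV₀U⟩
  · letI := secAlg π (Y.basicOpen r)
    exact Groth.Agent.Helper8.NormFreeAlg.basis_of_away (rY hTV) (rX π hTV) (comm_sq hTV) r
      (locY hV₀ r rfl hTV) (locX hV₀ r rfl hTV) b'
  · have : p ∈ hV₀.fromSpec ⁻¹ᵁ Y.basicOpen r := by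
      rw [hV₀.fromSpec_preimage_basicOpen]
      exact hr
    rw [← hp]
    exact this

/-- the norm data on the free affine opens -/
noncomputable def basisNorm' [IsAffineHom π] : BasisNorm' π (freeOpensAll π) where
  n V := letI := secAlg π V.1; Algebra.norm Γ(Y, V.1)
  res V W h s := res_free_all π V.1 W.1 V.2 W.2 h s
  mem V s := by
    letI := secAlg π V.1
    obtain ⟨d, -, ⟨b⟩⟩ := V.2
    haveI : Module.Free Γ(Y, V.1) Γ(X, π ⁻¹ᵁ V.1) := Module.Free.of_basis b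
    haveI : Module.Finite Γ(Y, V.1) Γ(X, π ⁻¹ᵁ V.1) := Module.Finite.of_basis b
    obtain ⟨c, hc⟩ := Groth.Agent.Helper8.NormFreeAlg.norm_dvd (A := Γ(Y, V.1)) s
    have e2 : (π.app V.1).hom (Algebra.norm Γ(Y, V.1) s) = s * c := hc
    rw [Scheme.preimage_basicOpen]
    show X.basicOpen ((π.app V.1).hom (Algebra.norm Γ(Y, V.1) s)) ≤ X.basicOpen s
    rw [e2, Scheme.basicOpen_mul]
    exact inf_le_left

/-- **the norm of a finite locally free morphism** -/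
noncomputable def preNormOfFlat [IsFinite π] [Flat π] [LocallyOfFinitePresentation π] :
    PreNorm π :=
  preNorm (basisNorm' π) (exists_freeOpen_all π)

end free

end Groth.Agent.Helper4.SN423
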