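import Mathlib
import Groth.Agent.Helper4.SN424
import Groth.Agent.S10963

/-!
# The norm of an invertible module trivialized over the preimages of an open cover (degree-free norms)
-/

set_option autoImplicit false
set_option linter.unusedSectionVars false
set_option linter.style.haveILetI false

namespace Groth.Agent.Helper4.SN425

open CategoryTheory CategoryTheory.Limits AlgebraicGeometry TopologicalSpace Opposite
open Groth.Agent.Helper4.GenLoc Groth.Agent.Helper4.TensorInv Groth.Agent.Helper4.TensorGen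
  Groth.Agent.Helper4.TwistLocal Groth.Agent.Helper4.TwistExt
  Groth.Agent.Helper4.SN200 Groth.Agent.Helper4.QAffSec Groth.Agent.Helper4.SN413
  Groth.Agent.Helper4.SN422 Groth.Agent.Helper4.SN417 Groth.Agent.Helper4.SN424
  Groth.Agent.Helper4.SN352

universe u

variable {X' X : Scheme.{u}} (π : X' ⟶ X) (N : PreNorm π)

/-- the coefficient of a frame in another frame is a unit -/
theorem isUnit_coeff' {Y : Scheme.{u}} {M : Y.Modules} {T : Y.Opens} {e e' : Γ(M, T)}
    (he : IsFrame M T e) (he' : IsFrame M T e') (c : Γ(Y, T)) (h : e' = c • e) : IsUnit c := by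
  obtain ⟨d, hd⟩ := (he' T le_rfl).1 e
  rw [res_self] at hd
  have h1 : (d * c - 1) • e = 0 := by
    rw [sub_smul, one_smul, mul_smul, ← h, ← hd, sub_self]
  have h2 : d * c - 1 = 0 := by
    refine (he T le_rfl).2 _ ?_
    rw [res_self]
    exact h1
  exact IsUnit.of_mul_eq_one d (by rw [mul_comm]; exact sub_eq_zero.mp h2)

/-- uniqueness of the coordinate in a frame -/
theorem coeff_unique {Y : Scheme.{u}} {M : Y.Modules} {T : Y.Opens} {e : Γ(M, T)}
    (he : IsFrame M T e) {V : Y.Opens} (hV : V ≤ T) (a b : Γ(Y, V))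
    (h : a • M.presheaf.map (homOfLE hV).op e = b • M.presheaf.map (homOfLE hV).op e) : a = b := by
  have : (a - b) • M.presheaf.map (homOfLE hV).op e = 0 := by
    rw [sub_smul, h, sub_self]
  exact sub_eq_zero.mp ((he V hV).2 _ this)

include N in
/-- **the norm of a framed module**: an invertible module on the base whose transition functions
are the norms of those of the given frames. -/
theorem exists_norm_module [IsFinite π] (M' : X'.Modules) {I : Type u} (U : I → X.Opens)
    (hU : ∀ x : X, ∃ i, x ∈ U i)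
    (e' : ∀ i, Γ(M', π ⁻¹ᵁ U i)) (he' : ∀ i, IsFrame M' (π ⁻¹ᵁ U i) (e' i)) :
    ∃ (L : X.Modules) (s : ∀ i, Γ(L, U i)), PicF.IsInvertible L ∧
      (∀ i, IsFrame L (U i) (s i)) ∧ NormCompat π N M' L U e' s := by
  classical
  have hcov : iSup U = ⊤ := by
    apply top_le_iff.mp
    intro y _
    obtain ⟨i, hi⟩ := hU y
    exact Opens.mem_iSup.mpr ⟨i, hi⟩
  -- transition functions
  have hg : ∀ i j : I, ∃ g : Γ(X', π ⁻¹ᵁ (U i ⊓ U j)),
      M'.presheaf.map (homOfLE (preimage_mono π (inf_le_left : U i ⊓ U j ≤ U i))).op (e' i) =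
        g • M'.presheaf.map (homOfLE (preimage_mono π (inf_le_right : U i ⊓ U j ≤ U j))).op (e' j) :=
    fun i j => (he' j _ (preimage_mono π inf_le_right)).1 _
  choose g hg using hg
  have hgu : ∀ i j, IsUnit (g i j) := fun i j =>
    isUnit_coeff' (IsFrame.res (he' j) (preimage_mono π inf_le_right))
      (IsFrame.res (he' i) (preimage_mono π inf_le_left)) _ (hg i j)
  -- the key uniqueness statement
  have hkey : ∀ (i j : I) (W : X.Opens) (hi : W ≤ U i) (hj : W ≤ U j) (c : Γ(X', π ⁻¹ᵁ W)),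
      M'.presheaf.map (homOfLE (preimage_mono π hi)).op (e' i) =
        c • M'.presheaf.map (homOfLE (preimage_mono π hj)).op (e' j) →
      c = X'.presheaf.map (homOfLE (preimage_mono π (le_inf hi hj))).op (g i j) := by
    intro i j W hi hj c hc
    apply coeff_unique (he' j) (preimage_mono π hj)
    rw [← hc]
    have h1 := congrArg (M'.presheaf.map (homOfLE (preimage_mono π (le_inf hi hj))).op) (hg i j)
    rw [Scheme.Modules.map_smul, res_res, res_res] at h1
    exact h1
  obtain ⟨η, hη⟩ : ∃ η : ∀ i j : I, (Γ(X, U i ⊓ U j))ˣ,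
      ∀ i j, (η i j : Γ(X, U i ⊓ U j)) = N.norm (U i ⊓ U j) (g i j) :=
    ⟨fun i j => Units.map (N.norm (U i ⊓ U j)) (hgu i j).unit, fun i j => rfl⟩
  have hηres : ∀ (i j : I) (W : X.Opens) (hW : W ≤ U i ⊓ U j),
      X.presheaf.map (homOfLE hW).op (η i j : Γ(X, U i ⊓ U j)) =
        N.norm W (X'.presheaf.map (homOfLE (preimage_mono π hW)).op (g i j)) := by
    intro i j W hW
    rw [hη]
    exact N.norm_res (homOfLE hW) (g i j)
  have hcocycle : ∀ i j k : I,
      X.presheaf.map (homOfLE (inf_le_inf_right (U k) inf_le_left :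
          U i ⊓ U j ⊓ U k ≤ U i ⊓ U k)).op (η i k : Γ(X, U i ⊓ U k)) =
        X.presheaf.map (homOfLE (inf_le_left : U i ⊓ U j ⊓ U k ≤ U i ⊓ U j)).op
            (η i j : Γ(X, U i ⊓ U j)) *
          X.presheaf.map (homOfLE (inf_le_inf_right (U k) inf_le_right :
            U i ⊓ U j ⊓ U k ≤ U j ⊓ U k)).op (η j k : Γ(X, U j ⊓ U k)) := by
    intro i j k
    rw [hηres, hηres, hηres, ← map_mul]
    congr 1
    -- the cocycle identity upstairs
    have hi : U i ⊓ U j ⊓ U k ≤ U i := inf_le_left.trans inf_le_left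
    have hj : U i ⊓ U j ⊓ U k ≤ U j := inf_le_left.trans inf_le_right
    have hk : U i ⊓ U j ⊓ U k ≤ U k := inf_le_right
    have h1 := hkey i k _ hi hk
      (X'.presheaf.map (homOfLE (preimage_mono π (inf_le_left :
          U i ⊓ U j ⊓ U k ≤ U i ⊓ U j))).op (g i j) *
        X'.presheaf.map (homOfLE (preimage_mono π (inf_le_inf_right (U k) inf_le_right :
          U i ⊓ U j ⊓ U k ≤ U j ⊓ U k))).op (g j k)) ?_
    · exact h1.symm
    · have e1 := congrArg (M'.presheaf.map (homOfLE (preimage_mono π (inf_le_left :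
        U i ⊓ U j ⊓ U k ≤ U i ⊓ U j))).op) (hg i j)
      rw [Scheme.Modules.map_smul, res_res, res_res] at e1
      have e2 := congrArg (M'.presheaf.map (homOfLE (preimage_mono π
        (inf_le_inf_right (U k) inf_le_right : U i ⊓ U j ⊓ U k ≤ U j ⊓ U k))).op) (hg j k)
      rw [Scheme.Modules.map_smul, res_res, res_res] at e2
      rw [mul_smul, ← e2, ← e1]
  obtain ⟨L, s, hinv, hbij, hrel⟩ := Groth.Agent.S10963.result X U hcov η hcocycle
  refine ⟨L, s, hinv, fun i => isFrame_of_bijective L (U i) (s i) (hbij i), ?_⟩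
  intro i j W hi hj c hc
  have hW : W ≤ U i ⊓ U j := le_inf hi hj
  have h1 := hkey i j W hi hj c hc
  have h2 := congrArg (L.presheaf.map (homOfLE hW).op) (hrel i j)
  rw [Scheme.Modules.map_smul, res_res, res_res, hηres i j W hW, ← h1] at h2
  exact h2

open Groth.Agent.Helper4.SN346 in
/-- compatibility with the norm passes to tensor powers -/
theorem NormCompat.pow {M' : X'.Modules} {L : X.Modules} {I : Type u} {U : I → X.Opens}
    {e' : ∀ i, Γ(M', π ⁻¹ᵁ U i)} (he' : ∀ i, IsFrame M' (π ⁻¹ᵁ U i) (e' i))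
    {s : ∀ i, Γ(L, U i)} (hc : NormCompat π N M' L U e' s) (n : ℕ) :
    NormCompat π N (CohB1.tensorPow M' n) (CohB1.tensorPow L n) U
      (fun i => ePow M' (π ⁻¹ᵁ U i) (e' i) n) (fun i => ePow L (U i) (s i) n) := by
  intro i j W hi hj c hcW
  have hi' := preimage_mono π hi
  have hj' := preimage_mono π hj
  obtain ⟨g, hg⟩ := (he' j (π ⁻¹ᵁ W) hj').1 (M'.presheaf.map (homOfLE hi').op (e' i))
  have hfj := isFrame_ePow_of_isFrame (he' j) n
  have hcg : c = g ^ n := by
    apply coeff_unique hfj hj'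
    change (CohB1.tensorPow M' n).presheaf.map (homOfLE hi').op (ePow M' _ (e' i) n) =
      c • (CohB1.tensorPow M' n).presheaf.map (homOfLE hj').op (ePow M' _ (e' j) n) at hcW
    rw [← hcW, ePow_map, ePow_map, hg, ePow_smul]
  have h1 := hc i j W hi hj g hg
  change (CohB1.tensorPow L n).presheaf.map (homOfLE hi).op (ePow L (U i) (s i) n) =
    N.norm W c • (CohB1.tensorPow L n).presheaf.map (homOfLE hj).op (ePow L (U j) (s j) n)
  rw [ePow_map, ePow_map, h1, ePow_smul, hcg, map_pow]

end Groth.Agent.Helper4.SN425
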