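import Mathlib
import Groth.Agent.Helper4.SN425
import Groth.Agent.Helper4.SN415
import Groth.Agent.Helper4.AmplePoints

/-!
# The norm of an ample invertible module is ample
-/

set_option autoImplicit false
set_option linter.unusedSectionVars false
set_option linter.style.haveILetI false

namespace Groth.Agent.Helper4.SN426

open CategoryTheory CategoryTheory.Limits AlgebraicGeometry TopologicalSpace Opposite
open Groth.Agent.Helper4.GenLoc Groth.Agent.Helper4.TensorInv Groth.Agent.Helper4.TensorGen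
  Groth.Agent.Helper4.TwistLocal Groth.Agent.Helper4.TwistExt
  Groth.Agent.Helper4.SN200 Groth.Agent.Helper4.QAffSec Groth.Agent.Helper4.SN413
  Groth.Agent.Helper4.SN422 Groth.Agent.Helper4.SN417 Groth.Agent.Helper4.SN424
  Groth.Agent.Helper4.SN425 Groth.Agent.Helper4.SN352 Groth.Agent.Helper4.PullSec
  Groth.Agent.Helper4.AmpleFinite Groth.Agent.Helper4.AmpleIso
  Groth.Agent.Helper4.AmpleBasis Groth.Agent.Helper4.TensorAssoc Groth.Agent.Helper4.AmplePoints

universe u

variable {X' X : Scheme.{u}} (π : X' ⟶ X) (N : PreNorm π)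

/-- a module with frames over an open cover is invertible -/
theorem isInvertible_of_frames (L : X.Modules) {I : Type u} (U : I → X.Opens)
    (hU : ∀ x : X, ∃ i, x ∈ U i) (s : ∀ i, Γ(L, U i)) (hs : ∀ i, IsFrame L (U i) (s i)) :
    PicF.IsInvertible L := by
  intro x
  obtain ⟨i, hi⟩ := hU x
  obtain ⟨ε, -⟩ := exists_triv_of_isFrame (hs i)
  exact ⟨U i, hi, ⟨ε⟩⟩

include N in
/-- **the norm of an ample module is ample** -/
theorem isAmple_of_normCompat [IsFinite π] [Surjective π] (M' : X'.Modules) (L : X.Modules)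
    {I : Type u} (U : I → X.Opens) (hU : ∀ x : X, ∃ i, x ∈ U i)
    (e' : ∀ i, Γ(M', π ⁻¹ᵁ U i)) (he' : ∀ i, IsFrame M' (π ⁻¹ᵁ U i) (e' i))
    (s : ∀ i, Γ(L, U i)) (hs : ∀ i, IsFrame L (U i) (s i)) (hcomp : NormCompat π N M' L U e' s)
    (hA : CohB1.IsAmple M') : CohB1.IsAmple L := by
  classical
  have hsurj : Function.Surjective π := ‹Surjective π›.surj
  obtain ⟨hL', hc', -⟩ := id hA
  haveI := hc'
  haveI : CompactSpace X := by
    rw [← isCompact_univ_iff, ← Set.range_eq_univ.2 hsurj, ← Set.image_univ]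
    exact isCompact_univ.image π.continuous
  have hinv : PicF.IsInvertible L := isInvertible_of_frames L U hU s hs
  refine ⟨hinv, inferInstance, fun x => ?_⟩
  obtain ⟨k, σ', hFs, -, haff⟩ := exists_affine_genLocus_of_finite hA (π ⁻¹' {x})
    (π.finite_preimage_singleton x) ⊤ (fun _ _ => trivial)
  obtain ⟨τ, hτ⟩ := exists_norm_section_of_compat π N (CohB1.tensorPow M' (k + 1))
    (CohB1.tensorPow L (k + 1)) U hU _ (fun i => isFrame_ePow_of_isFrame (he' i) (k + 1)) _
    (fun i => isFrame_ePow_of_isFrame (hs i) (k + 1)) (NormCompat.pow π N he' hcomp (k + 1)) σ'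
  refine ⟨k, τ, ?_, ?_⟩
  · rw [hτ]
    intro x' hx'
    exact hFs hx'
  · obtain ⟨G, hG⟩ : ∃ G : X.Opens, G = CohB1.genLocus _ τ := ⟨_, rfl⟩
    rw [← hG]
    have hle : π ⁻¹ᵁ G ≤ CohB1.genLocus _ σ' := by
      intro x' hx'
      have hx'' : π x' ∈ CohB1.genLocus _ τ := hG ▸ hx'
      exact (hτ (π x')).mp hx'' x' rfl
    have hinvk : PicF.IsInvertible (CohB1.tensorPow L (k + 1)) := isInvertible_tensorPow hinv _
    have hpre : CohB1.genLocus _ (pullSec π τ) = π ⁻¹ᵁ G := by
      rw [hG]; exact genLocus_pullSec π hinvk τ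
    have haff' : IsAffineOpen (π ⁻¹ᵁ G) := by
      have := isAffineOpen_genLocus_inf_affine _ (isInvertible_pullback π hinvk) (pullSec π τ) haff
      rwa [hpre, inf_eq_left.mpr hle] at this
    haveI : IsAffine ((π ⁻¹ᵁ G : X'.Opens) : Scheme.{u}) := haff'
    haveI : Surjective (π ∣_ G) := IsZariskiLocalAtTarget.restrict ‹Surjective π› G
    exact Groth.Agent.S0593.result _ _ (π ∣_ G)

end Groth.Agent.Helper4.SN426
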