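import Mathlib
import Groth.Agent.Helper4.SN417
import Groth.Agent.Helper4.SN257
import Groth.Agent.Helper4.QAffSec

/-!
# Invertible modules are trivial over the preimage of a neighbourhood, for a finite morphism
-/

set_option autoImplicit false
set_option linter.unusedSectionVars false
set_option linter.style.haveILetI false

namespace Groth.Agent.Helper4.SN427

open CategoryTheory CategoryTheory.Limits AlgebraicGeometry TopologicalSpace Opposite
open Groth.Agent.Helper4.GenLoc Groth.Agent.Helper4.TensorInv Groth.Agent.Helper4.TensorGen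
  Groth.Agent.Helper4.TwistLocal Groth.Agent.Helper4.TwistExt
  Groth.Agent.Helper4.SN200 Groth.Agent.Helper4.QAffSec Groth.Agent.Helper4.SN413
  Groth.Agent.Helper4.SN417 Groth.Agent.Helper4.SN352

universe u

section restrict

variable {X Y : Scheme.{u}} (j : Y ⟶ X) [IsOpenImmersion j]

/-- a frame of the restriction of `L` on `T` is a frame of `L` on `j(T)` -/
theorem isFrame_of_restrict (L : X.Modules) (T : Y.Opens) (e : Γ(L, j ''ᵁ T))
    (h : IsFrame (L.restrict j) T (show Γ(L.restrict j, T) from e)) :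
    IsFrame L (j ''ᵁ T) e := by
  apply isFrame_of_bijective
  intro V hV
  obtain ⟨V', rfl⟩ : ∃ V' : Y.Opens, V = j ''ᵁ V' := by
    refine ⟨j ⁻¹ᵁ V, ?_⟩
    rw [j.image_preimage_eq_opensRange_inf]
    exact (inf_eq_right.mpr (hV.trans (j.image_le_opensRange T))).symm
  have hV' : V' ≤ T := by
    intro y hy
    obtain ⟨y', hy', hyy⟩ := hV ⟨y, hy, rfl⟩
    rwa [← j.isOpenEmbedding.injective hyy]
  have h1 := bijective_of_isFrame (L.restrict j) T _ h V' hV'
  have h2 : Function.Bijective (fun r : Γ(X, j ''ᵁ V') => (j.appIso V').hom r) :=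
    (ConcreteCategory.isIso_iff_bijective (j.appIso V').hom).mp inferInstance
  have h3 := h1.comp h2
  have hfun : ((fun r' : Γ(Y, V') => r' • (L.restrict j).presheaf.map (homOfLE hV').op
        (show Γ(L.restrict j, T) from e)) ∘ fun r : Γ(X, j ''ᵁ V') => (j.appIso V').hom r) =
      fun r : Γ(X, j ''ᵁ V') =>
        (show Γ(L.restrict j, V') from r • L.presheaf.map (homOfLE hV).op e) := by
    funext r
    have : (j.appIso V').inv ((j.appIso V').hom r) = r := by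
      rw [← CommRingCat.comp_apply, Iso.hom_inv_id]; rfl
    show (j.appIso V').inv ((j.appIso V').hom r) • _ = r • L.presheaf.map (homOfLE hV).op e
    rw [this]
    rfl
  rw [hfun] at h3
  exact h3

end restrict

variable {X' X : Scheme.{u}} (π : X' ⟶ X)

/-- **trivialization over the preimage of a neighbourhood** -/
theorem exists_frame_preimage [IsFinite π] (L' : X'.Modules) (hL' : PicF.IsInvertible L') (x : X) :
    ∃ (U : X.Opens) (e' : Γ(L', π ⁻¹ᵁ U)), x ∈ U ∧ IsFrame L' (π ⁻¹ᵁ U) e' := by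
  obtain ⟨V, hV, hxV, -⟩ := exists_isAffineOpen_mem_and_subset (X := X) (x := x) (U := ⊤) trivial
  have hV' : IsAffineOpen (π ⁻¹ᵁ V) := hV.preimage π
  haveI : IsAffine ((π ⁻¹ᵁ V : X'.Opens) : Scheme.{u}) := hV'
  let Z : Set ((π ⁻¹ᵁ V : X'.Opens) : Scheme.{u}) := (π ⁻¹ᵁ V).ι ⁻¹' (π ⁻¹' {x})
  have hZ : Z.Finite := (π.finite_preimage_singleton x).preimage
    (Set.injOn_of_injective (π ⁻¹ᵁ V).ι.isOpenEmbedding.injective)
  obtain ⟨s, -, hZs, -⟩ := exists_affine_genLocus (L'.restrict (π ⁻¹ᵁ V).ι)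
    (isInvertible_restrict _ hL') ⊤ Z hZ (fun _ _ => trivial)
  obtain ⟨G, hG⟩ : ∃ G, G = CohB1.genLocus _ s := ⟨_, rfl⟩
  have hfr : IsFrame (L'.restrict (π ⁻¹ᵁ V).ι) G (SecTwist.val s G) :=
    isFrame_of_le_genLocus s G hG.le
  have hfr' : IsFrame L' ((π ⁻¹ᵁ V).ι ''ᵁ G) (show Γ(L', (π ⁻¹ᵁ V).ι ''ᵁ G) from SecTwist.val s G) :=
    isFrame_of_restrict (π ⁻¹ᵁ V).ι L' G _ hfr
  have hC : IsClosed (π '' (((π ⁻¹ᵁ V).ι ''ᵁ G : X'.Opens) : Set X')ᶜ) :=
    π.isClosedMap _ ((π ⁻¹ᵁ V).ι ''ᵁ G).isOpen.isClosed_compl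
  let U : X.Opens := ⟨(π '' (((π ⁻¹ᵁ V).ι ''ᵁ G : X'.Opens) : Set X')ᶜ)ᶜ, hC.isOpen_compl⟩
  have hxU : x ∈ U := by
    rintro ⟨x', hx', hxx⟩
    apply hx'
    have hx'V : x' ∈ π ⁻¹ᵁ V := by
      show π x' ∈ V
      rw [hxx]; exact hxV
    refine ⟨⟨x', hx'V⟩, ?_, rfl⟩
    rw [hG]
    exact hZs hxx
  have hle : π ⁻¹ᵁ U ≤ (π ⁻¹ᵁ V).ι ''ᵁ G := by
    intro x' hx'
    by_contra hcon
    exact hx' ⟨x', hcon, rfl⟩
  exact ⟨U, _, hxU, Groth.Agent.Helper4.SN352.IsFrame.res hfr' hle⟩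

end Groth.Agent.Helper4.SN427
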