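import Mathlib
import Groth.Agent.Helper4.SN426
import Groth.Agent.Helper4.SN427

/-!
# Restricting compatibly framed modules to an open of the base
-/

set_option autoImplicit false
set_option linter.unusedSectionVars false
set_option linter.style.haveILetI false

namespace Groth.Agent.Helper4.SN428

open CategoryTheory CategoryTheory.Limits AlgebraicGeometry TopologicalSpace Opposite
open Groth.Agent.Helper4.GenLoc Groth.Agent.Helper4.TensorInv Groth.Agent.Helper4.TensorGen
  Groth.Agent.Helper4.TwistLocal Groth.Agent.Helper4.TwistExt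
  Groth.Agent.Helper4.SN200 Groth.Agent.Helper4.QAffSec Groth.Agent.Helper4.SN413
  Groth.Agent.Helper4.SN422 Groth.Agent.Helper4.SN417 Groth.Agent.Helper4.SN424
  Groth.Agent.Helper4.SN425 Groth.Agent.Helper4.SN352

universe u

variable {X' X : Scheme.{u}} (π : X' ⟶ X) (N : PreNorm π) (W : X.Opens)

/-- the trace on `W` of an open of `X` -/
abbrev tr (U : X.Opens) : (W : Scheme.{u}).Opens := W.ι ⁻¹ᵁ U

theorem image_tr_le (U : X.Opens) : W.ι ''ᵁ (tr W U) ≤ U := by
  rintro _ ⟨z, hz, rfl⟩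
  exact hz

theorem image_preimage_tr_le (U : X.Opens) :
    (π ⁻¹ᵁ W).ι ''ᵁ ((π ∣_ W) ⁻¹ᵁ (tr W U)) ≤ π ⁻¹ᵁ U := by
  rw [image_morphismRestrict_preimage]
  exact fun x' hx' => image_tr_le W U hx'

/-- the restriction of a section over `π⁻¹U` to the restricted scheme -/
noncomputable def secUp (M' : X'.Modules) (U : X.Opens) (e : Γ(M', π ⁻¹ᵁ U)) :
    Γ(M'.restrict (π ⁻¹ᵁ W).ι, (π ∣_ W) ⁻¹ᵁ (tr W U)) :=
  M'.presheaf.map (homOfLE (image_preimage_tr_le π W U)).op e

/-- the restriction of a section over `U` to the restricted scheme -/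
noncomputable def secDown (L : X.Modules) (U : X.Opens) (s : Γ(L, U)) :
    Γ(L.restrict W.ι, tr W U) :=
  L.presheaf.map (homOfLE (image_tr_le W U)).op s

theorem isFrame_secUp (M' : X'.Modules) (U : X.Opens) (e : Γ(M', π ⁻¹ᵁ U))
    (he : IsFrame M' (π ⁻¹ᵁ U) e) :
    IsFrame (M'.restrict (π ⁻¹ᵁ W).ι) ((π ∣_ W) ⁻¹ᵁ (tr W U)) (secUp π W M' U e) :=
  Groth.Agent.Helper4.SN257.isFrame_restrict (π ⁻¹ᵁ W).ι M' _ _
    (Groth.Agent.Helper4.SN352.IsFrame.res he (image_preimage_tr_le π W U))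

theorem isFrame_secDown (L : X.Modules) (U : X.Opens) (s : Γ(L, U)) (hs : IsFrame L U s) :
    IsFrame (L.restrict W.ι) (tr W U) (secDown W L U s) :=
  Groth.Agent.Helper4.SN257.isFrame_restrict W.ι L _ _
    (Groth.Agent.Helper4.SN352.IsFrame.res hs (image_tr_le W U))

/-- **restriction of compatibly framed modules** -/
theorem normCompat_restrict (M' : X'.Modules) (L : X.Modules) {I : Type u} (U : I → X.Opens)
    (e' : ∀ i, Γ(M', π ⁻¹ᵁ U i)) (s : ∀ i, Γ(L, U i)) (hc : NormCompat π N M' L U e' s) :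
    NormCompat (π ∣_ W) (N.restrict W) (M'.restrict (π ⁻¹ᵁ W).ι) (L.restrict W.ι)
      (fun i => tr W (U i)) (fun i => secUp π W M' (U i) (e' i))
      (fun i => secDown W L (U i) (s i)) := by
  intro i j T hi hj c hcT
  have hiX : W.ι ''ᵁ T ≤ U i := (W.ι.image_mono hi).trans (image_tr_le W (U i))
  have hjX : W.ι ''ᵁ T ≤ U j := (W.ι.image_mono hj).trans (image_tr_le W (U j))
  have hle : π ⁻¹ᵁ (W.ι ''ᵁ T) ≤ (π ⁻¹ᵁ W).ι ''ᵁ ((π ∣_ W) ⁻¹ᵁ T) :=
    (image_morphismRestrict_preimage π W T).ge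
  obtain ⟨c', hc'⟩ : ∃ c' : Γ(X', π ⁻¹ᵁ (W.ι ''ᵁ T)),
      c' = X'.presheaf.map (homOfLE hle).op c := ⟨_, rfl⟩
  have hnorm : (N.restrict W).norm T c = N.norm (W.ι ''ᵁ T) c' := by
    rw [hc']; rfl
  -- the hypothesis, downstairs on `X'`
  have hyp : M'.presheaf.map (homOfLE (preimage_mono π hiX)).op (e' i) =
      c' • M'.presheaf.map (homOfLE (preimage_mono π hjX)).op (e' j) := by
    have h1 := congrArg (M'.presheaf.map (homOfLE hle).op) hcT
    have e1 : M'.presheaf.map (homOfLE hle).op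
        ((M'.restrict (π ⁻¹ᵁ W).ι).presheaf.map (homOfLE (preimage_mono (π ∣_ W) hi)).op
          (secUp π W M' (U i) (e' i))) =
        M'.presheaf.map (homOfLE (preimage_mono π hiX)).op (e' i) := by
      show M'.presheaf.map (homOfLE hle).op (M'.presheaf.map
        (homOfLE ((π ⁻¹ᵁ W).ι.image_mono (preimage_mono (π ∣_ W) hi))).op
        (M'.presheaf.map (homOfLE (image_preimage_tr_le π W (U i))).op (e' i))) = _
      rw [res_res, res_res]
    have e2 : M'.presheaf.map (homOfLE hle).op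
        (c • (M'.restrict (π ⁻¹ᵁ W).ι).presheaf.map (homOfLE (preimage_mono (π ∣_ W) hj)).op
          (secUp π W M' (U j) (e' j))) =
        c' • M'.presheaf.map (homOfLE (preimage_mono π hjX)).op (e' j) := by
      show M'.presheaf.map (homOfLE hle).op
        (((π ⁻¹ᵁ W).ι.appIso ((π ∣_ W) ⁻¹ᵁ T)).inv c • (M'.presheaf.map
        (homOfLE ((π ⁻¹ᵁ W).ι.image_mono (preimage_mono (π ∣_ W) hj))).op
        (M'.presheaf.map (homOfLE (image_preimage_tr_le π W (U j))).op (e' j)))) = _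
      rw [Scheme.Modules.map_smul, res_res, res_res, hc', Scheme.Opens.ι_appIso]
      rfl
    rw [e1, e2] at h1
    exact h1
  have key := hc i j (W.ι ''ᵁ T) hiX hjX c' hyp
  show L.presheaf.map (homOfLE (W.ι.image_mono hi)).op
      (L.presheaf.map (homOfLE (image_tr_le W (U i))).op (s i)) =
    (W.ι.appIso T).inv ((N.restrict W).norm T c) • L.presheaf.map (homOfLE (W.ι.image_mono hj)).op
      (L.presheaf.map (homOfLE (image_tr_le W (U j))).op (s j))
  rw [res_res, res_res, hnorm, Scheme.Opens.ι_appIso]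
  exact key

end Groth.Agent.Helper4.SN428
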