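import Mathlib
import Groth.Agent.Helper4.SN428
import Groth.Agent.Helper4.SN423
import Groth.Agent.Helper4.SN416

/-!
# Existence of relatively ample modules descends along finite locally free surjective morphisms
-/

set_option autoImplicit false
set_option linter.unusedSectionVars false
set_option linter.style.haveILetI false

namespace Groth.Agent.Helper4.SN429

open CategoryTheory CategoryTheory.Limits AlgebraicGeometry TopologicalSpace Opposite
open Groth.Agent.Helper4.TwistExt Groth.Agent.Helper4.SN422 Groth.Agent.Helper4.SN423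
  Groth.Agent.Helper4.SN424 Groth.Agent.Helper4.SN425 Groth.Agent.Helper4.SN426
  Groth.Agent.Helper4.SN427 Groth.Agent.Helper4.SN428 Groth.Agent.Helper4.PullSec

universe u

/-- **EGA II 6.6.2**, the descent direction -/
theorem exists_isRelAmple_of_flat_finite {X' X Y : Scheme.{u}} (f : X ⟶ Y) [QuasiCompact f]
    (g : X' ⟶ X) [IsFinite g] [Surjective g] [Flat g] [LocallyOfFinitePresentation g]
    (L' : X'.Modules) (hL' : PicF.IsInvertible L') (h : RelAmple.IsRelAmple (g ≫ f) L') :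
    ∃ L : X.Modules, PicF.IsInvertible L ∧ RelAmple.IsRelAmple f L := by
  classical
  let N : PreNorm g := preNormOfFlat g
  have hfr : ∀ x : X, ∃ (U : X.Opens) (e' : Γ(L', g ⁻¹ᵁ U)), x ∈ U ∧ IsFrame L' (g ⁻¹ᵁ U) e' :=
    exists_frame_preimage g L' hL'
  choose U e' hxU he' using hfr
  have hU : ∀ x : X, ∃ i, x ∈ U i := fun x => ⟨x, hxU x⟩
  obtain ⟨L, s, hinv, hs, hcomp⟩ := exists_norm_module g N L' U hU e' he'
  refine ⟨L, hinv, inferInstance, fun V => ?_⟩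
  have h1 : CohB1.IsAmple (L'.restrict (g ⁻¹ᵁ (f ⁻¹ᵁ V.1)).ι) := h.2 V
  haveI : Surjective (g ∣_ (f ⁻¹ᵁ V.1)) :=
    IsZariskiLocalAtTarget.restrict ‹Surjective g› (f ⁻¹ᵁ V.1)
  haveI : IsFinite (g ∣_ (f ⁻¹ᵁ V.1)) :=
    IsZariskiLocalAtTarget.restrict ‹IsFinite g› (f ⁻¹ᵁ V.1)
  refine isAmple_of_normCompat (g ∣_ (f ⁻¹ᵁ V.1)) (N.restrict (f ⁻¹ᵁ V.1))
    (L'.restrict (g ⁻¹ᵁ (f ⁻¹ᵁ V.1)).ι) (L.restrict (f ⁻¹ᵁ V.1).ι)
    (fun i => tr (f ⁻¹ᵁ V.1) (U i)) (fun z => ⟨z.1, hxU z.1⟩)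
    (fun i => secUp g (f ⁻¹ᵁ V.1) L' (U i) (e' i))
    (fun i => isFrame_secUp g (f ⁻¹ᵁ V.1) L' (U i) (e' i) (he' i))
    (fun i => secDown (f ⁻¹ᵁ V.1) L (U i) (s i))
    (fun i => isFrame_secDown (f ⁻¹ᵁ V.1) L (U i) (s i) (hs i))
    (normCompat_restrict g N (f ⁻¹ᵁ V.1) L' L U e' s hcomp) h1

/-- **S4438** -/
theorem exists_isRelAmple_iff {X X' Y : Scheme.{u}} (f : X ⟶ Y) [QuasiCompact f]
    (g : X' ⟶ X) [IsFinite g] [Surjective g]
    (hfree : FlatMod.IsFinLocFree ((Coh.push g).obj (Coh.structureModule X'))) :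
    (∃ L : X.Modules, PicF.IsInvertible L ∧ RelAmple.IsRelAmple f L) ↔
      ∃ L' : X'.Modules, PicF.IsInvertible L' ∧ RelAmple.IsRelAmple (g ≫ f) L' := by
  obtain ⟨-, hflat, hlfp⟩ :=
    Groth.Agent.Helper4.FinLocFree6.finite_flat_lfp_of_isFinLocFree_push g hfree
  haveI := hflat
  haveI := hlfp
  constructor
  · rintro ⟨L, hL, hA⟩
    exact ⟨(Scheme.Modules.pullback g).obj L, isInvertible_pullback g hL,
      (Groth.Agent.Helper4.SN416.isRelAmple_iff_pullback_finLocFree f g hfree L hL).mp hA⟩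
  · rintro ⟨L', hL', hA⟩
    exact exists_isRelAmple_of_flat_finite f g L' hL' hA

end Groth.Agent.Helper4.SN429
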