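import Mathlib

/-!
# Algebra: characteristic polynomials of integral elements over integrally closed local rings
-/

set_option autoImplicit false
set_option linter.unusedSectionVars false
set_option linter.style.haveILetI false

namespace Groth.Agent.Helper4.SN430

open Polynomial Matrix

/-- if `P(M) = 0` then the characteristic polynomial of `M` divides `P ^ n` -/
theorem charpoly_dvd_pow {K : Type*} [CommRing K] {n : Type*} [Fintype n] [DecidableEq n]
    (M : Matrix n n K) (P : K[X]) (hP : aeval M P = 0) : M.charpoly ∣ P ^ Fintype.card n := by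
  set N : Matrix n n K[X] := (C : K →+* K[X]).mapMatrix M with hN
  set P' : K[X][X] := P.map (C : K →+* K[X]) with hP'
  have h1 : P'.eval (X : K[X]) = P := by
    rw [hP', eval_map, eval₂_C_X]
  obtain ⟨Q, hQ⟩ : (X : K[X][X]) - C (X : K[X]) ∣ P' - C (P'.eval (X : K[X])) :=
    X_sub_C_dvd_sub_C_eval
  rw [h1] at hQ
  have h2 : aeval N P' = 0 := by
    have hcomp : (algebraMap K[X] (Matrix n n K[X])).comp (C : K →+* K[X]) =
        ((C : K →+* K[X]).mapMatrix).comp (algebraMap K (Matrix n n K)) := by
      ext k i j
      simp [Matrix.algebraMap_matrix_apply]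
      split_ifs <;> simp
    have := map_aeval_eq_aeval_map hcomp P M
    rw [hP] at this
    rw [hN, hP', ← this, map_zero]
  have h3 := congrArg (aeval N) hQ
  rw [map_sub, h2, aeval_C, map_mul, map_sub, aeval_X, aeval_C] at h3
  have h4 : charmatrix M * aeval N Q = algebraMap K[X] (Matrix n n K[X]) P := by
    have : charmatrix M = algebraMap K[X] (Matrix n n K[X]) X - N := by
      rw [charmatrix, hN]
      rfl
    rw [this]
    have h5 : (algebraMap K[X] (Matrix n n K[X]) X - N) * aeval N Q =
        -((N - algebraMap K[X] (Matrix n n K[X]) X) * aeval N Q) := by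
      rw [← neg_mul, neg_sub]
    rw [h5, ← h3, zero_sub, neg_neg]
  have h6 := congrArg Matrix.det h4
  rw [Matrix.det_mul] at h6
  refine ⟨(aeval N Q).det, ?_⟩
  rw [Matrix.charpoly, h6, Matrix.algebraMap_eq_diagonal, Matrix.det_diagonal]
  simp

/-- linear map version -/
theorem charpoly_dvd_pow_end {K V : Type*} [CommRing K] [AddCommGroup V] [Module K V]
    [Module.Finite K V] [Module.Free K V] (f : V →ₗ[K] V) (P : K[X]) (hP : aeval f P = 0) :
    f.charpoly ∣ P ^ Module.finrank K V := by
  nontriviality K
  classical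
  let b := Module.Free.chooseBasis K V
  have h1 : aeval (LinearMap.toMatrixAlgEquiv b f) P = 0 := by
    rw [aeval_algHom_apply, hP, map_zero]
  have h2 := charpoly_dvd_pow (LinearMap.toMatrixAlgEquiv b f) P h1
  rw [← Module.finrank_eq_card_chooseBasisIndex] at h2
  have h3 : (LinearMap.toMatrixAlgEquiv b f).charpoly = f.charpoly := by
    exact LinearMap.charpoly_toMatrix f b
  rw [← h3]
  exact h2


/-- the characteristic polynomial of an integral element acting on a finite algebra over the
fraction field has coefficients in any integrally closed localization -/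
theorem exists_charpoly_eq_map {Ap K R : Type*} [CommRing Ap] [IsDomain Ap] [IsIntegrallyClosed Ap]
    [Field K] [Algebra Ap K] [IsFractionRing Ap K] [CommRing R] [Algebra K R] [Module.Finite K R]
    (β : R) (P : Ap[X]) (hP : P.Monic) (hβ : aeval β (P.map (algebraMap Ap K)) = 0) :
    ∃ χ' : Ap[X], χ'.map (algebraMap Ap K) = (Algebra.lmul K R β).charpoly := by
  have h1 : aeval (Algebra.lmul K R β) (P.map (algebraMap Ap K)) = 0 := by
    rw [aeval_algHom_apply, hβ, map_zero]
  have h2 := charpoly_dvd_pow_end (Algebra.lmul K R β) _ h1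
  rw [← Polynomial.map_pow] at h2
  obtain ⟨g', hg'⟩ := IsIntegrallyClosed.eq_map_mul_C_of_dvd K (hP.pow (Module.finrank K R)) h2
  refine ⟨g', ?_⟩
  rw [← hg', (LinearMap.charpoly_monic _).leadingCoeff, C_1, mul_one]

/-- **Algebraic core.** `A` a domain with fraction field `K`, `Ap` its localization at a prime `p`,
assumed integrally closed; `B` an `A`-algebra and `R` a finite `K`-algebra receiving `B`.  For an
integral `b : B` the norm of its image in `R`, multiplied by some `s ∉ p`, lies in `A`, and `b`
divides it up to an element dying in `R`. -/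
theorem alg_core {A B K R Ap : Type*} [CommRing A] [IsDomain A] [CommRing B] [Algebra A B]
    [Field K] [Algebra A K] [IsFractionRing A K]
    [CommRing R] [Algebra K R] [Algebra A R] [IsScalarTower A K R] [Algebra B R]
    [IsScalarTower A B R] [Module.Finite K R]
    (p : Ideal A) [p.IsPrime] [CommRing Ap] [Algebra A Ap] [IsLocalization.AtPrime Ap p]
    [IsDomain Ap] [IsIntegrallyClosed Ap]
    (b : B) (hb : IsIntegral A b) :
    ∃ s : A, s ∉ p ∧ ∃ (a₀ : A) (c : B),
      algebraMap A K a₀ = algebraMap A K s * Algebra.norm K (algebraMap B R b) ∧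
      algebraMap B R (b * c - algebraMap A B a₀) = 0 := by
  letI : Algebra Ap K := IsLocalization.localizationAlgebraOfSubmonoidLe Ap K p.primeCompl
    (nonZeroDivisors A) p.primeCompl_le_nonZeroDivisors
  haveI : IsScalarTower A Ap K := IsLocalization.localization_isScalarTower_of_submonoid_le Ap K
    p.primeCompl (nonZeroDivisors A) p.primeCompl_le_nonZeroDivisors
  haveI : IsFractionRing Ap K :=
    IsFractionRing.isFractionRing_of_isDomain_of_isLocalization p.primeCompl Ap K
  obtain ⟨P₀, hP₀, hP₀b⟩ := hb
  set β : R := algebraMap B R b with hβdef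
  set n := Module.finrank K R with hn
  have hβ0 : aeval β P₀ = 0 := by
    rw [hβdef, aeval_algebraMap_apply]
    have : aeval b P₀ = 0 := hP₀b
    rw [this, map_zero]
  have hβ : aeval β ((P₀.map (algebraMap A Ap)).map (algebraMap Ap K)) = 0 := by
    rw [Polynomial.map_map, ← IsScalarTower.algebraMap_eq, aeval_map_algebraMap]
    exact hβ0
  obtain ⟨χ', hχ'⟩ := exists_charpoly_eq_map (Ap := Ap) (K := K) β (P₀.map (algebraMap A Ap))
    (hP₀.map _) hβ
  set χ := (Algebra.lmul K R β).charpoly with hχ
  obtain ⟨s, hs, hQ⟩ := IsLocalization.integerNormalization_spec p.primeCompl χ'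
  set Q : A[X] := IsLocalization.integerNormalization p.primeCompl χ' with hQdef
  -- `Q` mapped to `K`
  have hQK : Q.map (algebraMap A K) = C (algebraMap A K s) * χ := by
    rw [IsScalarTower.algebraMap_eq A Ap K, ← Polynomial.map_map, hQ, ← hχ',
      Algebra.smul_def, Polynomial.map_mul]
    congr 1
    rw [Polynomial.algebraMap_apply, Polynomial.map_C]
    congr 1
  -- Cayley–Hamilton
  have hCH : aeval β χ = 0 := Algebra.aeval_self_charpoly_lmul β
  have hQβ : algebraMap B R (aeval b Q) = 0 := by
    rw [← aeval_algebraMap_apply, ← hβdef, ← aeval_map_algebraMap K β Q, hQK, map_mul, hCH,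
      mul_zero]
  have hdec : Q = divX Q * X + C (Q.coeff 0) := (divX_mul_X_add Q).symm
  have hQb : aeval b Q = aeval b (divX Q) * b + algebraMap A B (Q.coeff 0) := by
    conv_lhs => rw [hdec]
    rw [map_add, map_mul, aeval_X, aeval_C]
  have hnorm : Algebra.norm K β = (-1) ^ n * χ.coeff 0 := by
    rw [Algebra.norm_apply, LinearMap.det_eq_sign_charpoly_coeff]
  have hcoeff : algebraMap A K (Q.coeff 0) = algebraMap A K s * χ.coeff 0 := by
    rw [← Polynomial.coeff_map, hQK, Polynomial.coeff_C_mul]
  refine ⟨s, hs, (-1) ^ n * Q.coeff 0, (-1) ^ (n + 1) * aeval b (divX Q), ?_, ?_⟩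
  · rw [map_mul, map_pow, map_neg, map_one, hcoeff, hnorm]
    ring
  · have : b * ((-1) ^ (n + 1) * aeval b (divX Q)) - algebraMap A B ((-1) ^ n * Q.coeff 0) =
        (-1) ^ (n + 1) * aeval b Q := by
      rw [hQb, map_mul, map_pow, map_neg, map_one]
      ring
    rw [this, map_mul, hQβ, mul_zero]

end Groth.Agent.Helper4.SN430
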