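import Mathlib
import Groth.Prelude.Def_Fitting
import Groth.Agent.Helper8.NormGlue
import Groth.Agent.Helper8.NormFree
import Groth.Agent.Helper4.SN423

/-!
# Gluing a norm from a family of opens covering only a dense part of the target

`𝓑` is a family of opens of `Y` carrying norm data; functions on `Y` are assumed to be determined
by their restrictions to the members of `𝓑` (`Sep`), and norms are assumed to exist locally
(`LocExt`).  Then the norms glue.
-/

set_option autoImplicit false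
set_option linter.unusedSectionVars false
set_option linter.style.haveILetI false
universe u

open AlgebraicGeometry CategoryTheory Opposite TopologicalSpace

namespace Groth.Agent.Helper4.SN431

open Groth.Agent.Helper8.NormGlue Groth.Agent.Helper8.NormFree Groth.Agent.Helper4.SN423

variable {X Y : Scheme.{u}} {π : X ⟶ Y}

/-- a weak norm of degree `d` for `π`: as `Nrm.NormOfDegree`, but non-vanishing is only reflected
at the points of `Z`. -/
structure WNorm (π : X ⟶ Y) (Z : Set X) (d : ℕ) where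
  /-- the norm maps -/
  norm : ∀ U : Y.Opens, Γ(X, π ⁻¹ᵁ U) →* Γ(Y, U)
  /-- compatibility with restriction -/
  norm_res : ∀ {U V : Y.Opens} (i : V ⟶ U) (s : Γ(X, π ⁻¹ᵁ U)),
    Y.presheaf.map i.op (norm U s) = norm V (X.presheaf.map ((Opens.map π.base).map i).op s)
  /-- the norm of a function pulled back from `Y` is its `d`-th power -/
  norm_app : ∀ (U : Y.Opens) (g : Γ(Y, U)), norm U (π.app U g) = g ^ d
  /-- non-vanishing is reflected at the points of `Z` -/
  norm_basicOpen : ∀ (U : Y.Opens) (s : Γ(X, π ⁻¹ᵁ U)) (x : X), x ∈ Z →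
    π x ∈ Y.basicOpen (norm U s) → x ∈ X.basicOpen s

variable {𝓑 : Set Y.Opens} (D : BasisNorm' π 𝓑)

/-- functions on `Y` are determined by their restrictions to the members of `𝓑` -/
def Sep (𝓑 : Set Y.Opens) : Prop :=
  ∀ (U : Y.Opens) (t t' : Γ(Y, U)), (∀ V : Idx 𝓑 U, rY V.2 t = rY V.2 t') → t = t'

/-- `t` is a norm of `s` over `U` -/
def IsNormOf (U : Y.Opens) (s : Γ(X, π ⁻¹ᵁ U)) (t : Γ(Y, U)) : Prop :=
  ∀ V : Idx 𝓑 U, rY V.2 t = D.n V.1 (rX π V.2 s)

/-- norms exist locally -/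
def LocExt : Prop :=
  ∀ (U : Y.Opens) (s : Γ(X, π ⁻¹ᵁ U)) (y : Y), y ∈ U →
    ∃ (V : Y.Opens) (hVU : V ≤ U), y ∈ V ∧ ∃ t : Γ(Y, V), IsNormOf D V (rX π hVU s) t

variable {D}

lemma IsNormOf.res {U V : Y.Opens} {s : Γ(X, π ⁻¹ᵁ U)} {t : Γ(Y, U)} (h : IsNormOf D U s t)
    (hVU : V ≤ U) : IsNormOf D V (rX π hVU s) (rY hVU t) := by
  intro W
  rw [rY_rY, rX_rX]
  exact h ⟨W.1, W.2.trans hVU⟩

variable (hsep : Sep 𝓑) (hext : LocExt D)

include hsep in
lemma IsNormOf.unique {U : Y.Opens} {s : Γ(X, π ⁻¹ᵁ U)} {t t' : Γ(Y, U)} (h : IsNormOf D U s t)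
    (h' : IsNormOf D U s t') : t = t' :=
  hsep U t t' (fun V => (h V).trans (h' V).symm)

include hsep hext in
lemma exists_glue' (U : Y.Opens) (s : Γ(X, π ⁻¹ᵁ U)) : ∃ t : Γ(Y, U), IsNormOf D U s t := by
  choose V hVU hyV tl htl using fun y : U => hext U s y.1 y.2
  have hcompat : TopCat.Presheaf.IsCompatible Y.sheaf.1 V tl := by
    intro y z
    exact ((htl y).res inf_le_left).unique hsep (by
      have := (htl z).res (inf_le_right : V y ⊓ V z ≤ V z)
      rw [rX_rX] at this ⊢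
      exact this)
  have hcover : U ≤ ⨆ y : U, V y := by
    intro y hy
    exact Opens.mem_iSup.2 ⟨⟨y, hy⟩, hyV ⟨y, hy⟩⟩
  obtain ⟨t, ht, -⟩ := Y.sheaf.existsUnique_gluing' V U (fun y => homOfLE (hVU y)) hcover tl hcompat
  refine ⟨t, fun W => ?_⟩
  refine ext_cover W.1.1 _ _ (fun y hy => ?_)
  have hyU : y ∈ U := W.2 hy
  refine ⟨W.1.1 ⊓ V ⟨y, hyU⟩, inf_le_left, ⟨hy, hyV ⟨y, hyU⟩⟩, ?_⟩
  refine hsep _ _ _ (fun W' => ?_)
  have hW'W : W'.1.1 ≤ W.1.1 := W'.2.trans inf_le_left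
  have hW'V : W'.1.1 ≤ V ⟨y, hyU⟩ := W'.2.trans inf_le_right
  have e1 : rY W'.2 (rY (inf_le_left : W.1.1 ⊓ V ⟨y, hyU⟩ ≤ W.1.1) (rY W.2 t)) =
      D.n W'.1 (rX π (hW'W.trans W.2) s) := by
    rw [rY_rY, rY_rY]
    have h1 : rY (hW'V.trans (hVU ⟨y, hyU⟩)) t = rY hW'V (rY (hVU ⟨y, hyU⟩) t) := by
      rw [rY_rY]
    have h2 : rY (hVU ⟨y, hyU⟩) t = tl ⟨y, hyU⟩ := ht ⟨y, hyU⟩
    rw [show rY ((W'.2.trans inf_le_left).trans W.2) t = rY (hW'V.trans (hVU ⟨y, hyU⟩)) t from rfl,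
      h1, h2]
    have h3 := htl ⟨y, hyU⟩ ⟨W'.1, hW'V⟩
    rw [rX_rX] at h3
    exact h3
  have e2 : rY W'.2 (rY (inf_le_left : W.1.1 ⊓ V ⟨y, hyU⟩ ≤ W.1.1) (D.n W.1 (rX π W.2 s))) =
      D.n W'.1 (rX π (hW'W.trans W.2) s) := by
    rw [rY_rY, D.res W.1 W'.1 hW'W, rX_rX]
  exact e1.trans e2.symm

/-- the glued norm -/
noncomputable def glue' (U : Y.Opens) (s : Γ(X, π ⁻¹ᵁ U)) : Γ(Y, U) :=
  (exists_glue' hsep hext U s).choose

lemma glue'_spec (U : Y.Opens) (s : Γ(X, π ⁻¹ᵁ U)) : IsNormOf D U s (glue' hsep hext U s) :=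
  (exists_glue' hsep hext U s).choose_spec

lemma glue'_unique (U : Y.Opens) (s : Γ(X, π ⁻¹ᵁ U)) (t : Γ(Y, U)) (ht : IsNormOf D U s t) :
    t = glue' hsep hext U s :=
  ht.unique hsep (glue'_spec hsep hext U s)

/-- non-vanishing is reflected over the members of `𝓑` -/
lemma mem_basicOpen_of_basis (U : Y.Opens) (s : Γ(X, π ⁻¹ᵁ U)) (x : X) (V : Idx 𝓑 U)
    (hxV : π x ∈ V.1.1) (hx : π x ∈ Y.basicOpen (glue' hsep hext U s)) : x ∈ X.basicOpen s := by
  have e1 := glue'_spec hsep hext U s V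
  have h1 : π x ∈ Y.basicOpen (rY V.2 (glue' hsep hext U s)) := by
    show π x ∈ Y.basicOpen (Y.presheaf.map (homOfLE V.2).op (glue' hsep hext U s))
    rw [Y.basicOpen_res]
    exact ⟨hxV, hx⟩
  rw [e1] at h1
  have h2 : x ∈ X.basicOpen (rX π V.2 s) := D.mem V.1 _ h1
  have h3 : x ∈ X.basicOpen (X.presheaf.map ((Opens.map π.base).map (homOfLE V.2)).op s) := h2
  rw [X.basicOpen_res] at h3
  exact h3.2

/-- the glued weak norm -/
noncomputable def wnorm (Z : Set X) (d : ℕ)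
    (happ : ∀ (V : 𝓑) (g : Γ(Y, V.1)), D.n V ((π.app V.1).hom g) = g ^ d)
    (hmem : ∀ (U : Y.Opens) (s : Γ(X, π ⁻¹ᵁ U)) (x : X), x ∈ Z →
      π x ∈ Y.basicOpen (glue' hsep hext U s) → x ∈ X.basicOpen s) : WNorm π Z d where
  norm U :=
    { toFun := glue' hsep hext U
      map_one' := by
        symm
        refine glue'_unique hsep hext U 1 1 (fun V => ?_)
        rw [map_one, map_one, map_one]
      map_mul' := fun s s' => by
        symm
        refine glue'_unique hsep hext U (s * s') _ (fun V => ?_)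
        rw [map_mul, map_mul, map_mul, glue'_spec hsep hext U s V, glue'_spec hsep hext U s' V] }
  norm_res := by
    intro U V i s
    have hVU : V ≤ U := i.le
    have hi : i = homOfLE hVU := Subsingleton.elim _ _
    subst hi
    show rY hVU (glue' hsep hext U s) = glue' hsep hext V (rX π hVU s)
    exact glue'_unique hsep hext V _ _ ((glue'_spec hsep hext U s).res hVU)
  norm_app := by
    intro U g
    show glue' hsep hext U ((π.app U).hom g) = g ^ d
    symm
    refine glue'_unique hsep hext U _ _ (fun V => ?_)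
    rw [map_pow, ← app_rY, happ]
  norm_basicOpen := hmem

end Groth.Agent.Helper4.SN431
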