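import Mathlib
import Groth.Prelude.Def_Fitting
import Groth.Agent.Helper4.SN414
import Groth.Agent.Helper4.SN415
import Groth.Agent.Helper4.SN431

/-!
# Ampleness descends along a finite morphism carrying a weak norm
-/

set_option autoImplicit false
set_option linter.unusedSectionVars false
set_option linter.style.haveILetI false

namespace Groth.Agent.Helper4.SN432

open CategoryTheory CategoryTheory.Limits AlgebraicGeometry TopologicalSpace Opposite
open Groth.Agent.Helper4.GenLoc Groth.Agent.Helper4.TensorInv Groth.Agent.Helper4.TensorGen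
  Groth.Agent.Helper4.TwistLocal Groth.Agent.Helper4.TwistExt Groth.Agent.Helper4.PullMate
  Groth.Agent.Helper4.PullTensor Groth.Agent.Helper4.SN346 Groth.Agent.Helper4.SN200
  Groth.Agent.Helper4.QAffSec Groth.Agent.Helper4.PullSec Groth.Agent.Helper4.SN413
  Groth.Agent.Helper4.AmpleFinite Groth.Agent.Helper4.AmpleIso
  Groth.Agent.Helper4.AmpleBasis Groth.Agent.Helper4.TensorAssoc Groth.Agent.Helper4.PullAmple
  Groth.Agent.Helper4.SN431

universe u

variable {X' X : Scheme.{u}} (π : X' ⟶ X) {Z : Set X'} {d : ℕ} (N : WNorm π Z d)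

include N in
/-- if `s` does not vanish on the fibre over `x` then `N s` does not vanish at `x` -/
lemma norm_mem_basicOpen [IsFinite π] (U : X.Opens) (s : Γ(X', π ⁻¹ᵁ U)) (x : X) (hxU : x ∈ U)
    (hs : ∀ x', π x' = x → x' ∈ X'.basicOpen s) : x ∈ X.basicOpen (N.norm U s) := by
  have hC : IsClosed (π '' ((X'.basicOpen s : Set X')ᶜ)) :=
    π.isClosedMap _ (X'.basicOpen s).2.isClosed_compl
  let W : X.Opens := ⟨(π '' ((X'.basicOpen s : Set X')ᶜ))ᶜ, hC.isOpen_compl⟩ ⊓ U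
  have hxW : x ∈ W := by
    refine ⟨?_, hxU⟩
    rintro ⟨x', hx', hxx⟩
    exact hx' (hs x' hxx)
  have hWU : W ≤ U := inf_le_right
  have hW : π ⁻¹ᵁ W ≤ X'.basicOpen s := by
    intro x' hx'
    by_contra hxs
    exact hx'.1 ⟨x', hxs, rfl⟩
  have hu : IsUnit (X'.presheaf.map ((Opens.map π.base).map (homOfLE hWU)).op s) := by
    have h1 : IsUnit ((X'.presheaf.map (homOfLE (X'.basicOpen_le s)).op).hom s) :=
      X'.toRingedSpace.isUnit_res_basicOpen s
    have h2 := h1.map (X'.presheaf.map (homOfLE hW).op).hom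
    have e : (X'.presheaf.map (homOfLE hW).op).hom
        ((X'.presheaf.map (homOfLE (X'.basicOpen_le s)).op).hom s) =
        (X'.presheaf.map ((Opens.map π.base).map (homOfLE hWU)).op).hom s := by
      show (X'.presheaf.map (homOfLE (X'.basicOpen_le s)).op ≫
        X'.presheaf.map (homOfLE hW).op).hom s = _
      rw [← Functor.map_comp]
      rfl
    rw [e] at h2
    exact h2
  have hu2 := hu.map (N.norm W)
  rw [← N.norm_res (homOfLE hWU) s] at hu2
  have h3 := X.basicOpen_of_isUnit hu2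
  rw [X.basicOpen_res] at h3
  have : x ∈ W ⊓ X.basicOpen (N.norm U s) := by rw [h3]; exact hxW
  exact this.2

include N in
/-- the local norms of the coordinates of a section agree on overlaps -/
theorem chart_compat (M : X.Modules)
    (σ' : Coh.structureModule X' ⟶ (Scheme.Modules.pullback π).obj M)
    {Ti Tj : X.Opens} {ei : Γ(M, Ti)} {ej : Γ(M, Tj)} (hfj : IsFrame M Tj ej)
    (hfj' : IsFrame ((Scheme.Modules.pullback π).obj M) (π ⁻¹ᵁ Tj) ((η π M).app Tj ej))
    (ai : Γ(X', π ⁻¹ᵁ Ti)) (aj : Γ(X', π ⁻¹ᵁ Tj))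
    (hai : (show Γ((Scheme.Modules.pullback π).obj M, π ⁻¹ᵁ Ti) from
        SecTwist.val σ' (π ⁻¹ᵁ Ti)) =
      ai • (show Γ((Scheme.Modules.pullback π).obj M, π ⁻¹ᵁ Ti) from (η π M).app Ti ei))
    (haj : (show Γ((Scheme.Modules.pullback π).obj M, π ⁻¹ᵁ Tj) from
        SecTwist.val σ' (π ⁻¹ᵁ Tj)) =
      aj • (show Γ((Scheme.Modules.pullback π).obj M, π ⁻¹ᵁ Tj) from (η π M).app Tj ej))
    (W : X.Opens) (hi : W ≤ Ti) (hj : W ≤ Tj) :
    (CohB1.tensorPow M d).presheaf.map (homOfLE hi).op (N.norm Ti ai • ePow M Ti ei d) =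
      (CohB1.tensorPow M d).presheaf.map (homOfLE hj).op (N.norm Tj aj • ePow M Tj ej d) := by
  have hi' : π ⁻¹ᵁ W ≤ π ⁻¹ᵁ Ti := fun _ hx => hi hx
  have hj' : π ⁻¹ᵁ W ≤ π ⁻¹ᵁ Tj := fun _ hx => hj hx
  obtain ⟨u, hu⟩ := (hfj W hj).1 (M.presheaf.map (homOfLE hi).op ei)
  obtain ⟨Ei, hEi⟩ : ∃ Ei : Γ((Scheme.Modules.pullback π).obj M, π ⁻¹ᵁ W),
      Ei = ((Scheme.Modules.pullback π).obj M).presheaf.map (homOfLE hi').op
        (show Γ((Scheme.Modules.pullback π).obj M, π ⁻¹ᵁ Ti) from (η π M).app Ti ei) := ⟨_, rfl⟩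
  obtain ⟨Ej, hEj⟩ : ∃ Ej : Γ((Scheme.Modules.pullback π).obj M, π ⁻¹ᵁ W),
      Ej = ((Scheme.Modules.pullback π).obj M).presheaf.map (homOfLE hj').op
        (show Γ((Scheme.Modules.pullback π).obj M, π ⁻¹ᵁ Tj) from (η π M).app Tj ej) := ⟨_, rfl⟩
  have e1 : Ei = π.app W u • Ej := by
    rw [hEi, hEj, ← η_res π M hi ei, hu, η_smul, η_res π M hj ej]
  obtain ⟨Ai, hAi⟩ : ∃ Ai : Γ(X', π ⁻¹ᵁ W), Ai = X'.presheaf.map (homOfLE hi').op ai := ⟨_, rfl⟩
  obtain ⟨Aj, hAj⟩ : ∃ Aj : Γ(X', π ⁻¹ᵁ W), Aj = X'.presheaf.map (homOfLE hj').op aj := ⟨_, rfl⟩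
  have e2 : (show Γ((Scheme.Modules.pullback π).obj M, π ⁻¹ᵁ W) from
      SecTwist.val σ' (π ⁻¹ᵁ W)) = Ai • Ei := by
    rw [hAi, hEi, ← Scheme.Modules.map_smul, ← hai]
    exact (val_res σ' hi').symm
  have e3 : (show Γ((Scheme.Modules.pullback π).obj M, π ⁻¹ᵁ W) from
      SecTwist.val σ' (π ⁻¹ᵁ W)) = Aj • Ej := by
    rw [hAj, hEj, ← Scheme.Modules.map_smul, ← haj]
    exact (val_res σ' hj').symm
  have e4 : Aj = Ai * π.app W u := by
    have : (Aj - Ai * π.app W u) • Ej = 0 := by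
      rw [sub_smul, mul_smul, ← e1, ← e2, ← e3, sub_self]
    rw [hEj] at this
    exact sub_eq_zero.mp ((hfj' _ hj').2 _ this)
  have e5 : N.norm W Aj = N.norm W Ai * u ^ d := by rw [e4, map_mul, N.norm_app]
  have e6 : X.presheaf.map (homOfLE hi).op (N.norm Ti ai) = N.norm W Ai := by
    rw [hAi]; exact N.norm_res (homOfLE hi) ai
  have e7 : X.presheaf.map (homOfLE hj).op (N.norm Tj aj) = N.norm W Aj := by
    rw [hAj]; exact N.norm_res (homOfLE hj) aj
  rw [Scheme.Modules.map_smul, Scheme.Modules.map_smul, e6, e7, ePow_map, ePow_map, hu, ePow_smul,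
    e5, mul_smul]

include N in
/-- **the norm of a section** of `π^*M` is a section of `M^{⊗d}` which generates at `x` when the
given section generates along the fibre over `x`, and only if it generates at the points of `Z`
over `x`. -/
theorem exists_norm_section [IsFinite π] (M : X.Modules) (hM : PicF.IsInvertible M)
    (σ' : Coh.structureModule X' ⟶ (Scheme.Modules.pullback π).obj M) :
    ∃ τ : Coh.structureModule X ⟶ CohB1.tensorPow M d,
      ∀ x : X, (x ∈ CohB1.genLocus _ τ → ∀ x' : X', x' ∈ Z → π x' = x →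
          x' ∈ CohB1.genLocus _ σ') ∧
        ((∀ x' : X', π x' = x → x' ∈ CohB1.genLocus _ σ') → x ∈ CohB1.genLocus _ τ) := by
  classical
  choose T e hxT hTaff hfr hfrn hfr' using exists_frames_pull π M hM
  have hco : ∀ x : X, ∃ a : Γ(X', π ⁻¹ᵁ T x),
      (show Γ((Scheme.Modules.pullback π).obj M, π ⁻¹ᵁ T x) from
        SecTwist.val σ' (π ⁻¹ᵁ T x)) =
      a • (show Γ((Scheme.Modules.pullback π).obj M, π ⁻¹ᵁ T x) from (η π M).app (T x) (e x)) := by
    intro x
    obtain ⟨a, ha⟩ := ((hfr' x) (π ⁻¹ᵁ T x) le_rfl).1 (SecTwist.val σ' (π ⁻¹ᵁ T x))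
    refine ⟨a, ?_⟩
    rw [res_self] at ha
    exact ha
  choose a ha using hco
  obtain ⟨τl, hτl⟩ : ∃ τl : ∀ x : X, Γ(CohB1.tensorPow M d, T x),
      τl = fun x => N.norm (T x) (a x) • ePow M (T x) (e x) d := ⟨_, rfl⟩
  have hcompat : TopCat.Presheaf.IsCompatible (CohB1.tensorPow M d).presheaf T τl := by
    intro i j
    rw [hτl]
    exact chart_compat π N M σ' (hfr j) (hfr' j) (a i) (a j) (ha i) (ha j) (T i ⊓ T j)
      inf_le_left inf_le_right
  have hcover : (⊤ : X.Opens) ≤ iSup T := by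
    intro y _
    exact Opens.mem_iSup.mpr ⟨y, hxT y⟩
  obtain ⟨t, ht, -⟩ := TopCat.Sheaf.existsUnique_gluing'
    (⟨(CohB1.tensorPow M d).presheaf, (CohB1.tensorPow M d).isSheaf⟩ : TopCat.Sheaf Ab X)
    T ⊤ (fun i => homOfLE le_top) hcover τl hcompat
  obtain ⟨τ0, hτ0⟩ := Groth.Agent.Helper4.SubExt.exists_unit_hom_of_section (CohB1.tensorPow M d) t
  let τ : Coh.structureModule X ⟶ CohB1.tensorPow M d := τ0
  refine ⟨τ, fun x => ?_⟩
  have hval : (show Γ(CohB1.tensorPow M d, T x) from SecTwist.val τ (T x)) =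
      N.norm (T x) (a x) • ePow M (T x) (e x) d := by
    have h1 : (CohB1.tensorPow M d).presheaf.map (homOfLE (le_top : T x ≤ ⊤)).op t = τl x := ht x
    have h2 : τl x = N.norm (T x) (a x) • ePow M (T x) (e x) d := by rw [hτl]
    refine Eq.trans ?_ (h1.trans h2)
    refine (val_res τ (le_top : T x ≤ ⊤)).symm.trans ?_
    exact congrArg ((CohB1.tensorPow M d).presheaf.map (homOfLE (le_top : T x ≤ ⊤)).op) hτ0
  have h1 := genLocus_inf_eq_basicOpen_of_isFrame τ (hfrn x d) _ hval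
  have h2 := genLocus_inf_eq_basicOpen_of_isFrame σ' (hfr' x) _ (ha x)
  constructor
  · intro hx x' hx'Z hx'
    have h3 : π x' ∈ X.basicOpen (N.norm (T x) (a x)) := by
      rw [← h1, hx']; exact ⟨hx, hxT x⟩
    have h4 := N.norm_basicOpen _ _ x' hx'Z h3
    rw [← h2] at h4
    exact h4.1
  · intro h
    have h3 : x ∈ X.basicOpen (N.norm (T x) (a x)) := by
      refine norm_mem_basicOpen π N (T x) (a x) x (hxT x) (fun x' hx' => ?_)
      rw [← h2]
      refine ⟨h x' hx', ?_⟩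
      show π x' ∈ T x
      rw [hx']
      exact hxT x
    rw [← h1] at h3
    exact h3.1

include N in
/-- **Theorem**: if `π` is finite with a weak norm of positive degree, reflecting non-vanishing
along a set `Z` mapping onto `X`, and `π^*L` is ample then `L` is ample. -/
theorem isAmple_of_wnorm [IsFinite π] (hZ : ∀ x : X, ∃ x' : X', x' ∈ Z ∧ π x' = x) (hd : 1 ≤ d)
    (L : X.Modules) (hL : PicF.IsInvertible L)
    (hA : CohB1.IsAmple ((Scheme.Modules.pullback π).obj L)) : CohB1.IsAmple L := by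
  have hsurj : Function.Surjective π := fun x => by
    obtain ⟨x', -, hx'⟩ := hZ x
    exact ⟨x', hx'⟩
  obtain ⟨hL', hc', -⟩ := id hA
  haveI := hc'
  haveI : CompactSpace X := by
    rw [← isCompact_univ_iff, ← Set.range_eq_univ.2 hsurj, ← Set.image_univ]
    exact isCompact_univ.image π.continuous
  refine ⟨hL, inferInstance, fun x => ?_⟩
  obtain ⟨_, ⟨W, hW, rfl⟩, hxW, -⟩ :=
    X.isBasis_affineOpens.exists_subset_of_mem_open (Set.mem_univ x) isOpen_univ
  have hW' : IsAffineOpen (W : X.Opens) := hW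
  obtain ⟨n, s', hFs, hsW, -⟩ := exists_affine_genLocus_of_finite hA (π ⁻¹' {x})
    (π.finite_preimage_singleton x) (π ⁻¹ᵁ W) (fun x' hx' => by
      show π x' ∈ W
      rw [hx']; exact hxW)
  have hM : PicF.IsInvertible (CohB1.tensorPow L (n + 1)) := isInvertible_tensorPow hL (n + 1)
  obtain ⟨σ', hσ'def⟩ : ∃ σ' : Coh.structureModule X' ⟶
      (Scheme.Modules.pullback π).obj (CohB1.tensorPow L (n + 1)),
      σ' = s' ≫ (pullPowIso π hL (n + 1)).inv := ⟨_, rfl⟩
  have hσ' : CohB1.genLocus _ σ' = CohB1.genLocus _ s' := by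
    rw [hσ'def]; exact genLocus_comp_iso (pullPowIso π hL (n + 1)).symm s'
  obtain ⟨τ, hτ⟩ := exists_norm_section π N (CohB1.tensorPow L (n + 1)) hM σ'
  obtain ⟨m, hm⟩ : ∃ m, (n + 1) * d = m + 1 :=
    Nat.exists_eq_succ_of_ne_zero (Nat.mul_pos (Nat.succ_pos n) hd).ne'
  obtain ⟨t, htdef⟩ : ∃ t : Coh.structureModule X ⟶ CohB1.tensorPow L (m + 1),
      t = τ ≫ (powMulIso L hL (n + 1) d ≪≫ powCastIso L hm).hom := ⟨_, rfl⟩
  have ht : CohB1.genLocus _ t = CohB1.genLocus _ τ := by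
    rw [htdef]; exact genLocus_comp_iso _ τ
  refine ⟨m, t, ?_, ?_⟩
  · rw [ht]
    refine (hτ x).2 (fun x' hx' => ?_)
    rw [hσ']
    exact hFs hx'
  · rw [ht]
    have hle : CohB1.genLocus _ τ ≤ W := by
      intro y hy
      obtain ⟨y', hy'Z, hy'⟩ := hZ y
      have h1 := (hτ y).1 hy y' hy'Z hy'
      rw [hσ'] at h1
      have h2 : π y' ∈ W := hsW h1
      rwa [hy'] at h2
    have := isAffineOpen_genLocus_inf_affine _ (isInvertible_tensorPow hM d) τ hW'
    rwa [inf_eq_left.mpr hle] at this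

end Groth.Agent.Helper4.SN432
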