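import Mathlib
import Groth.Agent.Helper4.SN430

/-!
# Algebra: the norm from a free localization, at an integrally closed point
-/

set_option autoImplicit false
set_option linter.unusedSectionVars false
set_option linter.style.haveILetI false

namespace Groth.Agent.Helper4.SN433

open Polynomial

/-- `A` a domain, `p` a prime with `A_p` integrally closed, `B` an `A`-algebra, `b : B` integral.
Suppose that after inverting `h ≠ 0` the algebra `B` becomes finite free: `A₂ = A[1/h]`,
`B₂ = B[1/h]`.  Then there are `σ ∉ p`, `a₀ : A` and `c : B` with `a₀ = σ · N(b)` in `A₂` and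
`b c = a₀` in `B₂`. -/
theorem alg2 {A B A₂ B₂ Ap : Type*} [CommRing A] [IsDomain A] [CommRing B] [Algebra A B]
    [CommRing A₂] [CommRing B₂] [Algebra A₂ B₂] [Module.Free A₂ B₂] [Module.Finite A₂ B₂]
    (φ : A →+* A₂) (ψ : B →+* B₂)
    (hcomm : ψ.comp (algebraMap A B) = (algebraMap A₂ B₂).comp φ) (h : A) (hh : h ≠ 0)
    (hφ : @IsLocalization.Away A _ h A₂ _ φ.toAlgebra)
    (p : Ideal A) [p.IsPrime] [CommRing Ap] [Algebra A Ap] [IsLocalization.AtPrime Ap p]
    [IsDomain Ap] [IsIntegrallyClosed Ap]
    (b : B) (hb : IsIntegral A b) :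
    ∃ σ : A, σ ∉ p ∧ ∃ (a₀ : A) (c : B),
      φ a₀ = φ σ * Algebra.norm A₂ (ψ b) ∧ ψ (b * c - algebraMap A B a₀) = 0 := by
  letI := φ.toAlgebra
  haveI : IsLocalization.Away h A₂ := hφ
  have hle : Submonoid.powers h ≤ nonZeroDivisors A :=
    Submonoid.powers_le.mpr (mem_nonZeroDivisors_of_ne_zero hh)
  haveI : IsDomain A₂ := IsLocalization.isDomain_of_le_nonZeroDivisors A₂ hle
  let K := FractionRing A
  letI : Algebra A₂ K := IsLocalization.localizationAlgebraOfSubmonoidLe A₂ K (Submonoid.powers h)
    (nonZeroDivisors A) hle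
  haveI : IsScalarTower A A₂ K := IsLocalization.localization_isScalarTower_of_submonoid_le A₂ K
    (Submonoid.powers h) (nonZeroDivisors A) hle
  haveI : IsFractionRing A₂ K :=
    IsFractionRing.isFractionRing_of_isDomain_of_isLocalization (Submonoid.powers h) A₂ K
  let R := Localization (Algebra.algebraMapSubmonoid B₂ (nonZeroDivisors A₂))
  letI : Algebra K R := localizationAlgebra (nonZeroDivisors A₂) B₂
  haveI : IsScalarTower A₂ K R := isScalarTower_localizationAlgebra _ _
  haveI : Module.Finite K R := Module.Finite.of_isLocalization A₂ B₂ (nonZeroDivisors A₂)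
  letI : Algebra A R := ((algebraMap K R).comp (algebraMap A K)).toAlgebra
  haveI : IsScalarTower A K R := .of_algebraMap_eq (fun _ => rfl)
  letI : Algebra B R := ((algebraMap B₂ R).comp ψ).toAlgebra
  haveI : IsScalarTower A B R := by
    refine .of_algebraMap_eq (fun a => ?_)
    show algebraMap K R (algebraMap A K a) = algebraMap B₂ R (ψ (algebraMap A B a))
    have h1 : ψ (algebraMap A B a) = algebraMap A₂ B₂ (φ a) := congr($hcomm a)
    rw [h1, IsScalarTower.algebraMap_apply A A₂ K, ← IsScalarTower.algebraMap_apply A₂ K R,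
      ← IsScalarTower.algebraMap_apply A₂ B₂ R]
    rfl
  obtain ⟨σ, hσ, a₀, c, h1, h2⟩ := Groth.Agent.Helper4.SN430.alg_core (K := K) (R := R) p (Ap := Ap)
    b hb
  refine ⟨σ, hσ, a₀, c, ?_, ?_⟩
  · have hinj : Function.Injective (algebraMap A₂ K) := IsFractionRing.injective A₂ K
    apply hinj
    have h3 : Algebra.norm K (algebraMap B R b) = algebraMap A₂ K (Algebra.norm A₂ (ψ b)) :=
      Algebra.norm_localization A₂ (nonZeroDivisors A₂) (ψ b)
    rw [map_mul, ← h3]
    have h4 : ∀ a : A, algebraMap A₂ K (φ a) = algebraMap A K a := fun a =>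
      (IsScalarTower.algebraMap_apply A A₂ K a).symm
    rw [h4, h4]
    exact h1
  · have hinj : Function.Injective (algebraMap B₂ R) := by
      apply IsLocalization.injective R (M := Algebra.algebraMapSubmonoid B₂ (nonZeroDivisors A₂))
      rintro _ ⟨a, ha, rfl⟩
      rw [mem_nonZeroDivisors_iff_right]
      intro z hz
      rw [mul_comm, ← Algebra.smul_def] at hz
      exact (smul_eq_zero.mp hz).resolve_left (nonZeroDivisors.ne_zero ha)
    apply hinj
    rw [map_zero]
    exact h2

end Groth.Agent.Helper4.SN433
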