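import Mathlib
import Groth.Prelude.Def_Fitting
import Groth.Agent.Helper8.NormGlue
import Groth.Agent.Helper8.NormFree
import Groth.Agent.Helper8.NormQAff
import Groth.Agent.Helper4.SN423
import Groth.Agent.Helper4.SN431
import Groth.Agent.Helper4.FinLocFree6
import Groth.Agent.Helper4.QcohGlue
import Groth.Agent.Helper5.LocInt1

/-!
# Free opens of a finite morphism to a reduced Noetherian scheme: preliminaries
-/

set_option autoImplicit false
set_option linter.unusedSectionVars false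
set_option linter.style.haveILetI false
universe u

open AlgebraicGeometry CategoryTheory Opposite TopologicalSpace Module

namespace Groth.Agent.Helper4.SN434

open Groth.Agent.Helper8.NormGlue Groth.Agent.Helper8.NormFree Groth.Agent.Helper4.SN423
  Groth.Agent.Helper4.SN431

variable {X Y : Scheme.{u}} (π : X ⟶ Y)

/-- restriction to a nonempty open subset of a preirreducible open of a reduced scheme is
injective -/
theorem rY_injective [IsReduced Y] {W W' : Y.Opens} (h : W' ≤ W)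
    (hW : IsPreirreducible (W : Set Y)) (hW' : (W' : Set Y).Nonempty) :
    Function.Injective (rY h) := by
  rw [injective_iff_map_eq_zero]
  intro a ha
  by_contra hne
  have h1 : Y.basicOpen a ≠ ⊥ := fun hb => hne ((AlgebraicGeometry.basicOpen_eq_bot_iff a).mp hb)
  obtain ⟨z, hz⟩ : ((Y.basicOpen a : Y.Opens) : Set Y).Nonempty := by
    rw [Set.nonempty_iff_ne_empty]
    intro he
    exact h1 (Opens.ext he)
  obtain ⟨w, hw⟩ := hW'
  obtain ⟨v, -, hv1, hv2⟩ := hW (W' : Set Y) (Y.basicOpen a : Set Y) W'.2 (Y.basicOpen a).2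
    ⟨w, h hw, hw⟩ ⟨z, Y.basicOpen_le a hz, hz⟩
  have h2 : v ∈ Y.basicOpen (rY h a) := by
    show v ∈ Y.basicOpen (Y.presheaf.map (homOfLE h).op a)
    rw [Y.basicOpen_res]
    exact ⟨hv1, hv2⟩
  rw [ha, Scheme.basicOpen_zero] at h2
  exact h2

/-- sections over a nonempty preirreducible open of a reduced scheme form a domain -/
theorem isDomain_sections [IsReduced Y] (W : Y.Opens) (hW : IsPreirreducible (W : Set Y))
    (hne : (W : Set Y).Nonempty) : IsDomain Γ(Y, W) := by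
  haveI : Nontrivial Γ(Y, W) := by
    obtain ⟨w, hw⟩ := hne
    exact Groth.Agent.Helper8.NormQAff.nontrivial_of_mem W w hw
  haveI : NoZeroDivisors Γ(Y, W) := by
    refine ⟨fun {a b} hab => ?_⟩
    by_contra hcon
    rw [not_or] at hcon
    have ha : Y.basicOpen a ≠ ⊥ := fun hb => hcon.1 ((AlgebraicGeometry.basicOpen_eq_bot_iff a).mp hb)
    have hb : Y.basicOpen b ≠ ⊥ := fun hb => hcon.2 ((AlgebraicGeometry.basicOpen_eq_bot_iff b).mp hb)
    obtain ⟨z, hz⟩ : ((Y.basicOpen a : Y.Opens) : Set Y).Nonempty := by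
      rw [Set.nonempty_iff_ne_empty]
      exact fun he => ha (Opens.ext he)
    obtain ⟨w, hw⟩ : ((Y.basicOpen b : Y.Opens) : Set Y).Nonempty := by
      rw [Set.nonempty_iff_ne_empty]
      exact fun he => hb (Opens.ext he)
    obtain ⟨v, -, hv1, hv2⟩ := hW (Y.basicOpen a : Set Y) (Y.basicOpen b : Set Y)
      (Y.basicOpen a).2 (Y.basicOpen b).2 ⟨z, Y.basicOpen_le a hz, hz⟩ ⟨w, Y.basicOpen_le b hw, hw⟩
    have h2 : v ∈ Y.basicOpen (a * b) := by
      rw [Scheme.basicOpen_mul]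
      exact ⟨hv1, hv2⟩
    rw [hab, Scheme.basicOpen_zero] at h2
    exact h2
  exact NoZeroDivisors.to_isDomain _

/-- the rank of a free open is determined by any of its points -/
theorem rank_unique [IsAffineHom π] {W W' : Y.Opens} {d d' : ℕ} (hW : W ∈ freeOpens π d)
    (hW' : W' ∈ freeOpens π d') (y : Y) (hy : y ∈ W) (hy' : y ∈ W') : d = d' := by
  obtain ⟨f, g, e, hyf⟩ := exists_basicOpen_le_affine_inter hW.1 hW'.1 y ⟨hy, hy'⟩
  have hTW : Y.basicOpen f ≤ W := Y.basicOpen_le f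
  have hTW' : Y.basicOpen f ≤ W' := e ▸ Y.basicOpen_le g
  obtain ⟨-, ⟨b1⟩⟩ := mem_freeOpens_basicOpen (π := π) hW.1 f rfl hTW d hW
  obtain ⟨-, ⟨b2⟩⟩ := mem_freeOpens_basicOpen (π := π) hW'.1 g e hTW' d' hW'
  letI := secAlg π (Y.basicOpen f)
  haveI : Nontrivial Γ(Y, Y.basicOpen f) :=
    Groth.Agent.Helper8.NormQAff.nontrivial_of_mem _ y hyf
  have h1 := Module.finrank_eq_card_basis b1
  have h2 := Module.finrank_eq_card_basis b2
  rw [Fintype.card_fin] at h1 h2
  exact h1.symm.trans h2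

/-- the free opens form a basis at each of their points -/
theorem exists_free_le [IsAffineHom π] {W : Y.Opens} (hW : W ∈ freeOpensAll π) (U : Y.Opens)
    (y : Y) (hyW : y ∈ W) (hyU : y ∈ U) : ∃ V ∈ freeOpensAll π, y ∈ V ∧ V ≤ U ∧ V ≤ W := by
  obtain ⟨d, hWd⟩ := hW
  obtain ⟨_, ⟨V₀, hV₀, rfl⟩, hyV₀, hV₀U⟩ :=
    Y.isBasis_affineOpens.exists_subset_of_mem_open (show y ∈ ((U ⊓ W : Y.Opens) : Set Y) from
      ⟨hyU, hyW⟩) (U ⊓ W).2
  have hV₀' : IsAffineOpen (V₀ : Y.Opens) := hV₀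
  obtain ⟨f, g, e, hyf⟩ := exists_basicOpen_le_affine_inter hWd.1 hV₀' y ⟨hyW, hyV₀⟩
  have hTW : Y.basicOpen f ≤ W := Y.basicOpen_le f
  have hTV₀ : Y.basicOpen f ≤ V₀ := e ▸ Y.basicOpen_le g
  refine ⟨Y.basicOpen f, ⟨d, mem_freeOpens_basicOpen (π := π) hWd.1 f rfl hTW d hWd⟩, hyf, ?_, hTW⟩
  exact hTV₀.trans (fun z hz => (hV₀U hz).1)


/-- a point whose local ring is a domain has an affine open neighbourhood with a domain of
sections, hence irreducible -/
theorem exists_domain_nhd [IsLocallyNoetherian Y] [IsReduced Y] (y : Y)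
    [IsDomain (Y.presheaf.stalk y)] (U : Y.Opens) (hy : y ∈ U) :
    ∃ V : Y.Opens, IsAffineOpen V ∧ y ∈ V ∧ V ≤ U ∧ IsDomain Γ(Y, V) ∧
      IsPreirreducible (V : Set Y) := by
  obtain ⟨_, ⟨W, hW, rfl⟩, hyW, hWU⟩ :=
    Y.isBasis_affineOpens.exists_subset_of_mem_open hy U.2
  have hW' : IsAffineOpen (W : Y.Opens) := hW
  haveI : IsNoetherianRing Γ(Y, W) := IsLocallyNoetherian.component_noetherian ⟨W, hW'⟩
  letI := Y.presheaf.algebra_section_stalk ⟨y, hyW⟩
  haveI := hW'.isLocalization_stalk ⟨y, hyW⟩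
  haveI : (hW'.primeIdealOf ⟨y, hyW⟩).asIdeal.IsPrime := (hW'.primeIdealOf ⟨y, hyW⟩).isPrime
  obtain ⟨a, hap, hD⟩ := Groth.Agent.Helper5.LocInt.exists_away_isDomain Γ(Y, W)
    (hW'.primeIdealOf ⟨y, hyW⟩).asIdeal (Y.presheaf.stalk y)
  have hyV : y ∈ Y.basicOpen a := by
    rw [Scheme.mem_basicOpen _ _ _ hyW]
    exact IsLocalization.map_units (Y.presheaf.stalk y)
      (⟨a, hap⟩ : (hW'.primeIdealOf ⟨y, hyW⟩).asIdeal.primeCompl)
  have haff : IsAffineOpen (Y.basicOpen a) := hW'.basicOpen a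
  haveI : IsAffine (Y.basicOpen a : Scheme.{u}) := haff
  haveI : IsLocalization.Away a Γ(Y, Y.basicOpen a) := hW'.isLocalization_basicOpen a
  have e1 : Localization.Away a ≃+* Γ(Y, Y.basicOpen a) :=
    (IsLocalization.algEquiv (Submonoid.powers a) (Localization.Away a)
      Γ(Y, Y.basicOpen a)).toRingEquiv
  haveI hdom : IsDomain Γ(Y, Y.basicOpen a) := e1.symm.toMulEquiv.isDomain
  have e2 : Γ((Y.basicOpen a : Scheme.{u}), ⊤) ≃+* Γ(Y, Y.basicOpen a) :=
    (Y.basicOpen a).topIso.commRingCatIsoToRingEquiv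
  haveI : IsDomain Γ((Y.basicOpen a : Scheme.{u}), ⊤) := e2.toMulEquiv.isDomain
  haveI : Nonempty (Y.basicOpen a : Scheme.{u}) := ⟨⟨y, hyV⟩⟩
  haveI : IsIntegral (Y.basicOpen a : Scheme.{u}) := isIntegral_of_isAffine_of_isDomain _
  refine ⟨Y.basicOpen a, haff, hyV, (Y.basicOpen_le a).trans (fun z hz => hWU hz), hdom, ?_⟩
  haveI : IrreducibleSpace ↥(Y.basicOpen a) :=
    inferInstanceAs (IrreducibleSpace ↥((Y.basicOpen a : Y.Opens) : Scheme.{u}))
  have h1 : IsPreirreducible (Set.univ : Set ↥(Y.basicOpen a)) :=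
    (IrreducibleSpace.isIrreducible_univ _).isPreirreducible
  have h2 := h1.image Subtype.val continuous_subtype_val.continuousOn
  rwa [Subtype.coe_image_univ] at h2

open Groth.Agent.Helper4.FinLocFree Groth.Agent.Helper4.FinLocFree2
  Groth.Agent.Helper4.FinLocFree4 Groth.Agent.Helper4.FinLocFree6 in
/-- the hypothesis of local freeness of the direct image gives free opens -/
theorem exists_free_of_isFinLocFree [IsFinite π] (T : Y.Opens)
    (hT : FlatMod.IsFinLocFree (((Coh.push π).obj (Coh.structureModule X)).restrict T.ι))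
    (y : Y) (hy : y ∈ T) : ∃ V ∈ freeOpensAll π, y ∈ V := by
  let G := (Scheme.Modules.pushforward π).obj (Coh.structureModule X)
  haveI : (Coh.structureModule X).IsQuasicoherent :=
    isQuasicoherent_of_isFinLocFree _ (isFinLocFree_unit (X := X))
  haveI : G.IsQuasicoherent :=
    Groth.Agent.Helper4.QcohGlue.isQuasicoherent_pushforward π (Coh.structureModule X)
  obtain ⟨U', n, hyU', hfree⟩ := hT ⟨y, hy⟩
  have h1 : IsFreeAlong (G.restrict T.ι) U'.ι n := hfree
  have h2 : IsFreeAlong G (U'.ι ≫ T.ι) n := (IsFreeAlong.restrict_iff T.ι U'.ι).mp h1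
  have h3 := h2.opensRange
  have hyr : y ∈ (U'.ι ≫ T.ι).opensRange := ⟨⟨⟨y, hy⟩, hyU'⟩, rfl⟩
  obtain ⟨V, hV, hyV, -, ⟨b⟩⟩ := exists_affine_basis_of_isFreeAlong G h3 y hyr
  letI := secAlg π V
  exact ⟨V, ⟨n, hV, ⟨b.map (pushUnitEquiv π V)⟩⟩, hyV⟩

/-- spreading out a basis at a prime where the localization is free -/
lemma exists_basis_away_of_free {A B : Type u} [CommRing A] [CommRing B] [Algebra A B]
    [Module.FinitePresentation A B] (p : PrimeSpectrum A)
    [Module.Free (Localization.AtPrime p.asIdeal) (LocalizedModule p.asIdeal.primeCompl B)]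
    [Module.Finite (Localization.AtPrime p.asIdeal) (LocalizedModule p.asIdeal.primeCompl B)] :
    ∃ (d : ℕ) (r : A), r ∉ p.asIdeal ∧
      Nonempty (Basis (Fin d) (Localization (Submonoid.powers r)) (LocalizedModule.Away r B)) := by
  let Rp := Localization.AtPrime p.asIdeal
  let Mp := LocalizedModule p.asIdeal.primeCompl B
  let b : Basis (Fin (Module.finrank Rp Mp)) Rp Mp := Module.finBasisOfFinrankEq Rp Mp rfl
  obtain ⟨r, hr, b', -⟩ := Module.FinitePresentation.exists_basis_localizedModule_powers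
    p.asIdeal.primeCompl (LocalizedModule.mkLinearMap p.asIdeal.primeCompl B) Rp b
  exact ⟨_, r, hr, ⟨b'⟩⟩

/-- the localization of a reduced ring at a minimal prime is a field -/
lemma isField_localization_minimalPrime {A : Type u} [CommRing A] [IsReduced A] (p : Ideal A)
    (hp : p ∈ minimalPrimes A) :
    haveI := hp.1.1; IsField (Localization.AtPrime p) := by
  haveI := hp.1.1
  rw [IsLocalRing.isField_iff_maximalIdeal_eq]
  have h1 := IsLocalization.AtPrime.radical_map_of_mem_minimalPrimes (A := Localization.AtPrime p)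
    p ⊥ hp
  rw [Ideal.map_bot, IsLocalization.AtPrime.map_eq_maximalIdeal p (Localization.AtPrime p)] at h1
  rw [← h1]
  exact nilradical_eq_zero _

/-- **generic freeness**: every nonempty open contains a nonempty free open -/
theorem exists_free_nonempty [IsLocallyNoetherian Y] [IsReduced Y] [IsFinite π] (U : Y.Opens)
    (hU : (U : Set Y).Nonempty) : ∃ V ∈ freeOpensAll π, V ≤ U ∧ (V : Set Y).Nonempty := by
  obtain ⟨y, hy⟩ := hU
  obtain ⟨_, ⟨V₀, hV₀, rfl⟩, hyV₀, hV₀U⟩ :=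
    Y.isBasis_affineOpens.exists_subset_of_mem_open hy U.2
  have hV₀' : IsAffineOpen (V₀ : Y.Opens) := hV₀
  letI := secAlg π V₀
  haveI : IsNoetherianRing Γ(Y, V₀) := IsLocallyNoetherian.component_noetherian ⟨V₀, hV₀'⟩
  haveI : Module.Finite Γ(Y, V₀) Γ(X, π ⁻¹ᵁ V₀) := π.finite_app V₀ hV₀'
  haveI : Module.FinitePresentation Γ(Y, V₀) Γ(X, π ⁻¹ᵁ V₀) :=
    Module.finitePresentation_of_finite _ _
  haveI : Nontrivial Γ(Y, V₀) := Groth.Agent.Helper8.NormQAff.nontrivial_of_mem V₀ y hyV₀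
  obtain ⟨⟨p, hp⟩⟩ := Ideal.nonempty_minimalPrimes (R := Γ(Y, V₀)) (I := ⊥) top_ne_bot.symm
  haveI : p.IsPrime := hp.1.1
  have hfield := isField_localization_minimalPrime p hp
  letI : Field (Localization.AtPrime p) := hfield.toField
  let P : PrimeSpectrum Γ(Y, V₀) := ⟨p, inferInstance⟩
  haveI : Module.Free (Localization.AtPrime P.asIdeal)
      (LocalizedModule P.asIdeal.primeCompl Γ(X, π ⁻¹ᵁ V₀)) := Module.Free.of_divisionRing _ _
  haveI : Module.Finite (Localization.AtPrime P.asIdeal)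
      (LocalizedModule P.asIdeal.primeCompl Γ(X, π ⁻¹ᵁ V₀)) :=
    Module.Finite.of_isLocalizedModule P.asIdeal.primeCompl
      (LocalizedModule.mkLinearMap P.asIdeal.primeCompl Γ(X, π ⁻¹ᵁ V₀))
  obtain ⟨d, r, hr, ⟨b'⟩⟩ := exists_basis_away_of_free (A := Γ(Y, V₀)) (B := Γ(X, π ⁻¹ᵁ V₀)) P
  have hTV : Y.basicOpen r ≤ V₀ := Y.basicOpen_le r
  refine ⟨Y.basicOpen r, ⟨d, hV₀'.basicOpen r, ?_⟩, hTV.trans (fun z hz => hV₀U hz), ?_⟩
  · letI := secAlg π (Y.basicOpen r)
    exact Groth.Agent.Helper8.NormFreeAlg.basis_of_away (rY hTV) (rX π hTV) (comm_sq hTV) r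
      (locY hV₀' r rfl hTV) (locX hV₀' r rfl hTV) b'
  · refine ⟨hV₀'.fromSpec P, ?_⟩
    have : P ∈ hV₀'.fromSpec ⁻¹ᵁ Y.basicOpen r := by
      rw [hV₀'.fromSpec_preimage_basicOpen]
      exact hr
    exact this

/-- functions are determined by their restrictions to the free opens -/
theorem sep [IsLocallyNoetherian Y] [IsReduced Y] [IsFinite π] : Sep (freeOpensAll π) := by
  intro U t t' h
  by_contra hne
  have h0 : t - t' ≠ 0 := sub_ne_zero.mpr hne
  have h1 : Y.basicOpen (t - t') ≠ ⊥ :=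
    fun hb => h0 ((AlgebraicGeometry.basicOpen_eq_bot_iff (t - t')).mp hb)
  have h2 : ((Y.basicOpen (t - t') : Y.Opens) : Set Y).Nonempty := by
    rw [Set.nonempty_iff_ne_empty]
    exact fun he => h1 (Opens.ext he)
  obtain ⟨V, hV, hVle, ⟨v, hv⟩⟩ := exists_free_nonempty π _ h2
  have hVU : V ≤ U := hVle.trans (Y.basicOpen_le _)
  have h3 : rY hVU (t - t') = 0 := by
    rw [map_sub, h ⟨⟨V, hV⟩, hVU⟩, sub_self]
  have h4 : v ∈ Y.basicOpen (rY hVU (t - t')) := by
    show v ∈ Y.basicOpen (Y.presheaf.map (homOfLE hVU).op (t - t'))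
    rw [Y.basicOpen_res]
    exact ⟨hv, hVle hv⟩
  rw [h3, Scheme.basicOpen_zero] at h4
  exact h4

/-- the rank of a nonempty free open is positive when `π` is surjective -/
theorem one_le_rank [Surjective π] {W : Y.Opens} {d : ℕ} (hW : W ∈ freeOpens π d)
    (hne : (W : Set Y).Nonempty) : 1 ≤ d := by
  by_contra hd
  have hd0 : d = 0 := by omega
  subst hd0
  obtain ⟨-, ⟨b⟩⟩ := hW
  letI := secAlg π W
  obtain ⟨w, hw⟩ := hne
  obtain ⟨x, rfl⟩ := π.surjective w
  haveI : Nontrivial Γ(X, π ⁻¹ᵁ W) :=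
    Groth.Agent.Helper8.NormQAff.nontrivial_of_mem (π ⁻¹ᵁ W) x hw
  haveI : Subsingleton Γ(X, π ⁻¹ᵁ W) := by
    refine ⟨fun m m' => ?_⟩
    apply b.repr.injective
    ext i
    exact i.elim0
  exact false_of_nontrivial_of_subsingleton Γ(X, π ⁻¹ᵁ W)

end Groth.Agent.Helper4.SN434
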