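import Mathlib
import Groth.Prelude.Def_Fitting
import Groth.Agent.Helper4.SN433
import Groth.Agent.Helper4.SN434

/-!
# The norm near a point with integrally closed local ring
-/

set_option autoImplicit false
set_option linter.unusedSectionVars false
set_option linter.style.haveILetI false
universe u

open AlgebraicGeometry CategoryTheory Opposite TopologicalSpace Module

namespace Groth.Agent.Helper4.SN435

open Groth.Agent.Helper8.NormGlue Groth.Agent.Helper8.NormFree Groth.Agent.Helper4.SN423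
  Groth.Agent.Helper4.SN431 Groth.Agent.Helper4.SN434

variable {X Y : Scheme.{u}} (π : X ⟶ Y)

/-- the algebraic input, on an affine integral neighbourhood `V₁` of `y` -/
theorem key_aux [IsLocallyNoetherian Y] [IsReduced Y] [IsFinite π] (y : Y)
    [IsDomain (Y.presheaf.stalk y)] [IsIntegrallyClosed (Y.presheaf.stalk y)]
    (U : Y.Opens) (hy : y ∈ U) (s : Γ(X, π ⁻¹ᵁ U)) :
    ∃ (V₁ : Y.Opens) (hV₁U : V₁ ≤ U), IsAffineOpen V₁ ∧ y ∈ V₁ ∧ IsPreirreducible (V₁ : Set Y) ∧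
      ∃ (W₂ : Y.Opens) (hW₂ : W₂ ∈ freeOpensAll π) (hW₂V₁ : W₂ ≤ V₁), (W₂ : Set Y).Nonempty ∧
        ∃ (σ a₀ : Γ(Y, V₁)) (c₀ : Γ(X, π ⁻¹ᵁ V₁)), y ∈ Y.basicOpen σ ∧
          rY hW₂V₁ a₀ = rY hW₂V₁ σ *
            (basisNorm' π).n ⟨W₂, hW₂⟩ (rX π (hW₂V₁.trans hV₁U) s) ∧
          rX π hW₂V₁ (rX π hV₁U s * c₀ - (π.app V₁).hom a₀) = 0 := by
  obtain ⟨V₁, hV₁, hyV₁, hV₁U, hdom, hirr⟩ := exists_domain_nhd y U hy
  obtain ⟨W₁, ⟨d, hW₁⟩, hW₁V₁, ⟨w, hw⟩⟩ := exists_free_nonempty π V₁ ⟨y, hyV₁⟩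
  obtain ⟨h, g, e, hwh⟩ := exists_basicOpen_le_affine_inter hV₁ hW₁.1 w ⟨hW₁V₁ hw, hw⟩
  have hW₂V₁ : Y.basicOpen h ≤ V₁ := Y.basicOpen_le h
  have hW₂W₁ : Y.basicOpen h ≤ W₁ := e ▸ Y.basicOpen_le g
  have hW₂d : Y.basicOpen h ∈ freeOpens π d :=
    mem_freeOpens_basicOpen (π := π) hW₁.1 g e hW₂W₁ d hW₁
  have hW₂ : Y.basicOpen h ∈ freeOpensAll π := ⟨d, hW₂d⟩
  have hh : h ≠ 0 := by
    rintro rfl
    rw [Scheme.basicOpen_zero] at hwh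
    exact hwh
  refine ⟨V₁, hV₁U, hV₁, hyV₁, hirr, Y.basicOpen h, hW₂, hW₂V₁, ⟨w, hwh⟩, ?_⟩
  letI := secAlg π V₁
  letI := secAlg π (Y.basicOpen h)
  obtain ⟨-, ⟨bas⟩⟩ := hW₂d
  haveI : Module.Free Γ(Y, Y.basicOpen h) Γ(X, π ⁻¹ᵁ Y.basicOpen h) := Module.Free.of_basis bas
  haveI : Module.Finite Γ(Y, Y.basicOpen h) Γ(X, π ⁻¹ᵁ Y.basicOpen h) :=
    Module.Finite.of_basis bas
  haveI : Module.Finite Γ(Y, V₁) Γ(X, π ⁻¹ᵁ V₁) := π.finite_app V₁ hV₁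
  letI := Y.presheaf.algebra_section_stalk ⟨y, hyV₁⟩
  haveI := hV₁.isLocalization_stalk ⟨y, hyV₁⟩
  haveI : (hV₁.primeIdealOf ⟨y, hyV₁⟩).asIdeal.IsPrime := (hV₁.primeIdealOf ⟨y, hyV₁⟩).isPrime
  have hb : IsIntegral Γ(Y, V₁) (rX π hV₁U s) := Algebra.IsIntegral.isIntegral _
  obtain ⟨σ, hσ, a₀, c₀, h1, h2⟩ := Groth.Agent.Helper4.SN433.alg2
    (Ap := Y.presheaf.stalk y) (rY hW₂V₁) (rX π hW₂V₁) (comm_sq hW₂V₁) h hh
    (locY hV₁ h rfl hW₂V₁) (hV₁.primeIdealOf ⟨y, hyV₁⟩).asIdeal (rX π hV₁U s) hb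
  refine ⟨σ, a₀, c₀, ?_, ?_, h2⟩
  · rw [Scheme.mem_basicOpen _ _ _ hyV₁]
    exact IsLocalization.map_units (Y.presheaf.stalk y)
      (⟨σ, hσ⟩ : (hV₁.primeIdealOf ⟨y, hyV₁⟩).asIdeal.primeCompl)
  · rw [h1, rX_rX]
    rfl


/-- two nonempty free opens inside a preirreducible open contain a common nonempty free open,
basic in the first one -/
theorem exists_common_basic [IsAffineHom π] {V₁ W W₂ : Y.Opens}
    (hirr : IsPreirreducible (V₁ : Set Y)) (hW : W ∈ freeOpensAll π) (hW₂ : W₂ ∈ freeOpensAll π)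
    (hWV₁ : W ≤ V₁) (hW₂V₁ : W₂ ≤ V₁) (hne : (W : Set Y).Nonempty)
    (hne₂ : (W₂ : Set Y).Nonempty) :
    ∃ f : Γ(Y, W), Y.basicOpen f ≤ W₂ ∧ ((Y.basicOpen f : Y.Opens) : Set Y).Nonempty ∧
      Y.basicOpen f ∈ freeOpensAll π := by
  obtain ⟨w, hw⟩ := hne
  obtain ⟨w₂, hw₂⟩ := hne₂
  obtain ⟨v, -, hv1, hv2⟩ := hirr (W : Set Y) (W₂ : Set Y) W.2 W₂.2 ⟨w, hWV₁ hw, hw⟩
    ⟨w₂, hW₂V₁ hw₂, hw₂⟩
  obtain ⟨d, hWd⟩ := hW
  obtain ⟨d₂, hW₂d⟩ := hW₂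
  obtain ⟨f, g, e, hvf⟩ := exists_basicOpen_le_affine_inter hWd.1 hW₂d.1 v ⟨hv1, hv2⟩
  refine ⟨f, e ▸ Y.basicOpen_le g, ⟨v, hvf⟩, d, ?_⟩
  exact mem_freeOpens_basicOpen (π := π) hWd.1 f rfl (Y.basicOpen_le f) d hWd

/-- a section over a free open with a domain of functions which dies on a nonempty basic open
is zero -/
theorem eq_zero_of_rX_basicOpen [IsAffineHom π] {W : Y.Opens} {d : ℕ} (hW : W ∈ freeOpens π d)
    [IsDomain Γ(Y, W)] (f : Γ(Y, W)) (hf : f ≠ 0) (z : Γ(X, π ⁻¹ᵁ W))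
    (hz : rX π (Y.basicOpen_le f) z = 0) : z = 0 := by
  letI := secAlg π W
  obtain ⟨hWa, ⟨bas⟩⟩ := hW
  haveI : Module.Free Γ(Y, W) Γ(X, π ⁻¹ᵁ W) := Module.Free.of_basis bas
  have hloc := locX (π := π) hWa f rfl (Y.basicOpen_le f)
  letI := (rX π (Y.basicOpen_le f)).toAlgebra
  haveI : IsLocalization.Away (algebraMap Γ(Y, W) Γ(X, π ⁻¹ᵁ W) f)
      Γ(X, π ⁻¹ᵁ Y.basicOpen f) := hloc
  have h0 : algebraMap Γ(X, π ⁻¹ᵁ W) Γ(X, π ⁻¹ᵁ Y.basicOpen f) z = 0 := hz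
  rw [IsLocalization.map_eq_zero_iff
    (Submonoid.powers (algebraMap Γ(Y, W) Γ(X, π ⁻¹ᵁ W) f))] at h0
  obtain ⟨⟨_, m, rfl⟩, hm⟩ := h0
  have h1 : (f ^ m) • z = 0 := by
    rw [Algebra.smul_def, map_pow]
    exact hm
  exact (smul_eq_zero.mp h1).resolve_left (pow_ne_zero m hf)

/-- **the norm near a point with integrally closed local ring**: a section `t` restricting to the
norm of `s` over the free opens, and a cofactor `c` with `s c = t` up to a section `τ` dying over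
the free opens. -/
theorem key [IsLocallyNoetherian Y] [IsReduced Y] [IsFinite π] (y : Y)
    [IsDomain (Y.presheaf.stalk y)] [IsIntegrallyClosed (Y.presheaf.stalk y)]
    (U : Y.Opens) (hy : y ∈ U) (s : Γ(X, π ⁻¹ᵁ U)) :
    ∃ (V : Y.Opens) (hVU : V ≤ U), y ∈ V ∧ IsPreirreducible (V : Set Y) ∧
      ∃ (t : Γ(Y, V)) (c τ : Γ(X, π ⁻¹ᵁ V)),
        (∀ (W : Y.Opens) (hW : W ∈ freeOpensAll π) (hWV : W ≤ V), (W : Set Y).Nonempty →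
          rY hWV t = (basisNorm' π).n ⟨W, hW⟩ (rX π (hWV.trans hVU) s)) ∧
        rX π hVU s * c = (π.app V).hom t + τ ∧
        (∀ (W : Y.Opens) (_ : W ∈ freeOpensAll π) (hWV : W ≤ V), (W : Set Y).Nonempty →
          rX π hWV τ = 0) := by
  obtain ⟨V₁, hV₁U, hV₁, hyV₁, hirr, W₂, hW₂, hW₂V₁, hne₂, σ, a₀, c₀, hyσ, h1, h2⟩ :=
    key_aux π y U hy s
  have hVV₁ : Y.basicOpen σ ≤ V₁ := Y.basicOpen_le σ
  have hVU : Y.basicOpen σ ≤ U := hVV₁.trans hV₁U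
  have hVirr : IsPreirreducible ((Y.basicOpen σ : Y.Opens) : Set Y) :=
    hirr.open_subset (Y.basicOpen σ).2 hVV₁
  obtain ⟨u, hu⟩ : IsUnit (rY hVV₁ σ) := Y.toRingedSpace.isUnit_res_basicOpen σ
  obtain ⟨τ₁, hτ₁⟩ : ∃ τ₁ : Γ(X, π ⁻¹ᵁ V₁), τ₁ = rX π hV₁U s * c₀ - (π.app V₁).hom a₀ := ⟨_, rfl⟩
  rw [← hτ₁] at h2
  refine ⟨Y.basicOpen σ, hVU, hyσ, hVirr, rY hVV₁ a₀ * ↑u⁻¹,
    rX π hVV₁ c₀ * (π.app (Y.basicOpen σ)).hom ↑u⁻¹,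
    rX π hVV₁ τ₁ * (π.app (Y.basicOpen σ)).hom ↑u⁻¹, ?_, ?_, ?_⟩
  · -- the norm
    intro W hW hWV hne
    have hWV₁ : W ≤ V₁ := hWV.trans hVV₁
    obtain ⟨f, hfW₂, hfne, hfree⟩ := exists_common_basic π hirr hW hW₂ hWV₁ hW₂V₁ hne hne₂
    have hTW : Y.basicOpen f ≤ W := Y.basicOpen_le f
    have hWirr : IsPreirreducible (W : Set Y) := hirr.open_subset W.2 hWV₁
    apply rY_injective hTW hWirr hfne
    have e1 : rY hTW ((basisNorm' π).n ⟨W, hW⟩ (rX π (hWV.trans hVU) s)) =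
        (basisNorm' π).n ⟨Y.basicOpen f, hfree⟩ (rX π ((hTW.trans hWV).trans hVU) s) := by
      rw [(basisNorm' π).res ⟨W, hW⟩ ⟨Y.basicOpen f, hfree⟩ hTW, rX_rX]
    have e2 : rY hfW₂ (rY hW₂V₁ a₀) = rY hfW₂ (rY hW₂V₁ σ) *
        (basisNorm' π).n ⟨Y.basicOpen f, hfree⟩ (rX π ((hTW.trans hWV).trans hVU) s) := by
      rw [h1, map_mul, (basisNorm' π).res ⟨W₂, hW₂⟩ ⟨Y.basicOpen f, hfree⟩ hfW₂, rX_rX]
    rw [rY_rY, rY_rY] at e2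
    rw [e1, rY_rY, map_mul]
    have e3 : rY (hTW.trans hWV) (rY hVV₁ a₀) = rY (hfW₂.trans hW₂V₁) a₀ := by rw [rY_rY]
    have e4 : rY (hfW₂.trans hW₂V₁) σ = rY (hTW.trans hWV) (↑u : Γ(Y, Y.basicOpen σ)) := by
      rw [hu, rY_rY]
    rw [e3, e2, e4, mul_comm (rY (hTW.trans hWV) (↑u : Γ(Y, Y.basicOpen σ))), mul_assoc,
      ← map_mul, Units.mul_inv, map_one, mul_one]
  · -- the cofactor
    have e1 : rX π hVU s = rX π hVV₁ (rX π hV₁U s) := by rw [rX_rX]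
    have e2 : rX π hVV₁ τ₁ = rX π hVV₁ (rX π hV₁U s) * rX π hVV₁ c₀ -
        (π.app (Y.basicOpen σ)).hom (rY hVV₁ a₀) := by
      rw [hτ₁, map_sub, map_mul, app_rY]
    rw [e1, e2, map_mul]
    ring
  · -- the error term dies over the free opens
    intro W hW hWV hne
    have hWV₁ : W ≤ V₁ := hWV.trans hVV₁
    obtain ⟨f, hfW₂, hfne, hfree⟩ := exists_common_basic π hirr hW hW₂ hWV₁ hW₂V₁ hne hne₂
    have hTW : Y.basicOpen f ≤ W := Y.basicOpen_le f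
    have hWirr : IsPreirreducible (W : Set Y) := hirr.open_subset W.2 hWV₁
    haveI : IsDomain Γ(Y, W) := isDomain_sections W hWirr hne
    have hf : f ≠ 0 := by
      rintro rfl
      obtain ⟨v, hv⟩ := hfne
      rw [Scheme.basicOpen_zero] at hv
      exact hv
    obtain ⟨d, hWd⟩ := hW
    have h3 : rX π hWV₁ τ₁ = 0 := by
      apply eq_zero_of_rX_basicOpen π hWd f hf
      rw [rX_rX]
      have : rX π (hTW.trans hWV₁) τ₁ = rX π hfW₂ (rX π hW₂V₁ τ₁) := by rw [rX_rX]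
      rw [this, h2, map_zero]
    rw [map_mul, rX_rX, h3, zero_mul]

end Groth.Agent.Helper4.SN435
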