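import Mathlib
import Groth.Prelude.Def_Fitting
import Groth.Agent.Helper4.SN432
import Groth.Agent.Helper4.SN435

/-!
# A weak norm for a finite surjective morphism onto a reduced Noetherian scheme whose points are
normal or have locally free direct image nearby
-/

set_option autoImplicit false
set_option linter.unusedSectionVars false
set_option linter.style.haveILetI false
universe u

open AlgebraicGeometry CategoryTheory Opposite TopologicalSpace Module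

namespace Groth.Agent.Helper4.SN436

open Groth.Agent.Helper8.NormGlue Groth.Agent.Helper8.NormFree Groth.Agent.Helper4.SN423
  Groth.Agent.Helper4.SN431 Groth.Agent.Helper4.SN434 Groth.Agent.Helper4.SN435

variable {X Y : Scheme.{u}} (π : X ⟶ Y)

/-- the rank of a free open -/
noncomputable def rk (V : Y.Opens) : ℕ :=
  letI := secAlg π V
  Module.finrank Γ(Y, V) Γ(X, π ⁻¹ᵁ V)

lemma rk_eq {V : Y.Opens} {d : ℕ} (hV : V ∈ freeOpens π d) (hne : (V : Set Y).Nonempty) :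
    rk π V = d := by
  obtain ⟨-, ⟨b⟩⟩ := hV
  letI := secAlg π V
  obtain ⟨v, hv⟩ := hne
  haveI : Nontrivial Γ(Y, V) := Groth.Agent.Helper8.NormQAff.nontrivial_of_mem V v hv
  have h1 := Module.finrank_eq_card_basis b
  rw [Fintype.card_fin] at h1
  exact h1

lemma rk_eq_of_mem [IsAffineHom π] {V V' : Y.Opens} (hV : V ∈ freeOpensAll π)
    (hV' : V' ∈ freeOpensAll π) (y : Y) (hy : y ∈ V) (hy' : y ∈ V') : rk π V = rk π V' := by
  obtain ⟨d, hVd⟩ := hV
  obtain ⟨d', hV'd⟩ := hV'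
  rw [rk_eq π hVd ⟨y, hy⟩, rk_eq π hV'd ⟨y, hy'⟩]
  exact rank_unique π hVd hV'd y hy hy'

lemma one_le_rk [Surjective π] {V : Y.Opens} (hV : V ∈ freeOpensAll π)
    (hne : (V : Set Y).Nonempty) : 1 ≤ rk π V := by
  obtain ⟨d, hVd⟩ := hV
  rw [rk_eq π hVd hne]
  exact one_le_rank π hVd hne

/-- the standing hypothesis, in terms of free opens -/
def NormalOrFree : Prop :=
  ∀ y : Y, (∃ V ∈ freeOpensAll π, y ∈ V) ∨
    (IsDomain (Y.presheaf.stalk y) ∧ IsIntegrallyClosed (Y.presheaf.stalk y))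

theorem normalOrFree_of_hyp [IsFinite π]
    (hW : ∀ y : Y, (IsDomain (Y.presheaf.stalk y) ∧ IsIntegrallyClosed (Y.presheaf.stalk y)) ∨
      ∃ T : Y.Opens, y ∈ T ∧
        FlatMod.IsFinLocFree (((Coh.push π).obj (Coh.structureModule X)).restrict T.ι)) :
    NormalOrFree π := by
  intro y
  rcases hW y with h | ⟨T, hyT, hT⟩
  · exact Or.inr h
  · exact Or.inl (exists_free_of_isFinLocFree π T hT y hyT)

variable [IsLocallyNoetherian Y] [IsReduced Y] [IsFinite π]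

/-- the rank is locally constant -/
theorem exists_const_rank_nhd [Surjective π] (hNF : NormalOrFree π) (y : Y) :
    ∃ (N : Y.Opens) (r : ℕ), y ∈ N ∧ 1 ≤ r ∧
      ∀ W ∈ freeOpensAll π, W ≤ N → (W : Set Y).Nonempty → rk π W = r := by
  rcases hNF y with ⟨V, hV, hyV⟩ | ⟨hd, hic⟩
  · refine ⟨V, rk π V, hyV, one_le_rk π hV ⟨y, hyV⟩, fun W hW hWV ⟨w, hw⟩ => ?_⟩
    exact rk_eq_of_mem π hW hV w hw (hWV hw)
  · haveI := hd
    obtain ⟨V₁, -, hyV₁, -, -, hirr⟩ := exists_domain_nhd y ⊤ trivial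
    obtain ⟨W₀, hW₀, hW₀V₁, ⟨w₀, hw₀⟩⟩ := exists_free_nonempty π V₁ ⟨y, hyV₁⟩
    refine ⟨V₁, rk π W₀, hyV₁, one_le_rk π hW₀ ⟨w₀, hw₀⟩, fun W hW hWV₁ ⟨w, hw⟩ => ?_⟩
    obtain ⟨v, -, hv1, hv2⟩ := hirr (W : Set Y) (W₀ : Set Y) W.2 W₀.2 ⟨w, hWV₁ hw, hw⟩
      ⟨w₀, hW₀V₁ hw₀, hw₀⟩
    exact rk_eq_of_mem π hW hW₀ v hv1 hv2

/-- a common multiple of all ranks -/
theorem exists_degree [CompactSpace Y] [Surjective π] (hNF : NormalOrFree π) :
    ∃ D₀ : ℕ, 1 ≤ D₀ ∧ ∀ W ∈ freeOpensAll π, (W : Set Y).Nonempty → 1 ≤ rk π W ∧ rk π W ∣ D₀ := by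
  choose N r hyN hr hconst using exists_const_rank_nhd π hNF
  obtain ⟨S, hS⟩ := isCompact_univ.elim_finite_subcover (fun y => (N y : Set Y))
    (fun y => (N y).2) (fun y _ => Set.mem_iUnion.2 ⟨y, hyN y⟩)
  refine ⟨∏ y ∈ S, r y, ?_, fun W hW ⟨w, hw⟩ => ?_⟩
  · exact Nat.one_le_iff_ne_zero.mpr (Finset.prod_ne_zero_iff.mpr
      (fun y _ => Nat.one_le_iff_ne_zero.mp (hr y)))
  · obtain ⟨y, hyS, hwN⟩ : ∃ y ∈ S, w ∈ N y := by
      have := hS (Set.mem_univ w)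
      simpa using this
    obtain ⟨V', hV', hwV', hV'N, -⟩ := exists_free_le π hW (N y) w hw hwN
    have h1 : rk π V' = r y := hconst y V' hV' hV'N ⟨w, hwV'⟩
    have h2 : rk π W = rk π V' := rk_eq_of_mem π hW hV' w hw hwV'
    rw [h2, h1]
    exact ⟨hr y, Finset.dvd_prod_of_mem r hyS⟩


omit [IsLocallyNoetherian Y] [IsReduced Y] [IsFinite π] in
lemma subsingleton_of_not_nonempty (W : Y.Opens) (h : ¬ (W : Set Y).Nonempty) :
    Subsingleton Γ(Y, W) := by
  obtain rfl : W = ⊥ := by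
    ext z
    simp only [SetLike.mem_coe, Opens.coe_bot, Set.mem_empty_iff_false, iff_false]
    exact fun hz => h ⟨z, hz⟩
  infer_instance

/-- the norm data on the free opens, raised to the powers making the degree constant -/
noncomputable def expNorm (D₀ : ℕ)
    (hD : ∀ W ∈ freeOpensAll π, (W : Set Y).Nonempty → 1 ≤ rk π W ∧ rk π W ∣ D₀) (hD₀ : 1 ≤ D₀) :
    BasisNorm' π (freeOpensAll π) where
  n V := (powMonoidHom (D₀ / rk π V.1)).comp ((basisNorm' π).n V)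
  res V W h s := by
    show rY h ((basisNorm' π).n V s ^ (D₀ / rk π V.1)) =
      (basisNorm' π).n W (rX π h s) ^ (D₀ / rk π W.1)
    by_cases hne : (W.1 : Set Y).Nonempty
    · obtain ⟨w, hw⟩ := hne
      rw [rk_eq_of_mem π W.2 V.2 w hw (h hw), map_pow, (basisNorm' π).res V W h s]
    · haveI := subsingleton_of_not_nonempty W.1 hne
      exact Subsingleton.elim _ _
  mem V s := by
    intro x hx
    have hxV : π x ∈ V.1 := Y.basicOpen_le _ hx
    obtain ⟨h1, h2⟩ := hD V.1 V.2 ⟨π x, hxV⟩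
    have hpos : 0 < D₀ / rk π V.1 := Nat.div_pos (Nat.le_of_dvd hD₀ h2) h1
    have hx' : π x ∈ Y.basicOpen ((basisNorm' π).n V s ^ (D₀ / rk π V.1)) := hx
    rw [Y.basicOpen_pow _ hpos] at hx'
    exact (basisNorm' π).mem V s hx'

variable (D₀ : ℕ)
  (hD : ∀ W ∈ freeOpensAll π, (W : Set Y).Nonempty → 1 ≤ rk π W ∧ rk π W ∣ D₀) (hD₀ : 1 ≤ D₀)

/-- the norm of a function from the base is its `D₀`-th power -/
theorem expNorm_app (V : freeOpensAll π) (g : Γ(Y, V.1)) :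
    (expNorm π D₀ hD hD₀).n V ((π.app V.1).hom g) = g ^ D₀ := by
  show (basisNorm' π).n V ((π.app V.1).hom g) ^ (D₀ / rk π V.1) = g ^ D₀
  by_cases hne : (V.1 : Set Y).Nonempty
  · obtain ⟨d, hVd⟩ := V.2
    obtain ⟨-, h2⟩ := hD V.1 V.2 hne
    have h3 : (basisNorm' π).n V ((π.app V.1).hom g) = g ^ rk π V.1 := by
      rw [rk_eq π hVd hne]
      obtain ⟨-, ⟨b⟩⟩ := hVd
      letI := secAlg π V.1
      have := Algebra.norm_algebraMap_of_basis b g
      rw [Fintype.card_fin] at this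
      exact this
    rw [h3, ← pow_mul, Nat.mul_div_cancel' h2]
  · haveI := subsingleton_of_not_nonempty V.1 hne
    exact Subsingleton.elim _ _

/-- the local norm at a normal point, as a norm for the powered data -/
theorem isNormOf_key {V : Y.Opens} (hirr : IsPreirreducible (V : Set Y)) {U : Y.Opens}
    (hVU : V ≤ U) (s : Γ(X, π ⁻¹ᵁ U)) (t : Γ(Y, V))
    (ht : ∀ (W : Y.Opens) (hW : W ∈ freeOpensAll π) (hWV : W ≤ V), (W : Set Y).Nonempty →
      rY hWV t = (basisNorm' π).n ⟨W, hW⟩ (rX π (hWV.trans hVU) s))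
    (W₀ : Y.Opens) (hW₀ : W₀ ∈ freeOpensAll π) (hW₀V : W₀ ≤ V) (hne₀ : (W₀ : Set Y).Nonempty) :
    IsNormOf (expNorm π D₀ hD hD₀) V (rX π hVU s) (t ^ (D₀ / rk π W₀)) := by
  intro W
  show rY W.2 (t ^ (D₀ / rk π W₀)) =
    (basisNorm' π).n W.1 (rX π W.2 (rX π hVU s)) ^ (D₀ / rk π W.1.1)
  by_cases hne : (W.1.1 : Set Y).Nonempty
  · obtain ⟨w, hw⟩ := hne
    obtain ⟨w₀, hw₀⟩ := hne₀
    obtain ⟨v, -, hv1, hv2⟩ := hirr (W.1.1 : Set Y) (W₀ : Set Y) W.1.1.2 W₀.2 ⟨w, W.2 hw, hw⟩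
      ⟨w₀, hW₀V hw₀, hw₀⟩
    rw [rk_eq_of_mem π W.1.2 hW₀ v hv1 hv2, map_pow, ht W.1.1 W.1.2 W.2 ⟨w, hw⟩, rX_rX]
  · haveI := subsingleton_of_not_nonempty W.1.1 hne
    exact Subsingleton.elim _ _

include hD hD₀ in
/-- norms exist locally -/
theorem locExt (hNF : NormalOrFree π) : LocExt (expNorm π D₀ hD hD₀) := by
  intro U s y hy
  rcases hNF y with ⟨V₀, hV₀, hyV₀⟩ | ⟨hd, hic⟩
  · obtain ⟨V, hV, hyV, hVU, -⟩ := exists_free_le π hV₀ U y hyV₀ hy
    refine ⟨V, hVU, hyV, (expNorm π D₀ hD hD₀).n ⟨V, hV⟩ (rX π hVU s), fun W => ?_⟩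
    exact (expNorm π D₀ hD hD₀).res ⟨V, hV⟩ W.1 W.2 _
  · haveI := hd
    haveI := hic
    obtain ⟨V, hVU, hyV, hirr, t, c, τ, ht, -, -⟩ := key π y U hy s
    obtain ⟨W₀, hW₀, hW₀V, hne₀⟩ := exists_free_nonempty π V ⟨y, hyV⟩
    exact ⟨V, hVU, hyV, _, isNormOf_key π D₀ hD hD₀ hirr hVU s t ht W₀ hW₀ hW₀V hne₀⟩


/-- the free locus -/
def freeSet : Set Y := {y | ∃ V ∈ freeOpensAll π, y ∈ V}

omit [IsLocallyNoetherian Y] [IsReduced Y] [IsFinite π] in
lemma mem_basicOpen_add {X : Scheme.{u}} {O : X.Opens} (a b : Γ(X, O)) (x : X)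
    (ha : x ∈ X.basicOpen a) (hb : x ∉ X.basicOpen b) : x ∈ X.basicOpen (a + b) := by
  have hxO : x ∈ O := X.basicOpen_le a ha
  rw [Scheme.mem_basicOpen X _ x hxO] at ha hb ⊢
  rw [map_add]
  by_contra h
  have h1 : X.presheaf.germ O x hxO a + X.presheaf.germ O x hxO b ∈
      nonunits (X.presheaf.stalk x) := h
  have h2 : -(X.presheaf.germ O x hxO b) ∈ nonunits (X.presheaf.stalk x) := by
    rw [mem_nonunits_iff, IsUnit.neg_iff]
    exact hb
  have h3 := IsLocalRing.nonunits_add h1 h2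
  rw [add_neg_cancel_right] at h3
  exact h3 ha

include hD hD₀ in
/-- non-vanishing is reflected along the closure of the preimage of the free locus -/
theorem weak_basicOpen (hNF : NormalOrFree π) (hsep : Sep (freeOpensAll π))
    (hext : LocExt (expNorm π D₀ hD hD₀)) (U : Y.Opens) (s : Γ(X, π ⁻¹ᵁ U)) (x : X)
    (hxZ : x ∈ closure (π ⁻¹' freeSet π))
    (hx : π x ∈ Y.basicOpen (glue' hsep hext U s)) : x ∈ X.basicOpen s := by
  have hxU : π x ∈ U := Y.basicOpen_le _ hx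
  rcases hNF (π x) with ⟨V₀, hV₀, hyV₀⟩ | ⟨hd, hic⟩
  · obtain ⟨V, hV, hyV, hVU, -⟩ := exists_free_le π hV₀ U (π x) hyV₀ hxU
    exact mem_basicOpen_of_basis hsep hext U s x ⟨⟨V, hV⟩, hVU⟩ hyV hx
  · haveI := hd
    haveI := hic
    obtain ⟨V, hVU, hyV, hirr, t, c, τ, ht, hc, hτ⟩ := key π (π x) U hxU s
    obtain ⟨W₀, hW₀, hW₀V, hne₀⟩ := exists_free_nonempty π V ⟨π x, hyV⟩
    have hn := isNormOf_key π D₀ hD hD₀ hirr hVU s t ht W₀ hW₀ hW₀V hne₀
    have e1 : rY hVU (glue' hsep hext U s) = t ^ (D₀ / rk π W₀) :=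
      ((glue'_spec hsep hext U s).res hVU).unique hsep hn
    obtain ⟨h1', h2'⟩ := hD W₀ hW₀ hne₀
    have hpos : 0 < D₀ / rk π W₀ := Nat.div_pos (Nat.le_of_dvd hD₀ h2') h1'
    have h1 : π x ∈ Y.basicOpen t := by
      have : π x ∈ Y.basicOpen (rY hVU (glue' hsep hext U s)) := by
        show π x ∈ Y.basicOpen (Y.presheaf.map (homOfLE hVU).op (glue' hsep hext U s))
        rw [Y.basicOpen_res]
        exact ⟨hyV, hx⟩
      rw [e1, Y.basicOpen_pow _ hpos] at this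
      exact this
    have h2 : x ∈ X.basicOpen ((π.app V).hom t) := by
      have : x ∈ π ⁻¹ᵁ (Y.basicOpen t) := h1
      rwa [Scheme.preimage_basicOpen] at this
    have h3 : x ∉ X.basicOpen τ := by
      intro hxτ
      obtain ⟨x'', hx''τ, V₀', hV₀', hx''V₀'⟩ :=
        mem_closure_iff.mp hxZ (X.basicOpen τ) (X.basicOpen τ).2 hxτ
      have hx''V : π x'' ∈ V := X.basicOpen_le τ hx''τ
      obtain ⟨W, hW, hx''W, hWV, -⟩ := exists_free_le π hV₀' V (π x'') hx''V₀' hx''V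
      have h0 := hτ W hW hWV ⟨π x'', hx''W⟩
      have : x'' ∈ X.basicOpen (rX π hWV τ) := by
        show x'' ∈ X.basicOpen (X.presheaf.map ((Opens.map π.base).map (homOfLE hWV)).op τ)
        rw [X.basicOpen_res]
        exact ⟨hx''W, hx''τ⟩
      rw [h0, Scheme.basicOpen_zero] at this
      exact this
    have h4 : x ∈ X.basicOpen (rX π hVU s * c) := by
      rw [hc]
      exact mem_basicOpen_add _ _ x h2 h3
    rw [Scheme.basicOpen_mul] at h4
    have h5 : x ∈ X.basicOpen (X.presheaf.map ((Opens.map π.base).map (homOfLE hVU)).op s) := h4.1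
    rw [X.basicOpen_res] at h5
    exact h5.2

/-- the closure of the preimage of the free locus maps onto `Y` -/
theorem surj_closure [Surjective π] : ∀ y : Y, ∃ x : X, x ∈ closure (π ⁻¹' freeSet π) ∧ π x = y := by
  have hC : IsClosed (π '' closure (π ⁻¹' freeSet π)) := π.isClosedMap _ isClosed_closure
  have hF : freeSet π ⊆ π '' closure (π ⁻¹' freeSet π) := by
    intro y hy
    obtain ⟨x, rfl⟩ := π.surjective y
    exact ⟨x, subset_closure hy, rfl⟩
  have hdense : Dense (freeSet π) := by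
    rw [dense_iff_inter_open]
    intro O hO hne
    obtain ⟨V, hV, hVO, ⟨v, hv⟩⟩ := exists_free_nonempty π ⟨O, hO⟩ hne
    exact ⟨v, hVO hv, V, hV, hv⟩
  intro y
  have h1 : closure (freeSet π) ⊆ π '' closure (π ⁻¹' freeSet π) :=
    (hC.closure_subset_iff).mpr hF
  rw [hdense.closure_eq] at h1
  obtain ⟨x, hx, hxy⟩ := h1 (Set.mem_univ y)
  exact ⟨x, hx, hxy⟩

/-- **the weak norm** -/
theorem exists_wnorm [CompactSpace Y] [Surjective π] (hNF : NormalOrFree π) :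
    ∃ D₀ : ℕ, 1 ≤ D₀ ∧ Nonempty (WNorm π (closure (π ⁻¹' freeSet π)) D₀) := by
  obtain ⟨D₀, hD₀, hD⟩ := exists_degree π hNF
  have hsep := sep π
  have hext := locExt π D₀ hD hD₀ hNF
  exact ⟨D₀, hD₀, ⟨wnorm hsep hext _ D₀ (expNorm_app π D₀ hD hD₀)
    (weak_basicOpen π D₀ hD hD₀ hNF hsep hext)⟩⟩

/-- **descent of ampleness** along a finite surjective morphism onto a reduced Noetherian scheme
whose points are normal or have locally free direct image nearby -/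
theorem isAmple_of_pullback [CompactSpace Y] [Surjective π] (hNF : NormalOrFree π)
    (L : Y.Modules) (hL : PicF.IsInvertible L)
    (hA : CohB1.IsAmple ((Scheme.Modules.pullback π).obj L)) : CohB1.IsAmple L := by
  obtain ⟨D₀, hD₀, ⟨N⟩⟩ := exists_wnorm π hNF
  exact Groth.Agent.Helper4.SN432.isAmple_of_wnorm π N (surj_closure π) hD₀ L hL hA

end Groth.Agent.Helper4.SN436
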