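import Mathlib

/-!
# Extending a ring map along a finite birational extension which is "blown up"

`φ : R → A` injective and integral, `s : R` such that `φ s • A ⊆ φ R`; put
`I = φ⁻¹ (φ s • A)`.  If `ψ : R → C` makes `I · C` principal generated by a nonzerodivisor, then
`ψ` extends to `A`.
-/

set_option autoImplicit false
universe u

namespace Groth.Agent.Helper4.SN437

open Polynomial

variable {R A C : Type u} [CommRing R] [CommRing A] [CommRing C]

/-- the key integrality computation -/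
theorem pow_mem_span_of_integral (φ : R →+* A) (hφi : Function.Injective φ) (s i : R) (a : A)
    (ha : φ.IsIntegralElem a) (hia : φ i = φ s * a) (ψ : R →+* C) (c u x : C)
    (hc : c ∈ nonZeroDivisors C) (hs : ψ s = c * u) (hx : ψ i = c * x) :
    x ∈ (Ideal.span {u}).radical := by
  obtain ⟨p, hp, hpa⟩ := ha
  set m := p.natDegree with hm
  have h1 : eval₂ φ (φ i) (scaleRoots p s) = 0 := by
    rw [hia]; exact scaleRoots_eval₂_eq_zero φ hpa
  rw [eval₂_hom] at h1
  have h2 : eval i (scaleRoots p s) = 0 := hφi (by rw [h1, map_zero])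
  have h3 : ψ (eval i (scaleRoots p s)) = 0 := by rw [h2, map_zero]
  rw [eval_eq_sum_range, natDegree_scaleRoots, map_sum] at h3
  have h4 : ∀ k ∈ Finset.range (m + 1),
      ψ ((scaleRoots p s).coeff k * i ^ k) = c ^ m * (ψ (p.coeff k) * u ^ (m - k) * x ^ k) := by
    intro k hk
    have hkm : k ≤ m := Nat.lt_succ_iff.mp (Finset.mem_range.mp hk)
    rw [coeff_scaleRoots, map_mul, map_mul, map_pow, map_pow, hs, hx, mul_pow, mul_pow]
    have : c ^ m = c ^ (m - k) * c ^ k := by rw [← pow_add, Nat.sub_add_cancel hkm]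
    rw [this]; ring
  rw [Finset.sum_congr rfl h4, ← Finset.mul_sum] at h3
  have h5 : ∑ k ∈ Finset.range (m + 1), ψ (p.coeff k) * u ^ (m - k) * x ^ k = 0 := by
    have := (mem_nonZeroDivisors_iff_right.mp (pow_mem hc m)) _ (by rw [mul_comm]; exact h3)
    exact this
  rw [Finset.sum_range_succ] at h5
  have h6 : p.coeff m = 1 := hp.coeff_natDegree
  rw [h6, map_one, Nat.sub_self, pow_zero, one_mul, one_mul] at h5
  refine ⟨m, ?_⟩
  have h7 : x ^ m = - ∑ k ∈ Finset.range m, ψ (p.coeff k) * u ^ (m - k) * x ^ k := by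
    rw [eq_neg_iff_add_eq_zero, add_comm]; exact h5
  rw [h7]
  apply Ideal.neg_mem_iff _ |>.mpr
  refine Ideal.sum_mem _ fun k hk => ?_
  have hkm : k < m := Finset.mem_range.mp hk
  have : u ^ (m - k) = u * u ^ (m - k - 1) := by
    rw [← pow_succ', Nat.sub_add_cancel (Nat.sub_pos_of_lt hkm)]
  rw [this]
  rw [Ideal.mem_span_singleton']
  exact ⟨ψ (p.coeff k) * u ^ (m - k - 1) * x ^ k, by ring⟩

variable (φ : R →+* A) (hφi : Function.Injective φ) (hφ : φ.IsIntegral)
  (s : R) (hsA : ∀ a : A, ∃ r : R, φ r = φ s * a)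
  (ψ : R →+* C) (c : C) (hc : c ∈ nonZeroDivisors C)
  (hI : Ideal.map ψ (Ideal.comap φ (Ideal.span {φ s})) = Ideal.span {c})

include hφi hφ hc hI in
/-- `ψ s` generates `I · C` -/
theorem exists_unit : ∃ u : C, IsUnit u ∧ ψ s = c * u := by
  have hsI : s ∈ Ideal.comap φ (Ideal.span {φ s}) := Ideal.mem_span_singleton_self _
  have h1 : ψ s ∈ Ideal.span {c} := by rw [← hI]; exact Ideal.mem_map_of_mem _ hsI
  obtain ⟨u, hu⟩ := Ideal.mem_span_singleton'.mp h1
  refine ⟨u, ?_, by rw [← hu, mul_comm]⟩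
  have hsu : ψ s = c * u := by rw [← hu, mul_comm]
  set J := (Ideal.span {u}).radical with hJ
  have h2 : Ideal.map ψ (Ideal.comap φ (Ideal.span {φ s})) ≤ Ideal.span {c} * J := by
    rw [Ideal.map_le_iff_le_comap]
    intro i hi
    have hi' : φ i ∈ Ideal.span {φ s} := hi
    obtain ⟨a, ha⟩ := Ideal.mem_span_singleton'.mp hi'
    have h3 : ψ i ∈ Ideal.span {c} := by rw [← hI]; exact Ideal.mem_map_of_mem _ hi
    obtain ⟨x, hx⟩ := Ideal.mem_span_singleton'.mp h3
    show ψ i ∈ Ideal.span {c} * J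
    rw [Ideal.mem_span_singleton_mul]
    refine ⟨x, ?_, by rw [← hx, mul_comm]⟩
    exact pow_mem_span_of_integral φ hφi s i a (hφ a) (by rw [← ha, mul_comm]) ψ c u x hc hsu
      (by rw [← hx, mul_comm])
  have h4 : c ∈ Ideal.span {c} * J := h2 (by rw [hI]; exact Ideal.mem_span_singleton_self c)
  obtain ⟨j, hj, hcj⟩ := Ideal.mem_span_singleton_mul.mp h4
  have h5 : j = 1 := by
    have : (j - 1) * c = 0 := by rw [sub_mul, one_mul, mul_comm, hcj, sub_self]
    have := (mem_nonZeroDivisors_iff_right.mp hc) _ this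
    exact sub_eq_zero.mp this
  rw [h5] at hj
  have h6 : Ideal.span {u} = ⊤ := by
    rw [← Ideal.radical_eq_top]
    exact (Ideal.eq_top_iff_one _).mpr hj
  exact Ideal.span_singleton_eq_top.mp h6

include hφi hφ hc hI in
theorem psi_s_mem_nonZeroDivisors : ψ s ∈ nonZeroDivisors C := by
  obtain ⟨u, hu, hsu⟩ := exists_unit φ hφi hφ s ψ c hc hI
  rw [hsu]
  exact mul_mem hc hu.mem_nonZeroDivisors

include hφi hφ hc hI in
theorem exists_quot (r : R) (a : A) (hr : φ r = φ s * a) : ∃ y : C, ψ r = ψ s * y := by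
  obtain ⟨u, hu, hsu⟩ := exists_unit φ hφi hφ s ψ c hc hI
  have hrI : r ∈ Ideal.comap φ (Ideal.span {φ s}) := by
    show φ r ∈ Ideal.span {φ s}
    rw [hr]; exact Ideal.mul_mem_right _ _ (Ideal.mem_span_singleton_self _)
  have h1 : ψ r ∈ Ideal.span {c} := by rw [← hI]; exact Ideal.mem_map_of_mem _ hrI
  obtain ⟨x, hx⟩ := Ideal.mem_span_singleton'.mp h1
  obtain ⟨v, rfl⟩ := hu
  refine ⟨↑v⁻¹ * x, ?_⟩
  rw [hsu, ← hx]
  have : (c * ↑v) * (↑v⁻¹ * x) = c * x * (↑v * ↑v⁻¹) := by ring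
  rw [this, Units.mul_inv, mul_one, mul_comm]

include hφi hφ hsA hc hI in
/-- the extension -/
theorem exists_lift : ∃ χ : A →+* C, χ.comp φ = ψ := by
  have hnzd := psi_s_mem_nonZeroDivisors φ hφi hφ s ψ c hc hI
  have hcancel : ∀ y z : C, ψ s * y = ψ s * z → y = z := by
    intro y z h
    have : (y - z) * ψ s = 0 := by rw [sub_mul, mul_comm y, mul_comm z, h, sub_self]
    exact sub_eq_zero.mp ((mem_nonZeroDivisors_iff_right.mp hnzd) _ this)
  have hex : ∀ a : A, ∃ y : C, ∃ r : R, φ r = φ s * a ∧ ψ r = ψ s * y := by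
    intro a
    obtain ⟨r, hr⟩ := hsA a
    obtain ⟨y, hy⟩ := exists_quot φ hφi hφ s ψ c hc hI r a hr
    exact ⟨y, r, hr, hy⟩
  choose y hy using hex
  have huniq : ∀ (a : A) (r : R) (z : C), φ r = φ s * a → ψ r = ψ s * z → y a = z := by
    intro a r z hr hz
    obtain ⟨r', hr', hy'⟩ := hy a
    have : r' = r := hφi (by rw [hr', hr])
    subst this
    exact hcancel _ _ (by rw [← hy', hz])
  have h1 : y 1 = 1 := huniq 1 s 1 (by rw [mul_one]) (by rw [mul_one])
  have hmul : ∀ a b, y (a * b) = y a * y b := by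
    intro a b
    obtain ⟨ra, hra, hya⟩ := hy a
    obtain ⟨rb, hrb, hyb⟩ := hy b
    obtain ⟨rab, hrab, hyab⟩ := hy (a * b)
    have e : ra * rb = s * rab := hφi (by
      rw [map_mul, map_mul, hra, hrb, hrab]; ring)
    apply hcancel
    apply hcancel
    have e' := congrArg ψ e
    rw [map_mul, map_mul, hya, hyb, hyab] at e'
    rw [← e']; ring
  have hadd : ∀ a b, y (a + b) = y a + y b := by
    intro a b
    obtain ⟨ra, hra, hya⟩ := hy a
    obtain ⟨rb, hrb, hyb⟩ := hy b
    refine huniq (a + b) (ra + rb) _ (by rw [map_add, hra, hrb, mul_add]) ?_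
    rw [map_add, hya, hyb, mul_add]
  have h0 : y 0 = 0 := huniq 0 0 0 (by rw [map_zero, mul_zero]) (by rw [map_zero, mul_zero])
  refine ⟨{ toFun := y, map_one' := h1, map_mul' := hmul, map_zero' := h0, map_add' := hadd }, ?_⟩
  ext r
  show y (φ r) = ψ r
  exact huniq (φ r) (s * r) (ψ r) (by rw [map_mul]) (by rw [map_mul])

end Groth.Agent.Helper4.SN437
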