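import Mathlib
import Groth.Prelude.Def_BlowUp2
import Groth.Agent.Helper4.NApx20

/-!
# A separated morphism, isomorphic off the centre, which has lifts locally, is a blow-up
-/

set_option autoImplicit false
universe u

open CategoryTheory Limits AlgebraicGeometry TopologicalSpace

namespace Groth.Agent.Helper4.SN438

variable {X P : Scheme.{u}} (𝓘 : X.IdealSheafData) (p : P ⟶ X)

/-- maps into `P` over the locus where `p` is an isomorphism are determined by their composites -/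
theorem eq_of_isIso_restrict (U : X.Opens) [IsIso (p ∣_ U)] {T : Scheme.{u}} (a b : T ⟶ P)
    (hab : a ≫ p = b ≫ p) (hr : ∀ t : T, p (a t) ∈ U) : a = b := by
  have hr' : ∀ t : T, p (b t) ∈ U := by
    intro t
    have : p (b t) = p (a t) := by
      show (b ≫ p) t = (a ≫ p) t
      rw [hab]
    rw [this]; exact hr t
  have ha : Set.range a ⊆ Set.range (p ⁻¹ᵁ U).ι := by
    rw [Scheme.Opens.range_ι]; rintro _ ⟨t, rfl⟩; exact hr t
  have hb : Set.range b ⊆ Set.range (p ⁻¹ᵁ U).ι := by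
    rw [Scheme.Opens.range_ι]; rintro _ ⟨t, rfl⟩; exact hr' t
  have e1 : IsOpenImmersion.lift (p ⁻¹ᵁ U).ι a ha ≫ (p ∣_ U) =
      IsOpenImmersion.lift (p ⁻¹ᵁ U).ι b hb ≫ (p ∣_ U) := by
    rw [← cancel_mono U.ι, Category.assoc, Category.assoc, morphismRestrict_ι,
      ← Category.assoc, ← Category.assoc, IsOpenImmersion.lift_fac, IsOpenImmersion.lift_fac, hab]
  have e2 := (cancel_mono (p ∣_ U)).mp e1
  rw [← IsOpenImmersion.lift_fac (p ⁻¹ᵁ U).ι a ha, ← IsOpenImmersion.lift_fac (p ⁻¹ᵁ U).ι b hb, e2]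

variable [IsSeparated p] [IsIso (p ∣_ ModPair.interior 𝓘)]

/-- uniqueness of lifts -/
theorem lift_unique {Y : Scheme.{u}} (g : Y ⟶ X) (hE : BlowUp.IsEffCartierIdeal (𝓘.comap g))
    (h₁ h₂ : Y ⟶ P) (e₁ : h₁ ≫ p = g) (e₂ : h₂ ≫ p = g) : h₁ = h₂ := by
  haveI := Groth.Agent.Helper4.NApx19.isSchemeTheoreticallyDominant_interior_ι _ hE
  refine Groth.Agent.Helper4.NApx20.ext_of_schematicallyDominant_of_isSeparated p
    (e₁.trans e₂.symm) (ModPair.interior (𝓘.comap g)).ι ?_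
  apply eq_of_isIso_restrict p (ModPair.interior 𝓘)
  · rw [Category.assoc, Category.assoc, e₁, e₂]
  · intro t
    have h0 : ∀ z : Y, p (h₁ z) = g z := by
      intro z
      have : (h₁ ≫ p) z = g z := by rw [e₁]
      exact this
    show p (h₁ ((ModPair.interior (𝓘.comap g)).ι t)) ∈ ModPair.interior 𝓘
    rw [h0]
    have h2 : ((ModPair.interior (𝓘.comap g)).ι t) ∈ g ⁻¹ᵁ ModPair.interior 𝓘 :=
      (Groth.Agent.Helper4.NApx19.interior_comap 𝓘 g).le t.2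
    exact h2

/-- the gluing statement -/
theorem isBlowUp_of_affineLocal (hC : BlowUp.IsEffCartierIdeal (𝓘.comap p))
    (𝒲 : Set X.Opens) (h𝒲 : ∀ x : X, ∃ V ∈ 𝒲, x ∈ V)
    (H : ∀ (Y : Scheme.{u}) (g : Y ⟶ X) (C : Y.affineOpens) (b : Γ(Y, C.1)),
      b ∈ nonZeroDivisors Γ(Y, C.1) → (𝓘.comap g).ideal C = Ideal.span {b} →
      (∃ V ∈ 𝒲, C.1 ≤ g ⁻¹ᵁ V) → ∃ h : (C.1 : Scheme.{u}) ⟶ P, h ≫ p = C.1.ι ≫ g) :
    BlowUp.IsBlowUp p 𝓘 := by
  refine ⟨hC, fun Y g hE => ?_⟩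
  suffices hex : ∃ h : Y ⟶ P, h ≫ p = g by
    obtain ⟨h, hh⟩ := hex
    exact ⟨h, hh, fun h' hh' => lift_unique 𝓘 p g hE h' h hh' hh⟩
  choose V hV𝒲 hgV using fun y : Y => h𝒲 (g y)
  choose C hyC hCV b hb hIb using fun y : Y =>
    Groth.Agent.Helper4.NApx19.exists_affine_le (𝓘.comap g) hE y (g ⁻¹ᵁ V y) (hgV y)
  have hcov : IsOpenCover fun y : Y => (C y).1 := by
    apply IsOpenCover.mk
    rw [eq_top_iff]
    intro y _
    exact Opens.mem_iSup.mpr ⟨y, hyC y⟩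
  let 𝒰 := Y.openCoverOfIsOpenCover _ hcov
  have hex : ∀ y : Y, ∃ h : ((C y).1 : Scheme.{u}) ⟶ P, h ≫ p = (C y).1.ι ≫ g :=
    fun y => H Y g (C y) (b y) (hb y) (hIb y) ⟨V y, hV𝒲 y, hCV y⟩
  choose hloc0 hloc0_b using hex
  let hloc : ∀ y : 𝒰.I₀, 𝒰.X y ⟶ P := fun (y : Y) => hloc0 y
  have hloc_b : ∀ y : 𝒰.I₀, hloc y ≫ p = 𝒰.f y ≫ g := fun (y : Y) => hloc0_b y
  have hcompat : ∀ y y' : 𝒰.I₀, pullback.fst (𝒰.f y) (𝒰.f y') ≫ hloc y =
      pullback.snd (𝒰.f y) (𝒰.f y') ≫ hloc y' := by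
    intro y y'
    have hE' : BlowUp.IsEffCartierIdeal (𝓘.comap
        ((pullback.fst (𝒰.f y) (𝒰.f y') ≫ 𝒰.f y) ≫ g)) := by
      rw [Scheme.IdealSheafData.comap_comp]
      exact Groth.Agent.Helper4.NApx19.isEffCartierIdeal_comap_of_flat _ hE _
    apply lift_unique 𝓘 p ((pullback.fst (𝒰.f y) (𝒰.f y') ≫ 𝒰.f y) ≫ g) hE'
    · rw [Category.assoc, hloc_b, Category.assoc]
    · rw [Category.assoc, hloc_b, pullback.condition, Category.assoc]
  refine ⟨𝒰.glueMorphisms hloc hcompat, ?_⟩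
  apply 𝒰.hom_ext
  intro y
  rw [← Category.assoc, 𝒰.ι_glueMorphisms, hloc_b]

end Groth.Agent.Helper4.SN438
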