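import Mathlib
import Groth.Prelude.Def_BlowUp2
import Groth.Agent.Helper4.NApx13

/-!
# Local structure of a finite morphism which is an isomorphism off an effective Cartier divisor
-/

set_option autoImplicit false
set_option linter.unusedSectionVars false
universe u

open CategoryTheory Limits AlgebraicGeometry TopologicalSpace

namespace Groth.Agent.Helper4.SN439

/-- an isomorphism over an open restricts to an isomorphism over a smaller open -/
theorem isIso_restrict_of_le {X Y : Scheme.{u}} (f : X ⟶ Y) (U V : Y.Opens) (hVU : V ≤ U)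
    [IsIso (f ∣_ U)] : IsIso (f ∣_ V) := by
  have e : U.ι ''ᵁ (U.ι ⁻¹ᵁ V) = V := by
    rw [Scheme.Hom.image_preimage_eq_opensRange_inf, Scheme.Opens.opensRange_ι]
    exact inf_eq_right.mpr hVU
  have h1 : IsIso (f ∣_ U ∣_ (U.ι ⁻¹ᵁ V)) := inferInstance
  have h2 : IsIso (f ∣_ U.ι ''ᵁ (U.ι ⁻¹ᵁ V)) :=
    ((MorphismProperty.isomorphisms Scheme.{u}).arrow_mk_iso_iff
      (morphismRestrictRestrict f U (U.ι ⁻¹ᵁ V))).mp h1
  exact ((MorphismProperty.isomorphisms Scheme.{u}).arrow_mk_iso_iff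
      (morphismRestrictEq f e)).mp h2

theorem isIso_app_of_isIso_restrict {X Y : Scheme.{u}} (f : X ⟶ Y) (V : Y.Opens)
    [IsIso (f ∣_ V)] : IsIso (f.app V) := by
  have h1 : IsIso ((f ∣_ V).app ⊤) := inferInstance
  rw [morphismRestrict_app] at h1
  have h2 : IsIso (f.app (V.ι ''ᵁ ⊤)) := by
    have hg : ∀ {A B : X.Opens} (e : A = B), IsIso (X.presheaf.map (eqToHom e).op) := by
      intro A B e
      subst e
      rw [eqToHom_refl, op_id, X.presheaf.map_id]
      infer_instance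
    exact @IsIso.of_isIso_comp_right _ _ _ _ _ (f.app (V.ι ''ᵁ ⊤)) _ (hg _) h1
  rw [Scheme.Opens.ι_image_top] at h2
  exact h2

variable {X Y : Scheme.{u}} (f : X ⟶ Y) (L : Y.IdealSheafData) (V : Y.affineOpens)
  (t : Γ(Y, V.1)) (ht : t ∈ nonZeroDivisors Γ(Y, V.1)) (hLt : L.ideal V = Ideal.span {t})

include hLt in
theorem basicOpen_le_interior : Y.basicOpen t ≤ ModPair.interior L := by
  intro y hy
  have h := Groth.Agent.Helper4.NApx13.interior_inter L V t hLt
  have : y ∈ ((ModPair.interior L : Y.Opens) : Set Y) ∩ (V.1 : Set Y) := by rw [h]; exact hy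
  exact this.1

include hLt in
theorem mem_basicOpen_of_mem {y : Y} (hyV : y ∈ V.1) (hy : y ∉ L.support) : y ∈ Y.basicOpen t := by
  have h := Groth.Agent.Helper4.NApx13.interior_inter L V t hLt
  have : y ∈ ((ModPair.interior L : Y.Opens) : Set Y) ∩ (V.1 : Set Y) := ⟨hy, hyV⟩
  rw [h] at this
  exact this

theorem app_res {U U' : Y.Opens} (e : U' ≤ U) (r : Γ(Y, U)) :
    (f.app U').hom ((Y.presheaf.map (homOfLE e).op).hom r) =
      (X.presheaf.map (homOfLE (f.preimage_mono e)).op).hom ((f.app U).hom r) := by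
  have := f.naturality (homOfLE e).op
  have h2 := congrArg (fun φ => (CommRingCat.Hom.hom φ) r) this
  exact h2

include ht hLt in
/-- `O_Y(V) → O_X(f⁻¹V)` is injective -/
theorem app_injective [IsIso (f ∣_ ModPair.interior L)] :
    Function.Injective (f.app V.1).hom := by
  rw [injective_iff_map_eq_zero]
  intro r hr
  haveI := isIso_restrict_of_le f _ _ (basicOpen_le_interior L V t hLt)
  haveI := isIso_app_of_isIso_restrict f (Y.basicOpen t)
  have h2 : (Y.presheaf.map (homOfLE (Y.basicOpen_le t)).op).hom r = 0 := by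
    apply (ConcreteCategory.bijective_of_isIso (f.app (Y.basicOpen t))).1
    rw [app_res f (Y.basicOpen_le t) r, hr, map_zero, map_zero]
  obtain ⟨n, hn⟩ := exists_pow_mul_eq_zero_of_res_basicOpen_eq_zero_of_isCompact Y
    V.2.isCompact r t h2
  exact (mem_nonZeroDivisors_iff_right.mp (pow_mem ht n)) r (by rw [mul_comm]; exact hn)

include hLt in
/-- the image of `t` is a nonzerodivisor upstairs -/
theorem app_mem_nonZeroDivisors [IsReduced X]
    (hdense : Dense (f ⁻¹' ((L.support : Set Y)ᶜ))) :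
    (f.app V.1).hom t ∈ nonZeroDivisors Γ(X, f ⁻¹ᵁ V.1) := by
  rw [mem_nonZeroDivisors_iff_right]
  intro a ha
  rw [← AlgebraicGeometry.basicOpen_eq_bot_iff]
  by_contra hne
  have hne' : ((X.basicOpen a : X.Opens) : Set X).Nonempty := by
    rw [Set.nonempty_iff_ne_empty]
    intro h
    apply hne
    ext x
    simp only [Opens.coe_bot, Set.mem_empty_iff_false, iff_false]
    intro hx
    have : x ∈ ((X.basicOpen a : X.Opens) : Set X) := hx
    rw [h] at this
    exact this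
  obtain ⟨x, hxa, hxd⟩ := hdense.inter_open_nonempty _ (X.basicOpen a).isOpen hne'
  have hxV : f x ∈ V.1 := X.basicOpen_le a hxa
  have h1 : f x ∈ Y.basicOpen t := mem_basicOpen_of_mem L V t hLt hxV hxd
  have h2 : x ∈ X.basicOpen ((f.app V.1).hom t) := by
    rw [← Scheme.preimage_basicOpen]; exact h1
  have h3 : x ∈ X.basicOpen (a * (f.app V.1).hom t) := by
    rw [Scheme.basicOpen_mul]; exact ⟨hxa, h2⟩
  rw [ha, Scheme.basicOpen_zero] at h3
  exact h3

include hLt in
/-- every section upstairs becomes a section downstairs after multiplication by a power of `t` -/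
theorem exists_pow_mul_eq [IsIso (f ∣_ ModPair.interior L)] [QuasiCompact f]
    (a : Γ(X, f ⁻¹ᵁ V.1)) :
    ∃ (k : ℕ) (r : Γ(Y, V.1)), (f.app V.1).hom r = (f.app V.1).hom t ^ k * a := by
  haveI := isIso_restrict_of_le f _ _ (basicOpen_le_interior L V t hLt)
  haveI := isIso_app_of_isIso_restrict f (Y.basicOpen t)
  set φ := (f.app V.1).hom with hφ
  set D := Y.basicOpen t with hD
  have hDV : D ≤ V.1 := Y.basicOpen_le t
  set aD := (X.presheaf.map (homOfLE (f.preimage_mono hDV)).op).hom a with haD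
  obtain ⟨ρ, hρ⟩ := (ConcreteCategory.bijective_of_isIso (f.app D)).2 aD
  haveI := V.2.isLocalization_basicOpen t
  obtain ⟨⟨r, ⟨_, ⟨k, rfl⟩⟩⟩, hrk⟩ := IsLocalization.surj (Submonoid.powers t) ρ
  have hrk' : ρ * (Y.presheaf.map (homOfLE hDV).op).hom (t ^ k) =
      (Y.presheaf.map (homOfLE hDV).op).hom r := hrk
  have h1 := congrArg (f.app D).hom hrk'
  rw [map_mul, hρ, app_res f hDV, app_res f hDV, haD, ← map_mul] at h1
  have e : f ⁻¹ᵁ D = X.basicOpen (φ t) := Scheme.preimage_basicOpen f t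
  have h2 : (X.presheaf.map (homOfLE (f.preimage_mono hDV)).op).hom (φ t ^ k * a - φ r) = 0 := by
    rw [map_sub, sub_eq_zero, mul_comm, ← map_pow]
    exact h1
  have h3 : (X.presheaf.map (homOfLE (X.basicOpen_le (φ t))).op).hom (φ t ^ k * a - φ r) = 0 := by
    have hle : X.basicOpen (φ t) ≤ f ⁻¹ᵁ D := e.ge
    have h4 : (X.presheaf.map (homOfLE (X.basicOpen_le (φ t))).op) =
        X.presheaf.map (homOfLE (f.preimage_mono hDV)).op ≫ X.presheaf.map (homOfLE hle).op := by
      rw [← Functor.map_comp]; rfl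
    rw [h4, CommRingCat.comp_apply, h2, map_zero]
  have hcomp : IsCompact ((f ⁻¹ᵁ V.1 : X.Opens) : Set X) :=
    QuasiCompact.isCompact_preimage (f := f) _ V.1.isOpen V.2.isCompact
  obtain ⟨n, hn⟩ := exists_pow_mul_eq_zero_of_res_basicOpen_eq_zero_of_isCompact X
    hcomp (φ t ^ k * a - φ r) (φ t) h3
  refine ⟨n + k, t ^ n * r, ?_⟩
  rw [mul_sub, sub_eq_zero] at hn
  rw [map_mul, map_pow, ← hn, pow_add, mul_assoc]

include hLt in
/-- a uniform exponent -/
theorem exists_uniform [IsIso (f ∣_ ModPair.interior L)] [IsFinite f] :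
    ∃ n : ℕ, ∀ a : Γ(X, f ⁻¹ᵁ V.1), ∃ r : Γ(Y, V.1),
      (f.app V.1).hom r = (f.app V.1).hom t ^ n * a := by
  set φ := (f.app V.1).hom with hφ
  have hfin : φ.Finite := f.finite_app V.1 V.2
  letI := φ.toAlgebra
  have hfin' : Module.Finite Γ(Y, V.1) Γ(X, f ⁻¹ᵁ V.1) := hfin
  obtain ⟨S, hS⟩ := hfin'.fg_top
  let N : ℕ → Submodule Γ(Y, V.1) Γ(X, f ⁻¹ᵁ V.1) := fun k =>
    { carrier := {a | ∃ r, φ r = φ t ^ k * a}
      add_mem' := by
        rintro a b ⟨r, hr⟩ ⟨r', hr'⟩
        exact ⟨r + r', by rw [map_add, hr, hr', mul_add]⟩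
      zero_mem' := ⟨0, by rw [map_zero, mul_zero]⟩
      smul_mem' := by
        rintro c a ⟨r, hr⟩
        refine ⟨c * r, ?_⟩
        rw [map_mul, hr, Algebra.smul_def]
        show φ c * (φ t ^ k * a) = φ t ^ k * (φ c * a)
        ring }
  have hmono : ∀ k j, N k ≤ N (k + j) := by
    rintro k j a ⟨r, hr⟩
    refine ⟨t ^ j * r, ?_⟩
    rw [map_mul, map_pow, hr, pow_add]; ring
  have hex : ∀ a : Γ(X, f ⁻¹ᵁ V.1), ∃ k, a ∈ N k := by
    intro a
    obtain ⟨k, r, hr⟩ := exists_pow_mul_eq f L V t hLt a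
    exact ⟨k, r, hr⟩
  choose κ hκ using hex
  refine ⟨S.sup κ, fun a => ?_⟩
  have h1 : (S : Set Γ(X, f ⁻¹ᵁ V.1)) ⊆ N (S.sup κ) := by
    intro b hb
    have hle : κ b ≤ S.sup κ := Finset.le_sup hb
    have := hmono (κ b) (S.sup κ - κ b) (hκ b)
    rw [Nat.add_sub_cancel' hle] at this
    exact this
  have h2 : (⊤ : Submodule Γ(Y, V.1) Γ(X, f ⁻¹ᵁ V.1)) ≤ N (S.sup κ) := by
    rw [← hS]; exact Submodule.span_le.mpr h1
  exact h2 (Submodule.mem_top : a ∈ ⊤)

end Groth.Agent.Helper4.SN439
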