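import Mathlib
import Groth.Prelude.Def_BlowUp2
import Groth.Agent.Helper4.SN437
import Groth.Agent.Helper4.SN438
import Groth.Agent.Helper4.SN439

/-!
# A finite birational morphism which is an isomorphism off an effective Cartier divisor is a
blowing-up (S7894)
-/

set_option autoImplicit false
set_option linter.unusedSectionVars false
universe u

open CategoryTheory Limits AlgebraicGeometry TopologicalSpace

namespace Groth.Agent.Helper4.SN440

open Groth.Agent.Helper4.SN437 Groth.Agent.Helper4.SN438 Groth.Agent.Helper4.SN439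

variable {X Y : Scheme.{u}} (f : X ⟶ Y) (L : Y.IdealSheafData)

theorem surjective_of [IsFinite f] (hL : BlowUp.IsEffCartierIdeal L)
    [IsIso (f ∣_ ModPair.interior L)] : Function.Surjective f := by
  have hcl : IsClosed (Set.range f) := f.isClosedMap.isClosed_range
  have hsub : ((ModPair.interior L : Y.Opens) : Set Y) ⊆ Set.range f := by
    intro y hy
    obtain ⟨x', hx'⟩ := (f ∣_ ModPair.interior L).surjective ⟨y, hy⟩
    refine ⟨x'.1, ?_⟩
    have h1 : ((f ∣_ ModPair.interior L) ≫ (ModPair.interior L).ι) x' =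
        ((f ⁻¹ᵁ ModPair.interior L).ι ≫ f) x' := by rw [morphismRestrict_ι]
    have h2 : ((f ∣_ ModPair.interior L) ≫ (ModPair.interior L).ι) x' = y := by
      show (ModPair.interior L).ι ((f ∣_ ModPair.interior L) x') = y
      rw [hx']; rfl
    rw [h2] at h1
    exact h1.symm
  have hd := Groth.Agent.Helper4.NApx13.dense_interior L hL
  have : Set.range f = Set.univ := by
    apply Set.eq_univ_of_univ_subset
    rw [← hd.closure_eq]
    exact closure_minimal hsub hcl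
  exact Set.range_eq_univ.mp this

/-- the ideal sheaf `φ⁻¹(𝓛ⁿ · f_* O_X)` -/
noncomputable def center (n : ℕ) : Y.IdealSheafData := ((L ^ n).comap f).map f

theorem ideal_center [IsAffineHom f] (n : ℕ) (V : Y.affineOpens) (t : Γ(Y, V.1))
    (hLt : L.ideal V = Ideal.span {t}) :
    (center f L n).ideal V =
      Ideal.comap (f.app V.1).hom (Ideal.span {(f.app V.1).hom (t ^ n)}) := by
  rw [center, Scheme.IdealSheafData.ideal_map_of_isAffineHom]
  congr 1
  rw [Groth.Agent.Helper9.IdealComap.ideal_comap f (L ^ n) V ⟨_, V.2.preimage f⟩ le_rfl,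
    Scheme.IdealSheafData.ideal_pow, Pi.pow_apply, hLt, Ideal.span_singleton_pow, Ideal.map_span,
    Set.image_singleton, ← Scheme.Hom.app_eq_appLE]

variable [IsFinite f] [IsIso (f ∣_ ModPair.interior L)]

section Local

variable (V : Y.affineOpens) (t : Γ(Y, V.1)) (ht : t ∈ nonZeroDivisors Γ(Y, V.1))
  (hLt : L.ideal V = Ideal.span {t}) (n : ℕ)
  (hn : ∀ a : Γ(X, f ⁻¹ᵁ V.1), ∃ r : Γ(Y, V.1),
      (f.app V.1).hom r = (f.app V.1).hom (t ^ n) * a)

include hLt hn in
theorem ideal_comap_center :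
    ((center f L n).comap f).ideal ⟨f ⁻¹ᵁ V.1, V.2.preimage f⟩ =
      Ideal.span {(f.app V.1).hom (t ^ n)} := by
  rw [Groth.Agent.Helper9.IdealComap.ideal_comap f _ V ⟨_, V.2.preimage f⟩ le_rfl,
    ideal_center f L n V t hLt, ← Scheme.Hom.app_eq_appLE]
  apply le_antisymm Ideal.map_comap_le
  rw [Ideal.span_singleton_le_iff_mem]
  exact Ideal.mem_map_of_mem _ (Ideal.mem_span_singleton_self _)

include ht hLt hn in
/-- local lifts -/
theorem exists_local_lift (Z : Scheme.{u}) (g : Z ⟶ Y) (C : Z.affineOpens) (b : Γ(Z, C.1))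
    (hb : b ∈ nonZeroDivisors Γ(Z, C.1))
    (hIb : ((center f L n).comap g).ideal C = Ideal.span {b}) (hCV : C.1 ≤ g ⁻¹ᵁ V.1) :
    ∃ h : (C.1 : Scheme.{u}) ⟶ X, h ≫ f = C.1.ι ≫ g := by
  set φ := (f.app V.1).hom with hφ
  set ψ := (g.appLE V.1 C.1 hCV).hom with hψ
  have hI : Ideal.map ψ (Ideal.comap φ (Ideal.span {φ (t ^ n)})) = Ideal.span {b} := by
    rw [← hIb, Groth.Agent.Helper9.IdealComap.ideal_comap g _ V C hCV, ideal_center f L n V t hLt]
  obtain ⟨χ, hχ⟩ := exists_lift φ (app_injective f L V t ht hLt)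
    (f.finite_app V.1 V.2).to_isIntegral (t ^ n) hn ψ b hb hI
  have hX : IsAffineOpen (f ⁻¹ᵁ V.1) := V.2.preimage f
  refine ⟨C.2.isoSpec.hom ≫ Spec.map (CommRingCat.ofHom χ) ≫ hX.fromSpec, ?_⟩
  have e1 : Spec.map (f.appLE V.1 (f ⁻¹ᵁ V.1) le_rfl) ≫ V.2.fromSpec = hX.fromSpec ≫ f :=
    IsAffineOpen.SpecMap_appLE_fromSpec f V.2 hX le_rfl
  have e2 : Spec.map (g.appLE V.1 C.1 hCV) ≫ V.2.fromSpec = C.2.fromSpec ≫ g :=
    IsAffineOpen.SpecMap_appLE_fromSpec g V.2 C.2 hCV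
  have e3 : f.appLE V.1 (f ⁻¹ᵁ V.1) le_rfl ≫ CommRingCat.ofHom χ = g.appLE V.1 C.1 hCV := by
    ext r
    rw [← Scheme.Hom.app_eq_appLE]
    exact congrArg (fun ρ : Γ(Y, V.1) →+* Γ(Z, C.1) => ρ r) hχ
  rw [Category.assoc, Category.assoc, ← e1, ← Spec.map_comp_assoc, e3, e2,
    ← IsAffineOpen.isoSpec_inv_ι]
  simp only [Category.assoc, Iso.hom_inv_id_assoc]

end Local

/-- S7894 -/
theorem main7894 [IsNoetherian X] [IsNoetherian Y] [IsReduced X] [IsReduced Y]
    (hL : BlowUp.IsEffCartierIdeal L)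
    (hdense : Dense (f ⁻¹' ((L.support : Set Y)ᶜ))) :
    ∃ I : Y.IdealSheafData, I.support = L.support ∧ BlowUp.IsBlowUp f I := by
  choose W hyW a ha hIa using hL
  obtain ⟨T, hT⟩ := isCompact_univ.elim_finite_subcover (fun y : Y => ((W y).1 : Set Y))
    (fun y => (W y).1.isOpen) (fun y _ => Set.mem_iUnion.mpr ⟨y, hyW y⟩)
  have hcovT : ∀ y : Y, ∃ y₀ ∈ T, y ∈ (W y₀).1 := by
    intro y
    obtain ⟨y₀, hy₀, hy⟩ := Set.mem_iUnion₂.mp (hT (Set.mem_univ y))
    exact ⟨y₀, hy₀, hy⟩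
  choose ν hν using fun y : Y => exists_uniform f L (W y) (a y) (hIa y)
  set n := T.sup ν + 1 with hn
  have hunif : ∀ y₀ ∈ T, ∀ z : Γ(X, f ⁻¹ᵁ (W y₀).1), ∃ r : Γ(Y, (W y₀).1),
      (f.app (W y₀).1).hom r = (f.app (W y₀).1).hom (a y₀ ^ n) * z := by
    intro y₀ hy₀ z
    obtain ⟨r, hr⟩ := hν y₀ z
    have hle : ν y₀ ≤ n := (Finset.le_sup hy₀).trans (Nat.le_succ _)
    refine ⟨a y₀ ^ (n - ν y₀) * r, ?_⟩
    rw [map_mul, hr, ← mul_assoc, ← map_pow, ← map_mul, ← pow_add, Nat.sub_add_cancel hle]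
  have hsupp : (center f L n).support = L.support := by
    have hsurj := surjective_of f L (fun y => ⟨W y, hyW y, a y, ha y, hIa y⟩)
    ext y
    obtain ⟨y₀, hy₀, hy⟩ := hcovT y
    show y ∈ (center f L n).support ↔ y ∈ L.support
    rw [Scheme.IdealSheafData.mem_support_iff_of_mem (U := W y₀) hy,
      Scheme.IdealSheafData.mem_support_iff_of_mem (U := W y₀) hy, hIa y₀,
      ideal_center f L n (W y₀) (a y₀) (hIa y₀), Scheme.zeroLocus_span,
      Scheme.zeroLocus_singleton]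
    set φ := (f.app (W y₀).1).hom with hφ
    constructor
    · intro h hya
      have h1 : a y₀ ^ n ∈ Ideal.comap φ (Ideal.span {φ (a y₀ ^ n)}) :=
        Ideal.mem_span_singleton_self _
      have h2 := (Scheme.mem_zeroLocus_iff _ _ _).mp h _ h1
      apply h2
      rw [hn, Scheme.basicOpen_pow _ _ (Nat.succ_pos _)]
      exact hya
    · intro h
      rw [Scheme.mem_zeroLocus_iff]
      intro r hr hyr
      apply h
      obtain ⟨x, rfl⟩ := hsurj y
      have hr' : φ r ∈ Ideal.span {φ (a y₀ ^ n)} := hr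
      obtain ⟨c, hc⟩ := Ideal.mem_span_singleton'.mp hr'
      have h3 : x ∈ X.basicOpen (φ r) := by
        rw [← Scheme.preimage_basicOpen]; exact hyr
      rw [← hc, Scheme.basicOpen_mul, map_pow, hn,
        Scheme.basicOpen_pow _ _ (Nat.succ_pos _)] at h3
      have h4 : x ∈ f ⁻¹ᵁ Y.basicOpen (a y₀) := by
        rw [Scheme.preimage_basicOpen]; exact h3.2
      exact h4
  refine ⟨center f L n, hsupp, ?_⟩
  · haveI : IsIso (f ∣_ ModPair.interior (center f L n)) := by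
      have e : ModPair.interior (center f L n) = ModPair.interior L := by
        unfold ModPair.interior; rw [hsupp]
      rw [e]; infer_instance
    apply isBlowUp_of_affineLocal (center f L n) f ?_ {V | ∃ y₀ ∈ T, V = (W y₀).1}
    · intro y
      obtain ⟨y₀, hy₀, hy⟩ := hcovT y
      exact ⟨_, ⟨y₀, hy₀, rfl⟩, hy⟩
    · rintro Z g C b hb hIb ⟨_, ⟨y₀, hy₀, rfl⟩, hCV⟩
      exact exists_local_lift f L (W y₀) (a y₀) (ha y₀) (hIa y₀) n (hunif y₀ hy₀) Z g C b hb hIb hCV
    · intro x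
      obtain ⟨y₀, hy₀, hy⟩ := hcovT (f x)
      refine ⟨⟨f ⁻¹ᵁ (W y₀).1, (W y₀).2.preimage f⟩, hy, (f.app (W y₀).1).hom (a y₀ ^ n), ?_,
        ideal_comap_center f L (W y₀) (a y₀) (hIa y₀) n (hunif y₀ hy₀)⟩
      rw [map_pow]
      exact pow_mem (app_mem_nonZeroDivisors f L (W y₀) (a y₀) (hIa y₀) hdense) n

end Groth.Agent.Helper4.SN440
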