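import Mathlib
import Groth.Agent.Helper2.LfpComp

/-!
# Locally constructible integer-valued functions
-/

set_option autoImplicit false
universe u

open Topology Set AlgebraicGeometry CategoryTheory TopologicalSpace
open scoped Set.Notation

namespace Groth.Agent.Helper4.SN441

section Top

variable {X : Type*} [TopologicalSpace X]

theorem isLocallyConstructible_of_local {s : Set X}
    (H : ∀ x, ∃ U : Set X, IsOpen U ∧ x ∈ U ∧ ∃ t : Set X, IsLocallyConstructible t ∧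
      s ∩ U = t ∩ U) : IsLocallyConstructible s := by
  intro x
  obtain ⟨U, hU, hxU, t, ht, hst⟩ := H x
  obtain ⟨W, hW, hWo, hc⟩ := ht x
  refine ⟨W ∩ U, Filter.inter_mem hW (hU.mem_nhds hxU), hWo.inter hU, ?_⟩
  have h1 : IsConstructible ((W ∩ U) ↓∩ t) :=
    (hc.preimage_of_isOpenEmbedding
      (IsOpenEmbedding.id.restrict (inter_subset_left : W ∩ U ⊆ W) (hWo.inter hU)) :)
  have h2 : ((W ∩ U) ↓∩ s) = ((W ∩ U) ↓∩ t) := by
    ext ⟨y, hy⟩
    simp only [mem_preimage]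
    constructor
    · intro h
      have : y ∈ t ∩ U := hst ▸ (⟨h, hy.2⟩ : y ∈ s ∩ U)
      exact this.1
    · intro h
      have : y ∈ s ∩ U := hst.symm ▸ (⟨h, hy.2⟩ : y ∈ t ∩ U)
      exact this.1
  rw [h2]; exact h1

theorem isLocallyConstructible_compl {s : Set X} (hs : IsLocallyConstructible s) :
    IsLocallyConstructible sᶜ := by
  intro x
  obtain ⟨U, hU, hUo, hc⟩ := hs x
  exact ⟨U, hU, hUo, by simpa using hc.compl⟩

theorem isLocallyConstructible_of_isClopen {s : Set X} (hs : IsClopen s) :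
    IsLocallyConstructible s :=
  IsRetrocompact.isLocallyConstructible hs.2 fun V hVc _ => hVc.inter_left hs.1

/-- locally constructible functions: level sets are locally constructible and the range is
locally finite -/
def CF (ω : X → ℤ) : Prop :=
  (∀ n : ℤ, IsLocallyConstructible {x | ω x = n}) ∧ ∀ x, ∃ U ∈ 𝓝 x, (ω '' U).Finite

theorem CF.of_isLocallyConstant {ω : X → ℤ} (h : IsLocallyConstant ω) : CF ω := by
  refine ⟨fun n => isLocallyConstructible_of_isClopen ⟨h.isClosed_fiber n, h.isOpen_fiber n⟩,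
    fun x => ⟨ω ⁻¹' {ω x}, (h.isOpen_fiber (ω x)).mem_nhds rfl, ?_⟩⟩
  exact (Set.finite_singleton (ω x)).subset (by rintro _ ⟨y, hy, rfl⟩; exact hy)

theorem CF.finite_image {ω : X → ℤ} (h : CF ω) {K : Set X} (hK : IsCompact K) :
    (ω '' K).Finite := by
  choose U hU hfin using h.2
  obtain ⟨σ, -, hσ⟩ := hK.elim_nhds_subcover U (fun x _ => hU x)
  refine (σ.finite_toSet.biUnion fun x _ => hfin x).subset ?_
  rintro _ ⟨y, hy, rfl⟩
  obtain ⟨x, hx, hyx⟩ := mem_iUnion₂.mp (hσ hy)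
  exact mem_iUnion₂.mpr ⟨x, hx, y, hyx, rfl⟩

theorem CF.sub {ω₁ ω₂ : X → ℤ} (h₁ : CF ω₁) (h₂ : CF ω₂) : CF (fun x => ω₁ x - ω₂ x) := by
  refine ⟨fun n => isLocallyConstructible_of_local fun x => ?_, fun x => ?_⟩
  · obtain ⟨U₁, hU₁, hF₁⟩ := h₁.2 x
    refine ⟨interior U₁, isOpen_interior, mem_interior_iff_mem_nhds.mpr hU₁,
      ⋃ a ∈ ω₁ '' U₁, ({y | ω₁ y = a} ∩ {y | ω₂ y = a - n}),
      .biUnion hF₁ fun a _ => (h₁.1 a).inter (h₂.1 (a - n)), ?_⟩
    ext y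
    simp only [mem_inter_iff, mem_setOf_eq, mem_iUnion, exists_prop]
    constructor
    · rintro ⟨hy, hyU⟩
      exact ⟨⟨ω₁ y, ⟨y, interior_subset hyU, rfl⟩, rfl, by omega⟩, hyU⟩
    · rintro ⟨⟨a, -, ha1, ha2⟩, hyU⟩
      exact ⟨by omega, hyU⟩
  · obtain ⟨U₁, hU₁, hF₁⟩ := h₁.2 x
    obtain ⟨U₂, hU₂, hF₂⟩ := h₂.2 x
    refine ⟨U₁ ∩ U₂, Filter.inter_mem hU₁ hU₂, (hF₁.image2 (fun a b => a - b) hF₂).subset ?_⟩
    rintro _ ⟨y, ⟨hy1, hy2⟩, rfl⟩
    exact ⟨ω₁ y, ⟨y, hy1, rfl⟩, ω₂ y, ⟨y, hy2, rfl⟩, rfl⟩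

theorem CF.map₂ (g : ℤ → ℤ → ℤ) {ω₁ ω₂ : X → ℤ} (h₁ : CF ω₁) (h₂ : CF ω₂) :
    CF (fun x => g (ω₁ x) (ω₂ x)) := by
  refine ⟨fun n => isLocallyConstructible_of_local fun x => ?_, fun x => ?_⟩
  · obtain ⟨U₁, hU₁, hF₁⟩ := h₁.2 x
    obtain ⟨U₂, hU₂, hF₂⟩ := h₂.2 x
    have hfin : {p ∈ (ω₁ '' U₁) ×ˢ (ω₂ '' U₂) | g p.1 p.2 = n}.Finite :=
      (hF₁.prod hF₂).subset (sep_subset _ _)
    refine ⟨interior U₁ ∩ interior U₂, isOpen_interior.inter isOpen_interior,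
      ⟨mem_interior_iff_mem_nhds.mpr hU₁, mem_interior_iff_mem_nhds.mpr hU₂⟩,
      ⋃ p ∈ {p ∈ (ω₁ '' U₁) ×ˢ (ω₂ '' U₂) | g p.1 p.2 = n},
        ({y | ω₁ y = p.1} ∩ {y | ω₂ y = p.2}),
      .biUnion hfin fun p _ => (h₁.1 p.1).inter (h₂.1 p.2), ?_⟩
    ext y
    simp only [mem_inter_iff, mem_setOf_eq, mem_iUnion, exists_prop, mem_prod, mem_image]
    constructor
    · rintro ⟨hy, hyU₁, hyU₂⟩
      exact ⟨⟨(ω₁ y, ω₂ y), ⟨⟨⟨y, interior_subset hyU₁, rfl⟩, ⟨y, interior_subset hyU₂, rfl⟩⟩, hy⟩,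
        rfl, rfl⟩, hyU₁, hyU₂⟩
    · rintro ⟨⟨p, ⟨-, hp⟩, ha1, ha2⟩, hyU⟩
      exact ⟨by rw [ha1, ha2]; exact hp, hyU⟩
  · obtain ⟨U₁, hU₁, hF₁⟩ := h₁.2 x
    obtain ⟨U₂, hU₂, hF₂⟩ := h₂.2 x
    refine ⟨U₁ ∩ U₂, Filter.inter_mem hU₁ hU₂, (hF₁.image2 g hF₂).subset ?_⟩
    rintro _ ⟨y, ⟨hy1, hy2⟩, rfl⟩
    exact ⟨ω₁ y, ⟨y, hy1, rfl⟩, ω₂ y, ⟨y, hy2, rfl⟩, rfl⟩

theorem CF.add {ω₁ ω₂ : X → ℤ} (h₁ : CF ω₁) (h₂ : CF ω₂) : CF (fun x => ω₁ x + ω₂ x) :=
  CF.map₂ (fun a b => a + b) h₁ h₂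

theorem CF.const (c : ℤ) : CF (fun _ : X => c) :=
  CF.of_isLocallyConstant (IsLocallyConstant.const c)

theorem CF.map (g : ℤ → ℤ) {ω : X → ℤ} (h : CF ω) : CF (fun x => g (ω x)) :=
  CF.map₂ (fun a _ => g a) h (CF.const 0)

theorem CF.finset_sum {ι : Type*} (s : Finset ι) (F : ι → X → ℤ) (h : ∀ i ∈ s, CF (F i)) :
    CF (fun x => ∑ i ∈ s, F i x) := by
  classical
  induction s using Finset.induction_on with
  | empty => simpa using CF.const (X := X) 0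
  | insert a s ha ih =>
    have h1 : CF (F a) := h a (Finset.mem_insert_self a s)
    have h2 := ih fun i hi => h i (Finset.mem_insert_of_mem hi)
    have := h1.add h2
    refine (congrArg CF ?_).mp this
    funext x
    rw [Finset.sum_insert ha]

/-- a function whose sets `{k ≤ ω}` are locally constructible and with values in `[0, m]` -/
theorem CF.of_le {ω : X → ℤ} (m : ℤ) (h0 : ∀ x, 0 ≤ ω x) (hm : ∀ x, ω x ≤ m)
    (H : ∀ k : ℕ, IsLocallyConstructible {x | (k : ℤ) ≤ ω x}) : CF ω := by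
  refine ⟨fun n => ?_, fun x => ⟨univ, Filter.univ_mem, (Set.finite_Icc 0 m).subset ?_⟩⟩
  · by_cases hn : 0 ≤ n
    · obtain ⟨k, rfl⟩ := Int.eq_ofNat_of_zero_le hn
      have h1 := (H k).inter (isLocallyConstructible_compl (H (k + 1)))
      refine (congrArg IsLocallyConstructible ?_).mp h1
      ext x
      simp only [mem_inter_iff, mem_setOf_eq, mem_compl_iff, not_le]
      push_cast
      omega
    · have : {x | ω x = n} = ∅ := by
        ext x
        simp only [mem_setOf_eq, mem_empty_iff_false, iff_false]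
        intro h
        have := h0 x
        omega
      rw [this]
      exact isLocallyConstructible_of_isClopen isClopen_empty
  · rintro _ ⟨y, -, rfl⟩
    exact ⟨h0 y, hm y⟩

/-- a function which agrees locally with locally constructible functions -/
theorem CF.of_local {ω : X → ℤ}
    (H : ∀ x, ∃ U : Set X, IsOpen U ∧ x ∈ U ∧ ∃ ω' : X → ℤ, CF ω' ∧ ∀ y ∈ U, ω y = ω' y) :
    CF ω := by
  refine ⟨fun n => isLocallyConstructible_of_local fun x => ?_, fun x => ?_⟩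
  · obtain ⟨U, hU, hxU, ω', hω', heq⟩ := H x
    refine ⟨U, hU, hxU, {y | ω' y = n}, hω'.1 n, ?_⟩
    ext y
    simp only [mem_inter_iff, mem_setOf_eq]
    constructor
    · rintro ⟨h, hy⟩; exact ⟨by rw [← heq y hy]; exact h, hy⟩
    · rintro ⟨h, hy⟩; exact ⟨by rw [heq y hy]; exact h, hy⟩
  · obtain ⟨U, hU, hxU, ω', hω', heq⟩ := H x
    obtain ⟨U', hU', hF⟩ := hω'.2 x
    refine ⟨U ∩ U', Filter.inter_mem (hU.mem_nhds hxU) hU', hF.subset ?_⟩
    rintro _ ⟨y, ⟨hy1, hy2⟩, rfl⟩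
    exact ⟨y, hy2, (heq y hy1).symm⟩

end Top

section Sch

theorem isLocallyConstructible_preimage {X Y : Scheme.{u}} (f : X ⟶ Y) {s : Set Y}
    (hs : IsLocallyConstructible s) : IsLocallyConstructible (f ⁻¹' s) := by
  intro x
  obtain ⟨V, hVx, hV, hc⟩ := hs (f x)
  refine ⟨f ⁻¹' V, f.continuous.continuousAt.preimage_mem_nhds hVx, hV.preimage f.continuous, ?_⟩
  have h1 := (f ∣_ ⟨V, hV⟩).isConstructible_preimage hc
  have h2 : ((f ∣_ ⟨V, hV⟩) ⁻¹' (Subtype.val ⁻¹' s) : Set ↥(f ⁻¹ᵁ ⟨V, hV⟩)) =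
      (fun z : ↥(f ⁻¹ᵁ ⟨V, hV⟩) => (z : X)) ⁻¹' (f ⁻¹' s) := by
    ext z
    simp only [mem_preimage]
    rw [← morphismRestrict_base_coe f ⟨V, hV⟩ z]
  exact (congrArg IsConstructible h2).mp h1

theorem CF.comp {X Y : Scheme.{u}} (f : X ⟶ Y) {ω : Y → ℤ} (h : CF ω) : CF (ω ∘ f) := by
  refine ⟨fun n => isLocallyConstructible_preimage f (h.1 n), fun x => ?_⟩
  obtain ⟨U, hU, hF⟩ := h.2 (f x)
  refine ⟨f ⁻¹' U, f.continuous.continuousAt.preimage_mem_nhds hU, hF.subset ?_⟩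
  rintro _ ⟨y, hy, rfl⟩
  exact ⟨f y, hy, rfl⟩

/-- descent of local constructibility along étale morphisms -/
theorem CF.of_etale_cover {X : Scheme.{u}} (ω : X → ℤ)
    (H : ∀ x : X, ∃ (U : Scheme.{u}) (h : U ⟶ X), Etale h ∧ x ∈ Set.range h ∧ CF (ω ∘ h)) :
    CF ω := by
  -- local data
  have key : ∀ x : X, ∃ O : X.Opens, x ∈ O ∧ (ω '' (O : Set X)).Finite ∧
      ∀ n : ℤ, IsLocallyConstructible ((O : Set X) ↓∩ {y | ω y = n}) := by
    intro x
    obtain ⟨U, h, hh, ⟨u, rfl⟩, hω⟩ := H x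
    haveI := hh
    obtain ⟨_, ⟨(X' : X.Opens), hX', rfl⟩, hxX', -⟩ := X.isBasis_affineOpens.exists_subset_of_mem_open
      (Set.mem_univ (h u)) isOpen_univ
    obtain ⟨_, ⟨(U' : U.Opens), hU', rfl⟩, huU', hU'X'⟩ := U.isBasis_affineOpens.exists_subset_of_mem_open
      (show u ∈ ((h ⁻¹ᵁ X' : U.Opens) : Set U) from hxX') (h ⁻¹ᵁ X').isOpen
    set k : (U' : Scheme.{u}) ⟶ X := U'.ι ≫ h with hk
    have hopen : IsOpenMap k := k.isOpenMap
    set O : X.Opens := ⟨Set.range k, hopen.isOpen_range⟩ with hO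
    have hOX' : O ≤ X' := by
      rintro _ ⟨z, rfl⟩
      exact hU'X' z.2
    have hrange : Set.range k ⊆ Set.range O.ι := by
      rw [Scheme.Opens.range_ι]; exact subset_rfl
    set k₀ : (U' : Scheme.{u}) ⟶ (O : Scheme.{u}) := IsOpenImmersion.lift O.ι k hrange with hk₀
    have hk₀ι : k₀ ≫ O.ι = k := IsOpenImmersion.lift_fac _ _ _
    have hk₀v : ∀ z, O.ι (k₀ z) = k z := by
      intro z
      have : (k₀ ≫ O.ι) z = k z := by rw [hk₀ι]
      exact this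
    haveI : CompactSpace (U' : Scheme.{u}) := isCompact_iff_compactSpace.mp hU'.isCompact
    haveI : QuasiSeparatedSpace (O : Scheme.{u}) :=
      (isQuasiSeparated_iff_quasiSeparatedSpace _ O.isOpen).mp
        (hX'.isQuasiSeparated.of_subset hOX')
    haveI : LocallyOfFinitePresentation k₀ :=
      Groth.Agent.Helper2.LfpComp.locallyOfFinitePresentation_of_comp k₀ O.ι
        (by rw [hk₀ι]; infer_instance) inferInstance
    have hωk : CF (ω ∘ k) := by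
      have := CF.comp U'.ι hω
      exact this
    refine ⟨O, ⟨⟨u, huU'⟩, rfl⟩, ?_, fun n => ?_⟩
    · have h1 := hωk.finite_image (isCompact_univ (X := (U' : Scheme.{u})))
      refine h1.subset ?_
      rintro _ ⟨_, ⟨z, rfl⟩, rfl⟩
      exact ⟨z, Set.mem_univ _, rfl⟩
    · have h1 := k₀.isLocallyConstructible_image (hωk.1 n)
      have h2 : (k₀ '' {z | (ω ∘ k) z = n} : Set ↥(O : Scheme.{u})) =
          (fun y : ↥(O : Scheme.{u}) => O.ι y) ⁻¹' {y | ω y = n} := by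
        ext y
        simp only [mem_preimage, mem_setOf_eq, mem_image, Function.comp_apply]
        constructor
        · rintro ⟨z, hz, rfl⟩
          rw [hk₀v z]; exact hz
        · intro hyn
          obtain ⟨z, hz⟩ : (O.ι y) ∈ Set.range k := y.2
          refine ⟨z, by rw [hz]; exact hyn, ?_⟩
          apply O.ι.isOpenEmbedding.injective
          rw [hk₀v z, hz]
      exact (congrArg IsLocallyConstructible h2).mp h1
  choose O hxO hfin hlc using key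
  have hcov : IsOpenCover O := by
    apply IsOpenCover.mk
    rw [eq_top_iff]
    intro x _
    exact Opens.mem_iSup.mpr ⟨x, hxO x⟩
  refine ⟨fun n => .of_isOpenCover hcov fun x => hlc x n, fun x => ?_⟩
  exact ⟨O x, (O x).isOpen.mem_nhds (hxO x), hfin x⟩

end Sch

end Groth.Agent.Helper4.SN441
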