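import Mathlib
import Groth.Agent.Helper4.SN396
import Groth.Agent.Helper2.LfpComp

/-!
# The complement of the diagonal of a separated quasi-finite morphism
-/

set_option autoImplicit false
universe u

open Topology Set AlgebraicGeometry CategoryTheory CategoryTheory.Limits TopologicalSpace

namespace Groth.Agent.Helper4.SN442

/-- the complement of the support of a finite type ideal meets affine opens in compact sets -/
theorem isCompact_compl_support_inter {P : Scheme.{u}} (I : P.IdealSheafData)
    (hI : BlowUp.IsFiniteTypeIdeal I) (V : P.Opens) (hV : IsAffineOpen V) :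
    IsCompact (((I.support : Set P)ᶜ) ∩ (V : Set P)) := by
  obtain ⟨s, hs⟩ := hI ⟨V, hV⟩
  have h1 := I.coe_support_inter ⟨V, hV⟩
  rw [← hs, Scheme.zeroLocus_span] at h1
  have h2 : ((I.support : Set P)ᶜ) ∩ (V : Set P) = ⋃ f ∈ s, (P.basicOpen f : Set P) := by
    ext x
    simp only [mem_inter_iff, mem_compl_iff, mem_iUnion, SetLike.mem_coe, exists_prop]
    constructor
    · rintro ⟨hx1, hx2⟩
      by_contra hcon
      push Not at hcon
      apply hx1
      have : x ∈ P.zeroLocus (U := V) (s : Set Γ(P, V)) ∩ V := by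
        refine ⟨?_, hx2⟩
        rw [Scheme.mem_zeroLocus_iff]
        intro f hf
        exact hcon f hf
      rw [← h1] at this
      exact this.1
    · rintro ⟨f, hf, hxf⟩
      have hxV : x ∈ V := P.basicOpen_le f hxf
      refine ⟨fun hx => ?_, hxV⟩
      have : x ∈ P.zeroLocus (U := V) (s : Set Γ(P, V)) ∩ V := by
        rw [← h1]; exact ⟨hx, hxV⟩
      exact (Scheme.mem_zeroLocus_iff _ _ _).mp this.1 f hf hxf
  rw [h2]
  exact s.finite_toSet.isCompact_biUnion fun f _ => (hV.basicOpen f).isCompact

/-- the complement of the image of a closed immersion of finite presentation is retrocompact -/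
theorem quasiCompact_ι_of_compl_range {Z P : Scheme.{u}} (i : Z ⟶ P) [IsClosedImmersion i]
    [LocallyOfFinitePresentation i] (U : P.Opens) (hU : (U : Set P) = (Set.range i)ᶜ) :
    QuasiCompact U.ι := by
  rw [quasiCompact_iff_forall_isAffineOpen]
  intro V hV
  have h1 := isCompact_compl_support_inter i.ker (SN396.isFiniteTypeIdeal_ker i) V hV
  rw [SN396.support_ker_of_isClosedImmersion, ← hU] at h1
  have h2 : (U.ι ⁻¹ᵁ V : Set U) = U.ι ⁻¹' ((U : Set P) ∩ V) := by
    ext x
    simp only [Opens.map_coe, mem_preimage, mem_inter_iff, SetLike.mem_coe]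
    exact ⟨fun h => ⟨x.2, h⟩, fun h => h.2⟩
  rw [h2]
  exact U.ι.isOpenEmbedding.isInducing.isCompact_preimage' h1
    (by rw [Scheme.Opens.range_ι]; exact inter_subset_left)

section Diag

variable {R X : Scheme.{u}} (ρ : R ⟶ X)

instance diagonal_lfp [LocallyOfFiniteType ρ] :
    LocallyOfFinitePresentation (pullback.diagonal ρ) :=
  Groth.Agent.Helper2.LfpComp.locallyOfFinitePresentation_of_comp (pullback.diagonal ρ)
    (pullback.fst ρ ρ) (by rw [pullback.diagonal_fst]; infer_instance) inferInstance

/-- the complement of the diagonal -/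
noncomputable def offDiag [IsSeparated ρ] : (pullback ρ ρ).Opens :=
  ⟨(Set.range (pullback.diagonal ρ))ᶜ,
    (pullback.diagonal ρ).isClosedEmbedding.isClosed_range.isOpen_compl⟩

theorem coe_offDiag [IsSeparated ρ] :
    (offDiag ρ : Set ↑(pullback ρ ρ)) = (Set.range (pullback.diagonal ρ))ᶜ := rfl

instance quasiCompact_offDiag_ι [IsSeparated ρ] [LocallyOfFiniteType ρ] :
    QuasiCompact (offDiag ρ).ι :=
  quasiCompact_ι_of_compl_range (pullback.diagonal ρ) (offDiag ρ) rfl

/-- the first projection from the complement of the diagonal -/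
noncomputable def p1 [IsSeparated ρ] : (offDiag ρ : Scheme.{u}) ⟶ R :=
  (offDiag ρ).ι ≫ pullback.fst ρ ρ

/-- the second projection from the complement of the diagonal -/
noncomputable def p2 [IsSeparated ρ] : (offDiag ρ : Scheme.{u}) ⟶ R :=
  (offDiag ρ).ι ≫ pullback.snd ρ ρ

instance [IsSeparated ρ] [LocallyQuasiFinite ρ] : LocallyQuasiFinite (p1 ρ) := by
  unfold p1; infer_instance

instance [IsSeparated ρ] [LocallyOfFinitePresentation ρ] :
    LocallyOfFinitePresentation (p1 ρ) := by
  unfold p1; infer_instance

instance [IsSeparated ρ] [LocallyOfFiniteType ρ] [QuasiCompact ρ] : QuasiCompact (p1 ρ) := by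
  unfold p1; infer_instance

instance [IsSeparated ρ] : IsSeparated (p1 ρ) := by
  unfold p1; infer_instance

end Diag

end Groth.Agent.Helper4.SN442
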