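import Mathlib
import Groth.Agent.Helper4.WtF

set_option autoImplicit false
universe u
open CategoryTheory CategoryTheory.Limits AlgebraicGeometry Opposite
open Groth.Agent.Helper4.WtA Groth.Agent.Helper4.WtB Groth.Agent.Helper4.WtC
  Groth.Agent.Helper4.WtD Groth.Agent.Helper4.WtE

namespace Groth.Agent.Helper4.WtH

/-- A point of separable degree one has exactly one point above it in any base change, again of
separable degree one. -/
theorem exists_unique_over_of_sd_one' {P' P V' V : Scheme.{u}} {h : P' ⟶ P} {p' : P' ⟶ V'}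
    {p : P ⟶ V} {g : V' ⟶ V} (hc : IsPullback h p' p g) [LocallyQuasiFinite p] (x : P)
    (v' : V') (hx : p x = g v') (hsd : sd p x = 1) :
    ∃ z : P', h z = x ∧ p' z = v' ∧ sd p' z = 1 ∧
      ∀ z' : P', h z' = x → p' z' = v' → z' = z := by
  haveI := lqf_of_isPullback hc
  obtain ⟨z, hz1, hz2, hz3⟩ := exists_unique_over_of_sd_one hc x v' hx hsd
  refine ⟨z, hz1, hz2, ?_, hz3⟩
  obtain ⟨hB, hsum⟩ := key_identity hc x v' hx (resFin_of_lqf p x)
    (fun x' _ _ => resFin_of_lqf p' x')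
  have hBz : hB.toFinset = {z} := by
    ext z'
    rw [Set.Finite.mem_toFinset, Finset.mem_singleton]
    constructor
    · rintro ⟨h1, h2⟩; exact hz3 z' h1 h2
    · rintro rfl; exact ⟨hz1, hz2⟩
  rw [hBz, Finset.sum_singleton, hsd] at hsum
  exact hsum

set_option maxHeartbeats 1600000 in
/-- To check that a function is a weighting it suffices to consider finite opens with a single
point of separable degree one in the fibre. -/
theorem isWeighting_of_single {X Y : Scheme.{u}} (f : X ⟶ Y) [LocallyQuasiFinite f]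
    [LocallyOfFiniteType f] (ω : X → ℤ)
    (H : ∀ (W : Scheme.{u}) (c : W ⟶ Y) [Etale c] (P : Scheme.{u}) (h : P ⟶ X) (π : P ⟶ W)
      (_ : IsPullback h π f c) (U : P.Opens), IsFinite (U.ι ≫ π) → ∀ (w₀ : W) (u : P), u ∈ U →
      π u = w₀ → (∀ u' ∈ U, π u' = w₀ → u' = u) → sd π u = 1 →
      ∃ N : Set W, IsOpen N ∧ w₀ ∈ N ∧ ∀ w₁ ∈ N, FI π (ω ∘ h) (U : Set P) w₁ =
        FI π (ω ∘ h) (U : Set P) w₀) :
    MoreMor.IsWeighting f ω := by
  classical
  apply isWeighting_of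
  intro V' q _ U' hU'
  set h' := pullback.fst f q with hh'
  set π' := pullback.snd f q with hπ'
  have hc : IsPullback h' π' f q := IsPullback.of_hasPullback f q
  rw [IsLocallyConstant.iff_exists_open]
  intro v'
  haveI : LocallyQuasiFinite π' := lqf_of_isPullback hc
  have hFfin : ((U' : Set _) ∩ π' ⁻¹' {v'}).Finite := finite_fibre_of_isFinite π' U' hU' v'
  have hI₀ : ((fun z => h' z) '' ((U' : Set _) ∩ π' ⁻¹' {v'})).Finite := hFfin.image _
  obtain ⟨n, x, hxrange⟩ := hI₀.fin_embedding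
  have hs : ∀ i, f (x i) = q v' := by
    intro i
    have : x i ∈ (fun z => h' z) '' ((U' : Set _) ∩ π' ⁻¹' {v'}) := by
      rw [← hxrange]; exact ⟨i, rfl⟩
    obtain ⟨z, ⟨_, hz2⟩, hz3⟩ := this
    rw [← hz3]
    show f (h' z) = q v'
    rw [map_apply_of_isPullback hc, hz2]
  obtain ⟨V, g, v, hg, hgv, J, hJ, W, vv, H1, H2, H3⟩ :=
    Groth.Agent.Helper3.QFFinal.main f (q v') x x.injective hs (fun i => f.quasiFiniteAt _)
  obtain ⟨v'', hv''1, hv''2⟩ :=
    Scheme.Pullback.exists_preimage_pullback (f := q) (g := g) v' v hgv.symm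
  set e := pullback.fst q g with he
  set r := pullback.snd q g with hr
  have hcond : e ≫ q = r ≫ g := pullback.condition
  set a := pullback.fst π' e with ha
  set π'' := pullback.snd π' e with hπ''
  have hca : IsPullback a π'' π' e := IsPullback.of_hasPullback _ _
  have hbig : IsPullback (a ≫ h') π'' f (e ≫ q) := hca.paste_horiz hc
  have hbw : (a ≫ h') ≫ f = (π'' ≫ r) ≫ g := by
    rw [hbig.w, hcond, Category.assoc]
  set b : pullback π' e ⟶ pullback f g := pullback.lift (a ≫ h') (π'' ≫ r) hbw with hb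
  have hb1 : b ≫ pullback.fst f g = a ≫ h' := pullback.lift_fst _ _ _
  have hb2 : b ≫ pullback.snd f g = π'' ≫ r := pullback.lift_snd _ _ _
  have hcb : IsPullback b π'' (pullback.snd f g) r := by
    refine IsPullback.of_right ?_ hb2 (IsPullback.of_hasPullback f g)
    rw [hb1, ← hcond]
    exact hbig
  haveI : LocallyQuasiFinite (pullback.snd f g) := inferInstance
  haveI : LocallyQuasiFinite π'' := lqf_of_isPullback hca
  set ω'' : ↑(pullback π' e) → ℤ := (ω ∘ h') ∘ a with hω''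
  have hb1' : ∀ z, pullback.fst f g (b z) = h' (a z) := fun z => by
    have : (b ≫ pullback.fst f g) z = (a ≫ h') z := by rw [hb1]
    exact this
  have hb2' : ∀ z, pullback.snd f g (b z) = r (π'' z) := fun z => by
    have : (b ≫ pullback.snd f g) z = (π'' ≫ r) z := by rw [hb2]
    exact this
  have ha' : ∀ z, π' (a z) = e (π'' z) := fun z => map_apply_of_isPullback hca z
  set A : (pullback π' e).Opens := a ⁻¹ᵁ U' with hA
  have hAfin : IsFinite (A.ι ≫ π'') := isFinite_preimage_of_isPullback hca U' hU'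
  let T₀ := Σ i, J i
  haveI : ∀ i, Finite (J i) := hJ
  let S₀ : T₀ → (pullback π' e).Opens := fun t => b ⁻¹ᵁ (W t.1 t.2)
  have hS₀fin : ∀ t, IsFinite ((S₀ t).ι ≫ π'') := fun t =>
    isFinite_preimage_of_isPullback hcb (W t.1 t.2) (H1 t.1 t.2).2.1
  have hsd : ∀ t : T₀, sd (pullback.snd f g) (vv t.1 t.2) = 1 := by
    intro t
    unfold sd
    letI := ((pullback.snd f g).residueFieldMap (vv t.1 t.2)).hom.toAlgebra
    haveI := (H1 t.1 t.2).2.2.2.2.1.2
    exact IsPurelyInseparable.finSepDegree_eq_one _ _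
  have hpt : ∀ t : T₀, ∃ z : ↑(pullback π' e), b z = vv t.1 t.2 ∧ π'' z = v'' ∧ sd π'' z = 1 ∧
      ∀ z' : ↑(pullback π' e), b z' = vv t.1 t.2 → π'' z' = v'' → z' = z := fun t =>
    exists_unique_over_of_sd_one' hcb (vv t.1 t.2) v''
      (by rw [(H1 t.1 t.2).2.2.1, hv''2]) (hsd t)
  choose pt₀ hpt1 hpt2 hptsd hpt3 using hpt
  let T := {t : T₀ // pt₀ t ∈ A}
  have h5 : ∀ (t : T₀) (z : ↑(pullback π' e)), z ∈ S₀ t → π'' z = v'' → z = pt₀ t := by
    intro t z hzS hzv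
    apply hpt3 t z _ hzv
    apply (H1 t.1 t.2).2.2.2.1 (b z) hzS
    rw [hb2', hzv, hv''2]
  have h6 : ∀ z ∈ A, π'' z = v'' → ∃ t : T, z ∈ S₀ t.1 := by
    intro z hzA hzv
    have haz : a z ∈ (U' : Set _) ∩ π' ⁻¹' {v'} := by
      refine ⟨hzA, ?_⟩
      show π' (a z) = v'
      rw [ha', hzv, hv''1]
    have : h' (a z) ∈ Set.range x := by
      rw [hxrange]; exact ⟨a z, haz, rfl⟩
    obtain ⟨i, hi⟩ := this
    obtain ⟨j, hj⟩ := H3 (b z) i (by rw [hb2', hzv, hv''2]) (by rw [hb1', hi])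
    have hz : z = pt₀ ⟨i, j⟩ := hpt3 ⟨i, j⟩ z hj hzv
    refine ⟨⟨⟨i, j⟩, by rw [← hz]; exact hzA⟩, ?_⟩
    show b z ∈ W i j
    rw [hj]
    exact (H1 i j).1
  have h4 : Function.Injective (fun t : T => pt₀ t.1) := by
    intro t t' htt
    have h1 : vv t.1.1 t.1.2 = vv t'.1.1 t'.1.2 := by
      rw [← hpt1 t.1, ← hpt1 t'.1]
      exact congrArg (fun z => b z) htt
    obtain ⟨h2, h3⟩ := H2 _ _ _ _ h1
    apply Subtype.ext
    exact Sigma.ext h2 h3
  obtain ⟨N, hvN, hNcov, hNdisj⟩ := exists_nbhd_decomp π'' A hAfin (fun t : T => S₀ t.1)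
    (fun t => hS₀fin t.1) v'' (fun t : T => pt₀ t.1) (fun t => t.2) h4
    (fun t z hz hzv => h5 t.1 z hz hzv) h6
  -- local constancy of the pieces near v''
  have hψ : ∀ t : T₀, ∃ Nt : Set ↑(pullback q g), IsOpen Nt ∧ v'' ∈ Nt ∧
      ∀ w₁ ∈ Nt, FI π'' ω'' (S₀ t : Set _) w₁ = FI π'' ω'' (S₀ t : Set _) v'' := by
    intro t
    have hpt_mem : pt₀ t ∈ S₀ t := by
      show b (pt₀ t) ∈ W t.1 t.2
      rw [hpt1 t]; exact (H1 t.1 t.2).1
    exact H (pullback q g) (e ≫ q) (pullback π' e) (a ≫ h') π'' hbig (S₀ t) (hS₀fin t) v''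
      (pt₀ t) hpt_mem (hpt2 t) (fun u' hu' hu'v => h5 t u' hu' hu'v) (hptsd t)
  choose Nt hNt1 hNt2 hNt3 using hψ
  set M : Set ↑(pullback q g) := (N : Set _) ∩ ⋂ t : T, Nt t.1 with hM
  have hMopen : IsOpen M := N.2.inter (isOpen_iInter_of_finite fun t => hNt1 t.1)
  have hvM : v'' ∈ M := ⟨hvN, Set.mem_iInter.mpr fun t => hNt2 t.1⟩
  have hAconst : ∀ v₁ ∈ M, FI π'' ω'' (A : Set _) v₁ = FI π'' ω'' (A : Set _) v'' := by
    intro v₁ hv₁
    have hdec : ∀ v₂ ∈ M, FI π'' ω'' (A : Set _) v₂ =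
        ∑ᶠ t : T, FI π'' ω'' (S₀ t.1 : Set _) v₂ := by
      intro v₂ hv₂
      refine FI_decomp π'' ω'' (A : Set _) (fun t : T => (S₀ t.1 : Set _)) v₂
        (fun t => finite_fibre_of_isFinite _ _ (hS₀fin t.1) _) ?_ ?_
      · intro z hz
        exact hNcov z (by rw [hz]; exact hv₂.1)
      · intro z hz
        exact hNdisj z (by rw [hz]; exact hv₂.1)
    rw [hdec v₁ hv₁, hdec v'' hvM]
    refine finsum_congr fun t => ?_
    exact hNt3 t.1 v₁ (Set.mem_iInter.mp hv₁.2 t)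
  have hbc : ∀ v₁, FI π'' ω'' (A : Set _) v₁ = FI π' (ω ∘ h') (U' : Set _) (e v₁) := by
    intro v₁
    exact FI_bc hca (ω ∘ h') (U' : Set _) v₁ (finite_fibre_of_isFinite π' U' hU' _)
  refine ⟨e '' M, e.isOpenMap _ hMopen, ⟨v'', hvM, hv''1⟩, ?_⟩
  rintro _ ⟨v₁, hv₁, rfl⟩
  rw [← hbc v₁, hAconst v₁ hv₁, hbc v'', hv''1]

end Groth.Agent.Helper4.WtH
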