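import Mathlib
import Groth.Agent.Helper4.WtH

set_option autoImplicit false
universe u
open CategoryTheory CategoryTheory.Limits AlgebraicGeometry Opposite
open Groth.Agent.Helper4.WtA Groth.Agent.Helper4.WtB Groth.Agent.Helper4.WtC
  Groth.Agent.Helper4.WtD Groth.Agent.Helper4.WtE Groth.Agent.Helper4.WtH

namespace Groth.Agent.Helper4.WtI

/-- Multiplicativity of separable degrees of residue field extensions in towers. -/
theorem sd_comp {U P V : Scheme.{u}} (j : U ⟶ P) (p : P ⟶ V) (u : U) (hfin : ResFin j u) :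
    sd (j ≫ p) u = sd j u * sd p (j u) := by
  unfold sd
  letI i1 : Algebra (V.residueField (p (j u))) (P.residueField (j u)) :=
    (p.residueFieldMap (j u)).hom.toAlgebra
  letI i2 : Algebra (V.residueField (p (j u))) (U.residueField u) :=
    ((j ≫ p).residueFieldMap u).hom.toAlgebra
  letI i3 : Algebra (P.residueField (j u)) (U.residueField u) :=
    (j.residueFieldMap u).hom.toAlgebra
  haveI : IsScalarTower (V.residueField (p (j u))) (P.residueField (j u)) (U.residueField u) := by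
    refine IsScalarTower.of_algebraMap_eq' ?_
    have := Scheme.residueFieldMap_comp j p u
    exact congrArg (fun m => m.hom) this
  haveI : Module.Finite (P.residueField (j u)) (U.residueField u) := hfin
  rw [mul_comm]
  exact (Field.finSepDegree_mul_finSepDegree_of_isAlgebraic (V.residueField (p (j u)))
    (P.residueField (j u)) (U.residueField u)).symm

/-- Fubini for the weighted fibre sums. -/
theorem FI_fubini {P Q W : Scheme.{u}} (fW : P ⟶ Q) (gW : Q ⟶ W) [LocallyQuasiFinite fW]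
    (α : P → ℤ) (β : Q → ℤ) (U : Set P) (V : Set Q) (hUV : ∀ u ∈ U, fW u ∈ V) (w₁ : W)
    (hUfin : (U ∩ (fW ≫ gW) ⁻¹' {w₁}).Finite) (hVfin : (V ∩ gW ⁻¹' {w₁}).Finite) :
    FI (fW ≫ gW) (fun u => α u * β (fW u)) U w₁ =
      FI gW (fun q => β q * FI fW α U q) V w₁ := by
  classical
  unfold FI
  rw [finsum_mem_eq_finite_toFinset_sum _ hUfin, finsum_mem_eq_finite_toFinset_sum _ hVfin]
  rw [← Finset.sum_fiberwise_of_maps_to (s := hUfin.toFinset) (t := hVfin.toFinset)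
    (g := fun u => fW u)]
  · refine Finset.sum_congr rfl (fun q hq => ?_)
    rw [Set.Finite.mem_toFinset] at hq
    have hsub : (U ∩ fW ⁻¹' {q}) ⊆ U ∩ (fW ≫ gW) ⁻¹' {w₁} := by
      rintro u ⟨hu1, hu2⟩
      refine ⟨hu1, ?_⟩
      show gW (fW u) = w₁
      rw [hu2]; exact hq.2
    have hqfin : (U ∩ fW ⁻¹' {q}).Finite := hUfin.subset hsub
    beta_reduce
    rw [finsum_mem_eq_finite_toFinset_sum _ hqfin]
    have hset : hUfin.toFinset.filter (fun u => fW u = q) = hqfin.toFinset := by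
      ext u
      simp only [Finset.mem_filter, Set.Finite.mem_toFinset, Set.mem_inter_iff, Set.mem_preimage,
        Set.mem_singleton_iff]
      constructor
      · rintro ⟨⟨h1, _⟩, h3⟩; exact ⟨h1, h3⟩
      · rintro ⟨h1, h3⟩; exact ⟨hsub ⟨h1, h3⟩, h3⟩
    rw [hset, Finset.mul_sum, Finset.sum_mul]
    refine Finset.sum_congr rfl (fun u hu => ?_)
    rw [Set.Finite.mem_toFinset] at hu
    have hu2 : fW u = q := hu.2
    rw [sd_comp fW gW u (resFin_of_lqf fW u), hu2]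
    push_cast
    ring
  · intro u hu
    rw [Set.Finite.mem_toFinset] at hu ⊢
    exact ⟨hUV u hu.1, hu.2⟩

set_option maxHeartbeats 1600000 in
/-- The core of the composition lemma: a finite open `U` of `X ×_Z W` mapping into a finite open
`V` of `Y ×_Z W` with a single point over `w₀`. -/
theorem single_core {X Y Z : Scheme.{u}} (f : X ⟶ Y) (g : Y ⟶ Z) [LocallyQuasiFinite f]
    [LocallyOfFiniteType f] [LocallyQuasiFinite g] [LocallyOfFiniteType g]
    (wf : X → ℤ) (wg : Y → ℤ) (hf : MoreMor.IsWeighting f wf) (hg : MoreMor.IsWeighting g wg)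
    {W Q P : Scheme.{u}} (c : W ⟶ Z) [Etale c] (cY : Q ⟶ Y) (gW : Q ⟶ W)
    (hQ : IsPullback cY gW g c) (h : P ⟶ X) (fW : P ⟶ Q) (hPQ : IsPullback h fW f cY)
    (U : P.Opens) (hU : IsFinite (U.ι ≫ fW ≫ gW)) (V : Q.Opens) (hV : IsFinite (V.ι ≫ gW))
    (hUV : U ≤ fW ⁻¹ᵁ V) (w₀ : W) (y : Q) (hyw : gW y = w₀)
    (hyuniq : ∀ y' ∈ V, gW y' = w₀ → y' = y) :
    ∃ N : Set W, IsOpen N ∧ w₀ ∈ N ∧ ∀ w₁ ∈ N,
      FI (fW ≫ gW) ((fun x => wf x * wg (f x)) ∘ h) (U : Set P) w₁ =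
        FI (fW ≫ gW) ((fun x => wf x * wg (f x)) ∘ h) (U : Set P) w₀ := by
  classical
  haveI : Etale cY := MorphismProperty.of_isPullback hQ.flip ‹Etale c›
  haveI : LocallyQuasiFinite fW := lqf_of_isPullback hPQ
  haveI : LocallyQuasiFinite gW := lqf_of_isPullback hQ
  have hUfib : ∀ w₁, ((U : Set P) ∩ (fW ≫ gW) ⁻¹' {w₁}).Finite := fun w₁ =>
    finite_fibre_of_isFinite (fW ≫ gW) U hU w₁
  have hVfib : ∀ w₁, ((V : Set Q) ∩ gW ⁻¹' {w₁}).Finite := fun w₁ =>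
    finite_fibre_of_isFinite gW V hV w₁
  set Φ : Q → ℤ := FI fW (wf ∘ h) (U : Set P) with hΦ
  -- local constancy of Φ on V
  have hΦloc : IsLocallyConstant (fun q : (V : Scheme.{u}) => Φ (V.ι q)) := by
    set ιP := (fW ⁻¹ᵁ V).ι with hιP
    set fV := fW ∣_ V with hfV
    have hsq1 : IsPullback ιP fV fW V.ι := (isPullback_morphismRestrict fW V).flip
    have hsq : IsPullback (ιP ≫ h) fV f (V.ι ≫ cY) := hsq1.paste_horiz hPQ
    set UV : (fW ⁻¹ᵁ V : P.Opens).toScheme.Opens := ιP ⁻¹ᵁ U with hUV'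
    have hrange : (UV.ι ≫ ιP).opensRange = U := by
      apply TopologicalSpace.Opens.ext
      rw [Scheme.Hom.coe_opensRange]
      ext z
      constructor
      · rintro ⟨z', rfl⟩
        exact z'.2
      · intro hz
        exact ⟨⟨⟨z, hUV hz⟩, hz⟩, rfl⟩
    have hfin1 : IsFinite ((UV.ι ≫ ιP) ≫ (fW ≫ gW)) := by
      apply isFinite_of_opensRange
      rw [hrange]
      exact hU
    have hcomp : (UV.ι ≫ fV) ≫ (V.ι ≫ gW) = (UV.ι ≫ ιP) ≫ (fW ≫ gW) := by
      simp only [Category.assoc]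
      rw [← Category.assoc fV, hfV, morphismRestrict_ι, Category.assoc]
    haveI : IsFinite ((UV.ι ≫ fV) ≫ (V.ι ≫ gW)) := by rw [hcomp]; exact hfin1
    haveI : IsSeparated (V.ι ≫ gW) := by
      haveI := hV
      infer_instance
    have hfinUV : IsFinite (UV.ι ≫ fV) := IsFinite.of_comp (UV.ι ≫ fV) (V.ι ≫ gW)
    have h1 := IsWeighting.locConst hf (V.ι ≫ cY) (ιP ≫ h) fV hsq UV hfinUV
    have h2 : ∀ q : (V : Scheme.{u}), FI fV (wf ∘ (ιP ≫ h)) (UV : Set _) q = Φ (V.ι q) := by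
      intro q
      have hfq : ((U : Set P) ∩ fW ⁻¹' {V.ι q}).Finite := by
        refine (hUfib (gW (V.ι q))).subset ?_
        rintro u ⟨hu1, hu2⟩
        refine ⟨hu1, ?_⟩
        show gW (fW u) = gW (V.ι q)
        rw [hu2]
      exact FI_bc hsq1 (wf ∘ h) (U : Set P) q hfq
    have h3 : (fun q : (V : Scheme.{u}) => Φ (V.ι q)) = FI fV (wf ∘ (ιP ≫ h)) (UV : Set _) :=
      funext fun q => (h2 q).symm
    rw [h3]
    exact h1
  -- the bad locus
  set c₀ := Φ y with hc₀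
  set D : Set Q := {q | q ∈ V ∧ Φ q ≠ c₀} with hD
  have hDcl : ∀ q ∈ V, q ∈ closure D → Φ q ≠ c₀ := by
    intro q hqV hqD
    rw [IsLocallyConstant.iff_exists_open] at hΦloc
    obtain ⟨O, hO, hqO, hOconst⟩ := hΦloc ⟨q, hqV⟩
    have hO' : IsOpen (V.ι '' O) := V.ι.isOpenEmbedding.isOpenMap _ hO
    have hqO' : q ∈ V.ι '' O := ⟨⟨q, hqV⟩, hqO, rfl⟩
    obtain ⟨q', hq'O, hq'D⟩ := mem_closure_iff.mp hqD _ hO' hqO'
    obtain ⟨q'', hq''O, rfl⟩ := hq'O
    have h' : Φ q = Φ (V.ι q'') := (hOconst q'' hq''O).symm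
    rw [h']
    exact hq'D.2
  have hCcl : IsClosed (gW '' (closure D ∩ (V : Set Q))) :=
    isClosed_image_inter gW V hV _ isClosed_closure
  have hw₀N : w₀ ∉ gW '' (closure D ∩ (V : Set Q)) := by
    rintro ⟨q, ⟨hqD, hqV⟩, hqw⟩
    have hqy : q = y := hyuniq q hqV hqw
    exact hDcl q hqV hqD (by rw [hqy])
  have hNconst : ∀ w₁ ∉ gW '' (closure D ∩ (V : Set Q)), ∀ q ∈ V, gW q = w₁ → Φ q = c₀ := by
    intro w₁ hw₁ q hqV hqw
    by_contra hne
    exact hw₁ ⟨q, ⟨subset_closure ⟨hqV, hne⟩, hqV⟩, hqw⟩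
  -- Fubini
  have hfub : ∀ w₁, FI (fW ≫ gW) ((fun x => wf x * wg (f x)) ∘ h) (U : Set P) w₁ =
      FI gW (fun q => wg (cY q) * Φ q) (V : Set Q) w₁ := by
    intro w₁
    have := FI_fubini fW gW (wf ∘ h) (wg ∘ cY) (U : Set P) (V : Set Q) (fun u hu => hUV hu) w₁
      (hUfib w₁) (hVfib w₁)
    refine Eq.trans ?_ this
    congr 1
    funext u
    show wf (h u) * wg (f (h u)) = wf (h u) * wg (cY (fW u))
    rw [map_apply_of_isPullback hPQ]
  have hΨ := IsWeighting.locConst hg c cY gW hQ V hV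
  set Ψ := FI gW (wg ∘ cY) (V : Set Q) with hΨdef
  have hcΨ : ∀ w₁ ∉ gW '' (closure D ∩ (V : Set Q)),
      FI gW (fun q => wg (cY q) * Φ q) (V : Set Q) w₁ = c₀ * Ψ w₁ := by
    intro w₁ hw₁
    rw [hΨdef]
    unfold FI
    rw [finsum_mem_eq_finite_toFinset_sum _ (hVfib w₁),
      finsum_mem_eq_finite_toFinset_sum _ (hVfib w₁), Finset.mul_sum]
    refine Finset.sum_congr rfl (fun q hq => ?_)
    rw [Set.Finite.mem_toFinset] at hq
    show wg (cY q) * Φ q * (sd gW q : ℤ) = c₀ * (wg (cY q) * (sd gW q : ℤ))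
    rw [hNconst w₁ hw₁ q hq.1 hq.2]
    ring
  refine ⟨(gW '' (closure D ∩ (V : Set Q)))ᶜ ∩ Ψ ⁻¹' {Ψ w₀},
    hCcl.isOpen_compl.inter (hΨ.isOpen_fiber _), ⟨hw₀N, rfl⟩, ?_⟩
  rintro w₁ ⟨hw₁N, hw₁Ψ⟩
  rw [hfub w₁, hfub w₀, hcΨ w₁ hw₁N, hcΨ w₀ hw₀N]
  rw [show Ψ w₁ = Ψ w₀ from hw₁Ψ]

end Groth.Agent.Helper4.WtI
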