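import Mathlib
import Groth.Agent.Helper4.WtI

set_option autoImplicit false
universe u
open CategoryTheory CategoryTheory.Limits AlgebraicGeometry Opposite
open Groth.Agent.Helper4.WtA Groth.Agent.Helper4.WtB Groth.Agent.Helper4.WtC
  Groth.Agent.Helper4.WtD Groth.Agent.Helper4.WtE Groth.Agent.Helper4.WtH Groth.Agent.Helper4.WtI

namespace Groth.Agent.Helper4.WtJ

set_option maxHeartbeats 3200000 in
/-- The product of weightings is a weighting of the composition (S1422). -/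
theorem isWeighting_comp {X Y Z : Scheme.{u}} (f : X ⟶ Y) (g : Y ⟶ Z) [LocallyQuasiFinite f]
    [LocallyOfFiniteType f] [LocallyQuasiFinite g] [LocallyOfFiniteType g]
    (wf : X → ℤ) (wg : Y → ℤ) (hf : MoreMor.IsWeighting f wf) (hg : MoreMor.IsWeighting g wg) :
    MoreMor.IsWeighting (f ≫ g) (fun x => wf x * wg (f x)) := by
  classical
  apply isWeighting_of_single
  intro W c _ P h π hc U hU w₀ u huU huw huniq hsd
  haveI : LocallyQuasiFinite π := lqf_of_isPullback hc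
  -- the intermediate pullback
  set cY := pullback.fst g c with hcY
  set gW := pullback.snd g c with hgW
  have hQ : IsPullback cY gW g c := IsPullback.of_hasPullback g c
  have hw1 : (h ≫ f) ≫ g = π ≫ c := by rw [Category.assoc]; exact hc.w
  set fW : P ⟶ pullback g c := hQ.lift (h ≫ f) π hw1 with hfW
  have hfW1 : fW ≫ cY = h ≫ f := hQ.lift_fst _ _ _
  have hfW2 : fW ≫ gW = π := hQ.lift_snd _ _ _
  have hPQ : IsPullback h fW f cY :=
    IsPullback.of_bot (by rw [hfW2]; exact hc) hfW1.symm hQ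
  haveI : LocallyQuasiFinite gW := lqf_of_isPullback hQ
  haveI : LocallyOfFiniteType gW := MorphismProperty.of_isPullback hQ ‹LocallyOfFiniteType g›
  set y₀ := fW u with hy₀
  have hgy₀ : gW y₀ = w₀ := by
    have : (fW ≫ gW) u = π u := by rw [hfW2]
    exact this.trans huw
  -- étale localisation of gW at y₀
  obtain ⟨W', e, w', he, hew, J, hJ, VV, vv, H1, H2, H3⟩ :=
    Groth.Agent.Helper3.QFFinal.main gW (gW y₀) (fun _ : Unit => y₀) (fun _ _ _ => rfl)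
      (fun _ => rfl) (fun _ => gW.quasiFiniteAt y₀)
  have hew' : e w' = w₀ := hew.trans hgy₀
  set a := pullback.fst π e with ha
  set π' := pullback.snd π e with hπ'
  have hca : IsPullback a π' π e := IsPullback.of_hasPullback π e
  set bQ := pullback.fst gW e with hbQ
  set gW' := pullback.snd gW e with hgW'
  have hQ' : IsPullback bQ gW' gW e := IsPullback.of_hasPullback gW e
  have hw2 : (a ≫ fW) ≫ gW = π' ≫ e := by rw [Category.assoc, hfW2]; exact hca.w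
  set fW' : pullback π e ⟶ pullback gW e := hQ'.lift (a ≫ fW) π' hw2 with hfW'
  have hfW'1 : fW' ≫ bQ = a ≫ fW := hQ'.lift_fst _ _ _
  have hfW'2 : fW' ≫ gW' = π' := hQ'.lift_snd _ _ _
  have hP'Q' : IsPullback a fW' fW bQ :=
    IsPullback.of_bot (by rw [hfW'2, hfW2]; exact hca) hfW'1.symm hQ'
  haveI : LocallyQuasiFinite π' := lqf_of_isPullback hca
  -- the unique point of the base change
  obtain ⟨u', hu'1, hu'2, hu'sd, hu'3⟩ := exists_unique_over_of_sd_one' hca u w'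
    (by rw [huw, hew']) hsd
  set y' := fW' u' with hy'
  have hy'1 : bQ y' = y₀ := by
    have : (fW' ≫ bQ) u' = (a ≫ fW) u' := by rw [hfW'1]
    refine this.trans ?_
    show fW (a u') = fW u
    rw [hu'1]
  have hy'2 : gW' y' = w' := by
    have : (fW' ≫ gW') u' = π' u' := by rw [hfW'2]
    exact this.trans hu'2
  obtain ⟨j₀, hj₀⟩ := H3 y' () hy'2 hy'1
  obtain ⟨hV1, hVfin, hV3, hV4, -, -⟩ := H1 () j₀
  set V := VV () j₀ with hVdef
  have hy'V : y' ∈ V := by rw [hj₀]; exact hV1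
  -- the finite open A' and the neighbourhood N₁
  set A' : (pullback π e).Opens := a ⁻¹ᵁ U with hA'
  have hA'fin : IsFinite (A'.ι ≫ π') := isFinite_preimage_of_isPullback hca U hU
  have hA'pt : ∀ z ∈ A', π' z = w' → z = u' := by
    intro z hz hzw
    apply hu'3 z _ hzw
    apply huniq (a z) hz
    rw [map_apply_of_isPullback hca, hzw, hew']
  have hCcl : IsClosed (π' '' ((((fW' ⁻¹ᵁ V : (pullback π e).Opens) : Set _)ᶜ) ∩ (A' : Set _))) :=
    isClosed_image_inter π' A' hA'fin _ (fW' ⁻¹ᵁ V).2.isClosed_compl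
  set N₁ : W'.Opens := ⟨_, hCcl.isOpen_compl⟩ with hN₁
  have hw'N₁ : w' ∈ N₁ := by
    rintro ⟨z, ⟨hzV, hzA⟩, hzw⟩
    apply hzV
    rw [hA'pt z hzA hzw]
    exact hy'V
  have hN₁V : ∀ z ∈ A', π' z ∈ N₁ → fW' z ∈ V := by
    intro z hzA hzN
    by_contra hzV
    exact hzN ⟨z, ⟨hzV, hzA⟩, rfl⟩
  -- data over N₁
  set Q'' : (pullback gW e).Opens := gW' ⁻¹ᵁ N₁ with hQ''
  set P'' : (pullback π e).Opens := fW' ⁻¹ᵁ Q'' with hP''
  set gW'' := gW' ∣_ N₁ with hgW''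
  set fW'' := fW' ∣_ Q'' with hfW''
  have hsqQ : IsPullback Q''.ι gW'' gW' N₁.ι := (isPullback_morphismRestrict gW' N₁).flip
  have hsqP : IsPullback P''.ι fW'' fW' Q''.ι := (isPullback_morphismRestrict fW' Q'').flip
  have hQfull : IsPullback (Q''.ι ≫ bQ ≫ cY) gW'' g (N₁.ι ≫ e ≫ c) :=
    hsqQ.paste_horiz (hQ'.paste_horiz hQ)
  have hPfull : IsPullback (P''.ι ≫ a ≫ h) fW'' f (Q''.ι ≫ bQ ≫ cY) :=
    hsqP.paste_horiz (hP'Q'.paste_horiz hPQ)
  have hsqPN : IsPullback P''.ι (fW'' ≫ gW'') π' N₁.ι := by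
    have := hsqP.paste_vert hsqQ
    rwa [hfW'2] at this
  set U'' : (P'' : Scheme.{u}).Opens := P''.ι ⁻¹ᵁ A' with hU''
  set V'' : (Q'' : Scheme.{u}).Opens := Q''.ι ⁻¹ᵁ V with hV''
  have hU''fin : IsFinite (U''.ι ≫ fW'' ≫ gW'') :=
    isFinite_preimage_of_isPullback hsqPN A' hA'fin
  have hV''fin : IsFinite (V''.ι ≫ gW'') := isFinite_preimage_of_isPullback hsqQ V hVfin
  have hfW''ι : ∀ z : (P'' : Scheme.{u}), Q''.ι (fW'' z) = fW' (P''.ι z) := by
    intro z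
    have : (fW'' ≫ Q''.ι) z = (P''.ι ≫ fW') z := by rw [hfW'', morphismRestrict_ι]
    exact this
  have hUV'' : U'' ≤ fW'' ⁻¹ᵁ V'' := by
    intro z hz
    show Q''.ι (fW'' z) ∈ V
    rw [hfW''ι]
    apply hN₁V _ hz
    have h1 : π' (P''.ι z) = gW' (fW' (P''.ι z)) := by
      have : (fW' ≫ gW') (P''.ι z) = π' (P''.ι z) := by rw [hfW'2]
      exact this.symm
    rw [h1]
    exact z.2
  have hy'Q : y' ∈ Q'' := by
    show gW' y' ∈ N₁
    rw [hy'2]; exact hw'N₁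
  have hgW''ι : ∀ q : (Q'' : Scheme.{u}), N₁.ι (gW'' q) = gW' (Q''.ι q) := by
    intro q
    have : (gW'' ≫ N₁.ι) q = (Q''.ι ≫ gW') q := by rw [hgW'', morphismRestrict_ι]
    exact this
  have hyuniq : ∀ q ∈ V'', gW'' q = (⟨w', hw'N₁⟩ : N₁) → q = (⟨y', hy'Q⟩ : Q'') := by
    intro q hq hqw
    apply Subtype.ext
    show Q''.ι q = y'
    rw [hj₀]
    apply hV4 _ hq
    rw [← hgW''ι, hqw]
    rfl
  have hyw'' : gW'' (⟨y', hy'Q⟩ : Q'') = (⟨w', hw'N₁⟩ : N₁) := by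
    apply Subtype.ext
    show N₁.ι (gW'' ⟨y', hy'Q⟩) = w'
    rw [hgW''ι]
    exact hy'2
  obtain ⟨N'', hN''open, hw'N'', hN''const⟩ :=
    single_core f g wf wg hf hg (N₁.ι ≫ e ≫ c) (Q''.ι ≫ bQ ≫ cY) gW'' hQfull (P''.ι ≫ a ≫ h)
      fW'' hPfull U'' hU''fin V'' hV''fin hUV'' (⟨w', hw'N₁⟩ : N₁) (⟨y', hy'Q⟩ : Q'') hyw''
      hyuniq
  -- transfer back
  have hsqfin : IsPullback (P''.ι ≫ a) (fW'' ≫ gW'') π (N₁.ι ≫ e) := hsqPN.paste_horiz hca
  have hbc : ∀ w₁ : (N₁ : Scheme.{u}),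
      FI (fW'' ≫ gW'') ((fun x => wf x * wg (f x)) ∘ (P''.ι ≫ a ≫ h)) (U'' : Set _) w₁ =
      FI π ((fun x => wf x * wg (f x)) ∘ h) (U : Set P) ((N₁.ι ≫ e) w₁) := by
    intro w₁
    exact FI_bc hsqfin ((fun x => wf x * wg (f x)) ∘ h) (U : Set P) w₁
      (finite_fibre_of_isFinite π U hU _)
  refine ⟨(N₁.ι ≫ e) '' N'', (N₁.ι ≫ e).isOpenMap _ hN''open, ⟨⟨w', hw'N₁⟩, hw'N'', hew'⟩, ?_⟩
  rintro _ ⟨w₁, hw₁, rfl⟩
  rw [← hbc w₁, hN''const w₁ hw₁, hbc ⟨w', hw'N₁⟩]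
  congr 1

end Groth.Agent.Helper4.WtJ
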