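import Mathlib
import Groth.Agent.Helper4.SN442
import Groth.Agent.Helper4.WtJ
import Groth.Agent.Helper3.MonoRes

/-!
# The diagonal identity for weighted fibre sums
-/

set_option autoImplicit false
universe u

open Topology Set AlgebraicGeometry CategoryTheory CategoryTheory.Limits TopologicalSpace
open Groth.Agent.Helper4.WtA Groth.Agent.Helper4.WtB Groth.Agent.Helper4.WtC
open Groth.Agent.Helper4.SN442

namespace Groth.Agent.Helper4.SN443

theorem sd_id {R : Scheme.{u}} (r : R) : sd (𝟙 R) r = 1 := by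
  unfold sd
  rw [Scheme.residueFieldMap_id]
  exact Field.finSepDegree_self _

theorem isIso_residueFieldMap_of_mono {X Y : Scheme.{u}} (f : X ⟶ Y) [Mono f] (x : X) :
    IsIso (f.residueFieldMap x) :=
  (ConcreteCategory.isIso_iff_bijective _).mpr
    (Groth.Agent.Helper3.MonoRes.residueFieldMap_bijective_of_mono f x)

section

variable {R X : Scheme.{u}} (ρ : R ⟶ X)

theorem fst_diagonal_apply (r : R) : pullback.fst ρ ρ (pullback.diagonal ρ r) = r := by
  have : (pullback.diagonal ρ ≫ pullback.fst ρ ρ) r = (𝟙 R : R ⟶ R) r := by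
    rw [pullback.diagonal_fst]
  exact this

theorem snd_diagonal_apply (r : R) : pullback.snd ρ ρ (pullback.diagonal ρ r) = r := by
  have : (pullback.diagonal ρ ≫ pullback.snd ρ ρ) r = (𝟙 R : R ⟶ R) r := by
    rw [pullback.diagonal_snd]
  exact this

theorem sd_fst_diagonal (r : R) : sd (pullback.fst ρ ρ) (pullback.diagonal ρ r) = 1 := by
  haveI := isIso_residueFieldMap_of_mono (pullback.diagonal ρ) r
  rw [← sd_comp_of_isIso (pullback.diagonal ρ) (pullback.fst ρ ρ) r]
  have h : pullback.diagonal ρ ≫ pullback.fst ρ ρ = 𝟙 R := pullback.diagonal_fst ρ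
  rw [h]
  exact sd_id r

variable [IsSeparated ρ] [LocallyQuasiFinite ρ]

open Classical in
/-- the diagonal identity -/
theorem FI_p1 (ω : R → ℤ) (S : Set R) (r : R) (hfin : (S ∩ ρ ⁻¹' {ρ r}).Finite) :
    FI (p1 ρ) (ω ∘ p2 ρ) (p2 ρ ⁻¹' S) r =
      FI ρ ω S (ρ r) - (if r ∈ S then ω r else 0) := by
  classical
  set fst := pullback.fst ρ ρ with hfst
  set snd := pullback.snd ρ ρ with hsnd
  set Δ := pullback.diagonal ρ with hΔ
  have hc : IsPullback snd fst ρ ρ := (IsPullback.of_hasPullback ρ ρ).flip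
  haveI : LocallyQuasiFinite fst := lqf_of_isPullback hc
  -- step 1
  have h1 := FI_openImm (SN442.offDiag ρ).ι fst (ω ∘ snd) (snd ⁻¹' S) r
  rw [Scheme.Opens.range_ι] at h1
  -- step 2
  have h2 := FI_bc hc ω S r hfin
  have hfin' : (snd ⁻¹' S ∩ fst ⁻¹' {r}).Finite := finite_fibre_bc hc S r hfin
  -- step 3
  have hsplit : snd ⁻¹' S = (snd ⁻¹' S ∩ (SN442.offDiag ρ : Set _)) ∪ (snd ⁻¹' S ∩ Set.range Δ) := by
    rw [← Set.inter_union_distrib_left, coe_offDiag, Set.compl_union_self, Set.inter_univ]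
  have hdisj : Disjoint (snd ⁻¹' S ∩ (SN442.offDiag ρ : Set _)) (snd ⁻¹' S ∩ Set.range Δ) := by
    rw [Set.disjoint_iff]
    rintro z ⟨⟨_, hz1⟩, ⟨_, hz2⟩⟩
    exact hz1 hz2
  have h3 := FI_union fst (ω ∘ snd) _ _ r hdisj
    (hfin'.subset (Set.inter_subset_inter_left _ Set.inter_subset_left))
    (hfin'.subset (Set.inter_subset_inter_left _ Set.inter_subset_left))
  rw [← hsplit] at h3
  -- step 4
  have h4 : FI fst (ω ∘ snd) (snd ⁻¹' S ∩ Set.range Δ) r = if r ∈ S then ω r else 0 := by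
    split_ifs with hr
    · have hmem : Δ r ∈ snd ⁻¹' S ∩ Set.range Δ := by
        refine ⟨?_, ⟨r, rfl⟩⟩
        show snd (Δ r) ∈ S
        rw [snd_diagonal_apply]; exact hr
      have huniq : ∀ z' ∈ snd ⁻¹' S ∩ Set.range Δ, fst z' = r → z' = Δ r := by
        rintro _ ⟨_, ⟨r', rfl⟩⟩ hz
        rw [fst_diagonal_apply] at hz
        rw [hz]
      rw [FI_of_fibre_singleton fst (ω ∘ snd) _ r (Δ r) hmem (fst_diagonal_apply ρ r) huniq]
      rw [sd_fst_diagonal]
      simp only [Function.comp_apply, Nat.cast_one, mul_one]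
      rw [snd_diagonal_apply]
    · apply FI_empty_fibre
      ext z
      simp only [mem_inter_iff, mem_preimage, mem_singleton_iff, mem_empty_iff_false, iff_false]
      rintro ⟨⟨hz1, ⟨r', rfl⟩⟩, hz2⟩
      rw [fst_diagonal_apply] at hz2
      rw [snd_diagonal_apply, hz2] at hz1
      exact hr hz1
  have h5 : FI (p1 ρ) (ω ∘ p2 ρ) (p2 ρ ⁻¹' S) r =
      FI fst (ω ∘ snd) (snd ⁻¹' S ∩ (SN442.offDiag ρ : Set _)) r := h1
  rw [h5]
  rw [h2, h4] at h3
  omega

end

end Groth.Agent.Helper4.SN443
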