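import Mathlib
import Groth.Agent.Helper4.SN441
import Groth.Agent.Helper4.SN443

/-!
# Constructibility of fibre counts and of fibre integrals
-/

set_option autoImplicit false
universe u

open Topology Set AlgebraicGeometry CategoryTheory CategoryTheory.Limits TopologicalSpace
open Groth.Agent.Helper4.WtA Groth.Agent.Helper4.WtB Groth.Agent.Helper4.WtC
open Groth.Agent.Helper4.SN441 Groth.Agent.Helper4.SN442 Groth.Agent.Helper4.SN443

namespace Groth.Agent.Helper4.SN444

theorem finite_fibre {R X : Scheme.{u}} (ρ : R ⟶ X) [LocallyQuasiFinite ρ] [QuasiCompact ρ]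
    (S : Set R) (x : X) : (S ∩ ρ ⁻¹' {x}).Finite :=
  (ρ.finite_preimage_singleton x).subset Set.inter_subset_right

theorem FI_mono {R X : Scheme.{u}} (ρ : R ⟶ X) [LocallyQuasiFinite ρ] [QuasiCompact ρ]
    (E : Set R) (x : X) :
    FI ρ (fun _ => 1) E x ≤ FI ρ (fun _ => 1) Set.univ x := by
  have h := FI_union ρ (fun _ => 1) E Eᶜ x disjoint_compl_right (finite_fibre ρ _ x)
    (finite_fibre ρ _ x)
  rw [Set.union_compl_self] at h
  have h2 := FI_nonneg ρ (fun _ => 1) Eᶜ x (fun _ _ => zero_le_one)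
  omega

/-- Claim N: the sets where at least `k` geometric points of the fibre lie in `E` are locally
constructible. -/
theorem isLocallyConstructible_le_FI : ∀ (k : ℕ) {R X : Scheme.{u}} (ρ : R ⟶ X)
    [LocallyQuasiFinite ρ] [LocallyOfFinitePresentation ρ] [QuasiCompact ρ] [IsSeparated ρ]
    (E : Set R) (_ : IsLocallyConstructible E),
    IsLocallyConstructible {x : X | (k : ℤ) ≤ FI ρ (fun _ => 1) E x} := by
  classical
  intro k
  induction k with
  | zero =>
    intro R X ρ _ _ _ _ E hE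
    have : {x : X | ((0 : ℕ) : ℤ) ≤ FI ρ (fun _ => 1) E x} = Set.univ := by
      ext x
      simp only [mem_setOf_eq, mem_univ, iff_true, Nat.cast_zero]
      exact FI_nonneg ρ _ E x (fun _ _ => zero_le_one)
    rw [this]
    exact isLocallyConstructible_of_isClopen isClopen_univ
  | succ k ih =>
    intro R X ρ _ _ _ _ E hE
    have hE' : IsLocallyConstructible (p2 ρ ⁻¹' E) := isLocallyConstructible_preimage (p2 ρ) hE
    have hT := ih (p1 ρ) (p2 ρ ⁻¹' E) hE'
    have hid : ∀ r : R, FI (p1 ρ) (fun _ => 1) (p2 ρ ⁻¹' E) r =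
        FI ρ (fun _ => 1) E (ρ r) - (if r ∈ E then 1 else 0) := by
      intro r
      exact FI_p1 ρ (fun _ => 1) E r (finite_fibre ρ E (ρ r))
    have himg := ρ.isLocallyConstructible_image (hE.inter hT)
    refine (congrArg IsLocallyConstructible ?_).mp himg
    ext x
    simp only [mem_image, mem_inter_iff, mem_setOf_eq]
    constructor
    · rintro ⟨r, ⟨hrE, hrT⟩, rfl⟩
      rw [hid r, if_pos hrE] at hrT
      push_cast
      omega
    · intro hx
      have hne : (E ∩ ρ ⁻¹' {x}).Nonempty := by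
        by_contra hcon
        rw [Set.not_nonempty_iff_eq_empty] at hcon
        rw [FI_empty_fibre ρ _ E x hcon] at hx
        push_cast at hx
        omega
      obtain ⟨r, hrE, hrx⟩ := hne
      have hrx' : ρ r = x := hrx
      refine ⟨r, ⟨hrE, ?_⟩, hrx'⟩
      rw [hid r, if_pos hrE, hrx']
      push_cast at hx
      omega

/-- the number of geometric points of the fibre lying in a locally constructible set is a
constructible function -/
theorem CF_FI_one {R X : Scheme.{u}} (ρ : R ⟶ X) [LocallyQuasiFinite ρ]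
    [LocallyOfFinitePresentation ρ] [QuasiCompact ρ] [IsSeparated ρ] (E : Set R)
    (hE : IsLocallyConstructible E) (m : ℤ) (hm : ∀ x, FI ρ (fun _ => 1) Set.univ x ≤ m) :
    CF (fun x => FI ρ (fun _ => 1) E x) :=
  CF.of_le m (fun x => FI_nonneg ρ _ E x (fun _ _ => zero_le_one))
    (fun x => (FI_mono ρ E x).trans (hm x)) (fun k => isLocallyConstructible_le_FI k ρ E hE)

theorem FI_level {R X : Scheme.{u}} (ρ : R ⟶ X) (ω : R → ℤ) (a : ℤ) (x : X) :
    FI ρ ω {r | ω r = a} x = a * FI ρ (fun _ => 1) {r | ω r = a} x := by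
  unfold FI
  rw [mul_finsum_mem]
  refine finsum_mem_congr rfl ?_
  rintro r ⟨hr, -⟩
  have : ω r = a := hr
  rw [this, one_mul]

/-- Claim C: fibre integrals of constructible functions are constructible. -/
theorem CF_FI {R X : Scheme.{u}} (ρ : R ⟶ X) [LocallyQuasiFinite ρ]
    [LocallyOfFinitePresentation ρ] [QuasiCompact ρ] [IsSeparated ρ] (ω : R → ℤ)
    (hω : CF ω) (m : ℤ) (hm : ∀ x, FI ρ (fun _ => 1) Set.univ x ≤ m) :
    CF (fun x => FI ρ ω Set.univ x) := by
  classical
  apply CF.of_local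
  intro x₀
  obtain ⟨_, ⟨(U : X.Opens), hU, rfl⟩, hxU, -⟩ :=
    X.isBasis_affineOpens.exists_subset_of_mem_open (Set.mem_univ x₀) isOpen_univ
  have hK : IsCompact (ρ ⁻¹' (U : Set X)) :=
    QuasiCompact.isCompact_preimage _ U.isOpen hU.isCompact
  have hA := hω.finite_image hK
  set A := hA.toFinset with hAdef
  refine ⟨U, U.isOpen, hxU, fun x => ∑ a ∈ A, a * FI ρ (fun _ => 1) {r | ω r = a} x, ?_, ?_⟩
  · exact CF.finset_sum A _ fun a _ =>
      CF.map (fun b => a * b) (CF_FI_one ρ {r | ω r = a} (hω.1 a) m hm)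
  · intro y hy
    show FI ρ ω Set.univ y = ∑ a ∈ A, a * FI ρ (fun _ => 1) {r | ω r = a} y
    have h1 := WtD.FI_decomp ρ ω Set.univ (T := ↥A) (fun t => {r | ω r = (t : ℤ)}) y
      (fun t => finite_fibre ρ _ y) ?_ ?_
    · rw [h1, finsum_eq_sum_of_fintype,
        ← Finset.sum_coe_sort A (fun a => a * FI ρ (fun _ => 1) {r | ω r = a} y)]
      exact Finset.sum_congr rfl fun t _ => FI_level ρ ω t y
    · intro z hz
      simp only [mem_univ, true_iff, mem_setOf_eq]
      refine ⟨⟨ω z, ?_⟩, rfl⟩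
      rw [hAdef, Set.Finite.mem_toFinset]
      refine ⟨z, ?_, rfl⟩
      show ρ z ∈ U
      rw [hz]; exact hy
    · intro z _ t t' h1 h2
      apply Subtype.ext
      have e1 : ω z = t := h1
      have e2 : ω z = t' := h2
      rw [← e1, ← e2]

end Groth.Agent.Helper4.SN444
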