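import Mathlib
import Groth.Agent.Helper4.GeomFibQF
import Groth.Agent.Helper4.WtJ

/-!
# A uniform bound for the number of geometric points of the fibres
-/

set_option autoImplicit false
universe u

open Topology Set AlgebraicGeometry CategoryTheory CategoryTheory.Limits TopologicalSpace
open Groth.Agent.Helper4.WtA Groth.Agent.Helper4.WtB Groth.Agent.Helper4.WtC

namespace Groth.Agent.Helper4.SN445

theorem isSepClosed_of_ringEquiv {K F : Type*} [Field K] [Field F] [IsSepClosed K]
    (e : K ≃+* F) : IsSepClosed F := by
  refine ⟨fun p hp => ?_⟩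
  have h1 : (p.map (e.symm : F →+* K)).Splits :=
    IsSepClosed.splits_of_separable _ (hp.map)
  have h2 := h1.map (e : K →+* F)
  rw [Polynomial.map_map] at h2
  have : ((e : K →+* F).comp (e.symm : F →+* K)) = RingHom.id F := by
    ext x; simp
  rwa [this, Polynomial.map_id] at h2

theorem isSepClosed_residueField (L : Type u) [Field L] [IsSepClosed L]
    (s : Spec (CommRingCat.of L)) : IsSepClosed ((Spec (CommRingCat.of L)).residueField s) := by
  have e1 : L ≃+* s.asIdeal.ResidueField :=
    (Ideal.algEquivResidueFieldOfField s.asIdeal).toRingEquiv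
  have e2 : (Spec (CommRingCat.of L)).residueField s ≃+* s.asIdeal.ResidueField :=
    (Scheme.Spec.residueFieldIso (CommRingCat.of L) s).commRingCatIsoToRingEquiv
  exact isSepClosed_of_ringEquiv (e1.trans e2.symm)

theorem sd_eq_one_of_isSepClosed {G : Scheme.{u}} (L : Type u) [Field L] [IsSepClosed L]
    (q : G ⟶ Spec (CommRingCat.of L)) [LocallyQuasiFinite q] (z : G) : sd q z = 1 := by
  unfold sd
  letI := (q.residueFieldMap z).hom.toAlgebra
  haveI : Module.Finite ((Spec (CommRingCat.of L)).residueField (q z)) (G.residueField z) :=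
    resFin_of_lqf q z
  haveI := isSepClosed_residueField L (q z)
  exact IsPurelyInseparable.finSepDegree_eq_one _ _

theorem FI_one_le_card {G W : Scheme.{u}} (q : G ⟶ W) [Finite G] (hsd : ∀ z, sd q z = 1)
    (v : W) : FI q (fun _ => 1) Set.univ v ≤ Nat.card G := by
  classical
  haveI := Fintype.ofFinite G
  unfold FI
  rw [finsum_mem_eq_finite_toFinset_sum _ (Set.toFinite _)]
  simp only [hsd, Nat.cast_one, mul_one, Finset.sum_const, nsmul_eq_mul]
  rw [Nat.card_eq_fintype_card]
  exact_mod_cast Finset.card_le_univ _

/-- the fibres of a locally quasi-finite morphism with quasi-compact source are finite -/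
theorem finite_preimage_singleton_of_compactSpace {X Y : Scheme.{u}} (f : X ⟶ Y)
    [LocallyQuasiFinite f] [LocallyOfFiniteType f] [CompactSpace X] (y : Y) :
    (f ⁻¹' {y}).Finite := by
  obtain ⟨n, hn⟩ := BddFib8.s7441 f
  obtain ⟨hfinG, -⟩ := GeomFibQF.card_geomFiber_le f n hn y
  set a := Spec.map (CommRingCat.ofHom
    (algebraMap (Y.residueField y) (SeparableClosure (Y.residueField y)))) with ha
  have sq1 : IsPullback (pullback.fst (f.fiberToSpecResidueField y) a)
      (pullback.snd (f.fiberToSpecResidueField y) a) (f.fiberToSpecResidueField y) a :=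
    IsPullback.of_hasPullback _ _
  have sq2 : IsPullback (f.fiberι y) (f.fiberToSpecResidueField y) f
      (Y.fromSpecResidueField y) := IsPullback.of_hasPullback _ _
  have hc := sq1.paste_horiz sq2
  set h := pullback.fst (f.fiberToSpecResidueField y) a ≫ f.fiberι y with hh
  haveI : Finite ↑(pullback (f.fiberToSpecResidueField y) a) := hfinG
  set pt : Spec (CommRingCat.of (SeparableClosure (Y.residueField y))) :=
    IsLocalRing.closedPoint _ with hpt
  have hgpt : (a ≫ Y.fromSpecResidueField y) pt = y :=
    Scheme.fromSpecResidueField_apply y _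
  refine (Set.finite_range (fun z => h z)).subset ?_
  intro x hx
  have hx' : f x = (a ≫ Y.fromSpecResidueField y) pt := by rw [hgpt]; exact hx
  obtain ⟨z, hz1, -⟩ := Scheme.exists_preimage_of_isPullback hc x pt hx'
  exact ⟨z, hz1⟩

/-- the number of geometric points in the fibres of a locally quasi-finite morphism with
quasi-compact source is bounded -/
theorem exists_bound {X Y : Scheme.{u}} (f : X ⟶ Y) [LocallyQuasiFinite f]
    [LocallyOfFiniteType f] [CompactSpace X] :
    ∃ m : ℤ, ∀ y : Y, FI f (fun _ => 1) Set.univ y ≤ m := by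
  obtain ⟨n, hn⟩ := BddFib8.s7441 f
  refine ⟨n, fun y => ?_⟩
  obtain ⟨hfinG, hle⟩ := GeomFibQF.card_geomFiber_le f n hn y
  set a := Spec.map (CommRingCat.ofHom
    (algebraMap (Y.residueField y) (SeparableClosure (Y.residueField y)))) with ha
  have sq1 : IsPullback (pullback.fst (f.fiberToSpecResidueField y) a)
      (pullback.snd (f.fiberToSpecResidueField y) a) (f.fiberToSpecResidueField y) a :=
    IsPullback.of_hasPullback _ _
  have sq2 : IsPullback (f.fiberι y) (f.fiberToSpecResidueField y) f
      (Y.fromSpecResidueField y) := IsPullback.of_hasPullback _ _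
  have hc := sq1.paste_horiz sq2
  set h := pullback.fst (f.fiberToSpecResidueField y) a ≫ f.fiberι y with hh
  set q := pullback.snd (f.fiberToSpecResidueField y) a with hq
  haveI : LocallyQuasiFinite q := lqf_of_isPullback hc
  haveI : Finite ↑(pullback (f.fiberToSpecResidueField y) a) := hfinG
  set pt : Spec (CommRingCat.of (SeparableClosure (Y.residueField y))) :=
    IsLocalRing.closedPoint _ with hpt
  have hgpt : (a ≫ Y.fromSpecResidueField y) pt = y :=
    Scheme.fromSpecResidueField_apply y _
  have hfib : ((Set.univ : Set X) ∩ f ⁻¹' {(a ≫ Y.fromSpecResidueField y) pt}).Finite := by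
    refine (Set.finite_range (fun z => h z)).subset ?_
    rintro x ⟨-, hx⟩
    obtain ⟨z, hz1, -⟩ := Scheme.exists_preimage_of_isPullback hc x pt hx
    exact ⟨z, hz1⟩
  have hbc := FI_bc hc (fun _ => 1) Set.univ pt hfib
  rw [hgpt] at hbc
  rw [← hbc, Set.preimage_univ]
  have hb := FI_one_le_card q
    (sd_eq_one_of_isSepClosed (SeparableClosure (Y.residueField y)) q) pt
  have hle' : (Nat.card ↑(pullback (f.fiberToSpecResidueField y) a) : ℤ) ≤ n := by
    exact_mod_cast hle
  exact hb.trans hle'

end Groth.Agent.Helper4.SN445
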