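import Mathlib
import Groth.Agent.Helper4.WtJ
import Groth.Agent.Helper4.SN443

/-!
# Extension by zero of a weighting along a closed immersion
-/

set_option autoImplicit false
universe u

open Topology Set AlgebraicGeometry CategoryTheory CategoryTheory.Limits TopologicalSpace
open Groth.Agent.Helper4.WtA Groth.Agent.Helper4.WtB Groth.Agent.Helper4.WtC

namespace Groth.Agent.Helper4.SN446

theorem FI_mono_imm {U P V : Scheme.{u}} (j : U ⟶ P) [Mono j] (hj : Function.Injective j)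
    (p : P ⟶ V) (w : P → ℤ) (S : Set P) (v : V) :
    FI (j ≫ p) (w ∘ j) (j ⁻¹' S) v = FI p w (S ∩ Set.range j) v := by
  unfold FI
  refine finsum_mem_eq_of_bijOn (fun u => j u) ⟨?_, ?_, ?_⟩ ?_
  · rintro u ⟨hu1, hu2⟩
    exact ⟨⟨hu1, u, rfl⟩, hu2⟩
  · intro a _ b _ hab
    exact hj hab
  · rintro x ⟨⟨hx1, u, rfl⟩, hx2⟩
    exact ⟨u, ⟨hx1, hx2⟩, rfl⟩
  · intro u _
    simp only [Function.comp_apply]
    haveI := SN443.isIso_residueFieldMap_of_mono j u
    rw [sd_comp_of_isIso]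

theorem FI_inter_of_zero {P V : Scheme.{u}} (p : P ⟶ V) (w : P → ℤ) (S T : Set P) (v : V)
    (h : ∀ x ∈ S, x ∉ T → w x = 0) : FI p w S v = FI p w (S ∩ T) v := by
  unfold FI
  apply finsum_mem_inter_support_eq
  ext x
  simp only [mem_inter_iff, mem_preimage, mem_singleton_iff, Function.mem_support, ne_eq]
  constructor
  · rintro ⟨⟨hxS, hxv⟩, hne⟩
    refine ⟨⟨⟨hxS, ?_⟩, hxv⟩, hne⟩
    by_contra hxT
    apply hne
    rw [h x hxS hxT, zero_mul]
  · rintro ⟨⟨⟨hxS, -⟩, hxv⟩, hne⟩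
    exact ⟨⟨hxS, hxv⟩, hne⟩

/-- extension by zero of a weighting along a closed immersion is a weighting -/
theorem isWeighting_extend {X₁ Xt Y : Scheme.{u}} (i : X₁ ⟶ Xt) [IsClosedImmersion i]
    (ft : Xt ⟶ Y) [LocallyQuasiFinite ft] [LocallyOfFiniteType ft]
    (w₁ : X₁ → ℤ) (hw₁ : MoreMor.IsWeighting (i ≫ ft) w₁) (wt : Xt → ℤ)
    (h1 : ∀ x, wt (i x) = w₁ x) (h0 : ∀ z, z ∉ Set.range i → wt z = 0) :
    MoreMor.IsWeighting ft wt := by
  apply isWeighting_of
  intro V g _ U hU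
  set k : pullback (i ≫ ft) g ⟶ pullback ft g :=
    pullback.map (i ≫ ft) g ft g i (𝟙 V) (𝟙 Y) (by simp) (by simp) with hk
  have hk1 : k ≫ pullback.fst ft g = pullback.fst (i ≫ ft) g ≫ i := pullback.lift_fst _ _ _
  have hk2 : k ≫ pullback.snd ft g = pullback.snd (i ≫ ft) g := by
    have := pullback.lift_snd (f := ft) (g := g) (pullback.fst (i ≫ ft) g ≫ i)
      (pullback.snd (i ≫ ft) g ≫ 𝟙 V)
      (by simp only [Category.assoc, Category.comp_id]
          exact pullback.condition)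
    exact this.trans (Category.comp_id _)
  have hsq : IsPullback k (pullback.fst (i ≫ ft) g) (pullback.fst ft g) i := by
    refine IsPullback.of_right ?_ hk1 (IsPullback.of_hasPullback ft g).flip
    rw [hk2]
    exact (IsPullback.of_hasPullback (i ≫ ft) g).flip
  haveI : IsClosedImmersion k := MorphismProperty.of_isPullback hsq.flip ‹IsClosedImmersion i›
  have hkpt : ∀ z, pullback.fst ft g (k z) = i (pullback.fst (i ≫ ft) g z) := by
    intro z
    have : (k ≫ pullback.fst ft g) z = (pullback.fst (i ≫ ft) g ≫ i) z := by rw [hk1]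
    exact this
  have hfin₁ : IsFinite ((k ⁻¹ᵁ U).ι ≫ pullback.snd (i ≫ ft) g) := by
    have e : (k ⁻¹ᵁ U).ι ≫ pullback.snd (i ≫ ft) g = (k ∣_ U) ≫ U.ι ≫ pullback.snd ft g := by
      rw [← hk2, ← Category.assoc, ← Category.assoc, morphismRestrict_ι]
    rw [e]
    haveI : IsClosedImmersion (k ∣_ U) := IsZariskiLocalAtTarget.restrict ‹_› U
    haveI := hU
    infer_instance
  have hlc := IsWeighting.locConst hw₁ g (pullback.fst (i ≫ ft) g) (pullback.snd (i ≫ ft) g)
    (IsPullback.of_hasPullback _ _) (k ⁻¹ᵁ U) hfin₁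
  have key : ∀ v, FI (pullback.snd ft g) (wt ∘ pullback.fst ft g) (U : Set _) v =
      FI (pullback.snd (i ≫ ft) g) (w₁ ∘ pullback.fst (i ≫ ft) g) ((k ⁻¹ᵁ U : Opens _) : Set _) v := by
    intro v
    have e1 := FI_mono_imm k k.isClosedEmbedding.injective (pullback.snd ft g)
      (wt ∘ pullback.fst ft g) (U : Set _) v
    have e2 : (wt ∘ pullback.fst ft g) ∘ k = w₁ ∘ pullback.fst (i ≫ ft) g := by
      funext z
      simp only [Function.comp_apply]
      rw [hkpt, h1]
    rw [e2, hk2] at e1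
    have e3 := FI_inter_of_zero (pullback.snd ft g) (wt ∘ pullback.fst ft g) (U : Set _)
      (Set.range k) v ?_
    · rw [e3, ← e1]
      rfl
    · intro z _ hz
      simp only [Function.comp_apply]
      apply h0
      rintro ⟨x₁, hx₁⟩
      obtain ⟨z₁, hz₁, -⟩ := Scheme.exists_preimage_of_isPullback hsq z x₁ hx₁.symm
      exact hz ⟨z₁, hz₁⟩
  rw [funext key]
  exact hlc

end Groth.Agent.Helper4.SN446
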