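import Mathlib
import Groth.Agent.Helper4.SN444
import Groth.Agent.Helper4.WtJ
import Groth.Agent.Helper3.QFFibre

/-!
# Weightings of separated quasi-finite morphisms of finite presentation are constructible
-/

set_option autoImplicit false
universe u

open Topology Set AlgebraicGeometry CategoryTheory CategoryTheory.Limits TopologicalSpace
open Groth.Agent.Helper4.WtA Groth.Agent.Helper4.WtB Groth.Agent.Helper4.WtC
open Groth.Agent.Helper4.WtF
open Groth.Agent.Helper4.SN441 Groth.Agent.Helper4.SN442 Groth.Agent.Helper4.SN443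
open Groth.Agent.Helper4.SN444

namespace Groth.Agent.Helper4.SN447

/-- the integral of a weighting along a finite morphism is locally constant -/
theorem isLocallyConstant_FI_of_isFinite {X Y : Scheme.{u}} (f : X ⟶ Y) [IsFinite f]
    (w : X → ℤ) (hw : MoreMor.IsWeighting f w) : IsLocallyConstant (FI f w Set.univ) := by
  have hU : IsFinite ((⊤ : X.Opens).ι ≫ f) :=
    (MorphismProperty.cancel_left_of_respectsIso @IsFinite X.topIso.hom f).mpr inferInstance
  have := IsWeighting.locConst hw (𝟙 Y) (𝟙 X) f IsPullback.of_id_fst ⊤ hU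
  exact this

/-- the step for finite morphisms -/
theorem step_finite (m : ℕ)
    (ih : ∀ {X Y : Scheme.{u}} (f : X ⟶ Y) [LocallyQuasiFinite f] [LocallyOfFinitePresentation f]
      [QuasiCompact f] [IsSeparated f] (w : X → ℤ), MoreMor.IsWeighting f w →
      (∀ y, FI f (fun _ => 1) Set.univ y ≤ (m : ℤ)) → CF w)
    {X Y : Scheme.{u}} (f : X ⟶ Y) [IsFinite f] [LocallyOfFinitePresentation f] (w : X → ℤ)
    (hw : MoreMor.IsWeighting f w)
    (hm : ∀ y, FI f (fun _ => 1) Set.univ y ≤ ((m + 1 : ℕ) : ℤ)) : CF w := by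
  have hfinfib : ∀ (S : Set X) (x : X), (S ∩ f ⁻¹' {f x}).Finite := fun S x =>
    finite_fibre f S (f x)
  -- the weighting on the complement of the diagonal
  have hwP : MoreMor.IsWeighting (pullback.fst f f) (w ∘ pullback.snd f f) :=
    isWeighting_baseChange f w hw (pullback.fst f f) (pullback.snd f f) f
      (IsPullback.of_hasPullback f f).flip
  have hwR : MoreMor.IsWeighting (p1 f) (w ∘ p2 f) :=
    isWeighting_restrict (pullback.fst f f) (w ∘ pullback.snd f f) hwP (SN442.offDiag f)
  have hN : ∀ x, FI (p1 f) (fun _ => 1) Set.univ x ≤ (m : ℤ) := by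
    intro x
    have h1 := FI_p1 f (fun _ => 1) Set.univ x (hfinfib _ x)
    rw [if_pos (Set.mem_univ x)] at h1
    have h2 := hm (f x)
    have h3 : FI (p1 f) (fun _ => 1) Set.univ x = FI f (fun _ => 1) Set.univ (f x) - 1 := h1
    rw [h3]
    push_cast at h2
    omega
  have hCFR : CF (w ∘ p2 f) := ih (p1 f) (w ∘ p2 f) hwR hN
  have hC := CF_FI (p1 f) (w ∘ p2 f) hCFR m hN
  have hid : ∀ x, FI (p1 f) (w ∘ p2 f) Set.univ x = FI f w Set.univ (f x) - w x := by
    intro x
    have h1 := FI_p1 f w Set.univ x (hfinfib _ x)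
    rw [if_pos (Set.mem_univ x)] at h1
    exact h1
  have hΦ : CF (FI f w Set.univ ∘ f) :=
    CF.comp f (CF.of_isLocallyConstant (isLocallyConstant_FI_of_isFinite f w hw))
  have := hΦ.sub hC
  refine (congrArg CF ?_).mp this
  funext x
  simp only [Function.comp_apply]
  rw [hid x]
  omega

/-- Theorem A: a weighting of a separated quasi-finite morphism of finite presentation with
bounded geometric fibres is a constructible function -/
theorem CF_of_isWeighting_of_bound : ∀ (m : ℕ) {X Y : Scheme.{u}} (f : X ⟶ Y)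
    [LocallyQuasiFinite f] [LocallyOfFinitePresentation f] [QuasiCompact f] [IsSeparated f]
    (w : X → ℤ), MoreMor.IsWeighting f w →
    (∀ y, FI f (fun _ => 1) Set.univ y ≤ (m : ℤ)) → CF w := by
  intro m
  induction m with
  | zero =>
    intro X Y f _ _ _ _ w _ hm
    have hX : IsEmpty X := by
      refine ⟨fun x => ?_⟩
      have h1 := le_FI_of_pos f (fun _ => 1) Set.univ (fun _ _ => one_pos) x (Set.mem_univ x)
        (finite_fibre f _ _)
      have h2 := hm (f x)
      simp only [Nat.cast_zero] at h2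
      omega
    exact ⟨fun n x => (hX.false x).elim, fun x => (hX.false x).elim⟩
  | succ m ih =>
    intro X Y f _ _ _ _ w hw hm
    apply CF.of_etale_cover
    intro x
    obtain ⟨Y', g, y', hg, hgy, -, V, W, -, hVfin, hV⟩ :=
      Groth.Agent.Helper3.QFFibre.main f (f x) (f.finite_preimage_singleton (f x))
    haveI := hg
    haveI : IsFinite (V.ι ≫ pullback.snd f g) := hVfin
    have hwP : MoreMor.IsWeighting (pullback.snd f g) (w ∘ pullback.fst f g) :=
      isWeighting_baseChange f w hw (pullback.snd f g) (pullback.fst f g) g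
        (IsPullback.of_hasPullback f g)
    have hwV : MoreMor.IsWeighting (V.ι ≫ pullback.snd f g)
        (fun z => (w ∘ pullback.fst f g) (V.ι z)) :=
      isWeighting_restrict (pullback.snd f g) (w ∘ pullback.fst f g) hwP V
    have hN : ∀ y₁, FI (V.ι ≫ pullback.snd f g) (fun _ => 1) Set.univ y₁ ≤ ((m + 1 : ℕ) : ℤ) := by
      intro y₁
      have h1 := FI_openImm V.ι (pullback.snd f g) (fun _ => 1) Set.univ y₁
      have h1' : FI (V.ι ≫ pullback.snd f g) (fun _ => 1) Set.univ y₁ =
        FI (pullback.snd f g) (fun _ => 1) (Set.univ ∩ Set.range V.ι) y₁ := h1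
      have h2 := FI_mono (pullback.snd f g) (Set.univ ∩ Set.range V.ι) y₁
      have h3 := FI_bc (IsPullback.of_hasPullback f g) (fun _ => 1) Set.univ y₁
        (finite_fibre f _ _)
      have h3' : FI (pullback.snd f g) (fun _ => 1) Set.univ y₁ =
        FI f (fun _ => 1) Set.univ (g y₁) := h3
      have h4 := hm (g y₁)
      rw [h1']
      rw [h3'] at h2
      exact h2.trans h4
    have hCF := step_finite m (fun f' _ _ _ _ w' hw' hm' => ih f' w' hw' hm')
      (V.ι ≫ pullback.snd f g) _ hwV hN
    refine ⟨V, V.ι ≫ pullback.fst f g, inferInstance, ?_, hCF⟩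
    obtain ⟨z, hz1, hz2⟩ := Scheme.Pullback.exists_preimage_pullback (f := f) (g := g) x y'
      hgy.symm
    exact ⟨⟨z, hV z hz2⟩, hz1⟩

end Groth.Agent.Helper4.SN447
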