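import Mathlib
import Groth.Agent.Helper4.SN445
import Groth.Agent.Helper4.SN446
import Groth.Agent.Helper4.SN447
import Groth.Agent.S1353
import Groth.Agent.S7396

/-!
# Weightings of locally quasi-finite morphisms are constructible functions
-/

set_option autoImplicit false
universe u

open Topology Set AlgebraicGeometry CategoryTheory CategoryTheory.Limits TopologicalSpace
open Groth.Agent.Helper4.WtA Groth.Agent.Helper4.WtB Groth.Agent.Helper4.WtC
open Groth.Agent.Helper4.WtF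
open Groth.Agent.Helper4.SN441

namespace Groth.Agent.Helper4.SN448

set_option maxHeartbeats 1600000 in
/-- a weighting of a locally quasi-finite morphism is a locally constructible function -/
theorem CF_of_isWeighting {X Y : Scheme.{u}} (f : X ⟶ Y) [LocallyQuasiFinite f]
    [LocallyOfFiniteType f] (w : X → ℤ) (hw : MoreMor.IsWeighting f w) : CF w := by
  apply CF.of_etale_cover
  intro x₀
  obtain ⟨U, g, u, hnb, V, v, hvV, hVfin, hvu, -, hvx, -⟩ :=
    Groth.Agent.S1353.result f x₀ (f.quasiFiniteAt x₀)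
  haveI := hnb.etale
  set π := pullback.snd f g with hπ
  obtain ⟨_, ⟨(U₀ : U.Opens), hU₀, rfl⟩, huU₀, -⟩ :=
    U.isBasis_affineOpens.exists_subset_of_mem_open (Set.mem_univ u) isOpen_univ
  have A : IsPullback (π ⁻¹ᵁ U₀).ι (π ∣_ U₀) π U₀.ι := (isPullback_morphismRestrict π U₀).flip
  have sq : IsPullback ((π ⁻¹ᵁ U₀).ι ≫ pullback.fst f g) (π ∣_ U₀) f (U₀.ι ≫ g) :=
    A.paste_horiz (IsPullback.of_hasPullback f g)
  haveI : LocallyQuasiFinite (π ∣_ U₀) := lqf_of_isPullback sq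
  have hwP := isWeighting_baseChange f w hw (π ∣_ U₀) ((π ⁻¹ᵁ U₀).ι ≫ pullback.fst f g)
    (U₀.ι ≫ g) sq
  set X' : (π ⁻¹ᵁ U₀ : Scheme.{u}).Opens := (π ⁻¹ᵁ U₀).ι ⁻¹ᵁ V with hX'
  have hfin : IsFinite (X'.ι ≫ π ∣_ U₀) := WtD.isFinite_preimage_of_isPullback A V hVfin
  have hw₁ := isWeighting_restrict (π ∣_ U₀) _ hwP X'
  set w₁ : X' → ℤ := fun z => (w ∘ ((π ⁻¹ᵁ U₀).ι ≫ pullback.fst f g)) (X'.ι z) with hw₁def
  haveI : IsAffine (U₀ : Scheme.{u}) := hU₀
  haveI := hfin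
  obtain ⟨Xt, ft, i, hft1, hft2, hi, hfac⟩ := Groth.Agent.S7396.result (X'.ι ≫ π ∣_ U₀)
  haveI := hft1
  haveI := hft2
  haveI := hi
  set wt : Xt → ℤ := Function.extend (fun z => i z) w₁ 0 with hwt
  have h1 : ∀ z, wt (i z) = w₁ z := fun z =>
    i.isClosedEmbedding.injective.extend_apply w₁ 0 z
  have h0 : ∀ z, z ∉ Set.range i → wt z = 0 := by
    intro z hz
    have := Function.extend_apply' (f := fun z => i z) w₁ 0 z (by
      rintro ⟨a, ha⟩; exact hz ⟨a, ha⟩)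
    exact this
  have hw₁' : MoreMor.IsWeighting (i ≫ ft) w₁ := by rw [hfac]; exact hw₁
  have hwtW := SN446.isWeighting_extend i ft w₁ hw₁' wt h1 h0
  haveI : IsAffine Xt := isAffine_of_isAffineHom ft
  obtain ⟨m, hm⟩ := SN445.exists_bound ft
  have hCFt : CF wt := SN447.CF_of_isWeighting_of_bound m.toNat ft wt hwtW
    (fun y => (hm y).trans (Int.self_le_toNat m))
  have hCF₁ : CF (wt ∘ i) := CF.comp i hCFt
  have hwi : wt ∘ i = w₁ := funext h1
  rw [hwi] at hCF₁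
  refine ⟨X', X'.ι ≫ (π ⁻¹ᵁ U₀).ι ≫ pullback.fst f g, inferInstance, ?_, hCF₁⟩
  have hv1 : v ∈ π ⁻¹ᵁ U₀ := by
    show π v ∈ U₀
    rw [hvu]; exact huU₀
  exact ⟨⟨⟨v, hv1⟩, hvV⟩, hvx⟩

end Groth.Agent.Helper4.SN448
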