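import Mathlib
import Groth.Agent.Helper4.SN448

/-!
# The fibre integral of a weighting on a quasi-compact source attains its maximum
-/

set_option autoImplicit false
universe u

open Topology Set AlgebraicGeometry CategoryTheory CategoryTheory.Limits TopologicalSpace
open Groth.Agent.Helper4.WtA Groth.Agent.Helper4.WtB Groth.Agent.Helper4.WtC
open Groth.Agent.Helper4.SN441

namespace Groth.Agent.Helper4.SN449

theorem FI_le_mul {X Y : Scheme.{u}} (f : X ⟶ Y) (w : X → ℤ) (M : ℤ) (hM : ∀ x, w x ≤ M)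
    (y : Y) (hfin : (f ⁻¹' {y}).Finite) :
    FI f w Set.univ y ≤ M * FI f (fun _ => 1) Set.univ y := by
  unfold FI
  have hfin' : ((Set.univ : Set X) ∩ f ⁻¹' {y}).Finite := by rwa [Set.univ_inter]
  rw [finsum_mem_eq_finite_toFinset_sum _ hfin', finsum_mem_eq_finite_toFinset_sum _ hfin',
    Finset.mul_sum]
  refine Finset.sum_le_sum fun x _ => ?_
  rw [one_mul]
  exact mul_le_mul_of_nonneg_right (hM x) (Int.natCast_nonneg _)

/-- the fibre integral of a weighting along a locally quasi-finite morphism with quasi-compact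
source is bounded above and attains its maximum -/
theorem exists_max {X Y : Scheme.{u}} (f : X ⟶ Y) [LocallyQuasiFinite f]
    [LocallyOfFiniteType f] [CompactSpace X] (w : X → ℤ) (hw : MoreMor.IsWeighting f w)
    [Nonempty Y] :
    ∃ y₀ : Y, ∀ y : Y, MoreMor.fibreIntegral f w y ≤ MoreMor.fibreIntegral f w y₀ := by
  have hCF := SN448.CF_of_isWeighting f w hw
  have hA := hCF.finite_image (isCompact_univ (X := X))
  obtain ⟨M₀, hM₀⟩ := hA.bddAbove
  obtain ⟨m, hm⟩ := SN445.exists_bound f
  set M := max M₀ 0 with hMdef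
  have hM : ∀ x, w x ≤ M := fun x =>
    (hM₀ ⟨x, Set.mem_univ x, rfl⟩).trans (le_max_left _ _)
  have hM0 : 0 ≤ M := le_max_right _ _
  have hbd : ∀ y, MoreMor.fibreIntegral f w y ≤ M * max m 0 := by
    intro y
    rw [fibreIntegral_eq_FI]
    refine (FI_le_mul f w M hM y
      (SN445.finite_preimage_singleton_of_compactSpace f y)).trans ?_
    exact mul_le_mul_of_nonneg_left ((hm y).trans (le_max_left _ _)) hM0
  obtain ⟨ub, ⟨y₀, hy₀⟩, hub⟩ := Int.exists_greatest_of_bdd
    (P := fun z => ∃ y, MoreMor.fibreIntegral f w y = z)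
    ⟨M * max m 0, by rintro z ⟨y, rfl⟩; exact hbd y⟩
    ⟨_, Classical.arbitrary Y, rfl⟩
  exact ⟨y₀, fun y => by rw [hy₀]; exact hub _ ⟨y, rfl⟩⟩

end Groth.Agent.Helper4.SN449
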