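import Mathlib
import Groth.Agent.Helper4.SN448

/-!
# The fibre integral of a weighting is a constructible function
-/

set_option autoImplicit false
universe u

open Topology Set AlgebraicGeometry CategoryTheory CategoryTheory.Limits TopologicalSpace
open Groth.Agent.Helper4.WtA Groth.Agent.Helper4.WtB Groth.Agent.Helper4.WtC
open Groth.Agent.Helper4.WtF
open Groth.Agent.Helper4.SN441 Groth.Agent.Helper4.SN444

namespace Groth.Agent.Helper4.SN450

theorem FI_level_inter {R X : Scheme.{u}} (ρ : R ⟶ X) (ω : R → ℤ) (E : Set R) (a : ℤ) (x : X) :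
    FI ρ ω (E ∩ {r | ω r = a}) x = a * FI ρ (fun _ => 1) (E ∩ {r | ω r = a}) x := by
  unfold FI
  rw [mul_finsum_mem]
  refine finsum_mem_congr rfl ?_
  rintro r ⟨⟨-, hr⟩, -⟩
  have : ω r = a := hr
  rw [this, one_mul]

/-- Claim C with a locally constructible set. -/
theorem CF_FI_set {R X : Scheme.{u}} (ρ : R ⟶ X) [LocallyQuasiFinite ρ]
    [LocallyOfFinitePresentation ρ] [QuasiCompact ρ] [IsSeparated ρ] (ω : R → ℤ)
    (hω : CF ω) (E : Set R) (hE : IsLocallyConstructible E) (m : ℤ)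
    (hm : ∀ x, FI ρ (fun _ => 1) Set.univ x ≤ m) :
    CF (fun x => FI ρ ω E x) := by
  classical
  apply CF.of_local
  intro x₀
  obtain ⟨_, ⟨(U : X.Opens), hU, rfl⟩, hxU, -⟩ :=
    X.isBasis_affineOpens.exists_subset_of_mem_open (Set.mem_univ x₀) isOpen_univ
  have hK : IsCompact (ρ ⁻¹' (U : Set X)) :=
    QuasiCompact.isCompact_preimage _ U.isOpen hU.isCompact
  have hA := hω.finite_image hK
  set A := hA.toFinset with hAdef
  refine ⟨U, U.isOpen, hxU,
    fun x => ∑ a ∈ A, a * FI ρ (fun _ => 1) (E ∩ {r | ω r = a}) x, ?_, ?_⟩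
  · exact CF.finset_sum A _ fun a _ =>
      CF.map (fun b => a * b) (CF_FI_one ρ (E ∩ {r | ω r = a}) (hE.inter (hω.1 a)) m hm)
  · intro y hy
    show FI ρ ω E y = ∑ a ∈ A, a * FI ρ (fun _ => 1) (E ∩ {r | ω r = a}) y
    have h1 := WtD.FI_decomp ρ ω E (T := ↥A) (fun t => E ∩ {r | ω r = (t : ℤ)}) y
      (fun t => finite_fibre ρ _ y) ?_ ?_
    · rw [h1, finsum_eq_sum_of_fintype,
        ← Finset.sum_coe_sort A (fun a => a * FI ρ (fun _ => 1) (E ∩ {r | ω r = a}) y)]
      exact Finset.sum_congr rfl fun t _ => FI_level_inter ρ ω E t y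
    · intro z hz
      simp only [mem_inter_iff, mem_setOf_eq]
      constructor
      · intro hzE
        refine ⟨⟨ω z, ?_⟩, hzE, rfl⟩
        rw [hAdef, Set.Finite.mem_toFinset]
        refine ⟨z, ?_, rfl⟩
        show ρ z ∈ U
        rw [hz]; exact hy
      · rintro ⟨_, hzE, -⟩
        exact hzE
    · intro z _ t t' h1 h2
      apply Subtype.ext
      have e1 : ω z = t := h1.2
      have e2 : ω z = t' := h2.2
      rw [← e1, ← e2]

set_option maxHeartbeats 1600000 in
/-- the affine base case -/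
theorem CF_FI_of_isAffine {X Y : Scheme.{u}} (f : X ⟶ Y) [IsAffine Y] [LocallyQuasiFinite f]
    [LocallyOfFinitePresentation f] [QuasiCompact f] [QuasiSeparated f] (w : X → ℤ)
    (hw : MoreMor.IsWeighting f w) : CF (fun y => FI f w Set.univ y) := by
  classical
  haveI : CompactSpace X := QuasiCompact.compactSpace_of_compactSpace f
  haveI : QuasiSeparatedSpace X := quasiSeparatedSpace_of_quasiSeparated f
  have hCFw := SN448.CF_of_isWeighting f w hw
  obtain ⟨s, hs⟩ := isCompact_univ.elim_finite_subcover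
    (fun U : X.affineOpens => (U.1 : Set X)) (fun U => U.1.isOpen) (by
      intro x _
      obtain ⟨_, ⟨U, hU, rfl⟩, hxU, -⟩ :=
        X.isBasis_affineOpens.exists_subset_of_mem_open (Set.mem_univ x) isOpen_univ
      exact Set.mem_iUnion.mpr ⟨⟨U, hU⟩, hxU⟩)
  set k := s.card with hk
  set e : Fin k ≃ ↥s := s.equivFin.symm with he
  set Xo : Fin k → X.Opens := fun j => (e j).1.1 with hXodef
  have hXo : ∀ j, IsAffineOpen (Xo j) := fun j => (e j).1.2
  have hcov : ∀ z : X, ∃ j, z ∈ Xo j := by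
    intro z
    obtain ⟨U, hU, hz⟩ := Set.mem_iUnion₂.mp (hs (Set.mem_univ z))
    refine ⟨e.symm ⟨U, hU⟩, ?_⟩
    show z ∈ (e (e.symm ⟨U, hU⟩)).1.1
    rw [Equiv.apply_symm_apply]
    exact hz
  have hlc : ∀ j, IsLocallyConstructible (Xo j : Set X) := fun j =>
    IsRetrocompact.isLocallyConstructible (Xo j).isOpen fun V hVc hVo =>
      QuasiSeparatedSpace.inter_isCompact _ _ (Xo j).isOpen (hXo j).isCompact hVo hVc
  set D : Fin k → Set X :=
    fun j => (Xo j : Set X) ∩ (⋃ i ∈ (Finset.Iio j : Finset (Fin k)), (Xo i : Set X))ᶜ with hDdef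
  have hD : ∀ j, IsLocallyConstructible (D j) := fun j =>
    (hlc j).inter (isLocallyConstructible_compl
      (.biUnion (Finset.finite_toSet _) fun i _ => hlc i))
  have hDsub : ∀ j, D j ⊆ (Xo j : Set X) := fun j => Set.inter_subset_left
  have hDcov : ∀ z : X, ∃ j, z ∈ D j := by
    intro z
    obtain ⟨j, hj, hmin⟩ := wellFounded_lt.has_min {j | z ∈ Xo j} (hcov z)
    refine ⟨j, hj, ?_⟩
    simp only [mem_compl_iff, mem_iUnion, Finset.mem_Iio, exists_prop, not_exists, not_and]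
    intro i hi hzi
    exact hmin i hzi hi
  have hDdisj : ∀ z : X, ∀ t t', z ∈ D t → z ∈ D t' → t = t' := by
    intro z t t' h1 h2
    by_contra hne
    rcases lt_or_gt_of_ne hne with h | h
    · apply h2.2
      simp only [mem_iUnion, Finset.mem_Iio, exists_prop]
      exact ⟨t, h, h1.1⟩
    · apply h1.2
      simp only [mem_iUnion, Finset.mem_Iio, exists_prop]
      exact ⟨t', h, h2.1⟩
  -- each piece
  have hCFj : ∀ j, CF (fun y => FI ((Xo j).ι ≫ f) (w ∘ (Xo j).ι) ((Xo j).ι ⁻¹' D j) y) := by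
    intro j
    haveI : IsAffine (Xo j : Scheme.{u}) := hXo j
    obtain ⟨m, hm⟩ := SN445.exists_bound ((Xo j).ι ≫ f)
    exact CF_FI_set ((Xo j).ι ≫ f) (w ∘ (Xo j).ι) (CF.comp (Xo j).ι hCFw) _
      (isLocallyConstructible_preimage (Xo j).ι (hD j)) m hm
  have key : ∀ y, FI f w Set.univ y =
      ∑ j : Fin k, FI ((Xo j).ι ≫ f) (w ∘ (Xo j).ι) ((Xo j).ι ⁻¹' D j) y := by
    intro y
    have h1 := WtD.FI_decomp f w Set.univ (T := Fin k) D y (fun t => finite_fibre f _ y)
      (fun z _ => ⟨fun _ => hDcov z, fun _ => Set.mem_univ z⟩)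
      (fun z _ t t' => hDdisj z t t')
    rw [h1, finsum_eq_sum_of_fintype]
    refine Finset.sum_congr rfl fun j _ => ?_
    have h2 := FI_openImm (Xo j).ι f w (D j) y
    rw [h2, Scheme.Opens.range_ι, Set.inter_eq_left.mpr (hDsub j)]
  have := CF.finset_sum (Finset.univ : Finset (Fin k))
    (fun j y => FI ((Xo j).ι ≫ f) (w ∘ (Xo j).ι) ((Xo j).ι ⁻¹' D j) y) (fun j _ => hCFj j)
  refine (congrArg CF ?_).mp this
  funext y
  exact (key y).symm

/-- the fibre integral of a weighting along a quasi-compact quasi-separated locally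
quasi-finite morphism of finite presentation is a locally constructible function -/
theorem CF_FI_of_isWeighting {X Y : Scheme.{u}} (f : X ⟶ Y) [LocallyQuasiFinite f]
    [LocallyOfFinitePresentation f] [QuasiCompact f] [QuasiSeparated f] (w : X → ℤ)
    (hw : MoreMor.IsWeighting f w) : CF (fun y => FI f w Set.univ y) := by
  apply CF.of_etale_cover
  intro y
  obtain ⟨_, ⟨(Y₀ : Y.Opens), hY₀, rfl⟩, hyY₀, -⟩ :=
    Y.isBasis_affineOpens.exists_subset_of_mem_open (Set.mem_univ y) isOpen_univ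
  refine ⟨Y₀, Y₀.ι, inferInstance, ⟨⟨y, hyY₀⟩, rfl⟩, ?_⟩
  have A : IsPullback (f ⁻¹ᵁ Y₀).ι (f ∣_ Y₀) f Y₀.ι := (isPullback_morphismRestrict f Y₀).flip
  have hw₀ := isWeighting_baseChange f w hw (f ∣_ Y₀) (f ⁻¹ᵁ Y₀).ι Y₀.ι A
  haveI : IsAffine (Y₀ : Scheme.{u}) := hY₀
  haveI : LocallyQuasiFinite (f ∣_ Y₀) := lqf_of_isPullback A
  have := CF_FI_of_isAffine (f ∣_ Y₀) (w ∘ (f ⁻¹ᵁ Y₀).ι) hw₀
  refine (congrArg CF ?_).mp this
  funext y₁
  exact FI_bc A w Set.univ y₁ (finite_fibre f _ _)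

end Groth.Agent.Helper4.SN450
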