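import Mathlib

/-!
# Rank of a finite scheme over a field: sections bridge and additivity over clopen decompositions
-/

set_option autoImplicit false
universe u

open CategoryTheory CategoryTheory.Limits AlgebraicGeometry TopologicalSpace Opposite

namespace Groth.Agent.Helper4.SN451

/-- sections over a disjoint union of two opens are the product of the sections. -/
theorem bijective_res_prod (Y : Scheme.{u}) (V W : Y.Opens) (hd : V ⊓ W = ⊥) :
    Function.Bijective (fun x : Γ(Y, V ⊔ W) =>
      ((Y.presheaf.map (homOfLE (le_sup_left : V ≤ V ⊔ W)).op).hom x,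
       (Y.presheaf.map (homOfLE (le_sup_right : W ≤ V ⊔ W)).op).hom x)) := by
  have hlim := Y.sheaf.isProductOfDisjoint V W hd
  let e := hlim.conePointUniqueUpToIso (CommRingCat.prodFanIsLimit Γ(Y, V) Γ(Y, W))
  have h1 : e.hom ≫ CommRingCat.ofHom (RingHom.fst _ _) =
      Y.presheaf.map (homOfLE (le_sup_left : V ≤ V ⊔ W)).op :=
    hlim.conePointUniqueUpToIso_hom_comp _ ⟨WalkingPair.left⟩
  have h2 : e.hom ≫ CommRingCat.ofHom (RingHom.snd _ _) =
      Y.presheaf.map (homOfLE (le_sup_right : W ≤ V ⊔ W)).op :=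
    hlim.conePointUniqueUpToIso_hom_comp _ ⟨WalkingPair.right⟩
  have hbij : Function.Bijective e.hom.hom := ConcreteCategory.bijective_of_isIso e.hom
  have heq : (fun x : Γ(Y, V ⊔ W) =>
      ((Y.presheaf.map (homOfLE (le_sup_left : V ≤ V ⊔ W)).op).hom x,
       (Y.presheaf.map (homOfLE (le_sup_right : W ≤ V ⊔ W)).op).hom x)) = e.hom.hom := by
    funext x
    apply Prod.ext
    · rw [← h1]; rfl
    · rw [← h2]; rfl
  rw [heq]
  exact hbij

/-- restriction to a general pair of complementary opens. -/
theorem bijective_res_prod' (Y : Scheme.{u}) (U V W : Y.Opens) (hV : V ≤ U) (hW : W ≤ U)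
    (hU : U = V ⊔ W) (hd : V ⊓ W = ⊥) :
    Function.Bijective (fun x : Γ(Y, U) =>
      ((Y.presheaf.map (homOfLE hV).op).hom x, (Y.presheaf.map (homOfLE hW).op).hom x)) := by
  subst hU
  exact bijective_res_prod Y V W hd

/-- global sections of a scheme covered by two complementary opens. -/
theorem bijective_appTop_prod (Y : Scheme.{u}) (V W : Y.Opens) (h : IsCompl V W) :
    Function.Bijective (fun x : Γ(Y, ⊤) => (V.ι.appTop.hom x, W.ι.appTop.hom x)) := by
  have hV : V.ι ''ᵁ ⊤ = V := V.ι_image_top
  have hW : W.ι ''ᵁ ⊤ = W := W.ι_image_top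
  exact bijective_res_prod' Y ⊤ (V.ι ''ᵁ ⊤) (W.ι ''ᵁ ⊤) le_top le_top
    (by rw [hV, hW, h.sup_eq_top]) (by rw [hV, hW, h.inf_eq_bot])

/-- a finite scheme over a field factors through `Spec` of its global sections. -/
theorem fac_isoSpec {K : CommRingCat.{u}} {Y : Scheme.{u}} (φ : Y ⟶ Spec K) [IsAffine Y] :
    φ = Y.isoSpec.hom ≫ Spec.map ((Scheme.ΓSpecIso K).inv ≫ φ.appTop) := by
  have h := Scheme.isoSpec_hom_naturality φ
  rw [Scheme.isoSpec_Spec_hom] at h
  rw [Spec.map_comp, ← Category.assoc, h, Category.assoc, ← Spec.map_comp, Iso.inv_hom_id,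
    Spec.map_id, Category.comp_id]

/-- **bridge**: the rank of a finite scheme over a field is the dimension of its ring of global
sections. -/
theorem finrank_eq (K : Type u) [Field K] {Y : Scheme.{u}} (φ : Y ⟶ Spec (CommRingCat.of K))
    [IsFinite φ] (p : Spec (CommRingCat.of K)) :
    letI := ((Scheme.ΓSpecIso (CommRingCat.of K)).inv ≫ φ.appTop).hom.toAlgebra
    Module.Finite K Γ(Y, ⊤) ∧ φ.finrank p = Module.finrank K Γ(Y, ⊤) := by
  haveI : IsAffine Y := isAffine_of_isAffineHom φ
  set ψ := (Scheme.ΓSpecIso (CommRingCat.of K)).inv ≫ φ.appTop with hψ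
  have hφ : φ = Y.isoSpec.hom ≫ Spec.map ψ := fac_isoSpec φ
  have hfin' : IsFinite (Spec.map ψ) := by
    have : IsFinite (Y.isoSpec.hom ≫ Spec.map ψ) := by rw [← hφ]; infer_instance
    exact (MorphismProperty.cancel_left_of_respectsIso @IsFinite Y.isoSpec.hom _).mp this
  have hfin : ψ.hom.Finite := (IsFinite.SpecMap_iff ψ).mp hfin'
  letI := ψ.hom.toAlgebra
  have hflat : ψ.hom.Flat := by
    show Module.Flat K Γ(Y, ⊤)
    infer_instance
  refine ⟨hfin, ?_⟩
  rw [hφ, Scheme.Hom.finrank_comp_left_of_isIso, Scheme.Hom.finrank_SpecMap_eq_finrank hfin hflat]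
  show Module.rankAtStalk (R := K) Γ(Y, ⊤) p = _
  rw [Module.rankAtStalk_eq_finrank_of_free]
  rfl

/-- dimension of a product decomposition, with algebra structures given by ring maps. -/
theorem finrank_prod_of_bijective {K A B C : Type u} [Field K] [CommRing A] [CommRing B]
    [CommRing C] (a : K →+* A) (b : K →+* B) (c : K →+* C) (p : A →+* B) (q : A →+* C)
    (hp : p.comp a = b) (hq : q.comp a = c)
    (hbij : Function.Bijective (fun x => (p x, q x)))
    (hfin : letI := a.toAlgebra; Module.Finite K A) :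
    (letI := a.toAlgebra; Module.finrank K A) =
      (letI := b.toAlgebra; Module.finrank K B) + (letI := c.toAlgebra; Module.finrank K C) := by
  letI := a.toAlgebra
  letI := b.toAlgebra
  letI := c.toAlgebra
  let l : A →ₗ[K] B × C :=
    { toFun := fun x => (p x, q x)
      map_add' := by intro x y; simp
      map_smul' := by
        intro k x
        have h1 : p (a k) = b k := by rw [← hp]; rfl
        have h2 : q (a k) = c k := by rw [← hq]; rfl
        have h3 : k • x = a k * x := Algebra.smul_def k x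
        have h4 : k • p x = b k * p x := Algebra.smul_def k (p x)
        have h5 : k • q x = c k * q x := Algebra.smul_def k (q x)
        simp only [RingHom.id_apply, Prod.smul_mk]
        rw [h3, map_mul, map_mul, h1, h2, h4, h5] }
  let e : A ≃ₗ[K] B × C := LinearEquiv.ofBijective l hbij
  haveI : Module.Finite K A := hfin
  haveI : Module.Finite K (B × C) := Module.Finite.equiv e
  haveI : Module.Finite K B :=
    Module.Finite.of_surjective (LinearMap.fst K B C) LinearMap.fst_surjective
  haveI : Module.Finite K C :=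
    Module.Finite.of_surjective (LinearMap.snd K B C) LinearMap.snd_surjective
  show Module.finrank K A = Module.finrank K B + Module.finrank K C
  rw [e.finrank_eq, Module.finrank_prod]

/-- an open with an open complement is a closed subscheme. -/
theorem isClosedImmersion_ι_of_isCompl {Y : Scheme.{u}} (V W : Y.Opens) (h : IsCompl V W) :
    IsClosedImmersion V.ι := by
  apply IsClosedImmersion.of_isPreimmersion
  rw [Scheme.Opens.range_ι]
  have : (V : Set Y) = (W : Set Y)ᶜ := by
    ext y
    constructor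
    · intro hV hW
      have : y ∈ V ⊓ W := ⟨hV, hW⟩
      rw [h.inf_eq_bot] at this
      exact this
    · intro hW
      have : y ∈ V ⊔ W := by rw [h.sup_eq_top]; trivial
      rcases this with h' | h'
      · exact h'
      · exact absurd h' hW
  rw [this]
  exact W.2.isClosed_compl

/-- **additivity** of the rank of a finite scheme over a field over a clopen decomposition. -/
theorem finrank_add (K : Type u) [Field K] {Y : Scheme.{u}} (φ : Y ⟶ Spec (CommRingCat.of K))
    [IsFinite φ] (V W : Y.Opens) (h : IsCompl V W) (p : Spec (CommRingCat.of K)) :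
    IsFinite (V.ι ≫ φ) ∧ IsFinite (W.ι ≫ φ) ∧
      φ.finrank p = (V.ι ≫ φ).finrank p + (W.ι ≫ φ).finrank p := by
  haveI := isClosedImmersion_ι_of_isCompl V W h
  haveI := isClosedImmersion_ι_of_isCompl W V h.symm
  haveI hV : IsFinite (V.ι ≫ φ) := inferInstance
  haveI hW : IsFinite (W.ι ≫ φ) := inferInstance
  refine ⟨hV, hW, ?_⟩
  obtain ⟨hf0, h0⟩ := finrank_eq K φ p
  obtain ⟨-, h1⟩ := finrank_eq K (V.ι ≫ φ) p
  obtain ⟨-, h2⟩ := finrank_eq K (W.ι ≫ φ) p
  rw [h0, h1, h2]
  exact finrank_prod_of_bijective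
    ((Scheme.ΓSpecIso (CommRingCat.of K)).inv ≫ φ.appTop).hom
    ((Scheme.ΓSpecIso (CommRingCat.of K)).inv ≫ (V.ι ≫ φ).appTop).hom
    ((Scheme.ΓSpecIso (CommRingCat.of K)).inv ≫ (W.ι ≫ φ).appTop).hom
    V.ι.appTop.hom W.ι.appTop.hom
    (by rw [Scheme.Hom.comp_appTop]; rfl) (by rw [Scheme.Hom.comp_appTop]; rfl)
    (bijective_appTop_prod Y V W h) hf0

/-- every scheme over a field is flat over it. -/
theorem flat_of_field (K : Type u) [Field K] {Y : Scheme.{u}}
    (φ : Y ⟶ Spec (CommRingCat.of K)) : Flat φ := by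
  rw [IsZariskiLocalAtSource.iff_of_openCover (P := @Flat) Y.affineCover]
  intro i
  obtain ⟨ψ, hψ⟩ := Spec.map_surjective (Y.affineCover.f i ≫ φ)
  have hfl : Flat (Spec.map ψ) := by
    rw [Flat.SpecMap_iff]
    letI := ψ.hom.toAlgebra
    show Module.Flat K _
    infer_instance
  rw [hψ] at hfl
  exact hfl

/-- the rank of a finite scheme over a field vanishes iff the scheme is empty. -/
theorem finrank_eq_zero_iff (K : Type u) [Field K] {Y : Scheme.{u}}
    (φ : Y ⟶ Spec (CommRingCat.of K)) [IsFinite φ] (p : Spec (CommRingCat.of K)) :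
    φ.finrank p = 0 ↔ IsEmpty Y := by
  haveI := flat_of_field K φ
  haveI : Subsingleton (Spec (CommRingCat.of K)) :=
    inferInstanceAs (Subsingleton (PrimeSpectrum K))
  constructor
  · intro h0
    refine ⟨fun y => ?_⟩
    have h1 := Scheme.Hom.one_le_finrank_map φ y
    rw [Subsingleton.elim (φ y) p, h0] at h1
    exact absurd h1 (by norm_num)
  · intro hY
    by_contra hne
    have h1 : 1 ≤ φ.finrank := by
      intro z
      rw [Subsingleton.elim z p]
      exact Nat.one_le_iff_ne_zero.mpr hne
    have hs := (Scheme.Hom.one_le_finrank_iff_surjective φ).mp h1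
    obtain ⟨y, -⟩ := hs.surj p
    exact hY.false y

end Groth.Agent.Helper4.SN451
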