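import Mathlib
import Groth.Agent.Helper4.SN451

/-!
# The fibre degree of a morphism with finite fibres
-/

set_option autoImplicit false
universe u

open CategoryTheory CategoryTheory.Limits AlgebraicGeometry TopologicalSpace Opposite

namespace Groth.Agent.Helper4.SN452

open Groth.Agent.Helper4

/-- the degree of the fibre of `f` over `s` (meaningful when the fibre is finite over `κ(s)`). -/
noncomputable def fdeg {X S : Scheme.{u}} (f : X ⟶ S) (s : S) : ℕ :=
  (f.fiberToSpecResidueField s).finrank (IsLocalRing.closedPoint (S.residueField s))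

instance subsingleton_spec_residueField {S : Scheme.{u}} (s : S) :
    Subsingleton (Spec (S.residueField s)) :=
  inferInstanceAs (Subsingleton (PrimeSpectrum (S.residueField s)))

theorem flat_fibre {X S : Scheme.{u}} (f : X ⟶ S) (s : S) :
    Flat (f.fiberToSpecResidueField s) :=
  SN451.flat_of_field (S.residueField s) (f.fiberToSpecResidueField s)

/-- the fibre degree computed from any pullback square over the residue field. -/
theorem fdeg_of_isPullback {X S P : Scheme.{u}} (f : X ⟶ S) (s : S) {a : P ⟶ X}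
    {b : P ⟶ Spec (S.residueField s)} (h : IsPullback a b f (S.fromSpecResidueField s))
    (hbfin : IsFinite b) :
    IsFinite (f.fiberToSpecResidueField s) ∧
      fdeg f s = b.finrank (IsLocalRing.closedPoint (S.residueField s)) := by
  have hb : pullback.snd f (S.fromSpecResidueField s) = h.isoPullback.inv ≫ b := by
    rw [Iso.eq_inv_comp]
    exact h.isoPullback_hom_snd
  haveI : Flat b := SN451.flat_of_field (S.residueField s) b
  refine ⟨?_, ?_⟩
  · show IsFinite (pullback.snd f (S.fromSpecResidueField s))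
    rw [hb]; infer_instance
  · show Scheme.Hom.finrank (pullback.snd f (S.fromSpecResidueField s)) _ = _
    rw [hb, Scheme.Hom.finrank_comp_left_of_isIso]

/-- the fibre degree is invariant under base change. -/
theorem fdeg_baseChange {X S X' T : Scheme.{u}} {f : X ⟶ S} {g : T ⟶ S} {fst : X' ⟶ X}
    {snd : X' ⟶ T} (h : IsPullback fst snd f g) (t : T)
    (hfin : IsFinite (f.fiberToSpecResidueField (g t))) :
    IsFinite (snd.fiberToSpecResidueField t) ∧ fdeg snd t = fdeg f (g t) := by
  have H := isPullback_fiberToSpecResidueField_of_isPullback h t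
  haveI := flat_fibre f (g t)
  haveI := hfin
  refine ⟨MorphismProperty.of_isPullback H hfin, ?_⟩
  refine (@Scheme.Hom.finrank_of_isPullback _ _ _ _ _ _ _ _ H (flat_fibre f (g t)) hfin
    (IsLocalRing.closedPoint (T.residueField t))).trans ?_
  unfold fdeg
  congr 1
  exact Subsingleton.elim _ _

/-- for a finite flat morphism the fibre degree is the rank. -/
theorem fdeg_eq_finrank {X S : Scheme.{u}} (f : X ⟶ S) [Flat f] [IsFinite f] (s : S) :
    fdeg f s = f.finrank s := by
  refine (Scheme.Hom.finrank_pullback_snd f (S.fromSpecResidueField s)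
    (IsLocalRing.closedPoint (S.residueField s))).trans ?_
  rw [Scheme.fromSpecResidueField_apply]

/-- the fibre degree vanishes iff the fibre is empty. -/
theorem fdeg_eq_zero_iff {X S : Scheme.{u}} (f : X ⟶ S) (s : S)
    (hfin : IsFinite (f.fiberToSpecResidueField s)) :
    fdeg f s = 0 ↔ ∀ x : X, f x ≠ s := by
  haveI := hfin
  have h := SN451.finrank_eq_zero_iff (S.residueField s) (f.fiberToSpecResidueField s)
    (IsLocalRing.closedPoint (S.residueField s))
  refine h.trans ?_
  constructor
  · intro hE x hx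
    exact hE.false ((f.fiberHomeo s).symm ⟨x, hx⟩)
  · intro hne
    refine ⟨fun y => ?_⟩
    exact hne _ ((f.fiberHomeo s) y).2

/-- finiteness of the fibre as a set. -/
theorem finite_fibre {X S : Scheme.{u}} (f : X ⟶ S) [LocallyQuasiFinite f] (s : S)
    (hfin : IsFinite (f.fiberToSpecResidueField s)) : (f ⁻¹' {s}).Finite := by
  haveI := hfin
  haveI : IsAffine (f.fiber s) := isAffine_of_isAffineHom (f.fiberToSpecResidueField s)
  haveI : Finite (f.fiber s) := finite_of_compact_of_discrete
  have : Finite (f ⁻¹' {s}) := (f.fiberHomeo s).finite_iff.mp inferInstance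
  exact Set.toFinite _

/-- **additivity** of the fibre degree over a clopen decomposition of the source. -/
theorem fdeg_add {P S : Scheme.{u}} (π : P ⟶ S) (V W : P.Opens) (h : IsCompl V W) (s : S)
    (hfin : IsFinite (π.fiberToSpecResidueField s)) :
    IsFinite ((V.ι ≫ π).fiberToSpecResidueField s) ∧
      IsFinite ((W.ι ≫ π).fiberToSpecResidueField s) ∧
      fdeg π s = fdeg (V.ι ≫ π) s + fdeg (W.ι ≫ π) s := by
  haveI := hfin
  set j : π.fiber s ⟶ P := π.fiberι s with hj
  set φ := π.fiberToSpecResidueField s with hφ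
  have hc : IsCompl (j ⁻¹ᵁ V) (j ⁻¹ᵁ W) := by
    constructor
    · rw [disjoint_iff]
      have : j ⁻¹ᵁ V ⊓ j ⁻¹ᵁ W = j ⁻¹ᵁ (V ⊓ W) := rfl
      rw [this, h.inf_eq_bot]; rfl
    · rw [codisjoint_iff]
      have : j ⁻¹ᵁ V ⊔ j ⁻¹ᵁ W = j ⁻¹ᵁ (V ⊔ W) := rfl
      rw [this, h.sup_eq_top]; rfl
  obtain ⟨hV, hW, hadd⟩ := SN451.finrank_add (S.residueField s) φ (j ⁻¹ᵁ V) (j ⁻¹ᵁ W) hc
    (IsLocalRing.closedPoint (S.residueField s))
  have hbase : IsPullback j φ π (S.fromSpecResidueField s) := IsPullback.of_hasPullback _ _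
  have sqV : IsPullback (j ∣_ V) ((j ⁻¹ᵁ V).ι ≫ φ) (V.ι ≫ π) (S.fromSpecResidueField s) :=
    (isPullback_morphismRestrict j V).paste_vert hbase
  have sqW : IsPullback (j ∣_ W) ((j ⁻¹ᵁ W).ι ≫ φ) (W.ι ≫ π) (S.fromSpecResidueField s) :=
    (isPullback_morphismRestrict j W).paste_vert hbase
  obtain ⟨hV1, hV2⟩ := fdeg_of_isPullback (V.ι ≫ π) s sqV hV
  obtain ⟨hW1, hW2⟩ := fdeg_of_isPullback (W.ι ≫ π) s sqW hW
  refine ⟨hV1, hW1, ?_⟩
  rw [hV2, hW2]
  exact hadd

end Groth.Agent.Helper4.SN452
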