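import Mathlib
import Groth.Agent.Helper4.SN452
import Groth.Agent.Helper4.WtG
import Groth.Agent.Helper3.QFFibre
import Groth.Prelude.Def_Mor2

/-!
# The fibre degree: étale-local structure, semicontinuity, and the finite locally free criterion
-/

set_option autoImplicit false
universe u

open CategoryTheory CategoryTheory.Limits AlgebraicGeometry TopologicalSpace Opposite

namespace Groth.Agent.Helper4.SN453

open Groth.Agent.Helper4 Groth.Agent.Helper4.SN452

set_option maxHeartbeats 1600000 in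
/-- étale-local structure of a separated flat quasi-finite morphism with finite fibres:
after an étale base change the source splits as a finite part `V` and a part `W` whose fibre degree
measures the jump of the fibre degree. -/
theorem local_structure {X S : Scheme.{u}} (f : X ⟶ S) [Flat f] [LocallyOfFinitePresentation f]
    [IsSeparated f] [LocallyQuasiFinite f]
    (hfin : ∀ s, IsFinite (f.fiberToSpecResidueField s)) (s : S) :
    ∃ (S' : Scheme.{u}) (e : S' ⟶ S) (s' : S') (V W : (pullback f e).Opens) (N : S'.Opens),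
      Etale e ∧ e s' = s ∧ s' ∈ N ∧ IsCompl V W ∧ IsFinite (V.ι ≫ pullback.snd f e) ∧
      (∀ s₁, IsFinite ((W.ι ≫ pullback.snd f e).fiberToSpecResidueField s₁)) ∧
      (∀ s₁ ∈ N, fdeg f (e s₁) = fdeg f s + fdeg (W.ι ≫ pullback.snd f e) s₁) := by
  have hfib : (f ⁻¹' {s}).Finite := finite_fibre f s (hfin s)
  obtain ⟨S', e, s', he, hes, -, V, W, hVW, hVfin, hV⟩ :=
    Groth.Agent.Helper3.QFFibre.main f s hfib
  haveI := he
  haveI := hVfin
  set π := pullback.snd f e with hπ
  have hbc : ∀ s₁, IsFinite (π.fiberToSpecResidueField s₁) ∧ fdeg π s₁ = fdeg f (e s₁) :=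
    fun s₁ => fdeg_baseChange (IsPullback.of_hasPullback f e) s₁ (hfin _)
  have hadd := fun s₁ => fdeg_add π V W hVW s₁ (hbc s₁).1
  have hVrk : ∀ s₁, fdeg (V.ι ≫ π) s₁ = (V.ι ≫ π).finrank s₁ := fun s₁ =>
    fdeg_eq_finrank (V.ι ≫ π) s₁
  have hlc : IsLocallyConstant (V.ι ≫ π).finrank := Scheme.Hom.isLocallyConstant_finrank _
  set r₀ := (V.ι ≫ π).finrank s' with hr₀
  set N : S'.Opens := ⟨(V.ι ≫ π).finrank ⁻¹' {r₀}, hlc.isOpen_fiber _⟩ with hN
  have hW0 : fdeg (W.ι ≫ π) s' = 0 := by
    rw [fdeg_eq_zero_iff _ _ (hadd s').2.1]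
    intro w hw
    have h1 : (W.ι w) ∈ V := hV _ hw
    have : W.ι w ∈ V ⊓ W := ⟨h1, w.2⟩
    rw [hVW.inf_eq_bot] at this
    exact this
  have hs0 : fdeg f s = r₀ := by
    rw [← hes, ← (hbc s').2, (hadd s').2.2, hVrk, hW0, add_zero]
  refine ⟨S', e, s', V, W, N, he, hes, rfl, hVW, hVfin, fun s₁ => (hadd s₁).2.1, ?_⟩
  intro s₁ hs₁
  have h1 : (V.ι ≫ π).finrank s₁ = r₀ := hs₁
  rw [← (hbc s₁).2, (hadd s₁).2.2, hVrk, h1, hs0]

/-- the fibre degree is lower semicontinuous. -/
theorem isClosed_le {X S : Scheme.{u}} (f : X ⟶ S) [Flat f] [LocallyOfFinitePresentation f]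
    [IsSeparated f] [LocallyQuasiFinite f]
    (hfin : ∀ s, IsFinite (f.fiberToSpecResidueField s)) (r : ℕ) :
    IsClosed {s : S | fdeg f s ≤ r} := by
  rw [← isOpen_compl_iff, isOpen_iff_forall_mem_open]
  intro s hs
  have hs' : r < fdeg f s := not_le.mp hs
  obtain ⟨S', e, s', V, W, N, he, hes, hsN, -, -, -, hN⟩ := local_structure f hfin s
  haveI := he
  refine ⟨e '' (N : Set S'), ?_, e.isOpenMap _ N.2, ⟨s', hsN, hes⟩⟩
  rintro _ ⟨s₁, hs₁, rfl⟩
  show ¬ (fdeg f (e s₁) ≤ r)
  rw [hN s₁ hs₁]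
  omega

set_option maxHeartbeats 1600000 in
/-- a separated flat quasi-finite morphism with constant fibre degree is finite. -/
theorem isFinite_of_const {X S : Scheme.{u}} (f : X ⟶ S) [Flat f] [LocallyOfFinitePresentation f]
    [IsSeparated f] [LocallyQuasiFinite f]
    (hfin : ∀ s, IsFinite (f.fiberToSpecResidueField s)) (r : ℕ) (hr : ∀ s, fdeg f s = r) :
    IsFinite f := by
  have key : ∀ s : S, ∃ O : S.Opens, s ∈ O ∧ IsFinite (f ∣_ O) := by
    intro s
    obtain ⟨S', e, s', V, W, N, he, hes, hsN, hVW, hVfin, hWfin, hN⟩ := local_structure f hfin s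
    haveI := he
    set π := pullback.snd f e with hπ
    have hle : π ⁻¹ᵁ N ≤ V := by
      intro z hz
      have hzN : π z ∈ N := hz
      by_contra hzV
      have hzW : z ∈ W := by
        have : z ∈ (V ⊔ W : (pullback f e).Opens) := by rw [hVW.sup_eq_top]; trivial
        rcases this with h | h
        · exact absurd h hzV
        · exact h
      have h0 : fdeg (W.ι ≫ π) (π z) = 0 := by
        have := hN _ hzN
        rw [hr, hr] at this
        omega
      rw [fdeg_eq_zero_iff _ _ (hWfin _)] at h0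
      exact h0 ⟨z, hzW⟩ rfl
    have hfinN : IsFinite (π ∣_ N) := WtG.isFinite_morphismRestrict_of_le π V hVfin N hle
    exact ⟨⟨e '' (N : Set S'), e.isOpenMap _ N.2⟩, ⟨s', hsN, hes⟩,
      WtG.isFinite_restrict_of_etale_cover f e N _ rfl hfinN⟩
  choose O hO1 hO2 using key
  have hsup : iSup O = ⊤ := by
    rw [eq_top_iff]
    intro s _
    exact TopologicalSpace.Opens.mem_iSup.mpr ⟨s, hO1 s⟩
  exact (IsZariskiLocalAtTarget.iff_of_iSup_eq_top (P := @IsFinite) O hsup).mpr hO2

/-- **main theorem**: the fibre degree of a separated, flat, locally quasi-finite, locally finitely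
presented morphism with finite fibres has closed sublevel sets and detects exactly the base changes
which are finite locally free of given degree. -/
theorem main {X S : Scheme.{u}} (f : X ⟶ S) [Flat f] [LocallyOfFinitePresentation f]
    [IsSeparated f] [LocallyQuasiFinite f]
    (hfin : ∀ s, IsFinite (f.fiberToSpecResidueField s)) :
    (∀ r : ℕ, IsClosed {s : S | fdeg f s ≤ r}) ∧
      ∀ (T : Scheme.{u}) (g : T ⟶ S) (r : ℕ),
        Mor2.IsFinLocFreeOfDeg r (pullback.snd f g) ↔ ∀ t : T, fdeg f (g t) = r := by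
  refine ⟨isClosed_le f hfin, ?_⟩
  intro T g r
  have hbc : ∀ t, IsFinite ((pullback.snd f g).fiberToSpecResidueField t) ∧
      fdeg (pullback.snd f g) t = fdeg f (g t) :=
    fun t => fdeg_baseChange (IsPullback.of_hasPullback f g) t (hfin _)
  constructor
  · rintro ⟨⟨hF, hFl, hP⟩, hrk⟩ t
    haveI := hF
    haveI := hFl
    rw [← (hbc t).2, fdeg_eq_finrank]
    exact hrk t
  · intro hconst
    have hF : IsFinite (pullback.snd f g) :=
      isFinite_of_const (pullback.snd f g) (fun t => (hbc t).1) r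
        (fun t => by rw [(hbc t).2, hconst])
    haveI := hF
    refine ⟨⟨hF, inferInstance, inferInstance⟩, ?_⟩
    intro t
    rw [← fdeg_eq_finrank, (hbc t).2, hconst]

end Groth.Agent.Helper4.SN453
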