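import Mathlib
import Groth.Agent.Helper4.SN453

/-!
# Retrocompactness of the strata of the fibre degree (quasi-compact case)
-/

set_option autoImplicit false
universe u

open CategoryTheory CategoryTheory.Limits AlgebraicGeometry TopologicalSpace Opposite

namespace Groth.Agent.Helper4.SN454

open Groth.Agent.Helper4 Groth.Agent.Helper4.SN452 Groth.Agent.Helper4.SN453

set_option maxHeartbeats 1600000 in
/-- the loci `{r ≤ deg}` are retrocompact for a quasi-compact morphism. -/
theorem isCompact_le_inter (r : ℕ) : ∀ {X S : Scheme.{u}} (f : X ⟶ S) [Flat f]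
    [LocallyOfFinitePresentation f] [IsSeparated f] [LocallyQuasiFinite f] [QuasiCompact f]
    (U : Set S), IsCompact U → IsOpen U → IsCompact ({s : S | r ≤ fdeg f s} ∩ U) := by
  induction r using Nat.strong_induction_on with
  | _ r ih =>
  intro X S f _ _ _ _ _ U hUc hUo
  rcases Nat.eq_zero_or_pos r with rfl | hrpos
  · have : {s : S | 0 ≤ fdeg f s} ∩ U = U := by
      ext s; simp
    rw [this]; exact hUc
  have hfin : ∀ s, IsFinite (f.fiberToSpecResidueField s) := fun s => inferInstance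
  -- the local statement
  have key : ∀ s ∈ U ∩ Set.range f, ∃ O : Set S, IsOpen O ∧ s ∈ O ∧ O ⊆ U ∧
      IsCompact ({s : S | r ≤ fdeg f s} ∩ O) := by
    rintro s ⟨hsU, x, rfl⟩
    obtain ⟨S', e, s', V, W, N, he, hes, hsN, hVW, hVfin, hWfin, hN⟩ :=
      local_structure f hfin (f x)
    haveI := he
    set π := pullback.snd f e with hπ
    have hr₀ : 1 ≤ fdeg f (f x) := by
      rw [Nat.one_le_iff_ne_zero]
      intro h0
      rw [fdeg_eq_zero_iff _ _ (hfin _)] at h0
      exact h0 x rfl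
    have hopen : IsOpen ((N : Set S') ∩ e ⁻¹' U) := N.2.inter (hUo.preimage e.continuous)
    have hs'mem : s' ∈ (N : Set S') ∩ e ⁻¹' U := ⟨hsN, by show e s' ∈ U; rw [hes]; exact hsU⟩
    obtain ⟨_, ⟨(N₀ : S'.Opens), hN₀, rfl⟩, hs'N₀, hN₀sub⟩ :=
      S'.isBasis_affineOpens.exists_subset_of_mem_open hs'mem hopen
    replace hN₀ : IsAffineOpen N₀ := hN₀
    haveI := SN451.isClosedImmersion_ι_of_isCompl W V hVW.symm
    have hIH := ih (r - fdeg f (f x)) (by omega) (W.ι ≫ π) (N₀ : Set S') hN₀.isCompact N₀.2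
    refine ⟨e '' (N₀ : Set S'), e.isOpenMap _ N₀.2, ⟨s', hs'N₀, hes⟩, ?_, ?_⟩
    · rintro _ ⟨s₁, hs₁, rfl⟩
      exact (hN₀sub hs₁).2
    · have heq : {s : S | r ≤ fdeg f s} ∩ e '' (N₀ : Set S') =
          e '' ({s₁ : S' | r - fdeg f (f x) ≤ fdeg (W.ι ≫ π) s₁} ∩ (N₀ : Set S')) := by
        ext y
        constructor
        · rintro ⟨hy, s₁, hs₁, rfl⟩
          refine ⟨s₁, ⟨?_, hs₁⟩, rfl⟩
          have h1 : r ≤ fdeg f (e s₁) := hy
          rw [hN s₁ (hN₀sub hs₁).1] at h1
          show r - fdeg f (f x) ≤ _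
          omega
        · rintro ⟨s₁, ⟨h1, hs₁⟩, rfl⟩
          refine ⟨?_, s₁, hs₁, rfl⟩
          show r ≤ fdeg f (e s₁)
          rw [hN s₁ (hN₀sub hs₁).1]
          have h1' : r - fdeg f (f x) ≤ fdeg (W.ι ≫ π) s₁ := h1
          omega
      rw [heq]
      exact hIH.image e.continuous
  -- compactness of the image
  have hC : IsCompact (U ∩ Set.range f) := by
    rw [← Set.image_preimage_eq_inter_range]
    exact (QuasiCompact.isCompact_preimage (f := f) _ hUo hUc).image f.continuous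
  choose! O hO1 hO2 hO3 hO4 using key
  obtain ⟨t, htC, htcov⟩ := hC.elim_nhds_subcover O
    (fun s hs => (hO1 s hs).mem_nhds (hO2 s hs))
  have heq : {s : S | r ≤ fdeg f s} ∩ U = ⋃ x ∈ t, ({s : S | r ≤ fdeg f s} ∩ O x) := by
    ext s
    simp only [Set.mem_inter_iff, Set.mem_setOf_eq, Set.mem_iUnion, exists_prop]
    constructor
    · rintro ⟨hs, hsU⟩
      have hsr : s ∈ Set.range f := by
        by_contra hnr
        have h0 : fdeg f s = 0 := by
          rw [fdeg_eq_zero_iff _ _ (hfin _)]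
          intro x hx
          exact hnr ⟨x, hx⟩
        omega
      have := htcov ⟨hsU, hsr⟩
      simp only [Set.mem_iUnion, exists_prop] at this
      obtain ⟨x, hxt, hsx⟩ := this
      exact ⟨x, hxt, hs, hsx⟩
    · rintro ⟨x, hxt, hs, hsx⟩
      exact ⟨hs, hO3 x (htC x hxt) hsx⟩
  rw [heq]
  exact t.isCompact_biUnion (fun x hx => hO4 x (htC x hx))

/-- the strata of the fibre degree are retrocompact for a quasi-compact morphism. -/
theorem isRetrocompact_eq {X S : Scheme.{u}} (f : X ⟶ S) [Flat f]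
    [LocallyOfFinitePresentation f] [IsSeparated f] [LocallyQuasiFinite f] [QuasiCompact f]
    (r : ℕ) : IsRetrocompact {s : S | fdeg f s = r} := by
  intro U hUc hUo
  have hfin : ∀ s, IsFinite (f.fiberToSpecResidueField s) := fun s => inferInstance
  have h1 := isCompact_le_inter r f U hUc hUo
  have h2 := isClosed_le f hfin r
  have heq : {s : S | fdeg f s = r} ∩ U = {s : S | fdeg f s ≤ r} ∩ ({s : S | r ≤ fdeg f s} ∩ U) := by
    ext s
    simp only [Set.mem_inter_iff, Set.mem_setOf_eq]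
    constructor
    · rintro ⟨h, hU⟩
      exact ⟨h.le, h.ge, hU⟩
    · rintro ⟨h, h', hU⟩
      exact ⟨le_antisymm h h', hU⟩
  rw [heq]
  exact h1.inter_left h2

end Groth.Agent.Helper4.SN454
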