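import Mathlib
import Groth.Agent.Helper4.SN451

/-!
# A locally quasi-finite scheme over a field whose ring of global sections has bounded rank is finite
-/

set_option autoImplicit false
universe u

open CategoryTheory CategoryTheory.Limits AlgebraicGeometry TopologicalSpace Opposite

namespace Groth.Agent.Helper4.SN455

open Groth.Agent.Helper4

theorem isCompl_mk_compl {Z : Type*} [TopologicalSpace Z] (A : Set Z) (hA : IsOpen A)
    (hAc : IsOpen Aᶜ) : IsCompl (⟨A, hA⟩ : Opens Z) ⟨Aᶜ, hAc⟩ := by
  constructor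
  · rw [disjoint_iff]
    ext x
    simp
  · rw [codisjoint_iff]
    ext x
    simp

set_option maxHeartbeats 800000 in
/-- a finite discrete scheme over a field has at most as many points as its rank. -/
theorem card_le_finrank (K : Type u) [Field K] : ∀ (m : ℕ) {Z : Scheme.{u}} [DiscreteTopology Z]
    (ψ : Z ⟶ Spec (CommRingCat.of K)) [IsFinite ψ] (p : Spec (CommRingCat.of K)),
    Nat.card Z = m → m ≤ ψ.finrank p := by
  intro m
  induction m using Nat.strong_induction_on with
  | _ m ih =>
  intro Z _ ψ _ p hm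
  rcases Nat.eq_zero_or_pos m with rfl | hpos
  · exact Nat.zero_le _
  haveI : IsAffine Z := isAffine_of_isAffineHom ψ
  haveI : Finite Z := finite_of_compact_of_discrete
  have hne : Nonempty Z := by
    by_contra hE
    rw [not_nonempty_iff] at hE
    rw [Nat.card_of_isEmpty] at hm
    omega
  obtain ⟨z⟩ := hne
  set V : Z.Opens := ⟨{z}, isOpen_discrete _⟩ with hVdef
  set W : Z.Opens := ⟨{z}ᶜ, isOpen_discrete _⟩ with hWdef
  have hVW : IsCompl V W := isCompl_mk_compl {z} _ _
  obtain ⟨hV, hW, hadd⟩ := SN451.finrank_add K ψ V W hVW p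
  haveI := hV
  haveI := hW
  have h1 : 1 ≤ (V.ι ≫ ψ).finrank p := by
    rw [Nat.one_le_iff_ne_zero]
    intro h0
    rw [SN451.finrank_eq_zero_iff] at h0
    exact h0.false ⟨z, rfl⟩
  haveI : DiscreteTopology W.toScheme :=
    inferInstanceAs (DiscreteTopology (({z}ᶜ : Set Z) : Type u))
  have hcardW : Nat.card W.toScheme = m - 1 := by
    have h2 : Nat.card W.toScheme = ({z}ᶜ : Set Z).ncard := Nat.card_coe_set_eq _
    have h3 := Set.ncard_add_ncard_compl ({z} : Set Z)
    rw [Set.ncard_singleton, hm] at h3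
    omega
  have h2 := ih (m - 1) (by omega) (W.ι ≫ ψ) p hcardW
  omega

/-- rank inequality along a surjection of algebras, with structure maps as ring homs. -/
theorem rank_le_of_surjective {K A B : Type u} [Field K] [CommRing A] [CommRing B]
    (a : K →+* A) (b : K →+* B) (q : A →+* B) (hq : q.comp a = b)
    (hsurj : Function.Surjective q) :
    (letI := b.toAlgebra; Module.rank K B) ≤ (letI := a.toAlgebra; Module.rank K A) := by
  letI := a.toAlgebra
  letI := b.toAlgebra
  let l : A →ₗ[K] B :=
    { toFun := fun x => q x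
      map_add' := by intro x y; simp
      map_smul' := by
        intro k x
        have h1 : q (a k) = b k := by rw [← hq]; rfl
        have h3 : k • x = a k * x := Algebra.smul_def k x
        have h4 : k • q x = b k * q x := Algebra.smul_def k (q x)
        simp only [RingHom.id_apply]
        rw [h3, map_mul, h1, h4] }
  exact LinearMap.rank_le_of_surjective l hsurj

set_option maxHeartbeats 800000 in
/-- a discrete locally quasi-finite scheme over a field with `rank_K Γ ≤ n` has finitely many
points. -/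
theorem finite_of_rank_le (K : Type u) [Field K] {Y : Scheme.{u}} [DiscreteTopology Y]
    (φ : Y ⟶ Spec (CommRingCat.of K)) [LocallyQuasiFinite φ] (n : ℕ)
    (hn : (letI := ((Scheme.ΓSpecIso (CommRingCat.of K)).inv ≫ φ.appTop).hom.toAlgebra
      Module.rank K Γ(Y, ⊤)) ≤ (n : Cardinal.{u})) : Finite Y := by
  by_contra hinf
  rw [not_finite_iff_infinite] at hinf
  obtain ⟨t, -, htcard⟩ := (Set.infinite_univ (α := Y)).exists_subset_card_eq (n + 1)
  set V : Y.Opens := ⟨(t : Set Y), isOpen_discrete _⟩ with hVdef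
  set W : Y.Opens := ⟨(t : Set Y)ᶜ, isOpen_discrete _⟩ with hWdef
  have hVW : IsCompl V W := isCompl_mk_compl _ _ _
  haveI : Finite V.toScheme := inferInstanceAs (Finite ((t : Set Y) : Type u))
  haveI : DiscreteTopology V.toScheme :=
    inferInstanceAs (DiscreteTopology ((t : Set Y) : Type u))
  haveI : CompactSpace V.toScheme := Finite.compactSpace
  set ψ := V.ι ≫ φ with hψ
  haveI : QuasiCompact ψ :=
    (HasAffineProperty.iff_of_isAffine (P := @QuasiCompact) (f := ψ)).mpr inferInstance
  haveI : IsLocallyArtinian (Spec (CommRingCat.of K)) :=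
    Scheme.isLocallyArtinianScheme_Spec.mpr inferInstance
  haveI : IsFinite ψ := IsFinite.of_locallyQuasiFinite ψ
  let p : Spec (CommRingCat.of K) := IsLocalRing.closedPoint K
  have hcard : Nat.card V.toScheme = n + 1 := by
    have h2 : Nat.card V.toScheme = (t : Set Y).ncard := Nat.card_coe_set_eq _
    rw [h2, Set.ncard_coe_finset, htcard]
  have h1 := card_le_finrank K (n + 1) ψ p hcard
  obtain ⟨-, h2⟩ := SN451.finrank_eq K ψ p
  have hsurj : Function.Surjective V.ι.appTop.hom := by
    intro b
    obtain ⟨x, hx⟩ := (SN451.bijective_appTop_prod Y V W hVW).2 (b, 0)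
    exact ⟨x, congrArg Prod.fst hx⟩
  have h3 := rank_le_of_surjective
    ((Scheme.ΓSpecIso (CommRingCat.of K)).inv ≫ φ.appTop).hom
    ((Scheme.ΓSpecIso (CommRingCat.of K)).inv ≫ ψ.appTop).hom
    V.ι.appTop.hom (by rw [hψ, Scheme.Hom.comp_appTop]; rfl) hsurj
  have h4 : (letI := ((Scheme.ΓSpecIso (CommRingCat.of K)).inv ≫ ψ.appTop).hom.toAlgebra
      Module.finrank K Γ(V.toScheme, ⊤)) ≤ n := by
    letI := ((Scheme.ΓSpecIso (CommRingCat.of K)).inv ≫ ψ.appTop).hom.toAlgebra
    exact Module.finrank_le_of_rank_le (h3.trans hn)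
  rw [h2] at h1
  exact absurd (h1.trans h4) (by omega)

/-- a discrete locally quasi-finite scheme over a field with `rank_K Γ ≤ n` is finite of rank
at most `n`. -/
theorem isFinite_of_rank_le (K : Type u) [Field K] {Y : Scheme.{u}} [DiscreteTopology Y]
    (φ : Y ⟶ Spec (CommRingCat.of K)) [LocallyQuasiFinite φ] (n : ℕ)
    (hn : (letI := ((Scheme.ΓSpecIso (CommRingCat.of K)).inv ≫ φ.appTop).hom.toAlgebra
      Module.rank K Γ(Y, ⊤)) ≤ (n : Cardinal.{u})) (p : Spec (CommRingCat.of K)) :
    IsFinite φ ∧ φ.finrank p ≤ n := by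
  haveI : Finite Y := finite_of_rank_le K φ n hn
  haveI : CompactSpace Y := Finite.compactSpace
  haveI : QuasiCompact φ :=
    (HasAffineProperty.iff_of_isAffine (P := @QuasiCompact) (f := φ)).mpr inferInstance
  haveI : IsLocallyArtinian (Spec (CommRingCat.of K)) :=
    Scheme.isLocallyArtinianScheme_Spec.mpr inferInstance
  haveI hF : IsFinite φ := IsFinite.of_locallyQuasiFinite φ
  refine ⟨hF, ?_⟩
  obtain ⟨-, h2⟩ := SN451.finrank_eq K φ p
  rw [h2]
  letI := ((Scheme.ΓSpecIso (CommRingCat.of K)).inv ≫ φ.appTop).hom.toAlgebra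
  exact Module.finrank_le_of_rank_le hn

end Groth.Agent.Helper4.SN455
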