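import Mathlib
import Groth.Agent.Helper4.SN452
import Groth.Agent.Helper4.SN455

/-!
# The rank of the ring of functions of a scheme over a field, as a cardinal
-/

set_option autoImplicit false
universe u

open CategoryTheory CategoryTheory.Limits AlgebraicGeometry TopologicalSpace Opposite

namespace Groth.Agent.Helper4.SN456

open Groth.Agent.Helper4 Groth.Agent.Helper4.SN452

/-- the `K`-rank of the ring of global functions of a scheme over `Spec K`. -/
noncomputable def crk (K : Type u) [Field K] {Y : Scheme.{u}}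
    (φ : Y ⟶ Spec (CommRingCat.of K)) : Cardinal.{u} :=
  letI := ((Scheme.ΓSpecIso (CommRingCat.of K)).inv ≫ φ.appTop).hom.toAlgebra
  Module.rank K Γ(Y, ⊤)

/-- the fibre degree computed on any pullback along a field-valued point. -/
theorem fdeg_of_isPullback_field (K : Type u) [Field K] {X S P : Scheme.{u}} (f : X ⟶ S)
    (x : Spec (CommRingCat.of K) ⟶ S) {fst : P ⟶ X} {snd : P ⟶ Spec (CommRingCat.of K)}
    (h : IsPullback fst snd f x)
    (hfin : IsFinite (f.fiberToSpecResidueField (x (IsLocalRing.closedPoint K))))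
    (p : Spec (CommRingCat.of K)) :
    IsFinite snd ∧ snd.finrank p = fdeg f (x (IsLocalRing.closedPoint K)) := by
  set s := x (IsLocalRing.closedPoint K) with hs
  set ψ := Scheme.descResidueField (Scheme.stalkClosedPointTo x) with hψ
  have hx : Spec.map ψ ≫ S.fromSpecResidueField s = x :=
    Scheme.descResidueField_stalkClosedPointTo_fromSpecResidueField K S x
  have hw : fst ≫ f = (snd ≫ Spec.map ψ) ≫ S.fromSpecResidueField s := by
    rw [Category.assoc, hx, h.w]
  set l : P ⟶ pullback f (S.fromSpecResidueField s) := pullback.lift fst (snd ≫ Spec.map ψ) hw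
    with hl
  have hl1 : l ≫ pullback.fst f (S.fromSpecResidueField s) = fst := pullback.lift_fst _ _ _
  have hl2 : l ≫ pullback.snd f (S.fromSpecResidueField s) = snd ≫ Spec.map ψ :=
    pullback.lift_snd _ _ _
  have hbig : IsPullback (l ≫ pullback.fst f (S.fromSpecResidueField s)) snd f
      (Spec.map ψ ≫ S.fromSpecResidueField s) := by
    rw [hl1, hx]; exact h
  have hsq : IsPullback l snd (pullback.snd f (S.fromSpecResidueField s)) (Spec.map ψ) :=
    IsPullback.of_right hbig hl2 (IsPullback.of_hasPullback f (S.fromSpecResidueField s))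
  have hfin' : IsFinite (pullback.snd f (S.fromSpecResidueField s)) := hfin
  haveI := hfin'
  haveI : Flat (pullback.snd f (S.fromSpecResidueField s)) := flat_fibre f s
  refine ⟨MorphismProperty.of_isPullback hsq hfin', ?_⟩
  rw [Scheme.Hom.finrank_of_isPullback _ _ _ _ hsq]
  show Scheme.Hom.finrank (pullback.snd f (S.fromSpecResidueField s)) _ =
    Scheme.Hom.finrank (pullback.snd f (S.fromSpecResidueField s)) _
  congr 1
  exact Subsingleton.elim _ _

/-- the part of a field-valued fibre lying over an open `X°` of the source: it is finite over the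
field, of rank the fibre degree of `X° → S`. -/
theorem finrank_preimage (K : Type u) [Field K] {X S : Scheme.{u}} (f : X ⟶ S)
    (x : Spec (CommRingCat.of K) ⟶ S) (X₀ : X.Opens)
    (hfin : IsFinite ((X₀.ι ≫ f).fiberToSpecResidueField (x (IsLocalRing.closedPoint K))))
    (p : Spec (CommRingCat.of K)) :
    IsFinite (((pullback.fst f x) ⁻¹ᵁ X₀).ι ≫ pullback.snd f x) ∧
      (((pullback.fst f x) ⁻¹ᵁ X₀).ι ≫ pullback.snd f x).finrank p =
        fdeg (X₀.ι ≫ f) (x (IsLocalRing.closedPoint K)) := by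
  have sq : IsPullback ((pullback.fst f x) ∣_ X₀)
      (((pullback.fst f x) ⁻¹ᵁ X₀).ι ≫ pullback.snd f x) (X₀.ι ≫ f) x :=
    (isPullback_morphismRestrict (pullback.fst f x) X₀).paste_vert (IsPullback.of_hasPullback f x)
  exact fdeg_of_isPullback_field K (X₀.ι ≫ f) x sq hfin p

/-- invariance of `crk` under isomorphisms over the field. -/
theorem crk_congr (K : Type u) [Field K] {Y Y' : Scheme.{u}} (φ : Y ⟶ Spec (CommRingCat.of K))
    (φ' : Y' ⟶ Spec (CommRingCat.of K)) (e : Y' ⟶ Y) [IsIso e] (he : e ≫ φ = φ') :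
    crk K φ' = crk K φ := by
  apply le_antisymm
  · refine SN455.rank_le_of_surjective
      ((Scheme.ΓSpecIso (CommRingCat.of K)).inv ≫ φ.appTop).hom
      ((Scheme.ΓSpecIso (CommRingCat.of K)).inv ≫ φ'.appTop).hom e.appTop.hom ?_ ?_
    · rw [← he, Scheme.Hom.comp_appTop]; rfl
    · haveI : IsIso e.appTop := inferInstanceAs (IsIso (e.app ⊤))
      exact (ConcreteCategory.bijective_of_isIso e.appTop).2
  · have he' : inv e ≫ φ' = φ := by rw [← he, IsIso.inv_hom_id_assoc]
    refine SN455.rank_le_of_surjective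
      ((Scheme.ΓSpecIso (CommRingCat.of K)).inv ≫ φ'.appTop).hom
      ((Scheme.ΓSpecIso (CommRingCat.of K)).inv ≫ φ.appTop).hom (inv e).appTop.hom ?_ ?_
    · rw [← he', Scheme.Hom.comp_appTop]; rfl
    · haveI : IsIso (inv e).appTop := inferInstanceAs (IsIso ((inv e).app ⊤))
      exact (ConcreteCategory.bijective_of_isIso (inv e).appTop).2

/-- `crk` of a clopen part is at most `crk` of the whole. -/
theorem crk_ι_le (K : Type u) [Field K] {Y : Scheme.{u}} (φ : Y ⟶ Spec (CommRingCat.of K))
    (V W : Y.Opens) (hVW : IsCompl V W) : crk K (V.ι ≫ φ) ≤ crk K φ := by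
  have hsurj : Function.Surjective V.ι.appTop.hom := by
    intro b
    obtain ⟨x, hx⟩ := (SN451.bijective_appTop_prod Y V W hVW).2 (b, 0)
    exact ⟨x, congrArg Prod.fst hx⟩
  exact SN455.rank_le_of_surjective
    ((Scheme.ΓSpecIso (CommRingCat.of K)).inv ≫ φ.appTop).hom
    ((Scheme.ΓSpecIso (CommRingCat.of K)).inv ≫ (V.ι ≫ φ).appTop).hom
    V.ι.appTop.hom (by rw [Scheme.Hom.comp_appTop]; rfl) hsurj

/-- `crk` of the whole scheme viewed as an open subscheme of itself. -/
theorem crk_ι_top (K : Type u) [Field K] {Y : Scheme.{u}} (φ : Y ⟶ Spec (CommRingCat.of K))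
    (V : Y.Opens) (hV : V = ⊤) : crk K (V.ι ≫ φ) = crk K φ := by
  subst hV
  haveI : IsIso (⊤ : Y.Opens).ι := by
    rw [← Scheme.topIso_hom]; infer_instance
  exact crk_congr K φ _ (⊤ : Y.Opens).ι rfl

/-- for a finite scheme over a field, `crk` is the rank. -/
theorem crk_eq_finrank (K : Type u) [Field K] {Y : Scheme.{u}}
    (φ : Y ⟶ Spec (CommRingCat.of K)) [IsFinite φ] (p : Spec (CommRingCat.of K)) :
    crk K φ = (φ.finrank p : Cardinal.{u}) := by
  obtain ⟨hf, h2⟩ := SN451.finrank_eq K φ p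
  rw [h2]
  letI := ((Scheme.ΓSpecIso (CommRingCat.of K)).inv ≫ φ.appTop).hom.toAlgebra
  haveI : Module.Finite K Γ(Y, ⊤) := hf
  exact (Module.finrank_eq_rank K Γ(Y, ⊤)).symm

/-- every finite set of points of a scheme lies in a quasi-compact open. -/
theorem exists_isCompact_opens_of_finite {X : Scheme.{u}} (F : Set X) (hF : F.Finite) :
    ∃ U : X.Opens, IsCompact (U : Set X) ∧ F ⊆ U := by
  have hch : ∀ x : X, ∃ U : X.Opens, IsAffineOpen U ∧ x ∈ U := by
    intro x
    obtain ⟨_, ⟨U, hU, rfl⟩, hxU, -⟩ :=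
      X.isBasis_affineOpens.exists_subset_of_mem_open (Set.mem_univ x) isOpen_univ
    exact ⟨U, hU, hxU⟩
  choose U hU hxU using hch
  refine ⟨⨆ x ∈ F, U x, ?_, ?_⟩
  · have : ((⨆ x ∈ F, U x : X.Opens) : Set X) = ⋃ x ∈ F, (U x : Set X) := by
      simp
    rw [this]
    exact hF.isCompact_biUnion (fun x _ => (hU x).isCompact)
  · intro x hx
    exact TopologicalSpace.Opens.mem_iSup.mpr
      ⟨x, TopologicalSpace.Opens.mem_iSup.mpr ⟨hx, hxU x⟩⟩

end Groth.Agent.Helper4.SN456
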