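import Mathlib
import Groth.Agent.Helper4.SN453
import Groth.Agent.Helper4.SN456

/-!
# The opens `{rank of the fibre ≥ d}` for a separated flat locally quasi-finite morphism
-/

set_option autoImplicit false
universe u

open CategoryTheory CategoryTheory.Limits AlgebraicGeometry TopologicalSpace Opposite

namespace Groth.Agent.Helper4.SN457

open Groth.Agent.Helper4 Groth.Agent.Helper4.SN452 Groth.Agent.Helper4.SN456

/-- `s` has a neighbourhood `S₀` and a part `X₀` of `f⁻¹ S₀`, quasi-compact over `S₀`, whose fibre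
degree at `s` is at least `d`. -/
def Wit {X S : Scheme.{u}} (f : X ⟶ S) (d : ℕ) (s : S) : Prop :=
  ∃ (S₀ : S.Opens) (hs : s ∈ S₀) (X₀ : ((f ⁻¹ᵁ S₀ : X.Opens) : Scheme.{u}).Opens),
    QuasiCompact (X₀.ι ≫ f ∣_ S₀) ∧ d ≤ fdeg (X₀.ι ≫ f ∣_ S₀) ⟨s, hs⟩

theorem Wit.mono {X S : Scheme.{u}} (f : X ⟶ S) {d d' : ℕ} (h : d ≤ d') (s : S)
    (hw : Wit f d' s) : Wit f d s := by
  obtain ⟨S₀, hs, X₀, hqc, hd⟩ := hw
  exact ⟨S₀, hs, X₀, hqc, h.trans hd⟩

theorem isOpen_wit {X S : Scheme.{u}} (f : X ⟶ S) [Flat f] [LocallyOfFinitePresentation f]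
    [IsSeparated f] [LocallyQuasiFinite f] (d : ℕ) : IsOpen {s : S | Wit f d s} := by
  rw [isOpen_iff_forall_mem_open]
  rintro s ⟨S₀, hs, X₀, hqc, hd⟩
  haveI := hqc
  haveI : Flat (f ∣_ S₀) := IsZariskiLocalAtTarget.restrict ‹_› S₀
  haveI : LocallyOfFinitePresentation (f ∣_ S₀) := IsZariskiLocalAtTarget.restrict ‹_› S₀
  haveI : IsSeparated (f ∣_ S₀) := IsZariskiLocalAtTarget.restrict ‹_› S₀
  haveI : LocallyQuasiFinite (f ∣_ S₀) := IsZariskiLocalAtTarget.restrict ‹_› S₀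
  set f₀ := X₀.ι ≫ f ∣_ S₀ with hf₀
  have hfin : ∀ s₁, IsFinite (f₀.fiberToSpecResidueField s₁) := fun s₁ => inferInstance
  have hopen : IsOpen {s₁ : (S₀ : Scheme.{u}) | d ≤ fdeg f₀ s₁} := by
    rcases Nat.eq_zero_or_pos d with rfl | hpos
    · simp
    · have hcl := SN453.isClosed_le f₀ hfin (d - 1)
      have : {s₁ : (S₀ : Scheme.{u}) | d ≤ fdeg f₀ s₁} =
          {s₁ : (S₀ : Scheme.{u}) | fdeg f₀ s₁ ≤ d - 1}ᶜ := by
        ext s₁
        simp only [Set.mem_setOf_eq, Set.mem_compl_iff]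
        omega
      rw [this]
      exact hcl.isOpen_compl
  refine ⟨S₀.ι '' {s₁ : (S₀ : Scheme.{u}) | d ≤ fdeg f₀ s₁}, ?_,
    S₀.ι.isOpenEmbedding.isOpenMap _ hopen, ⟨⟨s, hs⟩, hd, rfl⟩⟩
  rintro _ ⟨s₁, hs₁, rfl⟩
  exact ⟨S₀, s₁.2, X₀, hqc, hs₁⟩

/-- restricting the base to an open through which the point factors does not change `crk`. -/
theorem crk_restrict (K : Type u) [Field K] {X S : Scheme.{u}} (f : X ⟶ S)
    (g : Spec (CommRingCat.of K) ⟶ S) (S₀ : S.Opens)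
    (g₀ : Spec (CommRingCat.of K) ⟶ (S₀ : Scheme.{u})) (hg₀ : g₀ ≫ S₀.ι = g) :
    crk K (pullback.snd (f ∣_ S₀) g₀) = crk K (pullback.snd f g) := by
  have hP : IsPullback (pullback.fst (f ∣_ S₀) g₀ ≫ (f ⁻¹ᵁ S₀).ι) (pullback.snd (f ∣_ S₀) g₀) f g := by
    have := (IsPullback.of_hasPullback (f ∣_ S₀) g₀).paste_horiz
      (isPullback_morphismRestrict f S₀).flip
    rwa [hg₀] at this
  exact crk_congr K (pullback.snd f g) (pullback.snd (f ∣_ S₀) g₀) hP.isoPullback.hom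
    hP.isoPullback_hom_snd

theorem discrete_pullback (K : Type u) [Field K] {X S : Scheme.{u}} (f : X ⟶ S)
    [LocallyQuasiFinite f] (g : Spec (CommRingCat.of K) ⟶ S) :
    DiscreteTopology ↥(pullback f g) := by
  haveI : IsLocallyArtinian (Spec (CommRingCat.of K)) :=
    Scheme.isLocallyArtinianScheme_Spec.mpr inferInstance
  haveI : IsLocallyArtinian (pullback f g) :=
    IsLocallyArtinian.of_locallyQuasiFinite (pullback.snd f g)
  infer_instance

set_option maxHeartbeats 800000 in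
/-- a witness gives a lower bound for the rank of the ring of functions of the fibre. -/
theorem le_crk_of_wit (K : Type u) [Field K] {X S : Scheme.{u}} (f : X ⟶ S) [Flat f]
    [LocallyOfFinitePresentation f] [IsSeparated f] [LocallyQuasiFinite f]
    (g : Spec (CommRingCat.of K) ⟶ S) (d : ℕ) (hw : Wit f d (g (IsLocalRing.closedPoint K))) :
    (d : Cardinal.{u}) ≤ crk K (pullback.snd f g) := by
  obtain ⟨S₀, hs, X₀, hqc, hd⟩ := hw
  haveI := hqc
  haveI : LocallyQuasiFinite (f ∣_ S₀) := IsZariskiLocalAtTarget.restrict ‹_› S₀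
  haveI : Subsingleton (Spec (CommRingCat.of K)) :=
    inferInstanceAs (Subsingleton (PrimeSpectrum K))
  have hr : Set.range g ⊆ Set.range S₀.ι := by
    rintro _ ⟨z, rfl⟩
    rw [Scheme.Opens.range_ι, Subsingleton.elim z (IsLocalRing.closedPoint K)]
    exact hs
  set g₀ := IsOpenImmersion.lift S₀.ι g hr with hg₀def
  have hg₀ : g₀ ≫ S₀.ι = g := IsOpenImmersion.lift_fac _ _ _
  have hpt : g₀ (IsLocalRing.closedPoint K) = ⟨g (IsLocalRing.closedPoint K), hs⟩ := by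
    apply Subtype.ext
    show (g₀ ≫ S₀.ι) (IsLocalRing.closedPoint K) = _
    rw [hg₀]
  set f₀ := f ∣_ S₀ with hf₀
  let p : Spec (CommRingCat.of K) := IsLocalRing.closedPoint K
  haveI := discrete_pullback K f₀ g₀
  have hfin : IsFinite ((X₀.ι ≫ f₀).fiberToSpecResidueField (g₀ (IsLocalRing.closedPoint K))) :=
    inferInstance
  obtain ⟨hVfin, hVrk⟩ := finrank_preimage K f₀ g₀ X₀ hfin p
  haveI := hVfin
  set V₀ := (pullback.fst f₀ g₀) ⁻¹ᵁ X₀ with hV₀
  set W₀ : (pullback f₀ g₀).Opens := ⟨(V₀ : Set _)ᶜ, isOpen_discrete _⟩ with hW₀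
  have hVW : IsCompl V₀ W₀ := SN455.isCompl_mk_compl _ V₀.2 _
  have h1 := crk_ι_le K (pullback.snd f₀ g₀) V₀ W₀ hVW
  rw [crk_eq_finrank K (V₀.ι ≫ pullback.snd f₀ g₀) p, hVrk, hpt,
    crk_restrict K f g S₀ g₀ hg₀] at h1
  exact (Nat.cast_le.mpr hd).trans h1

set_option maxHeartbeats 1600000 in
/-- a lower bound for the rank of the ring of functions of the fibre gives a witness. -/
theorem wit_of_le_crk (K : Type u) [Field K] {X S : Scheme.{u}} (f : X ⟶ S) [Flat f]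
    [LocallyOfFinitePresentation f] [IsSeparated f] [LocallyQuasiFinite f]
    (g : Spec (CommRingCat.of K) ⟶ S) (d : ℕ)
    (hd : (d : Cardinal.{u}) ≤ crk K (pullback.snd f g)) :
    Wit f d (g (IsLocalRing.closedPoint K)) := by
  obtain ⟨_, ⟨(S₀ : S.Opens), hS₀, rfl⟩, hs, -⟩ :=
    S.isBasis_affineOpens.exists_subset_of_mem_open
      (Set.mem_univ (g (IsLocalRing.closedPoint K))) isOpen_univ
  replace hS₀ : IsAffineOpen S₀ := hS₀
  haveI : IsAffine (S₀ : Scheme.{u}) := hS₀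
  haveI : LocallyQuasiFinite (f ∣_ S₀) := IsZariskiLocalAtTarget.restrict ‹_› S₀
  haveI : Subsingleton (Spec (CommRingCat.of K)) :=
    inferInstanceAs (Subsingleton (PrimeSpectrum K))
  have hr : Set.range g ⊆ Set.range S₀.ι := by
    rintro _ ⟨z, rfl⟩
    rw [Scheme.Opens.range_ι, Subsingleton.elim z (IsLocalRing.closedPoint K)]
    exact hs
  set g₀ := IsOpenImmersion.lift S₀.ι g hr with hg₀def
  have hg₀ : g₀ ≫ S₀.ι = g := IsOpenImmersion.lift_fac _ _ _
  have hpt : g₀ (IsLocalRing.closedPoint K) = ⟨g (IsLocalRing.closedPoint K), hs⟩ := by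
    apply Subtype.ext
    show (g₀ ≫ S₀.ι) (IsLocalRing.closedPoint K) = _
    rw [hg₀]
  set f₀ := f ∣_ S₀ with hf₀
  let p : Spec (CommRingCat.of K) := IsLocalRing.closedPoint K
  haveI := discrete_pullback K f₀ g₀
  have hcrk : (d : Cardinal.{u}) ≤ crk K (pullback.snd f₀ g₀) := by
    rw [crk_restrict K f g S₀ g₀ hg₀]; exact hd
  have ht : ∃ t : Set ↥(pullback f₀ g₀), t.Finite ∧ (t = Set.univ ∨ d ≤ t.ncard) := by
    by_cases hfinP : Finite ↥(pullback f₀ g₀)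
    · exact ⟨Set.univ, Set.finite_univ, Or.inl rfl⟩
    · rw [not_finite_iff_infinite] at hfinP
      obtain ⟨t, -, htc⟩ :=
        (Set.infinite_univ (α := ↥(pullback f₀ g₀))).exists_subset_card_eq d
      exact ⟨t, t.finite_toSet, Or.inr (by rw [Set.ncard_coe_finset, htc])⟩
  obtain ⟨t, htfin, htd⟩ := ht
  obtain ⟨X₀, hX₀c, hX₀⟩ := exists_isCompact_opens_of_finite ((pullback.fst f₀ g₀) '' t)
    (htfin.image _)
  have hqc : QuasiCompact (X₀.ι ≫ f₀) := by
    haveI : CompactSpace X₀.toScheme := isCompact_iff_compactSpace.mp hX₀c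
    exact (HasAffineProperty.iff_of_isAffine (P := @QuasiCompact) (f := X₀.ι ≫ f₀)).mpr
      inferInstance
  haveI := hqc
  have hfin : IsFinite ((X₀.ι ≫ f₀).fiberToSpecResidueField (g₀ (IsLocalRing.closedPoint K))) :=
    inferInstance
  obtain ⟨hVfin, hVrk⟩ := finrank_preimage K f₀ g₀ X₀ hfin p
  haveI := hVfin
  set V₀ := (pullback.fst f₀ g₀) ⁻¹ᵁ X₀ with hV₀
  have htV : t ⊆ (V₀ : Set ↥(pullback f₀ g₀)) := fun z hz => hX₀ ⟨z, hz, rfl⟩
  refine ⟨S₀, hs, X₀, hqc, ?_⟩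
  rw [← hpt, ← hVrk]
  rcases htd with rfl | htd
  · have hV₀top : V₀ = ⊤ := by
      rw [eq_top_iff]; intro z _; exact htV (Set.mem_univ z)
    have h1 := crk_ι_top K (pullback.snd f₀ g₀) V₀ hV₀top
    rw [crk_eq_finrank K (V₀.ι ≫ pullback.snd f₀ g₀) p] at h1
    rw [← h1] at hcrk
    exact Nat.cast_le.mp hcrk
  · haveI : DiscreteTopology V₀.toScheme :=
      inferInstanceAs (DiscreteTopology ((V₀ : Set ↥(pullback f₀ g₀)) : Type u))
    have h1 := SN455.card_le_finrank K (Nat.card V₀.toScheme) (V₀.ι ≫ pullback.snd f₀ g₀) p rfl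
    haveI : IsAffine V₀.toScheme := isAffine_of_isAffineHom (V₀.ι ≫ pullback.snd f₀ g₀)
    haveI : Finite V₀.toScheme := finite_of_compact_of_discrete
    have h2 : t.ncard ≤ Nat.card V₀.toScheme := by
      have h3 : Nat.card V₀.toScheme = (V₀ : Set ↥(pullback f₀ g₀)).ncard := Nat.card_coe_set_eq _
      rw [h3]
      haveI : Finite ↥(V₀ : Set ↥(pullback f₀ g₀)) := ‹Finite V₀.toScheme›
      exact Set.ncard_le_ncard htV (Set.toFinite _)
    omega

end Groth.Agent.Helper4.SN457
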