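import Mathlib
import Groth.Prelude.Def_W4decUnivBdd
import Groth.Agent.Helper4.BddFib5

set_option autoImplicit false
universe u
open CategoryTheory CategoryTheory.Limits AlgebraicGeometry Opposite AlgSp

namespace Groth.Agent.Helper4.UB1

variable {S : Scheme.{u}}

theorem isPullback_of_yon_map {A B C D : Over S} {a : A ⟶ B} {b : A ⟶ C} {c : B ⟶ D} {d : C ⟶ D}
    (h : IsPullback ((yon S).map a) ((yon S).map b) ((yon S).map c) ((yon S).map d)) :
    IsPullback a b c d := by
  refine IsPullback.of_map (yon S) ?_ h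
  apply (yon S).map_injective
  simp only [Functor.map_comp]
  exact h.w

theorem isPullback_yon_map {A B C D : Over S} {a : A ⟶ B} {b : A ⟶ C} {c : B ⟶ D} {d : C ⟶ D}
    (h : IsPullback a b c d) :
    IsPullback ((yon S).map a) ((yon S).map b) ((yon S).map c) ((yon S).map d) :=
  h.map (yon S)

theorem isPullback_left {A B C D : Over S} {a : A ⟶ B} {b : A ⟶ C} {c : B ⟶ D} {d : C ⟶ D}
    (h : IsPullback a b c d) : IsPullback a.left b.left c.left d.left :=
  h.map (Over.forget S)

theorem isPullback_of_left {A B C D : Over S} {a : A ⟶ B} {b : A ⟶ C} {c : B ⟶ D} {d : C ⟶ D}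
    (w : a ≫ c = b ≫ d)
    (h : IsPullback a.left b.left c.left d.left) : IsPullback a b c d :=
  IsPullback.of_map (Over.forget S) w h

end Groth.Agent.Helper4.UB1
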