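import Mathlib
import Groth.Prelude.Def_W4decUnivBdd
import Groth.Agent.Helper4.UB1

set_option autoImplicit false
universe u
open CategoryTheory CategoryTheory.Limits AlgebraicGeometry Opposite AlgSp

namespace Groth.Agent.Helper4.UB2

open Groth.Agent.Helper4.UB1

variable {S : Scheme.{u}}

/-- from the (finite, rank) form to `FiniteOfDegLE` -/
theorem finiteOfDegLE_of (K : Type u) [Field K] {T : Scheme.{u}}
    (p : T ⟶ Spec (CommRingCat.of K)) (n : ℕ) (h : IsFinite p ∧ ∀ s, p.finrank s ≤ n) :
    BddFib.FiniteOfDegLE (CommRingCat.of K) p n := by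
  obtain ⟨h1, h2⟩ := h
  haveI : Flat p := inferInstance
  exact Groth.Agent.Helper5.BddBC.mono_finiteOfDegLE _ _ (h2 default)
    (Groth.Agent.Helper5.BddFLF.finiteOfDegLE_of_finrank K p default _ rfl)

theorem of_finiteOfDegLE (K : Type u) [Field K] {T : Scheme.{u}}
    (p : T ⟶ Spec (CommRingCat.of K)) (n : ℕ)
    (h : BddFib.FiniteOfDegLE (CommRingCat.of K) p n) : IsFinite p ∧ ∀ s, p.finrank s ≤ n := by
  obtain ⟨h1, -, h3⟩ := Groth.Agent.Helper5.BddBC.of_finiteOfDegLE K p n h
  exact ⟨h1, h3⟩

/-- the sheaf-level bound for a morphism of schemes gives the scheme-level bound -/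
theorem fibreDegLE_of_degFibresLE {U V : Over S} (f : V ⟶ U) (m : ℕ)
    (hf : W4dec.DegFibresLE m ((yon S).map f)) : BddFib.FibreDegLE f.left m := by
  intro y
  let q : FieldPt ((yon S).obj U) := FieldPt.ofPt (𝟙 _) y
  have hq : q.toHom = (yon S).map (Over.homMk (U.left.fromSpecResidueField y) rfl) := by
    rw [FieldPt.toHom_ofPt, Category.comp_id]
  let T : Over S := Over.mk (f.left.fiberι y ≫ V.hom)
  have hw : f.left.fiberToSpecResidueField y ≫ (U.left.fromSpecResidueField y ≫ U.hom) =
      f.left.fiberι y ≫ V.hom := by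
    have e : f.left.fiberι y ≫ f.left =
        f.left.fiberToSpecResidueField y ≫ U.left.fromSpecResidueField y := pullback.condition
    rw [← Category.assoc, ← e, Category.assoc, Over.w f]
  let c : T ⟶ q.pt := Over.homMk (f.left.fiberToSpecResidueField y) hw
  let ι : T ⟶ V := Over.homMk (f.left.fiberι y) rfl
  have sq0 : IsPullback c ι (Over.homMk (U.left.fromSpecResidueField y) rfl : q.pt ⟶ U) f := by
    apply isPullback_of_left
    · ext
      exact (pullback.condition : f.left.fiberι y ≫ f.left = _).symm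
    · exact (IsPullback.of_hasPullback f.left (U.left.fromSpecResidueField y)).flip
  have sq1 := isPullback_yon_map sq0
  rw [← hq] at sq1
  have := hf q T c ((yon S).map ι) sq1
  exact finiteOfDegLE_of _ _ m this

end Groth.Agent.Helper4.UB2
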