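import Mathlib
import Groth.Prelude.Def_W4decUnivBdd
import Groth.Agent.Helper4.UB2
import Groth.Agent.Helper4.BddFib3

set_option autoImplicit false
universe u
open CategoryTheory CategoryTheory.Limits AlgebraicGeometry Opposite AlgSp

namespace Groth.Agent.Helper4.UB5

open Groth.Agent.Helper4.UB1 Groth.Agent.Helper4.UB2

variable {S : Scheme.{u}}

theorem toHom_eq_of_rel {F : Sp S} (p q : FieldPt F) {W : Over S} (a : W ⟶ p.pt) (b : W ⟶ q.pt)
    (h : F.obj.map a.op p.val = F.obj.map b.op q.val) :
    (yon S).map a ≫ p.toHom = (yon S).map b ≫ q.toHom := by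
  unfold FieldPt.toHom
  rw [GrothendieckTopology.uliftYonedaEquiv_symm_naturality_left,
    GrothendieckTopology.uliftYonedaEquiv_symm_naturality_left, h]

/-- a point of `U` over the class of `q` lies in the image of the fibre -/
theorem mem_range_of_ofPt_eq {F : Sp S} {U T : Over S} (φ : (yon S).obj U ⟶ F) (q : FieldPt F)
    (c : T ⟶ q.pt) (σ : T ⟶ U) (sq : IsPullback ((yon S).map c) ((yon S).map σ) q.toHom φ)
    (u : ↥U.left) (hu : Points.ofPt φ u = Points.mk q) : u ∈ Set.range σ.left := by
  obtain ⟨Ω, _, w, a, b, hab⟩ := Points.mk_eq_mk_iff.mp hu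
  have e1 := toHom_eq_of_rel (FieldPt.ofPt φ u) q a b hab
  rw [FieldPt.toHom_ofPt, ← Category.assoc, ← Functor.map_comp] at e1
  obtain ⟨l, hl1, hl2⟩ := sq.exists_lift _ _ e1.symm
  obtain ⟨lam, rfl⟩ := (yon S).map_surjective l
  have hl2' : lam ≫ σ = a ≫ Over.homMk (U.left.fromSpecResidueField u) rfl := by
    apply (yon S).map_injective
    rw [Functor.map_comp]; exact hl2
  have hl2'' : lam.left ≫ σ.left = a.left ≫ U.left.fromSpecResidueField u := by
    have := congr_arg (fun m => m.left) hl2'
    simpa using this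
  refine ⟨lam.left (IsLocalRing.closedPoint Ω), ?_⟩
  rw [← Scheme.Hom.comp_apply, hl2'', Scheme.Hom.comp_apply]
  exact Scheme.fromSpecResidueField_apply u _

theorem encard_fibre_le (X : AlgSp.Space S) {U : Over S}
    (φ : (AlgSp.yon S).obj U ⟶ X.obj) (n : ℕ) (hφ : W4dec.DegFibresLE n φ) (x : Points X.obj) :
    (Points.ofPt φ ⁻¹' {x}).encard ≤ n := by
  induction x using Points.ind with
  | h q =>
    obtain ⟨T, c, s, h'⟩ := X.property.representable_from_yon φ q.toHom
    obtain ⟨σ, rfl⟩ := (yon S).map_surjective s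
    have hT := hφ q T c ((yon S).map σ) h'.flip
    have hS := finiteOfDegLE_of q.K c.left n hT
    obtain ⟨hfin, -, hcard⟩ := Groth.Agent.Helper4.BddFib3.count q.K c.left n hS
    have hsub : Points.ofPt φ ⁻¹' {Points.mk q} ⊆ Set.range σ.left := fun u hu =>
      mem_range_of_ofPt_eq φ q c σ h'.flip u hu
    calc (Points.ofPt φ ⁻¹' {Points.mk q}).encard ≤ (Set.range σ.left).encard :=
          Set.encard_le_encard hsub
      _ ≤ (Set.univ : Set ↥T.left).encard := by
          rw [← Set.image_univ]; exact Set.encard_image_le _ _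
      _ = (Nat.card ↥T.left : ℕ∞) := by
          rw [Set.encard_univ, ENat.card_eq_coe_natCard]
      _ ≤ n := by exact_mod_cast hcard

end Groth.Agent.Helper4.UB5
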