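import Mathlib
import Groth.Prelude.Def_W4decUnivBdd
import Groth.Agent.Helper4.UB5
import Groth.Agent.Helper4.BddFib2
import Groth.Agent.Helper4.BddFib9

set_option autoImplicit false
universe u
open CategoryTheory CategoryTheory.Limits AlgebraicGeometry Opposite AlgSp

namespace Groth.Agent.Helper4.UB6

open Groth.Agent.Helper4.UB1 Groth.Agent.Helper4.UB2

variable {S : Scheme.{u}}

/-- transfer of `FiniteOfDegLE` along an isomorphism over `Spec K` -/
theorem finiteOfDegLE_of_iso (K : Type u) [Field K] {T T' : Scheme.{u}}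
    (p : T ⟶ Spec (CommRingCat.of K)) (p' : T' ⟶ Spec (CommRingCat.of K))
    (a : T' ⟶ T) [IsIso a] (w : a ≫ p = p') (n : ℕ)
    (h : BddFib.FiniteOfDegLE (CommRingCat.of K) p n) :
    BddFib.FiniteOfDegLE (CommRingCat.of K) p' n := by
  refine Groth.Agent.Helper4.BddFib1.finiteOfDegLE_of_isPullback K K p p' a (𝟙 _) ?_ n h
  exact IsPullback.of_horiz_isIso ⟨by rw [w, Category.comp_id]⟩

/-- the scheme-level bound for a morphism of schemes gives the sheaf-level bound -/
theorem degFibresLE_of_fibreDegLE {U V : Over S} (f : V ⟶ U) (m : ℕ)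
    (hf : BddFib.FibreDegLE f.left m) : W4dec.DegFibresLE m ((yon S).map f) := by
  intro q T c snd sq
  obtain ⟨σ, rfl⟩ := (yon S).map_surjective snd
  obtain ⟨g0, hg0⟩ := (yon S).map_surjective q.toHom
  rw [← hg0] at sq
  have sq1 := isPullback_left (isPullback_of_yon_map sq)
  have h1 := (Groth.Agent.Helper4.BddFib2.s7433 f.left m).mp hf q.K g0.left
  apply of_finiteOfDegLE q.K c.left m
  refine finiteOfDegLE_of_iso q.K (pullback.snd f.left g0.left) c.left sq1.flip.isoPullback.hom ?_ m h1
  exact sq1.flip.isoPullback_hom_snd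

end Groth.Agent.Helper4.UB6
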