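import Mathlib
import Groth.Prelude.Def_W4decUnivBdd
import Groth.Agent.Helper4.UB6

set_option autoImplicit false
universe u
open CategoryTheory CategoryTheory.Limits AlgebraicGeometry Opposite AlgSp

namespace Groth.Agent.Helper4.UB7

open Groth.Agent.Helper4.UB1 Groth.Agent.Helper4.UB2 Groth.Agent.Helper4.UB6

variable {S : Scheme.{u}}

/-- restriction of a field point along a field extension -/
noncomputable def restr {F : Sp S} (q : FieldPt F) {k : Type u} [Field k]
    (g : Spec (CommRingCat.of k) ⟶ Spec (CommRingCat.of q.K)) : FieldPt F :=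
  ⟨k, g ≫ q.str, F.obj.map (Over.homMk g rfl : Over.mk (g ≫ q.str) ⟶ q.pt).op q.val⟩

theorem restr_toHom {F : Sp S} (q : FieldPt F) {k : Type u} [Field k]
    (g : Spec (CommRingCat.of k) ⟶ Spec (CommRingCat.of q.K)) :
    (restr q g).toHom = (yon S).map (Over.homMk g rfl : Over.mk (g ≫ q.str) ⟶ q.pt) ≫ q.toHom := by
  unfold FieldPt.toHom
  rw [GrothendieckTopology.uliftYonedaEquiv_symm_naturality_left]
  rfl

/-- for an étale map to an algebraic space, a bound on the number of points of all fibres over fields
bounds the degrees of the fibres -/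
theorem degFibresLE_of_card (X : AlgSp.Space S) {V : Over S} (ψ : (yon S).obj V ⟶ X.obj)
    (hψ : RepWith @Etale ψ) (N : ℕ)
    (h : ∀ (q : FieldPt X.obj) (T : Over S) (c : T ⟶ q.pt) (snd : (yon S).obj T ⟶ (yon S).obj V),
      IsPullback ((yon S).map c) snd q.toHom ψ → Finite ↥T.left ∧ Nat.card ↥T.left ≤ N) :
    W4dec.DegFibresLE N ψ := by
  intro q T c snd sq
  obtain ⟨σ, rfl⟩ := (yon S).map_surjective snd
  haveI : Etale c.left := ((repWith_iff _ ψ).mp hψ).2 q.toHom ((yon S).map σ) c sq.flip
  have key : BddFib.FibreDegLE c.left N := by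
    apply Groth.Agent.Helper4.BddFib9.s7440 c.left N
    intro k _ g
    let b : Over.mk (g ≫ q.str) ⟶ q.pt := Over.homMk g rfl
    have pb : IsPullback (pullback.fst c b) (pullback.snd c b) c b := IsPullback.of_hasPullback c b
    have pbY := isPullback_yon_map pb
    have big : IsPullback ((yon S).map (pullback.snd c b)) ((yon S).map (pullback.fst c b ≫ σ))
        (restr q g).toHom ψ := by
      rw [Functor.map_comp, restr_toHom]
      exact (pbY.flip.paste_vert sq)
    obtain ⟨h1, h2⟩ := h (restr q g) (pullback c b) (pullback.snd c b) _ big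
    have pbl : IsPullback (pullback.fst c b).left (pullback.snd c b).left c.left g :=
      isPullback_left pb
    let e : ↥(pullback c b).left ≃ ↥(pullback c.left g) :=
      (Scheme.homeoOfIso pbl.isoPullback).toEquiv
    exact ⟨(Finite.of_equiv _ e), by rw [← Nat.card_congr e]; exact h2⟩
  have h1 := (Groth.Agent.Helper4.BddFib2.s7433 c.left N).mp key q.K (𝟙 _)
  apply of_finiteOfDegLE q.K c.left N
  refine finiteOfDegLE_of_iso q.K (pullback.snd c.left (𝟙 _)) c.left
    (inv (pullback.fst c.left (𝟙 _))) ?_ N h1
  rw [IsIso.inv_comp_eq, pullback.condition, Category.comp_id]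

end Groth.Agent.Helper4.UB7
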