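import Mathlib
import Groth.Prelude.Def_W4decUnivBdd
import Groth.Agent.Helper4.UB7
import Groth.Agent.Helper4.SN453

/-!
# The degree function on the points of a sheaf defined by a representable morphism with finite
field-valued fibres
-/

set_option autoImplicit false
universe u

open CategoryTheory CategoryTheory.Limits AlgebraicGeometry TopologicalSpace Opposite AlgSp

namespace Groth.Agent.Helper4.SN458

open Groth.Agent.Helper4 Groth.Agent.Helper4.UB1 Groth.Agent.Helper4.SN452

variable {S : Scheme.{u}}

/-- finiteness of all field-valued fibres of `w`. -/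
def FinFib {F : Sp S} {W : Over S} (w : (yon S).obj W ⟶ F) : Prop :=
  ∀ (q : FieldPt F) (T : Over S) (c : T ⟶ q.pt) (fst : (yon S).obj T ⟶ (yon S).obj W),
    IsPullback fst ((yon S).map c) w q.toHom → IsFinite c.left

/-- the rank of the chosen pullback of `w` along a field-valued point. -/
noncomputable def degq {F : Sp S} {W : Over S} (w : (yon S).obj W ⟶ F) (hw : Representable w)
    (q : FieldPt F) : ℕ :=
  ((hw q.toHom).choose_spec.choose).left.finrank (IsLocalRing.closedPoint q.K)

theorem degq_eq {F : Sp S} {W : Over S} (w : (yon S).obj W ⟶ F) (hw : Representable w)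
    (hfin : FinFib w) (q : FieldPt F) {T : Over S} (c : T ⟶ q.pt)
    (fst : (yon S).obj T ⟶ (yon S).obj W) (sq : IsPullback fst ((yon S).map c) w q.toHom)
    (p : Spec (CommRingCat.of q.K)) :
    c.left.finrank p = degq w hw q := by
  set V := (hw q.toHom).choose with hV
  set c₀ : V ⟶ q.pt := (hw q.toHom).choose_spec.choose with hc₀
  obtain ⟨fst₀, sq₀⟩ := (hw q.toHom).choose_spec.choose_spec
  -- the comparison isomorphism
  let e : (yon S).obj T ≅ (yon S).obj V := sq.isoIsPullback _ _ sq₀
  have he2 : e.hom ≫ (yon S).map c₀ = (yon S).map c := sq.isoIsPullback_hom_snd _ _ sq₀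
  obtain ⟨ε, hε⟩ := (yon S).map_surjective e.hom
  have hεc : ε ≫ c₀ = c := by
    apply (yon S).map_injective
    rw [Functor.map_comp, hε]; exact he2
  haveI : IsIso ((yon S).map ε) := by rw [hε]; infer_instance
  haveI : IsIso ε := isIso_of_fully_faithful (yon S) ε
  haveI : IsIso ε.left := inferInstanceAs (IsIso ((Over.forget S).map ε))
  haveI : IsFinite c₀.left := hfin q V c₀ fst₀ sq₀
  haveI : Flat c₀.left := SN451.flat_of_field q.K c₀.left
  have hleft : c.left = ε.left ≫ c₀.left := by rw [← hεc]; rfl
  unfold degq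
  rw [hleft, Scheme.Hom.finrank_comp_left_of_isIso]
  congr 1
  exact Subsingleton.elim (α := PrimeSpectrum q.K) _ _

/-- the degree is unchanged when the field-valued point is restricted along a field extension. -/
theorem degq_restrict {F : Sp S} {W : Over S} (w : (yon S).obj W ⟶ F) (hw : Representable w)
    (hfin : FinFib w) (q₁ q : FieldPt F) (a : q₁.pt ⟶ q.pt)
    (h : q₁.toHom = (yon S).map a ≫ q.toHom) : degq w hw q₁ = degq w hw q := by
  set V := (hw q.toHom).choose with hV
  set c₀ : V ⟶ q.pt := (hw q.toHom).choose_spec.choose with hc₀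
  obtain ⟨fst₀, sq₀⟩ := (hw q.toHom).choose_spec.choose_spec
  haveI : IsFinite c₀.left := hfin q V c₀ fst₀ sq₀
  haveI : Flat c₀.left := SN451.flat_of_field q.K c₀.left
  have hw1 : pullback.fst c₀.left a.left ≫ V.hom = pullback.snd c₀.left a.left ≫ q₁.str := by
    have e1 : c₀.left ≫ q.str = V.hom := Over.w c₀
    have e2 : a.left ≫ q.str = q₁.str := Over.w a
    rw [← e1, ← e2, ← Category.assoc, ← Category.assoc, pullback.condition]
  let A : Over S := Over.mk (pullback.snd c₀.left a.left ≫ q₁.str)
  let π₂ : A ⟶ q₁.pt := Over.homMk (pullback.snd c₀.left a.left) rfl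
  let π₁ : A ⟶ V := Over.homMk (pullback.fst c₀.left a.left) hw1
  have sqO : IsPullback π₁ π₂ c₀ a := by
    apply isPullback_of_left
    · ext
      exact pullback.condition
    · exact IsPullback.of_hasPullback c₀.left a.left
  have sqY := (isPullback_yon_map sqO).paste_horiz sq₀
  rw [← h] at sqY
  have h1 := degq_eq w hw hfin q₁ π₂ _ sqY (IsLocalRing.closedPoint q₁.K)
  rw [← h1]
  show Scheme.Hom.finrank (pullback.snd c₀.left a.left) _ = _
  rw [Scheme.Hom.finrank_pullback_snd]
  unfold degq
  congr 1
  exact Subsingleton.elim (α := PrimeSpectrum q.K) _ _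

/-- equivalent field-valued points have the same degree. -/
theorem degq_rel {F : Sp S} {W : Over S} (w : (yon S).obj W ⟶ F) (hw : Representable w)
    (hfin : FinFib w) (p q : FieldPt F) (h : FieldPt.Rel p q) : degq w hw p = degq w hw q := by
  obtain ⟨Ω, _, w₀, a, b, hab⟩ := h
  let q₁ : FieldPt F := ⟨Ω, w₀, F.obj.map a.op p.val⟩
  have h1 : q₁.toHom = (yon S).map a ≫ p.toHom := by
    unfold FieldPt.toHom
    rw [GrothendieckTopology.uliftYonedaEquiv_symm_naturality_left]
  have h2 : q₁.toHom = (yon S).map b ≫ q.toHom := by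
    rw [h1]; exact UB5.toHom_eq_of_rel p q a b hab
  rw [← degq_restrict w hw hfin q₁ p a h1, ← degq_restrict w hw hfin q₁ q b h2]

/-- the degree function on points. -/
noncomputable def deg {F : Sp S} {W : Over S} (w : (yon S).obj W ⟶ F) (hw : Representable w)
    (hfin : FinFib w) : Points F → ℕ :=
  Quotient.lift (degq w hw) (fun p q h => degq_rel w hw hfin p q h)

theorem deg_mk {F : Sp S} {W : Over S} (w : (yon S).obj W ⟶ F) (hw : Representable w)
    (hfin : FinFib w) (q : FieldPt F) : deg w hw hfin (Points.mk q) = degq w hw q := rfl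

/-- **key property**: on any scheme chart, the degree function is the fibre degree of the pulled
back morphism of schemes. -/
theorem fdeg_eq_deg {F : Sp S} {W : Over S} (w : (yon S).obj W ⟶ F) (hw : Representable w)
    (hfin : FinFib w) {T V : Over S} (g : (yon S).obj T ⟶ F) (c : V ⟶ T)
    (fst : (yon S).obj V ⟶ (yon S).obj W) (sq : IsPullback fst ((yon S).map c) w g)
    (t : ↥T.left) :
    IsFinite (c.left.fiberToSpecResidueField t) ∧
      fdeg c.left t = deg w hw hfin (Points.ofPt g t) := by
  let q : FieldPt F := FieldPt.ofPt g t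
  have hq : q.toHom = (yon S).map (Over.homMk (T.left.fromSpecResidueField t) rfl) ≫ g :=
    FieldPt.toHom_ofPt g t
  let T' : Over S := Over.mk (c.left.fiberι t ≫ V.hom)
  have hw1 : c.left.fiberToSpecResidueField t ≫ (T.left.fromSpecResidueField t ≫ T.hom) =
      c.left.fiberι t ≫ V.hom := by
    have e : c.left.fiberι t ≫ c.left =
        c.left.fiberToSpecResidueField t ≫ T.left.fromSpecResidueField t := pullback.condition
    rw [← Category.assoc, ← e, Category.assoc, Over.w c]
  let c' : T' ⟶ q.pt := Over.homMk (c.left.fiberToSpecResidueField t) hw1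
  let ι : T' ⟶ V := Over.homMk (c.left.fiberι t) rfl
  have sq0 : IsPullback c' ι (Over.homMk (T.left.fromSpecResidueField t) rfl : q.pt ⟶ T) c := by
    apply isPullback_of_left
    · ext
      exact (pullback.condition : c.left.fiberι t ≫ c.left = _).symm
    · exact (IsPullback.of_hasPullback c.left (T.left.fromSpecResidueField t)).flip
  have sq1 := (isPullback_yon_map sq0).flip.paste_horiz sq
  rw [← hq] at sq1
  have hF : IsFinite c'.left := hfin q T' c' _ sq1
  refine ⟨hF, ?_⟩
  have h1 := degq_eq w hw hfin q c' _ sq1 (IsLocalRing.closedPoint q.K)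
  exact h1

end Groth.Agent.Helper4.SN458
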