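import Mathlib
import Groth.Prelude.Def_W4decUnivBdd
import Groth.Prelude.Def_AlgSpMor5
import Groth.Prelude.Def_AlgSpSub
import Groth.Agent.Helper4.SN458

/-!
# The degree function of a flat separated quasi-finite morphism from a scheme to a sheaf:
closedness of the sublevel sets and the finite locally free criterion
-/

set_option autoImplicit false
universe u

open CategoryTheory CategoryTheory.Limits AlgebraicGeometry TopologicalSpace Opposite AlgSp

namespace Groth.Agent.Helper4.SN459

open Groth.Agent.Helper4 Groth.Agent.Helper4.UB1 Groth.Agent.Helper4.SN452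
  Groth.Agent.Helper4.SN458

variable {S : Scheme.{u}}

/-- the standing hypotheses on `w`. -/
structure Hyp {F : Sp S} {W : Over S} (w : (yon S).obj W ⟶ F) : Prop where
  fl : RepWith @Flat w
  fp : RepWith @LocallyOfFinitePresentation w
  sep : RepWith @IsSeparated w
  qf : RepWith @LocallyQuasiFinite w
  fin : FinFib w

theorem Hyp.rep {F : Sp S} {W : Over S} {w : (yon S).obj W ⟶ F} (h : Hyp w) : Representable w :=
  ((repWith_iff _ w).mp h.fl).1

/-- a separated flat quasi-finite morphism with constant fibre degree is finite locally free. -/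
theorem isFinLocFreeOfDeg_of_const {X Y : Scheme.{u}} (f : X ⟶ Y) [Flat f]
    [LocallyOfFinitePresentation f] [IsSeparated f] [LocallyQuasiFinite f]
    (hfin : ∀ s, IsFinite (f.fiberToSpecResidueField s)) (r : ℕ) (hr : ∀ s, fdeg f s = r) :
    Mor2.IsFinLocFreeOfDeg r f := by
  haveI hF : IsFinite f := SN453.isFinite_of_const f hfin r hr
  refine ⟨⟨hF, inferInstance, inferInstance⟩, fun y => ?_⟩
  rw [← fdeg_eq_finrank, hr]

/-- the sublevel sets of the degree function are closed. -/
theorem isClosed_lt {F : Sp S} {W : Over S} (w : (yon S).obj W ⟶ F) (h : Hyp w) (r : ℕ) :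
    IsClosed {x : Points F | deg w h.rep h.fin x < r} := by
  rcases Nat.eq_zero_or_pos r with rfl | hpos
  · have : {x : Points F | deg w h.rep h.fin x < 0} = ∅ := by
      ext x; simp
    rw [this]; exact isClosed_empty
  rw [← isOpen_compl_iff, Points.isOpen_iff]
  intro T g
  obtain ⟨V, c, fst, sq⟩ := h.rep g
  haveI : Flat c.left := ((repWith_iff _ w).mp h.fl).2 g fst c sq
  haveI : LocallyOfFinitePresentation c.left := ((repWith_iff _ w).mp h.fp).2 g fst c sq
  haveI : IsSeparated c.left := ((repWith_iff _ w).mp h.sep).2 g fst c sq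
  haveI : LocallyQuasiFinite c.left := ((repWith_iff _ w).mp h.qf).2 g fst c sq
  have hk := fun t => fdeg_eq_deg w h.rep h.fin g c fst sq t
  have hcl := SN453.isClosed_le c.left (fun t => (hk t).1) (r - 1)
  have heq : Points.ofPt g ⁻¹' {x : Points F | deg w h.rep h.fin x < r}ᶜ =
      {t : ↥T.left | fdeg c.left t ≤ r - 1}ᶜ := by
    ext t
    simp only [Set.mem_preimage, Set.mem_compl_iff, Set.mem_setOf_eq]
    rw [(hk t).2]
    omega
  rw [heq]
  exact hcl.isOpen_compl

/-- **the criterion**: the base change of `w` along `g` is finite locally free of degree `r` iff the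
degree function is constantly `r` on the image of `g`. -/
theorem finLocFree_iff {F : Sp S} {W : Over S} (w : (yon S).obj W ⟶ F) (h : Hyp w) {G P : Sp S}
    (g : G ⟶ F) (fst : P ⟶ (yon S).obj W) (snd : P ⟶ G) (sqP : IsPullback fst snd w g) (r : ℕ) :
    IsFinLocFreeOfDegMor r snd ↔ ∀ y : Points G, deg w h.rep h.fin (Points.map g y) = r := by
  constructor
  · intro hR
    have hR' := (repWith_iff (finLocFreeOfDeg r) snd).mp hR
    intro y
    induction y using Points.ind with
    | h q =>
    obtain ⟨V, c, fst', sq'⟩ := hR'.1 q.toHom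
    have hc : Mor2.IsFinLocFreeOfDeg r c.left := hR'.2 q.toHom fst' c sq'
    have sq'' := sq'.paste_horiz sqP
    rw [← FieldPt.toHom_map] at sq''
    have h1 := degq_eq w h.rep h.fin (q.map g) c _ sq'' (IsLocalRing.closedPoint q.K)
    rw [Points.map_mk, deg_mk, ← h1]
    exact hc.2 _
  · intro hconst
    have hrep : Representable snd :=
      ((repWith_iff _ snd).mp (MorphismProperty.of_isPullback (P := RepWith @Flat) sqP h.fl)).1
    refine (repWith_iff (finLocFreeOfDeg r) snd).mpr ⟨hrep, ?_⟩
    intro U V g' fst' snd' sq'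
    have sq'' := sq'.paste_horiz sqP
    haveI : Flat snd'.left := ((repWith_iff _ w).mp h.fl).2 _ _ snd' sq''
    haveI : LocallyOfFinitePresentation snd'.left := ((repWith_iff _ w).mp h.fp).2 _ _ snd' sq''
    haveI : IsSeparated snd'.left := ((repWith_iff _ w).mp h.sep).2 _ _ snd' sq''
    haveI : LocallyQuasiFinite snd'.left := ((repWith_iff _ w).mp h.qf).2 _ _ snd' sq''
    have hk := fun u => fdeg_eq_deg w h.rep h.fin (g' ≫ g) snd' _ sq'' u
    refine isFinLocFreeOfDeg_of_const snd'.left (fun u => (hk u).1) r (fun u => ?_)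
    rw [(hk u).2, ← Points.map_ofPt]
    exact hconst _

end Groth.Agent.Helper4.SN459
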