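import Mathlib

/-!
Generic points and open embeddings; a specialization inside a fibre whose generic end has residue
field integral over the residue field of the base point is trivial.
-/

set_option autoImplicit false

namespace Groth.Agent.Helper4.SN460

open AlgebraicGeometry CategoryTheory Limits IsLocalRing Topology

universe u

section Top

variable {A B : Type*} [TopologicalSpace A] [TopologicalSpace B]

theorem closure_singleton_eq_preimage {j : A → B} (hj : IsInducing j) (a : A) :
    closure ({a} : Set A) = j ⁻¹' closure {j a} := by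
  rw [hj.closure_eq_preimage_closure_image, Set.image_singleton]

/-- For an open embedding, a point is the generic point of an irreducible component of the source
iff its image is the generic point of an irreducible component of the target. -/
theorem mem_genericPoints_iff {j : A → B} (hj : IsOpenEmbedding j) (a : A) :
    a ∈ genericPoints A ↔ j a ∈ genericPoints B := by
  constructor
  · intro ha
    have ha' : closure ({a} : Set A) ∈ irreducibleComponents A := ha
    refine ⟨isIrreducible_singleton.closure, ?_⟩
    intro T hT hle
    have hjaT : j a ∈ T := hle (subset_closure rfl)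
    have hne : (T ∩ Set.range j).Nonempty := ⟨j a, hjaT, a, rfl⟩
    have hpre : IsIrreducible (j ⁻¹' T) := hT.preimage hj hne
    have hsub : closure ({a} : Set A) ⊆ j ⁻¹' T := by
      rw [closure_singleton_eq_preimage hj.isInducing]
      exact Set.preimage_mono hle
    have heq : j ⁻¹' T ⊆ closure ({a} : Set A) := ha'.2 hpre hsub
    -- `T ∩ range j` is dense in `T`
    have hdense : T ⊆ closure (T ∩ Set.range j) :=
      subset_closure_inter_of_isPreirreducible_of_isOpen hT.2 hj.isOpen_range hne
    refine hdense.trans (closure_minimal ?_ isClosed_closure)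
    rintro _ ⟨ht, a', rfl⟩
    have : a' ∈ closure ({a} : Set A) := heq ht
    rw [closure_singleton_eq_preimage hj.isInducing] at this
    exact this
  · intro ha
    have ha' : closure ({j a} : Set B) ∈ irreducibleComponents B := ha
    have hne : (closure ({j a} : Set B) ∩ Set.range j).Nonempty :=
      ⟨j a, subset_closure rfl, a, rfl⟩
    have := preimage_mem_irreducibleComponents ha' hj hne
    rw [← closure_singleton_eq_preimage hj.isInducing] at this
    exact this

end Top

section Ring

/-- `A → B → L` with `A`, `B` local, `L` a field, the composite killing the maximal ideal of `A`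
and integral: then `B → L` kills the maximal ideal of `B`. -/
theorem map_eq_zero_of_isIntegral {A B L : Type*} [CommRing A] [CommRing B] [Field L]
    [IsLocalRing A] [IsLocalRing B] (ψ : A →+* B) (π : B →+* L)
    (h0 : ∀ a ∈ maximalIdeal A, π (ψ a) = 0) (hint : (π.comp ψ).IsIntegral) :
    ∀ b ∈ maximalIdeal B, π b = 0 := by
  let K : Ideal B := RingHom.ker π
  haveI hKp : K.IsPrime := RingHom.ker_isPrime π
  let f : A →+* B ⧸ K := (Ideal.Quotient.mk K).comp ψ
  have hf : f.IsIntegral := by
    intro d
    obtain ⟨b, rfl⟩ := Ideal.Quotient.mk_surjective d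
    obtain ⟨P, hPm, hP⟩ := hint (π b)
    refine ⟨P, hPm, ?_⟩
    have h1 : Polynomial.eval₂ (π.comp ψ) (π b) P = π (Polynomial.eval₂ ψ b P) := by
      rw [Polynomial.hom_eval₂]
    have h2 : Polynomial.eval₂ ψ b P ∈ K := by
      show π _ = 0
      rw [← h1]; exact hP
    have h3 : Polynomial.eval₂ f (Ideal.Quotient.mk K b) P =
        Ideal.Quotient.mk K (Polynomial.eval₂ ψ b P) := by
      rw [Polynomial.hom_eval₂]
    rw [h3]
    exact Ideal.Quotient.eq_zero_iff_mem.2 h2
  have hcomap : (⊥ : Ideal (B ⧸ K)).comap f = maximalIdeal A := by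
    ext a
    constructor
    · intro ha
      by_contra hna
      have hu : IsUnit a := by
        by_contra hnu
        exact hna ((mem_maximalIdeal a).2 hnu)
      have hfu : IsUnit (f a) := hu.map f
      have hfa : f a = 0 := by simpa using ha
      rw [hfa] at hfu
      exact not_isUnit_zero hfu
    · intro ha
      show f a ∈ (⊥ : Ideal (B ⧸ K))
      rw [Ideal.mem_bot]
      exact Ideal.Quotient.eq_zero_iff_mem.2 (h0 a ha)
  haveI : (⊥ : Ideal (B ⧸ K)).IsPrime := Ideal.isPrime_bot
  have hmax : (⊥ : Ideal (B ⧸ K)).IsMaximal := by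
    apply Ideal.isMaximal_of_isIntegral_of_isMaximal_comap' f hf
    rw [hcomap]
    exact maximalIdeal.isMaximal A
  have hKmax : K.IsMaximal := Ideal.bot_quotient_isMaximal_iff K |>.1 hmax
  have hK : K = maximalIdeal B := eq_maximalIdeal hKmax
  intro b hb
  rw [← hK] at hb
  exact hb

end Ring

section Scheme

/-- A specialization `w ⤳ w'` inside a fibre of `φ` with `κ(w)` integral over `κ(φ w)` is an
equality. -/
theorem eq_of_specializes_of_isIntegral {W V : Scheme.{u}} (φ : W ⟶ V) {w w' : W} (h : w ⤳ w')
    (hφ : φ w = φ w') (hint : (φ.residueFieldMap w).hom.IsIntegral) : w = w' := by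
  have hcomm := φ.stalkSpecializes_stalkMap w w' h
  have hins : Inseparable (φ w) (φ w') := by rw [hφ]
  have hiso : IsIso (V.presheaf.stalkSpecializes (φ.base.hom.map_specializes h)) :=
    inferInstanceAs (IsIso (V.presheaf.stalkCongr hins.symm).hom)
  let spV := V.presheaf.stalkSpecializes (φ.base.hom.map_specializes h)
  let spW := W.presheaf.stalkSpecializes h
  let ψ : V.presheaf.stalk (φ w') →+* W.presheaf.stalk w' := (φ.stalkMap w').hom
  let π : W.presheaf.stalk w' →+* W.residueField w := (spW ≫ W.residue w).hom
  have hcomp : π.comp ψ = (φ.residueFieldMap w).hom.comp ((spV ≫ V.residue (φ w)).hom) := by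
    have h1 : φ.stalkMap w' ≫ spW ≫ W.residue w =
        (spV ≫ V.residue (φ w)) ≫ φ.residueFieldMap w := by
      rw [← Category.assoc, ← hcomm, Category.assoc, Category.assoc,
        Scheme.residue_residueFieldMap]
    have h2 := congrArg (fun g => g.hom) h1
    simp only [CommRingCat.hom_comp] at h2
    rw [RingHom.comp_assoc] at h2
    exact h2
  haveI : IsLocalHom spV.hom := by
    have : IsIso spV := hiso
    infer_instance
  have h0 : ∀ a ∈ maximalIdeal (V.presheaf.stalk (φ w')), π (ψ a) = 0 := by
    intro a ha
    have h1 : π (ψ a) = (π.comp ψ) a := rfl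
    rw [h1, hcomp]
    show (φ.residueFieldMap w).hom ((V.residue (φ w)).hom (spV.hom a)) = 0
    have h2 : spV.hom a ∈ maximalIdeal (V.presheaf.stalk (φ w)) := by
      rw [mem_maximalIdeal] at ha ⊢
      intro hu
      exact ha (isUnit_of_map_unit spV.hom a hu)
    have h3 : (V.residue (φ w)).hom (spV.hom a) = 0 :=
      (IsLocalRing.residue_eq_zero_iff _).2 h2
    rw [h3, map_zero]
  have hint' : (π.comp ψ).IsIntegral := by
    rw [hcomp]
    refine RingHom.IsIntegral.trans _ _ (RingHom.isIntegral_of_surjective _ ?_) hint
    have hs1 : Function.Surjective (V.residue (φ w)).hom := IsLocalRing.residue_surjective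
    have hs2 : Function.Surjective spV.hom :=
      ((ConcreteCategory.isIso_iff_bijective _).mp hiso).2
    exact hs1.comp hs2
  have hkey := map_eq_zero_of_isIntegral ψ π h0 hint'
  have hloc : IsLocalHom spW.hom := by
    refine ⟨fun b hbu => ?_⟩
    by_contra hnu
    have hb : b ∈ maximalIdeal (W.presheaf.stalk w') := (mem_maximalIdeal b).2 hnu
    have h1 : π b = 0 := hkey b hb
    have h2 : (W.residue w).hom (spW.hom b) = 0 := h1
    have h3 : spW.hom b ∈ maximalIdeal (W.presheaf.stalk w) :=
      (IsLocalRing.residue_eq_zero_iff _).1 h2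
    exact ((mem_maximalIdeal _).1 h3) hbu
  have key : (Spec.map spW ≫ W.fromSpecStalk w')
      (closedPoint (W.presheaf.stalk w)) = W.fromSpecStalk w (closedPoint (W.presheaf.stalk w)) := by
    rw [W.SpecMap_stalkSpecializes_fromSpecStalk h]
  have h1 : W.fromSpecStalk w' (Spec.map spW (closedPoint (W.presheaf.stalk w))) = w :=
    key.trans Scheme.fromSpecStalk_closedPoint
  have h2 : Spec.map spW (closedPoint (W.presheaf.stalk w)) =
      closedPoint (W.presheaf.stalk w') :=
    IsLocalRing.comap_closedPoint spW.hom
  rw [h2, Scheme.fromSpecStalk_closedPoint] at h1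
  exact h1.symm

end Scheme

end Groth.Agent.Helper4.SN460
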