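import Groth.Prelude.Def_AlgSp4
import Groth.Prelude.Def_AlgSpDec
import Groth.Agent.Helper4.AlgSpLocPFam
import Groth.Agent.Helper4.AlgSpBasic
import Groth.Agent.Helper4.SN460
import Mathlib

/-!
Pullbacks of charts of sheaves, and independence of the chart for "the map on local rings is an
isomorphism" (open immersion charts).
-/

set_option autoImplicit false
universe u
open CategoryTheory CategoryTheory.Limits AlgebraicGeometry Opposite MorphismProperty

namespace Groth.Agent.Helper4.SN461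

open AlgSp

variable {S : Scheme.{u}}

/-- Pullback of a chart along a representable chart. -/
theorem exists_pullback_chart (Q : MorphismProperty Scheme.{u}) {F : Sp S} {U₁ U₂ : Over S}
    (a₁ : (yon S).obj U₁ ⟶ F) (a₂ : (yon S).obj U₂ ⟶ F) (h₁ : RepWith Q a₁) :
    ∃ (R : Over S) (p₁ : R ⟶ U₁) (p₂ : R ⟶ U₂),
      IsPullback ((yon S).map p₁) ((yon S).map p₂) a₁ a₂ ∧ Q p₂.left := by
  have har := h₁.rep
  have hpb : IsPullback (har.fst a₂) ((yon S).map (har.snd a₂)) a₁ a₂ := har.isPullback a₂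
  obtain ⟨p₁, hp₁⟩ := (yon S).map_surjective (har.fst a₂)
  rw [← hp₁] at hpb
  exact ⟨_, p₁, har.snd a₂, hpb, h₁.property _ _ _ hpb⟩

/-- Pullback of two representable charts. -/
theorem exists_pullback_charts (Q₁ Q₂ : MorphismProperty Scheme.{u}) {F : Sp S} {U₁ U₂ : Over S}
    (a₁ : (yon S).obj U₁ ⟶ F) (a₂ : (yon S).obj U₂ ⟶ F) (h₁ : RepWith Q₁ a₁)
    (h₂ : RepWith Q₂ a₂) :
    ∃ (R : Over S) (p₁ : R ⟶ U₁) (p₂ : R ⟶ U₂),
      IsPullback ((yon S).map p₁) ((yon S).map p₂) a₁ a₂ ∧ Q₂ p₁.left ∧ Q₁ p₂.left := by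
  obtain ⟨R, p₁, p₂, sq, hp₂⟩ := exists_pullback_chart Q₁ a₁ a₂ h₁
  exact ⟨R, p₁, p₂, sq, h₂.property _ _ _ sq.flip, hp₂⟩

theorem mono_of_oi {F : Sp S} {U : Over S} (a : (yon S).obj U ⟶ F)
    (ha : RepWith @IsOpenImmersion a) : Mono a :=
  Groth.Agent.Helper4.AlgSpBasic.mono_of_repWith (P := @IsOpenImmersion) (fun g hg => by
    have : IsOpenImmersion g := hg
    infer_instance) a ha

/-- The induced morphism between the pullbacks of two chart diagrams. -/
theorem exists_chart_map {X Y : Sp S} (f : X ⟶ Y) {U V U' V' R T : Over S}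
    (a : (yon S).obj U ⟶ X) (b : (yon S).obj V ⟶ Y) (g : U ⟶ V)
    (a' : (yon S).obj U' ⟶ X) (b' : (yon S).obj V' ⟶ Y) (g' : U' ⟶ V')
    (comm : a ≫ f = (yon S).map g ≫ b) (comm' : a' ≫ f = (yon S).map g' ≫ b')
    (p₁ : R ⟶ U) (p₂ : R ⟶ U') (q₁ : T ⟶ V) (q₂ : T ⟶ V')
    (sqR : IsPullback ((yon S).map p₁) ((yon S).map p₂) a a')
    (sqT : IsPullback ((yon S).map q₁) ((yon S).map q₂) b b') :
    ∃ s : R ⟶ T, s ≫ q₁ = p₁ ≫ g ∧ s ≫ q₂ = p₂ ≫ g' := by
  have hw : (yon S).map (p₁ ≫ g) ≫ b = (yon S).map (p₂ ≫ g') ≫ b' := by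
    rw [Functor.map_comp, Category.assoc, ← comm, ← Category.assoc, sqR.w, Category.assoc,
      comm', Functor.map_comp, Category.assoc]
  obtain ⟨s, hs⟩ := (yon S).map_surjective (sqT.lift _ _ hw)
  refine ⟨s, ?_, ?_⟩
  · apply (yon S).map_injective
    rw [Functor.map_comp, hs]; exact sqT.lift_fst _ _ hw
  · apply (yon S).map_injective
    rw [Functor.map_comp, hs]; exact sqT.lift_snd _ _ hw

/-- The property "the map on local rings is an isomorphism at the point" does not depend on the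
chart diagram with open immersions through the point. -/
theorem isIso_stalkMap_of_charts {X Y : Sp S} (f : X ⟶ Y) {U V U' V' : Over S}
    (a : (yon S).obj U ⟶ X) (b : (yon S).obj V ⟶ Y) (g : U ⟶ V)
    (a' : (yon S).obj U' ⟶ X) (b' : (yon S).obj V' ⟶ Y) (g' : U' ⟶ V')
    (ha : RepWith @IsOpenImmersion a) (hb : RepWith @IsOpenImmersion b)
    (ha' : RepWith @IsOpenImmersion a') (hb' : RepWith @IsOpenImmersion b')
    (comm : a ≫ f = (yon S).map g ≫ b) (comm' : a' ≫ f = (yon S).map g' ≫ b')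
    (u : ↥U.left) (u' : ↥U'.left) (huu' : Points.ofPt a u = Points.ofPt a' u')
    (hiso : IsIso (g.left.stalkMap u)) : IsIso (g'.left.stalkMap u') := by
  obtain ⟨R, p₁, p₂, sqR, hp₁, hp₂⟩ := exists_pullback_charts _ _ a a' ha ha'
  obtain ⟨T, q₁, q₂, sqT, hq₁, hq₂⟩ := exists_pullback_charts _ _ b b' hb hb'
  obtain ⟨s, hs₁, hs₂⟩ := exists_chart_map f a b g a' b' g' comm comm' p₁ p₂ q₁ q₂ sqR sqT
  obtain ⟨r, rfl, rfl⟩ :=
    Groth.Agent.Helper4.AlgSpLocPFam.exists_point_of_isPullback_yon a a' p₁ p₂ sqR u u' huu'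
  haveI : IsOpenImmersion p₁.left := hp₁
  haveI : IsOpenImmersion p₂.left := hp₂
  haveI : IsOpenImmersion q₁.left := hq₁
  haveI : IsOpenImmersion q₂.left := hq₂
  have hs₁' : s.left ≫ q₁.left = p₁.left ≫ g.left := by
    rw [← Over.comp_left, hs₁, Over.comp_left]
  have hs₂' : s.left ≫ q₂.left = p₂.left ≫ g'.left := by
    rw [← Over.comp_left, hs₂, Over.comp_left]
  have i1 : IsIso (p₁.left.stalkMap r) := inferInstance
  have i2 : IsIso (p₂.left.stalkMap r) := inferInstance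
  have i3 : IsIso (q₁.left.stalkMap (s.left r)) := inferInstance
  have i4 : IsIso (q₂.left.stalkMap (s.left r)) := inferInstance
  have h1 : IsIso ((p₁.left ≫ g.left).stalkMap r) := by
    rw [Scheme.Hom.stalkMap_comp]
    exact IsIso.comp_isIso' hiso i1
  have h2 : IsIso ((s.left ≫ q₁.left).stalkMap r) := by
    rw [hs₁']; exact h1
  have h3 : IsIso (s.left.stalkMap r) := by
    rw [Scheme.Hom.stalkMap_comp] at h2
    exact @IsIso.of_isIso_comp_left _ _ _ _ _ (q₁.left.stalkMap (s.left r)) (s.left.stalkMap r) i3 h2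
  have h4 : IsIso ((s.left ≫ q₂.left).stalkMap r) := by
    rw [Scheme.Hom.stalkMap_comp]
    exact IsIso.comp_isIso' i4 h3
  have h5 : IsIso ((p₂.left ≫ g'.left).stalkMap r) := by
    rw [← hs₂']; exact h4
  rw [Scheme.Hom.stalkMap_comp] at h5
  exact @IsIso.of_isIso_comp_right _ _ _ _ _ (g'.left.stalkMap (p₂.left r)) (p₂.left.stalkMap r) i2 h5

end Groth.Agent.Helper4.SN461
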