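import Mathlib

/-!
# Finitely many points of an affine open inside an open set lie in a basic open inside it (helper4)
-/

set_option autoImplicit false
universe u
open CategoryTheory CategoryTheory.Limits AlgebraicGeometry

namespace Groth.Agent.Helper4.SymOrbA

theorem mem_primeIdealOf_iff {X : Scheme.{u}} {V : X.Opens} (hV : IsAffineOpen V) (x : X)
    (hx : x ∈ V) (s : Γ(X, V)) :
    s ∈ (hV.primeIdealOf ⟨x, hx⟩).asIdeal ↔ x ∉ X.basicOpen s := by
  have h1 := hV.fromSpec_primeIdealOf ⟨x, hx⟩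
  have h2 : x ∈ X.basicOpen s ↔ hV.primeIdealOf ⟨x, hx⟩ ∈ PrimeSpectrum.basicOpen s := by
    rw [← hV.fromSpec_preimage_basicOpen s]
    change _ ↔ hV.fromSpec (hV.primeIdealOf ⟨x, hx⟩) ∈ X.basicOpen s
    rw [h1]
  rw [h2, PrimeSpectrum.mem_basicOpen, not_not]

/-- prime avoidance, geometrically -/
theorem exists_basicOpen_le_of_finset {X : Scheme.{u}} {U₀ : X.Opens} (hU₀ : IsAffineOpen U₀)
    (O : X.Opens) (T : Finset X) (hT : ∀ x ∈ T, x ∈ U₀ ∧ x ∈ O) :
    ∃ g : Γ(X, U₀), X.basicOpen g ≤ O ∧ ∀ x ∈ T, x ∈ X.basicOpen g := by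
  classical
  rcases T.eq_empty_or_nonempty with rfl | ⟨a, ha⟩
  · refine ⟨0, ?_, fun x hx => absurd hx (Finset.notMem_empty x)⟩
    rw [Scheme.basicOpen_zero]
    exact bot_le
  let I : Ideal Γ(X, U₀) :=
    { carrier := {g | X.basicOpen g ≤ O}
      add_mem' := by
        intro g h hg hh
        exact (Scheme.basicOpen_add_le X g h).trans (sup_le hg hh)
      zero_mem' := by
        show X.basicOpen (0 : Γ(X, U₀)) ≤ O
        rw [Scheme.basicOpen_zero]
        exact bot_le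
      smul_mem' := by
        intro c g hg
        show X.basicOpen (c • g) ≤ O
        rw [smul_eq_mul, Scheme.basicOpen_mul]
        exact inf_le_right.trans hg }
  let P : X → Ideal Γ(X, U₀) := fun x =>
    if h : x ∈ U₀ then (hU₀.primeIdealOf ⟨x, h⟩).asIdeal else ⊤
  have hP : ∀ x ∈ T, (P x).IsPrime := by
    intro x hx
    simp only [P, dif_pos (hT x hx).1]
    exact (hU₀.primeIdealOf ⟨x, (hT x hx).1⟩).isPrime
  by_contra hcon
  have hsub : (I : Set Γ(X, U₀)) ⊆ ⋃ x ∈ (↑T : Set X), (P x : Set Γ(X, U₀)) := by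
    intro g hg
    by_contra hg'
    apply hcon
    refine ⟨g, hg, fun x hx => ?_⟩
    by_contra hxg
    apply hg'
    refine Set.mem_biUnion (Finset.mem_coe.2 hx) ?_
    simp only [P, dif_pos (hT x hx).1]
    exact (mem_primeIdealOf_iff hU₀ x (hT x hx).1 g).2 hxg
  obtain ⟨x, hx, hIx⟩ := (Ideal.subset_union_prime a a (fun i hi _ _ => hP i hi)).1 hsub
  obtain ⟨g, hg1, hg2⟩ := hU₀.exists_basicOpen_le (V := O) ⟨x, (hT x hx).2⟩ (hT x hx).1
  have hgI : g ∈ I := hg1
  have := hIx hgI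
  simp only [P, dif_pos (hT x hx).1] at this
  exact (mem_primeIdealOf_iff hU₀ x (hT x hx).1 g).1 this hg2

end Groth.Agent.Helper4.SymOrbA
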