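import Groth.Prelude.Def_W4stk3decentspacesp2Birat
import Groth.Agent.Helper4.SN461
import Groth.Agent.Helper5.DegStr10
import Groth.Agent.Helper5.Decent3
import Groth.Agent.Helper5.AlgSpOpen
import Groth.Agent.Helper3.GenPts
import Mathlib

/-!
For a birational morphism of decent algebraic spaces, every point lying over the generic point of
an irreducible component of the target is the generic point of an irreducible component of the
source.
-/

set_option autoImplicit false
universe u
open CategoryTheory CategoryTheory.Limits AlgebraicGeometry Opposite MorphismProperty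

namespace Groth.Agent.Helper4.SN462

open AlgSp Groth.Agent.Helper4.SN461 Groth.Agent.Helper4.AlgSpPtsDesc
  Groth.Agent.Helper4.AlgSpLocPFam

variable {S : Scheme.{u}}

/-- The residue field map of an étale morphism is integral. -/
theorem isIntegral_residueFieldMap_of_etale {R U : Scheme.{u}} (ρ : R ⟶ U) [Etale ρ] (r : R) :
    (ρ.residueFieldMap r).hom.IsIntegral := by
  letI : Algebra (U.residueField (ρ r)) (R.residueField r) :=
    (ρ.residueFieldMap r).hom.toAlgebra
  have h : Algebra.IsSeparable (U.residueField (ρ r)) (R.residueField r) := inferInstance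
  have h2 : Algebra.IsIntegral (U.residueField (ρ r)) (R.residueField r) :=
    ⟨fun x => Algebra.IsSeparable.isIntegral _ x⟩
  have h3 := (algebraMap_isIntegral_iff (R := U.residueField (ρ r))
    (A := R.residueField r)).2 h2
  rw [RingHom.algebraMap_toAlgebra] at h3
  exact h3

/-- If the map on local rings is surjective, so is the map on residue fields. -/
theorem surjective_residueFieldMap {U V : Scheme.{u}} (g : U ⟶ V) (u : U)
    (h : Function.Surjective (g.stalkMap u).hom) :
    Function.Surjective (g.residueFieldMap u).hom := by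
  have h1 := Scheme.residue_residueFieldMap g u
  have h2 : (g.residueFieldMap u).hom.comp (V.residue (g u)).hom =
      (U.residue u).hom.comp (g.stalkMap u).hom := by
    have := congrArg (fun k => k.hom) h1
    simpa using this
  have h3 : Function.Surjective ((g.residueFieldMap u).hom.comp (V.residue (g u)).hom) := by
    rw [h2]
    exact (IsLocalRing.residue_surjective).comp h
  rw [RingHom.coe_comp] at h3
  exact Function.Surjective.of_comp h3

/-- Integrality of the residue field map in a commutative square `ι ≫ φ = ρ ≫ g` with `ι` an open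
immersion, `ρ` étale and `g` inducing a surjection on local rings. -/
theorem isIntegral_residueFieldMap_of_square {R U V W : Scheme.{u}} (ι : R ⟶ W) (φ : W ⟶ V)
    (ρ : R ⟶ U) (g : U ⟶ V) [IsOpenImmersion ι] [Etale ρ] (e : ι ≫ φ = ρ ≫ g) (r : R)
    (hg : Function.Surjective (g.stalkMap (ρ r)).hom) :
    (φ.residueFieldMap (ι r)).hom.IsIntegral := by
  have hB : Function.Injective (ι.residueFieldMap r).hom := RingHom.injective _
  refine RingHom.IsIntegral.tower_bot _ _ hB ?_
  have h0 := Scheme.Hom.residueFieldMap_congr e r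
  rw [Scheme.residueFieldMap_comp, Scheme.residueFieldMap_comp] at h0
  obtain ⟨E, hE⟩ : ∃ E : V.residueField (φ (ι r)) ≅ V.residueField (g (ρ r)),
      φ.residueFieldMap (ι r) ≫ ι.residueFieldMap r =
        E.hom ≫ g.residueFieldMap (ρ r) ≫ ρ.residueFieldMap r := ⟨_, h0⟩
  have h1 : (ι.residueFieldMap r).hom.comp (φ.residueFieldMap (ι r)).hom =
      (ρ.residueFieldMap r).hom.comp ((g.residueFieldMap (ρ r)).hom.comp E.hom.hom) := by
    have := congrArg (fun k => k.hom) hE
    simp only [CommRingCat.hom_comp] at this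
    rw [this, RingHom.comp_assoc]
  rw [h1]
  refine RingHom.IsIntegral.trans _ _ ?_ (isIntegral_residueFieldMap_of_etale ρ r)
  refine RingHom.isIntegral_of_surjective _ ?_
  rw [RingHom.coe_comp]
  refine (surjective_residueFieldMap g (ρ r) hg).comp ?_
  exact ((ConcreteCategory.isIso_iff_bijective _).mp inferInstance).2

theorem ofPt_comp_eq {X Y : Sp S} (f : X ⟶ Y) {U V : Over S} (a : (yon S).obj U ⟶ X)
    (b : (yon S).obj V ⟶ Y) (g : U ⟶ V) (comm : a ≫ f = (yon S).map g ≫ b) (u : ↥U.left) :
    Points.ofPt b (g.left u) = Points.map f (Points.ofPt a u) := by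
  rw [← ofPt_yon_map_comp, ← comm, ← Points.map_ofPt]

/-- Claim: a point over a generic point is generic. -/
theorem mem_genericPoints_of_map_mem {X Y : Space S} (f : X ⟶ Y) (hX : IsDecent X.obj)
    (hY : IsDecent Y.obj) (hf : W4stk3decentspacesp2.IsBirational f.hom) (x' : Points X.obj)
    (hy : Points.map f.hom x' ∈ genericPoints (Points Y.obj)) :
    x' ∈ genericPoints (Points X.obj) := by
  haveI : QuasiSober (Points X.obj) := Groth.Agent.Helper5.DegStr.s10339 X hX
  haveI : T0Space (Points Y.obj) :=
    Groth.Agent.Helper5.Decent3.t0Space_of_isDecent Y.property hY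
  obtain ⟨x₁, hx₁, hsp⟩ := Groth.Agent.Helper3.GenPts.exists_genPt_specializes x'
  have hfx₁ : Points.map f.hom x₁ = Points.map f.hom x' :=
    Groth.Agent.Helper3.GenPts.eq_of_specializes hy (hsp.map (Points.continuous_map f.hom))
  obtain ⟨U, V, a, b, g, u, ha, hb, comm, hu, hiso⟩ := hf.stalkIso x₁ hx₁
  obtain ⟨W, c, hce, hcs⟩ := X.property.atlas
  obtain ⟨w', hw'⟩ := Groth.Agent.Helper5.AlgSpOpen.ofPt_surjective_of_repWith c hcs x'
  obtain ⟨p, hp, -, hpq⟩ := hX x₁
  obtain ⟨w, hwsp, hw⟩ := Groth.Agent.Helper5.Decent3.exists_generization_in_chart X.property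
    x' x₁ hsp p hp hpq c hce w' hw'
  obtain ⟨WV, p₁, p₂, sq1, hp₂⟩ := exists_pullback_chart @IsOpenImmersion b (c ≫ f.hom) hb
  have hbv : Points.ofPt b (g.left u) = Points.map f.hom x₁ := by
    rw [ofPt_comp_eq f.hom a b g comm u, hu]
  have h1 : Points.ofPt b (g.left u) = Points.ofPt (c ≫ f.hom) w := by
    rw [hbv, ← Points.map_ofPt, hw]
  have h2 : Points.ofPt b (g.left u) = Points.ofPt (c ≫ f.hom) w' := by
    rw [hbv, hfx₁, ← Points.map_ofPt, hw']
  obtain ⟨wt, hwt1, hwt2⟩ := exists_point_of_isPullback_yon b (c ≫ f.hom) p₁ p₂ sq1 _ w h1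
  obtain ⟨wt', hwt'1, hwt'2⟩ := exists_point_of_isPullback_yon b (c ≫ f.hom) p₁ p₂ sq1 _ w' h2
  haveI : IsOpenImmersion p₂.left := hp₂
  have hspt : wt ⤳ wt' := by
    rw [← p₂.left.isOpenEmbedding.isInducing.specializes_iff, hwt2, hwt'2]
    exact hwsp
  have hce' : RepWith @Etale ((yon S).map p₂ ≫ c) :=
    Groth.Agent.Helper4.AlgSpSrc.repWith_comp _
      ((repWith_yon_map_iff _ _).2 (inferInstance : Etale p₂.left)) hce
  obtain ⟨R, ρ, ι, sq2, hρ, hι⟩ :=
    exists_pullback_charts @IsOpenImmersion @Etale a ((yon S).map p₂ ≫ c) ha hce'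
  have h3 : Points.ofPt a u = Points.ofPt ((yon S).map p₂ ≫ c) wt := by
    rw [ofPt_yon_map_comp, hwt2, hw, hu]
  obtain ⟨r, hr1, hr2⟩ := exists_point_of_isPullback_yon a _ ρ ι sq2 u wt h3
  have hcomm : ι ≫ p₁ = ρ ≫ g := by
    haveI := mono_of_oi b hb
    apply (yon S).map_injective
    rw [← cancel_mono b, Functor.map_comp, Functor.map_comp, Category.assoc, Category.assoc,
      sq1.w, ← comm, ← Category.assoc, ← Category.assoc, ← Category.assoc, sq2.w]
    simp only [Category.assoc]
  have e1 : ι.left ≫ p₁.left = ρ.left ≫ g.left := by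
    rw [← Over.comp_left, hcomm, Over.comp_left]
  haveI : IsOpenImmersion ι.left := hι
  haveI : Etale ρ.left := hρ
  subst hr1 hr2
  have hsurj : Function.Surjective (g.left.stalkMap (ρ.left r)).hom :=
    ((ConcreteCategory.isIso_iff_bijective _).mp hiso).2
  have hint := isIntegral_residueFieldMap_of_square ι.left p₁.left ρ.left g.left e1 r hsurj
  have hφ : p₁.left (ι.left r) = p₁.left wt' := hwt1.trans hwt'1.symm
  have hkey := Groth.Agent.Helper4.SN460.eq_of_specializes_of_isIntegral p₁.left hspt hφ hint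
  have hxx : x' = x₁ := by
    rw [← hw', ← hw, ← hwt2, ← hwt'2, hkey]
  rw [hxx]
  exact hx₁

end Groth.Agent.Helper4.SN462
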