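import Groth.Prelude.Def_W4stk3decentspacesp2Birat
import Groth.Agent.Helper4.SN462
import Groth.Agent.Helper5.DegStr19
import Groth.Agent.Helper3.BirDense3
import Mathlib

/-!
Scheme models of a birational morphism of decent algebraic spaces: over an open subscheme `V` of
the target there is an open subscheme `X₀` of the source mapping to `V` by a birational morphism of
schemes and containing the whole fibre over every generic point of `V`.
-/

set_option autoImplicit false
universe u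
open CategoryTheory CategoryTheory.Limits AlgebraicGeometry Opposite MorphismProperty

namespace Groth.Agent.Helper4.SN463

open AlgSp Groth.Agent.Helper4.SN461 Groth.Agent.Helper4.SN462 Groth.Agent.Helper4.AlgSpPtsDesc
  Groth.Agent.Helper4.AlgSpLocPFam Groth.Agent.Helper4.AlgSpQC2

variable {S : Scheme.{u}}

/-- A decent space has a dense open subscheme. -/
theorem exists_dense_open_subscheme (X : Space S) (hX : IsDecent X.obj) :
    ∃ (X₁ : Over S) (ψ : (yon S).obj X₁ ⟶ X.obj), RepWith @IsOpenImmersion ψ ∧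
      Dense (Set.range (Points.ofPt ψ)) := by
  obtain ⟨X', j, hj, hrep, hdense⟩ := Groth.Agent.Helper5.DegStr.s10337 X hX
  obtain ⟨W, ⟨e⟩⟩ := hrep.has_representation
  let ψ : (yon S).obj W ⟶ X.obj := (isoOfRepresentableBy e).hom ≫ j.hom
  have hψ : RepWith @IsOpenImmersion ψ :=
    ((RepWith (S := S) @IsOpenImmersion).cancel_left_of_respectsIso _ _).2 hj
  have hrange : Set.range (Points.ofPt ψ) = Set.range (Points.map j.hom) := by
    ext z
    constructor
    · rintro ⟨w, rfl⟩
      refine ⟨Points.ofPt (isoOfRepresentableBy e).hom w, ?_⟩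
      rw [Points.map_ofPt]
    · rintro ⟨y, rfl⟩
      obtain ⟨w, hw⟩ := (Points.schemeHomeo W).surjective (Points.map (isoOfRepresentableBy e).inv y)
      refine ⟨w, ?_⟩
      rw [← ofPt_eq_map_schemeHomeo, hw, Points.map_comp, ← Points.map_comp _ _ y,
        Iso.inv_hom_id, Points.map_id]
  refine ⟨W, ψ, hψ, ?_⟩
  rw [hrange]; exact hdense

/-- The scheme model over an open subscheme of the target. -/
theorem exists_scheme_model {X Y : Space S} (f : X ⟶ Y) (hX : IsDecent X.obj)
    (hY : IsDecent Y.obj) (hXf : (irreducibleComponents (Points X.obj)).Finite)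
    (hYf : (irreducibleComponents (Points Y.obj)).Finite)
    (hf : W4stk3decentspacesp2.IsBirational f.hom)
    {V : Over S} (b : (yon S).obj V ⟶ Y.obj) (hb : RepWith @IsOpenImmersion b) :
    ∃ (X₀ : Over S) (j : (yon S).obj X₀ ⟶ X.obj) (f₀ : X₀ ⟶ V),
      RepWith @IsOpenImmersion j ∧ j ≫ f.hom = (yon S).map f₀ ≫ b ∧
      (irreducibleComponents ↥X₀.left).Finite ∧ (irreducibleComponents ↥V.left).Finite ∧
      Set.BijOn (fun x : ↥X₀.left => f₀.left.base x)
        {x : ↥X₀.left | closure {x} ∈ irreducibleComponents ↥X₀.left}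
        {y : ↥V.left | closure {y} ∈ irreducibleComponents ↥V.left} ∧
      (∀ x : ↥X₀.left, closure {x} ∈ irreducibleComponents ↥X₀.left →
        IsIso (f₀.left.stalkMap x)) ∧
      (∀ x' : Points X.obj, Points.map f.hom x' ∈ genericPoints (Points Y.obj) →
        Points.map f.hom x' ∈ Set.range (Points.ofPt b) → x' ∈ Set.range (Points.ofPt j)) := by
  haveI : QuasiSober (Points X.obj) := Groth.Agent.Helper5.DegStr.s10339 X hX
  haveI : T0Space (Points X.obj) :=
    Groth.Agent.Helper5.Decent3.t0Space_of_isDecent X.property hX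
  obtain ⟨X₁, ψ, hψ, hψd⟩ := exists_dense_open_subscheme X hX
  obtain ⟨X₀, f₀, p₂, sq, hp₂⟩ := exists_pullback_chart @IsOpenImmersion b (ψ ≫ f.hom) hb
  let j : (yon S).obj X₀ ⟶ X.obj := (yon S).map p₂ ≫ ψ
  have hj : RepWith @IsOpenImmersion j :=
    Groth.Agent.Helper4.AlgSpSrc.repWith_comp _ ((repWith_yon_map_iff _ _).2 hp₂) hψ
  have hcomm : j ≫ f.hom = (yon S).map f₀ ≫ b := by
    show ((yon S).map p₂ ≫ ψ) ≫ f.hom = _
    rw [Category.assoc]; exact sq.w.symm
  have hjemb := Groth.Agent.Helper5.DegStr.isOpenEmbedding_ofPt_of_oi X.property j hj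
  have hbemb := Groth.Agent.Helper5.DegStr.isOpenEmbedding_ofPt_of_oi Y.property b hb
  have hψemb := Groth.Agent.Helper5.DegStr.isOpenEmbedding_ofPt_of_oi X.property ψ hψ
  have hrange : ∀ x : Points X.obj, x ∈ Set.range (Points.ofPt ψ) →
      Points.map f.hom x ∈ Set.range (Points.ofPt b) → x ∈ Set.range (Points.ofPt j) := by
    rintro _ ⟨x₁, rfl⟩ ⟨v, hv⟩
    have h1 : Points.ofPt b v = Points.ofPt (ψ ≫ f.hom) x₁ := by rw [hv, Points.map_ofPt]
    obtain ⟨x₀, -, hx₀⟩ := exists_point_of_isPullback_yon b (ψ ≫ f.hom) f₀ p₂ sq v x₁ h1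
    refine ⟨x₀, ?_⟩
    show Points.ofPt ((yon S).map p₂ ≫ ψ) x₀ = _
    rw [ofPt_yon_map_comp, hx₀]
  have hgenψ : ∀ x ∈ genericPoints (Points X.obj), x ∈ Set.range (Points.ofPt ψ) := fun x hx =>
    Groth.Agent.Helper3.BirDense3.genPt_mem_of_dense hXf hψemb.isOpen_range hψd hx
  have hfib : ∀ x' : Points X.obj, Points.map f.hom x' ∈ genericPoints (Points Y.obj) →
      Points.map f.hom x' ∈ Set.range (Points.ofPt b) → x' ∈ Set.range (Points.ofPt j) :=
    fun x' h1 h2 => hrange x' (hgenψ x' (mem_genericPoints_of_map_mem f hX hY hf x' h1)) h2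
  have hkey : ∀ x₀ : ↥X₀.left, Points.ofPt b (f₀.left x₀) = Points.map f.hom (Points.ofPt j x₀) :=
    fun x₀ => ofPt_comp_eq f.hom j b f₀ hcomm x₀
  have hgenX : ∀ x₀ : ↥X₀.left, closure {x₀} ∈ irreducibleComponents ↥X₀.left ↔
      Points.ofPt j x₀ ∈ genericPoints (Points X.obj) := fun x₀ =>
    Groth.Agent.Helper4.SN460.mem_genericPoints_iff hjemb x₀
  have hgenV : ∀ v : ↥V.left, closure {v} ∈ irreducibleComponents ↥V.left ↔
      Points.ofPt b v ∈ genericPoints (Points Y.obj) := fun v =>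
    Groth.Agent.Helper4.SN460.mem_genericPoints_iff hbemb v
  refine ⟨X₀, j, f₀, hj, hcomm,
    Groth.Agent.Helper5.DegStr.finite_irreducibleComponents_of_isOpenEmbedding _ hjemb hXf,
    Groth.Agent.Helper5.DegStr.finite_irreducibleComponents_of_isOpenEmbedding _ hbemb hYf,
    ⟨?_, ?_, ?_⟩, ?_, hfib⟩
  · intro x₀ hx₀
    show closure {f₀.left x₀} ∈ irreducibleComponents ↥V.left
    rw [hgenV, hkey]
    exact hf.bijOn.mapsTo ((hgenX x₀).1 hx₀)
  · intro x₀ hx₀ x₀' hx₀' hxx
    have hxx' : f₀.left x₀ = f₀.left x₀' := hxx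
    have h1 : Points.map f.hom (Points.ofPt j x₀) = Points.map f.hom (Points.ofPt j x₀') := by
      rw [← hkey, ← hkey, hxx']
    exact hjemb.injective (hf.bijOn.injOn ((hgenX x₀).1 hx₀) ((hgenX x₀').1 hx₀') h1)
  · intro v hv
    obtain ⟨x, hx, hxv⟩ := hf.bijOn.surjOn ((hgenV v).1 hv)
    have hxv' : Points.map f.hom x = Points.ofPt b v := hxv
    have hxgen : Points.map f.hom x ∈ genericPoints (Points Y.obj) := by
      rw [hxv']; exact (hgenV v).1 hv
    obtain ⟨x₀, rfl⟩ := hfib x hxgen ⟨v, hxv'.symm⟩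
    refine ⟨x₀, (hgenX x₀).2 hx, ?_⟩
    show f₀.left x₀ = v
    apply hbemb.injective
    rw [hkey, hxv']
  · intro x₀ hx₀
    obtain ⟨U, V', a, b', g, u, ha, hb', comm, hu, hiso⟩ :=
      hf.stalkIso (Points.ofPt j x₀) ((hgenX x₀).1 hx₀)
    exact isIso_stalkMap_of_charts f.hom a b' g j b f₀ ha hb' hj hb comm hcomm u x₀ hu hiso

end Groth.Agent.Helper4.SN463
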