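import Groth.Prelude.Def_W4stk3decentspacesp2Birat
import Groth.Agent.Helper4.SN463
import Groth.Agent.Helper5.HasAtChart
import Groth.Agent.S9678
import Mathlib

/-!
A birational morphism of decent algebraic spaces (lft with reduced target, or lfp) induces an
isomorphism between dense open subschemes.
-/

set_option autoImplicit false
universe u
open CategoryTheory CategoryTheory.Limits AlgebraicGeometry Opposite MorphismProperty

namespace Groth.Agent.Helper4.SN464

open AlgSp Groth.Agent.Helper4.SN461 Groth.Agent.Helper4.SN462 Groth.Agent.Helper4.SN463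
  Groth.Agent.Helper4.AlgSpPtsDesc Groth.Agent.Helper4.AlgSpLocPFam Groth.Agent.Helper4.AlgSpQC2

variable {S : Scheme.{u}}

theorem repWith_etale_of_oi {F : Sp S} {U : Over S} (a : (yon S).obj U ⟶ F)
    (ha : RepWith @IsOpenImmersion a) : RepWith @Etale a :=
  Groth.Agent.Helper4.AlgSpSrc.repWith_mono (fun g hg => by
    have : IsOpenImmersion g := hg
    infer_instance) ha

/-- Étale charts of a reduced algebraic space are reduced. -/
theorem isReduced_chart {Y : Sp S} (hY : IsAlgSpace Y) (h : IsReducedSp Y) {V : Over S}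
    (b : (yon S).obj V ⟶ Y) (hb : RepWith @Etale b) : IsReduced V.left := by
  have h1 := (Groth.Agent.Helper5.HasAtChart.isReducedSp_iff hY).1 h
  have : ∀ v : ↥V.left, _root_.IsReduced (V.left.presheaf.stalk v) := fun v =>
    (Groth.Agent.Helper5.HasAtChart.hasAt_iff_chart
      (fun U u => _root_.IsReduced ↥(U.presheaf.stalk u))
      (fun g _ x => Groth.Agent.Helper5.HasAtChart.isReduced_stalk_iff_of_etale g x) b hb v).1 (h1 _)
  exact isReduced_of_isReduced_stalk V.left

/-- A dense open subset of the points contains the generic points. -/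
theorem genericPoints_subset_range (X : Space S) (hX : IsDecent X.obj)
    (hXf : (irreducibleComponents (Points X.obj)).Finite) {U : Over S}
    (a : (yon S).obj U ⟶ X.obj) (ha : RepWith @IsOpenImmersion a)
    (hd : Dense (Set.range (Points.ofPt a))) :
    genericPoints (Points X.obj) ⊆ Set.range (Points.ofPt a) := by
  haveI : QuasiSober (Points X.obj) := Groth.Agent.Helper5.DegStr.s10339 X hX
  haveI : T0Space (Points X.obj) :=
    Groth.Agent.Helper5.Decent3.t0Space_of_isDecent X.property hX
  have hemb := Groth.Agent.Helper5.DegStr.isOpenEmbedding_ofPt_of_oi X.property a ha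
  intro x hx
  exact Groth.Agent.Helper3.BirDense3.genPt_mem_of_dense hXf hemb.isOpen_range hd hx

/-- A set containing the generic points is dense. -/
theorem dense_of_genericPoints_subset (X : Space S) (hX : IsDecent X.obj)
    {A : Set (Points X.obj)} (h : genericPoints (Points X.obj) ⊆ A) : Dense A := by
  haveI : QuasiSober (Points X.obj) := Groth.Agent.Helper5.DegStr.s10339 X hX
  exact Groth.Agent.Helper3.GenPts.dense_of_genPts_subset (fun x hx => h hx)

theorem exists_dense_open_iso {X Y : Space S} (f : X ⟶ Y)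
    (hX : IsDecent X.obj) (hY : IsDecent Y.obj)
    (hXf : (irreducibleComponents (Points X.obj)).Finite)
    (hYf : (irreducibleComponents (Points Y.obj)).Finite)
    (hf : W4stk3decentspacesp2.IsBirational f.hom)
    (h : (LocP @LocallyOfFiniteType f.hom ∧ EtaleLocally (fun T => IsReduced T) Y.obj) ∨
      LocP @LocallyOfFinitePresentation f.hom) :
    ∃ (U V : Over S) (a : (yon S).obj U ⟶ X.obj) (b : (yon S).obj V ⟶ Y.obj) (g : U ⟶ V),
      RepWith @IsOpenImmersion a ∧ RepWith @IsOpenImmersion b ∧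
        Dense (Set.range (Points.ofPt a)) ∧ Dense (Set.range (Points.ofPt b)) ∧
          a ≫ f.hom = (yon S).map g ≫ b ∧ IsIso g.left := by
  obtain ⟨V₁, b₁, hb₁, hb₁d⟩ := exists_dense_open_subscheme Y hY
  obtain ⟨X₀, j, f₀, hj, hcomm, hX₀f, hV₁f, hbij, hiso, hfib⟩ :=
    exists_scheme_model f hX hY hXf hYf hf b₁ hb₁
  have hje := repWith_etale_of_oi j hj
  have hb₁e := repWith_etale_of_oi b₁ hb₁
  have hf₀ : (LocallyOfFiniteType f₀.left ∧ IsReduced V₁.left) ∨
      LocallyOfFinitePresentation f₀.left := by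
    rcases h with ⟨h1, h2⟩ | h1
    · exact Or.inl ⟨h1 j b₁ f₀ hje hb₁e hcomm, isReduced_chart Y.property h2 b₁ hb₁e⟩
    · exact Or.inr (h1 j b₁ f₀ hje hb₁e hcomm)
  obtain ⟨U, V', hUV, hUd, hV'd, hresiso⟩ :=
    Groth.Agent.S9678.result f₀.left hX₀f hV₁f hbij hiso hf₀
  have hjemb := Groth.Agent.Helper5.DegStr.isOpenEmbedding_ofPt_of_oi X.property j hj
  have hbemb := Groth.Agent.Helper5.DegStr.isOpenEmbedding_ofPt_of_oi Y.property b₁ hb₁
  -- `j` has dense range
  have hjd : Dense (Set.range (Points.ofPt j)) := by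
    apply dense_of_genericPoints_subset X hX
    intro x hx
    have hfx : Points.map f.hom x ∈ genericPoints (Points Y.obj) := hf.bijOn.mapsTo hx
    exact hfib x hfx (genericPoints_subset_range Y hY hYf b₁ hb₁ hb₁d hfx)
  let g : opOver X₀ U ⟶ opOver V₁ V' := Over.homMk (f₀.left.resLE V' U hUV) (by
    show f₀.left.resLE V' U hUV ≫ V'.ι ≫ V₁.hom = U.ι ≫ X₀.hom
    rw [← Category.assoc, Scheme.Hom.resLE_comp_ι, Category.assoc, Over.w f₀])
  have hg : opι X₀ U ≫ f₀ = g ≫ opι V₁ V' := by
    ext
    exact (Scheme.Hom.resLE_comp_ι f₀.left hUV).symm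
  refine ⟨opOver X₀ U, opOver V₁ V', (yon S).map (opι X₀ U) ≫ j, (yon S).map (opι V₁ V') ≫ b₁, g,
    ?_, ?_, ?_, ?_, ?_, hresiso⟩
  · exact Groth.Agent.Helper4.AlgSpSrc.repWith_comp _
      ((repWith_yon_map_iff _ _).2 (inferInstance : IsOpenImmersion U.ι)) hj
  · exact Groth.Agent.Helper4.AlgSpSrc.repWith_comp _
      ((repWith_yon_map_iff _ _).2 (inferInstance : IsOpenImmersion V'.ι)) hb₁
  · have hr : Set.range (Points.ofPt ((yon S).map (opι X₀ U) ≫ j)) =
        Points.ofPt j '' (U : Set ↥X₀.left) := by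
      ext x
      constructor
      · rintro ⟨t, rfl⟩
        exact ⟨(opι X₀ U).left t, t.2, (ofPt_yon_map_comp _ _ _).symm⟩
      · rintro ⟨t, ht, rfl⟩
        exact ⟨⟨t, ht⟩, ofPt_yon_map_comp _ _ _⟩
    rw [hr]
    exact DenseRange.dense_image hjd (Points.continuous_ofPt j) hUd
  · have hr : Set.range (Points.ofPt ((yon S).map (opι V₁ V') ≫ b₁)) =
        Points.ofPt b₁ '' (V' : Set ↥V₁.left) := by
      ext x
      constructor
      · rintro ⟨t, rfl⟩
        exact ⟨(opι V₁ V').left t, t.2, (ofPt_yon_map_comp _ _ _).symm⟩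
      · rintro ⟨t, ht, rfl⟩
        exact ⟨⟨t, ht⟩, ofPt_yon_map_comp _ _ _⟩
    rw [hr]
    exact DenseRange.dense_image hb₁d (Points.continuous_ofPt b₁) hV'd
  · rw [Category.assoc, hcomm, ← Category.assoc, ← Functor.map_comp, hg, Functor.map_comp,
      Category.assoc]

end Groth.Agent.Helper4.SN464
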