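import Groth.Prelude.Def_W4stk3decentspacesp2Birat
import Groth.Agent.Helper4.SN464
import Groth.Agent.Helper4.QCClosure
import Groth.Agent.Helper5.AlgSpProper
import Mathlib

/-!
For a birational morphism `f : X ⟶ Y` of decent algebraic spaces which is quasi-compact or
separated and restricts to an isomorphism `U ≅ V` of dense open subschemes: near every generic
point of `V` (quasi-compact case), resp. everywhere over `V` (separated case), the preimage of
`V` is contained in `U`.
-/

set_option autoImplicit false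
universe u
open CategoryTheory CategoryTheory.Limits AlgebraicGeometry Opposite MorphismProperty

namespace Groth.Agent.Helper4.SN465

open AlgSp Groth.Agent.Helper4.SN461 Groth.Agent.Helper4.SN462 Groth.Agent.Helper4.SN463
  Groth.Agent.Helper4.SN464
  Groth.Agent.Helper4.AlgSpPtsDesc Groth.Agent.Helper4.AlgSpLocPFam Groth.Agent.Helper4.AlgSpQC2

variable {S : Scheme.{u}}

theorem schemeHomeo_eq_ofPt_id (T : Over S) (t : ↥T.left) :
    Points.schemeHomeo T t = Points.ofPt (𝟙 ((yon S).obj T)) t := rfl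

theorem ofPt_yon_map_eq {T T' : Over S} (e : T ⟶ T') (t : ↥T.left) :
    Points.ofPt ((yon S).map e) t = Points.schemeHomeo T' (e.left t) := by
  have := ofPt_yon_map_comp e (𝟙 ((yon S).obj T')) t
  rw [Category.comp_id] at this
  rw [this, schemeHomeo_eq_ofPt_id]

/-- Quasi-compact case. -/
theorem exists_open_of_quasiCompact {X Y : Space S} (f : X ⟶ Y) (hX : IsDecent X.obj)
    (hY : IsDecent Y.obj) (hXf : (irreducibleComponents (Points X.obj)).Finite)
    (hf : W4stk3decentspacesp2.IsBirational f.hom) (hqc : IsQuasiCompactMor f.hom)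
    {U V : Over S} (a : (yon S).obj U ⟶ X.obj) (b : (yon S).obj V ⟶ Y.obj)
    (ha : RepWith @IsOpenImmersion a) (hb : RepWith @IsOpenImmersion b)
    (had : Dense (Set.range (Points.ofPt a))) (v : ↥V.left)
    (hv : closure {v} ∈ irreducibleComponents ↥V.left) :
    ∃ O : V.left.Opens, v ∈ O ∧ ∀ x : Points X.obj,
      Points.map f.hom x ∈ Points.ofPt b '' (O : Set ↥V.left) → x ∈ Set.range (Points.ofPt a) := by
  have haemb := Groth.Agent.Helper5.DegStr.isOpenEmbedding_ofPt_of_oi X.property a ha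
  have hbemb := Groth.Agent.Helper5.DegStr.isOpenEmbedding_ofPt_of_oi Y.property b hb
  obtain ⟨_, ⟨(W₀ : V.left.Opens), hW₀, rfl⟩, hvW₀, -⟩ :=
    (V.left.isBasis_affineOpens).exists_subset_of_mem_open (Set.mem_univ v) isOpen_univ
  let Va : Over S := opOver V W₀
  let ba : (yon S).obj Va ⟶ Y.obj := (yon S).map (opι V W₀) ≫ b
  haveI : IsAffine Va.left := hW₀
  have sq : IsPullback (pullback.fst f.hom ba) (pullback.snd f.hom ba) f.hom ba :=
    IsPullback.of_hasPullback _ _
  have hPqc : IsQuasiCompactSp (pullback f.hom ba) :=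
    hqc (IsAlgSpace.yon_obj Va) (isQuasiCompactSp_yon Va) ba _ _ sq
  obtain ⟨T, c, hce, hcs, hTc⟩ := hPqc
  haveI : CompactSpace ↥T.left := hTc
  obtain ⟨τ, hτ⟩ := (yon S).map_surjective (c ≫ pullback.snd f.hom ba)
  haveI : QuasiCompact τ.left := inferInstance
  let ξ : (yon S).obj T ⟶ X.obj := c ≫ pullback.fst f.hom ba
  have hξf : ∀ t : ↥T.left, Points.map f.hom (Points.ofPt ξ t) = Points.ofPt ba (τ.left t) := by
    intro t
    rw [Points.map_ofPt, ← ofPt_yon_map_comp, hτ]
    show Points.ofPt ((c ≫ pullback.fst f.hom ba) ≫ f.hom) t = _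
    rw [Category.assoc, sq.w, Category.assoc]
  have hba : ∀ w : ↥Va.left, Points.ofPt ba w = Points.ofPt b ((opι V W₀).left w) := fun w =>
    ofPt_yon_map_comp _ _ _
  let ZT : Set ↥T.left := Points.ofPt ξ ⁻¹' (Set.range (Points.ofPt a))ᶜ
  have hZT : IsClosed ZT :=
    (haemb.isOpen_range.isClosed_compl).preimage (Points.continuous_ofPt ξ)
  let Zc : TopologicalSpace.Closeds ↥T.left := ⟨ZT, hZT⟩
  let I := Scheme.IdealSheafData.vanishingIdeal Zc
  have hr : Set.range I.subschemeι = ZT := by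
    rw [Scheme.IdealSheafData.range_subschemeι, Scheme.IdealSheafData.coe_support_vanishingIdeal]
    rfl
  let C : Set ↥Va.left := closure (Set.range (I.subschemeι ≫ τ.left).base)
  let va : ↥Va.left := ⟨v, hvW₀⟩
  have hvagen : closure {va} ∈ irreducibleComponents ↥Va.left :=
    (Groth.Agent.Helper4.SN460.mem_genericPoints_iff W₀.ι.isOpenEmbedding va).2 hv
  have hvaC : va ∉ C := by
    intro hmem
    obtain ⟨t, ht⟩ :=
      Groth.Agent.Helper4.exists_specializes_of_mem_closure_range (I.subschemeι ≫ τ.left) va hmem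
    have ht' : τ.left (I.subschemeι t) ⤳ va := ht
    have hτt : τ.left (I.subschemeι t) = va :=
      Groth.Agent.Helper3.GenPts.eq_of_specializes hvagen ht'
    have htZ : I.subschemeι t ∈ ZT := by
      rw [← hr]; exact ⟨t, rfl⟩
    have hfx : Points.map f.hom (Points.ofPt ξ (I.subschemeι t)) = Points.ofPt b v := by
      rw [hξf, hτt, hba]; rfl
    have hgen : Points.map f.hom (Points.ofPt ξ (I.subschemeι t)) ∈
        genericPoints (Points Y.obj) := by
      rw [hfx]
      exact (Groth.Agent.Helper4.SN460.mem_genericPoints_iff hbemb v).1 hv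
    have hxgen := mem_genericPoints_of_map_mem f hX hY hf _ hgen
    exact htZ (genericPoints_subset_range X hX hXf a ha had hxgen)
  let Oa : Va.left.Opens := ⟨Cᶜ, isClosed_closure.isOpen_compl⟩
  refine ⟨W₀.ι ''ᵁ Oa, ⟨va, hvaC, rfl⟩, ?_⟩
  rintro x ⟨o, ⟨oa, hoa, rfl⟩, hxo⟩
  by_contra hxa
  have hxo' : Points.map f.hom x = Points.map ba (Points.schemeHomeo Va oa) := by
    rw [ofPt_eq_map_schemeHomeo, hba]
    exact hxo.symm
  obtain ⟨p, hp1, hp2⟩ := exists_point_of_isPullback sq x (Points.schemeHomeo Va oa) hxo'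
  obtain ⟨t, ht⟩ := Groth.Agent.Helper5.AlgSpOpen.ofPt_surjective_of_repWith c hcs p
  have hξt : Points.ofPt ξ t = x := by
    show Points.ofPt (c ≫ pullback.fst f.hom ba) t = x
    rw [← Points.map_ofPt, ht, hp1]
  have htZ : t ∈ ZT := by
    show Points.ofPt ξ t ∈ (Set.range (Points.ofPt a))ᶜ
    rw [hξt]; exact hxa
  rw [← hr] at htZ
  obtain ⟨t₀, rfl⟩ := htZ
  have hτt : τ.left (I.subschemeι t₀) = oa := by
    apply (Points.schemeHomeo Va).injective
    rw [← ofPt_yon_map_eq, hτ, ← Points.map_ofPt, ht, hp2]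
  have : oa ∈ C := subset_closure ⟨t₀, hτt⟩
  exact hoa this

/-- Separated case. -/
theorem range_subset_of_separated {X Y : Space S} (f : X ⟶ Y)
    (hsep : IsSeparatedMor f.hom)
    {U V : Over S} (a : (yon S).obj U ⟶ X.obj) (b : (yon S).obj V ⟶ Y.obj) (g : U ⟶ V)
    (hb : RepWith @IsOpenImmersion b)
    (had : Dense (Set.range (Points.ofPt a))) (comm : a ≫ f.hom = (yon S).map g ≫ b)
    (hg : IsIso g.left) (x : Points X.obj)
    (hx : Points.map f.hom x ∈ Set.range (Points.ofPt b)) : x ∈ Set.range (Points.ofPt a) := by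
  haveI : IsIso g := by
    have : IsIso ((Over.forget S).map g) := hg
    exact isIso_of_reflects_iso _ (Over.forget S)
  let σ : (yon S).obj V ⟶ X.obj := (yon S).map (inv g) ≫ a
  have hσ : σ ≫ f.hom = b := by
    show ((yon S).map (inv g) ≫ a) ≫ f.hom = b
    rw [Category.assoc, comm, ← Category.assoc, ← Functor.map_comp, IsIso.inv_hom_id,
      CategoryTheory.Functor.map_id, Category.id_comp]
  have hgσ : (yon S).map g ≫ σ = a := by
    show (yon S).map g ≫ (yon S).map (inv g) ≫ a = a
    rw [← Category.assoc, ← Functor.map_comp, IsIso.hom_inv_id, CategoryTheory.Functor.map_id, Category.id_comp]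
  let Γ : (yon S).obj V ⟶ pullback (σ ≫ f.hom) f.hom := pullback.lift (𝟙 _) σ (by simp)
  have hΓ : RepWith @IsClosedImmersion Γ :=
    Groth.Agent.Helper5.AlgSpProper.graph_closedImmersion σ f.hom hsep
  have hΓsnd : Γ ≫ pullback.snd (σ ≫ f.hom) f.hom = σ := pullback.lift_snd _ _ _
  have sq' : IsPullback (pullback.fst (σ ≫ f.hom) f.hom) (pullback.snd (σ ≫ f.hom) f.hom)
      (σ ≫ f.hom) f.hom := IsPullback.of_hasPullback _ _
  have hP'alg : IsAlgSpace (pullback (σ ≫ f.hom) f.hom) :=
    Groth.Agent.Helper4.AlgSpPB.isAlgSpace_of_isPullback Y.property.diag (IsAlgSpace.yon_obj V)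
      X.property _ _ _ _ sq'
  have hΓcl : IsClosedMap (Points.map Γ) :=
    (Groth.Agent.Helper5.AlgSpProper.isUnivClosedMor_of_closedImmersion Γ hΓ) hP'alg (𝟙 _) (𝟙 _) Γ
      IsPullback.of_id_fst
  have hσb : RepWith @IsOpenImmersion (σ ≫ f.hom) := by rw [hσ]; exact hb
  have hsnd' : RepWith @IsOpenImmersion (pullback.snd (σ ≫ f.hom) f.hom) :=
    (RepWith (S := S) @IsOpenImmersion).of_isPullback sq' hσb
  have hsndopen : IsOpenMap (Points.map (pullback.snd (σ ≫ f.hom) f.hom)) :=
    isOpenMor_of_repWith_etale X.property _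
      (Groth.Agent.Helper4.AlgSpSrc.repWith_mono (fun g hg => by
        have : IsOpenImmersion g := hg
        infer_instance) hsnd')
  haveI : Mono (pullback.snd (σ ≫ f.hom) f.hom) :=
    Groth.Agent.Helper4.AlgSpBasic.mono_of_repWith (P := @IsOpenImmersion) (fun g hg => by
      have : IsOpenImmersion g := hg
      infer_instance) _ hsnd'
  have hsndinj : Function.Injective (Points.map (pullback.snd (σ ≫ f.hom) f.hom)) :=
    Groth.Agent.Helper4.AlgSpInj.injective_points_of_injective_fieldPts _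
      (fun K _ str c₁ c₂ h => (cancel_mono (pullback.snd (σ ≫ f.hom) f.hom)).1 h)
  let N : Set (Points X.obj) :=
    Points.map (pullback.snd (σ ≫ f.hom) f.hom) '' (Set.range (Points.map Γ))ᶜ
  have hNopen : IsOpen N := hsndopen _ (hΓcl.isClosed_range.isOpen_compl)
  have hNempty : N = ∅ := by
    by_contra hne
    obtain ⟨z, hzN, hza⟩ :=
      had.inter_open_nonempty N hNopen (Set.nonempty_iff_ne_empty.2 hne)
    obtain ⟨p, hp, rfl⟩ := hzN
    obtain ⟨u, hu⟩ := hza
    apply hp
    refine ⟨Points.schemeHomeo V (g.left u), hsndinj ?_⟩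
    rw [← Points.map_comp, hΓsnd, ofPt_eq_map_schemeHomeo, ← hu, ← ofPt_yon_map_comp, hgσ]
  obtain ⟨v', hv'⟩ := hx
  have h1 : Points.map (σ ≫ f.hom) (Points.schemeHomeo V v') = Points.map f.hom x := by
    rw [hσ, ofPt_eq_map_schemeHomeo, hv']
  obtain ⟨p, -, hp2⟩ := exists_point_of_isPullback sq' (Points.schemeHomeo V v') x h1
  by_cases hpΓ : p ∈ Set.range (Points.map Γ)
  · obtain ⟨q, rfl⟩ := hpΓ
    rw [← Points.map_comp, hΓsnd] at hp2
    rw [← Groth.Agent.Helper5.AlgSpOpen.range_map_eq_range_ofPt]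
    refine ⟨Points.map ((yon S).map (inv g)) q, ?_⟩
    rw [← Points.map_comp]
    exact hp2
  · have : x ∈ N := ⟨p, hpΓ, hp2⟩
    rw [hNempty] at this
    exact absurd this (Set.notMem_empty _)

end Groth.Agent.Helper4.SN465
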