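import Groth.Prelude.Def_W4stk3decentspacesp2Birat
import Groth.Agent.Helper4.SN465
import Groth.Agent.Helper5.AlgSpIso
import Mathlib

/-!
A quasi-compact or separated birational morphism of decent algebraic spaces (lft with reduced
target, or lfp) is an isomorphism over a dense open subscheme of the target.
-/

set_option autoImplicit false
universe u
open CategoryTheory CategoryTheory.Limits AlgebraicGeometry Opposite MorphismProperty

namespace Groth.Agent.Helper4.SN466

open AlgSp Groth.Agent.Helper4.SN461 Groth.Agent.Helper4.SN462 Groth.Agent.Helper4.SN463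
  Groth.Agent.Helper4.SN464 Groth.Agent.Helper4.SN465
  Groth.Agent.Helper4.AlgSpPtsDesc Groth.Agent.Helper4.AlgSpLocPFam Groth.Agent.Helper4.AlgSpQC2

variable {S : Scheme.{u}}

/-- If the preimage of the open `V''` of `V` lies in `U ≅ V`, then `f` is an isomorphism over
`V''`. -/
theorem isIso_snd_of_preimage_subset {X Y : Space S} (f : X ⟶ Y)
    {U V : Over S} (a : (yon S).obj U ⟶ X.obj) (b : (yon S).obj V ⟶ Y.obj) (g : U ⟶ V)
    (ha : RepWith @IsOpenImmersion a) (hb : RepWith @IsOpenImmersion b)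
    (comm : a ≫ f.hom = (yon S).map g ≫ b) (hg : IsIso g.left) (V'' : V.left.Opens)
    (hpre : ∀ x : Points X.obj, Points.map f.hom x ∈ Points.ofPt b '' (V'' : Set ↥V.left) →
      x ∈ Set.range (Points.ofPt a))
    {P : Sp S} (fst : P ⟶ X.obj) (snd : P ⟶ (yon S).obj (opOver V V''))
    (hP : IsPullback fst snd f.hom ((yon S).map (opι V V'') ≫ b)) : IsIso snd := by
  have hbemb := Groth.Agent.Helper5.DegStr.isOpenEmbedding_ofPt_of_oi Y.property b hb
  let U'' : U.left.Opens := g.left ⁻¹ᵁ V''
  let a'' : (yon S).obj (opOver U U'') ⟶ X.obj := (yon S).map (opι U U'') ≫ a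
  let b'' : (yon S).obj (opOver V V'') ⟶ Y.obj := (yon S).map (opι V V'') ≫ b
  have ha'' : RepWith @IsOpenImmersion a'' :=
    Groth.Agent.Helper4.AlgSpSrc.repWith_comp _
      ((repWith_yon_map_iff _ _).2 (inferInstance : IsOpenImmersion U''.ι)) ha
  have hb'' : RepWith @IsOpenImmersion b'' :=
    Groth.Agent.Helper4.AlgSpSrc.repWith_comp _
      ((repWith_yon_map_iff _ _).2 (inferInstance : IsOpenImmersion V''.ι)) hb
  haveI : Mono a'' := mono_of_oi a'' ha''
  haveI : Mono b'' := mono_of_oi b'' hb''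
  let g'' : opOver U U'' ⟶ opOver V V'' := Over.homMk (g.left ∣_ V'') (by
    show (g.left ∣_ V'') ≫ V''.ι ≫ V.hom = U''.ι ≫ U.hom
    rw [← Category.assoc, morphismRestrict_ι, Category.assoc, Over.w g])
  have hg'' : opι U U'' ≫ g = g'' ≫ opι V V'' := by
    ext
    exact (morphismRestrict_ι g.left V'').symm
  haveI : IsIso g''.left := by
    show IsIso (g.left ∣_ V'')
    infer_instance
  haveI : IsIso g'' := by
    have : IsIso ((Over.forget S).map g'') := ‹IsIso g''.left›
    exact isIso_of_reflects_iso _ (Over.forget S)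
  have comm'' : a'' ≫ f.hom = (yon S).map g'' ≫ b'' := by
    show ((yon S).map (opι U U'') ≫ a) ≫ f.hom = (yon S).map g'' ≫ (yon S).map (opι V V'') ≫ b
    rw [Category.assoc, comm, ← Category.assoc, ← Functor.map_comp, hg'', Functor.map_comp,
      Category.assoc]
  -- the range condition
  have hrange : Set.range (Points.map fst) ⊆ Set.range (Points.map a'') := by
    rintro _ ⟨p, rfl⟩
    rw [Groth.Agent.Helper5.AlgSpOpen.range_map_eq_range_ofPt]
    obtain ⟨t, ht⟩ := (Points.schemeHomeo (opOver V V'')).surjective (Points.map snd p)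
    have h1 : Points.map f.hom (Points.map fst p) = Points.ofPt b ((opι V V'').left t) := by
      rw [← Points.map_comp, hP.w, Points.map_comp, ← ht, ofPt_eq_map_schemeHomeo,
        ofPt_yon_map_comp]
    obtain ⟨u, hu⟩ := hpre (Points.map fst p) (by
      rw [h1]; exact ⟨_, t.2, rfl⟩)
    have h2 : Points.ofPt b (g.left u) = Points.ofPt b ((opι V V'').left t) := by
      rw [ofPt_comp_eq f.hom a b g comm u, hu, h1]
    have h3 : g.left u = (opι V V'').left t := hbemb.injective h2
    have hu'' : u ∈ U'' := by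
      show g.left u ∈ V''
      rw [h3]; exact t.2
    refine ⟨⟨u, hu''⟩, ?_⟩
    show Points.ofPt ((yon S).map (opι U U'') ≫ a) _ = _
    rw [ofPt_yon_map_comp]
    exact hu
  obtain ⟨t, ht⟩ := Groth.Agent.Helper5.AlgSpIso.exists_factor_open a'' ha'' fst hrange
  have hsnd : snd = t ≫ (yon S).map g'' := by
    have h0 : (t ≫ (yon S).map g'') ≫ b'' = snd ≫ b'' := by
      rw [Category.assoc, ← comm'', ← Category.assoc, ht]
      exact hP.w
    exact ((cancel_mono b'').1 h0).symm
  let σ' : (yon S).obj (opOver U U'') ⟶ P := hP.lift a'' ((yon S).map g'') comm''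
  have h1 : t ≫ σ' = 𝟙 P := by
    apply hP.hom_ext
    · rw [Category.assoc, hP.lift_fst, ht, Category.id_comp]
    · rw [Category.assoc, hP.lift_snd, ← hsnd, Category.id_comp]
  have h2 : σ' ≫ t = 𝟙 _ := by
    rw [← cancel_mono a'', Category.assoc, ht, hP.lift_fst, Category.id_comp]
  haveI : IsIso t := ⟨σ', h1, h2⟩
  rw [hsnd]
  infer_instance

theorem exists_dense_open_isIso_pullback {X Y : Space S} (f : X ⟶ Y)
    (hX : IsDecent X.obj) (hY : IsDecent Y.obj)
    (hXf : (irreducibleComponents (Points X.obj)).Finite)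
    (hYf : (irreducibleComponents (Points Y.obj)).Finite)
    (hf : W4stk3decentspacesp2.IsBirational f.hom)
    (h₁ : IsQuasiCompactMor f.hom ∨ IsSeparatedMor f.hom)
    (h₂ : (LocP @LocallyOfFiniteType f.hom ∧ EtaleLocally (fun T => IsReduced T) Y.obj) ∨
      LocP @LocallyOfFinitePresentation f.hom) :
    ∃ (V : Over S) (b : (yon S).obj V ⟶ Y.obj), RepWith @IsOpenImmersion b ∧
      Dense (Set.range (Points.ofPt b)) ∧
        ∀ ⦃P : Sp S⦄ (fst : P ⟶ X.obj) (snd : P ⟶ (yon S).obj V),
          IsPullback fst snd f.hom b → IsIso snd := by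
  obtain ⟨U, V, a, b, g, ha, hb, had, hbd, comm, hg⟩ :=
    exists_dense_open_iso f hX hY hXf hYf hf h₂
  -- the open `V''`
  have hloc : ∀ v : ↥V.left, closure {v} ∈ irreducibleComponents ↥V.left →
      ∃ O : V.left.Opens, v ∈ O ∧ ∀ x : Points X.obj,
        Points.map f.hom x ∈ Points.ofPt b '' (O : Set ↥V.left) →
          x ∈ Set.range (Points.ofPt a) := by
    intro v hv
    rcases h₁ with hqc | hsep
    · exact exists_open_of_quasiCompact f hX hY hXf hf hqc a b ha hb had v hv
    · refine ⟨⊤, trivial, fun x hx => ?_⟩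
      refine range_subset_of_separated f hsep a b g hb had comm hg x ?_
      obtain ⟨v', -, hv'⟩ := hx
      exact ⟨v', hv'⟩
  classical
  let Ofun : ↥V.left → V.left.Opens := fun v =>
    if hv : closure {v} ∈ irreducibleComponents ↥V.left then (hloc v hv).choose else ⊥
  let V'' : V.left.Opens := ⨆ v, Ofun v
  have hV''gen : ∀ v : ↥V.left, closure {v} ∈ irreducibleComponents ↥V.left → v ∈ V'' := by
    intro v hv
    have : v ∈ Ofun v := by
      simp only [Ofun, dif_pos hv]
      exact (hloc v hv).choose_spec.1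
    exact TopologicalSpace.Opens.mem_iSup.2 ⟨v, this⟩
  have hV''d : Dense (V'' : Set ↥V.left) :=
    Groth.Agent.Helper3.GenPts.dense_of_genPts_subset hV''gen
  have hpre : ∀ x : Points X.obj, Points.map f.hom x ∈ Points.ofPt b '' (V'' : Set ↥V.left) →
      x ∈ Set.range (Points.ofPt a) := by
    rintro x ⟨v', hv', hxv'⟩
    obtain ⟨v, hv⟩ := TopologicalSpace.Opens.mem_iSup.1 hv'
    by_cases hvgen : closure {v} ∈ irreducibleComponents ↥V.left
    · simp only [Ofun, dif_pos hvgen] at hv
      exact (hloc v hvgen).choose_spec.2 x ⟨v', hv, hxv'⟩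
    · simp only [Ofun, dif_neg hvgen] at hv
      exact absurd hv (by simp)
  refine ⟨opOver V V'', (yon S).map (opι V V'') ≫ b, ?_, ?_, ?_⟩
  · exact Groth.Agent.Helper4.AlgSpSrc.repWith_comp _
      ((repWith_yon_map_iff _ _).2 (inferInstance : IsOpenImmersion V''.ι)) hb
  · have hr : Set.range (Points.ofPt ((yon S).map (opι V V'') ≫ b)) =
        Points.ofPt b '' (V'' : Set ↥V.left) := by
      ext x
      constructor
      · rintro ⟨t, rfl⟩
        exact ⟨(opι V V'').left t, t.2, (ofPt_yon_map_comp _ _ _).symm⟩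
      · rintro ⟨t, ht, rfl⟩
        exact ⟨⟨t, ht⟩, ofPt_yon_map_comp _ _ _⟩
    rw [hr]
    exact DenseRange.dense_image hbd (Points.continuous_ofPt b) hV''d
  · intro P fst snd hP
    exact isIso_snd_of_preimage_subset f a b g ha hb comm hg V'' hpre fst snd hP

end Groth.Agent.Helper4.SN466
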