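import Mathlib

/-!
Scheme-level lemmas: the property "the base change of `f` to `Spec 𝒪_{Y,y}` is an isomorphism" is
stable under base change, and implies that the fibre over `y` is a single point at which `f`
induces an isomorphism of local rings.
-/

set_option autoImplicit false

namespace Groth.Agent.Helper4.SN467

open AlgebraicGeometry CategoryTheory Limits IsLocalRing

universe u

/-- Base change of the local isomorphism. -/
theorem isIso_snd_fromSpecStalk_of_isPullback {X Y X' Y' : Scheme.{u}} {f : X ⟶ Y} {g : Y' ⟶ Y}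
    {f' : X' ⟶ Y'} {g' : X' ⟶ X} (sq : IsPullback g' f' f g) (y' : Y')
    (h : IsIso (pullback.snd f (Y.fromSpecStalk (g y')))) :
    IsIso (pullback.snd f' (Y'.fromSpecStalk y')) := by
  let m : Spec (Y'.presheaf.stalk y') ⟶ Spec (Y.presheaf.stalk (g y')) := Spec.map (g.stalkMap y')
  have hm : m ≫ Y.fromSpecStalk (g y') = Y'.fromSpecStalk y' ≫ g :=
    Scheme.SpecMap_stalkMap_fromSpecStalk g
  have big : IsPullback (pullback.fst f' (Y'.fromSpecStalk y') ≫ g')
      (pullback.snd f' (Y'.fromSpecStalk y')) f (m ≫ Y.fromSpecStalk (g y')) := by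
    rw [hm]
    exact (IsPullback.of_hasPullback f' (Y'.fromSpecStalk y')).paste_horiz sq
  let k : pullback f' (Y'.fromSpecStalk y') ⟶ pullback f (Y.fromSpecStalk (g y')) :=
    pullback.lift (pullback.fst f' (Y'.fromSpecStalk y') ≫ g')
      (pullback.snd f' (Y'.fromSpecStalk y') ≫ m) (by rw [Category.assoc, Category.assoc]; exact big.w)
  have hk1 : k ≫ pullback.fst f (Y.fromSpecStalk (g y')) =
      pullback.fst f' (Y'.fromSpecStalk y') ≫ g' := pullback.lift_fst _ _ _
  have hk2 : k ≫ pullback.snd f (Y.fromSpecStalk (g y')) =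
      pullback.snd f' (Y'.fromSpecStalk y') ≫ m := pullback.lift_snd _ _ _
  have left : IsPullback k (pullback.snd f' (Y'.fromSpecStalk y'))
      (pullback.snd f (Y.fromSpecStalk (g y'))) m := by
    refine IsPullback.of_right ?_ hk2 (IsPullback.of_hasPullback f (Y.fromSpecStalk (g y')))
    rw [hk1]; exact big
  exact left.isIso_snd_of_isIso

/-- If the base change of `f'` to `Spec 𝒪_{Y',f' x'}` is an isomorphism then `x'` is the only
point of its fibre and `f'` induces an isomorphism of local rings at `x'`. -/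
theorem isIso_stalkMap_of_isIso_snd {X' Y' : Scheme.{u}} (f' : X' ⟶ Y') (x' : X')
    (h : IsIso (pullback.snd f' (Y'.fromSpecStalk (f' x')))) :
    (∀ x₁ : X', f' x₁ = f' x' → x₁ = x') ∧ IsIso (f'.stalkMap x') := by
  let s : Spec (Y'.presheaf.stalk (f' x')) ⟶ X' :=
    inv (pullback.snd f' (Y'.fromSpecStalk (f' x'))) ≫ pullback.fst f' (Y'.fromSpecStalk (f' x'))
  have hs : s ≫ f' = Y'.fromSpecStalk (f' x') := by
    show (inv (pullback.snd f' (Y'.fromSpecStalk (f' x'))) ≫
      pullback.fst f' (Y'.fromSpecStalk (f' x'))) ≫ f' = _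
    rw [Category.assoc, pullback.condition, IsIso.inv_hom_id_assoc]
  let x₀ : X' := s (closedPoint (Y'.presheaf.stalk (f' x')))
  have huniq : ∀ x₁ : X', f' x₁ = f' x' → x₁ = x₀ := by
    intro x₁ hx₁
    have h1 : f' x₁ = Y'.fromSpecStalk (f' x') (closedPoint (Y'.presheaf.stalk (f' x'))) := by
      rw [Scheme.fromSpecStalk_closedPoint]; exact hx₁
    obtain ⟨z, hz1, hz2⟩ := Scheme.Pullback.exists_preimage_pullback x₁ _ h1
    have h2 : (inv (pullback.snd f' (Y'.fromSpecStalk (f' x'))))
        (pullback.snd f' (Y'.fromSpecStalk (f' x')) z) = z := by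
      rw [← Scheme.Hom.comp_apply, IsIso.hom_inv_id]; rfl
    rw [← hz1, ← h2, hz2]
    rfl
  have e : x' = x₀ := huniq x' rfl
  refine ⟨fun x₁ hx₁ => (huniq x₁ hx₁).trans e.symm, ?_⟩
  let φ := Scheme.stalkClosedPointTo s
  have hφ : Spec.map φ ≫ X'.fromSpecStalk x₀ = s := Scheme.Spec_stalkClosedPointTo_fromSpecStalk s
  have hsp : x₀ ⤳ x' := by rw [← e]
  let sp := X'.presheaf.stalkSpecializes hsp
  have hsp' : Spec.map sp ≫ X'.fromSpecStalk x' = X'.fromSpecStalk x₀ :=
    X'.SpecMap_stalkSpecializes_fromSpecStalk hsp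
  let φ' : X'.presheaf.stalk x' ⟶ Y'.presheaf.stalk (f' x') := sp ≫ φ
  have hφ' : Spec.map φ' ≫ X'.fromSpecStalk x' = s := by
    show Spec.map (sp ≫ φ) ≫ _ = _
    rw [Spec.map_comp, Category.assoc, hsp', hφ]
  have hI : f'.stalkMap x' ≫ φ' = 𝟙 _ := by
    apply Spec.map_injective
    rw [Spec.map_comp, Spec.map_id, ← cancel_mono (Y'.fromSpecStalk (f' x')), Category.assoc,
      Scheme.SpecMap_stalkMap_fromSpecStalk, ← Category.assoc, hφ', hs, Category.id_comp]
  have hkey : X'.fromSpecStalk x' = Spec.map (f'.stalkMap x') ≫ s := by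
    let ι' : Spec (X'.presheaf.stalk x') ⟶ pullback f' (Y'.fromSpecStalk (f' x')) :=
      pullback.lift (X'.fromSpecStalk x') (Spec.map (f'.stalkMap x'))
        (Scheme.SpecMap_stalkMap_fromSpecStalk f').symm
    have h1 : ι' ≫ pullback.snd f' (Y'.fromSpecStalk (f' x')) = Spec.map (f'.stalkMap x') :=
      pullback.lift_snd _ _ _
    have h2 : ι' ≫ pullback.fst f' (Y'.fromSpecStalk (f' x')) = X'.fromSpecStalk x' :=
      pullback.lift_fst _ _ _
    have h3 : ι' = Spec.map (f'.stalkMap x') ≫ inv (pullback.snd f' (Y'.fromSpecStalk (f' x'))) := by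
      rw [IsIso.eq_comp_inv, h1]
    rw [← h2, h3, Category.assoc]
  have hII : φ' ≫ f'.stalkMap x' = 𝟙 _ := by
    apply Spec.map_injective
    rw [Spec.map_comp, Spec.map_id, ← cancel_mono (X'.fromSpecStalk x'), Category.assoc, hφ',
      ← hkey, Category.id_comp]
  exact ⟨φ', hI, hII⟩

end Groth.Agent.Helper4.SN467
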