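import Groth.Prelude.Def_W4stk3decentspacesp2Birat
import Groth.Agent.Helper4.SN466
import Groth.Agent.Helper4.SN467
import Groth.Agent.Helper3.BirStalk
import Groth.Agent.Helper5.DegStr12
import Groth.Agent.Helper5.DecJac1
import Groth.Agent.Helper5.MonoQuot11
import Groth.Agent.Helper4.AlgSpPB
import Groth.Agent.Helper4.UB1
import Mathlib

/-!
Base change of a birational morphism of decent algebraic spaces along an étale chart.
-/

set_option autoImplicit false
universe u
open CategoryTheory CategoryTheory.Limits AlgebraicGeometry Opposite MorphismProperty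

namespace Groth.Agent.Helper4.SN468

open AlgSp Groth.Agent.Helper4.SN461 Groth.Agent.Helper4.SN462 Groth.Agent.Helper4.SN463
  Groth.Agent.Helper4.SN464 Groth.Agent.Helper4.SN465
  Groth.Agent.Helper4.AlgSpPtsDesc Groth.Agent.Helper4.AlgSpLocPFam Groth.Agent.Helper4.AlgSpQC2

variable {S : Scheme.{u}}

theorem gen_iff {α : Type*} [TopologicalSpace α] (y : α) :
    (∃ T ∈ irreducibleComponents α, IsGenericPoint y T) ↔ y ∈ genericPoints α := by
  constructor
  · rintro ⟨T, hT, hg⟩
    show closure {y} ∈ irreducibleComponents α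
    rw [hg.def]; exact hT
  · intro h
    exact ⟨closure {y}, h, rfl⟩

/-- The local model of the base change near a generic point of the chart. -/
theorem local_model {X Y : Space S} (f : X ⟶ Y)
    (hX : IsDecent X.obj) (hY : IsDecent Y.obj)
    (hXf : (irreducibleComponents (Points X.obj)).Finite)
    (hYf : (irreducibleComponents (Points Y.obj)).Finite)
    (hf : W4stk3decentspacesp2.IsBirational f.hom) {V : Over S}
    (b : (yon S).obj V ⟶ Y.obj) (hb : RepWith @Etale b) {P : Sp S} (fst : P ⟶ X.obj)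
    (snd : P ⟶ (yon S).obj V) (hP : IsPullback fst snd f.hom b) (v : ↥V.left)
    (hv : Points.ofPt b v ∈ genericPoints (Points Y.obj)) :
    ∃ (R V₂ : Over S) (θ : (yon S).obj R ⟶ P) (e₂ : V₂ ⟶ V) (r₂ : R ⟶ V₂) (v₂ : ↥V₂.left),
      RepWith @IsOpenImmersion θ ∧ IsOpenImmersion e₂.left ∧
      θ ≫ snd = (yon S).map r₂ ≫ (yon S).map e₂ ∧ e₂.left v₂ = v ∧
      IsIso (pullback.snd r₂.left (V₂.left.fromSpecStalk v₂)) ∧
      (∀ p : Points P, Points.map snd p = Points.schemeHomeo V v →
        ∃ r : ↥R.left, Points.ofPt θ r = p ∧ r₂.left r = v₂) := by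
  obtain ⟨x, hx, hxy⟩ := hf.bijOn.surjOn hv
  obtain ⟨U', V', a', b', g', u', ha', hb', hcomm', hu', -⟩ := hf.stalkIso x hx
  have hv' : Points.ofPt b' (g'.left u') = Points.ofPt b v := by
    rw [ofPt_comp_eq f.hom a' b' g' hcomm' u', hu', hxy]
  obtain ⟨X₀, j, f₀, hj, hcomm, hX₀f, hV'f, hbij, hiso, hfib⟩ :=
    exists_scheme_model f hX hY hXf hYf hf b' hb'
  obtain ⟨V₂, e₁, e₂, sqV, he₁, he₂⟩ :=
    exists_pullback_charts @IsOpenImmersion @Etale b' b hb' hb
  obtain ⟨v₂, hv₂1, hv₂2⟩ := exists_point_of_isPullback_yon b' b e₁ e₂ sqV (g'.left u') v hv'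
  have hb'emb := Groth.Agent.Helper5.DegStr.isOpenEmbedding_ofPt_of_oi Y.property b' hb'
  have hgen' : closure {g'.left u'} ∈ irreducibleComponents ↥V'.left := by
    have := (Groth.Agent.Helper4.SN460.mem_genericPoints_iff hb'emb (g'.left u')).2
      (by rw [hv']; exact hv)
    exact this
  have hZ : IsIso (pullback.snd f₀.left (V'.left.fromSpecStalk (g'.left u'))) :=
    Groth.Agent.Helper3.BirStalk.isIso_snd_fromSpecStalk f₀.left hbij hiso _ hgen'
  have hZ1 : IsIso (pullback.snd f₀.left (V'.left.fromSpecStalk (e₁.left v₂))) := by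
    rw [hv₂1]; exact hZ
  -- the scheme-level pullback
  let ρ₁ : pullback f₀.left e₁.left ⟶ X₀.left := pullback.fst f₀.left e₁.left
  let ρ₂ : pullback f₀.left e₁.left ⟶ V₂.left := pullback.snd f₀.left e₁.left
  let R : Over S := Over.mk (ρ₂ ≫ V₂.hom)
  let r₂ : R ⟶ V₂ := Over.homMk ρ₂ rfl
  let r₁ : R ⟶ X₀ := Over.homMk ρ₁ (by
    show ρ₁ ≫ X₀.hom = ρ₂ ≫ V₂.hom
    rw [← Over.w f₀, ← Over.w e₁, ← Category.assoc, ← Category.assoc]
    congr 1
    exact pullback.condition)
  have sqR₀ : IsPullback r₁.left r₂.left f₀.left e₁.left := IsPullback.of_hasPullback _ _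
  have hZ' : IsIso (pullback.snd r₂.left (V₂.left.fromSpecStalk v₂)) :=
    Groth.Agent.Helper4.SN467.isIso_snd_fromSpecStalk_of_isPullback sqR₀ v₂ hZ1
  have wR : r₁ ≫ f₀ = r₂ ≫ e₁ := by
    ext
    exact pullback.condition
  have sqR : IsPullback ((yon S).map r₁) ((yon S).map r₂) ((yon S).map f₀) ((yon S).map e₁) :=
    Groth.Agent.Helper4.UB1.isPullback_yon_map (Groth.Agent.Helper4.UB1.isPullback_of_left wR sqR₀)
  have big : IsPullback ((yon S).map r₁) ((yon S).map r₂ ≫ (yon S).map e₂) (j ≫ f.hom) b := by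
    rw [hcomm]
    exact sqR.paste_vert sqV
  let θ : (yon S).obj R ⟶ P := hP.lift ((yon S).map r₁ ≫ j) ((yon S).map r₂ ≫ (yon S).map e₂)
    (by rw [Category.assoc]; exact big.w)
  have hθ1 : θ ≫ fst = (yon S).map r₁ ≫ j := hP.lift_fst _ _ _
  have hθ2 : θ ≫ snd = (yon S).map r₂ ≫ (yon S).map e₂ := hP.lift_snd _ _ _
  have sqU : IsPullback ((yon S).map r₁) θ j fst := by
    refine IsPullback.of_bot ?_ hθ1.symm hP
    rw [hθ2]; exact big
  have hθ : RepWith @IsOpenImmersion θ := (RepWith (S := S) @IsOpenImmersion).of_isPullback sqU hj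
  have he₂inj : Function.Injective e₂.left := by
    haveI : IsOpenImmersion e₂.left := he₂
    exact e₂.left.isOpenEmbedding.injective
  refine ⟨R, V₂, θ, e₂, r₂, v₂, hθ, he₂, hθ2, hv₂2, hZ', ?_⟩
  intro p hp
  have hfp : Points.map f.hom (Points.map fst p) = Points.ofPt b v := by
    rw [← Points.map_comp, hP.w, Points.map_comp, hp, ofPt_eq_map_schemeHomeo]
  obtain ⟨x₀, hx₀⟩ := hfib (Points.map fst p) (by rw [hfp]; exact hv)
    (by rw [hfp, ← hv']; exact ⟨_, rfl⟩)
  obtain ⟨q, hq1, hq2⟩ := exists_point_of_isPullback sqU (Points.schemeHomeo X₀ x₀) p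
    (by rw [ofPt_eq_map_schemeHomeo]; exact hx₀)
  obtain ⟨r, rfl⟩ := (Points.schemeHomeo R).surjective q
  refine ⟨r, ?_, ?_⟩
  · rw [← ofPt_eq_map_schemeHomeo]; exact hq2
  · apply he₂inj
    rw [hv₂2]
    apply (Points.schemeHomeo V).injective
    rw [← hp, ← hq2, ← Points.map_comp, hθ2, ofPt_eq_map_schemeHomeo, ← Functor.map_comp,
      ofPt_yon_map_eq]
    rfl

theorem finite_irreducibleComponents_of_finite_genericPoints {α : Type*} [TopologicalSpace α]
    [T0Space α] [QuasiSober α] (h : (genericPoints α).Finite) :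
    (irreducibleComponents α).Finite := by
  haveI : Finite ↥(genericPoints α) := h.to_subtype
  haveI : Finite ↥(irreducibleComponents α) := Finite.of_equiv _ genericPoints.equiv
  exact Set.toFinite _

theorem main {X Y : Space S} (f : X ⟶ Y)
    (hX : IsDecent X.obj) (hY : IsDecent Y.obj)
    (hXf : (irreducibleComponents (Points X.obj)).Finite)
    (hYf : (irreducibleComponents (Points Y.obj)).Finite)
    (hf : W4stk3decentspacesp2.IsBirational f.hom) {V : Over S} [IsAffine V.left]
    (b : (yon S).obj V ⟶ Y.obj) (hb : RepWith @Etale b) {P : Sp S} (fst : P ⟶ X.obj)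
    (snd : P ⟶ (yon S).obj V) (hP : IsPullback fst snd f.hom b) :
    IsDecent P ∧ (irreducibleComponents (Points P)).Finite ∧
      (irreducibleComponents (Points ((yon S).obj V))).Finite ∧
      W4stk3decentspacesp2.IsBirational snd := by
  have hPalg : IsAlgSpace P :=
    Groth.Agent.Helper4.AlgSpPB.isAlgSpace_of_isPullback Y.property.diag X.property
      (IsAlgSpace.yon_obj V) f.hom b fst snd hP
  have hfst : RepWith @Etale fst := (RepWith (S := S) @Etale).of_isPullback hP.flip hb
  let Psp : Space S := ⟨P, hPalg⟩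
  let Vsp : Space S := ⟨(yon S).obj V, IsAlgSpace.yon_obj V⟩
  let fstH : Psp ⟶ X := ObjectProperty.homMk fst
  let bH : Vsp ⟶ Y := ObjectProperty.homMk b
  have hfstE : IsEtaleMor fstH.hom := fun U φ hφ =>
    Groth.Agent.Helper4.AlgSpSrc.repWith_comp _ hφ hfst
  have hbE : IsEtaleMor bH.hom := fun U φ hφ =>
    Groth.Agent.Helper4.AlgSpSrc.repWith_comp _ hφ hb
  have hPd : IsDecent P := Groth.Agent.Helper5.MonoQuot.s10352 fstH hfstE hX
  have hVd : IsDecent ((yon S).obj V) := Groth.Agent.Helper5.Decent1.isDecent_yon V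
  haveI : QuasiSober (Points P) := Groth.Agent.Helper5.DegStr.s10339 Psp hPd
  haveI : T0Space (Points P) := Groth.Agent.Helper5.Decent3.t0Space_of_isDecent hPalg hPd
  haveI : QuasiSober (Points ((yon S).obj V)) := Groth.Agent.Helper5.DegStr.s10339 Vsp hVd
  haveI : T0Space (Points ((yon S).obj V)) :=
    Groth.Agent.Helper5.Decent3.t0Space_of_isDecent (IsAlgSpace.yon_obj V) hVd
  haveI : QuasiSober (Points Y.obj) := Groth.Agent.Helper5.DegStr.s10339 Y hY
  haveI : T0Space (Points Y.obj) := Groth.Agent.Helper5.Decent3.t0Space_of_isDecent Y.property hY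
  have genP : ∀ p : Points P, p ∈ genericPoints (Points P) ↔
      Points.map fst p ∈ genericPoints (Points X.obj) := fun p => by
    rw [← gen_iff, ← gen_iff]
    exact Groth.Agent.Helper5.DegStr.s10395 hX fstH hfstE p
  have genV : ∀ w : Points ((yon S).obj V), w ∈ genericPoints (Points ((yon S).obj V)) ↔
      Points.map b w ∈ genericPoints (Points Y.obj) := fun w => by
    rw [← gen_iff, ← gen_iff]
    exact Groth.Agent.Helper5.DegStr.s10395 hY bH hbE w
  have hcommP : ∀ p : Points P, Points.map b (Points.map snd p) =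
      Points.map f.hom (Points.map fst p) := fun p => by
    rw [← Points.map_comp, ← Points.map_comp, hP.w]
  have hmaps : Set.MapsTo (Points.map snd) (genericPoints (Points P))
      (genericPoints (Points ((yon S).obj V))) := by
    intro p hp
    rw [genV, hcommP]
    exact hf.bijOn.mapsTo ((genP p).1 hp)
  -- local structure at a generic point
  have key : ∀ p ∈ genericPoints (Points P), ∃ (R V₂ : Over S) (θ : (yon S).obj R ⟶ P)
      (e₂ : V₂ ⟶ V) (r₂ : R ⟶ V₂) (r : ↥R.left),
      RepWith @IsOpenImmersion θ ∧ IsOpenImmersion e₂.left ∧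
      θ ≫ snd = (yon S).map r₂ ≫ (yon S).map e₂ ∧ Points.ofPt θ r = p ∧
      IsIso (r₂.left.stalkMap r) ∧
      (∀ p' : Points P, Points.map snd p' = Points.map snd p → p' = p) := by
    intro p hp
    obtain ⟨v, hv⟩ := (Points.schemeHomeo V).surjective (Points.map snd p)
    have hvg : Points.ofPt b v ∈ genericPoints (Points Y.obj) := by
      rw [← ofPt_eq_map_schemeHomeo, hv]
      exact (genV _).1 (hmaps hp)
    obtain ⟨R, V₂, θ, e₂, r₂, v₂, hθ, he₂, hθ2, hv₂, hZ, hlift⟩ :=
      local_model f hX hY hXf hYf hf b hb fst snd hP v hvg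
    obtain ⟨r, hr1, hr2⟩ := hlift p hv.symm
    subst hr2
    obtain ⟨huniq, hiso⟩ := Groth.Agent.Helper4.SN467.isIso_stalkMap_of_isIso_snd r₂.left r hZ
    refine ⟨R, V₂, θ, e₂, r₂, r, hθ, he₂, hθ2, hr1, hiso, ?_⟩
    intro p' hp'
    obtain ⟨r', hr'1, hr'2⟩ := hlift p' (by rw [hp', hv])
    rw [← hr'1, ← hr1, huniq r' hr'2]
  have hinj : Set.InjOn (Points.map snd) (genericPoints (Points P)) := by
    intro p₁ hp₁ p₂ hp₂ h12
    obtain ⟨-, -, -, -, -, -, -, -, -, -, -, huniq⟩ := key p₂ hp₂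
    exact huniq p₁ h12
  have hsurj : Set.SurjOn (Points.map snd) (genericPoints (Points P))
      (genericPoints (Points ((yon S).obj V))) := by
    intro w hw
    obtain ⟨x, hx, hxw⟩ := hf.bijOn.surjOn ((genV w).1 hw)
    obtain ⟨p, hp1, hp2⟩ := exists_point_of_isPullback hP x w hxw
    exact ⟨p, (genP p).2 (by rw [hp1]; exact hx), hp2⟩
  have hbir : W4stk3decentspacesp2.IsBirational snd := by
    refine ⟨⟨hmaps, hinj, hsurj⟩, ?_⟩
    intro p hp
    obtain ⟨R, V₂, θ, e₂, r₂, r, hθ, he₂, hθ2, hr, hiso, -⟩ := key p hp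
    exact ⟨R, V₂, θ, (yon S).map e₂, r₂, r, hθ, (repWith_yon_map_iff _ _).2 he₂, hθ2, hr, hiso⟩
  -- finiteness
  have hGY : (genericPoints (Points Y.obj)).Finite := genericPoints.finite hYf
  have hGV : (genericPoints (Points ((yon S).obj V))).Finite := by
    have hsub : genericPoints (Points ((yon S).obj V)) ⊆
        Points.map b ⁻¹' genericPoints (Points Y.obj) := fun w hw => (genV w).1 hw
    refine Set.Finite.subset (Set.Finite.preimage' hGY ?_) hsub
    intro y _
    have hfin := Groth.Agent.Helper5.DecJac.finite_fibres_of_isDecent hY y V b inferInstance hb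
    refine Set.Finite.subset (hfin.image (Points.schemeHomeo V)) ?_
    intro w hw
    obtain ⟨v, rfl⟩ := (Points.schemeHomeo V).surjective w
    refine ⟨v, ?_, rfl⟩
    show Points.ofPt b v ∈ ({y} : Set _)
    rw [← ofPt_eq_map_schemeHomeo]; exact hw
  have hGP : (genericPoints (Points P)).Finite := Set.Finite.of_injOn hmaps hinj hGV
  exact ⟨hPd, finite_irreducibleComponents_of_finite_genericPoints hGP,
    finite_irreducibleComponents_of_finite_genericPoints hGV, hbir⟩

end Groth.Agent.Helper4.SN468
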