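import Groth.Agent.Helper4.SN460
import Mathlib

/-!
An integral birational morphism from a reduced scheme onto a normal scheme with finitely many
irreducible components is an isomorphism.
-/

set_option autoImplicit false

namespace Groth.Agent.Helper4.SN469

open AlgebraicGeometry CategoryTheory Limits Topology

universe u

theorem isIntegrallyClosed_sections {Y : Scheme.{u}} [IsIntegral Y]
    (hN : ∀ y : Y, IsIntegrallyClosed (Y.presheaf.stalk y)) (U : Y.Opens) (hU : IsAffineOpen U)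
    [Nonempty U] : IsIntegrallyClosed Γ(Y, U) := by
  refine IsIntegrallyClosed.of_localization_maximal fun P _ hP => ?_
  let y : PrimeSpectrum Γ(Y, U) := ⟨P, hP.isPrime⟩
  have hy : hU.fromSpec y ∈ U := by
    have := hU.range_fromSpec
    rw [← SetLike.mem_coe, ← this]
    exact ⟨y, rfl⟩
  letI := TopCat.Presheaf.algebra_section_stalk Y.presheaf ⟨hU.fromSpec y, hy⟩
  haveI : IsLocalization.AtPrime (Y.presheaf.stalk (hU.fromSpec y)) P :=
    hU.isLocalization_stalk' y hy
  haveI := hN (hU.fromSpec y)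
  exact IsIntegrallyClosed.of_equiv (IsLocalization.algEquiv P.primeCompl
    (Y.presheaf.stalk (hU.fromSpec y)) (Localization.AtPrime P)).toRingEquiv

theorem frac_aux {Y : Scheme.{u}} [IsIntegral Y] (U : Y.Opens) (hU : IsAffineOpen U) [Nonempty U]
    (η : Y) (hη : η = genericPoint Y) (hηU : η ∈ U) :
    @IsFractionRing Γ(Y, U) _ (Y.presheaf.stalk η) _ (Y.presheaf.germ U η hηU).hom.toAlgebra := by
  subst hη
  exact functionField_isFractionRing_of_isAffineOpen _ U hU

theorem app_bijective {Y' Y : Scheme.{u}} [IsIntegral Y'] [IsIntegral Y]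
    (hN : ∀ y : Y, IsIntegrallyClosed (Y.presheaf.stalk y)) (u : Y' ⟶ Y) [IsIntegralHom u]
    (hgen : u (genericPoint Y') = genericPoint Y)
    (hbir : IsIso (u.stalkMap (genericPoint Y')))
    (U : Y.Opens) (hU : IsAffineOpen U) [Nonempty U] : Function.Bijective (u.app U).hom := by
  have hgU : genericPoint Y ∈ U :=
    ((genericPoint_spec Y).mem_open_set_iff U.isOpen).mpr (by simpa using ‹Nonempty U›)
  have hgU' : u (genericPoint Y') ∈ U := hgen ▸ hgU
  have hgU'' : genericPoint Y' ∈ u ⁻¹ᵁ U := hgU'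
  haveI : Nonempty (u ⁻¹ᵁ U : Y'.Opens) := ⟨⟨_, hgU''⟩⟩
  have hcomm := u.germ_stalkMap U (genericPoint Y') hgU'
  have hcomm' : ∀ a, (u.stalkMap (genericPoint Y')).hom ((Y.presheaf.germ U _ hgU').hom a) =
      (Y'.presheaf.germ (u ⁻¹ᵁ U) _ hgU'').hom ((u.app U).hom a) := fun a => by
    have := congrArg (fun f => f.hom a) hcomm
    simpa using this
  have hA := germ_injective_of_isIntegral (X := Y) _ hgU'
  have hB := germ_injective_of_isIntegral (X := Y') _ hgU''
  have hσ : Function.Bijective (u.stalkMap (genericPoint Y')).hom :=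
    ConcreteCategory.bijective_of_isIso _
  refine ⟨fun a b hab => ?_, fun b => ?_⟩
  · apply hA
    apply hσ.1
    rw [hcomm', hcomm', hab]
  · haveI := isIntegrallyClosed_sections hN U hU
    letI : Algebra Γ(Y, U) (Y.presheaf.stalk (u (genericPoint Y'))) :=
      (Y.presheaf.germ U _ hgU').hom.toAlgebra
    haveI : IsFractionRing Γ(Y, U) (Y.presheaf.stalk (u (genericPoint Y'))) :=
      frac_aux U hU _ hgen hgU'
    obtain ⟨p, hp, hpb⟩ := u.isIntegral_app U hU b
    obtain ⟨c, hc⟩ := hσ.2 ((Y'.presheaf.germ (u ⁻¹ᵁ U) _ hgU'').hom b)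
    have hcint : IsIntegral Γ(Y, U) c := by
      refine ⟨p, hp, ?_⟩
      apply hσ.1
      rw [map_zero, Polynomial.hom_eval₂, hc]
      have : (u.stalkMap (genericPoint Y')).hom.comp
          (algebraMap Γ(Y, U) (Y.presheaf.stalk (u (genericPoint Y')))) =
          (Y'.presheaf.germ (u ⁻¹ᵁ U) _ hgU'').hom.comp (u.app U).hom := by
        ext a
        exact hcomm' a
      rw [this, ← Polynomial.hom_eval₂, hpb, map_zero]
    obtain ⟨a, ha⟩ := IsIntegrallyClosed.algebraMap_eq_of_integral hcint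
    refine ⟨a, hB ?_⟩
    rw [← hcomm', ← hc]
    exact congrArg _ ha

set_option backward.isDefEq.respectTransparency false in
theorem isIso_of_integral {Y' Y : Scheme.{u}} [IsIntegral Y'] [IsIntegral Y]
    (hN : ∀ y : Y, IsIntegrallyClosed (Y.presheaf.stalk y)) (u : Y' ⟶ Y) [IsIntegralHom u]
    (hgen : u (genericPoint Y') = genericPoint Y)
    (hbir : IsIso (u.stalkMap (genericPoint Y'))) : IsIso u := by
  rw [← MorphismProperty.isomorphisms.iff]
  refine HasAffineProperty.of_iSup_eq_top (P := MorphismProperty.isomorphisms Scheme)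
    (fun i : {U : Y.affineOpens // Nonempty U.1} ↦ i.1) ?_ (fun i ↦ ⟨?_, ?_⟩)
  · rw [eq_top_iff]
    intro y _
    have hyV : y ∈ (Y.affineCover.f (Y.affineCover.idx y)).opensRange := Y.affineCover.covers y
    exact TopologicalSpace.Opens.mem_iSup.mpr
      ⟨⟨⟨_, isAffineOpen_opensRange (Y.affineCover.f (Y.affineCover.idx y))⟩, ⟨⟨y, hyV⟩⟩⟩, hyV⟩
  · exact (IsAffineHom.isAffine_preimage (f := u) _ i.1.2 : IsAffineOpen (u ⁻¹ᵁ i.1.1))
  · rw [morphismRestrict_appTop]
    haveI : Nonempty i.1.1 := i.2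
    have hV : (i.1.1.ι ''ᵁ ⊤) = i.1.1 := by simp
    haveI : Nonempty (i.1.1.ι ''ᵁ ⊤ : Y.Opens) := by rw [hV]; infer_instance
    have := app_bijective hN u hgen hbir (i.1.1.ι ''ᵁ ⊤) (by rw [hV]; exact i.1.2)
    refine IsIso.comp_isIso' ?_ inferInstance
    exact (ConcreteCategory.isIso_iff_bijective _).mpr this

/-- A point of a scheme with domain local rings and finitely many irreducible components has an
irreducible open neighbourhood. -/
theorem exists_irreducible_open_nhd {V : Scheme.{u}}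
    (hD : ∀ v : V, IsDomain (V.presheaf.stalk v))
    (hVf : (irreducibleComponents ↥V).Finite) (v : V) :
    ∃ U : V.Opens, v ∈ U ∧ IsIrreducible (U : Set ↥V) := by
  haveI := hD v
  let ξ₀ : Spec (V.presheaf.stalk v) := (⟨⊥, Ideal.isPrime_bot⟩ : PrimeSpectrum _)
  let η₀ : V := V.fromSpecStalk v ξ₀
  have hη₀ : ∀ y : V, y ⤳ v → η₀ ⤳ y := by
    intro y hy
    have : y ∈ Set.range (V.fromSpecStalk v) := by rw [Scheme.range_fromSpecStalk]; exact hy
    obtain ⟨p, rfl⟩ := this
    apply Specializes.map _ (V.fromSpecStalk v).continuous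
    exact (PrimeSpectrum.le_iff_specializes
      (⟨⊥, Ideal.isPrime_bot⟩ : PrimeSpectrum (V.presheaf.stalk v)) p).1
      (bot_le : (⊥ : Ideal _) ≤ _)
  let Z₀ : Set ↥V := closure {η₀}
  have hZ₀irr : IsIrreducible Z₀ := isIrreducible_singleton.closure
  have hcomp : ∀ Z ∈ irreducibleComponents ↥V, v ∈ Z → Z = Z₀ := by
    intro Z hZ hvZ
    have hZcl : IsClosed Z := isClosed_of_mem_irreducibleComponents Z hZ
    have hZirr : IsIrreducible Z := hZ.1
    obtain ⟨η, hη⟩ := QuasiSober.sober hZirr hZcl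
    have h1 : η ⤳ v := by rw [specializes_iff_mem_closure, hη.def]; exact hvZ
    have h2 : η₀ ⤳ η := hη₀ η h1
    have h3 : Z ⊆ Z₀ := by
      rw [← hη.def]
      exact closure_minimal (Set.singleton_subset_iff.2 h2.mem_closure) isClosed_closure
    exact hZ.eq_of_subset hZ₀irr h3
  let 𝒵 : Set (Set ↥V) := irreducibleComponents ↥V \ {Z₀}
  have hfin : 𝒵.Finite := hVf.subset Set.diff_subset
  have hcl : IsClosed (⋃₀ 𝒵) := by
    rw [Set.sUnion_eq_biUnion]
    exact hfin.isClosed_biUnion (fun Z hZ => isClosed_of_mem_irreducibleComponents Z hZ.1)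
  let U : V.Opens := ⟨(⋃₀ 𝒵)ᶜ, hcl.isOpen_compl⟩
  have hvU : v ∈ U := by
    rintro ⟨Z, ⟨hZ, hZne⟩, hvZ⟩
    exact hZne (hcomp Z hZ hvZ)
  have hUZ₀ : (U : Set ↥V) ⊆ Z₀ := by
    intro y hy
    by_contra hyZ
    apply hy
    refine ⟨irreducibleComponent y, ⟨irreducibleComponent_mem_irreducibleComponents y, ?_⟩,
      mem_irreducibleComponent⟩
    intro h
    have h' : irreducibleComponent y = Z₀ := h
    exact hyZ (h' ▸ mem_irreducibleComponent)
  exact ⟨U, hvU, ⟨⟨v, hvU⟩, hZ₀irr.2.open_subset U.isOpen hUZ₀⟩⟩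

theorem irreducibleSpace_of_closure_singleton {α : Type*} [TopologicalSpace α] (x : α)
    (h : closure {x} = Set.univ) : IrreducibleSpace α := by
  rw [irreducibleSpace_def, Set.top_eq_univ, ← h]
  exact isIrreducible_singleton.closure

/-- Over an irreducible open of the target the source is irreducible, with generic point over the
generic point. -/
theorem exists_generic_preimage {W V : Scheme.{u}} (g : W ⟶ V)
    (hbij : Set.BijOn g (genericPoints ↥W) (genericPoints ↥V)) (U : V.Opens)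
    (hU : IsIrreducible (U : Set ↥V)) :
    ∃ (x : W) (hx : x ∈ g ⁻¹ᵁ U), x ∈ genericPoints ↥W ∧
      closure {(⟨x, hx⟩ : ↥(g ⁻¹ᵁ U))} = Set.univ ∧
      closure {(⟨g x, hx⟩ : ↥U)} = Set.univ := by
  haveI : IrreducibleSpace ↥U := Subtype.irreducibleSpace hU
  have hemb : IsOpenEmbedding (Subtype.val : ↥U → ↥V) := U.isOpen.isOpenEmbedding_subtypeVal
  have hembW : IsOpenEmbedding (Subtype.val : ↥(g ⁻¹ᵁ U) → ↥W) :=
    (g ⁻¹ᵁ U).isOpen.isOpenEmbedding_subtypeVal
  haveI : QuasiSober ↥U := hemb.quasiSober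
  haveI : QuasiSober ↥(g ⁻¹ᵁ U) := hembW.quasiSober
  have hηU : genericPoint ↥U ∈ genericPoints ↥U := by
    rw [genericPoints_eq_singleton]; rfl
  have hηV : ((genericPoint ↥U : ↥U) : ↥V) ∈ genericPoints ↥V :=
    (Groth.Agent.Helper4.SN460.mem_genericPoints_iff hemb _).1 hηU
  obtain ⟨x, hxg, hxη⟩ := hbij.surjOn hηV
  have hx : x ∈ g ⁻¹ᵁ U := by
    show g x ∈ U
    rw [hxη]; exact (genericPoint ↥U).2
  have hxU : (⟨g x, hx⟩ : ↥U) = genericPoint ↥U := Subtype.ext hxη
  refine ⟨x, hx, hxg, ?_, ?_⟩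
  · rw [Set.eq_univ_iff_forall]
    intro w
    obtain ⟨ζ, hζ⟩ := QuasiSober.sober (isIrreducible_irreducibleComponent (x := w))
      isClosed_irreducibleComponent
    have hζg : ζ ∈ genericPoints ↥(g ⁻¹ᵁ U) := by
      show closure {ζ} ∈ irreducibleComponents _
      rw [hζ.def]; exact irreducibleComponent_mem_irreducibleComponents w
    have hζW : (ζ : ↥W) ∈ genericPoints ↥W :=
      (Groth.Agent.Helper4.SN460.mem_genericPoints_iff hembW ζ).1 hζg
    have hgζ : g ζ ∈ genericPoints ↥V := hbij.mapsTo hζW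
    have hgζU : (⟨g ζ, ζ.2⟩ : ↥U) ∈ genericPoints ↥U :=
      (Groth.Agent.Helper4.SN460.mem_genericPoints_iff hemb ⟨g ζ, ζ.2⟩).2 hgζ
    rw [genericPoints_eq_singleton] at hgζU
    have h1 : g ζ = g x := by
      rw [hxη]; exact congrArg Subtype.val hgζU
    have hζx : (ζ : ↥W) = x := hbij.injOn hζW hxg h1
    have h2 : ζ = ⟨x, hx⟩ := Subtype.ext hζx
    rw [← h2, hζ.def]; exact mem_irreducibleComponent
  · rw [hxU]; exact (genericPoint_spec ↥U).def

set_option backward.isDefEq.respectTransparency false in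
theorem isIso_of_integral_birational_normal {W V : Scheme.{u}} (g : W ⟶ V) [IsIntegralHom g]
    [IsReduced W]
    (hN : ∀ v : V, IsDomain (V.presheaf.stalk v) ∧ IsIntegrallyClosed (V.presheaf.stalk v))
    (hVf : (irreducibleComponents ↥V).Finite)
    (hbij : Set.BijOn g (genericPoints ↥W) (genericPoints ↥V))
    (hiso : ∀ x ∈ genericPoints ↥W, IsIso (g.stalkMap x)) : IsIso g := by
  haveI : IsReduced V := by
    haveI : ∀ v : V, _root_.IsReduced (V.presheaf.stalk v) := fun v => by
      haveI := (hN v).1; infer_instance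
    exact isReduced_of_isReduced_stalk V
  choose U hvU hUirr using fun v : V => exists_irreducible_open_nhd (fun v => (hN v).1) hVf v
  rw [← MorphismProperty.isomorphisms.iff]
  refine IsZariskiLocalAtTarget.of_iSup_eq_top (P := MorphismProperty.isomorphisms Scheme) U ?_
    (fun v => ?_)
  · rw [eq_top_iff]
    intro y _
    exact TopologicalSpace.Opens.mem_iSup.mpr ⟨y, hvU y⟩
  · show IsIso (g ∣_ U v)
    obtain ⟨x, hx, hxg, hclW, hclU⟩ := exists_generic_preimage g hbij (U v) (hUirr v)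
    haveI : IrreducibleSpace ↥((U v).toScheme) := irreducibleSpace_of_closure_singleton _ hclU
    haveI : IrreducibleSpace ↥((g ⁻¹ᵁ U v).toScheme) :=
      irreducibleSpace_of_closure_singleton _ hclW
    haveI : IsIntegral (U v).toScheme := isIntegral_of_irreducibleSpace_of_isReduced _
    haveI : IsIntegral (g ⁻¹ᵁ U v).toScheme := isIntegral_of_irreducibleSpace_of_isReduced _
    have hgenW : genericPoint ↥((g ⁻¹ᵁ U v).toScheme) = ⟨x, hx⟩ :=
      (genericPoint_spec _).eq (isGenericPoint_def.2 hclW)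
    have hgenU : genericPoint ↥((U v).toScheme) = ⟨g x, hx⟩ :=
      (genericPoint_spec _).eq (isGenericPoint_def.2 hclU)
    refine isIso_of_integral (Y' := (g ⁻¹ᵁ U v).toScheme) (Y := (U v).toScheme) ?_ (g ∣_ U v)
      ?_ ?_
    · intro y
      haveI := (hN y.1).2
      exact IsIntegrallyClosed.of_equiv ((U v).stalkIso y).symm.commRingCatIsoToRingEquiv
    · rw [hgenW, hgenU]
      exact Subtype.ext (morphismRestrict_base_coe g (U v) ⟨x, hx⟩)
    · rw [hgenW]
      exact ((MorphismProperty.isomorphisms _).arrow_mk_iso_iff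
        (morphismRestrictStalkMap g (U v) ⟨x, hx⟩)).2 (hiso x hxg)

end Groth.Agent.Helper4.SN469
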