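import Groth.Prelude.Def_W4stk3decentspacesp2Birat
import Groth.Agent.Helper4.SN468
import Groth.Agent.Helper4.SN469
import Groth.Agent.Helper4.AlgSpLocal
import Groth.Agent.Helper5.AffDesc9
import Groth.Agent.Helper5.AlgSpIso
import Mathlib

/-!
An integral birational morphism from a reduced decent algebraic space onto a normal decent
algebraic space is an isomorphism.
-/

set_option autoImplicit false
universe u
open CategoryTheory CategoryTheory.Limits AlgebraicGeometry Opposite MorphismProperty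

namespace Groth.Agent.Helper4.SN470

open AlgSp Groth.Agent.Helper4.SN461 Groth.Agent.Helper4.SN462 Groth.Agent.Helper4.SN463
  Groth.Agent.Helper4.SN464 Groth.Agent.Helper4.SN465
  Groth.Agent.Helper4.AlgSpPtsDesc Groth.Agent.Helper4.AlgSpLocPFam Groth.Agent.Helper4.AlgSpQC2

variable {S : Scheme.{u}}

/-- Scheme-level data of a birational `h_g`. -/
theorem scheme_birational {W V : Over S} (g : W ⟶ V)
    (hg : W4stk3decentspacesp2.IsBirational ((yon S).map g)) :
    Set.BijOn g.left (genericPoints ↥W.left) (genericPoints ↥V.left) ∧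
      ∀ x ∈ genericPoints ↥W.left, IsIso (g.left.stalkMap x) := by
  have hW : ∀ x : ↥W.left, x ∈ genericPoints ↥W.left ↔
      Points.schemeHomeo W x ∈ genericPoints (Points ((yon S).obj W)) := fun x =>
    Groth.Agent.Helper4.SN460.mem_genericPoints_iff (Points.schemeHomeo W).isOpenEmbedding x
  have hV : ∀ x : ↥V.left, x ∈ genericPoints ↥V.left ↔
      Points.schemeHomeo V x ∈ genericPoints (Points ((yon S).obj V)) := fun x =>
    Groth.Agent.Helper4.SN460.mem_genericPoints_iff (Points.schemeHomeo V).isOpenEmbedding x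
  refine ⟨⟨?_, ?_, ?_⟩, ?_⟩
  · intro x hx
    have := hg.bijOn.mapsTo ((hW x).1 hx)
    rw [Points.map_yon_map_apply] at this
    exact (hV _).2 this
  · intro x₁ hx₁ x₂ hx₂ h12
    have h : Points.map ((yon S).map g) (Points.schemeHomeo W x₁) =
        Points.map ((yon S).map g) (Points.schemeHomeo W x₂) := by
      rw [Points.map_yon_map_apply, Points.map_yon_map_apply]
      exact congrArg _ h12
    exact (Points.schemeHomeo W).injective (hg.bijOn.injOn ((hW x₁).1 hx₁) ((hW x₂).1 hx₂) h)
  · intro v hv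
    obtain ⟨p, hp, hpv⟩ := hg.bijOn.surjOn ((hV v).1 hv)
    obtain ⟨x, rfl⟩ := (Points.schemeHomeo W).surjective p
    refine ⟨x, (hW x).2 hp, ?_⟩
    rw [Points.map_yon_map_apply] at hpv
    exact (Points.schemeHomeo V).injective hpv
  · intro x hx
    obtain ⟨U', V', a, b₀, g₀, u, ha, hb₀, comm, hu, hiso₀⟩ :=
      hg.stalkIso _ ((hW x).1 hx)
    exact isIso_stalkMap_of_charts ((yon S).map g) a b₀ g₀ (𝟙 _) (𝟙 _) g ha hb₀
      (repWith_id _ W) (repWith_id _ V) comm (by rw [Category.id_comp, Category.comp_id]) u x hu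
      hiso₀

/-- The local statement over a normal affine étale chart. -/
theorem isIso_chart {X Y : Space S} (f : X ⟶ Y)
    (hX : IsDecent X.obj) (hY : IsDecent Y.obj)
    (hXf : (irreducibleComponents (Points X.obj)).Finite)
    (hYf : (irreducibleComponents (Points Y.obj)).Finite)
    (hi : IsIntegralMor f.hom) (hf : W4stk3decentspacesp2.IsBirational f.hom)
    (hXr : EtaleLocally (fun T => IsReduced T) X.obj)
    {V W : Over S} (hVaff : IsAffine V.left) (b : (yon S).obj V ⟶ Y.obj) (hb : RepWith @Etale b)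
    (hN : ∀ v : ↥V.left, IsDomain ↥(V.left.presheaf.stalk v) ∧
      IsIntegrallyClosed ↥(V.left.presheaf.stalk v))
    (fst : (yon S).obj W ⟶ X.obj) (g : W ⟶ V) (sq : IsPullback fst ((yon S).map g) f.hom b) :
    IsIso g.left := by
  obtain ⟨W', g', fst', sq', hW'aff, hint⟩ := hi hVaff b
  haveI : IsAffine V.left := hVaff
  obtain ⟨-, -, hVfin, hbir⟩ :=
    Groth.Agent.Helper4.SN468.main f hX hY hXf hYf hf b hb fst' ((yon S).map g') sq'
  obtain ⟨hbij, hiso⟩ := scheme_birational g' hbir
  have hfst' : RepWith @Etale fst' := (RepWith (S := S) @Etale).of_isPullback sq'.flip hb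
  haveI : IsReduced W'.left := isReduced_chart X.property hXr fst' hfst'
  haveI : IsIntegralHom g'.left := hint
  have hVf : (irreducibleComponents ↥V.left).Finite :=
    Groth.Agent.Helper5.DegStr.finite_irreducibleComponents_of_isOpenEmbedding
      (Points.schemeHomeo V) (Points.schemeHomeo V).isOpenEmbedding hVfin
  have hg' : IsIso g'.left :=
    Groth.Agent.Helper4.SN469.isIso_of_integral_birational_normal g'.left hN hVf hbij hiso
  -- compare the two pullbacks
  let e : (yon S).obj W ≅ (yon S).obj W' := sq.isoIsPullback _ _ sq'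
  have he : e.hom ≫ (yon S).map g' = (yon S).map g := sq.isoIsPullback_hom_snd _ _ sq'
  obtain ⟨ε, hε⟩ := (yon S).map_surjective e.hom
  have hεg : ε ≫ g' = g := by
    apply (yon S).map_injective
    rw [Functor.map_comp, hε]; exact he
  haveI : IsIso ((yon S).map ε) := by rw [hε]; infer_instance
  haveI : IsIso ε := isIso_of_fully_faithful (yon S) ε
  have : g.left = ε.left ≫ g'.left := by rw [← hεg]; rfl
  rw [this]
  haveI : IsIso ε.left := inferInstanceAs (IsIso ((Over.forget S).map ε))
  exact IsIso.comp_isIso' inferInstance hg'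

set_option backward.isDefEq.respectTransparency false in
theorem main {X Y : Space S} (f : X ⟶ Y)
    (hX : IsDecent X.obj) (hY : IsDecent Y.obj)
    (hXf : (irreducibleComponents (Points X.obj)).Finite)
    (hYf : (irreducibleComponents (Points Y.obj)).Finite)
    (hi : IsIntegralMor f.hom) (hf : W4stk3decentspacesp2.IsBirational f.hom)
    (hYn : EtaleLocally (fun T => ∀ t : ↥T, IsDomain ↥(T.presheaf.stalk t) ∧
      IsIntegrallyClosed ↥(T.presheaf.stalk t)) Y.obj)
    (hXr : EtaleLocally (fun T => IsReduced T) X.obj) : IsIso f.hom := by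
  obtain ⟨U₀, p₀, hp₀e, hp₀s, hU₀n⟩ := hYn
  have haff : IsAffineMor f.hom := fun Z hZ g => by
    obtain ⟨W, i, fst, sq, hW, -⟩ := hi hZ g
    exact ⟨W, i, fst, sq, hW⟩
  have hrep : Representable f.hom :=
    Groth.Agent.Helper5.AffDesc.representable_of_isAffineMor haff
  have sq₀ : IsPullback (hrep.fst p₀) ((yon S).map (hrep.snd p₀)) f.hom p₀ := hrep.isPullback p₀
  have hiso_i : IsIso (hrep.snd p₀).left := by
    rw [← MorphismProperty.isomorphisms.iff,
      IsZariskiLocalAtTarget.iff_of_iSup_eq_top (P := MorphismProperty.isomorphisms Scheme.{u}) _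
        (iSup_affineOpens_eq_top U₀.left)]
    intro O
    let TU : Over S := Over.mk (O.1.ι ≫ U₀.hom)
    let VU : Over S := Over.mk (((hrep.snd p₀).left ⁻¹ᵁ O.1).ι ≫ (hrep.pullback p₀).hom)
    let ιT : TU ⟶ U₀ := Over.homMk O.1.ι rfl
    let ιV : VU ⟶ hrep.pullback p₀ := Over.homMk ((hrep.snd p₀).left ⁻¹ᵁ O.1).ι rfl
    have hres : ((hrep.snd p₀).left ⁻¹ᵁ O.1).ι ≫ (hrep.snd p₀).left =
        ((hrep.snd p₀).left ∣_ O.1) ≫ O.1.ι :=
      (isPullback_morphismRestrict (hrep.snd p₀).left O.1).w.symm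
    let sU : VU ⟶ TU := Over.homMk ((hrep.snd p₀).left ∣_ O.1) (by
      show ((hrep.snd p₀).left ∣_ O.1) ≫ O.1.ι ≫ U₀.hom =
        ((hrep.snd p₀).left ⁻¹ᵁ O.1).ι ≫ (hrep.pullback p₀).hom
      rw [← Category.assoc, ← hres, Category.assoc, CategoryTheory.Over.w])
    have hpbS : IsPullback ιV sU (hrep.snd p₀) ιT :=
      IsPullback.of_map (Over.forget S) (by ext; exact hres)
        (isPullback_morphismRestrict (hrep.snd p₀).left O.1).flip
    have hpb : IsPullback ((yon S).map ιV ≫ hrep.fst p₀) ((yon S).map sU) f.hom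
        ((yon S).map ιT ≫ p₀) := (hpbS.map (yon S)).paste_horiz sq₀
    have hb₀ : RepWith @Etale ((yon S).map ιT ≫ p₀) :=
      Groth.Agent.Helper4.AlgSpSrc.repWith_comp @Etale
        ((repWith_yon_map_iff _ _).2 (inferInstance : Etale (Scheme.Opens.ι O.1))) hp₀e
    have hN : ∀ v : ↥TU.left, IsDomain ↥(TU.left.presheaf.stalk v) ∧
        IsIntegrallyClosed ↥(TU.left.presheaf.stalk v) := by
      intro v
      obtain ⟨h1, h2⟩ := hU₀n v.1
      have e := (O.1.stalkIso v).symm.commRingCatIsoToRingEquiv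
      exact ⟨e.toMulEquiv.isDomain_iff.1 h1, IsIntegrallyClosed.of_equiv e⟩
    have hTUaff : IsAffine TU.left := O.2
    exact isIso_chart f hX hY hXf hYf hi hf hXr hTUaff ((yon S).map ιT ≫ p₀) hb₀ hN
      ((yon S).map ιV ≫ hrep.fst p₀) sU hpb
  have h𝒫 : RepWith (MorphismProperty.isomorphisms Scheme.{u}) ((yon S).map (hrep.snd p₀)) :=
    (repWith_yon_map_iff _ _).2 hiso_i
  have hfin := Groth.Agent.Helper5.AffDesc.repWith_of_etale_chart
    (MorphismProperty.isomorphisms Scheme.{u})
    (fun _ _ g hg => by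
      haveI : IsIso g := hg
      infer_instance)
    f.hom U₀ p₀ hp₀e hp₀s _ _ sq₀ h𝒫
  exact Groth.Agent.Helper5.AlgSpIso.isIso_of_repWith_iso f.hom hfin

end Groth.Agent.Helper4.SN470
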