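import Groth.Prelude.Def_AlgSp4
import Groth.Agent.Helper5.AffDesc9
import Groth.Agent.Helper4.AlgSpLocal
import Groth.Agent.Lead.LimExists
import Mathlib

/-!
Chart systems for cofiltered limits of sheaves with affine transition morphisms: a chart
`h_{U₀} ⟶ D i₀` pulls back to a cofiltered system of schemes `U_j` affine over `U₀`, whose limit
`U∞` represents the pullback of the chart to the limit sheaf.
-/

set_option autoImplicit false
universe u
open CategoryTheory CategoryTheory.Limits AlgebraicGeometry Opposite MorphismProperty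

namespace Groth.Agent.Helper4.SN471

open AlgSp

variable {S : Scheme.{u}}

/-- An affine morphism of sheaves is representable by affine morphisms of schemes. -/
theorem repWith_isAffineHom_of_isAffineMor {F G : Sp S} (f : F ⟶ G) (hf : IsAffineMor f) :
    RepWith @IsAffineHom f := by
  apply Groth.Agent.Helper4.AlgSpLocal.repWith_of_affine @IsAffineHom f
    (Groth.Agent.Helper5.AffDesc.representable_of_isAffineMor hf)
  intro T E ξ c e hT sq
  obtain ⟨W, i, fst, sqW, hW⟩ := hf hT ξ
  let ε : (yon S).obj E ≅ (yon S).obj W := sq.isoIsPullback _ _ sqW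
  obtain ⟨ε', hε'⟩ := (yon S).map_surjective ε.hom
  haveI : IsIso ((yon S).map ε') := by rw [hε']; infer_instance
  haveI : IsIso ε' := isIso_of_fully_faithful (yon S) ε'
  haveI : IsIso ε'.left := inferInstanceAs (IsIso ((Over.forget S).map ε'))
  haveI : IsAffine W.left := hW
  haveI : IsAffine T.left := hT
  haveI : IsAffine E.left := IsAffine.of_isIso ε'.left
  show IsAffineHom e.left
  infer_instance

section System

variable {I : Type u} [SmallCategory I] (D : I ⥤ Sp S)
  (hDa : ∀ (i j : I) (φ : i ⟶ j), IsAffineMor (D.map φ))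
  (i₀ : I) {U₀ : Over S} (a : (yon S).obj U₀ ⟶ D.obj i₀)

include hDa in
theorem rep (j : Over i₀) : Representable (D.map j.hom) :=
  Groth.Agent.Helper5.AffDesc.representable_of_isAffineMor (hDa _ _ j.hom)

/-- The pulled back chart at stage `j`. -/
noncomputable def Uobj (j : Over i₀) : Over S := (rep D hDa i₀ j).pullback a

noncomputable def Ufst (j : Over i₀) : (yon S).obj (Uobj D hDa i₀ a j) ⟶ D.obj j.left :=
  (rep D hDa i₀ j).fst a

noncomputable def Usnd (j : Over i₀) : Uobj D hDa i₀ a j ⟶ U₀ := (rep D hDa i₀ j).snd a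

theorem Usq (j : Over i₀) : IsPullback (Ufst D hDa i₀ a j) ((yon S).map (Usnd D hDa i₀ a j))
    (D.map j.hom) a := (rep D hDa i₀ j).isPullback a

theorem Umap_aux {j j' : Over i₀} (m : j ⟶ j') :
    (Ufst D hDa i₀ a j ≫ D.map m.left) ≫ D.map j'.hom = (yon S).map (Usnd D hDa i₀ a j) ≫ a := by
  rw [Category.assoc, ← D.map_comp, Over.w m]
  exact (Usq D hDa i₀ a j).w

noncomputable def Umap {j j' : Over i₀} (m : j ⟶ j') : Uobj D hDa i₀ a j ⟶ Uobj D hDa i₀ a j' :=
  (yon S).preimage ((Usq D hDa i₀ a j').lift (Ufst D hDa i₀ a j ≫ D.map m.left)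
    ((yon S).map (Usnd D hDa i₀ a j)) (Umap_aux D hDa i₀ a m))

theorem yon_Umap_fst {j j' : Over i₀} (m : j ⟶ j') :
    (yon S).map (Umap D hDa i₀ a m) ≫ Ufst D hDa i₀ a j' = Ufst D hDa i₀ a j ≫ D.map m.left := by
  rw [Umap, Functor.map_preimage]
  exact (Usq D hDa i₀ a j').lift_fst _ _ _

theorem Umap_snd {j j' : Over i₀} (m : j ⟶ j') :
    Umap D hDa i₀ a m ≫ Usnd D hDa i₀ a j' = Usnd D hDa i₀ a j := by
  apply (yon S).map_injective
  rw [Functor.map_comp, Umap, Functor.map_preimage]
  exact (Usq D hDa i₀ a j').lift_snd _ _ _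

/-- The system of pulled back charts. -/
noncomputable def Usys : Over i₀ ⥤ Over S where
  obj j := Uobj D hDa i₀ a j
  map m := Umap D hDa i₀ a m
  map_id j := by
    apply (yon S).map_injective
    apply (Usq D hDa i₀ a j).hom_ext
    · rw [yon_Umap_fst, CategoryTheory.Functor.map_id, Category.id_comp]
      show _ ≫ D.map (𝟙 j.left) = _
      rw [CategoryTheory.Functor.map_id, Category.comp_id]
    · rw [← Functor.map_comp, Umap_snd, CategoryTheory.Functor.map_id, Category.id_comp]
  map_comp {j j' j''} m m' := by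
    apply (yon S).map_injective
    apply (Usq D hDa i₀ a j'').hom_ext
    · rw [yon_Umap_fst, Functor.map_comp, Category.assoc, yon_Umap_fst, ← Category.assoc,
        yon_Umap_fst, Category.assoc, ← D.map_comp]
      rfl
    · rw [← Functor.map_comp, Umap_snd, ← Functor.map_comp, Category.assoc, Umap_snd, Umap_snd]

theorem isAffineHom_Usnd (j : Over i₀) : IsAffineHom (Usnd D hDa i₀ a j).left :=
  (repWith_isAffineHom_of_isAffineMor _ (hDa _ _ j.hom)).property _ _ _ (Usq D hDa i₀ a j)

theorem isAffineHom_Umap {j j' : Over i₀} (m : j ⟶ j') :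
    IsAffineHom (Umap D hDa i₀ a m).left := by
  haveI := isAffineHom_Usnd D hDa i₀ a j
  haveI := isAffineHom_Usnd D hDa i₀ a j'
  have h : (Umap D hDa i₀ a m).left ≫ (Usnd D hDa i₀ a j').left = (Usnd D hDa i₀ a j).left := by
    rw [← Over.comp_left, Umap_snd]
  haveI : IsAffineHom ((Umap D hDa i₀ a m).left ≫ (Usnd D hDa i₀ a j').left) := by
    rw [h]; infer_instance
  exact IsAffineHom.of_comp (Umap D hDa i₀ a m).left (Usnd D hDa i₀ a j').left

end System

section Limit

variable {I : Type u} [SmallCategory I] [IsCofiltered I] (D : I ⥤ Sp S)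
  (hDa : ∀ (i j : I) (φ : i ⟶ j), IsAffineMor (D.map φ))
  (c : Cone D) (hc : IsLimit c)
  (i₀ : I) {U₀ : Over S} (a : (yon S).obj U₀ ⟶ D.obj i₀)

/-- The terminal object of `Over i₀`. -/
def jtop : Over i₀ := Over.mk (𝟙 i₀)

/-- The morphism to the terminal object. -/
def toTop (j : Over i₀) : j ⟶ jtop i₀ := Over.homMk j.hom (by simp [jtop])

include hc in
set_option backward.isDefEq.respectTransparency false in
theorem exists_chart_limit :
    ∃ (cU : Cone (Usys D hDa i₀ a)) (_ : IsLimit cU) (p : (yon S).obj cU.pt ⟶ c.pt)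
      (q : cU.pt ⟶ U₀),
      IsPullback p ((yon S).map q) (c.π.app i₀) a ∧
      (∀ j : Over i₀, IsAffineHom (cU.π.app j).left) ∧
      (∀ j : Over i₀, p ≫ c.π.app j.left = (yon S).map (cU.π.app j) ≫ Ufst D hDa i₀ a j) ∧
      (∀ j : Over i₀, cU.π.app j ≫ Usnd D hDa i₀ a j = q) := by
  let D' : Over i₀ ⥤ Scheme.{u} := Usys D hDa i₀ a ⋙ Over.forget S
  haveI : ∀ (j j' : Over i₀) (m : j ⟶ j'), IsAffineHom (D'.map m) := fun j j' m =>
    isAffineHom_Umap D hDa i₀ a m
  obtain ⟨c', hc', haff⟩ := Groth.Agent.Lead.LimExists.main D'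
  -- the cone in `Over S`
  have hw : ∀ j : Over i₀, c'.π.app j ≫ (Uobj D hDa i₀ a j).hom =
      c'.π.app (jtop i₀) ≫ (Uobj D hDa i₀ a (jtop i₀)).hom := by
    intro j
    have h1 : c'.π.app j ≫ (Umap D hDa i₀ a (toTop i₀ j)).left = c'.π.app (jtop i₀) :=
      c'.w (toTop i₀ j)
    rw [← h1, Category.assoc]
    congr 1
    exact (Over.w (Umap D hDa i₀ a (toTop i₀ j))).symm
  let Uinf : Over S := Over.mk (c'.π.app (jtop i₀) ≫ (Uobj D hDa i₀ a (jtop i₀)).hom)
  let cU : Cone (Usys D hDa i₀ a) :=
    { pt := Uinf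
      π :=
        { app := fun j => Over.homMk (c'.π.app j) (hw j)
          naturality := fun j j' m => by
            ext
            simp only [Functor.const_obj_obj, Functor.const_obj_map, Category.id_comp,
              Over.comp_left, Over.homMk_left]
            exact (c'.w m).symm } }
  have hcU : IsLimit cU :=
    { lift := fun s => Over.homMk (hc'.lift ((Over.forget S).mapCone s)) (by
        show hc'.lift ((Over.forget S).mapCone s) ≫ c'.π.app (jtop i₀) ≫
          (Uobj D hDa i₀ a (jtop i₀)).hom = s.pt.hom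
        rw [← Category.assoc, hc'.fac]
        exact Over.w (s.π.app (jtop i₀)))
      fac := fun s j => by
        ext
        exact hc'.fac ((Over.forget S).mapCone s) j
      uniq := fun s m hm => by
        ext
        refine hc'.uniq ((Over.forget S).mapCone s) m.left (fun j => ?_)
        have := congrArg (fun t => t.left) (hm j)
        exact this }
  have hcY : IsLimit ((yon S).mapCone cU) := isLimitOfPreserves (yon S) hcU
  have hcJ : IsLimit (c.whisker (Over.forget i₀)) :=
    (Functor.Initial.isLimitWhiskerEquiv (Over.forget i₀) c).symm hc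
  let sP : Cone (Over.forget i₀ ⋙ D) :=
    { pt := (yon S).obj cU.pt
      π :=
        { app := fun j => (yon S).map (cU.π.app j) ≫ Ufst D hDa i₀ a j
          naturality := fun j j' m => by
            simp only [Functor.const_obj_obj, Functor.const_obj_map, Category.id_comp,
              Functor.comp_obj, Functor.comp_map, Over.forget_obj, Over.forget_map]
            rw [Category.assoc, ← yon_Umap_fst, ← Category.assoc, ← Functor.map_comp]
            congr 2
            exact (cU.w m).symm } }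
  let p : (yon S).obj cU.pt ⟶ c.pt := hcJ.lift sP
  have hp : ∀ j : Over i₀, p ≫ c.π.app j.left =
      (yon S).map (cU.π.app j) ≫ Ufst D hDa i₀ a j := fun j => hcJ.fac sP j
  let q : cU.pt ⟶ U₀ := cU.π.app (jtop i₀) ≫ Usnd D hDa i₀ a (jtop i₀)
  have hq : ∀ j : Over i₀, cU.π.app j ≫ Usnd D hDa i₀ a j = q := by
    intro j
    show _ = cU.π.app (jtop i₀) ≫ Usnd D hDa i₀ a (jtop i₀)
    rw [← cU.w (toTop i₀ j), Category.assoc]
    congr 1
    exact (Umap_snd D hDa i₀ a (toTop i₀ j)).symm
  have hDtop : D.map (jtop i₀).hom = 𝟙 _ := D.map_id i₀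
  have w : p ≫ c.π.app i₀ = (yon S).map q ≫ a := by
    have h1 := hp (jtop i₀)
    have h2 := (Usq D hDa i₀ a (jtop i₀)).w
    rw [hDtop, Category.comp_id] at h2
    show p ≫ c.π.app (jtop i₀).left = _
    rw [h1, h2, ← Category.assoc, ← Functor.map_comp]
  refine ⟨cU, hcU, p, q, ?_, fun j => haff j, hp, hq⟩
  -- the pullback property
  have hx : ∀ (s : PullbackCone (c.π.app i₀) a) (j : Over i₀),
      (s.fst ≫ c.π.app j.left) ≫ D.map j.hom = s.snd ≫ a := by
    intro s j
    rw [Category.assoc, c.w j.hom]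
    exact s.condition
  let l : ∀ (s : PullbackCone (c.π.app i₀) a) (j : Over i₀),
      s.pt ⟶ (yon S).obj (Uobj D hDa i₀ a j) := fun s j =>
    (Usq D hDa i₀ a j).lift (s.fst ≫ c.π.app j.left) s.snd (hx s j)
  have hl1 : ∀ s j, l s j ≫ Ufst D hDa i₀ a j = s.fst ≫ c.π.app j.left := fun s j =>
    (Usq D hDa i₀ a j).lift_fst _ _ _
  have hl2 : ∀ s j, l s j ≫ (yon S).map (Usnd D hDa i₀ a j) = s.snd := fun s j =>
    (Usq D hDa i₀ a j).lift_snd _ _ _
  let sQ : ∀ s : PullbackCone (c.π.app i₀) a, Cone (Usys D hDa i₀ a ⋙ yon S) := fun s =>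
    { pt := s.pt
      π :=
        { app := fun j => l s j
          naturality := fun j j' m => by
            simp only [Functor.const_obj_obj, Functor.const_obj_map, Category.id_comp,
              Functor.comp_obj, Functor.comp_map]
            apply (Usq D hDa i₀ a j').hom_ext
            · rw [hl1, Category.assoc]
              show _ = l s j ≫ (yon S).map (Umap D hDa i₀ a m) ≫ _
              rw [yon_Umap_fst, ← Category.assoc, hl1, Category.assoc, c.w]
            · rw [hl2, Category.assoc]
              show _ = l s j ≫ (yon S).map (Umap D hDa i₀ a m) ≫ _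
              rw [← Functor.map_comp, Umap_snd, hl2] } }
  have hlift : ∀ s j, hcY.lift (sQ s) ≫ (yon S).map (cU.π.app j) = l s j := fun s j =>
    hcY.fac (sQ s) j
  refine IsPullback.mk ⟨w⟩ ⟨PullbackCone.IsLimit.mk w (fun s => hcY.lift (sQ s)) ?_ ?_ ?_⟩
  · intro s
    apply hcJ.hom_ext
    intro j
    show (hcY.lift (sQ s) ≫ p) ≫ c.π.app j.left = s.fst ≫ c.π.app j.left
    rw [Category.assoc, hp, ← Category.assoc, hlift, hl1]
  · intro s
    show hcY.lift (sQ s) ≫ (yon S).map (cU.π.app (jtop i₀) ≫ Usnd D hDa i₀ a (jtop i₀)) = s.snd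
    rw [Functor.map_comp, ← Category.assoc, hlift, hl2]
  · intro s m hm1 hm2
    apply hcY.hom_ext
    intro j
    show m ≫ (yon S).map (cU.π.app j) = hcY.lift (sQ s) ≫ (yon S).map (cU.π.app j)
    rw [hlift]
    apply (Usq D hDa i₀ a j).hom_ext
    · rw [hl1, Category.assoc, ← hp, ← Category.assoc, hm1]
    · rw [hl2, Category.assoc, ← Functor.map_comp, hq, hm2]

end Limit

end Groth.Agent.Helper4.SN471
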