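import Groth.Prelude.Def_AlgSpRep
import Groth.Agent.Helper4.SN471
import Groth.Agent.Helper4.RepBySp2
import Mathlib

/-!
A cofiltered limit of algebraic spaces with affine transition morphisms is an algebraic space with
affine projections.
-/

set_option autoImplicit false
universe u
open CategoryTheory CategoryTheory.Limits AlgebraicGeometry Opposite MorphismProperty

namespace Groth.Agent.Helper4.SN472

open AlgSp Groth.Agent.Helper4.SN471

variable {S : Scheme.{u}}

/-- A representable morphism to an algebraic space has an algebraic space as source. -/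
theorem isAlgSpace_of_representable {F G : Sp S} (f : F ⟶ G) (hf : Representable f)
    (hG : IsAlgSpace G) : IsAlgSpace F := by
  apply Groth.Agent.Helper4.RepBySp2.isAlgSpace_of_repBySp f _ hG
  rw [repBySp_hom_iff]
  intro U ξ F' fst snd sq
  have sq' : IsPullback (hf.fst ξ) ((yon S).map (hf.snd ξ)) f ξ := hf.isPullback ξ
  exact (IsAlgSpace.yon_obj _).of_iso (sq'.isoIsPullback _ _ sq)

variable {I : Type u} [SmallCategory I] [IsCofiltered I] (D : I ⥤ Sp S)
  (hDa : ∀ (i j : I) (φ : i ⟶ j), IsAffineMor (D.map φ))
  (c : Cone D) (hc : IsLimit c)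

include hDa hc in
theorem isAffineMor_π (i : I) : IsAffineMor (c.π.app i) := by
  intro Z hZ g
  obtain ⟨cU, hcU, p, q, sq, haff, -, hq⟩ := exists_chart_limit D hDa c hc i g
  refine ⟨cU.pt, q, p, sq, ?_⟩
  haveI : IsAffine Z.left := hZ
  have h1 : IsAffineHom (cU.π.app (jtop i)).left := haff (jtop i)
  have h2 := isAffineHom_Usnd D hDa i g (jtop i)
  have : IsAffineHom q.left := by
    rw [← hq (jtop i), Over.comp_left]
    exact MorphismProperty.comp_mem (W := @IsAffineHom) _ _ h1 h2
  exact isAffine_of_isAffineHom q.left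

include hDa hc in
theorem isAlgSpace_pt (hD : ∀ i, IsAlgSpace (D.obj i)) : IsAlgSpace c.pt := by
  obtain ⟨i₀⟩ := IsCofiltered.nonempty (C := I)
  exact isAlgSpace_of_representable (c.π.app i₀)
    (Groth.Agent.Helper5.AffDesc.representable_of_isAffineMor (isAffineMor_π D hDa c hc i₀))
    (hD i₀)

end Groth.Agent.Helper4.SN472
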