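import Groth.Prelude.Def_AlgSpRep
import Groth.Agent.Helper4.SN472
import Groth.Agent.Helper5.AlgSpOpen
import Mathlib

/-!
Cofiltered limits of algebraic spaces with affine transitions: nonemptiness.
-/

set_option autoImplicit false
universe u
open CategoryTheory CategoryTheory.Limits AlgebraicGeometry Opposite MorphismProperty

namespace Groth.Agent.Helper4.SN473

open AlgSp Groth.Agent.Helper4.SN471

variable {S : Scheme.{u}}

variable {I : Type u} [SmallCategory I] [IsCofiltered I] (D : I ⥤ Sp S)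
  (hDa : ∀ (i j : I) (φ : i ⟶ j), IsAffineMor (D.map φ))
  (c : Cone D) (hc : IsLimit c)

attribute [local instance] IsCofiltered.isConnected in
include hc in
/-- The chart limit, with the underlying cone of schemes a limit cone as well. -/
theorem exists_chart_limit' (i₀ : I) {U₀ : Over S} (a : (yon S).obj U₀ ⟶ D.obj i₀) :
    ∃ (cU : Cone (Usys D hDa i₀ a)) (_ : IsLimit cU)
      (_ : IsLimit ((Over.forget S).mapCone cU)) (p : (yon S).obj cU.pt ⟶ c.pt)
      (q : cU.pt ⟶ U₀),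
      IsPullback p ((yon S).map q) (c.π.app i₀) a ∧
      (∀ j : Over i₀, IsAffineHom (cU.π.app j).left) ∧
      (∀ j : Over i₀, p ≫ c.π.app j.left = (yon S).map (cU.π.app j) ≫ Ufst D hDa i₀ a j) ∧
      (∀ j : Over i₀, cU.π.app j ≫ Usnd D hDa i₀ a j = q) := by
  obtain ⟨cU, hcU, p, q, h1, h2, h3, h4⟩ := exists_chart_limit D hDa c hc i₀ a
  exact ⟨cU, hcU, isLimitOfPreserves (Over.forget S) hcU, p, q, h1, h2, h3, h4⟩

include hDa hc in
theorem nonempty_points (hqc : ∀ i, IsQuasiCompactSp (D.obj i))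
    (hne : ∀ i, Nonempty (Points (D.obj i))) : Nonempty (Points c.pt) := by
  obtain ⟨i₀⟩ := IsCofiltered.nonempty (C := I)
  obtain ⟨U₀, p₀, hp₀e, hp₀s, hU₀c⟩ := hqc i₀
  obtain ⟨cU, hcU, hcU', p, q, sq, haff, hp, hq⟩ := exists_chart_limit' D hDa c hc i₀ p₀
  let D' : Over i₀ ⥤ Scheme.{u} := Usys D hDa i₀ p₀ ⋙ Over.forget S
  haveI : ∀ {j j' : Over i₀} (m : j ⟶ j'), IsAffineHom (D'.map m) := fun m =>
    isAffineHom_Umap D hDa i₀ p₀ m
  haveI : CompactSpace ↥U₀.left := hU₀c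
  haveI : ∀ j : Over i₀, CompactSpace ↥(D'.obj j) := fun j => by
    have h : IsAffineHom (Usnd D hDa i₀ p₀ j).left := isAffineHom_Usnd D hDa i₀ p₀ j
    haveI : QuasiCompact (Usnd D hDa i₀ p₀ j).left := inferInstance
    have h2 : CompactSpace ↥(Uobj D hDa i₀ p₀ j).left :=
      QuasiCompact.compactSpace_of_compactSpace (Usnd D hDa i₀ p₀ j).left
    exact h2
  haveI : ∀ j : Over i₀, Nonempty ↥(D'.obj j) := fun j => by
    obtain ⟨x⟩ := hne j.left
    have hs : RepWith @Surjective (Ufst D hDa i₀ p₀ j) :=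
      (RepWith (S := S) @Surjective).of_isPullback (Usq D hDa i₀ p₀ j).flip hp₀s
    obtain ⟨w, -⟩ := Groth.Agent.Helper5.AlgSpOpen.ofPt_surjective_of_repWith _ hs x
    exact ⟨w⟩
  have hcU'' : IsLimit ((Over.forget S).mapCone cU) := hcU'
  obtain ⟨z⟩ : Nonempty ↥((Over.forget S).mapCone cU).pt :=
    Scheme.nonempty_of_isLimit D' ((Over.forget S).mapCone cU) hcU''
  exact ⟨Points.ofPt p z⟩

end Groth.Agent.Helper4.SN473
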