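import Groth.Prelude.Def_AlgSpRep
import Groth.Agent.Helper4.SN473
import Groth.Agent.Helper4.SN464
import Mathlib

/-!
Cofiltered limits of reduced schemes / algebraic spaces with affine transitions are reduced.
-/

set_option autoImplicit false
universe u
open CategoryTheory CategoryTheory.Limits AlgebraicGeometry Opposite MorphismProperty

namespace Groth.Agent.Helper4.SN474

section Sch

variable {I : Type u} [Category.{u} I] [IsCofiltered I] (D : I ⥤ Scheme.{u})
  (c : Cone D) (hc : IsLimit c)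

include hc in
/-- Affine case: a cofiltered limit of reduced affine schemes is reduced. -/
theorem isReduced_of_isLimit_affine [∀ i, IsAffine (D.obj i)] [∀ i, IsReduced (D.obj i)] :
    IsReduced c.pt := by
  haveI : IsAffine c.pt := Scheme.isAffine_of_isLimit c hc
  haveI : _root_.IsReduced Γ(c.pt, ⊤) := by
    refine ⟨fun r hr => ?_⟩
    obtain ⟨n, hn⟩ := hr
    have : ∀ i, IsAffine (D.op.obj i).unop := by dsimp; infer_instance
    obtain ⟨⟨j⟩, s0, hs⟩ := Types.jointly_surjective_of_isColimit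
      (isColimitOfPreserves (Scheme.Γ ⋙ forget _) hc.op) r
    obtain ⟨s, rfl⟩ : ∃ s : Γ(D.obj j, ⊤), s = s0 := ⟨s0, rfl⟩
    have hs' : (c.π.app j).appTop s = r := hs
    have h0 : (c.π.app j).appTop (s ^ n) = 0 := by
      rw [map_pow, hs', hn]
    obtain ⟨k, f, hk⟩ := exists_appTop_map_eq_zero_of_isAffine_of_isLimit D c hc j (s ^ n) h0
    rw [map_pow] at hk
    have hk0 : (D.map f).appTop s = 0 := IsNilpotent.eq_zero ⟨n, hk⟩
    have : r = (c.π.app k).appTop ((D.map f).appTop s) := by
      rw [← hs']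
      have e : c.π.app j = c.π.app k ≫ D.map f := (c.w f).symm
      rw [e, Scheme.Hom.comp_appTop]
      rfl
    rw [this, hk0, map_zero]
  exact isReduced_of_isAffine_isReduced c.pt

include hc in
/-- A cofiltered limit of reduced schemes with affine transition maps is reduced. -/
theorem isReduced_of_isLimit [∀ {i j} (f : i ⟶ j), IsAffineHom (D.map f)]
    [∀ i, IsReduced (D.obj i)] : IsReduced c.pt := by
  obtain ⟨i⟩ := IsCofiltered.nonempty (C := I)
  let W : (D.obj i).affineOpens → c.pt.Opens := fun V => c.π.app i ⁻¹ᵁ V.1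
  have hW : TopologicalSpace.IsOpenCover W := by
    rw [TopologicalSpace.IsOpenCover, eq_top_iff]
    intro x _
    have hx : (c.π.app i x) ∈ (⊤ : (D.obj i).Opens) := trivial
    rw [← iSup_affineOpens_eq_top (D.obj i), TopologicalSpace.Opens.mem_iSup] at hx
    obtain ⟨V, hV⟩ := hx
    exact TopologicalSpace.Opens.mem_iSup.2 ⟨V, hV⟩
  haveI : ∀ V, IsReduced ((c.pt.openCoverOfIsOpenCover W hW).X V) := by
    intro V
    have (j : _) : IsAffine ((opensDiagram D i V.1).obj j) := V.2.preimage _
    have (j : _) : IsReduced ((opensDiagram D i V.1).obj j) := by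
      dsimp [opensDiagram]; infer_instance
    exact isReduced_of_isLimit_affine _ _ (isLimitOpensCone D c hc i V.1)
  exact IsReduced.of_openCover _ (c.pt.openCoverOfIsOpenCover W hW)

end Sch

section Sp

open AlgSp Groth.Agent.Helper4.SN471 Groth.Agent.Helper4.SN473

variable {S : Scheme.{u}}

variable {I : Type u} [SmallCategory I] [IsCofiltered I] (D : I ⥤ Sp S)
  (hDa : ∀ (i j : I) (φ : i ⟶ j), IsAffineMor (D.map φ))
  (c : Cone D) (hc : IsLimit c)

include hDa hc in
theorem isReducedSp_pt (hD : ∀ i, IsAlgSpace (D.obj i)) (hred : ∀ i, IsReducedSp (D.obj i)) :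
    IsReducedSp c.pt := by
  obtain ⟨i₀⟩ := IsCofiltered.nonempty (C := I)
  obtain ⟨U₀, p₀, hp₀e, hp₀s, -⟩ := hred i₀
  obtain ⟨cU, hcU, hcU', p, q, sq, haff, hp, hq⟩ := exists_chart_limit' D hDa c hc i₀ p₀
  let D' : Over i₀ ⥤ Scheme.{u} := Usys D hDa i₀ p₀ ⋙ Over.forget S
  haveI : ∀ {j j' : Over i₀} (m : j ⟶ j'), IsAffineHom (D'.map m) := fun m =>
    isAffineHom_Umap D hDa i₀ p₀ m
  haveI : ∀ j : Over i₀, IsReduced (D'.obj j) := fun j => by
    have he : RepWith @Etale (Ufst D hDa i₀ p₀ j) :=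
      (RepWith (S := S) @Etale).of_isPullback (Usq D hDa i₀ p₀ j).flip hp₀e
    have h2 : IsReduced (Uobj D hDa i₀ p₀ j).left :=
      Groth.Agent.Helper4.SN464.isReduced_chart (hD j.left) (hred j.left) _ he
    exact h2
  have hcU'' : IsLimit ((Over.forget S).mapCone cU) := hcU'
  have hr : IsReduced ((Over.forget S).mapCone cU).pt :=
    isReduced_of_isLimit D' ((Over.forget S).mapCone cU) hcU''
  refine ⟨cU.pt, p, (RepWith (S := S) @Etale).of_isPullback sq.flip hp₀e,
    (RepWith (S := S) @Surjective).of_isPullback sq.flip hp₀s, hr⟩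

end Sp

end Groth.Agent.Helper4.SN474
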