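import Groth.Prelude.Def_AlgSp4
import Groth.Agent.Helper4.SN474
import Mathlib

/-!
Pullback systems: for a morphism of cofiltered systems of sheaves `τ : DX ⟶ DY` with representable
components and a cone over `DY` with vertex a scheme `T`, the pullbacks `Z_i = X_i ×_{Y_i} T` form
a system of schemes over `T`; if its transition maps are affine, its scheme limit represents
`lim X_i ×_{lim Y_i} T`.
-/

set_option autoImplicit false
universe u
open CategoryTheory CategoryTheory.Limits AlgebraicGeometry Opposite MorphismProperty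

namespace Groth.Agent.Helper4.SN475

open AlgSp

variable {S : Scheme.{u}}

section System

variable {I : Type u} [SmallCategory I] {DX DY : I ⥤ Sp S} (τ : DX ⟶ DY)
  (hτ : ∀ i, Representable (τ.app i))
  {T : Over S} (ξ : ∀ i, (yon S).obj T ⟶ DY.obj i)
  (hξ : ∀ (i j : I) (φ : i ⟶ j), ξ i ≫ DY.map φ = ξ j)

/-- The pullback at stage `i`. -/
noncomputable def Zobj (i : I) : Over S := (hτ i).pullback (ξ i)

noncomputable def Zfst (i : I) : (yon S).obj (Zobj τ hτ ξ i) ⟶ DX.obj i := (hτ i).fst (ξ i)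

noncomputable def Zsnd (i : I) : Zobj τ hτ ξ i ⟶ T := (hτ i).snd (ξ i)

theorem Zsq (i : I) : IsPullback (Zfst τ hτ ξ i) ((yon S).map (Zsnd τ hτ ξ i))
    (τ.app i) (ξ i) := (hτ i).isPullback (ξ i)

include hξ in
theorem Zmap_aux {i j : I} (φ : i ⟶ j) :
    (Zfst τ hτ ξ i ≫ DX.map φ) ≫ τ.app j = (yon S).map (Zsnd τ hτ ξ i) ≫ ξ j := by
  rw [Category.assoc, τ.naturality, ← Category.assoc, (Zsq τ hτ ξ i).w, Category.assoc, hξ]

noncomputable def Zmap {i j : I} (φ : i ⟶ j) : Zobj τ hτ ξ i ⟶ Zobj τ hτ ξ j :=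
  (yon S).preimage ((Zsq τ hτ ξ j).lift (Zfst τ hτ ξ i ≫ DX.map φ)
    ((yon S).map (Zsnd τ hτ ξ i)) (Zmap_aux τ hτ ξ hξ φ))

theorem yon_Zmap_fst {i j : I} (φ : i ⟶ j) :
    (yon S).map (Zmap τ hτ ξ hξ φ) ≫ Zfst τ hτ ξ j = Zfst τ hτ ξ i ≫ DX.map φ := by
  rw [Zmap, Functor.map_preimage]
  exact (Zsq τ hτ ξ j).lift_fst _ _ _

theorem Zmap_snd {i j : I} (φ : i ⟶ j) :
    Zmap τ hτ ξ hξ φ ≫ Zsnd τ hτ ξ j = Zsnd τ hτ ξ i := by
  apply (yon S).map_injective
  rw [Functor.map_comp, Zmap, Functor.map_preimage]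
  exact (Zsq τ hτ ξ j).lift_snd _ _ _

/-- The system of pullbacks. -/
noncomputable def Zsys : I ⥤ Over S where
  obj i := Zobj τ hτ ξ i
  map φ := Zmap τ hτ ξ hξ φ
  map_id i := by
    apply (yon S).map_injective
    apply (Zsq τ hτ ξ i).hom_ext
    · rw [yon_Zmap_fst, CategoryTheory.Functor.map_id, Category.comp_id,
        CategoryTheory.Functor.map_id, Category.id_comp]
    · rw [← Functor.map_comp, Zmap_snd, CategoryTheory.Functor.map_id, Category.id_comp]
  map_comp {i j k} φ ψ := by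
    apply (yon S).map_injective
    apply (Zsq τ hτ ξ k).hom_ext
    · rw [yon_Zmap_fst, DX.map_comp, Functor.map_comp, Category.assoc, yon_Zmap_fst,
        ← Category.assoc, ← Category.assoc, yon_Zmap_fst]
    · rw [← Functor.map_comp, Zmap_snd, ← Functor.map_comp, Category.assoc, Zmap_snd, Zmap_snd]

end System

section Limit

variable {I : Type u} [SmallCategory I] [IsCofiltered I] {DX DY : I ⥤ Sp S} (τ : DX ⟶ DY)
  (hτ : ∀ i, Representable (τ.app i))
  (cX : Cone DX) (hcX : IsLimit cX) (cY : Cone DY) (hcY : IsLimit cY)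
  (g : cX.pt ⟶ cY.pt) (hg : ∀ i, g ≫ cY.π.app i = cX.π.app i ≫ τ.app i)
  {T : Over S} (ξ' : (yon S).obj T ⟶ cY.pt)

/-- The cone over `DY` induced by a `T`-point of the limit. -/
def ξs (i : I) : (yon S).obj T ⟶ DY.obj i := ξ' ≫ cY.π.app i

omit [IsCofiltered I] in
theorem hξs (i j : I) (φ : i ⟶ j) : ξs cY ξ' i ≫ DY.map φ = ξs cY ξ' j := by
  rw [ξs, Category.assoc, cY.w]
  rfl

attribute [local instance] IsCofiltered.isConnected in
include hcX hcY hg in
set_option backward.isDefEq.respectTransparency false in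
theorem exists_pullback_limit
    (haff : ∀ (i j : I) (φ : i ⟶ j), IsAffineHom (Zmap τ hτ (ξs cY ξ') (hξs cY ξ') φ).left) :
    ∃ (cZ : Cone (Zsys τ hτ (ξs cY ξ') (hξs cY ξ'))) (_ : IsLimit cZ)
      (_ : IsLimit ((Over.forget S).mapCone cZ))
      (p : (yon S).obj cZ.pt ⟶ cX.pt) (q : cZ.pt ⟶ T),
      IsPullback p ((yon S).map q) g ξ' ∧
      (∀ i : I, IsAffineHom (cZ.π.app i).left) ∧
      (∀ i : I, p ≫ cX.π.app i = (yon S).map (cZ.π.app i) ≫ Zfst τ hτ (ξs cY ξ') i) ∧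
      (∀ i : I, cZ.π.app i ≫ Zsnd τ hτ (ξs cY ξ') i = q) := by
  let D' : I ⥤ Scheme.{u} := Zsys τ hτ (ξs cY ξ') (hξs cY ξ') ⋙ Over.forget S
  haveI : ∀ (i j : I) (m : i ⟶ j), IsAffineHom (D'.map m) := fun i j m => haff i j m
  obtain ⟨c', hc', haff'⟩ := Groth.Agent.Lead.LimExists.main D'
  let cZ : Cone (Zsys τ hτ (ξs cY ξ') (hξs cY ξ')) := liftLimit hc'
  have hcZ : IsLimit cZ := liftedLimitIsLimit hc'
  let e : (Over.forget S).mapCone cZ ≅ c' := liftedLimitMapsToOriginal hc'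
  have hcZ' : IsLimit ((Over.forget S).mapCone cZ) := hc'.ofIsoLimit e.symm
  have haffZ : ∀ i : I, IsAffineHom (cZ.π.app i).left := by
    intro i
    have h1 : (cZ.π.app i).left = e.hom.hom ≫ c'.π.app i := (e.hom.w i).symm
    rw [h1]
    haveI := haff' i
    infer_instance
  have hcYon : IsLimit ((yon S).mapCone cZ) := isLimitOfPreserves (yon S) hcZ
  let sP : Cone DX :=
    { pt := (yon S).obj cZ.pt
      π :=
        { app := fun i => (yon S).map (cZ.π.app i) ≫ Zfst τ hτ (ξs cY ξ') i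
          naturality := fun i j m => by
            simp only [Functor.const_obj_obj, Functor.const_obj_map, Category.id_comp]
            rw [Category.assoc, ← yon_Zmap_fst τ hτ (ξs cY ξ') (hξs cY ξ'), ← Category.assoc,
              ← Functor.map_comp]
            congr 2
            exact (cZ.w m).symm } }
  let p : (yon S).obj cZ.pt ⟶ cX.pt := hcX.lift sP
  have hp : ∀ i : I, p ≫ cX.π.app i =
      (yon S).map (cZ.π.app i) ≫ Zfst τ hτ (ξs cY ξ') i := fun i => hcX.fac sP i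
  obtain ⟨i₁⟩ := IsCofiltered.nonempty (C := I)
  let q : cZ.pt ⟶ T := cZ.π.app i₁ ≫ Zsnd τ hτ (ξs cY ξ') i₁
  have hq : ∀ i : I, cZ.π.app i ≫ Zsnd τ hτ (ξs cY ξ') i = q := by
    intro i
    show _ = cZ.π.app i₁ ≫ Zsnd τ hτ (ξs cY ξ') i₁
    rw [← cZ.w (IsCofiltered.minToLeft i i₁), ← cZ.w (IsCofiltered.minToRight i i₁),
      Category.assoc, Category.assoc]
    show _ ≫ Zmap τ hτ (ξs cY ξ') (hξs cY ξ') _ ≫ _ =
      _ ≫ Zmap τ hτ (ξs cY ξ') (hξs cY ξ') _ ≫ _
    rw [Zmap_snd, Zmap_snd]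
  have w : p ≫ g = (yon S).map q ≫ ξ' := by
    apply hcY.hom_ext
    intro i
    rw [Category.assoc, hg, ← Category.assoc, hp, Category.assoc, (Zsq τ hτ (ξs cY ξ') i).w,
      ← Category.assoc, ← Functor.map_comp, hq, Category.assoc]
    rfl
  refine ⟨cZ, hcZ, hcZ', p, q, ?_, haffZ, hp, hq⟩
  have hx : ∀ (s : PullbackCone g ξ') (i : I),
      (s.fst ≫ cX.π.app i) ≫ τ.app i = s.snd ≫ ξs cY ξ' i := by
    intro s i
    rw [Category.assoc, ← hg, ← Category.assoc, s.condition, Category.assoc]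
    rfl
  let l : ∀ (s : PullbackCone g ξ') (i : I),
      s.pt ⟶ (yon S).obj (Zobj τ hτ (ξs cY ξ') i) := fun s i =>
    (Zsq τ hτ (ξs cY ξ') i).lift (s.fst ≫ cX.π.app i) s.snd (hx s i)
  have hl1 : ∀ s i, l s i ≫ Zfst τ hτ (ξs cY ξ') i = s.fst ≫ cX.π.app i := fun s i =>
    (Zsq τ hτ (ξs cY ξ') i).lift_fst _ _ _
  have hl2 : ∀ s i, l s i ≫ (yon S).map (Zsnd τ hτ (ξs cY ξ') i) = s.snd := fun s i =>
    (Zsq τ hτ (ξs cY ξ') i).lift_snd _ _ _
  let sQ : ∀ s : PullbackCone g ξ', Cone (Zsys τ hτ (ξs cY ξ') (hξs cY ξ') ⋙ yon S) := fun s =>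
    { pt := s.pt
      π :=
        { app := fun i => l s i
          naturality := fun i j m => by
            simp only [Functor.const_obj_obj, Functor.const_obj_map, Category.id_comp,
              Functor.comp_obj, Functor.comp_map]
            apply (Zsq τ hτ (ξs cY ξ') j).hom_ext
            · rw [hl1, Category.assoc]
              show _ = l s i ≫ (yon S).map (Zmap τ hτ (ξs cY ξ') (hξs cY ξ') m) ≫ _
              rw [yon_Zmap_fst, ← Category.assoc, hl1, Category.assoc, cX.w]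
            · rw [hl2, Category.assoc]
              show _ = l s i ≫ (yon S).map (Zmap τ hτ (ξs cY ξ') (hξs cY ξ') m) ≫ _
              rw [← Functor.map_comp, Zmap_snd, hl2] } }
  have hlift : ∀ s i, hcYon.lift (sQ s) ≫ (yon S).map (cZ.π.app i) = l s i := fun s i =>
    hcYon.fac (sQ s) i
  refine IsPullback.mk ⟨w⟩ ⟨PullbackCone.IsLimit.mk w (fun s => hcYon.lift (sQ s)) ?_ ?_ ?_⟩
  · intro s
    apply hcX.hom_ext
    intro i
    show (hcYon.lift (sQ s) ≫ p) ≫ cX.π.app i = s.fst ≫ cX.π.app i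
    rw [Category.assoc, hp, ← Category.assoc, hlift, hl1]
  · intro s
    show hcYon.lift (sQ s) ≫ (yon S).map (cZ.π.app i₁ ≫ Zsnd τ hτ (ξs cY ξ') i₁) = s.snd
    rw [Functor.map_comp, ← Category.assoc, hlift, hl2]
  · intro s m hm1 hm2
    apply hcYon.hom_ext
    intro i
    show m ≫ (yon S).map (cZ.π.app i) = hcYon.lift (sQ s) ≫ (yon S).map (cZ.π.app i)
    rw [hlift]
    apply (Zsq τ hτ (ξs cY ξ') i).hom_ext
    · rw [hl1, Category.assoc, ← hp, ← Category.assoc, hm1]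
    · rw [hl2, Category.assoc, ← Functor.map_comp, hq, hm2]

end Limit

end Groth.Agent.Helper4.SN475
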