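import Groth.Prelude.Def_AlgSp4
import Groth.Agent.Helper4.SN475
import Mathlib

/-!
Cofiltered limits of closed immersions (with affine transition maps) are closed immersions.
-/

set_option autoImplicit false
universe u
open CategoryTheory CategoryTheory.Limits AlgebraicGeometry Opposite MorphismProperty

namespace Groth.Agent.Helper4.SN476

section Sch

variable {I : Type u} [Category.{u} I] [IsCofiltered I] (D : I ⥤ Scheme.{u})
  (c : Cone D) (hc : IsLimit c)

include hc in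
/-- A cofiltered limit of closed subschemes of an affine scheme is a closed subscheme. -/
theorem isClosedImmersion_of_isLimit_affine (T : Scheme.{u}) [IsAffine T]
    (t : ∀ i, D.obj i ⟶ T) (ht : ∀ (i j : I) (φ : i ⟶ j), D.map φ ≫ t j = t i)
    (hcl : ∀ i, IsClosedImmersion (t i)) (i₁ : I) : IsClosedImmersion (c.π.app i₁ ≫ t i₁) := by
  haveI : ∀ i, IsAffine (D.obj i) := fun i =>
    haveI := hcl i
    (IsClosedImmersion.isAffine_surjective_of_isAffine (t i)).1
  haveI : IsAffine c.pt := Scheme.isAffine_of_isLimit c hc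
  have hind : ∀ i, c.π.app i ≫ t i = c.π.app i₁ ≫ t i₁ := by
    intro i
    rw [← c.w (IsCofiltered.minToLeft i i₁), ← c.w (IsCofiltered.minToRight i i₁),
      Category.assoc, Category.assoc, ht, ht]
  have key : ∀ (f : c.pt ⟶ T), f = c.π.app i₁ ≫ t i₁ → IsClosedImmersion f := by
    intro f hf
    apply IsClosedImmersion.of_surjective_of_isAffine
    intro r
    have : ∀ i, IsAffine (D.op.obj i).unop := by dsimp; infer_instance
    obtain ⟨⟨j⟩, s0, hs⟩ := Types.jointly_surjective_of_isColimit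
      (isColimitOfPreserves (Scheme.Γ ⋙ forget _) hc.op) r
    obtain ⟨s, rfl⟩ : ∃ s : Γ(D.obj j, ⊤), s = s0 := ⟨s0, rfl⟩
    have hs' : (c.π.app j).appTop s = r := hs
    haveI := hcl j
    obtain ⟨u, hu⟩ := (IsClosedImmersion.isAffine_surjective_of_isAffine (t j)).2 s
    refine ⟨u, ?_⟩
    rw [hf, ← hind j, Scheme.Hom.comp_appTop]
    show (c.π.app j).appTop ((t j).appTop u) = r
    rw [hu, hs']
  exact key _ rfl

end Sch

section Sp

open AlgSp Groth.Agent.Helper4.SN475

variable {S : Scheme.{u}} {I : Type u} [SmallCategory I] [IsCofiltered I]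
  {DX DY : I ⥤ Sp S} (τ : DX ⟶ DY) (hτ : ∀ i, RepWith @IsClosedImmersion (τ.app i))
  (cX : Cone DX) (hcX : IsLimit cX) (cY : Cone DY) (hcY : IsLimit cY)
  (g : cX.pt ⟶ cY.pt) (hg : ∀ i, g ≫ cY.π.app i = cX.π.app i ≫ τ.app i)

omit [IsCofiltered I] in
theorem isClosedImmersion_Zsnd {T : Over S} (ξ : ∀ i, (yon S).obj T ⟶ DY.obj i) (i : I) :
    IsClosedImmersion (Zsnd τ (fun i => (hτ i).rep) ξ i).left :=
  (hτ i).property _ _ _ (Zsq τ (fun i => (hτ i).rep) ξ i)

omit [IsCofiltered I] in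
theorem isClosedImmersion_Zmap {T : Over S} (ξ : ∀ i, (yon S).obj T ⟶ DY.obj i)
    (hξ : ∀ (i j : I) (φ : i ⟶ j), ξ i ≫ DY.map φ = ξ j) {i j : I} (φ : i ⟶ j) :
    IsClosedImmersion (Zmap τ (fun i => (hτ i).rep) ξ hξ φ).left := by
  haveI := isClosedImmersion_Zsnd τ hτ ξ i
  haveI := isClosedImmersion_Zsnd τ hτ ξ j
  have h : (Zmap τ (fun i => (hτ i).rep) ξ hξ φ).left ≫ (Zsnd τ (fun i => (hτ i).rep) ξ j).left =
      (Zsnd τ (fun i => (hτ i).rep) ξ i).left := by
    rw [← Over.comp_left, Zmap_snd]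
  haveI : IsClosedImmersion ((Zmap τ (fun i => (hτ i).rep) ξ hξ φ).left ≫
      (Zsnd τ (fun i => (hτ i).rep) ξ j).left) := by
    rw [h]; infer_instance
  exact IsClosedImmersion.of_comp_isClosedImmersion (Zmap τ (fun i => (hτ i).rep) ξ hξ φ).left
    (Zsnd τ (fun i => (hτ i).rep) ξ j).left

include hτ hcX hcY hg in
theorem exists_pullback {T : Over S} (ξ' : (yon S).obj T ⟶ cY.pt) :
    ∃ (Z : Over S) (p : (yon S).obj Z ⟶ cX.pt) (q : Z ⟶ T),
      IsPullback p ((yon S).map q) g ξ' ∧ (IsAffine T.left → IsClosedImmersion q.left) := by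
  have haff : ∀ (i j : I) (φ : i ⟶ j),
      IsAffineHom (Zmap τ (fun i => (hτ i).rep) (ξs cY ξ') (hξs cY ξ') φ).left := by
    intro i j φ
    haveI := isClosedImmersion_Zmap τ hτ (ξs cY ξ') (hξs cY ξ') φ
    infer_instance
  obtain ⟨cZ, hcZ, hcZ', p, q, sq, haffZ, hp, hq⟩ :=
    exists_pullback_limit τ (fun i => (hτ i).rep) cX hcX cY hcY g hg ξ' haff
  refine ⟨cZ.pt, p, q, sq, fun hT => ?_⟩
  haveI : IsAffine T.left := hT
  obtain ⟨i₁⟩ := IsCofiltered.nonempty (C := I)
  have h1 : q.left = (cZ.π.app i₁).left ≫ (Zsnd τ (fun i => (hτ i).rep) (ξs cY ξ') i₁).left := by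
    rw [← Over.comp_left, hq]
  rw [h1]
  exact isClosedImmersion_of_isLimit_affine
    (Zsys τ (fun i => (hτ i).rep) (ξs cY ξ') (hξs cY ξ') ⋙ Over.forget S)
    ((Over.forget S).mapCone cZ) hcZ' T.left
    (fun i => (Zsnd τ (fun i => (hτ i).rep) (ξs cY ξ') i).left)
    (fun i j φ => by
      show (Zmap τ (fun i => (hτ i).rep) (ξs cY ξ') (hξs cY ξ') φ).left ≫ _ = _
      rw [← Over.comp_left, Zmap_snd])
    (fun i => isClosedImmersion_Zsnd τ hτ (ξs cY ξ') i) i₁

include hτ hcX hcY hg in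
theorem main : RepWith @IsClosedImmersion g := by
  apply Groth.Agent.Helper4.AlgSpLocal.repWith_of_affine @IsClosedImmersion g
  · intro T ξ'
    obtain ⟨Z, p, q, sq, -⟩ := exists_pullback τ hτ cX hcX cY hcY g hg ξ'
    exact ⟨Z, q, p, sq⟩
  · intro T E ξ' c e hT sq
    obtain ⟨Z, p, q, sq', hq⟩ := exists_pullback τ hτ cX hcX cY hcY g hg ξ'
    let ε : (yon S).obj E ≅ (yon S).obj Z := sq.isoIsPullback _ _ sq'
    obtain ⟨ε', hε'⟩ := (yon S).map_surjective ε.hom
    haveI : IsIso ((yon S).map ε') := by rw [hε']; infer_instance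
    haveI : IsIso ε' := isIso_of_fully_faithful (yon S) ε'
    haveI : IsIso ε'.left := inferInstanceAs (IsIso ((Over.forget S).map ε'))
    have h2 : ε' ≫ q = e := by
      apply (yon S).map_injective
      rw [Functor.map_comp, hε']
      exact sq.isoIsPullback_hom_snd _ _ sq'
    have h3 : e.left = ε'.left ≫ q.left := by rw [← Over.comp_left, h2]
    show IsClosedImmersion e.left
    rw [h3]
    haveI := hq hT
    infer_instance

end Sp

end Groth.Agent.Helper4.SN476
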