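import Groth.Prelude.Def_AlgSpRep
import Groth.Agent.Helper4.SN476
import Groth.Agent.Helper5.Decent3
import Groth.Agent.Helper5.QuotEff5
import Groth.Agent.Helper5.MonoPt2
import Groth.Agent.Helper5.MonoPt3
import Groth.Agent.Lead.LimTop
import Mathlib

/-!
Points of cofiltered limits of algebraic spaces with affine transitions: stage squares, topology.
-/

set_option autoImplicit false
universe u
open CategoryTheory CategoryTheory.Limits AlgebraicGeometry Opposite MorphismProperty Topology

namespace Groth.Agent.Helper4.SN477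

open AlgSp Groth.Agent.Helper4.SN471 Groth.Agent.Helper4.SN473

variable {S : Scheme.{u}}

variable {I : Type u} [SmallCategory I] (D : I ⥤ Sp S)
  (hDa : ∀ (i j : I) (φ : i ⟶ j), IsAffineMor (D.map φ))
  (c : Cone D)

section Stage

variable (i₀ : I) {U₀ : Over S} (a : (yon S).obj U₀ ⟶ D.obj i₀)
  (cU : Cone (Usys D hDa i₀ a)) (p : (yon S).obj cU.pt ⟶ c.pt) (q : cU.pt ⟶ U₀)
  (sq : IsPullback p ((yon S).map q) (c.π.app i₀) a)
  (hp : ∀ j : Over i₀, p ≫ c.π.app j.left = (yon S).map (cU.π.app j) ≫ Ufst D hDa i₀ a j)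
  (hq : ∀ j : Over i₀, cU.π.app j ≫ Usnd D hDa i₀ a j = q)

include sq hp hq in
/-- The chart limit is also the pullback of each stage chart. -/
theorem isPullback_stage (j : Over i₀) :
    IsPullback p ((yon S).map (cU.π.app j)) (c.π.app j.left) (Ufst D hDa i₀ a j) := by
  have big : IsPullback ((yon S).map (cU.π.app j) ≫ (yon S).map (Usnd D hDa i₀ a j)) p a
      (c.π.app j.left ≫ D.map j.hom) := by
    rw [← Functor.map_comp, hq, c.w]
    exact sq.flip
  exact (IsPullback.of_right big (hp j).symm (Usq D hDa i₀ a j).flip).flip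

include hp in
theorem map_π_ofPt (j : Over i₀) (t : ↥cU.pt.left) :
    Points.map (c.π.app j.left) (Points.ofPt p t) =
      Points.ofPt (Ufst D hDa i₀ a j) ((cU.π.app j).left t) := by
  rw [Points.map_ofPt, hp, Groth.Agent.Helper4.AlgSpPtsDesc.ofPt_yon_map_comp]
  rfl

end Stage

section Top

variable [IsCofiltered I] (hc : IsLimit c)

include hDa hc in
/-- Around every point, every open of the limit contains the preimage of an open of a stage. -/
theorem exists_stage_open (hD : ∀ i, IsAlgSpace (D.obj i)) (W : Set (Points c.pt))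
    (hW : IsOpen W) (x : Points c.pt) (hx : x ∈ W) :
    ∃ (i : I) (V : Set (Points (D.obj i))), IsOpen V ∧ Points.map (c.π.app i) x ∈ V ∧
      Points.map (c.π.app i) ⁻¹' V ⊆ W := by
  obtain ⟨i₀⟩ := IsCofiltered.nonempty (C := I)
  obtain ⟨U₀, p₀, hp₀e, hp₀s⟩ := (hD i₀).atlas
  obtain ⟨cU, hcU, hcU', p, q, sq, haff, hp, hq⟩ := exists_chart_limit' D hDa c hc i₀ p₀
  have hpe : RepWith @Etale p := (RepWith (S := S) @Etale).of_isPullback sq.flip hp₀e
  have hps : RepWith @Surjective p := (RepWith (S := S) @Surjective).of_isPullback sq.flip hp₀s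
  obtain ⟨t, rfl⟩ := Groth.Agent.Helper5.QuotEff.exists_ofPt_eq p hps x
  let D' : Over i₀ ⥤ Scheme.{u} := Usys D hDa i₀ p₀ ⋙ Over.forget S
  haveI : ∀ {j j' : Over i₀} (m : j ⟶ j'), IsAffineHom (D'.map m) := fun m =>
    isAffineHom_Umap D hDa i₀ p₀ m
  have hcU'' : IsLimit ((Over.forget S).mapCone cU) := hcU'
  have hB := isBasis_preimage_isAffineOpen D' ((Over.forget S).mapCone cU) hcU''
  rw [TopologicalSpace.Opens.IsBasis] at hB
  have hW' : IsOpen (Points.ofPt p ⁻¹' W) := hW.preimage (Points.continuous_ofPt p)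
  obtain ⟨_, ⟨_, ⟨j, V, hV, rfl⟩, rfl⟩, htV, hVW⟩ := hB.exists_subset_of_mem_open
    (show t ∈ Points.ofPt p ⁻¹' W from hx) hW'
  have hje : RepWith @Etale (Ufst D hDa i₀ p₀ j) :=
    (RepWith (S := S) @Etale).of_isPullback (Usq D hDa i₀ p₀ j).flip hp₀e
  refine ⟨j.left, Points.ofPt (Ufst D hDa i₀ p₀ j) '' (V : Set ↥(D'.obj j)),
    Groth.Agent.Helper5.Decent3.isOpenMap_ofPt (hD j.left) _ hje _ V.2, ?_, ?_⟩
  · rw [map_π_ofPt D hDa c i₀ p₀ cU p hp j t]
    exact ⟨_, htV, rfl⟩
  · rintro y ⟨v, hvV, hv⟩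
    have hsq := isPullback_stage D hDa c i₀ p₀ cU p q sq hp hq j
    have h0 : Points.map (c.π.app j.left) y = Points.map (Ufst D hDa i₀ p₀ j)
        (Points.schemeHomeo (Uobj D hDa i₀ p₀ j) v) := by
      rw [Groth.Agent.Helper4.AlgSpQC2.ofPt_eq_map_schemeHomeo]
      exact hv.symm
    obtain ⟨z, hz1, hz2⟩ := Groth.Agent.Helper4.AlgSpPtsDesc.exists_point_of_isPullback hsq y
      (Points.schemeHomeo (Uobj D hDa i₀ p₀ j) v) h0
    obtain ⟨t', rfl⟩ := (Points.schemeHomeo cU.pt).surjective z
    rw [Points.map_yon_map_apply] at hz2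
    have h3 : (cU.π.app j).left t' = v := (Points.schemeHomeo _).injective hz2
    have h4 : Points.ofPt p t' = y := by
      rw [← hz1]
      exact (Groth.Agent.Helper4.AlgSpQC2.ofPt_eq_map_schemeHomeo p t').symm
    rw [← h4]
    apply hVW
    show (cU.π.app j).left t' ∈ V
    rw [h3]
    exact hvV

include hDa hc in
theorem topology_eq (hD : ∀ i, IsAlgSpace (D.obj i)) :
    Points.topologicalSpace c.pt =
      ⨅ i, TopologicalSpace.induced (Points.map (c.π.app i))
        (Points.topologicalSpace (D.obj i)) := by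
  apply le_antisymm
  · exact le_iInf fun i => (Points.continuous_map (c.π.app i)).le_induced
  · intro W hW
    refine (@isOpen_iff_forall_mem_open _ (⨅ i, TopologicalSpace.induced
      (Points.map (c.π.app i)) (Points.topologicalSpace (D.obj i))) W).2 fun x hx => ?_
    obtain ⟨i, V, hV, hxV, hVW⟩ := exists_stage_open D hDa c hc hD W hW x hx
    refine ⟨Points.map (c.π.app i) ⁻¹' V, hVW, ?_, hxV⟩
    have h1 : IsOpen[TopologicalSpace.induced (Points.map (c.π.app i))
        (Points.topologicalSpace (D.obj i))] (Points.map (c.π.app i) ⁻¹' V) :=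
      isOpen_induced_iff.mpr ⟨V, hV, rfl⟩
    have h2 : (⨅ i, TopologicalSpace.induced (Points.map (c.π.app i))
        (Points.topologicalSpace (D.obj i))) ≤
        TopologicalSpace.induced (Points.map (c.π.app i))
          (Points.topologicalSpace (D.obj i)) := iInf_le _ i
    exact h2 _ h1

end Top

end Groth.Agent.Helper4.SN477
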