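import Groth.Prelude.Def_AlgSpRep
import Groth.Prelude.Def_AlgSpDec
import Groth.Agent.Helper4.SN477
import Groth.Agent.Helper5.Decent2
import Mathlib

/-!
Points of cofiltered limits of decent algebraic spaces with affine transitions.
-/

set_option autoImplicit false
universe u
open CategoryTheory CategoryTheory.Limits AlgebraicGeometry Opposite MorphismProperty Topology

namespace Groth.Agent.Helper4.SN478

/-- A cofiltered decreasing family of nonempty finite sets has a common element. -/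
theorem exists_mem_all {J : Type u} [Category.{u} J] [IsCofiltered J] {α : Type u}
    (T : J → Set α) (hfin : ∀ j, (T j).Finite) (hne : ∀ j, (T j).Nonempty)
    (hmono : ∀ (j j' : J) (_ : j ⟶ j'), T j ⊆ T j') : ∃ a, ∀ j, a ∈ T j := by
  classical
  obtain ⟨j₁⟩ := IsCofiltered.nonempty (C := J)
  by_contra hcon
  push Not at hcon
  choose jf hjf using hcon
  obtain ⟨k, hk⟩ := IsCofiltered.inf_objs_exists (insert j₁ ((hfin j₁).toFinset.image jf))
  obtain ⟨a, ha⟩ := hne k
  have h1 : a ∈ T j₁ := by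
    obtain ⟨m⟩ := hk (Finset.mem_insert_self _ _)
    exact hmono _ _ m ha
  have h2 : a ∈ T (jf a) := by
    obtain ⟨m⟩ := hk (Finset.mem_insert_of_mem (Finset.mem_image_of_mem jf
      ((hfin j₁).mem_toFinset.2 h1)))
    exact hmono _ _ m ha
  exact hjf a h2

open AlgSp Groth.Agent.Helper4.SN471 Groth.Agent.Helper4.SN473 Groth.Agent.Helper4.SN477

variable {S : Scheme.{u}}

variable {I : Type u} [SmallCategory I] [IsCofiltered I] (D : I ⥤ Sp S)
  (hDa : ∀ (i j : I) (φ : i ⟶ j), IsAffineMor (D.map φ))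
  (c : Cone D) (hc : IsLimit c)

include hDa hc in
theorem injective_points (hD : ∀ i, IsAlgSpace (D.obj i)) (hdec : ∀ i, IsDecent (D.obj i))
    (x x' : Points c.pt)
    (h : ∀ i, Points.map (c.π.app i) x = Points.map (c.π.app i) x') : x = x' := by
  obtain ⟨i₀⟩ := IsCofiltered.nonempty (C := I)
  obtain ⟨U₀, p₀, hp₀e, hp₀s⟩ := (hD i₀).atlas
  obtain ⟨cU, hcU, hcU', p, q, sq, haff, hp, hq⟩ := exists_chart_limit' D hDa c hc i₀ p₀
  have hpe : RepWith @Etale p := (RepWith (S := S) @Etale).of_isPullback sq.flip hp₀e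
  have hps : RepWith @Surjective p := (RepWith (S := S) @Surjective).of_isPullback sq.flip hp₀s
  obtain ⟨t, rfl⟩ := Groth.Agent.Helper5.QuotEff.exists_ofPt_eq p hps x
  obtain ⟨t', rfl⟩ := Groth.Agent.Helper5.QuotEff.exists_ofPt_eq p hps x'
  let D' : Over i₀ ⥤ Scheme.{u} := Usys D hDa i₀ p₀ ⋙ Over.forget S
  haveI : ∀ {j j' : Over i₀} (m : j ⟶ j'), IsAffineHom (D'.map m) := fun m =>
    isAffineHom_Umap D hDa i₀ p₀ m
  have hcU'' : IsLimit ((Over.forget S).mapCone cU) := hcU'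
  -- the relation `R = U∞ ×_X U∞`
  have sqR := hpe.rep.isPullback p
  obtain ⟨e, he⟩ := (yon S).map_surjective (hpe.rep.fst p)
  rw [← he] at sqR
  clear he
  generalize hpe.rep.snd p = s at sqR
  generalize hpe.rep.pullback p = R at e s sqR
  -- stage squares
  have hP : ∀ j : Over i₀, IsPullback ((yon S).map e) ((yon S).map (s ≫ cU.π.app j))
      (p ≫ c.π.app j.left) (Ufst D hDa i₀ p₀ j) := by
    intro j
    rw [Functor.map_comp]
    exact sqR.paste_vert (isPullback_stage D hDa c i₀ p₀ cU p q sq hp hq j)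
  let T : Over i₀ → Set ↥R.left := fun j =>
    {π | e.left π = t' ∧ (s ≫ cU.π.app j).left π = (cU.π.app j).left t}
  have hje : ∀ j : Over i₀, RepWith @Etale (Ufst D hDa i₀ p₀ j) := fun j =>
    (RepWith (S := S) @Etale).of_isPullback (Usq D hDa i₀ p₀ j).flip hp₀e
  have hb : ∀ j : Over i₀, Points.ofPt (Ufst D hDa i₀ p₀ j) ((cU.π.app j).left t) =
      Points.map (c.π.app j.left) (Points.ofPt p t) := fun j =>
    (map_π_ofPt D hDa c i₀ p₀ cU p hp j t).symm
  have ha : ∀ j : Over i₀, Points.ofPt (p ≫ c.π.app j.left) t' =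
      Points.map (c.π.app j.left) (Points.ofPt p t) := fun j => by
    rw [h j.left, Points.map_ofPt]
  have hfin : ∀ j, (T j).Finite := by
    intro j
    obtain ⟨r, hr, hmono, -⟩ := hdec j.left (Points.map (c.π.app j.left) (Points.ofPt p t))
    haveI := hmono
    exact Groth.Agent.Helper5.MonoPt.finite_fibre_of_mono_point r (p ≫ c.π.app j.left)
      (Ufst D hDa i₀ p₀ j) ((hD j.left).representable_from_yon _)
      (Groth.Agent.Helper5.MonoPt.repWith_lqf_of_etale _ (hje j)) t' ((cU.π.app j).left t)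
      ((ha j).trans hr.symm) ((hb j).trans hr.symm) R e (s ≫ cU.π.app j) (hP j)
  have hne : ∀ j, (T j).Nonempty := by
    intro j
    obtain ⟨r, hr1, hr2⟩ := Groth.Agent.Helper5.Decent2.exists_scheme_point_of_isPullback (hP j)
      t' ((cU.π.app j).left t) ((ha j).trans (hb j).symm)
    exact ⟨r, hr1, hr2⟩
  have hmono : ∀ (j j' : Over i₀) (_ : j ⟶ j'), T j ⊆ T j' := by
    intro j j' m π hπ
    refine ⟨hπ.1, ?_⟩
    have h1 : cU.π.app j' = cU.π.app j ≫ (Usys D hDa i₀ p₀).map m := (cU.w m).symm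
    have h2 : (s ≫ cU.π.app j').left π =
        ((Usys D hDa i₀ p₀).map m).left ((s ≫ cU.π.app j).left π) := by
      rw [h1, ← Category.assoc]
      rfl
    have h3 : (cU.π.app j').left t = ((Usys D hDa i₀ p₀).map m).left ((cU.π.app j).left t) := by
      rw [h1]
      rfl
    show (s ≫ cU.π.app j').left π = (cU.π.app j').left t
    rw [h2, h3, hπ.2]
  obtain ⟨π, hπ⟩ := exists_mem_all T hfin hne hmono
  have h5 : s.left π = t := by
    apply Groth.Agent.Lead.LimTop.eq_of_forall_π_eq D' ((Over.forget S).mapCone cU) hcU''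
    intro j
    exact (hπ j).2
  have h6 : e.left π = t' := (hπ (jtop i₀)).1
  rw [← h5, ← h6, ← Groth.Agent.Helper4.AlgSpPtsDesc.ofPt_yon_map_comp,
    ← Groth.Agent.Helper4.AlgSpPtsDesc.ofPt_yon_map_comp, sqR.w]

include hDa hc in
theorem surjective_points (hD : ∀ i, IsAlgSpace (D.obj i)) (hdec : ∀ i, IsDecent (D.obj i))
    (s : ∀ i, Points (D.obj i))
    (hs : ∀ (i j : I) (φ : i ⟶ j), Points.map (D.map φ) (s i) = s j) :
    ∃ x : Points c.pt, ∀ i, Points.map (c.π.app i) x = s i := by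
  obtain ⟨i₀⟩ := IsCofiltered.nonempty (C := I)
  obtain ⟨V₀, p₀, hp₀e, hp₀s⟩ := (hD i₀).atlas
  obtain ⟨v₀, hv₀⟩ := Groth.Agent.Helper5.QuotEff.exists_ofPt_eq p₀ hp₀s (s i₀)
  obtain ⟨_, ⟨W₀, hW₀, rfl⟩, hvW, -⟩ :=
    (V₀.left.isBasis_affineOpens).exists_subset_of_mem_open (Set.mem_univ v₀) isOpen_univ
  let U₀ := Groth.Agent.Helper4.AlgSpQC2.opOver V₀ W₀
  let a : (yon S).obj U₀ ⟶ D.obj i₀ :=
    (yon S).map (Groth.Agent.Helper4.AlgSpQC2.opι V₀ W₀) ≫ p₀
  have hae : RepWith @Etale a :=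
    Groth.Agent.Helper4.AlgSpSrc.repWith_comp _
      ((repWith_yon_map_iff _ _).2 (by
        show Etale (Scheme.Opens.ι W₀)
        infer_instance)) hp₀e
  haveI hU₀aff : IsAffine U₀.left := hW₀
  let u₀ : ↥U₀.left := ⟨v₀, hvW⟩
  have hu₀ : Points.ofPt a u₀ = s i₀ := by
    rw [Groth.Agent.Helper4.AlgSpPtsDesc.ofPt_yon_map_comp]
    exact hv₀
  obtain ⟨cU, hcU, hcU', p, q, sq, haff, hp, hq⟩ := exists_chart_limit' D hDa c hc i₀ a
  let D' : Over i₀ ⥤ Scheme.{u} := Usys D hDa i₀ a ⋙ Over.forget S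
  haveI : ∀ {j j' : Over i₀} (m : j ⟶ j'), IsAffineHom (D'.map m) := fun m =>
    isAffineHom_Umap D hDa i₀ a m
  have hcU'' : IsLimit ((Over.forget S).mapCone cU) := hcU'
  have hcomp : ∀ j : Over i₀, CompactSpace ↥(Uobj D hDa i₀ a j).left := fun j => by
    have h : IsAffineHom (Usnd D hDa i₀ a j).left := isAffineHom_Usnd D hDa i₀ a j
    haveI : QuasiCompact (Usnd D hDa i₀ a j).left := inferInstance
    exact QuasiCompact.compactSpace_of_compactSpace (Usnd D hDa i₀ a j).left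
  have hje : ∀ j : Over i₀, RepWith @Etale (Ufst D hDa i₀ a j) := fun j =>
    (RepWith (S := S) @Etale).of_isPullback (Usq D hDa i₀ a j).flip hae
  -- the fibres
  let F₀ : ∀ j : Over i₀, Set ↥(Uobj D hDa i₀ a j).left := fun j =>
    Points.ofPt (Ufst D hDa i₀ a j) ⁻¹' {s j.left}
  have hF₀fin : ∀ j, (F₀ j).Finite := by
    intro j
    obtain ⟨r, hr, -, hqc⟩ := hdec j.left (s j.left)
    haveI := hcomp j
    have := Groth.Agent.Helper5.Decent2.finite_fibre_of_qc_point r hqc (Ufst D hDa i₀ a j) (hje j)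
    rw [hr] at this
    exact this
  have hF₀ne : ∀ j, (F₀ j).Nonempty := by
    intro j
    have h0 : Points.map (D.map j.hom) (s j.left) = Points.map a (Points.schemeHomeo U₀ u₀) := by
      rw [Groth.Agent.Helper4.AlgSpQC2.ofPt_eq_map_schemeHomeo, hu₀]
      exact hs _ _ j.hom
    obtain ⟨z, hz1, -⟩ := Groth.Agent.Helper4.AlgSpPtsDesc.exists_point_of_isPullback
      (Usq D hDa i₀ a j) (s j.left) (Points.schemeHomeo U₀ u₀) h0
    obtain ⟨w, rfl⟩ := (Points.schemeHomeo (Uobj D hDa i₀ a j)).surjective z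
    refine ⟨w, ?_⟩
    show Points.ofPt (Ufst D hDa i₀ a j) w = s j.left
    rw [← hz1]
    exact (Groth.Agent.Helper4.AlgSpQC2.ofPt_eq_map_schemeHomeo _ w).symm
  have hF₀map : ∀ {j j' : Over i₀} (m : j ⟶ j') (w : ↥(Uobj D hDa i₀ a j).left),
      w ∈ F₀ j → (Umap D hDa i₀ a m).left w ∈ F₀ j' := by
    intro j j' m w hw
    show Points.ofPt (Ufst D hDa i₀ a j') ((Umap D hDa i₀ a m).left w) = s j'.left
    rw [← Groth.Agent.Helper4.AlgSpPtsDesc.ofPt_yon_map_comp, yon_Umap_fst, ← Points.map_ofPt,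
      show Points.ofPt (Ufst D hDa i₀ a j) w = s j.left from hw]
    exact hs _ _ m.left
  let F : Over i₀ ⥤ Type u :=
    { obj := fun j => ↥(F₀ j)
      map := fun {j j'} m => TypeCat.ofHom (fun w : ↥(F₀ j) =>
        (⟨(Umap D hDa i₀ a m).left w.1, hF₀map m w.1 w.2⟩ : ↥(F₀ j')))
      map_id := fun j => by
        ext w
        show (Umap D hDa i₀ a (𝟙 j)).left w.1 = w.1
        have h1 : Umap D hDa i₀ a (𝟙 j) = 𝟙 _ := (Usys D hDa i₀ a).map_id j
        rw [h1]
        rfl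
      map_comp := fun {j j' j''} m m' => by
        ext w
        show (Umap D hDa i₀ a (m ≫ m')).left w.1 =
          (Umap D hDa i₀ a m').left ((Umap D hDa i₀ a m).left w.1)
        have h1 : Umap D hDa i₀ a (m ≫ m') = Umap D hDa i₀ a m ≫ Umap D hDa i₀ a m' :=
          (Usys D hDa i₀ a).map_comp m m'
        rw [h1]
        rfl }
  haveI : ∀ j, Finite (F.obj j) := fun j => (hF₀fin j).to_subtype
  haveI : ∀ j, Nonempty (F.obj j) := fun j => (hF₀ne j).to_subtype
  obtain ⟨σ, hσ⟩ := nonempty_sections_of_finite_cofiltered_system F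
  obtain ⟨t, ht⟩ := Groth.Agent.Lead.LimTop.exists_point D' ((Over.forget S).mapCone cU) hcU''
    (fun j => (σ j).1) (fun {j j'} m => by
      have := hσ m
      exact congrArg Subtype.val this)
  have hstage : ∀ j : Over i₀, Points.map (c.π.app j.left) (Points.ofPt p t) = s j.left := by
    intro j
    rw [map_π_ofPt D hDa c i₀ a cU p hp j t]
    have h1 : (cU.π.app j).left t = (σ j).1 := ht j
    rw [h1]
    exact (σ j).2
  refine ⟨Points.ofPt p t, fun i => ?_⟩
  let k := IsCofiltered.min i i₀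
  let f1 : k ⟶ i := IsCofiltered.minToLeft i i₀
  let f2 : k ⟶ i₀ := IsCofiltered.minToRight i i₀
  have h1 := hstage (Over.mk f2)
  have h2 : c.π.app i = c.π.app k ≫ D.map f1 := (c.w f1).symm
  rw [h2, Points.map_comp]
  have h3 : Points.map (c.π.app k) (Points.ofPt p t) = s k := h1
  rw [h3]
  exact hs _ _ f1

end Groth.Agent.Helper4.SN478
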