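import Groth.Prelude.Def_AlgSpRep
import Groth.Prelude.Def_AlgSpSub
import Groth.Prelude.Def_AlgSpDec
import Groth.Agent.Helper4.SN478
import Groth.Agent.Helper5.AlgSpAff
import Groth.Agent.Helper5.SchImg3
import Groth.Agent.Helper5.ProperImg1
import Groth.Agent.S10193
import Mathlib

/-!
Closures of points in cofiltered limits of algebraic spaces with affine transitions.
-/

set_option autoImplicit false
universe u
open CategoryTheory CategoryTheory.Limits AlgebraicGeometry Opposite MorphismProperty Topology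

namespace Groth.Agent.Helper4.SN479

open AlgSp Groth.Agent.Helper4.SN471 Groth.Agent.Helper4.SN473 Groth.Agent.Helper4.SN477

variable {S : Scheme.{u}}

/-- Cancellation of affine morphisms along a monomorphism. -/
theorem isAffineMor_of_comp_mono {X Y B : Sp S} (f : X ⟶ Y) (q : Y ⟶ B) [Mono q]
    (hp : IsAffineMor (f ≫ q)) : IsAffineMor f := by
  intro Z hZ k
  obtain ⟨W, i, c, sqW, hW⟩ := hp hZ (k ≫ q)
  refine ⟨W, i, c, ?_, hW⟩
  have w : c ≫ f = (yon S).map i ≫ k := by
    rw [← cancel_mono q, Category.assoc, Category.assoc]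
    exact sqW.w
  refine IsPullback.mk ⟨w⟩ ⟨PullbackCone.IsLimit.mk w
    (fun s => sqW.lift s.fst s.snd (by
      rw [← Category.assoc, s.condition, Category.assoc])) ?_ ?_ ?_⟩
  · intro s
    exact sqW.lift_fst _ _ _
  · intro s
    exact sqW.lift_snd _ _ _
  · intro s m hm1 hm2
    apply sqW.hom_ext
    · rw [hm1, sqW.lift_fst]
    · rw [hm2, sqW.lift_snd]

variable {I : Type u} [SmallCategory I] [IsCofiltered I] (D : I ⥤ Sp S)
  (hDa : ∀ (i j : I) (φ : i ⟶ j), IsAffineMor (D.map φ))
  (c : Cone D) (hc : IsLimit c)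

include hDa hc in
theorem closure_eq (hD : ∀ i, IsAlgSpace (D.obj i)) (x : Points c.pt) :
    closure {x} = {x' | ∀ i, Points.map (c.π.app i) x' ∈
      closure {Points.map (c.π.app i) x}} := by
  ext x'
  constructor
  · intro hx' i
    have h1 := image_closure_subset_closure_image (Points.continuous_map (c.π.app i))
      (s := {x}) ⟨x', hx', rfl⟩
    rwa [Set.image_singleton] at h1
  · intro hx'
    rw [mem_closure_iff]
    intro W hW hxW
    obtain ⟨i, V, hV, hxV, hVW⟩ := exists_stage_open D hDa c hc hD W hW x' hxW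
    have h1 := hx' i
    rw [mem_closure_iff] at h1
    obtain ⟨y, hyV, hy⟩ := h1 V hV hxV
    rw [Set.mem_singleton_iff] at hy
    subst hy
    exact ⟨x, hVW hyV, rfl⟩

/-- The points of `h_{Spec K}` all map to the class of the field point. -/
theorem range_map_toHom {F : Sp S} (pt : FieldPt F) :
    Set.range (Points.map pt.toHom) = {Points.mk pt} := by
  ext y
  constructor
  · rintro ⟨z, rfl⟩
    obtain ⟨s, rfl⟩ := (Points.schemeHomeo pt.pt).surjective z
    rw [Set.mem_singleton_iff, Groth.Agent.Helper4.AlgSpQC2.ofPt_eq_map_schemeHomeo]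
    exact Points.ofPt_toHom pt s
  · intro hy
    rw [Set.mem_singleton_iff] at hy
    subst hy
    let s₀ : ↥pt.pt.left := (IsLocalRing.closedPoint pt.K : ↥(Spec (CommRingCat.of pt.K)))
    exact ⟨Points.schemeHomeo pt.pt s₀, by
      rw [Groth.Agent.Helper4.AlgSpQC2.ofPt_eq_map_schemeHomeo]
      exact Points.ofPt_toHom pt s₀⟩

theorem isReducedSp_fieldPt {F : Sp S} (pt : FieldPt F) : IsReducedSp ((yon S).obj pt.pt) := by
  refine ⟨pt.pt, 𝟙 _, ?_, ?_, ?_⟩
  · rw [← (yon S).map_id]; exact (repWith_yon_map_iff _ _).2 (by dsimp; infer_instance)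
  · rw [← (yon S).map_id]; exact (repWith_yon_map_iff _ _).2 (by dsimp; infer_instance)
  · show IsReduced (Spec (CommRingCat.of pt.K))
    infer_instance

include hDa hc in
theorem isLimit_of_redInduced (hD : ∀ i, IsAlgSpace (D.obj i)) (x : Points c.pt)
    (Z : Space S) (zι : Z.obj ⟶ c.pt) (hz : IsRedInduced (closure {x}) zι)
    (DZ : I ⥤ Sp S) (hDZ : ∀ i, IsAlgSpace (DZ.obj i)) (ι : DZ ⟶ D)
    (hι : ∀ i, IsRedInduced (closure {Points.map (c.π.app i) x}) (ι.app i))
    (ξ : (Functor.const I).obj Z.obj ⟶ DZ) (hξ : ∀ i, ξ.app i ≫ ι.app i = zι ≫ c.π.app i) :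
    Nonempty (IsLimit (Cone.mk Z.obj ξ)) := by
  have hm : ∀ i, Mono (ι.app i) := fun i =>
    Groth.Agent.Helper5.SchImg.mono_of_closedImmersion _ (hι i).1
  have hDZa : ∀ (i j : I) (φ : i ⟶ j), IsAffineMor (DZ.map φ) := by
    intro i j φ
    haveI := hm j
    apply isAffineMor_of_comp_mono (DZ.map φ) (ι.app j)
    rw [ι.naturality]
    exact Groth.Agent.Helper5.AlgSpAff.isAffineMor_comp _ _
      (Groth.Agent.Helper5.AlgSpAff.isAffineMor_of_closedImmersion _ (hι i).1) (hDa i j φ)
  let cZ : Cone DZ := limit.cone DZ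
  have hcZ : IsLimit cZ := limit.isLimit DZ
  let g : cZ.pt ⟶ c.pt := hc.lift ((Cones.postcompose ι).obj cZ)
  have hg : ∀ i, g ≫ c.π.app i = cZ.π.app i ≫ ι.app i := fun i =>
    hc.fac ((Cones.postcompose ι).obj cZ) i
  have hgcl : RepWith @IsClosedImmersion g :=
    Groth.Agent.Helper4.SN476.main ι (fun i => (hι i).1) cZ hcZ c hc g hg
  have hcalg : IsAlgSpace c.pt := Groth.Agent.Helper4.SN472.isAlgSpace_pt D hDa c hc hD
  have hZ'alg : IsAlgSpace cZ.pt := Groth.Agent.Helper4.SN472.isAlgSpace_pt DZ hDZa cZ hcZ hDZ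
  have hZ'red : IsReducedSp cZ.pt :=
    Groth.Agent.Helper4.SN474.isReducedSp_pt DZ hDZa cZ hcZ hDZ (fun i => (hι i).2.2)
  have hgm : Mono g := Groth.Agent.Helper5.SchImg.mono_of_closedImmersion _ hgcl
  have hzm : Mono zι := Groth.Agent.Helper5.SchImg.mono_of_closedImmersion _ hz.1
  -- the point `x` lies in the image
  have hxmem : x ∈ Set.range (Points.map g) := by
    induction x using Points.ind with
    | h pt =>
      let K' : Space S := ⟨(yon S).obj pt.pt, IsAlgSpace.yon_obj _⟩
      have hK'red : IsReducedSp K'.obj := isReducedSp_fieldPt pt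
      have hfac : ∀ i, ∃ l : (yon S).obj pt.pt ⟶ DZ.obj i,
          l ≫ ι.app i = pt.toHom ≫ c.π.app i := by
        intro i
        let Di : Space S := ⟨D.obj i, hD i⟩
        let DZi : Space S := ⟨DZ.obj i, hDZ i⟩
        let ii : DZi ⟶ Di := ObjectProperty.homMk (ι.app i)
        let fi : K' ⟶ Di := ObjectProperty.homMk (pt.toHom ≫ c.π.app i)
        have hsub : Set.range (Points.map fi.hom) ⊆ Set.range (Points.map ii.hom) := by
          show Set.range (Points.map (pt.toHom ≫ c.π.app i)) ⊆ Set.range (Points.map (ι.app i))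
          rw [(hι i).2.1, Groth.Agent.Helper5.ProperImg.range_comp, range_map_toHom,
            Set.image_singleton]
          exact Set.singleton_subset_iff.2 (subset_closure rfl)
        obtain ⟨l, hl⟩ := (Groth.Agent.S10193.result ii (hι i).1 hK'red fi).2 hsub
        exact ⟨l.hom, congrArg (fun m : K' ⟶ Di => m.hom) hl⟩
      choose l hl using hfac
      let sK : Cone DZ :=
        { pt := (yon S).obj pt.pt
          π :=
            { app := fun i => l i
              naturality := fun i j φ => by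
                simp only [Functor.const_obj_obj, Functor.const_obj_map, Category.id_comp]
                haveI := hm j
                rw [← cancel_mono (ι.app j), Category.assoc, ι.naturality, ← Category.assoc, hl,
                  hl, Category.assoc, c.w] } }
      let lK : (yon S).obj pt.pt ⟶ cZ.pt := hcZ.lift sK
      have hlK : lK ≫ g = pt.toHom := by
        apply hc.hom_ext
        intro i
        rw [Category.assoc, hg, ← Category.assoc]
        have : lK ≫ cZ.π.app i = l i := hcZ.fac sK i
        rw [this, hl]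
      let s₀ : ↥pt.pt.left := (IsLocalRing.closedPoint pt.K : ↥(Spec (CommRingCat.of pt.K)))
      refine ⟨Points.ofPt lK s₀, ?_⟩
      rw [Points.map_ofPt, hlK]
      exact Points.ofPt_toHom pt s₀
  have hrange : Set.range (Points.map g) = closure {x} := by
    apply subset_antisymm
    · rintro _ ⟨z', rfl⟩
      rw [closure_eq D hDa c hc hD x]
      intro i
      rw [← Points.map_comp, hg, Points.map_comp]
      have h1 : Points.map (ι.app i) (Points.map (cZ.π.app i) z') ∈
          Set.range (Points.map (ι.app i)) := ⟨_, rfl⟩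
      rw [(hι i).2.1] at h1
      exact h1
    · exact closure_minimal (Set.singleton_subset_iff.2 hxmem)
        (Groth.Agent.Helper5.ProperImg.isClosed_range_of_closedImmersion hcalg g hgcl)
  -- compare the two reduced induced structures
  let X' : Space S := ⟨c.pt, hcalg⟩
  let Z' : Space S := ⟨cZ.pt, hZ'alg⟩
  let gi : Z' ⟶ X' := ObjectProperty.homMk g
  let zi : Z ⟶ X' := ObjectProperty.homMk zι
  obtain ⟨e, he⟩ := (Groth.Agent.S10193.result gi hgcl hz.2.2 zi).2 (by
    show Set.range (Points.map zι) ⊆ Set.range (Points.map g)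
    rw [hz.2.1, hrange])
  obtain ⟨e', he'⟩ := (Groth.Agent.S10193.result zi hz.1 hZ'red gi).2 (by
    show Set.range (Points.map g) ⊆ Set.range (Points.map zι)
    rw [hz.2.1, hrange])
  have he1 : e.hom ≫ g = zι := congrArg (fun m : Z ⟶ X' => m.hom) he
  have he2 : e'.hom ≫ zι = g := congrArg (fun m : Z' ⟶ X' => m.hom) he'
  have h12 : e.hom ≫ e'.hom = 𝟙 _ := by
    rw [← cancel_mono zι, Category.assoc, he2, he1, Category.id_comp]
  have h21 : e'.hom ≫ e.hom = 𝟙 _ := by
    rw [← cancel_mono g, Category.assoc, he1, he2, Category.id_comp]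
  let φ : Z.obj ≅ cZ.pt := ⟨e.hom, e'.hom, h12, h21⟩
  have hw : ∀ i, (Cone.mk Z.obj ξ).π.app i = φ.hom ≫ cZ.π.app i := by
    intro i
    haveI := hm i
    show ξ.app i = e.hom ≫ cZ.π.app i
    rw [← cancel_mono (ι.app i), hξ, Category.assoc, ← hg, ← Category.assoc, he1]
  exact ⟨hcZ.ofIsoLimit (Cones.ext φ hw).symm⟩

end Groth.Agent.Helper4.SN479
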