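import Groth.Prelude.Def_AlgSpRep
import Groth.Agent.Helper4.SN479
import Groth.Agent.Helper4.AlgSpUC
import Groth.Agent.Helper5.ZarGlue8
import Groth.Agent.Helper5.AlgSpOpen
import Groth.Agent.S10194
import Mathlib

/-!
Quasi-compact open subspaces of a cofiltered limit of quasi-compact algebraic spaces (affine
transitions) come from a stage.
-/

set_option autoImplicit false
universe u
open CategoryTheory CategoryTheory.Limits AlgebraicGeometry Opposite MorphismProperty Topology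

namespace Groth.Agent.Helper4.SN480

open AlgSp Groth.Agent.Helper4.SN471 Groth.Agent.Helper4.SN473 Groth.Agent.Helper4.SN477

variable {S : Scheme.{u}}

variable {I : Type u} [SmallCategory I] [IsCofiltered I] (D : I ⥤ Sp S)
  (hDa : ∀ (i j : I) (φ : i ⟶ j), IsAffineMor (D.map φ))
  (c : Cone D) (hc : IsLimit c)

include hDa hc in
/-- A quasi-compact open subset of the limit is the preimage of a quasi-compact open subset of a
stage. -/
theorem exists_stage_compact_open (hD : ∀ i, IsAlgSpace (D.obj i))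
    (hqc : ∀ i, IsQuasiCompactSp (D.obj i)) (W : Set (Points c.pt)) (hW : IsOpen W)
    (hWc : IsCompact W) :
    ∃ (i : I) (V : Set (Points (D.obj i))), IsOpen V ∧ IsCompact V ∧
      Points.map (c.π.app i) ⁻¹' V = W := by
  classical
  obtain ⟨i₀⟩ := IsCofiltered.nonempty (C := I)
  obtain ⟨U₀, p₀, hp₀e, hp₀s, hU₀c⟩ := hqc i₀
  obtain ⟨cU, hcU, hcU', p, q, sq, haff, hp, hq⟩ := exists_chart_limit' D hDa c hc i₀ p₀
  have hpe : RepWith @Etale p := (RepWith (S := S) @Etale).of_isPullback sq.flip hp₀e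
  have hps : RepWith @Surjective p := (RepWith (S := S) @Surjective).of_isPullback sq.flip hp₀s
  have hcalg : IsAlgSpace c.pt := Groth.Agent.Helper4.SN472.isAlgSpace_pt D hDa c hc hD
  let D' : Over i₀ ⥤ Scheme.{u} := Usys D hDa i₀ p₀ ⋙ Over.forget S
  haveI : ∀ {j j' : Over i₀} (m : j ⟶ j'), IsAffineHom (D'.map m) := fun m =>
    isAffineHom_Umap D hDa i₀ p₀ m
  have hcU'' : IsLimit ((Over.forget S).mapCone cU) := hcU'
  have hB := isBasis_preimage_isAffineOpen D' ((Over.forget S).mapCone cU) hcU''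
  rw [TopologicalSpace.Opens.IsBasis] at hB
  have hW' : IsOpen (Points.ofPt p ⁻¹' W) := hW.preimage (Points.continuous_ofPt p)
  have hje : ∀ j : Over i₀, RepWith @Etale (Ufst D hDa i₀ p₀ j) := fun j =>
    (RepWith (S := S) @Etale).of_isPullback (Usq D hDa i₀ p₀ j).flip hp₀e
  -- basic opens around the points of the preimage
  have key : ∀ t : ↥(Points.ofPt p ⁻¹' W), ∃ (j : Over i₀) (A : (D'.obj j).Opens),
      IsAffineOpen A ∧ (cU.π.app j).left t.1 ∈ A ∧
      ∀ t' : ↥cU.pt.left, (cU.π.app j).left t' ∈ A → Points.ofPt p t' ∈ W := by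
    intro t
    obtain ⟨_, ⟨_, ⟨j, A, hA, rfl⟩, rfl⟩, htA, hAW⟩ := hB.exists_subset_of_mem_open t.2 hW'
    exact ⟨j, A, hA, htA, fun t' ht' => hAW ht'⟩
  choose jt At hAt htA hAW using key
  let O : ↥(Points.ofPt p ⁻¹' W) → Set (Points c.pt) := fun t =>
    Points.ofPt p '' {t' | (cU.π.app (jt t)).left t' ∈ At t}
  have hOopen : ∀ t, IsOpen (O t) := fun t =>
    Groth.Agent.Helper5.Decent3.isOpenMap_ofPt hcalg p hpe _
      ((At t).2.preimage (cU.π.app (jt t)).left.continuous)
  have hcover : W ⊆ ⋃ t, O t := by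
    intro x hx
    obtain ⟨t, rfl⟩ := Groth.Agent.Helper5.QuotEff.exists_ofPt_eq p hps x
    exact Set.mem_iUnion.2 ⟨⟨t, hx⟩, t, htA ⟨t, hx⟩, rfl⟩
  obtain ⟨F, hF⟩ := hWc.elim_finite_subcover O hOopen hcover
  obtain ⟨js, hjs⟩ := IsCofiltered.inf_objs_exists (F.image jt)
  let m : ∀ t : {t // t ∈ F}, js ⟶ jt t.1 := fun t =>
    (hjs (Finset.mem_image_of_mem jt t.2)).some
  let A : Set ↥(D'.obj js) := ⋃ t : {t // t ∈ F}, ((D'.map (m t)) ⁻¹ᵁ (At t.1) : Set _)
  have hAopen : IsOpen A := isOpen_iUnion fun t => ((D'.map (m t)) ⁻¹ᵁ (At t.1)).2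
  have hAc : IsCompact A := isCompact_iUnion fun t =>
    ((hAt t.1).preimage (D'.map (m t))).isCompact
  have hπm : ∀ (t : {t // t ∈ F}) (t' : ↥cU.pt.left),
      (D'.map (m t)) ((cU.π.app js).left t') = (cU.π.app (jt t.1)).left t' := by
    intro t t'
    have h1 : cU.π.app (jt t.1) = cU.π.app js ≫ (Usys D hDa i₀ p₀).map (m t) := (cU.w (m t)).symm
    rw [h1]
    rfl
  refine ⟨js.left, Points.ofPt (Ufst D hDa i₀ p₀ js) '' A,
    Groth.Agent.Helper5.Decent3.isOpenMap_ofPt (hD js.left) _ (hje js) _ hAopen,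
    hAc.image (Points.continuous_ofPt _), ?_⟩
  apply subset_antisymm
  · rintro y ⟨v, hvA, hv⟩
    obtain ⟨t, hvt⟩ := Set.mem_iUnion.1 hvA
    have hsq := isPullback_stage D hDa c i₀ p₀ cU p q sq hp hq js
    have h0 : Points.map (c.π.app js.left) y = Points.map (Ufst D hDa i₀ p₀ js)
        (Points.schemeHomeo (Uobj D hDa i₀ p₀ js) v) := by
      rw [Groth.Agent.Helper4.AlgSpQC2.ofPt_eq_map_schemeHomeo]
      exact hv.symm
    obtain ⟨z, hz1, hz2⟩ := Groth.Agent.Helper4.AlgSpPtsDesc.exists_point_of_isPullback hsq y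
      (Points.schemeHomeo (Uobj D hDa i₀ p₀ js) v) h0
    obtain ⟨t', rfl⟩ := (Points.schemeHomeo cU.pt).surjective z
    rw [Points.map_yon_map_apply] at hz2
    have h3 : (cU.π.app js).left t' = v := (Points.schemeHomeo _).injective hz2
    have h4 : Points.ofPt p t' = y := by
      rw [← hz1]
      exact (Groth.Agent.Helper4.AlgSpQC2.ofPt_eq_map_schemeHomeo p t').symm
    rw [← h4]
    apply hAW t.1
    rw [← hπm t t', h3]
    exact hvt
  · intro x hx
    obtain ⟨t, ht⟩ := Set.mem_iUnion₂.1 (hF hx)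
    obtain ⟨t', ht', rfl⟩ := ht.2
    show Points.map (c.π.app js.left) (Points.ofPt p t') ∈
      Points.ofPt (Ufst D hDa i₀ p₀ js) '' A
    rw [map_π_ofPt D hDa c i₀ p₀ cU p hp js t']
    refine ⟨_, ?_, rfl⟩
    refine Set.mem_iUnion.2 ⟨⟨t, ht.1⟩, ?_⟩
    show (D'.map (m ⟨t, ht.1⟩)) ((cU.π.app js).left t') ∈ At t
    rw [hπm ⟨t, ht.1⟩ t']
    exact ht'

include hDa hc in
theorem main (hD : ∀ i, IsAlgSpace (D.obj i)) (hqc : ∀ i, IsQuasiCompactSp (D.obj i))
    (U : Sp S) (j : U ⟶ c.pt) (hj : RepWith @IsOpenImmersion j) (hU : IsQuasiCompactSp U) :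
    ∃ (i : I) (Ui : Sp S) (ji : Ui ⟶ D.obj i) (q : U ⟶ Ui),
      RepWith @IsOpenImmersion ji ∧ IsQuasiCompactSp Ui ∧ IsPullback j q (c.π.app i) ji := by
  have hcalg : IsAlgSpace c.pt := Groth.Agent.Helper4.SN472.isAlgSpace_pt D hDa c hc hD
  have hUalg : IsAlgSpace U := Groth.Agent.Helper4.SN472.isAlgSpace_of_representable j hj.rep hcalg
  have hoe : ∀ {F G : Sp S} (f : F ⟶ G), RepWith @IsOpenImmersion f → RepWith @Etale f :=
    fun f hf => Groth.Agent.Helper4.AlgSpSrc.repWith_mono (fun g hg => by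
      have : IsOpenImmersion g := hg
      infer_instance) hf
  have hWo : IsOpen (Set.range (Points.map j)) :=
    (Groth.Agent.Helper4.AlgSpQC2.isOpenMor_of_repWith_etale hcalg j (hoe j hj)).isOpen_range
  haveI : CompactSpace (Points U) :=
    Groth.Agent.Helper4.AlgSpQC2.compactSpace_points_of_isQuasiCompactSp hU
  have hWc : IsCompact (Set.range (Points.map j)) := isCompact_range (Points.continuous_map j)
  obtain ⟨i, V, hVo, hVc, hVW⟩ := exists_stage_compact_open D hDa c hc hD hqc _ hWo hWc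
  obtain ⟨Ui, ji, hUialg, hji, hrange⟩ :=
    Groth.Agent.Helper5.AlgSpOpen.exists_open_subspace (hD i) V hVo
  haveI hjim : Mono ji := Groth.Agent.Helper5.ZarGlue.mono_of_oi ji hji
  have hinj : Function.Injective (Points.map ji) :=
    Groth.Agent.Helper5.ProperImg.points_injective_of_mono hUialg (hD i) ji
  have hemb : IsOpenEmbedding (Points.map ji) :=
    IsOpenEmbedding.of_continuous_injective_isOpenMap (Points.continuous_map ji) hinj
      (Groth.Agent.Helper4.AlgSpQC2.isOpenMor_of_repWith_etale (hD i) ji (hoe ji hji))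
  haveI : CompactSpace (Points Ui) := by
    refine ⟨hemb.isInducing.isCompact_iff.2 ?_⟩
    rw [Set.image_univ, hrange]
    exact hVc
  have hUiqc : IsQuasiCompactSp Ui :=
    Groth.Agent.Helper4.AlgSpUC.isQuasiCompactSp_of_compactSpace_points hUialg
  -- the pullback of the stage open
  have sqP : IsPullback (pullback.fst (c.π.app i) ji) (pullback.snd (c.π.app i) ji)
      (c.π.app i) ji := IsPullback.of_hasPullback _ _
  have hfst : RepWith @IsOpenImmersion (pullback.fst (c.π.app i) ji) :=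
    (RepWith (S := S) @IsOpenImmersion).of_isPullback sqP.flip hji
  have hPalg : IsAlgSpace (pullback (c.π.app i) ji) :=
    Groth.Agent.Helper4.SN472.isAlgSpace_of_representable _ hfst.rep hcalg
  have hrangeP : Set.range (Points.map (pullback.fst (c.π.app i) ji)) =
      Set.range (Points.map j) := by
    rw [← hVW]
    apply subset_antisymm
    · rintro _ ⟨z, rfl⟩
      show Points.map (c.π.app i) (Points.map (pullback.fst (c.π.app i) ji) z) ∈ V
      rw [← Points.map_comp, sqP.w, Points.map_comp, ← hrange]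
      exact ⟨_, rfl⟩
    · intro x hx
      have hx' : Points.map (c.π.app i) x ∈ Set.range (Points.map ji) := by
        rw [hrange]; exact hx
      obtain ⟨u, hu⟩ := hx'
      obtain ⟨z, hz1, -⟩ := Groth.Agent.Helper4.AlgSpPtsDesc.exists_point_of_isPullback sqP x u
        hu.symm
      exact ⟨z, hz1⟩
  let X' : Space S := ⟨c.pt, hcalg⟩
  let P' : Space S := ⟨pullback (c.π.app i) ji, hPalg⟩
  let U' : Space S := ⟨U, hUalg⟩
  let fP : P' ⟶ X' := ObjectProperty.homMk (pullback.fst (c.π.app i) ji)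
  let fU : U' ⟶ X' := ObjectProperty.homMk j
  obtain ⟨g, hg⟩ := (Groth.Agent.S10194.result fP hfst fU).2 (by
    show Set.range (Points.map j) ⊆ Set.range (Points.map (pullback.fst (c.π.app i) ji))
    rw [hrangeP])
  obtain ⟨g', hg'⟩ := (Groth.Agent.S10194.result fU hj fP).2 (by
    show Set.range (Points.map (pullback.fst (c.π.app i) ji)) ⊆ Set.range (Points.map j)
    rw [hrangeP])
  have hg1 : g.hom ≫ pullback.fst (c.π.app i) ji = j := congrArg (fun m : U' ⟶ X' => m.hom) hg
  have hg2 : g'.hom ≫ j = pullback.fst (c.π.app i) ji :=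
    congrArg (fun m : P' ⟶ X' => m.hom) hg'
  haveI hjm : Mono j := Groth.Agent.Helper5.ZarGlue.mono_of_oi j hj
  haveI hfm : Mono (pullback.fst (c.π.app i) ji) := Groth.Agent.Helper5.ZarGlue.mono_of_oi _ hfst
  have h12 : g.hom ≫ g'.hom = 𝟙 _ := by
    rw [← cancel_mono j, Category.assoc, hg2, hg1, Category.id_comp]
  have h21 : g'.hom ≫ g.hom = 𝟙 _ := by
    rw [← cancel_mono (pullback.fst (c.π.app i) ji), Category.assoc, hg1, hg2, Category.id_comp]
  let e : pullback (c.π.app i) ji ≅ U := ⟨g'.hom, g.hom, h21, h12⟩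
  refine ⟨i, Ui, ji, g.hom ≫ pullback.snd (c.π.app i) ji, hji, hUiqc, ?_⟩
  refine sqP.of_iso e (Iso.refl _) (Iso.refl _) (Iso.refl _) ?_ ?_ ?_ ?_
  · show pullback.fst (c.π.app i) ji ≫ 𝟙 _ = g'.hom ≫ j
    rw [Category.comp_id, hg2]
  · show pullback.snd (c.π.app i) ji ≫ 𝟙 _ = g'.hom ≫ g.hom ≫ pullback.snd (c.π.app i) ji
    rw [Category.comp_id, ← Category.assoc, h21, Category.id_comp]
  · simp
  · simp

end Groth.Agent.Helper4.SN480
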