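import Groth.Prelude.Def_AlgSpRep
import Groth.Agent.Helper4.SN480
import Groth.Agent.Helper4.AlgSpQC
import Groth.Agent.Helper5.AffDesc9
import Groth.Agent.Lead.LimCIStage
import Groth.Agent.S9952
import Mathlib

/-!
A closed subspace of a cofiltered limit of quasi-compact algebraic spaces (affine transitions),
locally of finite type over the base, is a closed subspace of all small enough stages.
-/

set_option autoImplicit false
universe u
open CategoryTheory CategoryTheory.Limits AlgebraicGeometry Opposite MorphismProperty Topology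

namespace Groth.Agent.Helper4.SN481

open AlgSp Groth.Agent.Helper4.SN471 Groth.Agent.Helper4.SN473 Groth.Agent.Helper4.SN477

variable {S : Scheme.{u}}

variable {I : Type u} [SmallCategory I] [IsCofiltered I] (D : I ⥤ Sp S)
  (hDa : ∀ (i j : I) (φ : i ⟶ j), IsAffineMor (D.map φ))
  (c : Cone D) (hc : IsLimit c)

include hDa hc in
theorem eventually_closedImmersion (hD : ∀ i, IsAlgSpace (D.obj i))
    (Y : Space S) (y : Y.obj ⟶ c.pt) (hy : RepWith @IsClosedImmersion y) (i₁ : I)
    (hqc : IsQuasiCompactSp (D.obj i₁))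
    (hlft : LocP @LocallyOfFiniteType (y ≫ c.π.app i₁)) :
    ∃ i₀ : I, ∀ (i : I) (_ : i ⟶ i₀), RepWith @IsClosedImmersion (y ≫ c.π.app i) := by
  obtain ⟨U₀, p₀, hp₀e, hp₀s, hU₀aff⟩ := Groth.Agent.Helper4.AlgSpQC.exists_affine_chart hqc
  haveI : IsAffine U₀.left := hU₀aff
  obtain ⟨cU, hcU, hcU', p, q, sq, haff, hp, hq⟩ := exists_chart_limit' D hDa c hc i₁ p₀
  have hpe : RepWith @Etale p := (RepWith (S := S) @Etale).of_isPullback sq.flip hp₀e
  have hps : RepWith @Surjective p := (RepWith (S := S) @Surjective).of_isPullback sq.flip hp₀s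
  let D' : Over i₁ ⥤ Scheme.{u} := Usys D hDa i₁ p₀ ⋙ Over.forget S
  haveI : ∀ {j j' : Over i₁} (m : j ⟶ j'), IsAffineHom (D'.map m) := fun m =>
    isAffineHom_Umap D hDa i₁ p₀ m
  have hcU'' : IsLimit ((Over.forget S).mapCone cU) := hcU'
  have hje : ∀ j : Over i₁, RepWith @Etale (Ufst D hDa i₁ p₀ j) := fun j =>
    (RepWith (S := S) @Etale).of_isPullback (Usq D hDa i₁ p₀ j).flip hp₀e
  have hjs : ∀ j : Over i₁, RepWith @Surjective (Ufst D hDa i₁ p₀ j) := fun j =>
    (RepWith (S := S) @Surjective).of_isPullback (Usq D hDa i₁ p₀ j).flip hp₀s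
  -- the closed subscheme of the chart limit
  have sqV := hy.rep.isPullback p
  have hvcl : IsClosedImmersion (hy.rep.snd p).left := hy.property _ _ _ sqV
  generalize hy.rep.snd p = v at sqV hvcl
  generalize hy.rep.fst p = fstV at sqV
  generalize hy.rep.pullback p = V at fstV v sqV hvcl
  have hfe : RepWith @Etale fstV := (RepWith (S := S) @Etale).of_isPullback sqV.flip hpe
  -- finite type over the top stage
  have hcomm : fstV ≫ (y ≫ c.π.app i₁) =
      (yon S).map (v ≫ cU.π.app (jtop i₁)) ≫ Ufst D hDa i₁ p₀ (jtop i₁) := by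
    rw [← Category.assoc, sqV.w, Category.assoc, Functor.map_comp, Category.assoc]
    congr 1
    exact hp (jtop i₁)
  have hft : LocallyOfFiniteType (v ≫ cU.π.app (jtop i₁)).left :=
    hlft fstV (Ufst D hDa i₁ p₀ (jtop i₁)) (v ≫ cU.π.app (jtop i₁)) hfe (hje _) hcomm
  haveI : CompactSpace ↥(D'.obj (jtop i₁)) := by
    have h : IsAffineHom (Usnd D hDa i₁ p₀ (jtop i₁)).left := isAffineHom_Usnd D hDa i₁ p₀ _
    haveI : QuasiCompact (Usnd D hDa i₁ p₀ (jtop i₁)).left := inferInstance
    have h2 : CompactSpace ↥(Uobj D hDa i₁ p₀ (jtop i₁)).left :=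
      QuasiCompact.compactSpace_of_compactSpace (Usnd D hDa i₁ p₀ (jtop i₁)).left
    exact h2
  let h' : V.left ⟶ ((Over.forget S).mapCone cU).pt := v.left
  haveI : IsClosedImmersion h' := hvcl
  haveI : LocallyOfFiniteType (h' ≫ ((Over.forget S).mapCone cU).π.app (jtop i₁)) := hft
  obtain ⟨j, hj⟩ := Groth.Agent.Lead.LimCIStage.exists_isClosedImmersion_stage hcU'' (jtop i₁)
    h'
  refine ⟨j.left.left, fun i φ => ?_⟩
  let k : Over i₁ := Over.mk (φ ≫ j.left.hom)
  let m : k ⟶ j.left := Over.homMk φ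
  have hkcl : IsClosedImmersion (v ≫ cU.π.app k).left := by
    let f1 : V.left ⟶ (Uobj D hDa i₁ p₀ k).left := (v ≫ cU.π.app k).left
    let g1 : (Uobj D hDa i₁ p₀ k).left ⟶ (Uobj D hDa i₁ p₀ j.left).left :=
      (Umap D hDa i₁ p₀ m).left
    have h1 : f1 ≫ g1 = h' ≫ ((Over.forget S).mapCone cU).π.app j.left := by
      have h2 : cU.π.app j.left = cU.π.app k ≫ (Usys D hDa i₁ p₀).map m := (cU.w m).symm
      show (v ≫ cU.π.app k).left ≫ (Umap D hDa i₁ p₀ m).left = v.left ≫ (cU.π.app j.left).left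
      rw [h2]
      rfl
    haveI : IsAffineHom g1 := isAffineHom_Umap D hDa i₁ p₀ m
    haveI : IsSeparated g1 := IsSeparated.of_isAffineHom _
    haveI : IsClosedImmersion (f1 ≫ g1) := by
      rw [h1]; exact hj
    exact IsClosedImmersion.of_comp f1 g1
  have hsq : IsPullback fstV ((yon S).map (v ≫ cU.π.app k)) (y ≫ c.π.app k.left)
      (Ufst D hDa i₁ p₀ k) := by
    rw [Functor.map_comp]
    exact sqV.paste_vert (isPullback_stage D hDa c i₁ p₀ cU p q sq hp hq k)
  exact Groth.Agent.Helper5.AffDesc.repWith_of_etale_chart @IsClosedImmersion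
    (fun _ _ g hg => by
      have : IsClosedImmersion g := hg
      infer_instance)
    (y ≫ c.π.app i) (Uobj D hDa i₁ p₀ k) (Ufst D hDa i₁ p₀ k) (hje k) (hjs k) fstV
    ((yon S).map (v ≫ cU.π.app k)) hsq ((repWith_yon_map_iff _ _).2 hkcl)

end Groth.Agent.Helper4.SN481
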