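import Groth.Prelude.Def_AlgSpRep
import Groth.Agent.Helper4.SN481
import Groth.Agent.Helper5.AlgSpIso
import Groth.Agent.S9959
import Mathlib

/-!
Cofiltered systems of algebraic spaces whose transition maps are closed immersions: if the limit
is locally of finite presentation over a stage, the projections are eventually isomorphisms.
-/

set_option autoImplicit false
universe u
open CategoryTheory CategoryTheory.Limits AlgebraicGeometry Opposite MorphismProperty Topology

namespace Groth.Agent.Helper4.SN482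

open AlgSp Groth.Agent.Helper4.SN471 Groth.Agent.Helper4.SN473 Groth.Agent.Helper4.SN477

variable {S : Scheme.{u}}

variable {I : Type u} [SmallCategory I] (D : I ⥤ Sp S)
  (hDa : ∀ (i j : I) (φ : i ⟶ j), IsAffineMor (D.map φ))

/-- The transition maps of a chart system are base changes of the transition maps. -/
theorem isPullback_Umap (i₀ : I) {U₀ : Over S} (a : (yon S).obj U₀ ⟶ D.obj i₀)
    {j j' : Over i₀} (m : j ⟶ j') :
    IsPullback (Ufst D hDa i₀ a j) ((yon S).map (Umap D hDa i₀ a m)) (D.map m.left)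
      (Ufst D hDa i₀ a j') := by
  have big : IsPullback (Ufst D hDa i₀ a j)
      ((yon S).map (Umap D hDa i₀ a m) ≫ (yon S).map (Usnd D hDa i₀ a j'))
      (D.map m.left ≫ D.map j'.hom) a := by
    rw [← Functor.map_comp, Umap_snd, ← D.map_comp, Over.w m]
    exact Usq D hDa i₀ a j
  exact IsPullback.of_bot big (yon_Umap_fst D hDa i₀ a m).symm (Usq D hDa i₀ a j')

variable [IsCofiltered I] (c : Cone D) (hc : IsLimit c)

include hDa hc in
set_option backward.isDefEq.respectTransparency false in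
theorem eventually_isIso
    (hDc : ∀ (i j : I) (φ : i ⟶ j), RepWith @IsClosedImmersion (D.map φ)) (i₁ : I)
    (hqc : IsQuasiCompactSp (D.obj i₁))
    (hlfp : LocP @LocallyOfFinitePresentation (c.π.app i₁)) :
    ∃ i₀ : I, ∀ (i : I) (_ : i ⟶ i₀), IsIso (c.π.app i) := by
  obtain ⟨U₀, p₀, hp₀e, hp₀s, hU₀aff⟩ := Groth.Agent.Helper4.AlgSpQC.exists_affine_chart hqc
  haveI : IsAffine U₀.left := hU₀aff
  obtain ⟨cU, hcU, hcU', p, q, sq, haff, hp, hq⟩ := exists_chart_limit' D hDa c hc i₁ p₀
  have hpe : RepWith @Etale p := (RepWith (S := S) @Etale).of_isPullback sq.flip hp₀e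
  let D' : Over i₁ ⥤ Scheme.{u} := Usys D hDa i₁ p₀ ⋙ Over.forget S
  haveI : ∀ {j j' : Over i₁} (m : j ⟶ j'), IsAffineHom (D'.map m) := fun m =>
    isAffineHom_Umap D hDa i₁ p₀ m
  have hcU'' : IsLimit ((Over.forget S).mapCone cU) := hcU'
  have hje : ∀ j : Over i₁, RepWith @Etale (Ufst D hDa i₁ p₀ j) := fun j =>
    (RepWith (S := S) @Etale).of_isPullback (Usq D hDa i₁ p₀ j).flip hp₀e
  have hjs : ∀ j : Over i₁, RepWith @Surjective (Ufst D hDa i₁ p₀ j) := fun j =>
    (RepWith (S := S) @Surjective).of_isPullback (Usq D hDa i₁ p₀ j).flip hp₀s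
  haveI hUaff : ∀ j : Over i₁, IsAffine (D'.obj j) := fun j => by
    haveI : IsAffineHom (Usnd D hDa i₁ p₀ j).left := isAffineHom_Usnd D hDa i₁ p₀ j
    have h2 : IsAffine (Uobj D hDa i₁ p₀ j).left :=
      isAffine_of_isAffineHom (Usnd D hDa i₁ p₀ j).left
    exact h2
  have hUcl : ∀ {j j' : Over i₁} (m : j ⟶ j'), IsClosedImmersion (D'.map m) := fun m =>
    (hDc _ _ m.left).property _ _ _ (isPullback_Umap D hDa i₁ p₀ m)
  let cone := (Over.forget S).mapCone cU
  let f : cone.pt ⟶ D'.obj (jtop i₁) := cone.π.app (jtop i₁)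
  haveI hflfp : LocallyOfFinitePresentation f :=
    hlfp p (Ufst D hDa i₁ p₀ (jtop i₁)) (cU.π.app (jtop i₁)) hpe (hje _) (hp (jtop i₁))
  have htop : ∀ {j j' : Over i₁} (m : j ⟶ j'), m ≫ toTop i₁ j' = toTop i₁ j := by
    intro j j' m
    apply Over.OverMorphism.ext
    simp only [toTop, Over.comp_left, Over.homMk_left]
    exact Over.w m
  let t : D' ⟶ (Functor.const (Over i₁)).obj (D'.obj (jtop i₁)) :=
    { app := fun j => D'.map (toTop i₁ j)
      naturality := fun j j' m => by
        simp only [Functor.const_obj_obj, Functor.const_obj_map, Category.comp_id]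
        rw [← D'.map_comp, htop] }
  have ha : cone.π ≫ t = (Functor.const (Over i₁)).map (𝟙 cone.pt ≫ f) := by
    ext j
    simp only [NatTrans.comp_app, Functor.const_map_app, Category.id_comp]
    exact cone.w (toTop i₁ j)
  obtain ⟨j, g, hg1, hg2⟩ := Scheme.exists_π_app_comp_eq_of_locallyOfFinitePresentation D' t f
    cone hcU'' (𝟙 cone.pt) ha
  have hg2' : g ≫ cone.π.app (jtop i₁) = D'.map (toTop i₁ j) := hg2
  have hg3 : g ≫ cone.π.app j = 𝟙 (D'.obj j) := by
    haveI := hUcl (toTop i₁ j)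
    rw [← cancel_mono (D'.map (toTop i₁ j)), Category.assoc, cone.w, hg2', Category.id_comp]
  refine ⟨j.left, fun i φ => ?_⟩
  let k : Over i₁ := Over.mk (φ ≫ j.hom)
  let m : k ⟶ j := Over.homMk φ
  have hw : cone.π.app k ≫ D'.map m = cone.π.app j := cone.w m
  haveI hmm : Mono (D'.map m) := by
    haveI := hUcl m
    infer_instance
  have hk : IsIso (cone.π.app k) := by
    refine ⟨⟨D'.map m ≫ g, ?_, ?_⟩⟩
    · rw [← Category.assoc, hw, hg1]
      rfl
    · rw [← cancel_mono (D'.map m), Category.assoc, Category.assoc, hw, hg3, Category.comp_id,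
        Category.id_comp]
  have hk' : RepWith (MorphismProperty.isomorphisms Scheme.{u}) ((yon S).map (cU.π.app k)) :=
    (repWith_yon_map_iff _ _).2 hk
  have hsq := isPullback_stage D hDa c i₁ p₀ cU p q sq hp hq k
  have hfin := Groth.Agent.Helper5.AffDesc.repWith_of_etale_chart
    (MorphismProperty.isomorphisms Scheme.{u})
    (fun _ _ g hg => by
      haveI : IsIso g := hg
      infer_instance)
    (c.π.app i) (Uobj D hDa i₁ p₀ k) (Ufst D hDa i₁ p₀ k) (hje k) (hjs k) p
    ((yon S).map (cU.π.app k)) hsq hk'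
  exact Groth.Agent.Helper5.AlgSpIso.isIso_of_repWith_iso (c.π.app i) hfin

end Groth.Agent.Helper4.SN482
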