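import Groth.Prelude.Def_AlgSpRep
import Groth.Prelude.Def_AlgSp4
import Groth.Agent.Helper4.AlgSpLocPChart
import Groth.Agent.Helper4.AlgSpSrc
import Mathlib

/-!
Chart transfer for base changes: given a morphism `f₀ : X₀ ⟶ Y₀` of sheaves over `B₀` with charts
`W₀ ⟶ X₀`, `V₀ ⟶ Y₀`, `h₀ : W₀ ⟶ V₀`, a base change `r : B' ⟶ B₀` for which `B' ×_{B₀} V₀` is a
scheme `V'`, and any model `f' : X' ⟶ Y'` of the base change of `f₀` along `r`, the scheme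
`W' = W₀ ×_{V₀} V'` gives charts of `f'`.
-/

set_option autoImplicit false
universe u
open CategoryTheory CategoryTheory.Limits AlgebraicGeometry Opposite MorphismProperty

namespace Groth.Agent.Helper4.SN483

open AlgSp

variable {S : Scheme.{u}}

variable {B₀ B' X₀ Y₀ X' Y' : Sp S} (r : B' ⟶ B₀) (f₀ : X₀ ⟶ Y₀) (b₀ : Y₀ ⟶ B₀)
  {V₀ W₀ : Over S} (β : (yon S).obj V₀ ⟶ Y₀) (α : (yon S).obj W₀ ⟶ X₀) (h₀ : W₀ ⟶ V₀)
  (hαβ : α ≫ f₀ = (yon S).map h₀ ≫ β)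
  {V' : Over S} (u₁ : (yon S).obj V' ⟶ B') (u₂ : V' ⟶ V₀)
  (sqV : IsPullback u₁ ((yon S).map u₂) r (β ≫ b₀))
  (f' : X' ⟶ Y') (pY : Y' ⟶ Y₀) (qY : Y' ⟶ B') (sqY : IsPullback pY qY b₀ r)
  (pX : X' ⟶ X₀) (sqX : IsPullback pX f' f₀ pY)
  {W' : Over S} (w₁ : W' ⟶ W₀) (w₂ : W' ⟶ V') (sqW : IsPullback w₁ w₂ h₀ u₂)

include sqV in
theorem bChart_aux : ((yon S).map u₂ ≫ β) ≫ b₀ = u₁ ≫ r := by
  rw [Category.assoc]
  exact sqV.w.symm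

/-- The chart of `Y'`. -/
noncomputable def bChart : (yon S).obj V' ⟶ Y' :=
  sqY.lift ((yon S).map u₂ ≫ β) u₁ (bChart_aux r b₀ β u₁ u₂ sqV)

theorem bChart_pY : bChart r b₀ β u₁ u₂ sqV pY qY sqY ≫ pY = (yon S).map u₂ ≫ β :=
  sqY.lift_fst _ _ _

theorem bChart_qY : bChart r b₀ β u₁ u₂ sqV pY qY sqY ≫ qY = u₁ :=
  sqY.lift_snd _ _ _

/-- `V' = Y' ×_{Y₀} V₀`. -/
theorem isPullback_bChart :
    IsPullback (bChart r b₀ β u₁ u₂ sqV pY qY sqY) ((yon S).map u₂) pY β := by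
  have big : IsPullback (bChart r b₀ β u₁ u₂ sqV pY qY sqY ≫ qY) ((yon S).map u₂) r (β ≫ b₀) := by
    rw [bChart_qY]
    exact sqV
  exact IsPullback.of_right big (bChart_pY r b₀ β u₁ u₂ sqV pY qY sqY) sqY.flip

include hαβ sqW in
theorem aChart_aux :
    ((yon S).map w₁ ≫ α) ≫ f₀ =
      ((yon S).map w₂ ≫ bChart r b₀ β u₁ u₂ sqV pY qY sqY) ≫ pY := by
  rw [Category.assoc, hαβ, ← Category.assoc, ← Functor.map_comp, sqW.w, Functor.map_comp,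
    Category.assoc, Category.assoc, bChart_pY]

/-- The chart of `X'`. -/
noncomputable def aChart : (yon S).obj W' ⟶ X' :=
  sqX.lift ((yon S).map w₁ ≫ α) ((yon S).map w₂ ≫ bChart r b₀ β u₁ u₂ sqV pY qY sqY)
    (aChart_aux r f₀ b₀ β α h₀ hαβ u₁ u₂ sqV pY qY sqY w₁ w₂ sqW)

theorem aChart_pX :
    aChart r f₀ b₀ β α h₀ hαβ u₁ u₂ sqV f' pY qY sqY pX sqX w₁ w₂ sqW ≫ pX =
      (yon S).map w₁ ≫ α := sqX.lift_fst _ _ _

theorem aChart_f' :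
    aChart r f₀ b₀ β α h₀ hαβ u₁ u₂ sqV f' pY qY sqY pX sqX w₁ w₂ sqW ≫ f' =
      (yon S).map w₂ ≫ bChart r b₀ β u₁ u₂ sqV pY qY sqY := sqX.lift_snd _ _ _

/-- `W' = X' ×_{X₀} W₀`. -/
theorem isPullback_aChart :
    IsPullback (aChart r f₀ b₀ β α h₀ hαβ u₁ u₂ sqV f' pY qY sqY pX sqX w₁ w₂ sqW)
      ((yon S).map w₁) pX α := by
  have h1 : IsPullback ((yon S).map w₁) ((yon S).map w₂) ((yon S).map h₀) ((yon S).map u₂) :=
    sqW.map (yon S)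
  have big2 : IsPullback ((yon S).map w₁)
      ((yon S).map w₂ ≫ bChart r b₀ β u₁ u₂ sqV pY qY sqY) ((yon S).map h₀ ≫ β) pY :=
    h1.paste_vert (isPullback_bChart r b₀ β u₁ u₂ sqV pY qY sqY).flip
  rw [← hαβ, ← aChart_f' r f₀ b₀ β α h₀ hαβ u₁ u₂ sqV f' pY qY sqY pX sqX w₁ w₂ sqW] at big2
  exact (IsPullback.of_bot big2
    (aChart_pX r f₀ b₀ β α h₀ hαβ u₁ u₂ sqV f' pY qY sqY pX sqX w₁ w₂ sqW).symm sqX).flip

include hαβ sqV sqY sqX sqW in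
/-- From the base change to the chart. -/
theorem P_of_locP (P : MorphismProperty Scheme.{u}) (hβ : RepWith @Etale β)
    (hα : RepWith @Etale α) (hf' : LocP P f') : P w₂.left :=
  hf' (aChart r f₀ b₀ β α h₀ hαβ u₁ u₂ sqV f' pY qY sqY pX sqX w₁ w₂ sqW)
    (bChart r b₀ β u₁ u₂ sqV pY qY sqY) w₂
    ((RepWith (S := S) @Etale).of_isPullback
      (isPullback_aChart r f₀ b₀ β α h₀ hαβ u₁ u₂ sqV f' pY qY sqY pX sqX w₁ w₂ sqW).flip hα)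
    ((RepWith (S := S) @Etale).of_isPullback
      (isPullback_bChart r b₀ β u₁ u₂ sqV pY qY sqY).flip hβ)
    (aChart_f' r f₀ b₀ β α h₀ hαβ u₁ u₂ sqV f' pY qY sqY pX sqX w₁ w₂ sqW)

include hαβ sqV sqY sqX sqW in
/-- From the chart to the base change. -/
theorem locP_of_P (P : MorphismProperty Scheme.{u}) (hG : Groth.Agent.Helper4.SDClasses.Good P)
    (hβ : RepWith @Etale β)
    (hα : RepWith @Etale α) (hαs : RepWith @Surjective α) (hP : P w₂.left) : LocP P f' :=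
  Groth.Agent.Helper4.AlgSpLocPChart.locP_of_one_chart P hG f'
    (aChart r f₀ b₀ β α h₀ hαβ u₁ u₂ sqV f' pY qY sqY pX sqX w₁ w₂ sqW)
    (bChart r b₀ β u₁ u₂ sqV pY qY sqY) w₂
    ((RepWith (S := S) @Etale).of_isPullback
      (isPullback_aChart r f₀ b₀ β α h₀ hαβ u₁ u₂ sqV f' pY qY sqY pX sqX w₁ w₂ sqW).flip hα)
    ((RepWith (S := S) @Surjective).of_isPullback
      (isPullback_aChart r f₀ b₀ β α h₀ hαβ u₁ u₂ sqV f' pY qY sqY pX sqX w₁ w₂ sqW).flip hαs)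
    ((RepWith (S := S) @Etale).of_isPullback
      (isPullback_bChart r b₀ β u₁ u₂ sqV pY qY sqY).flip hβ)
    (aChart_f' r f₀ b₀ β α h₀ hαβ u₁ u₂ sqV f' pY qY sqY pX sqX w₁ w₂ sqW) hP

end Groth.Agent.Helper4.SN483
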