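import Groth.Prelude.Def_AlgSpRep
import Groth.Prelude.Def_AlgSp4
import Groth.Agent.Helper4.SN483
import Groth.Agent.Helper4.SN482
import Groth.Agent.Helper4.AlgSpQC2
import Groth.Agent.S9920
import Mathlib

/-!
Descending a property `P` of the base change of a morphism of algebraic spaces along a cofiltered
limit with affine transition maps, given the corresponding statement for schemes.
-/

set_option autoImplicit false
universe u
open CategoryTheory CategoryTheory.Limits AlgebraicGeometry Opposite MorphismProperty Topology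

namespace Groth.Agent.Helper4.SN484

open AlgSp Groth.Agent.Helper4.SN471 Groth.Agent.Helper4.SN473 Groth.Agent.Helper4.SN477

/-- The scheme-level descent statement for a property `P`. -/
def SchDescends (P : MorphismProperty Scheme.{u}) : Prop :=
  ∀ {I : Type u} [SmallCategory I] [IsCofiltered I]
    (D : I ⥤ Scheme.{u}) (c : Limits.Cone D) (_ : Limits.IsLimit c)
    [∀ (i j : I) (f : i ⟶ j), IsAffineHom (D.map f)] (i₀ : I) [CompactSpace (D.obj i₀)]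
    [QuasiSeparatedSpace (D.obj i₀)] {X₀ Y₀ : Scheme.{u}} (f₀ : X₀ ⟶ Y₀) (g₀ : Y₀ ⟶ D.obj i₀)
    [CompactSpace X₀] [QuasiSeparatedSpace X₀] [CompactSpace Y₀] [QuasiSeparatedSpace Y₀]
    [LocallyOfFinitePresentation f₀]
    {X Y : Scheme.{u}} (f : X ⟶ Y) (g : Y ⟶ c.pt) (qY : Y ⟶ Y₀) (qX : X ⟶ X₀)
    (_ : IsPullback qY g g₀ (c.π.app i₀)) (_ : IsPullback qX f f₀ qY), P f →
    ∃ (i : I) (φ : i ⟶ i₀) (Xi Yi : Scheme.{u}) (fi : Xi ⟶ Yi) (gi : Yi ⟶ D.obj i) (pY : Yi ⟶ Y₀)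
      (pX : Xi ⟶ X₀), IsPullback pY gi g₀ (D.map φ) ∧ IsPullback pX fi f₀ pY ∧ P fi

variable {S : Scheme.{u}}

set_option backward.isDefEq.respectTransparency false in
theorem main (P : MorphismProperty Scheme.{u}) (hG : Groth.Agent.Helper4.SDClasses.Good P)
    (hPd : SchDescends P)
    [QuasiSeparatedSpace S] {I : Type u} [SmallCategory I] [IsCofiltered I]
    (D : I ⥤ AlgSp.Sp S)
    (hDa : ∀ (i j : I) (φ : i ⟶ j), AlgSp.IsAffineMor (D.map φ))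
    (c : Cone D) (hc : IsLimit c) (i₀ : I)
    (X₀ Y₀ : AlgSp.Space S) (f₀ : X₀.obj ⟶ Y₀.obj) (b₀ : Y₀.obj ⟶ D.obj i₀)
    (hXqc : AlgSp.IsQuasiCompactSp X₀.obj)
    (hYqc : AlgSp.IsQuasiCompactSp Y₀.obj) (hYqs : AlgSp.IsQuasiSeparatedSp Y₀.obj)
    (X Y : AlgSp.Sp S) (f : X ⟶ Y) (pY : Y ⟶ Y₀.obj) (qY : Y ⟶ c.pt)
    (hY : IsPullback pY qY b₀ (c.π.app i₀)) (pX : X ⟶ X₀.obj) (hX : IsPullback pX f f₀ pY)
    (hf : AlgSp.LocP P f) (hf₀ : AlgSp.LocP @LocallyOfFinitePresentation f₀) :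
    ∃ (i : I) (φ : i ⟶ i₀), ∀ (Xi Yi : AlgSp.Sp S) (fi : Xi ⟶ Yi) (pYi : Yi ⟶ Y₀.obj)
      (qYi : Yi ⟶ D.obj i)
      (_ : IsPullback pYi qYi b₀ (D.map φ)) (pXi : Xi ⟶ X₀.obj) (_ : IsPullback pXi fi f₀ pYi),
      AlgSp.LocP P fi := by
  haveI := hG.bc
  -- (1) chart of `Y₀`
  obtain ⟨V₀, β, hβe, hβs, hV₀aff⟩ := Groth.Agent.Helper4.AlgSpQC.exists_affine_chart hYqc
  haveI : IsAffine V₀.left := hV₀aff
  -- (2) chart of `X₀ ×_{Y₀} V₀`
  have hqcm : IsQuasiCompactMor f₀ := by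
    let f1 : X₀ ⟶ Y₀ := ObjectProperty.homMk f₀
    exact Groth.Agent.S9920.result f1 hXqc hYqs
  have hX'qc : IsQuasiCompactSp (pullback f₀ β) :=
    hqcm (IsAlgSpace.yon_obj V₀) (Groth.Agent.Helper4.AlgSpQC2.isQuasiCompactSp_yon V₀) β
      (pullback.fst f₀ β) (pullback.snd f₀ β) (IsPullback.of_hasPullback f₀ β)
  obtain ⟨W₀, ω, hωe, hωs, hW₀aff⟩ := Groth.Agent.Helper4.AlgSpQC.exists_affine_chart hX'qc
  haveI : IsAffine W₀.left := hW₀aff
  have hfst_e : RepWith @Etale (pullback.fst f₀ β) :=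
    (RepWith (S := S) @Etale).of_isPullback (IsPullback.of_hasPullback f₀ β).flip hβe
  have hfst_s : RepWith @Surjective (pullback.fst f₀ β) :=
    (RepWith (S := S) @Surjective).of_isPullback (IsPullback.of_hasPullback f₀ β).flip hβs
  have hαe : RepWith @Etale (ω ≫ pullback.fst f₀ β) :=
    Groth.Agent.Helper4.AlgSpSrc.repWith_comp _ hωe hfst_e
  have hαs : RepWith @Surjective (ω ≫ pullback.fst f₀ β) :=
    Groth.Agent.Helper4.AlgSpSrc.repWith_comp _ hωs hfst_s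
  obtain ⟨h₀, hh₀⟩ := (yon S).map_surjective (ω ≫ pullback.snd f₀ β)
  have hαβ : (ω ≫ pullback.fst f₀ β) ≫ f₀ = (yon S).map h₀ ≫ β := by
    rw [hh₀, Category.assoc, Category.assoc, pullback.condition]
  haveI hh₀lfp : LocallyOfFinitePresentation h₀.left := hf₀ _ β h₀ hαe hβe hαβ
  -- (3) the chart system
  obtain ⟨cU, hcU, hcU', p, q, sq, haff, hp, hq⟩ := exists_chart_limit' D hDa c hc i₀ (β ≫ b₀)
  -- (4) the limit level
  have sqW : IsPullback (pullback.fst h₀ q) (pullback.snd h₀ q) h₀ q :=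
    IsPullback.of_hasPullback _ _
  have hPlim : P (pullback.snd h₀ q).left :=
    Groth.Agent.Helper4.SN483.P_of_locP (c.π.app i₀) f₀ b₀ β _ h₀ hαβ p q sq f pY qY hY pX hX _ _
      sqW P hβe hαe hf
  -- (5) scheme-level descent
  let D' : Over i₀ ⥤ Scheme.{u} := Usys D hDa i₀ (β ≫ b₀) ⋙ Over.forget S
  haveI : ∀ (j j' : Over i₀) (m : j ⟶ j'), IsAffineHom (D'.map m) := fun _ _ m =>
    isAffineHom_Umap D hDa i₀ (β ≫ b₀) m
  let cone := (Over.forget S).mapCone cU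
  have hcU'' : IsLimit cone := hcU'
  haveI hUaff : ∀ j : Over i₀, IsAffine (D'.obj j) := fun j => by
    haveI : IsAffineHom (Usnd D hDa i₀ (β ≫ b₀) j).left := isAffineHom_Usnd D hDa i₀ (β ≫ b₀) j
    have h2 : IsAffine (Uobj D hDa i₀ (β ≫ b₀) j).left :=
      isAffine_of_isAffineHom (Usnd D hDa i₀ (β ≫ b₀) j).left
    exact h2
  have htopiso : IsIso (Usnd D hDa i₀ (β ≫ b₀) (jtop i₀)) := by
    have h1 := Usq D hDa i₀ (β ≫ b₀) (jtop i₀)
    haveI : IsIso (D.map (jtop i₀).hom) := (inferInstance : IsIso (D.map (𝟙 i₀)))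
    haveI : IsIso ((yon S).map (Usnd D hDa i₀ (β ≫ b₀) (jtop i₀))) :=
      IsPullback.isIso_snd_of_isIso h1
    exact isIso_of_fully_faithful (yon S) _
  let e₀ : D'.obj (jtop i₀) ⟶ V₀.left := (Usnd D hDa i₀ (β ≫ b₀) (jtop i₀)).left
  haveI he₀ : IsIso e₀ := by
    have : IsIso ((Over.forget S).map (Usnd D hDa i₀ (β ≫ b₀) (jtop i₀))) := inferInstance
    exact this
  let πtop : cone.pt ⟶ D'.obj (jtop i₀) := (cU.π.app (jtop i₀)).left
  have hπtop : q.left ≫ inv e₀ = 𝟙 cone.pt ≫ πtop := by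
    rw [Category.id_comp, IsIso.comp_inv_eq]
    exact (congrArg (fun m => m.left) (hq (jtop i₀))).symm
  have hY' : IsPullback q.left (𝟙 cone.pt) (inv e₀) (cone.π.app (jtop i₀)) := by
    haveI : IsIso (𝟙 cone.pt) := IsIso.id _
    exact IsPullback.of_vert_isIso ⟨hπtop⟩
  have hX' : IsPullback (pullback.fst h₀ q).left (pullback.snd h₀ q).left h₀.left q.left :=
    sqW.map (Over.forget S)
  obtain ⟨j, φ, Xs, Ys, fs, gs, pYs, pXs, h1, h2, hPfs⟩ :=
    hPd D' cone hcU'' (jtop i₀) h₀.left (inv e₀) (pullback.snd h₀ q).left (𝟙 cone.pt) q.left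
      (pullback.fst h₀ q).left hY' hX' hPlim
  haveI hgs : IsIso gs := IsPullback.isIso_snd_of_isIso h1
  have hpYs : pYs = gs ≫ (Usnd D hDa i₀ (β ≫ b₀) j).left := by
    have h3 : pYs = (gs ≫ D'.map φ) ≫ e₀ := (IsIso.comp_inv_eq _).1 h1.w
    rw [h3, Category.assoc]
    congr 1
    have := congrArg (fun m => m.left) (Umap_snd D hDa i₀ (β ≫ b₀) φ)
    exact this
  have sqWj : IsPullback (pullback.fst h₀ (Usnd D hDa i₀ (β ≫ b₀) j))
      (pullback.snd h₀ (Usnd D hDa i₀ (β ≫ b₀) j)) h₀ (Usnd D hDa i₀ (β ≫ b₀) j) :=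
    IsPullback.of_hasPullback _ _
  have sqWj' := sqWj.map (Over.forget S)
  have hPj : P (pullback.snd h₀ (Usnd D hDa i₀ (β ≫ b₀) j)).left := by
    have hcomm : (pullback.fst h₀ (Usnd D hDa i₀ (β ≫ b₀) j)).left ≫ h₀.left =
        ((pullback.snd h₀ (Usnd D hDa i₀ (β ≫ b₀) j)).left ≫ inv gs) ≫ pYs := by
      rw [hpYs, Category.assoc, IsIso.inv_hom_id_assoc]
      exact sqWj'.w
    let l := h2.lift _ _ hcomm
    have hl1 : l ≫ pXs = (pullback.fst h₀ (Usnd D hDa i₀ (β ≫ b₀) j)).left := h2.lift_fst _ _ _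
    have hl2 : l ≫ fs = (pullback.snd h₀ (Usnd D hDa i₀ (β ≫ b₀) j)).left ≫ inv gs :=
      h2.lift_snd _ _ _
    have big : IsPullback (l ≫ pXs) (pullback.snd h₀ (Usnd D hDa i₀ (β ≫ b₀) j)).left h₀.left
        (inv gs ≫ pYs) := by
      rw [hl1, hpYs, IsIso.inv_hom_id_assoc]
      exact sqWj'
    have hsq : IsPullback l (pullback.snd h₀ (Usnd D hDa i₀ (β ≫ b₀) j)).left fs (inv gs) :=
      IsPullback.of_right big hl2 h2
    exact P.of_isPullback hsq hPfs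
  -- (6) conclusion
  refine ⟨j.left, j.hom, fun Xi Yi fi pYi qYi sqYi pXi sqXi => ?_⟩
  exact Groth.Agent.Helper4.SN483.locP_of_P (D.map j.hom) f₀ b₀ β _ h₀ hαβ
    (Ufst D hDa i₀ (β ≫ b₀) j) (Usnd D hDa i₀ (β ≫ b₀) j) (Usq D hDa i₀ (β ≫ b₀) j)
    fi pYi qYi sqYi pXi sqXi _ _ sqWj P hG hβe hαe hαs hPj

end Groth.Agent.Helper4.SN484
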