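import Groth.Prelude.Def_AlgSpRep
import Groth.Prelude.Def_AlgSp4
import Groth.Agent.Helper4.SN483
import Groth.Agent.Helper4.AlgSpPtsDesc
import Mathlib

/-!
Chart transfer of surjectivity (on points) for base changes, in the setting of `SN483`, with the
extra datum that `W₀ ⟶ X₀ ×_{Y₀} V₀` is representable surjective.
-/

set_option autoImplicit false
universe u
open CategoryTheory CategoryTheory.Limits AlgebraicGeometry Opposite MorphismProperty

namespace Groth.Agent.Helper4.SN485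

open AlgSp Groth.Agent.Helper4.SN483

variable {S : Scheme.{u}}

variable {B₀ B' X₀ Y₀ X' Y' : Sp S} (r : B' ⟶ B₀) (f₀ : X₀ ⟶ Y₀) (b₀ : Y₀ ⟶ B₀)
  {V₀ W₀ : Over S} (β : (yon S).obj V₀ ⟶ Y₀) (α : (yon S).obj W₀ ⟶ X₀) (h₀ : W₀ ⟶ V₀)
  (hαβ : α ≫ f₀ = (yon S).map h₀ ≫ β)
  {V' : Over S} (u₁ : (yon S).obj V' ⟶ B') (u₂ : V' ⟶ V₀)
  (sqV : IsPullback u₁ ((yon S).map u₂) r (β ≫ b₀))
  (f' : X' ⟶ Y') (pY : Y' ⟶ Y₀) (qY : Y' ⟶ B') (sqY : IsPullback pY qY b₀ r)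
  (pX : X' ⟶ X₀) (sqX : IsPullback pX f' f₀ pY)
  {W' : Over S} (w₁ : W' ⟶ W₀) (w₂ : W' ⟶ V') (sqW : IsPullback w₁ w₂ h₀ u₂)
  (γ : (yon S).obj W₀ ⟶ pullback f₀ β) (hγ1 : γ ≫ pullback.fst f₀ β = α)
  (hγ2 : γ ≫ pullback.snd f₀ β = (yon S).map h₀)

include hαβ sqV sqY sqX sqW in
/-- From the chart to the base change. -/
theorem isSurjectiveMor_of_surjective (hβs : RepWith @Surjective β)
    (hw : Function.Surjective w₂.left) : IsSurjectiveMor f' := by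
  intro y
  have hb : RepWith @Surjective (bChart r b₀ β u₁ u₂ sqV pY qY sqY) :=
    (RepWith (S := S) @Surjective).of_isPullback
      (isPullback_bChart r b₀ β u₁ u₂ sqV pY qY sqY).flip hβs
  obtain ⟨v', hv'⟩ := Groth.Agent.Helper4.AlgSpPts.isSurjectiveMor_of_repWith _ hb y
  obtain ⟨v, rfl⟩ := (Points.schemeHomeo V').surjective v'
  obtain ⟨w, rfl⟩ := hw v
  refine ⟨Points.map (aChart r f₀ b₀ β α h₀ hαβ u₁ u₂ sqV f' pY qY sqY pX sqX w₁ w₂ sqW)
    (Points.schemeHomeo W' w), ?_⟩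
  rw [← Points.map_comp, aChart_f', Points.map_comp, Points.map_yon_map_apply]
  exact hv'

include hαβ sqV sqY sqX sqW hγ1 hγ2 in
/-- From the base change to the chart. -/
theorem surjective_of_isSurjectiveMor (hγs : RepWith @Surjective γ)
    (hf' : IsSurjectiveMor f') : Function.Surjective w₂.left := by
  -- `T' = X' ×_{Y'} V'`
  have sqT' : IsPullback (pullback.fst f' (bChart r b₀ β u₁ u₂ sqV pY qY sqY))
      (pullback.snd f' (bChart r b₀ β u₁ u₂ sqV pY qY sqY)) f'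
      (bChart r b₀ β u₁ u₂ sqV pY qY sqY) := IsPullback.of_hasPullback _ _
  have sqT₀ : IsPullback (pullback.fst f₀ β) (pullback.snd f₀ β) f₀ β :=
    IsPullback.of_hasPullback _ _
  -- `T' ⟶ T₀`
  have hτc : (pullback.fst f' (bChart r b₀ β u₁ u₂ sqV pY qY sqY) ≫ pX) ≫ f₀ =
      (pullback.snd f' (bChart r b₀ β u₁ u₂ sqV pY qY sqY) ≫ (yon S).map u₂) ≫ β := by
    rw [Category.assoc, sqX.w, ← Category.assoc, sqT'.w, Category.assoc, bChart_pY,
      Category.assoc]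
  let τ := sqT₀.lift _ _ hτc
  have hτ1 : τ ≫ pullback.fst f₀ β =
      pullback.fst f' (bChart r b₀ β u₁ u₂ sqV pY qY sqY) ≫ pX := sqT₀.lift_fst _ _ _
  have hτ2 : τ ≫ pullback.snd f₀ β =
      pullback.snd f' (bChart r b₀ β u₁ u₂ sqV pY qY sqY) ≫ (yon S).map u₂ :=
    sqT₀.lift_snd _ _ _
  have sqτ : IsPullback τ (pullback.snd f' (bChart r b₀ β u₁ u₂ sqV pY qY sqY))
      (pullback.snd f₀ β) ((yon S).map u₂) := by
    have big : IsPullback (τ ≫ pullback.fst f₀ β)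
        (pullback.snd f' (bChart r b₀ β u₁ u₂ sqV pY qY sqY)) f₀ ((yon S).map u₂ ≫ β) := by
      rw [hτ1, ← bChart_pY r b₀ β u₁ u₂ sqV pY qY sqY]
      exact sqT'.paste_horiz sqX
    exact IsPullback.of_right big hτ2 sqT₀
  -- `W' ⟶ T'`
  let γ' := sqT'.lift (aChart r f₀ b₀ β α h₀ hαβ u₁ u₂ sqV f' pY qY sqY pX sqX w₁ w₂ sqW)
    ((yon S).map w₂) (aChart_f' r f₀ b₀ β α h₀ hαβ u₁ u₂ sqV f' pY qY sqY pX sqX w₁ w₂ sqW)
  have hγ'1 : γ' ≫ pullback.fst f' (bChart r b₀ β u₁ u₂ sqV pY qY sqY) =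
      aChart r f₀ b₀ β α h₀ hαβ u₁ u₂ sqV f' pY qY sqY pX sqX w₁ w₂ sqW := sqT'.lift_fst _ _ _
  have hγ'2 : γ' ≫ pullback.snd f' (bChart r b₀ β u₁ u₂ sqV pY qY sqY) = (yon S).map w₂ :=
    sqT'.lift_snd _ _ _
  have hcomm : (yon S).map w₁ ≫ γ = γ' ≫ τ := by
    apply sqT₀.hom_ext
    · rw [Category.assoc, hγ1, Category.assoc, hτ1, ← Category.assoc, hγ'1, aChart_pX]
    · rw [Category.assoc, hγ2, Category.assoc, hτ2, ← Category.assoc, hγ'2, ← Functor.map_comp,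
        ← Functor.map_comp, sqW.w]
  have sqγ : IsPullback ((yon S).map w₁) γ' γ τ := by
    have big : IsPullback ((yon S).map w₁)
        (γ' ≫ pullback.snd f' (bChart r b₀ β u₁ u₂ sqV pY qY sqY))
        (γ ≫ pullback.snd f₀ β) ((yon S).map u₂) := by
      rw [hγ'2, hγ2]
      exact sqW.map (yon S)
    exact IsPullback.of_bot big hcomm sqτ
  have hγ's : RepWith @Surjective γ' := (RepWith (S := S) @Surjective).of_isPullback sqγ hγs
  have hγ'surj := Groth.Agent.Helper4.AlgSpPts.isSurjectiveMor_of_repWith _ hγ's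
  intro v
  obtain ⟨x, hx⟩ := hf' (Points.map (bChart r b₀ β u₁ u₂ sqV pY qY sqY) (Points.schemeHomeo V' v))
  obtain ⟨t, -, ht2⟩ := Groth.Agent.Helper4.AlgSpPtsDesc.exists_point_of_isPullback sqT' x
    (Points.schemeHomeo V' v) hx
  obtain ⟨w', rfl⟩ := hγ'surj t
  obtain ⟨w, rfl⟩ := (Points.schemeHomeo W').surjective w'
  refine ⟨w, ?_⟩
  rw [← Points.map_comp, hγ'2, Points.map_yon_map_apply] at ht2
  exact (Points.schemeHomeo V').injective ht2

end Groth.Agent.Helper4.SN485
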