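import Groth.Prelude.Def_AlgSpRep
import Groth.Prelude.Def_AlgSp4
import Groth.Agent.Helper4.SN484
import Groth.Agent.Helper4.SN485
import Groth.Agent.Lead.LimSurj
import Mathlib

/-!
Descending surjectivity of the base change of a morphism of algebraic spaces along a cofiltered
limit with affine transition maps.
-/

set_option autoImplicit false
universe u
open CategoryTheory CategoryTheory.Limits AlgebraicGeometry Opposite MorphismProperty Topology

namespace Groth.Agent.Helper4.SN486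

open AlgSp Groth.Agent.Helper4.SN471 Groth.Agent.Helper4.SN473 Groth.Agent.Helper4.SN477

set_option backward.isDefEq.respectTransparency false in
/-- Surjectivity descends (schemes). -/
theorem schDescends_surjective : Groth.Agent.Helper4.SN484.SchDescends (@Surjective) := by
  intro I _ _ D c hc _ i₀ _ _ X₀ Y₀ f₀ g₀ _ _ _ _ _ X Y f g qY qX hY hX hf
  haveI : ∀ {i j : I} (f : i ⟶ j), IsAffineHom (D.map f) := fun f => inferInstance
  have hE : IsConstructible (Set.range f₀.base)ᶜ := by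
    have := Scheme.Hom.isConstructible_image f₀ (s := Set.univ) IsConstructible.univ
    rw [Set.image_univ] at this
    exact this.compl
  -- compare with the chosen pullback
  let e : Y ≅ pullback (c.π.app i₀) g₀ := hY.flip.isoPullback
  have he : e.hom ≫ pullback.snd (c.π.app i₀) g₀ = qY := hY.flip.isoPullback_hom_snd
  obtain ⟨j, hj⟩ := Groth.Agent.Lead.LimSurj.exists_preimage_eq_empty hc i₀ g₀ _ hE (by
    rw [Set.eq_empty_iff_forall_notMem]
    intro z hz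
    apply hz
    obtain ⟨x, hx⟩ := hf.surj (e.inv.base z)
    refine ⟨qX.base x, ?_⟩
    have h1 : (f₀.base) (qX.base x) = (qY.base) (f.base x) := by
      rw [← Scheme.Hom.comp_apply, ← Scheme.Hom.comp_apply, hX.w]
    rw [h1, hx, ← he, ← Scheme.Hom.comp_apply, Iso.inv_hom_id_assoc])
  refine ⟨j.left, j.hom, pullback f₀ (pullback.snd (D.map j.hom) g₀),
    pullback (D.map j.hom) g₀, pullback.snd _ _, pullback.fst _ _, pullback.snd _ _,
    pullback.fst _ _, (IsPullback.of_hasPullback _ _).flip, IsPullback.of_hasPullback _ _, ⟨?_⟩⟩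
  intro y
  have hy : (pullback.snd (D.map j.hom) g₀).base y ∈ Set.range f₀.base := by
    by_contra hcon
    have : y ∈ (pullback.snd (D.map j.hom) g₀).base ⁻¹' (Set.range f₀.base)ᶜ := hcon
    rw [hj] at this
    exact this
  obtain ⟨x, hx⟩ := hy
  obtain ⟨z, -, hz⟩ := Scheme.Pullback.exists_preimage_pullback x y hx
  exact ⟨z, hz⟩

variable {S : Scheme.{u}}

set_option backward.isDefEq.respectTransparency false in
theorem main
    [QuasiSeparatedSpace S] {I : Type u} [SmallCategory I] [IsCofiltered I]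
    (D : I ⥤ AlgSp.Sp S)
    (hDa : ∀ (i j : I) (φ : i ⟶ j), AlgSp.IsAffineMor (D.map φ))
    (c : Cone D) (hc : IsLimit c) (i₀ : I)
    (X₀ Y₀ : AlgSp.Space S) (f₀ : X₀.obj ⟶ Y₀.obj) (b₀ : Y₀.obj ⟶ D.obj i₀)
    (hXqc : AlgSp.IsQuasiCompactSp X₀.obj)
    (hYqc : AlgSp.IsQuasiCompactSp Y₀.obj) (hYqs : AlgSp.IsQuasiSeparatedSp Y₀.obj)
    (X Y : AlgSp.Sp S) (f : X ⟶ Y) (pY : Y ⟶ Y₀.obj) (qY : Y ⟶ c.pt)
    (hY : IsPullback pY qY b₀ (c.π.app i₀)) (pX : X ⟶ X₀.obj) (hX : IsPullback pX f f₀ pY)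
    (hf : AlgSp.IsSurjectiveMor f) (hf₀ : AlgSp.LocP @LocallyOfFinitePresentation f₀) :
    ∃ (i : I) (φ : i ⟶ i₀), ∀ (Xi Yi : AlgSp.Sp S) (fi : Xi ⟶ Yi) (pYi : Yi ⟶ Y₀.obj)
      (qYi : Yi ⟶ D.obj i)
      (_ : IsPullback pYi qYi b₀ (D.map φ)) (pXi : Xi ⟶ X₀.obj) (_ : IsPullback pXi fi f₀ pYi),
      AlgSp.IsSurjectiveMor fi := by
  -- (1) chart of `Y₀`
  obtain ⟨V₀, β, hβe, hβs, hV₀aff⟩ := Groth.Agent.Helper4.AlgSpQC.exists_affine_chart hYqc
  haveI : IsAffine V₀.left := hV₀aff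
  -- (2) chart of `X₀ ×_{Y₀} V₀`
  have hqcm : IsQuasiCompactMor f₀ := by
    let f1 : X₀ ⟶ Y₀ := ObjectProperty.homMk f₀
    exact Groth.Agent.S9920.result f1 hXqc hYqs
  have hX'qc : IsQuasiCompactSp (pullback f₀ β) :=
    hqcm (IsAlgSpace.yon_obj V₀) (Groth.Agent.Helper4.AlgSpQC2.isQuasiCompactSp_yon V₀) β
      (pullback.fst f₀ β) (pullback.snd f₀ β) (IsPullback.of_hasPullback f₀ β)
  obtain ⟨W₀, ω, hωe, hωs, hW₀aff⟩ := Groth.Agent.Helper4.AlgSpQC.exists_affine_chart hX'qc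
  haveI : IsAffine W₀.left := hW₀aff
  have hfst_e : RepWith @Etale (pullback.fst f₀ β) :=
    (RepWith (S := S) @Etale).of_isPullback (IsPullback.of_hasPullback f₀ β).flip hβe
  have hαe : RepWith @Etale (ω ≫ pullback.fst f₀ β) :=
    Groth.Agent.Helper4.AlgSpSrc.repWith_comp _ hωe hfst_e
  obtain ⟨h₀, hh₀⟩ := (yon S).map_surjective (ω ≫ pullback.snd f₀ β)
  have hαβ : (ω ≫ pullback.fst f₀ β) ≫ f₀ = (yon S).map h₀ ≫ β := by
    rw [hh₀, Category.assoc, Category.assoc, pullback.condition]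
  haveI hh₀lfp : LocallyOfFinitePresentation h₀.left := hf₀ _ β h₀ hαe hβe hαβ
  -- (3) the chart system
  obtain ⟨cU, hcU, hcU', p, q, sq, haff, hp, hq⟩ := exists_chart_limit' D hDa c hc i₀ (β ≫ b₀)
  -- (4) the limit level
  have sqW : IsPullback (pullback.fst h₀ q) (pullback.snd h₀ q) h₀ q :=
    IsPullback.of_hasPullback _ _
  have hPlim : Surjective (pullback.snd h₀ q).left :=
    ⟨Groth.Agent.Helper4.SN485.surjective_of_isSurjectiveMor (c.π.app i₀) f₀ b₀ β _ h₀ hαβ p q sq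
      f pY qY hY pX hX _ _ sqW ω rfl hh₀.symm hωs hf⟩
  -- (5) scheme-level descent
  let D' : Over i₀ ⥤ Scheme.{u} := Usys D hDa i₀ (β ≫ b₀) ⋙ Over.forget S
  haveI : ∀ (j j' : Over i₀) (m : j ⟶ j'), IsAffineHom (D'.map m) := fun _ _ m =>
    isAffineHom_Umap D hDa i₀ (β ≫ b₀) m
  let cone := (Over.forget S).mapCone cU
  have hcU'' : IsLimit cone := hcU'
  haveI hUaff : ∀ j : Over i₀, IsAffine (D'.obj j) := fun j => by
    haveI : IsAffineHom (Usnd D hDa i₀ (β ≫ b₀) j).left := isAffineHom_Usnd D hDa i₀ (β ≫ b₀) j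
    have h2 : IsAffine (Uobj D hDa i₀ (β ≫ b₀) j).left :=
      isAffine_of_isAffineHom (Usnd D hDa i₀ (β ≫ b₀) j).left
    exact h2
  have htopiso : IsIso (Usnd D hDa i₀ (β ≫ b₀) (jtop i₀)) := by
    have h1 := Usq D hDa i₀ (β ≫ b₀) (jtop i₀)
    haveI : IsIso (D.map (jtop i₀).hom) := (inferInstance : IsIso (D.map (𝟙 i₀)))
    haveI : IsIso ((yon S).map (Usnd D hDa i₀ (β ≫ b₀) (jtop i₀))) :=
      IsPullback.isIso_snd_of_isIso h1
    exact isIso_of_fully_faithful (yon S) _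
  let e₀ : D'.obj (jtop i₀) ⟶ V₀.left := (Usnd D hDa i₀ (β ≫ b₀) (jtop i₀)).left
  haveI he₀ : IsIso e₀ := by
    have : IsIso ((Over.forget S).map (Usnd D hDa i₀ (β ≫ b₀) (jtop i₀))) := inferInstance
    exact this
  let πtop : cone.pt ⟶ D'.obj (jtop i₀) := (cU.π.app (jtop i₀)).left
  have hπtop : q.left ≫ inv e₀ = 𝟙 cone.pt ≫ πtop := by
    rw [Category.id_comp, IsIso.comp_inv_eq]
    exact (congrArg (fun m => m.left) (hq (jtop i₀))).symm
  have hY' : IsPullback q.left (𝟙 cone.pt) (inv e₀) (cone.π.app (jtop i₀)) := by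
    haveI : IsIso (𝟙 cone.pt) := IsIso.id _
    exact IsPullback.of_vert_isIso ⟨hπtop⟩
  have hX' : IsPullback (pullback.fst h₀ q).left (pullback.snd h₀ q).left h₀.left q.left :=
    sqW.map (Over.forget S)
  obtain ⟨j, φ, Xs, Ys, fs, gs, pYs, pXs, h1, h2, hPfs⟩ :=
    schDescends_surjective D' cone hcU'' (jtop i₀) h₀.left (inv e₀) (pullback.snd h₀ q).left
      (𝟙 cone.pt) q.left (pullback.fst h₀ q).left hY' hX' hPlim
  haveI hgs : IsIso gs := IsPullback.isIso_snd_of_isIso h1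
  have hpYs : pYs = gs ≫ (Usnd D hDa i₀ (β ≫ b₀) j).left := by
    have h3 : pYs = (gs ≫ D'.map φ) ≫ e₀ := (IsIso.comp_inv_eq _).1 h1.w
    rw [h3, Category.assoc]
    congr 1
    have := congrArg (fun m => m.left) (Umap_snd D hDa i₀ (β ≫ b₀) φ)
    exact this
  have sqWj : IsPullback (pullback.fst h₀ (Usnd D hDa i₀ (β ≫ b₀) j))
      (pullback.snd h₀ (Usnd D hDa i₀ (β ≫ b₀) j)) h₀ (Usnd D hDa i₀ (β ≫ b₀) j) :=
    IsPullback.of_hasPullback _ _
  have sqWj' := sqWj.map (Over.forget S)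
  have hPj : Surjective (pullback.snd h₀ (Usnd D hDa i₀ (β ≫ b₀) j)).left := by
    have hcomm : (pullback.fst h₀ (Usnd D hDa i₀ (β ≫ b₀) j)).left ≫ h₀.left =
        ((pullback.snd h₀ (Usnd D hDa i₀ (β ≫ b₀) j)).left ≫ inv gs) ≫ pYs := by
      rw [hpYs, Category.assoc, IsIso.inv_hom_id_assoc]
      exact sqWj'.w
    let l := h2.lift _ _ hcomm
    have hl1 : l ≫ pXs = (pullback.fst h₀ (Usnd D hDa i₀ (β ≫ b₀) j)).left := h2.lift_fst _ _ _
    have hl2 : l ≫ fs = (pullback.snd h₀ (Usnd D hDa i₀ (β ≫ b₀) j)).left ≫ inv gs :=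
      h2.lift_snd _ _ _
    have big : IsPullback (l ≫ pXs) (pullback.snd h₀ (Usnd D hDa i₀ (β ≫ b₀) j)).left h₀.left
        (inv gs ≫ pYs) := by
      rw [hl1, hpYs, IsIso.inv_hom_id_assoc]
      exact sqWj'
    have hsq : IsPullback l (pullback.snd h₀ (Usnd D hDa i₀ (β ≫ b₀) j)).left fs (inv gs) :=
      IsPullback.of_right big hl2 h2
    exact MorphismProperty.of_isPullback (P := @Surjective) hsq hPfs
  -- (6) conclusion
  refine ⟨j.left, j.hom, fun Xi Yi fi pYi qYi sqYi pXi sqXi => ?_⟩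
  exact Groth.Agent.Helper4.SN485.isSurjectiveMor_of_surjective (D.map j.hom) f₀ b₀ β _ h₀ hαβ
    (Ufst D hDa i₀ (β ≫ b₀) j) (Usnd D hDa i₀ (β ≫ b₀) j) (Usq D hDa i₀ (β ≫ b₀) j)
    fi pYi qYi sqYi pXi sqXi _ _ sqWj hβs hPj.surj

end Groth.Agent.Helper4.SN486
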