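import Groth.Prelude.Def_AlgSpRep
import Groth.Prelude.Def_AlgSp4
import Groth.Agent.Helper4.AlgSpPB
import Mathlib

/-!
Diagonals and base change; quasi-separatedness of fibre products of sheaves.
-/

set_option autoImplicit false
universe u v₁ u₁
open CategoryTheory CategoryTheory.Limits AlgebraicGeometry Opposite MorphismProperty

namespace Groth.Agent.Helper4.SN487

section general

variable {C : Type u₁} [Category.{v₁} C] [HasPullbacks C]
  {X₀ Y₀ X' Y' : C} (f₀ : X₀ ⟶ Y₀) (f' : X' ⟶ Y') (pX : X' ⟶ X₀) (pY : Y' ⟶ Y₀)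
  (sqX : IsPullback pX f' f₀ pY)

/-- The map between the self fibre products. -/
noncomputable def pZ : pullback f' f' ⟶ pullback f₀ f₀ :=
  pullback.map f' f' f₀ f₀ pX pX pY sqX.w.symm sqX.w.symm

theorem pZ_fst : pZ f₀ f' pX pY sqX ≫ pullback.fst f₀ f₀ = pullback.fst f' f' ≫ pX :=
  pullback.lift_fst _ _ _

theorem pZ_snd : pZ f₀ f' pX pY sqX ≫ pullback.snd f₀ f₀ = pullback.snd f' f' ≫ pX :=
  pullback.lift_snd _ _ _

/-- `X' ×_{Y'} X' = (X₀ ×_{Y₀} X₀) ×_{X₀} X'`. -/
theorem isPullback_pZ_snd :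
    IsPullback (pZ f₀ f' pX pY sqX) (pullback.snd f' f') (pullback.snd f₀ f₀) pX := by
  have sq' : IsPullback (pullback.fst f' f') (pullback.snd f' f') f' f' :=
    IsPullback.of_hasPullback _ _
  have sq₀ : IsPullback (pullback.fst f₀ f₀) (pullback.snd f₀ f₀) f₀ f₀ :=
    IsPullback.of_hasPullback _ _
  have big : IsPullback (pZ f₀ f' pX pY sqX ≫ pullback.fst f₀ f₀) (pullback.snd f' f') f₀
      (pX ≫ f₀) := by
    rw [pZ_fst, sqX.w]
    exact sq'.paste_horiz sqX
  exact IsPullback.of_right big (pZ_snd f₀ f' pX pY sqX) sq₀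

/-- `X' ×_{Y'} X' = (X₀ ×_{Y₀} X₀) ×_{Y₀} Y'`. -/
theorem isPullback_pZ :
    IsPullback (pZ f₀ f' pX pY sqX) (pullback.snd f' f' ≫ f') (pullback.snd f₀ f₀ ≫ f₀) pY :=
  (isPullback_pZ_snd f₀ f' pX pY sqX).paste_vert sqX

theorem diagonal_pZ :
    pX ≫ pullback.diagonal f₀ = pullback.diagonal f' ≫ pZ f₀ f' pX pY sqX := by
  apply pullback.hom_ext
  · rw [Category.assoc, Category.assoc, pZ_fst, pullback.diagonal_fst, pullback.diagonal_fst_assoc,
      Category.comp_id]
  · rw [Category.assoc, Category.assoc, pZ_snd, pullback.diagonal_snd, pullback.diagonal_snd_assoc,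
      Category.comp_id]

/-- The diagonal of a base change is the base change of the diagonal. -/
theorem isPullback_diagonal :
    IsPullback pX (pullback.diagonal f') (pullback.diagonal f₀) (pZ f₀ f' pX pY sqX) := by
  have big : IsPullback pX (pullback.diagonal f' ≫ pullback.snd f' f')
      (pullback.diagonal f₀ ≫ pullback.snd f₀ f₀) pX := by
    rw [pullback.diagonal_snd, pullback.diagonal_snd]
    exact IsPullback.id_vert pX
  exact IsPullback.of_bot big (diagonal_pZ f₀ f' pX pY sqX) (isPullback_pZ_snd f₀ f' pX pY sqX)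

end general

open AlgSp
variable {S : Scheme.{u}}

theorem qs_diag_iff (X : Sp S) :
    IsQuasiSeparatedSp X ↔ (RepWith (S := S) @QuasiCompact).diagonal (terminal.from X) := by
  have h : Limits.diag X = pullback.diagonal (terminal.from X) ≫ (prodIsoPullback X X).inv := by
    apply Limits.prod.hom_ext
    · rw [Category.assoc, prodIsoPullback_inv_fst, pullback.diagonal_fst]
      exact prod.lift_fst _ _
    · rw [Category.assoc, prodIsoPullback_inv_snd, pullback.diagonal_snd]
      exact prod.lift_snd _ _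
  unfold IsQuasiSeparatedSp
  rw [h]
  exact MorphismProperty.cancel_right_of_respectsIso (RepWith (S := S) @QuasiCompact) _ _

/-- Fibre products of quasi-separated sheaves are quasi-separated. -/
theorem isQuasiSeparatedSp_of_isPullback {H X Y P : Sp S} (hX : IsQuasiSeparatedSp X)
    (hY : IsQuasiSeparatedSp Y) (f : X ⟶ H) (g : Y ⟶ H)
    (fst : P ⟶ X) (snd : P ⟶ Y) (h : IsPullback fst snd f g) :
    IsQuasiSeparatedSp P := by
  rw [qs_diag_iff] at hX hY ⊢
  have e : terminal.from Y = g ≫ terminal.from H := Subsingleton.elim _ _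
  rw [e] at hY
  have hg : (RepWith (S := S) @QuasiCompact).diagonal g :=
    Groth.Agent.Helper4.AlgSpPB.diagonal_of_comp _ g _ hY
  have hfst : (RepWith (S := S) @QuasiCompact).diagonal fst :=
    MorphismProperty.of_isPullback h.flip hg
  have e2 : terminal.from P = fst ≫ terminal.from X := Subsingleton.elim _ _
  rw [e2]
  exact MorphismProperty.comp_mem _ _ _ hfst hX

end Groth.Agent.Helper4.SN487
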