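import Groth.Prelude.Def_AlgSpRep
import Groth.Prelude.Def_AlgSp4
import Groth.Agent.Helper4.SN487
import Groth.Agent.Helper4.SN472
import Groth.Agent.Helper4.SDClasses
import Groth.Agent.Helper4.AlgSpLocPBC
import Groth.Agent.Helper4.AlgSpLocP
import Groth.Agent.S9920
import Groth.Agent.S9959
import Mathlib

/-!
Reduction of descent statements for a property `Q` characterised by a property `R` of the diagonal
to the descent statement for `R`.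
-/

set_option autoImplicit false
universe u
open CategoryTheory CategoryTheory.Limits AlgebraicGeometry Opposite MorphismProperty

namespace Groth.Agent.Helper4.SN488

open AlgSp Groth.Agent.Helper4.SN487

variable {S : Scheme.{u}}

theorem locP_lfp_id (X : Sp S) : LocP @LocallyOfFinitePresentation (𝟙 X) := by
  intro U V a b h ha hb comm
  rw [Category.comp_id] at comm
  haveI : Etale h.left := Groth.Agent.Helper4.AlgSpLocP.etale_of_comp a b h ha hb comm.symm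
  infer_instance

set_option backward.isDefEq.respectTransparency false in
theorem diag_reduction
    [QuasiSeparatedSpace S] {I : Type u} [SmallCategory I] [IsCofiltered I]
    (D : I ⥤ AlgSp.Sp S) (hD : ∀ i, AlgSp.IsAlgSpace (D.obj i))
    (hDa : ∀ (i j : I) (φ : i ⟶ j), AlgSp.IsAffineMor (D.map φ))
    (c : Cone D) (hc : IsLimit c) (i₀ : I)
    (Q R : MorphismProperty (Sp S))
    (hQR : ∀ {X Y : Sp S} (_ : IsAlgSpace X) (_ : IsAlgSpace Y) (f : X ⟶ Y),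
      Q f ↔ R (pullback.diagonal f))
    (hR : ∀ (X₀ Z₀ : AlgSp.Space S) (g₀ : X₀.obj ⟶ Z₀.obj) (b : Z₀.obj ⟶ D.obj i₀)
      (_ : IsQuasiCompactSp X₀.obj) (_ : IsQuasiSeparatedSp X₀.obj)
      (_ : IsQuasiCompactSp Z₀.obj) (_ : IsQuasiSeparatedSp Z₀.obj)
      (X Z : Sp S) (g : X ⟶ Z) (pZ : Z ⟶ Z₀.obj) (qZ : Z ⟶ c.pt)
      (_ : IsPullback pZ qZ b (c.π.app i₀)) (pX : X ⟶ X₀.obj) (_ : IsPullback pX g g₀ pZ),
      R g → LocP @LocallyOfFinitePresentation g₀ →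
      ∃ (i : I) (φ : i ⟶ i₀), ∀ (Xi Zi : Sp S) (gi : Xi ⟶ Zi) (pZi : Zi ⟶ Z₀.obj)
        (qZi : Zi ⟶ D.obj i) (_ : IsPullback pZi qZi b (D.map φ)) (pXi : Xi ⟶ X₀.obj)
        (_ : IsPullback pXi gi g₀ pZi), R gi)
    (X₀ Y₀ : AlgSp.Space S) (f₀ : X₀.obj ⟶ Y₀.obj) (b₀ : Y₀.obj ⟶ D.obj i₀)
    (hXqc : AlgSp.IsQuasiCompactSp X₀.obj) (hXqs : AlgSp.IsQuasiSeparatedSp X₀.obj)
    (hYqs : AlgSp.IsQuasiSeparatedSp Y₀.obj)
    (X Y : AlgSp.Sp S) (f : X ⟶ Y) (pY : Y ⟶ Y₀.obj) (qY : Y ⟶ c.pt)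
    (hY : IsPullback pY qY b₀ (c.π.app i₀)) (pX : X ⟶ X₀.obj) (hX : IsPullback pX f f₀ pY)
    (hf : Q f) (hf₀ : AlgSp.LocP @LocallyOfFiniteType f₀) :
    ∃ (i : I) (φ : i ⟶ i₀), ∀ (Xi Yi : AlgSp.Sp S) (fi : Xi ⟶ Yi) (pYi : Yi ⟶ Y₀.obj)
      (qYi : Yi ⟶ D.obj i)
      (_ : IsPullback pYi qYi b₀ (D.map φ)) (pXi : Xi ⟶ X₀.obj) (_ : IsPullback pXi fi f₀ pYi),
      Q fi := by
  have sq₀ : IsPullback (pullback.fst f₀ f₀) (pullback.snd f₀ f₀) f₀ f₀ :=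
    IsPullback.of_hasPullback _ _
  have hZ₀alg : IsAlgSpace (pullback f₀ f₀) :=
    Groth.Agent.Helper4.AlgSpPB.isAlgSpace_of_isPullback Y₀.property.diag X₀.property X₀.property
      f₀ f₀ _ _ sq₀
  have hqcm : IsQuasiCompactMor f₀ := by
    let f1 : X₀ ⟶ Y₀ := ObjectProperty.homMk f₀
    exact Groth.Agent.S9920.result f1 hXqc hYqs
  have hZ₀qc : IsQuasiCompactSp (pullback f₀ f₀) := hqcm X₀.property hXqc f₀ _ _ sq₀
  have hZ₀qs : IsQuasiSeparatedSp (pullback f₀ f₀) :=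
    isQuasiSeparatedSp_of_isPullback hXqs hXqs f₀ f₀ _ _ sq₀
  let Z₀ : AlgSp.Space S := ⟨pullback f₀ f₀, hZ₀alg⟩
  have hsnd : LocP @LocallyOfFiniteType (pullback.snd f₀ f₀) :=
    Groth.Agent.Helper4.AlgSpLocPBC.locP_of_isPullback @LocallyOfFiniteType
      Groth.Agent.Helper4.SDClasses.good_lft.etale_le Groth.Agent.Helper4.SDClasses.good_lft.sd
      X₀.property Y₀.property f₀ f₀ _ _ sq₀ hf₀
  have hΔ₀ : LocP @LocallyOfFinitePresentation (pullback.diagonal f₀) := by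
    let f1 : X₀ ⟶ Z₀ := ObjectProperty.homMk (pullback.diagonal f₀)
    let g1 : Z₀ ⟶ X₀ := ObjectProperty.homMk (pullback.snd f₀ f₀)
    have h1 : LocP @LocallyOfFinitePresentation (f1 ≫ g1).hom := by
      have : (f1 ≫ g1).hom = 𝟙 X₀.obj := pullback.diagonal_snd f₀
      rw [this]
      exact locP_lfp_id _
    exact Groth.Agent.S9959.result f1 g1 h1 hsnd
  have hcalg : IsAlgSpace c.pt := Groth.Agent.Helper4.SN472.isAlgSpace_pt D hDa c hc hD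
  have hYalg : IsAlgSpace Y :=
    Groth.Agent.Helper4.AlgSpPB.isAlgSpace_of_isPullback (hD i₀).diag Y₀.property hcalg b₀
      (c.π.app i₀) pY qY hY
  have hXalg : IsAlgSpace X :=
    Groth.Agent.Helper4.AlgSpPB.isAlgSpace_of_isPullback Y₀.property.diag X₀.property hYalg f₀
      pY pX f hX
  have hZ : IsPullback (pZ f₀ f pX pY hX) ((pullback.snd f f ≫ f) ≫ qY)
      ((pullback.snd f₀ f₀ ≫ f₀) ≫ b₀) (c.π.app i₀) :=
    (isPullback_pZ f₀ f pX pY hX).paste_vert hY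
  obtain ⟨i, φ, h⟩ := hR X₀ Z₀ (pullback.diagonal f₀) ((pullback.snd f₀ f₀ ≫ f₀) ≫ b₀) hXqc hXqs
    hZ₀qc hZ₀qs X (pullback f f) (pullback.diagonal f) (pZ f₀ f pX pY hX)
    ((pullback.snd f f ≫ f) ≫ qY) hZ pX (isPullback_diagonal f₀ f pX pY hX)
    ((hQR hXalg hYalg f).1 hf) hΔ₀
  refine ⟨i, φ, fun Xi Yi fi pYi qYi sqYi pXi sqXi => ?_⟩
  have hYialg : IsAlgSpace Yi :=
    Groth.Agent.Helper4.AlgSpPB.isAlgSpace_of_isPullback (hD i₀).diag Y₀.property (hD i) b₀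
      (D.map φ) pYi qYi sqYi
  have hXialg : IsAlgSpace Xi :=
    Groth.Agent.Helper4.AlgSpPB.isAlgSpace_of_isPullback Y₀.property.diag X₀.property hYialg f₀
      pYi pXi fi sqXi
  have hZi : IsPullback (pZ f₀ fi pXi pYi sqXi) ((pullback.snd fi fi ≫ fi) ≫ qYi)
      ((pullback.snd f₀ f₀ ≫ f₀) ≫ b₀) (D.map φ) :=
    (isPullback_pZ f₀ fi pXi pYi sqXi).paste_vert sqYi
  exact (hQR hXialg hYialg fi).2 (h Xi (pullback fi fi) (pullback.diagonal fi)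
    (pZ f₀ fi pXi pYi sqXi) ((pullback.snd fi fi ≫ fi) ≫ qYi) hZi pXi
    (isPullback_diagonal f₀ fi pXi pYi sqXi))

end Groth.Agent.Helper4.SN488
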