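import Groth.Prelude.Def_AlgSpRep
import Groth.Prelude.Def_AlgSp4
import Groth.Agent.Helper4.SN486
import Groth.Agent.Helper4.SN488
import Groth.Agent.Helper5.AlgSpEt2
import Groth.Agent.Helper5.AlgSpEtInj
import Groth.Agent.Helper5.AlgSpIso
import Groth.Agent.S9192
import Groth.Agent.S9938
import Mathlib

/-!
Descending isomorphisms along cofiltered limits of algebraic spaces: étale + surjective +
universally injective.
-/

set_option autoImplicit false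
universe u
open CategoryTheory CategoryTheory.Limits AlgebraicGeometry Opposite MorphismProperty

namespace Groth.Agent.Helper4.SN489

open AlgSp

variable {S : Scheme.{u}}

/-- Monotonicity in the stage of the conclusion of the descent statements. -/
theorem stage_mono (Q : MorphismProperty (Sp S))
    (hQbc : ∀ {A B A' B' : Sp S} (_ : IsAlgSpace A) (_ : IsAlgSpace B) (f : A ⟶ B) (g : B' ⟶ B)
      (fst : A' ⟶ A) (f' : A' ⟶ B') (_ : IsPullback fst f' f g), Q f → Q f')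
    {I : Type u} [SmallCategory I] (D : I ⥤ Sp S) (hD : ∀ i, IsAlgSpace (D.obj i))
    {i₀ i₁ i : I} (φ₁ : i₁ ⟶ i₀) (ψ : i ⟶ i₁) (φ : i ⟶ i₀) (hφ : φ = ψ ≫ φ₁) {X₀ Y₀ : Sp S}
    (hX₀ : IsAlgSpace X₀) (hY₀ : IsAlgSpace Y₀) (f₀ : X₀ ⟶ Y₀) (b₀ : Y₀ ⟶ D.obj i₀)
    (h : ∀ (X₁ Y₁ : Sp S) (f₁ : X₁ ⟶ Y₁) (pY₁ : Y₁ ⟶ Y₀) (qY₁ : Y₁ ⟶ D.obj i₁)
      (_ : IsPullback pY₁ qY₁ b₀ (D.map φ₁)) (pX₁ : X₁ ⟶ X₀) (_ : IsPullback pX₁ f₁ f₀ pY₁), Q f₁)
    (Xi Yi : Sp S) (fi : Xi ⟶ Yi) (pYi : Yi ⟶ Y₀) (qYi : Yi ⟶ D.obj i)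
    (sqYi : IsPullback pYi qYi b₀ (D.map φ)) (pXi : Xi ⟶ X₀)
    (sqXi : IsPullback pXi fi f₀ pYi) : Q fi := by
  subst hφ
  have sqY₁ : IsPullback (pullback.fst b₀ (D.map φ₁)) (pullback.snd b₀ (D.map φ₁)) b₀
      (D.map φ₁) := IsPullback.of_hasPullback _ _
  have sqX₁ : IsPullback (pullback.fst f₀ (pullback.fst b₀ (D.map φ₁)))
      (pullback.snd f₀ (pullback.fst b₀ (D.map φ₁))) f₀ (pullback.fst b₀ (D.map φ₁)) :=
    IsPullback.of_hasPullback _ _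
  have hY₁ : IsAlgSpace (pullback b₀ (D.map φ₁)) :=
    Groth.Agent.Helper4.AlgSpPB.isAlgSpace_of_isPullback (hD i₀).diag hY₀ (hD i₁) b₀
      (D.map φ₁) _ _ sqY₁
  have hX₁ : IsAlgSpace (pullback f₀ (pullback.fst b₀ (D.map φ₁))) :=
    Groth.Agent.Helper4.AlgSpPB.isAlgSpace_of_isPullback hY₀.diag hX₀ hY₁ f₀ _ _ _ sqX₁
  have hQ₁ := h _ _ _ _ _ sqY₁ _ sqX₁
  have ht : pYi ≫ b₀ = (qYi ≫ D.map ψ) ≫ D.map φ₁ := by
    rw [sqYi.w, D.map_comp, Category.assoc]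
  let t := sqY₁.lift pYi (qYi ≫ D.map ψ) ht
  have ht1 : t ≫ pullback.fst b₀ (D.map φ₁) = pYi := sqY₁.lift_fst _ _ _
  have hs : pXi ≫ f₀ = (fi ≫ t) ≫ pullback.fst b₀ (D.map φ₁) := by
    rw [Category.assoc, ht1, sqXi.w]
  let s := sqX₁.lift pXi (fi ≫ t) hs
  have hs1 : s ≫ pullback.fst f₀ (pullback.fst b₀ (D.map φ₁)) = pXi := sqX₁.lift_fst _ _ _
  have hs2 : s ≫ pullback.snd f₀ (pullback.fst b₀ (D.map φ₁)) = fi ≫ t := sqX₁.lift_snd _ _ _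
  have sq : IsPullback s fi (pullback.snd f₀ (pullback.fst b₀ (D.map φ₁))) t := by
    refine IsPullback.of_right ?_ hs2 sqX₁
    rw [hs1, ht1]
    exact sqXi
  exact hQbc hX₁ hY₁ _ t s fi sq hQ₁

theorem isSurjectiveMor_of_isPullback {A B A' B' : Sp S} (f : A ⟶ B) (g : B' ⟶ B)
    (fst : A' ⟶ A) (f' : A' ⟶ B') (sq : IsPullback fst f' f g) (hf : IsSurjectiveMor f) :
    IsSurjectiveMor f' := by
  intro y
  obtain ⟨x, hx⟩ := hf (Points.map g y)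
  obtain ⟨p, -, hp⟩ := Groth.Agent.Helper4.AlgSpPtsDesc.exists_point_of_isPullback sq x y hx
  exact ⟨p, hp⟩

theorem isUnivInjectiveMor_of_isPullback {A B A' B' : Sp S} (f : A ⟶ B) (g : B' ⟶ B)
    (fst : A' ⟶ A) (f' : A' ⟶ B') (sq : IsPullback fst f' f g) (hf : IsUnivInjectiveMor f) :
    IsUnivInjectiveMor f' := by
  intro Z Z' hZ k fst2 snd2 sq2
  exact hf hZ (k ≫ g) (fst2 ≫ fst) snd2 (sq2.paste_horiz sq)

theorem isEtaleMor_of_isIso {X Y : Sp S} (f : X ⟶ Y) [IsIso f] : IsEtaleMor f := by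
  intro U φ hφ
  have i3 : (RepWith (S := S) @Etale).RespectsIso :=
    MorphismProperty.IsStableUnderBaseChange.respectsIso
  exact (MorphismProperty.cancel_right_of_respectsIso (RepWith (S := S) @Etale) φ f).2 hφ

theorem isSurjectiveMor_of_isIso {X Y : Sp S} (f : X ⟶ Y) [IsIso f] : IsSurjectiveMor f := by
  intro y
  exact ⟨Points.map (inv f) y, by rw [← Points.map_comp, IsIso.inv_hom_id, Points.map_id]⟩

theorem isUnivInjectiveMor_of_isIso {X Y : Sp S} (f : X ⟶ Y) [IsIso f] :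
    IsUnivInjectiveMor f := by
  intro Z Z' hZ g fst snd sq
  haveI : IsIso snd := IsPullback.isIso_snd_of_isIso sq
  intro a b hab
  have := congrArg (Points.map (inv snd)) hab
  rwa [← Points.map_comp, ← Points.map_comp, IsIso.hom_inv_id, Points.map_id, Points.map_id]
    at this

theorem isIso_of_etale_surjective_univInjective {X Y : Sp S} (hX : IsAlgSpace X)
    (hY : IsAlgSpace Y) (f : X ⟶ Y) (het : IsEtaleMor f) (hs : IsSurjectiveMor f)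
    (hinj : IsUnivInjectiveMor f) : IsIso f := by
  have hoi := Groth.Agent.Helper5.AlgSpEtInj.repWith_openImmersion_of_etale_univInjective hX hY f
    het hinj
  exact Groth.Agent.Helper5.AlgSpIso.isIso_of_openImmersion_surjective f hoi
    (Groth.Agent.Helper4.AlgSpPts.repWith_surjective_of_isSurjectiveMor f hoi.rep hs)

set_option backward.isDefEq.respectTransparency false in
theorem main_iso
    [QuasiSeparatedSpace S] {I : Type u} [SmallCategory I] [IsCofiltered I]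
    (D : I ⥤ AlgSp.Sp S) (hD : ∀ i, AlgSp.IsAlgSpace (D.obj i))
    (hDa : ∀ (i j : I) (φ : i ⟶ j), AlgSp.IsAffineMor (D.map φ))
    (c : Cone D) (hc : IsLimit c) (i₀ : I)
    (X₀ Y₀ : AlgSp.Space S) (f₀ : X₀.obj ⟶ Y₀.obj) (b₀ : Y₀.obj ⟶ D.obj i₀)
    (hXqc : AlgSp.IsQuasiCompactSp X₀.obj) (hXqs : AlgSp.IsQuasiSeparatedSp X₀.obj)
    (hYqc : AlgSp.IsQuasiCompactSp Y₀.obj) (hYqs : AlgSp.IsQuasiSeparatedSp Y₀.obj)
    (X Y : AlgSp.Sp S) (f : X ⟶ Y) (pY : Y ⟶ Y₀.obj) (qY : Y ⟶ c.pt)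
    (hY : IsPullback pY qY b₀ (c.π.app i₀)) (pX : X ⟶ X₀.obj) (hX : IsPullback pX f f₀ pY)
    [IsIso f] (hf₀ : AlgSp.LocP @LocallyOfFinitePresentation f₀) :
    ∃ (i : I) (φ : i ⟶ i₀), ∀ (Xi Yi : AlgSp.Sp S) (fi : Xi ⟶ Yi) (pYi : Yi ⟶ Y₀.obj)
      (qYi : Yi ⟶ D.obj i)
      (_ : IsPullback pYi qYi b₀ (D.map φ)) (pXi : Xi ⟶ X₀.obj) (_ : IsPullback pXi fi f₀ pYi),
      IsIso fi := by
  have hPd : Groth.Agent.Helper4.SN484.SchDescends (@Etale) := by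
    intro I' _ _ D' c' hc' _ i₀' _ _ X₀' Y₀' f₀' g₀' _ _ _ _ _ X' Y' f' g' qY' qX' hY' hX' hf'
    haveI : Etale f' := hf'
    exact Groth.Agent.S9192.result D' c' hc' i₀' f₀' g₀' f' g' qY' qX' hY' hX'
  have hf₀' : LocP @LocallyOfFiniteType f₀ := by
    intro U V a b h ha hb comm
    haveI : LocallyOfFinitePresentation h.left := hf₀ a b h ha hb comm
    infer_instance
  obtain ⟨i₁, φ₁, h₁⟩ := Groth.Agent.Helper4.SN484.main (@Etale)
    Groth.Agent.Helper4.SDClasses.good_etale hPd D hDa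
    c hc i₀ X₀ Y₀ f₀ b₀ hXqc hYqc hYqs X Y f pY qY hY pX hX
    (Groth.Agent.Helper5.AlgSpEt.locP_etale_of_isEtaleMor f (isEtaleMor_of_isIso f)) hf₀
  obtain ⟨i₂, φ₂, h₂⟩ := Groth.Agent.Helper4.SN486.main D hDa c hc i₀ X₀ Y₀ f₀ b₀ hXqc hYqc hYqs
    X Y f pY qY hY pX hX (isSurjectiveMor_of_isIso f) hf₀
  obtain ⟨i₃, φ₃, h₃⟩ := Groth.Agent.Helper4.SN488.diag_reduction D hD hDa c hc i₀
    AlgSp.IsUnivInjectiveMor AlgSp.IsSurjectiveMor
    (fun {X' Y'} hX' hY' f' => by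
      let X1 : AlgSp.Space S := ⟨X', hX'⟩
      let Y1 : AlgSp.Space S := ⟨Y', hY'⟩
      let f1 : X1 ⟶ Y1 := ObjectProperty.homMk f'
      exact (Groth.Agent.S9938.result f1).2)
    (fun X₀' Z₀ g₀ b hXqc' _ hZqc hZqs X' Z g pZ qZ hZ pX' hX' hg hg₀ =>
      Groth.Agent.Helper4.SN486.main D hDa c hc i₀ X₀' Z₀ g₀ b hXqc' hZqc hZqs X' Z g pZ qZ hZ
        pX' hX' hg hg₀)
    X₀ Y₀ f₀ b₀ hXqc hXqs hYqs X Y f pY qY hY pX hX (isUnivInjectiveMor_of_isIso f) hf₀'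
  -- common stage
  let j₁ : Over i₀ := Over.mk φ₁
  let j₂ : Over i₀ := Over.mk φ₂
  let j₃ : Over i₀ := Over.mk φ₃
  let j₁₂ : Over i₀ := IsCofiltered.min j₁ j₂
  let j : Over i₀ := IsCofiltered.min j₁₂ j₃
  let m₁ : j ⟶ j₁ := IsCofiltered.minToLeft j₁₂ j₃ ≫ IsCofiltered.minToLeft j₁ j₂
  let m₂ : j ⟶ j₂ := IsCofiltered.minToLeft j₁₂ j₃ ≫ IsCofiltered.minToRight j₁ j₂
  let m₃ : j ⟶ j₃ := IsCofiltered.minToRight j₁₂ j₃
  have e₁ : j.hom = m₁.left ≫ φ₁ := (Over.w m₁).symm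
  have e₂ : j.hom = m₂.left ≫ φ₂ := (Over.w m₂).symm
  have e₃ : j.hom = m₃.left ≫ φ₃ := (Over.w m₃).symm
  refine ⟨j.left, j.hom, fun Xi Yi fi pYi qYi sqYi pXi sqXi => ?_⟩
  have hYi : AlgSp.IsAlgSpace Yi :=
    Groth.Agent.Helper4.AlgSpPB.isAlgSpace_of_isPullback (hD i₀).diag Y₀.property (hD j.left) b₀
      (D.map j.hom) pYi qYi sqYi
  have hXi : AlgSp.IsAlgSpace Xi :=
    Groth.Agent.Helper4.AlgSpPB.isAlgSpace_of_isPullback Y₀.property.diag X₀.property hYi f₀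
      pYi pXi fi sqXi
  have het : LocP @Etale fi := stage_mono (LocP @Etale)
    (fun {A B A' B'} hA hB f g fst f' sq hf =>
      Groth.Agent.Helper4.AlgSpLocPBC.locP_of_isPullback @Etale
        Groth.Agent.Helper4.SDClasses.good_etale.etale_le
        Groth.Agent.Helper4.SDClasses.good_etale.sd hA hB f g fst f' sq hf)
    D hD φ₁ m₁.left j.hom e₁ X₀.property Y₀.property f₀ b₀ h₁ Xi Yi fi pYi qYi sqYi pXi sqXi
  have hsurj : IsSurjectiveMor fi := stage_mono IsSurjectiveMor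
    (fun {A B A' B'} _ _ f g fst f' sq hf => isSurjectiveMor_of_isPullback f g fst f' sq hf)
    D hD φ₂ m₂.left j.hom e₂ X₀.property Y₀.property f₀ b₀ h₂ Xi Yi fi pYi qYi sqYi pXi sqXi
  have hinj : IsUnivInjectiveMor fi := stage_mono IsUnivInjectiveMor
    (fun {A B A' B'} _ _ f g fst f' sq hf => isUnivInjectiveMor_of_isPullback f g fst f' sq hf)
    D hD φ₃ m₃.left j.hom e₃ X₀.property Y₀.property f₀ b₀ h₃ Xi Yi fi pYi qYi sqYi pXi sqXi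
  exact isIso_of_etale_surjective_univInjective hXi hYi fi
    (Groth.Agent.Helper5.AlgSpEt.isEtaleMor_of_locP_etale hXi hYi fi het) hsurj hinj

end Groth.Agent.Helper4.SN489
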