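import Groth.Prelude.Def_AlgSpRep
import Groth.Prelude.Def_AlgSp4
import Groth.Agent.Helper4.SN483
import Groth.Agent.Helper4.SN482
import Groth.Agent.Helper4.AlgSpQC2
import Groth.Agent.Helper5.AffDesc9
import Groth.Agent.S9920
import Mathlib

/-!
Descending a property `P` (affine-type, with fpqc descent) of the base change of a *representable*
morphism of algebraic spaces along a cofiltered limit with affine transition maps.
-/

set_option autoImplicit false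
universe u
open CategoryTheory CategoryTheory.Limits AlgebraicGeometry Opposite MorphismProperty Topology

namespace Groth.Agent.Helper4.SN490

open AlgSp Groth.Agent.Helper4.SN471 Groth.Agent.Helper4.SN473 Groth.Agent.Helper4.SN477
  Groth.Agent.Helper4.SN483

/-- The scheme-level descent statement for a property `P`, with hypothesis `T` on `f₀`. -/
def SchDescendsT (T P : MorphismProperty Scheme.{u}) : Prop :=
  ∀ {I : Type u} [SmallCategory I] [IsCofiltered I]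
    (D : I ⥤ Scheme.{u}) (c : Limits.Cone D) (_ : Limits.IsLimit c)
    [∀ (i j : I) (f : i ⟶ j), IsAffineHom (D.map f)] (i₀ : I) [CompactSpace (D.obj i₀)]
    [QuasiSeparatedSpace (D.obj i₀)] {X₀ Y₀ : Scheme.{u}} (f₀ : X₀ ⟶ Y₀) (g₀ : Y₀ ⟶ D.obj i₀)
    [CompactSpace X₀] [QuasiSeparatedSpace X₀] [CompactSpace Y₀] [QuasiSeparatedSpace Y₀]
    {X Y : Scheme.{u}} (f : X ⟶ Y) (g : Y ⟶ c.pt) (qY : Y ⟶ Y₀) (qX : X ⟶ X₀)
    (_ : IsPullback qY g g₀ (c.π.app i₀)) (_ : IsPullback qX f f₀ qY), T f₀ → P f →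
    ∃ (i : I) (φ : i ⟶ i₀) (Xi Yi : Scheme.{u}) (fi : Xi ⟶ Yi) (gi : Yi ⟶ D.obj i) (pY : Yi ⟶ Y₀)
      (pX : Xi ⟶ X₀), IsPullback pY gi g₀ (D.map φ) ∧ IsPullback pX fi f₀ pY ∧ P fi

variable {S : Scheme.{u}}

section Chart

variable {B₀ B' X₀ Y₀ X' Y' : Sp S} (r : B' ⟶ B₀) (f₀ : X₀ ⟶ Y₀) (b₀ : Y₀ ⟶ B₀)
  {V₀ W₀ : Over S} (β : (yon S).obj V₀ ⟶ Y₀) (α : (yon S).obj W₀ ⟶ X₀) (h₀ : W₀ ⟶ V₀)
  (sq₀ : IsPullback α ((yon S).map h₀) f₀ β)
  {V' : Over S} (u₁ : (yon S).obj V' ⟶ B') (u₂ : V' ⟶ V₀)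
  (sqV : IsPullback u₁ ((yon S).map u₂) r (β ≫ b₀))
  (f' : X' ⟶ Y') (pY : Y' ⟶ Y₀) (qY : Y' ⟶ B') (sqY : IsPullback pY qY b₀ r)
  (pX : X' ⟶ X₀) (sqX : IsPullback pX f' f₀ pY)
  {W' : Over S} (w₁ : W' ⟶ W₀) (w₂ : W' ⟶ V') (sqW : IsPullback w₁ w₂ h₀ u₂)

/-- When `W₀ = X₀ ×_{Y₀} V₀`, also `W' = X' ×_{Y'} V'`. -/
theorem isPullback_aChart_f' :
    IsPullback (aChart r f₀ b₀ β α h₀ sq₀.w u₁ u₂ sqV f' pY qY sqY pX sqX w₁ w₂ sqW)
      ((yon S).map w₂) f' (bChart r b₀ β u₁ u₂ sqV pY qY sqY) := by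
  have big : IsPullback ((yon S).map w₁ ≫ α) ((yon S).map w₂) f₀ ((yon S).map u₂ ≫ β) :=
    (sqW.map (yon S)).paste_horiz sq₀
  rw [← aChart_pX r f₀ b₀ β α h₀ sq₀.w u₁ u₂ sqV f' pY qY sqY pX sqX w₁ w₂ sqW,
    ← bChart_pY r b₀ β u₁ u₂ sqV pY qY sqY] at big
  exact IsPullback.of_right big
    (aChart_f' r f₀ b₀ β α h₀ sq₀.w u₁ u₂ sqV f' pY qY sqY pX sqX w₁ w₂ sqW) sqX

end Chart

section Stage

variable {I : Type u} [SmallCategory I] [IsCofiltered I] (D : I ⥤ Sp S)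
  (hDa : ∀ (i j : I) (φ : i ⟶ j), IsAffineMor (D.map φ))
  (i₀ : I) {V₀ W₀ : Over S} (a : (yon S).obj V₀ ⟶ D.obj i₀)

set_option backward.isDefEq.respectTransparency false in
/-- The scheme-level descent step, along the chart system of `V₀`. -/
theorem exists_stage (T P : MorphismProperty Scheme.{u}) [P.IsStableUnderBaseChange]
    (hPd : SchDescendsT T P) [IsAffine V₀.left] [CompactSpace W₀.left]
    [QuasiSeparatedSpace W₀.left] (h₀ : W₀ ⟶ V₀) (hT : T h₀.left)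
    (cU : Cone (Usys D hDa i₀ a)) (hcU' : IsLimit ((Over.forget S).mapCone cU))
    (q : cU.pt ⟶ V₀) (hq : ∀ j : Over i₀, cU.π.app j ≫ Usnd D hDa i₀ a j = q)
    (hPlim : P (pullback.snd h₀ q).left) :
    ∃ j : Over i₀, P (pullback.snd h₀ (Usnd D hDa i₀ a j)).left := by
  have sqW : IsPullback (pullback.fst h₀ q) (pullback.snd h₀ q) h₀ q :=
    IsPullback.of_hasPullback _ _
  let D' : Over i₀ ⥤ Scheme.{u} := Usys D hDa i₀ a ⋙ Over.forget S
  haveI : ∀ (j j' : Over i₀) (m : j ⟶ j'), IsAffineHom (D'.map m) := fun _ _ m =>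
    isAffineHom_Umap D hDa i₀ a m
  let cone := (Over.forget S).mapCone cU
  have hcU'' : IsLimit cone := hcU'
  haveI hUaff : ∀ j : Over i₀, IsAffine (D'.obj j) := fun j => by
    haveI : IsAffineHom (Usnd D hDa i₀ a j).left := isAffineHom_Usnd D hDa i₀ a j
    have h2 : IsAffine (Uobj D hDa i₀ a j).left :=
      isAffine_of_isAffineHom (Usnd D hDa i₀ a j).left
    exact h2
  have htopiso : IsIso (Usnd D hDa i₀ a (jtop i₀)) := by
    have h1 := Usq D hDa i₀ a (jtop i₀)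
    haveI : IsIso (D.map (jtop i₀).hom) := (inferInstance : IsIso (D.map (𝟙 i₀)))
    haveI : IsIso ((yon S).map (Usnd D hDa i₀ a (jtop i₀))) :=
      IsPullback.isIso_snd_of_isIso h1
    exact isIso_of_fully_faithful (yon S) _
  let e₀ : D'.obj (jtop i₀) ⟶ V₀.left := (Usnd D hDa i₀ a (jtop i₀)).left
  haveI he₀ : IsIso e₀ := by
    have : IsIso ((Over.forget S).map (Usnd D hDa i₀ a (jtop i₀))) := inferInstance
    exact this
  let πtop : cone.pt ⟶ D'.obj (jtop i₀) := (cU.π.app (jtop i₀)).left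
  have hπtop : q.left ≫ inv e₀ = 𝟙 cone.pt ≫ πtop := by
    rw [Category.id_comp, IsIso.comp_inv_eq]
    exact (congrArg (fun m => m.left) (hq (jtop i₀))).symm
  have hY' : IsPullback q.left (𝟙 cone.pt) (inv e₀) (cone.π.app (jtop i₀)) := by
    haveI : IsIso (𝟙 cone.pt) := IsIso.id _
    exact IsPullback.of_vert_isIso ⟨hπtop⟩
  have hX' : IsPullback (pullback.fst h₀ q).left (pullback.snd h₀ q).left h₀.left q.left :=
    sqW.map (Over.forget S)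
  obtain ⟨j, φ, Xs, Ys, fs, gs, pYs, pXs, h1, h2, hPfs⟩ :=
    hPd D' cone hcU'' (jtop i₀) h₀.left (inv e₀) (pullback.snd h₀ q).left (𝟙 cone.pt) q.left
      (pullback.fst h₀ q).left hY' hX' hT hPlim
  haveI hgs : IsIso gs := IsPullback.isIso_snd_of_isIso h1
  have hpYs : pYs = gs ≫ (Usnd D hDa i₀ a j).left := by
    have h3 : pYs = (gs ≫ D'.map φ) ≫ e₀ := (IsIso.comp_inv_eq _).1 h1.w
    rw [h3, Category.assoc]
    congr 1
    have := congrArg (fun m => m.left) (Umap_snd D hDa i₀ a φ)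
    exact this
  have sqWj : IsPullback (pullback.fst h₀ (Usnd D hDa i₀ a j))
      (pullback.snd h₀ (Usnd D hDa i₀ a j)) h₀ (Usnd D hDa i₀ a j) :=
    IsPullback.of_hasPullback _ _
  have sqWj' := sqWj.map (Over.forget S)
  refine ⟨j, ?_⟩
  have hcomm : (pullback.fst h₀ (Usnd D hDa i₀ a j)).left ≫ h₀.left =
      ((pullback.snd h₀ (Usnd D hDa i₀ a j)).left ≫ inv gs) ≫ pYs := by
    rw [hpYs, Category.assoc, IsIso.inv_hom_id_assoc]
    exact sqWj'.w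
  let l := h2.lift _ _ hcomm
  have hl1 : l ≫ pXs = (pullback.fst h₀ (Usnd D hDa i₀ a j)).left := h2.lift_fst _ _ _
  have hl2 : l ≫ fs = (pullback.snd h₀ (Usnd D hDa i₀ a j)).left ≫ inv gs :=
    h2.lift_snd _ _ _
  have big : IsPullback (l ≫ pXs) (pullback.snd h₀ (Usnd D hDa i₀ a j)).left h₀.left
      (inv gs ≫ pYs) := by
    rw [hl1, hpYs, IsIso.inv_hom_id_assoc]
    exact sqWj'
  have hsq : IsPullback l (pullback.snd h₀ (Usnd D hDa i₀ a j)).left fs (inv gs) :=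
    IsPullback.of_right big hl2 h2
  exact P.of_isPullback hsq hPfs

end Stage

set_option backward.isDefEq.respectTransparency false in
theorem main_rep (P : MorphismProperty Scheme.{u}) [P.IsStableUnderBaseChange]
    [IsZariskiLocalAtTarget P] [P.DescendsAlong (@Surjective ⊓ @Flat ⊓ @QuasiCompact)]
    (hPaff : P ≤ @IsAffineHom)
    (hPd : SchDescendsT @LocallyOfFiniteType P)
    [QuasiSeparatedSpace S] {I : Type u} [SmallCategory I] [IsCofiltered I]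
    (D : I ⥤ AlgSp.Sp S)
    (hDa : ∀ (i j : I) (φ : i ⟶ j), AlgSp.IsAffineMor (D.map φ))
    (c : Cone D) (hc : IsLimit c) (i₀ : I)
    (X₀ Z₀ : AlgSp.Space S) (f₀ : X₀.obj ⟶ Z₀.obj) (b₀ : Z₀.obj ⟶ D.obj i₀)
    (hXqc : AlgSp.IsQuasiCompactSp X₀.obj)
    (hZqc : AlgSp.IsQuasiCompactSp Z₀.obj) (hZqs : AlgSp.IsQuasiSeparatedSp Z₀.obj)
    (hf₀lft : RepWith @LocallyOfFiniteType f₀)
    (hf₀mono : RepWith (MorphismProperty.monomorphisms Scheme.{u}) f₀)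
    (X Z : AlgSp.Sp S) (f : X ⟶ Z) (pZ : Z ⟶ Z₀.obj) (qZ : Z ⟶ c.pt)
    (hZ : IsPullback pZ qZ b₀ (c.π.app i₀)) (pX : X ⟶ X₀.obj) (hX : IsPullback pX f f₀ pZ)
    (hf : RepWith P f) :
    ∃ (i : I) (φ : i ⟶ i₀), ∀ (Xi Zi : AlgSp.Sp S) (fi : Xi ⟶ Zi) (pZi : Zi ⟶ Z₀.obj)
      (qZi : Zi ⟶ D.obj i)
      (_ : IsPullback pZi qZi b₀ (D.map φ)) (pXi : Xi ⟶ X₀.obj) (_ : IsPullback pXi fi f₀ pZi),
      RepWith P fi := by
  -- (1) chart of `Z₀`
  obtain ⟨V₀, β, hβe, hβs, hV₀aff⟩ := Groth.Agent.Helper4.AlgSpQC.exists_affine_chart hZqc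
  haveI : IsAffine V₀.left := hV₀aff
  -- (2) the scheme `X₀ ×_{Z₀} V₀`
  have sq₀ := hf₀lft.rep.isPullback β
  haveI hlft : LocallyOfFiniteType (hf₀lft.rep.snd β).left := hf₀lft.property _ _ _ sq₀
  haveI hmono : Mono (hf₀lft.rep.snd β).left := hf₀mono.property _ _ _ sq₀
  generalize hf₀lft.rep.snd β = h₀ at sq₀ hlft hmono
  generalize hf₀lft.rep.fst β = α at sq₀
  generalize hf₀lft.rep.pullback β = W₀ at α h₀ sq₀ hlft hmono
  have hqcm : IsQuasiCompactMor f₀ := by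
    let f1 : X₀ ⟶ Z₀ := ObjectProperty.homMk f₀
    exact Groth.Agent.S9920.result f1 hXqc hZqs
  have hW₀qc : IsQuasiCompactSp ((yon S).obj W₀) :=
    hqcm (IsAlgSpace.yon_obj V₀) (Groth.Agent.Helper4.AlgSpQC2.isQuasiCompactSp_yon V₀) β
      α ((yon S).map h₀) sq₀
  haveI : CompactSpace W₀.left := by
    haveI := Groth.Agent.Helper4.AlgSpQC2.compactSpace_points_of_isQuasiCompactSp hW₀qc
    exact (Points.schemeHomeo W₀).symm.compactSpace
  haveI : QuasiSeparatedSpace W₀.left := by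
    haveI : QuasiSeparated h₀.left := inferInstance
    exact quasiSeparatedSpace_of_quasiSeparated h₀.left
  -- (3) the chart system
  obtain ⟨cU, hcU, hcU', p, q, sq, haff, hp, hq⟩ := exists_chart_limit' D hDa c hc i₀ (β ≫ b₀)
  -- (4) the limit level
  have sqW : IsPullback (pullback.fst h₀ q) (pullback.snd h₀ q) h₀ q :=
    IsPullback.of_hasPullback _ _
  have hPlim : P (pullback.snd h₀ q).left :=
    hf.property _ _ _ (isPullback_aChart_f' (c.π.app i₀) f₀ b₀ β α h₀ sq₀ p q sq f pZ qZ hZ pX hX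
      _ _ sqW)
  -- (5) scheme-level descent
  obtain ⟨j, hPj⟩ := exists_stage D hDa i₀ (β ≫ b₀) @LocallyOfFiniteType P hPd h₀ hlft cU hcU' q hq
    hPlim
  -- (6) conclusion
  refine ⟨j.left, j.hom, fun Xi Zi fi pZi qZi sqZi pXi sqXi => ?_⟩
  have sqWj : IsPullback (pullback.fst h₀ (Usnd D hDa i₀ (β ≫ b₀) j))
      (pullback.snd h₀ (Usnd D hDa i₀ (β ≫ b₀) j)) h₀ (Usnd D hDa i₀ (β ≫ b₀) j) :=
    IsPullback.of_hasPullback _ _
  have hsq := isPullback_aChart_f' (D.map j.hom) f₀ b₀ β α h₀ sq₀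
    (Ufst D hDa i₀ (β ≫ b₀) j) (Usnd D hDa i₀ (β ≫ b₀) j) (Usq D hDa i₀ (β ≫ b₀) j)
    fi pZi qZi sqZi pXi sqXi _ _ sqWj
  have hbe : RepWith @Etale (bChart (D.map j.hom) b₀ β (Ufst D hDa i₀ (β ≫ b₀) j)
      (Usnd D hDa i₀ (β ≫ b₀) j) (Usq D hDa i₀ (β ≫ b₀) j) pZi qZi sqZi) :=
    (RepWith (S := S) @Etale).of_isPullback
      (isPullback_bChart (D.map j.hom) b₀ β _ _ (Usq D hDa i₀ (β ≫ b₀) j) pZi qZi sqZi).flip hβe
  have hbs : RepWith @Surjective (bChart (D.map j.hom) b₀ β (Ufst D hDa i₀ (β ≫ b₀) j)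
      (Usnd D hDa i₀ (β ≫ b₀) j) (Usq D hDa i₀ (β ≫ b₀) j) pZi qZi sqZi) :=
    (RepWith (S := S) @Surjective).of_isPullback
      (isPullback_bChart (D.map j.hom) b₀ β _ _ (Usq D hDa i₀ (β ≫ b₀) j) pZi qZi sqZi).flip hβs
  exact Groth.Agent.Helper5.AffDesc.repWith_of_etale_chart P hPaff fi _ _ hbe hbs _ _ hsq
    ((repWith_yon_map_iff P _).2 hPj)

end Groth.Agent.Helper4.SN490
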