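import Groth.Prelude.Def_AlgSpRep
import Groth.Prelude.Def_AlgSp4
import Groth.Agent.Helper4.SN490
import Groth.Agent.Helper4.SN487
import Groth.Agent.S9189
import Groth.Agent.S9900
import Mathlib

/-!
Descending separatedness of the base change of a morphism of algebraic spaces along a cofiltered
limit with affine transition maps.
-/

set_option autoImplicit false
universe u
open CategoryTheory CategoryTheory.Limits AlgebraicGeometry Opposite MorphismProperty Topology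

namespace Groth.Agent.Helper4.SN491

open AlgSp Groth.Agent.Helper4.SN487

variable {S : Scheme.{u}}

theorem schDescends_closedImmersion :
    Groth.Agent.Helper4.SN490.SchDescendsT @LocallyOfFiniteType @IsClosedImmersion := by
  intro I' _ _ D' c' hc' _ i₀' _ _ X₀' Y₀' f₀' g₀' _ _ _ _ X' Y' f' g' qY' qX' hY' hX' hT hf'
  haveI : LocallyOfFiniteType f₀' := hT
  haveI : IsClosedImmersion f' := hf'
  exact Groth.Agent.S9189.result D' c' hc' i₀' f₀' g₀' f' g' qY' qX' hY' hX'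

set_option backward.isDefEq.respectTransparency false in
theorem main_sep
    [QuasiSeparatedSpace S] {I : Type u} [SmallCategory I] [IsCofiltered I]
    (D : I ⥤ AlgSp.Sp S)
    (hDa : ∀ (i j : I) (φ : i ⟶ j), AlgSp.IsAffineMor (D.map φ))
    (c : Cone D) (hc : IsLimit c) (i₀ : I)
    (X₀ Y₀ : AlgSp.Space S) (f₀ : X₀.obj ⟶ Y₀.obj) (b₀ : Y₀.obj ⟶ D.obj i₀)
    (hXqc : AlgSp.IsQuasiCompactSp X₀.obj) (hXqs : AlgSp.IsQuasiSeparatedSp X₀.obj)
    (hYqs : AlgSp.IsQuasiSeparatedSp Y₀.obj)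
    (X Y : AlgSp.Sp S) (f : X ⟶ Y) (pY : Y ⟶ Y₀.obj) (qY : Y ⟶ c.pt)
    (hY : IsPullback pY qY b₀ (c.π.app i₀)) (pX : X ⟶ X₀.obj) (hX : IsPullback pX f f₀ pY)
    (hf : AlgSp.IsSeparatedMor f) :
    ∃ (i : I) (φ : i ⟶ i₀), ∀ (Xi Yi : AlgSp.Sp S) (fi : Xi ⟶ Yi) (pYi : Yi ⟶ Y₀.obj)
      (qYi : Yi ⟶ D.obj i)
      (_ : IsPullback pYi qYi b₀ (D.map φ)) (pXi : Xi ⟶ X₀.obj) (_ : IsPullback pXi fi f₀ pYi),
      AlgSp.IsSeparatedMor fi := by
  have sq₀ : IsPullback (pullback.fst f₀ f₀) (pullback.snd f₀ f₀) f₀ f₀ :=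
    IsPullback.of_hasPullback _ _
  have hZ₀alg : IsAlgSpace (pullback f₀ f₀) :=
    Groth.Agent.Helper4.AlgSpPB.isAlgSpace_of_isPullback Y₀.property.diag X₀.property X₀.property
      f₀ f₀ _ _ sq₀
  have hqcm : IsQuasiCompactMor f₀ := by
    let f1 : X₀ ⟶ Y₀ := ObjectProperty.homMk f₀
    exact Groth.Agent.S9920.result f1 hXqc hYqs
  have hZ₀qc : IsQuasiCompactSp (pullback f₀ f₀) := hqcm X₀.property hXqc f₀ _ _ sq₀
  have hZ₀qs : IsQuasiSeparatedSp (pullback f₀ f₀) :=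
    isQuasiSeparatedSp_of_isPullback hXqs hXqs f₀ f₀ _ _ sq₀
  let Z₀ : AlgSp.Space S := ⟨pullback f₀ f₀, hZ₀alg⟩
  have hΔ := Groth.Agent.S9900.result (ObjectProperty.homMk f₀ : X₀ ⟶ Y₀)
  have hΔlft : RepWith @LocallyOfFiniteType (pullback.diagonal f₀) := hΔ.2.1
  have hΔmono : RepWith (MorphismProperty.monomorphisms Scheme.{u}) (pullback.diagonal f₀) :=
    hΔ.2.2.1
  have hZ : IsPullback (pZ f₀ f pX pY hX) ((pullback.snd f f ≫ f) ≫ qY)
      ((pullback.snd f₀ f₀ ≫ f₀) ≫ b₀) (c.π.app i₀) :=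
    (isPullback_pZ f₀ f pX pY hX).paste_vert hY
  obtain ⟨i, φ, h⟩ := Groth.Agent.Helper4.SN490.main_rep @IsClosedImmersion
    (fun _ _ g hg => by
      haveI : IsClosedImmersion g := hg
      infer_instance)
    schDescends_closedImmersion D hDa c hc i₀ X₀ Z₀ (pullback.diagonal f₀)
    ((pullback.snd f₀ f₀ ≫ f₀) ≫ b₀) hXqc hZ₀qc hZ₀qs hΔlft hΔmono X (pullback f f)
    (pullback.diagonal f) (pZ f₀ f pX pY hX) ((pullback.snd f f ≫ f) ≫ qY) hZ pX
    (isPullback_diagonal f₀ f pX pY hX) hf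
  refine ⟨i, φ, fun Xi Yi fi pYi qYi sqYi pXi sqXi => ?_⟩
  have hZi : IsPullback (pZ f₀ fi pXi pYi sqXi) ((pullback.snd fi fi ≫ fi) ≫ qYi)
      ((pullback.snd f₀ f₀ ≫ f₀) ≫ b₀) (D.map φ) :=
    (isPullback_pZ f₀ fi pXi pYi sqXi).paste_vert sqYi
  exact h Xi (pullback fi fi) (pullback.diagonal fi)
    (pZ f₀ fi pXi pYi sqXi) ((pullback.snd fi fi ≫ fi) ≫ qYi) hZi pXi
    (isPullback_diagonal f₀ fi pXi pYi sqXi)

end Groth.Agent.Helper4.SN491
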