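import Groth.Prelude.Def_AlgSpRep
import Groth.Prelude.Def_AlgSp4
import Groth.Agent.Helper4.SN488
import Groth.Agent.Helper4.SN471
import Groth.Agent.Helper4.AlgSpQS
import Groth.Agent.Helper5.FpqcDiag
import Groth.Agent.Helper5.FpqcChart
import Groth.Agent.Helper5.AffDesc9
import Groth.Agent.Helper4.AlgSpLocP
import Groth.Agent.Helper4.AlgSpSrc
import Groth.Agent.S9952
import Groth.Agent.S10011
import Mathlib

/-!
Monomorphisms into a cofiltered limit of algebraic spaces are eventually monomorphisms into the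
stages.
-/

set_option autoImplicit false
universe u v₁ u₁
open CategoryTheory CategoryTheory.Limits AlgebraicGeometry Opposite MorphismProperty

namespace Groth.Agent.Helper4.SN492

section general

variable {C : Type u₁} [Category.{v₁} C] [HasPullbacks C]

/-- `Y ×_T Y ⟶ Y ×_{T'} Y` is a base change of the diagonal of `T ⟶ T'`. -/
theorem isPullback_map_diagonal' {Y T T' : C} (f g : Y ⟶ T) (i : T ⟶ T') (f' g' : Y ⟶ T')
    (hf : f ≫ i = f') (hg : g ≫ i = g') :
    IsPullback (pullback.fst f g ≫ f)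
      (pullback.map f g f' g' (𝟙 _) (𝟙 _) i (by rw [Category.id_comp, hf])
        (by rw [Category.id_comp, hg]))
      (pullback.diagonal i)
      (pullback.map f' g' i i f g (𝟙 _) (by rw [Category.comp_id, hf])
        (by rw [Category.comp_id, hg])) := by
  subst hf hg
  exact pullback_map_diagonal_isPullback f g i

end general

open AlgSp

variable {S : Scheme.{u}}

set_option backward.isDefEq.respectTransparency.types false in
/-- a surjective etale chart is an fpqc covering (copy of helper5's `QAff.isFpqcCover_chart`, with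
lighter imports) -/
theorem isFpqcCover_chart {X : Sp S} {U : Over S} (p : (yon S).obj U ⟶ X)
    (hp : RepWith @Etale p) (hps : RepWith @Surjective p) :
    IsFpqcCover (fun _ : PUnit.{u + 1} => (yon S).obj U) (fun _ => p) := by
  refine ⟨fun _ => ?_, fun Z hZ h => ?_⟩
  · exact Groth.Agent.Helper4.AlgSpLocP.locP_of_repWith @Flat @Flat (fun g hg => hg)
      (fun g hg => by have : Etale g := hg; infer_instance) _
      (Groth.Agent.Helper4.AlgSpSrc.repWith_mono (fun g hg => by
        have : Etale g := hg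
        infer_instance) hp)
  · obtain ⟨n, V, c, hVa, hce, hcs, hl⟩ :=
      Groth.Agent.Helper5.FpqcChart.exists_etale_affine_refinement p hp hps Z hZ h
    refine ⟨n, V, c, hVa, fun a => ?_, hcs, fun a => ?_⟩
    · have := hce a
      infer_instance
    · obtain ⟨l, hl⟩ := hl a
      exact ⟨PUnit.unit, l, hl⟩

/-- Affine morphisms of algebraic spaces are separated. -/
theorem isSeparatedMor_of_isAffineMor {F G : Sp S} (hF : IsAlgSpace F) (hG : IsAlgSpace G)
    (g : F ⟶ G) (hg : IsAffineMor g) : IsSeparatedMor g := by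
  obtain ⟨V, p, hpe, hps⟩ := hG.atlas
  have hrep := Groth.Agent.Helper5.AffDesc.representable_of_isAffineMor hg
  have sq := hrep.isPullback p
  have haff : IsAffineHom (hrep.snd p).left :=
    (Groth.Agent.Helper4.SN471.repWith_isAffineHom_of_isAffineMor g hg).property _ _ _ sq
  refine (Groth.Agent.Helper5.FpqcDiag.isLocalOnBase_isSeparatedMor
    (fun _ : PUnit.{u + 1} => (yon S).obj V) (fun _ => p) hG (fun _ => IsAlgSpace.yon_obj V)
    (isFpqcCover_chart p hpe hps) g hF
    (fun _ => (yon S).obj (hrep.pullback p)) (fun _ => (yon S).map (hrep.snd p))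
    (fun _ => hrep.fst p) (fun _ => IsAlgSpace.yon_obj _) (fun _ => sq)).2 ?_
  intro _
  rw [isSeparatedMor_yon_map_iff]
  infer_instance

variable [QuasiSeparatedSpace S] {I : Type u} [SmallCategory I] [IsCofiltered I]
  (D : I ⥤ AlgSp.Sp S) (c : Cone D) {Y : Sp S} (y : Y ⟶ c.pt)

/-- The transition maps of the system `Y ×_{X_i} Y`. -/
noncomputable def Zmap {i j : I} (φ : i ⟶ j) :
    pullback (y ≫ c.π.app i) (y ≫ c.π.app i) ⟶ pullback (y ≫ c.π.app j) (y ≫ c.π.app j) :=
  pullback.map _ _ _ _ (𝟙 _) (𝟙 _) (D.map φ)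
    (by rw [Category.id_comp, Category.assoc, c.w]) (by rw [Category.id_comp, Category.assoc, c.w])

theorem Zmap_fst {i j : I} (φ : i ⟶ j) :
    Zmap D c y φ ≫ pullback.fst (y ≫ c.π.app j) (y ≫ c.π.app j) =
      pullback.fst (y ≫ c.π.app i) (y ≫ c.π.app i) := by
  have := pullback.lift_fst (f := y ≫ c.π.app j) (g := y ≫ c.π.app j)
    (pullback.fst (y ≫ c.π.app i) (y ≫ c.π.app i) ≫ 𝟙 _)
    (pullback.snd (y ≫ c.π.app i) (y ≫ c.π.app i) ≫ 𝟙 _)
    (by
      have h2 : y ≫ c.π.app j = (y ≫ c.π.app i) ≫ D.map φ := by rw [Category.assoc, c.w]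
      rw [Category.comp_id, Category.comp_id, h2]
      exact pullback.condition_assoc (D.map φ))
  exact this.trans (Category.comp_id _)

theorem Zmap_snd {i j : I} (φ : i ⟶ j) :
    Zmap D c y φ ≫ pullback.snd (y ≫ c.π.app j) (y ≫ c.π.app j) =
      pullback.snd (y ≫ c.π.app i) (y ≫ c.π.app i) := by
  have := pullback.lift_snd (f := y ≫ c.π.app j) (g := y ≫ c.π.app j)
    (pullback.fst (y ≫ c.π.app i) (y ≫ c.π.app i) ≫ 𝟙 _)
    (pullback.snd (y ≫ c.π.app i) (y ≫ c.π.app i) ≫ 𝟙 _)
    (by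
      have h2 : y ≫ c.π.app j = (y ≫ c.π.app i) ≫ D.map φ := by rw [Category.assoc, c.w]
      rw [Category.comp_id, Category.comp_id, h2]
      exact pullback.condition_assoc (D.map φ))
  exact this.trans (Category.comp_id _)

/-- The system `Y ×_{X_i} Y`. -/
noncomputable def Zsys : I ⥤ Sp S where
  obj i := pullback (y ≫ c.π.app i) (y ≫ c.π.app i)
  map {i j} φ := Zmap D c y φ
  map_id i := by
    apply pullback.hom_ext
    · rw [Zmap_fst, Category.id_comp]
    · rw [Zmap_snd, Category.id_comp]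
  map_comp φ ψ := by
    apply pullback.hom_ext
    · rw [Zmap_fst, Category.assoc, Zmap_fst, Zmap_fst]
    · rw [Zmap_snd, Category.assoc, Zmap_snd, Zmap_snd]

/-- The projections to `Y`. -/
noncomputable def Zt : Zsys D c y ⟶ (Functor.const I).obj Y where
  app i := pullback.fst _ _
  naturality i j φ := by
    change Zmap D c y φ ≫ pullback.fst _ _ = pullback.fst _ _ ≫ 𝟙 _
    rw [Zmap_fst, Category.comp_id]

/-- The cone of diagonals. -/
noncomputable def Zcone : Cone (Zsys D c y) where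
  pt := Y
  π :=
    { app := fun i => pullback.diagonal (y ≫ c.π.app i)
      naturality := fun i j φ => by
        change 𝟙 _ ≫ pullback.diagonal (y ≫ c.π.app j) =
          pullback.diagonal (y ≫ c.π.app i) ≫ Zmap D c y φ
        apply pullback.hom_ext
        · rw [Category.id_comp, Category.assoc, Zmap_fst, pullback.diagonal_fst,
            pullback.diagonal_fst]
        · rw [Category.id_comp, Category.assoc, Zmap_snd, pullback.diagonal_snd,
            pullback.diagonal_snd] }

theorem Zsys_map_fst {i j : I} (φ : i ⟶ j) :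
    (Zsys D c y).map φ ≫ pullback.fst (y ≫ c.π.app j) (y ≫ c.π.app j) =
      pullback.fst (y ≫ c.π.app i) (y ≫ c.π.app i) := Zmap_fst D c y φ

theorem Zsys_map_snd {i j : I} (φ : i ⟶ j) :
    (Zsys D c y).map φ ≫ pullback.snd (y ≫ c.π.app j) (y ≫ c.π.app j) =
      pullback.snd (y ≫ c.π.app i) (y ≫ c.π.app i) := Zmap_snd D c y φ

/-- The cone of diagonals is a limit cone when `y` is a monomorphism. -/
noncomputable def Zcone_isLimit (hc : IsLimit c) [Mono y] (i₁ : I) : IsLimit (Zcone D c y) := by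
  -- the two projections of a cone are independent of the index and agree
  have key : ∀ (s : Cone (Zsys D c y)) (i : I),
      s.π.app i ≫ pullback.fst (y ≫ c.π.app i) (y ≫ c.π.app i) =
        s.π.app i₁ ≫ pullback.fst (y ≫ c.π.app i₁) (y ≫ c.π.app i₁) ∧
      s.π.app i ≫ pullback.snd (y ≫ c.π.app i) (y ≫ c.π.app i) =
        s.π.app i₁ ≫ pullback.fst (y ≫ c.π.app i₁) (y ≫ c.π.app i₁) := by
    intro s i
    have hind : ∀ {k l : I} (φ : k ⟶ l),
        s.π.app l ≫ pullback.fst (y ≫ c.π.app l) (y ≫ c.π.app l) =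
          s.π.app k ≫ pullback.fst (y ≫ c.π.app k) (y ≫ c.π.app k) ∧
        s.π.app l ≫ pullback.snd (y ≫ c.π.app l) (y ≫ c.π.app l) =
          s.π.app k ≫ pullback.snd (y ≫ c.π.app k) (y ≫ c.π.app k) := by
      intro k l φ
      rw [← s.w φ, Category.assoc, Category.assoc, Zsys_map_fst, Zsys_map_snd]
      exact ⟨rfl, rfl⟩
    have hfst : ∀ k : I, s.π.app k ≫ pullback.fst (y ≫ c.π.app k) (y ≫ c.π.app k) =
        s.π.app i₁ ≫ pullback.fst (y ≫ c.π.app i₁) (y ≫ c.π.app i₁) := by
      intro k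
      rw [(hind (IsCofiltered.minToLeft k i₁)).1, (hind (IsCofiltered.minToRight k i₁)).1]
    have hsnd : ∀ k : I, s.π.app k ≫ pullback.snd (y ≫ c.π.app k) (y ≫ c.π.app k) =
        s.π.app i₁ ≫ pullback.snd (y ≫ c.π.app i₁) (y ≫ c.π.app i₁) := by
      intro k
      rw [(hind (IsCofiltered.minToLeft k i₁)).2, (hind (IsCofiltered.minToRight k i₁)).2]
    have hab : s.π.app i₁ ≫ pullback.fst (y ≫ c.π.app i₁) (y ≫ c.π.app i₁) =
        s.π.app i₁ ≫ pullback.snd (y ≫ c.π.app i₁) (y ≫ c.π.app i₁) := by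
      rw [← cancel_mono y]
      apply hc.hom_ext
      intro k
      have e1 : (s.π.app i₁ ≫ pullback.fst (y ≫ c.π.app i₁) (y ≫ c.π.app i₁)) ≫ (y ≫ c.π.app k) =
          (s.π.app i₁ ≫ pullback.snd (y ≫ c.π.app i₁) (y ≫ c.π.app i₁)) ≫ (y ≫ c.π.app k) := by
        rw [← hfst k, ← hsnd k, Category.assoc, Category.assoc]
        exact congrArg (fun m => s.π.app k ≫ m)
          (pullback.condition (f := y ≫ c.π.app k) (g := y ≫ c.π.app k))
      simpa only [Category.assoc] using e1
    exact ⟨hfst i, (hsnd i).trans hab.symm⟩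
  exact
    { lift := fun s => s.π.app i₁ ≫ pullback.fst (y ≫ c.π.app i₁) (y ≫ c.π.app i₁)
      fac := fun s i => by
        change (s.π.app i₁ ≫ pullback.fst (y ≫ c.π.app i₁) (y ≫ c.π.app i₁)) ≫
          pullback.diagonal (y ≫ c.π.app i) = s.π.app i
        have h1 : pullback.diagonal (y ≫ c.π.app i) ≫ pullback.fst _ _ = 𝟙 _ :=
          pullback.diagonal_fst _
        have h2 : pullback.diagonal (y ≫ c.π.app i) ≫ pullback.snd _ _ = 𝟙 _ :=
          pullback.diagonal_snd _
        apply pullback.hom_ext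
        · calc ((s.π.app i₁ ≫ pullback.fst (y ≫ c.π.app i₁) (y ≫ c.π.app i₁)) ≫
                pullback.diagonal (y ≫ c.π.app i)) ≫ pullback.fst _ _
              = (s.π.app i₁ ≫ pullback.fst (y ≫ c.π.app i₁) (y ≫ c.π.app i₁)) ≫
                (pullback.diagonal (y ≫ c.π.app i) ≫ pullback.fst _ _) := Category.assoc _ _ _
            _ = s.π.app i₁ ≫ pullback.fst (y ≫ c.π.app i₁) (y ≫ c.π.app i₁) := by
                rw [h1, Category.comp_id]
            _ = s.π.app i ≫ pullback.fst _ _ := (key s i).1.symm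
        · calc ((s.π.app i₁ ≫ pullback.fst (y ≫ c.π.app i₁) (y ≫ c.π.app i₁)) ≫
                pullback.diagonal (y ≫ c.π.app i)) ≫ pullback.snd _ _
              = (s.π.app i₁ ≫ pullback.fst (y ≫ c.π.app i₁) (y ≫ c.π.app i₁)) ≫
                (pullback.diagonal (y ≫ c.π.app i) ≫ pullback.snd _ _) := Category.assoc _ _ _
            _ = s.π.app i₁ ≫ pullback.fst (y ≫ c.π.app i₁) (y ≫ c.π.app i₁) := by
                rw [h2, Category.comp_id]
            _ = s.π.app i ≫ pullback.snd _ _ := (key s i).2.symm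
      uniq := fun s m hm => by
        have aux : ∀ (m' : s.pt ⟶ Y),
            m' ≫ pullback.diagonal (y ≫ c.π.app i₁) = s.π.app i₁ →
              m' = s.π.app i₁ ≫ pullback.fst (y ≫ c.π.app i₁) (y ≫ c.π.app i₁) := by
          intro m' hm1
          calc m' = m' ≫ 𝟙 Y := (Category.comp_id _).symm
            _ = m' ≫ (pullback.diagonal (y ≫ c.π.app i₁) ≫ pullback.fst _ _) := by
                rw [pullback.diagonal_fst]
            _ = (m' ≫ pullback.diagonal (y ≫ c.π.app i₁)) ≫ pullback.fst _ _ :=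
                (Category.assoc _ _ _).symm
            _ = s.π.app i₁ ≫ pullback.fst (y ≫ c.π.app i₁) (y ≫ c.π.app i₁) :=
                congrArg (fun k => k ≫ pullback.fst (y ≫ c.π.app i₁) (y ≫ c.π.app i₁)) hm1
        exact aux m (hm i₁) }

set_option backward.isDefEq.respectTransparency false in
theorem main_mono (B : AlgSp.Space S) (hD : ∀ i, AlgSp.IsAlgSpace (D.obj i))
    (t : D ⟶ (Functor.const I).obj B.obj)
    (hDa : ∀ (i j : I) (φ : i ⟶ j), AlgSp.IsAffineMor (D.map φ)) (hc : IsLimit c)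
    (hqs : ∀ i, AlgSp.IsQuasiSeparatedSp (D.obj i))
    (Y : AlgSp.Space S) (hYqc : AlgSp.IsQuasiCompactSp Y.obj) (y : Y.obj ⟶ c.pt) [Mono y] (i₁ : I)
    (hYB : AlgSp.LocP @LocallyOfFiniteType (y ≫ c.π.app i₁ ≫ t.app i₁)) :
    ∃ i₀ : I, ∀ (i : I) (_ : i ⟶ i₀), Mono (y ≫ c.π.app i) := by
  -- the structure maps to `B` agree
  have hstr : ∀ i, c.π.app i ≫ t.app i = c.π.app i₁ ≫ t.app i₁ := by
    intro i
    have h1 : ∀ {k l : I} (φ : k ⟶ l), c.π.app k ≫ t.app k = c.π.app l ≫ t.app l := by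
      intro k l φ
      have h2 : D.map φ ≫ t.app l = t.app k := by
        have := t.naturality φ
        simpa using this
      rw [← c.w φ, Category.assoc, h2]
    rw [← h1 (IsCofiltered.minToLeft i i₁), h1 (IsCofiltered.minToRight i i₁)]
  have hlft : ∀ i, LocP @LocallyOfFiniteType (y ≫ c.π.app i) := by
    intro i
    let Di : AlgSp.Space S := ⟨D.obj i, hD i⟩
    let f1 : Y ⟶ Di := ObjectProperty.homMk (y ≫ c.π.app i)
    let g1 : Di ⟶ B := ObjectProperty.homMk (t.app i)
    have h1 : AlgSp.LocP @LocallyOfFiniteType (f1 ≫ g1).hom := by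
      show AlgSp.LocP @LocallyOfFiniteType ((y ≫ c.π.app i) ≫ t.app i)
      rw [Category.assoc, hstr i]
      exact hYB
    exact Groth.Agent.S9952.result f1 g1 h1
  have hZalg : ∀ i, IsAlgSpace ((Zsys D c y).obj i) := fun i =>
    Groth.Agent.Helper4.AlgSpPB.isAlgSpace_of_isPullback (hD i).diag Y.property Y.property
      (y ≫ c.π.app i) (y ≫ c.π.app i) _ _ (IsPullback.of_hasPullback _ _)
  have hZc : ∀ (i j : I) (φ : i ⟶ j), RepWith @IsClosedImmersion ((Zsys D c y).map φ) := by
    intro i j φ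
    have hsep : RepWith @IsClosedImmersion (pullback.diagonal (D.map φ)) :=
      isSeparatedMor_of_isAffineMor (hD i) (hD j) (D.map φ) (hDa i j φ)
    have sq := isPullback_map_diagonal' (y ≫ c.π.app i) (y ≫ c.π.app i) (D.map φ)
      (y ≫ c.π.app j) (y ≫ c.π.app j) (by rw [Category.assoc, c.w]) (by rw [Category.assoc, c.w])
    exact (RepWith (S := S) @IsClosedImmersion).of_isPullback sq hsep
  have hZqc : ∀ i, IsQuasiCompactSp ((Zsys D c y).obj i) := fun i =>
    Groth.Agent.Helper4.AlgSpQS.isQuasiCompactMor_of_qc_qs (y ≫ c.π.app i) hYqc (hqs i)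
      Y.property hYqc (y ≫ c.π.app i) _ _ (IsPullback.of_hasPullback _ _)
  have hZft : ∀ i, LocP @LocallyOfFiniteType ((Zt D c y).app i) := fun i =>
    Groth.Agent.Helper4.AlgSpLocPBC.locP_of_isPullback @LocallyOfFiniteType
      Groth.Agent.Helper4.SDClasses.good_lft.etale_le Groth.Agent.Helper4.SDClasses.good_lft.sd
      Y.property (hD i) (y ≫ c.π.app i) (y ≫ c.π.app i) (pullback.snd _ _) (pullback.fst _ _)
      (IsPullback.of_hasPullback _ _).flip (hlft i)
  have hX : LocP @LocallyOfFinitePresentation ((Zcone D c y).π.app i₁ ≫ (Zt D c y).app i₁) := by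
    have : (Zcone D c y).π.app i₁ ≫ (Zt D c y).app i₁ = 𝟙 Y.obj :=
      pullback.diagonal_fst (y ≫ c.π.app i₁)
    rw [this]
    exact Groth.Agent.Helper4.SN488.locP_lfp_id _
  obtain ⟨i₀, h⟩ := Groth.Agent.S10011.result S Y (Zsys D c y) hZalg (Zt D c y) hZc (Zcone D c y)
    (Zcone_isLimit D c y hc i₁) hZqc hZft i₁ hX
  refine ⟨i₀, fun i φ => ?_⟩
  have : IsIso (pullback.diagonal (y ≫ c.π.app i)) := h i φ
  exact (pullback.isIso_diagonal_iff _).1 this

end Groth.Agent.Helper4.SN492
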