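import Groth.Prelude.Def_AlgSpRep
import Groth.Prelude.Def_AlgSp4
import Groth.Agent.Helper4.SN490
import Groth.Agent.Helper4.SN487
import Groth.Agent.Helper4.SN492
import Mathlib

/-!
Descent of `LocP P` with a general finiteness hypothesis `T` on `f₀`; re-basing the descent data to
a later stage; quasi-compactness and quasi-separatedness over affine morphisms.
-/

set_option autoImplicit false
universe u v₁ u₁
open CategoryTheory CategoryTheory.Limits AlgebraicGeometry Opposite MorphismProperty Topology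

namespace Groth.Agent.Helper4.SN493

section general

variable {C : Type u₁} [Category.{v₁} C]

/-- A model of the base change of `f₀` along `r ≫ g` is a model of the base change of `f₁` along
`r`, where `f₁` is a model of the base change of `f₀` along `g`. -/
theorem rebase {X₀ Y₀ B₀ B₁ X₁ Y₁ B' X' Y' : C} (f₀ : X₀ ⟶ Y₀) (b₀ : Y₀ ⟶ B₀) (g : B₁ ⟶ B₀)
    (pY₁ : Y₁ ⟶ Y₀) (b₁ : Y₁ ⟶ B₁) (sqY₁ : IsPullback pY₁ b₁ b₀ g)
    (pX₁ : X₁ ⟶ X₀) (f₁ : X₁ ⟶ Y₁) (sqX₁ : IsPullback pX₁ f₁ f₀ pY₁)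
    (r : B' ⟶ B₁) (r₀ : B' ⟶ B₀) (hr : r ≫ g = r₀)
    (f' : X' ⟶ Y') (pY : Y' ⟶ Y₀) (qY : Y' ⟶ B') (sqY : IsPullback pY qY b₀ r₀)
    (pX : X' ⟶ X₀) (sqX : IsPullback pX f' f₀ pY) :
    ∃ (pY' : Y' ⟶ Y₁) (pX' : X' ⟶ X₁), IsPullback pY' qY b₁ r ∧ IsPullback pX' f' f₁ pY' := by
  subst hr
  have ht : pY ≫ b₀ = (qY ≫ r) ≫ g := by rw [sqY.w, Category.assoc]
  let t := sqY₁.lift pY (qY ≫ r) ht
  have ht1 : t ≫ pY₁ = pY := sqY₁.lift_fst _ _ _
  have ht2 : t ≫ b₁ = qY ≫ r := sqY₁.lift_snd _ _ _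
  have sqt : IsPullback t qY b₁ r := by
    refine IsPullback.of_right ?_ ht2 sqY₁
    rw [ht1]
    exact sqY
  have hs : pX ≫ f₀ = (f' ≫ t) ≫ pY₁ := by rw [Category.assoc, ht1, sqX.w]
  let s := sqX₁.lift pX (f' ≫ t) hs
  have hs1 : s ≫ pX₁ = pX := sqX₁.lift_fst _ _ _
  have hs2 : s ≫ f₁ = f' ≫ t := sqX₁.lift_snd _ _ _
  have sqs : IsPullback s f' f₁ t := by
    refine IsPullback.of_right ?_ hs2 sqX₁
    rw [hs1, ht1]
    exact sqX
  exact ⟨t, s, sqt, sqs⟩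

end general

open AlgSp Groth.Agent.Helper4.SN471 Groth.Agent.Helper4.SN473 Groth.Agent.Helper4.SN477

variable {S : Scheme.{u}}

/-- The source of an affine morphism to a quasi-compact sheaf is quasi-compact. -/
theorem isQuasiCompactSp_of_isAffineMor {F G : Sp S} (g : F ⟶ G) (hg : IsAffineMor g)
    (hG : IsQuasiCompactSp G) : IsQuasiCompactSp F := by
  obtain ⟨V, p, hpe, hps, hVc⟩ := hG
  haveI : CompactSpace V.left := hVc
  have hrep := Groth.Agent.Helper5.AffDesc.representable_of_isAffineMor hg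
  have sq := hrep.isPullback p
  haveI haff : IsAffineHom (hrep.snd p).left :=
    (Groth.Agent.Helper4.SN471.repWith_isAffineHom_of_isAffineMor g hg).property _ _ _ sq
  refine ⟨hrep.pullback p, hrep.fst p,
    (RepWith (S := S) @Etale).of_isPullback sq.flip hpe,
    (RepWith (S := S) @Surjective).of_isPullback sq.flip hps, ?_⟩
  exact QuasiCompact.compactSpace_of_compactSpace (hrep.snd p).left

/-- The source of an affine morphism of algebraic spaces to a quasi-separated one is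
quasi-separated. -/
theorem isQuasiSeparatedSp_of_isAffineMor {F G : Sp S} (hF : IsAlgSpace F) (hG : IsAlgSpace G)
    (g : F ⟶ G) (hg : IsAffineMor g) (hGqs : IsQuasiSeparatedSp G) : IsQuasiSeparatedSp F := by
  rw [Groth.Agent.Helper4.SN487.qs_diag_iff] at hGqs ⊢
  have hsep : RepWith @IsClosedImmersion (pullback.diagonal g) :=
    Groth.Agent.Helper4.SN492.isSeparatedMor_of_isAffineMor hF hG g hg
  have hg' : (RepWith (S := S) @QuasiCompact).diagonal g :=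
    Groth.Agent.Helper4.AlgSpSrc.repWith_mono (fun k hk => by
      haveI : IsClosedImmersion k := hk
      infer_instance) hsep
  have e : terminal.from F = g ≫ terminal.from G := Subsingleton.elim _ _
  rw [e]
  exact MorphismProperty.comp_mem _ _ _ hg' hGqs

set_option backward.isDefEq.respectTransparency false in
/-- Descent of `LocP P`, with hypothesis `LocP T` on `f₀`. -/
theorem main_T (T P : MorphismProperty Scheme.{u}) (hG : Groth.Agent.Helper4.SDClasses.Good P)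
    (hPd : Groth.Agent.Helper4.SN490.SchDescendsT T P)
    [QuasiSeparatedSpace S] {I : Type u} [SmallCategory I] [IsCofiltered I]
    (D : I ⥤ AlgSp.Sp S)
    (hDa : ∀ (i j : I) (φ : i ⟶ j), AlgSp.IsAffineMor (D.map φ))
    (c : Cone D) (hc : IsLimit c) (i₀ : I)
    (X₀ Y₀ : AlgSp.Space S) (f₀ : X₀.obj ⟶ Y₀.obj) (b₀ : Y₀.obj ⟶ D.obj i₀)
    (hXqc : AlgSp.IsQuasiCompactSp X₀.obj)
    (hYqc : AlgSp.IsQuasiCompactSp Y₀.obj) (hYqs : AlgSp.IsQuasiSeparatedSp Y₀.obj)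
    (X Y : AlgSp.Sp S) (f : X ⟶ Y) (pY : Y ⟶ Y₀.obj) (qY : Y ⟶ c.pt)
    (hY : IsPullback pY qY b₀ (c.π.app i₀)) (pX : X ⟶ X₀.obj) (hX : IsPullback pX f f₀ pY)
    (hf : AlgSp.LocP P f) (hf₀ : AlgSp.LocP T f₀) :
    ∃ (i : I) (φ : i ⟶ i₀), ∀ (Xi Yi : AlgSp.Sp S) (fi : Xi ⟶ Yi) (pYi : Yi ⟶ Y₀.obj)
      (qYi : Yi ⟶ D.obj i)
      (_ : IsPullback pYi qYi b₀ (D.map φ)) (pXi : Xi ⟶ X₀.obj) (_ : IsPullback pXi fi f₀ pYi),
      AlgSp.LocP P fi := by
  haveI := hG.bc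
  obtain ⟨V₀, β, hβe, hβs, hV₀aff⟩ := Groth.Agent.Helper4.AlgSpQC.exists_affine_chart hYqc
  haveI : IsAffine V₀.left := hV₀aff
  have hqcm : IsQuasiCompactMor f₀ := by
    let f1 : X₀ ⟶ Y₀ := ObjectProperty.homMk f₀
    exact Groth.Agent.S9920.result f1 hXqc hYqs
  have hX'qc : IsQuasiCompactSp (pullback f₀ β) :=
    hqcm (IsAlgSpace.yon_obj V₀) (Groth.Agent.Helper4.AlgSpQC2.isQuasiCompactSp_yon V₀) β
      (pullback.fst f₀ β) (pullback.snd f₀ β) (IsPullback.of_hasPullback f₀ β)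
  obtain ⟨W₀, ω, hωe, hωs, hW₀aff⟩ := Groth.Agent.Helper4.AlgSpQC.exists_affine_chart hX'qc
  haveI : IsAffine W₀.left := hW₀aff
  have hfst_e : RepWith @Etale (pullback.fst f₀ β) :=
    (RepWith (S := S) @Etale).of_isPullback (IsPullback.of_hasPullback f₀ β).flip hβe
  have hfst_s : RepWith @Surjective (pullback.fst f₀ β) :=
    (RepWith (S := S) @Surjective).of_isPullback (IsPullback.of_hasPullback f₀ β).flip hβs
  have hαe : RepWith @Etale (ω ≫ pullback.fst f₀ β) :=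
    Groth.Agent.Helper4.AlgSpSrc.repWith_comp _ hωe hfst_e
  have hαs : RepWith @Surjective (ω ≫ pullback.fst f₀ β) :=
    Groth.Agent.Helper4.AlgSpSrc.repWith_comp _ hωs hfst_s
  obtain ⟨h₀, hh₀⟩ := (yon S).map_surjective (ω ≫ pullback.snd f₀ β)
  have hαβ : (ω ≫ pullback.fst f₀ β) ≫ f₀ = (yon S).map h₀ ≫ β := by
    rw [hh₀, Category.assoc, Category.assoc, pullback.condition]
  have hT : T h₀.left := hf₀ _ β h₀ hαe hβe hαβ
  obtain ⟨cU, hcU, hcU', p, q, sq, haff, hp, hq⟩ := exists_chart_limit' D hDa c hc i₀ (β ≫ b₀)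
  have sqW : IsPullback (pullback.fst h₀ q) (pullback.snd h₀ q) h₀ q :=
    IsPullback.of_hasPullback _ _
  have hPlim : P (pullback.snd h₀ q).left :=
    Groth.Agent.Helper4.SN483.P_of_locP (c.π.app i₀) f₀ b₀ β _ h₀ hαβ p q sq f pY qY hY pX hX _ _
      sqW P hβe hαe hf
  obtain ⟨j, hPj⟩ := Groth.Agent.Helper4.SN490.exists_stage D hDa i₀ (β ≫ b₀) T P hPd h₀ hT cU hcU'
    q hq hPlim
  have sqWj : IsPullback (pullback.fst h₀ (Usnd D hDa i₀ (β ≫ b₀) j))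
      (pullback.snd h₀ (Usnd D hDa i₀ (β ≫ b₀) j)) h₀ (Usnd D hDa i₀ (β ≫ b₀) j) :=
    IsPullback.of_hasPullback _ _
  refine ⟨j.left, j.hom, fun Xi Yi fi pYi qYi sqYi pXi sqXi => ?_⟩
  exact Groth.Agent.Helper4.SN483.locP_of_P (D.map j.hom) f₀ b₀ β _ h₀ hαβ
    (Ufst D hDa i₀ (β ≫ b₀) j) (Usnd D hDa i₀ (β ≫ b₀) j) (Usq D hDa i₀ (β ≫ b₀) j)
    fi pYi qYi sqYi pXi sqXi _ _ sqWj P hG hβe hαe hαs hPj

end Groth.Agent.Helper4.SN493
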