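import Groth.Prelude.Def_AlgSpRep
import Groth.Prelude.Def_AlgSp4
import Groth.Agent.Helper4.SN493
import Groth.Agent.Helper4.SN491
import Groth.Agent.Helper4.SN489
import Groth.Agent.Helper5.QfSch12
import Groth.Agent.Helper5.AlgSpAff
import Groth.Agent.S9194
import Mathlib

/-!
Descending an affine-type property `P ≤ lqf ⊓ lft ⊓ separated` (closed immersions, finite morphisms)
of the base change of a morphism of algebraic spaces locally of finite type along a cofiltered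
limit with affine transition maps: the base change is eventually separated and locally
quasi-finite, hence representable, and then the representable case applies.
-/

set_option autoImplicit false
universe u
open CategoryTheory CategoryTheory.Limits AlgebraicGeometry Opposite MorphismProperty Topology

namespace Groth.Agent.Helper4.SN494

open AlgSp Groth.Agent.Helper4.SN471 Groth.Agent.Helper4.SN473 Groth.Agent.Helper4.SN477
  Groth.Agent.Helper4.SN483

variable {S : Scheme.{u}}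

theorem isSeparatedMor_of_isPullback {A B A' B' : Sp S} (f : A ⟶ B) (g : B' ⟶ B)
    (fst : A' ⟶ A) (f' : A' ⟶ B') (sq : IsPullback fst f' f g) (hf : IsSeparatedMor f) :
    IsSeparatedMor f' :=
  (RepWith (S := S) @IsClosedImmersion).of_isPullback
    (Groth.Agent.Helper4.SN487.isPullback_diagonal f f' fst g sq) hf

/-- A representable morphism of algebraic spaces with separated base changes is separated. -/
theorem isSeparatedMor_of_repWith {F G : Sp S} (hF : IsAlgSpace F) (hG : IsAlgSpace G)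
    (g : F ⟶ G) (hg : RepWith @IsSeparated g) : IsSeparatedMor g := by
  obtain ⟨V, p, hpe, hps⟩ := hG.atlas
  have hrep := hg.rep
  have sq := hrep.isPullback p
  have hsep : IsSeparated (hrep.snd p).left := hg.property _ _ _ sq
  refine (Groth.Agent.Helper5.FpqcDiag.isLocalOnBase_isSeparatedMor
    (fun _ : PUnit.{u + 1} => (yon S).obj V) (fun _ => p) hG (fun _ => IsAlgSpace.yon_obj V)
    (Groth.Agent.Helper4.SN492.isFpqcCover_chart p hpe hps) g hF
    (fun _ => (yon S).obj (hrep.pullback p)) (fun _ => (yon S).map (hrep.snd p))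
    (fun _ => hrep.fst p) (fun _ => IsAlgSpace.yon_obj _) (fun _ => sq)).2 ?_
  intro _
  rw [isSeparatedMor_yon_map_iff]
  exact hsep

set_option backward.isDefEq.respectTransparency false in
/-- Separated locally quasi-finite morphisms of algebraic spaces are representable. -/
theorem representable_of_separated_lqf {X Y : Sp S} (hX : IsAlgSpace X) (hY : IsAlgSpace Y)
    (f : X ⟶ Y) (hqf : LocP (@LocallyQuasiFinite ⊓ @LocallyOfFiniteType) f)
    (hsep : IsSeparatedMor f) : Representable f := by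
  intro T g
  haveI := (Groth.Agent.Helper4.SDClasses.good_lqf.{u}).bc
  haveI := (Groth.Agent.Helper4.SDClasses.good_lqf.{u}).comp
  have sq := IsPullback.of_hasPullback f g
  have hP : IsAlgSpace (pullback f g) :=
    Groth.Agent.Helper4.AlgSpPB.isAlgSpace_of_isPullback hY.diag hX (IsAlgSpace.yon_obj T) f g _ _
      sq
  have hqf' : LocP (@LocallyQuasiFinite ⊓ @LocallyOfFiniteType) (pullback.snd f g) :=
    Groth.Agent.Helper4.AlgSpLocPBC.locP_of_isPullback _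
      Groth.Agent.Helper4.SDClasses.good_lqf.etale_le Groth.Agent.Helper4.SDClasses.good_lqf.sd
      hX hY f g _ _ sq hqf
  have hsep' := isSeparatedMor_of_isPullback f g _ _ sq hsep
  have hrep := Groth.Agent.Helper5.QfSch.isRepresentable_of_separated_lqf hP (pullback.snd f g)
    hqf' hsep'
  obtain ⟨W, ⟨e⟩⟩ := hrep.has_representation
  let ι : (yon S).obj W ≅ pullback f g := isoOfRepresentableBy e
  obtain ⟨w, hw⟩ := (yon S).map_surjective (ι.hom ≫ pullback.snd f g)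
  refine ⟨W, w, ι.hom ≫ pullback.fst f g, ?_⟩
  rw [hw]
  exact IsPullback.of_iso sq ι.symm (Iso.refl _) (Iso.refl _) (Iso.refl _) (by simp) (by simp)
    (by simp) (by simp)

set_option backward.isDefEq.respectTransparency false in
/-- Variant of `SN490.main_rep` for representable separated `f₀`. -/
theorem main_rep' (P : MorphismProperty Scheme.{u}) [P.IsStableUnderBaseChange]
    [IsZariskiLocalAtTarget P] [P.DescendsAlong (@Surjective ⊓ @Flat ⊓ @QuasiCompact)]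
    (hPaff : P ≤ @IsAffineHom)
    (hPd : Groth.Agent.Helper4.SN490.SchDescendsT @LocallyOfFiniteType P)
    [QuasiSeparatedSpace S] {I : Type u} [SmallCategory I] [IsCofiltered I]
    (D : I ⥤ AlgSp.Sp S)
    (hDa : ∀ (i j : I) (φ : i ⟶ j), AlgSp.IsAffineMor (D.map φ))
    (c : Cone D) (hc : IsLimit c) (i₀ : I)
    (X₀ Z₀ : AlgSp.Space S) (f₀ : X₀.obj ⟶ Z₀.obj) (b₀ : Z₀.obj ⟶ D.obj i₀)
    (hXqc : AlgSp.IsQuasiCompactSp X₀.obj)
    (hZqc : AlgSp.IsQuasiCompactSp Z₀.obj) (hZqs : AlgSp.IsQuasiSeparatedSp Z₀.obj)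
    (hf₀lft : RepWith @LocallyOfFiniteType f₀)
    (hf₀sep : RepWith @IsSeparated f₀)
    (X Z : AlgSp.Sp S) (f : X ⟶ Z) (pZ : Z ⟶ Z₀.obj) (qZ : Z ⟶ c.pt)
    (hZ : IsPullback pZ qZ b₀ (c.π.app i₀)) (pX : X ⟶ X₀.obj) (hX : IsPullback pX f f₀ pZ)
    (hf : RepWith P f) :
    ∃ (i : I) (φ : i ⟶ i₀), ∀ (Xi Zi : AlgSp.Sp S) (fi : Xi ⟶ Zi) (pZi : Zi ⟶ Z₀.obj)
      (qZi : Zi ⟶ D.obj i)
      (_ : IsPullback pZi qZi b₀ (D.map φ)) (pXi : Xi ⟶ X₀.obj) (_ : IsPullback pXi fi f₀ pZi),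
      RepWith P fi := by
  obtain ⟨V₀, β, hβe, hβs, hV₀aff⟩ := Groth.Agent.Helper4.AlgSpQC.exists_affine_chart hZqc
  haveI : IsAffine V₀.left := hV₀aff
  have sq₀ := hf₀lft.rep.isPullback β
  haveI hlft : LocallyOfFiniteType (hf₀lft.rep.snd β).left := hf₀lft.property _ _ _ sq₀
  haveI hsep : IsSeparated (hf₀lft.rep.snd β).left := hf₀sep.property _ _ _ sq₀
  generalize hf₀lft.rep.snd β = h₀ at sq₀ hlft hsep
  generalize hf₀lft.rep.fst β = α at sq₀
  generalize hf₀lft.rep.pullback β = W₀ at α h₀ sq₀ hlft hsep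
  have hqcm : IsQuasiCompactMor f₀ := by
    let f1 : X₀ ⟶ Z₀ := ObjectProperty.homMk f₀
    exact Groth.Agent.S9920.result f1 hXqc hZqs
  have hW₀qc : IsQuasiCompactSp ((yon S).obj W₀) :=
    hqcm (IsAlgSpace.yon_obj V₀) (Groth.Agent.Helper4.AlgSpQC2.isQuasiCompactSp_yon V₀) β
      α ((yon S).map h₀) sq₀
  haveI : CompactSpace W₀.left := by
    haveI := Groth.Agent.Helper4.AlgSpQC2.compactSpace_points_of_isQuasiCompactSp hW₀qc
    exact (Points.schemeHomeo W₀).symm.compactSpace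
  haveI : QuasiSeparatedSpace W₀.left := by
    haveI : QuasiSeparated h₀.left := inferInstance
    exact quasiSeparatedSpace_of_quasiSeparated h₀.left
  obtain ⟨cU, hcU, hcU', p, q, sq, haff, hp, hq⟩ := exists_chart_limit' D hDa c hc i₀ (β ≫ b₀)
  have sqW : IsPullback (pullback.fst h₀ q) (pullback.snd h₀ q) h₀ q :=
    IsPullback.of_hasPullback _ _
  have hPlim : P (pullback.snd h₀ q).left :=
    hf.property _ _ _ (Groth.Agent.Helper4.SN490.isPullback_aChart_f' (c.π.app i₀) f₀ b₀ β α h₀ sq₀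
      p q sq f pZ qZ hZ pX hX _ _ sqW)
  obtain ⟨j, hPj⟩ := Groth.Agent.Helper4.SN490.exists_stage D hDa i₀ (β ≫ b₀)
    @LocallyOfFiniteType P hPd h₀ hlft cU hcU' q hq hPlim
  refine ⟨j.left, j.hom, fun Xi Zi fi pZi qZi sqZi pXi sqXi => ?_⟩
  have sqWj : IsPullback (pullback.fst h₀ (Usnd D hDa i₀ (β ≫ b₀) j))
      (pullback.snd h₀ (Usnd D hDa i₀ (β ≫ b₀) j)) h₀ (Usnd D hDa i₀ (β ≫ b₀) j) :=
    IsPullback.of_hasPullback _ _
  have hsq := Groth.Agent.Helper4.SN490.isPullback_aChart_f' (D.map j.hom) f₀ b₀ β α h₀ sq₀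
    (Ufst D hDa i₀ (β ≫ b₀) j) (Usnd D hDa i₀ (β ≫ b₀) j) (Usq D hDa i₀ (β ≫ b₀) j)
    fi pZi qZi sqZi pXi sqXi _ _ sqWj
  have hbe : RepWith @Etale (bChart (D.map j.hom) b₀ β (Ufst D hDa i₀ (β ≫ b₀) j)
      (Usnd D hDa i₀ (β ≫ b₀) j) (Usq D hDa i₀ (β ≫ b₀) j) pZi qZi sqZi) :=
    (RepWith (S := S) @Etale).of_isPullback
      (isPullback_bChart (D.map j.hom) b₀ β _ _ (Usq D hDa i₀ (β ≫ b₀) j) pZi qZi sqZi).flip hβe
  have hbs : RepWith @Surjective (bChart (D.map j.hom) b₀ β (Ufst D hDa i₀ (β ≫ b₀) j)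
      (Usnd D hDa i₀ (β ≫ b₀) j) (Usq D hDa i₀ (β ≫ b₀) j) pZi qZi sqZi) :=
    (RepWith (S := S) @Surjective).of_isPullback
      (isPullback_bChart (D.map j.hom) b₀ β _ _ (Usq D hDa i₀ (β ≫ b₀) j) pZi qZi sqZi).flip hβs
  exact Groth.Agent.Helper5.AffDesc.repWith_of_etale_chart P hPaff fi _ _ hbe hbs _ _ hsq
    ((repWith_yon_map_iff P _).2 hPj)

/-- Scheme-level descent of `lqf ⊓ lft`. -/
theorem schDescends_lqf : Groth.Agent.Helper4.SN490.SchDescendsT @LocallyOfFiniteType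
    (@LocallyQuasiFinite ⊓ @LocallyOfFiniteType) := by
  intro I' _ _ D' c' hc' _ i₀' _ _ X₀' Y₀' f₀' g₀' _ _ _ _ X' Y' f' g' qY' qX' hY' hX' hT hf'
  haveI : LocallyOfFiniteType f₀' := hT
  haveI : LocallyQuasiFinite f' := hf'.1
  obtain ⟨i, φ, Xi, Yi, fi, gi, pY, pX, h1, h2, h3⟩ :=
    Groth.Agent.S9194.result D' c' hc' i₀' f₀' g₀' f' g' qY' qX' hY' hX'
  refine ⟨i, φ, Xi, Yi, fi, gi, pY, pX, h1, h2, h3, ?_⟩
  exact MorphismProperty.of_isPullback (P := @LocallyOfFiniteType) h2 hT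

set_option backward.isDefEq.respectTransparency false in
/-- Descent of `RepWith P` for affine-type `P` implying locally quasi-finite, locally of finite
type and separated. -/
theorem main_rep2 (P : MorphismProperty Scheme.{u}) [P.IsStableUnderBaseChange]
    [IsZariskiLocalAtTarget P] [P.DescendsAlong (@Surjective ⊓ @Flat ⊓ @QuasiCompact)]
    (hPaff : P ≤ @IsAffineHom)
    (hPlqf : ∀ {A B : Scheme.{u}} (g : A ⟶ B), P g → LocallyQuasiFinite g)
    (hPlft : ∀ {A B : Scheme.{u}} (g : A ⟶ B), P g → LocallyOfFiniteType g)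
    (hPsep : ∀ {A B : Scheme.{u}} (g : A ⟶ B), P g → IsSeparated g)
    (hPd : Groth.Agent.Helper4.SN490.SchDescendsT @LocallyOfFiniteType P)
    [QuasiSeparatedSpace S] {I : Type u} [SmallCategory I] [IsCofiltered I]
    (D : I ⥤ AlgSp.Sp S) (hD : ∀ i, AlgSp.IsAlgSpace (D.obj i))
    (hDa : ∀ (i j : I) (φ : i ⟶ j), AlgSp.IsAffineMor (D.map φ))
    (c : Cone D) (hc : IsLimit c) (i₀ : I)
    (X₀ Y₀ : AlgSp.Space S) (f₀ : X₀.obj ⟶ Y₀.obj) (b₀ : Y₀.obj ⟶ D.obj i₀)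
    (hXqc : AlgSp.IsQuasiCompactSp X₀.obj) (hXqs : AlgSp.IsQuasiSeparatedSp X₀.obj)
    (hYqc : AlgSp.IsQuasiCompactSp Y₀.obj) (hYqs : AlgSp.IsQuasiSeparatedSp Y₀.obj)
    (X Y : AlgSp.Sp S) (f : X ⟶ Y) (pY : Y ⟶ Y₀.obj) (qY : Y ⟶ c.pt)
    (hY : IsPullback pY qY b₀ (c.π.app i₀)) (pX : X ⟶ X₀.obj) (hX : IsPullback pX f f₀ pY)
    (hf : RepWith P f) (hf₀ : AlgSp.LocP @LocallyOfFiniteType f₀) :
    ∃ (i : I) (φ : i ⟶ i₀), ∀ (Xi Yi : AlgSp.Sp S) (fi : Xi ⟶ Yi) (pYi : Yi ⟶ Y₀.obj)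
      (qYi : Yi ⟶ D.obj i)
      (_ : IsPullback pYi qYi b₀ (D.map φ)) (pXi : Xi ⟶ X₀.obj) (_ : IsPullback pXi fi f₀ pYi),
      RepWith P fi := by
  haveI := (Groth.Agent.Helper4.SDClasses.good_lqf.{u}).bc
  haveI := (Groth.Agent.Helper4.SDClasses.good_lqf.{u}).comp
  have hcalg : IsAlgSpace c.pt := Groth.Agent.Helper4.SN472.isAlgSpace_pt D hDa c hc hD
  have hYalg : IsAlgSpace Y :=
    Groth.Agent.Helper4.AlgSpPB.isAlgSpace_of_isPullback (hD i₀).diag Y₀.property hcalg b₀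
      (c.π.app i₀) pY qY hY
  have hXalg : IsAlgSpace X :=
    Groth.Agent.Helper4.AlgSpPB.isAlgSpace_of_isPullback Y₀.property.diag X₀.property hYalg f₀
      pY pX f hX
  -- `f` is locally quasi-finite and separated
  have hfqf : LocP (@LocallyQuasiFinite ⊓ @LocallyOfFiniteType) f :=
    Groth.Agent.Helper4.AlgSpLocP.locP_of_repWith (@LocallyQuasiFinite ⊓ @LocallyOfFiniteType) P
      (fun g hg => ⟨hPlqf g hg, hPlft g hg⟩)
      Groth.Agent.Helper4.SDClasses.good_lqf.etale_le f hf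
  have hfsep : IsSeparatedMor f :=
    isSeparatedMor_of_repWith hXalg hYalg f
      (Groth.Agent.Helper4.AlgSpSrc.repWith_mono (fun g hg => hPsep g hg) hf)
  -- both descend
  obtain ⟨i₁, φ₁, h₁⟩ := Groth.Agent.Helper4.SN493.main_T @LocallyOfFiniteType
    (@LocallyQuasiFinite ⊓ @LocallyOfFiniteType) Groth.Agent.Helper4.SDClasses.good_lqf
    schDescends_lqf D hDa c hc i₀ X₀ Y₀ f₀ b₀ hXqc hYqc hYqs X Y f pY qY hY pX hX hfqf hf₀
  obtain ⟨i₂, φ₂, h₂⟩ := Groth.Agent.Helper4.SN491.main_sep D hDa c hc i₀ X₀ Y₀ f₀ b₀ hXqc hXqs hYqs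
    X Y f pY qY hY pX hX hfsep
  -- common stage
  let j₁ : Over i₀ := Over.mk φ₁
  let j₂ : Over i₀ := Over.mk φ₂
  let j : Over i₀ := IsCofiltered.min j₁ j₂
  let m₁ : j ⟶ j₁ := IsCofiltered.minToLeft j₁ j₂
  let m₂ : j ⟶ j₂ := IsCofiltered.minToRight j₁ j₂
  have e₁ : j.hom = m₁.left ≫ φ₁ := (Over.w m₁).symm
  have e₂ : j.hom = m₂.left ≫ φ₂ := (Over.w m₂).symm
  -- the model at the common stage
  have sqY₁ : IsPullback (pullback.fst b₀ (D.map j.hom)) (pullback.snd b₀ (D.map j.hom)) b₀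
      (D.map j.hom) := IsPullback.of_hasPullback _ _
  have sqX₁ : IsPullback (pullback.fst f₀ (pullback.fst b₀ (D.map j.hom)))
      (pullback.snd f₀ (pullback.fst b₀ (D.map j.hom))) f₀ (pullback.fst b₀ (D.map j.hom)) :=
    IsPullback.of_hasPullback _ _
  have hY₁alg : IsAlgSpace (pullback b₀ (D.map j.hom)) :=
    Groth.Agent.Helper4.AlgSpPB.isAlgSpace_of_isPullback (hD i₀).diag Y₀.property (hD j.left) b₀
      (D.map j.hom) _ _ sqY₁
  have hX₁alg : IsAlgSpace (pullback f₀ (pullback.fst b₀ (D.map j.hom))) :=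
    Groth.Agent.Helper4.AlgSpPB.isAlgSpace_of_isPullback Y₀.property.diag X₀.property hY₁alg f₀
      _ _ _ sqX₁
  have hqf₁ : LocP (@LocallyQuasiFinite ⊓ @LocallyOfFiniteType)
      (pullback.snd f₀ (pullback.fst b₀ (D.map j.hom))) :=
    Groth.Agent.Helper4.SN489.stage_mono (LocP (@LocallyQuasiFinite ⊓ @LocallyOfFiniteType))
      (fun {A B A' B'} hA hB f g fst f' sq hf =>
        Groth.Agent.Helper4.AlgSpLocPBC.locP_of_isPullback _
          Groth.Agent.Helper4.SDClasses.good_lqf.etale_le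
          Groth.Agent.Helper4.SDClasses.good_lqf.sd hA hB f g fst f' sq hf)
      D hD φ₁ m₁.left j.hom e₁ X₀.property Y₀.property f₀ b₀ h₁ _ _ _ _ _ sqY₁ _ sqX₁
  have hsep₁ : IsSeparatedMor (pullback.snd f₀ (pullback.fst b₀ (D.map j.hom))) :=
    Groth.Agent.Helper4.SN489.stage_mono IsSeparatedMor
      (fun {A B A' B'} _ _ f g fst f' sq hf => isSeparatedMor_of_isPullback f g fst f' sq hf)
      D hD φ₂ m₂.left j.hom e₂ X₀.property Y₀.property f₀ b₀ h₂ _ _ _ _ _ sqY₁ _ sqX₁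
  -- quasi-compactness and quasi-separatedness of the model
  have hpY₁aff : IsAffineMor (pullback.fst b₀ (D.map j.hom)) :=
    Groth.Agent.Helper5.AlgSpAff.isAffineMor_of_isPullback sqY₁.flip (hDa _ _ j.hom)
  have hpX₁aff : IsAffineMor (pullback.fst f₀ (pullback.fst b₀ (D.map j.hom))) :=
    Groth.Agent.Helper5.AlgSpAff.isAffineMor_of_isPullback sqX₁.flip hpY₁aff
  have hY₁qc : IsQuasiCompactSp (pullback b₀ (D.map j.hom)) :=
    Groth.Agent.Helper4.SN493.isQuasiCompactSp_of_isAffineMor _ hpY₁aff hYqc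
  have hY₁qs : IsQuasiSeparatedSp (pullback b₀ (D.map j.hom)) :=
    Groth.Agent.Helper4.SN493.isQuasiSeparatedSp_of_isAffineMor hY₁alg Y₀.property _ hpY₁aff hYqs
  have hX₁qc : IsQuasiCompactSp (pullback f₀ (pullback.fst b₀ (D.map j.hom))) :=
    Groth.Agent.Helper4.SN493.isQuasiCompactSp_of_isAffineMor _ hpX₁aff hXqc
  -- the model is representable, locally of finite type and separated
  have hrep₁ : Representable (pullback.snd f₀ (pullback.fst b₀ (D.map j.hom))) :=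
    representable_of_separated_lqf hX₁alg hY₁alg _ hqf₁ hsep₁
  have hlft₁ : RepWith @LocallyOfFiniteType (pullback.snd f₀ (pullback.fst b₀ (D.map j.hom))) := by
    refine ⟨hrep₁, ?_⟩
    intro T E g ξ e sq
    have h3 : LocP (@LocallyQuasiFinite ⊓ @LocallyOfFiniteType) ((yon S).map e) :=
      Groth.Agent.Helper4.AlgSpLocPBC.locP_of_isPullback _
        Groth.Agent.Helper4.SDClasses.good_lqf.etale_le
        Groth.Agent.Helper4.SDClasses.good_lqf.sd hX₁alg hY₁alg _ g ξ _ sq hqf₁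
    exact (locP_yon_map h3).2
  have hsepr₁ : RepWith @IsSeparated (pullback.snd f₀ (pullback.fst b₀ (D.map j.hom))) := by
    refine ⟨hrep₁, ?_⟩
    intro T E g ξ e sq
    have h3 : IsSeparatedMor ((yon S).map e) := isSeparatedMor_of_isPullback _ g ξ _ sq hsep₁
    exact (isSeparatedMor_yon_map_iff e).1 h3
  -- the limit is a model over the common stage
  obtain ⟨pY', pX', hY', hX'⟩ := Groth.Agent.Helper4.SN493.rebase f₀ b₀ (D.map j.hom) _ _ sqY₁ _ _
    sqX₁ (c.π.app j.left) (c.π.app i₀) (c.w j.hom) f pY qY hY pX hX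
  let X₁ : AlgSp.Space S := ⟨pullback f₀ (pullback.fst b₀ (D.map j.hom)), hX₁alg⟩
  let Y₁ : AlgSp.Space S := ⟨pullback b₀ (D.map j.hom), hY₁alg⟩
  obtain ⟨i, ψ, h⟩ := main_rep' P hPaff hPd D hDa c hc j.left X₁ Y₁
    (pullback.snd f₀ (pullback.fst b₀ (D.map j.hom))) (pullback.snd b₀ (D.map j.hom))
    hX₁qc hY₁qc hY₁qs hlft₁ hsepr₁ X Y f pY' qY hY' pX' hX' hf
  refine ⟨i, ψ ≫ j.hom, fun Xi Yi fi pYi qYi sqYi pXi sqXi => ?_⟩
  obtain ⟨pYi', pXi', hYi', hXi'⟩ := Groth.Agent.Helper4.SN493.rebase f₀ b₀ (D.map j.hom) _ _ sqY₁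
    _ _ sqX₁ (D.map ψ) (D.map (ψ ≫ j.hom)) (D.map_comp ψ j.hom).symm fi pYi qYi sqYi pXi sqXi
  exact h Xi Yi fi pYi' qYi hYi' pXi' hXi'

end Groth.Agent.Helper4.SN494
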