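import Groth.Prelude.Def_AlgSpRep
import Groth.Prelude.Def_AlgSp4
import Groth.Agent.S9208
import Mathlib

/-!
A morphism of algebraic spaces is locally of finite presentation if the colimit comparison map is
surjective (S10031).
-/

set_option autoImplicit false
universe u
open CategoryTheory CategoryTheory.Limits AlgebraicGeometry Opposite MorphismProperty

namespace Groth.Agent.Helper4.SN495

open AlgSp

variable {S : Scheme.{u}}

set_option backward.isDefEq.respectTransparency false in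
/-- The étale scheme `W = U ×_{X ×_Y V} T'` over `T'`. -/
theorem exists_lift_chart {X Y : Sp S} (f : X ⟶ Y) {U V : Over S} (a : (yon S).obj U ⟶ X)
    (b : (yon S).obj V ⟶ Y) (h : U ⟶ V) (ha : RepWith @Etale a) (hb : RepWith @Etale b)
    (comm : a ≫ f = (yon S).map h ≫ b) {T' : Over S} (x' : (yon S).obj T' ⟶ X) (v' : T' ⟶ V)
    (hx' : x' ≫ f = (yon S).map v' ≫ b) :
    ∃ (W : Over S) (w₁ : W ⟶ U) (w₂ : W ⟶ T'), Etale w₂.left ∧
      (yon S).map w₁ ≫ a = (yon S).map w₂ ≫ x' ∧ w₁ ≫ h = w₂ ≫ v' ∧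
      ∀ (T : Over S) (g : T ⟶ U) (π : T ⟶ T'), (yon S).map g ≫ a = (yon S).map π ≫ x' →
        g ≫ h = π ≫ v' → ∃ s : T ⟶ W, s ≫ w₁ = g ∧ s ≫ w₂ = π := by
  have ha' := ha.rep
  have hb' := hb.rep
  let W₁ := ha'.pullback x'
  let u₁ : W₁ ⟶ U := ha'.fst' x'
  let p₁ : W₁ ⟶ T' := ha'.snd x'
  have sq₁ : IsPullback ((yon S).map u₁) ((yon S).map p₁) a x' := ha'.isPullback' x'
  have hp₁ : Etale p₁.left := ha.property x' _ _ sq₁
  let V₁ := hb'.pullback (x' ≫ f)
  let r₁ : V₁ ⟶ V := hb'.fst' (x' ≫ f)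
  let p₂ : V₁ ⟶ T' := hb'.snd (x' ≫ f)
  have sq₂ : IsPullback ((yon S).map r₁) ((yon S).map p₂) b (x' ≫ f) := hb'.isPullback' (x' ≫ f)
  have hp₂ : Etale p₂.left := hb.property (x' ≫ f) _ _ sq₂
  have hk : (yon S).map (u₁ ≫ h) ≫ b = (yon S).map p₁ ≫ (x' ≫ f) := by
    rw [Functor.map_comp, Category.assoc, ← comm, ← Category.assoc, sq₁.w, Category.assoc]
  let k : W₁ ⟶ V₁ := hb'.lift' (u₁ ≫ h) p₁ hk
  have hk1 : k ≫ r₁ = u₁ ≫ h := hb'.lift'_fst _ _ _
  have hk2 : k ≫ p₂ = p₁ := hb'.lift'_snd _ _ _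
  have hσ : (yon S).map v' ≫ b = (yon S).map (𝟙 T') ≫ (x' ≫ f) := by
    rw [CategoryTheory.Functor.map_id, Category.id_comp, hx']
  let σ : T' ⟶ V₁ := hb'.lift' v' (𝟙 T') hσ
  have hσ1 : σ ≫ r₁ = v' := hb'.lift'_fst _ _ _
  have hσ2 : σ ≫ p₂ = 𝟙 T' := hb'.lift'_snd _ _ _
  have hket : Etale k.left := by
    refine MorphismProperty.of_postcomp (W := @Etale) (W' := @Etale) k.left p₂.left hp₂ ?_
    have : k.left ≫ p₂.left = p₁.left := by rw [← Over.comp_left, hk2]
    rw [this]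
    exact hp₁
  let W : Over S := pullback k σ
  let w₀ : W ⟶ W₁ := pullback.fst k σ
  let w₂ : W ⟶ T' := pullback.snd k σ
  have sqW : IsPullback w₀ w₂ k σ := IsPullback.of_hasPullback k σ
  have hw₂ : Etale w₂.left := by
    have h1 : IsPullback w₀.left w₂.left k.left σ.left := sqW.map (Over.forget S)
    exact MorphismProperty.of_isPullback h1 hket
  have hw02 : w₀ ≫ p₁ = w₂ := by
    rw [← hk2, ← Category.assoc, sqW.w, Category.assoc, hσ2, Category.comp_id]
  refine ⟨W, w₀ ≫ u₁, w₂, hw₂, ?_, ?_, ?_⟩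
  · rw [Functor.map_comp, Category.assoc, sq₁.w, ← Category.assoc, ← Functor.map_comp, hw02]
  · rw [Category.assoc, ← hk1, ← Category.assoc, sqW.w, Category.assoc, hσ1]
  · intro T g π h1 h2
    let s₁ : T ⟶ W₁ := ha'.lift' g π h1
    have hs1 : s₁ ≫ u₁ = g := ha'.lift'_fst _ _ _
    have hs2 : s₁ ≫ p₁ = π := ha'.lift'_snd _ _ _
    have hcond : s₁ ≫ k = π ≫ σ := by
      apply hb'.hom_ext'
      · show (s₁ ≫ k) ≫ r₁ = (π ≫ σ) ≫ r₁
        rw [Category.assoc, hk1, ← Category.assoc, hs1, Category.assoc, hσ1, h2]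
      · show (s₁ ≫ k) ≫ p₂ = (π ≫ σ) ≫ p₂
        rw [Category.assoc, hk2, hs2, Category.assoc, hσ2, Category.comp_id]
    refine ⟨pullback.lift s₁ π hcond, ?_, ?_⟩
    · rw [← Category.assoc]
      show (pullback.lift s₁ π hcond ≫ pullback.fst k σ) ≫ u₁ = g
      rw [pullback.lift_fst, hs1]
    · exact pullback.lift_snd _ _ _

set_option backward.isDefEq.respectTransparency false in
theorem main (S : Scheme.{u}) {X Y : AlgSp.Space S} (f : X ⟶ Y)
    (h : ∀ ⦃I : Type u⦄ [SmallCategory I] [IsCofiltered I] (D : I ⥤ Over S) (c : Cone D),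
      IsLimit ((Over.forget S).mapCone c) → (∀ i, IsAffine (D.obj i).left) → IsAffine c.pt.left →
      ∀ (x : (AlgSp.yon S).obj c.pt ⟶ X.obj) (i : I) (y : (AlgSp.yon S).obj (D.obj i) ⟶ Y.obj),
        x ≫ f.hom = (AlgSp.yon S).map (c.π.app i) ≫ y →
        ∃ (i' : I) (φ : i' ⟶ i) (x' : (AlgSp.yon S).obj (D.obj i') ⟶ X.obj),
          (AlgSp.yon S).map (c.π.app i') ≫ x' = x ∧ x' ≫ f.hom = (AlgSp.yon S).map (D.map φ) ≫ y) :
    AlgSp.LocP @LocallyOfFinitePresentation f.hom := by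
  intro U V a b hm ha hb comm
  apply Groth.Agent.S9208.result hm.left
  intro J _ _ _ D t c hc haff j₀ g hg
  -- the structure map to S
  let s : D ⟶ (Functor.const Jᵒᵖ).obj S := t ≫ (Functor.const Jᵒᵖ).map V.hom
  have hindep : ∀ j j' : Jᵒᵖ, c.π.app j ≫ t.app j = c.π.app j' ≫ t.app j' := by
    intro j j'
    have key : ∀ (k j : Jᵒᵖ) (φ : k ⟶ j), c.π.app j ≫ t.app j = c.π.app k ≫ t.app k := by
      intro k j φ
      have h1 := t.naturality φ
      have h2 := c.w φ
      simp only [Functor.const_obj_obj, Functor.const_obj_map, Category.comp_id] at h1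
      rw [← h2, Category.assoc, h1]
    rw [key _ _ (IsCofiltered.minToLeft j j'), key _ _ (IsCofiltered.minToRight j j')]
  let p : c.pt ⟶ S := c.π.app j₀ ≫ t.app j₀ ≫ V.hom
  have hp : ∀ j, c.π.app j ≫ s.app j = p := by
    intro j
    show c.π.app j ≫ t.app j ≫ V.hom = c.π.app j₀ ≫ t.app j₀ ≫ V.hom
    rw [← Category.assoc, hindep j j₀, Category.assoc]
  let D' : Jᵒᵖ ⥤ Over S := Over.lift D s
  let c' : Cone D' := Over.liftCone D s c p hp
  have hc' : IsLimit ((Over.forget S).mapCone c') := hc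
  haveI : ∀ j, IsAffine (D.obj j) := haff
  have hcaff : IsAffine c.pt := Scheme.isAffine_of_isLimit c hc
  -- the maps to `V`
  let v : ∀ j : Jᵒᵖ, D'.obj j ⟶ V := fun j => Over.homMk (t.app j) rfl
  have hv : ∀ (k j : Jᵒᵖ) (φ : k ⟶ j), D'.map φ ≫ v j = v k := by
    intro k j φ
    ext
    have h1 := t.naturality φ
    simp only [Functor.const_obj_obj, Functor.const_obj_map, Category.comp_id] at h1
    exact h1
  let g' : c'.pt ⟶ U := Over.homMk g (by
    show g ≫ U.hom = c.π.app j₀ ≫ t.app j₀ ≫ V.hom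
    rw [← CategoryTheory.Over.w hm, ← Category.assoc, hg, Category.assoc])
  have hg' : ∀ j, g' ≫ hm = c'.π.app j ≫ v j := by
    intro j
    ext
    show g ≫ hm.left = c.π.app j ≫ t.app j
    rw [hg, hindep j₀ j]
  obtain ⟨i', φ, x', hx'1, hx'2⟩ := h D' c' hc' (fun j => haff j) hcaff
    ((yon S).map g' ≫ a) j₀ ((yon S).map (v j₀) ≫ b) (by
      rw [Category.assoc, comm, ← Category.assoc, ← Functor.map_comp, hg' j₀, Functor.map_comp,
        Category.assoc])
  have hx'3 : x' ≫ f.hom = (yon S).map (v i') ≫ b := by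
    rw [hx'2, ← Category.assoc, ← Functor.map_comp, hv]
  obtain ⟨W, w₁, w₂, hw₂, hw1, hw2, huniv⟩ :=
    exists_lift_chart f.hom a b hm ha hb comm x' (v i') hx'3
  obtain ⟨σ, hσ1, hσ2⟩ := huniv c'.pt g' (c'.π.app i') hx'1.symm (hg' i')
  -- restrict the system to indices over `i'`
  let Dr : Over i' ⥤ Scheme.{u} := Over.forget i' ⋙ D
  let tr : Dr ⟶ (Functor.const (Over i')).obj (D.obj i') :=
    { app := fun k => D.map k.hom
      naturality := fun k k' m => by
        show D.map m.left ≫ D.map k'.hom = D.map k.hom ≫ 𝟙 _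
        rw [Category.comp_id, ← D.map_comp, CategoryTheory.Over.w] }
  let cr : Cone Dr := c.whisker (Over.forget i')
  have hcr : IsLimit cr := (Functor.Initial.isLimitWhiskerEquiv (Over.forget i') c).symm hc
  haveI : LocallyOfFinitePresentation w₂.left := by
    haveI := hw₂
    infer_instance
  have har : cr.π ≫ tr = (Functor.const _).map (σ.left ≫ w₂.left) := by
    ext k
    show c.π.app k.left ≫ D.map k.hom = σ.left ≫ w₂.left
    rw [c.w, ← Over.comp_left, hσ2]
    rfl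
  haveI hDraff : ∀ k : Over i', IsAffine (Dr.obj k) := fun k => haff k.left
  haveI : ∀ {k k' : Over i'} (m : k ⟶ k'), IsAffineHom (Dr.map m) := fun {k k'} m => by
    haveI := hDraff k
    haveI := hDraff k'
    exact isAffineHom_of_isAffine _
  haveI : ∀ k : Over i', CompactSpace (Dr.obj k) := fun k => by
    haveI := hDraff k
    infer_instance
  haveI : ∀ k : Over i', QuasiSeparatedSpace (Dr.obj k) := fun k => by
    haveI := hDraff k
    infer_instance
  obtain ⟨k, gk, hk1, hk2⟩ := Scheme.exists_π_app_comp_eq_of_locallyOfFinitePresentation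
    Dr tr w₂.left cr hcr σ.left har
  refine ⟨k.left, gk ≫ w₁.left, ?_, ?_⟩
  · have h1 : w₁.left ≫ hm.left = w₂.left ≫ t.app i' := by
      have := congrArg (fun m => m.left) hw2
      exact this
    rw [Category.assoc, h1, ← Category.assoc, hk2]
    have h2 := t.naturality k.hom
    simp only [Functor.const_obj_obj, Functor.const_obj_map, Category.comp_id] at h2
    exact h2
  · rw [← Category.assoc]
    have h1 : c.π.app k.left ≫ gk = σ.left := hk1
    rw [h1, ← Over.comp_left, hσ1]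
    rfl

end Groth.Agent.Helper4.SN495
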