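import Mathlib

/-!
Category theory for the diagonal systems attached to a cofiltered system over a fixed base:
for `D : I ⥤ C` over `Y` with limit cone `c`, the systems `i ↦ D i ×_Y D i` and
`i ↦ c.pt ×_{D i} c.pt` and their limits.
-/

set_option autoImplicit false
universe v u w
open CategoryTheory CategoryTheory.Limits

namespace Groth.Agent.Helper4.SN496

variable {C : Type u} [Category.{v} C] [HasPullbacks C]

section Basic

variable {X' X Y : C} (φ : X' ⟶ X) (t : X ⟶ Y) (t' : X' ⟶ Y) (h : φ ≫ t = t')

/-- `X' ×_X X' ⟶ X' ×_Y X'`. -/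
noncomputable def kap : pullback φ φ ⟶ pullback t' t' :=
  pullback.map φ φ t' t' (𝟙 _) (𝟙 _) t (by rw [Category.id_comp, h]) (by rw [Category.id_comp, h])

/-- `X' ×_Y X' ⟶ X ×_Y X`. -/
noncomputable def mu : pullback t' t' ⟶ pullback t t :=
  pullback.map t' t' t t φ φ (𝟙 _) (by rw [Category.comp_id, h]) (by rw [Category.comp_id, h])

@[reassoc (attr := simp)]
theorem kap_fst : kap φ t t' h ≫ pullback.fst t' t' = pullback.fst φ φ :=
  (pullback.lift_fst _ _ _).trans (Category.comp_id _)

@[reassoc (attr := simp)]
theorem kap_snd : kap φ t t' h ≫ pullback.snd t' t' = pullback.snd φ φ :=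
  (pullback.lift_snd _ _ _).trans (Category.comp_id _)

@[reassoc (attr := simp)]
theorem mu_fst : mu φ t t' h ≫ pullback.fst t t = pullback.fst t' t' ≫ φ :=
  pullback.lift_fst _ _ _

@[reassoc (attr := simp)]
theorem mu_snd : mu φ t t' h ≫ pullback.snd t t = pullback.snd t' t' ≫ φ :=
  pullback.lift_snd _ _ _

theorem isPullback_kap :
    IsPullback (pullback.fst φ φ ≫ φ) (kap φ t t' h) (pullback.diagonal t) (mu φ t t' h) := by
  subst h
  exact pullback_map_diagonal_isPullback φ φ t

theorem diagonal_eq : pullback.diagonal t' = pullback.diagonal φ ≫ kap φ t t' h := by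
  apply pullback.hom_ext <;> simp

end Basic

section System

variable {I : Type w} [Category I] (D : I ⥤ C) {Y : C} (t : D ⟶ (Functor.const I).obj Y)

theorem t_nat {i j : I} (φ : i ⟶ j) : D.map φ ≫ t.app j = t.app i := by
  have := t.naturality φ
  simpa using this

/-- The system `i ↦ D i ×_Y D i`. -/
noncomputable def Asys : I ⥤ C where
  obj i := pullback (t.app i) (t.app i)
  map {i j} φ := mu (D.map φ) (t.app j) (t.app i) (t_nat D t φ)
  map_id i := by
    apply pullback.hom_ext <;> simp
  map_comp φ ψ := by
    apply pullback.hom_ext <;> simp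

variable (c : Cone D) (g : c.pt ⟶ Y) (hg : ∀ i, c.π.app i ≫ t.app i = g)

/-- The cone `c.pt ×_Y c.pt ⟶ D i ×_Y D i`. -/
noncomputable def Acone : Cone (Asys D t) where
  pt := pullback g g
  π :=
    { app := fun i => mu (c.π.app i) (t.app i) g (hg i)
      naturality := fun i j φ => by
        apply pullback.hom_ext
        · simp [Asys]
        · simp [Asys] }

/-- The system `i ↦ c.pt ×_{D i} c.pt`. -/
noncomputable def Esys : I ⥤ C where
  obj i := pullback (c.π.app i) (c.π.app i)
  map {i j} φ := kap (c.π.app i) (D.map φ) (c.π.app j) (c.w φ)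
  map_id i := by
    apply pullback.hom_ext <;> simp
  map_comp φ ψ := by
    apply pullback.hom_ext <;> simp

/-- The cone `c.pt ⟶ c.pt ×_{D i} c.pt`. -/
noncomputable def Econe : Cone (Esys D c) where
  pt := c.pt
  π :=
    { app := fun i => pullback.diagonal (c.π.app i)
      naturality := fun i j φ => by
        apply pullback.hom_ext
        · simp [Esys]
        · simp [Esys] }

/-- The structure maps `c.pt ×_{D i} c.pt ⟶ c.pt ×_Y c.pt`. -/
noncomputable def Etau : Esys D c ⟶ (Functor.const I).obj (pullback g g) where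
  app i := kap (c.π.app i) (t.app i) g (hg i)
  naturality i j φ := by
    apply pullback.hom_ext
    · simp [Esys]
    · simp [Esys]

theorem Econe_tau (i : I) :
    (Econe D c).π.app i ≫ (Etau D t c g hg).app i = pullback.diagonal g :=
  (diagonal_eq (c.π.app i) (t.app i) g (hg i)).symm

theorem isPullback_Etau (i : I) :
    IsPullback (pullback.fst (c.π.app i) (c.π.app i) ≫ c.π.app i) ((Etau D t c g hg).app i)
      (pullback.diagonal (t.app i)) ((Acone D t c g hg).π.app i) :=
  isPullback_kap (c.π.app i) (t.app i) g (hg i)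

theorem isPullback_Emap {i j : I} (φ : i ⟶ j) :
    IsPullback (pullback.fst (c.π.app i) (c.π.app i) ≫ c.π.app i) ((Esys D c).map φ)
      (pullback.diagonal (D.map φ)) (mu (c.π.app i) (D.map φ) (c.π.app j) (c.w φ)) :=
  isPullback_kap (c.π.app i) (D.map φ) (c.π.app j) (c.w φ)

end System

section Limits

variable {I : Type w} [Category I] [IsCofiltered I] (D : I ⥤ C) {Y : C}
  (t : D ⟶ (Functor.const I).obj Y) (c : Cone D) (hc : IsLimit c) (g : c.pt ⟶ Y)
  (hg : ∀ i, c.π.app i ≫ t.app i = g)

/-- `c.pt ×_Y c.pt` is the limit of the `D i ×_Y D i`. -/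
noncomputable def Acone_isLimit : IsLimit (Acone D t c g hg) := by
  let i₀ : I := Classical.choice (IsCofiltered.nonempty (C := I))
  let c1 : ∀ s : Cone (Asys D t), Cone D := fun s =>
    { pt := s.pt
      π :=
        { app := fun i => s.π.app i ≫ pullback.fst _ _
          naturality := fun i j φ => by
            have := s.w φ
            simp only [Functor.const_obj_obj, Functor.const_obj_map, Category.id_comp]
            rw [← this, Category.assoc]
            simp [Asys] } }
  let c2 : ∀ s : Cone (Asys D t), Cone D := fun s =>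
    { pt := s.pt
      π :=
        { app := fun i => s.π.app i ≫ pullback.snd _ _
          naturality := fun i j φ => by
            have := s.w φ
            simp only [Functor.const_obj_obj, Functor.const_obj_map, Category.id_comp]
            rw [← this, Category.assoc]
            simp [Asys] } }
  have hcond : ∀ s : Cone (Asys D t), hc.lift (c1 s) ≫ g = hc.lift (c2 s) ≫ g := by
    intro s
    rw [← hg i₀, ← Category.assoc, ← Category.assoc, hc.fac, hc.fac]
    show (s.π.app i₀ ≫ pullback.fst _ _) ≫ t.app i₀ = (s.π.app i₀ ≫ pullback.snd _ _) ≫ t.app i₀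
    rw [Category.assoc, Category.assoc]
    exact congrArg (fun m => s.π.app i₀ ≫ m) pullback.condition
  refine
    { lift := fun s => pullback.lift (hc.lift (c1 s)) (hc.lift (c2 s)) (hcond s)
      fac := fun s i => ?_
      uniq := fun s m hm => ?_ }
  · apply pullback.hom_ext
    · show (_ ≫ mu (c.π.app i) (t.app i) g (hg i)) ≫ _ = _
      rw [Category.assoc, mu_fst, pullback.lift_fst_assoc, hc.fac]
      rfl
    · show (_ ≫ mu (c.π.app i) (t.app i) g (hg i)) ≫ _ = _
      rw [Category.assoc, mu_snd, pullback.lift_snd_assoc, hc.fac]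
      rfl
  · apply pullback.hom_ext
    · rw [pullback.lift_fst]
      apply hc.uniq (c1 s)
      intro i
      show _ = s.π.app i ≫ pullback.fst _ _
      rw [← hm i, Category.assoc, Category.assoc]
      exact congrArg (fun x => m ≫ x) (mu_fst (c.π.app i) (t.app i) g (hg i)).symm
    · rw [pullback.lift_snd]
      apply hc.uniq (c2 s)
      intro i
      show _ = s.π.app i ≫ pullback.snd _ _
      rw [← hm i, Category.assoc, Category.assoc]
      exact congrArg (fun x => m ≫ x) (mu_snd (c.π.app i) (t.app i) g (hg i)).symm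

/-- `c.pt` is the limit of the `c.pt ×_{D i} c.pt`. -/
noncomputable def Econe_isLimit : IsLimit (Econe D c) := by
  let i₀ : I := Classical.choice (IsCofiltered.nonempty (C := I))
  let u : ∀ (s : Cone (Esys D c)) (i : I), s.pt ⟶ c.pt := fun s i =>
    s.π.app i ≫ pullback.fst (c.π.app i) (c.π.app i)
  let v : ∀ (s : Cone (Esys D c)) (i : I), s.pt ⟶ c.pt := fun s i =>
    s.π.app i ≫ pullback.snd (c.π.app i) (c.π.app i)
  have hu : ∀ (s : Cone (Esys D c)) (i j : I), u s i = u s j := by
    intro s i j
    have key : ∀ (k l : I) (φ : k ⟶ l), u s k = u s l := by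
      intro k l φ
      show s.π.app k ≫ pullback.fst (c.π.app k) (c.π.app k) =
        s.π.app l ≫ pullback.fst (c.π.app l) (c.π.app l)
      rw [← s.w φ, Category.assoc]
      exact congrArg (fun m => s.π.app k ≫ m)
        (kap_fst (c.π.app k) (D.map φ) (c.π.app l) (c.w φ)).symm
    rw [← key _ _ (IsCofiltered.minToLeft i j), ← key _ _ (IsCofiltered.minToRight i j)]
  have hv : ∀ (s : Cone (Esys D c)) (i j : I), v s i = v s j := by
    intro s i j
    have key : ∀ (k l : I) (φ : k ⟶ l), v s k = v s l := by
      intro k l φ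
      show s.π.app k ≫ pullback.snd (c.π.app k) (c.π.app k) =
        s.π.app l ≫ pullback.snd (c.π.app l) (c.π.app l)
      rw [← s.w φ, Category.assoc]
      exact congrArg (fun m => s.π.app k ≫ m)
        (kap_snd (c.π.app k) (D.map φ) (c.π.app l) (c.w φ)).symm
    rw [← key _ _ (IsCofiltered.minToLeft i j), ← key _ _ (IsCofiltered.minToRight i j)]
  have hcondj : ∀ (s : Cone (Esys D c)) (j : I), u s j ≫ c.π.app j = v s j ≫ c.π.app j := by
    intro s j
    show (s.π.app j ≫ pullback.fst (c.π.app j) (c.π.app j)) ≫ c.π.app j =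
      (s.π.app j ≫ pullback.snd (c.π.app j) (c.π.app j)) ≫ c.π.app j
    rw [Category.assoc, Category.assoc]
    exact congrArg (fun m => s.π.app j ≫ m) pullback.condition
  have huv : ∀ s : Cone (Esys D c), u s i₀ = v s i₀ := by
    intro s
    apply hc.hom_ext
    intro j
    rw [hu s i₀ j, hv s i₀ j]
    exact hcondj s j
  refine
    { lift := fun s => u s i₀
      fac := fun s i => ?_
      uniq := fun s m hm => ?_ }
  · apply pullback.hom_ext
    · show (u s i₀ ≫ pullback.diagonal (c.π.app i)) ≫ pullback.fst (c.π.app i) (c.π.app i) =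
        u s i
      rw [Category.assoc, pullback.diagonal_fst, Category.comp_id]
      exact hu s i₀ i
    · show (u s i₀ ≫ pullback.diagonal (c.π.app i)) ≫ pullback.snd (c.π.app i) (c.π.app i) =
        v s i
      rw [Category.assoc, pullback.diagonal_snd, Category.comp_id, huv s]
      exact hv s i₀ i
  · show m = s.π.app i₀ ≫ pullback.fst (c.π.app i₀) (c.π.app i₀)
    rw [← hm i₀, Category.assoc]
    have h1 : pullback.diagonal (c.π.app i₀) ≫ pullback.fst (c.π.app i₀) (c.π.app i₀) = 𝟙 _ :=
      pullback.diagonal_fst _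
    exact ((congrArg (fun x => m ≫ x) h1).trans (Category.comp_id m)).symm

end Limits

end Groth.Agent.Helper4.SN496
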