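import Groth.Prelude.Def_AlgSpRep
import Groth.Prelude.Def_AlgSp4
import Groth.Agent.Helper4.SN473
import Groth.Agent.Helper4.AlgSpQC
import Groth.Agent.Helper5.AlgSpAff
import Groth.Agent.Helper5.AffDesc9
import Groth.Agent.S0594
import Mathlib

/-!
A cofiltered system of sheaves over a quasi-compact algebraic space `A` with closed immersions as
transition maps, representable structure maps locally of finite type, quasi-compact and separated:
if the limit is a closed subspace of `A`, then so is some stage.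
-/

set_option autoImplicit false
universe u
open CategoryTheory CategoryTheory.Limits AlgebraicGeometry Opposite MorphismProperty

namespace Groth.Agent.Helper4.SN497

open AlgSp Groth.Agent.Helper4.SN471

variable {S : Scheme.{u}}

set_option backward.isDefEq.respectTransparency false in
theorem exists_closedImmersion_stage {I : Type u} [SmallCategory I] [IsCofiltered I]
    (E : I ⥤ Sp S) (A : Sp S) (τ : E ⟶ (Functor.const I).obj A)
    (hEc : ∀ (i j : I) (φ : i ⟶ j), RepWith @IsClosedImmersion (E.map φ))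
    (c : Cone E) (hc : IsLimit c) (γ : c.pt ⟶ A) (hγ : ∀ i, c.π.app i ≫ τ.app i = γ)
    (hAqc : IsQuasiCompactSp A)
    (hτlft : ∀ i, RepWith @LocallyOfFiniteType (τ.app i))
    (hτqc : ∀ i, RepWith @QuasiCompact (τ.app i))
    (hτsep : ∀ i, RepWith @IsSeparated (τ.app i))
    (hγci : RepWith @IsClosedImmersion γ) :
    ∃ i, RepWith @IsClosedImmersion (τ.app i) := by
  obtain ⟨P, b, hbet, hbsurj, hPaff⟩ := Groth.Agent.Helper4.AlgSpQC.exists_affine_chart hAqc
  haveI : IsAffine P.left := hPaff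
  obtain ⟨i₀⟩ := IsCofiltered.nonempty (C := I)
  have hEa : ∀ (i j : I) (φ : i ⟶ j), IsAffineMor (E.map φ) := fun i j φ =>
    Groth.Agent.Helper5.AlgSpAff.isAffineMor_of_closedImmersion _ (hEc i j φ)
  have hτnat : ∀ {i j : I} (φ : i ⟶ j), E.map φ ≫ τ.app j = τ.app i := fun φ => by
    have := τ.naturality φ
    simpa using this
  have hrep₀ := (hτlft i₀).rep
  let P₀ : Over S := hrep₀.pullback b
  let a₀ : (yon S).obj P₀ ⟶ E.obj i₀ := hrep₀.fst b
  let p₀ : P₀ ⟶ P := hrep₀.snd b
  have sq₀ : IsPullback a₀ ((yon S).map p₀) (τ.app i₀) b := hrep₀.isPullback b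
  obtain ⟨cU, hcU, hcU', p, q, hpb, haffπ, hp, hq⟩ :=
    Groth.Agent.Helper4.SN473.exists_chart_limit' E hEa c hc i₀ a₀
  -- the squares over `b`
  have hUj : ∀ j : Over i₀, IsPullback (Ufst E hEa i₀ a₀ j)
      ((yon S).map (Usnd E hEa i₀ a₀ j ≫ p₀)) (τ.app j.left) b := by
    intro j
    have h1 := ((Usq E hEa i₀ a₀ j).flip.paste_horiz sq₀.flip).flip
    rw [hτnat j.hom, ← Functor.map_comp] at h1
    exact h1
  have hlim : IsPullback p ((yon S).map (q ≫ p₀)) γ b := by
    have h1 := (hpb.flip.paste_horiz sq₀.flip).flip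
    rw [hγ i₀, ← Functor.map_comp] at h1
    exact h1
  let D' : Over i₀ ⥤ Scheme.{u} := Usys E hEa i₀ a₀ ⋙ Over.forget S
  let t' : D' ⟶ (Functor.const (Over i₀)).obj P.left :=
    { app := fun j => (Usnd E hEa i₀ a₀ j ≫ p₀).left
      naturality := fun j j' m => by
        show (Umap E hEa i₀ a₀ m).left ≫ (Usnd E hEa i₀ a₀ j' ≫ p₀).left =
          (Usnd E hEa i₀ a₀ j ≫ p₀).left ≫ 𝟙 _
        rw [Category.comp_id, ← Over.comp_left, ← Category.assoc, Umap_snd] }
  -- transition maps are closed immersions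
  haveI : ∀ (j j' : Over i₀) (m : j ⟶ j'), IsClosedImmersion (D'.map m) := by
    intro j j' m
    have h1 : IsPullback ((yon S).map (Umap E hEa i₀ a₀ m)) (Ufst E hEa i₀ a₀ j)
        (Ufst E hEa i₀ a₀ j') (E.map m.left) := by
      have hcomm : (yon S).map (Umap E hEa i₀ a₀ m) ≫ Ufst E hEa i₀ a₀ j' =
          Ufst E hEa i₀ a₀ j ≫ E.map m.left := yon_Umap_fst E hEa i₀ a₀ m
      have hout : IsPullback ((yon S).map (Umap E hEa i₀ a₀ m) ≫
          (yon S).map (Usnd E hEa i₀ a₀ j')) (Ufst E hEa i₀ a₀ j) a₀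
          (E.map m.left ≫ E.map j'.hom) := by
        rw [← Functor.map_comp, Umap_snd, ← E.map_comp, Over.w m]
        exact (Usq E hEa i₀ a₀ j).flip
      exact IsPullback.of_right hout hcomm (Usq E hEa i₀ a₀ j').flip
    exact (hEc _ _ m.left).property _ _ _ h1.flip
  haveI : ∀ j : Over i₀, LocallyOfFiniteType (t'.app j) := fun j =>
    (hτlft j.left).property _ _ _ (hUj j)
  haveI : ∀ j : Over i₀, CompactSpace ↥(D'.obj j) := fun j => by
    have h1 : QuasiCompact (Usnd E hEa i₀ a₀ j ≫ p₀).left := (hτqc j.left).property _ _ _ (hUj j)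
    have h2 : CompactSpace ↥(Uobj E hEa i₀ a₀ j).left :=
      QuasiCompact.compactSpace_of_compactSpace (Usnd E hEa i₀ a₀ j ≫ p₀).left
    exact h2
  haveI : ∀ j : Over i₀, QuasiSeparatedSpace ↥(D'.obj j) := fun j => by
    have h1 : IsSeparated (Usnd E hEa i₀ a₀ j ≫ p₀).left := (hτsep j.left).property _ _ _ (hUj j)
    have h2 : QuasiSeparated (Usnd E hEa i₀ a₀ j ≫ p₀).left := inferInstance
    have h3 : QuasiSeparatedSpace ↥(Uobj E hEa i₀ a₀ j).left :=
      quasiSeparatedSpace_of_quasiSeparated (Usnd E hEa i₀ a₀ j ≫ p₀).left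
    exact h3
  have hcU'' : IsLimit ((Over.forget S).mapCone cU) := hcU'
  haveI : IsClosedImmersion (((Over.forget S).mapCone cU).π.app (jtop i₀) ≫ t'.app (jtop i₀)) := by
    have h1 : ((Over.forget S).mapCone cU).π.app (jtop i₀) ≫ t'.app (jtop i₀) = (q ≫ p₀).left := by
      show (cU.π.app (jtop i₀)).left ≫ (Usnd E hEa i₀ a₀ (jtop i₀) ≫ p₀).left = (q ≫ p₀).left
      rw [← Over.comp_left, ← Category.assoc, hq]
    rw [h1]
    exact hγci.property _ _ _ hlim
  obtain ⟨j, hj⟩ := Groth.Agent.S0594.result P.left D' t' ((Over.forget S).mapCone cU) hcU''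
    (jtop i₀)
  refine ⟨j.left, ?_⟩
  exact Groth.Agent.Helper5.AffDesc.repWith_of_etale_chart @IsClosedImmersion
    (fun _ _ g hg => by
      haveI : IsClosedImmersion g := hg
      infer_instance)
    (τ.app j.left) P b hbet hbsurj (Ufst E hEa i₀ a₀ j) ((yon S).map (Usnd E hEa i₀ a₀ j ≫ p₀))
    (hUj j) ((repWith_yon_map_iff _ _).2 hj)

end Groth.Agent.Helper4.SN497
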