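import Groth.Prelude.Def_AlgSpRep
import Groth.Prelude.Def_AlgSp4
import Groth.Agent.Helper4.SN496
import Groth.Agent.Helper4.SN497
import Groth.Agent.Helper4.SN493
import Groth.Agent.Helper4.SN472
import Groth.Agent.S10019
import Groth.Agent.S9900
import Groth.Agent.S9920
import Mathlib

/-!
Eventually separated: for a cofiltered system of quasi-compact quasi-separated algebraic spaces
over `Y` with affine transition maps whose limit is separated over `Y`, the stages are eventually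
separated over `Y`.
-/

set_option autoImplicit false
universe u
open CategoryTheory CategoryTheory.Limits AlgebraicGeometry Opposite MorphismProperty

namespace Groth.Agent.Helper4.SN498

open AlgSp Groth.Agent.Helper4.SN496

variable {S : Scheme.{u}}

theorem isPullback_id {C : Type*} [Category C] {A B : C} (m : A ⟶ B) :
    IsPullback m (𝟙 A) (𝟙 B) m :=
  IsPullback.of_vert_isIso ⟨by simp⟩

section Affine

variable {X' X Y : Sp S} (φ : X' ⟶ X) (t : X ⟶ Y) (t' : X' ⟶ Y) (h : φ ≫ t = t')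

/-- `X' ×_Y X' ⟶ X ×_Y X` is affine when `X' ⟶ X` is. -/
theorem isAffineMor_mu (hφ : IsAffineMor φ) : IsAffineMor (mu φ t t' h) := by
  subst h
  -- first factor
  let m₁ : pullback (φ ≫ t) (φ ≫ t) ⟶ pullback t (φ ≫ t) :=
    pullback.map (φ ≫ t) (φ ≫ t) t (φ ≫ t) φ (𝟙 _) (𝟙 _) (by simp) (by simp)
  let m₂ : pullback t (φ ≫ t) ⟶ pullback t t :=
    pullback.map t (φ ≫ t) t t (𝟙 _) φ (𝟙 _) (by simp) (by simp)
  have hm₁s : m₁ ≫ pullback.snd t (φ ≫ t) = pullback.snd (φ ≫ t) (φ ≫ t) :=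
    (pullback.lift_snd _ _ _).trans (Category.comp_id _)
  have hm₁f : m₁ ≫ pullback.fst t (φ ≫ t) = pullback.fst (φ ≫ t) (φ ≫ t) ≫ φ :=
    pullback.lift_fst _ _ _
  have hm₂f : m₂ ≫ pullback.fst t t = pullback.fst t (φ ≫ t) :=
    (pullback.lift_fst _ _ _).trans (Category.comp_id _)
  have hm₂s : m₂ ≫ pullback.snd t t = pullback.snd t (φ ≫ t) ≫ φ :=
    pullback.lift_snd _ _ _
  have sq₁ : IsPullback m₁ (pullback.fst (φ ≫ t) (φ ≫ t)) (pullback.fst t (φ ≫ t)) φ := by
    have hout : IsPullback (m₁ ≫ pullback.snd t (φ ≫ t)) (pullback.fst (φ ≫ t) (φ ≫ t))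
        (φ ≫ t) (φ ≫ t) := by
      rw [hm₁s]
      exact (IsPullback.of_hasPullback (φ ≫ t) (φ ≫ t)).flip
    exact IsPullback.of_right hout hm₁f (IsPullback.of_hasPullback t (φ ≫ t)).flip
  have sq₂ : IsPullback m₂ (pullback.snd t (φ ≫ t)) (pullback.snd t t) φ := by
    have hout : IsPullback (m₂ ≫ pullback.fst t t) (pullback.snd t (φ ≫ t)) t (φ ≫ t) := by
      rw [hm₂f]
      exact IsPullback.of_hasPullback t (φ ≫ t)
    exact IsPullback.of_right hout hm₂s (IsPullback.of_hasPullback t t)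
  have h₁ : IsAffineMor m₁ :=
    Groth.Agent.Helper5.AlgSpAff.isAffineMor_of_isPullback sq₁.flip hφ
  have h₂ : IsAffineMor m₂ :=
    Groth.Agent.Helper5.AlgSpAff.isAffineMor_of_isPullback sq₂.flip hφ
  have e : mu φ t (φ ≫ t) rfl = m₁ ≫ m₂ := by
    apply pullback.hom_ext
    · rw [mu_fst, Category.assoc, hm₂f, hm₁f]
    · rw [mu_snd, Category.assoc, hm₂s, ← Category.assoc, hm₁s]
  rw [e]
  exact Groth.Agent.Helper5.AlgSpAff.isAffineMor_comp m₁ m₂ h₁ h₂

end Affine

set_option backward.isDefEq.respectTransparency false in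
theorem main [QuasiSeparatedSpace S] {I : Type u} [SmallCategory I] [IsCofiltered I]
    (Y : AlgSp.Space S) (D : I ⥤ AlgSp.Sp S) (hD : ∀ i, AlgSp.IsAlgSpace (D.obj i))
    (t : D ⟶ (Functor.const I).obj Y.obj)
    (hDa : ∀ (i j : I) (φ : i ⟶ j), AlgSp.IsAffineMor (D.map φ))
    (c : Cone D) (hc : IsLimit c) (g : c.pt ⟶ Y.obj) (hg : ∀ i, c.π.app i ≫ t.app i = g)
    (hqc : ∀ i, AlgSp.IsQuasiCompactSp (D.obj i)) (hqs : ∀ i, AlgSp.IsQuasiSeparatedSp (D.obj i))
    (hYqs : AlgSp.IsQuasiSeparatedSp Y.obj) (hX : AlgSp.IsSeparatedMor g) :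
    ∃ i₀ : I, ∀ (i : I) (_ : i ⟶ i₀), AlgSp.IsSeparatedMor (t.app i) := by
  have hcalg : IsAlgSpace c.pt := Groth.Agent.Helper4.SN472.isAlgSpace_pt D hDa c hc hD
  obtain ⟨i₁⟩ := IsCofiltered.nonempty (C := I)
  have hcqc : IsQuasiCompactSp c.pt :=
    Groth.Agent.Helper4.SN493.isQuasiCompactSp_of_isAffineMor (c.π.app i₁)
      (Groth.Agent.Helper4.SN472.isAffineMor_π D hDa c hc i₁) (hqc i₁)
  -- diagonals of the transition maps are closed immersions
  have hΔφ : ∀ {i j : I} (φ : i ⟶ j), RepWith @IsClosedImmersion (pullback.diagonal (D.map φ)) :=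
    fun {i j} φ => Groth.Agent.Helper4.SN492.isSeparatedMor_of_isAffineMor (hD i) (hD j) _
      (hDa i j φ)
  -- properties of the diagonals of the structure maps
  have hΔ : ∀ i, Representable (pullback.diagonal (t.app i)) ∧
      RepWith @LocallyOfFiniteType (pullback.diagonal (t.app i)) ∧
      RepWith (MorphismProperty.monomorphisms Scheme.{u}) (pullback.diagonal (t.app i)) ∧
      RepWith @IsSeparated (pullback.diagonal (t.app i)) ∧
      RepWith (@LocallyQuasiFinite ⊓ @LocallyOfFiniteType) (pullback.diagonal (t.app i)) :=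
    fun i => Groth.Agent.S9900.result (ObjectProperty.homMk (t.app i) :
      (⟨D.obj i, hD i⟩ : AlgSp.Space S) ⟶ Y)
  have hΔqc : ∀ i, RepWith @QuasiCompact (pullback.diagonal (t.app i)) := by
    intro i
    have h1 := (Groth.Agent.Helper4.SN487.qs_diag_iff (D.obj i)).1 (hqs i)
    have e : terminal.from (D.obj i) = t.app i ≫ terminal.from Y.obj := Subsingleton.elim _ _
    rw [e] at h1
    exact Groth.Agent.Helper4.AlgSpPB.diagonal_of_comp _ (t.app i) _ h1
  -- the system `E`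
  let E : I ⥤ Sp S := Esys D c
  let τ : E ⟶ (Functor.const I).obj (pullback g g) := Etau D t c g hg
  have hEc : ∀ (i j : I) (φ : i ⟶ j), RepWith @IsClosedImmersion (E.map φ) := fun i j φ =>
    (RepWith (S := S) @IsClosedImmersion).of_isPullback (isPullback_Emap D c φ) (hΔφ φ)
  have hAqc : IsQuasiCompactSp (pullback g g) := by
    have hqcm : IsQuasiCompactMor g :=
      Groth.Agent.S9920.result (ObjectProperty.homMk g : (⟨c.pt, hcalg⟩ : AlgSp.Space S) ⟶ Y)
        hcqc hYqs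
    exact hqcm hcalg hcqc g _ _ (IsPullback.of_hasPullback g g)
  obtain ⟨j, hj⟩ := Groth.Agent.Helper4.SN497.exists_closedImmersion_stage E (pullback g g) τ hEc
    (Econe D c) (Econe_isLimit D c hc) (pullback.diagonal g) (Econe_tau D t c g hg) hAqc
    (fun i => (RepWith (S := S) @LocallyOfFiniteType).of_isPullback (isPullback_Etau D t c g hg i)
      (hΔ i).2.1)
    (fun i => (RepWith (S := S) @QuasiCompact).of_isPullback (isPullback_Etau D t c g hg i)
      (hΔqc i))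
    (fun i => (RepWith (S := S) @IsSeparated).of_isPullback (isPullback_Etau D t c g hg i)
      (hΔ i).2.2.2.1)
    hX
  -- descend along the system `A`
  let 𝒜 : I ⥤ Sp S := Asys D t
  have h𝒜alg : ∀ i, IsAlgSpace (𝒜.obj i) := fun i =>
    Groth.Agent.Helper4.AlgSpPB.isAlgSpace_of_isPullback Y.property.diag (hD i) (hD i)
      (t.app i) (t.app i) _ _ (IsPullback.of_hasPullback _ _)
  have h𝒜a : ∀ (i k : I) (φ : i ⟶ k), IsAffineMor (𝒜.map φ) := fun i k φ =>
    isAffineMor_mu (D.map φ) (t.app k) (t.app i) (t_nat D t φ) (hDa i k φ)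
  have h𝒜qc : ∀ i, IsQuasiCompactSp (𝒜.obj i) := fun i => by
    have hqcm : IsQuasiCompactMor (t.app i) :=
      Groth.Agent.S9920.result (ObjectProperty.homMk (t.app i) :
        (⟨D.obj i, hD i⟩ : AlgSp.Space S) ⟶ Y) (hqc i) hYqs
    exact hqcm (hD i) (hqc i) (t.app i) _ _ (IsPullback.of_hasPullback _ _)
  have h𝒜qs : ∀ i, IsQuasiSeparatedSp (𝒜.obj i) := fun i =>
    Groth.Agent.Helper4.SN487.isQuasiSeparatedSp_of_isPullback (hqs i) (hqs i) (t.app i)
      (t.app i) _ _ (IsPullback.of_hasPullback _ _)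
  have hYsq : IsPullback ((Acone D t c g hg).π.app j) (𝟙 (pullback g g)) (𝟙 (𝒜.obj j))
      ((Acone D t c g hg).π.app j) := isPullback_id _
  obtain ⟨k, ψ, hk⟩ := Groth.Agent.S10019.result S 𝒜 h𝒜alg h𝒜a (Acone D t c g hg)
    (Acone_isLimit D t c hc g hg) j (h𝒜qc j) (h𝒜qs j)
    (⟨D.obj j, hD j⟩ : AlgSp.Space S) (⟨𝒜.obj j, h𝒜alg j⟩ : AlgSp.Space S)
    (pullback.diagonal (t.app j)) (𝟙 _) (hqc j) (hqs j) (h𝒜qc j) (h𝒜qs j)
    (E.obj j) (pullback g g) (τ.app j) ((Acone D t c g hg).π.app j) (𝟙 _) hYsq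
    (pullback.fst (c.π.app j) (c.π.app j) ≫ c.π.app j) (isPullback_Etau D t c g hg j) hj
    (Groth.Agent.Helper4.AlgSpLocP.locP_of_repWith @LocallyOfFiniteType @LocallyOfFiniteType
      (fun _ h => h) Groth.Agent.Helper4.SDClasses.good_lft.etale_le _ (hΔ j).2.1)
  -- the stage `k`
  have hkap : RepWith @IsClosedImmersion
      (kap (D.map ψ) (t.app j) (t.app k) (t_nat D t ψ)) := by
    have hsq : IsPullback (𝒜.map ψ) (𝟙 (𝒜.obj k)) (𝟙 (𝒜.obj j)) (𝒜.map ψ) := isPullback_id _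
    exact hk (pullback (D.map ψ) (D.map ψ)) (𝒜.obj k) _ (𝒜.map ψ) (𝟙 _) hsq
      (pullback.fst (D.map ψ) (D.map ψ) ≫ D.map ψ)
      (isPullback_kap (D.map ψ) (t.app j) (t.app k) (t_nat D t ψ))
  have hsepk : RepWith @IsClosedImmersion (pullback.diagonal (t.app k)) := by
    rw [diagonal_eq (D.map ψ) (t.app j) (t.app k) (t_nat D t ψ)]
    exact Groth.Agent.Helper4.AlgSpSrc.repWith_comp @IsClosedImmersion (hΔφ ψ) hkap
  refine ⟨k, fun i χ => ?_⟩
  show RepWith @IsClosedImmersion (pullback.diagonal (t.app i))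
  rw [diagonal_eq (D.map χ) (t.app k) (t.app i) (t_nat D t χ)]
  exact Groth.Agent.Helper4.AlgSpSrc.repWith_comp @IsClosedImmersion (hΔφ χ)
    ((RepWith (S := S) @IsClosedImmersion).of_isPullback
      (isPullback_kap (D.map χ) (t.app k) (t.app i) (t_nat D t χ)) hsepk)

end Groth.Agent.Helper4.SN498
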