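import Mathlib
import Groth.Agent.Helper4.SN504
import Groth.Agent.Helper5.FEt3

set_option autoImplicit false
set_option linter.unusedVariables false
universe u

/-!
# Representable smooth / unramified morphisms of sheaves are formally smooth / unramified
-/

namespace Groth.Agent.Helper4.SN505

open CategoryTheory CategoryTheory.Limits AlgebraicGeometry Opposite TopologicalSpace
open AlgSp Groth.Agent.Helper5.FEt

variable {S : Scheme.{u}}

set_option backward.isDefEq.respectTransparency.types false in
/-- representable smooth morphisms of sheaves are formally smooth -/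
theorem isFormallySmoothMor_of_repWith_smooth {F G : Sp S} (a : F ⟶ G) (ha : RepWith @Smooth a) :
    IsFormallySmoothMor a := by
  intro sq
  have hrep := ha.rep
  have sqP := hrep.isPullback sq.bot
  haveI hE : Smooth (hrep.snd sq.bot).left := ha.property _ _ _ sqP
  generalize hrep.fst sq.bot = fstP at sqP
  generalize hrep.snd sq.bot = sndP at sqP hE
  generalize hrep.pullback sq.bot = P at fstP sndP sqP hE
  obtain ⟨σ₀, hσ₀⟩ := (yon S).map_surjective (sqP.lift sq.top ((yon S).map sq.j) sq.comm)
  have hσ1 : (yon S).map σ₀ ≫ fstP = sq.top := by rw [hσ₀, sqP.lift_fst]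
  have hσ2 : σ₀ ≫ sndP = sq.j := (yon S).map_injective (by
    rw [Functor.map_comp, hσ₀, sqP.lift_snd])
  have hσ2l : σ₀.left ≫ sndP.left = sq.j.left := by rw [← Over.comp_left, hσ2]
  obtain ⟨l, hl1, hl2⟩ := Groth.Agent.Helper4.SN504.formallySmooth_of_smooth sndP.left sq.A sq.I
    sq.sq_zero σ₀.left (𝟙 _) (by rw [Category.comp_id]; exact hσ2l.symm)
  let s : sq.ptT' ⟶ P := Over.homMk l (by
    rw [← CategoryTheory.Over.w sndP, ← Category.assoc, hl2]
    exact Category.id_comp _)
  have hss : s ≫ sndP = 𝟙 _ := by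
    ext
    exact hl2
  have hss2 : sq.j ≫ s = σ₀ := by
    ext
    exact hl1
  refine ⟨(yon S).map s ≫ fstP, ?_, ?_⟩
  · rw [← Category.assoc, ← Functor.map_comp, hss2, hσ1]
  · rw [Category.assoc, sqP.w, ← Category.assoc, ← Functor.map_comp, hss,
      CategoryTheory.Functor.map_id, Category.id_comp]

set_option backward.isDefEq.respectTransparency.types false in
/-- representable (locally of finite type and) formally unramified morphisms of sheaves are
formally unramified -/
theorem isFormallyUnramifiedMor_of_repWith {F G : Sp S} (a : F ⟶ G)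
    (ha : RepWith (@LocallyOfFiniteType ⊓ @FormallyUnramified) a) :
    IsFormallyUnramifiedMor a := by
  intro sq l l' h1 h2 h3 h4
  have hrep := ha.rep
  have sqP := hrep.isPullback sq.bot
  haveI hE : FormallyUnramified (hrep.snd sq.bot).left := (ha.property _ _ _ sqP).2
  generalize hrep.fst sq.bot = fstP at sqP
  generalize hrep.snd sq.bot = sndP at sqP hE
  generalize hrep.pullback sq.bot = P at fstP sndP sqP hE
  have key : ∀ l : (yon S).obj sq.ptT' ⟶ F, (yon S).map sq.j ≫ l = sq.top → l ≫ a = sq.bot →
      ∃ s : sq.ptT' ⟶ P, (yon S).map s ≫ fstP = l ∧ s ≫ sndP = 𝟙 _ ∧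
        (yon S).map (sq.j ≫ s) ≫ fstP = sq.top := by
    intro l hl1 hl2
    obtain ⟨s, hs⟩ := (yon S).map_surjective (sqP.lift l (𝟙 _) (by rw [hl2, Category.id_comp]))
    have hs1 : (yon S).map s ≫ fstP = l := by rw [hs, sqP.lift_fst]
    have hs2 : (yon S).map s ≫ (yon S).map sndP = 𝟙 _ := by rw [hs, sqP.lift_snd]
    refine ⟨s, hs1, (yon S).map_injective (by
      rw [Functor.map_comp, hs2, CategoryTheory.Functor.map_id]), ?_⟩
    rw [Functor.map_comp, Category.assoc, hs1, hl1]
  obtain ⟨s, hs1, hs2, hs3⟩ := key l h1 h2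
  obtain ⟨s', hs1', hs2', hs3'⟩ := key l' h3 h4
  have hjs : sq.j ≫ s = sq.j ≫ s' := by
    apply (yon S).map_injective
    apply sqP.hom_ext
    · rw [hs3, hs3']
    · rw [← Functor.map_comp, ← Functor.map_comp, Category.assoc, Category.assoc, hs2, hs2']
  haveI : IsClosedImmersion sq.j.left := (thick_j sq).1
  have hnil : IsNilpotent sq.j.left.ker := ⟨2, by rw [pow_two]; exact sqZero_j sq⟩
  have : s.left = s'.left :=
    FormallyUnramified.hom_ext sq.j.left hnil sndP.left
      (by rw [← Over.comp_left, ← Over.comp_left, hjs])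
      (by rw [← Over.comp_left, ← Over.comp_left, hs2, hs2'])
  have hss : s = s' := by
    ext
    exact this
  rw [← hs1, ← hs1', hss]

end Groth.Agent.Helper4.SN505
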