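import Mathlib
import Groth.Agent.Helper4.SN504
import Groth.Agent.Lead.Thick4

set_option autoImplicit false
set_option linter.unusedVariables false
universe u

/-!
# Gluing local lifts along a first order thickening of an affine scheme
-/

namespace Groth.Agent.Helper4.SN506

open CategoryTheory CategoryTheory.Limits AlgebraicGeometry TopologicalSpace Groth.Agent.Lead
open Groth.Agent.Helper4.SN499 Groth.Agent.Helper4.SN500 Groth.Agent.Helper4.SN501
open Groth.Agent.Helper4.SN504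

/-- a closed immersion whose ideal is locally square-zero is surjective -/
theorem surjective_of_sq_zero {T T₀ : Scheme.{u}} (i : T₀ ⟶ T) [IsClosedImmersion i]
    (hsq : ∀ (U : T.affineOpens) (x y : Γ(T, U.1)),
      x ∈ RingHom.ker (i.app U.1).hom → y ∈ RingHom.ker (i.app U.1).hom → x * y = 0) :
    Function.Surjective i := by
  intro t
  have hcl : closure (Set.range i) = Set.range i :=
    i.isClosedEmbedding.isClosed_range.closure_eq
  have hsup : t ∈ i.ker.support := by
    obtain ⟨_, ⟨U, hU, rfl⟩, htU, -⟩ := (T.isBasis_affineOpens).exists_subset_of_mem_open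
      (Set.mem_univ t) isOpen_univ
    rw [Scheme.IdealSheafData.mem_support_iff_of_mem (U := ⟨U, hU⟩) htU, Scheme.mem_zeroLocus_iff]
    intro g hg htg
    rw [SetLike.mem_coe, Scheme.Hom.ker_apply] at hg
    have h0 : g * g = 0 := hsq ⟨U, hU⟩ g g hg hg
    have h1 : t ∈ T.basicOpen (g * g) := by
      rw [Scheme.basicOpen_mul]; exact ⟨htg, htg⟩
    rw [h0, Scheme.basicOpen_zero] at h1
    exact h1
  have h2 : t ∈ (i.ker.support : Set T) := hsup
  rw [Scheme.Hom.support_ker, hcl] at h2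
  exact h2

/-- gluing local lifts, affine presentation -/
theorem main_aux {S X T T₀ : Scheme.{u}} (f : X ⟶ S) [LocallyOfFinitePresentation f]
    (i : T₀ ⟶ T) {A : Type u} [CommRing A] (I : Ideal A) (hI : ∀ x ∈ I, ∀ y ∈ I, x * y = 0)
    (eT : Spec (CommRingCat.of A) ≅ T) (eT₀ : Spec (CommRingCat.of (A ⧸ I)) ≅ T₀)
    (hrel : Spec.map (CommRingCat.ofHom (Ideal.Quotient.mk I)) ≫ eT.hom = eT₀.hom ≫ i)
    (a : T ⟶ S) (a₀ : T₀ ⟶ X) (hsqr : a₀ ≫ f = i ≫ a)
    (ι : Type u) (U : ι → T.Opens) (hU : iSup U = ⊤) (b : ∀ j, (↑(U j) : Scheme.{u}) ⟶ X)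
    (hb₁ : ∀ j, b j ≫ f = (U j).ι ≫ a)
    (hb₂ : ∀ j, (i ∣_ U j) ≫ b j = (i ⁻¹ᵁ U j).ι ≫ a₀) :
    ∃ b' : T ⟶ X, b' ≫ f = a ∧ i ≫ b' = a₀ := by
  have hcomm : (eT₀.hom ≫ a₀) ≫ f =
      Spec.map (CommRingCat.ofHom (Ideal.Quotient.mk I)) ≫ (eT.hom ≫ a) := by
    rw [Category.assoc, hsqr, ← Category.assoc, ← hrel, Category.assoc]
  have hpieces : ∀ p : PrimeSpectrum A, ∃ P : Piece f I (eT.hom ≫ a) (eT₀.hom ≫ a₀),
      P.e ∉ p.asIdeal := by
    intro p
    have hmem : eT.hom p ∈ (⊤ : T.Opens) := trivial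
    rw [← hU, Opens.mem_iSup] at hmem
    obtain ⟨j, hj⟩ := hmem
    obtain ⟨Uc, Vc, hUc, hVc, hUV, e, hep, hsub, hrV, hrU⟩ :=
      exists_chart hI hcomm p (eT.hom ⁻¹ᵁ U j : Set (Spec (CommRingCat.of A)))
        (eT.hom ⁻¹ᵁ U j).2 hj
    -- the map to `T`
    let g : Spec (CommRingCat.of (Localization.Away e)) ⟶ T :=
      Spec.map (CommRingCat.ofHom (algebraMap A (Localization.Away e))) ≫ eT.hom
    have hg : Set.range g ⊆ Set.range (U j).ι := by
      rintro _ ⟨r, rfl⟩
      rw [Scheme.Opens.range_ι]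
      have hr : Spec.map (CommRingCat.ofHom (algebraMap A (Localization.Away e))) r ∈
          (PrimeSpectrum.basicOpen e : Set (PrimeSpectrum A)) := by
        intro hmem
        exact not_mem_of_isUnit (show PrimeSpectrum (Localization.Away e) from r)
          (isUnit_away e) hmem
      have := hsub hr
      change eT.hom (Spec.map (CommRingCat.ofHom (algebraMap A (Localization.Away e))) r) ∈ U j
        at this
      rw [Scheme.Hom.comp_apply]
      exact this
    let m : Spec (CommRingCat.of (Localization.Away e)) ⟶ (U j : Scheme.{u}) :=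
      IsOpenImmersion.lift (U j).ι g hg
    have hm : m ≫ (U j).ι = g := IsOpenImmersion.lift_fac _ _ _
    have hlift : IsLift f I (eT.hom ≫ a) (eT₀.hom ≫ a₀) (Localization.Away e) (m ≫ b j) := by
      constructor
      · rw [Category.assoc, hb₁, ← Category.assoc, hm, Category.assoc]
      · -- the reduction
        let g₀ : Spec (CommRingCat.of (Localization.Away e ⧸ Ie I (Localization.Away e))) ⟶ T₀ :=
          Spec.map (CommRingCat.ofHom (redMap I (Localization.Away e))) ≫ eT₀.hom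
        have hring : CommRingCat.ofHom (Ideal.Quotient.mk I) ≫
            CommRingCat.ofHom (redMap I (Localization.Away e)) =
            CommRingCat.ofHom (algebraMap A (Localization.Away e)) ≫
              CommRingCat.ofHom (Ideal.Quotient.mk (Ie I (Localization.Away e))) := by
          ext x
          simp [redMap]
        have hcompat : (Spec.map (CommRingCat.ofHom
            (Ideal.Quotient.mk (Ie I (Localization.Away e)))) ≫ m) ≫ (U j).ι = g₀ ≫ i := by
          rw [Category.assoc, hm, Category.assoc, ← hrel, ← Category.assoc, ← Category.assoc,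
            ← Spec.map_comp, ← Spec.map_comp, hring]
        let m₀ := (isPullback_morphismRestrict i (U j)).lift _ _ hcompat
        have hm₀1 : m₀ ≫ (i ∣_ U j) = Spec.map (CommRingCat.ofHom
            (Ideal.Quotient.mk (Ie I (Localization.Away e)))) ≫ m :=
          (isPullback_morphismRestrict i (U j)).lift_fst _ _ hcompat
        have hm₀2 : m₀ ≫ (i ⁻¹ᵁ U j).ι = g₀ :=
          (isPullback_morphismRestrict i (U j)).lift_snd _ _ hcompat
        rw [← Category.assoc, ← hm₀1, Category.assoc, hb₂, ← Category.assoc, hm₀2, Category.assoc]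
    have hσU : Set.range (m ≫ b j) ⊆ Uc := by
      apply FEtLift.range_subset_of_comp _
        (specMap_mk_surjective (Ie I (Localization.Away e)) (sq_zero_map _ I hI))
      rw [hlift.red]
      exact hrU
    exact ⟨⟨e, Uc, Vc, hUc, hVc, hUV, m ≫ b j, hlift, hσU, hrV⟩, hep⟩
  obtain ⟨l, hl1, hl2⟩ := glue_of_forall_prime hI hpieces
  refine ⟨eT.inv ≫ l, ?_, ?_⟩
  · rw [Category.assoc, hl1, Iso.inv_hom_id_assoc]
  · rw [← cancel_epi eT₀.hom, ← hl2]
    have : Spec.map (CommRingCat.ofHom (Ideal.Quotient.mk I)) = eT₀.hom ≫ i ≫ eT.inv := by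
      rw [← Category.assoc, ← hrel, Category.assoc, Iso.hom_inv_id, Category.comp_id]
    rw [this, Category.assoc, Category.assoc]

/-- gluing local lifts along a first order thickening with affine source -/
theorem main {S X T T₀ : Scheme.{u}}
    (f : X ⟶ S) [LocallyOfFinitePresentation f]
    (i : T₀ ⟶ T) [IsClosedImmersion i] [IsAffine T₀]
    (hsq : ∀ (U : T.affineOpens) (x y : Γ(T, U.1)),
      x ∈ RingHom.ker (i.app U.1).hom → y ∈ RingHom.ker (i.app U.1).hom → x * y = 0)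
    (a : T ⟶ S) (a₀ : T₀ ⟶ X) (hsqr : a₀ ≫ f = i ≫ a)
    (ι : Type u) (U : ι → T.Opens) (hU : iSup U = ⊤) (b : ∀ j, (↑(U j) : Scheme.{u}) ⟶ X)
    (hb₁ : ∀ j, b j ≫ f = (U j).ι ≫ a)
    (hb₂ : ∀ j, (i ∣_ U j) ≫ b j = (i ⁻¹ᵁ U j).ι ≫ a₀) :
    ∃ b' : T ⟶ X, b' ≫ f = a ∧ i ≫ b' = a₀ := by
  have hsurj := surjective_of_sq_zero i hsq
  haveI : IsAffine T := Thick.isAffine_of_thickening i hsurj
  have hφ : Function.Surjective i.appTop.hom :=
    (IsClosedImmersion.isAffine_surjective_of_isAffine i).2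
  have hI : ∀ x ∈ RingHom.ker i.appTop.hom, ∀ y ∈ RingHom.ker i.appTop.hom, x * y = 0 :=
    fun x hx y hy => hsq ⟨⊤, isAffineOpen_top T⟩ x y hx hy
  let κ : Γ(T, ⊤) ⧸ RingHom.ker i.appTop.hom ≃+* Γ(T₀, ⊤) :=
    RingHom.quotientKerEquivOfSurjective hφ
  let eT₀ : Spec (CommRingCat.of (Γ(T, ⊤) ⧸ RingHom.ker i.appTop.hom)) ≅ T₀ :=
    (Scheme.Spec.mapIso κ.toCommRingCatIso.op).symm ≪≫ T₀.isoSpec.symm
  refine main_aux f i (RingHom.ker i.appTop.hom) hI T.isoSpec.symm eT₀ ?_ a a₀ hsqr ι U hU b hb₁ hb₂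
  have h1 : T₀.isoSpec.inv ≫ i = Spec.map i.appTop ≫ T.isoSpec.inv :=
    (Scheme.isoSpec_inv_naturality i).symm
  have h2 : eT₀.hom = Spec.map (CommRingCat.ofHom κ.symm.toRingHom) ≫ T₀.isoSpec.inv := rfl
  rw [h2, Category.assoc, h1, ← Category.assoc, ← Spec.map_comp]
  change Spec.map _ ≫ T.isoSpec.inv = _
  congr 2
  ext x
  change Ideal.Quotient.mk _ x = κ.symm (i.appTop.hom x)
  rw [RingEquiv.eq_symm_apply]
  rfl

end Groth.Agent.Helper4.SN506
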