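import Groth.Agent.Helper6.RelLP3
import Groth.Agent.Helper4.AlgSpBasic
import Mathlib

/-!
Morphism-level reformulation of relative limit preservation (towards S10024).
-/

set_option autoImplicit false
universe u
open CategoryTheory CategoryTheory.Limits AlgebraicGeometry Opposite

namespace Groth.Agent.Helper4.SN507

open AlgSp Groth.Agent.Helper6.RelLP

variable {S : Scheme.{u}} {I : Type u} [SmallCategory I]

/-- morphism version of `PB1` -/
def MB1 {F G : Sp S} (a : F ⟶ G) (D : I ⥤ Over S) (c : Cone D) : Prop :=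
  ∀ (x : (yon S).obj c.pt ⟶ F) (i : I) (y : (yon S).obj (D.obj i) ⟶ G),
    x ≫ a = (yon S).map (c.π.app i) ≫ y →
    ∃ (j : I) (φ : j ⟶ i) (xj : (yon S).obj (D.obj j) ⟶ F),
      (yon S).map (c.π.app j) ≫ xj = x ∧ xj ≫ a = (yon S).map (D.map φ) ≫ y

/-- morphism version of `PB2` (with the equality of images at the same level) -/
def MB2 {F G : Sp S} (a : F ⟶ G) (D : I ⥤ Over S) (c : Cone D) : Prop :=
  ∀ (i : I) (x x' : (yon S).obj (D.obj i) ⟶ F),
    (yon S).map (c.π.app i) ≫ x = (yon S).map (c.π.app i) ≫ x' →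
    x ≫ a = x' ≫ a →
    ∃ (j : I) (φ : j ⟶ i), (yon S).map (D.map φ) ≫ x = (yon S).map (D.map φ) ≫ x'

/-- sections versus morphisms -/
noncomputable abbrev ev {F : Sp S} {T : Over S} : ((yon S).obj T ⟶ F) ≃ F.obj.obj (op T) :=
  (J S).uliftYonedaEquiv

lemma ev_map {F : Sp S} {T T' : Over S} (g : T' ⟶ T) (x : (yon S).obj T ⟶ F) :
    ev ((yon S).map g ≫ x) = F.obj.map g.op (ev x) :=
  ((J S).uliftYonedaEquiv_naturality x g).symm

lemma ev_comp {F G : Sp S} {T : Over S} (x : (yon S).obj T ⟶ F) (a : F ⟶ G) :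
    ev (x ≫ a) = a.hom.app _ (ev x) :=
  (J S).uliftYonedaEquiv_comp x a

lemma pb1_iff {F G : Sp S} (a : F ⟶ G) (D : I ⥤ Over S) (c : Cone D) :
    PB1 a.hom D c ↔ MB1 a D c := by
  constructor
  · intro h x i y hxy
    obtain ⟨j, φ, xj, h1, h2⟩ := h (ev x) i (ev y) (by
      rw [← ev_comp, hxy, ev_map])
    refine ⟨j, φ, ev.symm xj, ?_, ?_⟩
    · apply ev.injective
      rw [ev_map, Equiv.apply_symm_apply, h1]
    · apply ev.injective
      rw [ev_comp, Equiv.apply_symm_apply, h2, ev_map]
  · intro h x i y hxy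
    obtain ⟨j, φ, xj, h1, h2⟩ := h (ev.symm x) i (ev.symm y) (by
      apply ev.injective
      rw [ev_comp, ev_map, Equiv.apply_symm_apply, Equiv.apply_symm_apply, hxy])
    refine ⟨j, φ, ev xj, ?_, ?_⟩
    · rw [← ev_map, h1, Equiv.apply_symm_apply]
    · rw [← ev_comp, h2, ev_map, Equiv.apply_symm_apply]

lemma pb2_iff [IsCofiltered I] {F G : Sp S} (a : F ⟶ G) (D : I ⥤ Over S) (c : Cone D) :
    PB2 a.hom D c ↔ MB2 a D c := by
  constructor
  · intro h i x x' h1 h2
    obtain ⟨j, φ, h3⟩ := h i (ev x) (ev x') (by rw [← ev_map, ← ev_map, h1])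
      ⟨i, 𝟙 i, by rw [← ev_comp, ← ev_comp, h2]⟩
    refine ⟨j, φ, ?_⟩
    apply ev.injective
    rw [ev_map, ev_map, h3]
  · rintro h i x x' h1 ⟨j, φ, h2⟩
    obtain ⟨k, ψ, h3⟩ := h j ((yon S).map (D.map φ) ≫ ev.symm x)
      ((yon S).map (D.map φ) ≫ ev.symm x') (by
        rw [← Category.assoc, ← Category.assoc, ← Functor.map_comp, c.w]
        apply ev.injective
        rw [ev_map, ev_map, Equiv.apply_symm_apply, Equiv.apply_symm_apply, h1]) (by
        apply ev.injective
        rw [Category.assoc, Category.assoc, ev_map, ev_map, ev_comp (ev.symm x) a,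
          ev_comp (ev.symm x') a, Equiv.apply_symm_apply, Equiv.apply_symm_apply]
        exact h2)
    refine ⟨k, ψ ≫ φ, ?_⟩
    have h4 := congrArg ev h3
    rw [← Category.assoc, ← Category.assoc, ← Functor.map_comp, ← Functor.map_comp, ev_map, ev_map,
      Equiv.apply_symm_apply, Equiv.apply_symm_apply] at h4
    exact h4

/-- relative limit preservation for a morphism of sheaves, in terms of morphisms -/
theorem relLP_iff_MB {F G : Sp S} (a : F ⟶ G) :
    AlgSp.IsRelLimitPreserving a.hom ↔
      ∀ ⦃I : Type u⦄ [SmallCategory I] [IsCofiltered I] (D : I ⥤ Over S) (c : Cone D),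
        IsLimit ((Over.forget S).mapCone c) → (∀ i, IsAffine (D.obj i).left) →
          IsAffine c.pt.left → MB1 a D c ∧ MB2 a D c := by
  rw [relLP_iff_PB]
  constructor
  · intro h I _ _ D c hc hD hpt
    obtain ⟨h1, h2⟩ := h D c hc hD hpt
    exact ⟨(pb1_iff a D c).1 h1, (pb2_iff a D c).1 h2⟩
  · intro h I _ _ D c hc hD hpt
    obtain ⟨h1, h2⟩ := h D c hc hD hpt
    exact ⟨(pb1_iff a D c).2 h1, (pb2_iff a D c).2 h2⟩

section restrict

variable (D : I ⥤ Over S) (c : Cone D) (i : I)

/-- the system restricted to the indices over `i`, as a diagram of schemes -/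
abbrev Dr : Over i ⥤ Scheme.{u} := Over.forget i ⋙ D ⋙ Over.forget S

/-- the structure maps to the `i`-th term -/
def tr : Dr D i ⟶ (Functor.const (Over i)).obj (D.obj i).left where
  app k := (D.map k.hom).left
  naturality k k' m := by
    show (D.map m.left).left ≫ (D.map k'.hom).left = (D.map k.hom).left ≫ 𝟙 _
    rw [Category.comp_id, ← Over.comp_left, ← D.map_comp, CategoryTheory.Over.w]

/-- the restricted cone -/
abbrev cr : Cone (Dr D i) := ((Over.forget S).mapCone c).whisker (Over.forget i)

/-- the restricted cone is a limit cone -/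
noncomputable def hcr [IsCofiltered I] (hc : IsLimit ((Over.forget S).mapCone c)) :
    IsLimit (cr D c i) :=
  (Functor.Initial.isLimitWhiskerEquiv (Over.forget i) _).symm hc

end restrict

set_option backward.isDefEq.respectTransparency false in
/-- a representable morphism locally of finite presentation is relatively limit preserving -/
theorem MB_of_repWith_lfp [IsCofiltered I] {F G : Sp S} (a : F ⟶ G)
    (ha : RepWith @LocallyOfFinitePresentation a) (D : I ⥤ Over S) (c : Cone D)
    (hc : IsLimit ((Over.forget S).mapCone c)) (hD : ∀ i, IsAffine (D.obj i).left) :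
    MB1 a D c ∧ MB2 a D c := by
  have hr := ha.rep
  have inst1 : ∀ (i : I) (k : Over i), IsAffine ((Dr D i).obj k) := fun i k => hD k.left
  have inst2 : ∀ (i : I) {k k' : Over i} (m : k ⟶ k'), IsAffineHom ((Dr D i).map m) :=
    fun i {k k'} m => by
      haveI := inst1 i k
      haveI := inst1 i k'
      exact isAffineHom_of_isAffine _
  have inst3 : ∀ (i : I) (k : Over i), CompactSpace ((Dr D i).obj k) := fun i k => by
    haveI := inst1 i k
    infer_instance
  have inst4 : ∀ (i : I) (k : Over i), QuasiSeparatedSpace ((Dr D i).obj k) := fun i k => by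
    haveI := inst1 i k
    infer_instance
  constructor
  · intro x i y hxy
    let E := hr.pullback y
    let e : (yon S).obj E ⟶ F := hr.fst y
    let p : E ⟶ D.obj i := hr.snd y
    have sq : IsPullback e ((yon S).map p) a y := hr.isPullback y
    haveI hp : LocallyOfFinitePresentation p.left := ha.property y _ _ sq
    let σ : c.pt ⟶ E := hr.lift x (c.π.app i) hxy
    have hσ1 : (yon S).map σ ≫ e = x := hr.lift_fst _ _ _
    have hσ2 : σ ≫ p = c.π.app i := hr.lift_snd _ _ _
    haveI : ∀ {k k' : Over i} (m : k ⟶ k'), IsAffineHom ((Dr D i).map m) := fun m => inst2 i m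
    haveI := inst3 i
    haveI := inst4 i
    have har : (cr D c i).π ≫ tr D i = (Functor.const _).map (σ.left ≫ p.left) := by
      ext k
      show (c.π.app k.left).left ≫ (D.map k.hom).left = σ.left ≫ p.left
      rw [← Over.comp_left, ← Over.comp_left, c.w, hσ2]
    obtain ⟨k, gk, hk1, hk2⟩ := Scheme.exists_π_app_comp_eq_of_locallyOfFinitePresentation
      (Dr D i) (tr D i) p.left (cr D c i) (hcr D c i hc) σ.left har
    let gk' : D.obj k.left ⟶ E := Over.homMk gk (by
      have h1 : gk ≫ p.left = (D.map k.hom).left := hk2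
      rw [← CategoryTheory.Over.w p, ← Category.assoc, h1, CategoryTheory.Over.w])
    have hg1 : c.π.app k.left ≫ gk' = σ := by
      ext
      exact hk1
    have hg2 : gk' ≫ p = D.map k.hom := by
      ext
      exact hk2
    refine ⟨k.left, k.hom, (yon S).map gk' ≫ e, ?_, ?_⟩
    · rw [← Category.assoc, ← Functor.map_comp, hg1, hσ1]
    · rw [Category.assoc, sq.w, ← Category.assoc, ← Functor.map_comp, hg2]
  · intro i x x' h1 h2
    let y := x ≫ a
    let E := hr.pullback y
    let e : (yon S).obj E ⟶ F := hr.fst y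
    let p : E ⟶ D.obj i := hr.snd y
    have sq : IsPullback e ((yon S).map p) a y := hr.isPullback y
    haveI hp : LocallyOfFinitePresentation p.left := ha.property y _ _ sq
    let s : D.obj i ⟶ E := hr.lift x (𝟙 _) (by
      rw [CategoryTheory.Functor.map_id]; exact (Category.id_comp _).symm)
    let s' : D.obj i ⟶ E := hr.lift x' (𝟙 _) (by
      rw [CategoryTheory.Functor.map_id, ← h2]; exact (Category.id_comp _).symm)
    have hs1 : (yon S).map s ≫ e = x := hr.lift_fst _ _ _
    have hs2 : s ≫ p = 𝟙 _ := hr.lift_snd _ _ _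
    have hs1' : (yon S).map s' ≫ e = x' := hr.lift_fst _ _ _
    have hs2' : s' ≫ p = 𝟙 _ := hr.lift_snd _ _ _
    have hss : c.π.app i ≫ s = c.π.app i ≫ s' := by
      apply hr.hom_ext
      · show (yon S).map (c.π.app i ≫ s) ≫ e = (yon S).map (c.π.app i ≫ s') ≫ e
        rw [Functor.map_comp, Functor.map_comp, Category.assoc, Category.assoc, hs1, hs1', h1]
      · show (c.π.app i ≫ s) ≫ p = (c.π.app i ≫ s') ≫ p
        rw [Category.assoc, Category.assoc, hs2, hs2']
    haveI : ∀ {k k' : Over i} (m : k ⟶ k'), IsAffineHom ((Dr D i).map m) := fun m => inst2 i m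
    haveI := inst3 i
    haveI : LocallyOfFiniteType p.left := inferInstance
    obtain ⟨k, hik, hk⟩ := Scheme.exists_hom_comp_eq_comp_of_locallyOfFiniteType
      (Dr D i) (tr D i) p.left (cr D c i) (hcr D c i hc) (i := Over.mk (𝟙 i)) s.left s'.left
      (by
        show (D.map (𝟙 i)).left = s.left ≫ p.left
        rw [← Over.comp_left, hs2, D.map_id])
      (by
        show (D.map (𝟙 i)).left = s'.left ≫ p.left
        rw [← Over.comp_left, hs2', D.map_id])
      (congrArg (fun m => m.left) hss)
    have hk' : D.map hik.left ≫ s = D.map hik.left ≫ s' := by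
      ext
      exact hk
    refine ⟨k.left, hik.left, ?_⟩
    rw [← hs1, ← hs1', ← Category.assoc, ← Category.assoc, ← Functor.map_comp, ← Functor.map_comp,
      hk']

end Groth.Agent.Helper4.SN507
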