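import Groth.Agent.Helper4.SN507
import Groth.Agent.Helper4.SN508
import Mathlib

/-!
Etale descent of relative limit preservation (towards S10024).
-/

set_option autoImplicit false
universe u
open CategoryTheory CategoryTheory.Limits AlgebraicGeometry Opposite

namespace Groth.Agent.Helper4.SN509

open AlgSp Groth.Agent.Helper4.SN507 Groth.Agent.Helper4.SN508

/-- an affine étale refinement of an étale surjective morphism to a quasi-compact scheme -/
theorem exists_affine_etale_surj {P T : Scheme.{u}} (e : P ⟶ T) [Etale e] [Surjective e]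
    [CompactSpace T] :
    ∃ (W : Scheme.{u}) (w : W ⟶ P), IsAffine W ∧ Etale w ∧ Surjective (w ≫ e) := by
  have hopen : ∀ V : P.affineOpens, IsOpen (e '' (V.1 : Set P)) :=
    fun V => e.isOpenMap _ V.1.isOpen
  have hcov : (Set.univ : Set T) ⊆ ⋃ V : P.affineOpens, e '' (V.1 : Set P) := by
    intro z _
    obtain ⟨y, rfl⟩ := e.surjective z
    obtain ⟨A, hA, hyA, -⟩ :=
      (P.isBasis_affineOpens.exists_subset_of_mem_open (Set.mem_univ y) isOpen_univ)
    obtain ⟨W', hW, rfl⟩ := hA
    exact Set.mem_iUnion.2 ⟨⟨W', hW⟩, y, hyA, rfl⟩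
  obtain ⟨t, ht⟩ := isCompact_univ.elim_finite_subcover _ hopen hcov
  let Y : ↥t → Scheme.{u} := fun V => (V.1.1 : Scheme.{u})
  haveI : ∀ V : ↥t, IsAffine (Y V) := fun V => V.1.2
  let w : (∐ Y) ⟶ P := Sigma.desc (fun V : ↥t => V.1.1.ι)
  have hw : Etale w := IsZariskiLocalAtSource.sigmaDesc (fun V => inferInstance)
  have hwe : w ≫ e = Sigma.desc (fun V : ↥t => V.1.1.ι ≫ e) := by
    apply Sigma.hom_ext
    intro V
    rw [← Category.assoc, Sigma.ι_desc, Sigma.ι_desc]
  refine ⟨∐ Y, w, inferInstance, hw, ?_⟩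
  rw [hwe]
  apply Surjective.sigmaDesc_of_union_range_eq_univ
  apply Set.eq_univ_of_univ_subset
  intro z hz
  have hz' := ht hz
  simp only [Set.mem_iUnion] at hz'
  obtain ⟨V, hVt, y, hyV, rfl⟩ := hz'
  exact Set.mem_iUnion.2 ⟨⟨V, hVt⟩, ⟨y, hyV⟩, rfl⟩

variable {S : Scheme.{u}} {I : Type u} [SmallCategory I]

/-- lifting a section over an affine scheme to an atlas, after an affine étale cover -/
theorem exists_affine_lift {F : Sp S} {U' : Over S} (a : (yon S).obj U' ⟶ F)
    (hae : RepWith @Etale a) (has : RepWith @Surjective a) (T : Over S) (hT : IsAffine T.left)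
    (x : (yon S).obj T ⟶ F) :
    ∃ (V : Over S) (q : V ⟶ T) (u : V ⟶ U'), IsAffine V.left ∧ Etale q.left ∧ Surjective q.left ∧
      (yon S).map u ≫ a = (yon S).map q ≫ x := by
  have hr := hae.rep
  let E := hr.pullback x
  let e₁ : E ⟶ U' := hr.fst' x
  let p₁ : E ⟶ T := hr.snd x
  have sq : IsPullback ((yon S).map e₁) ((yon S).map p₁) a x := hr.isPullback' x
  haveI h1 : Etale p₁.left := hae.property x _ _ sq
  haveI h2 : Surjective p₁.left := has.property x _ _ sq
  obtain ⟨W, w, hW, hw, hws⟩ := exists_affine_etale_surj p₁.left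
  let V : Over S := Over.mk (w ≫ E.hom)
  let wV : V ⟶ E := Over.homMk w rfl
  refine ⟨V, wV ≫ p₁, wV ≫ e₁, hW, ?_, hws, ?_⟩
  · show Etale (w ≫ p₁.left)
    infer_instance
  · rw [Functor.map_comp, Functor.map_comp, Category.assoc, Category.assoc, sq.w]

/-- the hypothesis "relatively limit preserving" in morphism form, for all affine systems -/
def AllMB {F G : Sp S} (a : F ⟶ G) : Prop :=
  ∀ ⦃I' : Type u⦄ [SmallCategory I'] [IsCofiltered I'] (D' : I' ⥤ Over S) (c' : Cone D'),
    IsLimit ((Over.forget S).mapCone c') → (∀ i, IsAffine (D'.obj i).left) →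
      IsAffine c'.pt.left → MB1 a D' c' ∧ MB2 a D' c'

lemma allMB_yon_map {A B : Over S} (s : A ⟶ B) (hs : LocallyOfFinitePresentation s.left) :
    AllMB ((yon S).map s) := by
  intro I' _ _ D' c' hc' hD' _
  exact MB_of_repWith_lfp _ ((repWith_yon_map_iff @LocallyOfFinitePresentation s).2 hs) D' c' hc' hD'

set_option backward.isDefEq.respectTransparency false in
/-- étale descent of the injectivity part -/
theorem MB2_descent [IsCofiltered I] {F G : Sp S} (f : F ⟶ G) {U' : Over S}
    (a : (yon S).obj U' ⟶ F) (hae : RepWith @Etale a) (has : RepWith @Surjective a)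
    (haf : AllMB (a ≫ f)) (D : I ⥤ Over S) (c : Cone D)
    (hc : IsLimit ((Over.forget S).mapCone c)) (hD : ∀ i, IsAffine (D.obj i).left)
    (hpt : IsAffine c.pt.left) : MB2 f D c := by
  intro i x x' h1 h2
  have hr := hae.rep
  -- lift both sections to the atlas over an affine étale cover
  obtain ⟨V₁, q₁, u₁, hV₁, hq₁e, hq₁s, hu₁⟩ := exists_affine_lift a hae has (D.obj i) (hD i) x
  obtain ⟨V, q₂, u', hV, hq₂e, hq₂s, hu'⟩ :=
    exists_affine_lift a hae has V₁ hV₁ ((yon S).map q₁ ≫ x')
  obtain ⟨q, hq_def⟩ : ∃ q : V ⟶ D.obj i, q = q₂ ≫ q₁ := ⟨_, rfl⟩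
  obtain ⟨u, hu_def⟩ : ∃ u : V ⟶ U', u = q₂ ≫ u₁ := ⟨_, rfl⟩
  have hu : (yon S).map u ≫ a = (yon S).map q ≫ x := by
    rw [hu_def, hq_def, Functor.map_comp, Functor.map_comp, Category.assoc, Category.assoc, hu₁]
  have hu'' : (yon S).map u' ≫ a = (yon S).map q ≫ x' := by
    rw [hu', hq_def, Functor.map_comp, Category.assoc]
  haveI hqe : Etale q.left := by
    rw [hq_def]
    show Etale (q₂.left ≫ q₁.left)
    infer_instance
  haveI hqs : Surjective q.left := by
    rw [hq_def]
    show Surjective (q₂.left ≫ q₁.left)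
    infer_instance
  -- the base-changed system
  have hbc := bcIsLimit D c i q hc
  have hbcD : ∀ k : Over i, IsAffine ((bcD D i q).obj k).left := fun k =>
    isAffine_pullback_left _ _ (hD k.left) hV (hD i)
  have hbcpt : IsAffine (bcC D c i q).pt.left := isAffine_pullback_left _ _ hpt hV (hD i)
  -- the relation
  let R' := hr.pullback a
  let s : R' ⟶ U' := hr.fst' a
  let t : R' ⟶ U' := hr.snd a
  have sqR : IsPullback ((yon S).map s) ((yon S).map t) a a := hr.isPullback' a
  haveI hs : Etale s.left := by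
    have := hae.property a _ _ sqR.flip
    exact this
  have hcond : (yon S).map (pullback.snd (c.π.app i) q ≫ u) ≫ a =
      (yon S).map (pullback.snd (c.π.app i) q ≫ u') ≫ a := by
    rw [Functor.map_comp, Functor.map_comp, Category.assoc, Category.assoc, hu, hu'',
      ← Category.assoc, ← Category.assoc, ← Functor.map_comp, ← pullback.condition,
      Functor.map_comp, Category.assoc, Category.assoc, h1]
  let r : (bcC D c i q).pt ⟶ R' := hr.lift' _ _ hcond
  have hr1 : r ≫ s = pullback.snd (c.π.app i) q ≫ u := hr.lift'_fst _ _ _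
  have hr2 : r ≫ t = pullback.snd (c.π.app i) q ≫ u' := hr.lift'_snd _ _ _
  -- descend `r` to a finite level
  have hslfp : LocallyOfFinitePresentation s.left := inferInstance
  obtain ⟨k, φ, xk, hxk1, hxk2⟩ := (allMB_yon_map s hslfp (bcD D i q) (bcC D c i q) hbc hbcD
    hbcpt).1 ((yon S).map r) (Over.mk (𝟙 i))
    ((yon S).map (pullback.snd (D.map (𝟙 i)) q ≫ u)) (by
      rw [← Functor.map_comp, ← Functor.map_comp, hr1, ← Category.assoc]
      congr 2
      exact (bcC_π_snd D c i q (Over.mk (𝟙 i))).symm)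
  obtain ⟨rk, rfl⟩ := (yon S).map_surjective xk
  have hrk1 : (bcC D c i q).π.app k ≫ rk = r := by
    apply (yon S).map_injective
    rw [Functor.map_comp]
    exact hxk1
  have hrk2 : rk ≫ s = pullback.snd (D.map k.hom) q ≫ u := by
    apply (yon S).map_injective
    rw [Functor.map_comp, hxk2, ← Functor.map_comp, ← Category.assoc]
    congr 2
    exact bcD_map_snd D i q φ
  -- compare `rk ≫ t` with `u'`
  obtain ⟨l, ψ, hl⟩ := (haf (bcD D i q) (bcC D c i q) hbc hbcD hbcpt).2 k
    ((yon S).map (rk ≫ t)) ((yon S).map (pullback.snd (D.map k.hom) q ≫ u')) (by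
      rw [← Functor.map_comp, ← Functor.map_comp, ← Category.assoc, hrk1, hr2, ← Category.assoc]
      congr 2
      exact (bcC_π_snd D c i q k).symm) (by
      rw [Functor.map_comp, Category.assoc, ← Category.assoc ((yon S).map t), ← sqR.w,
        Category.assoc, ← Category.assoc, ← Functor.map_comp, hrk2, Functor.map_comp,
        Functor.map_comp, Category.assoc, Category.assoc, ← Category.assoc ((yon S).map u),
        ← Category.assoc ((yon S).map u'), hu, hu'', Category.assoc, Category.assoc, h2])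
  have hl' : (bcD D i q).map ψ ≫ rk ≫ t = pullback.snd (D.map l.hom) q ≫ u' := by
    apply (yon S).map_injective
    rw [Functor.map_comp, hl, ← Functor.map_comp, ← Category.assoc]
    congr 2
    exact bcD_map_snd D i q ψ
  have hl'' : (bcD D i q).map ψ ≫ rk ≫ s = pullback.snd (D.map l.hom) q ≫ u := by
    rw [hrk2, ← Category.assoc]
    congr 1
    exact bcD_map_snd D i q ψ
  refine ⟨l.left, l.hom, ?_⟩
  haveI : Etale (pullback.fst (D.map l.hom) q).left := prop_fst_left @Etale _ _ hqe
  haveI : Surjective (pullback.fst (D.map l.hom) q).left := prop_fst_left @Surjective _ _ hqs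
  apply Groth.Agent.Helper4.AlgSpBasic.yon_map_cancel (pullback.fst (D.map l.hom) q)
  rw [← Category.assoc, ← Category.assoc, ← Functor.map_comp, pullback.condition,
    Functor.map_comp, Category.assoc, Category.assoc, ← hu, ← hu'', ← Category.assoc,
    ← Category.assoc, ← Functor.map_comp, ← Functor.map_comp, ← hl', ← hl'', Functor.map_comp,
    Functor.map_comp, Functor.map_comp, Functor.map_comp, Category.assoc, Category.assoc,
    Category.assoc, Category.assoc, sqR.w]

end Groth.Agent.Helper4.SN509
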