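import Groth.Agent.Lead.LimExistOver
import Groth.Agent.Lead.LimSurj
import Mathlib

/-!
Descent of an étale surjective cover of the limit of an affine system to a finite stage
(towards S10024).
-/

set_option autoImplicit false
universe u
open CategoryTheory CategoryTheory.Limits AlgebraicGeometry Opposite

namespace Groth.Agent.Helper4.SN510

open Groth.Agent.Lead.LimExist Groth.Agent.Lead.LimFrame Groth.Agent.Lead.LimRed

variable {I : Type u} [SmallCategory I] [IsCofiltered I] {D : I ⥤ Scheme.{u}} {c : Cone D}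

set_option backward.isDefEq.respectTransparency false in
/-- an étale surjective qcqs cover of the limit descends to a finite stage -/
theorem exists_cover_model (hc : IsLimit c) (hD : ∀ i, IsAffine (D.obj i)) (i₀ : I)
    {X : Scheme.{u}} (f : X ⟶ c.pt) [Etale f] [Surjective f] [CompactSpace X]
    [QuasiSeparatedSpace X] :
    ∃ (j : I) (_ : j ⟶ i₀) (Xj : Scheme.{u}) (fj : Xj ⟶ D.obj j) (g : X ⟶ Xj),
      IsPullback g f fj (c.π.app j) ∧ Etale fj ∧ Surjective fj := by
  haveI : ∀ {i j : I} (φ : i ⟶ j), IsAffineHom (D.map φ) := fun {i j} φ => by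
    haveI := hD i
    haveI := hD j
    exact isAffineHom_of_isAffine _
  haveI : LocallyOfFinitePresentation f := inferInstance
  obtain ⟨j, φ, M, hM⟩ := exists_model_prop_over hc @Etale i₀
    (fun k _ X₀ f₀ _ _ _ h => Groth.Agent.Lead.LimSmooth.etale_descends hc k (𝟙 _) f₀ h) f
    inferInstance
  haveI : Etale M.fi := hM
  have h1 : Surjective (limMap D c j M.fi (𝟙 _)) :=
    (lim_in j (𝟙 _) M.fi @Surjective (IsPullback.id_vert (c.π.app j)) M.sq).mp inferInstance
  haveI := hD j
  haveI : LocallyOfFinitePresentation (M.fi ≫ 𝟙 (D.obj j)) := by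
    rw [Category.comp_id]; infer_instance
  haveI : QuasiCompact (M.fi ≫ 𝟙 (D.obj j)) := by
    rw [Category.comp_id]
    exact HasAffineProperty.iff_of_isAffine.mpr M.cpt
  obtain ⟨⟨kl, ⟨⟨⟩⟩, kh⟩, hk⟩ := Groth.Agent.Lead.LimSurj.surjective_descends hc j (𝟙 _) M.fi h1
  have hs : Surjective (M.rebase (Over.mk kh)).fi :=
    (stage_in j (𝟙 _) M.fi @Surjective kh (IsPullback.id_vert (D.map kh))
      (IsPullback.of_hasPullback (D.map kh) M.fi).flip).mpr hk
  refine ⟨kl, kh ≫ φ, (M.rebase (Over.mk kh)).Xi, (M.rebase (Over.mk kh)).fi,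
    (M.rebase (Over.mk kh)).g, (M.rebase (Over.mk kh)).sq, ?_, hs⟩
  show Etale (pullback.fst (D.map kh) M.fi)
  infer_instance

end Groth.Agent.Helper4.SN510
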