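import Groth.Agent.Helper4.SN509
import Groth.Agent.Helper4.SN510
import Mathlib

/-!
Etale descent of relative limit preservation: the surjectivity part (towards S10024).
-/

set_option autoImplicit false
universe u
open CategoryTheory CategoryTheory.Limits AlgebraicGeometry Opposite

namespace Groth.Agent.Helper4.SN511

open AlgSp Groth.Agent.Helper4.SN507 Groth.Agent.Helper4.SN508 Groth.Agent.Helper4.SN509
open Groth.Agent.Helper4.AlgSpBasic

variable {S : Scheme.{u}} {I : Type u} [SmallCategory I]

/-- the injectivity part for all affine systems -/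
def AllMB2 {F G : Sp S} (a : F ⟶ G) : Prop :=
  ∀ ⦃I' : Type u⦄ [SmallCategory I'] [IsCofiltered I'] (D' : I' ⥤ Over S) (c' : Cone D'),
    IsLimit ((Over.forget S).mapCone c') → (∀ i, IsAffine (D'.obj i).left) →
      IsAffine c'.pt.left → MB2 a D' c'

set_option backward.isDefEq.respectTransparency false in
/-- gluing at a finite stage a section given on an étale cover of that stage -/
theorem glue_stage [IsCofiltered I] {F G : Sp S} (f : F ⟶ G) (hf2 : AllMB2 f)
    (D : I ⥤ Over S) (c : Cone D) (hc : IsLimit ((Over.forget S).mapCone c))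
    (hD : ∀ i, IsAffine (D.obj i).left) (hpt : IsAffine c.pt.left) (k : I) {V : Over S}
    (q : V ⟶ D.obj k) (hV : IsAffine V.left) (hqe : Etale q.left) (hqs : Surjective q.left)
    (x' : (yon S).obj V ⟶ F) (x : (yon S).obj c.pt ⟶ F) (y : (yon S).obj (D.obj k) ⟶ G)
    (ha : (yon S).map (pullback.snd (c.π.app k) q) ≫ x' =
      (yon S).map (pullback.fst (c.π.app k) q) ≫ x)
    (hb : x' ≫ f = (yon S).map q ≫ y) :
    ∃ (m : Over k) (xm : (yon S).obj (D.obj m.left) ⟶ F),
      (yon S).map (c.π.app m.left) ≫ xm = x ∧ xm ≫ f = (yon S).map (D.map m.hom) ≫ y := by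
  let R : Over S := pullback q q
  let p₁ : R ⟶ V := pullback.fst q q
  let p₂ : R ⟶ V := pullback.snd q q
  have hcondR : p₁ ≫ q = p₂ ≫ q := pullback.condition
  obtain ⟨ρ, hρ⟩ : ∃ ρ : R ⟶ D.obj k, ρ = p₁ ≫ q := ⟨_, rfl⟩
  have hρ' : ρ = p₂ ≫ q := hρ.trans hcondR
  have hR : IsAffine R.left := isAffine_pullback_left q q hV hV (hD k)
  have hbc := bcIsLimit D c k ρ hc
  have hbcD : ∀ m : Over k, IsAffine ((bcD D k ρ).obj m).left := fun m =>
    isAffine_pullback_left _ _ (hD m.left) hR (hD k)
  have hbcpt : IsAffine (bcC D c k ρ).pt.left := isAffine_pullback_left _ _ hpt hR (hD k)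
  -- the two pullbacks agree on the limit
  have key : ∀ (p : R ⟶ V), ρ = p ≫ q →
      (yon S).map (pullback.snd (c.π.app k) ρ ≫ p) ≫ x' =
        (yon S).map (pullback.fst (c.π.app k) ρ) ≫ x := by
    intro p hp
    let g : pullback (c.π.app k) ρ ⟶ pullback (c.π.app k) q :=
      pullback.lift (pullback.fst (c.π.app k) ρ) (pullback.snd (c.π.app k) ρ ≫ p) (by
        rw [pullback.condition, hp, Category.assoc])
    have hg1 : g ≫ pullback.fst (c.π.app k) q = pullback.fst (c.π.app k) ρ :=
      pullback.lift_fst _ _ _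
    have hg2 : g ≫ pullback.snd (c.π.app k) q = pullback.snd (c.π.app k) ρ ≫ p :=
      pullback.lift_snd _ _ _
    rw [← hg2, ← hg1, Functor.map_comp, Functor.map_comp, Category.assoc, Category.assoc, ha]
  obtain ⟨m, χ, hm⟩ := hf2 (bcD D k ρ) (bcC D c k ρ) hbc hbcD hbcpt (Over.mk (𝟙 k))
    ((yon S).map (pullback.snd (D.map (𝟙 k)) ρ ≫ p₁) ≫ x')
    ((yon S).map (pullback.snd (D.map (𝟙 k)) ρ ≫ p₂) ≫ x') (by
      have e : (bcC D c k ρ).π.app (Over.mk (𝟙 k)) ≫ pullback.snd (D.map (𝟙 k)) ρ =
          pullback.snd (c.π.app k) ρ := bcC_π_snd D c k ρ (Over.mk (𝟙 k))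
      rw [← Category.assoc, ← Category.assoc, ← Functor.map_comp, ← Functor.map_comp,
        ← Category.assoc, ← Category.assoc, e, key p₁ hρ, key p₂ hρ']) (by
      rw [Category.assoc, Category.assoc, hb, ← Category.assoc, ← Category.assoc,
        ← Functor.map_comp, ← Functor.map_comp, Category.assoc, Category.assoc, hcondR])
  have hsm : ∀ p : R ⟶ V, (bcD D k ρ).map χ ≫ pullback.snd (D.map (𝟙 k)) ρ ≫ p =
      pullback.snd (D.map m.hom) ρ ≫ p := by
    intro p
    rw [← Category.assoc]
    congr 1
    exact bcD_map_snd D k ρ χ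
  have hstar : (yon S).map (pullback.snd (D.map m.hom) ρ ≫ p₁) ≫ x' =
      (yon S).map (pullback.snd (D.map m.hom) ρ ≫ p₂) ≫ x' := by
    rw [← hsm p₁, ← hsm p₂, Functor.map_comp, Functor.map_comp, Category.assoc, Category.assoc]
    exact hm
  -- glue
  haveI : Etale (pullback.fst (D.map m.hom) q).left := prop_fst_left @Etale _ _ hqe
  haveI : Surjective (pullback.fst (D.map m.hom) q).left := prop_fst_left @Surjective _ _ hqs
  obtain ⟨xm, hxm⟩ := yon_map_glue (pullback.fst (D.map m.hom) q)
    ((yon S).map (pullback.snd (D.map m.hom) q) ≫ x') (by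
      intro Z g₁ g₂ hg
      have hc0 : (g₁ ≫ pullback.snd (D.map m.hom) q) ≫ q =
          (g₂ ≫ pullback.snd (D.map m.hom) q) ≫ q := by
        rw [Category.assoc, Category.assoc, ← pullback.condition, ← Category.assoc,
          ← Category.assoc, hg]
      let w₀ : Z ⟶ R := pullback.lift (g₁ ≫ pullback.snd (D.map m.hom) q)
        (g₂ ≫ pullback.snd (D.map m.hom) q) hc0
      have hw₀1 : w₀ ≫ p₁ = g₁ ≫ pullback.snd (D.map m.hom) q := pullback.lift_fst _ _ _
      have hw₀2 : w₀ ≫ p₂ = g₂ ≫ pullback.snd (D.map m.hom) q := pullback.lift_snd _ _ _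
      let w : Z ⟶ pullback (D.map m.hom) ρ :=
        pullback.lift (g₁ ≫ pullback.fst (D.map m.hom) q) w₀ (by
          rw [hρ, ← Category.assoc, hw₀1, Category.assoc, Category.assoc, pullback.condition])
      have hw : w ≫ pullback.snd (D.map m.hom) ρ = w₀ := pullback.lift_snd _ _ _
      rw [← Category.assoc, ← Category.assoc, ← Functor.map_comp, ← Functor.map_comp, ← hw₀1,
        ← hw₀2, ← hw, Category.assoc, Category.assoc, Functor.map_comp, Category.assoc, hstar,
        ← Category.assoc, ← Functor.map_comp])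
  refine ⟨m, xm, ?_, ?_⟩
  · haveI : Etale (pullback.fst (c.π.app k) q).left := prop_fst_left @Etale _ _ hqe
    haveI : Surjective (pullback.fst (c.π.app k) q).left := prop_fst_left @Surjective _ _ hqs
    apply yon_map_cancel (pullback.fst (c.π.app k) q)
    rw [← Category.assoc, ← Functor.map_comp, ← bcC_π_fst D c k q m, Functor.map_comp,
      Category.assoc, hxm, ← Category.assoc, ← Functor.map_comp, bcC_π_snd D c k q m, ha]
  · apply yon_map_cancel (pullback.fst (D.map m.hom) q)
    rw [← Category.assoc, hxm, Category.assoc, hb, ← Category.assoc, ← Functor.map_comp,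
      ← pullback.condition, Functor.map_comp, Category.assoc]

set_option backward.isDefEq.respectTransparency false in
/-- étale descent of the surjectivity part -/
theorem MB1_descent [IsCofiltered I] {F G : Sp S} (f : F ⟶ G) {U' : Over S}
    (a : (yon S).obj U' ⟶ F) (hae : RepWith @Etale a) (has : RepWith @Surjective a)
    (haf : AllMB (a ≫ f)) (D : I ⥤ Over S) (c : Cone D)
    (hc : IsLimit ((Over.forget S).mapCone c)) (hD : ∀ i, IsAffine (D.obj i).left)
    (hpt : IsAffine c.pt.left) : MB1 f D c := by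
  intro x i y hxy
  have hf2 : AllMB2 f := fun I' _ _ D' c' hc' hD' hpt' =>
    MB2_descent f a hae has haf D' c' hc' hD' hpt'
  -- lift `x` to the atlas on an affine étale cover of the limit
  obtain ⟨Vinf, qinf, uinf, hVinf, hqe, hqs, huinf⟩ := exists_affine_lift a hae has c.pt hpt x
  -- descend the cover to a finite stage
  haveI := hVinf
  haveI := hqe
  haveI := hqs
  have hDs : ∀ j, IsAffine ((D ⋙ Over.forget S).obj j) := hD
  obtain ⟨k, φ, Xk, fk, g, sq, hfe, hfs⟩ := Groth.Agent.Helper4.SN510.exists_cover_model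
    (D := D ⋙ Over.forget S) (c := (Over.forget S).mapCone c) hc hDs i qinf.left
  haveI := hD k
  haveI := hfe
  haveI := hfs
  haveI : CompactSpace ((D ⋙ Over.forget S).obj k) := by
    show CompactSpace (D.obj k).left
    infer_instance
  obtain ⟨W, w, hW, hwe, hws⟩ := exists_affine_etale_surj fk
  let Vk : Over S := Over.mk (w ≫ fk ≫ (D.obj k).hom)
  let qk : Vk ⟶ D.obj k := Over.homMk (w ≫ fk) (by simp [Vk])
  have hqke : Etale qk.left := by
    show Etale (w ≫ fk)
    infer_instance
  have hqks : Surjective qk.left := hws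
  have hVk : IsAffine Vk.left := hW
  -- the base change of the descended cover maps to the original one
  have hcondP : ((pullback.snd (c.π.app k) qk).left ≫ w) ≫ fk =
      (pullback.fst (c.π.app k) qk).left ≫ (c.π.app k).left := by
    have := congrArg (fun m => m.left) (pullback.condition (f := c.π.app k) (g := qk))
    rw [Category.assoc]
    exact this.symm
  let ℓ0 : (pullback (c.π.app k) qk).left ⟶ Vinf.left :=
    sq.lift ((pullback.snd (c.π.app k) qk).left ≫ w) (pullback.fst (c.π.app k) qk).left hcondP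
  have hℓ0 : ℓ0 ≫ qinf.left = (pullback.fst (c.π.app k) qk).left := sq.lift_snd _ _ _
  let ℓ : pullback (c.π.app k) qk ⟶ Vinf := Over.homMk ℓ0 (by
    rw [← CategoryTheory.Over.w qinf, ← Category.assoc, hℓ0]
    exact CategoryTheory.Over.w (pullback.fst (c.π.app k) qk))
  have hℓ : ℓ ≫ qinf = pullback.fst (c.π.app k) qk := by
    ext
    exact hℓ0
  -- descend the lift to a finite stage of the base-changed system
  have hbc := bcIsLimit D c k qk hc
  have hbcD : ∀ m : Over k, IsAffine ((bcD D k qk).obj m).left := fun m =>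
    isAffine_pullback_left _ _ (hD m.left) hVk (hD k)
  have hbcpt : IsAffine (bcC D c k qk).pt.left := isAffine_pullback_left _ _ hpt hVk (hD k)
  obtain ⟨l, ψ, xl, hxl1, hxl2⟩ := (haf (bcD D k qk) (bcC D c k qk) hbc hbcD hbcpt).1
    ((yon S).map (ℓ ≫ uinf)) (Over.mk (𝟙 k))
    ((yon S).map (pullback.fst (D.map (𝟙 k)) qk ≫ D.map φ) ≫ y) (by
      have e : (bcC D c k qk).π.app (Over.mk (𝟙 k)) ≫ pullback.fst (D.map (𝟙 k)) qk =
          pullback.fst (c.π.app k) qk ≫ c.π.app k := bcC_π_fst D c k qk (Over.mk (𝟙 k))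
      rw [Functor.map_comp, Category.assoc, ← Category.assoc ((yon S).map uinf), huinf,
        Category.assoc, ← Category.assoc, ← Functor.map_comp, hℓ, hxy, ← Category.assoc,
        ← Category.assoc, ← Functor.map_comp, ← Functor.map_comp, ← Category.assoc, e,
        Category.assoc, c.w])
  obtain ⟨ul, rfl⟩ := (yon S).map_surjective xl
  have hψ : ψ.left = l.hom := by
    have := CategoryTheory.Over.w ψ
    simpa using this
  -- glue at a later stage
  have hVl : IsAffine (pullback (D.map l.hom) qk).left :=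
    isAffine_pullback_left _ _ (hD l.left) hVk (hD k)
  have hple : Etale (pullback.fst (D.map l.hom) qk).left := prop_fst_left @Etale _ _ hqke
  have hpls : Surjective (pullback.fst (D.map l.hom) qk).left :=
    prop_fst_left @Surjective _ _ hqks
  obtain ⟨m, xm, hm1, hm2⟩ := glue_stage f hf2 D c hc hD hpt l.left
    (pullback.fst (D.map l.hom) qk) hVl hple hpls ((yon S).map ul ≫ a) x
    ((yon S).map (D.map (l.hom ≫ φ)) ≫ y) (by
      let γ : pullback (c.π.app l.left) (pullback.fst (D.map l.hom) qk) ⟶
          pullback (c.π.app k) qk :=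
        pullback.lift (pullback.fst _ _) (pullback.snd _ _ ≫ pullback.snd (D.map l.hom) qk) (by
          rw [← c.w l.hom, ← Category.assoc, pullback.condition, Category.assoc, Category.assoc,
            pullback.condition])
      have hγ1 : γ ≫ pullback.fst (c.π.app k) qk = pullback.fst _ _ := pullback.lift_fst _ _ _
      have hγ2 : γ ≫ pullback.snd (c.π.app k) qk =
          pullback.snd _ _ ≫ pullback.snd (D.map l.hom) qk := pullback.lift_snd _ _ _
      have hγ3 : γ ≫ (bcC D c k qk).π.app l =
          pullback.snd (c.π.app l.left) (pullback.fst (D.map l.hom) qk) := by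
        refine pullback.hom_ext (f := D.map l.hom) (g := qk) ?_ ?_
        · rw [Category.assoc, bcC_π_fst D c k qk l, ← Category.assoc, hγ1, pullback.condition]
        · rw [Category.assoc, bcC_π_snd D c k qk l, hγ2]
      rw [← hγ3, Functor.map_comp, Category.assoc, ← Category.assoc ((yon S).map _)
        ((yon S).map ul), hxl1, Functor.map_comp, Category.assoc, huinf, ← Category.assoc,
        ← Category.assoc, ← Functor.map_comp, ← Functor.map_comp, Category.assoc, hℓ, hγ1]) (by
      have e : (bcD D k qk).map ψ ≫ pullback.fst (D.map (𝟙 k)) qk =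
          pullback.fst (D.map l.hom) qk ≫ D.map ψ.left := bcD_map_fst D k qk ψ
      rw [Category.assoc, hxl2, ← Category.assoc, ← Functor.map_comp, ← Category.assoc, e, hψ,
        Category.assoc, ← D.map_comp, ← Category.assoc, ← Functor.map_comp])
  refine ⟨m.left, m.hom ≫ l.hom ≫ φ, xm, hm1, ?_⟩
  rw [hm2, ← Category.assoc, ← Functor.map_comp, ← D.map_comp]

end Groth.Agent.Helper4.SN511
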