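import Groth.Agent.Helper4.SN511
import Groth.Agent.Helper4.SN495
import Mathlib

/-!
A morphism of algebraic spaces is locally of finite presentation iff it is relatively limit
preserving (S10024).
-/

set_option autoImplicit false
universe u
open CategoryTheory CategoryTheory.Limits AlgebraicGeometry Opposite

namespace Groth.Agent.Helper4.SN512

open AlgSp Groth.Agent.Helper4.SN507 Groth.Agent.Helper4.SN508 Groth.Agent.Helper4.SN509
open Groth.Agent.Helper4.SN511 Groth.Agent.Helper6.RelLP

variable {S : Scheme.{u}}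

lemma allMB_iff {F G : Sp S} (a : F ⟶ G) : AllMB a ↔ AlgSp.IsRelLimitPreserving a.hom :=
  (relLP_iff_MB a).symm

/-- étale descent of relative limit preservation along an atlas of the source -/
theorem allMB_of_atlas {F G : Sp S} (f : F ⟶ G) {U' : Over S} (a : (yon S).obj U' ⟶ F)
    (hae : RepWith @Etale a) (has : RepWith @Surjective a) (haf : AllMB (a ≫ f)) : AllMB f := by
  intro I' _ _ D c hc hD hpt
  exact ⟨MB1_descent f a hae has haf D c hc hD hpt, MB2_descent f a hae has haf D c hc hD hpt⟩

lemma allMB_of_repWith_etale {F G : Sp S} (b : F ⟶ G) (hb : RepWith @Etale b) : AllMB b := by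
  intro I' _ _ D c hc hD _
  refine MB_of_repWith_lfp b ?_ D c hc hD
  refine MorphismProperty.relative_monotone ?_ _ hb
  intro A B g hg
  have : Etale g.left := hg
  exact (inferInstance : LocallyOfFinitePresentation g.left)

set_option backward.isDefEq.respectTransparency false in
theorem main (S : Scheme.{u}) {X Y : AlgSp.Space S} (f : X ⟶ Y) :
    AlgSp.LocP @LocallyOfFinitePresentation f.hom ↔ AlgSp.IsRelLimitPreserving f.hom.hom := by
  constructor
  · intro hloc
    obtain ⟨V, b, hbe, hbs⟩ := Y.property.atlas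
    obtain ⟨U, a₀, ha₀e, ha₀s⟩ := X.property.atlas
    have hr := hbe.rep
    let U' := hr.pullback (a₀ ≫ f.hom)
    let h : U' ⟶ V := hr.fst' (a₀ ≫ f.hom)
    let pr : U' ⟶ U := hr.snd (a₀ ≫ f.hom)
    have sq : IsPullback ((yon S).map h) ((yon S).map pr) b (a₀ ≫ f.hom) :=
      hr.isPullback' (a₀ ≫ f.hom)
    have hpre : Etale pr.left := hbe.property _ _ _ sq
    have hprs : Surjective pr.left := hbs.property _ _ _ sq
    have hae : RepWith @Etale ((yon S).map pr ≫ a₀) :=
      (RepWith @Etale).comp_mem _ _ ((repWith_yon_map_iff @Etale pr).2 hpre) ha₀e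
    have has : RepWith @Surjective ((yon S).map pr ≫ a₀) :=
      (RepWith @Surjective).comp_mem _ _ ((repWith_yon_map_iff @Surjective pr).2 hprs) ha₀s
    have comm : ((yon S).map pr ≫ a₀) ≫ f.hom = (yon S).map h ≫ b := by
      rw [Category.assoc]
      exact sq.w.symm
    have hlfp : LocallyOfFinitePresentation h.left := hloc _ b h hae hbe comm
    have h1 : AllMB ((yon S).map h) := allMB_yon_map h hlfp
    have h2 : AllMB b := allMB_of_repWith_etale b hbe
    have h3 : AllMB (((yon S).map pr ≫ a₀) ≫ f.hom) := by
      rw [comm, allMB_iff]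
      exact relLP_comp _ _ ((allMB_iff _).1 h1) ((allMB_iff _).1 h2)
    exact (allMB_iff _).1 (allMB_of_atlas f.hom _ hae has h3)
  · intro hrel
    have hall : AllMB f.hom := (allMB_iff _).2 hrel
    apply Groth.Agent.Helper4.SN495.main S f
    intro I _ _ D c hc hD hpt x i y hxy
    exact (hall D c hc hD hpt).1 x i y hxy

end Groth.Agent.Helper4.SN512
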