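import Groth.Agent.Helper4.SN520
import Mathlib

/-!
Limit preservation of a sheaf is local on the base (towards S10030).
-/

set_option autoImplicit false
universe u
open CategoryTheory CategoryTheory.Limits AlgebraicGeometry Opposite

namespace Groth.Agent.Helper4.SN521

open AlgSp GrothendieckTopology Groth.Agent.Helper4.SN508 Groth.Agent.Helper4.SN513
  Groth.Agent.Helper4.SN514 Groth.Agent.Helper4.SN515 Groth.Agent.Helper4.SN516
  Groth.Agent.Helper4.SN517 Groth.Agent.Helper4.SN518 Groth.Agent.Helper4.SN519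
  Groth.Agent.Helper6.RelLP

variable {S : Scheme.{u}} {Q : MorphismProperty Scheme.{u}}

/-- `gen_mem` for index types in any universe -/
theorem gen_mem' {T : Over S} {ι : Type*} (W : ι → Over S) (w : ∀ δ, W δ ⟶ T)
    (hQ : ∀ δ, Q (w δ).left) (hs : ∀ t : T.left, ∃ δ, t ∈ Set.range (w δ).left) :
    Sieve.generate (Presieve.ofArrows W w) ∈ JQ Q S T := by
  rw [GrothendieckTopology.mem_over_iff]
  refine GrothendieckTopology.superset_covering _ ?_
    (Precoverage.generate_mem_toGrothendieck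
      (R := Presieve.ofArrows (fun δ => (W δ).left) (fun δ => (w δ).left))
      ((Scheme.ofArrows_mem_precoverage_iff Q).2 ⟨hs, hQ⟩))
  rw [Sieve.generate_le_iff]
  rintro _ _ ⟨δ⟩
  rw [Sieve.overEquiv_iff]
  exact ⟨W δ, Over.homMk (𝟙 _) (by simp), w δ, ⟨δ⟩, by ext; simp⟩

lemma exists_fac' {T : Over S} {ι : Type*} {W : ι → Over S} {w : ∀ δ, W δ ⟶ T} {Y : Over S}
    {f : Y ⟶ T} (hf : (Sieve.generate (Presieve.ofArrows W w)).arrows f) :
    ∃ (δ : ι) (z : Y ⟶ W δ), z ≫ w δ = f := by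
  obtain ⟨Z, h, g, ⟨δ⟩, hh⟩ := hf
  exact ⟨δ, h, hh⟩

/-- a finite affine refinement of the pullback of a covering of the base -/
theorem exists_fin_affine_over (hQ : GoodQ Q) {ι : Type u} (U : ι → Over S)
    (hUQ : ∀ j, Q (U j).hom) (hsurj : ∀ s : ↥S, ∃ (j : ι) (x : ↥(U j).left), (U j).hom.base x = s)
    (T : Over S) (hT : CompactSpace T.left) :
    ∃ (n : ℕ) (W : Fin n → Over S) (w : ∀ δ, W δ ⟶ T) (j : Fin n → ι) (_ : ∀ δ, W δ ⟶ U (j δ)),
      (∀ δ, IsAffine (W δ).left) ∧ (∀ δ, Q (w δ).left) ∧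
        (∀ t : T.left, ∃ δ, t ∈ Set.range (w δ).left) := by
  let tU : ∀ j, U j ⟶ Over.mk (𝟙 S) := fun j => Over.homMk (U j).hom
  let tT : T ⟶ Over.mk (𝟙 S) := Over.homMk T.hom
  have h0 : Sieve.generate (Presieve.ofArrows U tU) ∈ JQ Q S (Over.mk (𝟙 S)) :=
    gen_mem' U tU hUQ (fun s => by
      obtain ⟨j, x, hx⟩ := hsurj s
      exact ⟨j, x, hx⟩)
  have h1 := (JQ Q S).pullback_stable tT h0
  obtain ⟨n, W, w, hW, hwQ, hs, hR⟩ := exists_fin_affine_le hQ hT _ h1
  have key : ∀ δ, ∃ (j : ι), Nonempty (W δ ⟶ U j) := fun δ => by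
    obtain ⟨j, z, -⟩ := exists_fac' (hR δ)
    exact ⟨j, ⟨z⟩⟩
  choose j hj using key
  exact ⟨n, W, w, j, fun δ => (hj δ).some, hW, hwQ, hs⟩

section sheaf

variable {F : PSp S} (hF : Presheaf.IsSheaf (JQ Q S) F)

include hF in
/-- separatedness with respect to a covering family -/
theorem sheaf_sep {T : Over S} {ι : Type} {W : ι → Over S} {w : ∀ δ, W δ ⟶ T}
    (hcov : Sieve.generate (Presieve.ofArrows W w) ∈ JQ Q S T) (t₁ t₂ : F.obj (op T))
    (h : ∀ δ, F.map (w δ).op t₁ = F.map (w δ).op t₂) : t₁ = t₂ := by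
  have hsh := ((isSheaf_iff_isSheaf_of_type _ _).1 hF) _ hcov
  refine hsh.isSeparatedFor.ext (fun Y f hf => ?_)
  obtain ⟨δ, z, rfl⟩ := exists_fac hf
  rw [op_comp, Functor.map_comp_apply, Functor.map_comp_apply, h]

include hF in
/-- gluing with respect to a covering family -/
theorem sheaf_glue {T : Over S} {ι : Type} {W : ι → Over S} {w : ∀ δ, W δ ⟶ T}
    (hcov : Sieve.generate (Presieve.ofArrows W w) ∈ JQ Q S T) (x : ∀ δ, F.obj (op (W δ)))
    (hx : Presieve.Arrows.Compatible F w x) : ∃ t : F.obj (op T), ∀ δ, F.map (w δ).op t = x δ := by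
  have hsh := ((isSheaf_iff_isSheaf_of_type _ _).1 hF) _ hcov
  rw [← Presieve.isSheafFor_iff_generate, Presieve.isSheafFor_arrows_iff] at hsh
  obtain ⟨t, ht, -⟩ := hsh x hx
  exact ⟨t, ht⟩

end sheaf

section restrict

variable {K : Type u} [SmallCategory K] [IsCofiltered K]

/-- the lift of a system with compatible maps to `B` to a system over `B.left` -/
def liftSys (B : Over S) (E : K ⥤ Over S) (t : ∀ k, E.obj k ⟶ B)
    (ht : ∀ {k k' : K} (ψ : k ⟶ k'), E.map ψ ≫ t k' = t k) : K ⥤ Over B.left where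
  obj k := liftOver (t k)
  map {k k'} ψ := Over.homMk (E.map ψ).left (by
    show (E.map ψ).left ≫ (t k').left = (t k).left
    rw [← Over.comp_left, ht])
  map_id k := by
    ext
    show (E.map (𝟙 k)).left = 𝟙 _
    rw [E.map_id]
    rfl
  map_comp ψ ψ' := by
    ext
    show (E.map (ψ ≫ ψ')).left = (E.map ψ).left ≫ (E.map ψ').left
    rw [E.map_comp]
    rfl

/-- the lifted cone -/
def liftCone (B : Over S) (E : K ⥤ Over S) (e : Cone E) (t : ∀ k, E.obj k ⟶ B)
    (ht : ∀ {k k' : K} (ψ : k ⟶ k'), E.map ψ ≫ t k' = t k) (τ : e.pt ⟶ B)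
    (hτ : ∀ k, e.π.app k ≫ t k = τ) : Cone (liftSys B E t ht) where
  pt := liftOver τ
  π :=
    { app := fun k => Over.homMk (e.π.app k).left (by
        show (e.π.app k).left ≫ (t k).left = τ.left
        rw [← Over.comp_left, hτ])
      naturality := fun k k' ψ => by
        ext
        show 𝟙 _ ≫ (e.π.app k').left = (e.π.app k).left ≫ (E.map ψ).left
        rw [Category.id_comp, ← Over.comp_left, e.w] }

lemma liftSys_key (B : Over S) (E : K ⥤ Over S) (t : ∀ k, E.obj k ⟶ B)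
    (ht : ∀ {k k' : K} (ψ : k ⟶ k'), E.map ψ ≫ t k' = t k) {k k' : K} (ψ : k ⟶ k') :
    (Over.map B.hom).map ((liftSys B E t ht).map ψ) ≫ (liftIso (t k')).hom =
      (liftIso (t k)).hom ≫ E.map ψ := by
  ext
  show (E.map ψ).left ≫ 𝟙 _ = 𝟙 _ ≫ (E.map ψ).left
  rw [Category.id_comp, Category.comp_id]

lemma liftCone_key (B : Over S) (E : K ⥤ Over S) (e : Cone E) (t : ∀ k, E.obj k ⟶ B)
    (ht : ∀ {k k' : K} (ψ : k ⟶ k'), E.map ψ ≫ t k' = t k) (τ : e.pt ⟶ B)
    (hτ : ∀ k, e.π.app k ≫ t k = τ) (k : K) :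
    (Over.map B.hom).map ((liftCone B E e t ht τ hτ).π.app k) ≫ (liftIso (t k)).hom =
      (liftIso τ).hom ≫ e.π.app k := by
  ext
  show (e.π.app k).left ≫ 𝟙 _ = 𝟙 _ ≫ (e.π.app k).left
  rw [Category.id_comp, Category.comp_id]

/-- the lifted cone is a limit cone on underlying schemes -/
def isLimit_liftCone (B : Over S) (E : K ⥤ Over S) (e : Cone E) (t : ∀ k, E.obj k ⟶ B)
    (ht : ∀ {k k' : K} (ψ : k ⟶ k'), E.map ψ ≫ t k' = t k) (τ : e.pt ⟶ B)
    (hτ : ∀ k, e.π.app k ≫ t k = τ) (he : IsLimit ((Over.forget S).mapCone e)) :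
    IsLimit ((Over.forget B.left).mapCone (liftCone B E e t ht τ hτ)) :=
  he

/-- limit preservation of the restriction to schemes over `B` gives the elementary conditions for
systems with compatible maps to `B` -/
theorem LP_of_restrict (F : PSp S) (B : Over S)
    (hB : IsLimitPreserving (S := B.left) ((Over.map B.hom).op ⋙ F))
    (E : K ⥤ Over S) (e : Cone E) (he : IsLimit ((Over.forget S).mapCone e))
    (hE : ∀ k, IsAffine (E.obj k).left) (hpt : IsAffine e.pt.left)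
    (t : ∀ k, E.obj k ⟶ B) (ht : ∀ {k k' : K} (ψ : k ⟶ k'), E.map ψ ≫ t k' = t k)
    (τ : e.pt ⟶ B) (hτ : ∀ k, e.π.app k ≫ t k = τ) : LP1 F E e ∧ LP2 F E e := by
  obtain ⟨h1, h2⟩ := (isColimit_iff_LP (S := B.left) _ _ _).1
    (hB (liftSys B E t ht) (liftCone B E e t ht τ hτ) (isLimit_liftCone B E e t ht τ hτ he)
      hE hpt)
  have A : ∀ (k : K) (y : F.obj (op (E.obj k))),
      F.map ((Over.map B.hom).map ((liftCone B E e t ht τ hτ).π.app k)).op
          (F.map (liftIso (t k)).hom.op y) =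
        F.map (liftIso τ).hom.op (F.map (e.π.app k).op y) := fun k y =>
    (map_map_op F _ _ y).trans ((congrArg (fun m => F.map m.op y)
      (liftCone_key B E e t ht τ hτ k)).trans (map_map_op F _ _ y).symm)
  have A' : ∀ {j k : K} (f : j ⟶ k) (y : F.obj (op (E.obj k))),
      F.map ((Over.map B.hom).map ((liftSys B E t ht).map f)).op
          (F.map (liftIso (t k)).hom.op y) =
        F.map (liftIso (t j)).hom.op (F.map (E.map f).op y) := fun f y =>
    (map_map_op F _ _ y).trans ((congrArg (fun m => F.map m.op y)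
      (liftSys_key B E t ht f)).trans (map_map_op F _ _ y).symm)
  constructor
  · intro x
    obtain ⟨k, xk', hk⟩ := h1 (F.map (liftIso τ).hom.op x)
    replace hk : F.map ((Over.map B.hom).map ((liftCone B E e t ht τ hτ).π.app k)).op xk' =
      F.map (liftIso τ).hom.op x := hk
    refine ⟨k, F.map (liftIso (t k)).inv.op xk', ?_⟩
    have h3 := A k (F.map (liftIso (t k)).inv.op xk')
    have h4 : F.map (liftIso (t k)).hom.op (F.map (liftIso (t k)).inv.op xk') = xk' :=
      map_iso_cancel F (liftIso (t k)) xk'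
    have h5 := (h3.symm.trans (congrArg _ h4)).trans hk
    have h6 := congrArg (F.map (liftIso τ).inv.op) h5
    exact ((map_iso_cancel' F (liftIso τ) _).symm.trans h6).trans (map_iso_cancel' F (liftIso τ) x)
  · intro k x x' hxx
    obtain ⟨j, f, hf⟩ := h2 k (F.map (liftIso (t k)).hom.op x) (F.map (liftIso (t k)).hom.op x')
      ((A k x).trans ((congrArg (F.map (liftIso τ).hom.op) hxx).trans (A k x').symm))
    replace hf : F.map ((Over.map B.hom).map ((liftSys B E t ht).map f)).op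
          (F.map (liftIso (t k)).hom.op x) =
        F.map ((Over.map B.hom).map ((liftSys B E t ht).map f)).op
          (F.map (liftIso (t k)).hom.op x') := hf
    refine ⟨j, f, ?_⟩
    have h3 := ((A' f x).symm.trans hf).trans (A' f x')
    have h4 := congrArg (F.map (liftIso (t j)).inv.op) h3
    exact ((map_iso_cancel' F (liftIso (t j)) _).symm.trans h4).trans
      (map_iso_cancel' F (liftIso (t j)) _)

end restrict

section main

variable {I : Type u} [SmallCategory I] [IsCofiltered I]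

set_option backward.isDefEq.respectTransparency false in
/-- data on the base change of a family to a stage which agree on the pairwise fibre products at a
later stage are compatible there -/
theorem compat_of_pairs (F : PSp S) (D : I ⥤ Over S) (j : I) {ι : Type} {V : ι → Over S}
    (v : ∀ ζ, V ζ ⟶ D.obj j) {k₁ k₂ : Over j} (ψ₂ : k₂ ⟶ k₁)
    (X : ∀ ζ, F.obj (op ((bcD D j (v ζ)).obj k₁)))
    (h : ∀ ζ ζ', F.map ((bcD D j (pairP v ζ ζ')).map ψ₂).op
        (F.map (bcMap D j (v ζ) (pairP v ζ ζ') (pullback.fst _ _) rfl k₁).op (X ζ)) =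
      F.map ((bcD D j (pairP v ζ ζ')).map ψ₂).op
        (F.map (bcMap D j (v ζ') (pairP v ζ ζ') (pullback.snd _ _)
          (pairP_snd v ζ ζ') k₁).op (X ζ'))) :
    Presieve.Arrows.Compatible F (fun ζ => pullback.fst (D.map k₂.hom) (v ζ))
      (fun ζ => F.map ((bcD D j (v ζ)).map ψ₂).op (X ζ)) := by
  intro ζ ζ' Z gi gj hg
  have hcond1 : (gi ≫ pullback.snd (D.map k₂.hom) (v ζ)) ≫ v ζ =
      (gj ≫ pullback.snd (D.map k₂.hom) (v ζ')) ≫ v ζ' := by
    rw [Category.assoc, Category.assoc, ← pullback.condition, ← pullback.condition,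
      ← Category.assoc, ← Category.assoc, hg]
  have hcond2 : (gi ≫ pullback.fst (D.map k₂.hom) (v ζ)) ≫ D.map k₂.hom =
      pullback.lift (gi ≫ pullback.snd (D.map k₂.hom) (v ζ))
        (gj ≫ pullback.snd (D.map k₂.hom) (v ζ')) hcond1 ≫ pairP v ζ ζ' := by
    rw [← Category.assoc, pullback.lift_fst, Category.assoc, Category.assoc, pullback.condition]
  let l : Z ⟶ pullback (D.map k₂.hom) (pairP v ζ ζ') := pullback.lift _ _ hcond2
  have hl1 : l ≫ bcMap D j (v ζ) (pairP v ζ ζ') (pullback.fst _ _) rfl k₂ = gi := by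
    refine pullback.hom_ext (f := D.map k₂.hom) (g := v ζ) ?_ ?_
    · rw [Category.assoc, bcMap_fst]
      exact pullback.lift_fst _ _ _
    · rw [Category.assoc, bcMap_snd, ← Category.assoc, pullback.lift_snd, pullback.lift_fst]
  have hl2 : l ≫ bcMap D j (v ζ') (pairP v ζ ζ') (pullback.snd _ _) (pairP_snd v ζ ζ') k₂ =
      gj := by
    refine pullback.hom_ext (f := D.map k₂.hom) (g := v ζ') ?_ ?_
    · rw [Category.assoc, bcMap_fst]
      exact (pullback.lift_fst _ _ _).trans hg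
    · rw [Category.assoc, bcMap_snd, ← Category.assoc, pullback.lift_snd, pullback.lift_snd]
  have h4 : F.map (bcMap D j (v ζ) (pairP v ζ ζ') (pullback.fst _ _) rfl k₂).op
        (F.map ((bcD D j (v ζ)).map ψ₂).op (X ζ)) =
      F.map (bcMap D j (v ζ') (pairP v ζ ζ') (pullback.snd _ _) (pairP_snd v ζ ζ') k₂).op
        (F.map ((bcD D j (v ζ')).map ψ₂).op (X ζ')) := by
    refine (map_bcMap_naturality F D j (v ζ) (pairP v ζ ζ') (pullback.fst _ _) rfl ψ₂
      (X ζ)).symm.trans ((h ζ ζ').trans ?_)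
    exact map_bcMap_naturality F D j (v ζ') (pairP v ζ ζ') (pullback.snd _ _)
      (pairP_snd v ζ ζ') ψ₂ (X ζ')
  show F.map gi.op (F.map ((bcD D j (v ζ)).map ψ₂).op (X ζ)) =
    F.map gj.op (F.map ((bcD D j (v ζ')).map ψ₂).op (X ζ'))
  rw [← hl1, ← hl2, op_comp, op_comp, Functor.map_comp_apply, Functor.map_comp_apply, h4]

set_option backward.isDefEq.respectTransparency false in
/-- limit preservation of a sheaf is local on the base -/
theorem LP_local (hQ : GoodQ Q) (F : PSp S) (hF : Presheaf.IsSheaf (JQ Q S) F) {ι : Type u}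
    (U : ι → Over S) (hUQ : ∀ j, Q (U j).hom)
    (hsurj : ∀ s : ↥S, ∃ (j : ι) (x : ↥(U j).left), (U j).hom.base x = s)
    (hloc : ∀ j, IsLimitPreserving (S := (U j).left) ((Over.map (U j).hom).op ⋙ F)) :
    IsLimitPreserving F := by
  intro I _ _ D c hc hD hpt
  haveI := hQ.bc
  rw [isColimit_iff_LP]
  have cov : ∀ i₀ : I, ∃ (n : ℕ) (W : Fin n → Over S) (w : ∀ δ, W δ ⟶ D.obj i₀),
      (∀ δ, Q (w δ).left) ∧ (∀ t : (D.obj i₀).left, ∃ δ, t ∈ Set.range (w δ).left) ∧
      (∀ δ, LP1 F (bcD D i₀ (w δ)) (bcC D c i₀ (w δ)) ∧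
        LP2 F (bcD D i₀ (w δ)) (bcC D c i₀ (w δ))) ∧
      (∀ δ δ', LP2 F (bcD D i₀ (pairP w δ δ')) (bcC D c i₀ (pairP w δ δ'))) := by
    intro i₀
    haveI := hD i₀
    obtain ⟨n, W, w, j, u, hW, hwQ, hws⟩ :=
      exists_fin_affine_over hQ U hUQ hsurj (D.obj i₀) inferInstance
    refine ⟨n, W, w, hwQ, hws, fun δ => ?_, fun δ δ' => ?_⟩
    · exact LP_of_restrict F (U (j δ)) (hloc (j δ)) (bcD D i₀ (w δ)) (bcC D c i₀ (w δ))
        (bcIsLimit D c i₀ (w δ) hc) (isAffine_bcD D hD i₀ (w δ) (hW δ))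
        (isAffine_bcC D c hD hpt i₀ (w δ) (hW δ))
        (fun k => pullback.snd (D.map k.hom) (w δ) ≫ u δ)
        (fun ψ => (Category.assoc _ _ _).symm.trans
          (congrArg (· ≫ u δ) (bcD_map_snd D i₀ (w δ) ψ)))
        (pullback.snd (c.π.app i₀) (w δ) ≫ u δ)
        (fun k => (Category.assoc _ _ _).symm.trans
          (congrArg (· ≫ u δ) (bcC_π_snd D c i₀ (w δ) k)))
    · have hPaff : IsAffine (pullback (w δ) (w δ')).left :=
        isAffine_pullback_left _ _ (hW δ) (hW δ') (hD i₀)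
      exact (LP_of_restrict F (U (j δ)) (hloc (j δ)) (bcD D i₀ (pairP w δ δ'))
        (bcC D c i₀ (pairP w δ δ')) (bcIsLimit D c i₀ (pairP w δ δ') hc)
        (isAffine_bcD D hD i₀ _ hPaff) (isAffine_bcC D c hD hpt i₀ _ hPaff)
        (fun k => pullback.snd (D.map k.hom) (pairP w δ δ') ≫ pullback.fst (w δ) (w δ') ≫ u δ)
        (fun ψ => (Category.assoc _ _ _).symm.trans
          (congrArg (· ≫ pullback.fst (w δ) (w δ') ≫ u δ) (bcD_map_snd D i₀ (pairP w δ δ') ψ)))
        (pullback.snd (c.π.app i₀) (pairP w δ δ') ≫ pullback.fst (w δ) (w δ') ≫ u δ)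
        (fun k => (Category.assoc _ _ _).symm.trans
          (congrArg (· ≫ pullback.fst (w δ) (w δ') ≫ u δ)
            (bcC_π_snd D c i₀ (pairP w δ δ') k)))).2
  constructor
  · -- surjectivity
    intro x
    obtain ⟨i₀⟩ := IsCofiltered.nonempty (C := I)
    obtain ⟨n, W, w, hwQ, hws, hLP, hLPP⟩ := cov i₀
    have key1 : ∀ δ, ∃ (k : Over i₀) (_ : k ⟶ Over.mk (𝟙 i₀))
        (X : F.obj (op ((bcD D i₀ (w δ)).obj k))),
        F.map ((bcC D c i₀ (w δ)).π.app k).op X =
          F.map (pullback.fst (c.π.app i₀) (w δ)).op x := by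
      intro δ
      obtain ⟨k, X, hX⟩ := (hLP δ).1 (F.map (pullback.fst (c.π.app i₀) (w δ)).op x)
      exact ⟨k, Over.homMk k.hom (by simp), X, hX⟩
    obtain ⟨k₁, -, hk₁⟩ := exists_common (K := Over i₀) (κ := Fin n) (Over.mk (𝟙 i₀))
      (fun δ k _ => ∃ X : F.obj (op ((bcD D i₀ (w δ)).obj k)),
        F.map ((bcC D c i₀ (w δ)).π.app k).op X =
          F.map (pullback.fst (c.π.app i₀) (w δ)).op x)
      (fun δ k _ k' ψ ⟨X, hX⟩ => ⟨F.map ((bcD D i₀ (w δ)).map ψ).op X, by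
        rw [← hX]
        exact (map_map_op F _ _ X).trans
          (congrArg (fun m => F.map m.op X) ((bcC D c i₀ (w δ)).w ψ))⟩)
      key1
    choose X hX using hk₁
    let A : ∀ (ζ ζ' : Fin n), F.obj (op ((bcD D i₀ (pairP w ζ ζ')).obj k₁)) := fun ζ ζ' =>
      F.map (bcMap D i₀ (w ζ) (pairP w ζ ζ') (pullback.fst _ _) rfl k₁).op (X ζ)
    let B : ∀ (ζ ζ' : Fin n), F.obj (op ((bcD D i₀ (pairP w ζ ζ')).obj k₁)) := fun ζ ζ' =>
      F.map (bcMap D i₀ (w ζ') (pairP w ζ ζ') (pullback.snd _ _) (pairP_snd w ζ ζ') k₁).op (X ζ')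
    have keyP : ∀ ε : Fin n × Fin n, ∃ (k : Over i₀) (ψ : k ⟶ k₁),
        F.map ((bcD D i₀ (pairP w ε.1 ε.2)).map ψ).op (A ε.1 ε.2) =
          F.map ((bcD D i₀ (pairP w ε.1 ε.2)).map ψ).op (B ε.1 ε.2) := by
      rintro ⟨ζ, ζ'⟩
      refine hLPP ζ ζ' k₁ (A ζ ζ') (B ζ ζ') ?_
      show F.map ((bcC D c i₀ (pairP w ζ ζ')).π.app k₁).op
          (F.map (bcMap D i₀ (w ζ) (pairP w ζ ζ') (pullback.fst _ _) rfl k₁).op (X ζ)) =
        F.map ((bcC D c i₀ (pairP w ζ ζ')).π.app k₁).op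
          (F.map (bcMap D i₀ (w ζ') (pairP w ζ ζ') (pullback.snd _ _)
            (pairP_snd w ζ ζ') k₁).op (X ζ'))
      rw [map_bcMap_cone, map_bcMap_cone, hX, hX]
      refine (map_map_op F _ _ x).trans (Eq.trans ?_ (map_map_op F _ _ x).symm)
      exact congrArg (fun m => F.map m.op x)
        ((bcMapPt_fst D c i₀ (w ζ) (pairP w ζ ζ') (pullback.fst _ _) rfl).trans
          (bcMapPt_fst D c i₀ (w ζ') (pairP w ζ ζ') (pullback.snd _ _) (pairP_snd w ζ ζ')).symm)
    obtain ⟨k₂, ψ₂, hk₂⟩ := exists_common (K := Over i₀) (κ := Fin n × Fin n) k₁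
      (fun ε k ψ => F.map ((bcD D i₀ (pairP w ε.1 ε.2)).map ψ).op (A ε.1 ε.2) =
          F.map ((bcD D i₀ (pairP w ε.1 ε.2)).map ψ).op (B ε.1 ε.2))
      (fun ε k ψ k' ψ' h => by
        rw [Functor.map_comp, op_comp, Functor.map_comp_apply, Functor.map_comp_apply, h])
      keyP
    have hX₂ := compat_of_pairs F D i₀ w ψ₂ X (fun ζ ζ' => hk₂ (ζ, ζ'))
    have hcov₂ := bc_cover (Q := Q) (D.map k₂.hom) w hwQ hws
    obtain ⟨ξ, hξ⟩ := sheaf_glue hF hcov₂ _ hX₂
    refine ⟨k₂.left, ξ, ?_⟩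
    have hcovT := bc_cover (Q := Q) (c.π.app i₀) w hwQ hws
    refine sheaf_sep hF hcovT _ _ (fun δ => ?_)
    have e1 : F.map (pullback.fst (c.π.app i₀) (w δ)).op (F.map (c.π.app k₂.left).op ξ) =
        F.map ((bcC D c i₀ (w δ)).π.app k₂).op
          (F.map (pullback.fst (D.map k₂.hom) (w δ)).op ξ) :=
      (map_map_op F _ _ ξ).trans ((congrArg (fun m => F.map m.op ξ)
        (bcC_π_fst D c i₀ (w δ) k₂).symm).trans (map_map_op F _ _ ξ).symm)
    refine e1.trans ((congrArg _ (hξ δ)).trans ?_)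
    refine (map_map_op F _ _ (X δ)).trans ?_
    exact (congrArg (fun m => F.map m.op (X δ)) ((bcC D c i₀ (w δ)).w ψ₂)).trans (hX δ)
  · -- injectivity
    intro i x x' hxx
    obtain ⟨n, W, w, hwQ, hws, hLP, -⟩ := cov i
    have key : ∀ δ, ∃ (k : Over i) (ψ : k ⟶ Over.mk (𝟙 i)),
        F.map ((bcD D i (w δ)).map ψ).op
            (F.map (pullback.fst (D.map (Over.mk (𝟙 i)).hom) (w δ)).op x) =
          F.map ((bcD D i (w δ)).map ψ).op
            (F.map (pullback.fst (D.map (Over.mk (𝟙 i)).hom) (w δ)).op x') := by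
      intro δ
      refine (hLP δ).2 (Over.mk (𝟙 i)) _ _ ?_
      have B : ∀ y : F.obj (op (D.obj i)),
          F.map ((bcC D c i (w δ)).π.app (Over.mk (𝟙 i))).op
              (F.map (pullback.fst (D.map (Over.mk (𝟙 i)).hom) (w δ)).op y) =
            F.map (pullback.fst (c.π.app i) (w δ)).op (F.map (c.π.app i).op y) := fun y =>
        (map_map_op F _ _ y).trans ((congrArg (fun m => F.map m.op y)
          (bcC_π_fst D c i (w δ) (Over.mk (𝟙 i)))).trans (map_map_op F _ _ y).symm)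
      exact (B x).trans ((congrArg _ hxx).trans (B x').symm)
    obtain ⟨k, ψ, hk⟩ := exists_common (K := Over i) (κ := Fin n) (Over.mk (𝟙 i))
      (fun δ k ψ => F.map ((bcD D i (w δ)).map ψ).op
            (F.map (pullback.fst (D.map (Over.mk (𝟙 i)).hom) (w δ)).op x) =
          F.map ((bcD D i (w δ)).map ψ).op
            (F.map (pullback.fst (D.map (Over.mk (𝟙 i)).hom) (w δ)).op x'))
      (fun δ k ψ k' ψ' h => by
        rw [Functor.map_comp, op_comp, Functor.map_comp_apply, Functor.map_comp_apply, h])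
      key
    refine ⟨k.left, ψ.left, ?_⟩
    have hcov := bc_cover (Q := Q) (D.map k.hom) w hwQ hws
    refine sheaf_sep hF hcov _ _ (fun δ => ?_)
    have C : ∀ y : F.obj (op (D.obj i)),
        F.map (pullback.fst (D.map k.hom) (w δ)).op (F.map (D.map ψ.left).op y) =
          F.map ((bcD D i (w δ)).map ψ).op
            (F.map (pullback.fst (D.map (Over.mk (𝟙 i)).hom) (w δ)).op y) := fun y =>
      (map_map_op F _ _ y).trans ((congrArg (fun m => F.map m.op y)
        (bcD_map_fst D i (w δ) ψ).symm).trans (map_map_op F _ _ y).symm)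
    exact (C x).trans ((hk δ).trans (C x').symm)

end main

end Groth.Agent.Helper4.SN521
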