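import Groth.Agent.Helper4.SN521
import Mathlib

/-!
A Zariski sheaf covered fppf-locally by subsheaves with representable inclusions is a sheaf
(towards S10111).
-/

set_option autoImplicit false
universe u v
open CategoryTheory CategoryTheory.Limits AlgebraicGeometry Opposite

namespace Groth.Agent.Helper4.SN522

open AlgSp GrothendieckTopology Groth.Agent.Helper4.SN508 Groth.Agent.Helper4.SN514
  Groth.Agent.Helper4.SN521

variable {S : Scheme.{u}} {Q : MorphismProperty Scheme.{u}}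

section sheaf

variable {F : PSp S} (hF : Presheaf.IsSheaf (JQ Q S) F)

include hF in
/-- separatedness with respect to a covering sieve -/
theorem sieve_sep {T : Over S} (R : Sieve T) (hR : R ∈ JQ Q S T) (t₁ t₂ : F.obj (op T))
    (h : ∀ ⦃Y : Over S⦄ (f : Y ⟶ T), R.arrows f → F.map f.op t₁ = F.map f.op t₂) : t₁ = t₂ := by
  have hsh := ((isSheaf_iff_isSheaf_of_type _ _).1 hF) _ hR
  exact hsh.isSeparatedFor.ext (fun Y f hf => h f hf)

include hF in
/-- separatedness with respect to a covering family -/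
theorem sheaf_sep' {T : Over S} {ι : Type*} {W : ι → Over S} {w : ∀ δ, W δ ⟶ T}
    (hcov : Sieve.generate (Presieve.ofArrows W w) ∈ JQ Q S T) (t₁ t₂ : F.obj (op T))
    (h : ∀ δ, F.map (w δ).op t₁ = F.map (w δ).op t₂) : t₁ = t₂ := by
  refine sieve_sep hF _ hcov t₁ t₂ (fun Y f hf => ?_)
  obtain ⟨δ, z, rfl⟩ := exists_fac' hf
  rw [op_comp, Functor.map_comp_apply, Functor.map_comp_apply, h]

include hF in
/-- gluing with respect to a covering family -/
theorem sheaf_glue' {T : Over S} {ι : Type*} {W : ι → Over S} {w : ∀ δ, W δ ⟶ T}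
    (hcov : Sieve.generate (Presieve.ofArrows W w) ∈ JQ Q S T) (x : ∀ δ, F.obj (op (W δ)))
    (hx : Presieve.Arrows.Compatible F w x) : ∃ t : F.obj (op T), ∀ δ, F.map (w δ).op t = x δ := by
  have hsh := ((isSheaf_iff_isSheaf_of_type _ _).1 hF) _ hcov
  rw [← Presieve.isSheafFor_iff_generate, Presieve.isSheafFor_arrows_iff] at hsh
  obtain ⟨t, ht, -⟩ := hsh x hx
  exact ⟨t, ht⟩

end sheaf

set_option backward.isDefEq.respectTransparency false in
/-- a covering sieve contains a covering family -/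
theorem exists_family_le (hQ : GoodQ Q) {T : Over S} (R : Sieve T) (hR : R ∈ JQ Q S T) :
    ∃ (κ : Type (u + 1)) (W : κ → Over S) (w : ∀ l, W l ⟶ T), (∀ l, Q (w l).left) ∧
      (∀ t : T.left, ∃ l, t ∈ Set.range (w l).left) ∧ ∀ l, R.arrows (w l) := by
  haveI := hQ.mult
  haveI := hQ.bc
  rw [GrothendieckTopology.mem_over_iff,
    Precoverage.mem_toGrothendieck_iff_of_isStableUnderComposition] at hR
  obtain ⟨R₀, hR₀, hle⟩ := hR
  obtain ⟨E, rfl⟩ := Precoverage.mem_iff_exists_zeroHypercover.1 hR₀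
  obtain ⟨hsurj, hEQ⟩ := (Scheme.ofArrows_mem_precoverage_iff Q).1 E.mem₀
  refine ⟨E.I₀, fun l => Over.mk (E.f l ≫ T.hom), fun l => Over.homMk (E.f l) rfl, hEQ,
    fun t => ?_, fun l => ?_⟩
  · obtain ⟨l, y, hy⟩ := hsurj t
    exact ⟨l, y, hy⟩
  · have h1 : (Sieve.overEquiv T R).arrows (E.f l) := hle _ _ ⟨l⟩
    rw [Sieve.overEquiv_iff] at h1
    exact h1

/-- the factorisation of an open morphism through its open image -/
theorem exists_open_image (hQ : GoodQ Q) {W T : Over S} (w : W ⟶ T) (hw : Q w.left) :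
    ∃ (U : Over S) (i : U ⟶ T) (w' : W ⟶ U), IsOpenImmersion i.left ∧ w' ≫ i = w ∧
      Function.Surjective w'.left ∧ Q w'.left ∧ Set.range i.left = Set.range w.left := by
  haveI := hQ.bc
  have hopen : IsOpen (Set.range w.left) := (hQ.isOpenMap _ hw).isOpen_range
  let Uo : T.left.Opens := ⟨Set.range w.left, hopen⟩
  have hrange : Set.range Uo.ι = Set.range w.left := by
    rw [Scheme.Opens.range_ι]
    rfl
  let l : W.left ⟶ Uo.toScheme := IsOpenImmersion.lift Uo.ι w.left (by rw [hrange])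
  have hl : l ≫ Uo.ι = w.left := IsOpenImmersion.lift_fac _ _ _
  let U : Over S := Over.mk (Uo.ι ≫ T.hom)
  let i : U ⟶ T := Over.homMk Uo.ι rfl
  let w' : W ⟶ U := Over.homMk l (by
    show l ≫ Uo.ι ≫ T.hom = W.hom
    rw [← Category.assoc, hl, CategoryTheory.Over.w])
  have hw'i : w' ≫ i = w := by
    ext
    exact hl
  refine ⟨U, i, w', inferInstanceAs (IsOpenImmersion Uo.ι), hw'i, ?_, ?_, hrange⟩
  · intro y
    have hy : Uo.ι y ∈ Set.range w.left := by
      rw [← hrange]
      exact ⟨y, rfl⟩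
    obtain ⟨z, hz⟩ := hy
    refine ⟨z, ?_⟩
    apply Uo.ι.isOpenEmbedding.injective
    rw [← Scheme.Hom.comp_apply]
    show (l ≫ Uo.ι) z = _
    rw [hl, hz]
  · have sq : IsPullback (𝟙 W.left) l w.left Uo.ι :=
      IsPullback.of_horiz_isIso_mono ⟨by rw [Category.id_comp, hl]⟩
    exact MorphismProperty.of_isPullback sq hw

/-- a monomorphism of presheaves is injective on sections -/
lemma injective_of_mono {F G : PSp S} (m : F ⟶ G) [Mono m] (U : (Over S)ᵒᵖ) :
    Function.Injective (m.app U) := by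
  haveI : Mono (m.app U) := (NatTrans.mono_iff_mono_app m).1 inferInstance U
  exact (mono_iff_injective (m.app U)).1 inferInstance

/-- the singleton family of a surjective `Q`-morphism is covering -/
lemma single_mem {W U : Over S} (w' : W ⟶ U) (hw' : Q w'.left)
    (hsurj : Function.Surjective w'.left) :
    Sieve.generate (Presieve.ofArrows (fun _ : Unit => W) (fun _ => w')) ∈ JQ Q S U :=
  gen_mem' _ _ (fun _ => hw') (fun t => ⟨(), hsurj t⟩)

section core

variable {F Fi : PSp S} (m : Fi ⟶ F) [Mono m]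

lemma map_inj {U : Over S} {a b : Fi.obj (op U)} (h : m.app _ a = m.app _ b) : a = b :=
  injective_of_mono m _ h

set_option backward.isDefEq.respectTransparency false in
/-- a section of `F` which lies in the subsheaf after a surjective `Q`-morphism lies in it -/
theorem core
    (hb : ∀ ⦃U : Over S⦄ (ξ : (pyon S).obj U ⟶ F) ⦃F' : PSp S⦄ (fst : F' ⟶ Fi)
      (snd : F' ⟶ (pyon S).obj U), IsPullback fst snd m ξ → Presheaf.IsSheaf (JQ Q S) F')
    (hrep : ∀ U : Over S, Presheaf.IsSheaf (JQ Q S) ((pyon S).obj U))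
    {U W : Over S} (w' : W ⟶ U) (hw' : Q w'.left) (hsurj : Function.Surjective w'.left)
    (s : F.obj (op U)) (y : Fi.obj (op W)) (hy : m.app _ y = F.map w'.op s) :
    ∃ v : Fi.obj (op U), m.app _ v = s := by
  let ξ : (pyon S).obj U ⟶ F := uliftYonedaEquiv.symm s
  have hξ : ∀ {Z : Over S} (g : Z ⟶ U), ξ.app (op Z) (ULift.up g) = F.map g.op s := fun g => rfl
  have sq := IsPullback.of_hasPullback m ξ
  have hG : Presheaf.IsSheaf (JQ Q S) (pullback m ξ) := hb ξ _ _ sq
  have sqE : ∀ Z : Over S, IsPullback ((pullback.fst m ξ).app (op Z))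
      ((pullback.snd m ξ).app (op Z)) (m.app (op Z)) (ξ.app (op Z)) := fun Z =>
    sq.map ((evaluation (Over S)ᵒᵖ (Type (u + 1))).obj (op Z))
  obtain ⟨γW, hγ1, hγ2⟩ := Types.exists_of_isPullback (sqE W) y (ULift.up w') (by
    rw [hy, hξ])
  have hcov := single_mem w' hw' hsurj
  obtain ⟨γ, hγ⟩ := sheaf_glue' hG hcov (fun _ => γW) (by
    intro _ _ Z g₁ g₂ hg
    refine Types.ext_of_isPullback (sqE Z) ?_ ?_
    · rw [NatTrans.naturality_apply, NatTrans.naturality_apply, hγ1]
      apply map_inj m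
      rw [NatTrans.naturality_apply, NatTrans.naturality_apply, hy,
        ← Functor.map_comp_apply, ← Functor.map_comp_apply, ← op_comp, ← op_comp]
      exact congrArg (fun k => F.map k.op s) hg
    · rw [NatTrans.naturality_apply, NatTrans.naturality_apply, hγ2]
      show ULift.up (g₁ ≫ w') = ULift.up (g₂ ≫ w')
      rw [hg])
  replace hγ : (pullback m ξ).map w'.op γ = γW := hγ ()
  refine ⟨(pullback.fst m ξ).app _ γ, ?_⟩
  have h2 : (pullback.snd m ξ).app _ γ = ULift.up (𝟙 U) := by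
    refine sheaf_sep' (hrep U) hcov _ _ (fun _ => ?_)
    rw [← NatTrans.naturality_apply, hγ, hγ2]
    show ULift.up w' = ULift.up (w' ≫ 𝟙 U)
    rw [Category.comp_id]
  have h3 := ConcreteCategory.congr_hom (sqE U).w γ
  have h4 : m.app _ ((pullback.fst m ξ).app _ γ) = ξ.app _ ((pullback.snd m ξ).app _ γ) := h3
  rw [h4, h2, hξ, op_id, Functor.map_id_apply]

end core

section main

variable (hQ : GoodQ Q) (F : PSp S) (h1 : Presheaf.IsSheaf (JQ @IsOpenImmersion S) F)
  {ι : Type v} (Fi : ι → PSp S) (m : ∀ i, Fi i ⟶ F) [∀ i, Mono (m i)]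
  (ha : ∀ i, Presheaf.IsSheaf (JQ Q S) (Fi i))
  (hb : ∀ i, ∀ ⦃U : Over S⦄ (ξ : (pyon S).obj U ⟶ F) ⦃F' : PSp S⦄ (fst : F' ⟶ Fi i)
      (snd : F' ⟶ (pyon S).obj U), IsPullback fst snd (m i) ξ → Presheaf.IsSheaf (JQ Q S) F')
  (hrep : ∀ U : Over S, Presheaf.IsSheaf (JQ Q S) ((pyon S).obj U))
  (hc : ∀ (T : Over S) (x : F.obj (op T)), ∃ R ∈ (JQ Q S) T,
      ∀ ⦃T' : Over S⦄ (f : T' ⟶ T), R.arrows f →
        ∃ i, F.map f.op x ∈ Set.range ((m i).app (op T')))

include hQ h1 ha hb hrep hc in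
set_option backward.isDefEq.respectTransparency false in
/-- `F` is separated -/
theorem sep_main {T : Over S} (R : Sieve T) (hR : R ∈ JQ Q S T) (t₁ t₂ : F.obj (op T))
    (h : ∀ ⦃Y : Over S⦄ (f : Y ⟶ T), R.arrows f → F.map f.op t₁ = F.map f.op t₂) : t₁ = t₂ := by
  obtain ⟨R₀, hR₀, hloc⟩ := hc T t₁
  obtain ⟨κ, W, w, hwQ, hws, hwR⟩ := exists_family_le hQ (R ⊓ R₀)
    ((JQ Q S).intersection_covering hR hR₀)
  have hop : ∀ l, ∃ (U : Over S) (i : U ⟶ T) (w' : W l ⟶ U), IsOpenImmersion i.left ∧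
      w' ≫ i = w l ∧ Function.Surjective w'.left ∧ Q w'.left ∧
      Set.range i.left = Set.range (w l).left := fun l => exists_open_image hQ (w l) (hwQ l)
  choose U i w' hi hw'i hw's hw'Q hrange using hop
  have hzar : Sieve.generate (Presieve.ofArrows U i) ∈ JQ @IsOpenImmersion S T :=
    gen_mem' U i hi (fun t => by
      obtain ⟨l, hl⟩ := hws t
      exact ⟨l, by rw [hrange]; exact hl⟩)
  refine sheaf_sep' h1 hzar t₁ t₂ (fun l => ?_)
  obtain ⟨i₀, y, hy⟩ := hloc (w l) (hwR l).2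
  have e : ∀ t : F.obj (op T), F.map (w' l).op (F.map (i l).op t) = F.map (w l).op t := fun t => by
    rw [← Functor.map_comp_apply, ← op_comp, hw'i]
  have hy₁ : (m i₀).app _ y = F.map (w' l).op (F.map (i l).op t₁) := hy.trans (e t₁).symm
  have hy₂ : (m i₀).app _ y = F.map (w' l).op (F.map (i l).op t₂) :=
    hy.trans ((h (w l) (hwR l).1).trans (e t₂).symm)
  obtain ⟨v₁, hv₁⟩ := core (m i₀) (hb i₀) hrep (w' l) (hw'Q l) (hw's l) _ y hy₁
  obtain ⟨v₂, hv₂⟩ := core (m i₀) (hb i₀) hrep (w' l) (hw'Q l) (hw's l) _ y hy₂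
  have hv : v₁ = v₂ := by
    refine sheaf_sep' (ha i₀) (single_mem (w' l) (hw'Q l) (hw's l)) v₁ v₂ (fun _ => ?_)
    apply map_inj (m i₀)
    rw [NatTrans.naturality_apply, NatTrans.naturality_apply, hv₁, hv₂, ← hy₁, ← hy₂]
  rw [← hv₁, ← hv₂, hv]

include hQ h1 ha hb hrep hc in
set_option backward.isDefEq.respectTransparency false in
/-- `F` is a sheaf -/
theorem main : Presheaf.IsSheaf (JQ Q S) F := by
  rw [isSheaf_iff_isSheaf_of_type]
  intro T R hR x hx
  have hsc := hx.to_sieveCompatible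
  -- the subsieve where the family lies in some subsheaf
  let R₁ : Sieve T :=
    { arrows := fun Y f => ∃ hf : R.arrows f, ∃ i, x f hf ∈ Set.range ((m i).app (op Y))
      downward_closed := by
        rintro Y Z f ⟨hf, i, y, hy⟩ g
        refine ⟨R.downward_closed hf g, i, (Fi i).map g.op y, ?_⟩
        rw [NatTrans.naturality_apply, hy]
        exact (hsc f g hf).symm }
  have hR₁ : R₁ ∈ JQ Q S T := by
    refine (JQ Q S).transitive hR R₁ (fun Y f hf => ?_)
    obtain ⟨R₀, hR₀, hloc⟩ := hc Y (x f hf)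
    refine (JQ Q S).superset_covering ?_ hR₀
    intro Z g hg
    obtain ⟨i, y, hy⟩ := hloc g hg
    exact ⟨R.downward_closed hf g, i, y, hy.trans (hsc f g hf).symm⟩
  obtain ⟨κ, W, w, hwQ, hws, hwR⟩ := exists_family_le hQ R₁ hR₁
  choose hRl i₀ y hy using hwR
  have hop : ∀ l, ∃ (U : Over S) (i : U ⟶ T) (w' : W l ⟶ U), IsOpenImmersion i.left ∧
      w' ≫ i = w l ∧ Function.Surjective w'.left ∧ Q w'.left ∧
      Set.range i.left = Set.range (w l).left := fun l => exists_open_image hQ (w l) (hwQ l)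
  choose U i w' hi hw'i hw's hw'Q hrange using hop
  -- descent to the open images
  have hdesc : ∀ l, ∃ v : (Fi (i₀ l)).obj (op (U l)), (Fi (i₀ l)).map (w' l).op v = y l := by
    intro l
    obtain ⟨v, hv⟩ := sheaf_glue' (ha (i₀ l)) (single_mem (w' l) (hw'Q l) (hw's l))
      (fun _ => y l) (by
        intro _ _ Z g₁ g₂ hg
        apply map_inj (m (i₀ l))
        rw [NatTrans.naturality_apply, NatTrans.naturality_apply, hy]
        refine hx g₁ g₂ (hRl l) (hRl l) ?_
        rw [← hw'i, ← Category.assoc, ← Category.assoc]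
        exact congrArg (· ≫ i l) hg)
    exact ⟨v, hv ()⟩
  choose v hv using hdesc
  have hz : ∀ l, F.map (w' l).op ((m (i₀ l)).app _ (v l)) = x (w l) (hRl l) := fun l => by
    rw [← NatTrans.naturality_apply, hv, hy]
  have hcovW := gen_mem' W w hwQ hws
  -- compatibility on the open cover
  have hzc : Presieve.Arrows.Compatible F i (fun l => (m (i₀ l)).app _ (v l)) := by
    intro l l' Z g₁ g₂ hg
    have hs1 := (JQ Q S).pullback_stable g₁ (single_mem (w' l) (hw'Q l) (hw's l))
    have hs2 := (JQ Q S).pullback_stable g₂ (single_mem (w' l') (hw'Q l') (hw's l'))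
    refine sep_main hQ F h1 Fi m ha hb hrep hc _ ((JQ Q S).intersection_covering hs1 hs2) _ _
      (fun Z' h hh => ?_)
    obtain ⟨-, a, ha'⟩ := exists_fac' hh.1
    obtain ⟨-, b, hb'⟩ := exists_fac' hh.2
    rw [← Functor.map_comp_apply, ← Functor.map_comp_apply, ← op_comp, ← op_comp, ← ha', ← hb',
      op_comp, op_comp, Functor.map_comp_apply, Functor.map_comp_apply, hz, hz]
    refine hx a b (hRl l) (hRl l') ?_
    rw [← hw'i, ← hw'i, ← Category.assoc, ← Category.assoc, ha', hb', Category.assoc,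
      Category.assoc, hg]
  have hzar : Sieve.generate (Presieve.ofArrows U i) ∈ JQ @IsOpenImmersion S T :=
    gen_mem' U i hi (fun t => by
      obtain ⟨l, hl⟩ := hws t
      exact ⟨l, by rw [hrange]; exact hl⟩)
  obtain ⟨t, ht⟩ := sheaf_glue' h1 hzar _ hzc
  have htw : ∀ l, F.map (w l).op t = x (w l) (hRl l) := fun l => by
    have e : F.map (w l).op t = F.map (w' l).op (F.map (i l).op t) := by
      rw [← Functor.map_comp_apply, ← op_comp, hw'i]
    rw [e, ht, hz]
  have hamalg : x.IsAmalgamation t := by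
    intro Y f hf
    refine sep_main hQ F h1 Fi m ha hb hrep hc _ ((JQ Q S).pullback_stable f hcovW) _ _
      (fun Z h hh => ?_)
    obtain ⟨l, a, ha'⟩ := exists_fac' hh
    rw [← Functor.map_comp_apply, ← op_comp, ← ha', op_comp, Functor.map_comp_apply, htw]
    exact (hx h a hf (hRl l) ha'.symm).symm
  refine ⟨t, hamalg, fun t' ht' => ?_⟩
  refine sep_main hQ F h1 Fi m ha hb hrep hc R hR _ _ (fun Y f hf => ?_)
  rw [ht' f hf, hamalg f hf]

end main

end Groth.Agent.Helper4.SN522
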