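import Mathlib

/-!
# Digit-sum combinatorics for Ax's theorem

`rotL p a τ L`: the value of the digit list `L` (base `p`) after rotating the exponents
modulo `a`: `∑ ν, L[ν] * p ^ ((τ + ν) % a)`.  It is congruent to `p ^ τ * ofDigits p L`
modulo `p ^ a - 1`, positive if `L` has a non-zero digit, and its sum over a full period of `τ`
is `L.sum * (1 + p + ⋯ + p ^ (a - 1))`.
-/

namespace Groth.Agent.Helper4.SN523

open Finset

/-- rotated value of a digit list -/
def rotL (p a : ℕ) : ℕ → List ℕ → ℕ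
  | _, [] => 0
  | τ, d :: L => d * p ^ (τ % a) + rotL p a (τ + 1) L

/-- rotated value of a natural number -/
def rot (p a τ u : ℕ) : ℕ := rotL p a τ (Nat.digits p u)

/-- digit sum -/
def sig (p u : ℕ) : ℕ := (Nat.digits p u).sum

theorem pow_mod_modEq (p a τ : ℕ) (hp : 0 < p) : p ^ (τ % a) ≡ p ^ τ [MOD p ^ a - 1] := by
  have h1 : 1 ≡ p ^ a [MOD p ^ a - 1] :=
    (Nat.modEq_iff_dvd' (Nat.one_le_pow _ _ hp)).2 (dvd_refl _)
  have h2 : p ^ τ = (p ^ a) ^ (τ / a) * p ^ (τ % a) := by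
    rw [← pow_mul, ← pow_add, Nat.div_add_mod]
  rw [h2]
  calc p ^ (τ % a) = 1 ^ (τ / a) * p ^ (τ % a) := by simp
    _ ≡ (p ^ a) ^ (τ / a) * p ^ (τ % a) [MOD p ^ a - 1] :=
      Nat.ModEq.mul_right _ (Nat.ModEq.pow _ h1)

theorem rotL_modEq (p a : ℕ) (hp : 0 < p) (L : List ℕ) :
    ∀ τ, rotL p a τ L ≡ p ^ τ * Nat.ofDigits p L [MOD p ^ a - 1] := by
  induction L with
  | nil => intro τ; simp [rotL]; rfl
  | cons d L ih =>
    intro τ
    have e : p ^ τ * Nat.ofDigits p (d :: L) = d * p ^ τ + p ^ (τ + 1) * Nat.ofDigits p L := by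
      rw [Nat.ofDigits_cons]; ring
    rw [e]
    show d * p ^ (τ % a) + rotL p a (τ + 1) L ≡ _ [MOD _]
    exact Nat.ModEq.add (Nat.ModEq.mul_left _ (pow_mod_modEq p a τ hp)) (ih (τ + 1))

theorem rot_modEq (p a τ u : ℕ) (hp : 0 < p) : rot p a τ u ≡ p ^ τ * u [MOD p ^ a - 1] := by
  have := rotL_modEq p a hp (Nat.digits p u) τ
  rwa [Nat.ofDigits_digits] at this

theorem rotL_eq_zero (p a : ℕ) (hp : 0 < p) (L : List ℕ) :
    ∀ τ, rotL p a τ L = 0 → Nat.ofDigits p L = 0 := by
  induction L with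
  | nil => intro τ _; simp
  | cons d L ih =>
    intro τ h
    have h' : d * p ^ (τ % a) + rotL p a (τ + 1) L = 0 := h
    have h1 : d * p ^ (τ % a) = 0 := by omega
    have h2 : rotL p a (τ + 1) L = 0 := by omega
    have hd : d = 0 := by
      rcases Nat.mul_eq_zero.1 h1 with h | h
      · exact h
      · exact absurd h (pow_ne_zero _ hp.ne')
    rw [Nat.ofDigits_cons, hd, ih _ h2]; simp

theorem rot_pos (p a τ u : ℕ) (hp : 0 < p) (hu : 0 < u) : 0 < rot p a τ u := by
  by_contra h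
  have h0 : rot p a τ u = 0 := by omega
  have := rotL_eq_zero p a hp _ τ h0
  rw [Nat.ofDigits_digits] at this
  omega

theorem rot_zero (p a τ : ℕ) : rot p a τ 0 = 0 := by
  simp [rot, rotL]

theorem sum_range_mod_shift (a : ℕ) (f : ℕ → ℕ) (t : ℕ) :
    ∑ τ ∈ range a, f ((t + τ) % a) = ∑ r ∈ range a, f r := by
  rcases Nat.eq_zero_or_pos a with rfl | ha
  · simp
  induction t with
  | zero =>
    refine Finset.sum_congr rfl fun τ hτ => ?_
    rw [zero_add, Nat.mod_eq_of_lt (mem_range.1 hτ)]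
  | succ t ih =>
    rw [← ih]
    have e1 : ∑ τ ∈ range a, f ((t + 1 + τ) % a) = ∑ τ ∈ range a, f ((t + (τ + 1)) % a) := by
      refine Finset.sum_congr rfl fun τ _ => ?_
      congr 2; ring
    rw [e1]
    have e2 : ∑ τ ∈ range (a + 1), f ((t + τ) % a) =
        ∑ τ ∈ range a, f ((t + (τ + 1)) % a) + f ((t + 0) % a) :=
      Finset.sum_range_succ' (fun τ => f ((t + τ) % a)) a
    have e3 : ∑ τ ∈ range (a + 1), f ((t + τ) % a) =
        ∑ τ ∈ range a, f ((t + τ) % a) + f ((t + a) % a) :=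
      Finset.sum_range_succ (fun τ => f ((t + τ) % a)) a
    have e4 : f ((t + a) % a) = f ((t + 0) % a) := by simp
    omega

theorem sum_rotL (p a : ℕ) (L : List ℕ) :
    ∀ t, ∑ τ ∈ range a, rotL p a (t + τ) L = L.sum * ∑ r ∈ range a, p ^ r := by
  induction L with
  | nil => intro t; simp [rotL]
  | cons d L ih =>
    intro t
    have e : ∀ τ, rotL p a (t + τ) (d :: L) = d * p ^ ((t + τ) % a) + rotL p a ((t + 1) + τ) L := by
      intro τ
      show d * p ^ ((t + τ) % a) + rotL p a (t + τ + 1) L = _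
      congr 2; ring
    simp only [e, Finset.sum_add_distrib, ih (t + 1), List.sum_cons]
    rw [← Finset.mul_sum, sum_range_mod_shift a (fun r => p ^ r) t]
    ring

theorem sum_rot (p a u t : ℕ) :
    ∑ τ ∈ range a, rot p a (t + τ) u = sig p u * ∑ r ∈ range a, p ^ r :=
  sum_rotL p a _ t

theorem geom (p a : ℕ) (hp : 0 < p) : (p - 1) * ∑ r ∈ range a, p ^ r = p ^ a - 1 := by
  rw [mul_comm]; exact geom_sum_mul_of_one_le hp a

/-- The key estimate for one rotation `τ`. -/
theorem core_rot {ι : Type*} (p a : ℕ) (hp : 2 ≤ p) (ha : 0 < a) (I : Finset ι) (k : ι → ℕ)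
    {N : ℕ} (e : ι → Fin N → ℕ) (d : ℕ) (hd : 0 < d) (he : ∀ i ∈ I, ∑ l, e i l = d)
    (hK : (p ^ a - 1) ∣ ∑ i ∈ I, k i)
    (hE : ∀ l, (p ^ a - 1) ∣ ∑ i ∈ I, k i * e i l) (j : ℕ) (hj : j * d < N) (τ : ℕ) :
    (p ^ a - 1) * (j + 1) ≤ ∑ i ∈ I, rot p a τ (k i) +
      (p ^ a - 1) * (Finset.univ.filter fun l : Fin N => ∑ i ∈ I, k i * e i l = 0).card := by
  have hp0 : 0 < p := by omega
  set Q := p ^ a - 1 with hQ
  have hQ1 : 1 ≤ Q := by
    have : 2 ^ 1 ≤ p ^ a := le_trans (Nat.pow_le_pow_left hp 1) (Nat.pow_le_pow_right hp0 ha)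
    omega
  set R : ι → ℕ := fun i => rot p a τ (k i) with hR
  -- the sum of the rotated values is a multiple of Q
  have h1 : Q ∣ ∑ i ∈ I, R i := by
    have : ∑ i ∈ I, R i ≡ p ^ τ * ∑ i ∈ I, k i [MOD Q] := by
      rw [Finset.mul_sum]
      -- termwise congruence
      have : ∀ J : Finset ι, ∑ i ∈ J, R i ≡ ∑ i ∈ J, p ^ τ * k i [MOD Q] := by
        intro J
        classical
        induction J using Finset.induction_on with
        | empty => simp; rfl
        | insert x J hx ih =>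
          rw [Finset.sum_insert hx, Finset.sum_insert hx]
          exact Nat.ModEq.add (rot_modEq p a τ (k x) hp0) ih
      exact this I
    have h0 : p ^ τ * ∑ i ∈ I, k i ≡ 0 [MOD Q] :=
      (Nat.modEq_zero_iff_dvd).2 (Dvd.dvd.mul_left hK _)
    exact (Nat.modEq_zero_iff_dvd).1 (this.trans h0)
  obtain ⟨c, hc⟩ := h1
  -- the weighted sums
  set A : Fin N → ℕ := fun l => ∑ i ∈ I, R i * e i l with hA
  have h2 : ∀ l, Q ∣ A l := by
    intro l
    have : A l ≡ p ^ τ * ∑ i ∈ I, k i * e i l [MOD Q] := by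
      rw [Finset.mul_sum]
      have : ∀ J : Finset ι, ∑ i ∈ J, R i * e i l ≡ ∑ i ∈ J, p ^ τ * (k i * e i l) [MOD Q] := by
        intro J
        classical
        induction J using Finset.induction_on with
        | empty => simp; rfl
        | insert x J hx ih =>
          rw [Finset.sum_insert hx, Finset.sum_insert hx]
          refine Nat.ModEq.add ?_ ih
          rw [← mul_assoc]
          exact Nat.ModEq.mul_right _ (rot_modEq p a τ (k x) hp0)
      exact this I
    have h0 : p ^ τ * ∑ i ∈ I, k i * e i l ≡ 0 [MOD Q] :=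
      (Nat.modEq_zero_iff_dvd).2 (Dvd.dvd.mul_left (hE l) _)
    exact (Nat.modEq_zero_iff_dvd).1 (this.trans h0)
  have h3 : ∀ l, ∑ i ∈ I, k i * e i l ≠ 0 → Q ≤ A l := by
    intro l hl
    refine Nat.le_of_dvd ?_ (h2 l)
    obtain ⟨i, hi, hne⟩ := Finset.exists_ne_zero_of_sum_ne_zero hl
    have hk : 0 < k i := Nat.pos_of_ne_zero fun h => hne (by rw [h, zero_mul])
    have hei : 0 < e i l := Nat.pos_of_ne_zero fun h => hne (by rw [h, mul_zero])
    have : 0 < R i * e i l := Nat.mul_pos (rot_pos p a τ (k i) hp0 hk) hei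
    exact lt_of_lt_of_le this (Finset.single_le_sum (f := fun i => R i * e i l)
      (fun _ _ => Nat.zero_le _) hi)
  -- total of the weighted sums
  have h4 : ∑ l, A l = d * (c * Q) := by
    rw [hA, Finset.sum_comm]
    have : ∀ i ∈ I, ∑ l, R i * e i l = R i * d := by
      intro i hi; rw [← Finset.mul_sum, he i hi]
    rw [Finset.sum_congr rfl this, ← Finset.sum_mul, hc]; ring
  set Z := Finset.univ.filter fun l : Fin N => ∑ i ∈ I, k i * e i l = 0 with hZ
  set S := Finset.univ.filter fun l : Fin N => ¬ ∑ i ∈ I, k i * e i l = 0 with hS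
  have h5 : S.card + Z.card = N := by
    have := Finset.card_filter_add_card_filter_not (s := (Finset.univ : Finset (Fin N)))
      (fun l : Fin N => ∑ i ∈ I, k i * e i l = 0)
    rw [Finset.card_univ, Fintype.card_fin] at this
    rw [add_comm]; exact this
  have h6 : S.card * Q ≤ ∑ l, A l := by
    calc S.card * Q = ∑ l ∈ S, Q := by rw [Finset.sum_const, smul_eq_mul]
      _ ≤ ∑ l ∈ S, A l := Finset.sum_le_sum fun l hl => h3 l (Finset.mem_filter.1 hl).2
      _ ≤ ∑ l, A l := Finset.sum_le_sum_of_subset (Finset.subset_univ _)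
  -- conclude
  have h7 : S.card ≤ d * c := by
    rw [h4] at h6
    have : S.card * Q ≤ (d * c) * Q := by rw [mul_assoc]; exact h6
    exact Nat.le_of_mul_le_mul_right this hQ1
  have h8 : j + 1 ≤ c + Z.card := by
    by_contra hcon
    have hlt : c + Z.card ≤ j := by omega
    have : (c + Z.card) * d ≤ j * d := Nat.mul_le_mul_right _ hlt
    have hz : Z.card ≤ Z.card * d := Nat.le_mul_of_pos_right _ hd
    have : c * d + Z.card * d ≤ j * d := by rw [← add_mul]; exact this
    have hdc : d * c = c * d := mul_comm _ _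
    omega
  rw [hc]
  calc Q * (j + 1) ≤ Q * (c + Z.card) := Nat.mul_le_mul_left _ h8
    _ = Q * c + Q * Z.card := by ring


/-- The digit-sum estimate: sum of `core_rot` over a full period. -/
theorem core_sig {ι : Type*} (p a : ℕ) (hp : 2 ≤ p) (ha : 0 < a) (I : Finset ι) (k : ι → ℕ)
    {N : ℕ} (e : ι → Fin N → ℕ) (d : ℕ) (hd : 0 < d) (he : ∀ i ∈ I, ∑ l, e i l = d)
    (hK : (p ^ a - 1) ∣ ∑ i ∈ I, k i)
    (hE : ∀ l, (p ^ a - 1) ∣ ∑ i ∈ I, k i * e i l) (j : ℕ) (hj : j * d < N) :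
    (p - 1) * (a * (j + 1)) ≤ ∑ i ∈ I, sig p (k i) +
      (p - 1) * (a * (Finset.univ.filter fun l : Fin N => ∑ i ∈ I, k i * e i l = 0).card) := by
  have hp0 : 0 < p := by omega
  set z := (Finset.univ.filter fun l : Fin N => ∑ i ∈ I, k i * e i l = 0).card with hz
  set G := ∑ r ∈ range a, p ^ r with hG
  have hG1 : 1 ≤ G := by
    rw [hG]
    calc 1 = p ^ 0 := by simp
      _ ≤ ∑ r ∈ range a, p ^ r :=
        Finset.single_le_sum (f := fun r => p ^ r) (fun _ _ => Nat.zero_le _)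
          (Finset.mem_range.2 ha)
  have hQ : (p - 1) * G = p ^ a - 1 := geom p a hp0
  have h1 : ∀ τ ∈ range a, (p ^ a - 1) * (j + 1) ≤
      ∑ i ∈ I, rot p a (0 + τ) (k i) + (p ^ a - 1) * z := fun τ _ =>
    core_rot p a hp ha I k e d hd he hK hE j hj (0 + τ)
  have h2 := Finset.sum_le_sum h1
  rw [Finset.sum_const, Finset.card_range, smul_eq_mul, Finset.sum_add_distrib, Finset.sum_comm,
    Finset.sum_const, Finset.card_range, smul_eq_mul] at h2
  have h3 : ∑ i ∈ I, ∑ τ ∈ range a, rot p a (0 + τ) (k i) = (∑ i ∈ I, sig p (k i)) * G := by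
    rw [Finset.sum_mul]
    exact Finset.sum_congr rfl fun i _ => sum_rot p a (k i) 0
  rw [h3, ← hQ] at h2
  have h4 : G * ((p - 1) * (a * (j + 1))) ≤ G * (∑ i ∈ I, sig p (k i) + (p - 1) * (a * z)) := by
    calc G * ((p - 1) * (a * (j + 1))) = a * ((p - 1) * G * (j + 1)) := by ring
      _ ≤ (∑ i ∈ I, sig p (k i)) * G + a * ((p - 1) * G * z) := h2
      _ = G * (∑ i ∈ I, sig p (k i) + (p - 1) * (a * z)) := by ring
  exact Nat.le_of_mul_le_mul_left h4 hG1

open Nat in
/-- Legendre's formula for a multinomial coefficient. -/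
theorem multinomial_val {ι : Type*} (p : ℕ) [hp : Fact p.Prime] (I : Finset ι) (k : ι → ℕ) :
    (p - 1) * padicValNat p (Nat.multinomial I k) + sig p (∑ i ∈ I, k i) =
      ∑ i ∈ I, sig p (k i) := by
  classical
  have hspec := Nat.multinomial_spec I k
  have hm : Nat.multinomial I k ≠ 0 := by
    intro h; rw [h, mul_zero] at hspec
    exact (Nat.factorial_ne_zero _) hspec.symm
  have hprod : ∏ i ∈ I, (k i)! ≠ 0 := Finset.prod_ne_zero_iff.2 fun i _ => Nat.factorial_ne_zero _
  have h1 : padicValNat p (∑ i ∈ I, k i)! =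
      padicValNat p (∏ i ∈ I, (k i)!) + padicValNat p (Nat.multinomial I k) := by
    rw [← hspec, padicValNat.mul hprod hm]
  have h2 : ∀ J : Finset ι, padicValNat p (∏ i ∈ J, (k i)!) = ∑ i ∈ J, padicValNat p (k i)! := by
    intro J
    induction J using Finset.induction_on with
    | empty => simp
    | insert x J hx ih =>
      rw [Finset.prod_insert hx, Finset.sum_insert hx,
        padicValNat.mul (Nat.factorial_ne_zero _)
          (Finset.prod_ne_zero_iff.2 fun i _ => Nat.factorial_ne_zero _), ih]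
  rw [h2 I] at h1
  have h3 : ∀ n : ℕ, (p - 1) * padicValNat p n ! + sig p n = n := by
    intro n
    have := sub_one_mul_padicValNat_factorial (p := p) n
    have hle := Nat.digit_sum_le p n
    unfold sig; omega
  have h4 : (p - 1) * padicValNat p (∑ i ∈ I, k i)! =
      ∑ i ∈ I, (p - 1) * padicValNat p (k i)! + (p - 1) * padicValNat p (Nat.multinomial I k) := by
    rw [h1, mul_add, Finset.mul_sum]
  have h5 : ∑ i ∈ I, ((p - 1) * padicValNat p (k i)! + sig p (k i)) = ∑ i ∈ I, k i :=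
    Finset.sum_congr rfl fun i _ => h3 (k i)
  rw [Finset.sum_add_distrib] at h5
  have h6 := h3 (∑ i ∈ I, k i)
  omega

/-- digit sum of `p ^ a - 1`. -/
theorem sig_pow_sub_one (p a : ℕ) (hp : 2 ≤ p) : sig p (p ^ a - 1) = a * (p - 1) := by
  induction a with
  | zero => simp [sig]
  | succ a ih =>
    have h1 : 1 ≤ p ^ a := Nat.one_le_pow _ _ (by omega)
    have e : p ^ (a + 1) - 1 = (p - 1) + p * (p ^ a - 1) := by
      rw [pow_succ, Nat.mul_sub, mul_one, mul_comm p (p ^ a)]
      have : p ≤ p ^ a * p := Nat.le_mul_of_pos_left _ (by omega)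
      omega
    rcases Nat.eq_zero_or_pos a with rfl | ha
    · simp only [zero_add, pow_one, one_mul]
      unfold sig
      rw [Nat.digits_of_lt p (p - 1) (by omega) (by omega)]; simp
    · have hne : p ^ a - 1 ≠ 0 := by
        have : 2 ^ 1 ≤ p ^ a := le_trans (Nat.pow_le_pow_left hp 1) (Nat.pow_le_pow_right (by omega) ha)
        omega
      unfold sig at ih ⊢
      rw [e, Nat.digits_add p (by omega) (p - 1) (p ^ a - 1) (by omega) (Or.inr hne), List.sum_cons, ih]
      ring

/-- digit sum is unchanged by multiplication by a power of the base. -/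
theorem sig_pow_mul (p n m : ℕ) (hp : 2 ≤ p) (hm : 0 < m) : sig p (p ^ n * m) = sig p m := by
  unfold sig
  rw [Nat.digits_base_pow_mul (by omega) hm]; simp

/-- Final form: `p ^ (a * j)` divides the multinomial coefficient times `p ^ (a * z)`. -/
theorem core {ι : Type*} (p a : ℕ) [hp : Fact p.Prime] (ha : 0 < a) (I : Finset ι) (k : ι → ℕ)
    {N : ℕ} (e : ι → Fin N → ℕ) (d : ℕ) (hd : 0 < d) (he : ∀ i ∈ I, ∑ l, e i l = d) (n : ℕ)
    (hK : ∑ i ∈ I, k i = p ^ n * (p ^ a - 1))
    (hE : ∀ l, (p ^ a - 1) ∣ ∑ i ∈ I, k i * e i l) (j : ℕ) (hj : j * d < N) :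
    p ^ (a * j) ∣ Nat.multinomial I k *
      (p ^ a) ^ (Finset.univ.filter fun l : Fin N => ∑ i ∈ I, k i * e i l = 0).card := by
  have hp2 : 2 ≤ p := hp.out.two_le
  set z := (Finset.univ.filter fun l : Fin N => ∑ i ∈ I, k i * e i l = 0).card with hz
  have hQ1 : 0 < p ^ a - 1 := by
    have : 2 ^ 1 ≤ p ^ a := le_trans (Nat.pow_le_pow_left hp2 1) (Nat.pow_le_pow_right (by omega) ha)
    omega
  have h1 := core_sig p a hp2 ha I k e d hd he (hK ▸ Dvd.intro_left _ rfl) hE j hj
  have h2 := multinomial_val p I k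
  rw [hK, sig_pow_mul p n _ hp2 hQ1, sig_pow_sub_one p a hp2] at h2
  rw [← hz, ← h2] at h1
  have h3 : (p - 1) * (a * j) ≤ (p - 1) * (padicValNat p (Nat.multinomial I k) + a * z) := by
    have : (p - 1) * (a * (j + 1)) = (p - 1) * (a * j) + a * (p - 1) := by ring
    rw [mul_add]; omega
  have h4 : a * j ≤ padicValNat p (Nat.multinomial I k) + a * z :=
    Nat.le_of_mul_le_mul_left h3 (by omega)
  have hm : Nat.multinomial I k ≠ 0 := by
    have hspec := Nat.multinomial_spec I k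
    intro h; rw [h, mul_zero] at hspec
    exact (Nat.factorial_ne_zero _) hspec.symm
  rw [← pow_mul]
  have h5 : p ^ (padicValNat p (Nat.multinomial I k) + a * z) ∣ Nat.multinomial I k * p ^ (a * z) := by
    rw [pow_add]; exact Nat.mul_dvd_mul pow_padicValNat_dvd (dvd_refl _)
  exact (pow_dvd_pow p h4).trans h5

end Groth.Agent.Helper4.SN523
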