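import Mathlib

/-!
# Witt vectors of a finite field: Teichmüller power sums and the indicator congruence
-/

namespace Groth.Agent.Helper4.SN524

open Finset

variable (p : ℕ) [hp : Fact p.Prime] (k : Type*) [Field k] [CharP k p] [Fintype k]

theorem dvd_of_coeff_zero (x : WittVector p k) (hx : x.coeff 0 = 0) : (p : WittVector p k) ∣ x := by
  by_cases h0 : x = 0
  · rw [h0]; exact dvd_zero _
  obtain ⟨m, b, hb, rfl⟩ := WittVector.exists_eq_pow_p_mul x h0
  rcases m with _ | m
  · simp only [pow_zero, one_mul] at hx; exact absurd hx hb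
  · rw [pow_succ', mul_assoc]; exact Dvd.intro _ rfl

theorem constantCoeff_natCast (n : ℕ) :
    (WittVector.constantCoeff (n : WittVector p k)) = (n : k) := map_natCast _ n

theorem nat_dvd_of_dvd (e : ℕ) : ∀ n : ℕ, ((p : WittVector p k)) ^ e ∣ (n : WittVector p k) → p ^ e ∣ n := by
  induction e with
  | zero => intro n _; simp
  | succ e ih =>
    intro n h
    have hp0 : (p : WittVector p k) ≠ 0 := WittVector.p_nonzero p k
    have h1 : (p : WittVector p k) ∣ (n : WittVector p k) :=
      (Dvd.intro _ (pow_succ' (p : WittVector p k) e).symm).trans h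
    obtain ⟨y, hy⟩ := h1
    have h2 : (n : k) = 0 := by
      rw [← constantCoeff_natCast p k n, hy, map_mul, map_natCast, CharP.cast_eq_zero, zero_mul]
    obtain ⟨m, rfl⟩ := (CharP.cast_eq_zero_iff k p n).1 h2
    have h3 : (p : WittVector p k) ^ e ∣ (m : WittVector p k) := by
      rw [pow_succ', Nat.cast_mul] at h
      exact (mul_dvd_mul_iff_left hp0).1 h
    rw [pow_succ']
    exact Nat.mul_dvd_mul_left p (ih m h3)

theorem teichmuller_injective : Function.Injective (WittVector.teichmuller p : k → WittVector p k) := by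
  intro a b h
  have := congrArg (fun x => WittVector.coeff x 0) h
  simpa [WittVector.teichmuller_coeff_zero] using this

/-- The value of the power sum. -/
def psum (q E : ℕ) : ℕ := if E = 0 then q else if (q - 1) ∣ E then q - 1 else 0

theorem sum_teich_pow [DecidableEq k] (E : ℕ) :
    ∑ t : k, (WittVector.teichmuller p t) ^ E = ((psum (Fintype.card k) E : ℕ) : WittVector p k) := by
  unfold psum
  by_cases hE : E = 0
  · subst hE; simp
  rw [if_neg hE]
  let φ : kˣ →* WittVector p k :=
    (WittVector.teichmuller p).comp ((Units.coeHom k).comp (powMonoidHom E))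
  have hφ : ∀ u : kˣ, φ u = (WittVector.teichmuller p (u : k)) ^ E := by
    intro u; simp [φ]
  have : Decidable (φ = 1) := by classical infer_instance
  let ψ : kˣ ↪ k := ⟨fun x ↦ x, Units.val_injective⟩
  have hmap : univ.map ψ = univ \ {0} := by
    ext x
    simpa only [mem_map, mem_univ, Function.Embedding.coeFn_mk, true_and, mem_sdiff,
      mem_singleton, ψ] using! isUnit_iff_ne_zero
  have h1 : ∑ t : k, (WittVector.teichmuller p t) ^ E = ∑ u : kˣ, φ u := by
    rw [← sum_sdiff ({0} : Finset k).subset_univ, sum_singleton, WittVector.teichmuller_zero,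
      zero_pow hE, add_zero, ← hmap, univ.sum_map ψ]
    exact Finset.sum_congr rfl fun u _ => (hφ u).symm
  rw [h1, sum_hom_units φ]
  have hiff : φ = 1 ↔ (Fintype.card k - 1) ∣ E := by
    rw [← FiniteField.forall_pow_eq_one_iff, DFunLike.ext_iff]
    refine forall_congr' fun u => ?_
    rw [hφ, ← map_pow, MonoidHom.one_apply, ← map_one (WittVector.teichmuller p)]
    rw [(teichmuller_injective p k).eq_iff, ← Units.val_pow_eq_pow_val, ← Units.val_one,
      Units.val_inj]
  by_cases hd : (Fintype.card k - 1) ∣ E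
  · rw [if_pos hd, if_pos (hiff.2 hd), Fintype.card_units]
  · rw [if_neg hd, if_neg (fun h => hd (hiff.1 h))]

/-- The indicator congruence. -/
theorem indicator_congr [DecidableEq k] (a : ℕ) (hcard : Fintype.card k = p ^ a) (u : WittVector p k) (n e : ℕ)
    (hn : e ≤ n + 1) (hK : e ≤ p ^ n * (p ^ a - 1)) :
    (p : WittVector p k) ^ e ∣
      (if u.coeff 0 = 0 then (1 : WittVector p k) else 0) - (1 - u ^ (p ^ n * (p ^ a - 1))) := by
  by_cases h0 : u.coeff 0 = 0
  · rw [if_pos h0]
    obtain ⟨w, rfl⟩ := dvd_of_coeff_zero p k u h0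
    have : (1 : WittVector p k) - (1 - ((p : WittVector p k) * w) ^ (p ^ n * (p ^ a - 1))) =
        (p : WittVector p k) ^ (p ^ n * (p ^ a - 1)) * w ^ (p ^ n * (p ^ a - 1)) := by
      rw [mul_pow]; ring
    rw [this]
    exact Dvd.dvd.mul_right (pow_dvd_pow _ hK) _
  · rw [if_neg h0]
    have h1 : (u ^ (p ^ a - 1) - 1).coeff 0 = 0 := by
      have : WittVector.constantCoeff (u ^ (p ^ a - 1) - 1) = 0 := by
        rw [map_sub, map_pow, map_one, WittVector.constantCoeff_apply, ← hcard,
          FiniteField.pow_card_sub_one_eq_one _ h0, sub_self]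
      exact this
    have h2 := dvd_of_coeff_zero p k _ h1
    have h3 := dvd_sub_pow_of_dvd_sub h2 n
    rw [one_pow, ← pow_mul, mul_comm (p ^ a - 1)] at h3
    have : (0 : WittVector p k) - (1 - u ^ (p ^ n * (p ^ a - 1))) = u ^ (p ^ n * (p ^ a - 1)) - 1 := by
      ring
    rw [this]
    exact (pow_dvd_pow _ hn).trans h3

end Groth.Agent.Helper4.SN524
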