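import Mathlib
import Groth.Agent.Helper4.SN523
import Groth.Agent.Helper4.SN524

/-!
# Ax's theorem: the main power-sum divisibility
-/

namespace Groth.Agent.Helper4.SN525

open Finset Groth.Agent.Helper4

variable (p : ℕ) [hp : Fact p.Prime] (k : Type*) [Field k] [CharP k p] [Fintype k] [DecidableEq k]

/-- The Teichmüller lift of the value of `F` at `x`, monomial by monomial. -/
noncomputable def lift {N : ℕ} (F : MvPolynomial (Fin N) k) (x : Fin N → k) : WittVector p k :=
  ∑ i ∈ F.support, WittVector.teichmuller p (F.coeff i * ∏ l, x l ^ i l)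

theorem lift_coeff_zero {N : ℕ} (F : MvPolynomial (Fin N) k) (x : Fin N → k) :
    (lift p k F x).coeff 0 = MvPolynomial.eval x F := by
  have : WittVector.constantCoeff (lift p k F x) = MvPolynomial.eval x F := by
    unfold lift
    rw [map_sum, MvPolynomial.eval_eq']
    refine Finset.sum_congr rfl fun i _ => ?_
    rw [WittVector.constantCoeff_apply, WittVector.teichmuller_coeff_zero]
  exact this

/-- exponent of the `l`-th variable in the monomial of multi-index `κ` -/
def expo {N : ℕ} (F : MvPolynomial (Fin N) k) (κ : (Fin N →₀ ℕ) → ℕ) (l : Fin N) : ℕ :=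
  ∑ i ∈ F.support, κ i * i l

theorem prod_teich {N : ℕ} (F : MvPolynomial (Fin N) k) (x : Fin N → k) (κ : (Fin N →₀ ℕ) → ℕ) :
    ∏ i ∈ F.support, (WittVector.teichmuller p (F.coeff i * ∏ l, x l ^ i l)) ^ κ i =
      WittVector.teichmuller p (∏ i ∈ F.support, F.coeff i ^ κ i) *
        ∏ l, (WittVector.teichmuller p (x l)) ^ expo k F κ l := by
  have h1 : ∀ i ∈ F.support, (WittVector.teichmuller p (F.coeff i * ∏ l, x l ^ i l)) ^ κ i =
      WittVector.teichmuller p (F.coeff i ^ κ i) *
        ∏ l, (WittVector.teichmuller p (x l)) ^ (κ i * i l) := by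
    intro i _
    rw [map_mul, mul_pow, map_pow, map_prod, ← Finset.prod_pow]
    congr 1
    refine Finset.prod_congr rfl fun l _ => ?_
    rw [map_pow, ← pow_mul, mul_comm]
  rw [Finset.prod_congr rfl h1, Finset.prod_mul_distrib, map_prod, Finset.prod_comm]
  congr 1
  refine Finset.prod_congr rfl fun l _ => ?_
  rw [Finset.prod_pow_eq_pow_sum]; rfl

theorem sum_prod_teich {N : ℕ} (E : Fin N → ℕ) :
    ∑ x : Fin N → k, ∏ l, (WittVector.teichmuller p (x l)) ^ E l =
      ((∏ l, SN524.psum (Fintype.card k) (E l) : ℕ) : WittVector p k) := by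
  rw [Nat.cast_prod]
  refine ((Fintype.prod_sum (fun (l : Fin N) (t : k) =>
    (WittVector.teichmuller p t) ^ E l)).symm).trans ?_
  refine Finset.prod_congr rfl fun l _ => ?_
  exact SN524.sum_teich_pow p k (E l)

theorem sum_lift_pow {N : ℕ} (F : MvPolynomial (Fin N) k) (K : ℕ) :
    ∑ x : Fin N → k, lift p k F x ^ K =
      ∑ κ ∈ piAntidiag F.support K, ((Nat.multinomial F.support κ : ℕ) : WittVector p k) *
        (WittVector.teichmuller p (∏ i ∈ F.support, F.coeff i ^ κ i) *
          ((∏ l, SN524.psum (Fintype.card k) (expo k F κ l) : ℕ) : WittVector p k)) := by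
  have h1 : ∀ x : Fin N → k, lift p k F x ^ K =
      ∑ κ ∈ piAntidiag F.support K, ((Nat.multinomial F.support κ : ℕ) : WittVector p k) *
        (WittVector.teichmuller p (∏ i ∈ F.support, F.coeff i ^ κ i) *
          ∏ l, (WittVector.teichmuller p (x l)) ^ expo k F κ l) := by
    intro x
    unfold lift
    rw [Finset.sum_pow_eq_sum_piAntidiag]
    refine Finset.sum_congr rfl fun κ _ => ?_
    rw [prod_teich]
  rw [Finset.sum_congr rfl fun x _ => h1 x, Finset.sum_comm]
  refine Finset.sum_congr rfl fun κ _ => ?_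
  rw [← Finset.mul_sum, ← Finset.mul_sum, sum_prod_teich]

theorem term_dvd {N : ℕ} (F : MvPolynomial (Fin N) k) (a : ℕ) (ha : 0 < a)
    (hcard : Fintype.card k = p ^ a) (d : ℕ) (hd : 0 < d) (hF : F.IsHomogeneous d)
    (j : ℕ) (hj : j * d < N) (n : ℕ) (κ : (Fin N →₀ ℕ) → ℕ)
    (hκ : κ ∈ piAntidiag F.support (p ^ n * (p ^ a - 1))) :
    p ^ (a * j) ∣ Nat.multinomial F.support κ *
      ∏ l, SN524.psum (Fintype.card k) (expo k F κ l) := by
  by_cases hex : ∃ l, expo k F κ l ≠ 0 ∧ ¬ (p ^ a - 1) ∣ expo k F κ l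
  · obtain ⟨l, hl1, hl2⟩ := hex
    have : ∏ l, SN524.psum (Fintype.card k) (expo k F κ l) = 0 := by
      refine Finset.prod_eq_zero (Finset.mem_univ l) ?_
      unfold SN524.psum
      rw [if_neg hl1, hcard, if_neg hl2]
    rw [this, mul_zero]; exact dvd_zero _
  · have hall : ∀ l, (p ^ a - 1) ∣ expo k F κ l := by
      intro l
      by_contra h
      exact hex ⟨l, fun h0 => h (h0 ▸ dvd_zero _), h⟩
    have he : ∀ i ∈ F.support, ∑ l, (fun (i : Fin N →₀ ℕ) (l : Fin N) => i l) i l = d := by
      intro i hi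
      have := hF (MvPolynomial.mem_support_iff.1 hi)
      rw [← this, ← Finsupp.degree_eq_sum]
      simp [Finsupp.degree_eq_weight_one]
      rfl
    have hK : ∑ i ∈ F.support, κ i = p ^ n * (p ^ a - 1) := (mem_piAntidiag.1 hκ).1
    have hcore := SN523.core p a ha F.support κ (fun (i : Fin N →₀ ℕ) (l : Fin N) => i l) d hd he n hK
      hall j hj
    have hprod : ∏ l, SN524.psum (Fintype.card k) (expo k F κ l) =
        (p ^ a) ^ (Finset.univ.filter fun l : Fin N => expo k F κ l = 0).card *
          (p ^ a - 1) ^ (Finset.univ.filter fun l : Fin N => ¬ expo k F κ l = 0).card := by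
      have : ∀ l, SN524.psum (Fintype.card k) (expo k F κ l) =
          if expo k F κ l = 0 then p ^ a else p ^ a - 1 := by
        intro l
        unfold SN524.psum
        rw [hcard]
        by_cases h0 : expo k F κ l = 0
        · rw [if_pos h0, if_pos h0]
        · rw [if_neg h0, if_neg h0, if_pos (hall l)]
      rw [Finset.prod_congr rfl fun l _ => this l, Finset.prod_ite, Finset.prod_const,
        Finset.prod_const]
    rw [hprod, ← mul_assoc]
    exact Dvd.dvd.mul_right hcore _

theorem main {N : ℕ} (F : MvPolynomial (Fin N) k) (a : ℕ) (ha : 0 < a)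
    (hcard : Fintype.card k = p ^ a) (d : ℕ) (hd : 0 < d) (hF : F.IsHomogeneous d)
    (j : ℕ) (hj : j * d < N) (n : ℕ) :
    (p : WittVector p k) ^ (a * j) ∣ ∑ x : Fin N → k, lift p k F x ^ (p ^ n * (p ^ a - 1)) := by
  rw [sum_lift_pow]
  refine Finset.dvd_sum fun κ hκ => ?_
  have h := term_dvd p k F a ha hcard d hd hF j hj n κ hκ
  have h2 : ((p ^ (a * j) : ℕ) : WittVector p k) ∣
      ((Nat.multinomial F.support κ * ∏ l, SN524.psum (Fintype.card k) (expo k F κ l) : ℕ) :
        WittVector p k) := Nat.cast_dvd_cast h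
  rw [Nat.cast_pow, Nat.cast_mul] at h2
  rw [mul_left_comm]
  exact Dvd.dvd.mul_left h2 _

end Groth.Agent.Helper4.SN525
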