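import Mathlib
import Groth.Agent.Helper4.SN525

/-!
# Ax's theorem for homogeneous forms
-/

namespace Groth.Agent.Helper4.SN526

open Finset Groth.Agent.Helper4

universe u

theorem ax (k : Type u) [Field k] [Fintype k] [DecidableEq k] (N d j : ℕ)
    (hd : 0 < d) (F : MvPolynomial (Fin N) k) (hF : F.IsHomogeneous d) (hj : j * d < N) :
    Fintype.card k ^ j ∣ Fintype.card {x : Fin N → k // MvPolynomial.eval x F = 0} := by
  obtain ⟨p, hchar⟩ := CharP.exists k
  haveI := hchar
  obtain ⟨a, hp, hcard⟩ := FiniteField.card k p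
  haveI : Fact p.Prime := ⟨hp⟩
  have ha : 0 < (a : ℕ) := a.pos
  have hp2 : 2 ≤ p := hp.two_le
  have hjN : j ≤ N := by
    have : j * 1 ≤ j * d := Nat.mul_le_mul_left _ hd
    omega
  set n : ℕ := (a : ℕ) * j with hn
  have hK : (a : ℕ) * j ≤ p ^ n * (p ^ (a : ℕ) - 1) := by
    have h1 : n < p ^ n := Nat.lt_pow_self hp2
    have h2 : 1 ≤ p ^ (a : ℕ) - 1 := by
      have : 2 ^ 1 ≤ p ^ (a : ℕ) :=
        le_trans (Nat.pow_le_pow_left hp2 1) (Nat.pow_le_pow_right (by omega) ha)
      omega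
    calc (a : ℕ) * j = n := rfl
      _ ≤ p ^ n * 1 := by omega
      _ ≤ p ^ n * (p ^ (a : ℕ) - 1) := Nat.mul_le_mul_left _ h2
  have h1 := SN525.main p k F a ha hcard d hd hF j hj n
  have h2 : ∀ x : Fin N → k, (p : WittVector p k) ^ ((a : ℕ) * j) ∣
      (if MvPolynomial.eval x F = 0 then (1 : WittVector p k) else 0) -
        (1 - SN525.lift p k F x ^ (p ^ n * (p ^ (a : ℕ) - 1))) := by
    intro x
    have := SN524.indicator_congr p k a hcard (SN525.lift p k F x) n ((a : ℕ) * j) (by omega) hK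
    rwa [SN525.lift_coeff_zero] at this
  have h3 := Finset.dvd_sum (s := (Finset.univ : Finset (Fin N → k))) fun x _ => h2 x
  rw [Finset.sum_sub_distrib, Finset.sum_sub_distrib, Finset.sum_const, Finset.card_univ,
    Fintype.card_fun, Fintype.card_fin, hcard, nsmul_eq_mul, mul_one] at h3
  have h4 : (p : WittVector p k) ^ ((a : ℕ) * j) ∣ (((p ^ (a : ℕ)) ^ N : ℕ) : WittVector p k) := by
    rw [Nat.cast_pow, Nat.cast_pow, ← pow_mul]
    exact pow_dvd_pow _ (Nat.mul_le_mul_left _ hjN)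
  have h5 : (p : WittVector p k) ^ ((a : ℕ) * j) ∣
      ∑ x : Fin N → k, (if MvPolynomial.eval x F = 0 then (1 : WittVector p k) else 0) := by
    have e : ∑ x : Fin N → k, (if MvPolynomial.eval x F = 0 then (1 : WittVector p k) else 0) =
        (∑ x : Fin N → k, (if MvPolynomial.eval x F = 0 then (1 : WittVector p k) else 0) -
          ((((p ^ (a : ℕ)) ^ N : ℕ) : WittVector p k) -
            ∑ x : Fin N → k, SN525.lift p k F x ^ (p ^ n * (p ^ (a : ℕ) - 1)))) +
        ((((p ^ (a : ℕ)) ^ N : ℕ) : WittVector p k) -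
            ∑ x : Fin N → k, SN525.lift p k F x ^ (p ^ n * (p ^ (a : ℕ) - 1))) := by ring
    rw [e]
    exact dvd_add h3 (dvd_sub h4 h1)
  have h6 : ((Fintype.card {x : Fin N → k // MvPolynomial.eval x F = 0} : ℕ) : WittVector p k) =
      ∑ x : Fin N → k, (if MvPolynomial.eval x F = 0 then (1 : WittVector p k) else 0) := by
    rw [Fintype.card_subtype, Finset.natCast_card_filter]
  rw [hcard, ← pow_mul]
  apply SN524.nat_dvd_of_dvd p k
  rw [h6]
  exact h5

end Groth.Agent.Helper4.SN526
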