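import Mathlib
import Groth.Agent.Helper5.FFRR
import Groth.Agent.Helper5.FFStep

/-!
# Bombieri's argument, part 1: pole numbers at a rational place, and injectivity of
`(y_j) ↦ ∑ u_j y_j ^ l`.
-/

set_option autoImplicit false

open FunFld

namespace Groth.Agent.Helper4.SN527

open Groth.Agent.Helper5.FF

variable {k K : Type*} [Field k] [Field K] [Algebra k K]

/-- `j` is a pole number of the place `Q₀`: some function with poles only at `Q₀` has pole order
exactly `j` there. -/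
def IsPoleNumber (Q₀ : Place k K) (j : ℕ) : Prop :=
  ∃ u : K, u ∈ L (Finsupp.single Q₀ (j : ℤ) : Divisor k K) ∧ Q₀.1 u = WithZero.exp (j : ℤ)

theorem L_single_succ_eq (Q₀ : Place k K) (j : ℕ) (h : ¬ IsPoleNumber Q₀ (j + 1)) :
    L (Finsupp.single Q₀ ((j + 1 : ℕ) : ℤ) : Divisor k K) =
      L (Finsupp.single Q₀ (j : ℤ) : Divisor k K) := by
  apply le_antisymm
  · intro x hx P
    by_cases hP : P = Q₀
    · subst hP
      rw [Finsupp.single_eq_same]
      have h1 : P.1 x ≤ WithZero.exp (((j + 1 : ℕ) : ℤ)) := by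
        have := hx P; rwa [Finsupp.single_eq_same] at this
      by_cases hx0 : x = 0
      · rw [hx0, map_zero]; exact zero_le'
      have h2 : P.1 x ≠ WithZero.exp (((j + 1 : ℕ) : ℤ)) := fun he => h ⟨x, hx, he⟩
      have h3 : P.1 x < WithZero.exp (((j + 1 : ℕ) : ℤ)) := lt_of_le_of_ne h1 h2
      rw [val_lt_exp_iff P hx0] at h3
      rw [val_le_exp_iff P hx0]
      push_cast at h3; omega
    · have := hx P
      rw [Finsupp.single_eq_of_ne hP] at this ⊢
      exact this
  · apply L_mono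
    intro P
    by_cases hP : P = Q₀
    · subst hP; rw [Finsupp.single_eq_same, Finsupp.single_eq_same]; push_cast; omega
    · rw [Finsupp.single_eq_of_ne hP, Finsupp.single_eq_of_ne hP]

open Classical in
theorem ell_le_card_poleNumbers (hK : IsFunctionField k K) (Q₀ : Place k K) (hQ : Q₀.deg = 1)
    (m : ℕ) :
    ell (Finsupp.single Q₀ (m : ℤ) : Divisor k K) ≤
      ((Finset.range (m + 1)).filter fun j => IsPoleNumber Q₀ j).card := by
  induction m with
  | zero =>
    have h0 : IsPoleNumber Q₀ 0 := by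
      refine ⟨1, ?_, by simp⟩
      intro P; simp
    have : (Finsupp.single Q₀ ((0 : ℕ) : ℤ) : Divisor k K) = 0 := by simp
    rw [this, ell_zero hK]
    have : (0 : ℕ) ∈ (Finset.range (0 + 1)).filter fun j => IsPoleNumber Q₀ j := by
      simp [h0]
    exact Finset.card_pos.2 ⟨0, this⟩
  | succ m ih =>
    rw [Finset.range_add_one, Finset.filter_insert]
    by_cases h : IsPoleNumber Q₀ (m + 1)
    · rw [if_pos h, Finset.card_insert_of_notMem (by simp)]
      have hle : (Finsupp.single Q₀ (m : ℤ) : Divisor k K) ≤ Finsupp.single Q₀ ((m + 1 : ℕ) : ℤ) := by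
        intro P
        by_cases hP : P = Q₀
        · subst hP; rw [Finsupp.single_eq_same, Finsupp.single_eq_same]; push_cast; omega
        · rw [Finsupp.single_eq_of_ne hP, Finsupp.single_eq_of_ne hP]
      have := ell_sub_ell_le hK _ _ hle
      rw [deg_single, deg_single, hQ] at this
      have hc : (((m + 1 : ℕ) : ℤ)) * ((1 : ℕ) : ℤ) - (m : ℤ) * ((1 : ℕ) : ℤ) = 1 := by
        push_cast; ring
      rw [hc] at this
      omega
    · rw [if_neg h]
      unfold ell at ih ⊢
      rw [L_single_succ_eq Q₀ m h]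
      exact ih

/-- A sum of terms with pairwise distinct valuations, not all zero, is non-zero. -/
theorem sum_ne_zero_of_val_injOn {Γ : Type*} [LinearOrderedCommGroupWithZero Γ]
    (v : Valuation K Γ) {ι : Type*} (s : Finset ι) (f : ι → K)
    (hinj : ∀ i ∈ s, ∀ j ∈ s, f i ≠ 0 → f j ≠ 0 → v (f i) = v (f j) → i = j)
    (hne : ∃ i ∈ s, f i ≠ 0) : ∑ i ∈ s, f i ≠ 0 := by
  classical
  set s' := s.filter fun i => f i ≠ 0 with hs'
  have hsum : ∑ i ∈ s, f i = ∑ i ∈ s', f i := by
    rw [hs', Finset.sum_filter]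
    refine Finset.sum_congr rfl fun i _ => ?_
    by_cases h : f i = 0 <;> simp [h]
  have hne' : s'.Nonempty := by
    obtain ⟨i, hi, h⟩ := hne
    exact ⟨i, Finset.mem_filter.2 ⟨hi, h⟩⟩
  obtain ⟨j, hj, hmax⟩ := Finset.exists_max_image s' (fun i => v (f i)) hne'
  have hj' := Finset.mem_filter.1 hj
  have hlt : ∀ i ∈ s' \ {j}, v (f i) < v (f j) := by
    intro i hi
    rw [Finset.mem_sdiff, Finset.mem_singleton] at hi
    have hi' := Finset.mem_filter.1 hi.1
    refine lt_of_le_of_ne (hmax i hi.1) fun he => hi.2 ?_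
    exact hinj i hi'.1 j hj'.1 hi'.2 hj'.2 he
  have := Valuation.map_sum_eq_of_lt v hj hlt
  rw [hsum]
  intro h0
  rw [h0, map_zero] at this
  exact hj'.2 ((Valuation.zero_iff v).1 this.symm)

/-- Injectivity of `(y_j) ↦ ∑ u_j y_j ^ l` when the `u_j` have distinct pole orders `j < l`. -/
theorem eq_zero_of_sum_mul_pow_eq_zero (Q₀ : Place k K) (J : Finset ℕ) (l : ℕ)
    (hJ : ∀ j ∈ J, j < l) (u : ℕ → K) (hu : ∀ j ∈ J, Q₀.1 (u j) = WithZero.exp (j : ℤ))
    (y : ℕ → K) (h : ∑ j ∈ J, u j * y j ^ l = 0) : ∀ j ∈ J, y j = 0 := by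
  by_contra hcon
  push_neg at hcon
  obtain ⟨j₀, hj₀, hy₀⟩ := hcon
  have hu0 : ∀ j ∈ J, u j ≠ 0 := by
    intro j hj h0
    have := hu j hj
    rw [h0, map_zero] at this
    exact WithZero.exp_ne_zero this.symm
  refine sum_ne_zero_of_val_injOn Q₀.1 J (fun j => u j * y j ^ l) ?_ ?_ h
  · intro i hi j hj hfi hfj he
    have hyi : y i ≠ 0 := fun h0 => hfi (by simp [h0, (show l ≠ 0 by have := hJ i hi; omega)])
    have hyj : y j ≠ 0 := fun h0 => hfj (by simp [h0, (show l ≠ 0 by have := hJ j hj; omega)])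
    have h1 : Q₀.ord (u i * y i ^ l) = Q₀.ord (u j * y j ^ l) := by
      unfold Place.ord; rw [he]
    rw [ord_mul Q₀ (hu0 i hi) (pow_ne_zero _ hyi), ord_mul Q₀ (hu0 j hj) (pow_ne_zero _ hyj),
      ord_pow, ord_pow, ord_eq_of_val_eq Q₀ (hu i hi), ord_eq_of_val_eq Q₀ (hu j hj)] at h1
    have hi' := hJ i hi
    have hj' := hJ j hj
    -- (i : ℤ) - j = l * (ord y_i - ord y_j), |i - j| < l
    have h2 : (l : ℤ) ∣ (i : ℤ) - j := ⟨Q₀.ord (y i) - Q₀.ord (y j), by linarith⟩
    have h3 : (i : ℤ) - j = 0 := by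
      apply Int.eq_zero_of_abs_lt_dvd h2
      rw [abs_lt]; constructor <;> omega
    omega
  · exact ⟨j₀, hj₀, mul_ne_zero (hu0 j₀ hj₀) (pow_ne_zero _ hy₀)⟩

end Groth.Agent.Helper4.SN527
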