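import Mathlib
import Groth.Agent.Helper4.SN527
import Groth.Agent.Helper5.FFRiemann
import Groth.Agent.Helper6.FFZeta12

/-!
# Bombieri's argument, part 2: the twisted upper bound
-/

set_option autoImplicit false

open FunFld

namespace Groth.Agent.Helper4.SN528

open Groth.Agent.Helper5.FF Groth.Agent.Helper6.FFZeta Groth.Agent.Helper4.SN527

variable {k K : Type*} [Field k] [Field K] [Algebra k K]

/-- Transport of a place by a `k`-automorphism: `(pm σ P)(σ z) = P z`. -/
def pm (σ : K ≃ₐ[k] K) (P : Place k K) : Place k K :=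
  placeMap (RingEquiv.refl k) σ.toRingEquiv (fun c => by simp) P

theorem pm_val (σ : K ≃ₐ[k] K) (P : Place k K) (z : K) : (pm σ P).1 (σ z) = P.1 z := by
  show P.1 (σ.toRingEquiv.symm (σ z)) = P.1 z
  congr 1
  exact σ.symm_apply_apply z

theorem pm_val' (σ : K ≃ₐ[k] K) (P : Place k K) (z : K) : (pm σ P).1 z = P.1 (σ.symm z) := rfl

theorem pm_bijective (σ : K ≃ₐ[k] K) : Function.Bijective (pm σ : Place k K → Place k K) :=
  placeMap_bijective (RingEquiv.refl k) σ.toRingEquiv (fun c => by simp)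

theorem deg_pm (σ : K ≃ₐ[k] K) (P : Place k K) : (pm σ P).deg = P.deg :=
  deg_placeMap (RingEquiv.refl k) σ.toRingEquiv (fun c => by simp) P

theorem map_mem_L (σ : K ≃ₐ[k] K) (Q₀ : Place k K) (n : ℤ) {y : K}
    (hy : y ∈ L (Finsupp.single Q₀ n : Divisor k K)) :
    σ y ∈ L (Finsupp.single (pm σ Q₀) n : Divisor k K) := by
  intro P
  obtain ⟨P', rfl⟩ := (pm_bijective σ).2 P
  rw [pm_val]
  have := hy P'
  by_cases h : P' = Q₀
  · subst h; rwa [Finsupp.single_eq_same] at this ⊢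
  · have h' : pm σ P' ≠ pm σ Q₀ := fun e => h ((pm_bijective σ).1 e)
    rw [Finsupp.single_eq_of_ne h] at this
    rw [Finsupp.single_eq_of_ne h']; exact this


/-- Degree count: a non-zero function with poles only at `Q₀`, of order at most `N`, has at most
`N * deg Q₀` zeros counted with degrees. -/
theorem sum_deg_le (hK : IsFunctionField k K) (Q₀ : Place k K) (N : ℤ) {x : K} (hx0 : x ≠ 0)
    (hx : x ∈ L (Finsupp.single Q₀ N : Divisor k K)) (T : Finset (Place k K))
    (hT : ∀ Q ∈ T, Q ≠ Q₀ ∧ Q.1 x < 1) :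
    ∑ Q ∈ T, (Q.deg : ℤ) ≤ N * Q₀.deg := by
  classical
  set E : Divisor k K := FunFld.div k x + Finsupp.single Q₀ N with hE
  set F : Divisor k K := ∑ Q ∈ T, Finsupp.single Q (1 : ℤ) with hF
  have hFE : F ≤ E := by
    intro P
    have hFP : F P = if P ∈ T then 1 else 0 := by
      rw [hF, Finsupp.finset_sum_apply]
      simp only [Finsupp.single_apply]
      rw [Finset.sum_ite_eq' T P]
    have hEP : E P = P.ord x + (Finsupp.single Q₀ N : Divisor k K) P := by
      rw [hE, Finsupp.add_apply, div_apply hK]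
    have hge : -((Finsupp.single Q₀ N : Divisor k K) P) ≤ P.ord x :=
      (mem_L_iff_ord _ hx0).1 hx P
    rw [hFP, hEP]
    by_cases hP : P ∈ T
    · rw [if_pos hP]
      obtain ⟨hne, hlt⟩ := hT P hP
      rw [Finsupp.single_eq_of_ne hne, add_zero]
      have := (ord_pos_iff P hx0).2 hlt
      omega
    · rw [if_neg hP]; omega
  have h1 : 0 ≤ (E - F).deg := deg_nonneg (sub_nonneg.2 hFE)
  rw [deg_sub, hE, deg_add, deg_div hK, deg_single, zero_add] at h1
  have h2 : F.deg = ∑ Q ∈ T, (Q.deg : ℤ) := by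
    rw [hF, ← degHom_apply, map_sum]
    refine Finset.sum_congr rfl fun Q _ => ?_
    rw [degHom_apply, deg_single, one_mul]
  rw [h2] at h1
  linarith


theorem mul_mem_L {A B : Divisor k K} {a b : K} (ha : a ∈ L A) (hb : b ∈ L B) :
    a * b ∈ L (A + B) := by
  intro P
  rw [map_mul, Finsupp.add_apply, WithZero.exp_add]
  exact mul_le_mul' (ha P) (hb P)

theorem pow_mem_L {A : Divisor k K} {a : K} (ha : a ∈ L A) (l : ℕ) : a ^ l ∈ L (l • A) := by
  induction l with
  | zero =>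
    intro P; simp
  | succ l ih =>
    rw [pow_succ, succ_nsmul]
    exact mul_mem_L ih ha

theorem single_le_single (Q₀ : Place k K) {a b : ℤ} (h : a ≤ b) :
    (Finsupp.single Q₀ a : Divisor k K) ≤ Finsupp.single Q₀ b := by
  intro P
  by_cases hP : P = Q₀
  · subst hP; rw [Finsupp.single_eq_same, Finsupp.single_eq_same]; exact h
  · rw [Finsupp.single_eq_of_ne hP, Finsupp.single_eq_of_ne hP]

/-- The auxiliary function of Bombieri's argument. -/
theorem exists_function (hK : IsFunctionField k K) (p e : ℕ) [Fact p.Prime] [CharP K p]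
    (l : ℕ) (hle : l = p ^ e) (hl : (genus k K + 1) ^ 2 < l) (Q₀ : Place k K) (hQ₀ : Q₀.deg = 1)
    (σ : K ≃ₐ[k] K) :
    ∃ x : K, x ≠ 0 ∧
      x ∈ L (Finsupp.single Q₀ (((l - 1) + l * (l + 2 * genus k K) : ℕ) : ℤ) : Divisor k K) ∧
      ∀ Q : Place k K, Q ≠ Q₀ → (∀ z : K, Q.1 z ≤ 1 → Q.1 (σ z - z ^ (l ^ 2)) < 1) → Q.1 x < 1 := by
  classical
  set g := genus k K with hg
  set m := l - 1 with hm
  set n := l + 2 * g with hn
  have hl2 : 2 ≤ l := by
    have : 1 ≤ (g + 1) ^ 2 := Nat.one_le_pow _ _ (by omega)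
    omega
  have hgl : g + 1 ≤ l := by
    have : g + 1 ≤ (g + 1) ^ 2 := by nlinarith
    omega
  -- pole numbers
  set J := (Finset.range (m + 1)).filter fun j => IsPoleNumber Q₀ j with hJ
  have hJlt : ∀ j ∈ J, j < l := by
    intro j hj
    have := Finset.mem_range.1 (Finset.mem_filter.1 hj).1
    omega
  have hJle : ∀ j ∈ J, (j : ℤ) ≤ (m : ℤ) := by
    intro j hj
    have := Finset.mem_range.1 (Finset.mem_filter.1 hj).1
    omega
  have hJcard : (m : ℤ) + 1 - g ≤ J.card := by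
    have h1 := ell_le_card_poleNumbers hK Q₀ hQ₀ m
    have h2 := (riemann_inequality hK).1 (Finsupp.single Q₀ (m : ℤ) : Divisor k K)
    rw [deg_single, hQ₀] at h2
    have h3 : (ell (Finsupp.single Q₀ (m : ℤ) : Divisor k K) : ℤ) ≤ J.card := by exact_mod_cast h1
    push_cast at h2
    linarith
  let u : ℕ → K := fun j => if h : IsPoleNumber Q₀ j then h.choose else 0
  have hu : ∀ j ∈ J, u j ∈ L (Finsupp.single Q₀ (j : ℤ) : Divisor k K) ∧
      Q₀.1 (u j) = WithZero.exp (j : ℤ) := by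
    intro j hj
    have h := (Finset.mem_filter.1 hj).2
    have : u j = h.choose := dif_pos h
    rw [this]; exact h.choose_spec
  have huL : ∀ j ∈ J, u j ∈ L (Finsupp.single Q₀ (m : ℤ) : Divisor k K) := fun j hj =>
    L_mono (single_le_single Q₀ (hJle j hj)) (hu j hj).1
  -- the space W
  set W := L (Finsupp.single Q₀ (n : ℤ) : Divisor k K) with hW
  haveI : FiniteDimensional k W := finiteDimensional_L hK _
  have hb : (n : ℤ) + 1 - g ≤ Module.finrank k W := by
    have h2 := (riemann_inequality hK).1 (Finsupp.single Q₀ (n : ℤ) : Divisor k K)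
    rw [deg_single, hQ₀] at h2
    unfold ell at h2
    push_cast at h2
    linarith
  -- the target divisor
  set D' : Divisor k K := Finsupp.single Q₀ ((l * m : ℕ) : ℤ) + Finsupp.single (pm σ Q₀) (n : ℤ)
    with hD'
  haveI : FiniteDimensional k (L D') := finiteDimensional_L hK _
  have hellD' : (Module.finrank k (L D') : ℤ) = (l * m : ℕ) + n + 1 - g := by
    have hdeg : D'.deg = (l * m : ℕ) + n := by
      rw [hD', deg_add, deg_single, deg_single, deg_pm, hQ₀]; push_cast; ring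
    have := ell_eq_of_deg_ge hK D' (by rw [hdeg]; push_cast; omega)
    unfold ell at this
    rw [this, hdeg]
  -- the linear map
  let Ψ₀ : (↥J → ↥W) →ₗ[k] K :=
    ∑ j : ↥J, (LinearMap.mulLeft k ((u j) ^ l)) ∘ₗ σ.toLinearMap ∘ₗ W.subtype ∘ₗ
      (LinearMap.proj j : (↥J → ↥W) →ₗ[k] ↥W)
  have hΨ₀ : ∀ y : ↥J → ↥W, Ψ₀ y = ∑ j : ↥J, (u j) ^ l * σ (y j : K) := by
    intro y
    simp only [Ψ₀, LinearMap.sum_apply, LinearMap.comp_apply, LinearMap.proj_apply,
      Submodule.subtype_apply, LinearMap.mulLeft_apply, AlgEquiv.toLinearMap_apply]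
  have hΨmem : ∀ y : ↥J → ↥W, Ψ₀ y ∈ L D' := by
    intro y
    rw [hΨ₀]
    refine Submodule.sum_mem _ fun j _ => ?_
    rw [hD']
    refine mul_mem_L ?_ (map_mem_L σ Q₀ n (y j).2)
    have := pow_mem_L (huL j j.2) l
    rwa [Finsupp.smul_single, nsmul_eq_mul, ← Nat.cast_mul] at this
  let Ψ : (↥J → ↥W) →ₗ[k] ↥(L D') := Ψ₀.codRestrict (L D') hΨmem
  have hdim : Module.finrank k ↥(L D') < Module.finrank k (↥J → ↥W) := by
    rw [Module.finrank_pi_fintype, Finset.sum_const, Finset.card_univ, Fintype.card_coe,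
      smul_eq_mul]
    have h1 : ((l : ℤ) - g) * (l + g + 1) ≤ (J.card : ℤ) * (Module.finrank k W : ℤ) := by
      have e1 : (l : ℤ) - g ≤ J.card := by
        have : (m : ℤ) = l - 1 := by rw [hm]; push_cast [Nat.cast_sub (by omega : 1 ≤ l)]; ring
        linarith
      have e2 : (l : ℤ) + g + 1 ≤ Module.finrank k W := by
        have : (n : ℤ) = l + 2 * g := by rw [hn]; push_cast; ring
        linarith
      have e3 : (0 : ℤ) ≤ (l : ℤ) - g := by omega
      have e4 : (0 : ℤ) ≤ (l : ℤ) + g + 1 := by omega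
      calc ((l : ℤ) - g) * (l + g + 1) ≤ (J.card : ℤ) * (l + g + 1) :=
            mul_le_mul_of_nonneg_right e1 e4
        _ ≤ (J.card : ℤ) * (Module.finrank k W : ℤ) :=
            mul_le_mul_of_nonneg_left e2 (by positivity)
    have h2 : (Module.finrank k ↥(L D') : ℤ) < ((l : ℤ) - g) * (l + g + 1) := by
      rw [hellD']
      have hm' : ((l * m : ℕ) : ℤ) = (l : ℤ) * (l - 1) := by
        rw [hm]; push_cast [Nat.cast_sub (by omega : 1 ≤ l)]; ring
      have hn' : (n : ℤ) = l + 2 * g := by rw [hn]; push_cast; ring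
      rw [hm', hn']
      have hl' : ((g : ℤ) + 1) ^ 2 < l := by exact_mod_cast hl
      nlinarith
    have : (Module.finrank k ↥(L D') : ℤ) < (J.card * Module.finrank k W : ℕ) := by
      push_cast; linarith
    exact_mod_cast this
  have hker : LinearMap.ker Ψ ≠ ⊥ := LinearMap.ker_ne_bot_of_finrank_lt hdim
  obtain ⟨y, hyker, hy0⟩ := (Submodule.ne_bot_iff _).1 hker
  have hΨy : ∑ j : ↥J, (u j) ^ l * σ (y j : K) = 0 := by
    have : Ψ y = 0 := hyker
    have h2 : Ψ₀ y = 0 := congrArg Subtype.val this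
    rwa [hΨ₀] at h2
  -- the function
  refine ⟨∑ j : ↥J, u j * (y j : K) ^ l, ?_, ?_, ?_⟩
  · -- non-zero
    intro hx
    apply hy0
    let y' : ℕ → K := fun j => if h : j ∈ J then (y ⟨j, h⟩ : K) else 0
    have hsum : ∑ j ∈ J, u j * y' j ^ l = 0 := by
      rw [← Finset.sum_coe_sort J]
      rw [← hx]
      refine Finset.sum_congr rfl fun j _ => ?_
      simp only [y', dif_pos j.2]
    have := eq_zero_of_sum_mul_pow_eq_zero Q₀ J l hJlt u (fun j hj => (hu j hj).2) y' hsum
    funext j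
    have hj := this j j.2
    simp only [y', dif_pos j.2] at hj
    exact Subtype.ext hj
  · -- membership
    refine Submodule.sum_mem _ fun j _ => ?_
    have h1 := mul_mem_L (huL j j.2) (pow_mem_L (y j).2 l)
    rw [Finsupp.smul_single, nsmul_eq_mul, ← Finsupp.single_add] at h1
    refine L_mono (single_le_single Q₀ ?_) h1
    rw [hm, hn]; push_cast [Nat.cast_sub (by omega : 1 ≤ l)]; linarith
  · -- vanishing
    intro Q hQ hfrob
    have huQ : ∀ j : ↥J, Q.1 (u j) ≤ 1 := by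
      intro j
      have := (hu j j.2).1 Q
      rwa [Finsupp.single_eq_of_ne hQ, WithZero.exp_zero] at this
    have hyQ : ∀ j : ↥J, Q.1 (y j : K) ≤ 1 := by
      intro j
      have := (y j).2 Q
      rwa [Finsupp.single_eq_of_ne hQ, WithZero.exp_zero] at this
    have hpow : (∑ j : ↥J, u j * (y j : K) ^ l) ^ l =
        ∑ j : ↥J, (u j) ^ l * ((y j : K) ^ (l ^ 2) - σ (y j : K)) := by
      rw [hle, sum_pow_char_pow]
      have : ∑ j : ↥J, (u j) ^ p ^ e * ((y j : K) ^ ((p ^ e) ^ 2) - σ (y j : K)) =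
          ∑ j : ↥J, (u j) ^ p ^ e * (y j : K) ^ ((p ^ e) ^ 2) -
            ∑ j : ↥J, (u j) ^ p ^ e * σ (y j : K) := by
        rw [← Finset.sum_sub_distrib]
        refine Finset.sum_congr rfl fun j _ => ?_
        ring
      rw [this, ← hle, hΨy, sub_zero]
      refine Finset.sum_congr rfl fun j _ => ?_
      rw [mul_pow, ← pow_mul, sq]
    have hlt : Q.1 ((∑ j : ↥J, u j * (y j : K) ^ l) ^ l) < 1 := by
      rw [hpow]
      refine Valuation.map_sum_lt' Q.1 zero_lt_one fun j _ => ?_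
      rw [map_mul, map_pow]
      have h1 : Q.1 (u j) ^ l ≤ 1 := pow_le_one₀ zero_le' (huQ j)
      have h2 : Q.1 ((y j : K) ^ (l ^ 2) - σ (y j : K)) < 1 := by
        rw [Valuation.map_sub_swap]; exact hfrob _ (hyQ j)
      calc Q.1 (u j) ^ l * Q.1 ((y j : K) ^ (l ^ 2) - σ (y j : K))
          ≤ 1 * Q.1 ((y j : K) ^ (l ^ 2) - σ (y j : K)) := mul_le_mul_left h1 _
        _ < 1 := by rwa [one_mul]
    by_contra hcon
    have h1 : 1 ≤ Q.1 (∑ j : ↥J, u j * (y j : K) ^ l) := not_lt.1 hcon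
    rw [map_pow] at hlt
    exact absurd hlt (not_lt.2 (one_le_pow₀ h1))


/-- **Bombieri's bound**, twisted by an automorphism `σ`: over a constant field with `l ^ 2` elements,
`l > (g + 1) ^ 2`, in the presence of a rational place, the places at which `σ` induces the Frobenius
`z ↦ z ^ (l ^ 2)` have total degree at most `l ^ 2 + (2 g + 1) l`. -/
theorem bombieri [Finite k] (hK : IsFunctionField k K) (l : ℕ) (hq : Nat.card k = l ^ 2)
    (hl : (genus k K + 1) ^ 2 < l) (Q₀ : Place k K) (hQ₀ : Q₀.deg = 1) (σ : K ≃ₐ[k] K)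
    (T : Finset (Place k K))
    (hT : ∀ Q ∈ T, ∀ z : K, Q.1 z ≤ 1 → Q.1 (σ z - z ^ (l ^ 2)) < 1) :
    ∑ Q ∈ T, (Q.deg : ℤ) ≤ (l : ℤ) ^ 2 + (2 * genus k K + 1) * l := by
  classical
  haveI := Fintype.ofFinite k
  obtain ⟨p, hchar⟩ := CharP.exists k
  haveI := hchar
  obtain ⟨f, hp, hcard⟩ := FiniteField.card k p
  haveI : Fact p.Prime := ⟨hp⟩
  haveI : CharP K p := charP_of_injective_algebraMap (algebraMap k K).injective p
  have hl2 : 2 ≤ l := by
    have : 1 ≤ (genus k K + 1) ^ 2 := Nat.one_le_pow _ _ (by omega)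
    omega
  obtain ⟨e, -, hle⟩ : ∃ e ≤ (f : ℕ), l = p ^ e := by
    apply (Nat.dvd_prime_pow hp).1
    rw [← hcard, ← Nat.card_eq_fintype_card, hq]
    exact Dvd.intro_left _ (sq l).symm
  obtain ⟨x, hx0, hxL, hxQ⟩ := exists_function hK p e l hle hl Q₀ hQ₀ σ
  have h1 := sum_deg_le hK Q₀ _ hx0 hxL (T.erase Q₀) (fun Q hQ => by
    rw [Finset.mem_erase] at hQ
    exact ⟨hQ.1, hxQ Q hQ.1 (hT Q hQ.2)⟩)
  rw [hQ₀] at h1
  have h2 : ∑ Q ∈ T, (Q.deg : ℤ) ≤ ∑ Q ∈ T.erase Q₀, (Q.deg : ℤ) + 1 := by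
    by_cases hmem : Q₀ ∈ T
    · rw [← Finset.add_sum_erase T _ hmem, hQ₀]; push_cast; linarith
    · rw [Finset.erase_eq_of_notMem hmem]; linarith
  have h3 : (((l - 1) + l * (l + 2 * genus k K) : ℕ) : ℤ) =
      (l : ℤ) - 1 + l * (l + 2 * genus k K) := by
    push_cast [Nat.cast_sub (by omega : 1 ≤ l)]; ring
  rw [h3] at h1
  push_cast at h1
  nlinarith

end Groth.Agent.Helper4.SN528
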