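import Mathlib

/-!
# Power sums: boundedness forces the absolute values to be at most one
-/

set_option autoImplicit false

open Polynomial Finset

namespace Groth.Agent.Helper4.SN529

/-- If the power sums `∑ γ_i ^ n` (`n ≥ 1`) are bounded, then every `γ_i` has norm at most `1`. -/
theorem norm_le_one_of_sum_pow_bounded {m : ℕ} (γ : Fin m → ℂ) (B : ℝ)
    (h : ∀ n : ℕ, 1 ≤ n → ‖∑ i, γ i ^ n‖ ≤ B) (i₀ : Fin m) : ‖γ i₀‖ ≤ 1 := by
  classical
  by_contra hcon
  push Not at hcon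
  set V : Finset ℂ := (univ.image γ).erase (γ i₀) with hV
  set P : ℂ[X] := ∏ v ∈ V, (X - C v) with hP
  have hP0 : P.eval (γ i₀) ≠ 0 := by
    rw [hP, eval_prod]
    apply Finset.prod_ne_zero_iff.2
    intro v hv
    rw [eval_sub, eval_X, eval_C, sub_ne_zero]
    exact (Finset.ne_of_mem_erase hv).symm
  have hPz : ∀ i, γ i ≠ γ i₀ → P.eval (γ i) = 0 := by
    intro i hi
    rw [hP, eval_prod]
    apply Finset.prod_eq_zero (i := γ i)
    · rw [hV, Finset.mem_erase]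
      exact ⟨hi, Finset.mem_image_of_mem _ (Finset.mem_univ _)⟩
    · rw [eval_sub, eval_X, eval_C, sub_self]
  have key : ∀ n : ℕ, ∑ i, γ i ^ n * P.eval (γ i) =
      ∑ t ∈ range (P.natDegree + 1), P.coeff t * ∑ i, γ i ^ (n + t) := by
    intro n
    have : ∀ i, γ i ^ n * P.eval (γ i) =
        ∑ t ∈ range (P.natDegree + 1), P.coeff t * γ i ^ (n + t) := by
      intro i
      rw [eval_eq_sum_range, Finset.mul_sum]
      refine Finset.sum_congr rfl fun t _ => ?_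
      rw [pow_add]; ring
    simp_rw [this]
    rw [Finset.sum_comm]
    refine Finset.sum_congr rfl fun t _ => ?_
    rw [Finset.mul_sum]
  have hlhs : ∀ n : ℕ, ∑ i, γ i ^ n * P.eval (γ i) =
      ((univ.filter fun i => γ i = γ i₀).card : ℂ) * (γ i₀ ^ n * P.eval (γ i₀)) := by
    intro n
    rw [← Finset.sum_filter_add_sum_filter_not univ (fun i => γ i = γ i₀)]
    have h1 : ∑ i ∈ univ.filter (fun i => ¬ γ i = γ i₀), γ i ^ n * P.eval (γ i) = 0 := by
      apply Finset.sum_eq_zero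
      intro i hi
      rw [hPz i (Finset.mem_filter.1 hi).2, mul_zero]
    have h2 : ∑ i ∈ univ.filter (fun i => γ i = γ i₀), γ i ^ n * P.eval (γ i) =
        ∑ _i ∈ univ.filter (fun i => γ i = γ i₀), γ i₀ ^ n * P.eval (γ i₀) := by
      apply Finset.sum_congr rfl
      intro i hi
      rw [(Finset.mem_filter.1 hi).2]
    rw [h1, h2, add_zero, Finset.sum_const, nsmul_eq_mul]
  set M := (univ.filter fun i => γ i = γ i₀).card with hM
  have hM1 : (1 : ℝ) ≤ M := by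
    have : 0 < M := Finset.card_pos.2 ⟨i₀, Finset.mem_filter.2 ⟨Finset.mem_univ _, rfl⟩⟩
    exact_mod_cast this
  set D : ℝ := ∑ t ∈ range (P.natDegree + 1), ‖P.coeff t‖ * B with hD
  have hbound : ∀ n : ℕ, 1 ≤ n → ‖γ i₀‖ ^ n * ‖P.eval (γ i₀)‖ ≤ D := by
    intro n hn
    have h1 : ‖∑ i, γ i ^ n * P.eval (γ i)‖ ≤ D := by
      rw [key n]
      refine (norm_sum_le _ _).trans (Finset.sum_le_sum fun t _ => ?_)
      rw [norm_mul]
      exact mul_le_mul_of_nonneg_left (h _ (by omega)) (norm_nonneg _)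
    rw [hlhs n, norm_mul, norm_mul, norm_pow, Complex.norm_natCast] at h1
    have h2 : 0 ≤ ‖γ i₀‖ ^ n * ‖P.eval (γ i₀)‖ := by positivity
    nlinarith
  have hpos : 0 < ‖P.eval (γ i₀)‖ := norm_pos_iff.2 hP0
  obtain ⟨n, hn⟩ := pow_unbounded_of_one_lt (D / ‖P.eval (γ i₀)‖) hcon
  have h3 := hbound (n + 1) (by omega)
  have h4 : ‖γ i₀‖ ^ n ≤ ‖γ i₀‖ ^ (n + 1) := pow_le_pow_right₀ hcon.le (by omega)
  have h5 : D / ‖P.eval (γ i₀)‖ < ‖γ i₀‖ ^ (n + 1) := lt_of_lt_of_le hn h4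
  rw [div_lt_iff₀ hpos] at h5
  linarith

/-- If non-negative reals `a_i ≤ c` have product `c ^ m` with `c > 0`, then all `a_i = c`. -/
theorem eq_of_le_of_prod_eq {m : ℕ} (a : Fin m → ℝ) (c : ℝ) (hc : 0 < c) (h0 : ∀ i, 0 ≤ a i)
    (hle : ∀ i, a i ≤ c) (hprod : ∏ i, a i = c ^ m) (i₀ : Fin m) : a i₀ = c := by
  classical
  by_contra hne
  have hlt : a i₀ < c := lt_of_le_of_ne (hle i₀) hne
  have h1 : ∏ i ∈ univ.erase i₀, a i ≤ ∏ _i ∈ univ.erase i₀, c :=
    Finset.prod_le_prod (fun i _ => h0 i) (fun i _ => hle i)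
  rw [Finset.prod_const, Finset.card_erase_of_mem (Finset.mem_univ _), Finset.card_univ,
    Fintype.card_fin] at h1
  have h2 : ∏ i, a i = a i₀ * ∏ i ∈ univ.erase i₀, a i :=
    (Finset.mul_prod_erase univ a (Finset.mem_univ i₀)).symm
  have hm : 1 ≤ m := by
    rcases Nat.eq_zero_or_pos m with h | h
    · subst h; exact i₀.elim0
    · exact h
  have h3 : c ^ m = c * c ^ (m - 1) := by
    rw [← pow_succ']; congr 1; omega
  have h4 : 0 < c ^ (m - 1) := pow_pos hc _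
  have h5 : 0 ≤ ∏ i ∈ univ.erase i₀, a i := Finset.prod_nonneg fun i _ => h0 i
  have h6 : a i₀ * ∏ i ∈ univ.erase i₀, a i ≤ a i₀ * c ^ (m - 1) :=
    mul_le_mul_of_nonneg_left h1 (h0 i₀)
  have h7 : a i₀ * c ^ (m - 1) < c * c ^ (m - 1) := mul_lt_mul_of_pos_right hlt h4
  rw [h2, h3] at hprod
  linarith

end Groth.Agent.Helper4.SN529
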