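import Mathlib
import Groth.Agent.Helper6.FFInertia
import Groth.Agent.Helper6.FFZeta1

/-!
# Counting the automorphisms inducing a Frobenius power at a place
-/

set_option backward.isDefEq.respectTransparency false
set_option backward.isDefEq.respectTransparency.types false
set_option linter.style.haveILetI false
set_option autoImplicit false

open FunFld

namespace Groth.Agent.Helper4.SN530

open Groth.Agent.Helper5 Groth.Agent.Helper6.FFInertia Groth.Agent.Helper6.FFZeta

variable {k F E : Type*} [Field k] [Field F] [Field E] [Algebra k F] [Algebra F E] [Algebra k E]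
  [IsScalarTower k F E]

/-- `τ` induces `z ↦ z ^ N` on the residue field at `Q`. -/
def IsFrobAt (τ : E → E) (N : ℕ) (Q : Place k E) : Prop :=
  ∀ z : E, Q.1 z ≤ 1 → Q.1 (τ z - z ^ N) < 1

omit [IsScalarTower k F E] in
theorem val_le_of_isFrobAt {τ : E → E} {N : ℕ} {Q : Place k E} (h : IsFrobAt τ N Q) (y : E)
    (hy : Q.1 y ≤ 1) : Q.1 (τ y) ≤ 1 := by
  have h1 := h y hy
  have : τ y = (τ y - y ^ N) + y ^ N := by ring
  rw [this]
  refine (Q.1.map_add _ _).trans (max_le h1.le ?_)
  rw [map_pow]; exact pow_le_one₀ zero_le hy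

theorem mem_decomp_of_isFrobAt {τ : E ≃ₐ[F] E} {N : ℕ} {Q : Place k E} (h : IsFrobAt τ N Q) :
    τ ∈ (Q.O).decompositionSubgroup F := by
  rw [mem_decomp_iff]
  symm
  apply FF.eq_of_O_le
  intro y hy
  exact val_le_of_isFrobAt h y hy

theorem isFrobAt_iff_smul {Q : Place k E} (g : (Q.O).decompositionSubgroup F) (N : ℕ) :
    IsFrobAt (g.1 : E → E) N Q ↔ ∀ x : IsLocalRing.ResidueField Q.O, g • x = x ^ N := by
  constructor
  · intro h x
    obtain ⟨a, rfl⟩ := IsLocalRing.residue_surjective x
    rw [← IsLocalRing.ResidueField.residue_smul, ← map_pow, ← sub_eq_zero, ← map_sub,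
      FG.residue_eq_zero_iff]
    exact h a.1 a.2
  · intro h z hz
    have := h (IsLocalRing.residue Q.O ⟨z, hz⟩)
    rw [← IsLocalRing.ResidueField.residue_smul, ← map_pow, ← sub_eq_zero, ← map_sub,
      FG.residue_eq_zero_iff] at this
    exact this

section frob

theorem exists_pow_algEquiv {A B : Type*} [Field A] [Finite A] [Field B] [Algebra A B]
    [Algebra.IsAlgebraic A B] (r : ℕ) :
    ∃ φ : B ≃ₐ[A] B, ∀ x, φ x = x ^ (Nat.card A ^ r) := by
  classical
  haveI := Fintype.ofFinite A
  induction r with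
  | zero => exact ⟨AlgEquiv.refl, fun x => by simp⟩
  | succ r ih =>
    obtain ⟨φ, hφ⟩ := ih
    refine ⟨φ.trans (FiniteField.frobeniusAlgEquivOfAlgebraic A B), fun x => ?_⟩
    rw [AlgEquiv.trans_apply, hφ]
    show (x ^ _) ^ Fintype.card A = _
    rw [← pow_mul, Nat.card_eq_fintype_card, pow_succ]

variable [Finite k]

theorem finrank_dvd_of_pow_eq {A : Type*} [Field A] [Algebra k A] [Finite A] (s : ℕ)
    (h : ∀ c : A, c ^ (Nat.card k ^ s) = c) : Module.finrank k A ∣ s := by
  classical
  haveI := Fintype.ofFinite k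
  rw [← FiniteField.orderOf_frobeniusAlgHom k A]
  apply orderOf_dvd_of_pow_eq_one
  ext c
  rw [AlgHom.coe_pow, FiniteField.coe_frobeniusAlgHom, pow_iterate, AlgHom.one_apply,
    ← Nat.card_eq_fintype_card]
  exact h c

theorem exists_frob_iff (hF : IsFunctionField k F) [FiniteDimensional F E] {Q : Place k E}
    {P : Place k F} {e : ℕ} (he : IsOverWith Q P e) (s : ℕ) :
    letI := resAlg he
    (∃ φ : IsLocalRing.ResidueField Q.O ≃ₐ[IsLocalRing.ResidueField P.O]
        IsLocalRing.ResidueField Q.O, ∀ x, φ x = x ^ (Nat.card k ^ s)) ↔ P.deg ∣ s := by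
  letI := resAlg he
  haveI := resTower he
  have hE : FG.IsFF k E := FG.isFF_of_finite hF.1
  haveI : FiniteDimensional k (IsLocalRing.ResidueField Q.O) :=
    FG.finiteDimensional_residueField hE Q
  haveI : FiniteDimensional (IsLocalRing.ResidueField P.O) (IsLocalRing.ResidueField Q.O) :=
    FiniteDimensional.right k _ _
  haveI := finite_residueField hF P
  constructor
  · rintro ⟨φ, hφ⟩
    show Module.finrank k (IsLocalRing.ResidueField P.O) ∣ s
    apply finrank_dvd_of_pow_eq
    intro c
    apply (algebraMap (IsLocalRing.ResidueField P.O) (IsLocalRing.ResidueField Q.O)).injective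
    rw [map_pow, ← hφ, φ.commutes]
  · rintro ⟨r, rfl⟩
    obtain ⟨φ, hφ⟩ := exists_pow_algEquiv (A := IsLocalRing.ResidueField P.O)
      (B := IsLocalRing.ResidueField Q.O) r
    refine ⟨φ, fun x => ?_⟩
    rw [hφ, card_residueField hF P, ← pow_mul]

/-- The number of automorphisms inducing the `q ^ s`-power map at `Q` is `e(Q|P)` if `deg P ∣ s`
and `0` otherwise. -/
theorem card_frob (hF : IsFunctionField k F) [FiniteDimensional F E] [IsGalois F E]
    {Q : Place k E} {P : Place k F} {e : ℕ} (he : IsOverWith Q P e) (s : ℕ) :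
    Nat.card {τ : E ≃ₐ[F] E // IsFrobAt (τ : E → E) (Nat.card k ^ s) Q} =
      if P.deg ∣ s then e else 0 := by
  classical
  letI := resAlg he
  haveI := resTower he
  haveI := resSMulComm he
  have hE : FG.IsFF k E := FG.isFF_of_finite hF.1
  haveI : FiniteDimensional k (IsLocalRing.ResidueField Q.O) :=
    FG.finiteDimensional_residueField hE Q
  haveI : FiniteDimensional (IsLocalRing.ResidueField P.O) (IsLocalRing.ResidueField Q.O) :=
    FiniteDimensional.right k _ _
  haveI : Algebra.IsSeparable k (IsLocalRing.ResidueField Q.O) :=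
    Algebra.IsAlgebraic.isSeparable_of_perfectField
  obtain ⟨ψ, hψ⟩ : ∃ ψ : (Q.O).decompositionSubgroup F →*
      (IsLocalRing.ResidueField Q.O ≃ₐ[IsLocalRing.ResidueField P.O]
        IsLocalRing.ResidueField Q.O),
      ψ = MulSemiringAction.toAlgAut ((Q.O).decompositionSubgroup F)
        (IsLocalRing.ResidueField P.O) (IsLocalRing.ResidueField Q.O) := ⟨_, rfl⟩
  have hψa : ∀ (g : (Q.O).decompositionSubgroup F) (x : IsLocalRing.ResidueField Q.O),
      ψ g x = g • x := by
    intro g x; rw [hψ]; rfl
  have hker : (Q.O).inertiaSubgroup F = ψ.ker := by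
    ext g
    rw [ValuationSubring.inertiaSubgroup, MonoidHom.mem_ker, MonoidHom.mem_ker]
    constructor
    · intro h
      apply AlgEquiv.ext
      intro x
      rw [hψa]
      exact RingEquiv.congr_fun h x
    · intro h
      apply RingEquiv.ext
      intro x
      have := AlgEquiv.congr_fun h x
      rw [hψa] at this
      exact this
  have hcardker : Nat.card ψ.ker = e := by
    rw [← hker]; exact card_inertia hF he
  have hfix : IntermediateField.fixedField ψ.range = ⊥ := by
    rw [eq_bot_iff]
    intro ybar hy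
    rw [IntermediateField.mem_bot]
    rw [IntermediateField.mem_fixedField_iff] at hy
    have hfixD : ∀ g : (Q.O).decompositionSubgroup F, g • ybar = ybar := by
      intro g
      rw [← hψa]
      exact hy (ψ g) ⟨g, rfl⟩
    exact main_mem_range hF he ybar hfixD
  have hsurj : Function.Surjective ψ := by
    rw [← MonoidHom.range_eq_top]
    have h1 := IntermediateField.fixingSubgroup_fixedField ψ.range
    rw [hfix, IntermediateField.fixingSubgroup_bot] at h1
    exact h1.symm
  set N := Nat.card k ^ s with hN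
  let e1 : {τ : E ≃ₐ[F] E // IsFrobAt (τ : E → E) N Q} ≃
      {g : (Q.O).decompositionSubgroup F // ∀ x, ψ g x = x ^ N} :=
    { toFun := fun τ => ⟨⟨τ.1, mem_decomp_of_isFrobAt τ.2⟩, fun x => by
        rw [hψa]
        exact (isFrobAt_iff_smul (⟨τ.1, mem_decomp_of_isFrobAt τ.2⟩ :
          (Q.O).decompositionSubgroup F) N).1 τ.2 x⟩
      invFun := fun g => ⟨g.1.1, (isFrobAt_iff_smul g.1 N).2 fun x => by
        rw [← hψa]; exact g.2 x⟩
      left_inv := fun τ => rfl
      right_inv := fun g => rfl }
  rw [Nat.card_congr e1]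
  by_cases hdvd : P.deg ∣ s
  · rw [if_pos hdvd]
    obtain ⟨φ, hφ⟩ := (exists_frob_iff hF he s).2 hdvd
    let e2 : {g : (Q.O).decompositionSubgroup F // ∀ x, ψ g x = x ^ N} ≃ (ψ ⁻¹' {φ}) :=
      Equiv.subtypeEquivRight fun g => by
        rw [Set.mem_preimage, Set.mem_singleton_iff]
        constructor
        · intro h
          apply AlgEquiv.ext
          intro x
          rw [h x, hφ x]
        · intro h x
          rw [h, hφ x]
    rw [Nat.card_congr e2, Nat.card_congr (MonoidHom.fiberEquivKerOfSurjective hsurj φ), hcardker]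
  · rw [if_neg hdvd]
    haveI : IsEmpty {g : (Q.O).decompositionSubgroup F // ∀ x, ψ g x = x ^ N} :=
      ⟨fun g => hdvd ((exists_frob_iff hF he s).1 ⟨ψ g.1, g.2⟩)⟩
    exact Nat.card_of_isEmpty

end frob

end Groth.Agent.Helper4.SN530
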