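import Mathlib
import Groth.Agent.Helper4.SN530
import Groth.Agent.Helper6.FFZeta9
import Groth.Agent.Helper5.FGConorm

/-!
# The sum over the Galois group of the twisted point counts
-/

set_option backward.isDefEq.respectTransparency false
set_option backward.isDefEq.respectTransparency.types false
set_option linter.style.haveILetI false
set_option autoImplicit false

open FunFld

namespace Groth.Agent.Helper4.SN531

open Groth.Agent.Helper5 Groth.Agent.Helper6.FFZeta Groth.Agent.Helper4.SN530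

variable {k F E : Type*} [Field k] [Field F] [Field E] [Algebra k F] [Algebra F E] [Algebra k E]
  [IsScalarTower k F E]

theorem deg_le_of_isOver (hF : IsFunctionField k F) [FiniteDimensional F E] {Q : Place k E}
    {P : Place k F} (h : IsOver Q P) : Q.deg ≤ Module.finrank F E * P.deg := by
  classical
  obtain ⟨hfin, hsum⟩ := FG.finite_isOver_and_sum (K' := E) hF P
  have h1 := hsum hfin.toFinset (fun Q' => by rw [Set.Finite.mem_toFinset]; rfl)
  have hQ : Q ∈ hfin.toFinset := by rw [Set.Finite.mem_toFinset]; exact h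
  have h2 : ramIdx Q P * Q.deg ≤ ∑ Q' ∈ hfin.toFinset, ramIdx Q' P * Q'.deg :=
    Finset.single_le_sum (f := fun Q' => ramIdx Q' P * Q'.deg) (fun _ _ => Nat.zero_le _) hQ
  obtain ⟨e, he⟩ := h
  have h3 : 1 ≤ ramIdx Q P := by
    rw [FG.ramIdx_eq he]
    exact Nat.one_le_iff_ne_zero.2 (FG.isOverWith_pos he)
  calc Q.deg = 1 * Q.deg := (one_mul _).symm
    _ ≤ ramIdx Q P * Q.deg := Nat.mul_le_mul_right _ h3
    _ ≤ _ := h2.trans_eq h1

open Classical in
/-- **Key identity**: the twisted counts over the whole Galois group of `E/F` add up to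
`[E : F] · N_s(F)`. -/
theorem sum_frob [Finite k] (hF : IsFunctionField k F) [FiniteDimensional F E] [IsGalois F E]
    (s : ℕ) (hs : 0 < s) (QQ : Finset (Place k E))
    (hQQ : ∀ Q : Place k E, Q.deg ≤ Module.finrank F E * s → Q ∈ QQ) :
    ∑ τ : E ≃ₐ[F] E, ∑ Q ∈ QQ with IsFrobAt (τ : E → E) (Nat.card k ^ s) Q, Q.deg =
      Module.finrank F E * Ns k F s := by
  classical
  choose below eOf hbelow using fun Q : Place k E => FG.exists_isOverWith hF.1 Q
  set n := Module.finrank F E with hn
  have hn1 : 1 ≤ n := Module.finrank_pos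
  set N := Nat.card k ^ s with hN
  -- step 1: swap the sums
  have step1 : ∑ τ : E ≃ₐ[F] E, ∑ Q ∈ QQ with IsFrobAt (τ : E → E) N Q, Q.deg =
      ∑ Q ∈ QQ, Q.deg * (if (below Q).deg ∣ s then eOf Q else 0) := by
    simp_rw [Finset.sum_filter]
    rw [Finset.sum_comm]
    refine Finset.sum_congr rfl fun Q _ => ?_
    rw [← Finset.sum_filter, Finset.sum_const, smul_eq_mul, mul_comm]
    congr 1
    rw [← card_frob hF (hbelow Q) s, Nat.card_eq_fintype_card, Fintype.card_subtype]
  rw [step1]
  -- step 2: restrict to the places whose restriction has degree dividing `s`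
  set QQ₁ := QQ.filter (fun Q => (below Q).deg ∣ s) with hQQ₁
  have step2 : ∑ Q ∈ QQ, Q.deg * (if (below Q).deg ∣ s then eOf Q else 0) =
      ∑ Q ∈ QQ₁, Q.deg * eOf Q := by
    rw [hQQ₁, Finset.sum_filter]
    refine Finset.sum_congr rfl fun Q _ => ?_
    split_ifs <;> simp
  rw [step2]
  set PP := (finite_deg_le hF (n * s)).toFinset with hPP
  have hPPmem : ∀ P : Place k F, P.deg ≤ n * s → P ∈ PP := by
    intro P hP
    rw [hPP, Set.Finite.mem_toFinset]; exact hP
  set PP₁ := PP.filter (fun P => P.deg ∣ s) with hPP₁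
  have hsn : s ≤ n * s := Nat.le_mul_of_pos_left s hn1
  have hmaps : ∀ Q ∈ QQ₁, below Q ∈ PP₁ := by
    intro Q hQ
    rw [hQQ₁, Finset.mem_filter] at hQ
    rw [hPP₁, Finset.mem_filter]
    exact ⟨hPPmem _ ((Nat.le_of_dvd hs hQ.2).trans hsn), hQ.2⟩
  rw [← Finset.sum_fiberwise_of_maps_to hmaps]
  have step3 : ∀ P ∈ PP₁, ∑ Q ∈ QQ₁ with below Q = P, Q.deg * eOf Q = n * P.deg := by
    intro P hP
    rw [hPP₁, Finset.mem_filter] at hP
    obtain ⟨-, hsum⟩ := FG.finite_isOver_and_sum (K' := E) hF P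
    have hQs : ∀ Q, Q ∈ QQ₁.filter (fun Q => below Q = P) ↔ IsOver Q P := by
      intro Q
      rw [Finset.mem_filter]
      constructor
      · rintro ⟨-, h⟩
        exact ⟨eOf Q, h ▸ hbelow Q⟩
      · intro h
        have hb : below Q = P := FG.isOver_unique ⟨eOf Q, hbelow Q⟩ h
        refine ⟨?_, hb⟩
        rw [hQQ₁, Finset.mem_filter, hb]
        refine ⟨hQQ Q ?_, hP.2⟩
        exact (deg_le_of_isOver hF h).trans (Nat.mul_le_mul_left _ (Nat.le_of_dvd hs hP.2))
    rw [← hsum _ hQs]
    refine Finset.sum_congr rfl fun Q hQ => ?_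
    have hb : below Q = P := (Finset.mem_filter.1 hQ).2
    have := hbelow Q
    rw [hb] at this
    rw [FG.ramIdx_eq this, mul_comm]
  rw [Finset.sum_congr rfl step3, ← Finset.mul_sum, hPP₁, Finset.sum_filter,
    ← Ns_eq_sum PP (n * s) s hPPmem hs hsn]

end Groth.Agent.Helper4.SN531
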