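import Mathlib
import Groth.Agent.Helper4.SN531
import Groth.Agent.Helper4.SN528

/-!
# The two-sided bound for `N_s` of an intermediate field of a Galois tower
-/

set_option backward.isDefEq.respectTransparency false
set_option backward.isDefEq.respectTransparency.types false
set_option linter.style.haveILetI false
set_option autoImplicit false

open FunFld

namespace Groth.Agent.Helper4.SN532

open Groth.Agent.Helper5 Groth.Agent.Helper5.FF Groth.Agent.Helper6.FFZeta Groth.Agent.Helper4.SN530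
  Groth.Agent.Helper4.SN531 Groth.Agent.Helper4.SN528

section bombieri

variable {k K : Type*} [Field k] [Field K] [Algebra k K]

/-- Bombieri's bound for a power `l ^ 2` of the characteristic (no hypothesis on the size of the
constant field). -/
theorem bombieri' (hK : IsFunctionField k K) (p e : ℕ) [Fact p.Prime] [CharP K p] (l : ℕ)
    (hle : l = p ^ e) (hl : (genus k K + 1) ^ 2 < l) (Q₀ : Place k K) (hQ₀ : Q₀.deg = 1)
    (σ : K ≃ₐ[k] K) (T : Finset (Place k K))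
    (hT : ∀ Q ∈ T, ∀ z : K, Q.1 z ≤ 1 → Q.1 (σ z - z ^ (l ^ 2)) < 1) :
    ∑ Q ∈ T, (Q.deg : ℤ) ≤ (l : ℤ) ^ 2 + (2 * genus k K + 1) * l := by
  classical
  have hl2 : 2 ≤ l := by
    have : 1 ≤ (genus k K + 1) ^ 2 := Nat.one_le_pow _ _ (by omega)
    omega
  obtain ⟨x, hx0, hxL, hxQ⟩ := exists_function hK p e l hle hl Q₀ hQ₀ σ
  have h1 := sum_deg_le hK Q₀ _ hx0 hxL (T.erase Q₀) (fun Q hQ => by
    rw [Finset.mem_erase] at hQ
    exact ⟨hQ.1, hxQ Q hQ.1 (hT Q hQ.2)⟩)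
  rw [hQ₀] at h1
  have h2 : ∑ Q ∈ T, (Q.deg : ℤ) ≤ ∑ Q ∈ T.erase Q₀, (Q.deg : ℤ) + 1 := by
    by_cases hmem : Q₀ ∈ T
    · rw [← Finset.add_sum_erase T _ hmem, hQ₀]; push_cast; linarith
    · rw [Finset.erase_eq_of_notMem hmem]; linarith
  have h3 : (((l - 1) + l * (l + 2 * genus k K) : ℕ) : ℤ) =
      (l : ℤ) - 1 + l * (l + 2 * genus k K) := by
    push_cast [Nat.cast_sub (by omega : 1 ≤ l)]; ring
  rw [h3] at h1
  push_cast at h1
  nlinarith

end bombieri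

variable {k F₀ F E : Type*} [Field k] [Field F₀] [Field F] [Field E]
  [Algebra k F₀] [Algebra k F] [Algebra k E] [Algebra F₀ F] [Algebra F₀ E] [Algebra F E]
  [IsScalarTower k F₀ E] [IsScalarTower k F E] [IsScalarTower F₀ F E]

/-- **The tower bound.** -/
theorem tower_bound [Finite k] [FiniteDimensional F₀ E] [IsGalois F₀ E]
    (hE : IsFunctionField k E) (hF : IsFunctionField k F) (hF₀ : IsFunctionField k F₀)
    (Q₀ : Place k E) (hQ₀ : Q₀.deg = 1)
    (p e : ℕ) [Fact p.Prime] [CharP E p] (l s : ℕ) (hle : l = p ^ e)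
    (hl : (genus k E + 1) ^ 2 < l) (hls : Nat.card k ^ s = l ^ 2) (hs : 0 < s)
    (hN0 : Ns k F₀ s = Nat.card k ^ s + 1) :
    |(Ns k F s : ℤ) - (Nat.card k : ℤ) ^ s - 1| ≤
      (Module.finrank F₀ E : ℤ) * ((2 * genus k E + 1) * l) := by
  classical
  haveI : FiniteDimensional F E := FiniteDimensional.right F₀ F E
  haveI : IsGalois F E := IsGalois.tower_top_of_isGalois F₀ F E
  set nG := Module.finrank F₀ E with hnG
  set nH := Module.finrank F E with hnH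
  have hnH1 : 1 ≤ nH := Module.finrank_pos
  have hnHG : nH ≤ nG := by
    have hmul := Module.finrank_mul_finrank F₀ F E
    rw [← hnG, ← hnH] at hmul
    haveI : FiniteDimensional F₀ F := FiniteDimensional.left F₀ F E
    have h1 : 1 ≤ Module.finrank F₀ F := Module.finrank_pos
    calc nH = 1 * nH := (one_mul _).symm
      _ ≤ Module.finrank F₀ F * nH := Nat.mul_le_mul_right _ h1
      _ = nG := hmul
  set QQ := (finite_deg_le hE (nG * s)).toFinset with hQQ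
  have hQQ1 : ∀ Q : Place k E, Q.deg ≤ nG * s → Q ∈ QQ := by
    intro Q hQ; rw [hQQ, Set.Finite.mem_toFinset]; exact hQ
  have hQQ2 : ∀ Q : Place k E, Q.deg ≤ nH * s → Q ∈ QQ :=
    fun Q hQ => hQQ1 Q (hQ.trans (Nat.mul_le_mul_right _ hnHG))
  set a : (E → E) → ℕ := fun τ => ∑ Q ∈ QQ with IsFrobAt τ (l ^ 2) Q, Q.deg with ha
  have hG : ∑ τ : E ≃ₐ[F₀] E, a τ = nG * Ns k F₀ s := by
    have := sum_frob hF₀ s hs QQ hQQ1
    rw [hls] at this
    exact this
  have hH : ∑ τ : E ≃ₐ[F] E, a τ = nH * Ns k F s := by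
    have := sum_frob hF s hs QQ hQQ2
    rw [hls] at this
    exact this
  set c : ℤ := (2 * genus k E + 1) * l with hc
  have hc0 : 0 ≤ c := by positivity
  have hB : ∀ τ : E ≃ₐ[k] E, (a τ : ℤ) ≤ (l : ℤ) ^ 2 + c := by
    intro τ
    have := bombieri' hE p e l hle hl Q₀ hQ₀ τ
      (QQ.filter fun Q => IsFrobAt (τ : E → E) (l ^ 2) Q)
      (fun Q hQ z hz => (Finset.mem_filter.1 hQ).2 z hz)
    rw [ha]
    push_cast
    exact this
  have hBG : ∀ τ : E ≃ₐ[F₀] E, (a τ : ℤ) ≤ (l : ℤ) ^ 2 + c :=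
    fun τ => hB (τ.restrictScalars k)
  have hBH : ∀ τ : E ≃ₐ[F] E, (a τ : ℤ) ≤ (l : ℤ) ^ 2 + c :=
    fun τ => hB (τ.restrictScalars k)
  -- the embedding of `H` into `G`
  set ι : (E ≃ₐ[F] E) → (E ≃ₐ[F₀] E) := fun τ => τ.restrictScalars F₀ with hι
  have hιinj : Function.Injective ι := AlgEquiv.restrictScalars_injective F₀
  have hιa : ∀ τ : E ≃ₐ[F] E, a (ι τ) = a τ := fun τ => rfl
  have hsplit : ∑ τ : E ≃ₐ[F₀] E, a τ =
      ∑ τ : E ≃ₐ[F] E, a τ + ∑ σ ∈ Finset.univ \ Finset.univ.image ι, a σ := by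
    rw [← Finset.sum_sdiff (Finset.subset_univ (Finset.univ.image ι)), add_comm,
      Finset.sum_image (fun x _ y _ h => hιinj h)]
    rfl
  have hcardG : Fintype.card (E ≃ₐ[F₀] E) = nG := by
    rw [← Nat.card_eq_fintype_card]; exact IsGalois.card_aut_eq_finrank F₀ E
  have hcardH : Fintype.card (E ≃ₐ[F] E) = nH := by
    rw [← Nat.card_eq_fintype_card]; exact IsGalois.card_aut_eq_finrank F E
  have hcardC : (Finset.univ \ Finset.univ.image ι).card = nG - nH := by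
    rw [Finset.card_sdiff_of_subset (Finset.subset_univ _), Finset.card_univ, hcardG,
      Finset.card_image_of_injective _ hιinj, Finset.card_univ, hcardH]
  have hC : (∑ σ ∈ Finset.univ \ Finset.univ.image ι, (a σ : ℤ)) ≤
      ((nG - nH : ℕ) : ℤ) * ((l : ℤ) ^ 2 + c) := by
    calc (∑ σ ∈ Finset.univ \ Finset.univ.image ι, (a σ : ℤ))
        ≤ ∑ _σ ∈ Finset.univ \ Finset.univ.image ι, ((l : ℤ) ^ 2 + c) :=
          Finset.sum_le_sum fun σ _ => hBG σ
      _ = _ := by rw [Finset.sum_const, hcardC, nsmul_eq_mul]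
  have hHle : (∑ τ : E ≃ₐ[F] E, (a τ : ℤ)) ≤ (nH : ℤ) * ((l : ℤ) ^ 2 + c) := by
    calc (∑ τ : E ≃ₐ[F] E, (a τ : ℤ)) ≤ ∑ _τ : E ≃ₐ[F] E, ((l : ℤ) ^ 2 + c) :=
          Finset.sum_le_sum fun τ _ => hBH τ
      _ = _ := by rw [Finset.sum_const, Finset.card_univ, hcardH, nsmul_eq_mul]
  have hGz : (∑ τ : E ≃ₐ[F₀] E, (a τ : ℤ)) = (nG : ℤ) * ((l : ℤ) ^ 2 + 1) := by
    have := congrArg (Nat.cast : ℕ → ℤ) hG
    rw [hN0, hls] at this
    push_cast at this
    exact this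
  have hHz : (∑ τ : E ≃ₐ[F] E, (a τ : ℤ)) = (nH : ℤ) * (Ns k F s : ℤ) := by
    have := congrArg (Nat.cast : ℕ → ℤ) hH
    push_cast at this
    exact this
  have hsplitz : (∑ τ : E ≃ₐ[F₀] E, (a τ : ℤ)) =
      ∑ τ : E ≃ₐ[F] E, (a τ : ℤ) + ∑ σ ∈ Finset.univ \ Finset.univ.image ι, (a σ : ℤ) := by
    have := congrArg (Nat.cast : ℕ → ℤ) hsplit
    push_cast at this
    exact this
  have hq : (Nat.card k : ℤ) ^ s = (l : ℤ) ^ 2 := by exact_mod_cast hls
  rw [hq]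
  have hsub : ((nG - nH : ℕ) : ℤ) = (nG : ℤ) - nH := by
    rw [Nat.cast_sub hnHG]
  rw [hsub] at hC
  set X : ℤ := (Ns k F s : ℤ) - (l : ℤ) ^ 2 - 1 with hX
  have hnH1z : (1 : ℤ) ≤ nH := by exact_mod_cast hnH1
  have hnHGz : (nH : ℤ) ≤ nG := by exact_mod_cast hnHG
  -- upper bound
  have hup : (nH : ℤ) * X ≤ nH * c := by
    have : (nH : ℤ) * (Ns k F s : ℤ) ≤ nH * ((l : ℤ) ^ 2 + c) := hHz ▸ hHle
    rw [hX]; nlinarith
  have hlow : -(((nG : ℤ) - nH) * c) ≤ (nH : ℤ) * X := by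
    have h1 : (nG : ℤ) * ((l : ℤ) ^ 2 + 1) ≤
        nH * (Ns k F s : ℤ) + ((nG : ℤ) - nH) * ((l : ℤ) ^ 2 + c) := by
      rw [← hGz, hsplitz, hHz]; linarith
    rw [hX]; nlinarith
  have hX1 : X ≤ c := le_of_mul_le_mul_left hup (by linarith)
  have hX2 : -((nG : ℤ) * c) ≤ X := by
    by_contra hcon
    push Not at hcon
    have h1 : (nH : ℤ) * X ≤ 1 * X := by
      have hXneg : X < 0 := by nlinarith
      nlinarith
    nlinarith
  rw [abs_le]
  constructor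
  · linarith
  · have : c ≤ (nG : ℤ) * c := by nlinarith
    linarith

end Groth.Agent.Helper4.SN532
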