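import Mathlib
import Groth.Agent.Helper4.SN529
import Groth.Agent.Helper6.FFZeta8
import Groth.Agent.Helper6.FFZeta12

/-!
# From two-sided bounds on `N_s` to the Riemann hypothesis
-/

set_option autoImplicit false

open FunFld

namespace Groth.Agent.Helper4.SN533

open Groth.Agent.Helper6.FFZeta Groth.Agent.Helper4.SN529

/-- Two-sided bounds `|N_s - q^s - 1| ≤ C q^{s/2}` along the multiples `s = 2 n₀ n`. -/
def NsBound (k K : Type*) [Field k] [Field K] [Algebra k K] : Prop :=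
  ∃ (n₀ : ℕ) (C : ℝ), 0 < n₀ ∧ ∀ n : ℕ, 1 ≤ n →
    |(Ns k K (2 * n₀ * n) : ℝ) - (Nat.card k : ℝ) ^ (2 * n₀ * n) - 1| ≤
      C * (Nat.card k : ℝ) ^ (n₀ * n)

theorem NsBound.of_Ns_eq {k K k' K' : Type*} [Field k] [Field K] [Algebra k K] [Field k']
    [Field K'] [Algebra k' K'] (m : ℕ) (hm : 0 < m) (hq : Nat.card k' = Nat.card k ^ m)
    (hN : ∀ s, 0 < s → Ns k' K' s = Ns k K (m * s)) (h : NsBound k' K') : NsBound k K := by
  obtain ⟨n₀, C, hn₀, hb⟩ := h
  refine ⟨m * n₀, C, Nat.mul_pos hm hn₀, fun n hn => ?_⟩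
  have h1 := hb n hn
  have hpos : 0 < 2 * n₀ * n := by positivity
  rw [hN _ hpos, hq] at h1
  push_cast at h1
  rw [← pow_mul, ← pow_mul] at h1
  have e1 : m * (2 * n₀ * n) = 2 * (m * n₀) * n := by ring
  have e2 : m * (n₀ * n) = m * n₀ * n := by ring
  rw [e1, e2] at h1
  exact h1

variable {k K : Type*} [Field k] [Field K] [Algebra k K]

theorem norm_sq_le_of_NsBound [Finite k] (hK : IsFunctionField k K) (h : NsBound k K) {m : ℕ}
    (α : Fin m → ℂ)
    (hα : PowerSeries.map (Int.castRingHom ℂ) (numerZ k K) =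
      ((∏ i, (1 - Polynomial.C (α i) * Polynomial.X) : Polynomial ℂ) : PowerSeries ℂ))
    (i : Fin m) : ‖α i‖ ^ 2 ≤ (Nat.card k : ℝ) := by
  obtain ⟨n₀, C, hn₀, hb⟩ := h
  set q : ℝ := (Nat.card k : ℝ) with hq
  have hq0 : 0 < q := by
    rw [hq]; exact_mod_cast Nat.card_pos
  set γ : Fin m → ℂ := fun i => α i ^ (2 * n₀) / ((q : ℂ) ^ n₀) with hγdef
  have hγ : ∀ n : ℕ, 1 ≤ n → ‖∑ i, γ i ^ n‖ ≤ C := by
    intro n hn
    have hpos : 0 < 2 * n₀ * n := by positivity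
    have h1 := Ns_formula hK α hα (2 * n₀ * n) hpos
    have h2 : ∑ i, γ i ^ n = (∑ i, α i ^ (2 * n₀ * n)) / (q : ℂ) ^ (n₀ * n) := by
      rw [Finset.sum_div]
      refine Finset.sum_congr rfl fun i _ => ?_
      rw [hγdef]
      simp only
      rw [div_pow, ← pow_mul, ← pow_mul]
    have h3 : ∑ i, α i ^ (2 * n₀ * n) =
        ((1 + q ^ (2 * n₀ * n) - (Ns k K (2 * n₀ * n) : ℝ) : ℝ) : ℂ) := by
      rw [hq]
      push_cast
      rw [h1]; ring
    rw [h2, h3, norm_div, Complex.norm_real, norm_pow, Complex.norm_real, Real.norm_eq_abs,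
      Real.norm_eq_abs, abs_of_pos hq0, div_le_iff₀ (pow_pos hq0 _)]
    have h4 := hb n hn
    have e : (1 + q ^ (2 * n₀ * n) - (Ns k K (2 * n₀ * n) : ℝ)) =
        -((Ns k K (2 * n₀ * n) : ℝ) - q ^ (2 * n₀ * n) - 1) := by ring
    rw [e, abs_neg]
    exact h4
  have hnorm := norm_le_one_of_sum_pow_bounded γ C hγ i
  rw [hγdef] at hnorm
  simp only at hnorm
  rw [norm_div, norm_pow, norm_pow, Complex.norm_real, Real.norm_eq_abs, abs_of_pos hq0,
    div_le_one (pow_pos hq0 _), pow_mul] at hnorm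
  exact (pow_le_pow_iff_left₀ (by positivity) hq0.le hn₀.ne').1 hnorm

/-- The reciprocal roots all have absolute value `√q`. -/
theorem exists_roots_norm_sq_eq [Finite k] (hK : IsFunctionField k K) (h : NsBound k K) :
    ∃ α : Fin (2 * genus k K) → ℂ,
      PowerSeries.map (Int.castRingHom ℂ) (numerZ k K) =
        ((∏ i, (1 - Polynomial.C (α i) * Polynomial.X) : Polynomial ℂ) : PowerSeries ℂ) ∧
      ∀ i, ‖α i‖ ^ 2 = (Nat.card k : ℝ) := by
  obtain ⟨α, -, hα, hpair⟩ := exists_reciprocal_roots hK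
  refine ⟨α, hα, fun i => ?_⟩
  have hq0 : (0 : ℝ) < Nat.card k := by exact_mod_cast Nat.card_pos
  have h1 := norm_sq_le_of_NsBound hK h α hα i
  have h2 := norm_sq_le_of_NsBound hK h α hα (Fin.rev i)
  have h3 : ‖α i‖ * ‖α (Fin.rev i)‖ = (Nat.card k : ℝ) := by
    rw [← norm_mul, hpair i, Complex.norm_natCast]
  have h4 : 0 ≤ ‖α i‖ := norm_nonneg _
  have h5 : 0 ≤ ‖α (Fin.rev i)‖ := norm_nonneg _
  apply le_antisymm h1
  by_contra hcon
  push Not at hcon
  have h6 : (‖α i‖ * ‖α (Fin.rev i)‖) ^ 2 < (Nat.card k : ℝ) ^ 2 := by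
    rw [mul_pow, sq (Nat.card k : ℝ)]
    have h7 : 0 ≤ ‖α (Fin.rev i)‖ ^ 2 := by positivity
    have h8 : 0 ≤ ‖α i‖ ^ 2 := by positivity
    nlinarith
  rw [h3] at h6
  exact lt_irrefl _ h6

/-- **Riemann hypothesis** in the form of `S11041`, from the bounds on `N_s`. -/
theorem rh_root [Finite k] (hK : IsFunctionField k K) (h : NsBound k K) (p : Polynomial ℤ)
    (hp : (p : PowerSeries ℤ) = numerZ k K) (z : ℂ)
    (hz : (p.map (Int.castRingHom ℂ)).IsRoot z) :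
    ‖z‖ ^ 2 * (Nat.card k : ℝ) = 1 := by
  obtain ⟨α, hα, hnorm⟩ := exists_roots_norm_sq_eq hK h
  have h1 : p.map (Int.castRingHom ℂ) = ∏ i, (1 - Polynomial.C (α i) * Polynomial.X) := by
    apply Polynomial.coe_injective
    rw [← hα, ← hp, Polynomial.polynomial_map_coe]
  rw [h1, Polynomial.IsRoot, Polynomial.eval_prod, Finset.prod_eq_zero_iff] at hz
  obtain ⟨i, -, hi⟩ := hz
  rw [Polynomial.eval_sub, Polynomial.eval_one, Polynomial.eval_mul, Polynomial.eval_C,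
    Polynomial.eval_X, sub_eq_zero] at hi
  have h2 : ‖α i‖ * ‖z‖ = 1 := by rw [← norm_mul, ← hi, norm_one]
  rw [← hnorm i, ← mul_pow, mul_comm, h2, one_pow]

/-- **Hasse–Weil bound** from the bounds on `N_s`. -/
theorem hasse_weil [Finite k] (hK : IsFunctionField k K) (h : NsBound k K) :
    |(Nat.card {P : Place k K // P.deg = 1} : ℝ) - (Nat.card k : ℝ) - 1| ≤
      2 * (genus k K : ℝ) * Real.sqrt (Nat.card k : ℝ) := by
  obtain ⟨α, hα, hnorm⟩ := exists_roots_norm_sq_eq hK h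
  have h1 := Ns_formula hK α hα 1 Nat.one_pos
  rw [Ns_one hK] at h1
  simp only [pow_one] at h1
  have hq0 : (0 : ℝ) ≤ Nat.card k := Nat.cast_nonneg _
  have hn : ∀ i, ‖α i‖ = Real.sqrt (Nat.card k : ℝ) := by
    intro i
    rw [← hnorm i, Real.sqrt_sq (norm_nonneg _)]
  have h2 : ((Nat.card {P : Place k K // P.deg = 1} : ℝ) - (Nat.card k : ℝ) - 1 : ℝ) =
      - (∑ i, α i).re := by
    have := congrArg Complex.re h1
    simp only [Complex.natCast_re, Complex.add_re, Complex.one_re, Complex.sub_re] at this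
    rw [this]; ring
  rw [h2, abs_neg]
  calc |(∑ i, α i).re| ≤ ‖∑ i, α i‖ := Complex.abs_re_le_norm _
    _ ≤ ∑ i, ‖α i‖ := norm_sum_le _ _
    _ = ∑ _i : Fin (2 * genus k K), Real.sqrt (Nat.card k : ℝ) :=
        Finset.sum_congr rfl fun i _ => hn i
    _ = 2 * (genus k K : ℝ) * Real.sqrt (Nat.card k : ℝ) := by
        rw [Finset.sum_const, Finset.card_univ, Fintype.card_fin, nsmul_eq_mul]
        push_cast; ring

end Groth.Agent.Helper4.SN533
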