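import Mathlib
import Groth.Agent.Helper4.SN532
import Groth.Agent.Helper4.SN533

/-!
# The bounds on `N_s` for an intermediate field of a good Galois tower
-/

set_option backward.isDefEq.respectTransparency false
set_option backward.isDefEq.respectTransparency.types false
set_option linter.style.haveILetI false
set_option autoImplicit false

open FunFld

namespace Groth.Agent.Helper4.SN534

open Groth.Agent.Helper6.FFZeta Groth.Agent.Helper4.SN532 Groth.Agent.Helper4.SN533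

variable {k F₀ F E : Type*} [Field k] [Field F₀] [Field F] [Field E]
  [Algebra k F₀] [Algebra k F] [Algebra k E] [Algebra F₀ F] [Algebra F₀ E] [Algebra F E]
  [IsScalarTower k F₀ E] [IsScalarTower k F E] [IsScalarTower F₀ F E]

theorem Ns_of_genus_zero [Finite k] (hF₀ : IsFunctionField k F₀) (hg0 : genus k F₀ = 0) (s : ℕ)
    (hs : 0 < s) : Ns k F₀ s = Nat.card k ^ s + 1 := by
  obtain ⟨α, -, hα, -⟩ := exists_reciprocal_roots hF₀
  have h1 := Ns_formula hF₀ α hα s hs
  haveI : IsEmpty (Fin (2 * genus k F₀)) := by rw [hg0]; exact Fin.isEmpty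
  rw [Finset.univ_eq_empty, Finset.sum_empty, sub_zero] at h1
  have h2 : (Ns k F₀ s : ℂ) = ((Nat.card k ^ s + 1 : ℕ) : ℂ) := by
    rw [h1]; push_cast; ring
  exact_mod_cast h2

theorem nsBound_of_tower [Finite k] [FiniteDimensional F₀ E] [IsGalois F₀ E]
    (hE : IsFunctionField k E) (hF : IsFunctionField k F) (hF₀ : IsFunctionField k F₀)
    (hg0 : genus k F₀ = 0) (Q₀ : Place k E) (hQ₀ : Q₀.deg = 1) : NsBound k F := by
  classical
  haveI := Fintype.ofFinite k
  obtain ⟨p, hchar⟩ := CharP.exists k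
  haveI := hchar
  obtain ⟨f, hp, hcard⟩ := FiniteField.card k p
  haveI : Fact p.Prime := ⟨hp⟩
  haveI : CharP E p := charP_of_injective_algebraMap (algebraMap k E).injective p
  have hq : Nat.card k = p ^ (f : ℕ) := by rw [Nat.card_eq_fintype_card, hcard]
  have hq2 : 2 ≤ Nat.card k := Finite.one_lt_card
  set g := genus k E with hg
  set n₀ := (g + 1) ^ 2 with hn₀
  have hn₀pos : 0 < n₀ := by positivity
  refine ⟨n₀, (Module.finrank F₀ E : ℝ) * (2 * g + 1), hn₀pos, fun n hn => ?_⟩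
  set l := Nat.card k ^ (n₀ * n) with hl
  have hle : l = p ^ ((f : ℕ) * (n₀ * n)) := by rw [hl, hq, ← pow_mul]
  have hlbig : (g + 1) ^ 2 < l := by
    calc (g + 1) ^ 2 = n₀ := rfl
      _ < 2 ^ n₀ := Nat.lt_two_pow_self
      _ ≤ Nat.card k ^ n₀ := Nat.pow_le_pow_left hq2 _
      _ ≤ Nat.card k ^ (n₀ * n) :=
        Nat.pow_le_pow_right (by omega) (Nat.le_mul_of_pos_right _ (by omega))
  have hls : Nat.card k ^ (2 * n₀ * n) = l ^ 2 := by
    rw [hl, ← pow_mul]; congr 1; ring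
  have hs : 0 < 2 * n₀ * n := by positivity
  have hN0 := Ns_of_genus_zero hF₀ hg0 (2 * n₀ * n) hs
  have hb := tower_bound (F := F) hE hF hF₀ Q₀ hQ₀ p ((f : ℕ) * (n₀ * n)) l (2 * n₀ * n) hle hlbig
    hls hs hN0
  have hb' : ((|(Ns k F (2 * n₀ * n) : ℤ) - (Nat.card k : ℤ) ^ (2 * n₀ * n) - 1| : ℤ) : ℝ) ≤
      (((Module.finrank F₀ E : ℤ) * ((2 * genus k E + 1) * l) : ℤ) : ℝ) := by
    exact_mod_cast hb
  rw [Int.cast_abs] at hb'
  push_cast at hb'
  rw [hl] at hb'
  push_cast at hb'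
  rw [← hg] at hb'
  calc |(Ns k F (2 * n₀ * n) : ℝ) - (Nat.card k : ℝ) ^ (2 * n₀ * n) - 1|
      ≤ (Module.finrank F₀ E : ℝ) * ((2 * g + 1) * (Nat.card k : ℝ) ^ (n₀ * n)) := hb'
    _ = (Module.finrank F₀ E : ℝ) * (2 * g + 1) * (Nat.card k : ℝ) ^ (n₀ * n) := by ring

end Groth.Agent.Helper4.SN534
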