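import Mathlib

/-!
# Galois composita with finite constant field extensions
-/

set_option autoImplicit false

open Polynomial IntermediateField

namespace Groth.Agent.Helper4.SN535

/-- Elements of a finite field `k₂ ⊇ k` are integral, separable and have split minimal polynomial
over any field `F₀ ⊇ k`, inside a common overfield `E₂`. -/
theorem const_galois {k k₂ F₀ E₂ : Type*} [Field k] [Field k₂] [Field F₀] [Field E₂] [Finite k₂]
    [Algebra k k₂] [Algebra k F₀] [Algebra k₂ E₂] [Algebra F₀ E₂] [Algebra k E₂]
    [IsScalarTower k F₀ E₂] [IsScalarTower k k₂ E₂] (c : k₂) :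
    IsIntegral F₀ (algebraMap k₂ E₂ c) ∧ IsSeparable F₀ (algebraMap k₂ E₂ c) ∧
      ((minpoly F₀ (algebraMap k₂ E₂ c)).map (algebraMap F₀ E₂)).Splits := by
  haveI : Module.Finite k k₂ := Module.Finite.of_finite
  have hc : IsIntegral k c := Algebra.IsIntegral.isIntegral c
  have hx : IsIntegral k (algebraMap k₂ E₂ c) := hc.algebraMap
  have hx' : IsIntegral F₀ (algebraMap k₂ E₂ c) := hx.tower_top
  have hdvd := minpoly.dvd_map_of_isScalarTower' k F₀ E₂ c
  have hne : (minpoly k c).map (algebraMap k F₀) ≠ 0 :=
    Polynomial.map_ne_zero (minpoly.ne_zero hc)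
  refine ⟨hx', ?_, ?_⟩
  · have hsep : (minpoly k c).Separable := Algebra.IsSeparable.isSeparable k c
    exact (hsep.map (f := algebraMap k F₀)).of_dvd hdvd
  · have h1 : ((minpoly k c).map (algebraMap k k₂)).Splits := Normal.splits inferInstance c
    have h2 := h1.map (algebraMap k₂ E₂)
    rw [Polynomial.map_map, ← IsScalarTower.algebraMap_eq,
      IsScalarTower.algebraMap_eq k F₀ E₂, ← Polynomial.map_map] at h2
    exact h2.of_dvd (Polynomial.map_ne_zero hne) (Polynomial.map_dvd _ hdvd)

/-- A field generated over a Galois extension `E₀/F₀` by elements that are themselves "Galois" over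
`F₀` is Galois over `F₀`. -/
theorem isGalois_of_adjoin {F₀ E₀ E₂ : Type*} [Field F₀] [Field E₀] [Field E₂] [Algebra F₀ E₀]
    [Algebra E₀ E₂] [Algebra F₀ E₂] [IsScalarTower F₀ E₀ E₂] [IsGalois F₀ E₀] (S : Set E₂)
    (hS : ∀ x ∈ S, IsIntegral F₀ x ∧ IsSeparable F₀ x ∧
      ((minpoly F₀ x).map (algebraMap F₀ E₂)).Splits)
    (hadj : IntermediateField.adjoin E₀ S = ⊤) : IsGalois F₀ E₂ := by
  set T : Set E₂ := Set.range (algebraMap E₀ E₂) ∪ S with hTdef
  have hinj : Function.Injective (algebraMap E₀ E₂) := (algebraMap E₀ E₂).injective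
  have hT : ∀ x ∈ T, IsIntegral F₀ x ∧ IsSeparable F₀ x ∧
      ((minpoly F₀ x).map (algebraMap F₀ E₂)).Splits := by
    rintro x (⟨y, rfl⟩ | hx)
    · have hy : IsIntegral F₀ y := Algebra.IsIntegral.isIntegral y
      refine ⟨hy.algebraMap, ?_, ?_⟩
      · unfold IsSeparable
        rw [minpoly.algebraMap_eq hinj]
        exact Algebra.IsSeparable.isSeparable F₀ y
      · rw [minpoly.algebraMap_eq hinj]
        have h1 : ((minpoly F₀ y).map (algebraMap F₀ E₀)).Splits := Normal.splits inferInstance y
        have h2 := h1.map (algebraMap E₀ E₂)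
        rwa [Polynomial.map_map, ← IsScalarTower.algebraMap_eq] at h2
    · exact hS x hx
  have htop : IntermediateField.adjoin F₀ T = ⊤ := by
    let M' : IntermediateField E₀ E₂ :=
      { (IntermediateField.adjoin F₀ T).toSubfield with
        algebraMap_mem' := fun y =>
          IntermediateField.subset_adjoin F₀ T (Or.inl ⟨y, rfl⟩) }
    have h1 : IntermediateField.adjoin E₀ S ≤ M' := by
      rw [IntermediateField.adjoin_le_iff]
      intro x hx
      exact IntermediateField.subset_adjoin F₀ T (Or.inr hx)
    rw [hadj] at h1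
    rw [eq_top_iff]
    intro x _
    exact h1 (IntermediateField.mem_top (x := x))
  have hnormal : Normal F₀ E₂ := by
    rw [normal_iff]
    intro x
    have hx : x ∈ IntermediateField.adjoin F₀ T := htop ▸ IntermediateField.mem_top
    have halg : Algebra.IsAlgebraic F₀ (IntermediateField.adjoin F₀ T) :=
      IntermediateField.isAlgebraic_adjoin fun y hy => (hT y hy).1
    refine ⟨?_, IntermediateField.splits_of_mem_adjoin (F := F₀) (K := E₂) (L := E₂)
      (fun y hy => ⟨(hT y hy).1, (hT y hy).2.2⟩) hx⟩
    have := (halg.isAlgebraic (⟨x, hx⟩ : IntermediateField.adjoin F₀ T)).isIntegral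
    exact this.map (IntermediateField.adjoin F₀ T).val
  have hsep : Algebra.IsSeparable F₀ E₂ := by
    rw [← IntermediateField.isSeparable_top, ← htop,
      IntermediateField.isSeparable_adjoin_iff_isSeparable]
    exact fun x hx => (hT x hx).2.1
  exact { to_isSeparable := hsep, to_normal := hnormal }

end Groth.Agent.Helper4.SN535
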