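import Mathlib
import Groth.Prelude.Def_W4bk4goldsch45
import Groth.Agent.Helper5.FFGeom2

/-!
# The compositum `K · k₂` inside a common overfield is a constant field extension
-/

set_option autoImplicit false
set_option linter.style.haveILetI false

open FunFld TensorProduct

namespace Groth.Agent.Helper4.SN536

variable {k K k₂ E₂ : Type*} [Field k] [Field K] [Field k₂] [Field E₂]
  [Algebra k K] [Algebra k k₂] [Algebra k₂ E₂] [Algebra K E₂] [Algebra k E₂]
  [IsScalarTower k k₂ E₂] [IsScalarTower k K E₂]

variable (K k₂ E₂) in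
/-- The compositum of (the images of) `K` and `k₂` inside `E₂`, as an intermediate field of
`E₂ / k₂`. -/
def comp : IntermediateField k₂ E₂ :=
  IntermediateField.adjoin k₂ (Set.range (algebraMap K E₂))

theorem algebraMap_mem_comp (x : K) : algebraMap K E₂ x ∈ comp K k₂ E₂ :=
  IntermediateField.subset_adjoin k₂ _ ⟨x, rfl⟩

variable (K k₂ E₂) in
/-- The `K`-algebra structure of the compositum. -/
@[reducible] def algComp : Algebra K (comp K k₂ E₂) :=
  ((algebraMap K E₂).codRestrict (comp K k₂ E₂) algebraMap_mem_comp).toAlgebra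

attribute [local instance] algComp

theorem algebraMap_comp_coe (x : K) :
    ((algebraMap K (comp K k₂ E₂) x : comp K k₂ E₂) : E₂) = algebraMap K E₂ x := rfl

theorem isConstExt_comp [FiniteDimensional k k₂] [Algebra.IsSeparable k k₂]
    (hK2 : ∀ y : K, IsAlgebraic k y → y ∈ Set.range (algebraMap k K)) :
    IsConstExt k K k₂ (comp K k₂ E₂) := by
  classical
  -- the tensor product is a field
  haveI hdom : IsDomain (k₂ ⊗[k] K) := Groth.Agent.Helper5.FF.isDomain_tensor_of_separable hK2
  have hfield1 : IsField (k₂ ⊗[k] K) :=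
    Algebra.TensorProduct.isField_of_isAlgebraic k k₂ K (Or.inl inferInstance)
  have hfield : IsField (K ⊗[k] k₂) :=
    MulEquiv.isField hfield1 (Algebra.TensorProduct.comm k K k₂).toMulEquiv
  let ψ : K ⊗[k] k₂ →ₐ[K] E₂ :=
    Algebra.TensorProduct.productLeftAlgHom (Algebra.ofId K E₂) (IsScalarTower.toAlgHom k k₂ E₂)
  have hψ : ∀ (a : K) (b : k₂), ψ (a ⊗ₜ b) = algebraMap K E₂ a * algebraMap k₂ E₂ b := by
    intro a b
    simp [ψ, Algebra.ofId_apply]
  have hinj : Function.Injective ψ := by
    letI := hfield.toField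
    exact (ψ : K ⊗[k] k₂ →+* E₂).injective
  -- the range of `ψ` lies in the compositum
  have hsub : ∀ z, ψ z ∈ comp K k₂ E₂ := by
    intro z
    induction z using TensorProduct.induction_on with
    | zero => rw [map_zero]; exact zero_mem _
    | tmul a b =>
      rw [hψ]
      exact mul_mem (algebraMap_mem_comp a) ((comp K k₂ E₂).algebraMap_mem b)
    | add x y hx hy => rw [map_add]; exact add_mem hx hy
  -- the range of `ψ` is an intermediate field
  let M : IntermediateField k₂ E₂ :=
    { carrier := Set.range ψ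
      mul_mem' := by
        rintro _ _ ⟨a, rfl⟩ ⟨b, rfl⟩; exact ⟨a * b, map_mul _ _ _⟩
      one_mem' := ⟨1, map_one _⟩
      add_mem' := by
        rintro _ _ ⟨a, rfl⟩ ⟨b, rfl⟩; exact ⟨a + b, map_add _ _ _⟩
      zero_mem' := ⟨0, map_zero _⟩
      algebraMap_mem' := fun c => ⟨1 ⊗ₜ c, by rw [hψ, map_one, one_mul]⟩
      inv_mem' := by
        rintro _ ⟨a, rfl⟩
        by_cases ha : a = 0
        · subst ha; rw [map_zero, inv_zero]; exact ⟨0, map_zero _⟩
        · obtain ⟨b, hb⟩ := hfield.mul_inv_cancel ha
          refine ⟨b, ?_⟩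
          have h1 : ψ a * ψ b = 1 := by rw [← map_mul, hb, map_one]
          exact eq_inv_of_mul_eq_one_right h1 }
  have hle : comp K k₂ E₂ ≤ M := by
    unfold comp
    rw [IntermediateField.adjoin_le_iff]
    rintro _ ⟨x, rfl⟩
    exact ⟨x ⊗ₜ 1, by rw [hψ, map_one, mul_one]⟩
  have hrange : ∀ x : comp K k₂ E₂, ∃ z, ψ z = (x : E₂) := fun x => hle x.2
  refine ⟨?_, ?_, ?_⟩
  · intro c
    apply Subtype.ext
    show algebraMap K E₂ (algebraMap k K c) = algebraMap k₂ E₂ (algebraMap k k₂ c)
    rw [← IsScalarTower.algebraMap_apply, ← IsScalarTower.algebraMap_apply]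
  · rw [eq_top_iff]
    intro x _
    obtain ⟨z, hz⟩ := hrange x
    have key : ∀ z : K ⊗[k] k₂, ∀ x : comp K k₂ E₂, ψ z = (x : E₂) →
        x ∈ Algebra.adjoin K (Set.range (algebraMap k₂ (comp K k₂ E₂))) := by
      intro z
      induction z using TensorProduct.induction_on with
      | zero =>
        intro x hx
        have : x = 0 := Subtype.ext (by rw [← hx, map_zero]; rfl)
        rw [this]; exact zero_mem _
      | tmul a b =>
        intro x hx
        have : x = a • algebraMap k₂ (comp K k₂ E₂) b := by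
          apply Subtype.ext
          rw [← hx, hψ, Algebra.smul_def]
          rfl
        rw [this]
        exact Subalgebra.smul_mem _ (Algebra.subset_adjoin (Set.mem_range_self b)) a
      | add z₁ z₂ h₁ h₂ =>
        intro x hx
        have : x = (⟨ψ z₁, hsub z₁⟩ : comp K k₂ E₂) + (⟨ψ z₂, hsub z₂⟩ : comp K k₂ E₂) := by
          apply Subtype.ext
          rw [← hx, map_add]
          rfl
        rw [this]
        exact add_mem (h₁ _ rfl) (h₂ _ rfl)
    exact key z x hz
  · -- the rank
    let e : (K ⊗[k] k₂) ≃ₗ[K] comp K k₂ E₂ :=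
      LinearEquiv.ofBijective
        { toFun := fun z => ⟨ψ z, hsub z⟩
          map_add' := fun a b => Subtype.ext (map_add ψ a b)
          map_smul' := fun a z => by
            apply Subtype.ext
            show ψ (a • z) = ((a • (⟨ψ z, hsub z⟩ : comp K k₂ E₂) : comp K k₂ E₂) : E₂)
            rw [map_smul, Algebra.smul_def, Algebra.smul_def]
            rfl }
        ⟨fun a b h => hinj (congrArg Subtype.val h), fun x => by
          obtain ⟨z, hz⟩ := hrange x
          exact ⟨z, Subtype.ext hz⟩⟩
    rw [← e.finrank_eq, Module.finrank_baseChange]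

end Groth.Agent.Helper4.SN536
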