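import Mathlib
import Groth.Agent.Helper4.SN534
import Groth.Agent.Helper4.SN535
import Groth.Agent.Helper4.SN536
import Groth.Agent.Helper5.FFGeom3
import Groth.Agent.Helper5.FFRational

/-!
# The tower inside a constant field extension of the Galois closure
-/

set_option backward.isDefEq.respectTransparency false
set_option backward.isDefEq.respectTransparency.types false
set_option linter.style.haveILetI false
set_option autoImplicit false

open FunFld
open scoped IntermediateField

namespace Groth.Agent.Helper4.SN537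

open Groth.Agent.Helper5 Groth.Agent.Helper6.FFZeta Groth.Agent.Helper4.SN533
  Groth.Agent.Helper4.SN534 Groth.Agent.Helper4.SN535 Groth.Agent.Helper4.SN536

variable {k F₀ K E₀ k₂ E₂ : Type*} [Field k] [Field F₀] [Field K] [Field E₀] [Field k₂] [Field E₂]
  [Algebra k K] [Algebra K E₀] [Algebra k E₀] [IsScalarTower k K E₀]
  [Algebra k F₀] [Algebra F₀ K] [IsScalarTower k F₀ K] [Algebra F₀ E₀] [IsScalarTower F₀ K E₀]
  [Algebra k k₂] [Algebra k₂ E₂] [Algebra E₀ E₂] [Algebra k E₂]
  [IsScalarTower k k₂ E₂] [IsScalarTower k E₀ E₂]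

theorem nsBound_of_constExt_tower [Finite k] [Finite k₂] (t : K)
    (hF₀t : ∀ z : F₀, algebraMap F₀ K z ∈ k⟮t⟯) [IsGalois F₀ E₀]
    (hadj : IntermediateField.adjoin E₀ (Set.range (algebraMap k₂ E₂)) = ⊤)
    (hK : IsFunctionField k K) (ht : Transcendental k t)
    (hE₂ : IsFunctionField k₂ E₂) (Q₀ : Place k₂ E₂) (hQ₀ : Q₀.deg = 1) : NsBound k K := by
  classical
  letI algKE₂ : Algebra K E₂ := ((algebraMap E₀ E₂).comp (algebraMap K E₀)).toAlgebra
  haveI : IsScalarTower K E₀ E₂ := IsScalarTower.of_algebraMap_eq fun _ => rfl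
  haveI tkKE₂ : IsScalarTower k K E₂ := IsScalarTower.of_algebraMap_eq fun c => by
    show algebraMap k E₂ c = algebraMap E₀ E₂ (algebraMap K E₀ (algebraMap k K c))
    rw [← IsScalarTower.algebraMap_apply k K E₀, ← IsScalarTower.algebraMap_apply k E₀ E₂]
  letI algF₀E₂ : Algebra F₀ E₂ := ((algebraMap E₀ E₂).comp (algebraMap F₀ E₀)).toAlgebra
  haveI : IsScalarTower F₀ E₀ E₂ := IsScalarTower.of_algebraMap_eq fun _ => rfl
  have hF₀K : ∀ z : F₀, algebraMap F₀ E₂ z = algebraMap K E₂ (algebraMap F₀ K z) := by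
    intro z
    show algebraMap E₀ E₂ (algebraMap F₀ E₀ z) =
      algebraMap E₀ E₂ (algebraMap K E₀ (algebraMap F₀ K z))
    rw [IsScalarTower.algebraMap_apply F₀ K E₀]
  haveI : IsScalarTower k F₀ E₂ := IsScalarTower.of_algebraMap_eq fun c => by
    rw [hF₀K, IsScalarTower.algebraMap_apply k K E₂, IsScalarTower.algebraMap_apply k F₀ K]
  haveI : Module.Finite k k₂ := Module.Finite.of_finite
  haveI : Algebra.IsSeparable k k₂ := Algebra.IsAlgebraic.isSeparable_of_perfectField
  -- `E₂ / F₀` is Galois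
  haveI hgal : IsGalois F₀ E₂ :=
    isGalois_of_adjoin (Set.range (algebraMap k₂ E₂))
      (by rintro _ ⟨c, rfl⟩; exact const_galois (k := k) c) hadj
  -- the tower over `k₂`
  set tt : E₂ := algebraMap K E₂ t with htt
  have httr : Transcendental k₂ tt := by
    intro halg
    have h1 : IsAlgebraic k tt := halg.restrictScalars k
    exact ht ((isAlgebraic_algebraMap_iff (algebraMap K E₂).injective).mp h1)
  set F₂ : IntermediateField k₂ E₂ := k₂⟮tt⟯ with hF₂
  set K₂ : IntermediateField k₂ E₂ := comp K k₂ E₂ with hK₂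
  have httF₂ : tt ∈ F₂ := IntermediateField.mem_adjoin_simple_self k₂ tt
  have httK₂ : tt ∈ K₂ := algebraMap_mem_comp t
  have hle : F₂ ≤ K₂ := by
    rw [hF₂, IntermediateField.adjoin_simple_le_iff]; exact httK₂
  have hfunF₂ : IsFunctionField k₂ F₂ :=
    FF.isFunctionField_intermediateField hE₂ F₂ ⟨tt, httF₂, httr⟩
  have hfunK₂ : IsFunctionField k₂ K₂ :=
    FF.isFunctionField_intermediateField hE₂ K₂ ⟨tt, httK₂, httr⟩
  -- genus zero
  have hg0 : genus k₂ F₂ = 0 := by
    have hx : Transcendental k₂ (⟨tt, httF₂⟩ : F₂) := by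
      intro halg
      exact httr (halg.algebraMap (A := E₂))
    apply FF.genus_eq_zero_of_finrank_one hfunF₂ hx
    rw [IntermediateField.finrank_eq_one_iff_eq_top]
    apply IntermediateField.map_injective F₂.val
    rw [IntermediateField.adjoin_map, Set.image_singleton, ← AlgHom.fieldRange_eq_map,
      IntermediateField.fieldRange_val]
    rfl
  -- finiteness and the Galois property over `F₂`
  haveI hfin : FiniteDimensional F₂ E₂ := FF.finiteDimensional_adjoin hE₂ httr
  have hmem : ∀ z : F₀, algebraMap F₀ E₂ z ∈ F₂ := by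
    intro z
    rw [hF₀K]
    have h3 : algebraMap K E₂ (algebraMap F₀ K z) ∈
        (k⟮t⟯).map (IsScalarTower.toAlgHom k K E₂) :=
      ⟨algebraMap F₀ K z, hF₀t z, rfl⟩
    rw [IntermediateField.adjoin_map, Set.image_singleton] at h3
    have h4 : k⟮(IsScalarTower.toAlgHom k K E₂) t⟯ ≤ F₂.restrictScalars k := by
      rw [IntermediateField.adjoin_le_iff]
      rintro _ rfl
      exact httF₂
    exact h4 h3
  letI algF₀F₂ : Algebra F₀ F₂ := ((algebraMap F₀ E₂).codRestrict F₂ hmem).toAlgebra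
  haveI : IsScalarTower F₀ F₂ E₂ := IsScalarTower.of_algebraMap_eq fun _ => rfl
  haveI : IsGalois F₂ E₂ := IsGalois.tower_top_of_isGalois F₀ F₂ E₂
  letI algF₂K₂ : Algebra F₂ K₂ := (IntermediateField.inclusion hle).toAlgebra
  haveI : IsScalarTower F₂ K₂ E₂ := IsScalarTower.of_algebraMap_eq fun _ => rfl
  have hb : NsBound k₂ K₂ := nsBound_of_tower (F₀ := F₂) (F := K₂) (E := E₂) hE₂ hfunK₂ hfunF₂
    hg0 Q₀ hQ₀
  -- transfer to `K / k`
  letI := algComp K k₂ E₂
  have hce : IsConstExt k K k₂ K₂ := isConstExt_comp hK.2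
  have hm0 : 0 < Module.finrank k k₂ := Module.finrank_pos
  have hq : Nat.card k₂ = Nat.card k ^ Module.finrank k k₂ := Module.natCard_eq_pow_finrank
  exact NsBound.of_Ns_eq _ hm0 hq (fun s hs => Ns_constExt hK hce s hs) hb

end Groth.Agent.Helper4.SN537
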