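import Mathlib
import Groth.Agent.Helper4.SN537
import Groth.Agent.Helper5.FFSep2
import Groth.Agent.Helper5.FFGeom6
import Groth.Agent.Helper6.FFTower
import Groth.Agent.Helper6.FFZeta12

/-!
# The bounds on `N_s` for an arbitrary function field over a finite field
-/

set_option backward.isDefEq.respectTransparency false
set_option backward.isDefEq.respectTransparency.types false
set_option linter.style.haveILetI false
set_option autoImplicit false

open FunFld Polynomial
open scoped IntermediateField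

namespace Groth.Agent.Helper4.SN538

open Groth.Agent.Helper5 Groth.Agent.Helper6.FFZeta Groth.Agent.Helper6.FFTower
  Groth.Agent.Helper4.SN533 Groth.Agent.Helper4.SN537

universe u v

/-- The field of constants of a function field over a finite field is finite. -/
theorem finite_consts {k E : Type*} [Field k] [Finite k] [Field E] [Algebra k E]
    (hE : FG.IsFF k E) : Finite ↥(algebraicClosure k E) := by
  obtain ⟨x, hx, -⟩ := id hE
  obtain ⟨Q, -⟩ := FG.exists_place_val_lt_one hE hx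
  haveI := FG.finiteDimensional_residueField hE Q
  haveI : Finite (IsLocalRing.ResidueField Q.O) := Module.finite_of_finite k
  have hle : ∀ c : ↥(algebraicClosure k E), Q.1 (c : E) ≤ 1 := fun c =>
    FG.gval_le_one_of_isAlgebraic Q.1 Q.2.1 (mem_algebraicClosure_iff.mp c.2)
  let φ : ↥(algebraicClosure k E) → IsLocalRing.ResidueField Q.O :=
    fun c => IsLocalRing.residue Q.O ⟨(c : E), hle c⟩
  apply Finite.of_injective φ
  intro c c' h
  by_contra hne
  have h1 : IsLocalRing.residue Q.O (⟨(c : E), hle c⟩ - ⟨(c' : E), hle c'⟩) = 0 := by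
    rw [map_sub, sub_eq_zero]; exact h
  rw [FG.residue_eq_zero_iff] at h1
  have h2 : ((c : E) - (c' : E)) ≠ 0 := fun h0 => hne (Subtype.ext (sub_eq_zero.mp h0))
  have h3 : IsAlgebraic k ((c : E) - (c' : E)) :=
    (mem_algebraicClosure_iff.mp c.2).sub (mem_algebraicClosure_iff.mp c'.2)
  have h4 := FG.gval_eq_one_of_isAlgebraic Q.1 Q.2.1 h2 h3
  have h5 : Q.1 ((c : E) - (c' : E)) < 1 := h1
  rw [h4] at h5
  exact lt_irrefl _ h5

/-- A function field with a finite exact constant field has a constant field extension with a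
rational place (in the `AdjoinRoot` model). -/
theorem rational_ext {k₁ E₀ : Type v} [Field k₁] [Finite k₁] [Field E₀] [Algebra k₁ E₀]
    (hE₁ : IsFunctionField k₁ E₀) (Q₁ : Place k₁ E₀) (f : k₁[X]) (hmonic : f.Monic)
    [Fact (Irreducible f)] [Fact (Irreducible (f.map (algebraMap k₁ E₀)))]
    (hdeg : f.natDegree = Q₁.deg) :
    letI := algK' (K := E₀) f
    IsFunctionField (AdjoinRoot f) (AdjoinRoot (f.map (algebraMap k₁ E₀))) ∧
      ∃ Q₀ : Place (AdjoinRoot f) (AdjoinRoot (f.map (algebraMap k₁ E₀))), Q₀.deg = 1 := by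
  classical
  have hd : 0 < Q₁.deg := FF.deg_pos_place hE₁ Q₁
  letI := algK' (K := E₀) f
  haveI := tower_K' (K := E₀) f
  have hf0 : f ≠ 0 := hmonic.ne_zero
  have hfd : FiniteDimensional k₁ (AdjoinRoot f) := (AdjoinRoot.powerBasis hf0).finite
  have hg₁ : IsGeometric k₁ E₀ := FF.isGeometric_of_perfectField k₁ E₀ hE₁
  have h₂ := prod_bijective f hfd hg₁
  obtain ⟨hE₂, -⟩ := FF.isFunctionField_baseChange h₂ hE₁ hg₁
  refine ⟨hE₂, ?_⟩
  haveI : Finite (AdjoinRoot f) := Module.finite_of_finite k₁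
  have hrank : Module.finrank k₁ (AdjoinRoot f) = Q₁.deg := by
    rw [(AdjoinRoot.powerBasis hf0).finrank, AdjoinRoot.powerBasis_dim, hdeg]
  have h1 := Ns_constExt_model h₂ hE₁ 1 Nat.one_pos
  rw [hrank, mul_one] at h1
  have h2 : Q₁.deg ≤ Ns k₁ E₀ Q₁.deg := by
    have hS : ∀ P : Place k₁ E₀, P.deg ≤ Q₁.deg → P ∈ (finite_deg_le hE₁ Q₁.deg).toFinset := by
      intro P hP; rw [Set.Finite.mem_toFinset]; exact hP
    rw [Ns_eq_sum _ Q₁.deg Q₁.deg hS hd le_rfl]
    have hmem : Q₁ ∈ (finite_deg_le hE₁ Q₁.deg).toFinset := hS Q₁ le_rfl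
    calc Q₁.deg = (if Q₁.deg ∣ Q₁.deg then Q₁.deg else 0) := by rw [if_pos dvd_rfl]
      _ ≤ _ := Finset.single_le_sum (f := fun P : Place k₁ E₀ =>
          if P.deg ∣ Q₁.deg then P.deg else 0) (fun _ _ => Nat.zero_le _) hmem
  have h3 : 0 < Nat.card {P : Place (AdjoinRoot f) (AdjoinRoot (f.map (algebraMap k₁ E₀))) //
      P.deg = 1} := by
    rw [← Ns_one hE₂, h1]; omega
  obtain ⟨⟨Q₀, hQ₀⟩⟩ := (Nat.card_pos_iff.mp h3).1
  exact ⟨Q₀, hQ₀⟩

/-- The bounds on `N_s`, given a Galois closure. -/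
theorem nsBound_of_galois {k : Type u} {F₀ : Type*} {K E₀ : Type v} [Field k] [Finite k] [Field F₀]
    [Field K] [Field E₀] [Algebra k K] [Algebra K E₀] [Algebra k E₀] [IsScalarTower k K E₀]
    [Algebra k F₀] [Algebra F₀ K] [IsScalarTower k F₀ K] [Algebra F₀ E₀] [IsScalarTower F₀ K E₀]
    (hK : IsFunctionField k K) (t : K) (ht : Transcendental k t)
    (hF₀t : ∀ z : F₀, algebraMap F₀ K z ∈ k⟮t⟯) [FiniteDimensional F₀ E₀] [IsGalois F₀ E₀] :
    NsBound k K := by
  classical
  haveI : FiniteDimensional K E₀ := FiniteDimensional.right F₀ K E₀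
  have hE₀ : FG.IsFF k E₀ := FG.isFF_of_finite hK.1
  haveI : Finite ↥(algebraicClosure k E₀) := finite_consts hE₀
  have hE₁ : IsFunctionField ↥(algebraicClosure k E₀) E₀ := isFunctionField_consts hE₀
  obtain ⟨Q₁⟩ := FF.nonempty_place hE₁
  have hd : 0 < Q₁.deg := FF.deg_pos_place hE₁ Q₁
  obtain ⟨f, hmonic, hirr, hdeg⟩ := exists_irreducible_natDegree ↥(algebraicClosure k E₀) Q₁.deg hd
  have hirr' := FF.irreducible_map_of_algClosedIn hE₁.2 hmonic hirr
  haveI : Fact (Irreducible f) := ⟨hirr⟩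
  haveI : Fact (Irreducible (f.map (algebraMap ↥(algebraicClosure k E₀) E₀))) := ⟨hirr'⟩
  letI := algK' (K := E₀) f
  haveI := tower_K' (K := E₀) f
  obtain ⟨hE₂, Q₀, hQ₀⟩ := rational_ext hE₁ Q₁ f hmonic hdeg
  have hf0 : f ≠ 0 := hmonic.ne_zero
  haveI hfd : FiniteDimensional ↥(algebraicClosure k E₀) (AdjoinRoot f) :=
    (AdjoinRoot.powerBasis hf0).finite
  haveI : Finite (AdjoinRoot f) := Module.finite_of_finite ↥(algebraicClosure k E₀)
  haveI : IsScalarTower k (AdjoinRoot f)
      (AdjoinRoot (f.map (algebraMap ↥(algebraicClosure k E₀) E₀))) :=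
    IsScalarTower.of_algebraMap_eq fun c => by
      rw [algebraMap_K'_apply, AdjoinRoot.algebraMap_eq', AdjoinRoot.algebraMap_eq',
        RingHom.comp_apply, RingHom.comp_apply, AdjoinRoot.map_of]
      rfl
  have hadj : IntermediateField.adjoin E₀ (Set.range (algebraMap (AdjoinRoot f)
      (AdjoinRoot (f.map (algebraMap ↥(algebraicClosure k E₀) E₀))))) = ⊤ := by
    have h1 := AdjoinRoot.adjoinRoot_eq_top (f := f.map (algebraMap ↥(algebraicClosure k E₀) E₀))
    have hroot : AdjoinRoot.root (f.map (algebraMap ↥(algebraicClosure k E₀) E₀)) ∈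
        Set.range (algebraMap (AdjoinRoot f)
          (AdjoinRoot (f.map (algebraMap ↥(algebraicClosure k E₀) E₀)))) :=
      ⟨AdjoinRoot.root f, by rw [algebraMap_K'_apply, AdjoinRoot.map_root]⟩
    have h2 : Algebra.adjoin E₀ {AdjoinRoot.root (f.map (algebraMap ↥(algebraicClosure k E₀) E₀))} ≤
        (IntermediateField.adjoin E₀ (Set.range (algebraMap (AdjoinRoot f)
          (AdjoinRoot (f.map (algebraMap ↥(algebraicClosure k E₀) E₀)))))).toSubalgebra := by
      apply Algebra.adjoin_le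
      intro x hx
      rw [Set.mem_singleton_iff] at hx
      subst hx
      exact IntermediateField.subset_adjoin E₀ _ hroot
    rw [h1] at h2
    rw [eq_top_iff]
    intro x _
    exact h2 Algebra.mem_top
  exact nsBound_of_constExt_tower (F₀ := F₀) (E₀ := E₀) (k₂ := AdjoinRoot f)
    (E₂ := AdjoinRoot (f.map (algebraMap ↥(algebraicClosure k E₀) E₀))) t hF₀t hadj hK ht hE₂ Q₀ hQ₀

/-- **The bounds on `N_s` hold for every function field over a finite field.** -/
theorem nsBound {k : Type u} {K : Type v} [Field k] [Finite k] [Field K] [Algebra k K]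
    (hK : IsFunctionField k K) : NsBound k K := by
  classical
  have hg : IsGeometric k K := FF.isGeometric_of_perfectField k K hK
  obtain ⟨t, ht, hsep⟩ := FF.exists_separating hK hg
  haveI := hsep
  haveI hfinK : FiniteDimensional k⟮t⟯ K := FF.finiteDimensional_adjoin hK ht
  haveI : IsAlgClosure k⟮t⟯ (AlgebraicClosure K) :=
    IsAlgClosure.ofAlgebraic k⟮t⟯ K (AlgebraicClosure K)
  haveI : IsScalarTower k K
      ↥(IntermediateField.normalClosure k⟮t⟯ K (AlgebraicClosure K)) :=
    IsScalarTower.of_algebraMap_eq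
      (fun c => Subtype.ext (IsScalarTower.algebraMap_apply k K (AlgebraicClosure K) c))
  haveI : Algebra.IsSeparable k⟮t⟯
      ↥(IntermediateField.normalClosure k⟮t⟯ K (AlgebraicClosure K)) := by
    show Algebra.IsSeparable k⟮t⟯ (⨆ f : K →ₐ[k⟮t⟯] AlgebraicClosure K, f.fieldRange :
      IntermediateField k⟮t⟯ (AlgebraicClosure K))
    haveI : ∀ f : K →ₐ[k⟮t⟯] AlgebraicClosure K, Algebra.IsSeparable k⟮t⟯ f.fieldRange :=
      fun f => AlgEquiv.Algebra.isSeparable (AlgEquiv.ofInjectiveField f)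
    infer_instance
  haveI : IsGalois k⟮t⟯ ↥(IntermediateField.normalClosure k⟮t⟯ K (AlgebraicClosure K)) :=
    { }
  exact nsBound_of_galois (F₀ := k⟮t⟯)
    (E₀ := ↥(IntermediateField.normalClosure k⟮t⟯ K (AlgebraicClosure K))) hK t ht
    (fun z => z.2)

end Groth.Agent.Helper4.SN538
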