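import Mathlib
import Groth.Prelude.Def_CurvBase
import Groth.Agent.S1619
import Groth.Agent.Helper5.VarDim4

/-!
# The function field of an integral curve over a field is a function field of one variable (I)

finite generation and transcendence degree
-/

set_option autoImplicit false
set_option linter.style.haveILetI false
universe u
open CategoryTheory CategoryTheory.Limits AlgebraicGeometry

namespace Groth.Agent.Helper4.SN539

attribute [local instance] Curv2.stalkAlgebra Curv2.resAlgebra

theorem exists_transcendental_finite {k K : Type*} [Field k] [Field K] [Algebra k K]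
    [Algebra.EssFiniteType k K] (h : Algebra.trdeg k K = 1) :
    ∃ t : K, Transcendental k t ∧
      FiniteDimensional (IntermediateField.adjoin k ({t} : Set K)) K := by
  obtain ⟨ι, x, hx⟩ := exists_isTranscendenceBasis' k K
  have hcard := hx.cardinalMk_eq_trdeg
  rw [h] at hcard
  obtain ⟨hsub, ⟨i₀⟩⟩ := Cardinal.eq_one_iff_unique.1 hcard
  refine ⟨x i₀, hx.1.transcendental i₀, ?_⟩
  have hrange : Set.range x = {x i₀} := by
    ext y
    constructor
    · rintro ⟨i, rfl⟩
      rw [Subsingleton.elim i i₀]; rfl
    · rintro rfl
      exact ⟨i₀, rfl⟩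
  have halg := hx.isAlgebraic_field
  rw [hrange] at halg
  haveI : Algebra.EssFiniteType (IntermediateField.adjoin k ({x i₀} : Set K)) K :=
    Algebra.EssFiniteType.of_comp k _ K
  exact Algebra.finite_of_essFiniteType_of_isAlgebraic


variable (k : Type u) [Field k] (X : Scheme.{u}) [X.Over (Spec (CommRingCat.of k))]

/-- the `k`-algebra structure on the sections over an open -/
noncomputable abbrev secHom (U : X.Opens) : k →+* Γ(X, U) :=
  (X.presheaf.map (homOfLE (le_top : U ≤ ⊤)).op).hom.comp
    (Coh.toGlobal (X ↘ Spec (CommRingCat.of k)))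

noncomputable abbrev secAlgebra (U : X.Opens) : Algebra k Γ(X, U) := (secHom k X U).toAlgebra

theorem germ_secHom (U : X.Opens) (x : X) (hx : x ∈ U) (c : k) :
    X.presheaf.germ U x hx (secHom k X U c) = Curv2.stalkMap k X x c := by
  simp only [secHom, Curv2.stalkMap, RingHom.coe_comp, Function.comp_apply]
  exact X.presheaf.germ_res_apply (homOfLE (le_top : U ≤ ⊤)) x hx _

theorem finiteType_secHom [LocallyOfFiniteType (X ↘ Spec (CommRingCat.of k))] (U : X.Opens)
    (hU : IsAffineOpen U) : (secHom k X U).FiniteType := by
  have h1 := HasRingHomProperty.appLE (P := @LocallyOfFiniteType) (X ↘ Spec (CommRingCat.of k))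
    inferInstance ⟨⊤, isAffineOpen_top _⟩ ⟨U, hU⟩ le_top
  have h2 : secHom k X U = ((X ↘ Spec (CommRingCat.of k)).appLE ⊤ U le_top).hom.comp
      (Scheme.ΓSpecIso (CommRingCat.of k)).inv.hom := by
    ext c
    simp only [secHom, Coh.toGlobal, RingHom.coe_comp, Function.comp_apply, Scheme.Hom.appLE,
      CommRingCat.hom_comp]
    rfl
  rw [h2]
  exact h1.comp (RingHom.FiniteType.of_surjective _
    (ConcreteCategory.bijective_of_isIso (Scheme.ΓSpecIso (CommRingCat.of k)).inv).2)

variable [IsIntegral X]

theorem essFiniteType_functionField [LocallyOfFiniteType (X ↘ Spec (CommRingCat.of k))] :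
    Algebra.EssFiniteType k X.functionField := by
  obtain ⟨U, hU, hxU, -⟩ :=
    exists_isAffineOpen_mem_and_subset (X := X) (x := genericPoint X) (U := ⊤) trivial
  haveI : Nonempty U := ⟨⟨_, hxU⟩⟩
  letI := secAlgebra k X U
  haveI : IsScalarTower k Γ(X, U) X.functionField := by
    apply IsScalarTower.of_algebraMap_eq
    intro c
    exact (germ_secHom k X U (genericPoint X) hxU c).symm
  haveI : Algebra.FiniteType k Γ(X, U) := finiteType_secHom k X U hU
  haveI := functionField_isFractionRing_of_isAffineOpen X U hU
  haveI : Algebra.EssFiniteType Γ(X, U) X.functionField :=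
    Algebra.EssFiniteType.of_isLocalization _ (nonZeroDivisors Γ(X, U))
  exact Algebra.EssFiniteType.comp k Γ(X, U) X.functionField

theorem trdeg_functionField [LocallyOfFiniteType (X ↘ Spec (CommRingCat.of k))]
    (hdim : topologicalKrullDim X = 1) : Algebra.trdeg k X.functionField = 1 := by
  obtain ⟨m, hm1, -, -⟩ := Groth.Agent.Helper5.VarDim.localDim_formula k
    (X ↘ (Spec (CommRingCat.of k))) (genericPoint X)
  have h1 : Algebra.trdeg k (X.residueField (genericPoint X)) = m := hm1
  have h2 := Groth.Agent.S1619.result k X m h1
  rw [hdim] at h2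
  have hm : m = 1 := by
    have : ((1 : ℕ) : WithBot ℕ∞) = (m : WithBot ℕ∞) := by exact_mod_cast h2
    exact_mod_cast this.symm
  subst hm
  have hbij : Function.Bijective (X.residue (genericPoint X)).hom := by
    refine ⟨RingHom.injective _, ?_⟩
    exact IsLocalRing.residue_surjective
  have h3 := Groth.Agent.Helper5.VarDim.trdeg_congr_ringEquiv
    (Curv2.stalkMap k X (genericPoint X)) (Curv2.resMap k X (genericPoint X))
    (RingEquiv.ofBijective _ hbij) (fun c => rfl)
  rw [h3, h1]
  rfl

/-- the function field of an integral curve of finite type over `k` is finite over a rational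
function field `k(t)` -/
theorem exists_transcendental_finite_functionField
    [LocallyOfFiniteType (X ↘ Spec (CommRingCat.of k))] (hdim : topologicalKrullDim X = 1) :
    ∃ t : X.functionField, Transcendental k t ∧
      FiniteDimensional (IntermediateField.adjoin k ({t} : Set X.functionField)) X.functionField := by
  haveI := essFiniteType_functionField k X
  exact exists_transcendental_finite (trdeg_functionField k X hdim)

end Groth.Agent.Helper4.SN539
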