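import Mathlib
import Groth.Agent.Helper4.SN53
import Groth.Agent.Helper1.ProjTop8

/-!
# Curves: subschemes of length `n` impose independent conditions on `L` when `deg L ≥ 2g - 1 + n`
-/

set_option autoImplicit false
set_option linter.style.haveILetI false

namespace Groth.Agent.Helper4.SN

open CategoryTheory Limits AlgebraicGeometry Opposite TopologicalSpace
open Groth.Agent.Helper4.NApx82 Groth.Agent.Helper4.StalkDict Groth.Agent.Lead.Ref1B

universe u

variable (k : Type u) [Field k] {X : Scheme.{u}} [X.Over (Spec (CommRingCat.of k))]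

/-- a proper closed subset of an integral scheme of dimension one has dimension at most zero -/
theorem dim_support_le_zero [IsIntegral X] [NoetherianSpace X] (hdim : topologicalKrullDim X = 1)
    (I : X.IdealSheafData) (hI : I ≠ ⊥) :
    topologicalKrullDim (I.support : Set X) ≤ 0 := by
  have hne : I.support ≠ ⊤ := fun h => hI (Scheme.IdealSheafData.support_eq_top_iff.1 h)
  have hξ : genericPoint X ∉ (I.support : Set X) := by
    intro hmem
    apply hne
    apply top_le_iff.mp
    intro x _
    have hcl : IsClosed (I.support : Set X) := I.support.isClosed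
    have : closure ({genericPoint X} : Set X) ⊆ (I.support : Set X) :=
      hcl.closure_subset_iff.mpr (Set.singleton_subset_iff.mpr hmem)
    apply this
    rw [(genericPoint_spec X).def]
    trivial
  have hfin := Groth.Agent.Helper5.ConstrCurve.finite_of_isClosed_of_notMem hdim.le _
    I.support.isClosed hξ
  haveI : Finite (I.support : Set X) := hfin.to_subtype
  have hpt : ∀ x ∈ (I.support : Set X), IsClosed ({x} : Set X) := by
    intro x hx
    apply Groth.Agent.Helper5.ConstrCurve.isClosed_singleton_of_ne hdim.le x
    rintro rfl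
    exact hξ hx
  haveI : T1Space (I.support : Set X) := by
    refine ⟨fun z => ?_⟩
    have h := (hpt z.1 z.2).preimage
      (continuous_subtype_val (p := fun y => y ∈ (I.support : Set X)))
    have heq : (Subtype.val ⁻¹' ({z.1} : Set X) : Set (I.support : Set X)) = {z} := by
      ext y
      constructor
      · intro hy
        exact Subtype.ext hy
      · intro hy
        rw [Set.mem_singleton_iff] at hy
        rw [hy]
        rfl
    rw [← heq]
    exact h
  haveI : DiscreteTopology (I.support : Set X) := inferInstance
  exact topologicalKrullDim_zero_of_discreteTopology _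

/-- S18804, general form -/
theorem main18804_gen [IsAlgClosed k] [IsIntegral X] [IsProper (X ↘ (Spec (CommRingCat.of k)))]
    (hdim : topologicalKrullDim X = 1) (L : X.Modules) (hL : PicF.IsInvertible L) (n : ℕ)
    (hn : 2 ≤ n) (hdeg : 2 * (Curv2.genus k X : ℤ) - 1 + n ≤ Curv2.deg k X L 1)
    (I : X.IdealSheafData) (hI : Module.finrank k (Coh.HH X (ClSub.quotMod I) 0) = n) :
    Module.finrank k (Coh.HH X (CohB1.tensorMod L (ClSub.idealMod I)) 0) + n =
      Module.finrank k (Coh.HH X L 0) := by
  haveI := isNoetherian_of_proper k X
  have h0 := finrank_h0_unit_of_isAlgClosed k (X := X)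
  have hne : I ≠ ⊥ := by
    rintro rfl
    haveI : IsIso (⊥ : X.IdealSheafData).subschemeι :=
      (Scheme.isIso_subschemeι_iff_eq_bot _).2 rfl
    haveI := isIso_unitToPush (⊥ : X.IdealSheafData).subschemeι
    have e : Coh.structureModule X ≅ ClSub.quotMod (⊥ : X.IdealSheafData) :=
      asIso (ClSub.unitToPush (⊥ : X.IdealSheafData).subschemeι)
    have := (Groth.Agent.Helper1.ProjTop.HHlinEquiv k e 0).finrank_eq
    omega
  have hZ := dim_support_le_zero hdim I hne
  have hsub := (main1532 k hdim h0 L hL I hZ (by rw [hI]; omega)).1
  have hsubL := main1522 k hdim L hL (by omega)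
  have hχ := chi_idealTwist k I hZ L hL
  have hM := chi_eq_h0_sub_h1 k hdim.le (CohB1.tensorMod (ClSub.idealMod I) L)
  have hL1 := chi_eq_h0_sub_h1 k hdim.le L
  unfold chi at hM hL1
  rw [hM, hL1, hI, Module.finrank_zero_of_subsingleton (M := Coh.HH X L 1),
    Module.finrank_zero_of_subsingleton
      (M := Coh.HH X (CohB1.tensorMod (ClSub.idealMod I) L) 1)] at hχ
  have hb := (Groth.Agent.Helper1.ProjTop.HHlinEquiv k (braid L (ClSub.idealMod I)) 0).finrank_eq
  rw [hb]
  push_cast at hχ
  omega

end Groth.Agent.Helper4.SN
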