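import Mathlib
import Groth.Agent.Helper4.SN539

/-!
# The function field of a geometrically irreducible integral scheme over a perfect field has no
new constants
-/

set_option autoImplicit false
set_option linter.style.haveILetI false
universe u
open CategoryTheory CategoryTheory.Limits AlgebraicGeometry TensorProduct

namespace Groth.Agent.Helper4.SN540

open Groth.Agent.Helper4.SN539

attribute [local instance] Curv2.stalkAlgebra Curv2.resAlgebra

theorem idem_nilpotent {B : Type*} [CommRing B] (e : B) (he : IsIdempotentElem e)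
    (hn : IsNilpotent e) : e = 0 := by
  obtain ⟨n, hn⟩ := hn
  rcases Nat.eq_zero_or_pos n with rfl | hpos
  · rw [pow_zero] at hn
    rw [← mul_one e, hn, mul_zero]
  · rwa [he.pow_eq hpos.ne'] at hn

theorem finrank_eq_one_of_irreducible {k A L : Type*} [Field k] [CommRing A] [Nontrivial A]
    [Algebra k A] [Field L] [Algebra k L] [FiniteDimensional k L] [Algebra.IsSeparable k L]
    (ι : L →ₐ[k] A) (hirr : IrreducibleSpace (PrimeSpectrum (A ⊗[k] L))) :
    Module.finrank k L = 1 := by
  have hprime := (PrimeSpectrum.irreducibleSpace_iff_isPrime_nilradical).1 hirr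
  set I := KaehlerDifferential.ideal k L with hI
  haveI : Algebra.FormallyUnramified k L := Algebra.FormallyUnramified.of_isSeparable k L
  have hsub : Subsingleton (Ω[L⁄k]) := inferInstance
  have hidem : IsIdempotentElem I := (Ideal.cotangent_subsingleton_iff I).1 hsub
  haveI : IsNoetherianRing (L ⊗[k] L) := by
    haveI : Module.Finite k (L ⊗[k] L) := inferInstance
    exact isNoetherian_of_isNoetherianRing_of_finite k (L ⊗[k] L) |> fun h =>
      isNoetherianRing_iff.2 (isNoetherian_of_tower k h)
  have hfg : I.FG := IsNoetherian.noetherian I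
  obtain ⟨e, he, hIe⟩ := (Ideal.isIdempotentElem_iff_of_fg I hfg).1 hidem
  let Φ : L ⊗[k] L →ₐ[k] A ⊗[k] L := Algebra.TensorProduct.map ι (AlgHom.id k L)
  have hΦinj : Function.Injective Φ := by
    have h1 : Function.Injective (LinearMap.rTensor L ι.toLinearMap) :=
      Module.Flat.rTensor_preserves_injective_linearMap _ ι.toRingHom.injective
    intro x y hxy
    apply h1
    exact hxy
  have hmul : Φ e * Φ (1 - e) = 0 := by
    rw [← map_mul, mul_sub, mul_one, he.eq, sub_self, map_zero]
  have hmem : Φ e * Φ (1 - e) ∈ nilradical (A ⊗[k] L) := by rw [hmul]; exact zero_mem _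
  have hcases : e = 0 ∨ e = 1 := by
    rcases hprime.mem_or_mem hmem with h | h
    · left
      have h0 := idem_nilpotent (Φ e) (he.map Φ) (mem_nilradical.1 h)
      exact hΦinj (by rw [h0, map_zero])
    · right
      have h0 := idem_nilpotent (Φ (1 - e)) (he.one_sub.map Φ) (mem_nilradical.1 h)
      have : 1 - e = 0 := hΦinj (by rw [h0, map_zero])
      exact (sub_eq_zero.1 this).symm
  have hn : 0 < Module.finrank k L := Module.finrank_pos
  rcases hcases with h0 | h1
  · -- multiplication is injective
    have hbot : I = ⊥ := by rw [hIe, h0]; simp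
    have hinj : Function.Injective (Algebra.TensorProduct.lmul' k (S := L)) := by
      rw [injective_iff_map_eq_zero]
      intro x hx
      have : x ∈ I := by rw [hI, KaehlerDifferential.ideal]; exact hx
      rw [hbot] at this
      exact this
    have hle := LinearMap.finrank_le_finrank_of_injective
      (f := (Algebra.TensorProduct.lmul' k (S := L)).toLinearMap) hinj
    rw [Module.finrank_tensorProduct] at hle
    nlinarith
  · exfalso
    have htop : (1 : L ⊗[k] L) ∈ I := by rw [hIe, h1]; exact Ideal.mem_span_singleton_self _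
    have : Algebra.TensorProduct.lmul' k (S := L) 1 = 0 := by
      rw [hI, KaehlerDifferential.ideal] at htop; exact htop
    rw [map_one] at this
    exact one_ne_zero this

variable (k : Type u) [Field k] (X : Scheme.{u}) [X.Over (Spec (CommRingCat.of k))]

theorem fromSpec_comp (U : X.Opens) (hU : IsAffineOpen U) :
    hU.fromSpec ≫ (X ↘ Spec (CommRingCat.of k)) =
      Spec.map (CommRingCat.ofHom (secHom k X U)) := by
  have h2 : CommRingCat.ofHom (secHom k X U) = (Scheme.ΓSpecIso (CommRingCat.of k)).inv ≫
      (X ↘ Spec (CommRingCat.of k)).appLE ⊤ U le_top := by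
    ext c
    simp only [secHom, Coh.toGlobal, RingHom.coe_comp, Function.comp_apply, Scheme.Hom.appLE,
      CommRingCat.hom_comp, CommRingCat.hom_ofHom]
    rfl
  rw [h2, Spec.map_comp, ← Scheme.isoSpec_Spec_inv, ← IsAffineOpen.fromSpec_top,
    IsAffineOpen.SpecMap_appLE_fromSpec]

theorem irreducibleSpace_tensor [GeometricallyIrreducible (X ↘ Spec (CommRingCat.of k))]
    (U : X.Opens) (hU : IsAffineOpen U) [Nonempty U] (L : Type u) [Field L] [Algebra k L] :
    letI := secAlgebra k X U
    IrreducibleSpace (PrimeSpectrum (Γ(X, U) ⊗[k] L)) := by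
  letI := secAlgebra k X U
  haveI : Surjective (hU.fromSpec ≫ (X ↘ Spec (CommRingCat.of k))) := by
    constructor
    intro y
    obtain ⟨u⟩ := ‹Nonempty U›
    have hu : u.1 ∈ Set.range hU.fromSpec := by rw [hU.range_fromSpec]; exact u.2
    obtain ⟨z, hz⟩ := hu
    exact ⟨z, Subsingleton.elim _ _⟩
  have hgi : GeometricallyIrreducible (hU.fromSpec ≫ (X ↘ Spec (CommRingCat.of k))) :=
    inferInstance
  rw [fromSpec_comp] at hgi
  have hpo := CommRingCat.isPushout_tensorProduct k Γ(X, U) L
  have hpb := isPullback_SpecMap_of_isPushout _ _ _ _ hpo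
  exact hgi.geometrically_irreducibleSpace _ _ _ hpb

open scoped IntermediateField in
/-- **No new constants**: if `X` is integral and geometrically irreducible over the perfect field
`k`, every element of the function field algebraic over `k` lies in `k`. -/
theorem mem_range_of_isAlgebraic [IsIntegral X]
    [GeometricallyIrreducible (X ↘ Spec (CommRingCat.of k))] [PerfectField k]
    (y : X.functionField) (hy : IsAlgebraic k y) :
    y ∈ Set.range (algebraMap k X.functionField) := by
  obtain ⟨U₀, hU₀, y₀, hy₀⟩ := X.presheaf.exists_germ_eq y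
  obtain ⟨_, ⟨A, hA, rfl⟩, hxA, hAU⟩ :=
    X.isBasis_affineOpens.exists_subset_of_mem_open hU₀ U₀.isOpen
  haveI : Nonempty A := ⟨⟨_, hxA⟩⟩
  set y' : Γ(X, A) := X.presheaf.map (homOfLE hAU).op y₀ with hy'
  have hgerm : X.presheaf.germ A (genericPoint X) hxA y' = y := by
    rw [← hy₀, hy']
    exact X.presheaf.germ_res_apply (homOfLE hAU) (genericPoint X) hxA y₀
  letI := secAlgebra k X A
  haveI : IsScalarTower k Γ(X, A) X.functionField := by
    apply IsScalarTower.of_algebraMap_eq
    intro c
    exact (germ_secHom k X A (genericPoint X) hxA c).symm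
  let φ : Γ(X, A) →ₐ[k] X.functionField := IsScalarTower.toAlgHom k Γ(X, A) X.functionField
  have hφ : ∀ a, φ a = X.presheaf.germ A (genericPoint X) hxA a := fun a => rfl
  have hφinj : Function.Injective φ := germ_injective_of_isIntegral X (genericPoint X) hxA
  haveI hint : IsIntegral k y := hy.isIntegral
  let L : IntermediateField k X.functionField := k⟮y⟯
  haveI : FiniteDimensional k L := IntermediateField.adjoin.finiteDimensional hint
  haveI : Algebra.IsAlgebraic k L := Algebra.IsAlgebraic.of_finite k L
  haveI : Algebra.IsSeparable k L := Algebra.IsAlgebraic.isSeparable_of_perfectField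
  have hle : L.toSubalgebra ≤ φ.range := by
    rw [IntermediateField.adjoin_simple_toSubalgebra_of_isAlgebraic hy, Algebra.adjoin_le_iff]
    rintro _ rfl
    exact ⟨y', hgerm⟩
  let ι : L →ₐ[k] Γ(X, A) :=
    ((AlgEquiv.ofInjective φ hφinj).symm.toAlgHom).comp (Subalgebra.inclusion hle)
  haveI : IsDomain Γ(X, A) := inferInstance
  have hirr := irreducibleSpace_tensor k X A hA L
  have h1 := finrank_eq_one_of_irreducible ι hirr
  have h2 := IntermediateField.finrank_adjoin_simple_eq_one_iff.1 h1
  rw [IntermediateField.mem_bot] at h2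
  exact h2

end Groth.Agent.Helper4.SN540
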