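import Mathlib
import Groth.Agent.Helper4.SN540
import Groth.Agent.S1556
import Groth.Agent.S4451
import Groth.Agent.Helper5.FFExist
import Groth.Agent.Helper5.FFApprox

/-!
# Closed points of a smooth proper curve over a perfect field and places of its function field
-/

set_option autoImplicit false
set_option linter.style.haveILetI false
universe u
open CategoryTheory CategoryTheory.Limits AlgebraicGeometry TensorProduct FunFld

namespace Groth.Agent.Helper4.SN541

open Groth.Agent.Helper4.SN539 Groth.Agent.Helper4.SN540

attribute [local instance] Curv2.stalkAlgebra Curv2.resAlgebra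


theorem finrank_residueField_eq_of_ringEquiv {k A B : Type*} [Field k] [CommRing A] [IsLocalRing A]
    [CommRing B] [IsLocalRing B] (φ : k →+* A) (ψ : k →+* B) (e : A ≃+* B)
    (h : ∀ c, e (φ c) = ψ c) :
    @Module.finrank k (IsLocalRing.ResidueField A) _ _
      (((IsLocalRing.residue A).comp φ).toAlgebra).toModule =
    @Module.finrank k (IsLocalRing.ResidueField B) _ _
      (((IsLocalRing.residue B).comp ψ).toAlgebra).toModule := by
  letI := ((IsLocalRing.residue A).comp φ).toAlgebra
  letI := ((IsLocalRing.residue B).comp ψ).toAlgebra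
  let E : IsLocalRing.ResidueField A ≃+* IsLocalRing.ResidueField B :=
    IsLocalRing.ResidueField.mapEquiv e
  have hE : ∀ c : k, E (algebraMap k _ c) = algebraMap k _ c := by
    intro c
    show E (IsLocalRing.residue A (φ c)) = IsLocalRing.residue B (ψ c)
    rw [← h c]
    rfl
  exact (AlgEquiv.ofRingEquiv (f := E) hE).toLinearEquiv.finrank_eq

variable (k : Type u) [Field k] (X : Scheme.{u}) [X.Over (Spec (CommRingCat.of k))]

theorem fromSpecResidueField_appTop (x : X) :
    (X.fromSpecResidueField x).appTop = X.Γevaluation x ≫ (Scheme.ΓSpecIso _).inv := by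
  rw [Scheme.fromSpecResidueField, Scheme.Hom.comp_appTop, Scheme.fromSpecStalk_appTop]
  simp only [Category.assoc]
  have : (Spec (X.presheaf.stalk x)).presheaf.map (homOfLE le_top).op = 𝟙 _ := by
    exact (Spec (X.presheaf.stalk x)).presheaf.map_id _
  rw [this, Category.id_comp, ← Scheme.ΓSpecIso_inv_naturality]
  rfl

theorem fromSpecResidueField_comp (x : X) :
    X.fromSpecResidueField x ≫ (X ↘ Spec (CommRingCat.of k)) =
      Spec.map (CommRingCat.ofHom (Curv2.resMap k X x)) := by
  apply ext_of_isAffine
  rw [Scheme.Hom.comp_appTop, fromSpecResidueField_appTop]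
  have h1 := Scheme.ΓSpecIso_inv_naturality (CommRingCat.ofHom (Curv2.resMap k X x))
  have h2 : (Spec.map (CommRingCat.ofHom (Curv2.resMap k X x))).appTop =
      (Scheme.ΓSpecIso (CommRingCat.of k)).hom ≫ CommRingCat.ofHom (Curv2.resMap k X x) ≫
        (Scheme.ΓSpecIso _).inv := by
    rw [h1]
    exact (Iso.hom_inv_id_assoc (Scheme.ΓSpecIso (CommRingCat.of k)) _).symm
  rw [h2]
  have h3 : CommRingCat.ofHom (Curv2.resMap k X x) =
      (Scheme.ΓSpecIso (CommRingCat.of k)).inv ≫ (X ↘ Spec (CommRingCat.of k)).appTop ≫
        X.Γevaluation x := by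
    ext c
    rfl
  rw [h3]
  simp only [Category.assoc, Iso.hom_inv_id_assoc]
  rfl

/-- the residue field of a closed point is finite over `k` -/
theorem finite_residueField [LocallyOfFiniteType (X ↘ Spec (CommRingCat.of k))] (x : X)
    (hx : IsClosed ({x} : Set X)) : Module.Finite k (X.residueField x) := by
  haveI := isClosed_singleton_iff_isClosedImmersion.mp hx
  have h1 : IsFinite (X.fromSpecResidueField x ≫ (X ↘ Spec (CommRingCat.of k))) :=
    (isFinite_iff_locallyOfFiniteType_of_jacobsonSpace
      (f := X.fromSpecResidueField x ≫ (X ↘ Spec (CommRingCat.of k)))).mpr inferInstance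
  rw [fromSpecResidueField_comp, IsFinite.SpecMap_iff] at h1
  exact h1

theorem algebraMap_stalkMap [IsIntegral X] (x : X) (c : k) :
    algebraMap (X.presheaf.stalk x) X.functionField (Curv2.stalkMap k X x c) =
      algebraMap k X.functionField c := by
  haveI : Nonempty (⊤ : X.Opens) := ⟨⟨x, trivial⟩⟩
  have h1 := Scheme.algebraMap_germ_eq_germToFunctionField (X := X) (U := ⊤) (x := x) trivial
    (Coh.toGlobal (X ↘ Spec (CommRingCat.of k)) c)
  exact h1

section Curve

variable [PerfectField k] [IsIntegral X] (hp : IsProper (X ↘ Spec (CommRingCat.of k)))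
  (hs : Smooth (X ↘ Spec (CommRingCat.of k)))
include hp hs

theorem isDVR_stalk (hdim : topologicalKrullDim X = 1) (x : X) (hx : IsClosed ({x} : Set X)) :
    IsDiscreteValuationRing (X.presheaf.stalk x) := by
  haveI := finite_residueField k X x hx
  haveI : Algebra.IsAlgebraic k (X.residueField x) := Algebra.IsAlgebraic.of_finite k _
  haveI : Algebra.IsSeparable k (X.residueField x) :=
    Algebra.IsAlgebraic.isSeparable_of_perfectField
  refine (Groth.Agent.S1556.result k X hdim x hx).2 ?_
  rw [Scheme.Hom.smoothLocus_eq_top]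
  trivial

theorem ne_genericPoint_of_isClosed (hdim : topologicalKrullDim X = 1) (x : X)
    (hx : IsClosed ({x} : Set X)) : x ≠ genericPoint X := by
  intro h
  haveI := isDVR_stalk k X hp hs hdim x hx
  subst h
  exact IsDiscreteValuationRing.not_isField (X.presheaf.stalk (genericPoint X))
    (Field.toIsField X.functionField)

theorem dim_stalk (hdim : topologicalKrullDim X = 1) (x : X) (hx : IsClosed ({x} : Set X)) :
    ringKrullDim (X.presheaf.stalk x) = 1 := by
  haveI := isDVR_stalk k X hp hs hdim x hx
  exact IsDiscreteValuationRing.ringKrullDim_eq_one _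

theorem isClosed_of_ne_genericPoint (hdim : topologicalKrullDim X = 1) (x : X)
    (hx : x ≠ genericPoint X) : IsClosed ({x} : Set X) := by
  haveI : JacobsonSpace X := LocallyOfFiniteType.jacobsonSpace (X ↘ (Spec (CommRingCat.of k)))
  exact Groth.Agent.Helper5.CurveVal.isClosed_of_ne_genericPoint (dim_stalk k X hp hs hdim) x hx

theorem isNormalScheme (hdim : topologicalKrullDim X = 1) : Pi1.IsNormalScheme X := by
  intro x
  refine ⟨inferInstance, ?_⟩
  by_cases hx : x = genericPoint X
  · subst hx
    exact inferInstanceAs (IsIntegrallyClosed X.functionField)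
  · haveI := isDVR_stalk k X hp hs hdim x (isClosed_of_ne_genericPoint k X hp hs hdim x hx)
    infer_instance

variable (hgi : GeometricallyIrreducible (X ↘ Spec (CommRingCat.of k)))
include hgi

theorem isFunctionField (hdim : topologicalKrullDim X = 1) :
    IsFunctionField k X.functionField :=
  ⟨exists_transcendental_finite_functionField k X hdim,
    fun y hy => mem_range_of_isAlgebraic k X y hy⟩

/-- the place attached to a closed point -/
theorem exists_place (hdim : topologicalKrullDim X = 1) (x : X) (hx : IsClosed ({x} : Set X)) :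
    ∃ P : Place k X.functionField, ∀ y : X.functionField,
      P.1 y ≤ 1 ↔ y ∈ Set.range (algebraMap (X.presheaf.stalk x) X.functionField) := by
  have hK := isFunctionField k X hp hs hgi hdim
  obtain ⟨R, hRtop, hR⟩ := (Groth.Agent.S4451.result k X (dim_stalk k X hp hs hdim)
    (isNormalScheme k X hp hs hdim)).1 x (ne_genericPoint_of_isClosed k X hp hs hdim x hx)
  have hmem : ∀ y, y ∈ R ↔ y ∈ Set.range (algebraMap (X.presheaf.stalk x) X.functionField) := by
    intro y
    rw [← hR]; rfl
  have hk : ∀ c : k, algebraMap k X.functionField c ∈ R := by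
    intro c
    rw [hmem]
    exact ⟨_, algebraMap_stalkMap k X x c⟩
  obtain ⟨z, hz⟩ : ∃ z, z ∉ R := by
    by_contra hcon
    push Not at hcon
    exact hRtop (eq_top_iff.2 fun y _ => hcon y)
  have hz0 : z ≠ 0 := by
    rintro rfl
    exact hz (zero_mem _)
  have hinv : ∀ y : X.functionField, y ∉ R → R.valuation y⁻¹ < 1 := by
    intro y hy
    have h1 : ¬ R.valuation y ≤ 1 := fun h => hy ((R.valuation_le_one_iff _).1 h)
    have h2 : 1 < R.valuation y := lt_of_not_ge h1
    rw [map_inv₀]
    exact inv_lt_one_of_one_lt₀ h2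
  obtain ⟨P, hP1, hP2⟩ := Groth.Agent.Helper5.FF.exists_place_of_valuationSubring hK R hk
    (inv_ne_zero hz0) (hinv z hz)
  refine ⟨P, fun y => ⟨fun hy => ?_, fun hy => hP1 y ((hmem y).2 hy)⟩⟩
  rw [← hmem]
  by_contra hny
  have h1 := hP2 _ (hinv y hny)
  have hy0 : y ≠ 0 := by
    rintro rfl
    exact hny (zero_mem _)
  rw [map_inv₀] at h1
  have h2 : 1 < P.1 y := by
    by_contra hcon
    push Not at hcon
    have hpos : 0 < P.1 y := zero_lt_iff.2 (P.1.ne_zero_iff.2 hy0)
    exact absurd h1 (not_lt.2 ((one_le_inv₀ hpos).2 hcon))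
  exact absurd hy (not_le.2 h2)

/-- the place attached to a closed point -/
noncomputable def placeOf (hdim : topologicalKrullDim X = 1)
    (x : {x : X // IsClosed ({x} : Set X)}) : Place k X.functionField :=
  Classical.choose (exists_place k X hp hs hgi hdim x.1 x.2)

theorem placeOf_spec (hdim : topologicalKrullDim X = 1)
    (x : {x : X // IsClosed ({x} : Set X)}) (y : X.functionField) :
    (placeOf k X hp hs hgi hdim x).1 y ≤ 1 ↔
      y ∈ Set.range (algebraMap (X.presheaf.stalk x.1) X.functionField) :=
  Classical.choose_spec (exists_place k X hp hs hgi hdim x.1 x.2) y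

theorem placeOf_injective (hdim : topologicalKrullDim X = 1) :
    Function.Injective (placeOf k X hp hs hgi hdim) := by
  intro x x' hxx'
  obtain ⟨R, hRtop, hR⟩ := (Groth.Agent.S4451.result k X (dim_stalk k X hp hs hdim)
    (isNormalScheme k X hp hs hdim)).1 x.1 (ne_genericPoint_of_isClosed k X hp hs hdim x.1 x.2)
  have hk : ∀ c : k, algebraMap k X.functionField c ∈ R := by
    intro c
    have : algebraMap k X.functionField c ∈ (R : Set X.functionField) := by
      rw [hR]
      exact ⟨_, algebraMap_stalkMap k X x.1 c⟩
    exact this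
  obtain ⟨x₀, -, huniq⟩ := (Groth.Agent.S4451.result k X (dim_stalk k X hp hs hdim)
    (isNormalScheme k X hp hs hdim)).2 R hRtop hk
  have h1 := huniq x.1 hR
  have h2 : (R : Set X.functionField) =
      Set.range (algebraMap (X.presheaf.stalk x'.1) X.functionField) := by
    rw [hR]
    ext y
    rw [← placeOf_spec k X hp hs hgi hdim x y, ← placeOf_spec k X hp hs hgi hdim x' y, hxx']
  have h3 := huniq x'.1 h2
  exact Subtype.ext (h1.trans h3.symm)

theorem placeOf_surjective (hdim : topologicalKrullDim X = 1) :
    Function.Surjective (placeOf k X hp hs hgi hdim) := by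
  intro P
  have hRtop : P.1.valuationSubring ≠ ⊤ := by
    intro h
    obtain ⟨z, hz⟩ := P.2.2 (WithZero.exp 1)
    have : z ∈ P.1.valuationSubring := by rw [h]; trivial
    rw [Valuation.mem_valuationSubring_iff, hz] at this
    have h2 : (WithZero.exp (1 : ℤ) : WithZero (Multiplicative ℤ)) ≤ WithZero.exp 0 := this
    rw [WithZero.exp_le_exp] at h2
    omega
  have hk : ∀ c : k, algebraMap k X.functionField c ∈ P.1.valuationSubring := fun c => P.2.1 c
  obtain ⟨x₀, hx₀, -⟩ := (Groth.Agent.S4451.result k X (dim_stalk k X hp hs hdim)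
    (isNormalScheme k X hp hs hdim)).2 _ hRtop hk
  have hne : x₀ ≠ genericPoint X := by
    intro h
    subst h
    apply hRtop
    rw [eq_top_iff]
    intro y _
    have : y ∈ (P.1.valuationSubring : Set X.functionField) := by
      rw [hx₀]
      refine ⟨y, ?_⟩
      change (X.presheaf.stalkSpecializes _).hom y = y
      rw [TopCat.Presheaf.stalkSpecializes_refl]
      rfl
    exact this
  have hcl := isClosed_of_ne_genericPoint k X hp hs hdim x₀ hne
  refine ⟨⟨x₀, hcl⟩, ?_⟩
  apply Groth.Agent.Helper5.FF.eq_of_O_le
  intro y hy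
  rw [placeOf_spec] at hy
  have : y ∈ (P.1.valuationSubring : Set X.functionField) := by rw [hx₀]; exact hy
  exact this

/-- closed points correspond bijectively to places -/
noncomputable def placeEquiv (hdim : topologicalKrullDim X = 1) :
    {x : X // IsClosed ({x} : Set X)} ≃ Place k X.functionField :=
  Equiv.ofBijective (placeOf k X hp hs hgi hdim)
    ⟨placeOf_injective k X hp hs hgi hdim, placeOf_surjective k X hp hs hgi hdim⟩

theorem deg_placeOf (hdim : topologicalKrullDim X = 1) (x : {x : X // IsClosed ({x} : Set X)}) :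
    (placeOf k X hp hs hgi hdim x).deg = Module.finrank k (X.residueField x.1) := by
  set P := placeOf k X hp hs hgi hdim x with hP
  have hmem : ∀ a : X.presheaf.stalk x.1,
      algebraMap (X.presheaf.stalk x.1) X.functionField a ∈ P.O.toSubring := by
    intro a
    exact (placeOf_spec k X hp hs hgi hdim x _).2 ⟨a, rfl⟩
  let f : X.presheaf.stalk x.1 →+* P.O :=
    (algebraMap (X.presheaf.stalk x.1) X.functionField).codRestrict P.O.toSubring hmem
  have hf : Function.Bijective f := by
    constructor
    · intro a b hab
      have := congrArg Subtype.val hab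
      exact IsFractionRing.injective (X.presheaf.stalk x.1) X.functionField this
    · rintro ⟨y, hy⟩
      obtain ⟨a, ha⟩ := (placeOf_spec k X hp hs hgi hdim x y).1 hy
      exact ⟨a, Subtype.ext ha⟩
  let e : X.presheaf.stalk x.1 ≃+* P.O := RingEquiv.ofBijective f hf
  have he : ∀ c : k, e (Curv2.stalkMap k X x.1 c) = algebraMap k P.O c := by
    intro c
    exact Subtype.ext (algebraMap_stalkMap k X x.1 c)
  exact (finrank_residueField_eq_of_ringEquiv (Curv2.stalkMap k X x.1) (algebraMap k P.O) e
    he).symm

end Curve

end Groth.Agent.Helper4.SN541
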