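import Mathlib
import Groth.Agent.Helper4.SN538

/-!
# Weil numbers of a function field over a finite field; places of coprime degrees
-/

set_option autoImplicit false

open FunFld

namespace Groth.Agent.Helper4.SN542

open Groth.Agent.Helper6.FFZeta Groth.Agent.Helper4.SN529 Groth.Agent.Helper4.SN533

variable {k K : Type*} [Field k] [Field K] [Algebra k K]

/-- the Weil numbers of a function field over a finite field -/
theorem exists_weil_numbers [Finite k] (hK : IsFunctionField k K) :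
    ∃ α : Fin (2 * genus k K) → ℂ, (∀ i, IsIntegral ℤ (α i)) ∧
      (∀ i, ‖α i‖ ^ 2 = (Nat.card k : ℝ)) ∧
      (∀ i, α i * α (Fin.rev i) = (Nat.card k : ℂ)) ∧
      ∀ s : ℕ, 0 < s → (Ns k K s : ℂ) = 1 + (Nat.card k : ℂ) ^ s - ∑ i, α i ^ s := by
  have h := Groth.Agent.Helper4.SN538.nsBound hK
  obtain ⟨α, hint, hα, hpair⟩ := exists_reciprocal_roots hK
  refine ⟨α, hint, fun i => ?_, hpair, fun s hs => Ns_formula hK α hα s hs⟩
  have hq0 : (0 : ℝ) < Nat.card k := by exact_mod_cast Nat.card_pos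
  have h1 := norm_sq_le_of_NsBound hK h α hα i
  have h2 := norm_sq_le_of_NsBound hK h α hα (Fin.rev i)
  have h3 : ‖α i‖ * ‖α (Fin.rev i)‖ = (Nat.card k : ℝ) := by
    rw [← norm_mul, hpair i, Complex.norm_natCast]
  have h4 : 0 ≤ ‖α i‖ := norm_nonneg _
  have h5 : 0 ≤ ‖α (Fin.rev i)‖ := norm_nonneg _
  apply le_antisymm h1
  by_contra hcon
  push Not at hcon
  have h6 : (‖α i‖ * ‖α (Fin.rev i)‖) ^ 2 < (Nat.card k : ℝ) ^ 2 := by
    rw [mul_pow, sq (Nat.card k : ℝ)]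
    have h7 : 0 ≤ ‖α (Fin.rev i)‖ ^ 2 := by positivity
    have h8 : 0 ≤ ‖α i‖ ^ 2 := by positivity
    nlinarith
  rw [h3] at h6
  exact lt_irrefl _ h6

/-- the Hasse–Weil bound for all `N_s` -/
theorem abs_Ns_sub_le [Finite k] (hK : IsFunctionField k K) (s : ℕ) (hs : 0 < s) :
    |(Ns k K s : ℝ) - ((Nat.card k : ℝ) ^ s + 1)| ≤
      2 * (genus k K : ℝ) * Real.sqrt (Nat.card k : ℝ) ^ s := by
  obtain ⟨α, -, hnorm, -, hN⟩ := exists_weil_numbers hK
  have h1 := hN s hs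
  have hn : ∀ i, ‖α i‖ = Real.sqrt (Nat.card k : ℝ) := by
    intro i
    rw [← hnorm i, Real.sqrt_sq (norm_nonneg _)]
  have h2 : ((Ns k K s : ℝ) - ((Nat.card k : ℝ) ^ s + 1) : ℝ) = - (∑ i, α i ^ s).re := by
    have := congrArg Complex.re h1
    simp only [Complex.natCast_re, Complex.add_re, Complex.one_re, Complex.sub_re] at this
    rw [this]
    have : (((Nat.card k : ℂ)) ^ s).re = (Nat.card k : ℝ) ^ s := by
      rw [← Complex.ofReal_natCast, ← Complex.ofReal_pow, Complex.ofReal_re]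
    rw [this]; ring
  rw [h2, abs_neg]
  calc |(∑ i, α i ^ s).re| ≤ ‖∑ i, α i ^ s‖ := Complex.abs_re_le_norm _
    _ ≤ ∑ i, ‖α i ^ s‖ := norm_sum_le _ _
    _ = ∑ _i : Fin (2 * genus k K), Real.sqrt (Nat.card k : ℝ) ^ s := by
        refine Finset.sum_congr rfl fun i _ => ?_
        rw [norm_pow, hn i]
    _ = 2 * (genus k K : ℝ) * Real.sqrt (Nat.card k : ℝ) ^ s := by
        rw [Finset.sum_const, Finset.card_univ, Fintype.card_fin, nsmul_eq_mul]
        push_cast; ring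

theorem Ns_pos [Finite k] (hK : IsFunctionField k K) (s : ℕ) (hs : 4 * genus k K ^ 2 ≤ s)
    (hs0 : 0 < s) : 0 < Ns k K s := by
  have h1 := abs_Ns_sub_le hK s hs0
  set r := Real.sqrt (Nat.card k : ℝ) ^ s with hr
  have hq1 : (2 : ℝ) ≤ Nat.card k := by exact_mod_cast Finite.one_lt_card (α := k)
  have hr2 : r ^ 2 = (Nat.card k : ℝ) ^ s := by
    rw [hr, ← pow_mul, mul_comm, pow_mul, Real.sq_sqrt (by positivity)]
  have hr0 : 0 ≤ r := by positivity
  have h2 : (4 * (genus k K : ℝ) ^ 2) < r ^ 2 := by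
    rw [hr2]
    calc (4 * (genus k K : ℝ) ^ 2) ≤ (s : ℝ) := by exact_mod_cast hs
      _ < (2 : ℝ) ^ s := by exact_mod_cast Nat.lt_two_pow_self
      _ ≤ (Nat.card k : ℝ) ^ s := pow_le_pow_left₀ (by norm_num) hq1 s
  have h3 : 2 * (genus k K : ℝ) < r := by
    by_contra hcon
    push Not at hcon
    have : r ^ 2 ≤ (2 * (genus k K : ℝ)) ^ 2 := pow_le_pow_left₀ hr0 hcon 2
    nlinarith
  have h4 := (abs_le.1 h1).1
  rw [← hr2] at h4
  have h5 : (0 : ℝ) < Ns k K s := by nlinarith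
  exact_mod_cast h5

/-- over a finite field there are two places of coprime degrees -/
theorem exists_coprime_places [Finite k] (hK : IsFunctionField k K) :
    ∃ P Q : Place k K, Nat.Coprime P.deg Q.deg := by
  have key : ∀ s : ℕ, 4 * genus k K ^ 2 ≤ s → 0 < s → ∃ P : Place k K, P.deg ∣ s := by
    intro s hs hs0
    have h1 := Ns_pos hK s hs hs0
    rw [Ns] at h1
    by_contra hcon
    push Not at hcon
    have : (∑ᶠ P : Place k K, if P.deg ∣ s then P.deg else 0) = 0 := by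
      apply finsum_eq_zero_of_forall_eq_zero
      intro P
      rw [if_neg (hcon P)]
    omega
  obtain ⟨p₁, hp₁, hp₁'⟩ := Nat.exists_infinite_primes (4 * genus k K ^ 2 + 1)
  obtain ⟨p₂, hp₂, hp₂'⟩ := Nat.exists_infinite_primes (p₁ + 1)
  obtain ⟨P, hP⟩ := key p₁ (by omega) hp₁'.pos
  obtain ⟨Q, hQ⟩ := key p₂ (by omega) hp₂'.pos
  refine ⟨P, Q, ?_⟩
  have hcop : Nat.Coprime p₁ p₂ := (Nat.coprime_primes hp₁' hp₂').2 (by omega)
  exact Nat.Coprime.of_dvd hP hQ hcop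

end Groth.Agent.Helper4.SN542
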