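import Mathlib
import Groth.Agent.Helper4.SN541
import Groth.Agent.Helper6.FFZeta9
import Groth.Prelude.Def_SgaExt

/-!
# Rational points of a smooth proper curve over a finite field and places of its function field
-/

set_option autoImplicit false
set_option linter.style.haveILetI false
universe u
open CategoryTheory CategoryTheory.Limits AlgebraicGeometry FunFld Polynomial

namespace Groth.Agent.Helper4.SN543

open Groth.Agent.Helper4.SN539 Groth.Agent.Helper4.SN540 Groth.Agent.Helper4.SN541
open Groth.Agent.Helper6.FFZeta

attribute [local instance] Curv2.stalkAlgebra Curv2.resAlgebra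

theorem natCard_algHom_finite_fields (k E L : Type*) [Field k] [Finite k] [Field E] [Algebra k E]
    [FiniteDimensional k E] [Field L] [Algebra k L] [FiniteDimensional k L] :
    Nat.card (E →ₐ[k] L) =
      if Module.finrank k E ∣ Module.finrank k L then Module.finrank k E else 0 := by
  classical
  haveI : Finite E := Module.finite_of_finite k
  haveI : Finite L := Module.finite_of_finite k
  haveI := Fintype.ofFinite k
  haveI := Fintype.ofFinite E
  haveI := Fintype.ofFinite L
  haveI : Algebra.IsSeparable k E := Algebra.IsAlgebraic.isSeparable_of_perfectField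
  split_ifs with hdvd
  · apply AlgHom.natCard_of_splits
    intro x
    obtain ⟨m, hm⟩ := hdvd
    have hcardE : Fintype.card E = Fintype.card k ^ Module.finrank k E :=
      Module.card_eq_pow_finrank (K := k) (V := E)
    have hcardL : Fintype.card L = Fintype.card k ^ Module.finrank k L :=
      Module.card_eq_pow_finrank (K := k) (V := L)
    have hx : x ^ (Fintype.card k ^ Module.finrank k L) = x := by
      rw [hm, pow_mul, ← hcardE]
      exact FiniteField.pow_card_pow m x
    have hdvd' : minpoly k x ∣ (X ^ (Fintype.card k ^ Module.finrank k L) - X : k[X]) := by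
      apply minpoly.dvd
      rw [map_sub, map_pow, aeval_X, hx, sub_self]
    have hsplit : ((X ^ (Fintype.card k ^ Module.finrank k L) - X : k[X]).map
        (algebraMap k L)).Splits := by
      rw [Polynomial.map_sub, Polynomial.map_pow, Polynomial.map_X, ← hcardL,
        Polynomial.splits_iff_card_roots, FiniteField.roots_X_pow_card_sub_X,
        FiniteField.X_pow_card_sub_X_natDegree_eq _ Fintype.one_lt_card]
      rfl
    exact hsplit.of_dvd (by
      intro h0
      rw [Polynomial.map_eq_zero] at h0
      have h1 := FiniteField.X_pow_card_pow_sub_X_ne_zero k (p := Fintype.card k)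
        (n := Module.finrank k L) Module.finrank_pos.ne' Fintype.one_lt_card
      exact h1 h0) (Polynomial.map_dvd _ hdvd')
  · rw [Nat.card_eq_zero]
    left
    constructor
    intro φ
    apply hdvd
    letI := φ.toRingHom.toAlgebra
    haveI : IsScalarTower k E L := IsScalarTower.of_algebraMap_eq fun c => (φ.commutes c).symm
    rw [← Module.finrank_mul_finrank k E L]
    exact dvd_mul_right _ _

theorem natCard_sigma_eq_finsum {α : Type*} {β : α → Type*} [∀ a, Finite (β a)]
    (hfin : {a | Nonempty (β a)}.Finite) : Nat.card (Σ a, β a) = ∑ᶠ a, Nat.card (β a) := by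
  classical
  set s := hfin.toFinset with hs
  have hmem : ∀ a, a ∈ s ↔ Nonempty (β a) := fun a => by rw [hs, Set.Finite.mem_toFinset]; rfl
  let e : (Σ a : s, β a.1) ≃ Σ a, β a :=
    { toFun := fun p => ⟨p.1.1, p.2⟩
      invFun := fun p => ⟨⟨p.1, (hmem p.1).2 ⟨p.2⟩⟩, p.2⟩
      left_inv := fun p => rfl
      right_inv := fun p => rfl }
  rw [← Nat.card_congr e, Nat.card_sigma]
  rw [finsum_eq_sum_of_support_subset (s := s)]
  · exact Finset.sum_coe_sort s (fun a => Nat.card (β a))
  · intro a ha
    rw [Function.mem_support] at ha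
    rw [Finset.mem_coe, hmem]
    by_contra hcon
    rw [not_nonempty_iff] at hcon
    exact ha Nat.card_of_isEmpty

variable (k : Type u) [Field k] (X : Scheme.{u}) [X.Over (Spec (CommRingCat.of k))]
  (k' : Type u) [Field k'] [Algebra k k']

/-- the `k'`-points of `X` over `k` are the pairs of a point and a `k`-embedding of its residue
field -/
noncomputable def ptMap (p : Σ x : X, (X.residueField x →ₐ[k] k')) :
    { g : Spec (CommRingCat.of k') ⟶ X //
      g ≫ (X ↘ Spec (CommRingCat.of k)) = Spec.map (CommRingCat.ofHom (algebraMap k k')) } :=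
  ⟨Spec.map (CommRingCat.ofHom p.2.toRingHom) ≫ X.fromSpecResidueField p.1, by
    rw [Category.assoc, fromSpecResidueField_comp, ← Spec.map_comp]
    congr 1
    ext c
    exact p.2.commutes c⟩

theorem ptMap_bijective : Function.Bijective (ptMap k X k') := by
  constructor
  · rintro ⟨x, φ⟩ ⟨x', φ'⟩ h
    have h1 := congrArg Subtype.val h
    simp only [ptMap] at h1
    have h2 : (Scheme.SpecToEquivOfField k' X).symm ⟨x, CommRingCat.ofHom φ.toRingHom⟩ =
        (Scheme.SpecToEquivOfField k' X).symm ⟨x', CommRingCat.ofHom φ'.toRingHom⟩ := h1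
    have h3 := (Scheme.SpecToEquivOfField k' X).symm.injective h2
    obtain ⟨rfl, h4⟩ := Sigma.mk.inj_iff.1 h3
    have h5 := eq_of_heq h4
    congr 1
    ext a
    exact congrArg (fun g => g.hom a) h5
  · rintro ⟨g, hg⟩
    obtain ⟨⟨x, ψ⟩, hxψ⟩ : ∃ p, (Scheme.SpecToEquivOfField k' X).symm p = g :=
      (Scheme.SpecToEquivOfField k' X).symm.surjective g
    have hg' : g = Spec.map ψ ≫ X.fromSpecResidueField x := hxψ.symm
    have hcomm : ∀ c : k, ψ.hom (algebraMap k (X.residueField x) c) = algebraMap k k' c := by
      intro c
      rw [hg', Category.assoc, fromSpecResidueField_comp, ← Spec.map_comp] at hg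
      have h1 := Spec.map_injective hg
      exact congrArg (fun g => g.hom c) h1
    refine ⟨⟨x, { ψ.hom with commutes' := hcomm }⟩, ?_⟩
    apply Subtype.ext
    simp only [ptMap]
    rw [hg']
    rfl

theorem pointCount_eq_card_sigma :
    SgaExt.pointCount (X ↘ Spec (CommRingCat.of k)) k' =
      Nat.card (Σ x : X, (X.residueField x →ₐ[k] k')) := by
  rw [SgaExt.pointCount]
  exact (Nat.card_congr (Equiv.ofBijective _ (ptMap_bijective k X k'))).symm

/-- a point with a `k`-embedding of its residue field into a finite extension is closed -/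
theorem isClosed_of_algHom [LocallyOfFiniteType (X ↘ Spec (CommRingCat.of k))]
    [FiniteDimensional k k'] (x : X) (φ : X.residueField x →ₐ[k] k') :
    IsClosed ({x} : Set X) := by
  haveI : JacobsonSpace X := LocallyOfFiniteType.jacobsonSpace (X ↘ (Spec (CommRingCat.of k)))
  rw [isClosed_singleton_iff_locallyOfFiniteType]
  haveI : Module.Finite k (X.residueField x) :=
    FiniteDimensional.of_injective φ.toLinearMap φ.toRingHom.injective
  have h1 : IsFinite (X.fromSpecResidueField x ≫ (X ↘ Spec (CommRingCat.of k))) := by
    rw [fromSpecResidueField_comp, IsFinite.SpecMap_iff]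
    exact (inferInstance : Module.Finite k (X.residueField x))
  have h2 : LocallyOfFiniteType (X.fromSpecResidueField x ≫ (X ↘ Spec (CommRingCat.of k))) :=
    inferInstance
  exact locallyOfFiniteType_of_comp _ (X ↘ Spec (CommRingCat.of k))

section Curve

variable [Finite k] [IsIntegral X] (hp : IsProper (X ↘ Spec (CommRingCat.of k)))
  (hs : Smooth (X ↘ Spec (CommRingCat.of k)))
  (hgi : GeometricallyIrreducible (X ↘ Spec (CommRingCat.of k)))
  (hdim : topologicalKrullDim X = 1) [FiniteDimensional k k']
include hp hs hgi hdim

theorem card_algHom_closed (x : {x : X // IsClosed ({x} : Set X)}) :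
    Nat.card (X.residueField x.1 →ₐ[k] k') =
      if (placeOf k X hp hs hgi hdim x).deg ∣ Module.finrank k k' then
        (placeOf k X hp hs hgi hdim x).deg else 0 := by
  haveI := finite_residueField k X x.1 x.2
  rw [deg_placeOf]
  exact natCard_algHom_finite_fields k (X.residueField x.1) k'

theorem pointCount_eq_Ns :
    SgaExt.pointCount (X ↘ Spec (CommRingCat.of k)) k' =
      Ns k X.functionField (Module.finrank k k') := by
  classical
  have hK := isFunctionField k X hp hs hgi hdim
  rw [pointCount_eq_card_sigma]
  haveI hfinA : ∀ x : X, Finite (X.residueField x →ₐ[k] k') := by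
    intro x
    by_cases hne : Nonempty (X.residueField x →ₐ[k] k')
    · obtain ⟨φ⟩ := hne
      have hx := isClosed_of_algHom k X k' x φ
      haveI := finite_residueField k X x hx
      infer_instance
    · rw [not_nonempty_iff] at hne
      infer_instance
  have hfin : {x : X | Nonempty (X.residueField x →ₐ[k] k')}.Finite := by
    have h1 := (finite_deg_le hK (Module.finrank k k')).image
      (fun P => ((placeEquiv k X hp hs hgi hdim).symm P).1)
    apply h1.subset
    rintro x ⟨φ⟩
    have hx := isClosed_of_algHom k X k' x φ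
    refine ⟨placeOf k X hp hs hgi hdim ⟨x, hx⟩, ?_, ?_⟩
    · have h2 := card_algHom_closed k X k' hp hs hgi hdim ⟨x, hx⟩
      by_cases hd : (placeOf k X hp hs hgi hdim ⟨x, hx⟩).deg ∣ Module.finrank k k'
      · exact Nat.le_of_dvd Module.finrank_pos hd
      · rw [if_neg hd, Nat.card_eq_zero] at h2
        rcases h2 with h2 | h2
        · exact (h2.false φ).elim
        · exact (h2.false).elim
    · show ((placeEquiv k X hp hs hgi hdim).symm (placeOf k X hp hs hgi hdim ⟨x, hx⟩)).1 = x
      have : (placeEquiv k X hp hs hgi hdim).symm (placeOf k X hp hs hgi hdim ⟨x, hx⟩) =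
          ⟨x, hx⟩ := (placeEquiv k X hp hs hgi hdim).symm_apply_apply ⟨x, hx⟩
      rw [this]
  rw [natCard_sigma_eq_finsum hfin, Ns]
  set G : Place k X.functionField → ℕ :=
    fun P => if P.deg ∣ Module.finrank k k' then P.deg else 0 with hG
  have h1 : (∑ᶠ P : Place k X.functionField, G P) =
      ∑ᶠ x : {x : X // IsClosed ({x} : Set X)}, G (placeEquiv k X hp hs hgi hdim x) :=
    (finsum_comp_equiv (placeEquiv k X hp hs hgi hdim)).symm
  rw [h1]
  have h2 : ∀ x : {x : X // IsClosed ({x} : Set X)}, G (placeEquiv k X hp hs hgi hdim x) =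
      Nat.card (X.residueField x.1 →ₐ[k] k') := by
    intro x
    exact (card_algHom_closed k X k' hp hs hgi hdim x).symm
  rw [finsum_congr h2, finsum_subtype_eq_finsum_cond
    (f := fun x : X => Nat.card (X.residueField x →ₐ[k] k')) (fun x => IsClosed ({x} : Set X))]
  apply finsum_congr
  intro x
  rw [finsum_eq_if]
  split_ifs with hx
  · rfl
  · rw [Nat.card_eq_zero]
    left
    constructor
    intro φ
    exact hx (isClosed_of_algHom k X k' x φ)

end Curve

end Groth.Agent.Helper4.SN543
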