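import Mathlib
import Groth.Agent.S10993
import Groth.Agent.S10978
import Groth.Agent.Helper5.FFStep
import Groth.Agent.Helper5.FFWeil

/-!
# The genus of a function field as the dimension of `R_{S ∪ T} / (R_S + R_T)`
-/

set_option autoImplicit false

open FunFld

namespace Groth.Agent.Helper4.SN544

open Groth.Agent.Helper5.FF

variable {k K : Type*} [Field k] [Field K] [Algebra k K]

/-- the ring of functions regular away from `S`, as a `k`-subspace -/
def RS (S : Set (Place k K)) : Submodule k K where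
  carrier := {f | ∀ P : Place k K, P ∉ S → P.1 f ≤ 1}
  add_mem' {x y} hx hy P hP := (P.1.map_add x y).trans (max_le (hx P hP) (hy P hP))
  zero_mem' P _ := by simp
  smul_mem' c x hx P hP := by
    rw [Algebra.smul_def, map_mul]
    exact (mul_le_mul' (P.2.1 c) (hx P hP)).trans_eq (one_mul _)

theorem mem_RS {S : Set (Place k K)} {f : K} : f ∈ RS S ↔ ∀ P : Place k K, P ∉ S → P.1 f ≤ 1 :=
  Iff.rfl

theorem RS_mono {S T : Set (Place k K)} (h : S ⊆ T) : RS S ≤ RS T :=
  fun _ hf P hP => hf P fun hS => hP (h hS)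

open Classical in
/-- the divisor `m · Σ_{P ∈ S} P` -/
noncomputable def DS (S : Finset (Place k K)) (m : ℕ) : Divisor k K :=
  ∑ P ∈ S, Finsupp.single P (m : ℤ)

open Classical in
theorem DS_apply (S : Finset (Place k K)) (m : ℕ) (P : Place k K) :
    DS S m P = if P ∈ S then (m : ℤ) else 0 := by
  rw [DS, Finsupp.finset_sum_apply]
  simp only [Finsupp.single_apply]
  rw [Finset.sum_ite_eq' S P]

theorem deg_DS (S : Finset (Place k K)) (m : ℕ) :
    (DS S m).deg = (m : ℤ) * ∑ P ∈ S, (P.deg : ℤ) := by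
  classical
  rw [DS, ← degHom_apply, map_sum, Finset.mul_sum]
  refine Finset.sum_congr rfl fun P _ => ?_
  rw [degHom_apply, deg_single]

theorem le_deg_DS (hK : IsFunctionField k K) {S : Finset (Place k K)} (hS : S.Nonempty) (m : ℕ) :
    (m : ℤ) ≤ (DS S m).deg := by
  rw [deg_DS]
  have h1 : (1 : ℤ) ≤ ∑ P ∈ S, (P.deg : ℤ) := by
    obtain ⟨P₀, hP₀⟩ := hS
    calc (1 : ℤ) ≤ (P₀.deg : ℤ) := by exact_mod_cast deg_pos_place hK P₀
      _ ≤ ∑ P ∈ S, (P.deg : ℤ) :=
        Finset.single_le_sum (f := fun P : Place k K => (P.deg : ℤ))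
          (fun P _ => Int.natCast_nonneg _) hP₀
  nlinarith [Int.natCast_nonneg m]

open Classical in
theorem DS_union {S T : Finset (Place k K)} (h : Disjoint S T) (m : ℕ) :
    DS (S ∪ T) m = DS S m + DS T m := by
  classical
  rw [DS, DS, DS, Finset.sum_union h]

theorem mem_L_DS {S : Finset (Place k K)} {m : ℕ} {f : K} :
    f ∈ L (DS S m) ↔ (∀ P ∈ S, P.1 f ≤ WithZero.exp (m : ℤ)) ∧ ∀ P, P ∉ S → P.1 f ≤ 1 := by
  classical
  constructor
  · intro hf
    refine ⟨fun P hP => ?_, fun P hP => ?_⟩
    · have := hf P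
      rwa [DS_apply, if_pos hP] at this
    · have := hf P
      rwa [DS_apply, if_neg hP, WithZero.exp_zero] at this
  · rintro ⟨h1, h2⟩ P
    rw [DS_apply]
    split_ifs with hP
    · exact h1 P hP
    · rw [WithZero.exp_zero]; exact h2 P hP

theorem L_DS_le_RS (S : Finset (Place k K)) (m : ℕ) : L (DS S m) ≤ RS (S : Set (Place k K)) :=
  fun _ hf P hP => (mem_L_DS.1 hf).2 P (by simpa using hP)

theorem L_DS_mono (S : Finset (Place k K)) {m n : ℕ} (h : m ≤ n) : L (DS S m) ≤ L (DS S n) := by
  intro f hf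
  rw [mem_L_DS] at hf ⊢
  refine ⟨fun P hP => (hf.1 P hP).trans ?_, hf.2⟩
  rw [WithZero.exp_le_exp]
  exact_mod_cast h

theorem exists_mem_L_DS (S : Finset (Place k K)) {f : K} (hf : f ∈ RS (S : Set (Place k K))) :
    ∃ m : ℕ, f ∈ L (DS S m) := by
  classical
  refine ⟨S.sup fun P => (WithZero.log (P.1 f)).toNat, ?_⟩
  rw [mem_L_DS]
  refine ⟨fun P hP => ?_, fun P hP => hf P (by simpa using hP)⟩
  by_cases h0 : P.1 f = 0
  · rw [h0]; exact zero_le
  · rw [← WithZero.exp_log h0, WithZero.exp_le_exp]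
    have h1 : (WithZero.log (P.1 f)).toNat ≤ S.sup fun P => (WithZero.log (P.1 f)).toNat :=
      Finset.le_sup (f := fun P : Place k K => (WithZero.log (P.1 f)).toNat) hP
    have h2 : WithZero.log (P.1 f) ≤ ((WithZero.log (P.1 f)).toNat : ℤ) := Int.self_le_toNat _
    exact h2.trans (by exact_mod_cast h1)

/-- a sum `a + b` with `a` regular off `S`, `b` regular off `T` (`S`, `T` disjoint), lying in
`L(m(D_S + D_T))`, has `a ∈ L(m D_S)` and `b ∈ L(m D_T)` -/
theorem mem_L_of_add_mem {S T : Finset (Place k K)} (h : Disjoint S T) {m : ℕ} {a b : K}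
    (ha : a ∈ RS (S : Set (Place k K))) (hb : b ∈ RS (T : Set (Place k K)))
    (hab : a + b ∈ L (DS S m + DS T m)) : a ∈ L (DS S m) ∧ b ∈ L (DS T m) := by
  classical
  rw [← DS_union h, mem_L_DS] at hab
  have h1 : (1 : WithZero (Multiplicative ℤ)) ≤ WithZero.exp (m : ℤ) := by
    rw [← WithZero.exp_zero, WithZero.exp_le_exp]
    exact Int.natCast_nonneg m
  constructor
  · rw [mem_L_DS]
    refine ⟨fun P hP => ?_, fun P hP => ha P (by simpa using hP)⟩
    have hPT : P ∉ T := fun hT => (Finset.disjoint_left.1 h hP) hT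
    have hbP : P.1 b ≤ 1 := hb P (by simpa using hPT)
    have : a = (a + b) - b := by ring
    rw [this]
    refine (P.1.map_sub _ _).trans (max_le (hab.1 P (Finset.mem_union_left _ hP)) (hbP.trans h1))
  · rw [mem_L_DS]
    refine ⟨fun P hP => ?_, fun P hP => hb P (by simpa using hP)⟩
    have hPS : P ∉ S := fun hS => (Finset.disjoint_left.1 h hS) hP
    have haP : P.1 a ≤ 1 := ha P (by simpa using hPS)
    have : b = (a + b) - a := by ring
    rw [this]
    refine (P.1.map_sub _ _).trans (max_le (hab.1 P (Finset.mem_union_right _ hP)) (haP.trans h1))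

theorem L_DS_inf {S T : Finset (Place k K)} (h : Disjoint S T) (m : ℕ) :
    L (DS S m) ⊓ L (DS T m) = L (0 : Divisor k K) := by
  classical
  apply le_antisymm
  · rintro f ⟨hfS, hfT⟩ P
    rw [Finsupp.zero_apply, WithZero.exp_zero]
    by_cases hP : P ∈ S
    · exact (mem_L_DS.1 hfT).2 P fun hT => (Finset.disjoint_left.1 h hP) hT
    · exact (mem_L_DS.1 hfS).2 P hP
  · intro f hf
    have h0 : ∀ P : Place k K, P.1 f ≤ 1 := by
      intro P
      have := hf P
      rwa [Finsupp.zero_apply, WithZero.exp_zero] at this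
    have h1 : (1 : WithZero (Multiplicative ℤ)) ≤ WithZero.exp (m : ℤ) := by
      rw [← WithZero.exp_zero, WithZero.exp_le_exp]
      exact Int.natCast_nonneg m
    exact ⟨mem_L_DS.2 ⟨fun P _ => (h0 P).trans h1, fun P _ => h0 P⟩,
      mem_L_DS.2 ⟨fun P _ => (h0 P).trans h1, fun P _ => h0 P⟩⟩

theorem finrank_L_zero (hK : IsFunctionField k K) : Module.finrank k (L (0 : Divisor k K)) = 1 := by
  rw [Groth.Agent.S10978.result k K hK, Submodule.one_eq_span]
  exact finrank_span_singleton one_ne_zero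

/-- the dimension count: `dim L(m(D_S+D_T)) - dim (L(mD_S) + L(mD_T)) = g` for large `m` -/
theorem finrank_sub_finrank (hK : IsFunctionField k K) {S T : Finset (Place k K)}
    (h : Disjoint S T) (hS : S.Nonempty) (hT : T.Nonempty) (m : ℕ)
    (hm : 2 * genus k K ≤ m) :
    (Module.finrank k (L (DS S m + DS T m)) : ℤ) =
      Module.finrank k ((L (DS S m) ⊔ L (DS T m) : Submodule k K)) + genus k K := by
  haveI := finiteDimensional_L hK (DS S m)
  haveI := finiteDimensional_L hK (DS T m)
  have hdS := le_deg_DS hK hS m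
  have hdT := le_deg_DS hK hT m
  have hm' : (2 * genus k K : ℤ) ≤ m := by exact_mod_cast hm
  have e1 := Groth.Agent.S10993.result k K hK (DS S m) (by omega)
  have e2 := Groth.Agent.S10993.result k K hK (DS T m) (by omega)
  have e3 := Groth.Agent.S10993.result k K hK (DS S m + DS T m) (by rw [deg_add]; omega)
  rw [deg_add] at e3
  have e4 := Submodule.finrank_sup_add_finrank_inf_eq (L (DS S m)) (L (DS T m))
  rw [L_DS_inf h, finrank_L_zero hK] at e4
  unfold ell at e1 e2 e3
  have e4' : (Module.finrank k ((L (DS S m) ⊔ L (DS T m) : Submodule k K)) : ℤ) + 1 =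
      Module.finrank k (L (DS S m)) + Module.finrank k (L (DS T m)) := by exact_mod_cast e4
  omega

open Classical in
theorem L_le_RS_union (S T : Finset (Place k K)) (h : Disjoint S T) (m : ℕ) :
    L (DS S m + DS T m) ≤ RS ((S ∪ T : Finset (Place k K)) : Set (Place k K)) := by
  rw [← DS_union h]
  exact L_DS_le_RS _ _

open Classical in
theorem sup_le_RS_union (S T : Finset (Place k K)) :
    RS (S : Set (Place k K)) ⊔ RS (T : Set (Place k K)) ≤
      RS ((S ∪ T : Finset (Place k K)) : Set (Place k K)) := by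
  apply sup_le
  · exact RS_mono (by intro P hP; simp only [Finset.coe_union]; exact Or.inl hP)
  · exact RS_mono (by intro P hP; simp only [Finset.coe_union]; exact Or.inr hP)

open Classical in
/-- **The genus as the dimension of `R_{S ∪ T} / (R_S + R_T)`.** -/
theorem finrank_quotient_eq_genus (hK : IsFunctionField k K) {S T : Finset (Place k K)}
    (h : Disjoint S T) (hS : S.Nonempty) (hT : T.Nonempty) :
    Module.Finite k (↥(RS ((S ∪ T : Finset (Place k K)) : Set (Place k K))) ⧸
      (RS (S : Set (Place k K)) ⊔ RS (T : Set (Place k K))).submoduleOf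
        (RS ((S ∪ T : Finset (Place k K)) : Set (Place k K)))) ∧
    Module.finrank k (↥(RS ((S ∪ T : Finset (Place k K)) : Set (Place k K))) ⧸
      (RS (S : Set (Place k K)) ⊔ RS (T : Set (Place k K))).submoduleOf
        (RS ((S ∪ T : Finset (Place k K)) : Set (Place k K)))) = genus k K := by
  set M := RS ((S ∪ T : Finset (Place k K)) : Set (Place k K)) with hM
  set N := RS (S : Set (Place k K)) ⊔ RS (T : Set (Place k K)) with hN
  let π : ↥M →ₗ[k] (↥M ⧸ N.submoduleOf M) := (N.submoduleOf M).mkQ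
  let V : ℕ → Submodule k K := fun m => L (DS S m + DS T m)
  have hVM : ∀ m, V m ≤ M := fun m => L_le_RS_union S T h m
  let ψ : ∀ m, ↥(V m) →ₗ[k] (↥M ⧸ N.submoduleOf M) :=
    fun m => π ∘ₗ Submodule.inclusion (hVM m)
  haveI hfd : ∀ m, FiniteDimensional k (V m) := fun m => finiteDimensional_L hK _
  -- the kernel
  have hker : ∀ m, LinearMap.ker (ψ m) =
      (L (DS S m) ⊔ L (DS T m) : Submodule k K).submoduleOf (V m) := by
    intro m
    ext v
    rw [LinearMap.mem_ker]
    show π (Submodule.inclusion (hVM m) v) = 0 ↔ (v : K) ∈ (L (DS S m) ⊔ L (DS T m) : Submodule k K)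
    rw [Submodule.mkQ_apply, Submodule.Quotient.mk_eq_zero]
    show (v : K) ∈ N ↔ (v : K) ∈ _
    constructor
    · intro hv
      obtain ⟨a, ha, b, hb, hab⟩ := Submodule.mem_sup.1 hv
      have hv' : a + b ∈ L (DS S m + DS T m) := by rw [hab]; exact v.2
      obtain ⟨h1, h2⟩ := mem_L_of_add_mem h ha hb hv'
      rw [← hab]
      exact Submodule.add_mem_sup h1 h2
    · intro hv
      exact (sup_le_sup (L_DS_le_RS S m) (L_DS_le_RS T m)) hv
  have hle : ∀ m, (L (DS S m) ⊔ L (DS T m) : Submodule k K) ≤ V m := by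
    intro m
    apply sup_le
    · apply L_mono
      intro P
      rw [Finsupp.add_apply, DS_apply, DS_apply]
      split_ifs <;> simp
    · apply L_mono
      intro P
      rw [Finsupp.add_apply, DS_apply, DS_apply]
      split_ifs <;> simp
  -- the dimension of the image
  have hrange : ∀ m, 2 * genus k K ≤ m → Module.finrank k (LinearMap.range (ψ m)) = genus k K := by
    intro m hm
    have h1 := LinearMap.finrank_range_add_finrank_ker (ψ m)
    rw [hker m, (Submodule.submoduleOfEquivOfLe (hle m)).finrank_eq] at h1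
    have h2 := finrank_sub_finrank hK h hS hT m hm
    have h3 : (Module.finrank k (LinearMap.range (ψ m)) : ℤ) +
        Module.finrank k ((L (DS S m) ⊔ L (DS T m) : Submodule k K)) =
        Module.finrank k (V m) := by exact_mod_cast h1
    have : (Module.finrank k (LinearMap.range (ψ m)) : ℤ) = genus k K := by
      rw [h2] at h3; linarith
    exact_mod_cast this
  have hmono : ∀ m n, m ≤ n → LinearMap.range (ψ m) ≤ LinearMap.range (ψ n) := by
    rintro m n hmn _ ⟨v, rfl⟩
    have hv : (v : K) ∈ V n := by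
      refine L_mono ?_ v.2
      intro P
      rw [Finsupp.add_apply, Finsupp.add_apply, DS_apply, DS_apply, DS_apply, DS_apply]
      have : (m : ℤ) ≤ n := by exact_mod_cast hmn
      split_ifs <;> omega
    exact ⟨⟨v, hv⟩, rfl⟩
  set m₀ := 2 * genus k K with hm₀
  have heq : ∀ n, m₀ ≤ n → LinearMap.range (ψ n) = LinearMap.range (ψ m₀) := by
    intro n hn
    symm
    apply Submodule.eq_of_le_of_finrank_eq (hmono m₀ n hn)
    rw [hrange m₀ le_rfl, hrange n hn]
  have htop : LinearMap.range (ψ m₀) = ⊤ := by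
    rw [eq_top_iff]
    rintro q -
    obtain ⟨f, rfl⟩ := Submodule.mkQ_surjective _ q
    obtain ⟨m, hm⟩ := exists_mem_L_DS (S ∪ T) f.2
    rw [DS_union h] at hm
    rw [← heq (max m m₀) (le_max_right _ _)]
    have hv : (f : K) ∈ V (max m m₀) := by
      refine L_mono ?_ hm
      intro P
      rw [Finsupp.add_apply, Finsupp.add_apply, DS_apply, DS_apply, DS_apply, DS_apply]
      have : (m : ℤ) ≤ (max m m₀ : ℕ) := by exact_mod_cast le_max_left _ _
      split_ifs <;> omega
    exact ⟨⟨f, hv⟩, rfl⟩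
  have hsurj : Function.Surjective (ψ m₀) := LinearMap.range_eq_top.1 htop
  refine ⟨Module.Finite.of_surjective (ψ m₀) hsurj, ?_⟩
  have := hrange m₀ le_rfl
  rw [htop, finrank_top] at this
  exact this

end Groth.Agent.Helper4.SN544
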