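import Mathlib
import Groth.Agent.Helper4.SN541
import Groth.Agent.S0217

/-!
# A smooth proper curve is covered by two affine opens
-/

set_option autoImplicit false
set_option linter.style.haveILetI false
universe u
open CategoryTheory CategoryTheory.Limits AlgebraicGeometry FunFld TopologicalSpace

namespace Groth.Agent.Helper4.SN545

open Groth.Agent.Helper4.SN539 Groth.Agent.Helper4.SN540 Groth.Agent.Helper4.SN541

attribute [local instance] Curv2.stalkAlgebra Curv2.resAlgebra

variable (k : Type u) [Field k] (X : Scheme.{u}) [X.Over (Spec (CommRingCat.of k))]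

section Curve

variable [PerfectField k] [IsIntegral X] (hp : IsProper (X ↘ Spec (CommRingCat.of k)))
  (hs : Smooth (X ↘ Spec (CommRingCat.of k)))
  (hdim : topologicalKrullDim X = 1)
include hp hs hdim

/-- a closed subset not containing the generic point is finite -/
theorem finite_of_isClosed (Z : Set X) (hZ : IsClosed Z) (hη : genericPoint X ∉ Z) : Z.Finite := by
  haveI : IsNoetherian X := by
    haveI : IsLocallyNoetherian X :=
      LocallyOfFiniteType.isLocallyNoetherian (X ↘ (Spec (CommRingCat.of k)))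
    haveI : CompactSpace X :=
      QuasiCompact.compactSpace_of_compactSpace (X ↘ (Spec (CommRingCat.of k)))
    exact {}
  obtain ⟨S, hSf, hSc, hSi, hSU⟩ := NoetherianSpace.exists_finite_set_isClosed_irreducible hZ
  rw [hSU]
  apply Set.Finite.sUnion hSf
  intro t ht
  obtain ⟨z, hz⟩ := (hSi t ht).isGenericPoint_genericPoint_closure |> fun h =>
    (⟨_, h⟩ : ∃ z, IsGenericPoint z (closure t))
  rw [(hSc t ht).closure_eq] at hz
  have hzt : z ∈ t := hz.mem
  have hzne : z ≠ genericPoint X := by
    intro h
    apply hη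
    rw [hSU, ← h]
    exact ⟨t, ht, hzt⟩
  have hzcl := isClosed_of_ne_genericPoint k X hp hs hdim z hzne
  have : t = {z} := by
    rw [← hz.def, hzcl.closure_eq]
  rw [this]
  exact Set.finite_singleton z

theorem not_isAffine : ¬ IsAffine X := by
  intro h
  haveI := h
  haveI := hp
  have hfin : IsFinite (X ↘ Spec (CommRingCat.of k)) :=
    IsFinite.iff_isProper_and_isAffineHom.2 ⟨hp, inferInstance⟩
  have h1 := (X ↘ Spec (CommRingCat.of k)).finite_appTop
  have h2 : (secHom k X ⊤).Finite := by
    have h3 : secHom k X ⊤ = ((X ↘ Spec (CommRingCat.of k)).appTop).hom.comp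
        (Scheme.ΓSpecIso (CommRingCat.of k)).inv.hom := by
      ext c
      simp only [secHom, Coh.toGlobal, RingHom.coe_comp, Function.comp_apply]
      have : X.presheaf.map (homOfLE (le_top : (⊤ : X.Opens) ≤ ⊤)).op = 𝟙 _ := by
        rw [← X.presheaf.map_id]; rfl
      rw [this]
      rfl
    rw [h3]
    exact h1.comp (RingHom.Finite.of_surjective _
      (ConcreteCategory.bijective_of_isIso (Scheme.ΓSpecIso (CommRingCat.of k)).inv).2)
  letI : Algebra k Γ(X, ⊤) := secAlgebra k X ⊤
  haveI : Module.Finite k Γ(X, ⊤) := h2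
  haveI : IsArtinianRing Γ(X, ⊤) := IsArtinianRing.of_finite k Γ(X, ⊤)
  haveI : DiscreteTopology (Spec Γ(X, ⊤)) :=
    inferInstanceAs (DiscreteTopology (PrimeSpectrum Γ(X, ⊤)))
  haveI : DiscreteTopology X := X.isoSpec.hom.homeomorph.symm.discreteTopology
  exact ne_genericPoint_of_isClosed k X hp hs hdim (genericPoint X) (isClosed_discrete _) rfl

theorem isSeparated : X.IsSeparated := by
  haveI := hp
  constructor
  have : terminal.from X = (X ↘ (Spec (CommRingCat.of k))) ≫ terminal.from _ :=
    (terminal.comp_from _).symm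
  rw [this]; infer_instance

theorem genericPoint_mem_of_nonempty (V : X.Opens) (x : X) (hx : x ∈ V) : genericPoint X ∈ V :=
  (genericPoint_specializes x).mem_open V.isOpen hx

/-- a cover by two affine opens, neither of which is everything -/
theorem exists_affine_cover : ∃ U V : X.Opens, IsAffineOpen U ∧ IsAffineOpen V ∧
    IsAffineOpen (U ⊓ V) ∧ U ⊔ V = ⊤ ∧ U ≠ ⊤ ∧ V ≠ ⊤ ∧ genericPoint X ∈ U ∧ genericPoint X ∈ V := by
  haveI := isSeparated k X hp hs hdim
  haveI : IsNoetherian X := by
    haveI := hp
    haveI : IsLocallyNoetherian X :=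
      LocallyOfFiniteType.isLocallyNoetherian (X ↘ (Spec (CommRingCat.of k)))
    haveI : CompactSpace X :=
      QuasiCompact.compactSpace_of_compactSpace (X ↘ (Spec (CommRingCat.of k)))
    exact {}
  have hnotaff : ∀ W : X.Opens, IsAffineOpen W → W ≠ ⊤ := by
    rintro W hW rfl
    apply not_isAffine k X hp hs hdim
    haveI : IsAffine ((⊤ : X.Opens) : Scheme.{u}) := hW
    exact IsAffine.of_isIso X.topIso.inv
  obtain ⟨U, hU, hηU, -⟩ :=
    exists_isAffineOpen_mem_and_subset (X := X) (x := genericPoint X) (U := ⊤) trivial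
  have hZfin := finite_of_isClosed k X hp hs hdim ((U : Set X)ᶜ) U.isOpen.isClosed_compl
    (fun h => h hηU)
  obtain ⟨V, hV, hSV⟩ := Groth.Agent.S0217.result X
    (fun W _ => NoetherianSpace.finite_irreducibleComponents) hZfin.toFinset (by
      intro x hx
      rw [Set.Finite.mem_toFinset] at hx
      have hxη : x ≠ genericPoint X := by
        rintro rfl
        exact hx hηU
      have hxcl := isClosed_of_ne_genericPoint k X hp hs hdim x hxη
      haveI := isDVR_stalk k X hp hs hdim x hxcl
      exact ⟨inferInstance, (dim_stalk k X hp hs hdim x hxcl).le⟩)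
  have hUne := hnotaff U hU
  have hVne := hnotaff V hV
  obtain ⟨x₀, hx₀⟩ : ∃ x : X, x ∉ U := by
    by_contra hcon
    push Not at hcon
    exact hUne (eq_top_iff.2 fun x _ => hcon x)
  have hx₀V : x₀ ∈ V := hSV x₀ (by rw [Set.Finite.mem_toFinset]; exact hx₀)
  refine ⟨U, V, hU, hV, hU.inf hV, ?_, hUne, hVne, hηU,
    genericPoint_mem_of_nonempty k X hp hs hdim V x₀ hx₀V⟩
  rw [eq_top_iff]
  intro x _
  by_cases hx : x ∈ U
  · exact Or.inl hx
  · exact Or.inr (hSV x (by rw [Set.Finite.mem_toFinset]; exact hx))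

end Curve

end Groth.Agent.Helper4.SN545
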