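import Mathlib
import Groth.Agent.Helper4.SN545
import Groth.Agent.Helper4.SN544

/-!
# Sections of the structure sheaf over affine opens of an integral scheme, inside the function field
-/

set_option autoImplicit false
set_option linter.style.haveILetI false
universe u
open CategoryTheory CategoryTheory.Limits AlgebraicGeometry FunFld TopologicalSpace

namespace Groth.Agent.Helper4.SN546

open Groth.Agent.Helper4.SN539 Groth.Agent.Helper4.SN540 Groth.Agent.Helper4.SN541
  Groth.Agent.Helper4.SN545

variable (X : Scheme.{u}) [IsIntegral X]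

/-- an element of the function field lying in all local rings at points of an affine open is a
section over that open -/
theorem exists_germ_eq_of_forall_mem (W : X.Opens) (hW : IsAffineOpen W)
    (hη : genericPoint X ∈ W) (f : X.functionField)
    (h : ∀ x : X, x ∈ W → f ∈ Set.range (algebraMap (X.presheaf.stalk x) X.functionField)) :
    ∃ a : Γ(X, W), X.presheaf.germ W (genericPoint X) hη a = f := by
  haveI : Nonempty W := ⟨⟨_, hη⟩⟩
  let j : Γ(X, W) →+* X.functionField := algebraMap Γ(X, W) X.functionField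
  have hj : ∀ a, j a = X.presheaf.germ W (genericPoint X) hη a := fun a => rfl
  let I : Ideal Γ(X, W) :=
    { carrier := {s | ∃ a : Γ(X, W), f * j s = j a}
      add_mem' := by
        rintro s t ⟨a, ha⟩ ⟨b, hb⟩
        exact ⟨a + b, by rw [map_add, mul_add, ha, hb, map_add]⟩
      zero_mem' := ⟨0, by rw [map_zero, mul_zero]⟩
      smul_mem' := by
        rintro c s ⟨a, ha⟩
        refine ⟨c * a, ?_⟩
        rw [smul_eq_mul, map_mul, map_mul, ← ha]; ring }
  have hI : I = ⊤ := by
    by_contra hne
    obtain ⟨m, hm, hIm⟩ := Ideal.exists_le_maximal I hne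
    let pm : PrimeSpectrum Γ(X, W) := ⟨m, hm.isPrime⟩
    set x : X := hW.fromSpec pm with hx
    have hxW : x ∈ W := by
      have : x ∈ Set.range hW.fromSpec := ⟨pm, rfl⟩
      rw [hW.range_fromSpec] at this
      exact this
    have hprime : hW.primeIdealOf ⟨x, hxW⟩ = pm := by
      apply hW.fromSpec.isOpenEmbedding.injective
      rw [hW.fromSpec_primeIdealOf]
    obtain ⟨g, hg⟩ := h x hxW
    have key : ∃ a s' : Γ(X, W), s' ∉ (hW.primeIdealOf ⟨x, hxW⟩).asIdeal ∧ f * j s' = j a := by
      letI : Algebra Γ(X, W) (X.presheaf.stalk x) :=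
        TopCat.Presheaf.algebra_section_stalk X.presheaf ⟨x, hxW⟩
      haveI : IsLocalization.AtPrime (X.presheaf.stalk x) (hW.primeIdealOf ⟨x, hxW⟩).asIdeal :=
        hW.isLocalization_stalk ⟨x, hxW⟩
      haveI : IsScalarTower Γ(X, W) (X.presheaf.stalk x) X.functionField :=
        functionField_isScalarTower X W ⟨x, hxW⟩
      obtain ⟨a, s, has⟩ := IsLocalization.exists_mk'_eq
        (hW.primeIdealOf ⟨x, hxW⟩).asIdeal.primeCompl g
      have h1 := IsLocalization.mk'_spec (X.presheaf.stalk x) a s
      rw [has] at h1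
      have h2 := congrArg (algebraMap (X.presheaf.stalk x) X.functionField) h1
      rw [map_mul, hg, ← IsScalarTower.algebraMap_apply, ← IsScalarTower.algebraMap_apply] at h2
      exact ⟨a, s.1, s.2, h2⟩
    obtain ⟨a, s', hs', h2⟩ := key
    have hsI : s' ∈ I := ⟨a, h2⟩
    have hsm : s' ∈ m := hIm hsI
    rw [hprime] at hs'
    exact hs' hsm
  have h1 : (1 : Γ(X, W)) ∈ I := by rw [hI]; trivial
  obtain ⟨a, ha⟩ := h1
  rw [map_one, mul_one] at ha
  exact ⟨a, ha.symm⟩

section Curve

open Groth.Agent.Helper4.SN544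

attribute [local instance] Curv2.stalkAlgebra Curv2.resAlgebra

variable (k : Type u) [Field k] [X.Over (Spec (CommRingCat.of k))]
variable [PerfectField k] (hp : IsProper (X ↘ Spec (CommRingCat.of k)))
  (hs : Smooth (X ↘ Spec (CommRingCat.of k)))
  (hgi : GeometricallyIrreducible (X ↘ Spec (CommRingCat.of k)))
  (hdim : topologicalKrullDim X = 1)

/-- the places whose centre is not in `W` -/
def badPlaces (W : X.Opens) : Set (Place k X.functionField) :=
  {P | ((placeEquiv k X hp hs hgi hdim).symm P).1 ∉ W}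

theorem placeOf_mem_badPlaces_iff (W : X.Opens) (x : {x : X // IsClosed ({x} : Set X)}) :
    placeOf k X hp hs hgi hdim x ∈ badPlaces X k hp hs hgi hdim W ↔ x.1 ∉ W := by
  show ((placeEquiv k X hp hs hgi hdim).symm (placeEquiv k X hp hs hgi hdim x)).1 ∉ W ↔ _
  rw [Equiv.symm_apply_apply]

theorem finite_badPlaces (W : X.Opens) (hη : genericPoint X ∈ W) :
    (badPlaces X k hp hs hgi hdim W).Finite := by
  have h1 := finite_of_isClosed k X hp hs hdim ((W : Set X)ᶜ) W.isOpen.isClosed_compl
    (fun h => h hη)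
  have h2 : (badPlaces X k hp hs hgi hdim W) ⊆
      (fun x : {x : X // IsClosed ({x} : Set X)} => placeOf k X hp hs hgi hdim x) ''
        ((fun x : {x : X // IsClosed ({x} : Set X)} => x.1) ⁻¹' ((W : Set X)ᶜ)) := by
    intro P hP
    obtain ⟨x, rfl⟩ := placeOf_surjective k X hp hs hgi hdim P
    exact ⟨x, (placeOf_mem_badPlaces_iff X k hp hs hgi hdim W x).1 hP, rfl⟩
  exact ((h1.preimage (Subtype.val_injective.injOn)).image _).subset h2

theorem badPlaces_inf (U V : X.Opens) :
    badPlaces X k hp hs hgi hdim (U ⊓ V) =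
      badPlaces X k hp hs hgi hdim U ∪ badPlaces X k hp hs hgi hdim V := by
  ext P
  simp only [badPlaces, Set.mem_setOf_eq, Set.mem_union]
  rw [← not_and_or]
  rfl

theorem disjoint_badPlaces (U V : X.Opens) (hUV : U ⊔ V = ⊤) :
    Disjoint (badPlaces X k hp hs hgi hdim U) (badPlaces X k hp hs hgi hdim V) := by
  rw [Set.disjoint_left]
  intro P hPU hPV
  have : ((placeEquiv k X hp hs hgi hdim).symm P).1 ∈ U ⊔ V := by rw [hUV]; trivial
  rcases this with h | h
  · exact hPU h
  · exact hPV h

theorem nonempty_badPlaces (W : X.Opens) (hη : genericPoint X ∈ W) (hW : W ≠ ⊤) :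
    (badPlaces X k hp hs hgi hdim W).Nonempty := by
  obtain ⟨x₀, hx₀⟩ : ∃ x : X, x ∉ W := by
    by_contra hcon
    push Not at hcon
    exact hW (eq_top_iff.2 fun x _ => hcon x)
  have hne : x₀ ≠ genericPoint X := by
    rintro rfl
    exact hx₀ hη
  have hcl := isClosed_of_ne_genericPoint k X hp hs hdim x₀ hne
  exact ⟨placeOf k X hp hs hgi hdim ⟨x₀, hcl⟩,
    (placeOf_mem_badPlaces_iff X k hp hs hgi hdim W ⟨x₀, hcl⟩).2 hx₀⟩

/-- sections over an affine open are the functions regular at all places centred in it -/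
theorem exists_germ_eq_iff_mem_RS (W : X.Opens) (hW : IsAffineOpen W)
    (hη : genericPoint X ∈ W) (f : X.functionField) :
    (∃ a : Γ(X, W), X.presheaf.germ W (genericPoint X) hη a = f) ↔
      f ∈ RS (badPlaces X k hp hs hgi hdim W) := by
  constructor
  · rintro ⟨a, rfl⟩ P hP
    obtain ⟨x, rfl⟩ := placeOf_surjective k X hp hs hgi hdim P
    rw [placeOf_mem_badPlaces_iff, not_not] at hP
    rw [placeOf_spec]
    haveI : Nonempty W := ⟨⟨_, hη⟩⟩
    exact ⟨X.presheaf.germ W x.1 hP a, Scheme.algebraMap_germ_eq_germToFunctionField X hP a⟩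
  · intro hf
    apply exists_germ_eq_of_forall_mem X W hW hη f
    intro x hx
    by_cases hxη : x = genericPoint X
    · subst hxη
      refine ⟨f, ?_⟩
      change (X.presheaf.stalkSpecializes _).hom f = f
      rw [TopCat.Presheaf.stalkSpecializes_refl]
      rfl
    · have hcl := isClosed_of_ne_genericPoint k X hp hs hdim x hxη
      rw [← placeOf_spec k X hp hs hgi hdim ⟨x, hcl⟩]
      apply hf
      rw [placeOf_mem_badPlaces_iff, not_not]
      exact hx

end Curve

end Groth.Agent.Helper4.SN546
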