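import Mathlib
import Groth.Agent.Helper1.MVTop1
import Groth.Agent.Helper1.SerreF
import Groth.Agent.Lead.PerfLib5
import Groth.Agent.Helper4.FinLocFree6

/-!
# `H¹` of a sheaf on a space covered by two opens with vanishing `H¹`
-/

set_option autoImplicit false
universe u
open CategoryTheory Limits Opposite TopologicalSpace AlgebraicGeometry

namespace Groth.Agent.Helper4.SN547

open Groth.Agent.Helper1.MVTop

section Top

variable {T : TopCat.{u}} (F : CohTop.Ab T) (P Q : Opens T)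

/-- the connecting map on sections -/
noncomputable def δsec : F.obj.obj (op (P ⊓ Q)) →+ CohTop.HU F 1 (P ⊔ Q) :=
  (mvδ F P Q 0).comp (sec0 F (P ⊓ Q)).symm.toAddMonoidHom

theorem δsec_surjective (hP : Subsingleton (CohTop.HU F 1 P))
    (hQ : Subsingleton (CohTop.HU F 1 Q)) : Function.Surjective (δsec F P Q) := by
  intro z
  obtain ⟨x, hx⟩ := exists_mvδ_eq F P Q 0 z (Subsingleton.elim _ _) (Subsingleton.elim _ _)
  refine ⟨sec0 F (P ⊓ Q) x, ?_⟩
  show mvδ F P Q 0 ((sec0 F (P ⊓ Q)).symm (sec0 F (P ⊓ Q) x)) = z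
  rw [AddEquiv.symm_apply_apply, hx]

theorem δsec_eq_zero_iff (s : F.obj.obj (op (P ⊓ Q))) :
    δsec F P Q s = 0 ↔ ∃ (a : F.obj.obj (op P)) (b : F.obj.obj (op Q)),
      s = F.obj.map (homOfLE (inf_le_left : P ⊓ Q ≤ P)).op a -
        F.obj.map (homOfLE (inf_le_right : P ⊓ Q ≤ Q)).op b := by
  constructor
  · intro h
    obtain ⟨a, b, hab⟩ := exists_of_mvδ_eq_zero F P Q 0 _ h
    refine ⟨sec0 F P a, sec0 F Q b, ?_⟩
    rw [← sec0_res, ← sec0_res, ← map_sub, ← hab]
    exact ((sec0 F (P ⊓ Q)).apply_symm_apply s).symm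
  · rintro ⟨a, b, rfl⟩
    show mvδ F P Q 0 ((sec0 F (P ⊓ Q)).symm _) = 0
    have h1 : (sec0 F (P ⊓ Q)).symm (F.obj.map (homOfLE (inf_le_left : P ⊓ Q ≤ P)).op a -
        F.obj.map (homOfLE (inf_le_right : P ⊓ Q ≤ Q)).op b) =
        CohTop.res F 0 inf_le_left ((sec0 F P).symm a) -
          CohTop.res F 0 inf_le_right ((sec0 F Q).symm b) := by
      apply (sec0 F (P ⊓ Q)).injective
      rw [AddEquiv.apply_symm_apply, map_sub, sec0_res, sec0_res, AddEquiv.apply_symm_apply,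
        AddEquiv.apply_symm_apply]
    rw [h1]
    exact mvδ_res_sub F P Q 0 _ _

/-- the cardinality of `H¹(P ∪ Q, F)` when `H¹(P, F) = H¹(Q, F) = 0` -/
theorem card_HU_one (hP : Subsingleton (CohTop.HU F 1 P)) (hQ : Subsingleton (CohTop.HU F 1 Q))
    {G : Type*} [AddCommGroup G] (Θ : F.obj.obj (op (P ⊓ Q)) →+ G) (hΘ : Function.Surjective Θ)
    (hker : ∀ s, Θ s = 0 ↔ ∃ (a : F.obj.obj (op P)) (b : F.obj.obj (op Q)),
      s = F.obj.map (homOfLE (inf_le_left : P ⊓ Q ≤ P)).op a -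
        F.obj.map (homOfLE (inf_le_right : P ⊓ Q ≤ Q)).op b) :
    Nat.card (CohTop.HU F 1 (P ⊔ Q)) = Nat.card G := by
  have hk : (δsec F P Q).ker = Θ.ker := by
    ext s
    rw [AddMonoidHom.mem_ker, AddMonoidHom.mem_ker, δsec_eq_zero_iff, hker]
  have e1 := QuotientAddGroup.quotientKerEquivOfSurjective (δsec F P Q)
    (δsec_surjective F P Q hP hQ)
  have e2 := QuotientAddGroup.quotientKerEquivOfSurjective Θ hΘ
  rw [← Nat.card_congr e1.toEquiv, ← Nat.card_congr e2.toEquiv, hk]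

end Top

section Scheme

variable (X : Scheme.{u})

/-- the cardinality of `H¹(X, O_X)` for a scheme covered by two affine opens -/
theorem card_HH_one (U V : X.Opens) (hU : IsAffineOpen U) (hV : IsAffineOpen V)
    (hUV : U ⊔ V = ⊤) {G : Type*} [AddCommGroup G] (Θ : Γ(X, U ⊓ V) →+ G)
    (hΘ : Function.Surjective Θ)
    (hker : ∀ s, Θ s = 0 ↔ ∃ (a : Γ(X, U)) (b : Γ(X, V)),
      s = X.presheaf.map (homOfLE (inf_le_left : U ⊓ V ≤ U)).op a -
        X.presheaf.map (homOfLE (inf_le_right : U ⊓ V ≤ V)).op b) :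
    Nat.card (Coh.HH X (Coh.structureModule X) 1) = Nat.card G := by
  haveI : Coh.IsQCoh (Coh.structureModule X) :=
    (Groth.Agent.Lead.PerfLib.isCoh_of_isFinLocFree
      Groth.Agent.Helper4.FinLocFree6.isFinLocFree_unit).1
  have hP := Groth.Agent.Helper1.Serre.subsingleton_HU_of_isAffineOpen
    (Coh.structureModule X) hU 0
  have hQ := Groth.Agent.Helper1.Serre.subsingleton_HU_of_isAffineOpen
    (Coh.structureModule X) hV 0
  have h1 := card_HU_one (Coh.toAb (Coh.structureModule X)) U V hP hQ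
    (G := G) Θ hΘ hker
  rw [← h1, hUV]
  obtain ⟨e⟩ := Groth.Agent.Helper1.Serre.nonempty_iso_HU_top 1 (Coh.toAb (Coh.structureModule X))
  exact (Nat.card_congr e.addCommGroupIsoToAddEquiv.toEquiv).symm

end Scheme

end Groth.Agent.Helper4.SN547
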