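import Mathlib
import Groth.Agent.Helper4.SN546
import Groth.Agent.Helper4.SN547

/-!
# The genus of a smooth proper curve over a finite field equals the genus of its function field
-/

set_option autoImplicit false
set_option linter.style.haveILetI false
universe u
open CategoryTheory CategoryTheory.Limits AlgebraicGeometry FunFld TopologicalSpace

namespace Groth.Agent.Helper4.SN548

open Groth.Agent.Helper4.SN539 Groth.Agent.Helper4.SN540 Groth.Agent.Helper4.SN541
  Groth.Agent.Helper4.SN545 Groth.Agent.Helper4.SN546 Groth.Agent.Helper4.SN544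
  Groth.Agent.Helper4.SN547

attribute [local instance] Curv2.stalkAlgebra Curv2.resAlgebra

variable (k : Type u) [Field k] (X : Scheme.{u}) [X.Over (Spec (CommRingCat.of k))]
variable [Finite k] [IsIntegral X] (hp : IsProper (X ↘ Spec (CommRingCat.of k)))
  (hs : Smooth (X ↘ Spec (CommRingCat.of k)))
  (hgi : GeometricallyIrreducible (X ↘ Spec (CommRingCat.of k)))
  (hdim : topologicalKrullDim X = 1)
include hp hs hgi hdim

open Classical in
theorem card_HH_one_eq :
    Nat.card (Coh.HH X (Coh.structureModule X) 1) =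
      Nat.card k ^ genus k X.functionField := by
  have hK := isFunctionField k X hp hs hgi hdim
  obtain ⟨U, V, hU, hV, hUVaff, hcov, hUne, hVne, hηU, hηV⟩ :=
    exists_affine_cover k X hp hs hdim
  have hηUV : genericPoint X ∈ U ⊓ V := ⟨hηU, hηV⟩
  set BU := badPlaces X k hp hs hgi hdim U with hBU
  set BV := badPlaces X k hp hs hgi hdim V with hBV
  have hfU := finite_badPlaces X k hp hs hgi hdim U hηU
  have hfV := finite_badPlaces X k hp hs hgi hdim V hηV
  set S := hfU.toFinset with hS
  set T := hfV.toFinset with hT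
  have hSc : (S : Set (Place k X.functionField)) = BU := hfU.coe_toFinset
  have hTc : (T : Set (Place k X.functionField)) = BV := hfV.coe_toFinset
  have hSTc : ((S ∪ T : Finset (Place k X.functionField)) : Set (Place k X.functionField)) =
      badPlaces X k hp hs hgi hdim (U ⊓ V) := by
    rw [Finset.coe_union, hSc, hTc, badPlaces_inf]
  have hdisj : Disjoint S T := by
    rw [← Finset.disjoint_coe, hSc, hTc]
    exact disjoint_badPlaces X k hp hs hgi hdim U V hcov
  have hSne : S.Nonempty := by
    rw [← Finset.coe_nonempty, hSc]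
    exact nonempty_badPlaces X k hp hs hgi hdim U hηU hUne
  have hTne : T.Nonempty := by
    rw [← Finset.coe_nonempty, hTc]
    exact nonempty_badPlaces X k hp hs hgi hdim V hηV hVne
  obtain ⟨hfin, hrank⟩ := finrank_quotient_eq_genus hK hdisj hSne hTne
  set M := RS ((S ∪ T : Finset (Place k X.functionField)) : Set (Place k X.functionField))
    with hM
  set N := RS (S : Set (Place k X.functionField)) ⊔ RS (T : Set (Place k X.functionField))
    with hN
  -- the map from sections to `M`
  have hjmem : ∀ s : Γ(X, U ⊓ V), X.presheaf.germ (U ⊓ V) (genericPoint X) hηUV s ∈ M := by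
    intro s
    rw [hM, hSTc]
    exact (exists_germ_eq_iff_mem_RS X k hp hs hgi hdim (U ⊓ V) hUVaff hηUV _).1 ⟨s, rfl⟩
  let j : Γ(X, U ⊓ V) →+ ↥M :=
    { toFun := fun s => ⟨X.presheaf.germ (U ⊓ V) (genericPoint X) hηUV s, hjmem s⟩
      map_zero' := Subtype.ext (map_zero _)
      map_add' := fun a b => Subtype.ext (map_add _ a b) }
  let Θ : Γ(X, U ⊓ V) →+ (↥M ⧸ N.submoduleOf M) :=
    ((N.submoduleOf M).mkQ.toAddMonoidHom).comp j
  have hΘ : Function.Surjective Θ := by
    intro q
    obtain ⟨f, rfl⟩ := Submodule.mkQ_surjective _ q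
    have hf : (f : X.functionField) ∈ RS (badPlaces X k hp hs hgi hdim (U ⊓ V)) := by
      rw [← hSTc]; exact f.2
    obtain ⟨s, hs'⟩ := (exists_germ_eq_iff_mem_RS X k hp hs hgi hdim (U ⊓ V) hUVaff hηUV _).2 hf
    exact ⟨s, congrArg (N.submoduleOf M).mkQ (Subtype.ext hs')⟩
  have hgermU : ∀ a : Γ(X, U), X.presheaf.germ (U ⊓ V) (genericPoint X) hηUV
      (X.presheaf.map (homOfLE (inf_le_left : U ⊓ V ≤ U)).op a) =
      X.presheaf.germ U (genericPoint X) hηU a := fun a =>
    X.presheaf.germ_res_apply (homOfLE (inf_le_left : U ⊓ V ≤ U)) (genericPoint X) hηUV a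
  have hgermV : ∀ b : Γ(X, V), X.presheaf.germ (U ⊓ V) (genericPoint X) hηUV
      (X.presheaf.map (homOfLE (inf_le_right : U ⊓ V ≤ V)).op b) =
      X.presheaf.germ V (genericPoint X) hηV b := fun b =>
    X.presheaf.germ_res_apply (homOfLE (inf_le_right : U ⊓ V ≤ V)) (genericPoint X) hηUV b
  have hker : ∀ s, Θ s = 0 ↔ ∃ (a : Γ(X, U)) (b : Γ(X, V)),
      s = X.presheaf.map (homOfLE (inf_le_left : U ⊓ V ≤ U)).op a -
        X.presheaf.map (homOfLE (inf_le_right : U ⊓ V ≤ V)).op b := by
    intro s
    have h1 : Θ s = 0 ↔ X.presheaf.germ (U ⊓ V) (genericPoint X) hηUV s ∈ N := by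
      show (N.submoduleOf M).mkQ (j s) = 0 ↔ _
      rw [Submodule.mkQ_apply, Submodule.Quotient.mk_eq_zero]
      rfl
    rw [h1]
    constructor
    · intro hmem
      obtain ⟨a', ha', b', hb', hab⟩ := Submodule.mem_sup.1 hmem
      rw [hSc] at ha'
      rw [hTc] at hb'
      obtain ⟨a, ha⟩ := (exists_germ_eq_iff_mem_RS X k hp hs hgi hdim U hU hηU _).2 ha'
      obtain ⟨b, hb⟩ := (exists_germ_eq_iff_mem_RS X k hp hs hgi hdim V hV hηV _).2 hb'
      refine ⟨a, -b, ?_⟩
      apply germ_injective_of_isIntegral X (genericPoint X) hηUV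
      rw [map_sub, hgermU, hgermV, map_neg, ha, hb, sub_neg_eq_add, hab]
    · rintro ⟨a, b, rfl⟩
      rw [map_sub, hgermU, hgermV]
      apply Submodule.sub_mem
      · apply Submodule.mem_sup_left
        rw [hSc]
        exact (exists_germ_eq_iff_mem_RS X k hp hs hgi hdim U hU hηU _).1 ⟨a, rfl⟩
      · apply Submodule.mem_sup_right
        rw [hTc]
        exact (exists_germ_eq_iff_mem_RS X k hp hs hgi hdim V hV hηV _).1 ⟨b, rfl⟩
  rw [card_HH_one X U V hU hV hcov Θ hΘ hker]
  haveI := hfin
  rw [Module.natCard_eq_pow_finrank (K := k), hrank]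

/-- **the genus of the curve is the genus of its function field** -/
theorem genus_eq (g : ℕ)
    (hg : Nat.card (Coh.HH X (Coh.structureModule X) 1) = Nat.card k ^ g) :
    g = genus k X.functionField := by
  rw [card_HH_one_eq k X hp hs hgi hdim] at hg
  exact (Nat.pow_right_injective (Finite.one_lt_card (α := k)) hg).symm

end Groth.Agent.Helper4.SN548
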