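import Mathlib
import Groth.Agent.Helper4.SN548
import Groth.Agent.Helper4.SN242
import Groth.Agent.Helper4.SN200

/-!
# Rational sections of an invertible module on an integral scheme: specialisation to the generic point
-/

set_option autoImplicit false
set_option linter.style.haveILetI false
set_option linter.unusedSectionVars false
universe u
open CategoryTheory CategoryTheory.Limits AlgebraicGeometry TopologicalSpace Opposite

namespace Groth.Agent.Helper4.SN549

open Groth.Agent.Helper4.StalkDict Groth.Agent.Helper4.TwistExt Groth.Agent.Helper4.SN200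

variable {X : Scheme.{u}} [IsIntegral X]

/-- the generic point lies in every nonempty open -/
theorem gen_mem (U : X.Opens) {x : X} (hx : x ∈ U) : genericPoint X ∈ U :=
  ((genericPoint_spec X).mem_open_set_iff U.2).2 ⟨x, trivial, hx⟩

/-- specialisation of stalks of a module to the generic point -/
noncomputable def sp (L : X.Modules) (x : X) :
    L.presheaf.stalk x →+ L.presheaf.stalk (genericPoint X) :=
  (L.presheaf.stalkSpecializes ((genericPoint_spec X).specializes trivial)).hom

theorem sp_germ (L : X.Modules) (x : X) (U : X.Opens) (hx : x ∈ U) (s : Γ(L, U)) :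
    sp L x (L.presheaf.germ U x hx s) = L.presheaf.germ U (genericPoint X) (gen_mem U hx) s := by
  have h := TopCat.Presheaf.germ_stalkSpecializes L.presheaf hx
    ((genericPoint_spec X).specializes (trivial : x ∈ Set.univ))
  have h2 := congrArg (fun f => f.hom s) h
  exact h2

theorem algebraMap_germ (x : X) (U : X.Opens) (hx : x ∈ U) (r : Γ(X, U)) :
    algebraMap (X.presheaf.stalk x) X.functionField (X.presheaf.germ U x hx r) =
      X.presheaf.germ U (genericPoint X) (gen_mem U hx) r := by
  haveI : Nonempty U := ⟨⟨x, hx⟩⟩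
  rw [Scheme.algebraMap_germ_eq_germToFunctionField]

theorem sp_smul (L : X.Modules) (x : X) (a : X.presheaf.stalk x) (m : L.presheaf.stalk x) :
    sp L x (a • m) = (algebraMap (X.presheaf.stalk x) X.functionField a) • sp L x m := by
  obtain ⟨W, hx, r₀, m₀, rfl, rfl⟩ := exists_common L x a m
  rw [← germ_smul, sp_germ, sp_germ, germ_smul, algebraMap_germ]

theorem sp_stalkLin {L M : X.Modules} (φ : L ⟶ M) (x : X) (m : L.presheaf.stalk x) :
    sp M x (stalkLin φ x m) = stalkLin φ (genericPoint X) (sp L x m) := by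
  obtain ⟨W, hx, m₀, rfl⟩ := TopCat.Presheaf.exists_germ_eq L.presheaf m
  rw [sp_germ, stalkLin_apply, stalkLin_apply]
  erw [TopCat.Presheaf.stalkFunctor_map_germ_apply, TopCat.Presheaf.stalkFunctor_map_germ_apply]
  exact sp_germ M x W hx _


section Frame

variable {L : X.Modules} {T : X.Opens} {e : Γ(L, T)} (he : IsFrame L T e)
include he

/-- every element of the stalk at a point of a frame is a multiple of the germ of the frame -/
theorem exists_smul_germ (x : X) (hx : x ∈ T) (m : L.presheaf.stalk x) :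
    ∃ a : X.presheaf.stalk x, m = a • L.presheaf.germ T x hx e := by
  obtain ⟨W, hxW, s, rfl⟩ := TopCat.Presheaf.exists_germ_eq L.presheaf m
  have hle : W ⊓ T ≤ T := inf_le_right
  have hle' : W ⊓ T ≤ W := inf_le_left
  set s' := L.presheaf.map (homOfLE hle').op s with hs'
  have h1 := coord_spec he hle s'
  refine ⟨X.presheaf.germ (W ⊓ T) x ⟨hxW, hx⟩ (coord he hle s'), ?_⟩
  have h2 : L.presheaf.germ W x hxW s = L.presheaf.germ (W ⊓ T) x ⟨hxW, hx⟩ s' :=
    (TopCat.Presheaf.germ_res_apply L.presheaf (homOfLE hle') x ⟨hxW, hx⟩ s).symm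
  have h3 : L.presheaf.germ T x hx e =
      L.presheaf.germ (W ⊓ T) x ⟨hxW, hx⟩ (L.presheaf.map (homOfLE hle).op e) :=
    (TopCat.Presheaf.germ_res_apply L.presheaf (homOfLE hle) x ⟨hxW, hx⟩ e).symm
  rw [h2, h3, ← germ_smul, ← h1]

/-- the germ of a frame is torsion free -/
theorem smul_germ_eq_zero (x : X) (hx : x ∈ T) (a : X.presheaf.stalk x)
    (h : a • L.presheaf.germ T x hx e = 0) : a = 0 := by
  obtain ⟨W, hxW, r, rfl⟩ := TopCat.Presheaf.exists_germ_eq X.presheaf a
  have hle : W ⊓ T ≤ T := inf_le_right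
  have hle' : W ⊓ T ≤ W := inf_le_left
  have h3 : L.presheaf.germ T x hx e =
      L.presheaf.germ (W ⊓ T) x ⟨hxW, hx⟩ (L.presheaf.map (homOfLE hle).op e) :=
    (TopCat.Presheaf.germ_res_apply L.presheaf (homOfLE hle) x ⟨hxW, hx⟩ e).symm
  have h4 : X.presheaf.germ W x hxW r =
      X.presheaf.germ (W ⊓ T) x ⟨hxW, hx⟩ (X.presheaf.map (homOfLE hle').op r) :=
    (TopCat.Presheaf.germ_res_apply X.presheaf (homOfLE hle') x ⟨hxW, hx⟩ r).symm
  rw [h3, h4, ← germ_smul] at h
  set r' := X.presheaf.map (homOfLE hle').op r with hr'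
  have h0 : L.presheaf.germ (W ⊓ T) x ⟨hxW, hx⟩ (r' • L.presheaf.map (homOfLE hle).op e) =
      L.presheaf.germ (W ⊓ T) x ⟨hxW, hx⟩ 0 := by rw [h, map_zero]
  obtain ⟨V, hxV, i1, i2, hV⟩ := TopCat.Presheaf.germ_eq L.presheaf x
    (show x ∈ W ⊓ T from ⟨hxW, hx⟩) (show x ∈ W ⊓ T from ⟨hxW, hx⟩) _ _ h0
  have hVle : V ≤ W ⊓ T := i1.le
  have h5 : L.presheaf.map (homOfLE hVle).op (r' • L.presheaf.map (homOfLE hle).op e) = 0 := by
    have : L.presheaf.map i2.op (0 : Γ(L, W ⊓ T)) = 0 := map_zero _
    rw [this] at hV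
    exact hV
  rw [Groth.Agent.Helper4.QcohExt.res_smul, map_map] at h5
  have h6 := (he V (hVle.trans hle)).2 _ h5
  rw [h4, ← TopCat.Presheaf.germ_res_apply X.presheaf (homOfLE hVle) x hxV r', h6, map_zero]

/-- specialisation is injective on stalks at points of a frame -/
theorem sp_eq_zero (x : X) (hx : x ∈ T) (m : L.presheaf.stalk x) (h : sp L x m = 0) : m = 0 := by
  obtain ⟨a, rfl⟩ := exists_smul_germ he x hx m
  rw [sp_smul, sp_germ] at h
  have h1 := smul_germ_eq_zero he (genericPoint X) (gen_mem T hx) _ h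
  have h2 : a = 0 := by
    apply IsFractionRing.injective (X.presheaf.stalk x) X.functionField
    rw [h1, map_zero]
  rw [h2, zero_smul]

/-- every element of the generic stalk is a multiple of the germ of a frame -/
theorem exists_smul_gen (hη : genericPoint X ∈ T) (t : L.presheaf.stalk (genericPoint X)) :
    ∃ g : X.functionField, t = g • L.presheaf.germ T (genericPoint X) hη e :=
  exists_smul_germ he (genericPoint X) hη t

theorem smul_gen_eq_zero (hη : genericPoint X ∈ T) (g : X.functionField)
    (h : g • L.presheaf.germ T (genericPoint X) hη e = 0) : g = 0 :=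
  smul_germ_eq_zero he (genericPoint X) hη g h

/-- the image of the stalk at a point of a frame inside the generic stalk -/
theorem smul_gen_mem_range_sp_iff (x : X) (hx : x ∈ T) (g : X.functionField) :
    g • L.presheaf.germ T (genericPoint X) (gen_mem T hx) e ∈ Set.range (sp L x) ↔
      g ∈ Set.range (algebraMap (X.presheaf.stalk x) X.functionField) := by
  constructor
  · rintro ⟨m, hm⟩
    obtain ⟨a, rfl⟩ := exists_smul_germ he x hx m
    rw [sp_smul, sp_germ] at hm
    refine ⟨a, ?_⟩
    have h1 : (algebraMap (X.presheaf.stalk x) X.functionField a - g) •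
        L.presheaf.germ T (genericPoint X) (gen_mem T hx) e = 0 := by
      rw [sub_smul, hm, sub_self]
    exact sub_eq_zero.mp (smul_gen_eq_zero he (gen_mem T hx) _ h1)
  · rintro ⟨a, rfl⟩
    exact ⟨a • L.presheaf.germ T x hx e, by rw [sp_smul, sp_germ]⟩

end Frame

section Sections

variable (L : X.Modules) (hL : PicF.IsInvertible L)
include hL

theorem sp_eq_zero' (x : X) (m : L.presheaf.stalk x) (h : sp L x m = 0) : m = 0 := by
  obtain ⟨T, e, hxT, he⟩ := Groth.Agent.Helper4.SN242.exists_frame L hL x
  exact sp_eq_zero he x hxT m h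

theorem sp_injective (x : X) : Function.Injective (sp L x) := by
  intro m m' h
  have : sp L x (m - m') = 0 := by rw [map_sub, h, sub_self]
  exact sub_eq_zero.mp (sp_eq_zero' L hL x _ this)

/-- a section of an invertible module is determined by its germ at the generic point -/
theorem eq_zero_of_germ_gen (W : X.Opens) (hη : genericPoint X ∈ W) (s : Γ(L, W))
    (h : L.presheaf.germ W (genericPoint X) hη s = 0) : s = 0 := by
  apply Groth.Agent.Helper4.AssDict.section_eq_zero_of_germ
  intro x hx
  apply sp_eq_zero' L hL x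
  rw [sp_germ]
  exact h

theorem eq_of_germ_gen (W : X.Opens) (hη : genericPoint X ∈ W) (s s' : Γ(L, W))
    (h : L.presheaf.germ W (genericPoint X) hη s = L.presheaf.germ W (genericPoint X) hη s') :
    s = s' := by
  have : L.presheaf.germ W (genericPoint X) hη (s - s') = 0 := by rw [map_sub, h, sub_self]
  exact sub_eq_zero.mp (eq_zero_of_germ_gen L hL W hη _ this)

/-- **a rational section regular at every point is a global section** -/
theorem exists_section_of_forall_mem_range (t : L.presheaf.stalk (genericPoint X))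
    (h : ∀ x : X, t ∈ Set.range (sp L x)) :
    ∃ s : Γ(L, ⊤), L.presheaf.germ ⊤ (genericPoint X) trivial s = t := by
  have key : ∀ x : X, ∃ (U : X.Opens) (hx : x ∈ U) (f : Γ(L, U)),
      L.presheaf.germ U (genericPoint X) (gen_mem U hx) f = t := by
    intro x
    obtain ⟨m, hm⟩ := h x
    obtain ⟨U, hxU, f, rfl⟩ := TopCat.Presheaf.exists_germ_eq L.presheaf m
    exact ⟨U, hxU, f, by rw [← sp_germ]; exact hm⟩
  choose U hxU f hf using key
  have hsh : TopCat.Presheaf.IsSheaf L.presheaf := L.isSheaf
  let F : TopCat.Sheaf Ab X := ⟨L.presheaf, hsh⟩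
  have hcomp : TopCat.Presheaf.IsCompatible F.1 U f := by
    intro i j
    have hη : genericPoint X ∈ U i ⊓ U j := ⟨gen_mem _ (hxU i), gen_mem _ (hxU j)⟩
    apply eq_of_germ_gen L hL (U i ⊓ U j) hη
    have h1 := TopCat.Presheaf.germ_res_apply L.presheaf (Opens.infLELeft (U i) (U j))
      (genericPoint X) hη (f i)
    have h2 := TopCat.Presheaf.germ_res_apply L.presheaf (Opens.infLERight (U i) (U j))
      (genericPoint X) hη (f j)
    exact h1.trans ((hf i).trans ((hf j).symm.trans h2.symm))
  obtain ⟨s, hs, -⟩ := F.existsUnique_gluing' U ⊤ (fun i => homOfLE le_top)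
    (fun x _ => Opens.mem_iSup.2 ⟨x, hxU x⟩) f hcomp
  refine ⟨s, ?_⟩
  have h3 := TopCat.Presheaf.germ_res_apply L.presheaf (homOfLE (le_top : U (genericPoint X) ≤ ⊤))
    (genericPoint X) (hxU _) s
  rw [← h3]
  have h4 : L.presheaf.map (homOfLE (le_top : U (genericPoint X) ≤ ⊤)).op s = f (genericPoint X) :=
    hs (genericPoint X)
  rw [h4]
  exact hf _

end Sections

end Groth.Agent.Helper4.SN549
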