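import Mathlib
import Groth.Agent.Helper4.SN549
import Groth.Agent.Helper5.FFDiv
import Groth.Agent.Helper4.NApx82
import Groth.Agent.Helper4.SN187
import Groth.Agent.Helper4.SN109
import Groth.Agent.Helper4.SN242

/-!
# The divisor of a rational section of an invertible module on a curve with a dictionary of places
-/

set_option autoImplicit false
set_option linter.style.haveILetI false
set_option linter.unusedSectionVars false
universe u
open CategoryTheory CategoryTheory.Limits AlgebraicGeometry TopologicalSpace Opposite FunFld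

namespace Groth.Agent.Helper4.SN550

open Groth.Agent.Helper4.StalkDict Groth.Agent.Helper4.TwistExt Groth.Agent.Helper4.SN200
  Groth.Agent.Helper4.SN549

attribute [local instance] Curv2.stalkAlgebra Curv2.resAlgebra

/-- the dictionary between closed points of an integral proper curve and places of its function
field -/
structure PlaceData (k : Type u) [Field k] (X : Scheme.{u}) [X.Over (Spec (CommRingCat.of k))]
    [IsIntegral X] where
  hp : IsProper (X ↘ Spec (CommRingCat.of k))
  hdim : topologicalKrullDim X = 1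
  hK : IsFunctionField k X.functionField
  pl : {x : X // IsClosed ({x} : Set X)} ≃ Place k X.functionField
  spec : ∀ (x : {x : X // IsClosed ({x} : Set X)}) (y : X.functionField),
    (pl x).1 y ≤ 1 ↔ y ∈ Set.range (algebraMap (X.presheaf.stalk x.1) X.functionField)
  deg : ∀ x : {x : X // IsClosed ({x} : Set X)},
    (pl x).deg = Module.finrank k (X.residueField x.1)
  closed : ∀ x : X, x ≠ genericPoint X → IsClosed ({x} : Set X)
  normal : ∀ x : X, IsClosed ({x} : Set X) → IsIntegrallyClosed (X.presheaf.stalk x)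

variable {k : Type u} [Field k] {X : Scheme.{u}} [X.Over (Spec (CommRingCat.of k))]
  [IsIntegral X] (pd : PlaceData k X)

namespace PlaceData

theorem val_algebraMap_le (x : {x : X // IsClosed ({x} : Set X)}) (a : X.presheaf.stalk x.1) :
    (pd.pl x).1 (algebraMap (X.presheaf.stalk x.1) X.functionField a) ≤ 1 :=
  (pd.spec x _).2 ⟨a, rfl⟩

theorem val_algebraMap_unit (x : {x : X // IsClosed ({x} : Set X)}) (a : X.presheaf.stalk x.1)
    (ha : IsUnit a) :
    (pd.pl x).1 (algebraMap (X.presheaf.stalk x.1) X.functionField a) = 1 := by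
  obtain ⟨u, rfl⟩ := ha
  apply le_antisymm (pd.val_algebraMap_le x _)
  have h1 := pd.val_algebraMap_le x (↑u⁻¹ : X.presheaf.stalk x.1)
  have h2 : (pd.pl x).1 (algebraMap (X.presheaf.stalk x.1) X.functionField ↑u) *
      (pd.pl x).1 (algebraMap (X.presheaf.stalk x.1) X.functionField ↑u⁻¹) = 1 := by
    rw [← map_mul, ← map_mul, Units.mul_inv, map_one, map_one]
  calc (1 : WithZero (Multiplicative ℤ)) = _ := h2.symm
    _ ≤ (pd.pl x).1 (algebraMap (X.presheaf.stalk x.1) X.functionField ↑u) * 1 :=
        mul_le_mul_right h1 _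
    _ = _ := mul_one _

theorem isUnit_of_val_eq_one (x : {x : X // IsClosed ({x} : Set X)}) (a : X.presheaf.stalk x.1)
    (ha : (pd.pl x).1 (algebraMap (X.presheaf.stalk x.1) X.functionField a) = 1) : IsUnit a := by
  have hg0 : algebraMap (X.presheaf.stalk x.1) X.functionField a ≠ 0 := by
    intro h0
    rw [h0, map_zero] at ha
    exact zero_ne_one ha
  have hinv : (pd.pl x).1 (algebraMap (X.presheaf.stalk x.1) X.functionField a)⁻¹ ≤ 1 := by
    rw [map_inv₀, ha, inv_one]
  obtain ⟨b, hb⟩ := (pd.spec x _).1 hinv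
  have hab : a * b = 1 := by
    apply IsFractionRing.injective (X.presheaf.stalk x.1) X.functionField
    rw [map_mul, hb, map_one, mul_inv_cancel₀ hg0]
  exact IsUnit.of_mul_eq_one b hab

/-- a uniformizer at a closed point -/
theorem exists_uniformizer (x : {x : X // IsClosed ({x} : Set X)}) :
    ∃ π : X.presheaf.stalk x.1,
      (pd.pl x).1 (algebraMap (X.presheaf.stalk x.1) X.functionField π) = WithZero.exp (-1) ∧
      IsLocalRing.maximalIdeal (X.presheaf.stalk x.1) = Ideal.span {π} := by
  obtain ⟨ϖ, hϖ⟩ := (pd.pl x).2.2 (WithZero.exp (-1))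
  have h1 : (pd.pl x).1 ϖ ≤ 1 := by
    rw [hϖ, ← WithZero.exp_zero, WithZero.exp_le_exp]; omega
  obtain ⟨π, rfl⟩ := (pd.spec x _).1 h1
  refine ⟨π, hϖ, ?_⟩
  have hπ0 : algebraMap (X.presheaf.stalk x.1) X.functionField π ≠ 0 := by
    intro h0
    rw [h0, map_zero] at hϖ
    exact WithZero.exp_ne_zero hϖ.symm
  ext a
  rw [Ideal.mem_span_singleton', IsLocalRing.mem_maximalIdeal, mem_nonunits_iff]
  constructor
  · intro ha
    have hlt : (pd.pl x).1 (algebraMap (X.presheaf.stalk x.1) X.functionField a) < 1 := by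
      refine lt_of_le_of_ne (pd.val_algebraMap_le x a) fun h => ha (pd.isUnit_of_val_eq_one x a h)
    have hle : (pd.pl x).1 (algebraMap (X.presheaf.stalk x.1) X.functionField a) ≤
        WithZero.exp (-1) := by
      rw [← WithZero.lt_mul_exp_iff_le WithZero.exp_ne_zero, ← WithZero.exp_add]
      simpa using hlt
    have h2 : (pd.pl x).1 (algebraMap (X.presheaf.stalk x.1) X.functionField a *
        (algebraMap (X.presheaf.stalk x.1) X.functionField π)⁻¹) ≤ 1 := by
      rw [map_mul, map_inv₀, hϖ]
      have hpos : (0 : WithZero (Multiplicative ℤ)) < WithZero.exp (-1) :=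
        zero_lt_iff.2 WithZero.exp_ne_zero
      rw [mul_inv_le_iff₀ hpos, one_mul]
      exact hle
    obtain ⟨b, hb⟩ := (pd.spec x _).1 h2
    refine ⟨b, ?_⟩
    apply IsFractionRing.injective (X.presheaf.stalk x.1) X.functionField
    rw [map_mul, hb, mul_assoc, inv_mul_cancel₀ hπ0, mul_one]
  · rintro ⟨b, rfl⟩ hu
    have h3 := pd.val_algebraMap_unit x _ hu
    rw [map_mul, map_mul, hϖ] at h3
    have h4 := pd.val_algebraMap_le x b
    have h5 : (pd.pl x).1 (algebraMap (X.presheaf.stalk x.1) X.functionField b) *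
        WithZero.exp (-1) ≤ 1 * WithZero.exp (-1) := mul_le_mul_left h4 _
    rw [h3, one_mul, ← WithZero.exp_zero, WithZero.exp_le_exp] at h5
    omega

end PlaceData

/-- `D` is the divisor of the rational section `t` of `L`: the rational sections `f • t` regular
at a closed point are those with `f` bounded by `D` at the corresponding place -/
def IsDiv (L : X.Modules) (t : L.presheaf.stalk (genericPoint X))
    (D : Divisor k X.functionField) : Prop :=
  ∀ (x : {x : X // IsClosed ({x} : Set X)}) (f : X.functionField),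
    f • t ∈ Set.range (sp L x.1) ↔ (pd.pl x).1 f ≤ WithZero.exp (D (pd.pl x))

theorem val_mul_le_one_iff {K : Type*} [Field K] (v : Valuation K (WithZero (Multiplicative ℤ)))
    (f g : K) (hg : g ≠ 0) : v (f * g) ≤ 1 ↔ v f ≤ WithZero.exp (-WithZero.log (v g)) := by
  have hv : v g ≠ 0 := (Valuation.ne_zero_iff v).2 hg
  have hpos : 0 < v g := zero_lt_iff.2 hv
  rw [map_mul, WithZero.exp_neg, WithZero.exp_log hv, ← one_mul (v g)⁻¹, le_mul_inv_iff₀ hpos]

theorem exp_injective' {n m : ℤ}
    (h : (WithZero.exp n : WithZero (Multiplicative ℤ)) = WithZero.exp m) : n = m :=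
  WithZero.exp_injective h

/-- uniqueness of the local exponent -/
theorem exponent_unique (P : Place k X.functionField) (n m : ℤ)
    (h : ∀ f : X.functionField, P.1 f ≤ WithZero.exp n ↔ P.1 f ≤ WithZero.exp m) : n = m := by
  obtain ⟨f, hf⟩ := P.2.2 (WithZero.exp n)
  obtain ⟨f', hf'⟩ := P.2.2 (WithZero.exp m)
  have h1 := (h f).1 hf.le
  have h2 := (h f').2 hf'.le
  rw [hf] at h1
  rw [hf'] at h2
  have h3 : n ≤ m := WithZero.exp_le_exp.1 h1
  have h4 : m ≤ n := WithZero.exp_le_exp.1 h2
  omega

theorem isDiv_unique {L : X.Modules} {t : L.presheaf.stalk (genericPoint X)}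
    {D D' : Divisor k X.functionField} (h : IsDiv pd L t D) (h' : IsDiv pd L t D') : D = D' := by
  ext P
  obtain ⟨x, rfl⟩ := pd.pl.surjective P
  exact exponent_unique _ _ _ fun f => ((h x f).symm.trans (h' x f))

section Local

variable {L : X.Modules} {T : X.Opens} {e : Γ(L, T)} (he : IsFrame L T e)
include he

/-- the local exponent of a rational section written in a frame -/
theorem smul_mem_range_sp_iff (x : {x : X // IsClosed ({x} : Set X)}) (hx : x.1 ∈ T)
    (g : X.functionField) (hg : g ≠ 0) (f : X.functionField) :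
    f • (g • L.presheaf.germ T (genericPoint X) (gen_mem T hx) e) ∈ Set.range (sp L x.1) ↔
      (pd.pl x).1 f ≤ WithZero.exp (-WithZero.log ((pd.pl x).1 g)) := by
  rw [smul_smul, smul_gen_mem_range_sp_iff he x.1 hx, ← pd.spec x, val_mul_le_one_iff _ _ _ hg]

end Local

section Existence

variable (L : X.Modules) (hL : PicF.IsInvertible L)
include hL

theorem exists_exponent (t : L.presheaf.stalk (genericPoint X)) (ht : t ≠ 0)
    (x : {x : X // IsClosed ({x} : Set X)}) :
    ∃ n : ℤ, ∀ f : X.functionField,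
      f • t ∈ Set.range (sp L x.1) ↔ (pd.pl x).1 f ≤ WithZero.exp n := by
  obtain ⟨T, e, hxT, he⟩ := Groth.Agent.Helper4.SN242.exists_frame L hL x.1
  obtain ⟨g, rfl⟩ := exists_smul_gen he (gen_mem T hxT) t
  have hg : g ≠ 0 := by
    rintro rfl
    exact ht (zero_smul _ _)
  exact ⟨_, fun f => smul_mem_range_sp_iff pd he x hxT g hg f⟩

theorem exists_open_exponent_zero (t : L.presheaf.stalk (genericPoint X)) (ht : t ≠ 0) :
    ∃ W : X.Opens, genericPoint X ∈ W ∧ ∀ x : {x : X // IsClosed ({x} : Set X)}, x.1 ∈ W →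
      ∀ f : X.functionField, f • t ∈ Set.range (sp L x.1) ↔ (pd.pl x).1 f ≤ 1 := by
  obtain ⟨T, e, hηT, he⟩ := Groth.Agent.Helper4.SN242.exists_frame L hL (genericPoint X)
  obtain ⟨U, hηU, s, rfl⟩ := TopCat.Presheaf.exists_germ_eq L.presheaf t
  have hle : U ⊓ T ≤ T := inf_le_right
  have hle' : U ⊓ T ≤ U := inf_le_left
  set s' := L.presheaf.map (homOfLE hle').op s with hs'
  set c := coord he hle s' with hc
  have h1 := coord_spec he hle s'
  have hη : genericPoint X ∈ U ⊓ T := ⟨hηU, hηT⟩
  have hgerm : L.presheaf.germ U (genericPoint X) hηU s =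
      X.presheaf.germ (U ⊓ T) (genericPoint X) hη c •
        L.presheaf.germ T (genericPoint X) hηT e := by
    have h2 : L.presheaf.germ U (genericPoint X) hηU s =
        L.presheaf.germ (U ⊓ T) (genericPoint X) hη s' :=
      (TopCat.Presheaf.germ_res_apply L.presheaf (homOfLE hle') _ hη s).symm
    have h3 : L.presheaf.germ T (genericPoint X) hηT e =
        L.presheaf.germ (U ⊓ T) (genericPoint X) hη (L.presheaf.map (homOfLE hle).op e) :=
      (TopCat.Presheaf.germ_res_apply L.presheaf (homOfLE hle) _ hη e).symm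
    rw [h2, h3, ← germ_smul, ← h1]
  have hc0 : X.presheaf.germ (U ⊓ T) (genericPoint X) hη c ≠ 0 := by
    intro h0
    apply ht
    rw [hgerm, h0, zero_smul]
  refine ⟨X.basicOpen c, ?_, ?_⟩
  · rw [X.mem_basicOpen c _ hη]
    exact isUnit_iff_ne_zero.2 hc0
  · intro x hxW f
    have hxUT : x.1 ∈ U ⊓ T := X.basicOpen_le c hxW
    have hu : IsUnit (X.presheaf.germ (U ⊓ T) x.1 hxUT c) := (X.mem_basicOpen c _ hxUT).1 hxW
    have hv := pd.val_algebraMap_unit x _ hu
    rw [algebraMap_germ] at hv
    have h4 := smul_mem_range_sp_iff pd he x hxUT.2 _ hc0 f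
    rw [hgerm]
    rw [h4, hv, WithZero.log_one, neg_zero, WithZero.exp_zero]

/-- **the divisor of a nonzero rational section exists** -/
theorem exists_isDiv (t : L.presheaf.stalk (genericPoint X)) (ht : t ≠ 0) :
    ∃ D : Divisor k X.functionField, IsDiv pd L t D := by
  classical
  choose n hn using exists_exponent pd L hL t ht
  obtain ⟨W, hηW, hW⟩ := exists_open_exponent_zero pd L hL t ht
  haveI := pd.hp
  haveI := Groth.Agent.Helper4.NApx82.isNoetherian_of_proper k X
  have hfin : ((W : Set X)ᶜ).Finite := by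
    apply Groth.Agent.Helper4.SN.finite_of_isClosed_of_forall_isClosed _ W.isOpen.isClosed_compl
    intro z hz
    apply pd.closed
    rintro rfl
    exact hz hηW
  have hsupp : (Function.support fun P : Place k X.functionField => n (pd.pl.symm P)) ⊆
      (fun x : {x : X // IsClosed ({x} : Set X)} => pd.pl x) ''
        ((fun x : {x : X // IsClosed ({x} : Set X)} => x.1) ⁻¹' ((W : Set X)ᶜ)) := by
    intro P hP
    refine ⟨pd.pl.symm P, ?_, pd.pl.apply_symm_apply P⟩
    intro hmem
    apply hP
    have h1 := hW (pd.pl.symm P) hmem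
    apply exponent_unique (k := k) (pd.pl (pd.pl.symm P)) _ 0
    intro f
    rw [← hn (pd.pl.symm P) f, h1 f, WithZero.exp_zero]
  have hfin2 : (Function.support fun P : Place k X.functionField => n (pd.pl.symm P)).Finite :=
    ((hfin.preimage (Subtype.val_injective.injOn)).image _).subset hsupp
  refine ⟨Finsupp.ofSupportFinite _ hfin2, fun x f => ?_⟩
  rw [hn x f]
  show _ ↔ _ ≤ WithZero.exp (n (pd.pl.symm (pd.pl x)))
  rw [Equiv.symm_apply_apply]

end Existence

section Transport

theorem mem_range_sp_map_iff {L M : X.Modules} (φ : L ⟶ M) (x : X)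
    (hsurj : Function.Surjective (stalkLin φ x))
    (hinj : Function.Injective (stalkLin φ (genericPoint X)))
    (u : L.presheaf.stalk (genericPoint X)) :
    stalkLin φ (genericPoint X) u ∈ Set.range (sp M x) ↔ u ∈ Set.range (sp L x) := by
  constructor
  · rintro ⟨m, hm⟩
    obtain ⟨m', rfl⟩ := hsurj m
    rw [sp_stalkLin] at hm
    exact ⟨m', hinj hm⟩
  · rintro ⟨m, rfl⟩
    exact ⟨stalkLin φ x m, sp_stalkLin φ x m⟩

/-- transport of the divisor of a rational section along a morphism which is an isomorphism on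
stalks -/
theorem IsDiv.map {L M : X.Modules} (φ : L ⟶ M)
    (hsurj : ∀ x : X, IsClosed ({x} : Set X) → Function.Surjective (stalkLin φ x))
    (hinj : Function.Injective (stalkLin φ (genericPoint X)))
    {t : L.presheaf.stalk (genericPoint X)} {D : Divisor k X.functionField}
    (h : IsDiv pd L t D) : IsDiv pd M (stalkLin φ (genericPoint X) t) D := by
  intro x f
  rw [← (stalkLin φ (genericPoint X)).map_smul, mem_range_sp_map_iff φ x.1 (hsurj x.1 x.2) hinj]
  exact h x f

theorem IsDiv.of_iso {L M : X.Modules} (α : L ≅ M)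
    {t : L.presheaf.stalk (genericPoint X)} {D : Divisor k X.functionField}
    (h : IsDiv pd L t D) : IsDiv pd M (stalkLin α.hom (genericPoint X) t) D :=
  h.map pd α.hom (fun x _ => (Groth.Agent.Helper1.Dev.stalkLin_bijective_of_isIso α.hom x).2)
    (Groth.Agent.Helper1.Dev.stalkLin_bijective_of_isIso α.hom _).1

/-- scaling the rational section by a function adds the principal divisor -/
theorem IsDiv.smul {L : X.Modules} {t : L.presheaf.stalk (genericPoint X)}
    {D : Divisor k X.functionField} (h : IsDiv pd L t D) (g : X.functionField) (hg : g ≠ 0) :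
    IsDiv pd L (g • t) (D + FunFld.div k g) := by
  intro x f
  rw [smul_smul, h x (f * g), Finsupp.add_apply, Groth.Agent.Helper5.FF.div_apply pd.hK]
  have hv : (pd.pl x).1 g ≠ 0 := (Valuation.ne_zero_iff _).2 hg
  have hpos : 0 < (pd.pl x).1 g := zero_lt_iff.2 hv
  unfold Place.ord
  rw [map_mul, WithZero.exp_add, WithZero.exp_neg, WithZero.exp_log hv, le_mul_inv_iff₀ hpos]

end Transport

section Trivial

variable (L : X.Modules) (hL : PicF.IsInvertible L)
include hL

/-- **an invertible module with a rational section of divisor zero is trivial** -/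
theorem nonempty_iso_unit_of_isDiv_zero (t : L.presheaf.stalk (genericPoint X))
    (h : IsDiv pd L t 0) : Nonempty (Coh.structureModule X ≅ L) := by
  haveI := pd.hp
  haveI := Groth.Agent.Helper4.NApx82.isNoetherian_of_proper k X
  have hreg : ∀ x : X, t ∈ Set.range (sp L x) := by
    intro x
    by_cases hx : x = genericPoint X
    · subst hx
      refine ⟨t, ?_⟩
      unfold sp
      rw [TopCat.Presheaf.stalkSpecializes_refl]
      rfl
    · have := (h ⟨x, pd.closed x hx⟩ 1).2 (by
        rw [map_one, Finsupp.zero_apply, WithZero.exp_zero])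
      rwa [one_smul] at this
  obtain ⟨s, hs⟩ := exists_section_of_forall_mem_range L hL t hreg
  set σ := Groth.Agent.Lead.IdealModDict.ofSection L s with hσ
  have hO : PicF.IsInvertible (Coh.structureModule X) :=
    Groth.Agent.Helper4.TensorInv.isInvertible_structureModule
  have hcO : Coh.IsCoh (Coh.structureModule X) :=
    Groth.Agent.Helper1.SerreFin.isCoh_of_isInvertible _ hO
  have hcL : Coh.IsCoh L := Groth.Agent.Helper1.SerreFin.isCoh_of_isInvertible _ hL
  have hcQ : Coh.IsCoh (cokernel σ) := Groth.Agent.Lead.PerfLib.isCoh_cokernel hcO hcL σ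
  haveI : Epi σ := by
    apply Groth.Agent.Helper4.SN.epi_of_stalkLin_surjective_closed σ hcQ
    intro x hx
    obtain ⟨T, e, hxT, he⟩ := Groth.Agent.Helper4.SN242.exists_frame L hL x
    obtain ⟨a, ha⟩ := exists_smul_germ he x hxT (L.presheaf.germ ⊤ x trivial s)
    -- `a` is a unit
    have hta : t = algebraMap (X.presheaf.stalk x) X.functionField a •
        L.presheaf.germ T (genericPoint X) (gen_mem T hxT) e := by
      rw [← hs, ← sp_germ L x ⊤ trivial s, ha, sp_smul, sp_germ]
    have ht0 : t ≠ 0 := by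
      intro h0
      have h1 := (h ⟨x, hx⟩ ((pd.pl ⟨x, hx⟩).2.2 (WithZero.exp 1)).choose).1 (by
        rw [h0, smul_zero]; exact ⟨0, map_zero _⟩)
      rw [((pd.pl ⟨x, hx⟩).2.2 (WithZero.exp 1)).choose_spec, Finsupp.zero_apply,
        WithZero.exp_le_exp] at h1
      omega
    have hg0 : algebraMap (X.presheaf.stalk x) X.functionField a ≠ 0 := by
      intro h0
      apply ht0
      rw [hta, h0, zero_smul]
    have hexp : -WithZero.log ((pd.pl ⟨x, hx⟩).1
        (algebraMap (X.presheaf.stalk x) X.functionField a)) = 0 := by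
      apply exponent_unique (k := k) (pd.pl ⟨x, hx⟩)
      intro f
      rw [← smul_mem_range_sp_iff pd he ⟨x, hx⟩ hxT _ hg0 f, ← hta, h ⟨x, hx⟩ f,
        Finsupp.zero_apply]
    have hv1 : (pd.pl ⟨x, hx⟩).1 (algebraMap (X.presheaf.stalk x) X.functionField a) = 1 := by
      have hv : (pd.pl ⟨x, hx⟩).1 (algebraMap (X.presheaf.stalk x) X.functionField a) ≠ 0 :=
        (Valuation.ne_zero_iff _).2 hg0
      rw [← WithZero.exp_log hv]
      have : WithZero.log ((pd.pl ⟨x, hx⟩).1
          (algebraMap (X.presheaf.stalk x) X.functionField a)) = 0 := by omega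
      rw [this, WithZero.exp_zero]
    have hinv : (pd.pl ⟨x, hx⟩).1
        (algebraMap (X.presheaf.stalk x) X.functionField a)⁻¹ ≤ 1 := by
      rw [map_inv₀, hv1, inv_one]
    obtain ⟨b, hb⟩ := (pd.spec ⟨x, hx⟩ _).1 hinv
    have hab : a * b = 1 := by
      apply IsFractionRing.injective (X.presheaf.stalk x) X.functionField
      rw [map_mul, hb, map_one, mul_inv_cancel₀ hg0]
    -- surjectivity
    intro m
    obtain ⟨c, rfl⟩ := exists_smul_germ he x hxT m
    refine ⟨(c * b) • (Coh.structureModule X).presheaf.germ ⊤ x trivial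
      (Groth.Agent.Helper4.GenLoc.one X ⊤), ?_⟩
    rw [map_smul, Groth.Agent.Helper4.StalkExact.stalkLin_germ]
    have h5 : σ.app ⊤ (Groth.Agent.Helper4.GenLoc.one X ⊤) = s := by
      have := Groth.Agent.Lead.IdealModDict.ofSection_app L s ⊤ (1 : Γ(X, ⊤))
      rw [one_smul] at this
      refine Eq.trans ?_ (this.trans ?_)
      · rfl
      · have h6 : (homOfLE (le_top : (⊤ : X.Opens) ≤ ⊤)).op = 𝟙 (op (⊤ : X.Opens)) := rfl
        rw [h6, L.presheaf.map_id]
        rfl
    rw [h5, ha, smul_smul, mul_assoc, mul_comm b a, hab, mul_one]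
  haveI : IsIso σ := Groth.Agent.Helper4.SN242.isIso_of_epi σ hO hL
  exact ⟨asIso σ⟩

end Trivial

end Groth.Agent.Helper4.SN550
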