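import Mathlib
import Groth.Agent.Helper4.SN550
import Groth.Agent.Helper4.SN139
import Groth.Agent.Helper4.SN125
import Groth.Agent.Helper4.SN98
import Groth.Agent.Helper4.EpiStalk

/-!
# The divisor of a rational section of the twist of an invertible module by the ideal of a point
-/

set_option autoImplicit false
set_option linter.style.haveILetI false
set_option linter.unusedSectionVars false
universe u
open CategoryTheory CategoryTheory.Limits AlgebraicGeometry TopologicalSpace Opposite FunFld
open scoped TensorProduct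

namespace Groth.Agent.Helper4.SN551

open Groth.Agent.Helper4.StalkDict Groth.Agent.Helper4.TwistExt Groth.Agent.Helper4.SN200
  Groth.Agent.Helper4.SN549 Groth.Agent.Helper4.SN550 Groth.Agent.Helper4.SN
  Groth.Agent.Lead.Ref1B

attribute [local instance] Curv2.stalkAlgebra Curv2.resAlgebra

variable {k : Type u} [Field k] {X : Scheme.{u}} [X.Over (Spec (CommRingCat.of k))]
  [IsIntegral X]

section Range

variable (x : X) (hx : IsClosed ({x} : Set X)) (L : X.Modules) (hL : PicF.IsInvertible L)
include hL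

/-- the maximal ideal kills the stalk of `O/I_x ⊗ L` at `x` -/
theorem smul_stalk_quot_tensor (a : X.presheaf.stalk x)
    (ha : a ∈ IsLocalRing.maximalIdeal (X.presheaf.stalk x))
    (u : (CohB1.tensorMod (ClSub.quotMod (Scheme.IdealSheafData.vanishingIdeal ⟨{x}, hx⟩))
      L).presheaf.stalk x) : a • u = 0 := by
  obtain ⟨τ, rfl⟩ := (stalkTensorEquiv (ClSub.quotMod
    (Scheme.IdealSheafData.vanishingIdeal ⟨{x}, hx⟩)) L x).surjective u
  rw [← map_smul]
  have : a • τ = 0 := by
    induction τ using TensorProduct.induction_on with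
    | zero => rw [smul_zero]
    | tmul q l =>
      rw [TensorProduct.smul_tmul', maximalIdeal_smul_stalk_quotMod x hx _ rfl a ha q,
        TensorProduct.zero_tmul]
    | add τ τ' h h' => rw [smul_add, h, h', add_zero]
  rw [this, map_zero]

/-- **the image of `I_x ⊗ L → L` on the stalk at `x` is `𝔪_x L_x`** -/
theorem mem_range_stalkLin_idealTwistι_iff (v : L.presheaf.stalk x) :
    v ∈ Set.range (stalkLin (idealTwistι (Scheme.IdealSheafData.vanishingIdeal ⟨{x}, hx⟩) L) x) ↔
      v ∈ (IsLocalRing.maximalIdeal (X.presheaf.stalk x)) •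
        (⊤ : Submodule (X.presheaf.stalk x) (L.presheaf.stalk x)) := by
  set Z := Scheme.IdealSheafData.vanishingIdeal ⟨{x}, hx⟩ with hZ
  have hS' := Groth.Agent.Helper1.TwistExact.shortExact_map_tensorRightMod
    (idealSC_shortExact Z) L hL
  let f' : CohB1.tensorMod (ClSub.idealMod Z) L ⟶ CohB1.tensorMod (Coh.structureModule X) L :=
    ((idealSC Z).map (DCoh.tensorRightMod L)).f
  let g' : CohB1.tensorMod (Coh.structureModule X) L ⟶ CohB1.tensorMod (ClSub.quotMod Z) L :=
    ((idealSC Z).map (DCoh.tensorRightMod L)).g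
  haveI : Mono f' := hS'.mono_f
  haveI : Epi g' := hS'.epi_g
  have hex : Function.Exact (stalkLin f' x) (stalkLin g' x) := by
    haveI : Mono ((idealSC Z).map (DCoh.tensorRightMod L)).f := hS'.mono_f
    exact Groth.Agent.Helper4.StalkExact.stalkLin_exact _ hS'.exact x
  have hι : idealTwistι Z L = f' ≫ (unitorL L).hom := rfl
  let ψ := LinearEquiv.ofBijective (stalkLin (unitorL L).hom x)
    (Groth.Agent.Helper1.Dev.stalkLin_bijective_of_isIso (unitorL L).hom x)
  have hψ : ∀ w, ψ w = stalkLin (unitorL L).hom x w := fun w => rfl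
  have hOL : PicF.IsInvertible (CohB1.tensorMod (Coh.structureModule X) L) :=
    Groth.Agent.Helper4.AmpleIso.isInvertible_of_iso (unitorL L).symm hL
  have hmap : ∀ w, w ∈ (IsLocalRing.maximalIdeal (X.presheaf.stalk x)) •
      (⊤ : Submodule (X.presheaf.stalk x)
        ((CohB1.tensorMod (Coh.structureModule X) L).presheaf.stalk x)) ↔
      ψ w ∈ (IsLocalRing.maximalIdeal (X.presheaf.stalk x)) •
        (⊤ : Submodule (X.presheaf.stalk x) (L.presheaf.stalk x)) := by
    intro w
    have h1 : ((IsLocalRing.maximalIdeal (X.presheaf.stalk x)) •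
        (⊤ : Submodule (X.presheaf.stalk x)
          ((CohB1.tensorMod (Coh.structureModule X) L).presheaf.stalk x))).map
          (ψ : _ →ₗ[X.presheaf.stalk x] _) =
        (IsLocalRing.maximalIdeal (X.presheaf.stalk x)) •
          (⊤ : Submodule (X.presheaf.stalk x) (L.presheaf.stalk x)) := by
      rw [Submodule.map_smul'', Submodule.map_top, LinearEquiv.range]
    rw [← h1]
    constructor
    · intro hw
      exact Submodule.mem_map_of_mem hw
    · rintro ⟨w', hw', hww'⟩
      have : w' = w := ψ.injective hww'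
      rw [← this]
      exact hw'
  have hker : ∀ w, stalkLin g' x w = 0 ↔ w ∈ (IsLocalRing.maximalIdeal (X.presheaf.stalk x)) •
      (⊤ : Submodule (X.presheaf.stalk x)
        ((CohB1.tensorMod (Coh.structureModule X) L).presheaf.stalk x)) := by
    intro w
    constructor
    · intro hw
      obtain ⟨T, e, hxT, he⟩ := Groth.Agent.Helper4.SN242.exists_frame _ hOL x
      obtain ⟨c, rfl⟩ := exists_smul_germ he x hxT w
      by_cases hc : c ∈ IsLocalRing.maximalIdeal (X.presheaf.stalk x)
      · exact Submodule.smul_mem_smul hc Submodule.mem_top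
      · exfalso
        have hcu : IsUnit c := by
          by_contra hnu
          exact hc ((IsLocalRing.mem_maximalIdeal c).2 hnu)
        obtain ⟨cu, rfl⟩ := hcu
        rw [map_smul] at hw
        have he0 : stalkLin g' x ((CohB1.tensorMod (Coh.structureModule X) L).presheaf.germ T x
            hxT e) = 0 := by
          have := congrArg (fun z => (↑cu⁻¹ : X.presheaf.stalk x) • z) hw
          simp only [smul_smul, Units.inv_mul, one_smul, smul_zero] at this
          exact this
        have hzero : ∀ u, stalkLin g' x u = 0 := by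
          intro u
          obtain ⟨d, rfl⟩ := exists_smul_germ he x hxT u
          rw [map_smul, he0, smul_zero]
        have hsub : Subsingleton ((CohB1.tensorMod (ClSub.quotMod Z) L).presheaf.stalk x) := by
          refine ⟨fun u u' => ?_⟩
          obtain ⟨w1, rfl⟩ := Groth.Agent.Helper4.EpiStalk.stalkLin_surjective_of_epi g' x u
          obtain ⟨w2, rfl⟩ := Groth.Agent.Helper4.EpiStalk.stalkLin_surjective_of_epi g' x u'
          rw [hzero, hzero]
        have hxs : x ∈ CohB1.support (CohB1.tensorMod (ClSub.quotMod Z) L) := by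
          rw [support_tensorMod_eq_left _ L hL, support_quotMod_eq, hZ,
            Scheme.IdealSheafData.coe_support_vanishingIdeal]
          exact Set.mem_singleton x
        exact hxs hsub
    · intro hw
      refine Submodule.smul_induction_on hw ?_ ?_
      · intro a ha u _
        rw [map_smul]
        exact smul_stalk_quot_tensor x hx L hL a ha _
      · intro u u' h h'
        rw [map_add, h, h', add_zero]
  constructor
  · rintro ⟨v', rfl⟩
    rw [hι, Groth.Agent.Lead.StalkNhd.stalkLin_comp, ← hψ, ← hmap, ← hker]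
    exact (hex _).2 ⟨v', rfl⟩
  · intro hv
    have h1 : ψ.symm v ∈ (IsLocalRing.maximalIdeal (X.presheaf.stalk x)) •
        (⊤ : Submodule (X.presheaf.stalk x)
          ((CohB1.tensorMod (Coh.structureModule X) L).presheaf.stalk x)) := by
      rw [hmap, LinearEquiv.apply_symm_apply]
      exact hv
    obtain ⟨v', hv'⟩ := (hex _).1 ((hker _).2 h1)
    refine ⟨v', ?_⟩
    rw [hι, Groth.Agent.Lead.StalkNhd.stalkLin_comp]
    show stalkLin (unitorL L).hom x (stalkLin f' x v') = v
    rw [hv', ← hψ, LinearEquiv.apply_symm_apply]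

end Range

section Twist

variable (pd : PlaceData k X)

/-- membership in `span {π} • ⊤` -/
theorem mem_span_singleton_smul_top {R M : Type*} [CommRing R] [AddCommGroup M] [Module R M]
    (π : R) (v : M) :
    v ∈ (Ideal.span {π} : Ideal R) • (⊤ : Submodule R M) ↔ ∃ m : M, v = π • m := by
  rw [Submodule.ideal_span_singleton_smul]
  constructor
  · rintro ⟨m, _, hm⟩
    exact ⟨m, hm.symm⟩
  · rintro ⟨m, rfl⟩
    exact ⟨m, Submodule.mem_top, rfl⟩

/-- **the divisor of a rational section of `I_x ⊗ L`** (auxiliary form) -/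
theorem isDiv_idealTwist_aux (x : {x : X // IsClosed ({x} : Set X)}) (L : X.Modules)
    (hL : PicF.IsInvertible L) (Z : X.IdealSheafData)
    (hZ : Z = Scheme.IdealSheafData.vanishingIdeal ⟨{x.1}, x.2⟩)
    (t' : (CohB1.tensorMod (ClSub.idealMod Z) L).presheaf.stalk (genericPoint X))
    (D : Divisor k X.functionField)
    (h : IsDiv pd L (stalkLin (idealTwistι Z L) (genericPoint X) t') D) :
    IsDiv pd (CohB1.tensorMod (ClSub.idealMod Z) L) t' (D - Finsupp.single (pd.pl x) 1) := by
  haveI := mono_idealTwistι Z L hL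
  have hinj : Function.Injective (stalkLin (idealTwistι Z L) (genericPoint X)) :=
    Groth.Agent.Helper4.StalkExact.stalkLin_injective _ _
  have hR : ∀ v : L.presheaf.stalk x.1, v ∈ Set.range (stalkLin (idealTwistι Z L) x.1) ↔
      v ∈ (IsLocalRing.maximalIdeal (X.presheaf.stalk x.1)) •
        (⊤ : Submodule (X.presheaf.stalk x.1) (L.presheaf.stalk x.1)) := by
    subst hZ
    exact mem_range_stalkLin_idealTwistι_iff x.1 x.2 L hL
  have hS : ∀ y : X, y ≠ x.1 → Function.Surjective (stalkLin (idealTwistι Z L) y) := by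
    subst hZ
    exact stalkLin_idealTwistι_surjective x.1 x.2 L
  intro y f
  by_cases hy : y = x
  · rw [hy]
    obtain ⟨π, hπv, hπm⟩ := pd.exists_uniformizer x
    have hπ0 : algebraMap (X.presheaf.stalk x.1) X.functionField π ≠ 0 := by
      intro h0
      rw [h0, map_zero] at hπv
      exact WithZero.exp_ne_zero hπv.symm
    have hval : (pd.pl x).1 f ≤
        WithZero.exp ((D - Finsupp.single (pd.pl x) 1 : Divisor k X.functionField) (pd.pl x)) ↔
        (pd.pl x).1 ((algebraMap (X.presheaf.stalk x.1) X.functionField π)⁻¹ * f) ≤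
          WithZero.exp (D (pd.pl x)) := by
      rw [Finsupp.sub_apply, Finsupp.single_eq_same, map_mul, map_inv₀, hπv, sub_eq_add_neg,
        WithZero.exp_add, mul_comm ((WithZero.exp (-1))⁻¹)]
      have hpos : (0 : WithZero (Multiplicative ℤ)) < WithZero.exp (-1) :=
        zero_lt_iff.2 WithZero.exp_ne_zero
      rw [mul_inv_le_iff₀ hpos]
    rw [hval, ← h x]
    constructor
    · rintro ⟨m, hm⟩
      have h1 : stalkLin (idealTwistι Z L) x.1 m ∈
          (IsLocalRing.maximalIdeal (X.presheaf.stalk x.1)) •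
            (⊤ : Submodule (X.presheaf.stalk x.1) (L.presheaf.stalk x.1)) :=
        (hR _).1 ⟨m, rfl⟩
      rw [hπm, mem_span_singleton_smul_top] at h1
      obtain ⟨m'', hm''⟩ := h1
      refine ⟨m'', ?_⟩
      have h2 : sp L x.1 (stalkLin (idealTwistι Z L) x.1 m) =
          f • stalkLin (idealTwistι Z L) (genericPoint X) t' := by
        rw [sp_stalkLin, hm]
        exact (stalkLin (idealTwistι Z L) (genericPoint X)).map_smul f t'
      rw [hm'', sp_smul] at h2
      rw [mul_smul, ← h2, smul_smul, inv_mul_cancel₀ hπ0, one_smul]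
    · rintro ⟨m'', hm''⟩
      have h1 : π • m'' ∈ (IsLocalRing.maximalIdeal (X.presheaf.stalk x.1)) •
            (⊤ : Submodule (X.presheaf.stalk x.1) (L.presheaf.stalk x.1)) := by
        rw [hπm, mem_span_singleton_smul_top]
        exact ⟨m'', rfl⟩
      obtain ⟨m, hm⟩ := (hR _).2 h1
      refine ⟨m, hinj ?_⟩
      rw [← sp_stalkLin, hm, sp_smul, hm'', smul_smul, ← mul_assoc, mul_inv_cancel₀ hπ0, one_mul]
      exact ((stalkLin (idealTwistι Z L) (genericPoint X)).map_smul f t').symm
  · have hyx : y.1 ≠ x.1 := fun h => hy (Subtype.ext h)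
    have hne : pd.pl y ≠ pd.pl x := fun h => hy (pd.pl.injective h)
    rw [Finsupp.sub_apply, Finsupp.single_eq_of_ne hne, sub_zero, ← h y f,
      ← (stalkLin (idealTwistι Z L) (genericPoint X)).map_smul,
      mem_range_sp_map_iff (idealTwistι Z L) y.1 (hS y.1 hyx) hinj]

/-- **the divisor of a rational section of `I_x ⊗ L`** -/
theorem isDiv_idealTwist (x : {x : X // IsClosed ({x} : Set X)}) (L : X.Modules)
    (hL : PicF.IsInvertible L)
    (t' : (CohB1.tensorMod (ClSub.idealMod (Scheme.IdealSheafData.vanishingIdeal ⟨{x.1}, x.2⟩))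
      L).presheaf.stalk (genericPoint X))
    (D : Divisor k X.functionField)
    (h : IsDiv pd L (stalkLin (idealTwistι (Scheme.IdealSheafData.vanishingIdeal ⟨{x.1}, x.2⟩) L)
      (genericPoint X) t') D) :
    IsDiv pd (CohB1.tensorMod (ClSub.idealMod (Scheme.IdealSheafData.vanishingIdeal ⟨{x.1}, x.2⟩))
      L) t' (D - Finsupp.single (pd.pl x) 1) :=
  isDiv_idealTwist_aux pd x L hL _ rfl t' D h

theorem IsDiv.ne_zero {L : X.Modules} {t : L.presheaf.stalk (genericPoint X)}
    {D : Divisor k X.functionField} (h : IsDiv pd L t D)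
    (x : {x : X // IsClosed ({x} : Set X)}) : t ≠ 0 := by
  intro h0
  obtain ⟨f, hf⟩ := (pd.pl x).2.2 (WithZero.exp (D (pd.pl x) + 1))
  have h1 := (h x f).1 (by rw [h0, smul_zero]; exact ⟨0, map_zero _⟩)
  rw [hf, WithZero.exp_le_exp] at h1
  omega

/-- **twisting down by a closed point** -/
theorem exists_down (x : {x : X // IsClosed ({x} : Set X)}) (L : X.Modules)
    (hL : PicF.IsInvertible L) (t : L.presheaf.stalk (genericPoint X))
    (D : Divisor k X.functionField) (h : IsDiv pd L t D) :
    ∃ (L' : X.Modules) (t' : L'.presheaf.stalk (genericPoint X)), PicF.IsInvertible L' ∧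
      IsDiv pd L' t' (D - Finsupp.single (pd.pl x) 1) ∧
      Curv2.deg k X L' 1 = Curv2.deg k X L 1 - ((pd.pl x).deg : ℤ) ∧
      Nonempty (L' ≅ CohB1.tensorMod
        (ClSub.idealMod (Scheme.IdealSheafData.vanishingIdeal ⟨{x.1}, x.2⟩)) L) := by
  haveI := pd.hp
  obtain ⟨hI, hdegI⟩ := ideal_point_of_normal k pd.hdim x.1 x.2 (pd.normal x.1 x.2)
  have hne : genericPoint X ≠ x.1 := (ne_genericPoint_of_isClosed pd.hdim x.1 x.2).symm
  obtain ⟨t', ht'⟩ := stalkLin_idealTwistι_surjective x.1 x.2 L (genericPoint X) hne t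
  refine ⟨_, t', isInvertible_tensor _ _ hI hL, isDiv_idealTwist pd x L hL t' D ?_, ?_, ⟨Iso.refl _⟩⟩
  · rw [ht']
    exact h
  · rw [deg_tensor_inv_curve k pd.hdim _ _ hI hL, hdegI, pd.deg x]
    ring

/-- **twisting up by a closed point** -/
theorem exists_up (x : {x : X // IsClosed ({x} : Set X)}) (L : X.Modules)
    (hL : PicF.IsInvertible L) (t : L.presheaf.stalk (genericPoint X))
    (D : Divisor k X.functionField) (h : IsDiv pd L t D) :
    ∃ (L' : X.Modules) (t' : L'.presheaf.stalk (genericPoint X)), PicF.IsInvertible L' ∧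
      IsDiv pd L' t' (D + Finsupp.single (pd.pl x) 1) ∧
      Curv2.deg k X L' 1 = Curv2.deg k X L 1 + ((pd.pl x).deg : ℤ) ∧
      Nonempty (CohB1.tensorMod
        (ClSub.idealMod (Scheme.IdealSheafData.vanishingIdeal ⟨{x.1}, x.2⟩)) L' ≅ L) := by
  haveI := pd.hp
  haveI := Groth.Agent.Helper4.NApx82.isNoetherian_of_proper k X
  have hne := ne_genericPoint_of_isClosed pd.hdim x.1 x.2
  have hprin := isPrincipal_maximalIdeal_of_isIntegrallyClosed pd.hdim.le x.1 (pd.normal x.1 x.2)
  have hbot := maximalIdeal_ne_bot_of_ne_genericPoint x.1 hne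
  obtain ⟨N, hN, hdegN, ⟨ε⟩⟩ := exists_invertible_deg_point k pd.hdim.le x.1 x.2 hprin hbot
  set Z := Scheme.IdealSheafData.vanishingIdeal ⟨{x.1}, x.2⟩ with hZ
  have hLN : PicF.IsInvertible (CohB1.tensorMod L N) := isInvertible_tensor _ _ hL hN
  let α : CohB1.tensorMod (ClSub.idealMod Z) (CohB1.tensorMod L N) ≅ L :=
    twistUpIso (ClSub.idealMod Z) N ε L
  have hu := h.of_iso pd α.symm
  haveI := mono_idealTwistι Z (CohB1.tensorMod L N) hLN
  have hinj : Function.Injective (stalkLin (idealTwistι Z (CohB1.tensorMod L N))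
      (genericPoint X)) := Groth.Agent.Helper4.StalkExact.stalkLin_injective _ _
  have hu0 := IsDiv.ne_zero pd hu x
  have ht0 : stalkLin (idealTwistι Z (CohB1.tensorMod L N)) (genericPoint X)
      (stalkLin α.symm.hom (genericPoint X) t) ≠ 0 := by
    intro h0
    exact hu0 (hinj (h0.trans (map_zero _).symm))
  obtain ⟨E, hE⟩ := exists_isDiv pd _ hLN _ ht0
  have hE' := isDiv_idealTwist pd x _ hLN _ E hE
  have hED : E - Finsupp.single (pd.pl x) 1 = D := isDiv_unique pd hE' hu
  refine ⟨CohB1.tensorMod L N, stalkLin (idealTwistι Z (CohB1.tensorMod L N)) (genericPoint X)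
      (stalkLin α.symm.hom (genericPoint X) t), hLN, ?_, ?_, ⟨α⟩⟩
  · rw [← hED, sub_add_cancel]
    exact hE
  · rw [deg_tensor_inv_curve k pd.hdim _ _ hL hN, hdegN, pd.deg x]

end Twist

end Groth.Agent.Helper4.SN551
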