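import Mathlib
import Groth.Agent.Helper4.SN551
import Groth.Agent.Helper4.SN112

/-!
# Invertible modules on a curve and divisors of its function field
-/

set_option autoImplicit false
set_option linter.style.haveILetI false
set_option linter.unusedSectionVars false
universe u
open CategoryTheory CategoryTheory.Limits AlgebraicGeometry TopologicalSpace Opposite FunFld
open scoped TensorProduct

namespace Groth.Agent.Helper4.SN552

open Groth.Agent.Helper4.StalkDict Groth.Agent.Helper4.TwistExt Groth.Agent.Helper4.SN200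
  Groth.Agent.Helper4.SN549 Groth.Agent.Helper4.SN550 Groth.Agent.Helper4.SN551
  Groth.Agent.Helper4.SN Groth.Agent.Lead.Ref1B

attribute [local instance] Curv2.stalkAlgebra Curv2.resAlgebra

variable {k : Type u} [Field k] {X : Scheme.{u}} [X.Over (Spec (CommRingCat.of k))]
  [IsIntegral X] (pd : PlaceData k X)

theorem deg_add (D E : Divisor k X.functionField) : (D + E).deg = D.deg + E.deg := by
  unfold Divisor.deg
  rw [Finsupp.sum_add_index']
  · intro P; simp
  · intro P a b; ring

theorem deg_single (P : Place k X.functionField) (n : ℤ) :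
    Divisor.deg (Finsupp.single P n : Divisor k X.functionField) = n * (P.deg : ℤ) := by
  unfold Divisor.deg
  rw [Finsupp.sum_single_index]
  simp

theorem deg_sub (D E : Divisor k X.functionField) : (D - E).deg = D.deg - E.deg := by
  have h := deg_add (D - E) E
  rw [sub_add_cancel] at h
  linarith

theorem deg_zero : Divisor.deg (0 : Divisor k X.functionField) = 0 := by
  unfold Divisor.deg
  simp

/-- the statement proved by induction on the divisor -/
def Good (D : Divisor k X.functionField) : Prop :=
  ∀ (L : X.Modules) (t : L.presheaf.stalk (genericPoint X)), PicF.IsInvertible L →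
    IsDiv pd L t D → Curv2.deg k X L 1 = D.deg ∧
      ∀ (M : X.Modules) (u : M.presheaf.stalk (genericPoint X)), PicF.IsInvertible M →
        IsDiv pd M u D → Nonempty (L ≅ M)

theorem good_zero : Good pd 0 := by
  intro L t hL h
  haveI := pd.hp
  obtain ⟨e⟩ := nonempty_iso_unit_of_isDiv_zero pd L hL t h
  refine ⟨?_, ?_⟩
  · rw [← deg_iso k e 1, Groth.Agent.Helper4.NApx82.deg_structureModule k X, deg_zero]
  · intro M u hM hu
    obtain ⟨e'⟩ := nonempty_iso_unit_of_isDiv_zero pd M hM u hu
    exact ⟨e.symm ≪≫ e'⟩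

theorem good_add (x : {x : X // IsClosed ({x} : Set X)}) (D : Divisor k X.functionField)
    (hD : Good pd D) : Good pd (D + Finsupp.single (pd.pl x) 1) := by
  intro L t hL h
  haveI := pd.hp
  obtain ⟨hI, -⟩ := ideal_point_of_normal k pd.hdim x.1 x.2 (pd.normal x.1 x.2)
  obtain ⟨L', t', hL', h', hdeg', ⟨e'⟩⟩ := exists_down pd x L hL t _ h
  rw [add_sub_cancel_right] at h'
  obtain ⟨h1, h2⟩ := hD L' t' hL' h'
  refine ⟨?_, ?_⟩
  · rw [deg_add, deg_single, ← h1, hdeg']
    ring
  · intro M u hM hu
    obtain ⟨M', u', hM', hu', -, ⟨e''⟩⟩ := exists_down pd x M hM u _ hu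
    rw [add_sub_cancel_right] at hu'
    obtain ⟨e⟩ := h2 M' u' hM' hu'
    have hne := ne_genericPoint_of_isClosed pd.hdim x.1 x.2
    haveI := Groth.Agent.Helper4.NApx82.isNoetherian_of_proper k X
    have hprin := isPrincipal_maximalIdeal_of_isIntegrallyClosed pd.hdim.le x.1
      (pd.normal x.1 x.2)
    have hbot := maximalIdeal_ne_bot_of_ne_genericPoint x.1 hne
    obtain ⟨N, hN, -, ⟨ε⟩⟩ := exists_invertible_deg_point k pd.hdim.le x.1 x.2 hprin hbot
    -- `I ⊗ L ≅ I ⊗ M`, hence `L ⊗ I ≅ M ⊗ I`
    have e3 : CohB1.tensorMod L (ClSub.idealMod (Scheme.IdealSheafData.vanishingIdeal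
        ⟨{x.1}, x.2⟩)) ≅ CohB1.tensorMod M (ClSub.idealMod (Scheme.IdealSheafData.vanishingIdeal
        ⟨{x.1}, x.2⟩)) :=
      braid _ _ ≪≫ e'.symm ≪≫ e ≪≫ e'' ≪≫ braid _ _
    exact nonempty_iso_of_tensor_iso L M _ N (braid _ _ ≪≫ ε) e3

theorem good_sub (x : {x : X // IsClosed ({x} : Set X)}) (D : Divisor k X.functionField)
    (hD : Good pd D) : Good pd (D - Finsupp.single (pd.pl x) 1) := by
  intro L t hL h
  haveI := pd.hp
  obtain ⟨L', t', hL', h', hdeg', ⟨e'⟩⟩ := exists_up pd x L hL t _ h
  rw [sub_add_cancel] at h'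
  obtain ⟨h1, h2⟩ := hD L' t' hL' h'
  refine ⟨?_, ?_⟩
  · rw [deg_sub, deg_single, ← h1, hdeg']
    ring
  · intro M u hM hu
    obtain ⟨M', u', hM', hu', -, ⟨e''⟩⟩ := exists_up pd x M hM u _ hu
    rw [sub_add_cancel] at hu'
    obtain ⟨e⟩ := h2 M' u' hM' hu'
    exact ⟨e'.symm ≪≫ PicGrp.tensorModIso (Iso.refl _) e ≪≫ e''⟩

theorem good_add_nat (x : {x : X // IsClosed ({x} : Set X)}) (D : Divisor k X.functionField)
    (hD : Good pd D) (n : ℕ) : Good pd (D + Finsupp.single (pd.pl x) (n : ℤ)) := by
  induction n with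
  | zero => simpa using hD
  | succ n ih =>
    have := good_add pd x _ ih
    rw [add_assoc, ← Finsupp.single_add] at this
    exact_mod_cast this

theorem good_sub_nat (x : {x : X // IsClosed ({x} : Set X)}) (D : Divisor k X.functionField)
    (hD : Good pd D) (n : ℕ) : Good pd (D + Finsupp.single (pd.pl x) (-(n : ℤ))) := by
  induction n with
  | zero => simpa using hD
  | succ n ih =>
    have := good_sub pd x _ ih
    rw [sub_eq_add_neg, add_assoc, ← Finsupp.single_neg, ← Finsupp.single_add] at this
    have h2 : (-(n : ℤ) + -1) = -((n + 1 : ℕ) : ℤ) := by push_cast; ring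
    rw [h2] at this
    exact this

theorem good_add_int (x : {x : X // IsClosed ({x} : Set X)}) (D : Divisor k X.functionField)
    (hD : Good pd D) (n : ℤ) : Good pd (D + Finsupp.single (pd.pl x) n) := by
  obtain ⟨m, rfl | rfl⟩ := Int.eq_nat_or_neg n
  · exact good_add_nat pd x D hD m
  · exact good_sub_nat pd x D hD m

theorem good (D : Divisor k X.functionField) : Good pd D := by
  classical
  induction D using Finsupp.induction with
  | zero => exact good_zero pd
  | single_add P n D _ _ ih =>
    obtain ⟨x, rfl⟩ := pd.pl.surjective P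
    rw [add_comm]
    exact good_add_int pd x D ih n

/-- **the degree of an invertible module is the degree of the divisor of a rational section** -/
theorem deg_eq_of_isDiv (L : X.Modules) (hL : PicF.IsInvertible L)
    (t : L.presheaf.stalk (genericPoint X)) (D : Divisor k X.functionField)
    (h : IsDiv pd L t D) : Curv2.deg k X L 1 = D.deg :=
  (good pd D L t hL h).1

/-- **invertible modules with rational sections of the same divisor are isomorphic** -/
theorem nonempty_iso_of_isDiv (L M : X.Modules) (hL : PicF.IsInvertible L)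
    (hM : PicF.IsInvertible M)
    (t : L.presheaf.stalk (genericPoint X)) (u : M.presheaf.stalk (genericPoint X))
    (D : Divisor k X.functionField)
    (h : IsDiv pd L t D) (h' : IsDiv pd M u D) : Nonempty (L ≅ M) :=
  (good pd D L t hL h).2 M u hM h'

end Groth.Agent.Helper4.SN552
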