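import Mathlib
import Groth.Agent.Helper4.SN552

/-!
# Every divisor of the function field of a curve is the divisor of a rational section of an
invertible module
-/

set_option autoImplicit false
set_option linter.style.haveILetI false
set_option linter.unusedSectionVars false
universe u
open CategoryTheory CategoryTheory.Limits AlgebraicGeometry TopologicalSpace Opposite FunFld
open scoped TensorProduct

namespace Groth.Agent.Helper4.SN553

open Groth.Agent.Helper4.StalkDict Groth.Agent.Helper4.TwistExt Groth.Agent.Helper4.SN200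
  Groth.Agent.Helper4.SN549 Groth.Agent.Helper4.SN550 Groth.Agent.Helper4.SN551
  Groth.Agent.Helper4.SN552
  Groth.Agent.Helper4.SN Groth.Agent.Lead.Ref1B

attribute [local instance] Curv2.stalkAlgebra Curv2.resAlgebra

variable {k : Type u} [Field k] {X : Scheme.{u}} [X.Over (Spec (CommRingCat.of k))]
  [IsIntegral X] (pd : PlaceData k X)

omit [X.Over (Spec (CommRingCat.of k))] [IsIntegral X] in
theorem isFrame_one : IsFrame (Coh.structureModule X) ⊤ (Groth.Agent.Helper4.GenLoc.one X ⊤) := by
  intro V h
  have h1 : (Coh.structureModule X).presheaf.map (homOfLE h).op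
      (Groth.Agent.Helper4.GenLoc.one X ⊤) = Groth.Agent.Helper4.GenLoc.one X V :=
    map_one (X.presheaf.map (homOfLE h).op).hom
  rw [h1]
  refine ⟨fun m => ⟨Groth.Agent.Helper4.GenLoc.toFn m,
    (mul_one (Groth.Agent.Helper4.GenLoc.toFn m)).symm⟩, fun r hr => ?_⟩
  have := Groth.Agent.Helper4.GenLoc.smul_one V r
  rw [hr] at this
  exact this.symm

/-- the unit rational section of the structure module has divisor zero -/
theorem isDiv_one : IsDiv pd (Coh.structureModule X)
    ((Coh.structureModule X).presheaf.germ ⊤ (genericPoint X) trivial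
      (Groth.Agent.Helper4.GenLoc.one X ⊤)) 0 := by
  intro x f
  have h := smul_mem_range_sp_iff pd isFrame_one x (trivial : x.1 ∈ (⊤ : X.Opens)) 1
    one_ne_zero f
  rw [one_smul, map_one, WithZero.log_one, neg_zero] at h
  exact h

/-- existence statement -/
def Ex (D : Divisor k X.functionField) : Prop :=
  ∃ (L : X.Modules) (t : L.presheaf.stalk (genericPoint X)), PicF.IsInvertible L ∧
    IsDiv pd L t D

theorem ex_zero : Ex pd 0 :=
  ⟨_, _, Groth.Agent.Helper4.TensorInv.isInvertible_structureModule, isDiv_one pd⟩

theorem ex_add (x : {x : X // IsClosed ({x} : Set X)}) (D : Divisor k X.functionField)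
    (hD : Ex pd D) : Ex pd (D + Finsupp.single (pd.pl x) 1) := by
  obtain ⟨L, t, hL, h⟩ := hD
  obtain ⟨L', t', hL', h', -, -⟩ := exists_up pd x L hL t _ h
  exact ⟨L', t', hL', h'⟩

theorem ex_sub (x : {x : X // IsClosed ({x} : Set X)}) (D : Divisor k X.functionField)
    (hD : Ex pd D) : Ex pd (D - Finsupp.single (pd.pl x) 1) := by
  obtain ⟨L, t, hL, h⟩ := hD
  obtain ⟨L', t', hL', h', -, -⟩ := exists_down pd x L hL t _ h
  exact ⟨L', t', hL', h'⟩

theorem ex_add_nat (x : {x : X // IsClosed ({x} : Set X)}) (D : Divisor k X.functionField)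
    (hD : Ex pd D) (n : ℕ) : Ex pd (D + Finsupp.single (pd.pl x) (n : ℤ)) := by
  induction n with
  | zero => simpa using hD
  | succ n ih =>
    have := ex_add pd x _ ih
    rw [add_assoc, ← Finsupp.single_add] at this
    exact_mod_cast this

theorem ex_sub_nat (x : {x : X // IsClosed ({x} : Set X)}) (D : Divisor k X.functionField)
    (hD : Ex pd D) (n : ℕ) : Ex pd (D + Finsupp.single (pd.pl x) (-(n : ℤ))) := by
  induction n with
  | zero => simpa using hD
  | succ n ih =>
    have := ex_sub pd x _ ih
    rw [sub_eq_add_neg, add_assoc, ← Finsupp.single_neg, ← Finsupp.single_add] at this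
    have h2 : (-(n : ℤ) + -1) = -((n + 1 : ℕ) : ℤ) := by push_cast; ring
    rw [h2] at this
    exact this

theorem ex_add_int (x : {x : X // IsClosed ({x} : Set X)}) (D : Divisor k X.functionField)
    (hD : Ex pd D) (n : ℤ) : Ex pd (D + Finsupp.single (pd.pl x) n) := by
  obtain ⟨m, rfl | rfl⟩ := Int.eq_nat_or_neg n
  · exact ex_add_nat pd x D hD m
  · exact ex_sub_nat pd x D hD m

/-- **every divisor is the divisor of a rational section of an invertible module** -/
theorem exists_isDiv_of_divisor (D : Divisor k X.functionField) :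
    ∃ (L : X.Modules) (t : L.presheaf.stalk (genericPoint X)), PicF.IsInvertible L ∧
      IsDiv pd L t D := by
  classical
  induction D using Finsupp.induction with
  | zero => exact ex_zero pd
  | single_add P n D _ _ ih =>
    obtain ⟨x, rfl⟩ := pd.pl.surjective P
    rw [add_comm]
    exact ex_add_int pd x D ih n

end Groth.Agent.Helper4.SN553
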