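import Mathlib
import Groth.Agent.Helper4.SN553
import Groth.Agent.Helper4.SN541

/-!
# The place dictionary of a smooth proper geometrically irreducible curve over a perfect field
-/

set_option autoImplicit false
set_option linter.style.haveILetI false
set_option linter.unusedSectionVars false
universe u
open CategoryTheory CategoryTheory.Limits AlgebraicGeometry TopologicalSpace Opposite FunFld
open scoped TensorProduct

namespace Groth.Agent.Helper4.SN554

open Groth.Agent.Helper4.SN550 Groth.Agent.Helper4.SN541

attribute [local instance] Curv2.stalkAlgebra Curv2.resAlgebra

variable (k : Type u) [Field k] (X : Scheme.{u}) [X.Over (Spec (CommRingCat.of k))]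
  [PerfectField k] [IsIntegral X] (hp : IsProper (X ↘ Spec (CommRingCat.of k)))
  (hs : Smooth (X ↘ Spec (CommRingCat.of k)))
  (hgi : GeometricallyIrreducible (X ↘ Spec (CommRingCat.of k)))
  (hdim : topologicalKrullDim X = 1)

/-- the place dictionary of a smooth proper geometrically irreducible curve -/
noncomputable def placeData : PlaceData k X where
  hp := hp
  hdim := hdim
  hK := isFunctionField k X hp hs hgi hdim
  pl := placeEquiv k X hp hs hgi hdim
  spec := fun x y => placeOf_spec k X hp hs hgi hdim x y
  deg := fun x => deg_placeOf k X hp hs hgi hdim x
  closed := fun x hx => isClosed_of_ne_genericPoint k X hp hs hdim x hx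
  normal := fun x hx => by
    haveI := isDVR_stalk k X hp hs hdim x hx
    infer_instance

end Groth.Agent.Helper4.SN554
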