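import Mathlib
import Groth.Agent.Helper4.SN553
import Groth.Agent.Helper6.FFZeta1

/-!
# Isomorphism classes of invertible modules of given degree on a curve and the divisor class
group of its function field
-/

set_option autoImplicit false
set_option linter.style.haveILetI false
set_option linter.unusedSectionVars false
universe u
open CategoryTheory CategoryTheory.Limits AlgebraicGeometry TopologicalSpace Opposite FunFld
open scoped TensorProduct

namespace Groth.Agent.Helper4.SN555

open Groth.Agent.Helper4.StalkDict Groth.Agent.Helper4.TwistExt Groth.Agent.Helper4.SN200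
  Groth.Agent.Helper4.SN549 Groth.Agent.Helper4.SN550 Groth.Agent.Helper4.SN551
  Groth.Agent.Helper4.SN552 Groth.Agent.Helper4.SN553
  Groth.Agent.Helper4.SN Groth.Agent.Lead.Ref1B

attribute [local instance] Curv2.stalkAlgebra Curv2.resAlgebra

theorem cl_eq_iff {Y : Scheme.{u}} (L M : Y.Modules) :
    PicF.cl L = PicF.cl M ↔ Nonempty (L ≅ M) := by
  constructor
  · intro h
    have h' := Quot.eqvGen_exact h
    clear h
    induction h' with
    | rel _ _ h => exact h
    | refl _ => exact ⟨Iso.refl _⟩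
    | symm _ _ _ ih => exact ⟨ih.some.symm⟩
    | trans _ _ _ _ _ ih1 ih2 => exact ⟨ih1.some ≪≫ ih2.some⟩
  · exact fun h => Quot.sound h

variable {k : Type u} [Field k] {X : Scheme.{u}} [X.Over (Spec (CommRingCat.of k))]
  [IsIntegral X] (pd : PlaceData k X)

omit [X.Over (Spec (CommRingCat.of k))] in
/-- an invertible module has a nonzero rational section, and every rational section is a multiple
of it -/
theorem exists_gen (L : X.Modules) (hL : PicF.IsInvertible L) :
    ∃ t : L.presheaf.stalk (genericPoint X), t ≠ 0 ∧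
      ∀ u : L.presheaf.stalk (genericPoint X), ∃ g : X.functionField, u = g • t := by
  obtain ⟨T, e, hηT, he⟩ := Groth.Agent.Helper4.SN242.exists_frame L hL (genericPoint X)
  refine ⟨L.presheaf.germ T (genericPoint X) hηT e, fun h0 => ?_, fun u => exists_smul_gen he hηT u⟩
  have := smul_gen_eq_zero he hηT 1 (by rw [one_smul]; exact h0)
  exact one_ne_zero this

/-- isomorphic invertible modules have linearly equivalent divisors -/
theorem sub_mem_prinDivs_of_iso {L L' : X.Modules} (α : L ≅ L') (hL' : PicF.IsInvertible L')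
    {t : L.presheaf.stalk (genericPoint X)} {t' : L'.presheaf.stalk (genericPoint X)}
    {D D' : Divisor k X.functionField} (h : IsDiv pd L t D) (h' : IsDiv pd L' t' D') :
    D - D' ∈ prinDivs k X.functionField := by
  have h1 := h.of_iso pd α
  obtain ⟨P0⟩ := Groth.Agent.Helper5.FF.nonempty_place pd.hK
  obtain ⟨x, -⟩ := pd.pl.surjective P0
  have ht0 := IsDiv.ne_zero pd h1 x
  have ht'0 := IsDiv.ne_zero pd h' x
  obtain ⟨e, he0, he⟩ := exists_gen L' hL'
  obtain ⟨a, ha⟩ := he (stalkLin α.hom (genericPoint X) t)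
  obtain ⟨b, hb⟩ := he t'
  have hb0 : b ≠ 0 := by
    intro hb0
    rw [hb0, zero_smul] at hb
    exact ht'0 hb
  have ha0 : a ≠ 0 := by
    intro ha0
    rw [ha0, zero_smul] at ha
    exact ht0 ha
  have hg : stalkLin α.hom (genericPoint X) t = (a * b⁻¹) • t' := by
    rw [ha, hb, smul_smul, mul_assoc, inv_mul_cancel₀ hb0, mul_one]
  have h2 := h'.smul pd (a * b⁻¹) (mul_ne_zero ha0 (inv_ne_zero hb0))
  rw [← hg] at h2
  have h3 : D = D' + FunFld.div k (a * b⁻¹) := isDiv_unique pd h1 h2
  rw [Groth.Agent.Helper6.FFZeta.mem_prinDivs_iff pd.hK]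
  exact ⟨a * b⁻¹, mul_ne_zero ha0 (inv_ne_zero hb0), by rw [h3, add_sub_cancel_left]⟩

/-- invertible modules with linearly equivalent divisors are isomorphic -/
theorem nonempty_iso_of_sub_mem {L L' : X.Modules} (hL : PicF.IsInvertible L)
    (hL' : PicF.IsInvertible L')
    {t : L.presheaf.stalk (genericPoint X)} {t' : L'.presheaf.stalk (genericPoint X)}
    {D D' : Divisor k X.functionField} (h : IsDiv pd L t D) (h' : IsDiv pd L' t' D')
    (hDD' : D - D' ∈ prinDivs k X.functionField) : Nonempty (L ≅ L') := by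
  rw [Groth.Agent.Helper6.FFZeta.mem_prinDivs_iff pd.hK] at hDD'
  obtain ⟨g, hg0, hg⟩ := hDD'
  have h2 := h'.smul pd g hg0
  rw [← hg, add_sub_cancel] at h2
  exact nonempty_iso_of_isDiv pd L L' hL hL' t _ D h h2

variable (k X) in
/-- isomorphism classes of invertible modules of degree `m` -/
abbrev PicDeg (m : ℤ) : Type (u + 1) :=
  {c : PicF.Cl X // ∃ L : X.Modules, PicF.cl L = c ∧ PicF.IsInvertible L ∧
    Curv2.deg k X L 1 = m}

theorem exists_data (m : ℤ) (c : PicDeg k X m) :
    ∃ (L : X.Modules) (t : L.presheaf.stalk (genericPoint X)) (D : Divisor k X.functionField),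
      PicF.cl L = c.1 ∧ PicF.IsInvertible L ∧ IsDiv pd L t D ∧ D.deg = m := by
  obtain ⟨L, hcl, hL, hdeg⟩ := c.2
  obtain ⟨t, ht0, -⟩ := exists_gen L hL
  obtain ⟨D, hD⟩ := exists_isDiv pd L hL t ht0
  exact ⟨L, t, D, hcl, hL, hD, by rw [← deg_eq_of_isDiv pd L hL t D hD, hdeg]⟩

include pd in
/-- **the isomorphism classes of invertible modules of degree `m` are in bijection with the
divisor classes of degree zero**, as soon as there is a divisor of degree `m` -/
theorem exists_bijective (m : ℤ) (D₀ : Divisor k X.functionField) (h₀ : D₀.deg = m) :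
    ∃ Φ : PicDeg k X m → Groth.Agent.Helper6.FFZeta.Pic0 k X.functionField,
      Function.Bijective Φ := by
  choose L t D hcl hL hD hdeg using exists_data pd m
  have hker : ∀ c, D c - D₀ ∈ (FunFld.degHom k X.functionField).ker := by
    intro c
    rw [AddMonoidHom.mem_ker, Groth.Agent.Helper6.FFZeta.degHom_apply', deg_sub, hdeg, h₀,
      sub_self]
  refine ⟨fun c => QuotientAddGroup.mk ⟨D c - D₀, hker c⟩, ?_, ?_⟩
  · intro c c' hcc'
    rw [Groth.Agent.Helper6.FFZeta.mk_eq_mk_iff] at hcc'
    have h1 : D c - D c' ∈ prinDivs k X.functionField := by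
      have : D c - D₀ - (D c' - D₀) = D c - D c' := by abel
      rw [← this]
      exact hcc'
    obtain ⟨e⟩ := nonempty_iso_of_sub_mem pd (hL c) (hL c') (hD c) (hD c') h1
    apply Subtype.ext
    rw [← hcl c, ← hcl c']
    exact (cl_eq_iff _ _).2 ⟨e⟩
  · intro y
    obtain ⟨⟨E, hE⟩, rfl⟩ := QuotientAddGroup.mk_surjective y
    obtain ⟨M, u, hM, hu⟩ := exists_isDiv_of_divisor pd (E + D₀)
    have hdegM : Curv2.deg k X M 1 = m := by
      rw [deg_eq_of_isDiv pd M hM u _ hu, deg_add, h₀]
      rw [AddMonoidHom.mem_ker, Groth.Agent.Helper6.FFZeta.degHom_apply'] at hE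
      rw [hE, zero_add]
    refine ⟨⟨PicF.cl M, M, rfl, hM, hdegM⟩, ?_⟩
    rw [Groth.Agent.Helper6.FFZeta.mk_eq_mk_iff]
    obtain ⟨e⟩ := (cl_eq_iff _ _).1 (hcl ⟨PicF.cl M, M, rfl, hM, hdegM⟩)
    have h1 := sub_mem_prinDivs_of_iso pd e hM (hD ⟨PicF.cl M, M, rfl, hM, hdegM⟩) hu
    have : D ⟨PicF.cl M, M, rfl, hM, hdegM⟩ - D₀ - E =
        D ⟨PicF.cl M, M, rfl, hM, hdegM⟩ - (E + D₀) := by abel
    rw [this]
    exact h1

end Groth.Agent.Helper4.SN555
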