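import Mathlib
import Groth.Agent.Helper4.SN555
import Groth.Agent.Helper4.SN554
import Groth.Agent.Helper4.SN543
import Groth.Agent.Helper4.SN548
import Groth.Agent.Helper8.ZPtsB
import Groth.Agent.Helper8.ZMul
import Groth.Agent.Helper8.ZAlg
import Groth.Agent.Helper6.FFZeta9
import Groth.Agent.Helper6.FFZeta6

/-!
# The zeta function of a curve over a finite field is the zeta function of its function field
-/

set_option autoImplicit false
set_option linter.style.haveILetI false
set_option linter.unusedSectionVars false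
universe u
open CategoryTheory CategoryTheory.Limits AlgebraicGeometry TopologicalSpace Opposite FunFld
open scoped TensorProduct

namespace Groth.Agent.Helper4.SN556

open Groth.Agent.Helper4.SN541 Groth.Agent.Helper6.FFZeta Groth.Agent.Helper6.LogDeriv

attribute [local instance] Curv2.stalkAlgebra Curv2.resAlgebra

section FF

variable {k K : Type*} [Field k] [Field K] [Algebra k K]

/-- the logarithmic derivative of the zeta series of a function field -/
theorem hasLD_zetaZ [Finite k] (hK : IsFunctionField k K) :
    HasLD (PowerSeries.map (Int.castRingHom ℚ) (zetaZ k K))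
      (PowerSeries.mk fun m => (Ns k K (m + 1) : ℚ)) := by
  unfold HasLD
  ext n
  rw [PowerSeries.coeff_derivative, PowerSeries.coeff_map, PowerSeries.coeff_mul,
    Finset.Nat.sum_antidiagonal_eq_sum_range_succ_mk]
  have hrec := congrArg (Int.cast : ℤ → ℚ) (recursion hK (n + 1))
  push_cast at hrec
  have hz : ∀ m, PowerSeries.coeff m (zetaZ k K) = (effDivCount k K m : ℤ) := by
    intro m
    unfold zetaZ
    rw [PowerSeries.coeff_mk]
  rw [hz, eq_intCast, Int.cast_natCast, mul_comm, hrec]
  rw [← Finset.sum_flip]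
  apply Finset.sum_congr rfl
  intro s hs
  rw [Finset.mem_range] at hs
  rw [PowerSeries.coeff_map, hz, PowerSeries.coeff_mk, eq_intCast, Int.cast_natCast]
  have h2 : n - (n - s) = s := by omega
  dsimp only
  rw [h2, mul_comm]

theorem constantCoeff_zetaZ (hK : IsFunctionField k K) :
    PowerSeries.constantCoeff (PowerSeries.map (Int.castRingHom ℚ) (zetaZ k K)) = 1 := by
  rw [← PowerSeries.coeff_zero_eq_constantCoeff_apply, PowerSeries.coeff_map]
  unfold zetaZ
  rw [PowerSeries.coeff_mk, effDivCount_zero hK]
  simp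

end FF

variable (k : Type u) [Field k] (X : Scheme.{u}) [X.Over (Spec (CommRingCat.of k))]
  [Finite k] [IsIntegral X] (hp : IsProper (X ↘ Spec (CommRingCat.of k)))
  (hs : Smooth (X ↘ Spec (CommRingCat.of k)))
  (hgi : GeometricallyIrreducible (X ↘ Spec (CommRingCat.of k)))
  (hdim : topologicalKrullDim X = 1)
include hp hs hgi hdim

/-- the number of points of degree dividing `m` -/
theorem nPts_eq_Ns (m : ℕ) (hm : 1 ≤ m) :
    Zeta.nPts (X ↘ Spec (CommRingCat.of k)) m = Ns k X.functionField m := by
  obtain ⟨L, _, _, _, hL⟩ := Groth.Agent.Helper8.ZMul.exists_extension k m hm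
  haveI : FiniteDimensional k L := Module.Finite.of_finite
  rw [← hL, ← Groth.Agent.Helper8.ZPts.pointCount_eq_nPts,
    Groth.Agent.Helper4.SN543.pointCount_eq_Ns k X L hp hs hgi hdim]

/-- **the zeta function of the curve is the zeta function of its function field** -/
theorem zetaFun_eq :
    Zeta.zetaFun (X ↘ Spec (CommRingCat.of k)) =
      PowerSeries.map (Int.castRingHom ℚ) (zetaZ k X.functionField) := by
  have hK := isFunctionField k X hp hs hgi hdim
  have h1 := Groth.Agent.Helper8.ZAlg.hasLD_zeta (K := ℚ) (X ↘ Spec (CommRingCat.of k))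
  have h2 := Groth.Agent.Helper8.ZAlg.constantCoeff_zeta (K := ℚ) (X ↘ Spec (CommRingCat.of k))
  have hid : ∀ (φ : ℚ →+* ℚ) (A : PowerSeries ℚ), PowerSeries.map φ A = A := by
    intro φ A
    obtain rfl : φ = RingHom.id ℚ := Subsingleton.elim _ _
    ext n
    rw [PowerSeries.coeff_map]
    rfl
  rw [hid] at h1 h2
  have h3 : (PowerSeries.mk fun m => (Zeta.nPts (X ↘ Spec (CommRingCat.of k)) (m + 1) : ℚ)) =
      PowerSeries.mk fun m => (Ns k X.functionField (m + 1) : ℚ) := by
    ext m
    rw [PowerSeries.coeff_mk, PowerSeries.coeff_mk, nPts_eq_Ns k X hp hs hgi hdim (m + 1) (by omega)]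
  rw [h3] at h1
  exact eq_of_HasLD h1 (hasLD_zetaZ hK) (h2.trans (constantCoeff_zetaZ hK).symm)

end Groth.Agent.Helper4.SN556
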