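import Mathlib
import Groth.Agent.Helper4.SN541
import Groth.Agent.Helper4.SN553
import Groth.Agent.Helper4.SN90

/-!
# The place dictionary of a normal proper curve whose function field has no new constants
-/

set_option autoImplicit false
set_option linter.style.haveILetI false
set_option linter.unusedSectionVars false
universe u
open CategoryTheory CategoryTheory.Limits AlgebraicGeometry TensorProduct FunFld

namespace Groth.Agent.Helper4.SN557

open Groth.Agent.Helper4.SN539 Groth.Agent.Helper4.SN540 Groth.Agent.Helper4.SN550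
open Groth.Agent.Helper4.SN541 (finrank_residueField_eq_of_ringEquiv algebraMap_stalkMap
  finite_residueField)

attribute [local instance] Curv2.stalkAlgebra Curv2.resAlgebra

variable (k : Type u) [Field k] (X : Scheme.{u}) [X.Over (Spec (CommRingCat.of k))]
  [IsIntegral X] (hp : IsProper (X ↘ Spec (CommRingCat.of k)))
  (hdim : topologicalKrullDim X = 1)
  (hnorm : ∀ x : X, IsIntegrallyClosed (X.presheaf.stalk x))
  (hK : IsFunctionField k X.functionField)
include hp hdim hnorm hK

theorem dim_stalk (x : X) (hx : IsClosed ({x} : Set X)) :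
    ringKrullDim (X.presheaf.stalk x) = 1 := by
  have hle : ringKrullDim (X.presheaf.stalk x) ≤ 1 :=
    (Groth.Agent.Lead.RegDimOne.ringKrullDim_stalk_le_dim X x).trans hdim.le
  have hne := Groth.Agent.Helper4.SN.ne_genericPoint_of_isClosed hdim x hx
  have hbot := Groth.Agent.Helper4.SN.maximalIdeal_ne_bot_of_ne_genericPoint x hne
  have hnf : ¬ IsField (X.presheaf.stalk x) := fun h =>
    hbot (IsLocalRing.isField_iff_maximalIdeal_eq.1 h)
  apply le_antisymm hle
  by_contra hcon
  have h0 : ringKrullDim (X.presheaf.stalk x) ≤ 0 := by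
    have h1 : ringKrullDim (X.presheaf.stalk x) < 1 := lt_of_not_ge hcon
    cases h : ringKrullDim (X.presheaf.stalk x) with
    | bot => exact bot_le
    | coe n =>
      rw [h] at h1
      have h2 : (n : WithBot ℕ∞) < ((1 : ℕ∞) : WithBot ℕ∞) := h1
      rw [WithBot.coe_lt_coe, Order.lt_one_iff] at h2
      rw [h2]
      rfl
  haveI : Ring.KrullDimLE 0 (X.presheaf.stalk x) := Ring.krullDimLE_iff.2 h0
  exact hnf Ring.KrullDimLE.isField_of_isDomain

theorem isNormalScheme : Pi1.IsNormalScheme X := fun x => ⟨inferInstance, hnorm x⟩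

theorem ne_genericPoint_of_isClosed (x : X) (hx : IsClosed ({x} : Set X)) :
    x ≠ genericPoint X :=
  Groth.Agent.Helper4.SN.ne_genericPoint_of_isClosed hdim x hx

theorem isClosed_of_ne_genericPoint (x : X) (hx : x ≠ genericPoint X) :
    IsClosed ({x} : Set X) := by
  haveI : JacobsonSpace X := LocallyOfFiniteType.jacobsonSpace (X ↘ (Spec (CommRingCat.of k)))
  exact Groth.Agent.Helper5.CurveVal.isClosed_of_ne_genericPoint (dim_stalk k X hp hdim hnorm hK) x hx

/-- the place attached to a closed point -/
theorem exists_place (x : X) (hx : IsClosed ({x} : Set X)) :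
    ∃ P : Place k X.functionField, ∀ y : X.functionField,
      P.1 y ≤ 1 ↔ y ∈ Set.range (algebraMap (X.presheaf.stalk x) X.functionField) := by
  obtain ⟨R, hRtop, hR⟩ := (Groth.Agent.S4451.result k X (dim_stalk k X hp hdim hnorm hK)
    (isNormalScheme k X hp hdim hnorm hK)).1 x (ne_genericPoint_of_isClosed k X hp hdim hnorm hK x hx)
  have hmem : ∀ y, y ∈ R ↔ y ∈ Set.range (algebraMap (X.presheaf.stalk x) X.functionField) := by
    intro y
    rw [← hR]; rfl
  have hk : ∀ c : k, algebraMap k X.functionField c ∈ R := by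
    intro c
    rw [hmem]
    exact ⟨_, algebraMap_stalkMap k X x c⟩
  obtain ⟨z, hz⟩ : ∃ z, z ∉ R := by
    by_contra hcon
    push Not at hcon
    exact hRtop (eq_top_iff.2 fun y _ => hcon y)
  have hz0 : z ≠ 0 := by
    rintro rfl
    exact hz (zero_mem _)
  have hinv : ∀ y : X.functionField, y ∉ R → R.valuation y⁻¹ < 1 := by
    intro y hy
    have h1 : ¬ R.valuation y ≤ 1 := fun h => hy ((R.valuation_le_one_iff _).1 h)
    have h2 : 1 < R.valuation y := lt_of_not_ge h1
    rw [map_inv₀]
    exact inv_lt_one_of_one_lt₀ h2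
  obtain ⟨P, hP1, hP2⟩ := Groth.Agent.Helper5.FF.exists_place_of_valuationSubring hK R hk
    (inv_ne_zero hz0) (hinv z hz)
  refine ⟨P, fun y => ⟨fun hy => ?_, fun hy => hP1 y ((hmem y).2 hy)⟩⟩
  rw [← hmem]
  by_contra hny
  have h1 := hP2 _ (hinv y hny)
  have hy0 : y ≠ 0 := by
    rintro rfl
    exact hny (zero_mem _)
  rw [map_inv₀] at h1
  have h2 : 1 < P.1 y := by
    by_contra hcon
    push Not at hcon
    have hpos : 0 < P.1 y := zero_lt_iff.2 (P.1.ne_zero_iff.2 hy0)
    exact absurd h1 (not_lt.2 ((one_le_inv₀ hpos).2 hcon))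
  exact absurd hy (not_le.2 h2)

/-- the place attached to a closed point -/
noncomputable def placeOf (x : {x : X // IsClosed ({x} : Set X)}) : Place k X.functionField :=
  Classical.choose (exists_place k X hp hdim hnorm hK x.1 x.2)

theorem placeOf_spec (x : {x : X // IsClosed ({x} : Set X)}) (y : X.functionField) :
    (placeOf k X hp hdim hnorm hK x).1 y ≤ 1 ↔
      y ∈ Set.range (algebraMap (X.presheaf.stalk x.1) X.functionField) :=
  Classical.choose_spec (exists_place k X hp hdim hnorm hK x.1 x.2) y

theorem placeOf_injective :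
    Function.Injective (placeOf k X hp hdim hnorm hK) := by
  intro x x' hxx'
  obtain ⟨R, hRtop, hR⟩ := (Groth.Agent.S4451.result k X (dim_stalk k X hp hdim hnorm hK)
    (isNormalScheme k X hp hdim hnorm hK)).1 x.1 (ne_genericPoint_of_isClosed k X hp hdim hnorm hK x.1 x.2)
  have hk : ∀ c : k, algebraMap k X.functionField c ∈ R := by
    intro c
    have : algebraMap k X.functionField c ∈ (R : Set X.functionField) := by
      rw [hR]
      exact ⟨_, algebraMap_stalkMap k X x.1 c⟩
    exact this
  obtain ⟨x₀, -, huniq⟩ := (Groth.Agent.S4451.result k X (dim_stalk k X hp hdim hnorm hK)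
    (isNormalScheme k X hp hdim hnorm hK)).2 R hRtop hk
  have h1 := huniq x.1 hR
  have h2 : (R : Set X.functionField) =
      Set.range (algebraMap (X.presheaf.stalk x'.1) X.functionField) := by
    rw [hR]
    ext y
    rw [← placeOf_spec k X hp hdim hnorm hK x y, ← placeOf_spec k X hp hdim hnorm hK x' y, hxx']
  have h3 := huniq x'.1 h2
  exact Subtype.ext (h1.trans h3.symm)

theorem placeOf_surjective :
    Function.Surjective (placeOf k X hp hdim hnorm hK) := by
  intro P
  have hRtop : P.1.valuationSubring ≠ ⊤ := by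
    intro h
    obtain ⟨z, hz⟩ := P.2.2 (WithZero.exp 1)
    have : z ∈ P.1.valuationSubring := by rw [h]; trivial
    rw [Valuation.mem_valuationSubring_iff, hz] at this
    have h2 : (WithZero.exp (1 : ℤ) : WithZero (Multiplicative ℤ)) ≤ WithZero.exp 0 := this
    rw [WithZero.exp_le_exp] at h2
    omega
  have hk : ∀ c : k, algebraMap k X.functionField c ∈ P.1.valuationSubring := fun c => P.2.1 c
  obtain ⟨x₀, hx₀, -⟩ := (Groth.Agent.S4451.result k X (dim_stalk k X hp hdim hnorm hK)
    (isNormalScheme k X hp hdim hnorm hK)).2 _ hRtop hk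
  have hne : x₀ ≠ genericPoint X := by
    intro h
    subst h
    apply hRtop
    rw [eq_top_iff]
    intro y _
    have : y ∈ (P.1.valuationSubring : Set X.functionField) := by
      rw [hx₀]
      refine ⟨y, ?_⟩
      change (X.presheaf.stalkSpecializes _).hom y = y
      rw [TopCat.Presheaf.stalkSpecializes_refl]
      rfl
    exact this
  have hcl := isClosed_of_ne_genericPoint k X hp hdim hnorm hK x₀ hne
  refine ⟨⟨x₀, hcl⟩, ?_⟩
  apply Groth.Agent.Helper5.FF.eq_of_O_le
  intro y hy
  rw [placeOf_spec] at hy
  have : y ∈ (P.1.valuationSubring : Set X.functionField) := by rw [hx₀]; exact hy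
  exact this

/-- closed points correspond bijectively to places -/
noncomputable def placeEquiv :
    {x : X // IsClosed ({x} : Set X)} ≃ Place k X.functionField :=
  Equiv.ofBijective (placeOf k X hp hdim hnorm hK)
    ⟨placeOf_injective k X hp hdim hnorm hK, placeOf_surjective k X hp hdim hnorm hK⟩

theorem deg_placeOf (x : {x : X // IsClosed ({x} : Set X)}) :
    (placeOf k X hp hdim hnorm hK x).deg = Module.finrank k (X.residueField x.1) := by
  set P := placeOf k X hp hdim hnorm hK x with hP
  have hmem : ∀ a : X.presheaf.stalk x.1,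
      algebraMap (X.presheaf.stalk x.1) X.functionField a ∈ P.O.toSubring := by
    intro a
    exact (placeOf_spec k X hp hdim hnorm hK x _).2 ⟨a, rfl⟩
  let f : X.presheaf.stalk x.1 →+* P.O :=
    (algebraMap (X.presheaf.stalk x.1) X.functionField).codRestrict P.O.toSubring hmem
  have hf : Function.Bijective f := by
    constructor
    · intro a b hab
      have := congrArg Subtype.val hab
      exact IsFractionRing.injective (X.presheaf.stalk x.1) X.functionField this
    · rintro ⟨y, hy⟩
      obtain ⟨a, ha⟩ := (placeOf_spec k X hp hdim hnorm hK x y).1 hy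
      exact ⟨a, Subtype.ext ha⟩
  let e : X.presheaf.stalk x.1 ≃+* P.O := RingEquiv.ofBijective f hf
  have he : ∀ c : k, e (Curv2.stalkMap k X x.1 c) = algebraMap k P.O c := by
    intro c
    exact Subtype.ext (algebraMap_stalkMap k X x.1 c)
  exact (finrank_residueField_eq_of_ringEquiv (Curv2.stalkMap k X x.1) (algebraMap k P.O) e
    he).symm


/-- **the place dictionary of a normal proper curve** -/
noncomputable def placeData : PlaceData k X where
  hp := hp
  hdim := hdim
  hK := hK
  pl := placeEquiv k X hp hdim hnorm hK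
  spec := fun x y => placeOf_spec k X hp hdim hnorm hK x y
  deg := fun x => deg_placeOf k X hp hdim hnorm hK x
  closed := fun x hx => isClosed_of_ne_genericPoint k X hp hdim hnorm hK x hx
  normal := fun x _ => hnorm x

end Groth.Agent.Helper4.SN557
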