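import Mathlib
import Groth.Agent.Helper4.SN540
import Groth.Agent.Helper4.SN40
import Groth.Agent.Helper4.RegNormal

/-!
# The function field of a smooth geometrically irreducible integral scheme has no new constants
(over an arbitrary base field)
-/

set_option autoImplicit false
set_option linter.style.haveILetI false
universe u
open CategoryTheory CategoryTheory.Limits AlgebraicGeometry TensorProduct

namespace Groth.Agent.Helper4.SN558

open Groth.Agent.Helper4.SN539 Groth.Agent.Helper4.SN540

attribute [local instance] Curv2.stalkAlgebra Curv2.resAlgebra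

/-- a finite extension `L` of `k` which embeds into a `k`-algebra `A` with `A ⊗ L` a domain is
trivial -/
theorem finrank_eq_one_of_isDomain {k A L : Type*} [Field k] [CommRing A] [Nontrivial A]
    [Algebra k A] [Field L] [Algebra k L] [FiniteDimensional k L]
    (ι : L →ₐ[k] A) (hdom : IsDomain (A ⊗[k] L)) :
    Module.finrank k L = 1 := by
  let Φ : L ⊗[k] L →ₐ[k] A ⊗[k] L := Algebra.TensorProduct.map ι (AlgHom.id k L)
  have hΦinj : Function.Injective Φ := by
    have h1 : Function.Injective (LinearMap.rTensor L ι.toLinearMap) :=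
      Module.Flat.rTensor_preserves_injective_linearMap _ ι.toRingHom.injective
    intro x y hxy
    apply h1
    exact hxy
  haveI : IsDomain (L ⊗[k] L) := hΦinj.isDomain Φ.toRingHom
  haveI : IsArtinianRing (L ⊗[k] L) := by
    haveI : Module.Finite k (L ⊗[k] L) := inferInstance
    exact IsArtinianRing.of_finite k (L ⊗[k] L)
  have hF : IsField (L ⊗[k] L) := IsArtinianRing.isField_of_isDomain (L ⊗[k] L)
  letI := hF.toField
  have hinj : Function.Injective (Algebra.TensorProduct.lmul' k (S := L)) :=
    (Algebra.TensorProduct.lmul' k (S := L)).toRingHom.injective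
  have hle := LinearMap.finrank_le_finrank_of_injective
    (f := (Algebra.TensorProduct.lmul' k (S := L)).toLinearMap) hinj
  rw [Module.finrank_tensorProduct] at hle
  have hn : 0 < Module.finrank k L := Module.finrank_pos
  nlinarith

variable (k : Type u) [Field k] (X : Scheme.{u}) [X.Over (Spec (CommRingCat.of k))]

/-- the sections of a smooth `k`-scheme over an affine open stay reduced after every field
extension -/
theorem isReduced_tensor [Smooth (X ↘ Spec (CommRingCat.of k))]
    (U : X.Opens) (hU : IsAffineOpen U) (L : Type u) [Field L] [Algebra k L] :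
    letI := secAlgebra k X U
    IsReduced (Γ(X, U) ⊗[k] L) := by
  letI := secAlgebra k X U
  have hsm : Smooth (hU.fromSpec ≫ (X ↘ Spec (CommRingCat.of k))) := inferInstance
  rw [fromSpec_comp] at hsm
  have hpo := CommRingCat.isPushout_tensorProduct k Γ(X, U) L
  have hpb := isPullback_SpecMap_of_isPushout _ _ _ _ hpo
  have hsm' : Smooth (Spec.map (CommRingCat.ofHom (S := Γ(X, U) ⊗[k] L)
      (Algebra.TensorProduct.includeRight (R := k) (A := Γ(X, U)) (B := L)).toRingHom)) :=
    MorphismProperty.of_isPullback hpb hsm
  let Y : Scheme.{u} := Spec (CommRingCat.of (Γ(X, U) ⊗[k] L))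
  letI : Y.Over (Spec (CommRingCat.of L)) := ⟨Spec.map (CommRingCat.ofHom (S := Γ(X, U) ⊗[k] L)
      (Algebra.TensorProduct.includeRight (R := k) (A := Γ(X, U)) (B := L)).toRingHom)⟩
  haveI : Smooth (Y ↘ Spec (CommRingCat.of L)) := hsm'
  haveI : ∀ y : Y, _root_.IsReduced (Y.presheaf.stalk y) := by
    intro y
    haveI := Groth.Agent.Helper4.SN.regular_of_smooth L (X := Y) y
    haveI : IsDomain (Y.presheaf.stalk y) :=
      Groth.Agent.Lead.RegLocal.isDomain_of_isRegularLocalRing _
    infer_instance
  haveI : AlgebraicGeometry.IsReduced Y := isReduced_of_isReduced_stalk Y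
  exact (affine_isReduced_iff _).1 ‹_›

open scoped IntermediateField in
/-- **No new constants**: if `X` is integral, smooth and geometrically irreducible over the field
`k`, every element of the function field algebraic over `k` lies in `k`. -/
theorem mem_range_of_isAlgebraic [IsIntegral X]
    [GeometricallyIrreducible (X ↘ Spec (CommRingCat.of k))]
    [Smooth (X ↘ Spec (CommRingCat.of k))]
    (y : X.functionField) (hy : IsAlgebraic k y) :
    y ∈ Set.range (algebraMap k X.functionField) := by
  obtain ⟨U₀, hU₀, y₀, hy₀⟩ := X.presheaf.exists_germ_eq y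
  obtain ⟨_, ⟨A, hA, rfl⟩, hxA, hAU⟩ :=
    X.isBasis_affineOpens.exists_subset_of_mem_open hU₀ U₀.isOpen
  haveI : Nonempty A := ⟨⟨_, hxA⟩⟩
  set y' : Γ(X, A) := X.presheaf.map (homOfLE hAU).op y₀ with hy'
  have hgerm : X.presheaf.germ A (genericPoint X) hxA y' = y := by
    rw [← hy₀, hy']
    exact X.presheaf.germ_res_apply (homOfLE hAU) (genericPoint X) hxA y₀
  letI := secAlgebra k X A
  haveI : IsScalarTower k Γ(X, A) X.functionField := by
    apply IsScalarTower.of_algebraMap_eq
    intro c
    exact (germ_secHom k X A (genericPoint X) hxA c).symm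
  let φ : Γ(X, A) →ₐ[k] X.functionField := IsScalarTower.toAlgHom k Γ(X, A) X.functionField
  have hφ : ∀ a, φ a = X.presheaf.germ A (genericPoint X) hxA a := fun a => rfl
  have hφinj : Function.Injective φ := germ_injective_of_isIntegral X (genericPoint X) hxA
  haveI hint : IsIntegral k y := hy.isIntegral
  let L : IntermediateField k X.functionField := k⟮y⟯
  haveI : FiniteDimensional k L := IntermediateField.adjoin.finiteDimensional hint
  have hle : L.toSubalgebra ≤ φ.range := by
    rw [IntermediateField.adjoin_simple_toSubalgebra_of_isAlgebraic hy, Algebra.adjoin_le_iff]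
    rintro _ rfl
    exact ⟨y', hgerm⟩
  let ι : L →ₐ[k] Γ(X, A) :=
    ((AlgEquiv.ofInjective φ hφinj).symm.toAlgHom).comp (Subalgebra.inclusion hle)
  haveI : IsDomain Γ(X, A) := inferInstance
  have hirr := irreducibleSpace_tensor k X A hA L
  have hred := isReduced_tensor k X A hA L
  have hprime := (PrimeSpectrum.irreducibleSpace_iff_isPrime_nilradical).1 hirr
  have hdom : IsDomain (Γ(X, A) ⊗[k] L) := by
    rw [nilradical_eq_zero] at hprime
    exact @IsDomain.of_bot_isPrime (Γ(X, A) ⊗[k] L) _ hprime
  have h1 := finrank_eq_one_of_isDomain ι hdom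
  have h2 := IntermediateField.finrank_adjoin_simple_eq_one_iff.1 h1
  rw [IntermediateField.mem_bot] at h2
  exact h2

end Groth.Agent.Helper4.SN558
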