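import Mathlib
import Groth.Agent.Helper4.SN555
import Groth.Agent.Helper4.SN83

/-!
# Global sections of an invertible module on a curve and the Riemann–Roch space of the divisor of
a rational section
-/

set_option autoImplicit false
set_option linter.style.haveILetI false
set_option linter.unusedSectionVars false
universe u
open CategoryTheory CategoryTheory.Limits AlgebraicGeometry TopologicalSpace Opposite FunFld
open scoped TensorProduct

namespace Groth.Agent.Helper4.SN559

open Groth.Agent.Helper4.StalkDict Groth.Agent.Helper4.TwistExt Groth.Agent.Helper4.SN200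
  Groth.Agent.Helper4.SN549 Groth.Agent.Helper4.SN550 Groth.Agent.Helper4.SN551
  Groth.Agent.Helper4.SN552 Groth.Agent.Helper4.SN553 Groth.Agent.Helper4.SN555
  Groth.Agent.Helper4.SN Groth.Agent.Lead.Ref1B

attribute [local instance] Curv2.stalkAlgebra Curv2.resAlgebra

variable {k : Type u} [Field k] {X : Scheme.{u}} [X.Over (Spec (CommRingCat.of k))]
  [IsIntegral X]

omit [X.Over (Spec (CommRingCat.of k))] in
/-- scalar multiplication on a nonzero rational section of an invertible module is injective -/
theorem smul_cancel (L : X.Modules) (hL : PicF.IsInvertible L)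
    (t : L.presheaf.stalk (genericPoint X)) (ht : t ≠ 0) (f f' : X.functionField)
    (h : f • t = f' • t) : f = f' := by
  obtain ⟨T, e, hηT, he⟩ := Groth.Agent.Helper4.SN242.exists_frame L hL (genericPoint X)
  obtain ⟨g, hg⟩ := exists_smul_gen he hηT t
  have hg0 : g ≠ 0 := by
    rintro rfl
    rw [zero_smul] at hg
    exact ht hg
  have h1 : ((f - f') * g) • L.presheaf.germ T (genericPoint X) hηT e = 0 := by
    rw [mul_smul, ← hg, sub_smul, h, sub_self]
  have h2 := smul_gen_eq_zero he hηT _ h1
  rcases mul_eq_zero.1 h2 with h3 | h3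
  · exact sub_eq_zero.1 h3
  · exact absurd h3 hg0

omit [X.Over (Spec (CommRingCat.of k))] in
/-- the specialisation map at the generic point is the identity -/
theorem sp_genericPoint (L : X.Modules) (t : L.presheaf.stalk (genericPoint X)) :
    sp L (genericPoint X) t = t := by
  obtain ⟨U, hU, s, rfl⟩ := TopCat.Presheaf.exists_germ_eq L.presheaf t
  rw [sp_germ]

/-- the germ at the generic point of a scalar multiple of a global section -/
theorem germ_smul_const (L : X.Modules) (c : k) (s : LinSer.Sect X L) :
    letI := sectModule k L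
    L.presheaf.germ ⊤ (genericPoint X) trivial (c • s) =
      (algebraMap k X.functionField c) • L.presheaf.germ ⊤ (genericPoint X) trivial s := by
  letI := sectModule k L
  exact germ_smul L ⊤ (genericPoint X) (show genericPoint X ∈ (⊤ : X.Opens) from trivial)
    (Coh.toGlobal (X ↘ Spec (CommRingCat.of k)) c : Γ(X, ⊤)) (s : Γ(L, ⊤))

variable (pd : PlaceData k X)

/-- **`H⁰(X, L) ≃ L(D)`** for the divisor `D` of a rational section of `L` -/
theorem exists_linearEquiv (L : X.Modules) (hL : PicF.IsInvertible L)
    (t : L.presheaf.stalk (genericPoint X)) (D : Divisor k X.functionField)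
    (h : IsDiv pd L t D) :
    letI := sectModule k L
    Nonempty (LinSer.Sect X L ≃ₗ[k] FunFld.L D) := by
  letI := sectModule k L
  obtain ⟨P0⟩ := Groth.Agent.Helper5.FF.nonempty_place pd.hK
  obtain ⟨x0, -⟩ := pd.pl.surjective P0
  have ht0 : t ≠ 0 := IsDiv.ne_zero pd h x0
  obtain ⟨e, he0, he⟩ := exists_gen L hL
  -- every rational section is a multiple of `t`
  have hmul : ∀ u : L.presheaf.stalk (genericPoint X), ∃ f : X.functionField, u = f • t := by
    intro u
    obtain ⟨a, ha⟩ := he u
    obtain ⟨b, hb⟩ := he t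
    have hb0 : b ≠ 0 := by
      rintro rfl
      rw [zero_smul] at hb
      exact ht0 hb
    exact ⟨a * b⁻¹, by rw [ha, hb, smul_smul, mul_assoc, inv_mul_cancel₀ hb0, mul_one]⟩
  choose F hF using fun s : LinSer.Sect X L =>
    hmul (L.presheaf.germ ⊤ (genericPoint X) trivial s)
  have hmem : ∀ s, F s ∈ FunFld.L D := by
    intro s P
    obtain ⟨x, rfl⟩ := pd.pl.surjective P
    rw [← h x (F s), ← hF s]
    exact ⟨L.presheaf.germ ⊤ x.1 trivial s, sp_germ L x.1 ⊤ trivial s⟩
  have hadd : ∀ s s', F (s + s') = F s + F s' := by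
    intro s s'
    apply smul_cancel L hL t ht0
    rw [← hF, add_smul, ← hF, ← hF]
    exact map_add (L.presheaf.germ ⊤ (genericPoint X)
      (show genericPoint X ∈ (⊤ : X.Opens) from trivial)).hom (s : Γ(L, ⊤)) (s' : Γ(L, ⊤))
  have hsmul : ∀ (c : k) s, F (c • s) = c • F s := by
    intro c s
    apply smul_cancel L hL t ht0
    rw [← hF, germ_smul_const, hF s, smul_smul, Algebra.smul_def]
  let Φ : LinSer.Sect X L →ₗ[k] FunFld.L D :=
    { toFun := fun s => ⟨F s, hmem s⟩
      map_add' := fun s s' => Subtype.ext (hadd s s')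
      map_smul' := fun c s => Subtype.ext (hsmul c s) }
  refine ⟨LinearEquiv.ofBijective Φ ⟨?_, ?_⟩⟩
  · intro s s' hss'
    have h1 : F s = F s' := congrArg Subtype.val hss'
    apply eq_of_germ_gen L hL ⊤ trivial
    rw [hF s, hF s', h1]
  · rintro ⟨f, hf⟩
    have hreg : ∀ x : X, f • t ∈ Set.range (sp L x) := by
      intro x
      by_cases hx : x = genericPoint X
      · subst hx
        exact ⟨f • t, sp_genericPoint L _⟩
      · have hcl := pd.closed x hx
        exact (h ⟨x, hcl⟩ f).2 (hf (pd.pl ⟨x, hcl⟩))
    obtain ⟨s, hs⟩ := exists_section_of_forall_mem_range L hL (f • t) hreg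
    refine ⟨s, Subtype.ext ?_⟩
    apply smul_cancel L hL t ht0
    show F s • t = f • t
    rw [← hF s]
    exact hs

/-- **`h⁰(L) = ℓ(D)`** -/
theorem finrank_h0_eq_ell (L : X.Modules) (hL : PicF.IsInvertible L)
    (t : L.presheaf.stalk (genericPoint X)) (D : Divisor k X.functionField)
    (h : IsDiv pd L t D) :
    Module.finrank k (Coh.HH X L 0) = FunFld.ell D := by
  letI := sectModule k L
  obtain ⟨e⟩ := exists_linearEquiv pd L hL t D h
  unfold FunFld.ell
  exact ((h0LinEquiv k L).trans e).finrank_eq

end Groth.Agent.Helper4.SN559
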