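import Mathlib
import Groth.Agent.Helper4.SN559
import Groth.Agent.Helper4.SN103
import Groth.Agent.Helper5.FFRR
import Groth.Agent.Helper5.FFDeg

/-!
# The genus of a normal proper curve is the genus of its function field
-/

set_option autoImplicit false
set_option linter.style.haveILetI false
set_option linter.unusedSectionVars false
universe u
open CategoryTheory CategoryTheory.Limits AlgebraicGeometry TopologicalSpace Opposite FunFld
open scoped TensorProduct

namespace Groth.Agent.Helper4.SN560

open Groth.Agent.Helper4.StalkDict Groth.Agent.Helper4.TwistExt Groth.Agent.Helper4.SN200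
  Groth.Agent.Helper4.SN549 Groth.Agent.Helper4.SN550 Groth.Agent.Helper4.SN551
  Groth.Agent.Helper4.SN552 Groth.Agent.Helper4.SN553 Groth.Agent.Helper4.SN555
  Groth.Agent.Helper4.SN559
  Groth.Agent.Helper4.SN Groth.Agent.Lead.Ref1B

attribute [local instance] Curv2.stalkAlgebra Curv2.resAlgebra

variable {k : Type u} [Field k] {X : Scheme.{u}} [X.Over (Spec (CommRingCat.of k))]
  [IsIntegral X] (pd : PlaceData k X)
include pd

/-- the global functions are the constants -/
theorem finrank_h0_structureModule :
    Module.finrank k (Coh.HH X (Coh.structureModule X) 0) = 1 := by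
  rw [finrank_h0_eq_ell pd _ Groth.Agent.Helper4.TensorInv.isInvertible_structureModule _ 0
    (isDiv_one pd), Groth.Agent.Helper5.FF.ell_zero pd.hK]

/-- **the genus of the curve is the genus of its function field** -/
theorem genus_eq : Curv2.genus k X = FunFld.genus k X.functionField := by
  haveI := pd.hp
  haveI := Groth.Agent.Helper4.NApx82.isNoetherian_of_proper k X
  have h0 := finrank_h0_structureModule pd
  obtain ⟨P0⟩ := Groth.Agent.Helper5.FF.nonempty_place pd.hK
  obtain ⟨x0, rfl⟩ := pd.pl.surjective P0
  have hdpos : 0 < (pd.pl x0).deg := by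
    rw [pd.deg x0]
    exact finrank_residueField_pos k x0.1 x0.2
  set g := Curv2.genus k X with hg
  set g' := FunFld.genus k X.functionField with hg'
  set n : ℕ := 2 * g + 2 * g' + 1 with hn
  set D : Divisor k X.functionField := Finsupp.single (pd.pl x0) (n : ℤ) with hD
  have hdegD : D.deg = (n : ℤ) * ((pd.pl x0).deg : ℤ) := deg_single _ _
  have hbig : (n : ℤ) ≤ D.deg := by
    rw [hdegD]
    have : (1 : ℤ) ≤ ((pd.pl x0).deg : ℤ) := by exact_mod_cast hdpos
    nlinarith
  have hell := Groth.Agent.Helper5.FF.ell_eq_of_deg_ge pd.hK D (by rw [hn] at hbig; push_cast at hbig; omega)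
  obtain ⟨L, t, hL, hLD⟩ := exists_isDiv_of_divisor pd D
  have hdegL := deg_eq_of_isDiv pd L hL t D hLD
  have hh0 := finrank_h0_eq_ell pd L hL t D hLD
  have hh1 : Module.finrank k (Coh.HH X L 1) = 0 := by
    by_contra hne
    have hnt : Nontrivial (Coh.HH X L 1) := by
      by_contra hcon
      rw [not_nontrivial_iff_subsingleton] at hcon
      exact hne (Module.finrank_zero_of_subsingleton)
    have := deg_le_of_h1_nontrivial k pd.hdim h0 L hL hnt
    rw [hdegL] at this
    rw [hn] at hbig
    push_cast at hbig
    omega
  have hX := chi_eq_h0_sub_h1 k pd.hdim.le (Coh.structureModule X)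
  have hL' := chi_eq_h0_sub_h1 k pd.hdim.le L
  have hdeg : Curv2.deg k X L 1 = chi k X L - chi k X (Coh.structureModule X) := by
    unfold Curv2.deg chi
    push_cast
    ring
  rw [hdeg, hX, hL', h0, hh0, hh1] at hdegL
  have hg1 : (Module.finrank k (Coh.HH X (Coh.structureModule X) 1) : ℤ) = g := rfl
  rw [hg1] at hdegL
  push_cast at hdegL
  have : (g : ℤ) = g' := by linarith
  exact_mod_cast this

end Groth.Agent.Helper4.SN560
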