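import Mathlib
import Groth.Agent.Helper5.FFRR
import Groth.Agent.Helper5.FFDeg
import Groth.Agent.Helper5.FFStep
import Groth.Agent.Helper5.FFDiv
import Groth.Agent.Helper5.FFRiemann
import Groth.Agent.Helper5.FFWeil
import Groth.Agent.Helper6.FFZeta1

/-!
# A function field of genus zero with a divisor of odd degree has a place of degree one
-/

set_option autoImplicit false
open FunFld

namespace Groth.Agent.Helper4.SN561

open Groth.Agent.Helper5.FF

variable {k K : Type*} [Field k] [Field K] [Algebra k K]

/-- a divisor of positive `ℓ` is linearly equivalent to an effective divisor of the same degree -/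
theorem exists_effective_of_ell_pos (hK : IsFunctionField k K) (E : Divisor k K)
    (h : 0 < ell E) : ∃ E' : Divisor k K, 0 ≤ E' ∧ E'.deg = E.deg := by
  obtain ⟨x, -, hx⟩ := (L_ne_bot_iff hK E).mp (L_ne_bot_of_ell_pos h)
  exact ⟨E + FunFld.div k x, hx, by rw [deg_add, deg_div hK, add_zero]⟩

/-- an effective divisor of degree one is a place of degree one -/
theorem exists_place_deg_one_of_effective (hK : IsFunctionField k K) (E : Divisor k K)
    (hE : 0 ≤ E) (hdeg : E.deg = 1) : ∃ P : Place k K, P.deg = 1 := by
  have hne : E ≠ 0 := by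
    rintro rfl
    rw [deg_zero] at hdeg
    exact zero_ne_one hdeg
  obtain ⟨P, hP⟩ := Finsupp.ne_iff.1 hne
  rw [Finsupp.zero_apply] at hP
  have h0 : 0 ≤ E P := by
    have := hE P
    rwa [Finsupp.zero_apply] at this
  have h1 : 1 ≤ E P := by omega
  have h2 := Groth.Agent.Helper6.FFZeta.term_le_deg hE P
  rw [hdeg] at h2
  have h3 : (1 : ℤ) ≤ (P.deg : ℤ) := by exact_mod_cast deg_pos_place hK P
  refine ⟨P, ?_⟩
  have h4 : (P.deg : ℤ) ≤ 1 := by nlinarith
  have : (P.deg : ℤ) = 1 := le_antisymm h4 h3
  exact_mod_cast this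

/-- **a function field of genus zero with a divisor of odd degree has a place of degree one** -/
theorem exists_place_deg_one (hK : IsFunctionField k K) (hg : genus k K = 0)
    (D : Divisor k K) (hodd : Odd D.deg) : ∃ P : Place k K, P.deg = 1 := by
  obtain ⟨C, hC⟩ := exists_isCanonical hK
  have hCdeg := (ell_canonical hK hC).2
  rw [hg] at hCdeg
  obtain ⟨m, hm⟩ := hodd
  set E : Divisor k K := D + m • C with hE
  have hEdeg : E.deg = 1 := by
    rw [hE, deg_add, ← Groth.Agent.Helper6.FFZeta.degHom_apply' (m • C), map_zsmul,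
      Groth.Agent.Helper6.FFZeta.degHom_apply', hCdeg, hm]
    simp
    ring
  have hell := ell_eq_of_deg_ge hK E (by rw [hg, hEdeg]; norm_num)
  rw [hEdeg, hg] at hell
  have hpos : 0 < ell E := by
    have : (ell E : ℤ) = 2 := by rw [hell]; norm_num
    omega
  obtain ⟨E', hE'0, hE'deg⟩ := exists_effective_of_ell_pos hK E hpos
  exact exists_place_deg_one_of_effective hK E' hE'0 (hE'deg.trans hEdeg)

end Groth.Agent.Helper4.SN561
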