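import Mathlib
import Groth.Agent.Helper4.SN549
import Groth.Agent.Lead.OmegaUnivA

/-!
# The derivation `d` on stalks of the sheaf of differentials
-/

set_option autoImplicit false
set_option linter.style.haveILetI false
set_option linter.unusedSectionVars false
universe u
open CategoryTheory CategoryTheory.Limits AlgebraicGeometry TopologicalSpace Opposite

namespace Groth.Agent.Helper4.SN562

open Groth.Agent.Helper4.StalkDict Groth.Agent.Helper4.SN549 OmegaSh Groth.Agent.Lead

variable {X Y : Scheme.{u}} (f : X ⟶ Y) [QuasiSeparated f]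

/-- the derivation on stalks -/
noncomputable def dStalk (x : X) (a : X.presheaf.stalk x) : (Omega.sheaf f).presheaf.stalk x :=
  let h := TopCat.Presheaf.exists_germ_eq X.presheaf a
  (Omega.sheaf f).presheaf.germ h.choose x h.choose_spec.choose
    ((dOmega f).app h.choose h.choose_spec.choose_spec.choose)

theorem dStalk_germ (x : X) (U : X.Opens) (hx : x ∈ U) (s : Γ(X, U)) :
    dStalk f x (X.presheaf.germ U x hx s) =
      (Omega.sheaf f).presheaf.germ U x hx ((dOmega f).app U s) := by
  unfold dStalk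
  set h := TopCat.Presheaf.exists_germ_eq X.presheaf (X.presheaf.germ U x hx s)
  have h3 := h.choose_spec.choose_spec.choose_spec
  obtain ⟨W, hxW, iU, iV, hW⟩ := TopCat.Presheaf.germ_eq X.presheaf x h.choose_spec.choose hx
    h.choose_spec.choose_spec.choose s h3
  have e1 := OmegaUnivA.der_app_map f (dOmega f) iU.le h.choose_spec.choose_spec.choose
  have e2 := OmegaUnivA.der_app_map f (dOmega f) iV.le s
  have e3 : X.presheaf.map (homOfLE iU.le).op h.choose_spec.choose_spec.choose =
      X.presheaf.map (homOfLE iV.le).op s := hW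
  rw [e3, e2] at e1
  rw [← TopCat.Presheaf.germ_res_apply (Omega.sheaf f).presheaf (homOfLE iU.le) x hxW,
    ← TopCat.Presheaf.germ_res_apply (Omega.sheaf f).presheaf (homOfLE iV.le) x hxW]
  exact congrArg _ e1.symm

theorem dStalk_add (x : X) (a b : X.presheaf.stalk x) :
    dStalk f x (a + b) = dStalk f x a + dStalk f x b := by
  obtain ⟨U, hxU, a₀, rfl⟩ := TopCat.Presheaf.exists_germ_eq X.presheaf a
  obtain ⟨V, hxV, b₀, rfl⟩ := TopCat.Presheaf.exists_germ_eq X.presheaf b
  have ha := TopCat.Presheaf.germ_res_apply X.presheaf (homOfLE (inf_le_left : U ⊓ V ≤ U)) x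
    ⟨hxU, hxV⟩ a₀
  have hb := TopCat.Presheaf.germ_res_apply X.presheaf (homOfLE (inf_le_right : U ⊓ V ≤ V)) x
    ⟨hxU, hxV⟩ b₀
  rw [← ha, ← hb, ← map_add, dStalk_germ, dStalk_germ, dStalk_germ, map_add, map_add]

theorem dStalk_mul (x : X) (a b : X.presheaf.stalk x) :
    dStalk f x (a * b) = a • dStalk f x b + b • dStalk f x a := by
  obtain ⟨U, hxU, a₀, rfl⟩ := TopCat.Presheaf.exists_germ_eq X.presheaf a
  obtain ⟨V, hxV, b₀, rfl⟩ := TopCat.Presheaf.exists_germ_eq X.presheaf b
  have ha := TopCat.Presheaf.germ_res_apply X.presheaf (homOfLE (inf_le_left : U ⊓ V ≤ U)) x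
    ⟨hxU, hxV⟩ a₀
  have hb := TopCat.Presheaf.germ_res_apply X.presheaf (homOfLE (inf_le_right : U ⊓ V ≤ V)) x
    ⟨hxU, hxV⟩ b₀
  rw [← ha, ← hb, ← map_mul, dStalk_germ, dStalk_germ, dStalk_germ, ← germ_smul, ← germ_smul,
    ← map_add]
  congr 1
  exact (dOmega f).d_mul _ _

theorem dStalk_zero (x : X) : dStalk f x 0 = 0 := by
  have h := dStalk_add f x 0 0
  rw [add_zero] at h
  exact left_eq_add.mp h

/-- `d` as an additive map on stalks -/
noncomputable def dStalkHom (x : X) : X.presheaf.stalk x →+ (Omega.sheaf f).presheaf.stalk x :=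
  AddMonoidHom.mk' (dStalk f x) (dStalk_add f x)

theorem dStalkHom_apply (x : X) (a : X.presheaf.stalk x) : dStalkHom f x a = dStalk f x a := rfl

theorem dStalk_one (x : X) : dStalk f x 1 = 0 := by
  have h := dStalk_mul f x 1 1
  rw [mul_one, one_smul] at h
  exact left_eq_add.mp h

/-- functions pulled back from the base are killed -/
theorem dStalk_germ_app (x : X) (V : Y.Opens) (hx : x ∈ f ⁻¹ᵁ V) (c : Γ(Y, V)) :
    dStalk f x (X.presheaf.germ (f ⁻¹ᵁ V) x hx (f.app V c)) = 0 := by
  rw [dStalk_germ]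
  have h : (dOmega f).app (f ⁻¹ᵁ V) (f.app V c) = 0 := (dOmega f).d_app c
  rw [h, map_zero]

end Groth.Agent.Helper4.SN562
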