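import Mathlib
import Groth.Agent.Helper4.SN562
import Groth.Agent.Lead.OmegaSecB

/-!
# Stalks of the sheaf of differentials are spanned by differentials; the stalk at a rational
point with principal maximal ideal is generated by `d t`
-/

set_option autoImplicit false
set_option linter.style.haveILetI false
set_option linter.unusedSectionVars false
universe u
open CategoryTheory CategoryTheory.Limits AlgebraicGeometry TopologicalSpace Opposite

namespace Groth.Agent.Helper4.SN563

open Groth.Agent.Helper4.StalkDict Groth.Agent.Helper4.SN549 OmegaSh Groth.Agent.Lead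
  Groth.Agent.Helper4.SN562

variable {X Y : Scheme.{u}} (f : X ⟶ Y) [QuasiSeparated f]

theorem sp_dStalk [IsIntegral X] (x : X) (a : X.presheaf.stalk x) :
    sp (Omega.sheaf f) x (dStalk f x a) =
      dStalk f (genericPoint X) (algebraMap (X.presheaf.stalk x) X.functionField a) := by
  obtain ⟨U, hxU, a₀, rfl⟩ := TopCat.Presheaf.exists_germ_eq X.presheaf a
  rw [dStalk_germ, sp_germ, algebraMap_germ, dStalk_germ]

/-- the stalk of `Ω` is spanned by the differentials -/
theorem span_range_dStalk (x : X) :
    Submodule.span (X.presheaf.stalk x) (Set.range (dStalk f x)) = ⊤ := by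
  rw [eq_top_iff]
  rintro m -
  obtain ⟨W, hxW, σ, rfl⟩ := TopCat.Presheaf.exists_germ_eq (Omega.sheaf f).presheaf m
  obtain ⟨U, V, hU, hV, hxU, hUV, hUW⟩ := OmegaSecB.exists_affine_pair_le f x W hxW
  rw [← TopCat.Presheaf.germ_res_apply (Omega.sheaf f).presheaf (homOfLE hUW) x hxU σ]
  have key : ∀ τ : Γ(Omega.sheaf f, U),
      τ ∈ Submodule.span Γ(X, U) (Set.range ((dOmega f).app U)) →
      (Omega.sheaf f).presheaf.germ U x hxU τ ∈
        Submodule.span (X.presheaf.stalk x) (Set.range (dStalk f x)) := by
    intro τ hτ
    induction hτ using Submodule.span_induction with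
    | mem y hy =>
      obtain ⟨s, rfl⟩ := hy
      rw [← dStalk_germ]
      exact Submodule.subset_span ⟨_, rfl⟩
    | zero => rw [map_zero]; exact Submodule.zero_mem _
    | add y z _ _ hy hz => rw [map_add]; exact Submodule.add_mem _ hy hz
    | smul r y _ hy => rw [germ_smul]; exact Submodule.smul_mem _ _ hy
  apply key
  rw [OmegaUnivA.span_dOmega f hU hV hUV]
  trivial

/-- Nakayama: at a point where the maximal ideal is principal generated by `t` and the local ring
is `(constants) + 𝔪`, the stalk of `Ω` is generated by `d t` -/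
theorem span_dStalk_uniformizer (x : X) [Module.Finite (X.presheaf.stalk x)
    ((Omega.sheaf f).presheaf.stalk x)] (t : X.presheaf.stalk x)
    (ht : IsLocalRing.maximalIdeal (X.presheaf.stalk x) = Ideal.span {t})
    (hdec : ∀ a : X.presheaf.stalk x, ∃ c b : X.presheaf.stalk x,
      dStalk f x c = 0 ∧ a = c + t * b) :
    Submodule.span (X.presheaf.stalk x) {dStalk f x t} = ⊤ := by
  have hmem : ∀ a : X.presheaf.stalk x, dStalk f x a ∈
      Submodule.span (X.presheaf.stalk x) {dStalk f x t} ⊔
        IsLocalRing.maximalIdeal (X.presheaf.stalk x) •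
          (⊤ : Submodule (X.presheaf.stalk x) ((Omega.sheaf f).presheaf.stalk x)) := by
    intro a
    obtain ⟨c, b, hc, rfl⟩ := hdec a
    rw [dStalk_add, hc, zero_add, dStalk_mul]
    apply Submodule.add_mem
    · apply Submodule.mem_sup_right
      have h1 : t ∈ IsLocalRing.maximalIdeal (X.presheaf.stalk x) := by
        rw [ht]; exact Ideal.mem_span_singleton_self t
      exact Submodule.smul_mem_smul h1 Submodule.mem_top
    · apply Submodule.mem_sup_left
      exact Submodule.smul_mem _ _ (Submodule.mem_span_singleton_self _)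
  have hle : (⊤ : Submodule (X.presheaf.stalk x) ((Omega.sheaf f).presheaf.stalk x)) ≤
      Submodule.span (X.presheaf.stalk x) {dStalk f x t} ⊔
        IsLocalRing.maximalIdeal (X.presheaf.stalk x) •
          (⊤ : Submodule (X.presheaf.stalk x) ((Omega.sheaf f).presheaf.stalk x)) := by
    intro m _
    have hm : m ∈ Submodule.span (X.presheaf.stalk x) (Set.range (dStalk f x)) := by
      rw [span_range_dStalk f x]; trivial
    induction hm using Submodule.span_induction with
    | mem y hy =>
      obtain ⟨a, rfl⟩ := hy
      exact hmem a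
    | zero => exact Submodule.zero_mem _
    | add y z _ _ hy hz => exact Submodule.add_mem _ (hy trivial) (hz trivial)
    | smul r y _ hy => exact Submodule.smul_mem _ _ (hy trivial)
  have hjac : IsLocalRing.maximalIdeal (X.presheaf.stalk x) ≤ Ideal.jacobson ⊥ := by
    rw [IsLocalRing.jacobson_eq_maximalIdeal ⊥ bot_ne_top]
  have hfg : (⊤ : Submodule (X.presheaf.stalk x) ((Omega.sheaf f).presheaf.stalk x)).FG :=
    Module.Finite.fg_top
  exact eq_top_iff.mpr (Submodule.le_of_le_smul_of_le_jacobson_bot hfg hjac hle)

end Groth.Agent.Helper4.SN563
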