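import Mathlib
import Groth.Agent.Helper5.FFExpand2

/-!
# A derivation of a function field preserving a valuation ring with `c t = 1` is `d/dt` read
through the expansion at the place
-/

set_option autoImplicit false
set_option linter.style.haveILetI false
set_option linter.unusedSectionVars false

namespace Groth.Agent.Helper4.SN564

open FunFld LaurentSeries Groth.Agent.Helper5 Groth.Agent.Helper5.Ex

variable {k K : Type*} [Field k] [Field K] [Algebra k K] (P : Place k K) {t : K}

theorem eq_zero_of_deriv (ht : P.1 t = WithZero.exp (-1 : ℤ))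
    (hres : ∀ y, P.1 y ≤ 1 → ∃ r : k, P.1 (y - algebraMap k K r) < 1)
    (φ : K →ₐ[k] LaurentSeries k) (hval : ∀ y, Valued.v (φ y) = P.1 y)
    (E : K → LaurentSeries k) (hadd : ∀ a b, E (a + b) = E a + E b)
    (hmul : ∀ a b, E (a * b) = φ a * E b + φ b * E a)
    (hk : ∀ r : k, E (algebraMap k K r) = 0) (hEt : E t = 0)
    (hO : ∀ w, P.1 w ≤ 1 → Valued.v (E w) ≤ 1) : ∀ w, E w = 0 := by
  have ht0 : t ≠ 0 := by
    rintro rfl
    rw [map_zero] at ht
    exact WithZero.exp_ne_zero ht.symm
  have key : ∀ n : ℕ, ∀ w, P.1 w ≤ 1 → Valued.v (E w) ≤ WithZero.exp (-(n : ℤ)) := by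
    intro n
    induction n with
    | zero =>
      intro w hw
      simpa using hO w hw
    | succ n ih =>
      intro w hw
      obtain ⟨r, hr⟩ := hres w hw
      have hr' := FF.le_exp_neg_one_of_lt_one hr
      set w₁ := (w - algebraMap k K r) * t⁻¹ with hw₁
      have h1 : P.1 w₁ ≤ 1 := by
        rw [hw₁, map_mul, map_inv₀, ht]
        calc P.1 (w - algebraMap k K r) * (WithZero.exp (-1 : ℤ))⁻¹
            ≤ WithZero.exp (-1 : ℤ) * (WithZero.exp (-1 : ℤ))⁻¹ := mul_le_mul' hr' le_rfl
          _ = 1 := mul_inv_cancel₀ WithZero.exp_ne_zero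
      have h2 : w = algebraMap k K r + t * w₁ := by
        rw [hw₁]; field_simp; ring
      have h3 : E w = φ t * E w₁ := by
        rw [h2, hadd, hk, zero_add, hmul, hEt, mul_zero, add_zero]
      rw [h3, map_mul, hval, ht]
      calc WithZero.exp (-1 : ℤ) * Valued.v (E w₁)
          ≤ WithZero.exp (-1 : ℤ) * WithZero.exp (-(n : ℤ)) := mul_le_mul' le_rfl (ih w₁ h1)
        _ = WithZero.exp (-((n + 1 : ℕ) : ℤ)) := by
          rw [← WithZero.exp_add]; congr 1; push_cast; ring
  have hOz : ∀ w, P.1 w ≤ 1 → E w = 0 := by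
    intro w hw
    by_contra hne
    have h1 : Valued.v (E w) ≠ 0 := (Valuation.ne_zero_iff _).mpr hne
    obtain ⟨m, hm⟩ : ∃ m : ℤ, Valued.v (E w) = WithZero.exp m := ⟨_, (WithZero.exp_log h1).symm⟩
    have h2 := key (1 - m).toNat w hw
    rw [hm, WithZero.exp_le_exp] at h2
    omega
  intro w
  by_cases hw : P.1 w ≤ 1
  · exact hOz w hw
  · rw [not_le] at hw
    have hw0 : w ≠ 0 := by
      rintro rfl
      rw [map_zero] at hw
      exact not_lt.mpr zero_le_one hw
    have h1 : P.1 w⁻¹ ≤ 1 := by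
      rw [map_inv₀]
      exact inv_le_one_of_one_le₀ hw.le
    have h2 := hmul w w⁻¹
    rw [mul_inv_cancel₀ hw0, hOz _ h1, mul_zero, zero_add] at h2
    have h3 : E 1 = 0 := by
      have := hk 1
      rwa [map_one] at this
    rw [h3] at h2
    have h4 : φ w⁻¹ ≠ 0 := by
      rw [Ne, map_eq_zero]
      exact inv_ne_zero hw0
    exact (mul_eq_zero.mp h2.symm).resolve_left h4

theorem D_single_one (k : Type*) [Field k] :
    LocRes.D k (HahnSeries.single (1 : ℤ) (1 : k)) = 1 := by
  ext n
  rw [LocRes.D_coeff, HahnSeries.coeff_single, HahnSeries.coeff_one]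
  by_cases hn : n = 0
  · subst hn
    simp
  · have : n + 1 ≠ 1 := by omega
    rw [if_neg this, if_neg hn, smul_zero]

theorem val_D_le_one (k : Type*) [Field k] (g : LaurentSeries k) (hg : Valued.v g ≤ 1) :
    Valued.v (LocRes.D k g) ≤ 1 := by
  rw [LaurentSeries.val_le_one_iff_eq_coe] at hg ⊢
  obtain ⟨F, rfl⟩ := hg
  exact ⟨_, (LocRes.D_coe k F).symm⟩

/-- a `k`-derivation `c` of `K` with `c t = 1` preserving the valuation ring of a rational place
`P` with uniformizer `t` is `d/dX` through the expansion in `t` -/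
theorem Φ_deriv (hP : P.deg = 1) (ht : P.1 t = WithZero.exp (-1 : ℤ))
    (c : K → K) (hadd : ∀ a b, c (a + b) = c a + c b)
    (hmul : ∀ a b, c (a * b) = a * c b + b * c a)
    (hk : ∀ r : k, c (algebraMap k K r) = 0) (hct : c t = 1)
    (hO : ∀ w, P.1 w ≤ 1 → P.1 (c w) ≤ 1) (w : K) :
    Φ P hP ht (c w) = LocRes.D k (Φ P hP ht w) := by
  have h := eq_zero_of_deriv P ht (fun y hy => FF.exists_const_of_deg_one P hP hy) (Φ P hP ht)
    (val_Φ P hP ht) (fun w => Φ P hP ht (c w) - LocRes.D k (Φ P hP ht w))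
    (fun a b => by
      simp only [hadd, map_add]; ring)
    (fun a b => by
      simp only [hmul, map_add, map_mul, Derivation.leibniz, smul_eq_mul]; ring)
    (fun r => by
      simp only [hk, map_zero, AlgHom.commutes, Derivation.map_algebraMap, sub_zero])
    (by
      simp only [hct, map_one, Φ_t, D_single_one, sub_self])
    (fun w hw => by
      refine (Valuation.map_sub _ _ _).trans (max_le ?_ ?_)
      · rw [val_Φ]; exact hO w hw
      · apply val_D_le_one
        rw [val_Φ]; exact hw) w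
  exact sub_eq_zero.mp h

end Groth.Agent.Helper4.SN564
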