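import Mathlib
import Groth.Agent.Helper4.SN563
import Groth.Agent.Helper4.SN550

/-!
# The generic stalk of an invertible module is one-dimensional; the coordinate derivation
-/

set_option autoImplicit false
set_option linter.style.haveILetI false
set_option linter.unusedSectionVars false
universe u
open CategoryTheory CategoryTheory.Limits AlgebraicGeometry TopologicalSpace Opposite

namespace Groth.Agent.Helper4.SN565

open Groth.Agent.Helper4.StalkDict Groth.Agent.Helper4.SN549 OmegaSh Groth.Agent.Lead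
  Groth.Agent.Helper4.SN562 Groth.Agent.Helper4.SN563 Groth.Agent.Helper4.TwistExt

attribute [local instance] Curv2.stalkAlgebra Curv2.resAlgebra

section OneDim

variable {X : Scheme.{u}} [IsIntegral X] (L : X.Modules) (hL : PicF.IsInvertible L)
include hL

theorem exists_smul_eq (m₀ : L.presheaf.stalk (genericPoint X)) (hm₀ : m₀ ≠ 0)
    (m : L.presheaf.stalk (genericPoint X)) : ∃ g : X.functionField, m = g • m₀ := by
  obtain ⟨T, e, hηT, he⟩ := Groth.Agent.Helper4.SN242.exists_frame L hL (genericPoint X)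
  obtain ⟨g₁, h1⟩ := exists_smul_gen he hηT m
  obtain ⟨g₂, h2⟩ := exists_smul_gen he hηT m₀
  have hg₂ : g₂ ≠ 0 := by
    rintro rfl
    rw [zero_smul] at h2
    exact hm₀ h2
  refine ⟨g₁ * g₂⁻¹, ?_⟩
  rw [h1, h2, smul_smul, mul_assoc, inv_mul_cancel₀ hg₂, mul_one]

theorem smul_eq_zero_imp (m₀ : L.presheaf.stalk (genericPoint X)) (hm₀ : m₀ ≠ 0)
    (g : X.functionField) (h : g • m₀ = 0) : g = 0 := by
  obtain ⟨T, e, hηT, he⟩ := Groth.Agent.Helper4.SN242.exists_frame L hL (genericPoint X)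
  obtain ⟨g₂, h2⟩ := exists_smul_gen he hηT m₀
  have hg₂ : g₂ ≠ 0 := by
    rintro rfl
    rw [zero_smul] at h2
    exact hm₀ h2
  rw [h2, smul_smul] at h
  have := smul_gen_eq_zero he hηT _ h
  exact (mul_eq_zero.mp this).resolve_right hg₂

theorem smul_left_cancel (m₀ : L.presheaf.stalk (genericPoint X)) (hm₀ : m₀ ≠ 0)
    (g g' : X.functionField) (h : g • m₀ = g' • m₀) : g = g' := by
  have : (g - g') • m₀ = 0 := by rw [sub_smul, h, sub_self]
  exact sub_eq_zero.mp (smul_eq_zero_imp L hL m₀ hm₀ _ this)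

end OneDim

section Coord

variable {k : Type u} [Field k] {X : Scheme.{u}} [X.Over (Spec (CommRingCat.of k))]
  [IsIntegral X] [QuasiSeparated (X ↘ Spec (CommRingCat.of k))]
  (hΩ : PicF.IsInvertible (Omega.sheaf (X ↘ Spec (CommRingCat.of k))))

/-- constants are killed by `d` -/
theorem dStalk_algebraMap (x : X) (r : k) :
    dStalk (X ↘ Spec (CommRingCat.of k)) x (algebraMap k (X.presheaf.stalk x) r) = 0 :=
  dStalk_germ_app (X ↘ Spec (CommRingCat.of k)) x ⊤ trivial
    ((Scheme.ΓSpecIso (CommRingCat.of k)).inv r)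

/-- the coordinate of `d w` with respect to a nonzero element of the generic stalk -/
noncomputable def cder (m₀ : (Omega.sheaf (X ↘ Spec (CommRingCat.of k))).presheaf.stalk
    (genericPoint X)) (hm₀ : m₀ ≠ 0) (w : X.functionField) : X.functionField :=
  (exists_smul_eq _ hΩ m₀ hm₀ (dStalk (X ↘ Spec (CommRingCat.of k)) (genericPoint X) w)).choose

variable (m₀ : (Omega.sheaf (X ↘ Spec (CommRingCat.of k))).presheaf.stalk (genericPoint X))
  (hm₀ : m₀ ≠ 0)

theorem cder_spec (w : X.functionField) :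
    dStalk (X ↘ Spec (CommRingCat.of k)) (genericPoint X) w = cder hΩ m₀ hm₀ w • m₀ :=
  (exists_smul_eq _ hΩ m₀ hm₀ (dStalk (X ↘ Spec (CommRingCat.of k)) (genericPoint X) w)).choose_spec

theorem cder_eq (w g : X.functionField)
    (h : dStalk (X ↘ Spec (CommRingCat.of k)) (genericPoint X) w = g • m₀) :
    cder hΩ m₀ hm₀ w = g := by
  apply smul_left_cancel _ hΩ m₀ hm₀
  rw [← cder_spec, h]

theorem cder_add (a b : X.functionField) :
    cder hΩ m₀ hm₀ (a + b) = cder hΩ m₀ hm₀ a + cder hΩ m₀ hm₀ b := by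
  apply cder_eq
  rw [dStalk_add, cder_spec hΩ m₀ hm₀ a, cder_spec hΩ m₀ hm₀ b, add_smul]

theorem cder_mul (a b : X.functionField) :
    cder hΩ m₀ hm₀ (a * b) = a * cder hΩ m₀ hm₀ b + b * cder hΩ m₀ hm₀ a := by
  apply cder_eq
  rw [dStalk_mul, cder_spec hΩ m₀ hm₀ a, cder_spec hΩ m₀ hm₀ b, add_smul, smul_smul, smul_smul]

theorem cder_algebraMap (r : k) :
    cder hΩ m₀ hm₀ (algebraMap k X.functionField r) = 0 := by
  apply cder_eq
  rw [zero_smul]
  exact dStalk_algebraMap (genericPoint X) r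

theorem cder_self (t : X.functionField)
    (ht : dStalk (X ↘ Spec (CommRingCat.of k)) (genericPoint X) t ≠ 0) :
    cder hΩ (dStalk (X ↘ Spec (CommRingCat.of k)) (genericPoint X) t) ht t = 1 := by
  apply cder_eq
  rw [one_smul]

end Coord

end Groth.Agent.Helper4.SN565
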