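import Mathlib
import Groth.Agent.Helper4.SN565
import Groth.Agent.Helper4.SN564
import Groth.Agent.Helper5.FFGaps2

/-!
# The order of a differential at a closed point of a regular curve over an algebraically closed
field, read through the expansion in a uniformizer
-/

set_option autoImplicit false
set_option linter.style.haveILetI false
set_option linter.unusedSectionVars false
universe u
open CategoryTheory CategoryTheory.Limits AlgebraicGeometry TopologicalSpace Opposite FunFld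

namespace Groth.Agent.Helper4.SN566

open Groth.Agent.Helper4.StalkDict Groth.Agent.Helper4.SN549 OmegaSh Groth.Agent.Lead
  Groth.Agent.Helper4.SN562 Groth.Agent.Helper4.SN563 Groth.Agent.Helper4.TwistExt
  Groth.Agent.Helper4.SN550 Groth.Agent.Helper4.SN565 Groth.Agent.Helper5.Ex

attribute [local instance] Curv2.stalkAlgebra Curv2.resAlgebra

variable {k : Type u} [Field k] [IsAlgClosed k] {X : Scheme.{u}} [X.Over (Spec (CommRingCat.of k))]
  [IsIntegral X] [QuasiSeparated (X ↘ Spec (CommRingCat.of k))] (pd : PlaceData k X)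
  (hΩ : PicF.IsInvertible (Omega.sheaf (X ↘ Spec (CommRingCat.of k))))

theorem pl_deg (x : {x : X // IsClosed ({x} : Set X)}) : (pd.pl x).deg = 1 :=
  Groth.Agent.Helper5.FF.deg_eq_one_of_isAlgClosed pd.hK (pd.pl x)

include pd in
theorem exists_const (x : {x : X // IsClosed ({x} : Set X)}) (a : X.presheaf.stalk x.1) :
    ∃ r : k, a - algebraMap k (X.presheaf.stalk x.1) r ∈
      IsLocalRing.maximalIdeal (X.presheaf.stalk x.1) := by
  have h1 : Module.finrank k (X.residueField x.1) = 1 := by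
    rw [← pd.deg x]; exact pl_deg pd x
  have h2 := Subalgebra.bot_eq_top_of_finrank_eq_one h1
  have h3 : (X.residue x.1).hom a ∈ (⊤ : Subalgebra k (X.residueField x.1)) :=
    Algebra.mem_top
  rw [← h2, Algebra.mem_bot] at h3
  obtain ⟨r, hr⟩ := h3
  refine ⟨r, ?_⟩
  have h4 : (X.residue x.1).hom (a - algebraMap k (X.presheaf.stalk x.1) r) = 0 := by
    rw [map_sub, sub_eq_zero]
    exact hr.symm
  exact (IsLocalRing.residue_eq_zero_iff _).mp h4

include hΩ in
theorem finite_stalk (x : X) : Module.Finite (X.presheaf.stalk x)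
    ((Omega.sheaf (X ↘ Spec (CommRingCat.of k))).presheaf.stalk x) := by
  obtain ⟨T, e, hxT, he⟩ := Groth.Agent.Helper4.SN242.exists_frame _ hΩ x
  refine Module.finite_def.mpr ⟨{(Omega.sheaf (X ↘ Spec (CommRingCat.of k))).presheaf.germ T x hxT e}, ?_⟩
  rw [eq_top_iff]
  rintro m -
  obtain ⟨a, rfl⟩ := exists_smul_germ he x hxT m
  exact Submodule.smul_mem _ _ (Submodule.subset_span (by simp))

include pd hΩ in
theorem span_dπ (x : {x : X // IsClosed ({x} : Set X)}) (π : X.presheaf.stalk x.1)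
    (hπ : IsLocalRing.maximalIdeal (X.presheaf.stalk x.1) = Ideal.span {π}) :
    Submodule.span (X.presheaf.stalk x.1) {dStalk (X ↘ Spec (CommRingCat.of k)) x.1 π} = ⊤ := by
  haveI := finite_stalk hΩ x.1
  apply span_dStalk_uniformizer _ x.1 π hπ
  intro a
  obtain ⟨r, hr⟩ := exists_const pd x a
  rw [hπ, Ideal.mem_span_singleton'] at hr
  obtain ⟨b, hb⟩ := hr
  refine ⟨algebraMap k _ r, b, dStalk_algebraMap x.1 r, ?_⟩
  rw [mul_comm, hb]; ring

include pd hΩ in
theorem dη_ne_zero (x : {x : X // IsClosed ({x} : Set X)}) (π : X.presheaf.stalk x.1)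
    (hπ : IsLocalRing.maximalIdeal (X.presheaf.stalk x.1) = Ideal.span {π}) :
    dStalk (X ↘ Spec (CommRingCat.of k)) (genericPoint X)
      (algebraMap (X.presheaf.stalk x.1) X.functionField π) ≠ 0 := by
  intro h0
  rw [← sp_dStalk] at h0
  have h1 := sp_eq_zero' _ hΩ x.1 _ h0
  have h2 := span_dπ pd hΩ x π hπ
  rw [h1] at h2
  obtain ⟨T, e, hxT, he⟩ := Groth.Agent.Helper4.SN242.exists_frame _ hΩ x.1
  have h3 : (Omega.sheaf (X ↘ Spec (CommRingCat.of k))).presheaf.germ T x.1 hxT e ∈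
      Submodule.span (X.presheaf.stalk x.1)
        {(0 : (Omega.sheaf (X ↘ Spec (CommRingCat.of k))).presheaf.stalk x.1)} := by
    rw [h2]; trivial
  rw [Submodule.span_zero_singleton, Submodule.mem_bot] at h3
  have h4 := smul_germ_eq_zero he x.1 hxT 1 (by rw [one_smul]; exact h3)
  exact one_ne_zero h4

include pd hΩ in
theorem mem_range_sp_iff (x : {x : X // IsClosed ({x} : Set X)}) (π : X.presheaf.stalk x.1)
    (hπ : IsLocalRing.maximalIdeal (X.presheaf.stalk x.1) = Ideal.span {π})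
    (m : (Omega.sheaf (X ↘ Spec (CommRingCat.of k))).presheaf.stalk (genericPoint X)) :
    m ∈ Set.range (sp (Omega.sheaf (X ↘ Spec (CommRingCat.of k))) x.1) ↔
      ∃ a : X.presheaf.stalk x.1, m = algebraMap (X.presheaf.stalk x.1) X.functionField a •
        dStalk (X ↘ Spec (CommRingCat.of k)) (genericPoint X)
          (algebraMap (X.presheaf.stalk x.1) X.functionField π) := by
  constructor
  · rintro ⟨m', rfl⟩
    have h1 : m' ∈ Submodule.span (X.presheaf.stalk x.1)
        {dStalk (X ↘ Spec (CommRingCat.of k)) x.1 π} := by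
      rw [span_dπ pd hΩ x π hπ]; trivial
    obtain ⟨a, rfl⟩ := Submodule.mem_span_singleton.mp h1
    exact ⟨a, by rw [sp_smul, sp_dStalk]⟩
  · rintro ⟨a, rfl⟩
    exact ⟨a • dStalk (X ↘ Spec (CommRingCat.of k)) x.1 π, by rw [sp_smul, sp_dStalk]⟩

include pd in
theorem cder_val_le (x : {x : X // IsClosed ({x} : Set X)}) (π : X.presheaf.stalk x.1)
    (hπ : IsLocalRing.maximalIdeal (X.presheaf.stalk x.1) = Ideal.span {π})
    (w : X.functionField) (hw : (pd.pl x).1 w ≤ 1) :
    (pd.pl x).1 (cder hΩ _ (dη_ne_zero pd hΩ x π hπ) w) ≤ 1 := by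
  obtain ⟨a, rfl⟩ := (pd.spec x w).1 hw
  have h1 : dStalk (X ↘ Spec (CommRingCat.of k)) (genericPoint X)
      (algebraMap (X.presheaf.stalk x.1) X.functionField a) ∈
      Set.range (sp (Omega.sheaf (X ↘ Spec (CommRingCat.of k))) x.1) :=
    ⟨_, sp_dStalk _ x.1 a⟩
  obtain ⟨b, hb⟩ := (mem_range_sp_iff pd hΩ x π hπ _).1 h1
  rw [cder_eq hΩ _ (dη_ne_zero pd hΩ x π hπ) _ _ hb]
  exact pd.val_algebraMap_le x b

include hΩ in
/-- **the order of a differential at a closed point** -/
theorem smul_dη_mem_range_sp_iff (x : {x : X // IsClosed ({x} : Set X)})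
    (π : X.presheaf.stalk x.1)
    (hπ : IsLocalRing.maximalIdeal (X.presheaf.stalk x.1) = Ideal.span {π})
    (hπv : (pd.pl x).1 (algebraMap (X.presheaf.stalk x.1) X.functionField π) =
      WithZero.exp (-1 : ℤ))
    (v : X.functionField)
    (hv : dStalk (X ↘ Spec (CommRingCat.of k)) (genericPoint X) v ≠ 0) (g : X.functionField) :
    g • dStalk (X ↘ Spec (CommRingCat.of k)) (genericPoint X) v ∈
        Set.range (sp (Omega.sheaf (X ↘ Spec (CommRingCat.of k))) x.1) ↔
      (pd.pl x).1 g ≤ WithZero.exp (LocRes.ordDiff (Φ (pd.pl x) (pl_deg pd x) hπv) 1 v) := by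
  have hne := dη_ne_zero pd hΩ x π hπ
  set c := cder hΩ _ hne with hc
  have hcv : dStalk (X ↘ Spec (CommRingCat.of k)) (genericPoint X) v = c v • _ :=
    cder_spec hΩ _ hne v
  have hcv0 : c v ≠ 0 := by
    intro h0
    rw [h0, zero_smul] at hcv
    exact hv hcv
  have hΦ : Φ (pd.pl x) (pl_deg pd x) hπv (c v) =
      LocRes.D k (Φ (pd.pl x) (pl_deg pd x) hπv v) :=
    Groth.Agent.Helper4.SN564.Φ_deriv (pd.pl x) (pl_deg pd x) hπv c
      (cder_add hΩ _ hne) (cder_mul hΩ _ hne) (cder_algebraMap hΩ _ hne)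
      (cder_self hΩ _ hne) (cder_val_le pd hΩ x π hπ) v
  have hval : (pd.pl x).1 (c v) = LocRes.vDiff (Φ (pd.pl x) (pl_deg pd x) hπv) 1 v := by
    rw [LocRes.vDiff, map_one, one_mul, ← hΦ, val_Φ]
  have hvne : LocRes.vDiff (Φ (pd.pl x) (pl_deg pd x) hπv) 1 v ≠ 0 := by
    rw [← hval]
    exact (Valuation.ne_zero_iff _).mpr hcv0
  have hexp : WithZero.exp (LocRes.ordDiff (Φ (pd.pl x) (pl_deg pd x) hπv) 1 v) =
      (LocRes.vDiff (Φ (pd.pl x) (pl_deg pd x) hπv) 1 v)⁻¹ := by
    rw [LocRes.ordDiff, WithZero.exp_neg, WithZero.exp_log hvne]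
  rw [hexp, ← hval, hcv, smul_smul, mem_range_sp_iff pd hΩ x π hπ]
  have hpos : 0 < (pd.pl x).1 (c v) := zero_lt_iff.mpr ((Valuation.ne_zero_iff _).mpr hcv0)
  constructor
  · rintro ⟨a, ha⟩
    have h1 := smul_left_cancel _ hΩ _ hne _ _ ha
    have h2 := pd.val_algebraMap_le x a
    rw [← h1, map_mul] at h2
    have := (le_mul_inv_iff₀ hpos).mpr h2
    rwa [one_mul] at this
  · intro h
    have h2 : (pd.pl x).1 (g * c v) ≤ 1 := by
      rw [map_mul]
      have := (le_mul_inv_iff₀ hpos (a := (pd.pl x).1 g) (b := 1)).mp (by rwa [one_mul])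
      exact this
    obtain ⟨a, ha⟩ := (pd.spec x _).1 h2
    exact ⟨a, by rw [ha]⟩

end Groth.Agent.Helper4.SN566
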