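import Mathlib
import Groth.Agent.Helper4.SN566
import Groth.Agent.S12581
import Groth.Agent.Helper5.FFAdele2

/-!
# The sheaf of differentials of a regular proper curve over an algebraically closed field is
`O(C)` for a canonical divisor `C` of the function field
-/

set_option autoImplicit false
set_option linter.style.haveILetI false
set_option linter.unusedSectionVars false
universe u
open CategoryTheory CategoryTheory.Limits AlgebraicGeometry TopologicalSpace Opposite FunFld

namespace Groth.Agent.Helper4.SN567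

open Groth.Agent.Helper4.StalkDict Groth.Agent.Helper4.SN549 OmegaSh Groth.Agent.Lead
  Groth.Agent.Helper4.SN562 Groth.Agent.Helper4.SN563 Groth.Agent.Helper4.TwistExt
  Groth.Agent.Helper4.SN550 Groth.Agent.Helper4.SN565 Groth.Agent.Helper5.Ex
  Groth.Agent.Helper4.SN566

attribute [local instance] Curv2.stalkAlgebra Curv2.resAlgebra

theorem isGeometric_of_isAlgClosed (k : Type u) (K : Type*) [Field k] [IsAlgClosed k] [Field K]
    [Algebra k K] : IsGeometric k K := by
  intro k' _ _ hfd
  haveI : Algebra.IsIntegral k k' := Algebra.IsIntegral.of_finite k k'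
  have hbij : Function.Bijective (algebraMap k k') :=
    IsAlgClosed.algebraMap_bijective_of_isIntegral
  let e : k ≃ₐ[k] k' := AlgEquiv.ofBijective (Algebra.ofId k k') hbij
  let E : TensorProduct k k' K ≃ₐ[k] K :=
    (Algebra.TensorProduct.congr e.symm AlgEquiv.refl).trans (Algebra.TensorProduct.lid k K)
  exact E.toMulEquiv.isField (Field.toIsField K)

variable {k : Type u} [Field k] [IsAlgClosed k] {X : Scheme.{u}} [X.Over (Spec (CommRingCat.of k))]
  [IsIntegral X] [QuasiSeparated (X ↘ Spec (CommRingCat.of k))] (pd : PlaceData k X)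
  (hΩ : PicF.IsInvertible (Omega.sheaf (X ↘ Spec (CommRingCat.of k))))

include hΩ in
/-- if `d v ≠ 0` at the generic stalk then `d v ≠ 0` among the Kähler differentials of the
function field -/
theorem kaehler_D_ne_zero (v : X.functionField)
    (hv : dStalk (X ↘ Spec (CommRingCat.of k)) (genericPoint X) v ≠ 0) :
    KaehlerDifferential.D k X.functionField v ≠ 0 := by
  obtain ⟨c, hcadd, hcmul, hck, hcv⟩ : ∃ c : X.functionField → X.functionField,
      (∀ a b, c (a + b) = c a + c b) ∧ (∀ a b, c (a * b) = a * c b + b * c a) ∧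
      (∀ r : k, c (algebraMap k X.functionField r) = 0) ∧ c v = 1 :=
    ⟨cder hΩ _ hv, cder_add hΩ _ hv, cder_mul hΩ _ hv, cder_algebraMap hΩ _ hv,
      cder_self hΩ v hv⟩
  let cl : X.functionField →ₗ[k] X.functionField :=
    { toFun := c
      map_add' := hcadd
      map_smul' := fun r a => by
        rw [Algebra.smul_def, hcmul, hck, mul_zero, add_zero, RingHom.id_apply,
          Algebra.smul_def] }
  let Dc : Derivation k X.functionField X.functionField :=
    Derivation.mk' cl (fun a b => by
      change c (a * b) = a • c b + b • c a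
      rw [hcmul]; rfl)
  intro h0
  have h1 : Dc.liftKaehlerDifferential (KaehlerDifferential.D k X.functionField v) = c v :=
    Derivation.liftKaehlerDifferential_comp_D Dc v
  rw [h0, map_zero, hcv] at h1
  exact zero_ne_one h1

include hΩ in
/-- **`Ω = O(C)` with `C` canonical** -/
theorem exists_canonical :
    ∃ (v : X.functionField) (C : Divisor k X.functionField),
      IsDiv pd (Omega.sheaf (X ↘ Spec (CommRingCat.of k)))
        (dStalk (X ↘ Spec (CommRingCat.of k)) (genericPoint X) v) C ∧
      IsCanonical k X.functionField C := by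
  have hex := fun x => pd.exists_uniformizer x
  choose π hπv hπ using hex
  obtain ⟨P₀⟩ := Groth.Agent.Helper5.FF.nonempty_place pd.hK
  set x₀ := pd.pl.symm P₀
  set v : X.functionField := algebraMap (X.presheaf.stalk x₀.1) X.functionField (π x₀) with hv
  have hvη : dStalk (X ↘ Spec (CommRingCat.of k)) (genericPoint X) v ≠ 0 :=
    dη_ne_zero pd hΩ x₀ (π x₀) (hπ x₀)
  have hvD := kaehler_D_ne_zero hΩ v hvη
  obtain ⟨ψ, hψ⟩ : ∃ ψ : {x : X // IsClosed ({x} : Set X)} →
      (X.functionField →ₐ[k] LaurentSeries k),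
      ∀ x, ψ x = Φ (pd.pl x) (pl_deg pd x) (hπv x) := ⟨_, fun _ => rfl⟩
  have hψE : ∀ x P, pd.pl x = P → LocRes.IsExpansionAt P.1 (ψ x) := by
    rintro x _ rfl
    rw [hψ]
    exact isExpansionAt_Φ (pd.pl x) (pl_deg pd x) (hπv x)
  obtain ⟨ω, -, -, hω0, hfin, hdiv⟩ := Groth.Agent.S12581.result k X.functionField pd.hK
    (isGeometric_of_isAlgClosed k X.functionField) (fun _ => k)
    (fun P => ψ (pd.pl.symm P)) (fun P => hψE _ P (pd.pl.apply_symm_apply P)) 1 v one_ne_zero hvD
  refine ⟨v, Finsupp.ofSupportFinite _ hfin, ?_, ω, hω0, hdiv _ (fun P => rfl)⟩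
  intro x g
  rw [smul_dη_mem_range_sp_iff pd hΩ x (π x) (hπ x) (hπv x) v hvη g]
  have h1 : (Finsupp.ofSupportFinite _ hfin : Divisor k X.functionField) (pd.pl x) =
      LocRes.ordDiff (Φ (pd.pl x) (pl_deg pd x) (hπv x)) 1 v := by
    change LocRes.ordDiff (ψ (pd.pl.symm (pd.pl x))) 1 v = _
    rw [pd.pl.symm_apply_apply, hψ]
  rw [h1]

end Groth.Agent.Helper4.SN567
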