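import Mathlib
import Groth.Agent.Helper4.SN567
import Groth.Agent.Helper4.SN557
import Groth.Agent.Helper4.SN559
import Groth.Agent.Helper4.SN560
import Groth.Agent.Helper4.SN47
import Groth.Agent.Helper4.RegNormal
import Groth.Agent.Lead.SmOmegaC
import Groth.Agent.Helper5.FFRR

/-!
# Regular proper curves over an algebraically closed field: `Ω` is invertible of degree `2g - 2`
with `g` global sections
-/

set_option autoImplicit false
set_option linter.style.haveILetI false
set_option linter.unusedSectionVars false
universe u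
open CategoryTheory CategoryTheory.Limits AlgebraicGeometry TopologicalSpace Opposite FunFld

namespace Groth.Agent.Helper4.SN568

open Groth.Agent.Helper4.StalkDict Groth.Agent.Helper4.SN549 OmegaSh Groth.Agent.Lead
  Groth.Agent.Helper4.SN562 Groth.Agent.Helper4.SN550 Groth.Agent.Helper4.SN567

attribute [local instance] Curv2.stalkAlgebra Curv2.resAlgebra

variable (k : Type u) [Field k] [IsAlgClosed k] (X : Scheme.{u}) [X.Over (Spec (CommRingCat.of k))]
  [IsIntegral X] [IsProper (X ↘ Spec (CommRingCat.of k))]
  (hdim : topologicalKrullDim X = 1)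
  (hreg : ∀ x : X, IsRegularLocalRing (X.presheaf.stalk x))

include hdim in
theorem isFunctionField : IsFunctionField k X.functionField := by
  refine ⟨Groth.Agent.Helper4.SN539.exists_transcendental_finite_functionField k X hdim,
    fun y hy => ?_⟩
  have hint := hy.isIntegral
  have hirr := minpoly.irreducible hint
  have hdeg := IsAlgClosed.degree_eq_one_of_irreducible k hirr
  exact minpoly.mem_range_of_degree_eq_one k y hdeg

include hdim hreg in
/-- the place dictionary -/
theorem nonempty_placeData : Nonempty (PlaceData k X) :=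
  ⟨Groth.Agent.Helper4.SN557.placeData k X inferInstance hdim
    (fun x => haveI := hreg x
      Groth.Agent.Helper4.RegNormal.isIntegrallyClosed_of_isRegularLocalRing _)
    (isFunctionField k X hdim)⟩

include hdim hreg in
theorem isInvertible_omega : PicF.IsInvertible (Omega.sheaf (X ↘ Spec (CommRingCat.of k))) := by
  apply Groth.Agent.Helper4.SN.isInvertible_of_rank_one
  have hn : topologicalKrullDim X = ((1 : ℕ) : WithBot ℕ∞) := by rw [hdim]; rfl
  exact (SmOmegaC.s12422 k 1 X (X ↘ Spec (CommRingCat.of k)) hn _
    (dOmega (X ↘ Spec (CommRingCat.of k))) (OmegaUnivA.isUniversal _)).mpr hreg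

include hdim hreg in
theorem exists_canon (pd : PlaceData k X) :
    ∃ (t : (Omega.sheaf (X ↘ Spec (CommRingCat.of k))).presheaf.stalk (genericPoint X))
      (C : Divisor k X.functionField),
      IsDiv pd (Omega.sheaf (X ↘ Spec (CommRingCat.of k))) t C ∧
      IsCanonical k X.functionField C := by
  obtain ⟨v, C, h1, h2⟩ := exists_canonical pd (isInvertible_omega k X hdim hreg)
  exact ⟨_, C, h1, h2⟩

include hdim hreg in
theorem deg_omega : Curv2.deg k X (Omega.sheaf (X ↘ Spec (CommRingCat.of k))) 1 =
    2 * (Curv2.genus k X : ℤ) - 2 := by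
  obtain ⟨pd⟩ := nonempty_placeData k X hdim hreg
  obtain ⟨t, C, h1, h2⟩ := exists_canon k X hdim hreg pd
  rw [Groth.Agent.Helper4.SN552.deg_eq_of_isDiv pd _ (isInvertible_omega k X hdim hreg) t C h1,
    (Groth.Agent.Helper5.FF.ell_canonical pd.hK h2).2, Groth.Agent.Helper4.SN560.genus_eq pd]

include hdim hreg in
theorem h0_omega : Module.finrank k (Coh.HH X (Omega.sheaf (X ↘ Spec (CommRingCat.of k))) 0) =
    Curv2.genus k X := by
  obtain ⟨pd⟩ := nonempty_placeData k X hdim hreg
  obtain ⟨t, C, h1, h2⟩ := exists_canon k X hdim hreg pd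
  rw [Groth.Agent.Helper4.SN559.finrank_h0_eq_ell pd _ (isInvertible_omega k X hdim hreg) t C h1,
    (Groth.Agent.Helper5.FF.ell_canonical pd.hK h2).1, Groth.Agent.Helper4.SN560.genus_eq pd]

end Groth.Agent.Helper4.SN568
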