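import Mathlib
import Groth.Agent.Helper4.SN568
import Groth.Agent.Helper4.SN553
import Groth.Agent.Helper4.NApx81
import Groth.Agent.Helper5.FFDeg

/-!
# An invertible module of positive degree has no nonzero maps to the structure sheaf
-/

set_option autoImplicit false
set_option linter.style.haveILetI false
set_option linter.unusedSectionVars false
universe u
open CategoryTheory CategoryTheory.Limits AlgebraicGeometry TopologicalSpace Opposite FunFld

namespace Groth.Agent.Helper4.SN569

open Groth.Agent.Helper4.StalkDict Groth.Agent.Helper4.SN549 Groth.Agent.Helper4.TwistExt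
  Groth.Agent.Helper4.SN550 Groth.Agent.Helper4.SN553

attribute [local instance] Curv2.stalkAlgebra Curv2.resAlgebra

variable {k : Type u} [Field k] {X : Scheme.{u}} [X.Over (Spec (CommRingCat.of k))]
  [IsIntegral X] (pd : PlaceData k X)

theorem hom_eq_zero_of_deg_pos (L : X.Modules) (hL : PicF.IsInvertible L)
    (t : L.presheaf.stalk (genericPoint X)) (D : Divisor k X.functionField)
    (h : IsDiv pd L t D) (hD : 0 < D.deg) (θ : L ⟶ Coh.structureModule X) : θ = 0 := by
  by_contra hθ
  have hO : PicF.IsInvertible (Coh.structureModule X) :=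
    Groth.Agent.Helper4.TensorInv.isInvertible_structureModule
  have hsurj := Groth.Agent.Helper4.NApx81.stalkLin_surjective_genericPoint θ hL hO hθ
  obtain ⟨P0⟩ := Groth.Agent.Helper5.FF.nonempty_place pd.hK
  obtain ⟨x0, -⟩ := pd.pl.surjective P0
  have ht0 := Groth.Agent.Helper4.SN551.IsDiv.ne_zero pd h x0
  set one := (Coh.structureModule X).presheaf.germ ⊤ (genericPoint X) trivial
      (Groth.Agent.Helper4.GenLoc.one X ⊤) with hone
  have hη : genericPoint X ∈ (⊤ : X.Opens) := trivial
  obtain ⟨g, hg⟩ := exists_smul_gen (isFrame_one (X := X)) hη (stalkLin θ (genericPoint X) t)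
  have hone0 : one ≠ 0 := by
    intro h0
    have := smul_gen_eq_zero (isFrame_one (X := X)) hη 1 (by rw [one_smul]; exact h0)
    exact one_ne_zero this
  have hg0 : g ≠ 0 := by
    rintro rfl
    rw [zero_smul] at hg
    obtain ⟨u, hu⟩ := hsurj one
    obtain ⟨c, rfl⟩ := Groth.Agent.Helper4.SN565.exists_smul_eq L hL t ht0 u
    rw [map_smul, hg, smul_zero] at hu
    exact hone0 hu.symm
  have hmem : g ∈ FunFld.L (-D) := by
    intro P
    obtain ⟨x, rfl⟩ := pd.pl.surjective P
    obtain ⟨f, hf⟩ := (pd.pl x).2.2 (WithZero.exp (D (pd.pl x)))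
    have h1 : f • t ∈ Set.range (sp L x.1) := (h x f).2 hf.le
    obtain ⟨m, hm⟩ := h1
    have h2 : (f * g) • one ∈ Set.range (sp (Coh.structureModule X) x.1) :=
      ⟨stalkLin θ x.1 m, by rw [sp_stalkLin, hm, map_smul, hg, smul_smul]⟩
    have h3 := (isDiv_one pd x (f * g)).1 h2
    rw [Finsupp.zero_apply, WithZero.exp_zero, map_mul, hf] at h3
    rw [Finsupp.neg_apply, WithZero.exp_neg]
    have hpos : (0 : WithZero (Multiplicative ℤ)) < WithZero.exp (D (pd.pl x)) :=
      zero_lt_iff.mpr WithZero.exp_ne_zero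
    rw [mul_comm] at h3
    have := (le_mul_inv_iff₀ hpos).mpr h3
    rwa [one_mul] at this
  have hdeg : (-D).deg < 0 := by
    have := Groth.Agent.Helper4.SN552.deg_sub (X := X) (k := k) 0 D
    rw [zero_sub, Groth.Agent.Helper4.SN552.deg_zero] at this
    omega
  rw [Groth.Agent.Helper5.FF.L_eq_bot_of_deg_neg pd.hK _ hdeg, Submodule.mem_bot] at hmem
  exact hg0 hmem

end Groth.Agent.Helper4.SN569
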