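import Mathlib
import Groth.Agent.Helper4.SN569
import Groth.Agent.Helper4.SN40

/-!
# No vector fields on curves of genus at least two
-/

set_option autoImplicit false
set_option linter.style.haveILetI false
set_option linter.unusedSectionVars false
universe u
open CategoryTheory CategoryTheory.Limits AlgebraicGeometry TopologicalSpace Opposite FunFld

namespace Groth.Agent.Helper4.SN570

attribute [local instance] Curv2.stalkAlgebra Curv2.resAlgebra

variable (k : Type u) [Field k] [IsAlgClosed k] (X : Scheme.{u}) [X.Over (Spec (CommRingCat.of k))]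
  [IsIntegral X] [IsProper (X ↘ Spec (CommRingCat.of k))]
  (hdim : topologicalKrullDim X = 1)
  (hreg : ∀ x : X, IsRegularLocalRing (X.presheaf.stalk x))

include hdim hreg in
theorem main1613 (hg : 2 ≤ Curv2.genus k X)
    (θ : Omega.sheaf (X ↘ (Spec (CommRingCat.of k))) ⟶ Coh.structureModule X) : θ = 0 := by
  obtain ⟨pd⟩ := Groth.Agent.Helper4.SN568.nonempty_placeData k X hdim hreg
  obtain ⟨t, C, h1, h2⟩ := Groth.Agent.Helper4.SN568.exists_canon k X hdim hreg pd
  have hdeg := (Groth.Agent.Helper5.FF.ell_canonical pd.hK h2).2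
  have hgen := Groth.Agent.Helper4.SN560.genus_eq pd
  exact Groth.Agent.Helper4.SN569.hom_eq_zero_of_deg_pos pd _
    (Groth.Agent.Helper4.SN568.isInvertible_omega k X hdim hreg) t C h1 (by omega) θ

end Groth.Agent.Helper4.SN570
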