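import Mathlib
import Groth.Agent.Helper4.SN569
import Groth.Agent.Helper4.SN366
import Groth.Agent.Helper4.SN555
import Groth.Agent.Lead.Ref1B

/-!
# Divisors of rational sections: tensor products and inverses
-/

set_option autoImplicit false
set_option linter.style.haveILetI false
set_option linter.unusedSectionVars false
universe u
open CategoryTheory CategoryTheory.Limits AlgebraicGeometry TopologicalSpace Opposite FunFld
open scoped TensorProduct

namespace Groth.Agent.Helper4.SN571

open Groth.Agent.Helper4.StalkDict Groth.Agent.Helper4.SN549 Groth.Agent.Helper4.TwistExt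
  Groth.Agent.Helper4.SN550 Groth.Agent.Helper4.SN553 Groth.Agent.Lead.Ref1B

attribute [local instance] Curv2.stalkAlgebra Curv2.resAlgebra

variable {k : Type u} [Field k] {X : Scheme.{u}} [X.Over (Spec (CommRingCat.of k))]
  [IsIntegral X] (pd : PlaceData k X)

/-- the local exponent of a rational section determines the coefficient of its divisor -/
theorem coeff_eq_of_isDiv {L : X.Modules} {T : X.Opens} {e : Γ(L, T)} (he : IsFrame L T e)
    (x : {x : X // IsClosed ({x} : Set X)}) (hx : x.1 ∈ T) (g : X.functionField) (hg : g ≠ 0)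
    (D : Divisor k X.functionField)
    (h : IsDiv pd L (g • L.presheaf.germ T (genericPoint X) (gen_mem T hx) e) D) :
    D (pd.pl x) = -WithZero.log ((pd.pl x).1 g) :=
  exponent_unique (k := k) (pd.pl x) _ _ fun f =>
    ((h x f).symm.trans (smul_mem_range_sp_iff pd he x hx g hg f))

/-- **the divisor of a tensor product of rational sections is the sum of the divisors** -/
theorem isDiv_tensor {L L' : X.Modules} (hL : PicF.IsInvertible L) (hL' : PicF.IsInvertible L')
    {t : L.presheaf.stalk (genericPoint X)} {u : L'.presheaf.stalk (genericPoint X)}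
    {D E : Divisor k X.functionField} (h : IsDiv pd L t D) (h' : IsDiv pd L' u E) :
    IsDiv pd (CohB1.tensorMod L L')
      (stalkTensorEquiv L L' (genericPoint X) (t ⊗ₜ[X.functionField] u)) (D + E) := by
  intro x f
  have ht0 := Groth.Agent.Helper4.SN551.IsDiv.ne_zero pd h x
  have hu0 := Groth.Agent.Helper4.SN551.IsDiv.ne_zero pd h' x
  obtain ⟨T, l, l', hxT, -, -, hl, hl', hll'⟩ :=
    Groth.Agent.Helper4.SN366.exists_frames₂ L L' hL hL' ⊤ x.1 trivial
  have hη := gen_mem T hxT
  obtain ⟨a, ha⟩ := exists_smul_gen hl hη t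
  obtain ⟨b, hb⟩ := exists_smul_gen hl' hη u
  have ha0 : a ≠ 0 := by
    rintro rfl
    exact ht0 (by rw [ha, zero_smul])
  have hb0 : b ≠ 0 := by
    rintro rfl
    exact hu0 (by rw [hb, zero_smul])
  have hD : D (pd.pl x) = -WithZero.log ((pd.pl x).1 a) := by
    subst ha
    exact coeff_eq_of_isDiv pd hl x hxT a ha0 D h
  have hE : E (pd.pl x) = -WithZero.log ((pd.pl x).1 b) := by
    subst hb
    exact coeff_eq_of_isDiv pd hl' x hxT b hb0 E h'
  have hτ : stalkTensorEquiv L L' (genericPoint X) (t ⊗ₜ[X.functionField] u) =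
      (a * b) • (CohB1.tensorMod L L').presheaf.germ T (genericPoint X) hη
        (SecTwist.tmul L L' T l l') := by
    rw [ha, hb, TensorProduct.smul_tmul_smul, map_smul, stalkTensorEquiv_germ]
  rw [hτ, smul_mem_range_sp_iff pd hll' x hxT (a * b) (mul_ne_zero ha0 hb0) f, Finsupp.add_apply,
    hD, hE, map_mul, WithZero.log_mul ((Valuation.ne_zero_iff _).mpr ha0)
      ((Valuation.ne_zero_iff _).mpr hb0)]
  congr! 2
  ring

/-- a tensor inverse of an invertible module with a rational section of divisor `D` has a rational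
section of divisor `-D` -/
theorem exists_isDiv_inverse {L M : X.Modules} (hL : PicF.IsInvertible L)
    (hM : PicF.IsInvertible M) (e : CohB1.tensorMod L M ≅ Coh.structureModule X)
    {t : L.presheaf.stalk (genericPoint X)} {D : Divisor k X.functionField}
    (h : IsDiv pd L t D) :
    ∃ u : M.presheaf.stalk (genericPoint X), IsDiv pd M u (-D) := by
  obtain ⟨u₀, hu₀, -⟩ := Groth.Agent.Helper4.SN555.exists_gen M hM
  obtain ⟨E, hE⟩ := exists_isDiv pd M hM u₀ hu₀
  have h1 := (isDiv_tensor pd hL hM h hE).of_iso pd e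
  have h2 := Groth.Agent.Helper4.SN555.sub_mem_prinDivs_of_iso pd (Iso.refl _)
    Groth.Agent.Helper4.TensorInv.isInvertible_structureModule h1 (isDiv_one pd)
  rw [sub_zero, Groth.Agent.Helper6.FFZeta.mem_prinDivs_iff pd.hK] at h2
  obtain ⟨g, hg0, hg⟩ := h2
  refine ⟨g⁻¹ • u₀, ?_⟩
  have h3 := hE.smul pd g⁻¹ (inv_ne_zero hg0)
  have h4 : E + FunFld.div k g⁻¹ = -D := by
    have h5 : FunFld.div k g⁻¹ = -FunFld.div k g := by
      ext P
      rw [Finsupp.neg_apply, Groth.Agent.Helper5.FF.div_apply pd.hK,
        Groth.Agent.Helper5.FF.div_apply pd.hK]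
      unfold Place.ord
      rw [map_inv₀, WithZero.log_inv]
    rw [h5, ← hg]
    abel
  rwa [h4] at h3

end Groth.Agent.Helper4.SN571
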