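import Mathlib
import Groth.Agent.Helper4.SN571
import Groth.Agent.Helper4.SN104
import Groth.Agent.Helper4.SN10
import Groth.Agent.Helper4.InvOfTensor

/-!
# Vanishing of `H^0` in negative degree; `h^1` of the tangent sheaf of a curve of genus at least two
-/

set_option autoImplicit false
set_option linter.style.haveILetI false
set_option linter.unusedSectionVars false
universe u
open CategoryTheory CategoryTheory.Limits AlgebraicGeometry TopologicalSpace Opposite FunFld

namespace Groth.Agent.Helper4.SN572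

open Groth.Agent.Helper4.SN550 Groth.Agent.Helper4.SN

attribute [local instance] Curv2.stalkAlgebra Curv2.resAlgebra

section General

variable {k : Type u} [Field k] {X : Scheme.{u}} [X.Over (Spec (CommRingCat.of k))]
  [IsIntegral X] (pd : PlaceData k X)

include pd in
theorem h0_eq_zero_of_deg_neg (L : X.Modules) (hL : PicF.IsInvertible L)
    (hdeg : Curv2.deg k X L 1 < 0) : Module.finrank k (Coh.HH X L 0) = 0 := by
  obtain ⟨t, ht0, -⟩ := Groth.Agent.Helper4.SN555.exists_gen L hL
  obtain ⟨D, hD⟩ := exists_isDiv pd L hL t ht0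
  rw [Groth.Agent.Helper4.SN559.finrank_h0_eq_ell pd L hL t D hD]
  unfold ell
  rw [Groth.Agent.Helper5.FF.L_eq_bot_of_deg_neg pd.hK D
    (by rw [← Groth.Agent.Helper4.SN552.deg_eq_of_isDiv pd L hL t D hD]; exact hdeg), finrank_bot]

end General

variable (k : Type u) [Field k] [IsAlgClosed k] (X : Scheme.{u}) [X.Over (Spec (CommRingCat.of k))]
  [IsIntegral X] [IsProper (X ↘ Spec (CommRingCat.of k))]
  (hdim : topologicalKrullDim X = 1)
  (hreg : ∀ x : X, IsRegularLocalRing (X.presheaf.stalk x))

include hdim hreg in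
theorem main14065 (g : ℕ) (hg : Curv2.genus k X = g) (h2 : 2 ≤ g) (T : X.Modules)
    (hT : ClSub.IsInverseOf T (Omega.sheaf (X ↘ (Spec (CommRingCat.of k))))) :
    Module.finrank k (Coh.HH X T 1) = 3 * g - 3 := by
  obtain ⟨e⟩ := hT
  have hΩ := Groth.Agent.Helper4.SN568.isInvertible_omega k X hdim hreg
  have hTi := Groth.Agent.Helper4.InvOfTensor.isInvertible_of_tensor_iso T _ e
  have hdegT := deg_inverse k hdim.le _ T hΩ hTi e
  rw [Groth.Agent.Helper4.SN568.deg_omega k X hdim hreg, hg] at hdegT
  obtain ⟨pd⟩ := Groth.Agent.Helper4.SN568.nonempty_placeData k X hdim hreg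
  have h0 := h0_eq_zero_of_deg_neg pd T hTi (by rw [hdegT]; omega)
  haveI := Groth.Agent.Helper4.NApx82.isNoetherian_of_proper k X
  have hχT := chi_eq_h0_sub_h1 k hdim.le T
  have hχO := chi_eq_h0_sub_h1 k hdim.le (Coh.structureModule X)
  have hO0 := Groth.Agent.Helper4.SN560.finrank_h0_structureModule pd
  unfold Curv2.deg at hdegT
  unfold chi at hχT hχO
  rw [hχT, hχO, h0, hO0] at hdegT
  have hgen : Module.finrank k (Coh.HH X (Coh.structureModule X) 1) = g := hg
  rw [hgen] at hdegT
  push_cast at hdegT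
  omega

end Groth.Agent.Helper4.SN572
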