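import Mathlib
import Groth.Agent.Helper4.SN571
import Groth.Agent.Helper4.EpiStalk
import Groth.Agent.Helper4.StalkExact
import Groth.Agent.Lead.GlobGen

/-!
# Base point free divisors give globally generated invertible modules
-/

set_option autoImplicit false
set_option linter.style.haveILetI false
set_option linter.unusedSectionVars false
universe u
open CategoryTheory CategoryTheory.Limits AlgebraicGeometry TopologicalSpace Opposite FunFld

namespace Groth.Agent.Helper4.SN573

open Groth.Agent.Helper4.StalkDict Groth.Agent.Helper4.SN549 Groth.Agent.Helper4.TwistExt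
  Groth.Agent.Helper4.SN550 Groth.Agent.Helper4.SN553

attribute [local instance] Curv2.stalkAlgebra Curv2.resAlgebra

variable {k : Type u} [Field k] {X : Scheme.{u}} [X.Over (Spec (CommRingCat.of k))]
  [IsIntegral X] (pd : PlaceData k X)

include pd in
/-- an element of `L(D)` defines a global section -/
theorem exists_section_of_mem_L (L : X.Modules) (hL : PicF.IsInvertible L)
    (t : L.presheaf.stalk (genericPoint X)) (D : Divisor k X.functionField)
    (h : IsDiv pd L t D) (f : X.functionField) (hf : f ∈ FunFld.L D) :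
    ∃ s : Γ(L, ⊤), L.presheaf.germ ⊤ (genericPoint X) trivial s = f • t := by
  apply exists_section_of_forall_mem_range L hL
  intro z
  by_cases hz : z = genericPoint X
  · subst hz
    exact ⟨f • t, Groth.Agent.Helper4.SN559.sp_genericPoint L _⟩
  · exact (h ⟨z, pd.closed z hz⟩ f).2 (hf _)

include pd in
theorem isGloballyGenerated_of_isDiv (L : X.Modules) (hL : PicF.IsInvertible L)
    (t : L.presheaf.stalk (genericPoint X)) (D : Divisor k X.functionField)
    (h : IsDiv pd L t D)
    (hbpf : ∀ P : Place k X.functionField, ∃ f ∈ FunFld.L D, P.1 f = WithZero.exp (D P)) :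
    Curv2.IsGloballyGenerated L := by
  obtain ⟨P0⟩ := Groth.Agent.Helper5.FF.nonempty_place pd.hK
  obtain ⟨x0, -⟩ := pd.pl.surjective P0
  have ht0 := Groth.Agent.Helper4.SN551.IsDiv.ne_zero pd h x0
  have key : ∀ y : X, ∃ s : Γ(L, ⊤), ∀ m : L.presheaf.stalk y,
      ∃ a : X.presheaf.stalk y, m = a • L.presheaf.germ ⊤ y trivial s := by
    intro y
    by_cases hy : y = genericPoint X
    · subst hy
      obtain ⟨f, hfL, hfv⟩ := hbpf P0
      have hf0 : f ≠ 0 := by
        rintro rfl
        rw [map_zero] at hfv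
        exact WithZero.exp_ne_zero hfv.symm
      obtain ⟨s, hs⟩ := exists_section_of_mem_L pd L hL t D h f hfL
      refine ⟨s, fun m => ?_⟩
      have hne : f • t ≠ 0 := fun h0 =>
        hf0 (Groth.Agent.Helper4.SN565.smul_eq_zero_imp L hL t ht0 f h0)
      obtain ⟨g, hg⟩ := Groth.Agent.Helper4.SN565.exists_smul_eq L hL (f • t) hne m
      exact ⟨g, by rw [hg, hs]⟩
    · set x : {x : X // IsClosed ({x} : Set X)} := ⟨y, pd.closed y hy⟩ with hx
      obtain ⟨f, hfL, hfv⟩ := hbpf (pd.pl x)
      have hf0 : f ≠ 0 := by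
        rintro rfl
        rw [map_zero] at hfv
        exact WithZero.exp_ne_zero hfv.symm
      obtain ⟨s, hs⟩ := exists_section_of_mem_L pd L hL t D h f hfL
      refine ⟨s, fun m => ?_⟩
      obtain ⟨T, e, hxT, he⟩ := Groth.Agent.Helper4.SN242.exists_frame L hL y
      have hη := gen_mem T hxT
      obtain ⟨a, ha⟩ := exists_smul_gen he hη t
      have ha0 : a ≠ 0 := by
        rintro rfl
        exact ht0 (by rw [ha, zero_smul])
      have hD : D (pd.pl x) = -WithZero.log ((pd.pl x).1 a) := by
        subst ha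
        exact Groth.Agent.Helper4.SN571.coeff_eq_of_isDiv pd he x hxT a ha0 D h
      obtain ⟨c, hc⟩ := exists_smul_germ he y hxT (L.presheaf.germ ⊤ y trivial s)
      have hc' : algebraMap (X.presheaf.stalk y) X.functionField c = f * a := by
        have h1 := congrArg (sp L y) hc
        rw [sp_germ, sp_smul, sp_germ, hs, ha, smul_smul] at h1
        have h2 : (f * a - algebraMap (X.presheaf.stalk y) X.functionField c) •
            L.presheaf.germ T (genericPoint X) hη e = 0 := by
          rw [sub_smul, h1, sub_self]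
        exact (sub_eq_zero.mp (smul_gen_eq_zero he hη _ h2)).symm
      have hcu : IsUnit c := by
        apply pd.isUnit_of_val_eq_one x c
        rw [hc', map_mul, hfv, hD, WithZero.exp_neg, WithZero.exp_log
          ((Valuation.ne_zero_iff _).mpr ha0)]
        exact inv_mul_cancel₀ ((Valuation.ne_zero_iff _).mpr ha0)
      obtain ⟨b, hb⟩ := exists_smul_germ he y hxT m
      obtain ⟨c', hc'1⟩ := hcu.exists_left_inv
      refine ⟨b * c', ?_⟩
      rw [hc, smul_smul, mul_assoc, hc'1, mul_one, hb]
  choose s hs using key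
  refine ⟨Γ(L, ⊤), Groth.Agent.Lead.GlobGen.canFree L, ?_⟩
  refine (Groth.Agent.Helper4.EpiStalk.epi_iff_stalkLin_surjective
    (Groth.Agent.Lead.GlobGen.canFree L)).mpr ?_
  intro y m
  obtain ⟨a, ha⟩ := hs y m
  obtain ⟨σ, hσ⟩ := Groth.Agent.Lead.GlobGen.canFree_surj L (s y)
  let F : X.Modules := SheafOfModules.free Γ(L, ⊤)
  refine ⟨a • F.presheaf.germ ⊤ y trivial σ, ?_⟩
  rw [map_smul, Groth.Agent.Helper4.StalkExact.stalkLin_germ, hσ, ha]

/-- strict drop of `ℓ` at a place gives a function of exact order -/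
theorem exists_exact_of_ell_lt
    (D : Divisor k X.functionField) (P : Place k X.functionField)
    (hlt : ell (D - Finsupp.single P 1) < ell D) :
    ∃ f ∈ FunFld.L D, P.1 f = WithZero.exp (D P) := by
  classical
  have hle : FunFld.L (D - Finsupp.single P 1) ≤ FunFld.L D := by
    intro f hf Q
    refine (hf Q).trans ?_
    rw [WithZero.exp_le_exp, Finsupp.sub_apply]
    by_cases hQ : Q = P
    · subst hQ; rw [Finsupp.single_eq_same]; omega
    · rw [Finsupp.single_eq_of_ne hQ]; omega
  have hne : FunFld.L (D - Finsupp.single P 1) ≠ FunFld.L D := by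
    intro heq
    unfold ell at hlt
    rw [heq] at hlt
    exact lt_irrefl _ hlt
  obtain ⟨f, hfD, hfn⟩ := SetLike.exists_of_lt (lt_of_le_of_ne hle hne)
  refine ⟨f, hfD, ?_⟩
  have hex : ∃ Q : Place k X.functionField,
      ¬ Q.1 f ≤ WithZero.exp ((D - Finsupp.single P 1 : Divisor k X.functionField) Q) := by
    by_contra hall
    push Not at hall
    exact hfn hall
  obtain ⟨Q, hQ⟩ := hex
  have hQP : Q = P := by
    by_contra hQP
    apply hQ
    rw [Finsupp.sub_apply, Finsupp.single_eq_of_ne hQP, sub_zero]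
    exact hfD Q
  subst hQP
  rw [Finsupp.sub_apply, Finsupp.single_eq_same, not_le] at hQ
  have h1 := hfD Q
  have hf0 : Q.1 f ≠ 0 := by
    intro h0
    rw [h0] at hQ
    exact not_lt.mpr zero_le hQ
  obtain ⟨m, hm⟩ : ∃ m : ℤ, Q.1 f = WithZero.exp m := ⟨_, (WithZero.exp_log hf0).symm⟩
  rw [hm, WithZero.exp_le_exp] at h1
  rw [hm, WithZero.exp_lt_exp] at hQ
  rw [hm]
  congr 1
  omega

end Groth.Agent.Helper4.SN573
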