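import Mathlib
import Groth.Agent.Helper4.SN573
import Groth.Agent.Helper4.SN572

/-!
# The canonical sheaf of a curve of positive genus over an algebraically closed field is
globally generated
-/

set_option autoImplicit false
set_option linter.style.haveILetI false
set_option linter.unusedSectionVars false
universe u
open CategoryTheory CategoryTheory.Limits AlgebraicGeometry TopologicalSpace Opposite FunFld

namespace Groth.Agent.Helper4.SN574

attribute [local instance] Curv2.stalkAlgebra Curv2.resAlgebra

variable (k : Type u) [Field k] [IsAlgClosed k] (X : Scheme.{u}) [X.Over (Spec (CommRingCat.of k))]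
  [IsIntegral X] [IsProper (X ↘ Spec (CommRingCat.of k))]
  (hdim : topologicalKrullDim X = 1)
  (hreg : ∀ x : X, IsRegularLocalRing (X.presheaf.stalk x))

include hdim hreg in
theorem main11334 (hg : 1 ≤ Curv2.genus k X) :
    Curv2.IsGloballyGenerated (Omega.sheaf (X ↘ (Spec (CommRingCat.of k)))) := by
  obtain ⟨pd⟩ := Groth.Agent.Helper4.SN568.nonempty_placeData k X hdim hreg
  obtain ⟨t, C, h1, h2⟩ := Groth.Agent.Helper4.SN568.exists_canon k X hdim hreg pd
  apply Groth.Agent.Helper4.SN573.isGloballyGenerated_of_isDiv pd _
    (Groth.Agent.Helper4.SN568.isInvertible_omega k X hdim hreg) t C h1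
  intro P
  apply Groth.Agent.Helper4.SN573.exists_exact_of_ell_lt C P
  exact Groth.Agent.Helper5.FF.ell_sub_single_lt_ell pd.hK
    (by rw [← Groth.Agent.Helper4.SN560.genus_eq pd]; omega) C (Or.inr h2) P
    (Groth.Agent.Helper5.FF.deg_eq_one_of_isAlgClosed pd.hK P)

end Groth.Agent.Helper4.SN574
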