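import Mathlib
import Groth.Agent.Helper4.SN574
import Groth.Agent.Helper4.SN56

/-!
# `h¹(L) = ℓ(C - D)`; Clifford's inequality for special divisors
-/

set_option autoImplicit false
set_option linter.style.haveILetI false
set_option linter.unusedSectionVars false
universe u
open CategoryTheory CategoryTheory.Limits AlgebraicGeometry TopologicalSpace Opposite FunFld

namespace Groth.Agent.Helper4.SN575

open Groth.Agent.Helper4.SN550 Groth.Agent.Helper4.SN

attribute [local instance] Curv2.stalkAlgebra Curv2.resAlgebra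

section General

variable {k : Type u} [Field k] {X : Scheme.{u}} [X.Over (Spec (CommRingCat.of k))]
  [IsIntegral X] (pd : PlaceData k X)

include pd in
/-- Riemann–Roch and duality, numerically: `h¹(L) = ℓ(C - D)` -/
theorem finrank_h1_eq_ell (C : Divisor k X.functionField) (hC : IsCanonical k X.functionField C)
    (L : X.Modules) (hL : PicF.IsInvertible L) (t : L.presheaf.stalk (genericPoint X))
    (D : Divisor k X.functionField) (h : IsDiv pd L t D) :
    Module.finrank k (Coh.HH X L 1) = ell (C - D) := by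
  haveI := pd.hp
  haveI := Groth.Agent.Helper4.NApx82.isNoetherian_of_proper k X
  have hdim := pd.hdim
  have hχL := chi_eq_h0_sub_h1 k hdim.le L
  have hχO := chi_eq_h0_sub_h1 k hdim.le (Coh.structureModule X)
  have hO0 := Groth.Agent.Helper4.SN560.finrank_h0_structureModule pd
  have hdeg := Groth.Agent.Helper4.SN552.deg_eq_of_isDiv pd L hL t D h
  have h0 := Groth.Agent.Helper4.SN559.finrank_h0_eq_ell pd L hL t D h
  have hRR := Groth.Agent.Helper5.FF.riemann_roch pd.hK C hC D
  have hgen := Groth.Agent.Helper4.SN560.genus_eq pd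
  unfold Curv2.genus at hgen
  unfold Curv2.deg at hdeg
  unfold chi at hχL hχO
  rw [hχL, hχO, hO0, h0, hgen] at hdeg
  push_cast at hdeg
  omega

end General

variable (k : Type u) [Field k] [IsAlgClosed k] (X : Scheme.{u}) [X.Over (Spec (CommRingCat.of k))]
  [IsIntegral X] [IsProper (X ↘ Spec (CommRingCat.of k))]
  (hdim : topologicalKrullDim X = 1)
  (hreg : ∀ x : X, IsRegularLocalRing (X.presheaf.stalk x))

include hdim hreg in
theorem main11336 (L M : X.Modules) (hL : PicF.IsInvertible L) (hM : ClSub.IsInverseOf L M)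
    (hs : Nontrivial (Coh.HH X L 0))
    (hsp : Nontrivial (Coh.HH X (CohB1.tensorMod (Omega.sheaf (X ↘ (Spec (CommRingCat.of k)))) M) 0)) :
    2 * (Module.finrank k (Coh.HH X L 0) : ℤ) ≤ Curv2.deg k X L 1 + 2 := by
  obtain ⟨e⟩ := hM
  haveI := Groth.Agent.Helper4.NApx82.isNoetherian_of_proper k X
  have hΩ := Groth.Agent.Helper4.SN568.isInvertible_omega k X hdim hreg
  have hMi : PicF.IsInvertible M :=
    Groth.Agent.Helper4.InvOfTensor.isInvertible_of_tensor_iso M L
      (Groth.Agent.Lead.Ref1B.braid M L ≪≫ e)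
  obtain ⟨pd⟩ := Groth.Agent.Helper4.SN568.nonempty_placeData k X hdim hreg
  obtain ⟨ω, C, hC1, hC2⟩ := Groth.Agent.Helper4.SN568.exists_canon k X hdim hreg pd
  obtain ⟨t, ht0, -⟩ := Groth.Agent.Helper4.SN555.exists_gen L hL
  obtain ⟨D, hD⟩ := exists_isDiv pd L hL t ht0
  obtain ⟨u, hu⟩ := Groth.Agent.Helper4.SN571.exists_isDiv_inverse pd hL hMi e hD
  have hΩM := Groth.Agent.Helper4.SN571.isDiv_tensor pd hΩ hMi hC1 hu
  have hΩMi := Groth.Agent.Helper4.TensorInv.isInvertible_tensorMod hΩ hMi
  have h0 := Groth.Agent.Helper4.SN559.finrank_h0_eq_ell pd _ hΩMi _ _ hΩM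
  have hcoh := Groth.Agent.Helper1.SerreFin.isCoh_of_isInvertible _ hΩMi
  haveI : Module.Finite k (Coh.HH X (CohB1.tensorMod
      (Omega.sheaf (X ↘ (Spec (CommRingCat.of k)))) M) 0) :=
    Groth.Agent.S0002.result k X _ hcoh 0
  have hpos : 0 < Module.finrank k (Coh.HH X (CohB1.tensorMod
      (Omega.sheaf (X ↘ (Spec (CommRingCat.of k)))) M) 0) := Module.finrank_pos
  have h1 := finrank_h1_eq_ell pd C hC2 L hL t D hD
  rw [h0, ← sub_eq_add_neg, ← h1] at hpos
  have hnt : Nontrivial (Coh.HH X L 1) := Module.nontrivial_of_finrank_pos (R := k) hpos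
  exact clifford_two_h0_le k hdim L hL hs hnt

end Groth.Agent.Helper4.SN575
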