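import Mathlib
import Groth.Agent.Helper4.SN575
import Groth.Agent.Helper4.SN143
import Groth.Agent.Lead.OmegaSeqC
import Groth.Agent.Lead.DerA
import Groth.Agent.Lead.H0GeomC

/-!
# Differentials of a smooth proper curve over an arbitrary field, by base change to the algebraic
closure
-/

set_option autoImplicit false
set_option linter.style.haveILetI false
set_option linter.unusedSectionVars false
universe u
open CategoryTheory CategoryTheory.Limits AlgebraicGeometry TopologicalSpace Opposite FunFld

namespace Groth.Agent.Helper4.SN576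

open OmegaSh Groth.Agent.Lead Groth.Agent.Helper4.SN

section Invertible

variable (k : Type u) [Field k] (X : Scheme.{u}) [X.Over (Spec (CommRingCat.of k))]
  [Smooth (X ↘ Spec (CommRingCat.of k))] [QuasiSeparated (X ↘ Spec (CommRingCat.of k))]
  [IrreducibleSpace X]

theorem isInvertible_omega_of_smooth (hdim : topologicalKrullDim X = 1) :
    PicF.IsInvertible (Omega.sheaf (X ↘ Spec (CommRingCat.of k))) := by
  apply Groth.Agent.Helper4.SN.isInvertible_of_rank_one
  intro x
  have hx : x ∈ (X ↘ Spec (CommRingCat.of k)).smoothLocus := by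
    rw [Scheme.Hom.smoothLocus_eq_top]; trivial
  obtain ⟨-, U, n, hxU, φ, hn⟩ := (SmOmegaC.main (X ↘ Spec (CommRingCat.of k)) _
    (dOmega _) (OmegaUnivA.isUniversal _) x).mp hx
  rw [SmOmegaC.fibreDimAt_eq_of_field k X _ x, hdim] at hn
  have h1 : n = 1 := by
    have h2 : ((1 : ℕ) : WithBot ℕ∞) = (n : WithBot ℕ∞) := by rw [← hn]; rfl
    exact_mod_cast h2.symm
  subst h1
  exact ⟨U, hxU, φ⟩

end Invertible

section BC

variable (k : Type u) [Field k] {X : Scheme.{u}} [X.Over (Spec (CommRingCat.of k))]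
  [IsProper (X ↘ Spec (CommRingCat.of k))]
  (K : Type u) [Field K] [Algebra k K] {Y : Scheme.{u}} [Y.Over (Spec (CommRingCat.of K))]
  (g : Y ⟶ X)
  (hpb : IsPullback g (Y ↘ Spec (CommRingCat.of K)) (X ↘ Spec (CommRingCat.of k))
    (Spec.map (CommRingCat.ofHom (algebraMap k K))))

include hpb in
/-- base change of the sheaf of differentials -/
theorem nonempty_omega_iso :
    Nonempty ((Scheme.Modules.pullback g).obj (Omega.sheaf (X ↘ Spec (CommRingCat.of k))) ≅
      Omega.sheaf (Y ↘ Spec (CommRingCat.of K))) := by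
  haveI := isProper_bc k K g hpb
  obtain ⟨c, hc, -⟩ := DerA.existsUnique_diffCompat (X ↘ Spec (CommRingCat.of k))
    (Y ↘ Spec (CommRingCat.of K)) g (Spec.map (CommRingCat.ofHom (algebraMap k K))) hpb.w.symm
    (Omega.sheaf _) (dOmega _) (OmegaUnivA.isUniversal _) (Omega.sheaf _) (dOmega _)
  haveI := OmegaSeqC.isIso_of_isPullback (X ↘ Spec (CommRingCat.of k))
    (Spec.map (CommRingCat.ofHom (algebraMap k K))) g (Y ↘ Spec (CommRingCat.of K)) hpb
    (dOmega _) (OmegaUnivA.isUniversal _) (dOmega _) (OmegaUnivA.isUniversal _) c hc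
  exact ⟨asIso c⟩

variable [Smooth (X ↘ Spec (CommRingCat.of k))] [IsAlgClosed K]
  (hdim : topologicalKrullDim X = 1)
  (h0 : Module.finrank k (Coh.HH X (Coh.structureModule X) 0) = 1)

include hpb h0 in
theorem isIntegral_bc' : IsIntegral Y := by
  have hgc := (Groth.Agent.Lead.H0Geom.main3 k X).1.mp h0
  have hgi := (Groth.Agent.Lead.H0Geom.main3 k X).2.mp hgc
  exact hgi.geometrically_isIntegral _ g (Y ↘ Spec (CommRingCat.of K)) hpb

include hpb in
theorem genus_bc : Curv2.genus K Y = Curv2.genus k X :=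
  Groth.Agent.Lead.BCField.finrank_HH_structure_baseChange k K X Y g hpb 1

include hpb hdim h0 in
theorem h0_omega_bc :
    Module.finrank k (Coh.HH X (Omega.sheaf (X ↘ Spec (CommRingCat.of k))) 0) =
      Curv2.genus k X := by
  haveI := isIntegral_bc' k K g hpb h0
  haveI := isProper_bc k K g hpb
  haveI := smooth_bc k K g hpb
  have hdimY : topologicalKrullDim Y = 1 := (dim_bc k K g hpb).trans hdim
  obtain ⟨e⟩ := nonempty_omega_iso k K g hpb
  rw [← Groth.Agent.Lead.BCField.finrank_HH_baseChange k K X Y g hpb _ 0,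
    (Groth.Agent.Lead.BCField.HHlinEquiv K e 0).finrank_eq,
    Groth.Agent.Helper4.SN568.h0_omega K Y hdimY (fun y => regular_of_smooth K y),
    genus_bc k K g hpb]

include hpb hdim h0 in
theorem deg_omega_bc [IsIntegral X] :
    Curv2.deg k X (Omega.sheaf (X ↘ Spec (CommRingCat.of k))) 1 =
      2 * (Curv2.genus k X : ℤ) - 2 := by
  haveI := isIntegral_bc' k K g hpb h0
  haveI := isProper_bc k K g hpb
  haveI := smooth_bc k K g hpb
  have hdimY : topologicalKrullDim Y = 1 := (dim_bc k K g hpb).trans hdim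
  obtain ⟨e⟩ := nonempty_omega_iso k K g hpb
  rw [← deg_pullback k K g hpb _ (isInvertible_omega_of_smooth k X hdim), deg_iso K e 1,
    Groth.Agent.Helper4.SN568.deg_omega K Y hdimY (fun y => regular_of_smooth K y),
    genus_bc k K g hpb]

end BC

end Groth.Agent.Helper4.SN576
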