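import Mathlib
import Groth.Agent.Helper4.SN576

/-!
# `h⁰(Ω) = g` and `deg Ω = 2g - 2` for smooth proper curves over an arbitrary field
-/

set_option autoImplicit false
set_option linter.style.haveILetI false
set_option linter.unusedSectionVars false
universe u
open CategoryTheory CategoryTheory.Limits AlgebraicGeometry TopologicalSpace Opposite FunFld

namespace Groth.Agent.Helper4.SN577

open OmegaSh Groth.Agent.Lead Groth.Agent.Helper4.SN Groth.Agent.Helper4.SN576

variable (k : Type u) [Field k] (X : Scheme.{u}) [X.Over (Spec (CommRingCat.of k))]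
  [IsProper (X ↘ Spec (CommRingCat.of k))] [Smooth (X ↘ Spec (CommRingCat.of k))]
  [IsIntegral X]
  (hdim : topologicalKrullDim X = 1)
  (h0 : Module.finrank k (Coh.HH X (Coh.structureModule X) 0) = 1)

include hdim h0 in
theorem main1612 :
    Module.finrank k (Coh.HH X (Omega.sheaf (X ↘ (Spec (CommRingCat.of k)))) 0) =
        Curv2.genus k X ∧
      Curv2.deg k X (Omega.sheaf (X ↘ (Spec (CommRingCat.of k)))) 1 =
        2 * (Curv2.genus k X : ℤ) - 2 := by
  let K := AlgebraicClosure k
  let Y : Scheme.{u} := pullback (X ↘ Spec (CommRingCat.of k))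
    (Spec.map (CommRingCat.ofHom (algebraMap k K)))
  letI : Y.Over (Spec (CommRingCat.of K)) := ⟨pullback.snd _ _⟩
  have hpb : IsPullback (pullback.fst (X ↘ Spec (CommRingCat.of k))
      (Spec.map (CommRingCat.ofHom (algebraMap k K)))) (Y ↘ Spec (CommRingCat.of K))
      (X ↘ Spec (CommRingCat.of k)) (Spec.map (CommRingCat.ofHom (algebraMap k K))) :=
    IsPullback.of_hasPullback _ _
  exact ⟨h0_omega_bc k K _ hpb hdim h0, deg_omega_bc k K _ hpb hdim h0⟩

end Groth.Agent.Helper4.SN577
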