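import Mathlib
import Groth.Agent.Helper4.SN577
import Groth.Agent.Helper4.SN10
import Groth.Agent.Helper4.SN42

/-!
# The canonical sheaf of a curve of genus one is trivial
-/

set_option autoImplicit false
set_option linter.style.haveILetI false
set_option linter.unusedSectionVars false
universe u
open CategoryTheory CategoryTheory.Limits AlgebraicGeometry TopologicalSpace Opposite FunFld

namespace Groth.Agent.Helper4.SN578

open OmegaSh Groth.Agent.Lead Groth.Agent.Helper4.SN Groth.Agent.Helper4.SN576

section General

variable (k : Type u) [Field k] {X : Scheme.{u}} [X.Over (Spec (CommRingCat.of k))]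
  [IsProper (X ↘ (Spec (CommRingCat.of k)))] [IsIntegral X]

/-- an invertible module of degree `≤ 0` with a nonzero global section is trivial -/
theorem nonempty_iso_unit_of_h0_pos (hdim : topologicalKrullDim X = 1) (L : X.Modules)
    (hL : PicF.IsInvertible L) (hpos : 0 < Module.finrank k (Coh.HH X L 0))
    (hdeg : Curv2.deg k X L 1 ≤ 0) : Nonempty (L ≅ Coh.structureModule X) := by
  obtain ⟨x, hx⟩ : ∃ x : Coh.HH X L 0, x ≠ 0 := by
    by_contra hcon
    push Not at hcon
    haveI : Subsingleton (Coh.HH X L 0) := subsingleton_of_forall_eq 0 hcon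
    rw [Module.finrank_zero_of_subsingleton] at hpos
    exact lt_irrefl _ hpos
  obtain ⟨s0, hs⟩ := Groth.Agent.Helper4.SubExt.exists_unit_hom_of_section L
    (Groth.Agent.Lead.ProperFinA.h0Equiv L x)
  let s : Coh.structureModule X ⟶ L := s0
  have hs0 : s ≠ 0 := by
    intro h
    apply hx
    apply (Groth.Agent.Lead.ProperFinA.h0Equiv L).injective
    rw [map_zero, ← hs]
    have h' : s0 = (0 : Coh.structureModule X ⟶ L) := h
    rw [h']
    rfl
  exact Groth.Agent.Helper4.NApx82.main1520 k X hdim L hL s hs0 hdeg

end General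

variable (k : Type u) [Field k] (C : Scheme.{u}) [C.Over (Spec (CommRingCat.of k))]
  [IsProper (C ↘ (Spec (CommRingCat.of k)))] [Smooth (C ↘ (Spec (CommRingCat.of k)))]
  [GeometricallyConnected (C ↘ (Spec (CommRingCat.of k)))]

theorem h0_structure : Module.finrank k (Coh.HH C (Coh.structureModule C) 0) = 1 :=
  (Groth.Agent.Lead.H0Geom.main3 k C).1.mpr inferInstance

theorem main7831 (hdim : topologicalKrullDim C = 1) (hg : Curv2.genus k C = 1) :
    Nonempty (Omega.sheaf (C ↘ (Spec (CommRingCat.of k))) ≅ Coh.structureModule C) := by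
  haveI : IsIntegral C := isIntegral_of_smooth_of_geometricallyConnected k C
  have h0 := h0_structure k C
  obtain ⟨h1, h2⟩ := Groth.Agent.Helper4.SN577.main1612 k C hdim h0
  rw [hg] at h1 h2
  exact nonempty_iso_unit_of_h0_pos k hdim _ (isInvertible_omega_of_smooth k C hdim)
    (by omega) (by rw [h2]; norm_num)

end Groth.Agent.Helper4.SN578
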