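import Mathlib
import Groth.Agent.Helper4.SN578
import Groth.Agent.Helper4.PullTensor
import Groth.Agent.Helper4.PullSec
import Groth.Agent.Lead.InvDualA

/-!
# `h⁰(Ω ⊗ L⁻¹) = h¹(L)` on smooth proper curves, and the characterisation of `Ω` by its degree
and its number of sections
-/

set_option autoImplicit false
set_option linter.style.haveILetI false
set_option linter.unusedSectionVars false
universe u
open CategoryTheory CategoryTheory.Limits AlgebraicGeometry TopologicalSpace Opposite FunFld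

namespace Groth.Agent.Helper4.SN579

open OmegaSh Groth.Agent.Lead Groth.Agent.Helper4.SN Groth.Agent.Helper4.SN576
  Groth.Agent.Helper4.SN550

attribute [local instance] Curv2.stalkAlgebra Curv2.resAlgebra

section AlgClosed

variable (k : Type u) [Field k] [IsAlgClosed k] (X : Scheme.{u}) [X.Over (Spec (CommRingCat.of k))]
  [IsIntegral X] [IsProper (X ↘ Spec (CommRingCat.of k))]
  (hdim : topologicalKrullDim X = 1)
  (hreg : ∀ x : X, IsRegularLocalRing (X.presheaf.stalk x))

include hdim hreg in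
theorem h0_omega_tensor_eq_h1 (L M : X.Modules) (hL : PicF.IsInvertible L)
    (hMi : PicF.IsInvertible M) (e : CohB1.tensorMod L M ≅ Coh.structureModule X) :
    Module.finrank k (Coh.HH X (CohB1.tensorMod
      (Omega.sheaf (X ↘ (Spec (CommRingCat.of k)))) M) 0) =
      Module.finrank k (Coh.HH X L 1) := by
  have hΩ := Groth.Agent.Helper4.SN568.isInvertible_omega k X hdim hreg
  obtain ⟨pd⟩ := Groth.Agent.Helper4.SN568.nonempty_placeData k X hdim hreg
  obtain ⟨ω, C, hC1, hC2⟩ := Groth.Agent.Helper4.SN568.exists_canon k X hdim hreg pd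
  obtain ⟨t, ht0, -⟩ := Groth.Agent.Helper4.SN555.exists_gen L hL
  obtain ⟨D, hD⟩ := exists_isDiv pd L hL t ht0
  obtain ⟨u, hu⟩ := Groth.Agent.Helper4.SN571.exists_isDiv_inverse pd hL hMi e hD
  have hΩM := Groth.Agent.Helper4.SN571.isDiv_tensor pd hΩ hMi hC1 hu
  have hΩMi := Groth.Agent.Helper4.TensorInv.isInvertible_tensorMod hΩ hMi
  rw [Groth.Agent.Helper4.SN559.finrank_h0_eq_ell pd _ hΩMi _ _ hΩM, ← sub_eq_add_neg,
    Groth.Agent.Helper4.SN575.finrank_h1_eq_ell pd C hC2 L hL t D hD]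

end AlgClosed

section BC

variable (k : Type u) [Field k] {X : Scheme.{u}} [X.Over (Spec (CommRingCat.of k))]
  [IsProper (X ↘ Spec (CommRingCat.of k))] [Smooth (X ↘ Spec (CommRingCat.of k))]
  [IsIntegral X]
  (K : Type u) [Field K] [IsAlgClosed K] [Algebra k K] {Y : Scheme.{u}}
  [Y.Over (Spec (CommRingCat.of K))] (g : Y ⟶ X)
  (hpb : IsPullback g (Y ↘ Spec (CommRingCat.of K)) (X ↘ Spec (CommRingCat.of k))
    (Spec.map (CommRingCat.ofHom (algebraMap k K))))
  (hdim : topologicalKrullDim X = 1)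
  (h0 : Module.finrank k (Coh.HH X (Coh.structureModule X) 0) = 1)

include hpb hdim h0 in
theorem h0_omega_tensor_eq_h1_bc (L M : X.Modules) (hL : PicF.IsInvertible L)
    (hMi : PicF.IsInvertible M) (e : CohB1.tensorMod L M ≅ Coh.structureModule X) :
    Module.finrank k (Coh.HH X (CohB1.tensorMod
      (Omega.sheaf (X ↘ (Spec (CommRingCat.of k)))) M) 0) =
      Module.finrank k (Coh.HH X L 1) := by
  haveI := isIntegral_bc' k K g hpb h0
  haveI := isProper_bc k K g hpb
  haveI := smooth_bc k K g hpb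
  have hdimY : topologicalKrullDim Y = 1 := (dim_bc k K g hpb).trans hdim
  have hregY : ∀ y : Y, IsRegularLocalRing (Y.presheaf.stalk y) := fun y => regular_of_smooth K y
  have hΩ := isInvertible_omega_of_smooth k X hdim
  obtain ⟨eΩ⟩ := nonempty_omega_iso k K g hpb
  have hΩM := Groth.Agent.Helper4.TensorInv.isInvertible_tensorMod hΩ hMi
  haveI : (CohB1.tensorMod (Omega.sheaf (X ↘ (Spec (CommRingCat.of k)))) M).IsQuasicoherent :=
    Groth.Agent.Helper4.QAffSec.isQuasicoherent_of_isInvertible _ hΩM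
  haveI : L.IsQuasicoherent := Groth.Agent.Helper4.QAffSec.isQuasicoherent_of_isInvertible _ hL
  have hLY := Groth.Agent.Helper4.PullSec.isInvertible_pullback g hL
  have hMY := Groth.Agent.Helper4.PullSec.isInvertible_pullback g hMi
  let eY : CohB1.tensorMod ((Scheme.Modules.pullback g).obj L)
      ((Scheme.Modules.pullback g).obj M) ≅ Coh.structureModule Y :=
    (Groth.Agent.Helper4.PullTensor.pullTensorIso g hL hMi).symm ≪≫
      (Scheme.Modules.pullback g).mapIso e ≪≫ Groth.Agent.Helper4.PullUnit.pullbackUnitIso g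
  let eN : (Scheme.Modules.pullback g).obj (CohB1.tensorMod
      (Omega.sheaf (X ↘ (Spec (CommRingCat.of k)))) M) ≅
      CohB1.tensorMod (Omega.sheaf (Y ↘ (Spec (CommRingCat.of K))))
        ((Scheme.Modules.pullback g).obj M) :=
    Groth.Agent.Helper4.PullTensor.pullTensorIso g hΩ hMi ≪≫
      PicGrp.tensorModIso eΩ (Iso.refl _)
  rw [← Groth.Agent.Lead.BCField.finrank_HH_baseChange k K X Y g hpb _ 0,
    (Groth.Agent.Lead.BCField.HHlinEquiv K eN 0).finrank_eq,
    h0_omega_tensor_eq_h1 K Y hdimY hregY _ _ hLY hMY eY,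
    Groth.Agent.Lead.BCField.finrank_HH_baseChange k K X Y g hpb L 1]

end BC

section Main

variable (k : Type u) [Field k] (C : Scheme.{u}) [C.Over (Spec (CommRingCat.of k))]
  [IsProper (C ↘ (Spec (CommRingCat.of k)))] [Smooth (C ↘ (Spec (CommRingCat.of k)))]
  [GeometricallyConnected (C ↘ (Spec (CommRingCat.of k)))]

/-- Serre duality, numerically, over an arbitrary field -/
theorem h0_omega_tensor_eq_h1' (hdim : topologicalKrullDim C = 1) (L M : C.Modules)
    (hL : PicF.IsInvertible L) (hMi : PicF.IsInvertible M)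
    (e : CohB1.tensorMod L M ≅ Coh.structureModule C) :
    Module.finrank k (Coh.HH C (CohB1.tensorMod
      (Omega.sheaf (C ↘ (Spec (CommRingCat.of k)))) M) 0) =
      Module.finrank k (Coh.HH C L 1) := by
  haveI : IsIntegral C := isIntegral_of_smooth_of_geometricallyConnected k C
  have h0 := Groth.Agent.Helper4.SN578.h0_structure k C
  let K := AlgebraicClosure k
  let Y : Scheme.{u} := pullback (C ↘ Spec (CommRingCat.of k))
    (Spec.map (CommRingCat.ofHom (algebraMap k K)))
  letI : Y.Over (Spec (CommRingCat.of K)) := ⟨pullback.snd _ _⟩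
  have hpb : IsPullback (pullback.fst (C ↘ Spec (CommRingCat.of k))
      (Spec.map (CommRingCat.ofHom (algebraMap k K)))) (Y ↘ Spec (CommRingCat.of K))
      (C ↘ Spec (CommRingCat.of k)) (Spec.map (CommRingCat.ofHom (algebraMap k K))) :=
    IsPullback.of_hasPullback _ _
  exact h0_omega_tensor_eq_h1_bc k K _ hpb hdim h0 L M hL hMi e

theorem main13457 (hdim : topologicalKrullDim C = 1) (L : C.Modules) (hL : PicF.IsInvertible L)
    (hdeg : Curv2.deg k C L 1 = 2 * (Curv2.genus k C : ℤ) - 2)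
    (hh0 : Curv2.genus k C ≤ Module.finrank k (Coh.HH C L 0)) :
    Nonempty (L ≅ Omega.sheaf (C ↘ (Spec (CommRingCat.of k)))) := by
  haveI : IsIntegral C := isIntegral_of_smooth_of_geometricallyConnected k C
  haveI := Groth.Agent.Helper4.NApx82.isNoetherian_of_proper k C
  have h0 := Groth.Agent.Helper4.SN578.h0_structure k C
  have hΩ := isInvertible_omega_of_smooth k C hdim
  obtain ⟨M, hMi, ⟨ε⟩, ⟨e⟩⟩ := Groth.Agent.Lead.InvDual.exists_inverse L hL
  have hΩM := Groth.Agent.Helper4.TensorInv.isInvertible_tensorMod hΩ hMi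
  have hdual := h0_omega_tensor_eq_h1' k C hdim L M hL hMi e
  obtain ⟨-, hdΩ⟩ := Groth.Agent.Helper4.SN577.main1612 k C hdim h0
  have hdM := deg_inverse k hdim.le L M hL hMi ε
  have hdN := deg_tensor_inv_curve k hdim _ M hΩ hMi
  have hχL := chi_eq_h0_sub_h1 k hdim.le L
  have hχO := chi_eq_h0_sub_h1 k hdim.le (Coh.structureModule C)
  have hpos : 0 < Module.finrank k (Coh.HH C (CohB1.tensorMod
      (Omega.sheaf (C ↘ (Spec (CommRingCat.of k)))) M) 0) := by
    rw [hdual]
    unfold Curv2.deg at hdeg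
    unfold chi at hχL hχO
    rw [hχL, hχO, h0] at hdeg
    have hgen : Module.finrank k (Coh.HH C (Coh.structureModule C) 1) = Curv2.genus k C := rfl
    rw [hgen] at hdeg
    push_cast at hdeg
    omega
  obtain ⟨φ⟩ := Groth.Agent.Helper4.SN578.nonempty_iso_unit_of_h0_pos k hdim _ hΩM hpos
    (by rw [hdN, hdM, hdΩ, hdeg]; norm_num)
  obtain ⟨ψ⟩ := nonempty_iso_of_tensor_iso (Omega.sheaf (C ↘ (Spec (CommRingCat.of k)))) L M L ε
    (φ ≪≫ e.symm)
  exact ⟨ψ.symm⟩

end Main

end Groth.Agent.Helper4.SN579
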