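import Mathlib
import Groth.Agent.Helper4.SN579
import Groth.Agent.Lead.GlobGen

/-!
# The canonical sheaf of a smooth proper curve of positive genus over an arbitrary field is
globally generated
-/

set_option autoImplicit false
set_option linter.style.haveILetI false
set_option linter.unusedSectionVars false
universe u
open CategoryTheory CategoryTheory.Limits AlgebraicGeometry TopologicalSpace Opposite FunFld

namespace Groth.Agent.Helper4.SN580

open OmegaSh Groth.Agent.Lead Groth.Agent.Helper4.SN Groth.Agent.Helper4.SN576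

section BC

variable (k : Type u) [Field k] {X : Scheme.{u}} [X.Over (Spec (CommRingCat.of k))]
  [IsProper (X ↘ Spec (CommRingCat.of k))] [Smooth (X ↘ Spec (CommRingCat.of k))]
  [IsIntegral X]
  (K : Type u) [Field K] [IsAlgClosed K] [Algebra k K] {Y : Scheme.{u}}
  [Y.Over (Spec (CommRingCat.of K))] (g : Y ⟶ X)
  (hpb : IsPullback g (Y ↘ Spec (CommRingCat.of K)) (X ↘ Spec (CommRingCat.of k))
    (Spec.map (CommRingCat.ofHom (algebraMap k K))))
  (hdim : topologicalKrullDim X = 1)
  (h0 : Module.finrank k (Coh.HH X (Coh.structureModule X) 0) = 1)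

include hpb hdim h0 in
theorem isGloballyGenerated_omega_bc (hg : 1 ≤ Curv2.genus k X) :
    Curv2.IsGloballyGenerated (Omega.sheaf (X ↘ (Spec (CommRingCat.of k)))) := by
  haveI := isIntegral_bc' k K g hpb h0
  haveI := isProper_bc k K g hpb
  haveI := smooth_bc k K g hpb
  have hdimY : topologicalKrullDim Y = 1 := (dim_bc k K g hpb).trans hdim
  have hregY : ∀ y : Y, IsRegularLocalRing (Y.presheaf.stalk y) := fun y => regular_of_smooth K y
  obtain ⟨eΩ⟩ := nonempty_omega_iso k K g hpb
  obtain ⟨ι, p, hp⟩ := Groth.Agent.Helper4.SN574.main11334 K Y hdimY hregY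
    (by rw [genus_bc k K g hpb]; exact hg)
  haveI : Flat (Spec.map (CommRingCat.ofHom (algebraMap k K))) := by
    rw [HasRingHomProperty.Spec_iff (P := @Flat)]
    show RingHom.Flat (algebraMap k K)
    rw [RingHom.flat_algebraMap_iff]
    infer_instance
  haveI : Surjective (Spec.map (CommRingCat.ofHom (algebraMap k K))) := by
    refine ⟨fun x => ⟨(inferInstance : Nonempty (Spec (CommRingCat.of K))).some, ?_⟩⟩
    exact Subsingleton.elim (α := PrimeSpectrum k) _ _
  have hq : Epi (p ≫ eΩ.inv) := by
    haveI : Epi p := hp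
    infer_instance
  have := Groth.Agent.Lead.GlobGen.epi_canFree (X ↘ Spec (CommRingCat.of k))
    (Spec.map (CommRingCat.ofHom (algebraMap k K))) g (Y ↘ Spec (CommRingCat.of K)) hpb
    (Omega.sheaf (X ↘ (Spec (CommRingCat.of k)))) (p ≫ eΩ.inv) hq
  exact ⟨_, _, this⟩

end BC

variable (k : Type u) [Field k] (X : Scheme.{u}) [X.Over (Spec (CommRingCat.of k))]
  [IsProper (X ↘ (Spec (CommRingCat.of k)))] [Smooth (X ↘ (Spec (CommRingCat.of k)))]
  [IsIntegral X]

theorem isGloballyGenerated_omega (hdim : topologicalKrullDim X = 1)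
    (h0 : Module.finrank k (Coh.HH X (Coh.structureModule X) 0) = 1)
    (hg : 1 ≤ Curv2.genus k X) :
    Curv2.IsGloballyGenerated (Omega.sheaf (X ↘ (Spec (CommRingCat.of k)))) := by
  let K := AlgebraicClosure k
  let Y : Scheme.{u} := pullback (X ↘ Spec (CommRingCat.of k))
    (Spec.map (CommRingCat.ofHom (algebraMap k K)))
  letI : Y.Over (Spec (CommRingCat.of K)) := ⟨pullback.snd _ _⟩
  have hpb : IsPullback (pullback.fst (X ↘ Spec (CommRingCat.of k))
      (Spec.map (CommRingCat.ofHom (algebraMap k K)))) (Y ↘ Spec (CommRingCat.of K))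
      (X ↘ Spec (CommRingCat.of k)) (Spec.map (CommRingCat.ofHom (algebraMap k K))) :=
    IsPullback.of_hasPullback _ _
  exact isGloballyGenerated_omega_bc k K _ hpb hdim h0 hg

end Groth.Agent.Helper4.SN580
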