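import Mathlib
import Groth.Agent.Helper4.SN73
import Groth.Agent.Helper4.SN38
import Groth.Agent.Helper4.FinLocFree6
import Groth.Agent.Helper4.QAffSec

/-!
# Degrees of pullbacks along finite locally free morphisms of curves

`deg (f^* L) = m · deg L` when `f_* O_X` is locally free of rank `m`.
-/

set_option autoImplicit false
set_option linter.style.haveILetI false
set_option linter.unusedSectionVars false
universe u
open CategoryTheory CategoryTheory.Limits AlgebraicGeometry TopologicalSpace Opposite

namespace Groth.Agent.Helper4.SN581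

open Groth.Agent.Helper4.SN Groth.Agent.Helper1.Dev

variable (k : Type u) [Field k] {X Y : Scheme.{u}} [X.Over (Spec (CommRingCat.of k))]
  [Y.Over (Spec (CommRingCat.of k))] [IsProper (Y ↘ (Spec (CommRingCat.of k)))]

/-- degree of a pullback along a finite locally free morphism of rank `m` -/
theorem deg_pullback_of_rank (hdim : topologicalKrullDim Y ≤ 1) (f : X ⟶ Y) [IsAffineHom f]
    (hf : f ≫ (Y ↘ (Spec (CommRingCat.of k))) = X ↘ (Spec (CommRingCat.of k)))
    (m : ℕ)
    (hP : FlatMod.IsFinLocFreeOfRank m
      ((Scheme.Modules.pushforward f).obj (Coh.structureModule X)))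
    (L : Y.Modules) (hL : PicF.IsInvertible L) :
    Curv2.deg k X ((Scheme.Modules.pullback f).obj L) 1 = m * Curv2.deg k Y L 1 := by
  have hL1 := Groth.Agent.Helper4.QAffSec.isFinLocFreeOfRank_one_of_isInvertible L hL
  have h1 := deg_pullback_eq_rkDefect k f hf 1 L hL1
  have h2 := main7637 k hdim m 1 _ L hP hL1
  rw [h1]
  unfold rkDefect
  rw [chi_tensorRight_obj]
  unfold Curv2.deg at h2 ⊢
  have e1 : chi k Y (CohB1.tensorMod ((Scheme.Modules.pushforward f).obj (Coh.structureModule X)) L)
      = Curv2.euler k Y
        (CohB1.tensorMod ((Scheme.Modules.pushforward f).obj (Coh.structureModule X)) L) := rfl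
  have e2 : chi k Y ((Scheme.Modules.pushforward f).obj (Coh.structureModule X)) =
      Curv2.euler k Y ((Scheme.Modules.pushforward f).obj (Coh.structureModule X)) := rfl
  rw [e1, e2]
  push_cast at h2 ⊢
  linarith

end Groth.Agent.Helper4.SN581
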