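import Mathlib
import Groth.Agent.Helper4.SN38
import Groth.Agent.Helper4.FinLocFree6
import Groth.Agent.Helper4.QAffSec

/-!
# An affine morphism whose `f_* O_X` is locally free of rank one is an isomorphism;
rank zero forces the source to be empty
-/

set_option autoImplicit false
set_option linter.style.haveILetI false
set_option linter.unusedSectionVars false
universe u
open CategoryTheory CategoryTheory.Limits AlgebraicGeometry TopologicalSpace Opposite

namespace Groth.Agent.Helper4.SN582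

open Groth.Agent.Helper4.FinLocFree6 Groth.Agent.Helper4.FinLocFree2
  Groth.Agent.Helper4.FinLocFree4

variable {X Y : Scheme.{u}}

theorem isQuasicoherent_push_unit (f : X ⟶ Y) [IsAffineHom f] :
    ((Scheme.Modules.pushforward f).obj (Coh.structureModule X)).IsQuasicoherent := by
  haveI : (Coh.structureModule X).IsQuasicoherent :=
    isQuasicoherent_of_isFinLocFree _ (isFinLocFree_unit (X := X))
  exact Groth.Agent.Helper4.QcohGlue.isQuasicoherent_pushforward f (Coh.structureModule X)

/-- local bases of `f_* O_X` -/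
theorem exists_affine_basis_push (f : X ⟶ Y) [IsAffineHom f] (m : ℕ)
    (hP : FlatMod.IsFinLocFreeOfRank m
      ((Scheme.Modules.pushforward f).obj (Coh.structureModule X))) (y : Y) :
    ∃ (U : Y.Opens), IsAffineOpen U ∧ y ∈ U ∧
      letI := (f.app U).hom.toAlgebra
      Nonempty (Module.Basis (Fin m) Γ(Y, U) Γ(X, f ⁻¹ᵁ U)) := by
  haveI := isQuasicoherent_push_unit f
  obtain ⟨V, hyV, hV⟩ := hP y
  obtain ⟨U, hU, hyU, -, ⟨b⟩⟩ := exists_affine_basis_of_isFreeAlong _ hV y hyV
  refine ⟨U, hU, hyU, ?_⟩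
  letI := (f.app U).hom.toAlgebra
  exact ⟨b.map (pushUnitEquiv f U)⟩

/-- an affine morphism with `f_* O_X` locally free of rank one is an isomorphism -/
theorem isIso_of_rank_one (f : X ⟶ Y) [IsAffineHom f]
    (hP : FlatMod.IsFinLocFreeOfRank 1
      ((Scheme.Modules.pushforward f).obj (Coh.structureModule X))) : IsIso f := by
  have key : ∀ y : Y, ∃ (U : Y.Opens), IsAffineOpen U ∧ y ∈ U ∧
      Function.Bijective (f.app U).hom := by
    intro y
    obtain ⟨U, hU, hyU, hb⟩ := exists_affine_basis_push f 1 hP y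
    refine ⟨U, hU, hyU, ?_⟩
    letI := (f.app U).hom.toAlgebra
    obtain ⟨b⟩ := hb
    exact bijective_algebraMap_of_linearEquiv
      ((LinearEquiv.funUnique (Fin 1) Γ(Y, U) Γ(Y, U)).symm.trans b.equivFun.symm)
  choose U hU hyU hbij using key
  have hcov : ⨆ y, ((⟨U y, hU y⟩ : Y.affineOpens) : Y.Opens) = ⊤ := by
    rw [eq_top_iff]
    intro y _
    exact Opens.mem_iSup.mpr ⟨y, hyU y⟩
  have h := HasAffineProperty.of_iSup_eq_top (P := MorphismProperty.isomorphisms Scheme)
    (f := f) (fun y => (⟨U y, hU y⟩ : Y.affineOpens)) hcov (fun y => ⟨?_, ?_⟩)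
  · exact h
  · exact (hU y).preimage f
  · simp only [Scheme.Hom.appTop, morphismRestrict_app]
    haveI : IsIso (f.app (U y)) :=
      (ConcreteCategory.isIso_iff_bijective (f.app (U y))).mpr (hbij y)
    have hg : ∀ {A B : Y.Opens} (e : A = B), IsIso (f.app A) → IsIso (f.app B) := by
      intro A B e hA
      subst e
      exact hA
    have h3 : IsIso (f.app ((U y).ι ''ᵁ ⊤)) := hg (by simp) this
    have h4 : ∀ {A B : X.Opens} (e : A = B), IsIso (X.presheaf.map (eqToHom e).op) := by
      intro A B e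
      subst e
      rw [eqToHom_refl, op_id, X.presheaf.map_id]
      infer_instance
    exact IsIso.comp_isIso' h3 (h4 _)

/-- rank zero forces the source to be empty -/
theorem isEmpty_of_rank_zero (f : X ⟶ Y) [IsAffineHom f]
    (hP : FlatMod.IsFinLocFreeOfRank 0
      ((Scheme.Modules.pushforward f).obj (Coh.structureModule X))) : IsEmpty X := by
  refine ⟨fun x => ?_⟩
  obtain ⟨U, hU, hyU, hb⟩ := exists_affine_basis_push f 0 hP (f x)
  letI := (f.app U).hom.toAlgebra
  obtain ⟨b⟩ := hb
  haveI : Subsingleton Γ(X, f ⁻¹ᵁ U) := by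
    refine ⟨fun a c => ?_⟩
    apply b.ext_elem
    intro i
    exact i.elim0
  have hx : x ∈ f ⁻¹ᵁ U := hyU
  have h1 : (f ⁻¹ᵁ U) = X.basicOpen (1 : Γ(X, f ⁻¹ᵁ U)) := by
    rw [Scheme.basicOpen_of_isUnit _ isUnit_one]
  have h2 : X.basicOpen (1 : Γ(X, f ⁻¹ᵁ U)) = ⊥ := by
    rw [Subsingleton.elim (1 : Γ(X, f ⁻¹ᵁ U)) 0, Scheme.basicOpen_zero]
  rw [h1, h2] at hx
  exact hx

end Groth.Agent.Helper4.SN582
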