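import Mathlib
import Groth.Agent.Helper4.SN581
import Groth.Agent.Helper4.SN582
import Groth.Agent.Helper4.SN577
import Groth.Agent.Lead.OmegaSeqD

/-!
# Finite étale covers of a curve of genus zero are isomorphisms
-/

set_option autoImplicit false
set_option linter.style.haveILetI false
set_option linter.unusedSectionVars false
universe u
open CategoryTheory CategoryTheory.Limits AlgebraicGeometry TopologicalSpace Opposite

namespace Groth.Agent.Helper4.SN583

open OmegaSh Groth.Agent.Lead Groth.Agent.Helper4.SN Groth.Agent.Helper4.SN576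

variable (k : Type u) [Field k] {X Y : Scheme.{u}} [X.Over (Spec (CommRingCat.of k))]
  [Y.Over (Spec (CommRingCat.of k))]

/-- étale morphisms pull differentials back to differentials -/
theorem nonempty_omega_iso_of_etale [QuasiSeparated (X ↘ Spec (CommRingCat.of k))]
    [QuasiSeparated (Y ↘ Spec (CommRingCat.of k))] (f : X ⟶ Y) [Etale f]
    (hf : f ≫ (Y ↘ (Spec (CommRingCat.of k))) = X ↘ (Spec (CommRingCat.of k))) :
    Nonempty ((Scheme.Modules.pullback f).obj (Omega.sheaf (Y ↘ Spec (CommRingCat.of k))) ≅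
      Omega.sheaf (X ↘ Spec (CommRingCat.of k))) := by
  have hsq : f ≫ (Y ↘ Spec (CommRingCat.of k)) =
      (X ↘ Spec (CommRingCat.of k)) ≫ 𝟙 (Spec (CommRingCat.of k)) := by
    rw [hf, Category.comp_id]
  obtain ⟨c, hc, -⟩ := DerA.existsUnique_diffCompat (Y ↘ Spec (CommRingCat.of k))
    (X ↘ Spec (CommRingCat.of k)) f (𝟙 (Spec (CommRingCat.of k))) hsq.symm
    (Omega.sheaf _) (dOmega _) (OmegaUnivA.isUniversal _) (Omega.sheaf _) (dOmega _)
  haveI := OmegaSeqD.isIso_of_etale (Y ↘ Spec (CommRingCat.of k))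
    (X ↘ Spec (CommRingCat.of k)) f (𝟙 (Spec (CommRingCat.of k))) hsq
    (dOmega _) (OmegaUnivA.isUniversal _) (dOmega _) (OmegaUnivA.isUniversal _) c hc
  exact ⟨asIso c⟩

variable [IsProper (X ↘ Spec (CommRingCat.of k))] [IsProper (Y ↘ Spec (CommRingCat.of k))]
  [Smooth (X ↘ Spec (CommRingCat.of k))] [Smooth (Y ↘ Spec (CommRingCat.of k))]
  [IsIntegral X] [IsIntegral Y]

/-- a finite étale cover of a smooth proper geometrically connected curve of genus zero by a
geometrically connected curve is an isomorphism -/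
theorem isIso_of_finite_etale_of_genus_zero
    (hdX : topologicalKrullDim X = 1) (hdY : topologicalKrullDim Y = 1)
    (hX0 : Module.finrank k (Coh.HH X (Coh.structureModule X) 0) = 1)
    (hY0 : Module.finrank k (Coh.HH Y (Coh.structureModule Y) 0) = 1)
    (f : X ⟶ Y) [IsFinite f] [Etale f]
    (hf : f ≫ (Y ↘ (Spec (CommRingCat.of k))) = X ↘ (Spec (CommRingCat.of k)))
    (hg : Curv2.genus k Y = 0) : IsIso f := by
  have hP0 := Groth.Agent.Helper4.FinLocFree6.isFinLocFree_push_of_finite_flat_lfp f
  have hP := isFinLocFreeOfRank_of_isFinLocFree _ hP0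
  set m := Module.finrank (Y.presheaf.stalk (genericPoint Y))
    (((Scheme.Modules.pushforward f).obj (Coh.structureModule X)).presheaf.stalk
      (genericPoint Y)) with hm
  have hΩY := isInvertible_omega_of_smooth k Y hdY
  have hdeg := Groth.Agent.Helper4.SN581.deg_pullback_of_rank k hdY.le f hf m hP _ hΩY
  obtain ⟨e⟩ := nonempty_omega_iso_of_etale k f hf
  rw [deg_iso k e 1, (Groth.Agent.Helper4.SN577.main1612 k X hdX hX0).2,
    (Groth.Agent.Helper4.SN577.main1612 k Y hdY hY0).2, hg] at hdeg
  have hm1 : m = 1 := by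
    have hm0 : m ≠ 0 := by
      intro h0
      rw [h0] at hP
      haveI := Groth.Agent.Helper4.SN582.isEmpty_of_rank_zero f hP
      exact (inferInstance : Nonempty X).elim (fun x => IsEmpty.false x)
    have h2 : (m : ℤ) ≤ 1 := by
      have : (0 : ℤ) ≤ (Curv2.genus k X : ℤ) := by positivity
      push_cast at hdeg
      linarith
    have h3 : m ≤ 1 := by exact_mod_cast h2
    omega
  rw [hm1] at hP
  exact Groth.Agent.Helper4.SN582.isIso_of_rank_one f hP

end Groth.Agent.Helper4.SN583
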