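import Mathlib
import Groth.Agent.Helper4.SN583
import Groth.Agent.Helper4.SN96
import Groth.Agent.Helper4.SN42
import Groth.Agent.Helper5.IntDim
import Groth.Agent.Helper3.ProjSmooth
import Groth.Agent.Helper6.HProj
import Groth.Agent.Lead.H0GeomC
import Groth.Agent.S0023

/-!
# The projective line is simply connected
-/

set_option autoImplicit false
set_option linter.style.haveILetI false
set_option linter.unusedSectionVars false
universe u
open CategoryTheory CategoryTheory.Limits AlgebraicGeometry TopologicalSpace Opposite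

namespace Groth.Agent.Helper4.SN584

section Dim

/-- incomparability for integral morphisms of schemes -/
theorem eq_of_specializes_of_isIntegralHom {W V : Scheme.{u}} (i : W ⟶ V) [IsIntegralHom i]
    {a a' : W} (h : a' ⤳ a) (hi : i a' = i a) : a' = a := by
  obtain ⟨_, ⟨V₀, hV₀, rfl⟩, haV, -⟩ := V.isBasis_affineOpens.exists_subset_of_mem_open
    (Set.mem_univ (i a)) isOpen_univ
  have hV₀' : IsAffineOpen V₀ := hV₀
  have hW₀ : IsAffineOpen (i ⁻¹ᵁ V₀) := hV₀'.preimage i
  haveI : IsAffine (V₀ : Scheme.{u}) := hV₀'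
  haveI : IsAffine ((i ⁻¹ᵁ V₀ : W.Opens) : Scheme.{u}) := hW₀
  have ha : a ∈ i ⁻¹ᵁ V₀ := haV
  have ha' : a' ∈ i ⁻¹ᵁ V₀ := by change i a' ∈ V₀; rw [hi]; exact haV
  let b : ↥((i ⁻¹ᵁ V₀ : W.Opens) : Scheme.{u}) := ⟨a, ha⟩
  let b' : ↥((i ⁻¹ᵁ V₀ : W.Opens) : Scheme.{u}) := ⟨a', ha'⟩
  have hsp : b' ⤳ b :=
    (Topology.IsInducing.specializes_iff
      (Scheme.Opens.ι (i ⁻¹ᵁ V₀)).isOpenEmbedding.isInducing (x := b') (y := b)).mp h
  have hib : (i ∣_ V₀) b' = (i ∣_ V₀) b := by
    apply (Scheme.Opens.ι V₀).isOpenEmbedding.injective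
    rw [← Scheme.Hom.comp_apply, ← Scheme.Hom.comp_apply, morphismRestrict_ι,
      Scheme.Hom.comp_apply, Scheme.Hom.comp_apply]
    exact hi
  have := Groth.Agent.Helper5.IntDim.eq_of_specializes_of_integral (i ∣_ V₀) hsp hib
  exact congrArg Subtype.val this

theorem strictMono_of_isIntegralHom {W V : Scheme.{u}} (i : W ⟶ V) [IsIntegralHom i] :
    StrictMono (fun a : ↥W => i a) := by
  intro a a' h
  obtain ⟨h1, h2⟩ := h
  change a' ⤳ a at h1
  change ¬ a ⤳ a' at h2
  refine ⟨h1.map i.continuous, fun h3 => h2 ?_⟩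
  have h4 : i a' = i a := (Specializes.antisymm (h1.map i.continuous) h3).eq
  rw [eq_of_specializes_of_isIntegralHom i h1 h4]

theorem height_eq_of_isIntegralHom {W V : Scheme.{u}} (i : W ⟶ V)
    [IsIntegralHom i] (a : ↥W) : Order.height a = Order.height (i a) := by
  refine Order.height_eq_of_strictMono (fun a : ↥W => i a) (strictMono_of_isIntegralHom i) ?_ a
  intro a b hab
  obtain ⟨h1, h2⟩ := hab
  change i a ⤳ b at h1
  change ¬ b ⤳ i a at h2
  have hmem : b ∈ closure (i '' ({a} : Set ↥W)) := by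
    rw [Set.image_singleton]
    exact h1.mem_closure
  obtain ⟨a', ha', rfl⟩ := i.isClosedMap.closure_image_subset _ hmem
  have hsp : a ⤳ a' := specializes_iff_mem_closure.2 ha'
  exact ⟨a', ⟨hsp, fun h3 => h2 (h3.map i.continuous)⟩, rfl⟩

/-- a surjective integral morphism preserves the dimension -/
theorem topologicalKrullDim_eq_of_isIntegralHom_surjective {W V : Scheme.{u}} (i : W ⟶ V)
    [IsIntegralHom i] (hs : Function.Surjective i) :
    topologicalKrullDim ↥W = topologicalKrullDim ↥V := by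
  rw [Groth.Agent.Helper5.IntDim.topologicalKrullDim_eq_iSup_height,
    Groth.Agent.Helper5.IntDim.topologicalKrullDim_eq_iSup_height]
  apply le_antisymm
  · refine iSup_le fun w => ?_
    rw [height_eq_of_isIntegralHom i w]
    exact le_iSup (fun v : ↥V => ((Order.height v : ℕ∞) : WithBot ℕ∞)) (i w)
  · refine iSup_le fun v => ?_
    obtain ⟨w, rfl⟩ := hs v
    rw [← height_eq_of_isIntegralHom i w]
    exact le_iSup (fun w : ↥W => ((Order.height w : ℕ∞) : WithBot ℕ∞)) w

end Dim

open Groth.Agent.Helper4.SN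

variable (k : Type u) [Field k]

theorem h0_P1 : Module.finrank k (Coh.HH (CohB1.ProjSpace 1 k)
    (Coh.structureModule (CohB1.ProjSpace 1 k)) 0) = 1 := by
  obtain ⟨e⟩ := Groth.Agent.Helper1.TwistMul.nonempty_twist_zero_iso (CohB1.polyGrading 1 k)
  have e' : Twist.twistProjSpace 1 k 0 ≅ Coh.structureModule (CohB1.ProjSpace 1 k) := e
  rw [← (Groth.Agent.Lead.BCField.HHlinEquiv k e' 0).finrank_eq, finrank_H0_tw]
  rfl

theorem genus_P1 : Curv2.genus k (CohB1.ProjSpace 1 k) = 0 := by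
  haveI := Groth.Agent.S0023.result 1 k 1 Nat.one_pos
  unfold Curv2.genus
  exact Module.finrank_zero_of_subsingleton

/-- **S7810** -/
theorem main7810 {X : Scheme.{u}}
    (f : X ⟶ CohB1.ProjSpace 1 k) [IsFinite f] [Etale f]
    [GeometricallyConnected (f ≫ CohB1.ProjSpace.toSpec 1 k)] : IsIso f := by
  letI : X.Over (Spec (CommRingCat.of k)) := ⟨f ≫ CohB1.ProjSpace.toSpec 1 k⟩
  have hf : f ≫ ((CohB1.ProjSpace 1 k) ↘ Spec (CommRingCat.of k)) =
      X ↘ Spec (CommRingCat.of k) := rfl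
  haveI hpY : IsProper (CohB1.ProjSpace.toSpec 1 k) :=
    Groth.Agent.Helper6.HProj.isProper_toSpec 1 k
  haveI hsY : Smooth (CohB1.ProjSpace.toSpec 1 k) :=
    Groth.Agent.Helper3.ProjSmooth.smooth_toSpec 1 k
  haveI : IsProper ((CohB1.ProjSpace 1 k) ↘ Spec (CommRingCat.of k)) := hpY
  haveI : Smooth ((CohB1.ProjSpace 1 k) ↘ Spec (CommRingCat.of k)) := hsY
  haveI : IsProper (X ↘ Spec (CommRingCat.of k)) :=
    (inferInstance : IsProper (f ≫ CohB1.ProjSpace.toSpec 1 k))
  haveI : Smooth (X ↘ Spec (CommRingCat.of k)) :=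
    (inferInstance : Smooth (f ≫ CohB1.ProjSpace.toSpec 1 k))
  haveI hgc : GeometricallyConnected (X ↘ Spec (CommRingCat.of k)) :=
    ‹GeometricallyConnected (f ≫ CohB1.ProjSpace.toSpec 1 k)›
  haveI : IsIntegral X := isIntegral_of_smooth_of_geometricallyConnected k X
  have hX0 := ((Groth.Agent.Lead.H0Geom.main3 k X).1).mpr hgc
  have hsurj : Function.Surjective f := by
    have hcl : IsClopen (Set.range f) := ⟨f.isClosedMap.isClosed_range, f.isOpenMap.isOpen_range⟩
    have hne : (Set.range f).Nonempty := Set.range_nonempty _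
    have := hcl.eq_univ hne
    exact Set.range_eq_univ.mp this
  have hdX : topologicalKrullDim X = 1 := by
    rw [topologicalKrullDim_eq_of_isIntegralHom_surjective f hsurj, dim_P1]
  exact Groth.Agent.Helper4.SN583.isIso_of_finite_etale_of_genus_zero k hdX (dim_P1 k) hX0
    (h0_P1 k) f hf (genus_P1 k)

end Groth.Agent.Helper4.SN584
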