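import Mathlib
import Groth.Agent.Helper4.SN584
import Groth.Agent.Helper4.SN267
import Groth.Agent.Helper4.SN66
import Groth.Agent.Helper4.SN124
import Groth.Agent.Helper4.SN34
import Groth.Agent.Helper4.SN63
import Groth.Agent.Helper1.FC8

/-!
# Finite flat covers of the projective line: degree of `f^* O(1)` and sections of its powers
-/

set_option autoImplicit false
set_option linter.style.haveILetI false
set_option linter.unusedSectionVars false
universe u
open CategoryTheory CategoryTheory.Limits AlgebraicGeometry TopologicalSpace Opposite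

namespace Groth.Agent.Helper4.SN585

open Groth.Agent.Helper4.SN Groth.Agent.Helper1.Dev Groth.Agent.Helper4.AmpleBasis

variable (k : Type u) [Field k] {C : Scheme.{u}} [C.Over (Spec (CommRingCat.of k))]
  [IsProper (C ↘ Spec (CommRingCat.of k))]
  (f : C ⟶ CohB1.ProjSpace 1 k)
  (hf : f ≫ CohB1.ProjSpace.toSpec 1 k = C ↘ Spec (CommRingCat.of k)) [IsFinite f] [Flat f]
  (d : ℕ) (hrk : ∀ y : ↥(CohB1.ProjSpace 1 k), Scheme.Hom.finrank f y = d)

include hrk in
theorem rank_push : FlatMod.IsFinLocFreeOfRank d
    ((Scheme.Modules.pushforward f).obj (Coh.structureModule C)) := by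
  haveI : IsLocallyNoetherian (CohB1.ProjSpace 1 k) := by
    haveI := isNoetherian_P1 k
    infer_instance
  haveI : LocallyOfFinitePresentation f :=
    LocallyOfFinitePresentation.iff_locallyOfFiniteType.mpr inferInstance
  exact (Groth.Agent.Helper1.FC.push_of_isCover f d
    ⟨⟨inferInstance, inferInstance, inferInstance⟩, hrk⟩).2

include hf hrk in
/-- `deg f^* O(1) = d` -/
theorem deg_pullback_tw_one :
    Curv2.deg k C ((Scheme.Modules.pullback f).obj (Twist.twistProjSpace 1 k 1)) 1 = d := by
  have h := Groth.Agent.Helper4.SN581.deg_pullback_of_rank k (dim_P1 k).le f hf d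
    (rank_push k f d hrk) _ (isInvertible_tw k 1)
  rw [h, deg_twist_one_P1]
  simp

include hf hrk in
/-- `deg (f^* O(1))^{⊗ r} = r d` -/
theorem deg_pow [IsIntegral C] (hC : topologicalKrullDim C = 1) (r : ℕ) :
    Curv2.deg k C
      (CohB1.tensorPow ((Scheme.Modules.pullback f).obj (Twist.twistProjSpace 1 k 1)) r) 1 =
      r * d := by
  rw [deg_tensorPow k hC _ (Groth.Agent.Helper4.PullSec.isInvertible_pullback f
    (isInvertible_tw k 1)), deg_pullback_tw_one k f hf d hrk]

include hf in
/-- sections of `O(r)` pull back injectively -/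
theorem h0_pullback_tw_ge (hsurj : Function.Surjective f) (r : ℕ) :
    r + 1 ≤ Module.finrank k (Coh.HH C
      ((Scheme.Modules.pullback f).obj (Twist.twistProjSpace 1 k (r : ℤ))) 0) := by
  set E := Twist.twistProjSpace 1 k (r : ℤ) with hE
  have hEi : PicF.IsInvertible E := isInvertible_tw k (r : ℤ)
  have hE' : FlatMod.IsFinLocFree E := FinLocFree7.isFinLocFree_of_rank E (rank_tw k (r : ℤ))
  have hpE : FlatMod.IsFinLocFree ((Scheme.Modules.pullback f).obj E) :=
    Groth.Agent.Lead.LocLift.isFinLocFree_pullback f hE'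
  haveI : Coh.IsQCoh ((Scheme.Modules.pullback f).obj E) :=
    FinLocFree4.isQuasicoherent_of_isFinLocFree _ hpE
  obtain ⟨ε⟩ := Groth.Agent.Helper1.AffLin.nonempty_HH_linearEquiv f k hf
    ((Scheme.Modules.pullback f).obj E) 0
  have e : (Scheme.Modules.pushforward f).obj ((Scheme.Modules.pullback f).obj E) ≅
      CohB1.tensorMod ((Scheme.Modules.pushforward f).obj (Coh.structureModule C)) E :=
    (Scheme.Modules.pushforward f).mapIso (unitorL _).symm ≪≫
      (projIsoLF f (Coh.structureModule C) E hE').symm
  rw [ε.finrank_eq, (Groth.Agent.Lead.BCField.HHlinEquiv k e 0).finrank_eq]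
  haveI : Mono (ClSub.unitToPush f) := mono_unitToPush_of_surjective f hsurj
  haveI := mono_map_tensorRightMod E hEi (ClSub.unitToPush f)
  have hcoh : Coh.IsCoh
      (CohB1.tensorMod ((Scheme.Modules.pushforward f).obj (Coh.structureModule C)) E) := by
    haveI := isNoetherian_P1 k
    have h1 : Coh.IsCoh ((Scheme.Modules.pushforward f).obj (Coh.structureModule C)) :=
      Groth.Agent.Lead.PerfLib.isCoh_of_isFinLocFree
        (Groth.Agent.Helper4.FinLocFree6.isFinLocFree_push_of_finite_flat_lfp
          (haveI : LocallyOfFinitePresentation f :=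
            LocallyOfFinitePresentation.iff_locallyOfFiniteType.mpr inferInstance
           f))
    exact Groth.Agent.Lead.Ref1B.isCoh_tensorMod _ _ h1 (Groth.Agent.Helper1.SerreFin.isCoh_of_isInvertible _ hEi)
  have hle := h0_le_of_mono k ((DCoh.tensorRightMod E).map (ClSub.unitToPush f)) hcoh
  have e2 : (DCoh.tensorRightMod E).obj (Coh.structureModule (CohB1.ProjSpace 1 k)) ≅ E :=
    unitorL E
  rw [(Groth.Agent.Lead.BCField.HHlinEquiv k e2 0).finrank_eq, finrank_H0_tw] at hle
  have h3 : (((r : ℤ) + 1).toNat) = r + 1 := by omega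
  rw [h3] at hle
  exact hle

end Groth.Agent.Helper4.SN585
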