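import Mathlib
import Groth.Agent.Helper4.SN585
import Groth.Agent.Helper4.SN579
import Groth.Agent.Helper4.SN56

/-!
# Sections of powers of the `g¹₂` on a double cover of the projective line
-/

set_option autoImplicit false
set_option linter.style.haveILetI false
set_option linter.unusedSectionVars false
universe u
open CategoryTheory CategoryTheory.Limits AlgebraicGeometry TopologicalSpace Opposite

namespace Groth.Agent.Helper4.SN586

open Groth.Agent.Helper4.SN Groth.Agent.Helper1.Dev Groth.Agent.Helper4.SN576

section Clifford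

variable (k : Type u) [Field k] {X : Scheme.{u}} [X.Over (Spec (CommRingCat.of k))]
  [IsProper (X ↘ Spec (CommRingCat.of k))] [Smooth (X ↘ Spec (CommRingCat.of k))]

/-- Clifford's inequality over an arbitrary field -/
theorem clifford_any_field (hdim : topologicalKrullDim X = 1)
    (h0 : Module.finrank k (Coh.HH X (Coh.structureModule X) 0) = 1)
    (M : X.Modules) (hM : PicF.IsInvertible M)
    (h0M : 0 < Module.finrank k (Coh.HH X M 0)) (h1M : 0 < Module.finrank k (Coh.HH X M 1)) :
    2 * (Module.finrank k (Coh.HH X M 0) : ℤ) ≤ Curv2.deg k X M 1 + 2 := by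
  let K := AlgebraicClosure k
  let Y : Scheme.{u} := pullback (X ↘ Spec (CommRingCat.of k))
    (Spec.map (CommRingCat.ofHom (algebraMap k K)))
  letI : Y.Over (Spec (CommRingCat.of K)) := ⟨pullback.snd _ _⟩
  have hpb : IsPullback (pullback.fst (X ↘ Spec (CommRingCat.of k))
      (Spec.map (CommRingCat.ofHom (algebraMap k K)))) (Y ↘ Spec (CommRingCat.of K))
      (X ↘ Spec (CommRingCat.of k)) (Spec.map (CommRingCat.ofHom (algebraMap k K))) :=
    IsPullback.of_hasPullback _ _
  set g := pullback.fst (X ↘ Spec (CommRingCat.of k))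
      (Spec.map (CommRingCat.ofHom (algebraMap k K))) with hg
  haveI := isIntegral_bc' k K g hpb h0
  haveI := isProper_bc k K g hpb
  have hdimY : topologicalKrullDim Y = 1 := (dim_bc k K g hpb).trans hdim
  haveI : M.IsQuasicoherent := Groth.Agent.Helper4.QAffSec.isQuasicoherent_of_isInvertible M hM
  have e0 := Groth.Agent.Lead.BCField.finrank_HH_baseChange k K X Y g hpb M 0
  have e1 := Groth.Agent.Lead.BCField.finrank_HH_baseChange k K X Y g hpb M 1
  have hMY := Groth.Agent.Helper4.PullSec.isInvertible_pullback g hM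
  haveI : Nontrivial (Coh.HH Y ((Scheme.Modules.pullback g).obj M) 0) :=
    Module.nontrivial_of_finrank_pos (R := K) (by rw [e0]; exact h0M)
  haveI : Nontrivial (Coh.HH Y ((Scheme.Modules.pullback g).obj M) 1) :=
    Module.nontrivial_of_finrank_pos (R := K) (by rw [e1]; exact h1M)
  have key := clifford_two_h0_le K hdimY _ hMY inferInstance inferInstance
  rw [e0, deg_pullback k K g hpb M hM] at key
  exact key

end Clifford

section Main

variable (k : Type u) [Field k] (C : Scheme.{u}) [C.Over (Spec (CommRingCat.of k))]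
  [IsProper (C ↘ Spec (CommRingCat.of k))] [Smooth (C ↘ Spec (CommRingCat.of k))]
  [GeometricallyConnected (C ↘ Spec (CommRingCat.of k))]

/-- an invertible module of degree `2r` with `r ≤ g` has at most `r + 1` sections -/
theorem h0_le_of_deg (hC : topologicalKrullDim C = 1) (N : C.Modules) (hN : PicF.IsInvertible N)
    (r : ℕ) (hr : r ≤ Curv2.genus k C) (hdeg : Curv2.deg k C N 1 = 2 * (r : ℤ)) :
    Module.finrank k (Coh.HH C N 0) ≤ r + 1 := by
  haveI : IsIntegral C := isIntegral_of_smooth_of_geometricallyConnected k C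
  haveI := Groth.Agent.Helper4.NApx82.isNoetherian_of_proper k C
  have h0 := Groth.Agent.Helper4.SN578.h0_structure k C
  have hχN := chi_eq_h0_sub_h1 k hC.le N
  have hχO := chi_eq_h0_sub_h1 k hC.le (Coh.structureModule C)
  have hgen : Module.finrank k (Coh.HH C (Coh.structureModule C) 1) = Curv2.genus k C := rfl
  unfold Curv2.deg at hdeg
  unfold chi at hχN hχO
  rw [hχN, hχO, h0, hgen] at hdeg
  push_cast at hdeg
  by_cases h1 : Module.finrank k (Coh.HH C N 1) = 0
  · rw [h1] at hdeg
    push_cast at hdeg
    omega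
  · by_cases h00 : Module.finrank k (Coh.HH C N 0) = 0
    · omega
    · have key := clifford_any_field k hC h0 N hN (Nat.pos_of_ne_zero h00) (Nat.pos_of_ne_zero h1)
      unfold Curv2.deg at key
      rw [hχN, hχO, h0, hgen] at key
      push_cast at key
      omega

variable (f : C ⟶ CohB1.ProjSpace 1 k)
  (hf : f ≫ CohB1.ProjSpace.toSpec 1 k = C ↘ Spec (CommRingCat.of k)) [IsFinite f] [Flat f]
  (hrk : ∀ y : ↥(CohB1.ProjSpace 1 k), Scheme.Hom.finrank f y = 2)

include hf hrk in
/-- **S14340** -/
theorem main14340 (hC : topologicalKrullDim C = 1) (r : ℕ) (hr : r + 1 ≤ Curv2.genus k C) :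
    Module.finrank k (Coh.HH C (CohB1.tensorPow
      ((Scheme.Modules.pullback f).obj (Twist.twistProjSpace 1 k 1)) r) 0) = r + 1 := by
  haveI : IsIntegral C := isIntegral_of_smooth_of_geometricallyConnected k C
  have hL : PicF.IsInvertible ((Scheme.Modules.pullback f).obj (Twist.twistProjSpace 1 k 1)) :=
    Groth.Agent.Helper4.PullSec.isInvertible_pullback f (isInvertible_tw k 1)
  have hN := Groth.Agent.Helper4.TensorInv.isInvertible_tensorPow hL r
  have hdeg := Groth.Agent.Helper4.SN585.deg_pow k f hf 2 hrk hC r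
  apply le_antisymm
  · apply h0_le_of_deg k C hC _ hN r (by omega)
    rw [hdeg]
    push_cast
    ring
  · have hsurj : Function.Surjective f := by
      have : Surjective f := (Scheme.Hom.one_le_finrank_iff_surjective f).mp (fun y => by
        rw [hrk y]; norm_num)
      exact this.surj
    have h1 := Groth.Agent.Helper4.SN585.h0_pullback_tw_ge k f hf hsurj r
    obtain ⟨e⟩ := Groth.Agent.Helper4.SN267.nonempty_tensorPow_iso k 1 1 r
    rw [mul_one] at e
    have e' : CohB1.tensorPow ((Scheme.Modules.pullback f).obj (Twist.twistProjSpace 1 k 1)) r ≅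
        (Scheme.Modules.pullback f).obj (Twist.twistProjSpace 1 k (r : ℤ)) :=
      (Groth.Agent.Helper4.PullTensor.pullPowIso f (isInvertible_tw k 1) r).symm ≪≫
        (Scheme.Modules.pullback f).mapIso e
    rw [(Groth.Agent.Lead.BCField.HHlinEquiv k e' 0).finrank_eq]
    exact h1

include hf hrk in
/-- **S7842** -/
theorem main7842 (hC : topologicalKrullDim C = 1) (g : ℕ) (hg2 : 2 ≤ g)
    (hg : Curv2.genus k C = g) :
    Nonempty (CohB1.tensorPow
      ((Scheme.Modules.pullback f).obj (Twist.twistProjSpace 1 k 1)) (g - 1) ≅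
        Omega.sheaf (C ↘ Spec (CommRingCat.of k))) := by
  haveI : IsIntegral C := isIntegral_of_smooth_of_geometricallyConnected k C
  have hL : PicF.IsInvertible ((Scheme.Modules.pullback f).obj (Twist.twistProjSpace 1 k 1)) :=
    Groth.Agent.Helper4.PullSec.isInvertible_pullback f (isInvertible_tw k 1)
  have hN := Groth.Agent.Helper4.TensorInv.isInvertible_tensorPow hL (g - 1)
  have hdeg := Groth.Agent.Helper4.SN585.deg_pow k f hf 2 hrk hC (g - 1)
  have hh0 := main14340 k C f hf hrk hC (g - 1) (by omega)
  apply Groth.Agent.Helper4.SN579.main13457 k C hC _ hN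
  · rw [hdeg, hg]
    have : ((g - 1 : ℕ) : ℤ) = (g : ℤ) - 1 := by omega
    rw [this]
    push_cast
    ring
  · rw [hh0, hg]
    omega

end Main

end Groth.Agent.Helper4.SN586
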