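import Mathlib
import Groth.Agent.Helper4.SN586
import Groth.Agent.Helper4.SN143
import Groth.Agent.Helper4.QcohLocal
import Groth.Agent.Lead.PerfLib5

/-!
# The kernel of the trace of a double cover of the projective line has degree `-g-1`
-/

set_option autoImplicit false
set_option linter.style.haveILetI false
set_option linter.unusedSectionVars false
universe u
open CategoryTheory CategoryTheory.Limits AlgebraicGeometry TopologicalSpace Opposite

namespace Groth.Agent.Helper4.SN587

open Groth.Agent.Helper4.SN Groth.Agent.Helper1.Dev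

section Split

variable {X Y : Scheme.{u}} (h : X ⟶ Y) [IsAffineHom h]
  (τ : (Scheme.Modules.pushforward h).obj (Coh.structureModule X) ⟶ Coh.structureModule Y)
  (hτ : FinCov.IsTraceHom h τ) (m : ℕ)
  (hP : FlatMod.IsFinLocFreeOfRank m
    ((Scheme.Modules.pushforward h).obj (Coh.structureModule X)))

include hτ hP in
/-- the trace composed with the unit is multiplication by the rank, locally -/
theorem exists_affine_trace_unit (y : Y) :
    ∃ U : Y.Opens, IsAffineOpen U ∧ y ∈ U ∧
      ∀ a : Γ(Y, U), (ClSub.unitToPush h ≫ τ).app U a = m • a := by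
  obtain ⟨U, hU, hyU, hb⟩ := Groth.Agent.Helper4.SN582.exists_affine_basis_push h m hP y
  refine ⟨U, hU, hyU, fun a => ?_⟩
  letI := (h.app U).hom.toAlgebra
  obtain ⟨b⟩ := hb
  have h1 := hτ U hU (Module.Free.of_basis b) (Module.Finite.of_basis b) ((h.app U).hom a)
  have h2 : Algebra.trace Γ(Y, U) Γ(X, h ⁻¹ᵁ U) ((h.app U).hom a) = m • a := by
    have := Algebra.trace_algebraMap_of_basis b a
    rw [Fintype.card_fin] at this
    exact this
  rw [h2] at h1
  exact h1

end Split

section Main

variable (k : Type u) [Field k] [IsAlgClosed k] (h2 : (2 : k) ≠ 0) {X : Scheme.{u}}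
  [X.Over (Spec (CommRingCat.of k))] [IsProper (X ↘ Spec (CommRingCat.of k))]
  [Smooth (X ↘ Spec (CommRingCat.of k))] [ConnectedSpace ↥X]
  (hX : topologicalKrullDim ↥X = 1)
  (h : X ⟶ CohB1.ProjSpace 1 k)
  (hh : h ≫ CohB1.ProjSpace.toSpec 1 k = X ↘ Spec (CommRingCat.of k))
  [IsFinite h] [Flat h]
  (hr : ∀ y : ↥(CohB1.ProjSpace 1 k), h.finrank y = 2)
  (τ : (Scheme.Modules.pushforward h).obj (Coh.structureModule X) ⟶
    Coh.structureModule (CohB1.ProjSpace 1 k))
  (hτ : FinCov.IsTraceHom h τ)

include h2 hr hτ in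
theorem isIso_unit_trace : IsIso (ClSub.unitToPush h ≫ τ) := by
  have hP := Groth.Agent.Helper4.SN585.rank_push k h 2 hr
  haveI : (Coh.structureModule (CohB1.ProjSpace 1 k)).IsQuasicoherent :=
    (isCoh_structureModule _).1
  apply Groth.Agent.Helper4.QcohLocal.isIso_of_app_bijective_of_affine_cover
  intro y
  obtain ⟨U, hU, hyU, hc⟩ := exists_affine_trace_unit h τ hτ 2 hP y
  refine ⟨U, hU, hyU, ?_⟩
  let ψ : k →+* Γ(CohB1.ProjSpace 1 k, U) :=
    ((Scheme.ΓSpecIso (CommRingCat.of k)).inv ≫ (CohB1.ProjSpace.toSpec 1 k).appTop ≫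
      (CohB1.ProjSpace 1 k).presheaf.map (homOfLE le_top).op).hom
  have hu : IsUnit (2 : Γ(CohB1.ProjSpace 1 k, U)) := by
    have : (2 : Γ(CohB1.ProjSpace 1 k, U)) = ψ 2 := (map_ofNat ψ 2).symm
    rw [this]
    exact (IsUnit.mk0 (2 : k) h2).map ψ
  have hfun : ∀ a : Γ(CohB1.ProjSpace 1 k, U),
      (ClSub.unitToPush h ≫ τ).app U a = (hu.unit : Γ(CohB1.ProjSpace 1 k, U)) * a := by
    intro a
    rw [hc a, nsmul_eq_mul]
    simp
  constructor
  · intro a b hab
    rw [hfun a, hfun b] at hab
    exact (Units.mulLeft_bijective hu.unit).1 hab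
  · intro b
    obtain ⟨a, ha⟩ := (Units.mulLeft_bijective hu.unit).2 b
    exact ⟨a, by rw [hfun a]; exact ha⟩

include h2 hr hτ hh hX in
/-- **S19701** -/
theorem main19701 :
    Curv2.deg k (CohB1.ProjSpace 1 k) (kernel τ) 1 = -((Curv2.genus k X : ℤ) + 1) := by
  haveI := Groth.Agent.Helper4.NApx82.isNoetherian_of_proper k X
  haveI := isNoetherian_P1 k
  haveI : IsIntegral X := by
    apply isIntegral_of_connected_of_isDomain_stalk X
    intro x
    haveI := regular_of_smooth k x
    exact Groth.Agent.Lead.RegLocal.isDomain_of_isRegularLocalRing _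
  have h0 := h0_unit_of_smooth_sepClosed k (X := X) hX
  haveI hiso := isIso_unit_trace k h2 h hr τ hτ
  -- `τ` is an epimorphism
  haveI : Epi ((inv (ClSub.unitToPush h ≫ τ) ≫ ClSub.unitToPush h) ≫ τ) := by
    rw [Category.assoc, IsIso.inv_hom_id]
    infer_instance
  haveI hepi : Epi τ := epi_of_epi (inv (ClSub.unitToPush h ≫ τ) ≫ ClSub.unitToPush h) τ
  let S : ShortComplex (CohB1.ProjSpace 1 k).Modules :=
    ShortComplex.mk (kernel.ι τ) τ (kernel.condition τ)
  have hS : S.ShortExact :=
    { exact := ShortComplex.exact_kernel τ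
      mono_f := (inferInstance : Mono (kernel.ι τ))
      epi_g := hepi }
  haveI : LocallyOfFinitePresentation h :=
    LocallyOfFinitePresentation.iff_locallyOfFiniteType.mpr inferInstance
  have hcP : Coh.IsCoh ((Scheme.Modules.pushforward h).obj (Coh.structureModule X)) :=
    Groth.Agent.Lead.PerfLib.isCoh_of_isFinLocFree
      (Groth.Agent.Helper4.FinLocFree6.isFinLocFree_push_of_finite_flat_lfp h)
  have hcO : Coh.IsCoh (Coh.structureModule (CohB1.ProjSpace 1 k)) := isCoh_structureModule _
  have hcK : Coh.IsCoh (kernel τ) := Groth.Agent.Lead.PerfLib.isCoh_kernel hcP hcO τ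
  have hadd := chi_add k S hS hcK hcP hcO
  haveI : Coh.IsQCoh (Coh.structureModule X) := (isCoh_structureModule X).1
  have hpush := euler_push' k h hh (Coh.structureModule X)
  have hχX := chi_eq_h0_sub_h1 k hX.le (Coh.structureModule X)
  have hχP := chi_unit_P1 k
  have hgen : Module.finrank k (Coh.HH X (Coh.structureModule X) 1) = Curv2.genus k X := rfl
  unfold Curv2.deg
  unfold chi at hadd hχX hχP
  change Curv2.euler k _ ((Scheme.Modules.pushforward h).obj (Coh.structureModule X)) =
    Curv2.euler k _ (kernel τ) + Curv2.euler k _ (Coh.structureModule (CohB1.ProjSpace 1 k))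
    at hadd
  rw [← hpush, hχX, h0, hgen, hχP] at hadd
  rw [hχP]
  push_cast at hadd ⊢
  linarith

end Main

end Groth.Agent.Helper4.SN587
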