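import Mathlib
import Groth.Agent.Helper5.FFGaps2
import Groth.Agent.Helper6.FFZeta1

/-!
# The base-point-free pencil trick in a function field: two `g¹₂` are linearly equivalent
-/

set_option autoImplicit false
set_option linter.unusedSectionVars false
open FunFld

namespace Groth.Agent.Helper4.SN588

open Groth.Agent.Helper5.FF hiding degHom degHom_apply
open Groth.Agent.Helper6.FFZeta

variable {k K : Type*} [Field k] [Field K] [Algebra k K]

theorem one_mem_L_iff (D : Divisor k K) : (1 : K) ∈ L D ↔ 0 ≤ D := by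
  rw [mem_L_iff]
  constructor
  · intro h P
    have := h P
    rw [map_one, ← WithZero.exp_zero, WithZero.exp_le_exp] at this
    exact this
  · intro h P
    rw [map_one, ← WithZero.exp_zero, WithZero.exp_le_exp]
    exact h P

theorem two_le_ell_of_mem (hK : IsFunctionField k K) (D : Divisor k K) {x : K}
    (h1 : (1 : K) ∈ L D) (hx : x ∈ L D) (hxk : x ∉ Set.range (algebraMap k K)) : 2 ≤ ell D := by
  haveI := finiteDimensional_L hK D
  have hli : LinearIndependent k ![(⟨1, h1⟩ : L D), ⟨x, hx⟩] := by
    rw [LinearIndependent.pair_iff]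
    intro a b hab
    have hab' : a • (1 : K) + b • x = 0 := by
      have := congrArg Subtype.val hab
      simpa using this
    by_cases hb : b = 0
    · subst hb
      rw [zero_smul, add_zero, Algebra.smul_def, mul_one] at hab'
      have : a = 0 := by
        have h0 : algebraMap k K a = algebraMap k K 0 := by rw [hab', map_zero]
        exact (algebraMap k K).injective h0
      exact ⟨this, rfl⟩
    · exfalso
      apply hxk
      refine ⟨-(b⁻¹ * a), ?_⟩
      have h2 : b • x = -(a • (1 : K)) := eq_neg_of_add_eq_zero_right hab'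
      have h3 : x = b⁻¹ • (b • x) := by rw [smul_smul, inv_mul_cancel₀ hb, one_smul]
      rw [h3, h2, Algebra.smul_def, Algebra.smul_def, mul_one, map_neg, map_mul]
      ring
  have := hli.fintype_card_le_finrank
  unfold ell
  simpa using this

theorem exists_pair_of_two_le_ell (hK : IsFunctionField k K) (D : Divisor k K) (h : 2 ≤ ell D) :
    ∃ f₁ f₂ : K, f₁ ∈ L D ∧ f₂ ∈ L D ∧ f₁ ≠ 0 ∧ f₁⁻¹ * f₂ ∉ Set.range (algebraMap k K) := by
  haveI := finiteDimensional_L hK D
  have h1 : 1 < Module.finrank k (L D) := h
  haveI : Nontrivial (L D) := Module.nontrivial_of_finrank_pos (R := k) (by omega)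
  obtain ⟨a, ha⟩ := exists_ne (0 : L D)
  obtain ⟨b, hb⟩ := exists_linearIndependent_pair_of_one_lt_finrank h1 ha
  refine ⟨a.1, b.1, a.2, b.2, fun h0 => ha (Subtype.ext h0), ?_⟩
  rintro ⟨c, hc⟩
  rw [LinearIndependent.pair_iff] at hb
  have ha0 : a.1 ≠ 0 := fun h0 => ha (Subtype.ext h0)
  have h2 : b.1 = c • a.1 := by
    rw [Algebra.smul_def, hc]
    field_simp
  have h3 : c • a + (-1 : k) • b = 0 := by
    apply Subtype.ext
    simp [h2]
  have := (hb c (-1) h3).2
  norm_num at this

/-- an effective divisor of degree one (all places of degree one) on a function field of positive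
genus has `ℓ = 1` -/
theorem ell_eq_one_of_deg_one (hK : IsFunctionField k K) (hd1 : ∀ P : Place k K, P.deg = 1)
    (hg : 0 < genus k K) (D : Divisor k K) (hD : 0 ≤ D) (hdeg : D.deg = 1) : ell D = 1 := by
  have hne : D ≠ 0 := by
    rintro rfl
    rw [deg_zero] at hdeg
    exact zero_ne_one hdeg
  obtain ⟨Q, hQ⟩ := Finsupp.support_nonempty_iff.mpr hne
  have hQ1 : 1 ≤ D Q := by
    have h1 := hD Q
    have h2 : D Q ≠ 0 := Finsupp.mem_support_iff.mp hQ
    have h3 : (0 : ℤ) ≤ D Q := h1
    omega
  have hD' : 0 ≤ D - Finsupp.single Q 1 := by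
    intro R
    by_cases hR : R = Q
    · subst hR
      simp only [Finsupp.coe_zero, Pi.zero_apply, Finsupp.coe_sub, Pi.sub_apply,
        Finsupp.single_eq_same]
      omega
    · have h1 : (0 : ℤ) ≤ D R := hD R
      simp only [Finsupp.coe_zero, Pi.zero_apply, Finsupp.coe_sub, Pi.sub_apply,
        Finsupp.single_eq_of_ne hR]
      omega
  have hdeg' : (D - Finsupp.single Q 1).deg = 0 := by
    rw [deg_sub, deg_single, hd1 Q, hdeg]
    norm_num
  have hz : D - Finsupp.single Q 1 = 0 := by
    by_contra hnz
    have := deg_pos_of_pos hK hD' hnz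
    omega
  have hDQ : D = Finsupp.single Q 1 := sub_eq_zero.mp hz
  rw [hDQ]
  exact ell_single_one_of_genus_pos hK hg Q (hd1 Q)

/-- the normalized pencil trick -/
theorem sub_mem_prinDivs_of_normalized (hK : IsFunctionField k K)
    (hd1 : ∀ P : Place k K, P.deg = 1) (hg : 0 < genus k K)
    (A B : Divisor k K) (hA : A.deg = 2) (hB : B.deg = 2) {x : K}
    (h1 : (1 : K) ∈ L A) (hx : x ∈ L A) (hxk : x ∉ Set.range (algebraMap k K))
    (hlB : 2 ≤ ell B) (hAB : ell (A + B) ≤ 3) : A - B ∈ prinDivs k K := by
  have hA0 : 0 ≤ A := (one_mem_L_iff A).mp h1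
  have hx0 : x ≠ 0 := by
    rintro rfl
    exact hxk ⟨0, map_zero _⟩
  have hordx : ∀ P : Place k K, 0 ≤ A P + P.ord x := by
    intro P
    have := (mem_L_iff_ord A hx0).mp hx P
    omega
  -- base point freeness
  have hdisj : ∀ P : Place k K, 1 ≤ A P → 1 ≤ A P + P.ord x → False := by
    intro P hP1 hP2
    have hA' : 0 ≤ A - Finsupp.single P 1 := by
      intro R
      by_cases hR : R = P
      · subst hR
        simp only [Finsupp.coe_zero, Pi.zero_apply, Finsupp.coe_sub, Pi.sub_apply,
          Finsupp.single_eq_same]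
        omega
      · have h1 : (0 : ℤ) ≤ A R := hA0 R
        simp only [Finsupp.coe_zero, Pi.zero_apply, Finsupp.coe_sub, Pi.sub_apply,
          Finsupp.single_eq_of_ne hR]
        omega
    have h1' : (1 : K) ∈ L (A - Finsupp.single P 1) := (one_mem_L_iff _).mpr hA'
    have hx' : x ∈ L (A - Finsupp.single P 1) := by
      rw [mem_L_iff_ord _ hx0]
      intro R
      by_cases hR : R = P
      · subst hR
        simp only [Finsupp.coe_sub, Pi.sub_apply, Finsupp.single_eq_same]
        omega
      · have := hordx R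
        simp only [Finsupp.coe_sub, Pi.sub_apply, Finsupp.single_eq_of_ne hR]
        omega
    have h2 := two_le_ell_of_mem hK _ h1' hx' hxk
    have hdeg' : (A - Finsupp.single P 1).deg = 1 := by
      rw [deg_sub, deg_single, hd1 P, hA]
      norm_num
    have := ell_eq_one_of_deg_one hK hd1 hg _ hA' hdeg'
    omega
  by_contra hnp
  -- the multiplication map
  have hmem : ∀ p : L B × L B, (p.1 : K) + x * (p.2 : K) ∈ L (A + B) := by
    intro p
    apply Submodule.add_mem
    · apply L_mono (A := B) (B := A + B) _ p.1.2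
      intro P
      have : (0 : ℤ) ≤ A P := hA0 P
      simp only [Finsupp.coe_add, Pi.add_apply]
      omega
    · rw [mul_mem_L_iff hK _ _ _ hx0]
      apply L_mono (A := B) (B := A + B + FunFld.div k x) _ p.2.2
      intro P
      have := hordx P
      simp only [Finsupp.coe_add, Pi.add_apply, div_apply hK]
      omega
  let φ : (L B × L B) →ₗ[k] L (A + B) :=
    { toFun := fun p => ⟨(p.1 : K) + x * (p.2 : K), hmem p⟩
      map_add' := fun p q => by
        apply Subtype.ext
        simp only [Prod.fst_add, Prod.snd_add, Submodule.coe_add]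
        ring
      map_smul' := fun c p => by
        apply Subtype.ext
        simp only [Prod.smul_fst, Prod.smul_snd, Submodule.coe_smul, RingHom.id_apply,
          smul_add, mul_smul_comm] }
  have hinj : Function.Injective φ := by
    rw [injective_iff_map_eq_zero]
    rintro ⟨u, v⟩ huv
    have huv' : (u : K) + x * (v : K) = 0 := congrArg Subtype.val huv
    by_cases hv : (v : K) = 0
    · have hu : (u : K) = 0 := by rw [hv, mul_zero, add_zero] at huv'; exact huv'
      exact Prod.ext (Subtype.ext hu) (Subtype.ext hv)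
    · exfalso
      apply hnp
      have hxv : x * (v : K) ∈ L B := by
        have : x * (v : K) = -(u : K) := eq_neg_of_add_eq_zero_right huv'
        rw [this]
        exact Submodule.neg_mem _ u.2
      have hv1 := (mem_L_iff_ord B hv).mp v.2
      have hv2 := (mem_L_iff_ord B (mul_ne_zero hx0 hv)).mp hxv
      have hle : A ≤ B + FunFld.div k (v : K) := by
        intro P
        have e1 := hv1 P
        have e2 := hv2 P
        rw [ord_mul P hx0 hv] at e2
        have e3 := hordx P
        have e4 : (0 : ℤ) ≤ A P := hA0 P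
        simp only [Finsupp.coe_add, Pi.add_apply, div_apply hK]
        by_cases hAP : 1 ≤ A P
        · have e5 : ¬ (1 ≤ A P + P.ord x) := fun h => hdisj P hAP h
          omega
        · omega
      have hD' : 0 ≤ B + FunFld.div k (v : K) - A := sub_nonneg.mpr hle
      have hdeg' : (B + FunFld.div k (v : K) - A).deg = 0 := by
        rw [deg_sub, deg_add, deg_div hK, hA, hB]
        norm_num
      have hz : B + FunFld.div k (v : K) - A = 0 := by
        by_contra hnz
        have := deg_pos_of_pos hK hD' hnz
        omega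
      rw [mem_prinDivs_iff hK]
      refine ⟨(v : K), hv, ?_⟩
      have := sub_eq_zero.mp hz
      rw [← this]
      abel
  haveI := finiteDimensional_L hK B
  haveI := finiteDimensional_L hK (A + B)
  have hfr := LinearMap.finrank_le_finrank_of_injective hinj
  rw [Module.finrank_prod] at hfr
  unfold ell at hlB hAB
  omega

/-- **two divisors of degree two with `ℓ ≥ 2` whose sum has `ℓ ≤ 3` are linearly equivalent**
(positive genus, all places of degree one) -/
theorem sub_mem_prinDivs_of_pencil (hK : IsFunctionField k K)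
    (hd1 : ∀ P : Place k K, P.deg = 1) (hg : 0 < genus k K)
    (A B : Divisor k K) (hA : A.deg = 2) (hB : B.deg = 2)
    (hlA : 2 ≤ ell A) (hlB : 2 ≤ ell B) (hAB : ell (A + B) ≤ 3) : A - B ∈ prinDivs k K := by
  obtain ⟨f₁, f₂, hf₁, hf₂, hf₁0, hnk⟩ := exists_pair_of_two_le_ell hK A hlA
  have h1 : (1 : K) ∈ L (A + FunFld.div k f₁) := by
    rw [← mul_mem_L_iff hK A f₁ 1 hf₁0, mul_one]
    exact hf₁
  have hx : f₁⁻¹ * f₂ ∈ L (A + FunFld.div k f₁) := by
    rw [← mul_mem_L_iff hK A f₁ _ hf₁0, mul_inv_cancel_left₀ hf₁0]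
    exact hf₂
  have hA' : (A + FunFld.div k f₁).deg = 2 := by rw [deg_add, deg_div hK, hA, add_zero]
  have hAB' : ell (A + FunFld.div k f₁ + B) ≤ 3 := by
    have : A + FunFld.div k f₁ + B = A + B + FunFld.div k f₁ := by abel
    rw [this, ell_add_div hK _ hf₁0]
    exact hAB
  have key := sub_mem_prinDivs_of_normalized hK hd1 hg _ B hA' hB h1 hx hnk hlB hAB'
  have hdiv : FunFld.div k f₁ ∈ prinDivs k K := (mem_prinDivs_iff hK _).mpr ⟨f₁, hf₁0, rfl⟩
  have := (prinDivs k K).sub_mem key hdiv
  have e : A + FunFld.div k f₁ - B - FunFld.div k f₁ = A - B := by abel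
  rw [e] at this
  exact this

end Groth.Agent.Helper4.SN588
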