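import Mathlib
import Groth.Agent.Helper4.SN588
import Groth.Agent.Helper4.SN572
import Groth.Agent.Helper4.SN568
import Groth.Agent.Helper4.SN56
import Groth.Agent.Helper4.SN83
import Groth.Agent.Helper4.SN125

/-!
# Uniqueness of the `g¹₂` on a curve of genus at least two
-/

set_option autoImplicit false
set_option linter.style.haveILetI false
set_option linter.unusedSectionVars false
universe u
open CategoryTheory CategoryTheory.Limits AlgebraicGeometry TopologicalSpace Opposite FunFld

namespace Groth.Agent.Helper4.SN589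

open Groth.Agent.Helper4.SN550 Groth.Agent.Helper4.SN Groth.Agent.Helper1.Dev

attribute [local instance] Curv2.stalkAlgebra Curv2.resAlgebra

section LinIndep

variable (k : Type u) [Field k] {X : Scheme.{u}} [X.Over (Spec (CommRingCat.of k))]
  [IsProper (X ↘ (Spec (CommRingCat.of k)))]

/-- linearly independent sections bound `h⁰` from below -/
theorem le_h0_of_linIndep [IsNoetherian X] (L : X.Modules) (hL : Coh.IsCoh L) {n : ℕ}
    (s : Fin n → LinSer.Sect X L) (hs : LinSer.LinIndep k X L s) :
    n ≤ Module.finrank k (Coh.HH X L 0) := by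
  letI := sectModule k L
  haveI : Module.Finite k (Coh.HH X L 0) := Groth.Agent.S0002.result k X _ hL 0
  haveI : Module.Finite k (LinSer.Sect X L) := Module.Finite.equiv (h0LinEquiv k L)
  have hli : LinearIndependent k s :=
    Fintype.linearIndependent_iff.mpr (fun c hc i => congrFun (hs c hc) i)
  have := hli.fintype_card_le_finrank
  rw [Fintype.card_fin] at this
  rw [(h0LinEquiv k L).finrank_eq]
  exact this

end LinIndep

variable (k : Type u) [Field k] [IsAlgClosed k] (X : Scheme.{u}) [X.Over (Spec (CommRingCat.of k))]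
  [IsIntegral X] [IsProper (X ↘ Spec (CommRingCat.of k))]
  (hdim : topologicalKrullDim X = 1)
  (hreg : ∀ x : X, IsRegularLocalRing (X.presheaf.stalk x))

include hdim hreg in
/-- two invertible modules of degree two with two independent sections on a curve of genus at
least two are isomorphic -/
theorem nonempty_iso_of_g12 (hg : 2 ≤ Curv2.genus k X)
    (M M' : X.Modules) (hM : PicF.IsInvertible M) (hM' : PicF.IsInvertible M')
    (hd : Curv2.deg k X M 1 = 2) (hd' : Curv2.deg k X M' 1 = 2)
    (h2 : 2 ≤ Module.finrank k (Coh.HH X M 0)) (h2' : 2 ≤ Module.finrank k (Coh.HH X M' 0)) :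
    Nonempty (M ≅ M') := by
  haveI := Groth.Agent.Helper4.NApx82.isNoetherian_of_proper k X
  obtain ⟨pd⟩ := Groth.Agent.Helper4.SN568.nonempty_placeData k X hdim hreg
  obtain ⟨t, ht0, -⟩ := Groth.Agent.Helper4.SN555.exists_gen M hM
  obtain ⟨A, hA⟩ := exists_isDiv pd M hM t ht0
  obtain ⟨t', ht0', -⟩ := Groth.Agent.Helper4.SN555.exists_gen M' hM'
  obtain ⟨B, hB⟩ := exists_isDiv pd M' hM' t' ht0'
  have hdA : A.deg = 2 := by
    rw [← Groth.Agent.Helper4.SN552.deg_eq_of_isDiv pd M hM t A hA]; exact hd
  have hdB : B.deg = 2 := by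
    rw [← Groth.Agent.Helper4.SN552.deg_eq_of_isDiv pd M' hM' t' B hB]; exact hd'
  have hlA : 2 ≤ ell A := by
    rw [← Groth.Agent.Helper4.SN559.finrank_h0_eq_ell pd M hM t A hA]; exact h2
  have hlB : 2 ≤ ell B := by
    rw [← Groth.Agent.Helper4.SN559.finrank_h0_eq_ell pd M' hM' t' B hB]; exact h2'
  have hT := Groth.Agent.Helper4.TensorInv.isInvertible_tensorMod hM hM'
  have hAB := Groth.Agent.Helper4.SN571.isDiv_tensor pd hM hM' hA hB
  have hlAB : ell (A + B) ≤ 3 := by
    rw [← Groth.Agent.Helper4.SN559.finrank_h0_eq_ell pd _ hT _ (A + B) hAB]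
    -- Clifford / Riemann–Roch on the scheme side
    have hdT : Curv2.deg k X (CohB1.tensorMod M M') 1 = 4 := by
      rw [deg_tensor_inv_curve k hdim M M' hM hM', hd, hd']; norm_num
    have hχT := chi_eq_h0_sub_h1 k hdim.le (CohB1.tensorMod M M')
    have hχO := chi_eq_h0_sub_h1 k hdim.le (Coh.structureModule X)
    have hO0 := Groth.Agent.Helper4.SN560.finrank_h0_structureModule pd
    have hgen : Module.finrank k (Coh.HH X (Coh.structureModule X) 1) = Curv2.genus k X := rfl
    by_cases h1 : Module.finrank k (Coh.HH X (CohB1.tensorMod M M') 1) = 0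
    · unfold Curv2.deg at hdT
      unfold chi at hχT hχO
      rw [hχT, hχO, hO0, hgen, h1] at hdT
      push_cast at hdT
      omega
    · by_cases h00 : Module.finrank k (Coh.HH X (CohB1.tensorMod M M') 0) = 0
      · omega
      · haveI : Nontrivial (Coh.HH X (CohB1.tensorMod M M') 0) :=
          Module.nontrivial_of_finrank_pos (R := k) (Nat.pos_of_ne_zero h00)
        haveI : Nontrivial (Coh.HH X (CohB1.tensorMod M M') 1) :=
          Module.nontrivial_of_finrank_pos (R := k) (Nat.pos_of_ne_zero h1)
        have key := clifford_two_h0_le k hdim _ hT inferInstance inferInstance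
        rw [hdT] at key
        omega
  have hgpos : 0 < genus k X.functionField := by
    rw [← Groth.Agent.Helper4.SN560.genus_eq pd]; omega
  have hprin := Groth.Agent.Helper4.SN588.sub_mem_prinDivs_of_pencil pd.hK
    (fun P => Groth.Agent.Helper5.FF.deg_eq_one_of_isAlgClosed pd.hK P) hgpos A B hdA hdB
    hlA hlB hlAB
  exact Groth.Agent.Helper4.SN555.nonempty_iso_of_sub_mem pd hM hM' hA hB hprin

include hdim hreg in
/-- **S11355** -/
theorem main11355 (hg : 2 ≤ Curv2.genus k X)
    (M : X.Modules) (s : Fin 2 → LinSer.Sect X M) (hM : LinSer.IsLinSer k X M 2 1 s)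
    (M' : X.Modules) (s' : Fin 2 → LinSer.Sect X M') (hM' : LinSer.IsLinSer k X M' 2 1 s') :
    Nonempty (M ≅ M') := by
  haveI := Groth.Agent.Helper4.NApx82.isNoetherian_of_proper k X
  obtain ⟨hMi, hd, hli⟩ := hM
  obtain ⟨hMi', hd', hli'⟩ := hM'
  have hc := Groth.Agent.Helper1.SerreFin.isCoh_of_isInvertible M hMi
  have hc' := Groth.Agent.Helper1.SerreFin.isCoh_of_isInvertible M' hMi'
  exact nonempty_iso_of_g12 k X hdim hreg hg M M' hMi hMi' (by exact_mod_cast hd)
    (by exact_mod_cast hd') (le_h0_of_linIndep k M hc s hli) (le_h0_of_linIndep k M' hc' s' hli')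

end Groth.Agent.Helper4.SN589
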