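import Mathlib
import Groth.Agent.Helper4.SN143
import Groth.Agent.Helper5.UniComp1
import Groth.Agent.Helper3.CurveSmoothPt
import Groth.Agent.Helper3.SepClosedEq

/-!
# S7834: a geometrically integral proper curve of genus zero over a separably closed field is `P¹`
-/

set_option autoImplicit false
set_option linter.unusedSectionVars false
set_option linter.style.haveILetI false
universe u

open CategoryTheory CategoryTheory.Limits AlgebraicGeometry TopologicalSpace Opposite

namespace Groth.Agent.Helper4.SN

section Fin7834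

attribute [local instance] Curv2.resAlgebra

variable (k : Type u) [Field k] {X : Scheme.{u}} [X.Over (Spec (CommRingCat.of k))]

theorem geomReducedAt_of_geometricallyReduced' {Z : Scheme.{u}}
    (g : Z ⟶ Spec (CommRingCat.of k)) [GeometricallyReduced g] (z : Z) :
    FBase.IsGeomReducedAt g z := by
  intro K _ _ x' _
  haveI : IsReduced (FBase.bc g K) :=
    GeometricallyReduced.geometrically_isReduced (f := g) _ _ _ (.of_hasPullback _ _)
  infer_instance

/-- a smooth rational point on a geometrically reduced integral scheme locally of finite type over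
a separably closed field -/
theorem exists_smooth_rational_point [IsSepClosed k] [IsIntegral X]
    [LocallyOfFiniteType (X ↘ Spec (CommRingCat.of k))]
    [GeometricallyReduced (X ↘ Spec (CommRingCat.of k))] :
    ∃ σ : Spec (CommRingCat.of k) ⟶ X, σ ≫ (X ↘ Spec (CommRingCat.of k)) = 𝟙 _ ∧
      IsRegularLocalRing (X.presheaf.stalk (σ (IsLocalRing.closedPoint k))) := by
  haveI : IsLocallyNoetherian (Spec (CommRingCat.of k)) := inferInstance
  haveI : LocallyOfFinitePresentation (X ↘ Spec (CommRingCat.of k)) :=
    LocallyOfFinitePresentation.iff_locallyOfFiniteType.2 inferInstance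
  have hη : genericPoint X ∈ (X ↘ Spec (CommRingCat.of k)).smoothLocus := by
    apply Groth.Agent.Helper5.UniComp.mem_smoothLocus_of_geomReducedAt_of_max
    · exact geomReducedAt_of_geometricallyReduced' k _ _
    · intro w' hw'
      exact (hw'.antisymm (genericPoint_specializes w')).eq
  obtain ⟨σ, hσ, hmem⟩ := Groth.Agent.Helper3.SepClosedEq.exists_point_mem k k
    (X ↘ Spec (CommRingCat.of k)) (X ↘ Spec (CommRingCat.of k)).smoothLocus ⟨_, hη⟩
  have hσ' : σ ≫ (X ↘ Spec (CommRingCat.of k)) = 𝟙 _ := by
    rw [hσ]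
    have : algebraMap k k = RingHom.id k := rfl
    rw [this]
    exact Spec.map_id _
  refine ⟨σ, hσ', ?_⟩
  have hsurj := resMap_surjective_of_section k σ hσ'
  haveI : Algebra.IsSeparable k (X.residueField (σ (IsLocalRing.closedPoint k))) := by
    refine ⟨fun a => ?_⟩
    obtain ⟨b, rfl⟩ := hsurj a
    exact isSeparable_algebraMap b
  exact (Groth.Agent.Helper3.CurveSmoothPt.mem_smoothLocus_iff_regular k X _).1 hmem

/-- **S7834** -/
theorem main7834 [IsSepClosed k] [IsProper (X ↘ Spec (CommRingCat.of k))]
    [GeometricallyIntegral (X ↘ Spec (CommRingCat.of k))]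
    (hdim : topologicalKrullDim X = 1) (hg : Curv2.genus k X = 0) :
    ∃ e : X ≅ CohB1.ProjSpace 1 k,
      e.hom ≫ CohB1.ProjSpace.toSpec 1 k = X ↘ (Spec (CommRingCat.of k)) := by
  haveI : IsIntegral X :=
    GeometricallyIntegral.isIntegral_of_subsingleton (X ↘ Spec (CommRingCat.of k))
  haveI := Groth.Agent.Helper4.NApx82.isNoetherian_of_proper k X
  obtain ⟨σ, hσ, hreg⟩ := exists_smooth_rational_point k (X := X)
  obtain ⟨x, hxdef⟩ : ∃ x : X, x = σ (IsLocalRing.closedPoint k) := ⟨_, rfl⟩
  have hx : IsClosed ({x} : Set X) := by rw [hxdef]; exact isClosed_of_section k σ hσ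
  have hκ : Module.finrank k (X.residueField x) = 1 := by
    rw [hxdef]; exact finrank_residueField_of_section k σ hσ
  haveI : IsRegularLocalRing (X.presheaf.stalk x) := by rw [hxdef]; exact hreg
  obtain ⟨hI, hdI⟩ := ideal_point_of_normal k hdim x hx
    (Groth.Agent.Helper4.RegNormal.isIntegrallyClosed_of_isRegularLocalRing _)
  obtain ⟨J, hJ, ⟨ε₁⟩, -⟩ := Groth.Agent.Lead.InvDual.exists_inverse _ hI
  have hdJ : Curv2.deg k X J 1 = 1 := by
    rw [deg_inverse k hdim.le _ J hI hJ ε₁, hdI, hκ]
    norm_num
  have hOX : Coh.IsCoh (Coh.structureModule X) := Groth.Agent.Helper1.Dev.isCoh_structureModule X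
  haveI : Module.Finite k (Coh.HH X (Coh.structureModule X) 1) :=
    Groth.Agent.S0002.result k X _ hOX 1
  have h1 : Subsingleton (Coh.HH X (Coh.structureModule X) 1) := by
    unfold Curv2.genus at hg
    exact Module.finrank_zero_iff.1 hg
  exact main6541 k hdim h1 J hJ hdJ

end Fin7834

end Groth.Agent.Helper4.SN
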