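import Mathlib
import Groth.Agent.Helper4.SN588
import Groth.Agent.Helper5.FFRR
import Groth.Agent.Helper5.FFWeil
import Groth.Agent.Helper5.FFOrd

/-!
# The equality case of Clifford's theorem in a function field
-/

set_option autoImplicit false
set_option linter.unusedSectionVars false
open FunFld

namespace Groth.Agent.Helper4.SN591

open Groth.Agent.Helper5.FF hiding degHom degHom_apply
open Groth.Agent.Helper6.FFZeta
open Groth.Agent.Helper4.SN588

variable {k K : Type*} [Field k] [Field K] [Algebra k K]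

/-- a divisor of degree zero with `ℓ > 0` is principal -/
theorem mem_prinDivs_of_ell_pos (hK : IsFunctionField k K) (D : Divisor k K) (h : 0 < ell D)
    (hd : D.deg = 0) : D ∈ prinDivs k K := by
  obtain ⟨x, hx0, hx⟩ := (L_ne_bot_iff hK D).mp (L_ne_bot_of_ell_pos h)
  have hdeg0 : (D + FunFld.div k x).deg = 0 := by rw [deg_add, deg_div hK, hd, add_zero]
  have hz : D + FunFld.div k x = 0 := by
    by_contra hne
    have := deg_pos_of_pos hK hx hne
    omega
  rw [mem_prinDivs_iff hK]
  refine ⟨x⁻¹, inv_ne_zero hx0, ?_⟩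
  rw [div_inv hK]
  exact eq_neg_of_add_eq_zero_left hz

/-- over an infinite constant field there are places outside any finite set -/
theorem exists_place_not_mem [Infinite k] (hK : IsFunctionField k K) (S : Finset (Place k K)) :
    ∃ Q : Place k K, Q ∉ S := by
  have hK' : IsFunctionField k K := hK
  obtain ⟨⟨x, hx, -⟩, -⟩ := hK
  have hxc : ∀ c : k, x - algebraMap k K c ∉ Set.range (algebraMap k K) := by
    rintro c ⟨d, hd⟩
    apply hx
    have : x = algebraMap k K (d + c) := by rw [map_add, hd]; ring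
    rw [this]
    exact isAlgebraic_algebraMap _
  have hz : ∀ c : k, ∃ P : Place k K, 0 < P.ord (x - algebraMap k K c) := fun c =>
    (exists_zero_and_exists_pole hK' _ (hxc c)).1
  choose P hP using hz
  have hinj : Function.Injective P := by
    intro c d hcd
    by_contra hne
    have h1 := hP c
    have h2 := hP d
    rw [hcd] at h1
    have hc0 : x - algebraMap k K c ≠ 0 := fun h => hxc c ⟨0, by rw [map_zero, h]⟩
    have hd0 : x - algebraMap k K d ≠ 0 := fun h => hxc d ⟨0, by rw [map_zero, h]⟩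
    rw [ord_pos_iff _ hc0] at h1
    rw [ord_pos_iff _ hd0] at h2
    have h3 : (P d).1 ((x - algebraMap k K d) - (x - algebraMap k K c)) < 1 := by
      refine lt_of_le_of_lt (Valuation.map_sub _ _ _) (max_lt h2 h1)
    have h4 : (x - algebraMap k K d) - (x - algebraMap k K c) = algebraMap k K (c - d) := by
      rw [map_sub]; ring
    rw [h4, val_algebraMap (P d) (sub_ne_zero.mpr hne)] at h3
    exact lt_irrefl _ h3
  by_contra hall
  push Not at hall
  haveI : Finite k := Finite.of_injective (fun c => (⟨P c, hall (P c)⟩ : S)) (by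
    intro c d hcd
    exact hinj (congrArg Subtype.val hcd))
  exact not_finite k

theorem L_inf (A B : Divisor k K) : L (A ⊓ B) = L A ⊓ L B := by
  ext x
  simp only [Submodule.mem_inf, mem_L_iff, Finsupp.inf_apply]
  constructor
  · intro h
    exact ⟨fun P => (h P).trans (WithZero.exp_le_exp.mpr inf_le_left),
      fun P => (h P).trans (WithZero.exp_le_exp.mpr inf_le_right)⟩
  · rintro ⟨h1, h2⟩ P
    rcases le_total (A P) (B P) with h | h
    · rw [inf_eq_left.mpr h]; exact h1 P
    · rw [inf_eq_right.mpr h]; exact h2 P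

/-- `ℓ(A) + ℓ(B) ≤ ℓ(A ⊓ B) + ℓ(A ⊔ B)` -/
theorem ell_add_ell_le (hK : IsFunctionField k K) (A B : Divisor k K) :
    ell A + ell B ≤ ell (A ⊓ B) + ell (A ⊔ B) := by
  haveI := finiteDimensional_L hK A
  haveI := finiteDimensional_L hK B
  haveI := finiteDimensional_L hK (A ⊔ B)
  have h1 := Submodule.finrank_sup_add_finrank_inf_eq (L A) (L B)
  have h2 : L A ⊔ L B ≤ L (A ⊔ B) := sup_le (L_mono le_sup_left) (L_mono le_sup_right)
  have h3 := Submodule.finrank_mono h2
  rw [← L_inf] at h1
  unfold ell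
  omega

theorem ell_pos_of_nonneg (hK : IsFunctionField k K) {D : Divisor k K} (hD : 0 ≤ D) :
    0 < ell D := by
  haveI := finiteDimensional_L hK D
  unfold ell
  rw [Module.finrank_pos_iff_exists_ne_zero]
  refine ⟨⟨1, (one_mem_L_iff D).mpr hD⟩, ?_⟩
  intro h
  exact one_ne_zero (congrArg Subtype.val h)

theorem ell_mono (hK : IsFunctionField k K) {A B : Divisor k K} (h : A ≤ B) : ell A ≤ ell B := by
  haveI := finiteDimensional_L hK B
  exact Submodule.finrank_mono (L_mono h)

theorem inf_add_sup' (A B : Divisor k K) : A ⊓ B + A ⊔ B = A + B := by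
  ext R
  simp only [Finsupp.add_apply, Finsupp.inf_apply, Finsupp.sup_apply]
  exact min_add_max _ _

/-- **existence of a `g¹₂` from the equality case of Clifford's theorem** -/
theorem exists_g12 [Infinite k] (hK : IsFunctionField k K) (hd1 : ∀ P : Place k K, P.deg = 1)
    (C : Divisor k K) (hC : IsCanonical k K C)
    (hCl : ∀ D : Divisor k K, 0 < ell D → 0 < ell (C - D) → 2 * (ell D : ℤ) ≤ D.deg + 2) :
    ∀ (n : ℕ) (D : Divisor k K), D.deg = n → 0 < ell D → 0 < ell (C - D) →
      2 * (ell D : ℤ) = D.deg + 2 → 0 < D.deg → 0 < (C - D).deg →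
      ∃ F : Divisor k K, F.deg = 2 ∧ 2 ≤ ell F := by
  intro n
  induction n using Nat.strong_induction_on with
  | _ n ih =>
  intro D hn h1 h2 heq hpos hpos'
  by_cases hn2 : n = 2
  · refine ⟨D, by rw [hn, hn2]; rfl, ?_⟩
    have : 2 * (ell D : ℤ) = 4 := by rw [heq, hn, hn2]; norm_num
    omega
  have hl3 : 3 ≤ ell D := by
    have e1 : (2 : ℤ) * ell D = n + 2 := by rw [heq, hn]
    have e2 : 0 < (n : ℤ) := by rw [← hn]; exact hpos
    omega
  obtain ⟨h, hh0, hE⟩ := (L_ne_bot_iff hK (C - D)).mp (L_ne_bot_of_ell_pos h2)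
  obtain ⟨E, hEdef⟩ : ∃ E : Divisor k K, E = C - D + FunFld.div k h := ⟨_, rfl⟩
  rw [← hEdef] at hE
  have hEdeg : E.deg = (C - D).deg := by rw [hEdef, deg_add, deg_div hK, add_zero]
  have hEne : E ≠ 0 := by
    intro h0
    rw [h0, deg_zero] at hEdeg
    omega
  obtain ⟨P, hP⟩ := Finsupp.support_nonempty_iff.mpr hEne
  have hP1 : 1 ≤ E P := by
    have h1 := hE P
    have h2 : E P ≠ 0 := Finsupp.mem_support_iff.mp hP
    have h3 : (0 : ℤ) ≤ E P := h1
    omega
  obtain ⟨Q, hQ⟩ := exists_place_not_mem hK E.support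
  have hQ0 : E Q = 0 := Finsupp.notMem_support_iff.mp hQ
  have hPQ : P ≠ Q := by rintro rfl; exact hQ hP
  obtain ⟨D₀, hD₀⟩ : ∃ D₀ : Divisor k K, D₀ = D - Finsupp.single P 1 - Finsupp.single Q 1 :=
    ⟨_, rfl⟩
  have hD₀le : D₀ ≤ D := by
    intro R
    rw [hD₀]
    simp only [Finsupp.coe_sub, Pi.sub_apply]
    have a1 : (0 : ℤ) ≤ (Finsupp.single P (1 : ℤ)) R := by
      by_cases hR : R = P
      · subst hR; rw [Finsupp.single_eq_same]; norm_num
      · rw [Finsupp.single_eq_of_ne hR]
    have a2 : (0 : ℤ) ≤ (Finsupp.single Q (1 : ℤ)) R := by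
      by_cases hR : R = Q
      · subst hR; rw [Finsupp.single_eq_same]; norm_num
      · rw [Finsupp.single_eq_of_ne hR]
    omega
  have hD₀deg : D₀.deg = D.deg - 2 := by
    rw [hD₀, deg_sub, deg_sub, deg_single, deg_single, hd1 P, hd1 Q]
    push_cast
    ring
  have hl0 : 0 < ell D₀ := by
    have := ell_sub_ell_le hK D₀ D hD₀le
    rw [hD₀deg] at this
    omega
  obtain ⟨f, hf0, hf⟩ := (L_ne_bot_iff hK D₀).mp (L_ne_bot_of_ell_pos hl0)
  obtain ⟨D₁, hD₁⟩ : ∃ D₁ : Divisor k K, D₁ = D + FunFld.div k f := ⟨_, rfl⟩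
  have hD₁R : ∀ R, D₁ R = (D₀ + FunFld.div k f) R + (Finsupp.single P (1 : ℤ)) R +
      (Finsupp.single Q (1 : ℤ)) R := by
    intro R
    rw [hD₁, hD₀]
    simp only [Finsupp.coe_add, Finsupp.coe_sub, Pi.add_apply, Pi.sub_apply]
    ring
  have hD₁0 : 0 ≤ D₁ := by
    intro R
    have a0 : (0 : ℤ) ≤ (D₀ + FunFld.div k f) R := hf R
    have a1 : (0 : ℤ) ≤ (Finsupp.single P (1 : ℤ)) R := by
      by_cases hR : R = P
      · subst hR; rw [Finsupp.single_eq_same]; norm_num
      · rw [Finsupp.single_eq_of_ne hR]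
    have a2 : (0 : ℤ) ≤ (Finsupp.single Q (1 : ℤ)) R := by
      by_cases hR : R = Q
      · subst hR; rw [Finsupp.single_eq_same]; norm_num
      · rw [Finsupp.single_eq_of_ne hR]
    rw [hD₁R R, Finsupp.zero_apply]
    omega
  have hD₁P : 1 ≤ D₁ P := by
    have a0 : (0 : ℤ) ≤ (D₀ + FunFld.div k f) P := hf P
    rw [hD₁R P, Finsupp.single_eq_same, Finsupp.single_eq_of_ne hPQ]
    omega
  have hD₁Q : 1 ≤ D₁ Q := by
    have a0 : (0 : ℤ) ≤ (D₀ + FunFld.div k f) Q := hf Q
    rw [hD₁R Q, Finsupp.single_eq_same, Finsupp.single_eq_of_ne (Ne.symm hPQ)]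
    omega
  have hD₁deg : D₁.deg = D.deg := by rw [hD₁, deg_add, deg_div hK, add_zero]
  have hD₁ell : ell D₁ = ell D := by rw [hD₁, ell_add_div hK _ hf0]
  have hEell : ell E = ell (C - D) := by rw [hEdef, ell_add_div hK _ hh0]
  -- the intersection divisor
  obtain ⟨D', hD'⟩ : ∃ D' : Divisor k K, D' = D₁ ⊓ E := ⟨_, rfl⟩
  have hD'0 : 0 ≤ D' := by rw [hD']; exact le_inf hD₁0 hE
  have hD'P : 1 ≤ D' P := by
    rw [hD', Finsupp.inf_apply]
    exact le_min hD₁P hP1
  have hD'Q : D' Q = 0 := by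
    rw [hD', Finsupp.inf_apply, hQ0]
    exact min_eq_right (by omega)
  have hD'ne : D' ≠ 0 := by
    intro h0
    rw [h0, Finsupp.zero_apply] at hD'P
    omega
  have hD'pos : 0 < D'.deg := deg_pos_of_pos hK hD'0 hD'ne
  have hD'lt : D'.deg < D.deg := by
    have a1 : 0 ≤ D₁ - D' := by rw [hD']; exact sub_nonneg.mpr inf_le_left
    have a2 : D₁ - D' ≠ 0 := by
      intro h0
      have := congrArg (fun F : Divisor k K => F Q) h0
      simp only [Finsupp.coe_sub, Pi.sub_apply, Finsupp.zero_apply, hD'Q] at this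
      omega
    have := deg_pos_of_pos hK a1 a2
    rw [deg_sub, hD₁deg] at this
    omega
  have hsup : D₁ ⊔ E = C - D' + FunFld.div k f + FunFld.div k h := by
    have := inf_add_sup' D₁ E
    rw [← hD'] at this
    have e : D₁ ⊔ E = D₁ + E - D' := by rw [← this]; abel
    rw [e, hD₁, hEdef]
    abel
  have hsupell : ell (D₁ ⊔ E) = ell (C - D') := by
    rw [hsup, ell_add_div hK _ hh0, ell_add_div hK _ hf0]
  have hsup0 : 0 ≤ D₁ ⊔ E := le_sup_of_le_left hD₁0
  have hlD' : 0 < ell D' := ell_pos_of_nonneg hK hD'0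
  have hlCD' : 0 < ell (C - D') := by rw [← hsupell]; exact ell_pos_of_nonneg hK hsup0
  have key := ell_add_ell_le hK D₁ E
  rw [← hD', hsupell, hD₁ell, hEell] at key
  have hRR := riemann_roch hK C hC D
  have hRR' := riemann_roch hK C hC D'
  have hCl' := hCl D' hlD' hlCD'
  have heq' : 2 * (ell D' : ℤ) = D'.deg + 2 := by
    have key' : (ell D : ℤ) + ell (C - D) ≤ ell D' + ell (C - D') := by exact_mod_cast key
    omega
  have hCdeg : (C - D').deg = (C - D).deg + (D.deg - D'.deg) := by
    rw [deg_sub, deg_sub]; ring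
  have hn' : D'.deg = (D'.deg.toNat : ℤ) := (Int.toNat_of_nonneg hD'pos.le).symm
  refine ih D'.deg.toNat ?_ D' hn' hlD' hlCD' heq' hD'pos (by rw [hCdeg]; omega)
  have : (D'.deg.toNat : ℤ) < n := by rw [← hn', ← hn]; exact hD'lt
  exact_mod_cast this

section Pencil

variable (hK : IsFunctionField k K) (hd1 : ∀ P : Place k K, P.deg = 1) (hg : 0 < genus k K)
  (F : Divisor k K) (hF : F.deg = 2) {x : K}
  (h1 : (1 : K) ∈ L F) (hx : x ∈ L F) (hxk : x ∉ Set.range (algebraMap k K))

include hK hd1 hg hF h1 hx hxk in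
/-- a normalized `g¹₂` on a function field of positive genus has no base points -/
theorem bpf (P : Place k K) (hP1 : 1 ≤ F P) (hP2 : 1 ≤ F P + P.ord x) : False := by
  have hF0 : 0 ≤ F := (one_mem_L_iff F).mp h1
  have hx0 : x ≠ 0 := by
    rintro rfl
    exact hxk ⟨0, map_zero _⟩
  have hordx : ∀ P : Place k K, 0 ≤ F P + P.ord x := by
    intro P
    have := (mem_L_iff_ord F hx0).mp hx P
    omega
  have hA' : 0 ≤ F - Finsupp.single P 1 := by
    intro R
    by_cases hR : R = P
    · subst hR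
      simp only [Finsupp.coe_zero, Pi.zero_apply, Finsupp.coe_sub, Pi.sub_apply,
        Finsupp.single_eq_same]
      omega
    · have h1 : (0 : ℤ) ≤ F R := hF0 R
      simp only [Finsupp.coe_zero, Pi.zero_apply, Finsupp.coe_sub, Pi.sub_apply,
        Finsupp.single_eq_of_ne hR]
      omega
  have h1' : (1 : K) ∈ L (F - Finsupp.single P 1) := (one_mem_L_iff _).mpr hA'
  have hx' : x ∈ L (F - Finsupp.single P 1) := by
    rw [mem_L_iff_ord _ hx0]
    intro R
    by_cases hR : R = P
    · subst hR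
      simp only [Finsupp.coe_sub, Pi.sub_apply, Finsupp.single_eq_same]
      omega
    · have := hordx R
      simp only [Finsupp.coe_sub, Pi.sub_apply, Finsupp.single_eq_of_ne hR]
      omega
  have h2 := two_le_ell_of_mem hK _ h1' hx' hxk
  have hdeg' : (F - Finsupp.single P 1).deg = 1 := by
    rw [deg_sub, deg_single, hd1 P, hF]
    norm_num
  have := ell_eq_one_of_deg_one hK hd1 hg _ hA' hdeg'
  omega

include hK hd1 hg hF h1 hx hxk in
/-- the base-point-free pencil trick: `2 ℓ(D) ≤ ℓ(D - F) + ℓ(D + F)` -/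
theorem pencil (D : Divisor k K) : 2 * ell D ≤ ell (D - F) + ell (D + F) := by
  have hF0 : 0 ≤ F := (one_mem_L_iff F).mp h1
  have hx0 : x ≠ 0 := by
    rintro rfl
    exact hxk ⟨0, map_zero _⟩
  have hordx : ∀ P : Place k K, 0 ≤ F P + P.ord x := by
    intro P
    have := (mem_L_iff_ord F hx0).mp hx P
    omega
  have hmem : ∀ p : L D × L D, (p.1 : K) + x * (p.2 : K) ∈ L (D + F) := by
    intro p
    apply Submodule.add_mem
    · apply L_mono (A := D) (B := D + F) _ p.1.2
      intro P
      have : (0 : ℤ) ≤ F P := hF0 P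
      simp only [Finsupp.coe_add, Pi.add_apply]
      omega
    · rw [mul_mem_L_iff hK _ _ _ hx0]
      apply L_mono (A := D) (B := D + F + FunFld.div k x) _ p.2.2
      intro P
      have := hordx P
      simp only [Finsupp.coe_add, Pi.add_apply, div_apply hK]
      omega
  let φ : (L D × L D) →ₗ[k] L (D + F) :=
    { toFun := fun p => ⟨(p.1 : K) + x * (p.2 : K), hmem p⟩
      map_add' := fun p q => by
        apply Subtype.ext
        simp only [Prod.fst_add, Prod.snd_add, Submodule.coe_add]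
        ring
      map_smul' := fun c p => by
        apply Subtype.ext
        simp only [Prod.smul_fst, Prod.smul_snd, Submodule.coe_smul, RingHom.id_apply,
          smul_add, mul_smul_comm] }
  have hker : ∀ p : LinearMap.ker φ, ((p : L D × L D).2 : K) ∈ L (D - F) := by
    rintro ⟨⟨u, v⟩, huv⟩
    have huv' : (u : K) + x * (v : K) = 0 := congrArg Subtype.val (LinearMap.mem_ker.mp huv)
    show (v : K) ∈ L (D - F)
    by_cases hv : (v : K) = 0
    · rw [hv]; exact Submodule.zero_mem _
    · have hxv : x * (v : K) ∈ L D := by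
        have : x * (v : K) = -(u : K) := eq_neg_of_add_eq_zero_right huv'
        rw [this]
        exact Submodule.neg_mem _ u.2
      have hv1 := (mem_L_iff_ord D hv).mp v.2
      have hv2 := (mem_L_iff_ord D (mul_ne_zero hx0 hv)).mp hxv
      rw [mem_L_iff_ord _ hv]
      intro P
      have e1 := hv1 P
      have e2 := hv2 P
      rw [ord_mul P hx0 hv] at e2
      have e3 := hordx P
      have e4 : (0 : ℤ) ≤ F P := hF0 P
      simp only [Finsupp.coe_sub, Pi.sub_apply]
      by_cases hFP : 1 ≤ F P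
      · have e5 : ¬ (1 ≤ F P + P.ord x) := fun h =>
          bpf hK hd1 hg F hF h1 hx hxk P hFP h
        omega
      · omega
  let ψ : LinearMap.ker φ →ₗ[k] L (D - F) :=
    { toFun := fun p => ⟨((p : L D × L D).2 : K), hker p⟩
      map_add' := fun p q => rfl
      map_smul' := fun c p => rfl }
  have hψ : Function.Injective ψ := by
    rw [injective_iff_map_eq_zero]
    rintro ⟨⟨u, v⟩, huv⟩ h0
    have huv' : (u : K) + x * (v : K) = 0 := congrArg Subtype.val (LinearMap.mem_ker.mp huv)
    have hv : (v : K) = 0 := congrArg Subtype.val h0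
    have hu : (u : K) = 0 := by rw [hv, mul_zero, add_zero] at huv'; exact huv'
    apply Subtype.ext
    exact Prod.ext (Subtype.ext hu) (Subtype.ext hv)
  haveI := finiteDimensional_L hK D
  haveI := finiteDimensional_L hK (D + F)
  haveI := finiteDimensional_L hK (D - F)
  have hrn := LinearMap.finrank_range_add_finrank_ker φ
  have hr := Submodule.finrank_le (LinearMap.range φ)
  have hk := LinearMap.finrank_le_finrank_of_injective hψ
  rw [Module.finrank_prod] at hrn
  unfold ell
  omega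

end Pencil

/-- on a hyperelliptic function field, a special divisor attaining Clifford's bound is a multiple
of the (normalized) `g¹₂` -/
theorem sub_nsmul_mem_prinDivs_of_normalized (hK : IsFunctionField k K)
    (hd1 : ∀ P : Place k K, P.deg = 1) (hg : 0 < genus k K)
    (C : Divisor k K) (hC : IsCanonical k K C)
    (hCl : ∀ D : Divisor k K, 0 < ell D → 0 < ell (C - D) → 2 * (ell D : ℤ) ≤ D.deg + 2)
    (F : Divisor k K) (hF : F.deg = 2) {x : K}
    (h1 : (1 : K) ∈ L F) (hx : x ∈ L F) (hxk : x ∉ Set.range (algebraMap k K)) :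
    ∀ (r : ℕ) (D : Divisor k K), ell D = r + 1 → D.deg = 2 * r → 0 < ell (C - D) →
      D - r • F ∈ prinDivs k K := by
  have hF0 : 0 ≤ F := (one_mem_L_iff F).mp h1
  intro r
  induction r with
  | zero =>
    intro D hl hd _
    rw [zero_smul, sub_zero]
    exact mem_prinDivs_of_ell_pos hK D (by omega) (by rw [hd]; norm_num)
  | succ r ih =>
    intro D hl hd hs
    have hRR := riemann_roch hK C hC D
    have hDF : D ≤ D + F := le_add_of_nonneg_right hF0
    have hlDF : 0 < ell (D + F) := lt_of_lt_of_le (by omega) (ell_mono hK hDF)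
    have hup : ell (D + F) ≤ r + 3 := by
      by_cases hsp : 0 < ell (C - (D + F))
      · have := hCl (D + F) hlDF hsp
        rw [deg_add, hd, hF] at this
        push_cast at this
        omega
      · have hRR2 := riemann_roch hK C hC (D + F)
        have h0 : ell (C - (D + F)) = 0 := by omega
        rw [h0, deg_add, hd, hF] at hRR2
        rw [hl, hd] at hRR
        push_cast at hRR hRR2
        omega
    have hpen := pencil hK hd1 hg F hF h1 hx hxk D
    have hlow : r + 1 ≤ ell (D - F) := by omega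
    have hs' : 0 < ell (C - (D - F)) := by
      refine lt_of_lt_of_le hs (ell_mono hK ?_)
      have : C - (D - F) = C - D + F := by abel
      rw [this]
      exact le_add_of_nonneg_right hF0
    have hcl := hCl (D - F) (by omega) hs'
    have hdDF : (D - F).deg = 2 * r := by
      rw [deg_sub, hd, hF]; push_cast; ring
    rw [hdDF] at hcl
    have hlDF' : ell (D - F) = r + 1 := by omega
    have := ih (D - F) hlDF' hdDF hs'
    have e : D - F - r • F = D - (r + 1) • F := by
      rw [succ_nsmul]; abel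
    rw [e] at this
    exact this

/-- the same for an arbitrary `g¹₂` -/
theorem sub_nsmul_mem_prinDivs (hK : IsFunctionField k K)
    (hd1 : ∀ P : Place k K, P.deg = 1) (hg : 0 < genus k K)
    (C : Divisor k K) (hC : IsCanonical k K C)
    (hCl : ∀ D : Divisor k K, 0 < ell D → 0 < ell (C - D) → 2 * (ell D : ℤ) ≤ D.deg + 2)
    (F : Divisor k K) (hF : F.deg = 2) (hlF : 2 ≤ ell F)
    (r : ℕ) (D : Divisor k K) (hl : ell D = r + 1) (hd : D.deg = 2 * r) (hs : 0 < ell (C - D)) :
    D - r • F ∈ prinDivs k K := by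
  obtain ⟨f₁, f₂, hf₁, hf₂, hf₁0, hnk⟩ := exists_pair_of_two_le_ell hK F hlF
  have h1 : (1 : K) ∈ L (F + FunFld.div k f₁) := by
    rw [← mul_mem_L_iff hK F f₁ 1 hf₁0, mul_one]
    exact hf₁
  have hx : f₁⁻¹ * f₂ ∈ L (F + FunFld.div k f₁) := by
    rw [← mul_mem_L_iff hK F f₁ _ hf₁0, mul_inv_cancel_left₀ hf₁0]
    exact hf₂
  have hF' : (F + FunFld.div k f₁).deg = 2 := by rw [deg_add, deg_div hK, hF, add_zero]
  have key := sub_nsmul_mem_prinDivs_of_normalized hK hd1 hg C hC hCl _ hF' h1 hx hnk r D hl hd hs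
  have hdiv : FunFld.div k f₁ ∈ prinDivs k K := (mem_prinDivs_iff hK _).mpr ⟨f₁, hf₁0, rfl⟩
  have := (prinDivs k K).add_mem key ((prinDivs k K).nsmul_mem hdiv r)
  have e : D - r • (F + FunFld.div k f₁) + r • FunFld.div k f₁ = D - r • F := by
    rw [smul_add]; abel
  rw [e] at this
  exact this

/-- **the equality case of Clifford's theorem** -/
theorem clifford_eq [Infinite k] (hK : IsFunctionField k K) (hd1 : ∀ P : Place k K, P.deg = 1)
    (C : Divisor k K) (hC : IsCanonical k K C)
    (hCl : ∀ D : Divisor k K, 0 < ell D → 0 < ell (C - D) → 2 * (ell D : ℤ) ≤ D.deg + 2)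
    (D : Divisor k K) (h1 : 0 < ell D) (h2 : 0 < ell (C - D))
    (heq : 2 * (ell D : ℤ) = D.deg + 2)
    (hD0 : D ∉ prinDivs k K) (hDC : C - D ∉ prinDivs k K) :
    ∃ F : Divisor k K, F.deg = 2 ∧ 2 ≤ ell F ∧ D - (ell D - 1) • F ∈ prinDivs k K := by
  have hdeg0 : 0 ≤ D.deg := by
    by_contra hneg
    have := L_eq_bot_of_deg_neg hK D (by omega)
    exact L_ne_bot_of_ell_pos h1 this
  have hdegC0 : 0 ≤ (C - D).deg := by
    by_contra hneg
    have := L_eq_bot_of_deg_neg hK (C - D) (by omega)
    exact L_ne_bot_of_ell_pos h2 this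
  have hpos : 0 < D.deg := by
    rcases hdeg0.lt_or_eq with h | h
    · exact h
    · exact absurd (mem_prinDivs_of_ell_pos hK D h1 h.symm) hD0
  have hpos' : 0 < (C - D).deg := by
    rcases hdegC0.lt_or_eq with h | h
    · exact h
    · exact absurd (mem_prinDivs_of_ell_pos hK (C - D) h2 h.symm) hDC
  have hCdeg := (ell_canonical hK hC).2
  have hg : 0 < genus k K := by
    rw [deg_sub, hCdeg] at hpos'
    omega
  obtain ⟨F, hF, hlF⟩ := exists_g12 hK hd1 C hC hCl D.deg.toNat D
    (Int.toNat_of_nonneg hdeg0).symm h1 h2 heq hpos hpos'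
  refine ⟨F, hF, hlF, ?_⟩
  have hl : ell D = (ell D - 1) + 1 := by omega
  have hd : D.deg = 2 * ((ell D - 1 : ℕ) : ℤ) := by
    have : ((ell D - 1 : ℕ) : ℤ) = (ell D : ℤ) - 1 := by
      rw [Nat.cast_sub (by omega)]; norm_num
    rw [this]; omega
  exact sub_nsmul_mem_prinDivs hK hd1 hg C hC hCl F hF hlF (ell D - 1) D hl hd h2

end Groth.Agent.Helper4.SN591
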