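import Mathlib
import Groth.Agent.Helper4.SN591
import Groth.Agent.Helper4.SN589
import Groth.Agent.Helper4.SN575

/-!
# S11337: the equality case of Clifford's theorem on a curve
-/

set_option autoImplicit false
set_option linter.style.haveILetI false
set_option linter.unusedSectionVars false
universe u
open CategoryTheory CategoryTheory.Limits AlgebraicGeometry TopologicalSpace Opposite FunFld

namespace Groth.Agent.Helper4.SN592

open Groth.Agent.Helper4.SN550 Groth.Agent.Helper4.SN Groth.Agent.Helper1.Dev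

attribute [local instance] Curv2.stalkAlgebra Curv2.resAlgebra

section General

variable {k : Type u} [Field k] {X : Scheme.{u}} [X.Over (Spec (CommRingCat.of k))]
  [IsIntegral X] (pd : PlaceData k X)

include pd in
/-- tensor powers multiply the divisor -/
theorem exists_isDiv_tensorPow {N : X.Modules} (hN : PicF.IsInvertible N)
    {t : N.presheaf.stalk (genericPoint X)} {F : Divisor k X.functionField}
    (hF : IsDiv pd N t F) (r : ℕ) :
    ∃ u : (CohB1.tensorPow N r).presheaf.stalk (genericPoint X),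
      IsDiv pd (CohB1.tensorPow N r) u (r • F) := by
  induction r with
  | zero =>
    rw [zero_smul]
    exact ⟨_, Groth.Agent.Helper4.SN553.isDiv_one pd⟩
  | succ r ih =>
    obtain ⟨u, hu⟩ := ih
    rw [succ_nsmul]
    exact ⟨_, Groth.Agent.Helper4.SN571.isDiv_tensor pd
      (Groth.Agent.Helper4.TensorInv.isInvertible_tensorPow hN r) hN hu hF⟩

end General

variable (k : Type u) [Field k] [IsAlgClosed k] (X : Scheme.{u}) [X.Over (Spec (CommRingCat.of k))]
  [IsIntegral X] [IsProper (X ↘ Spec (CommRingCat.of k))]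
  (hdim : topologicalKrullDim X = 1)
  (hreg : ∀ x : X, IsRegularLocalRing (X.presheaf.stalk x))

include hdim hreg in
/-- **S11337** -/
theorem main11337 (L M : X.Modules) (hL : PicF.IsInvertible L) (hM : ClSub.IsInverseOf L M)
    (hs : Nontrivial (Coh.HH X L 0))
    (hsp : Nontrivial (Coh.HH X (CohB1.tensorMod
      (Omega.sheaf (X ↘ (Spec (CommRingCat.of k)))) M) 0))
    (h0 : IsEmpty (L ≅ Coh.structureModule X))
    (hK : IsEmpty (L ≅ (Omega.sheaf (X ↘ (Spec (CommRingCat.of k))))))
    (heq : 2 * (Module.finrank k (Coh.HH X L 0) : ℤ) = Curv2.deg k X L 1 + 2) :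
    ∃ (N : X.Modules) (s : Fin 2 → LinSer.Sect X N), LinSer.IsLinSer k X N 2 1 s ∧
      Nonempty (L ≅ CohB1.tensorPow N (Module.finrank k (Coh.HH X L 0) - 1)) := by
  obtain ⟨e⟩ := hM
  haveI := Groth.Agent.Helper4.NApx82.isNoetherian_of_proper k X
  have hΩ := Groth.Agent.Helper4.SN568.isInvertible_omega k X hdim hreg
  have hMi : PicF.IsInvertible M :=
    Groth.Agent.Helper4.InvOfTensor.isInvertible_of_tensor_iso M L
      (Groth.Agent.Lead.Ref1B.braid M L ≪≫ e)
  obtain ⟨pd⟩ := Groth.Agent.Helper4.SN568.nonempty_placeData k X hdim hreg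
  obtain ⟨ω, C, hC1, hC2⟩ := Groth.Agent.Helper4.SN568.exists_canon k X hdim hreg pd
  obtain ⟨t, ht0, -⟩ := Groth.Agent.Helper4.SN555.exists_gen L hL
  obtain ⟨D, hD⟩ := exists_isDiv pd L hL t ht0
  obtain ⟨u, hu⟩ := Groth.Agent.Helper4.SN571.exists_isDiv_inverse pd hL hMi e hD
  have hΩM := Groth.Agent.Helper4.SN571.isDiv_tensor pd hΩ hMi hC1 hu
  have hΩMi := Groth.Agent.Helper4.TensorInv.isInvertible_tensorMod hΩ hMi
  have h0' := Groth.Agent.Helper4.SN559.finrank_h0_eq_ell pd _ hΩMi _ _ hΩM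
  have hcoh := Groth.Agent.Helper1.SerreFin.isCoh_of_isInvertible _ hΩMi
  haveI : Module.Finite k (Coh.HH X (CohB1.tensorMod
      (Omega.sheaf (X ↘ (Spec (CommRingCat.of k)))) M) 0) :=
    Groth.Agent.S0002.result k X _ hcoh 0
  have hpos : 0 < Module.finrank k (Coh.HH X (CohB1.tensorMod
      (Omega.sheaf (X ↘ (Spec (CommRingCat.of k)))) M) 0) := Module.finrank_pos
  rw [h0', ← sub_eq_add_neg] at hpos
  have hcohL := Groth.Agent.Helper1.SerreFin.isCoh_of_isInvertible _ hL
  haveI : Module.Finite k (Coh.HH X L 0) := Groth.Agent.S0002.result k X _ hcohL 0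
  have hl := Groth.Agent.Helper4.SN559.finrank_h0_eq_ell pd L hL t D hD
  have hdeg := Groth.Agent.Helper4.SN552.deg_eq_of_isDiv pd L hL t D hD
  have hlpos : 0 < ell D := by rw [← hl]; exact Module.finrank_pos
  have hd1 : ∀ P : Place k X.functionField, P.deg = 1 := fun P =>
    Groth.Agent.Helper5.FF.deg_eq_one_of_isAlgClosed pd.hK P
  have hCl : ∀ D' : Divisor k X.functionField, 0 < ell D' → 0 < ell (C - D') →
      2 * (ell D' : ℤ) ≤ D'.deg + 2 := by
    intro D' h1 h2
    obtain ⟨L', t', hL', hD'⟩ := Groth.Agent.Helper4.SN553.exists_isDiv_of_divisor pd D'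
    have a0 := Groth.Agent.Helper4.SN559.finrank_h0_eq_ell pd L' hL' t' D' hD'
    have a1 := Groth.Agent.Helper4.SN575.finrank_h1_eq_ell pd C hC2 L' hL' t' D' hD'
    have ad := Groth.Agent.Helper4.SN552.deg_eq_of_isDiv pd L' hL' t' D' hD'
    have n0 : Nontrivial (Coh.HH X L' 0) :=
      Module.nontrivial_of_finrank_pos (R := k) (by rw [a0]; exact h1)
    have n1 : Nontrivial (Coh.HH X L' 1) :=
      Module.nontrivial_of_finrank_pos (R := k) (by rw [a1]; exact h2)
    have := clifford_two_h0_le k hdim L' hL' n0 n1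
    rw [a0, ad] at this
    exact this
  have hD0 : D ∉ prinDivs k X.functionField := by
    intro hp
    have hp' : D - 0 ∈ prinDivs k X.functionField := by rwa [sub_zero]
    obtain ⟨α⟩ := Groth.Agent.Helper4.SN555.nonempty_iso_of_sub_mem pd hL
      Groth.Agent.Helper4.TensorInv.isInvertible_structureModule hD
      (Groth.Agent.Helper4.SN553.isDiv_one pd) hp'
    exact h0.false α
  have hDC : C - D ∉ prinDivs k X.functionField := by
    intro hp
    have hp' : D - C ∈ prinDivs k X.functionField := by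
      have := (prinDivs k X.functionField).neg_mem hp
      rwa [neg_sub] at this
    obtain ⟨α⟩ := Groth.Agent.Helper4.SN555.nonempty_iso_of_sub_mem pd hL hΩ hD hC1 hp'
    exact hK.false α
  haveI : Infinite k := IsAlgClosed.instInfinite
  have heq' : 2 * (ell D : ℤ) = D.deg + 2 := by rw [← hl, ← hdeg]; exact heq
  obtain ⟨F, hF, hlF, hprin⟩ := Groth.Agent.Helper4.SN591.clifford_eq pd.hK hd1 C hC2 hCl D
    hlpos hpos heq' hD0 hDC
  obtain ⟨N, tN, hN, hNF⟩ := Groth.Agent.Helper4.SN553.exists_isDiv_of_divisor pd F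
  have hNdeg := Groth.Agent.Helper4.SN552.deg_eq_of_isDiv pd N hN tN F hNF
  have hNl := Groth.Agent.Helper4.SN559.finrank_h0_eq_ell pd N hN tN F hNF
  obtain ⟨s, hsli⟩ := exists_linIndep_pair k N (by rw [hNl]; exact hlF)
  refine ⟨N, s, ⟨hN, by rw [hNdeg, hF]; norm_num, hsli⟩, ?_⟩
  obtain ⟨r, hr⟩ : ∃ r : ℕ, r = Module.finrank k (Coh.HH X L 0) - 1 := ⟨_, rfl⟩
  have hr' : ell D - 1 = r := by rw [hr, hl]
  obtain ⟨w, hw⟩ := exists_isDiv_tensorPow pd hN hNF r
  rw [← hr]
  rw [hr'] at hprin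
  exact Groth.Agent.Helper4.SN555.nonempty_iso_of_sub_mem pd hL
    (Groth.Agent.Helper4.TensorInv.isInvertible_tensorPow hN _) hD hw hprin

end Groth.Agent.Helper4.SN592
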