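import Mathlib
import Groth.Agent.Helper4.SN592
import Groth.Agent.Helper4.SN579
import Groth.Agent.Helper4.SN124

/-!
# S16967, S16968: linear (semi)stability of the canonical morphism, via Clifford's theorem
-/

set_option autoImplicit false
set_option linter.style.haveILetI false
set_option linter.unusedSectionVars false
universe u
open CategoryTheory CategoryTheory.Limits AlgebraicGeometry TopologicalSpace Opposite FunFld

namespace Groth.Agent.Helper4.SN593

open Groth.Agent.Helper4.SN550 Groth.Agent.Helper4.SN Groth.Agent.Helper1.Dev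

attribute [local instance] Curv2.stalkAlgebra Curv2.resAlgebra

variable (k : Type u) [Field k] [IsAlgClosed k] (X : Scheme.{u}) [X.Over (Spec (CommRingCat.of k))]
  [IsIntegral X] [IsProper (X ↘ Spec (CommRingCat.of k))]
  (hdim : topologicalKrullDim X = 1)
  (hreg : ∀ x : X, IsRegularLocalRing (X.presheaf.stalk x))

include hdim hreg in
theorem h0_unit : Module.finrank k (Coh.HH X (Coh.structureModule X) 0) = 1 := by
  obtain ⟨pd⟩ := Groth.Agent.Helper4.SN568.nonempty_placeData k X hdim hreg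
  exact Groth.Agent.Helper4.SN560.finrank_h0_structureModule pd

include k hdim hreg in
theorem not_isZero_unit : ¬ IsZero (Coh.structureModule X) := by
  intro hz
  have h1 := h0_unit k X hdim hreg
  rw [← finrank_hom_unit k (Coh.structureModule X)] at h1
  haveI : Subsingleton (Coh.structureModule X ⟶ Coh.structureModule X) :=
    ⟨fun a b => hz.eq_of_src a b⟩
  rw [Module.finrank_zero_of_subsingleton] at h1
  exact zero_ne_one h1

include hdim hreg in
/-- an invertible module with a monomorphism to `Ω` is special -/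
theorem nontrivial_of_mono (M M' : X.Modules) (hM : PicF.IsInvertible M)
    (e : CohB1.tensorMod M M' ≅ Coh.structureModule X)
    (ι : M ⟶ Omega.sheaf (X ↘ (Spec (CommRingCat.of k)))) [Mono ι] :
    Nontrivial (Coh.HH X (CohB1.tensorMod
      (Omega.sheaf (X ↘ (Spec (CommRingCat.of k)))) M') 0) := by
  have hM' : PicF.IsInvertible M' :=
    Groth.Agent.Helper4.InvOfTensor.isInvertible_of_tensor_iso M' M
      (Groth.Agent.Lead.Ref1B.braid M' M ≪≫ e)
  haveI := mono_map_tensorRightMod M' hM' ι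
  have e' : Coh.structureModule X ≅ (DCoh.tensorRightMod M').obj M := e.symm
  let s₀ : Coh.structureModule X ⟶ (DCoh.tensorRightMod M').obj
      (Omega.sheaf (X ↘ (Spec (CommRingCat.of k)))) :=
    e'.hom ≫ (DCoh.tensorRightMod M').map ι
  haveI : Mono s₀ := mono_comp _ _
  have hs₀ : s₀ ≠ 0 := by
    intro h0
    exact not_isZero_unit k X hdim hreg (IsZero.of_mono_eq_zero s₀ h0)
  obtain ⟨s, hs⟩ : ∃ s : Coh.structureModule X ⟶ CohB1.tensorMod
      (Omega.sheaf (X ↘ (Spec (CommRingCat.of k)))) M', s ≠ 0 := ⟨s₀, hs₀⟩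
  refine ⟨⟨evalH0 k _ s, 0, fun h => hs ?_⟩⟩
  apply evalH0_injective k
  rw [h, map_zero]

include hdim hreg in
/-- Clifford's inequality for invertible submodules of `Ω` -/
theorem clifford_of_mono (M : X.Modules) (hM : PicF.IsInvertible M)
    (ι : M ⟶ Omega.sheaf (X ↘ (Spec (CommRingCat.of k)))) [Mono ι]
    (h2 : 2 ≤ Module.finrank k (Coh.HH X M 0)) :
    2 * (Module.finrank k (Coh.HH X M 0) : ℤ) ≤ Curv2.deg k X M 1 + 2 := by
  obtain ⟨M', hM', -, ⟨e⟩⟩ := Groth.Agent.Lead.InvDual.exists_inverse M hM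
  have hsp := nontrivial_of_mono k X hdim hreg M M' hM e ι
  have hs : Nontrivial (Coh.HH X M 0) := Module.nontrivial_of_finrank_pos (R := k) (by omega)
  exact Groth.Agent.Helper4.SN575.main11336 k X hdim hreg M M' hM ⟨e⟩ hs hsp

include hdim hreg in
/-- **S16967** -/
theorem main16967 (hg : 3 ≤ Curv2.genus k X)
    (hnh : ¬ ∃ (N : X.Modules) (t : Fin 2 → LinSer.Sect X N), LinSer.IsLinSer k X N 2 1 t)
    (M : X.Modules) (hM : PicF.IsInvertible M)
    (ι : M ⟶ Omega.sheaf (X ↘ (Spec (CommRingCat.of k)))) [Mono ι] (hι : ¬ IsIso ι)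
    (h2 : 2 ≤ Module.finrank k (Coh.HH X M 0)) :
    Curv2.deg k X (Omega.sheaf (X ↘ (Spec (CommRingCat.of k)))) 1 *
        ((Module.finrank k (Coh.HH X M 0) : ℤ) - 1) <
      Curv2.deg k X M 1 * ((Module.finrank k
        (Coh.HH X (Omega.sheaf (X ↘ (Spec (CommRingCat.of k)))) 0) : ℤ) - 1) := by
  haveI := Groth.Agent.Helper4.NApx82.isNoetherian_of_proper k X
  have hΩ := Groth.Agent.Helper4.SN568.isInvertible_omega k X hdim hreg
  rw [Groth.Agent.Helper4.SN568.deg_omega k X hdim hreg,
    Groth.Agent.Helper4.SN568.h0_omega k X hdim hreg]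
  obtain ⟨M', hM', -, ⟨e⟩⟩ := Groth.Agent.Lead.InvDual.exists_inverse M hM
  have hsp := nontrivial_of_mono k X hdim hreg M M' hM e ι
  have hs : Nontrivial (Coh.HH X M 0) := Module.nontrivial_of_finrank_pos (R := k) (by omega)
  have hcl := Groth.Agent.Helper4.SN575.main11336 k X hdim hreg M M' hM ⟨e⟩ hs hsp
  have hne : 2 * (Module.finrank k (Coh.HH X M 0) : ℤ) ≠ Curv2.deg k X M 1 + 2 := by
    intro heq
    have h0 : IsEmpty (M ≅ Coh.structureModule X) := by
      refine ⟨fun α => ?_⟩
      have := finrank_HH_of_iso k α 0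
      rw [h0_unit k X hdim hreg] at this
      omega
    have hK : IsEmpty (M ≅ (Omega.sheaf (X ↘ (Spec (CommRingCat.of k))))) := by
      refine ⟨fun α => hι ?_⟩
      exact isIso_of_mono_of_rank_deg_eq k hdim ι
        (Groth.Agent.Helper4.QAffSec.isFinLocFreeOfRank_one_of_isInvertible M hM)
        (Groth.Agent.Helper4.QAffSec.isFinLocFreeOfRank_one_of_isInvertible _ hΩ)
        (deg_iso k α 1)
    obtain ⟨N, s, hN, -⟩ := Groth.Agent.Helper4.SN592.main11337 k X hdim hreg M M' hM ⟨e⟩ hs hsp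
      h0 hK heq
    exact hnh ⟨N, s, hN⟩
  have hlt : 2 * (Module.finrank k (Coh.HH X M 0) : ℤ) < Curv2.deg k X M 1 + 2 :=
    lt_of_le_of_ne hcl hne
  have hg' : (3 : ℤ) ≤ (Curv2.genus k X : ℤ) := by exact_mod_cast hg
  nlinarith

include hdim hreg in
/-- **S16968** -/
theorem main16968 (hg : 3 ≤ Curv2.genus k X)
    (N : X.Modules) (t : Fin 2 → LinSer.Sect X N) (hN : LinSer.IsLinSer k X N 2 1 t) :
    (∀ (M : X.Modules) (ι : M ⟶ Omega.sheaf (X ↘ (Spec (CommRingCat.of k)))),
        PicF.IsInvertible M → Mono ι → ¬ IsIso ι →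
        2 ≤ Module.finrank k (Coh.HH X M 0) →
        Curv2.deg k X (Omega.sheaf (X ↘ (Spec (CommRingCat.of k)))) 1 *
            ((Module.finrank k (Coh.HH X M 0) : ℤ) - 1) ≤
          Curv2.deg k X M 1 * ((Module.finrank k
            (Coh.HH X (Omega.sheaf (X ↘ (Spec (CommRingCat.of k)))) 0) : ℤ) - 1)) ∧
      ∃ ι : N ⟶ Omega.sheaf (X ↘ (Spec (CommRingCat.of k))), Mono ι ∧ ¬ IsIso ι ∧
        Curv2.deg k X (Omega.sheaf (X ↘ (Spec (CommRingCat.of k)))) 1 *
            ((Module.finrank k (Coh.HH X N 0) : ℤ) - 1) =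
          Curv2.deg k X N 1 * ((Module.finrank k
            (Coh.HH X (Omega.sheaf (X ↘ (Spec (CommRingCat.of k)))) 0) : ℤ) - 1) := by
  haveI := Groth.Agent.Helper4.NApx82.isNoetherian_of_proper k X
  have hΩ := Groth.Agent.Helper4.SN568.isInvertible_omega k X hdim hreg
  have hg' : (3 : ℤ) ≤ (Curv2.genus k X : ℤ) := by exact_mod_cast hg
  rw [Groth.Agent.Helper4.SN568.deg_omega k X hdim hreg,
    Groth.Agent.Helper4.SN568.h0_omega k X hdim hreg]
  refine ⟨?_, ?_⟩
  · intro M ι hM hmono _ h2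
    have hcl := clifford_of_mono k X hdim hreg M hM ι h2
    nlinarith
  · obtain ⟨hNi, hNd, hNli⟩ := hN
    have hNd' : Curv2.deg k X N 1 = 2 := by exact_mod_cast hNd
    have hc := Groth.Agent.Helper1.SerreFin.isCoh_of_isInvertible N hNi
    have hN2 : 2 ≤ Module.finrank k (Coh.HH X N 0) :=
      Groth.Agent.Helper4.SN589.le_h0_of_linIndep k N hc t hNli
    -- Riemann–Roch
    have hχN := chi_eq_h0_sub_h1 k hdim.le N
    have hχO := chi_eq_h0_sub_h1 k hdim.le (Coh.structureModule X)
    have hO0 := h0_unit k X hdim hreg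
    have hgen : Module.finrank k (Coh.HH X (Coh.structureModule X) 1) = Curv2.genus k X := rfl
    have hRR : (Module.finrank k (Coh.HH X N 0) : ℤ) - Module.finrank k (Coh.HH X N 1) =
        3 - Curv2.genus k X := by
      have hd := hNd'
      unfold Curv2.deg at hd
      unfold chi at hχN hχO
      rw [hχN, hχO, hO0, hgen] at hd
      push_cast at hd
      linarith
    have h1pos : 0 < Module.finrank k (Coh.HH X N 1) := by
      have : (0 : ℤ) < Module.finrank k (Coh.HH X N 1) := by
        have : (2 : ℤ) ≤ Module.finrank k (Coh.HH X N 0) := by exact_mod_cast hN2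
        linarith
      exact_mod_cast this
    have n0 : Nontrivial (Coh.HH X N 0) := Module.nontrivial_of_finrank_pos (R := k) (by omega)
    have n1 : Nontrivial (Coh.HH X N 1) := Module.nontrivial_of_finrank_pos (R := k) h1pos
    have hcl := clifford_two_h0_le k hdim N hNi n0 n1
    rw [hNd'] at hcl
    have hN0 : Module.finrank k (Coh.HH X N 0) = 2 := by
      have : (Module.finrank k (Coh.HH X N 0) : ℤ) ≤ 2 := by linarith
      have : Module.finrank k (Coh.HH X N 0) ≤ 2 := by exact_mod_cast this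
      omega
    -- the morphism
    obtain ⟨N', hN', ⟨ε'⟩, ⟨ε⟩⟩ := Groth.Agent.Lead.InvDual.exists_inverse N hNi
    have hsec := Groth.Agent.Helper4.SN579.h0_omega_tensor_eq_h1 k X hdim hreg N N' hNi hN' ε
    have nΩ : Nontrivial (Coh.HH X (CohB1.tensorMod
        (Omega.sheaf (X ↘ (Spec (CommRingCat.of k)))) N') 0) :=
      Module.nontrivial_of_finrank_pos (R := k) (by rw [hsec]; exact h1pos)
    obtain ⟨σ, hσ⟩ := exists_section_of_nontrivial_H0 _ nΩ
    obtain ⟨φ, hφ⟩ := untwist_ne_zero (Omega.sheaf (X ↘ (Spec (CommRingCat.of k)))) N' N _ ε' ε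
      σ hσ
    have hφ' : (Groth.Agent.Helper4.AmpleBasis.unitorL N).inv ≫ φ ≠ 0 := by
      intro h
      apply hφ
      rw [← cancel_epi (Groth.Agent.Helper4.AmpleBasis.unitorL N).inv, h, comp_zero]
    have hmono := mono_of_ne_zero_of_invertible hNi 1
      (Groth.Agent.Helper4.QAffSec.isFinLocFreeOfRank_one_of_isInvertible _ hΩ) _ hφ'
    refine ⟨_, hmono, ?_, ?_⟩
    · intro hiso
      have := deg_iso k (asIso ((Groth.Agent.Helper4.AmpleBasis.unitorL N).inv ≫ φ)) 1
      rw [hNd', Groth.Agent.Helper4.SN568.deg_omega k X hdim hreg] at this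
      omega
    · rw [hN0, hNd']
      push_cast
      ring

end Groth.Agent.Helper4.SN593
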