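import Mathlib
import Groth.Agent.Helper4.SN593

/-!
# S15227, S15228: secants of the curve embedded by `K ⊗ N`, via Riemann–Roch
-/

set_option autoImplicit false
set_option linter.style.haveILetI false
set_option linter.unusedSectionVars false
universe u
open CategoryTheory CategoryTheory.Limits AlgebraicGeometry TopologicalSpace Opposite FunFld

namespace Groth.Agent.Helper4.SN594

open Groth.Agent.Helper4.SN550 Groth.Agent.Helper4.SN Groth.Agent.Helper1.Dev
open Groth.Agent.Helper5.FF hiding degHom degHom_apply deg_add deg_sub deg_zero deg_single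

attribute [local instance] Curv2.stalkAlgebra Curv2.resAlgebra

section FF

variable {k K : Type*} [Field k] [Field K] [Algebra k K]

theorem ell_eq_zero_of_deg_neg (hK : IsFunctionField k K) (D : Divisor k K) (h : D.deg < 0) :
    ell D = 0 := by
  unfold ell
  rw [L_eq_bot_of_deg_neg hK D h, finrank_bot]

end FF

variable (k : Type u) [Field k] [IsAlgClosed k] (X : Scheme.{u}) [X.Over (Spec (CommRingCat.of k))]
  [IsIntegral X] [IsProper (X ↘ Spec (CommRingCat.of k))]
  (hdim : topologicalKrullDim X = 1)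
  (hreg : ∀ x : X, IsRegularLocalRing (X.presheaf.stalk x))

include k hdim hreg in
/-- the inverse of an invertible ideal has a nonzero section -/
theorem nontrivial_h0_inverse_of_mono (I I' : X.Modules) (hI : PicF.IsInvertible I)
    (e : CohB1.tensorMod I I' ≅ Coh.structureModule X)
    (ι : I ⟶ Coh.structureModule X) [Mono ι] : Nontrivial (Coh.HH X I' 0) := by
  have hI' : PicF.IsInvertible I' :=
    Groth.Agent.Helper4.InvOfTensor.isInvertible_of_tensor_iso I' I
      (Groth.Agent.Lead.Ref1B.braid I' I ≪≫ e)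
  haveI := mono_map_tensorRightMod I' hI' ι
  have e' : Coh.structureModule X ≅ (DCoh.tensorRightMod I').obj I := e.symm
  have u : (DCoh.tensorRightMod I').obj (Coh.structureModule X) ≅ I' :=
    Groth.Agent.Helper4.AmpleBasis.unitorL I'
  let s₀ : Coh.structureModule X ⟶ I' := (e'.hom ≫ (DCoh.tensorRightMod I').map ι) ≫ u.hom
  haveI : Mono (e'.hom ≫ (DCoh.tensorRightMod I').map ι) := mono_comp _ _
  haveI : Mono s₀ := mono_comp _ _
  have hs₀ : s₀ ≠ 0 := by
    intro h0
    exact Groth.Agent.Helper4.SN593.not_isZero_unit k X hdim hreg (IsZero.of_mono_eq_zero s₀ h0)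
  refine ⟨⟨evalH0 k _ s₀, 0, fun h => hs₀ ?_⟩⟩
  apply evalH0_injective k
  rw [h, map_zero]

include hdim hreg in
/-- **S15227** (holds on every curve) -/
theorem main15227 (K : X.Modules) (eK : K ≅ Omega.sheaf (X ↘ Spec (CommRingCat.of k)))
    (g : ℕ) (hg3 : 3 ≤ g) (hgen : Curv2.genus k X = g)
    (N : X.Modules) (hN : PicF.IsInvertible N) (hdN : Curv2.deg k X N 1 = (g : ℤ) - 1)
    (h0 : Module.finrank k (Coh.HH X N 0) = 0) :
    ¬ ∃ (I : X.Modules) (ι : I ⟶ Coh.structureModule X),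
        PicF.IsInvertible I ∧ Mono ι ∧ Curv2.deg k X I 1 = -((g : ℤ) - 1) ∧
        Module.finrank k (Coh.HH X (CohB1.tensorMod I (CohB1.tensorMod K N)) 0) + (g - 2) =
          Module.finrank k (Coh.HH X (CohB1.tensorMod K N) 0) := by
  rintro ⟨I, ι, hI, hmono, hdI, heq⟩
  haveI := Groth.Agent.Helper4.NApx82.isNoetherian_of_proper k X
  have hΩ := Groth.Agent.Helper4.SN568.isInvertible_omega k X hdim hreg
  obtain ⟨pd⟩ := Groth.Agent.Helper4.SN568.nonempty_placeData k X hdim hreg
  obtain ⟨ω, C, hC1, hC2⟩ := Groth.Agent.Helper4.SN568.exists_canon k X hdim hreg pd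
  have hK : PicF.IsInvertible K := Groth.Agent.Helper4.AmpleIso.isInvertible_of_iso eK.symm hΩ
  have hKC := hC1.of_iso pd eK.symm
  obtain ⟨tN, htN0, -⟩ := Groth.Agent.Helper4.SN555.exists_gen N hN
  obtain ⟨B, hB⟩ := exists_isDiv pd N hN tN htN0
  obtain ⟨tI, htI0, -⟩ := Groth.Agent.Helper4.SN555.exists_gen I hI
  obtain ⟨A, hA⟩ := exists_isDiv pd I hI tI htI0
  have hKN := Groth.Agent.Helper4.TensorInv.isInvertible_tensorMod hK hN
  have hKNd := Groth.Agent.Helper4.SN571.isDiv_tensor pd hK hN hKC hB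
  have hT := Groth.Agent.Helper4.TensorInv.isInvertible_tensorMod hI hKN
  have hTd := Groth.Agent.Helper4.SN571.isDiv_tensor pd hI hKN hA hKNd
  have hBdeg : B.deg = (g : ℤ) - 1 := by
    rw [← Groth.Agent.Helper4.SN552.deg_eq_of_isDiv pd N hN tN B hB]; exact hdN
  have hAdeg : A.deg = -((g : ℤ) - 1) := by
    rw [← Groth.Agent.Helper4.SN552.deg_eq_of_isDiv pd I hI tI A hA]; exact hdI
  have hgen' : (genus k X.functionField : ℤ) = g := by
    rw [← Groth.Agent.Helper4.SN560.genus_eq pd, hgen]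
  have hCdeg : C.deg = 2 * (g : ℤ) - 2 := by
    rw [(ell_canonical pd.hK hC2).2, hgen']
  rw [Groth.Agent.Helper4.SN559.finrank_h0_eq_ell pd _ hT _ _ hTd,
    Groth.Agent.Helper4.SN559.finrank_h0_eq_ell pd _ hKN _ _ hKNd] at heq
  have hRR1 := riemann_roch pd.hK C hC2 (C + B)
  have hRR2 := riemann_roch pd.hK C hC2 (A + (C + B))
  have hz1 : ell (C - (C + B)) = 0 := by
    apply ell_eq_zero_of_deg_neg pd.hK
    rw [Groth.Agent.Helper4.SN552.deg_sub, Groth.Agent.Helper4.SN552.deg_add, hBdeg]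
    omega
  have hz2 : ell (C - (A + (C + B))) = 0 := by
    by_contra hne
    have hpos : 0 < ell (C - (A + (C + B))) := Nat.pos_of_ne_zero hne
    have hd0 : (C - (A + (C + B))).deg = 0 := by
      rw [Groth.Agent.Helper4.SN552.deg_sub, Groth.Agent.Helper4.SN552.deg_add,
        Groth.Agent.Helper4.SN552.deg_add, hAdeg, hBdeg]
      ring
    have hprin := Groth.Agent.Helper4.SN591.mem_prinDivs_of_ell_pos pd.hK _ hpos hd0
    -- `N` is an inverse of `I`
    obtain ⟨I', hI', -, ⟨e⟩⟩ := Groth.Agent.Lead.InvDual.exists_inverse I hI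
    obtain ⟨u, hu⟩ := Groth.Agent.Helper4.SN571.exists_isDiv_inverse pd hI hI' e hA
    have hprin' : -A - B ∈ prinDivs k X.functionField := by
      have : C - (A + (C + B)) = -A - B := by abel
      rwa [this] at hprin
    obtain ⟨α⟩ := Groth.Agent.Helper4.SN555.nonempty_iso_of_sub_mem pd hI' hN hu hB hprin'
    have hnt := nontrivial_h0_inverse_of_mono k X hdim hreg I I' hI e ι
    have hcoh := Groth.Agent.Helper1.SerreFin.isCoh_of_isInvertible _ hI'
    haveI : Module.Finite k (Coh.HH X I' 0) := Groth.Agent.S0002.result k X _ hcoh 0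
    have hpos' : 0 < Module.finrank k (Coh.HH X I' 0) := Module.finrank_pos
    rw [finrank_HH_of_iso k α 0, h0] at hpos'
    exact lt_irrefl _ hpos'
  rw [hz1, Groth.Agent.Helper4.SN552.deg_add, hCdeg, hBdeg, hgen'] at hRR1
  rw [hz2, Groth.Agent.Helper4.SN552.deg_add, Groth.Agent.Helper4.SN552.deg_add, hAdeg, hCdeg,
    hBdeg, hgen'] at hRR2
  push_cast at hRR1 hRR2
  omega

include k hdim hreg in
/-- morphisms from an invertible module `I'` to `O` form a space of dimension at most `h⁰` of an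
inverse of `I'` -/
theorem exists_smul_eq_of_h0_le_one (I' J : X.Modules) (hI' : PicF.IsInvertible I')
    (e : CohB1.tensorMod I' J ≅ Coh.structureModule X)
    (e₂ : CohB1.tensorMod J I' ≅ Coh.structureModule X)
    (hJ1 : Module.finrank k (Coh.HH X J 0) ≤ 1)
    (a b : I' ⟶ Coh.structureModule X) (ha : a ≠ 0) : ∃ c : k, b = c • a := by
  haveI := Groth.Agent.Helper4.NApx82.isNoetherian_of_proper k X
  have hJ : PicF.IsInvertible J :=
    Groth.Agent.Helper4.InvOfTensor.isInvertible_of_tensor_iso J I'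
      (Groth.Agent.Lead.Ref1B.braid J I' ≪≫ e)
  have hcO : Coh.IsCoh (Coh.structureModule X) :=
    Groth.Agent.Helper1.SerreFin.isCoh_of_isInvertible _
      Groth.Agent.Helper4.TensorInv.isInvertible_structureModule
  have hcJ := Groth.Agent.Helper1.SerreFin.isCoh_of_isInvertible J hJ
  have hcI' := Groth.Agent.Helper1.SerreFin.isCoh_of_isInvertible I' hI'
  haveI : Module.Finite k (Coh.structureModule X ⟶ J) := finite_hom k _ _ hcO hcJ
  haveI : Module.Finite k (I' ⟶ Coh.structureModule X) := finite_hom k _ _ hcI' hcO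
  haveI := faithful_tensorRightMod J I' e₂
  have e' : Coh.structureModule X ≅ (DCoh.tensorRightMod J).obj I' := e.symm
  have u : (DCoh.tensorRightMod J).obj (Coh.structureModule X) ≅ J :=
    Groth.Agent.Helper4.AmpleBasis.unitorL J
  let Φ : (I' ⟶ Coh.structureModule X) →ₗ[k] (Coh.structureModule X ⟶ J) :=
    { toFun := fun f => e'.hom ≫ (DCoh.tensorRightMod J).map f ≫ u.hom
      map_add' := fun f f' => by
        rw [Functor.map_add, Preadditive.add_comp, Preadditive.comp_add]
      map_smul' := fun c f => by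
        rw [tensorRightMod_map_smul, Linear.smul_comp, Linear.comp_smul]
        rfl }
  have hΦ : Function.Injective Φ := by
    intro f f' hff'
    have h1 : e'.hom ≫ (DCoh.tensorRightMod J).map f ≫ u.hom =
        e'.hom ≫ (DCoh.tensorRightMod J).map f' ≫ u.hom := hff'
    rw [cancel_epi, cancel_mono] at h1
    exact (DCoh.tensorRightMod J).map_injective h1
  have h1 := LinearMap.finrank_le_finrank_of_injective hΦ
  rw [finrank_hom_unit k J] at h1
  have h2 : Module.finrank k (I' ⟶ Coh.structureModule X) ≤ 1 := h1.trans hJ1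
  obtain ⟨v, hv⟩ := finrank_le_one_iff.mp h2
  obtain ⟨c₁, hc₁⟩ := hv a
  obtain ⟨c₂, hc₂⟩ := hv b
  have hc₁0 : c₁ ≠ 0 := by
    rintro rfl
    rw [zero_smul] at hc₁
    exact ha hc₁.symm
  refine ⟨c₂ * c₁⁻¹, ?_⟩
  rw [← hc₁, ← hc₂, smul_smul, mul_assoc, inv_mul_cancel₀ hc₁0, mul_one]

section FF2

variable {k K : Type*} [Field k] [Field K] [Algebra k K]

theorem ell_eq_one_of_mem_prinDivs (hK : IsFunctionField k K) (D : Divisor k K)
    (h : D ∈ prinDivs k K) : ell D = 1 := by
  obtain ⟨x, hx0, rfl⟩ := (Groth.Agent.Helper6.FFZeta.mem_prinDivs_iff hK D).mp h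
  have := ell_add_div hK (0 : Divisor k K) hx0
  rw [zero_add] at this
  rw [this, ell_zero hK]

end FF2

include hdim hreg in
/-- **S15228** (holds on every curve of genus at least one) -/
theorem main15228 (K : X.Modules) (eK : K ≅ Omega.sheaf (X ↘ Spec (CommRingCat.of k)))
    (g : ℕ) (hg3 : 3 ≤ g) (hgen : Curv2.genus k X = g)
    (N : X.Modules) (hN : PicF.IsInvertible N) (hdN : Curv2.deg k X N 1 = (g : ℤ))
    (h0 : Module.finrank k (Coh.HH X N 0) ≤ 1) :
    (∃ (I : X.Modules) (ι : I ⟶ Coh.structureModule X),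
        PicF.IsInvertible I ∧ Mono ι ∧ Curv2.deg k X I 1 = -((g : ℤ)) ∧
        Module.finrank k (Coh.HH X (CohB1.tensorMod I (CohB1.tensorMod K N)) 0) + (g - 1) =
          Module.finrank k (Coh.HH X (CohB1.tensorMod K N) 0)) ∧
      ∀ (I I' : X.Modules) (ι : I ⟶ Coh.structureModule X) (ι' : I' ⟶ Coh.structureModule X),
        (PicF.IsInvertible I ∧ Mono ι ∧ Curv2.deg k X I 1 = -((g : ℤ)) ∧
        Module.finrank k (Coh.HH X (CohB1.tensorMod I (CohB1.tensorMod K N)) 0) + (g - 1) =
          Module.finrank k (Coh.HH X (CohB1.tensorMod K N) 0)) →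
        (PicF.IsInvertible I' ∧ Mono ι' ∧ Curv2.deg k X I' 1 = -((g : ℤ)) ∧
        Module.finrank k (Coh.HH X (CohB1.tensorMod I' (CohB1.tensorMod K N)) 0) + (g - 1) =
          Module.finrank k (Coh.HH X (CohB1.tensorMod K N) 0)) →
        ∃ φ : I' ≅ I, φ.hom ≫ ι = ι' := by
  haveI := Groth.Agent.Helper4.NApx82.isNoetherian_of_proper k X
  have hΩ := Groth.Agent.Helper4.SN568.isInvertible_omega k X hdim hreg
  obtain ⟨pd⟩ := Groth.Agent.Helper4.SN568.nonempty_placeData k X hdim hreg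
  obtain ⟨ω, C, hC1, hC2⟩ := Groth.Agent.Helper4.SN568.exists_canon k X hdim hreg pd
  have hK : PicF.IsInvertible K := Groth.Agent.Helper4.AmpleIso.isInvertible_of_iso eK.symm hΩ
  have hKC := hC1.of_iso pd eK.symm
  obtain ⟨tN, htN0, -⟩ := Groth.Agent.Helper4.SN555.exists_gen N hN
  obtain ⟨B, hB⟩ := exists_isDiv pd N hN tN htN0
  have hKN := Groth.Agent.Helper4.TensorInv.isInvertible_tensorMod hK hN
  have hKNd := Groth.Agent.Helper4.SN571.isDiv_tensor pd hK hN hKC hB
  have hBdeg : B.deg = (g : ℤ) := by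
    rw [← Groth.Agent.Helper4.SN552.deg_eq_of_isDiv pd N hN tN B hB]; exact hdN
  have hgen' : (genus k X.functionField : ℤ) = g := by
    rw [← Groth.Agent.Helper4.SN560.genus_eq pd, hgen]
  have hCdeg : C.deg = 2 * (g : ℤ) - 2 := by
    rw [(ell_canonical pd.hK hC2).2, hgen']
  have hRR1 := riemann_roch pd.hK C hC2 (C + B)
  have hz1 : ell (C - (C + B)) = 0 := by
    apply ell_eq_zero_of_deg_neg pd.hK
    rw [Groth.Agent.Helper4.SN552.deg_sub, Groth.Agent.Helper4.SN552.deg_add, hBdeg]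
    omega
  rw [hz1, Groth.Agent.Helper4.SN552.deg_add, hCdeg, hBdeg, hgen'] at hRR1
  have hKN0 := Groth.Agent.Helper4.SN559.finrank_h0_eq_ell pd _ hKN _ _ hKNd
  have hN0 := Groth.Agent.Helper4.SN559.finrank_h0_eq_ell pd N hN tN B hB
  -- the secant condition in terms of divisors
  have key : ∀ (I : X.Modules) (hI : PicF.IsInvertible I)
      (tI : I.presheaf.stalk (genericPoint X)) (A : Divisor k X.functionField)
      (hA : IsDiv pd I tI A), Curv2.deg k X I 1 = -((g : ℤ)) →
      (Module.finrank k (Coh.HH X (CohB1.tensorMod I (CohB1.tensorMod K N)) 0) + (g - 1) =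
          Module.finrank k (Coh.HH X (CohB1.tensorMod K N) 0) ↔
        -A - B ∈ prinDivs k X.functionField) := by
    intro I hI tI A hA hdI
    have hT := Groth.Agent.Helper4.TensorInv.isInvertible_tensorMod hI hKN
    have hTd := Groth.Agent.Helper4.SN571.isDiv_tensor pd hI hKN hA hKNd
    have hAdeg : A.deg = -((g : ℤ)) := by
      rw [← Groth.Agent.Helper4.SN552.deg_eq_of_isDiv pd I hI tI A hA]; exact hdI
    rw [Groth.Agent.Helper4.SN559.finrank_h0_eq_ell pd _ hT _ _ hTd, hKN0]
    have hRR2 := riemann_roch pd.hK C hC2 (A + (C + B))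
    have hsub : C - (A + (C + B)) = -A - B := by abel
    rw [hsub, Groth.Agent.Helper4.SN552.deg_add, Groth.Agent.Helper4.SN552.deg_add, hAdeg, hCdeg,
      hBdeg, hgen'] at hRR2
    have hd0 : (-A - B).deg = 0 := by
      rw [Groth.Agent.Helper4.SN552.deg_sub, Groth.Agent.Helper5.FF.deg_neg, hAdeg, hBdeg]
      ring
    constructor
    · intro heq
      apply Groth.Agent.Helper4.SN591.mem_prinDivs_of_ell_pos pd.hK _ _ hd0
      push_cast at hRR1 hRR2
      omega
    · intro hp
      have := ell_eq_one_of_mem_prinDivs pd.hK _ hp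
      rw [this] at hRR2
      push_cast at hRR1 hRR2
      omega
  refine ⟨?_, ?_⟩
  · -- existence
    have hRRB := riemann_roch pd.hK C hC2 B
    rw [hBdeg, hgen'] at hRRB
    have hNpos : 0 < Module.finrank k (Coh.HH X N 0) := by
      rw [hN0]
      have : (0 : ℤ) < ell B := by
        have : (0 : ℤ) ≤ ell (C - B) := Int.natCast_nonneg _
        omega
      exact_mod_cast this
    have nN : Nontrivial (Coh.HH X N 0) := Module.nontrivial_of_finrank_pos (R := k) hNpos
    obtain ⟨σ, hσ⟩ := exists_section_of_nontrivial_H0 N nN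
    obtain ⟨N', hN', ⟨ε'⟩, ⟨ε⟩⟩ := Groth.Agent.Lead.InvDual.exists_inverse N hN
    have hσ' : σ ≫ (Groth.Agent.Helper4.AmpleBasis.unitorL N).inv ≠ 0 := by
      intro h
      apply hσ
      rw [← cancel_mono (Groth.Agent.Helper4.AmpleBasis.unitorL N).inv, h, zero_comp]
    obtain ⟨φ, hφ⟩ := untwist_ne_zero (Coh.structureModule X) N N' _ ε ε' _ hσ'
    have hφ' : (Groth.Agent.Helper4.AmpleBasis.unitorL N').inv ≫ φ ≠ 0 := by
      intro h
      apply hφ
      rw [← cancel_epi (Groth.Agent.Helper4.AmpleBasis.unitorL N').inv, h, comp_zero]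
    have hmono := mono_of_ne_zero_of_invertible hN' 1
      (Groth.Agent.Helper4.QAffSec.isFinLocFreeOfRank_one_of_isInvertible _
        Groth.Agent.Helper4.TensorInv.isInvertible_structureModule) _ hφ'
    have hdN' : Curv2.deg k X N' 1 = -((g : ℤ)) := by
      rw [deg_inverse k hdim.le N N' hN hN' ε', hdN]
    obtain ⟨u, hu⟩ := Groth.Agent.Helper4.SN571.exists_isDiv_inverse pd hN hN' ε hB
    refine ⟨N', _, hN', hmono, hdN', ?_⟩
    rw [key N' hN' u (-B) hu hdN']
    have : - -B - B = 0 := by abel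
    rw [this]
    exact (prinDivs k X.functionField).zero_mem
  · -- uniqueness
    rintro I I' ι ι' ⟨hI, hmono, hdI, heq⟩ ⟨hI', hmono', hdI', heq'⟩
    obtain ⟨tI, htI0, -⟩ := Groth.Agent.Helper4.SN555.exists_gen I hI
    obtain ⟨A, hA⟩ := exists_isDiv pd I hI tI htI0
    obtain ⟨tI', htI'0, -⟩ := Groth.Agent.Helper4.SN555.exists_gen I' hI'
    obtain ⟨A', hA'⟩ := exists_isDiv pd I' hI' tI' htI'0
    have hp := (key I hI tI A hA hdI).mp heq
    have hp' := (key I' hI' tI' A' hA' hdI').mp heq'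
    have hAA' : A' - A ∈ prinDivs k X.functionField := by
      have := (prinDivs k X.functionField).sub_mem hp hp'
      have e : -A - B - (-A' - B) = A' - A := by abel
      rwa [e] at this
    obtain ⟨φ₀⟩ := Groth.Agent.Helper4.SN555.nonempty_iso_of_sub_mem pd hI' hI hA' hA hAA'
    -- an inverse of `I'` is isomorphic to `N`
    obtain ⟨J, hJ, ⟨e₂⟩, ⟨e⟩⟩ := Groth.Agent.Lead.InvDual.exists_inverse I' hI'
    obtain ⟨u, hu⟩ := Groth.Agent.Helper4.SN571.exists_isDiv_inverse pd hI' hJ e hA'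
    obtain ⟨α⟩ := Groth.Agent.Helper4.SN555.nonempty_iso_of_sub_mem pd hJ hN hu hB hp'
    have hJ1 : Module.finrank k (Coh.HH X J 0) ≤ 1 := by
      rw [finrank_HH_of_iso k α 0]; exact h0
    have hnz : ∀ (I₁ : X.Modules) (J₁ : X.Modules)
        (e₁ : CohB1.tensorMod I₁ J₁ ≅ Coh.structureModule X)
        (f : I₁ ⟶ Coh.structureModule X), Mono f → f ≠ 0 := by
      intro I₁ J₁ e₁ f hf h0'
      have hz : IsZero I₁ := IsZero.of_mono_eq_zero f h0'
      have hz' : IsZero ((DCoh.tensorRightMod J₁).obj I₁) :=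
        Functor.map_isZero (DCoh.tensorRightMod J₁) hz
      exact Groth.Agent.Helper4.SN593.not_isZero_unit k X hdim hreg (hz'.of_iso e₁.symm)
    have ha : φ₀.hom ≫ ι ≠ 0 := hnz I' J e _ (mono_comp _ _)
    obtain ⟨c, hc⟩ := exists_smul_eq_of_h0_le_one k X hdim hreg I' J hI' e e₂ hJ1
      (φ₀.hom ≫ ι) ι' ha
    have hc0 : c ≠ 0 := by
      rintro rfl
      rw [zero_smul] at hc
      exact hnz I' J e ι' hmono' hc
    refine ⟨⟨c • φ₀.hom, c⁻¹ • φ₀.inv, ?_, ?_⟩, ?_⟩
    · rw [Linear.smul_comp, Linear.comp_smul, smul_smul, mul_inv_cancel₀ hc0, one_smul,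
        φ₀.hom_inv_id]
    · rw [Linear.smul_comp, Linear.comp_smul, smul_smul, inv_mul_cancel₀ hc0, one_smul,
        φ₀.inv_hom_id]
    · show (c • φ₀.hom) ≫ ι = ι'
      rw [Linear.smul_comp, hc]

end Groth.Agent.Helper4.SN594
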