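import Mathlib
import Groth.Agent.Helper4.SN594
import Groth.Agent.Helper4.SN585
import Groth.Agent.Lead.HomDescB

/-!
# S19796: a non-degenerate, non-birational map of degree `2r + c` to `P^r` is a double cover
-/

set_option autoImplicit false
set_option linter.style.haveILetI false
set_option linter.unusedSectionVars false
universe u
open CategoryTheory CategoryTheory.Limits AlgebraicGeometry TopologicalSpace Opposite

namespace Groth.Agent.Helper4.SN595

open Groth.Agent.Helper4.SN Groth.Agent.Helper1.Dev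

section Nondeg

variable (k : Type u) [Field k] (r : ℕ)
  (X : Scheme.{u}) [X.Over (Spec (CommRingCat.of k))] [IsIntegral X]
  [IsProper (X ↘ (Spec (CommRingCat.of k)))]

/-- a non-degenerate map to `P^r` has at least `r + 1` independent sections of the pullback of
`O(1)` -/
theorem le_h0_of_nondeg
    (i : X ⟶ CohB1.ProjSpace r k)
    (hi : i ≫ CohB1.ProjSpace.toSpec r k = (X ↘ (Spec (CommRingCat.of k))))
    (hplane : ∀ s : LinSer.Sect (CohB1.ProjSpace r k) (Twist.twistProjSpace r k 1), s ≠ 0 →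
      OmegaSh.pullSect i (Twist.twistProjSpace r k 1) ⊤ s ≠ 0) :
    r + 1 ≤ Module.finrank k (Coh.HH X
      ((Scheme.Modules.pullback i).obj (Twist.twistProjSpace r k 1)) 0) := by
  haveI := Groth.Agent.Helper4.NApx82.isNoetherian_of_proper k X
  have hinvO1 : PicF.IsInvertible (Twist.twistProjSpace r k 1) :=
    Groth.Agent.Helper1.SerreVan.isInvertible_twist r k 1
  have hL : PicF.IsInvertible ((Scheme.Modules.pullback i).obj (Twist.twistProjSpace r k 1)) :=
    Groth.Agent.Helper4.PullSec.isInvertible_pullback i hinvO1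
  have hcL := Groth.Agent.Helper1.SerreFin.isCoh_of_isInvertible _ hL
  haveI : Module.Finite k (Coh.HH X
      ((Scheme.Modules.pullback i).obj (Twist.twistProjSpace r k 1)) 0) :=
    Groth.Agent.S0002.result k X _ hcL 0
  letI := sectModule k (Twist.twistProjSpace r k 1)
  letI := sectModule k ((Scheme.Modules.pullback i).obj (Twist.twistProjSpace r k 1))
  let φ : Coh.HH (CohB1.ProjSpace r k) (Twist.twistProjSpace r k 1) 0 →ₗ[k]
      Coh.HH X ((Scheme.Modules.pullback i).obj (Twist.twistProjSpace r k 1)) 0 :=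
    (h0LinEquiv k ((Scheme.Modules.pullback i).obj (Twist.twistProjSpace r k 1))).symm.toLinearMap ∘ₗ
      pullSectLin k i hi (Twist.twistProjSpace r k 1) ∘ₗ
      (h0LinEquiv k (Twist.twistProjSpace r k 1)).toLinearMap
  have hφ : Function.Injective φ := by
    rw [injective_iff_map_eq_zero]
    intro x hx
    have h1 : pullSectLin k i hi (Twist.twistProjSpace r k 1)
        (h0LinEquiv k (Twist.twistProjSpace r k 1) x) = 0 := by
      have := (h0LinEquiv k
        ((Scheme.Modules.pullback i).obj (Twist.twistProjSpace r k 1))).symm.injective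
        (hx.trans (map_zero _).symm)
      exact this
    by_contra hx0
    have h2 : h0LinEquiv k (Twist.twistProjSpace r k 1) x ≠ 0 := fun h =>
      hx0 ((h0LinEquiv k (Twist.twistProjSpace r k 1)).injective (h.trans (map_zero _).symm))
    exact hplane _ h2 h1
  have h1 : Module.finrank k (Coh.HH (CohB1.ProjSpace r k) (Twist.twistProjSpace r k 1) 0) =
      r + 1 := by
    obtain ⟨e⟩ := Groth.Agent.Helper1.ProjTop.nonempty_H0 r k 1
    have h := e.finrank_eq
    rw [Groth.Agent.Helper6.HomogRank.finrank_homogeneousSubmodule] at h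
    refine Eq.trans ?_ (h.trans ?_)
    · rfl
    · rw [Nat.add_comm 1 r, Nat.choose_succ_self_right]
  rw [← h1]
  exact LinearMap.finrank_le_finrank_of_injective hφ

end Nondeg

section Comp

variable {A B C : Scheme.{u}}

/-- non-degeneracy descends along a factorisation -/
theorem pullSect_ne_zero_of_comp (h₁ : A ⟶ B) (h₂ : B ⟶ C) (M : C.Modules)
    (s : Γ(M, ⊤)) (h : OmegaSh.pullSect (h₁ ≫ h₂) M ⊤ s ≠ 0) :
    OmegaSh.pullSect h₂ M ⊤ s ≠ 0 := by
  intro h0
  apply h
  have key := Groth.Agent.Lead.HomDesc.pullbackComp_unit h₁ h₂ M ⊤ s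
  have h0' : ((Scheme.Modules.pullbackPushforwardAdjunction h₂).unit.app M).app ⊤ s = 0 := h0
  have e1 := congrArg (fun z => (((Scheme.Modules.pullbackPushforwardAdjunction h₁).unit.app
    ((Scheme.Modules.pullback h₂).obj M)).app (h₂ ⁻¹ᵁ ⊤)) z) h0'
  have key2 := key.trans (e1.trans (map_zero _))
  have hinj : Function.Injective
      (((Scheme.Modules.pullbackComp h₁ h₂).inv.app M).app (h₁ ⁻¹ᵁ (h₂ ⁻¹ᵁ ⊤))) := by
    intro x y hxy
    have hid : ((Scheme.Modules.pullbackComp h₁ h₂).inv.app M ≫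
        (Scheme.Modules.pullbackComp h₁ h₂).hom.app M) = 𝟙 _ := by
      rw [← NatTrans.comp_app, Iso.inv_hom_id, NatTrans.id_app]
    have hx := congrArg (fun φ => (Scheme.Modules.Hom.app φ (h₁ ⁻¹ᵁ (h₂ ⁻¹ᵁ ⊤))) x) hid
    have hy := congrArg (fun φ => (Scheme.Modules.Hom.app φ (h₁ ⁻¹ᵁ (h₂ ⁻¹ᵁ ⊤))) y) hid
    have := congrArg (((Scheme.Modules.pullbackComp h₁ h₂).hom.app M).app (h₁ ⁻¹ᵁ (h₂ ⁻¹ᵁ ⊤))) hxy
    exact hx.symm.trans (this.trans hy)
  exact hinj (key2.trans (map_zero _).symm)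

end Comp

section Main

variable (k : Type u) [Field k] [IsAlgClosed k] (X : Scheme.{u}) [X.Over (Spec (CommRingCat.of k))]
  [IsIntegral X] [IsProper (X ↘ (Spec (CommRingCat.of k)))]

/-- **S19796** -/
theorem main19796 (r c : ℕ) (hc : c + 2 ≤ r)
    (Γ : Scheme.{u}) [Γ.Over (Spec (CommRingCat.of k))] [IsIntegral Γ]
    [IsProper (Γ ↘ (Spec (CommRingCat.of k)))]
    (hdimΓ : topologicalKrullDim Γ = 1) (hregΓ : ∀ y : Γ, IsRegularLocalRing (Γ.presheaf.stalk y))
    (π : X ⟶ Γ) (hπ : π ≫ (Γ ↘ Spec (CommRingCat.of k)) = X ↘ Spec (CommRingCat.of k))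
    [IsFinite π] [Flat π] (a : ℕ) (ha2 : 2 ≤ a) (ha : ∀ y : Γ, Scheme.Hom.finrank π y = a)
    (Y : Scheme.{u}) (j : Y ⟶ CohB1.ProjSpace r k) (η : Γ ⟶ Y)
    (hη : η ≫ j ≫ CohB1.ProjSpace.toSpec r k = Γ ↘ Spec (CommRingCat.of k))
    (hnd : ∀ s : LinSer.Sect (CohB1.ProjSpace r k) (Twist.twistProjSpace r k 1), s ≠ 0 →
      OmegaSh.pullSect (π ≫ η ≫ j) (Twist.twistProjSpace r k 1) ⊤ s ≠ 0)
    (hdeg : Curv2.deg k X ((Scheme.Modules.pullback (π ≫ η ≫ j)).obj
      (Twist.twistProjSpace r k 1)) 1 = 2 * r + c) :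
    a = 2 ∧ 2 * Curv2.genus k Γ ≤ (c : ℤ) := by
  haveI := Groth.Agent.Helper4.NApx82.isNoetherian_of_proper k Γ
  have hi' : (η ≫ j) ≫ CohB1.ProjSpace.toSpec r k = Γ ↘ Spec (CommRingCat.of k) := by
    rw [Category.assoc]; exact hη
  have hplane' : ∀ s : LinSer.Sect (CohB1.ProjSpace r k) (Twist.twistProjSpace r k 1), s ≠ 0 →
      OmegaSh.pullSect (η ≫ j) (Twist.twistProjSpace r k 1) ⊤ s ≠ 0 := fun s hs =>
    pullSect_ne_zero_of_comp π (η ≫ j) (Twist.twistProjSpace r k 1) s (hnd s hs)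
  have hO1 : PicF.IsInvertible (Twist.twistProjSpace r k 1) :=
    Groth.Agent.Helper1.SerreVan.isInvertible_twist r k 1
  obtain ⟨M, hMdef⟩ : ∃ M : Γ.Modules,
      M = (Scheme.Modules.pullback (η ≫ j)).obj (Twist.twistProjSpace r k 1) := ⟨_, rfl⟩
  have hM : PicF.IsInvertible M := by
    rw [hMdef]; exact Groth.Agent.Helper4.PullSec.isInvertible_pullback (η ≫ j) hO1
  have h0M : r + 1 ≤ Module.finrank k (Coh.HH Γ M 0) := by
    rw [hMdef]; exact le_h0_of_nondeg k r Γ (η ≫ j) hi' hplane'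
  have hdM : (r : ℤ) ≤ Curv2.deg k Γ M 1 := by
    rw [hMdef]; exact main12912 k r Γ hdimΓ (η ≫ j) hi' hplane'
  -- the degree of the pullback
  haveI : IsLocallyNoetherian Γ := inferInstance
  haveI : LocallyOfFinitePresentation π :=
    LocallyOfFinitePresentation.iff_locallyOfFiniteType.mpr inferInstance
  have hP : FlatMod.IsFinLocFreeOfRank a
      ((Scheme.Modules.pushforward π).obj (Coh.structureModule X)) :=
    (Groth.Agent.Helper1.FC.push_of_isCover π a
      ⟨⟨inferInstance, inferInstance, inferInstance⟩, ha⟩).2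
  have hdpull := Groth.Agent.Helper4.SN581.deg_pullback_of_rank k hdimΓ.le π hπ a hP M hM
  have hiso : (Scheme.Modules.pullback π).obj M ≅
      (Scheme.Modules.pullback (π ≫ η ≫ j)).obj (Twist.twistProjSpace r k 1) := by
    rw [hMdef]
    exact (Scheme.Modules.pullbackComp π (η ≫ j)).app (Twist.twistProjSpace r k 1)
  rw [deg_iso k hiso 1, hdeg] at hdpull
  -- `a = 2`
  have hc' : (c : ℤ) + 2 ≤ r := by exact_mod_cast hc
  have ha2' : (2 : ℤ) ≤ a := by exact_mod_cast ha2
  have haeq : a = 2 := by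
    by_contra hne
    have h3 : (3 : ℤ) ≤ a := by
      have : 3 ≤ a := by omega
      exact_mod_cast this
    nlinarith
  refine ⟨haeq, ?_⟩
  subst haeq
  -- the genus bound
  have hχM := chi_eq_h0_sub_h1 k hdimΓ.le M
  have hχO := chi_eq_h0_sub_h1 k hdimΓ.le (Coh.structureModule Γ)
  have hO0 := Groth.Agent.Helper4.SN593.h0_unit k Γ hdimΓ hregΓ
  have hgen : Module.finrank k (Coh.HH Γ (Coh.structureModule Γ) 1) = Curv2.genus k Γ := rfl
  have hRR : (Module.finrank k (Coh.HH Γ M 0) : ℤ) - Module.finrank k (Coh.HH Γ M 1) =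
      Curv2.deg k Γ M 1 + 1 - Curv2.genus k Γ := by
    unfold Curv2.deg
    unfold chi at hχM hχO
    rw [hχM, hχO, hO0, hgen]
    push_cast
    ring
  have h0M' : ((r : ℤ) + 1) ≤ Module.finrank k (Coh.HH Γ M 0) := by exact_mod_cast h0M
  by_cases h1 : Module.finrank k (Coh.HH Γ M 1) = 0
  · rw [h1] at hRR
    push_cast at hRR hdpull
    linarith
  · exfalso
    have n0 : Nontrivial (Coh.HH Γ M 0) :=
      Module.nontrivial_of_finrank_pos (R := k) (by omega)
    have n1 : Nontrivial (Coh.HH Γ M 1) :=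
      Module.nontrivial_of_finrank_pos (R := k) (Nat.pos_of_ne_zero h1)
    have hcl := clifford_two_h0_le k hdimΓ M hM n0 n1
    push_cast at hdpull
    linarith

end Main

end Groth.Agent.Helper4.SN595
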