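import Mathlib
import Groth.Agent.Helper4.FinLocFree6
import Groth.Agent.Helper4.FinLocFree7

/-!
# Direct images of finite locally free modules along finite flat morphisms; constancy of the rank
-/

set_option autoImplicit false
set_option linter.style.haveILetI false
set_option linter.unusedSectionVars false
universe u
open CategoryTheory CategoryTheory.Limits AlgebraicGeometry TopologicalSpace Opposite

namespace Groth.Agent.Helper4.SN596

open Scheme.Modules Groth.Agent.Helper4.StalkDict Groth.Agent.Helper4.FinLocFree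
  Groth.Agent.Helper4.FinLocFree2 Groth.Agent.Helper4.FinLocFree4 Groth.Agent.Helper4.FinLocFree5
  Groth.Agent.Helper4.FinLocFree6

variable {X S : Scheme.{u}}

set_option backward.isDefEq.respectTransparency false in
/-- sections of a direct image along a flat affine morphism of a module with flat stalks are flat -/
theorem flat_sections_push (f : X ⟶ S) [IsAffineHom f] [Flat f] (M : X.Modules)
    [M.IsQuasicoherent]
    (hM : ∀ x : X, Module.Flat (X.presheaf.stalk x) (M.presheaf.stalk x))
    (V : S.Opens) (hV : IsAffineOpen V) :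
    Module.Flat Γ(S, V) Γ((Scheme.Modules.pushforward f).obj M, V) := by
  have h1 := (affineHom_iff_app @Flat RingHom.Flat f).mp inferInstance V hV
  letI := (f.app V).hom.toAlgebra
  have h2 : Module.Flat Γ(S, V) Γ(X, f ⁻¹ᵁ V) := h1
  have h3 : Module.Flat Γ(X, f ⁻¹ᵁ V) Γ(M, f ⁻¹ᵁ V) :=
    flat_sections_of_flat_stalks M (hV.preimage f) (fun y _ => hM y)
  letI : Module Γ(S, V) Γ(M, f ⁻¹ᵁ V) := Module.compHom _ (f.app V).hom
  haveI : IsScalarTower Γ(S, V) Γ(X, f ⁻¹ᵁ V) Γ(M, f ⁻¹ᵁ V) :=
    IsScalarTower.of_algebraMap_smul (fun r m => rfl)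
  have h4 : Module.Flat Γ(S, V) Γ(M, f ⁻¹ᵁ V) := Module.Flat.trans Γ(S, V) Γ(X, f ⁻¹ᵁ V) _
  let e : Γ((Scheme.Modules.pushforward f).obj M, V) ≃ₗ[Γ(S, V)] Γ(M, f ⁻¹ᵁ V) :=
    { toFun := fun m => m
      invFun := fun m => m
      map_add' := fun _ _ => rfl
      map_smul' := fun _ _ => rfl
      left_inv := fun _ => rfl
      right_inv := fun _ => rfl }
  exact Module.Flat.of_linearEquiv e

set_option backward.isDefEq.respectTransparency false in
/-- the direct image of a finite locally free module along a finite flat morphism of finite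
presentation is finite locally free -/
theorem isFinLocFree_push (f : X ⟶ S) [IsFinite f] [Flat f]
    [LocallyOfFinitePresentation f] (M : X.Modules) (hM : FlatMod.IsFinLocFree M) :
    FlatMod.IsFinLocFree ((Scheme.Modules.pushforward f).obj M) := by
  let G := (Scheme.Modules.pushforward f).obj M
  haveI : M.IsQuasicoherent := isQuasicoherent_of_isFinLocFree _ hM
  haveI hq : G.IsQuasicoherent := QcohGlue.isQuasicoherent_pushforward f M
  have hfp : SheafOfModules.IsFinitePresentation (R := S.ringCatSheaf) G :=
    FPGlue.isFinitePresentation_pushforward_of_isFinite f _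
      (isFinitePresentation_of_isFinLocFree M hM)
  apply isFinLocFree_of_fp_of_free_stalks G hfp
  intro s
  obtain ⟨V, hV, hs⟩ := QcohLimits.exists_affine_nhd s
  have hflatV : Module.Flat Γ(S, V) Γ(G, V) :=
    flat_sections_push f M (fun x => by
      haveI := free_stalk_of_isFinLocFree M hM x
      infer_instance) V hV
  letI := sectionModStalk G s hs
  letI := S.presheaf.algebra_section_stalk ⟨s, hs⟩
  haveI := hV.isLocalization_stalk ⟨s, hs⟩
  haveI := isLocalizedModule_germ hV G s hs
  haveI : IsScalarTower Γ(S, V) (S.presheaf.stalk s) (G.presheaf.stalk s) :=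
    IsScalarTower.of_algebraMap_smul (fun r m => rfl)
  haveI : Module.Flat (S.presheaf.stalk s) (G.presheaf.stalk s) :=
    Module.Flat.of_isLocalizedModule (S.presheaf.stalk s)
      (hV.primeIdealOf ⟨s, hs⟩).asIdeal.primeCompl (germLin G s hs)
  haveI := finite_stalk G (isFiniteType_of_isFinitePresentation G hfp) s
  exact Module.free_of_flat_of_isLocalRing

/-- on a connected scheme a finite locally free module has constant rank -/
theorem exists_rank_of_isFinLocFree [ConnectedSpace X] (F : X.Modules) [F.IsQuasicoherent]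
    (hF : FlatMod.IsFinLocFree F) : ∃ r : ℕ, FlatMod.IsFinLocFreeOfRank r F := by
  classical
  let ρ : X → ℕ := fun x => Module.finrank (X.presheaf.stalk x) (F.presheaf.stalk x)
  have key : ∀ (V : X.Opens) (n : ℕ), Nonempty (F.restrict V.ι ≅ FlatMod.freeMod (↑V) n) →
      ∀ x ∈ V, ρ x = n := by
    intro V n hV x hx
    obtain ⟨b⟩ := nonempty_basis_stalk_of_isFreeAlong F hV x hx
    simp only [ρ]
    rw [Module.finrank_eq_card_basis b, Fintype.card_fin]
  have hlc : IsLocallyConstant ρ := by
    rw [IsLocallyConstant.iff_exists_open]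
    intro x
    obtain ⟨V, n, hx, hV⟩ := hF x
    refine ⟨V.1, V.2, hx, fun y hy => ?_⟩
    rw [key V n hV y hy, key V n hV x hx]
  obtain ⟨x₀⟩ : Nonempty X := inferInstance
  refine ⟨ρ x₀, fun x => ?_⟩
  obtain ⟨V, n, hx, hV⟩ := hF x
  refine ⟨V, hx, ?_⟩
  have : n = ρ x₀ := by
    rw [← key V n hV x hx]
    exact hlc.apply_eq_of_preconnectedSpace x x₀
  rw [← this]
  exact hV

end Groth.Agent.Helper4.SN596
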