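import Mathlib
import Groth.Agent.Helper4.SN596
import Groth.Agent.Helper4.SN593
import Groth.Agent.Helper4.SN578
import Groth.Agent.Helper4.SN585
import Groth.Agent.Helper4.SN102
import Groth.Agent.Helper4.SN72
import Groth.Agent.Helper4.PullTensor

/-!
# S16520: direct images of invertible modules along a double cover of the projective line by a
curve of genus one
-/

set_option autoImplicit false
set_option linter.style.haveILetI false
set_option linter.unusedSectionVars false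
universe u
open CategoryTheory CategoryTheory.Limits AlgebraicGeometry TopologicalSpace Opposite FunFld

namespace Groth.Agent.Helper4.SN597

open Groth.Agent.Helper4.SN550 Groth.Agent.Helper4.SN Groth.Agent.Helper1.Dev

attribute [local instance] Curv2.stalkAlgebra Curv2.resAlgebra

section GenusOne

variable (k : Type u) [Field k] [IsAlgClosed k] (X : Scheme.{u}) [X.Over (Spec (CommRingCat.of k))]
  [IsIntegral X] [IsProper (X ↘ Spec (CommRingCat.of k))]
  (hdim : topologicalKrullDim X = 1)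
  (hreg : ∀ x : X, IsRegularLocalRing (X.presheaf.stalk x))

include hdim hreg in
/-- on a curve of genus one, `h⁰ = deg` in positive degree -/
theorem h0_eq_deg_of_genus_one (hg : Curv2.genus k X = 1) (M : X.Modules)
    (hM : PicF.IsInvertible M) (hdeg : 0 < Curv2.deg k X M 1) :
    (Module.finrank k (Coh.HH X M 0) : ℤ) = Curv2.deg k X M 1 := by
  obtain ⟨pd⟩ := Groth.Agent.Helper4.SN568.nonempty_placeData k X hdim hreg
  obtain ⟨t, ht0, -⟩ := Groth.Agent.Helper4.SN555.exists_gen M hM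
  obtain ⟨D, hD⟩ := exists_isDiv pd M hM t ht0
  have hdegD := Groth.Agent.Helper4.SN552.deg_eq_of_isDiv pd M hM t D hD
  rw [Groth.Agent.Helper4.SN559.finrank_h0_eq_ell pd M hM t D hD, hdegD]
  obtain ⟨W, hW⟩ := Groth.Agent.Helper5.FF.exists_isCanonical pd.hK
  have hrr := Groth.Agent.Helper5.FF.riemann_roch pd.hK W hW D
  have hgen : FunFld.genus k X.functionField = 1 := by
    have := Groth.Agent.Helper4.SN560.genus_eq pd
    omega
  have hWdeg := (Groth.Agent.Helper5.FF.ell_canonical pd.hK hW).2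
  have hz : ell (W - D) = 0 := by
    unfold ell
    rw [Groth.Agent.Helper5.FF.L_eq_bot_of_deg_neg pd.hK (W - D) (by
      rw [Groth.Agent.Helper5.FF.deg_sub]
      rw [hdegD] at hdeg
      omega), finrank_bot]
  rw [hrr, hz, hgen]
  push_cast
  ring

include hdim hreg in
theorem h0_eq_zero_of_deg_neg (M : X.Modules)
    (hM : PicF.IsInvertible M) (hdeg : Curv2.deg k X M 1 < 0) :
    Module.finrank k (Coh.HH X M 0) = 0 := by
  obtain ⟨pd⟩ := Groth.Agent.Helper4.SN568.nonempty_placeData k X hdim hreg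
  exact Groth.Agent.Helper4.SN572.h0_eq_zero_of_deg_neg pd M hM hdeg

include hdim hreg in
theorem h0_eq_one_of_iso_unit (M : X.Modules) (e : M ≅ Coh.structureModule X) :
    Module.finrank k (Coh.HH X M 0) = 1 := by
  rw [(Groth.Agent.Helper1.ProjTop.HHlinEquiv k e 0).finrank_eq]
  exact Groth.Agent.Helper4.SN593.h0_unit k X hdim hreg

include hdim in
theorem h0_eq_zero_of_deg_zero_of_not_iso (M : X.Modules) (hM : PicF.IsInvertible M)
    (hdeg : Curv2.deg k X M 1 = 0) (hne : IsEmpty (M ≅ Coh.structureModule X)) :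
    Module.finrank k (Coh.HH X M 0) = 0 := by
  by_contra h
  obtain ⟨e⟩ := Groth.Agent.Helper4.SN578.nonempty_iso_unit_of_h0_pos k hdim M hM
    (Nat.pos_of_ne_zero h) hdeg.le
  exact hne.false e

end GenusOne

section Cover

variable (k : Type u) [Field k] [IsAlgClosed k] (E : Scheme.{u}) [E.Over (Spec (CommRingCat.of k))]
  [IsProper (E ↘ Spec (CommRingCat.of k))] [Smooth (E ↘ Spec (CommRingCat.of k))]
  [GeometricallyConnected (E ↘ Spec (CommRingCat.of k))]
  (hE : topologicalKrullDim E = 1) (hg : Curv2.genus k E = 1)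
  (π : E ⟶ CohB1.ProjSpace 1 k)
  (hπ : π ≫ CohB1.ProjSpace.toSpec 1 k = E ↘ Spec (CommRingCat.of k))
  [IsFinite π] [Flat π] (hrk : ∀ y : ↥(CohB1.ProjSpace 1 k), Scheme.Hom.finrank π y = 2)
  (L : E.Modules) (hL : PicF.IsInvertible L)

local notation "ℙ" => CohB1.ProjSpace 1 k
local notation "𝕆(" d ")" => Twist.twistProjSpace 1 k d

/-- the twisted module `L ⊗ π^* O(n)` -/
noncomputable def tw (n : ℤ) : E.Modules :=
  CohB1.tensorMod L ((Scheme.Modules.pullback π).obj 𝕆(n))

include hL in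
theorem isInvertible_tw' (n : ℤ) : PicF.IsInvertible (tw k E π L n) :=
  Groth.Agent.Helper4.TensorInv.isInvertible_tensorMod hL
    (Groth.Agent.Helper4.PullSec.isInvertible_pullback π (isInvertible_tw k n))

include hE hπ hrk hL in
theorem deg_tw' (n : ℤ) : Curv2.deg k E (tw k E π L n) 1 = Curv2.deg k E L 1 + 2 * n := by
  haveI : IsIntegral E := isIntegral_of_smooth_of_geometricallyConnected k E
  unfold tw
  rw [deg_tensor_inv_curve k hE L _ hL
    (Groth.Agent.Helper4.PullSec.isInvertible_pullback π (isInvertible_tw k n)),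
    Groth.Agent.Helper4.SN581.deg_pullback_of_rank k (dim_P1 k).le π hπ 2
      (Groth.Agent.Helper4.SN585.rank_push k π 2 hrk) _ (isInvertible_tw k n), deg_tw k n]
  push_cast
  ring

include hπ hL in
theorem h0_push_tw (n : ℤ) :
    Module.finrank k (Coh.HH ℙ (CohB1.tensorMod ((Scheme.Modules.pushforward π).obj L) 𝕆(n)) 0) =
      Module.finrank k (Coh.HH E (tw k E π L n) 0) := by
  have hE' : FlatMod.IsFinLocFree 𝕆(n) := FinLocFree7.isFinLocFree_of_rank _ (rank_tw k n)
  have hi := isInvertible_tw' k E π L hL n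
  haveI : Coh.IsQCoh (tw k E π L n) :=
    FinLocFree4.isQuasicoherent_of_isFinLocFree _ (FinLocFree7.isFinLocFree_of_rank _
      (Groth.Agent.Helper4.QAffSec.isFinLocFreeOfRank_one_of_isInvertible _ hi))
  obtain ⟨ε⟩ := Groth.Agent.Helper1.AffLin.nonempty_HH_linearEquiv π k hπ (tw k E π L n) 0
  rw [(Groth.Agent.Helper1.ProjTop.HHlinEquiv k (projIsoLF π L 𝕆(n) hE') 0).finrank_eq]
  exact ε.finrank_eq.symm

include hE hg hπ hrk hL in
theorem h0_tw_pos (d : ℤ) (hd : Curv2.deg k E L 1 = d) (n : ℤ) (h : 0 < d + 2 * n) :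
    (Module.finrank k (Coh.HH E (tw k E π L n) 0) : ℤ) = d + 2 * n := by
  haveI : IsIntegral E := isIntegral_of_smooth_of_geometricallyConnected k E
  have hreg : ∀ x : E, IsRegularLocalRing (E.presheaf.stalk x) := fun x => regular_of_smooth k x
  have hdeg := deg_tw' k E hE π hπ hrk L hL n
  rw [hd] at hdeg
  rw [h0_eq_deg_of_genus_one k E hE hreg hg _ (isInvertible_tw' k E π L hL n) (by rw [hdeg]; exact h),
    hdeg]

include hE hπ hrk hL in
theorem h0_tw_neg (d : ℤ) (hd : Curv2.deg k E L 1 = d) (n : ℤ) (h : d + 2 * n < 0) :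
    Module.finrank k (Coh.HH E (tw k E π L n) 0) = 0 := by
  haveI : IsIntegral E := isIntegral_of_smooth_of_geometricallyConnected k E
  have hreg : ∀ x : E, IsRegularLocalRing (E.presheaf.stalk x) := fun x => regular_of_smooth k x
  have hdeg := deg_tw' k E hE π hπ hrk L hL n
  rw [hd] at hdeg
  exact h0_eq_zero_of_deg_neg k E hE hreg _ (isInvertible_tw' k E π L hL n) (by rw [hdeg]; exact h)

/-- `π^* O(a) ⊗ π^* O(b) ≅ O_E` when `a + b = 0` -/
noncomputable def pullTwIso (a b : ℤ) (hab : 0 = a + b) :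
    CohB1.tensorMod ((Scheme.Modules.pullback π).obj 𝕆(a)) ((Scheme.Modules.pullback π).obj 𝕆(b)) ≅
      Coh.structureModule E :=
  (Groth.Agent.Helper4.PullTensor.pullTensorIso π (isInvertible_tw k a) (isInvertible_tw k b)).symm ≪≫
    (Scheme.Modules.pullback π).mapIso ((tw_mul_iso k a b 0 hab).some ≪≫
      (Groth.Agent.Helper1.TwistMul.nonempty_twist_zero_iso (CohB1.polyGrading 1 k)).some) ≪≫
    Groth.Agent.Helper4.PullUnit.pullbackUnitIso π

include hE in
theorem h0_tw_triv (e : ℤ) (ι : L ≅ (Scheme.Modules.pullback π).obj 𝕆(e)) :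
    Module.finrank k (Coh.HH E (tw k E π L (-e)) 0) = 1 := by
  haveI : IsIntegral E := isIntegral_of_smooth_of_geometricallyConnected k E
  have hreg : ∀ x : E, IsRegularLocalRing (E.presheaf.stalk x) := fun x => regular_of_smooth k x
  exact h0_eq_one_of_iso_unit k E hE hreg _
    (PicGrp.tensorModIso ι (Iso.refl _) ≪≫ pullTwIso k E π e (-e) (by ring))

include hE hπ hrk hL in
theorem h0_tw_nontriv (e : ℤ) (hd : Curv2.deg k E L 1 = 2 * e)
    (hne : IsEmpty (L ≅ (Scheme.Modules.pullback π).obj 𝕆(e))) :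
    Module.finrank k (Coh.HH E (tw k E π L (-e)) 0) = 0 := by
  haveI : IsIntegral E := isIntegral_of_smooth_of_geometricallyConnected k E
  have hdeg := deg_tw' k E hE π hπ hrk L hL (-e)
  rw [hd] at hdeg
  apply h0_eq_zero_of_deg_zero_of_not_iso k E hE _ (isInvertible_tw' k E π L hL (-e))
    (by rw [hdeg]; ring)
  refine ⟨fun ε => hne.false ?_⟩
  have ε' : CohB1.tensorMod L ((Scheme.Modules.pullback π).obj 𝕆(-e)) ≅ Coh.structureModule E := ε
  exact (SecTwist.unitorR L).symm ≪≫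
    PicGrp.tensorModIso (Iso.refl L) (pullTwIso k E π (-e) e (by ring)).symm ≪≫
    (Groth.Agent.Lead.Ref1B.assoc L _ _).symm ≪≫
    PicGrp.tensorModIso ε' (Iso.refl _) ≪≫ Groth.Agent.Lead.Ref1B.unitorL _

include hπ hL in
/-- the direct image splits -/
theorem exists_splitting : ∃ (r : ℕ) (a : Fin r → ℤ),
    Nonempty ((Scheme.Modules.pushforward π).obj L ≅ ∐ fun i : Fin r => 𝕆(a i)) := by
  haveI : IsLocallyNoetherian ℙ := by
    haveI := isNoetherian_P1 k
    infer_instance
  haveI : LocallyOfFinitePresentation π :=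
    LocallyOfFinitePresentation.iff_locallyOfFiniteType.mpr inferInstance
  have h1 := Groth.Agent.Helper4.SN596.isFinLocFree_push π L
    (FinLocFree7.isFinLocFree_of_rank _
      (Groth.Agent.Helper4.QAffSec.isFinLocFreeOfRank_one_of_isInvertible L hL))
  haveI : ((Scheme.Modules.pushforward π).obj L).IsQuasicoherent :=
    FinLocFree4.isQuasicoherent_of_isFinLocFree _ h1
  obtain ⟨r, hr⟩ := Groth.Agent.Helper4.SN596.exists_rank_of_isFinLocFree _ h1
  obtain ⟨a, ha⟩ := exists_splitting_P1 k r _ hr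
  exact ⟨r, a, ha⟩

include hπ hL in
theorem sum_eq_h0 {r : ℕ} (a : Fin r → ℤ)
    (e : (Scheme.Modules.pushforward π).obj L ≅ ∐ fun i : Fin r => 𝕆(a i)) (n : ℤ) :
    ∑ i, (a i + n + 1).toNat = Module.finrank k (Coh.HH E (tw k E π L n) 0) := by
  rw [← h0_push_tw k E π hπ L hL n, ← finrank_H0_sigma_tw k a n]
  exact ((Groth.Agent.Helper1.ProjTop.HHlinEquiv k (X := ℙ)
    (PicGrp.tensorModIso e (Iso.refl 𝕆(n))) 0).finrank_eq).symm

end Cover

section Numerics

theorem rank_two_of_sum {r : ℕ} (a : Fin r → ℤ) (d : ℤ) (F : ℤ → ℕ)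
    (hsum : ∀ n : ℤ, ∑ i, (a i + n + 1).toNat = F n)
    (hpos : ∀ n : ℤ, 0 < d + 2 * n → (F n : ℤ) = d + 2 * n) :
    r = 2 ∧ ∑ i, a i = d - 2 := by
  set N : ℤ := ∑ j, |a j| + |d| + 1 with hN
  have hb : ∀ i, |a i| ≤ ∑ j, |a j| := fun i =>
    Finset.single_le_sum (fun j _ => abs_nonneg (a j)) (Finset.mem_univ i)
  have hS : 0 ≤ ∑ j, |a j| := Finset.sum_nonneg (fun j _ => abs_nonneg (a j))
  have key : ∀ m : ℤ, N ≤ m → (∑ i, (a i + m + 1)) = d + 2 * m := by
    intro m hm
    have h1 := hsum m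
    have hd1 := neg_abs_le d
    have hd2 := abs_nonneg d
    have h2 := hpos m (by omega)
    have h3 : (∑ i, ((a i + m + 1).toNat : ℤ)) = d + 2 * m := by
      rw [← h2, ← h1]
      push_cast
      rfl
    rw [← h3]
    apply Finset.sum_congr rfl
    intro i _
    rw [Int.toNat_of_nonneg]
    have := hb i
    have := neg_abs_le (a i)
    omega
  have k1 := key N le_rfl
  have k2 := key (N + 1) (by omega)
  have hr : (r : ℤ) = 2 := by
    have h : (∑ i : Fin r, ((a i + (N + 1) + 1) - (a i + N + 1))) = 2 := by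
      rw [Finset.sum_sub_distrib, k1, k2]
      ring
    have h' : (∑ i : Fin r, ((a i + (N + 1) + 1) - (a i + N + 1))) = r := by
      have : ∀ i : Fin r, (a i + (N + 1) + 1) - (a i + N + 1) = 1 := fun i => by ring
      simp [this]
    rw [h'] at h
    exact h
  have hr' : r = 2 := by exact_mod_cast hr
  subst hr'
  refine ⟨rfl, ?_⟩
  rw [Fin.sum_univ_two] at k1 ⊢
  omega

end Numerics

section Main

variable (k : Type u) [Field k] [IsAlgClosed k] (E : Scheme.{u}) [E.Over (Spec (CommRingCat.of k))]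
  [IsProper (E ↘ Spec (CommRingCat.of k))] [Smooth (E ↘ Spec (CommRingCat.of k))]
  [GeometricallyConnected (E ↘ Spec (CommRingCat.of k))]
  (hE : topologicalKrullDim E = 1) (hg : Curv2.genus k E = 1)
  (π : E ⟶ CohB1.ProjSpace 1 k)
  (hπ : π ≫ CohB1.ProjSpace.toSpec 1 k = E ↘ Spec (CommRingCat.of k))
  [IsFinite π] [Flat π] (hrk : ∀ y : ↥(CohB1.ProjSpace 1 k), Scheme.Hom.finrank π y = 2)
  (L : E.Modules) (hL : PicF.IsInvertible L)

local notation "ℙ" => CohB1.ProjSpace 1 k
local notation "𝕆(" d ")" => Twist.twistProjSpace 1 k d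

theorem nonempty_iso_pair (a : Fin 2 → ℤ) (x y : ℤ)
    (h : (a 0 = x ∧ a 1 = y) ∨ (a 0 = y ∧ a 1 = x)) :
    Nonempty ((∐ fun j : Fin 2 => 𝕆(a j)) ≅ ∐ fun j : Fin 2 => 𝕆(![x, y] j)) := by
  rcases h with ⟨h0, h1⟩ | ⟨h0, h1⟩
  · have : a = ![x, y] := by
      funext j
      fin_cases j <;> simp [h0, h1]
    rw [this]
    exact ⟨Iso.refl _⟩
  · have : a = ![x, y] ∘ (Equiv.swap (0 : Fin 2) 1) := by
      funext j
      fin_cases j <;> simp [h0, h1]
    rw [this]
    exact ⟨Sigma.reindex (Equiv.swap (0 : Fin 2) 1) (fun j => 𝕆(![x, y] j))⟩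

include hE hg hπ hrk hL in
theorem main16520 (d : ℤ) (hd : Curv2.deg k E L 1 = d) :
    (∀ e : ℤ, d = 2 * e + 1 → Nonempty ((Scheme.Modules.pushforward π).obj L ≅
        ∐ fun j : Fin 2 => Twist.twistProjSpace 1 k (![e, e - 1] j))) ∧
    (∀ e : ℤ, d = 2 * e →
        Nonempty (L ≅ (Scheme.Modules.pullback π).obj (Twist.twistProjSpace 1 k e)) →
        Nonempty ((Scheme.Modules.pushforward π).obj L ≅
          ∐ fun j : Fin 2 => Twist.twistProjSpace 1 k (![e, e - 2] j))) ∧
    (∀ e : ℤ, d = 2 * e →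
        IsEmpty (L ≅ (Scheme.Modules.pullback π).obj (Twist.twistProjSpace 1 k e)) →
        Nonempty ((Scheme.Modules.pushforward π).obj L ≅
          ∐ fun j : Fin 2 => Twist.twistProjSpace 1 k (![e - 1, e - 1] j))) := by
  obtain ⟨r, a, ⟨ε⟩⟩ := exists_splitting k E π hπ L hL
  have hsum := sum_eq_h0 k E π hπ L hL a ε
  obtain ⟨hr, hsa⟩ := rank_two_of_sum a d
    (fun n => Module.finrank k (Coh.HH E (tw k E π L n) 0)) hsum
    (fun n h => h0_tw_pos k E hE hg π hπ hrk L hL d hd n h)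
  subst hr
  rw [Fin.sum_univ_two] at hsa
  have hs2 : ∀ n : ℤ, (a 0 + n + 1).toNat + (a 1 + n + 1).toNat =
      Module.finrank k (Coh.HH E (tw k E π L n) 0) := fun n => by
    rw [← hsum n, Fin.sum_univ_two]
  refine ⟨fun e he => ?_, fun e he ⟨ι⟩ => ?_, fun e he hne => ?_⟩
  · have h1 := hs2 (-e - 1)
    rw [h0_tw_neg k E hE π hπ hrk L hL d hd (-e - 1) (by omega)] at h1
    obtain ⟨φ⟩ := nonempty_iso_pair k a e (e - 1) (by omega)
    exact ⟨ε ≪≫ φ⟩
  · have h1 := hs2 (-e - 1)
    rw [h0_tw_neg k E hE π hπ hrk L hL d hd (-e - 1) (by omega)] at h1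
    have h2 := hs2 (-e)
    rw [h0_tw_triv k E hE π L e ι] at h2
    obtain ⟨φ⟩ := nonempty_iso_pair k a e (e - 2) (by omega)
    exact ⟨ε ≪≫ φ⟩
  · have h2 := hs2 (-e)
    rw [h0_tw_nontriv k E hE π hπ hrk L hL e (hd.trans he) hne] at h2
    obtain ⟨φ⟩ := nonempty_iso_pair k a (e - 1) (e - 1) (by omega)
    exact ⟨ε ≪≫ φ⟩

end Main

end Groth.Agent.Helper4.SN597
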