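import Mathlib

/-!
# Derivations vanishing on a subring with separable fraction field extension are torsion-valued
-/

set_option autoImplicit false
universe u
open Polynomial

namespace Groth.Agent.Helper4.SN598

theorem exists_ne_zero_smul_eq_zero {B A KB KA M : Type*} [CommRing B] [CommRing A] [IsDomain A]
    [Field KB] [Field KA] [Algebra B A] [Algebra B KB] [IsFractionRing B KB] [Algebra A KA]
    [IsFractionRing A KA] [Algebra KB KA] [Algebra.IsSeparable KB KA]
    (hcomp : ∀ b : B, algebraMap KB KA (algebraMap B KB b) = algebraMap A KA (algebraMap B A b))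
    [AddCommGroup M] [Module A M] [Module B M] [IsScalarTower B A M]
    (D : Derivation B A M) (a : A) : ∃ r : A, r ≠ 0 ∧ r • D a = 0 := by
  haveI : Nontrivial B := (algebraMap B KB).domain_nontrivial
  set a' : KA := algebraMap A KA a with ha'
  have hsep : (minpoly KB a').Separable := Algebra.IsSeparable.isSeparable KB a'
  set P := minpoly KB a' with hP
  obtain ⟨⟨b, hb⟩, hQ⟩ := IsLocalization.integerNormalization_map_to_map (nonZeroDivisors B) P
  set Q := IsLocalization.integerNormalization (nonZeroDivisors B) P with hQdef
  have hQ' : Q.map (algebraMap B KB) = C (algebraMap B KB b) * P := by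
    rw [hQ, ← Polynomial.smul_eq_C_mul]
    exact (algebraMap_smul KB b P).symm
  have hinj : Function.Injective (algebraMap A KA) := IsFractionRing.injective A KA
  have key : ∀ R : B[X], algebraMap A KA (aeval a R) = aeval a' (R.map (algebraMap B KB)) := by
    intro R
    rw [aeval_def, aeval_def, Polynomial.hom_eval₂, Polynomial.eval₂_map]
    congr 1
    ext b
    exact (hcomp b).symm
  have hb0 : algebraMap B KB b ≠ 0 := by
    intro h
    have := (IsFractionRing.injective B KB) (h.trans (map_zero _).symm)
    exact (nonZeroDivisors.ne_zero hb) this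
  have hQ0 : aeval a Q = 0 := by
    apply hinj
    rw [key, hQ', map_zero, map_mul, minpoly.aeval, mul_zero]
  refine ⟨aeval a (derivative Q), ?_, ?_⟩
  · intro h
    have h1 := congrArg (algebraMap A KA) h
    rw [key, map_zero, ← Polynomial.derivative_map, hQ', Polynomial.derivative_C_mul, map_mul,
      aeval_C] at h1
    rcases mul_eq_zero.mp h1 with h2 | h2
    · exact hb0 ((algebraMap KB KA).injective (h2.trans (map_zero _).symm))
    · exact hsep.aeval_derivative_ne_zero (minpoly.aeval KB a') h2
  · rw [← Derivation.map_aeval, hQ0, map_zero]

end Groth.Agent.Helper4.SN598
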