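import Mathlib
import Groth.Agent.Helper4.SN598
import Groth.Agent.Helper4.FinLocFree7
import Groth.Agent.Helper4.QAffSec
import Groth.Agent.Lead.OmegaSeqC
import Groth.Agent.Lead.OmegaUnivA

/-!
# The canonical map `f^* Ω_Y → Ω_X` is nonzero for a generically separable morphism of integral
schemes with invertible `Ω_X`
-/

set_option autoImplicit false
set_option linter.style.haveILetI false
set_option linter.unusedSectionVars false
universe u
open CategoryTheory CategoryTheory.Limits AlgebraicGeometry TopologicalSpace Opposite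

namespace Groth.Agent.Helper4.SN599

open Scheme.Modules OmegaSh Groth.Agent.Lead Groth.Agent.Helper4.FinLocFree
  Groth.Agent.Helper4.FinLocFree2

variable {X Y S : Scheme.{u}} [IsIntegral X] [IsIntegral Y] [IsAffine S]
  (p : X ⟶ S) (q : Y ⟶ S) (f : X ⟶ Y) [QuasiSeparated p] [QuasiSeparated q]
  (c : (Scheme.Modules.pullback f).obj (Omega.sheaf q) ⟶ Omega.sheaf p)
  (hc : IsDiffCompat f (dOmega q) (dOmega p) c)
  (hinv : PicF.IsInvertible (Omega.sheaf p))
  (e : f (genericPoint X) = genericPoint Y)

include hc hinv in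
set_option backward.isDefEq.respectTransparency false in
theorem c_ne_zero
    (hsep : letI := ((Y.presheaf.stalkSpecializes (specializes_of_eq e) ≫
        f.stalkMap (genericPoint X)).hom).toAlgebra
      Algebra.IsSeparable Y.functionField X.functionField) : c ≠ 0 := by
  intro h0
  letI algK : Algebra Y.functionField X.functionField :=
    ((Y.presheaf.stalkSpecializes (specializes_of_eq e) ≫ f.stalkMap (genericPoint X)).hom).toAlgebra
  haveI : Algebra.IsSeparable Y.functionField X.functionField := hsep
  obtain ⟨V, hV, hξV⟩ := QcohLimits.exists_affine_nhd (genericPoint Y)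
  have hrk := Groth.Agent.Helper4.QAffSec.isFinLocFreeOfRank_one_of_isInvertible _ hinv
  haveI : (Omega.sheaf p).IsQuasicoherent :=
    FinLocFree4.isQuasicoherent_of_isFinLocFree _ (FinLocFree7.isFinLocFree_of_rank _ hrk)
  obtain ⟨W, hξW, hW⟩ := hrk (genericPoint X)
  have hξW' : genericPoint X ∈ W ⊓ f ⁻¹ᵁ V := ⟨hξW, by
    change f (genericPoint X) ∈ V
    rw [e]; exact hξV⟩
  have hW' : IsFreeAlong (Omega.sheaf p) (W ⊓ f ⁻¹ᵁ V).ι 1 := IsFreeAlong.of_le inf_le_left hW
  obtain ⟨U, hU, hξU, hUW, ⟨bas⟩⟩ := exists_affine_basis_of_isFreeAlong _ hW' _ hξW'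
  have e' : U ≤ f ⁻¹ᵁ V := hUW.trans inf_le_right
  haveI : Nonempty U := ⟨⟨_, hξU⟩⟩
  haveI : Nonempty V := ⟨⟨_, hξV⟩⟩
  letI algBA : Algebra Γ(Y, V) Γ(X, U) := (f.appLE V U e').hom.toAlgebra
  haveI := functionField_isFractionRing_of_isAffineOpen X U hU
  haveI := functionField_isFractionRing_of_isAffineOpen Y V hV
  -- vanishing of `d` on the image of `B`
  have hvan : ∀ b : Γ(Y, V), (dOmega p).app U (f.appLE V U e' b) = 0 := by
    intro b
    rw [← OmegaSeqC.c_pbSec f (dOmega q) (dOmega p) c hc e' b, h0]
    rfl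
  have hcomp : ∀ b : Γ(Y, V), algebraMap Y.functionField X.functionField
      (algebraMap Γ(Y, V) Y.functionField b) =
      algebraMap Γ(X, U) X.functionField (algebraMap Γ(Y, V) Γ(X, U) b) := by
    intro b
    change (f.stalkMap (genericPoint X)).hom ((Y.presheaf.stalkSpecializes (specializes_of_eq e)).hom
      (Y.presheaf.germ V (genericPoint Y) hξV b)) =
      X.presheaf.germ U (genericPoint X) hξU (f.appLE V U e' b)
    have h1 : (Y.presheaf.stalkSpecializes (specializes_of_eq e)).hom
        (Y.presheaf.germ V (genericPoint Y) hξV b) =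
        Y.presheaf.germ V (f (genericPoint X)) (by rw [e]; exact hξV) b :=
      congr($(Y.presheaf.germ_stalkSpecializes hξV (specializes_of_eq e)) b)
    rw [h1]
    erw [Scheme.Hom.germ_stalkMap_apply]
    have h2 : f.appLE V U e' b = X.presheaf.map (homOfLE e').op (f.app V b) := rfl
    rw [h2]
    exact (X.presheaf.germ_res_apply (homOfLE e') (genericPoint X) hξU (f.app V b)).symm
  letI : Module Γ(Y, V) Γ(Omega.sheaf p, U) := Module.compHom _ (algebraMap Γ(Y, V) Γ(X, U))
  haveI : IsScalarTower Γ(Y, V) Γ(X, U) Γ(Omega.sheaf p, U) := ⟨fun a b m => by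
    change (a • b) • m = algebraMap Γ(Y, V) Γ(X, U) a • b • m
    rw [Algebra.smul_def, mul_smul]⟩
  let D' : Derivation Γ(Y, V) Γ(X, U) Γ(Omega.sheaf p, U) :=
    { toFun := fun s => (dOmega p).app U s
      map_add' := fun a b => map_add _ a b
      map_smul' := fun a b => by
        change (dOmega p).app U (a • b) = algebraMap Γ(Y, V) Γ(X, U) a • (dOmega p).app U b
        rw [Algebra.smul_def, Der.app_apply, (dOmega p).d_mul, ← Der.app_apply, ← Der.app_apply]
        have : (dOmega p).app U (algebraMap Γ(Y, V) Γ(X, U) a) = 0 := hvan a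
        rw [this, smul_zero, add_zero]
      map_one_eq_zero' := by
        change (dOmega p).app U 1 = 0
        rw [Der.app_apply, (dOmega p).d_one]
      leibniz' := fun a b => by
        change (dOmega p).app U (a * b) = a • (dOmega p).app U b + b • (dOmega p).app U a
        rw [Der.app_apply, (dOmega p).d_mul]
        rfl }
  have hzero : ∀ a : Γ(X, U), (dOmega p).app U a = 0 := by
    intro a
    obtain ⟨r, hr0, hr⟩ := Groth.Agent.Helper4.SN598.exists_ne_zero_smul_eq_zero
      (KB := Y.functionField) (KA := X.functionField) hcomp D' a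
    have hr' : r • (dOmega p).app U a = 0 := hr
    have h3 : bas.repr (r • (dOmega p).app U a) = 0 := by rw [hr', map_zero]
    rw [_root_.map_smul] at h3
    apply bas.repr.injective
    rw [map_zero]
    refine Finsupp.ext (fun i => ?_)
    have h4 := DFunLike.congr_fun h3 i
    simp only [Finsupp.smul_apply, smul_eq_mul, Finsupp.coe_zero, Pi.zero_apply, mul_eq_zero] at h4
    exact h4.resolve_left hr0
  have hspan := OmegaUnivA.span_dOmega p hU (isAffineOpen_top S) (le_top : U ≤ p ⁻¹ᵁ ⊤)
  have hb0 : bas 0 = 0 := by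
    have hmem : bas 0 ∈ Submodule.span Γ(X, U) (Set.range ((dOmega p).app U)) := by
      rw [hspan]; trivial
    have hle : Submodule.span Γ(X, U) (Set.range ((dOmega p).app U)) ≤ ⊥ := by
      rw [Submodule.span_le]
      rintro _ ⟨a, rfl⟩
      exact hzero a
    exact (Submodule.mem_bot _).mp (hle hmem)
  exact bas.ne_zero 0 hb0

end Groth.Agent.Helper4.SN599
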