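import Mathlib
import Groth.Agent.Helper4.SN599
import Groth.Agent.Helper4.SN85
import Groth.Agent.Helper4.SN568
import Groth.Agent.Helper4.SN576
import Groth.Agent.Helper4.SN104
import Groth.Agent.Helper4.SN39
import Groth.Agent.Helper4.SN40
import Groth.Agent.Helper3.QFResFin
import Groth.Agent.Lead.DerA
import Groth.Agent.Helper4.SN593

/-!
# S14513: a finite separable morphism of smooth proper curves of the same genus `≥ 2` is an
isomorphism (Hurwitz inequality)
-/

set_option autoImplicit false
set_option linter.style.haveILetI false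
set_option linter.unusedSectionVars false
universe u
open CategoryTheory CategoryTheory.Limits AlgebraicGeometry TopologicalSpace Opposite

namespace Groth.Agent.Helper4.SN600

open Groth.Agent.Helper4.SN Groth.Agent.Helper1.Dev OmegaSh Groth.Agent.Lead
open Groth.Agent.Helper4.StalkDict Groth.Agent.Helper4.StalkExact
open Groth.Agent.Helper4.GenLoc Groth.Agent.Helper1.PUP

section Deg1

variable (k : Type u) [Field k] {X Y : Scheme.{u}} [X.Over (Spec (CommRingCat.of k))]
  [Y.Over (Spec (CommRingCat.of k))] [IsIntegral X] [IsIntegral Y]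
  [IsProper (X ↘ (Spec (CommRingCat.of k)))] [IsProper (Y ↘ (Spec (CommRingCat.of k)))]

/-- a morphism of degree one between proper integral curves with the same `χ(O)` is an
isomorphism -/
theorem isIso_of_residueDegree_eq_one' (hX : topologicalKrullDim X = 1)
    (hY : topologicalKrullDim Y = 1)
    (hχ0 : Curv2.euler k X (Coh.structureModule X) = Curv2.euler k Y (Coh.structureModule Y))
    (φ : X ⟶ Y)
    (hφ : φ ≫ (Y ↘ (Spec (CommRingCat.of k))) = X ↘ (Spec (CommRingCat.of k)))
    (hξ : φ (genericPoint X) = genericPoint Y)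
    (hdeg : φ.residueDegree (genericPoint X) = 1) : IsIso φ := by
  haveI := Groth.Agent.Helper4.NApx82.isNoetherian_of_proper k X
  haveI := Groth.Agent.Helper4.NApx82.isNoetherian_of_proper k Y
  haveI : IsFinite φ := isFinite_of_nonconstant k hX hY φ hφ hξ
  have hcl : IsClosedMap φ.base := φ.isClosedMap
  have hOX : Coh.IsCoh (Coh.structureModule X) := Groth.Agent.Helper1.Dev.isCoh_structureModule X
  have hOY : Coh.IsCoh (Coh.structureModule Y) := Groth.Agent.Helper1.Dev.isCoh_structureModule _
  haveI : (Coh.structureModule X).IsQuasicoherent := hOX.1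
  have hP : Coh.IsCoh ((Scheme.Modules.pushforward φ).obj (Coh.structureModule X)) :=
    ⟨QcohGlue.isQuasicoherent_pushforward φ _,
      FinitePush.isFiniteType_pushforward_of_isFinite φ _ hOX.2⟩
  have hsurj : Function.Surjective φ := by
    rw [← Set.range_eq_univ]
    have hclr : IsClosed (Set.range φ) := hcl.isClosed_range
    rw [← hclr.closure_eq]
    apply Set.eq_univ_of_univ_subset
    rw [← closure_genericPoint (X := Y)]
    exact closure_mono (Set.singleton_subset_iff.mpr ⟨_, hξ⟩)
  haveI hmono : Mono (ClSub.unitToPush φ) := mono_unitToPush_of_surjective φ hsurj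
  have hS : IsLocalRing.maximalIdeal (X.presheaf.stalk (genericPoint X)) = ⊥ := by
    rw [← IsLocalRing.isField_iff_maximalIdeal_eq]
    exact isField_stalk_of_closure_mem_irreducibleComponents X _
      (by simp [irreducibleComponents_eq_singleton])
  have h2 := len_push_toNat φ hcl (genericPoint X)
    (fun x' hx' => eq_genericPoint_of_map_eq hX.le hY φ hcl x' (hx'.trans hξ)) hS
  rw [hdeg] at h2
  have hS2 := Groth.Agent.Helper1.Dev.cokSC_shortExact (ClSub.unitToPush φ)
  have h3 := len_add _ hS2 (φ (genericPoint X))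
  have h4 : len (Coh.structureModule Y) (φ (genericPoint X)) = 1 := by
    rw [len_invertible _ Groth.Agent.Helper4.TensorInv.isInvertible_structureModule, hξ]
    rw [Module.length_eq_rank, Module.rank_self]
    exact map_one _
  have h5 : len ((Scheme.Modules.pushforward φ).obj (Coh.structureModule X))
      (φ (genericPoint X)) = 1 := by
    have := (ENat.toNat_eq_iff (by norm_num)).mp h2
    exact this
  have h6 : len (cokernel (ClSub.unitToPush φ)) (φ (genericPoint X)) = 0 := by
    change len ((Scheme.Modules.pushforward φ).obj (Coh.structureModule X))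
      (φ (genericPoint X)) = len (Coh.structureModule Y)
        (φ (genericPoint X)) + len (cokernel (ClSub.unitToPush φ)) (φ (genericPoint X)) at h3
    rw [h4, h5] at h3
    by_contra hne
    have h7 : 1 ≤ len (cokernel (ClSub.unitToPush φ)) (φ (genericPoint X)) :=
      Order.one_le_iff_ne_zero.mpr hne
    have h8 : (1 : ℕ∞) + 1 ≤ 1 + len (cokernel (ClSub.unitToPush φ)) (φ (genericPoint X)) :=
      add_le_add_right h7 1
    rw [← h3] at h8
    exact absurd h8 (by decide)
  have hgen : Subsingleton ((cokernel (ClSub.unitToPush φ)).presheaf.stalk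
      (genericPoint Y)) := by
    rw [len_eq_zero_iff, hξ] at h6
    exact not_not.mp h6
  obtain ⟨hχ, hiso⟩ := gen_iso_main k hY _ _ hOY hP (ClSub.unitToPush φ) hgen
  haveI : Coh.IsQCoh (Coh.structureModule X) := hOX.1
  have hpush := euler_push' k φ hφ (Coh.structureModule X)
  rw [← hpush, hχ0] at hχ
  have hq : Module.finrank k (Coh.HH Y (cokernel (ClSub.unitToPush φ)) 0) = 0 := by
    have : (Module.finrank k (Coh.HH Y (cokernel (ClSub.unitToPush φ)) 0) : ℤ) = 0 := by
      linarith
    exact_mod_cast this
  exact isIso_of_isIso_unitToPush φ (hiso hq)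

end Deg1

section Main

variable (k : Type u) [Field k] [IsAlgClosed k]
  (X : Scheme.{u}) [X.Over (Spec (CommRingCat.of k))] [IsIntegral X]
  [IsProper (X ↘ (Spec (CommRingCat.of k)))] [Smooth (X ↘ (Spec (CommRingCat.of k)))]
  (hdimX : topologicalKrullDim X = 1)
  (Y : Scheme.{u}) [Y.Over (Spec (CommRingCat.of k))] [IsIntegral Y]
  [IsProper (Y ↘ (Spec (CommRingCat.of k)))] [Smooth (Y ↘ (Spec (CommRingCat.of k)))]
  (hdimY : topologicalKrullDim Y = 1)
  (f : X ⟶ Y) [IsFinite f]
  (hf : f ≫ (Y ↘ (Spec (CommRingCat.of k))) = (X ↘ (Spec (CommRingCat.of k))))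
  (e : f (genericPoint X) = genericPoint Y)

include hdimX hdimY hf in
/-- the **Hurwitz inequality** for a finite separable morphism of smooth proper curves -/
theorem hurwitz_le
    (hsep : letI := ((Y.presheaf.stalkSpecializes (specializes_of_eq e) ≫
        f.stalkMap (genericPoint X)).hom).toAlgebra
      Algebra.IsSeparable Y.functionField X.functionField) :
    (f.residueDegree (genericPoint X) : ℤ) * (2 * (Curv2.genus k Y : ℤ) - 2) ≤
      2 * (Curv2.genus k X : ℤ) - 2 := by
  have hregX : ∀ x : X, IsRegularLocalRing (X.presheaf.stalk x) := fun x => regular_of_smooth k x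
  have hregY : ∀ y : Y, IsRegularLocalRing (Y.presheaf.stalk y) := fun y => regular_of_smooth k y
  have hΩX := Groth.Agent.Helper4.SN576.isInvertible_omega_of_smooth k X hdimX
  have hΩY := Groth.Agent.Helper4.SN576.isInvertible_omega_of_smooth k Y hdimY
  have hsq : (X ↘ (Spec (CommRingCat.of k))) ≫ 𝟙 _ = f ≫ (Y ↘ (Spec (CommRingCat.of k))) := by
    rw [Category.comp_id, hf]
  obtain ⟨c, hc, -⟩ := DerA.existsUnique_diffCompat (Y ↘ (Spec (CommRingCat.of k)))
    (X ↘ (Spec (CommRingCat.of k))) f (𝟙 _) hsq (Omega.sheaf _) (dOmega _)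
    (OmegaUnivA.isUniversal _) (Omega.sheaf _) (dOmega _)
  have hc0 : c ≠ 0 := Groth.Agent.Helper4.SN599.c_ne_zero (X ↘ (Spec (CommRingCat.of k)))
    (Y ↘ (Spec (CommRingCat.of k))) f c hc hΩX e hsep
  have hr1X := Groth.Agent.Helper4.QAffSec.isFinLocFreeOfRank_one_of_isInvertible _ hΩX
  have hr1Y := Groth.Agent.Helper4.QAffSec.isFinLocFreeOfRank_one_of_isInvertible _ hΩY
  have hpi := Groth.Agent.Helper4.PullSec.isInvertible_pullback f hΩY
  have hr1P := Groth.Agent.Helper4.QAffSec.isFinLocFreeOfRank_one_of_isInvertible _ hpi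
  haveI : Mono c := mono_of_ne_zero_of_invertible hpi 1 hr1X c hc0
  have hle := deg_le_of_mono_of_rank_eq k hdimX c hr1P hr1X
  have hmain := main7640 k hdimX hdimY f hf e 1 _ hr1Y
  rw [hmain, Groth.Agent.Helper4.SN568.deg_omega k X hdimX hregX,
    Groth.Agent.Helper4.SN568.deg_omega k Y hdimY hregY] at hle
  exact hle

include hdimX hdimY hf in
/-- **S14513** -/
theorem main14513 (hg : Curv2.genus k X = Curv2.genus k Y) (h2 : 2 ≤ Curv2.genus k Y) :
    letI := ((Y.presheaf.stalkSpecializes (specializes_of_eq e) ≫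
      f.stalkMap (genericPoint X)).hom).toAlgebra
    Algebra.IsSeparable Y.functionField X.functionField → IsIso f := by
  intro hsep
  have hregX : ∀ x : X, IsRegularLocalRing (X.presheaf.stalk x) := fun x => regular_of_smooth k x
  have hregY : ∀ y : Y, IsRegularLocalRing (Y.presheaf.stalk y) := fun y => regular_of_smooth k y
  have hle := hurwitz_le k X hdimX Y hdimY f hf e hsep
  rw [hg] at hle
  have hdpos : 0 < f.residueDegree (genericPoint X) := by
    letI := (f.residueFieldMap (genericPoint X)).hom.toAlgebra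
    haveI := Groth.Agent.Helper3.QFResFin.finite_residueFieldMap f (genericPoint X)
      (f.quasiFiniteAt _)
    exact Module.finrank_pos
  have hr1 : f.residueDegree (genericPoint X) = 1 := by
    have h3 : (2 : ℤ) ≤ (Curv2.genus k Y : ℤ) := by exact_mod_cast h2
    have h4 : (1 : ℤ) ≤ (f.residueDegree (genericPoint X) : ℤ) := by exact_mod_cast hdpos
    have h5 : (f.residueDegree (genericPoint X) : ℤ) ≤ 1 := by
      by_contra hcon
      push Not at hcon
      nlinarith
    omega
  haveI := Groth.Agent.Helper4.NApx82.isNoetherian_of_proper k X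
  haveI := Groth.Agent.Helper4.NApx82.isNoetherian_of_proper k Y
  have hχ0 : Curv2.euler k X (Coh.structureModule X) =
      Curv2.euler k Y (Coh.structureModule Y) := by
    have h1 := chi_eq_h0_sub_h1 k hdimX.le (Coh.structureModule X)
    have h1' := chi_eq_h0_sub_h1 k hdimY.le (Coh.structureModule Y)
    unfold chi at h1 h1'
    rw [h1, h1', Groth.Agent.Helper4.SN593.h0_unit k X hdimX hregX,
      Groth.Agent.Helper4.SN593.h0_unit k Y hdimY hregY]
    have : Module.finrank k (Coh.HH X (Coh.structureModule X) 1) =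
        Module.finrank k (Coh.HH Y (Coh.structureModule Y) 1) := hg
    rw [this]
  exact isIso_of_residueDegree_eq_one' k hdimX hdimY hχ0 f hf e hr1

end Main

end Groth.Agent.Helper4.SN600
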