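import Mathlib
import Groth.Agent.Helper4.SN600
import Groth.Agent.Lead.OmegaSeqA

/-!
# S11332: the Hurwitz genus formula
-/

set_option autoImplicit false
set_option linter.style.haveILetI false
set_option linter.unusedSectionVars false
universe u
open CategoryTheory CategoryTheory.Limits AlgebraicGeometry TopologicalSpace Opposite

namespace Groth.Agent.Helper4.SN601

open Groth.Agent.Helper4.SN Groth.Agent.Helper1.Dev OmegaSh Groth.Agent.Lead Scheme.Modules

section Seq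

variable {X Y Z : Scheme.{u}} (f : X ⟶ Y) (g : Y ⟶ Z) [QuasiSeparated g]
  [QuasiSeparated (f ≫ g)] [QuasiSeparated f]
  (c₁ : (Scheme.Modules.pullback f).obj (Omega.sheaf g) ⟶ Omega.sheaf (f ≫ g))
  (hc₁ : IsDiffCompat f (dOmega g) (dOmega (f ≫ g)) c₁)

include hc₁ in
/-- the cokernel of `f^* Ω_{Y/Z} → Ω_{X/Z}` is `Ω_{X/Y}` -/
theorem nonempty_cokernel_iso : Nonempty (cokernel c₁ ≅ Omega.sheaf f) := by
  obtain ⟨c₂, hc₂, -⟩ := DerA.existsUnique_diffCompat (f ≫ g) f (𝟙 X) g (by simp)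
    (Omega.sheaf (f ≫ g)) (dOmega _) (OmegaUnivA.isUniversal _) (Omega.sheaf f) (dOmega f)
  have w := OmegaSeqA.comp_zero f g (dOmega g) (dOmega (f ≫ g)) (dOmega f) c₁ hc₁ c₂ hc₂
    (OmegaUnivA.isUniversal g)
  have hex := OmegaSeqA.exact f g (dOmega g) (dOmega (f ≫ g)) (dOmega f) c₁ hc₁ c₂ hc₂
    (OmegaUnivA.isUniversal _) (OmegaUnivA.isUniversal f) w
  haveI : Epi (ShortComplex.mk c₁ ((pullbackId X).inv.app (Omega.sheaf (f ≫ g)) ≫ c₂) w).g :=
    OmegaSeqA.epi_c₂' f g (dOmega (f ≫ g)) (dOmega f) c₂ hc₂ (OmegaUnivA.isUniversal f)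
  exact ⟨(cokernelIsCokernel c₁).coconePointUniqueUpToIso hex.gIsCokernel⟩

omit [QuasiSeparated (f ≫ g)] in
theorem nonempty_cokernel_iso' (p : X ⟶ Z) (hp : f ≫ g = p) [QuasiSeparated p]
    (c : (Scheme.Modules.pullback f).obj (Omega.sheaf g) ⟶ Omega.sheaf p)
    (hc : IsDiffCompat f (dOmega g) (dOmega p) c) : Nonempty (cokernel c ≅ Omega.sheaf f) := by
  subst hp
  exact nonempty_cokernel_iso f g c hc

end Seq

section Main

variable (k : Type u) [Field k] [IsAlgClosed k]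
  (X : Scheme.{u}) [X.Over (Spec (CommRingCat.of k))] [IsIntegral X]
  [IsProper (X ↘ (Spec (CommRingCat.of k)))]
  (hdimX : topologicalKrullDim X = 1)
  (hregX : ∀ x : X, IsRegularLocalRing (X.presheaf.stalk x))
  (Y : Scheme.{u}) [Y.Over (Spec (CommRingCat.of k))] [IsIntegral Y]
  [IsProper (Y ↘ (Spec (CommRingCat.of k)))]
  (hdimY : topologicalKrullDim Y = 1)
  (hregY : ∀ y : Y, IsRegularLocalRing (Y.presheaf.stalk y))
  (f : X ⟶ Y) [IsFinite f]
  (hf : f ≫ (Y ↘ (Spec (CommRingCat.of k))) = (X ↘ (Spec (CommRingCat.of k))))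
  (e : f (genericPoint X) = genericPoint Y)

include hdimX hregX hdimY hregY hf in
/-- **S11332**: the Hurwitz formula -/
theorem main11332 :
    letI := ((Y.presheaf.stalkSpecializes (specializes_of_eq e) ≫
      f.stalkMap (genericPoint X)).hom).toAlgebra
    Algebra.IsSeparable Y.functionField X.functionField →
      2 * (Curv2.genus k X : ℤ) - 2 =
        (f.residueDegree (genericPoint X) : ℤ) * (2 * (Curv2.genus k Y : ℤ) - 2) +
          (Module.finrank k (Coh.HH X (Omega.sheaf f) 0) : ℤ) := by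
  intro hsep
  haveI := Groth.Agent.Helper4.NApx82.isNoetherian_of_proper k X
  have hΩX := Groth.Agent.Helper4.SN568.isInvertible_omega k X hdimX hregX
  have hΩY := Groth.Agent.Helper4.SN568.isInvertible_omega k Y hdimY hregY
  have hsq : (X ↘ (Spec (CommRingCat.of k))) ≫ 𝟙 _ = f ≫ (Y ↘ (Spec (CommRingCat.of k))) := by
    rw [Category.comp_id, hf]
  obtain ⟨c, hc, -⟩ := DerA.existsUnique_diffCompat (Y ↘ (Spec (CommRingCat.of k)))
    (X ↘ (Spec (CommRingCat.of k))) f (𝟙 _) hsq (Omega.sheaf _) (dOmega _)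
    (OmegaUnivA.isUniversal _) (Omega.sheaf _) (dOmega _)
  have hc0 : c ≠ 0 := Groth.Agent.Helper4.SN599.c_ne_zero (X ↘ (Spec (CommRingCat.of k)))
    (Y ↘ (Spec (CommRingCat.of k))) f c hc hΩX e hsep
  have hr1X := Groth.Agent.Helper4.QAffSec.isFinLocFreeOfRank_one_of_isInvertible _ hΩX
  have hr1Y := Groth.Agent.Helper4.QAffSec.isFinLocFreeOfRank_one_of_isInvertible _ hΩY
  have hpi := Groth.Agent.Helper4.PullSec.isInvertible_pullback f hΩY
  have hr1P := Groth.Agent.Helper4.QAffSec.isFinLocFreeOfRank_one_of_isInvertible _ hpi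
  haveI : Mono c := mono_of_ne_zero_of_invertible hpi 1 hr1X c hc0
  have hIc : Coh.IsCoh ((Scheme.Modules.pullback f).obj
      (Omega.sheaf (Y ↘ (Spec (CommRingCat.of k))))) :=
    Groth.Agent.Lead.PerfLib.isCoh_of_isFinLocFree (FinLocFree7.isFinLocFree_of_rank _ hr1P)
  have hFc : Coh.IsCoh (Omega.sheaf (X ↘ (Spec (CommRingCat.of k)))) :=
    Groth.Agent.Lead.PerfLib.isCoh_of_isFinLocFree (FinLocFree7.isFinLocFree_of_rank _ hr1X)
  obtain ⟨h1, -⟩ := gen_iso_main k hdimX _ _ hIc hFc c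
    (subsingleton_stalk_cokernel_of_rank_eq c hr1P hr1X)
  obtain ⟨ι⟩ := nonempty_cokernel_iso' f (Y ↘ (Spec (CommRingCat.of k)))
    (X ↘ (Spec (CommRingCat.of k))) hf c hc
  rw [(Groth.Agent.Helper1.ProjTop.HHlinEquiv k ι 0).finrank_eq] at h1
  have hmain := main7640 k hdimX hdimY f hf e 1 _ hr1Y
  have hdX := Groth.Agent.Helper4.SN568.deg_omega k X hdimX hregX
  have hdY := Groth.Agent.Helper4.SN568.deg_omega k Y hdimY hregY
  rw [hdY] at hmain
  unfold Curv2.deg at hmain hdX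
  linarith

end Main

end Groth.Agent.Helper4.SN601
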