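import Mathlib
import Groth.Agent.Helper4.SN601
import Groth.Agent.Helper4.SN596
import Groth.Agent.Helper4.SN151
import Groth.Agent.Helper4.SN579
import Groth.Agent.Helper4.SN593
import Groth.Agent.Lead.RegDimOne
import Groth.Agent.Lead.InvDualA

/-!
# S18805: `ω` is 3-very ample iff there is no `g¹₄` (numerical form), via Riemann–Roch and duality
-/

set_option autoImplicit false
set_option linter.style.haveILetI false
set_option linter.unusedSectionVars false
universe u
open CategoryTheory CategoryTheory.Limits AlgebraicGeometry TopologicalSpace Opposite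

namespace Groth.Agent.Helper4.SN602

open Groth.Agent.Helper4.SN Groth.Agent.Lead Scheme.Modules Groth.Agent.Helper4.NApx82
  Groth.Agent.Helper4.StalkDict

section Ideal

variable {X : Scheme.{u}} [IsIntegral X]

/-- for a non-zero ideal the generic point is not in the support of the quotient -/
theorem genericPoint_notMem_support (I : X.IdealSheafData) (hI : I ≠ ⊥) :
    genericPoint X ∉ CohB1.support (ClSub.quotMod I) := by
  intro h
  have h1 : genericPoint X ∈ (I.support : Set X) := support_quotMod_subset I h
  apply hI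
  rw [← Scheme.IdealSheafData.support_eq_top_iff]
  apply le_antisymm le_top
  intro x _
  have h2 : closure ({genericPoint X} : Set X) ⊆ (I.support : Set X) :=
    closure_minimal (Set.singleton_subset_iff.mpr h1) I.support.isClosed
  rw [closure_genericPoint] at h2
  exact h2 (Set.mem_univ x)

/-- the stalk of a non-zero ideal at the generic point has rank one -/
theorem finrank_stalk_idealMod (I : X.IdealSheafData) (x : X)
    (hx : x ∉ CohB1.support (ClSub.quotMod I)) :
    Module.finrank (X.presheaf.stalk x) ((ClSub.idealMod I).presheaf.stalk x) = 1 := by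
  have hss : Subsingleton ((ClSub.quotMod I).presheaf.stalk x) := by
    by_contra hns
    exact hx hns
  have hinj := Groth.Agent.Helper4.StalkExact.stalkLin_injective (ClSub.idealModι I) x
  haveI : Mono (idealSC I).f := (idealSC_shortExact I).mono_f
  have hex := Groth.Agent.Helper4.StalkExact.stalkLin_exact (idealSC I)
    (idealSC_shortExact I).exact x
  have hsurj : Function.Surjective (stalkLin (ClSub.idealModι I) x) := by
    intro t
    exact (hex t).mp (hss.elim _ _)
  let ε := LinearEquiv.ofBijective (stalkLin (ClSub.idealModι I) x) ⟨hinj, hsurj⟩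
  rw [ε.finrank_eq]
  exact Groth.Agent.Helper4.SN.finrank_stalk_structureModule x

/-- for the zero ideal, `O_X → O_X/I` is an isomorphism -/
theorem isIso_toSubscheme_bot [IsLocallyNoetherian X] :
    IsIso (ClSub.toSubscheme (⊥ : X.IdealSheafData)) := by
  have hO : PicF.IsInvertible (Coh.structureModule X) :=
    Groth.Agent.Helper4.TensorInv.isInvertible_structureModule
  have hcO := Groth.Agent.Helper1.SerreFin.isCoh_of_isInvertible _ hO
  have hcQ : Coh.IsCoh (ClSub.quotMod (⊥ : X.IdealSheafData)) := isCoh_quotMod _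
  haveI : (Coh.structureModule X).IsQuasicoherent := hcO.1
  haveI : (ClSub.quotMod (⊥ : X.IdealSheafData)).IsQuasicoherent := hcQ.1
  haveI : Epi (ClSub.toSubscheme (⊥ : X.IdealSheafData)) := (idealSC_shortExact _).epi_g
  haveI : Mono (ClSub.toSubscheme (⊥ : X.IdealSheafData)) := by
    apply Groth.Agent.Helper4.QcohLocal.mono_of_app_injective_of_affine_cover
    intro x
    obtain ⟨_, ⟨U, hU, rfl⟩, hxU, -⟩ :=
      X.isBasis_affineOpens.exists_subset_of_mem_open (Set.mem_univ x) isOpen_univ
    refine ⟨U, hU, hxU, ?_⟩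
    have hk := (⊥ : X.IdealSheafData).ker_subschemeι_app ⟨U, hU⟩
    have hinj : Function.Injective ((⊥ : X.IdealSheafData).subschemeι.app U).hom := by
      rw [RingHom.injective_iff_ker_eq_bot, hk]
      rfl
    exact hinj
  exact isIso_of_mono_of_epi _

end Ideal

section Main

variable (k : Type u) [Field k] [IsAlgClosed k]
  (X : Scheme.{u}) [X.Over (Spec (CommRingCat.of k))] [IsIntegral X]
  [IsProper (X ↘ (Spec (CommRingCat.of k)))]
  (hdim : topologicalKrullDim X = 1)
  (hreg : ∀ x : X, IsRegularLocalRing (X.presheaf.stalk x))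

include hdim hreg in
/-- an ideal whose quotient has more than one global section is non-zero -/
theorem ne_bot_of_h0 (I : X.IdealSheafData)
    (h : Module.finrank k (Coh.HH X (ClSub.quotMod I) 0) ≠ 1) : I ≠ ⊥ := by
  rintro rfl
  haveI := Groth.Agent.Helper4.NApx82.isNoetherian_of_proper k X
  haveI := isIso_toSubscheme_bot (X := X)
  apply h
  rw [← (Groth.Agent.Helper1.ProjTop.HHlinEquiv k
    (asIso (ClSub.toSubscheme (⊥ : X.IdealSheafData))) 0).finrank_eq]
  exact Groth.Agent.Helper4.SN593.h0_unit k X hdim hreg

include k hdim hreg in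
/-- a non-zero ideal of a regular curve is invertible -/
theorem isInvertible_idealMod (I : X.IdealSheafData) (hI : I ≠ ⊥) :
    PicF.IsInvertible (ClSub.idealMod I) := by
  haveI := Groth.Agent.Helper4.NApx82.isNoetherian_of_proper k X
  have hO : PicF.IsInvertible (Coh.structureModule X) :=
    Groth.Agent.Helper4.TensorInv.isInvertible_structureModule
  have hcO := Groth.Agent.Helper1.SerreFin.isCoh_of_isInvertible _ hO
  have hcQ : Coh.IsCoh (ClSub.quotMod I) := isCoh_quotMod I
  have hcI : Coh.IsCoh (ClSub.idealMod I) := Groth.Agent.Lead.PerfLib.isCoh_kernel hcO hcQ _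
  haveI : (ClSub.idealMod I).IsQuasicoherent := hcI.1
  have hflf : FlatMod.IsFinLocFree (ClSub.idealMod I) := by
    rw [← Groth.Agent.Lead.RegDimOne.torsionFree_iff_isFinLocFree X hreg hdim.le _ hcI]
    intro x
    haveI := isTorsionFree_idealMod I x
    rw [noZeroSMulDivisors_iff_right_eq_zero_of_smul]
    intro r hr m hm
    exact Module.IsTorsionFree.isSMulRegular (isRegular_of_ne_zero hr) (by simpa using hm)
  obtain ⟨r, hr⟩ := Groth.Agent.Helper4.SN596.exists_rank_of_isFinLocFree _ hflf
  have h1 := finrank_stalk_idealMod I (genericPoint X) (genericPoint_notMem_support I hI)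
  obtain ⟨V, hx, hV⟩ := hr (genericPoint X)
  obtain ⟨b⟩ := Groth.Agent.Helper4.FinLocFree2.nonempty_basis_stalk_of_isFreeAlong _ hV
    (genericPoint X) hx
  rw [Module.finrank_eq_card_basis b, Fintype.card_fin] at h1
  subst h1
  exact isInvertible_of_rank_one _ hr

include hdim in
/-- the Euler characteristic of a non-zero ideal -/
theorem euler_idealMod (I : X.IdealSheafData) (hI : I ≠ ⊥) :
    Curv2.euler k X (Coh.structureModule X) =
      Curv2.euler k X (ClSub.idealMod I) + (Module.finrank k (Coh.HH X (ClSub.quotMod I) 0) : ℤ) := by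
  haveI := Groth.Agent.Helper4.NApx82.isNoetherian_of_proper k X
  have hO : PicF.IsInvertible (Coh.structureModule X) :=
    Groth.Agent.Helper4.TensorInv.isInvertible_structureModule
  have hcO := Groth.Agent.Helper1.SerreFin.isCoh_of_isInvertible _ hO
  have hcQ : Coh.IsCoh (ClSub.quotMod I) := isCoh_quotMod I
  have hcI : Coh.IsCoh (ClSub.idealMod I) := Groth.Agent.Lead.PerfLib.isCoh_kernel hcO hcQ _
  have hadd := NApx80.euler_additive k X (idealSC I) (idealSC_shortExact I) hcI hcO hcQ
  have hχQ := euler_eq_finrank_h0 k X (ClSub.quotMod I) hcQ (fun x hx => by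
    apply isClosed_singleton_of_ne_genericPoint hdim.le
    rintro rfl
    exact genericPoint_notMem_support I hI hx)
  change Curv2.euler k X (Coh.structureModule X) =
    Curv2.euler k X (ClSub.idealMod I) + Curv2.euler k X (ClSub.quotMod I) at hadd
  rw [hχQ] at hadd
  exact hadd

include hdim hreg in
/-- Riemann–Roch with duality for the inverse of a non-zero ideal -/
theorem rr_inverse (I : X.IdealSheafData) (hI : I ≠ ⊥) (M : X.Modules)
    (e : CohB1.tensorMod (ClSub.idealMod I) M ≅ Coh.structureModule X) :
    Module.finrank k (Coh.HH X M 0) + Curv2.genus k X =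
      Module.finrank k (Coh.HH X (ClSub.quotMod I) 0) + 1 +
        Module.finrank k (Coh.HH X (CohB1.tensorMod
          (Omega.sheaf (X ↘ (Spec (CommRingCat.of k)))) (ClSub.idealMod I)) 0) := by
  haveI := Groth.Agent.Helper4.NApx82.isNoetherian_of_proper k X
  have e' : CohB1.tensorMod M (ClSub.idealMod I) ≅ Coh.structureModule X :=
    Groth.Agent.Lead.Ref1B.braid _ _ ≪≫ e
  have hIi : PicF.IsInvertible (ClSub.idealMod I) :=
    Groth.Agent.Helper4.InvOfTensor.isInvertible_of_tensor_iso _ _ e
  have hMi : PicF.IsInvertible M :=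
    Groth.Agent.Helper4.InvOfTensor.isInvertible_of_tensor_iso _ _ e'
  have hdeg := deg_inverse k hdim.le (ClSub.idealMod I) M hIi hMi e'
  have hχI := euler_idealMod k X hdim I hI
  have hd := Groth.Agent.Helper4.SN579.h0_omega_tensor_eq_h1 k X hdim hreg M (ClSub.idealMod I)
    hMi hIi e'
  have h1 := chi_eq_h0_sub_h1 k hdim.le M
  have h2 := chi_eq_h0_sub_h1 k hdim.le (Coh.structureModule X)
  have h0 := Groth.Agent.Helper4.SN593.h0_unit k X hdim hreg
  unfold chi at h1 h2
  unfold Curv2.deg at hdeg
  unfold Curv2.genus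
  rw [hd]
  rw [h0] at h2
  push_cast at hdeg h2
  zify
  linarith

include hdim hreg in
/-- **S18805** -/
theorem main18805 :
    (∀ (I : X.IdealSheafData), Module.finrank k (Coh.HH X (ClSub.quotMod I) 0) = 4 →
      Module.finrank k (Coh.HH X (CohB1.tensorMod (Omega.sheaf (X ↘ Spec (CommRingCat.of k)))
        (ClSub.idealMod I)) 0) + 4 =
        Module.finrank k (Coh.HH X (Omega.sheaf (X ↘ Spec (CommRingCat.of k))) 0)) ↔
    (∀ (I : X.IdealSheafData), Module.finrank k (Coh.HH X (ClSub.quotMod I) 0) = 4 →
      ∀ (M : X.Modules), ClSub.IsInverseOf (ClSub.idealMod I) M →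
        Module.finrank k (Coh.HH X M 0) = 1) := by
  have hg := Groth.Agent.Helper4.SN568.h0_omega k X hdim hreg
  constructor
  · intro h I hI M ⟨e⟩
    have hne := ne_bot_of_h0 k X hdim hreg I (by omega)
    have hrr := rr_inverse k X hdim hreg I hne M e
    have := h I hI
    omega
  · intro h I hI
    have hne := ne_bot_of_h0 k X hdim hreg I (by omega)
    obtain ⟨M, -, -, ⟨e⟩⟩ := Groth.Agent.Lead.InvDual.exists_inverse _
      (isInvertible_idealMod k X hdim hreg I hne)
    have hrr := rr_inverse k X hdim hreg I hne M e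
    have := h I hI M ⟨e⟩
    omega

end Main

end Groth.Agent.Helper4.SN602
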