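import Mathlib
import Groth.Agent.Helper4.SN591

/-!
# The base-point-free pencil trick in a function field, and numerics of curves of genus nine
with Clifford index three
-/

set_option autoImplicit false
set_option linter.unusedSectionVars false
open FunFld

namespace Groth.Agent.Helper4.SN603

open Groth.Agent.Helper5.FF hiding degHom degHom_apply
open Groth.Agent.Helper6.FFZeta
open Groth.Agent.Helper4.SN588 Groth.Agent.Helper4.SN591

variable {k K : Type*} [Field k] [Field K] [Algebra k K]

section PencilNorm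

variable (hK : IsFunctionField k K) (F : Divisor k K) {x : K}
  (h1 : (1 : K) ∈ L F) (hx : x ∈ L F) (hx0 : x ≠ 0)
  (hb : ∀ P : Place k K, 1 ≤ F P → 1 ≤ F P + P.ord x → False)

include hK h1 hx hx0 hb in
/-- the base-point-free pencil trick, normalized form -/
theorem pencil_norm (D : Divisor k K) : 2 * ell D ≤ ell (D - F) + ell (D + F) := by
  have hF0 : 0 ≤ F := (one_mem_L_iff F).mp h1
  have hordx : ∀ P : Place k K, 0 ≤ F P + P.ord x := by
    intro P
    have := (mem_L_iff_ord F hx0).mp hx P
    omega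
  have hmem : ∀ p : L D × L D, (p.1 : K) + x * (p.2 : K) ∈ L (D + F) := by
    intro p
    apply Submodule.add_mem
    · apply L_mono (A := D) (B := D + F) _ p.1.2
      intro P
      have : (0 : ℤ) ≤ F P := hF0 P
      simp only [Finsupp.coe_add, Pi.add_apply]
      omega
    · rw [mul_mem_L_iff hK _ _ _ hx0]
      apply L_mono (A := D) (B := D + F + FunFld.div k x) _ p.2.2
      intro P
      have := hordx P
      simp only [Finsupp.coe_add, Pi.add_apply, div_apply hK]
      omega
  let φ : (L D × L D) →ₗ[k] L (D + F) :=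
    { toFun := fun p => ⟨(p.1 : K) + x * (p.2 : K), hmem p⟩
      map_add' := fun p q => by
        apply Subtype.ext
        simp only [Prod.fst_add, Prod.snd_add, Submodule.coe_add]
        ring
      map_smul' := fun c p => by
        apply Subtype.ext
        simp only [Prod.smul_fst, Prod.smul_snd, Submodule.coe_smul, RingHom.id_apply,
          smul_add, mul_smul_comm] }
  have hker : ∀ p : LinearMap.ker φ, ((p : L D × L D).2 : K) ∈ L (D - F) := by
    rintro ⟨⟨u, v⟩, huv⟩
    have huv' : (u : K) + x * (v : K) = 0 := congrArg Subtype.val (LinearMap.mem_ker.mp huv)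
    show (v : K) ∈ L (D - F)
    by_cases hv : (v : K) = 0
    · rw [hv]; exact Submodule.zero_mem _
    · have hxv : x * (v : K) ∈ L D := by
        have : x * (v : K) = -(u : K) := eq_neg_of_add_eq_zero_right huv'
        rw [this]
        exact Submodule.neg_mem _ u.2
      have hv1 := (mem_L_iff_ord D hv).mp v.2
      have hv2 := (mem_L_iff_ord D (mul_ne_zero hx0 hv)).mp hxv
      rw [mem_L_iff_ord _ hv]
      intro P
      have e1 := hv1 P
      have e2 := hv2 P
      rw [ord_mul P hx0 hv] at e2
      have e3 := hordx P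
      have e4 : (0 : ℤ) ≤ F P := hF0 P
      simp only [Finsupp.coe_sub, Pi.sub_apply]
      by_cases hFP : 1 ≤ F P
      · have e5 : ¬ (1 ≤ F P + P.ord x) := fun h => hb P hFP h
        omega
      · omega
  let ψ : LinearMap.ker φ →ₗ[k] L (D - F) :=
    { toFun := fun p => ⟨((p : L D × L D).2 : K), hker p⟩
      map_add' := fun p q => rfl
      map_smul' := fun c p => rfl }
  have hψ : Function.Injective ψ := by
    rw [injective_iff_map_eq_zero]
    rintro ⟨⟨u, v⟩, huv⟩ h0
    have huv' : (u : K) + x * (v : K) = 0 := congrArg Subtype.val (LinearMap.mem_ker.mp huv)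
    have hv : (v : K) = 0 := congrArg Subtype.val h0
    have hu : (u : K) = 0 := by rw [hv, mul_zero, add_zero] at huv'; exact huv'
    apply Subtype.ext
    exact Prod.ext (Subtype.ext hu) (Subtype.ext hv)
  haveI := finiteDimensional_L hK D
  haveI := finiteDimensional_L hK (D + F)
  haveI := finiteDimensional_L hK (D - F)
  have hrn := LinearMap.finrank_range_add_finrank_ker φ
  have hr := Submodule.finrank_le (LinearMap.range φ)
  have hk := LinearMap.finrank_le_finrank_of_injective hψ
  rw [Module.finrank_prod] at hrn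
  unfold ell
  omega

end PencilNorm

/-- a space `L(F)` of dimension at least two containing `1` contains a non-constant function -/
theorem exists_nonconstant (hK : IsFunctionField k K) (F : Divisor k K) (h2 : 2 ≤ ell F) :
    ∃ x ∈ L F, x ∉ Set.range (algebraMap k K) := by
  by_contra hcon
  push Not at hcon
  haveI := finiteDimensional_L hK F
  have hle : L F ≤ Submodule.span k {(1 : K)} := by
    intro y hy
    obtain ⟨c, hc⟩ := hcon y hy
    rw [Submodule.mem_span_singleton]
    exact ⟨c, by rw [← hc, Algebra.algebraMap_eq_smul_one]⟩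
  have h3 := Submodule.finrank_mono hle
  have h4 : Module.finrank k (Submodule.span k {(1 : K)}) ≤ 1 := by
    have := finrank_span_le_card (R := k) ({(1 : K)} : Set K)
    simpa using this
  unfold ell at h2
  omega

/-- **the base-point-free pencil trick** for a base point free pencil `F` -/
theorem pencil_of_bpf (hK : IsFunctionField k K) (F : Divisor k K) (hF2 : ell F = 2)
    (hbpf : ∀ P : Place k K, ell (F - Finsupp.single P 1) < ell F) (D : Divisor k K) :
    2 * ell D ≤ ell (D - F) + ell (D + F) := by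
  obtain ⟨f, hf0, hf⟩ := (L_ne_bot_iff hK F).mp (L_ne_bot_of_ell_pos (by omega))
  set F' := F + FunFld.div k f with hF'
  have h1 : (1 : K) ∈ L F' := (one_mem_L_iff F').mpr hf
  have hF'2 : ell F' = 2 := by rw [hF', ell_add_div hK _ hf0, hF2]
  obtain ⟨x, hx, hxk⟩ := exists_nonconstant hK F' (by omega)
  have hx0 : x ≠ 0 := by
    rintro rfl
    exact hxk ⟨0, map_zero _⟩
  have hF0 : 0 ≤ F' := (one_mem_L_iff F').mp h1
  have hordx : ∀ P : Place k K, 0 ≤ F' P + P.ord x := by
    intro P
    have := (mem_L_iff_ord F' hx0).mp hx P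
    omega
  have hb : ∀ P : Place k K, 1 ≤ F' P → 1 ≤ F' P + P.ord x → False := by
    intro P hP1 hP2
    have hA' : 0 ≤ F' - Finsupp.single P 1 := by
      intro R
      by_cases hR : R = P
      · subst hR
        simp only [Finsupp.coe_zero, Pi.zero_apply, Finsupp.coe_sub, Pi.sub_apply,
          Finsupp.single_eq_same]
        omega
      · have h1 : (0 : ℤ) ≤ F' R := hF0 R
        simp only [Finsupp.coe_zero, Pi.zero_apply, Finsupp.coe_sub, Pi.sub_apply,
          Finsupp.single_eq_of_ne hR]
        omega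
    have h1' : (1 : K) ∈ L (F' - Finsupp.single P 1) := (one_mem_L_iff _).mpr hA'
    have hx' : x ∈ L (F' - Finsupp.single P 1) := by
      rw [mem_L_iff_ord _ hx0]
      intro R
      by_cases hR : R = P
      · subst hR
        simp only [Finsupp.coe_sub, Pi.sub_apply, Finsupp.single_eq_same]
        omega
      · have := hordx R
        simp only [Finsupp.coe_sub, Pi.sub_apply, Finsupp.single_eq_of_ne hR]
        omega
    have h2 := two_le_ell_of_mem hK _ h1' hx' hxk
    have h3 : F' - Finsupp.single P 1 = F - Finsupp.single P 1 + FunFld.div k f := by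
      rw [hF']; abel
    rw [h3, ell_add_div hK _ hf0] at h2
    have := hbpf P
    omega
  have key := pencil_norm hK F' h1 hx hx0 hb D
  have e1 : D - F' = D - F + FunFld.div k f⁻¹ := by
    rw [hF', div_inv hK]; abel
  have e2 : D + F' = D + F + FunFld.div k f := by
    rw [hF']; abel
  rw [e1, e2, ell_add_div hK _ hf0, ell_add_div hK _ (inv_ne_zero hf0)] at key
  exact key

/-- a divisor of degree one on a function field of positive genus has `ℓ ≤ 1` -/
theorem ell_le_one_of_deg_one (hK : IsFunctionField k K) (hd1 : ∀ P : Place k K, P.deg = 1)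
    (hg : 0 < genus k K) (A : Divisor k K) (hA : A.deg = 1) : ell A ≤ 1 := by
  by_contra hcon
  push Not at hcon
  obtain ⟨f, hf0, hf⟩ := (L_ne_bot_iff hK A).mp (L_ne_bot_of_ell_pos (by omega))
  have h1 := ell_eq_one_of_deg_one hK hd1 hg (A + FunFld.div k f) hf
    (by rw [deg_add, deg_div hK, hA, add_zero])
  rw [ell_add_div hK _ hf0] at h1
  omega

section Nine

variable (hK : IsFunctionField k K) (hd1 : ∀ P : Place k K, P.deg = 1)
  (C : Divisor k K) (hC : IsCanonical k K C) (hg : genus k K = 9)
  (hCl : ∀ A : Divisor k K, 2 ≤ ell A → 2 ≤ ell (C - A) → 2 * (ell A : ℤ) + 1 ≤ A.deg)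

include hK hC hg hCl in
/-- a `g²₇` minus a base point free complete `g¹₅` on a curve of genus nine and Clifford index
three has exactly one section -/
theorem ell_sub_eq_one (H Δ : Divisor k K) (hH : H.deg = 7) (hlH : ell H = 3)
    (hΔ : Δ.deg = 5) (hlΔ : ell Δ = 2)
    (hbpf : ∀ P : Place k K, ell (Δ - Finsupp.single P 1) < ell Δ) : ell (H - Δ) = 1 := by
  have hCdeg := (ell_canonical hK hC).2
  rw [hg] at hCdeg
  have pen := pencil_of_bpf hK Δ hlΔ hbpf H
  have rr1 := riemann_roch hK C hC (H + Δ)
  rw [deg_add, hH, hΔ, hg] at rr1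
  have hB : ell (C - (H + Δ)) ≤ 1 := by
    by_contra hcon
    push Not at hcon
    have h2 : 2 ≤ ell (C - (C - (H + Δ))) := by
      rw [sub_sub_cancel]
      omega
    have := hCl (C - (H + Δ)) (by omega) h2
    rw [deg_sub, deg_add, hH, hΔ, hCdeg] at this
    omega
  have hA : ell (H - Δ) ≤ 1 := by
    by_contra hcon
    push Not at hcon
    have rr2 := riemann_roch hK C hC (H - Δ)
    rw [deg_sub, hH, hΔ, hg] at rr2
    have := hCl (H - Δ) (by omega) (by omega)
    rw [deg_sub, hH, hΔ] at this
    omega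
  omega

include hK hd1 hC hg hCl in
/-- the numbers of sections of the double and the triple of a base point free complete `g¹₅`
on a curve of genus nine and Clifford index three -/
theorem ell_nsmul (Δ : Divisor k K) (hΔ : Δ.deg = 5) (hlΔ : ell Δ = 2)
    (hbpf : ∀ P : Place k K, ell (Δ - Finsupp.single P 1) < ell Δ) :
    (ell (2 • Δ) = 3 ∨ ell (2 • Δ) = 4) ∧ (ell (3 • Δ) = 7 ∨ ell (3 • Δ) = 8) ∧
      (ell (2 • Δ) = 3 → ell (3 • Δ) = 7) := by
  have hCdeg := (ell_canonical hK hC).2
  rw [hg] at hCdeg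
  have pen := pencil_of_bpf hK Δ hlΔ hbpf Δ
  rw [sub_self, ell_zero hK, ← two_nsmul, hlΔ] at pen
  have rr2 := riemann_roch hK C hC (2 • Δ)
  rw [deg_nsmul, hΔ, hg] at rr2
  have h2le : ell (2 • Δ) ≤ 4 := by
    by_contra hcon
    push Not at hcon
    have := hCl (2 • Δ) (by omega) (by omega)
    rw [deg_nsmul, hΔ] at this
    omega
  have rr3 := riemann_roch hK C hC (3 • Δ)
  rw [deg_nsmul, hΔ, hg] at rr3
  have h3le := ell_le_one_of_deg_one hK hd1 (by omega) (C - 3 • Δ)
    (by rw [deg_sub, deg_nsmul, hΔ, hCdeg]; norm_num)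
  refine ⟨by omega, by omega, fun h23 => ?_⟩
  have pen3 := pencil_of_bpf hK Δ hlΔ hbpf (C - 3 • Δ)
  have e1 : C - 3 • Δ + Δ = C - 2 • Δ := by
    rw [succ_nsmul Δ 2]; abel
  have hneg : ell (C - 3 • Δ - Δ) = 0 := by
    unfold ell
    rw [L_eq_bot_of_deg_neg hK _ (by
      rw [deg_sub, deg_sub, deg_nsmul, hΔ, hCdeg]; norm_num), finrank_bot]
  rw [e1, hneg] at pen3
  omega

include hK hC hg hCl in
/-- the sum of two different base point free complete `g¹₅` on a curve of genus nine and
Clifford index three has four sections -/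
theorem ell_add_eq_four (Δ₁ Δ₂ : Divisor k K) (hΔ₁ : Δ₁.deg = 5) (hΔ₂ : Δ₂.deg = 5)
    (hl₁ : ell Δ₁ = 2) (hl₂ : ell Δ₂ = 2)
    (hbpf : ∀ P : Place k K, ell (Δ₁ - Finsupp.single P 1) < ell Δ₁)
    (hne : Δ₂ - Δ₁ ∉ prinDivs k K) : ell (Δ₁ + Δ₂) = 4 := by
  have hCdeg := (ell_canonical hK hC).2
  rw [hg] at hCdeg
  have pen := pencil_of_bpf hK Δ₁ hl₁ hbpf Δ₂
  have h0 : ell (Δ₂ - Δ₁) = 0 := by
    by_contra hcon
    exact hne (mem_prinDivs_of_ell_pos hK _ (Nat.pos_of_ne_zero hcon)
      (by rw [deg_sub, hΔ₁, hΔ₂, sub_self]))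
  rw [h0, add_comm Δ₂ Δ₁, hl₂] at pen
  have rr := riemann_roch hK C hC (Δ₁ + Δ₂)
  rw [deg_add, hΔ₁, hΔ₂, hg] at rr
  have hle : ell (Δ₁ + Δ₂) ≤ 4 := by
    by_contra hcon
    push Not at hcon
    have := hCl (Δ₁ + Δ₂) (by omega) (by omega)
    rw [deg_add, hΔ₁, hΔ₂] at this
    omega
  omega

end Nine

end Groth.Agent.Helper4.SN603
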