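import Mathlib
import Groth.Agent.Helper4.SN603
import Groth.Agent.Helper4.SN592
import Groth.Agent.Helper4.SN597
import Groth.Agent.Helper4.GGSec
import Groth.Agent.Helper4.GenLocIso
import Groth.Agent.Helper4.SN188

/-!
# Globally generated invertible modules have base point free divisors; curves of genus nine
with Clifford index three (S16319, S16320, S16322)
-/

set_option autoImplicit false
set_option linter.style.haveILetI false
set_option linter.unusedSectionVars false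
universe u
open CategoryTheory CategoryTheory.Limits AlgebraicGeometry TopologicalSpace Opposite FunFld

namespace Groth.Agent.Helper4.SN604

open Groth.Agent.Helper4.SN550 Groth.Agent.Helper4.SN Groth.Agent.Helper1.Dev
  Groth.Agent.Helper4.TwistExt Groth.Agent.Helper4.GenLoc Groth.Agent.Helper4.GenLocIso
  Groth.Agent.Helper4.SN549 Groth.Agent.Helper4.StalkDict

attribute [local instance] Curv2.stalkAlgebra Curv2.resAlgebra

section Frame

variable {X : Scheme.{u}}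

/-- a section is a frame over its generating locus -/
theorem isFrame_genLocus (M : X.Modules) (σ : Coh.structureModule X ⟶ M) :
    IsFrame M (CohB1.genLocus M σ) (SecTwist.val σ (CohB1.genLocus M σ)) := by
  intro V hV
  have hb := (isIso_restrict_iff σ _).mp (isIso_restrict_genLocus M σ) V hV
  rw [val_res σ hV]
  constructor
  · intro m
    obtain ⟨a, ha⟩ := hb.2 m
    exact ⟨toFn a, ha.symm.trans (app_eq_smul_val σ V a)⟩
  · intro r hr
    have h1 : σ.app V (show Γ(Coh.structureModule X, V) from r) = 0 :=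
      (app_eq_smul_val σ V (show Γ(Coh.structureModule X, V) from r)).trans hr
    have h2 := hb.1 (h1.trans (map_zero _).symm)
    exact h2

end Frame

section Bpf

variable {k : Type u} [Field k] {X : Scheme.{u}} [X.Over (Spec (CommRingCat.of k))]
  [IsIntegral X] (pd : PlaceData k X)

open Groth.Agent.Helper5.FF in
/-- **the divisor of a globally generated invertible module has no base points** -/
theorem ell_sub_single_lt (M : X.Modules) (hM : PicF.IsInvertible M)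
    (hgg : Curv2.IsGloballyGenerated M) (t : M.presheaf.stalk (genericPoint X))
    (Δ : Divisor k X.functionField) (h : IsDiv pd M t Δ) (P : Place k X.functionField) :
    ell (Δ - Finsupp.single P 1) < ell Δ := by
  obtain ⟨x, rfl⟩ := pd.pl.surjective P
  obtain ⟨σ, hσ⟩ :=
    Groth.Agent.Helper4.GGSec.exists_mem_genLocus_of_isGloballyGenerated M hM hgg x.1
  have hfr := isFrame_genLocus M σ
  have ht0 : t ≠ 0 := Groth.Agent.Helper4.SN551.IsDiv.ne_zero pd h x
  have hηG : genericPoint X ∈ CohB1.genLocus M σ := gen_mem _ hσ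
  obtain ⟨g, hg⟩ := exists_smul_gen hfr hηG t
  have hg0 : g ≠ 0 := by
    rintro rfl
    rw [zero_smul] at hg
    exact ht0 hg
  have hexp : Δ (pd.pl x) = -WithZero.log ((pd.pl x).1 g) := by
    apply exponent_unique (pd.pl x)
    intro f
    rw [← h x f, hg]
    exact smul_mem_range_sp_iff pd hfr x hσ g hg0 f
  have hmem : g⁻¹ ∈ L Δ := by
    intro Q
    obtain ⟨y, rfl⟩ := pd.pl.surjective Q
    rw [← h y g⁻¹, hg, smul_smul, inv_mul_cancel₀ hg0, one_smul]
    refine ⟨M.presheaf.germ ⊤ y.1 trivial (SecTwist.val σ ⊤), ?_⟩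
    rw [sp_germ]
    have h1 := TopCat.Presheaf.germ_res_apply M.presheaf
      (homOfLE (le_top : CohB1.genLocus M σ ≤ ⊤)) (genericPoint X) hηG (SecTwist.val σ ⊤)
    rw [← h1, val_res]
  have hnot : g⁻¹ ∉ L (Δ - Finsupp.single (pd.pl x) 1) := by
    intro hc
    have h1 := hc (pd.pl x)
    simp only [Finsupp.coe_sub, Pi.sub_apply, Finsupp.single_eq_same] at h1
    have hv : (pd.pl x).1 g ≠ 0 := (Valuation.ne_zero_iff _).2 hg0
    have e : ((pd.pl x).1 g)⁻¹ = WithZero.exp (-WithZero.log ((pd.pl x).1 g)) := by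
      rw [WithZero.exp_neg, WithZero.exp_log hv]
    rw [hexp, map_inv₀, e, WithZero.exp_le_exp] at h1
    omega
  haveI := finiteDimensional_L pd.hK Δ
  have hle : L (Δ - Finsupp.single (pd.pl x) 1) ≤ L Δ := by
    apply L_mono
    intro Q
    by_cases hQ : Q = pd.pl x
    · subst hQ
      simp only [Finsupp.coe_sub, Pi.sub_apply, Finsupp.single_eq_same]
      omega
    · simp only [Finsupp.coe_sub, Pi.sub_apply, Finsupp.single_eq_of_ne hQ]
      omega
  have hlt : L (Δ - Finsupp.single (pd.pl x) 1) < L Δ :=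
    lt_of_le_of_ne hle (fun heq => hnot (heq ▸ hmem))
  exact Submodule.finrank_lt_finrank_of_lt hlt

end Bpf

section Nine

variable (k : Type u) [Field k] [IsAlgClosed k]
  (X : Scheme.{u}) [X.Over (Spec (CommRingCat.of k))] [IsIntegral X]
  [IsProper (X ↘ (Spec (CommRingCat.of k)))]
  (hdim : topologicalKrullDim X = 1)
  (hreg : ∀ x : X, IsRegularLocalRing (X.presheaf.stalk x))

omit [IsAlgClosed k] [IsProper (X ↘ (Spec (CommRingCat.of k)))] in
/-- linearly equivalent divisors have the same `ℓ` -/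
theorem ell_eq_of_sub_mem (pd : PlaceData k X) (A B : Divisor k X.functionField)
    (h : A - B ∈ prinDivs k X.functionField) : ell A = ell B := by
  rw [Groth.Agent.Helper6.FFZeta.mem_prinDivs_iff pd.hK] at h
  obtain ⟨g, hg0, hg⟩ := h
  have : A = B + FunFld.div k g := by rw [← hg]; abel
  rw [this, Groth.Agent.Helper5.FF.ell_add_div pd.hK _ hg0]

omit [IsAlgClosed k] [IsProper (X ↘ (Spec (CommRingCat.of k)))] in
/-- a tensor factor of an invertible module by an invertible module is invertible -/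
theorem isInvertible_of_tensor_iso_invertible (D N H : X.Modules) (hD : PicF.IsInvertible D)
    (hH : PicF.IsInvertible H) (e : CohB1.tensorMod D N ≅ H) : PicF.IsInvertible N := by
  obtain ⟨H', -, -, ⟨eH⟩⟩ := Groth.Agent.Lead.InvDual.exists_inverse H hH
  have e1 : CohB1.tensorMod N (CohB1.tensorMod D H') ≅ Coh.structureModule X :=
    (Groth.Agent.Lead.Ref1B.assoc N D H').symm ≪≫
      (DCoh.tensorRightMod H').mapIso (Groth.Agent.Lead.Ref1B.braid N D ≪≫ e) ≪≫ eH
  exact Groth.Agent.Helper4.InvOfTensor.isInvertible_of_tensor_iso N _ e1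

include hdim hreg in
/-- translation of the Clifford index hypothesis -/
theorem hCl_of_hmin (pd : PlaceData k X) (C : Divisor k X.functionField)
    (hC2 : IsCanonical k X.functionField C) (c : ℤ)
    (hmin : ∀ M : X.Modules, PicF.IsInvertible M → 2 ≤ Module.finrank k (Coh.HH X M 0) →
      2 ≤ Module.finrank k (Coh.HH X M 1) →
        2 * (Module.finrank k (Coh.HH X M 0) : ℤ) + c ≤ Curv2.deg k X M 1) :
    ∀ A : Divisor k X.functionField, 2 ≤ ell A → 2 ≤ ell (C - A) →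
      2 * (ell A : ℤ) + c ≤ A.deg := by
  intro A h1 h2
  obtain ⟨L', t', hL', hD'⟩ := Groth.Agent.Helper4.SN553.exists_isDiv_of_divisor pd A
  have a0 := Groth.Agent.Helper4.SN559.finrank_h0_eq_ell pd L' hL' t' A hD'
  have a1 := Groth.Agent.Helper4.SN575.finrank_h1_eq_ell pd C hC2 L' hL' t' A hD'
  have ad := Groth.Agent.Helper4.SN552.deg_eq_of_isDiv pd L' hL' t' A hD'
  have := hmin L' hL' (by rw [a0]; exact h1) (by rw [a1]; exact h2)
  rw [a0, ad] at this
  exact this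

include hdim hreg in
/-- **S16319** -/
theorem main16319 (hg : Curv2.genus k X = 9)
    (hmin : ∀ M : X.Modules, PicF.IsInvertible M → 2 ≤ Module.finrank k (Coh.HH X M 0) →
      2 ≤ Module.finrank k (Coh.HH X M 1) →
        2 * (Module.finrank k (Coh.HH X M 0) : ℤ) + 1 ≤ Curv2.deg k X M 1)
    (H : X.Modules) (hH : PicF.IsInvertible H) (hdH : Curv2.deg k X H 1 = 7)
    (h0H : Module.finrank k (Coh.HH X H 0) = 3)
    (D : X.Modules) (hD : PicF.IsInvertible D) (hgD : Curv2.IsGloballyGenerated D)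
    (hdD : Curv2.deg k X D 1 = 5) (h0D : Module.finrank k (Coh.HH X D 0) = 2)
    (N : X.Modules) (e : CohB1.tensorMod D N ≅ H) :
    Module.finrank k (Coh.HH X N 0) = 1 := by
  obtain ⟨pd⟩ := Groth.Agent.Helper4.SN568.nonempty_placeData k X hdim hreg
  obtain ⟨ω, C, hC1, hC2⟩ := Groth.Agent.Helper4.SN568.exists_canon k X hdim hreg pd
  have hd1 : ∀ P : Place k X.functionField, P.deg = 1 := fun P =>
    Groth.Agent.Helper5.FF.deg_eq_one_of_isAlgClosed pd.hK P
  have hgen : FunFld.genus k X.functionField = 9 := by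
    rw [← Groth.Agent.Helper4.SN560.genus_eq pd, hg]
  have hCl := hCl_of_hmin k X hdim hreg pd C hC2 1 hmin
  have hN := isInvertible_of_tensor_iso_invertible X D N H hD hH e
  obtain ⟨tD, htD, -⟩ := Groth.Agent.Helper4.SN555.exists_gen D hD
  obtain ⟨Δ, hΔ⟩ := exists_isDiv pd D hD tD htD
  obtain ⟨tH, htH, -⟩ := Groth.Agent.Helper4.SN555.exists_gen H hH
  obtain ⟨Η, hΗ⟩ := exists_isDiv pd H hH tH htH
  obtain ⟨tN, htN, -⟩ := Groth.Agent.Helper4.SN555.exists_gen N hN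
  obtain ⟨Ν, hΝ⟩ := exists_isDiv pd N hN tN htN
  have hbpf := ell_sub_single_lt pd D hD hgD tD Δ hΔ
  have hΔdeg : Δ.deg = 5 := by
    rw [← Groth.Agent.Helper4.SN552.deg_eq_of_isDiv pd D hD tD Δ hΔ, hdD]
  have hΔl : ell Δ = 2 := by
    rw [← Groth.Agent.Helper4.SN559.finrank_h0_eq_ell pd D hD tD Δ hΔ, h0D]
  have hΗdeg : Η.deg = 7 := by
    rw [← Groth.Agent.Helper4.SN552.deg_eq_of_isDiv pd H hH tH Η hΗ, hdH]
  have hΗl : ell Η = 3 := by
    rw [← Groth.Agent.Helper4.SN559.finrank_h0_eq_ell pd H hH tH Η hΗ, h0H]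
  have h1 := Groth.Agent.Helper4.SN571.isDiv_tensor pd hD hN hΔ hΝ
  have h2 := Groth.Agent.Helper4.SN555.sub_mem_prinDivs_of_iso pd e hH h1 hΗ
  have h3 : Ν - (Η - Δ) ∈ prinDivs k X.functionField := by
    have : Ν - (Η - Δ) = Δ + Ν - Η := by abel
    rw [this]
    exact h2
  rw [Groth.Agent.Helper4.SN559.finrank_h0_eq_ell pd N hN tN Ν hΝ,
    ell_eq_of_sub_mem k X pd _ _ h3]
  exact Groth.Agent.Helper4.SN603.ell_sub_eq_one pd.hK C hC2 hgen hCl Η Δ hΗdeg hΗl hΔdeg hΔl hbpf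

include hdim hreg in
/-- **S16320** -/
theorem main16320 (hg : Curv2.genus k X = 9)
    (hmin : ∀ M : X.Modules, PicF.IsInvertible M → 2 ≤ Module.finrank k (Coh.HH X M 0) →
      2 ≤ Module.finrank k (Coh.HH X M 1) →
        2 * (Module.finrank k (Coh.HH X M 0) : ℤ) + 1 ≤ Curv2.deg k X M 1)
    (D : X.Modules) (hD : PicF.IsInvertible D) (hgD : Curv2.IsGloballyGenerated D)
    (hdD : Curv2.deg k X D 1 = 5) (h0D : Module.finrank k (Coh.HH X D 0) = 2) :
    (Module.finrank k (Coh.HH X (CohB1.tensorPow D 2) 0) = 3 ∨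
        Module.finrank k (Coh.HH X (CohB1.tensorPow D 2) 0) = 4) ∧
      (Module.finrank k (Coh.HH X (CohB1.tensorPow D 3) 0) = 7 ∨
        Module.finrank k (Coh.HH X (CohB1.tensorPow D 3) 0) = 8) ∧
      (Module.finrank k (Coh.HH X (CohB1.tensorPow D 2) 0) = 3 →
        Module.finrank k (Coh.HH X (CohB1.tensorPow D 3) 0) = 7) := by
  obtain ⟨pd⟩ := Groth.Agent.Helper4.SN568.nonempty_placeData k X hdim hreg
  obtain ⟨ω, C, hC1, hC2⟩ := Groth.Agent.Helper4.SN568.exists_canon k X hdim hreg pd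
  have hd1 : ∀ P : Place k X.functionField, P.deg = 1 := fun P =>
    Groth.Agent.Helper5.FF.deg_eq_one_of_isAlgClosed pd.hK P
  have hgen : FunFld.genus k X.functionField = 9 := by
    rw [← Groth.Agent.Helper4.SN560.genus_eq pd, hg]
  have hCl := hCl_of_hmin k X hdim hreg pd C hC2 1 hmin
  obtain ⟨tD, htD, -⟩ := Groth.Agent.Helper4.SN555.exists_gen D hD
  obtain ⟨Δ, hΔ⟩ := exists_isDiv pd D hD tD htD
  have hbpf := ell_sub_single_lt pd D hD hgD tD Δ hΔ
  have hΔdeg : Δ.deg = 5 := by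
    rw [← Groth.Agent.Helper4.SN552.deg_eq_of_isDiv pd D hD tD Δ hΔ, hdD]
  have hΔl : ell Δ = 2 := by
    rw [← Groth.Agent.Helper4.SN559.finrank_h0_eq_ell pd D hD tD Δ hΔ, h0D]
  obtain ⟨u2, hu2⟩ := Groth.Agent.Helper4.SN592.exists_isDiv_tensorPow pd hD hΔ 2
  obtain ⟨u3, hu3⟩ := Groth.Agent.Helper4.SN592.exists_isDiv_tensorPow pd hD hΔ 3
  rw [Groth.Agent.Helper4.SN559.finrank_h0_eq_ell pd _
      (Groth.Agent.Helper4.TensorInv.isInvertible_tensorPow hD _) u2 _ hu2,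
    Groth.Agent.Helper4.SN559.finrank_h0_eq_ell pd _
      (Groth.Agent.Helper4.TensorInv.isInvertible_tensorPow hD _) u3 _ hu3]
  exact Groth.Agent.Helper4.SN603.ell_nsmul pd.hK hd1 C hC2 hgen hCl Δ hΔdeg hΔl hbpf

include hdim hreg in
/-- **S16322** -/
theorem main16322 (hg : Curv2.genus k X = 9)
    (hmin : ∀ M : X.Modules, PicF.IsInvertible M → 2 ≤ Module.finrank k (Coh.HH X M 0) →
      2 ≤ Module.finrank k (Coh.HH X M 1) →
        2 * (Module.finrank k (Coh.HH X M 0) : ℤ) + 1 ≤ Curv2.deg k X M 1)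
    (D₁ D₂ : X.Modules) (h₁ : PicF.IsInvertible D₁) (h₂ : PicF.IsInvertible D₂)
    (hg₁ : Curv2.IsGloballyGenerated D₁)
    (hd₁ : Curv2.deg k X D₁ 1 = 5) (hd₂ : Curv2.deg k X D₂ 1 = 5)
    (h0₁ : Module.finrank k (Coh.HH X D₁ 0) = 2) (h0₂ : Module.finrank k (Coh.HH X D₂ 0) = 2)
    (hne : IsEmpty (D₁ ≅ D₂)) :
    Module.finrank k (Coh.HH X (CohB1.tensorMod D₁ D₂) 0) = 4 := by
  obtain ⟨pd⟩ := Groth.Agent.Helper4.SN568.nonempty_placeData k X hdim hreg
  obtain ⟨ω, C, hC1, hC2⟩ := Groth.Agent.Helper4.SN568.exists_canon k X hdim hreg pd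
  have hgen : FunFld.genus k X.functionField = 9 := by
    rw [← Groth.Agent.Helper4.SN560.genus_eq pd, hg]
  have hCl := hCl_of_hmin k X hdim hreg pd C hC2 1 hmin
  obtain ⟨t₁, ht₁, -⟩ := Groth.Agent.Helper4.SN555.exists_gen D₁ h₁
  obtain ⟨Δ₁, hΔ₁⟩ := exists_isDiv pd D₁ h₁ t₁ ht₁
  obtain ⟨t₂, ht₂, -⟩ := Groth.Agent.Helper4.SN555.exists_gen D₂ h₂
  obtain ⟨Δ₂, hΔ₂⟩ := exists_isDiv pd D₂ h₂ t₂ ht₂
  have hbpf := ell_sub_single_lt pd D₁ h₁ hg₁ t₁ Δ₁ hΔ₁
  have hdeg₁ : Δ₁.deg = 5 := by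
    rw [← Groth.Agent.Helper4.SN552.deg_eq_of_isDiv pd D₁ h₁ t₁ Δ₁ hΔ₁, hd₁]
  have hdeg₂ : Δ₂.deg = 5 := by
    rw [← Groth.Agent.Helper4.SN552.deg_eq_of_isDiv pd D₂ h₂ t₂ Δ₂ hΔ₂, hd₂]
  have hl₁ : ell Δ₁ = 2 := by
    rw [← Groth.Agent.Helper4.SN559.finrank_h0_eq_ell pd D₁ h₁ t₁ Δ₁ hΔ₁, h0₁]
  have hl₂ : ell Δ₂ = 2 := by
    rw [← Groth.Agent.Helper4.SN559.finrank_h0_eq_ell pd D₂ h₂ t₂ Δ₂ hΔ₂, h0₂]
  have hnp : Δ₂ - Δ₁ ∉ prinDivs k X.functionField := by
    intro hp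
    obtain ⟨α⟩ := Groth.Agent.Helper4.SN555.nonempty_iso_of_sub_mem pd h₂ h₁ hΔ₂ hΔ₁ hp
    exact hne.false α.symm
  have h12 := Groth.Agent.Helper4.SN571.isDiv_tensor pd h₁ h₂ hΔ₁ hΔ₂
  rw [Groth.Agent.Helper4.SN559.finrank_h0_eq_ell pd _
    (Groth.Agent.Helper4.TensorInv.isInvertible_tensorMod h₁ h₂) _ _ h12]
  exact Groth.Agent.Helper4.SN603.ell_add_eq_four pd.hK C hC2 hgen hCl Δ₁ Δ₂ hdeg₁ hdeg₂ hl₁ hl₂
    hbpf hnp

end Nine

end Groth.Agent.Helper4.SN604
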