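import Mathlib

/-!
# A finite ring map which is "unramified and radicial at maximal ideals" is surjective
-/

set_option autoImplicit false

namespace Groth.Agent.Helper4.SN605

/-- a finitely generated module `Q` with `m • Q = Q` for every maximal ideal `m` is zero -/
theorem subsingleton_of_forall_maximal_smul_eq_top {A Q : Type*} [CommRing A] [AddCommGroup Q]
    [Module A Q] [Module.Finite A Q]
    (h : ∀ m : Ideal A, m.IsMaximal → m • (⊤ : Submodule A Q) = ⊤) : Subsingleton Q := by
  by_contra hns
  rw [not_subsingleton_iff_nontrivial] at hns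
  have hann : Module.annihilator A Q ≠ ⊤ := by
    intro htop
    have h1 : (1 : A) ∈ Module.annihilator A Q := htop ▸ Submodule.mem_top
    rw [Module.mem_annihilator] at h1
    obtain ⟨x, hx⟩ := exists_ne (0 : Q)
    exact hx (by simpa using h1 x)
  obtain ⟨m, hm, hle⟩ := Ideal.exists_le_maximal _ hann
  have hfg : (⊤ : Submodule A Q).FG := Module.finite_def.mp inferInstance
  obtain ⟨r, hr1, hr2⟩ := Submodule.exists_sub_one_mem_and_smul_eq_zero_of_fg_of_le_smul m ⊤ hfg
    (h m hm).ge
  have hr : r ∈ Module.annihilator A Q := by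
    rw [Module.mem_annihilator]
    intro x
    exact hr2 x Submodule.mem_top
  have h1 : r ∈ m := hle hr
  have h2 : (1 : A) ∈ m := by
    have := m.sub_mem h1 hr1
    simpa using this
  exact hm.ne_top (m.eq_top_of_isUnit_mem h2 isUnit_one)

variable {A B : Type*} [CommRing A] [CommRing B] [Algebra A B] [Module.Finite A B]

/-- **surjectivity criterion** -/
theorem surjective_of_finite
    (huniq : ∀ n n' : Ideal B, n.IsMaximal → n'.IsMaximal →
      n.comap (algebraMap A B) = n'.comap (algebraMap A B) → n = n')
    (hram : ∀ n : Ideal B, n.IsMaximal → ∀ x ∈ n, ∃ s, s ∉ n ∧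
      s * x ∈ (n.comap (algebraMap A B)).map (algebraMap A B))
    (hres : ∀ n : Ideal B, n.IsMaximal → ∀ b : B, ∃ a : A, b - algebraMap A B a ∈ n) :
    Function.Surjective (algebraMap A B) := by
  set N : Submodule A B := LinearMap.range (Algebra.linearMap A B) with hN
  suffices hN' : N = ⊤ by
    intro b
    have : b ∈ N := hN' ▸ Submodule.mem_top
    obtain ⟨a, ha⟩ := this
    exact ⟨a, ha⟩
  haveI : Module.Finite A (B ⧸ N) := Module.Finite.quotient A N
  -- the key decomposition
  have hdec : ∀ (m : Ideal A), m.IsMaximal → ∀ b : B,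
      ∃ a : A, b - algebraMap A B a ∈ m.map (algebraMap A B) := by
    intro m hm b
    by_cases hmB : m.map (algebraMap A B) = ⊤
    · exact ⟨0, hmB ▸ Submodule.mem_top⟩
    · obtain ⟨n, hn, hle⟩ := Ideal.exists_le_maximal _ hmB
      have hcomap : n.comap (algebraMap A B) = m := by
        have h1 : m ≤ n.comap (algebraMap A B) := Ideal.map_le_iff_le_comap.mp hle
        have h2 : n.comap (algebraMap A B) ≠ ⊤ := Ideal.comap_ne_top _ hn.ne_top
        exact (hm.eq_of_le h2 h1).symm
      obtain ⟨a, ha⟩ := hres n hn b
      refine ⟨a, ?_⟩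
      -- `n ≤ m B`
      obtain ⟨s, hs, hsx⟩ := hram n hn _ ha
      rw [hcomap] at hsx
      have hsup : Ideal.span {s} ⊔ m.map (algebraMap A B) = ⊤ := by
        by_contra hne
        obtain ⟨n', hn', hle'⟩ := Ideal.exists_le_maximal _ hne
        have hcomap' : n'.comap (algebraMap A B) = m := by
          have h1 : m ≤ n'.comap (algebraMap A B) :=
            Ideal.map_le_iff_le_comap.mp (le_sup_right.trans hle')
          have h2 : n'.comap (algebraMap A B) ≠ ⊤ := Ideal.comap_ne_top _ hn'.ne_top
          exact (hm.eq_of_le h2 h1).symm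
        have := huniq n n' hn hn' (hcomap.trans hcomap'.symm)
        apply hs
        rw [this]
        exact hle' (le_sup_left (a := Ideal.span {s}) (Ideal.mem_span_singleton_self s))
      have h1 : (1 : B) ∈ Ideal.span {s} ⊔ m.map (algebraMap A B) := hsup ▸ Submodule.mem_top
      obtain ⟨y, hy, c, hc, hyc⟩ := Submodule.mem_sup.mp h1
      obtain ⟨u, rfl⟩ := Ideal.mem_span_singleton'.mp hy
      have h2 : b - algebraMap A B a = u * (s * (b - algebraMap A B a)) +
          c * (b - algebraMap A B a) := by
        linear_combination (-(b - algebraMap A B a)) * hyc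
      rw [h2]
      exact Ideal.add_mem _ (Ideal.mul_mem_left _ u hsx) (Ideal.mul_mem_right _ _ hc)
  have key : Subsingleton (B ⧸ N) := by
    apply subsingleton_of_forall_maximal_smul_eq_top (A := A)
    intro m hm
    rw [eq_top_iff]
    rintro q -
    obtain ⟨b, rfl⟩ := Submodule.Quotient.mk_surjective N q
    obtain ⟨a, ha⟩ := hdec m hm b
    have h1 : (Submodule.Quotient.mk b : B ⧸ N) =
        Submodule.Quotient.mk (b - algebraMap A B a) := by
      rw [Submodule.Quotient.eq]
      exact ⟨a, by simp [Algebra.linearMap_apply]⟩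
    rw [h1]
    have h2 : b - algebraMap A B a ∈ m • (⊤ : Submodule A B) := by
      rw [Ideal.smul_top_eq_map]
      exact ha
    have h3 : (m • (⊤ : Submodule A B)).map N.mkQ = m • (⊤ : Submodule A (B ⧸ N)) := by
      rw [Submodule.map_smul'', Submodule.map_top, Submodule.range_mkQ]
    rw [← h3]
    exact Submodule.mem_map_of_mem h2
  rw [Submodule.Quotient.subsingleton_iff] at key
  exact key

end Groth.Agent.Helper4.SN605
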