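import Mathlib
import Groth.Agent.Helper4.SN605

/-!
# Surjectivity of a finite map on sections from conditions at closed points
-/

set_option autoImplicit false
set_option linter.style.haveILetI false
universe u
open CategoryTheory AlgebraicGeometry TopologicalSpace Opposite

namespace Groth.Agent.Helper4.SN606

variable {X Y : Scheme.{u}}

/-- the point of an affine open attached to a maximal ideal is closed in a Jacobson scheme -/
theorem isClosed_fromSpec [JacobsonSpace X] {V : X.Opens} (hV : IsAffineOpen V)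
    (n : Ideal Γ(X, V)) [hn : n.IsMaximal] :
    IsClosed ({hV.fromSpec ⟨n, hn.isPrime⟩} : Set X) := by
  have h1 : (⟨n, hn.isPrime⟩ : PrimeSpectrum Γ(X, V)) ∈ closedPoints (PrimeSpectrum Γ(X, V)) := by
    rw [mem_closedPoints_iff, PrimeSpectrum.isClosed_singleton_iff_isMaximal]
    exact hn
  have h2 := (hV.fromSpec.isOpenEmbedding).preimage_closedPoints
  have h3 : (⟨n, hn.isPrime⟩ : PrimeSpectrum Γ(X, V)) ∈
      hV.fromSpec ⁻¹' closedPoints X := by
    rw [h2]; exact h1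
  exact h3

theorem mem_iff_germ_mem {V : X.Opens} (hV : IsAffineOpen V)
    (y : PrimeSpectrum Γ(X, V)) (hy : hV.fromSpec y ∈ V) (b : Γ(X, V)) :
    X.presheaf.germ V (hV.fromSpec y) hy b ∈
      IsLocalRing.maximalIdeal (X.presheaf.stalk (hV.fromSpec y)) ↔ b ∈ y.asIdeal := by
  have h := hV.isLocalization_stalk' y hy
  letI : Algebra Γ(X, V) (X.presheaf.stalk (hV.fromSpec y)) :=
    TopCat.Presheaf.algebra_section_stalk X.presheaf ⟨hV.fromSpec y, hy⟩
  haveI : IsLocalization.AtPrime (X.presheaf.stalk (hV.fromSpec y)) y.asIdeal := h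
  exact IsLocalization.AtPrime.to_map_mem_maximal_iff (X.presheaf.stalk (hV.fromSpec y))
    y.asIdeal b

/-- **surjectivity on sections from conditions at closed points** -/
theorem surjective_app_of_closedPoints (f : X ⟶ Y) [JacobsonSpace X]
    (U : Y.Opens) (hV : IsAffineOpen (f ⁻¹ᵁ U)) (hfin : (f.app U).hom.Finite)
    (ha : ∀ (P Q : X) (hP : P ∈ f ⁻¹ᵁ U) (hQ : Q ∈ f ⁻¹ᵁ U), IsClosed ({P} : Set X) →
      IsClosed ({Q} : Set X) →
      (∀ a : Γ(Y, U), X.presheaf.germ _ P hP (f.app U a) ∈ IsLocalRing.maximalIdeal _ ↔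
         X.presheaf.germ _ Q hQ (f.app U a) ∈ IsLocalRing.maximalIdeal _) → P = Q)
    (hb : ∀ (P : X) (hP : P ∈ f ⁻¹ᵁ U), IsClosed ({P} : Set X) →
      IsLocalRing.maximalIdeal (X.presheaf.stalk P) ≤
        Ideal.span {x | ∃ a : Γ(Y, U), x = X.presheaf.germ _ P hP (f.app U a) ∧
          x ∈ IsLocalRing.maximalIdeal _})
    (hc : ∀ (P : X) (hP : P ∈ f ⁻¹ᵁ U), IsClosed ({P} : Set X) →
      ∀ b : Γ(X, f ⁻¹ᵁ U), ∃ a : Γ(Y, U),
        X.presheaf.germ _ P hP (b - f.app U a) ∈ IsLocalRing.maximalIdeal _) :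
    Function.Surjective (f.app U) := by
  letI : Algebra Γ(Y, U) Γ(X, f ⁻¹ᵁ U) := (f.app U).hom.toAlgebra
  haveI : Module.Finite Γ(Y, U) Γ(X, f ⁻¹ᵁ U) := hfin
  have hmem : ∀ (n : Ideal Γ(X, f ⁻¹ᵁ U)) (hn : n.IsMaximal),
      hV.fromSpec ⟨n, hn.isPrime⟩ ∈ f ⁻¹ᵁ U := by
    intro n hn
    have : hV.fromSpec ⟨n, hn.isPrime⟩ ∈ Set.range hV.fromSpec := ⟨_, rfl⟩
    rwa [hV.range_fromSpec] at this
  have hsurj := Groth.Agent.Helper4.SN605.surjective_of_finite (A := Γ(Y, U))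
    (B := Γ(X, f ⁻¹ᵁ U)) ?_ ?_ ?_
  · exact hsurj
  · -- uniqueness
    intro n n' hn hn' hcomap
    have hPQ := ha _ _ (hmem n hn) (hmem n' hn') (isClosed_fromSpec hV n (hn := hn))
      (isClosed_fromSpec hV n' (hn := hn')) ?_
    · have := hV.fromSpec.isOpenEmbedding.injective hPQ
      exact congrArg PrimeSpectrum.asIdeal this
    · intro a
      rw [mem_iff_germ_mem hV ⟨n, hn.isPrime⟩ (hmem n hn),
        mem_iff_germ_mem hV ⟨n', hn'.isPrime⟩ (hmem n' hn')]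
      have h1 : (f.app U a ∈ n) ↔ a ∈ n.comap (algebraMap Γ(Y, U) Γ(X, f ⁻¹ᵁ U)) := Iff.rfl
      have h2 : (f.app U a ∈ n') ↔ a ∈ n'.comap (algebraMap Γ(Y, U) Γ(X, f ⁻¹ᵁ U)) := Iff.rfl
      show (f.app U a ∈ n) ↔ (f.app U a ∈ n')
      rw [h1, h2, hcomap]
  · -- ramification
    intro n hn x hx
    set y : PrimeSpectrum Γ(X, f ⁻¹ᵁ U) := ⟨n, hn.isPrime⟩ with hy
    have hyV := hmem n hn
    have h := hV.isLocalization_stalk' y hyV
    letI : Algebra Γ(X, f ⁻¹ᵁ U) (X.presheaf.stalk (hV.fromSpec y)) :=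
      TopCat.Presheaf.algebra_section_stalk X.presheaf ⟨hV.fromSpec y, hyV⟩
    haveI : IsLocalization.AtPrime (X.presheaf.stalk (hV.fromSpec y)) y.asIdeal := h
    have hgx : X.presheaf.germ _ (hV.fromSpec y) hyV x ∈ IsLocalRing.maximalIdeal _ :=
      (mem_iff_germ_mem hV y hyV x).mpr hx
    have h1 := hb _ hyV (isClosed_fromSpec hV n (hn := hn)) hgx
    have h2 : Ideal.span {x | ∃ a : Γ(Y, U),
        x = X.presheaf.germ _ (hV.fromSpec y) hyV (f.app U a) ∧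
          x ∈ IsLocalRing.maximalIdeal _} ≤
        Ideal.map (algebraMap Γ(X, f ⁻¹ᵁ U) (X.presheaf.stalk (hV.fromSpec y)))
          ((n.comap (algebraMap Γ(Y, U) Γ(X, f ⁻¹ᵁ U))).map
            (algebraMap Γ(Y, U) Γ(X, f ⁻¹ᵁ U))) := by
      rw [Ideal.span_le]
      rintro _ ⟨a, rfl, ha'⟩
      have h3 : f.app U a ∈ n := (mem_iff_germ_mem hV y hyV _).mp ha'
      exact Ideal.mem_map_of_mem _ (Ideal.mem_map_of_mem _ h3)
    have h4 := h2 h1
    obtain ⟨s, hs, hsx⟩ := (IsLocalization.algebraMap_mem_map_algebraMap_iff y.asIdeal.primeCompl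
      (X.presheaf.stalk (hV.fromSpec y)) _ x).mp h4
    exact ⟨s, hs, hsx⟩
  · -- residue fields
    intro n hn b
    obtain ⟨a, ha'⟩ := hc _ (hmem n hn) (isClosed_fromSpec hV n (hn := hn)) b
    exact ⟨a, (mem_iff_germ_mem hV ⟨n, hn.isPrime⟩ (hmem n hn) _).mp ha'⟩

end Groth.Agent.Helper4.SN606
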