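import Mathlib

/-!
# A proper morphism which is injective on closed points of a Jacobson scheme is finite
-/

set_option autoImplicit false
universe u
open CategoryTheory AlgebraicGeometry TopologicalSpace Opposite

namespace Groth.Agent.Helper4.SN607

variable {X Y : Scheme.{u}}

theorem preimage_singleton_of_injOn_closedPoints (f : X ⟶ Y) [IsProper f] [JacobsonSpace X]
    (hinj : ∀ P Q : X, IsClosed ({P} : Set X) → IsClosed ({Q} : Set X) → f P = f Q → P = Q)
    (P : X) (hP : IsClosed ({P} : Set X)) : f ⁻¹' {f P} = {P} := by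
  have hfP : IsClosed ({f P} : Set Y) := by
    have := f.isClosedMap _ hP
    rwa [Set.image_singleton] at this
  have hZ : IsClosed (f ⁻¹' {f P}) := hfP.preimage f.continuous
  have h1 := JacobsonSpace.closure_inter_closedPoints hZ
  have h2 : f ⁻¹' {f P} ∩ closedPoints X ⊆ {P} := by
    rintro Q ⟨hQ1, hQ2⟩
    exact hinj Q P hQ2 hP hQ1
  apply Set.Subset.antisymm
  · rw [← h1]
    exact (closure_mono h2).trans (by rw [hP.closure_eq])
  · rintro _ rfl
    rfl

theorem isFinite_of_injOn_closedPoints (f : X ⟶ Y) [IsProper f] [JacobsonSpace X]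
    [CompactSpace X]
    (hinj : ∀ P Q : X, IsClosed ({P} : Set X) → IsClosed ({Q} : Set X) → f P = f Q → P = Q) :
    IsFinite f := by
  suffices LocallyQuasiFinite f from .of_isProper_of_locallyQuasiFinite _
  rw [← Scheme.Hom.quasiFiniteLocus_eq_top_iff]
  by_contra hne
  have hcl : IsClosed ((f.quasiFiniteLocus : Set X)ᶜ) := f.quasiFiniteLocus.isOpen.isClosed_compl
  have hne' : ((f.quasiFiniteLocus : Set X)ᶜ).Nonempty := by
    rw [Set.nonempty_compl]
    intro h
    apply hne
    exact SetLike.coe_injective h
  obtain ⟨P, hP, hPcl⟩ := IsClosed.exists_closed_singleton hcl hne'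
  apply hP
  have hfib := preimage_singleton_of_injOn_closedPoints f hinj P hPcl
  have : Finite (f.fiber (f P)) := by
    rw [(f.fiberHomeo (f P)).finite_iff, hfib]
    exact Set.finite_singleton P
  exact Scheme.Hom.quasiFiniteAt_iff_isOpen_singleton_asFiber.mpr (isOpen_discrete _)

end Groth.Agent.Helper4.SN607
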