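import Mathlib
import Groth.Agent.Helper4.SN549
import Groth.Agent.Helper4.SN604
import Groth.Agent.Helper4.GeomIrrGen

/-!
# Frames of a module at stalks (no integrality assumption) and vanishing of sections at points
-/

set_option autoImplicit false
set_option linter.style.haveILetI false
set_option linter.unusedSectionVars false
universe u
open CategoryTheory CategoryTheory.Limits AlgebraicGeometry TopologicalSpace Opposite

namespace Groth.Agent.Helper4.SN608

open Groth.Agent.Helper4.StalkDict Groth.Agent.Helper4.TwistExt Groth.Agent.Helper4.SN200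

variable {X : Scheme.{u}}

section Frame

variable {L : X.Modules} {T : X.Opens} {e : Γ(L, T)} (he : IsFrame L T e)
include he

/-- every element of the stalk at a point of a frame is a multiple of the germ of the frame -/
theorem exists_smul_germ (x : X) (hx : x ∈ T) (m : L.presheaf.stalk x) :
    ∃ a : X.presheaf.stalk x, m = a • L.presheaf.germ T x hx e := by
  obtain ⟨W, hxW, s, rfl⟩ := TopCat.Presheaf.exists_germ_eq L.presheaf m
  have hle : W ⊓ T ≤ T := inf_le_right
  have hle' : W ⊓ T ≤ W := inf_le_left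
  set s' := L.presheaf.map (homOfLE hle').op s with hs'
  have h1 := coord_spec he hle s'
  refine ⟨X.presheaf.germ (W ⊓ T) x ⟨hxW, hx⟩ (coord he hle s'), ?_⟩
  have h2 : L.presheaf.germ W x hxW s = L.presheaf.germ (W ⊓ T) x ⟨hxW, hx⟩ s' :=
    (TopCat.Presheaf.germ_res_apply L.presheaf (homOfLE hle') x ⟨hxW, hx⟩ s).symm
  have h3 : L.presheaf.germ T x hx e =
      L.presheaf.germ (W ⊓ T) x ⟨hxW, hx⟩ (L.presheaf.map (homOfLE hle).op e) :=
    (TopCat.Presheaf.germ_res_apply L.presheaf (homOfLE hle) x ⟨hxW, hx⟩ e).symm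
  rw [h2, h3, ← germ_smul, ← h1]

/-- the germ of a frame is torsion free -/
theorem smul_germ_eq_zero (x : X) (hx : x ∈ T) (a : X.presheaf.stalk x)
    (h : a • L.presheaf.germ T x hx e = 0) : a = 0 := by
  obtain ⟨W, hxW, r, rfl⟩ := TopCat.Presheaf.exists_germ_eq X.presheaf a
  have hle : W ⊓ T ≤ T := inf_le_right
  have hle' : W ⊓ T ≤ W := inf_le_left
  have h3 : L.presheaf.germ T x hx e =
      L.presheaf.germ (W ⊓ T) x ⟨hxW, hx⟩ (L.presheaf.map (homOfLE hle).op e) :=
    (TopCat.Presheaf.germ_res_apply L.presheaf (homOfLE hle) x ⟨hxW, hx⟩ e).symm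
  have h4 : X.presheaf.germ W x hxW r =
      X.presheaf.germ (W ⊓ T) x ⟨hxW, hx⟩ (X.presheaf.map (homOfLE hle').op r) :=
    (TopCat.Presheaf.germ_res_apply X.presheaf (homOfLE hle') x ⟨hxW, hx⟩ r).symm
  rw [h3, h4, ← germ_smul] at h
  set r' := X.presheaf.map (homOfLE hle').op r with hr'
  have h0 : L.presheaf.germ (W ⊓ T) x ⟨hxW, hx⟩ (r' • L.presheaf.map (homOfLE hle).op e) =
      L.presheaf.germ (W ⊓ T) x ⟨hxW, hx⟩ 0 := by rw [h, map_zero]
  obtain ⟨V, hxV, i1, i2, hV⟩ := TopCat.Presheaf.germ_eq L.presheaf x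
    (show x ∈ W ⊓ T from ⟨hxW, hx⟩) (show x ∈ W ⊓ T from ⟨hxW, hx⟩) _ _ h0
  have hVle : V ≤ W ⊓ T := i1.le
  have h5 : L.presheaf.map (homOfLE hVle).op (r' • L.presheaf.map (homOfLE hle).op e) = 0 := by
    have : L.presheaf.map i2.op (0 : Γ(L, W ⊓ T)) = 0 := map_zero _
    rw [this] at hV
    exact hV
  rw [Groth.Agent.Helper4.QcohExt.res_smul, map_map] at h5
  have h6 := (he V (hVle.trans hle)).2 _ h5
  rw [h4, ← TopCat.Presheaf.germ_res_apply X.presheaf (homOfLE hVle) x hxV r', h6, map_zero]

/-- membership of a multiple of the frame in `I • ⊤` -/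
theorem smul_germ_mem_smul_top_iff (x : X) (hx : x ∈ T) (I : Ideal (X.presheaf.stalk x))
    (a : X.presheaf.stalk x) :
    a • L.presheaf.germ T x hx e ∈
      I • (⊤ : Submodule (X.presheaf.stalk x) (L.presheaf.stalk x)) ↔ a ∈ I := by
  constructor
  · intro h
    have key : ∀ m ∈ I • (⊤ : Submodule (X.presheaf.stalk x) (L.presheaf.stalk x)),
        ∃ a' ∈ I, m = a' • L.presheaf.germ T x hx e := by
      intro m hm
      refine Submodule.smul_induction_on hm ?_ ?_
      · intro r hr n _
        obtain ⟨b, rfl⟩ := exists_smul_germ he x hx n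
        exact ⟨r * b, I.mul_mem_right _ hr, (mul_smul _ _ _).symm⟩
      · rintro m₁ m₂ ⟨a₁, ha₁, rfl⟩ ⟨a₂, ha₂, rfl⟩
        exact ⟨a₁ + a₂, I.add_mem ha₁ ha₂, (add_smul _ _ _).symm⟩
    obtain ⟨a', ha', h'⟩ := key _ h
    have h0 : (a - a') • L.presheaf.germ T x hx e = 0 := by rw [sub_smul, h', sub_self]
    have := smul_germ_eq_zero he x hx _ h0
    rw [sub_eq_zero] at this
    rw [this]; exact ha'
  · intro h
    exact Submodule.smul_mem_smul h Submodule.mem_top

end Frame

section Eval

variable {k : Type u} [Field k] (pX : X ⟶ Spec (CommRingCat.of k))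

/-- constants in the local ring at a point -/
noncomputable def cst (P : X) : k →+* X.presheaf.stalk P :=
  (X.presheaf.germ ⊤ P trivial).hom.comp (ProjUP.toGlobal pX)

/-- constants in the residue field at a point -/
noncomputable def resk (P : X) : k →+* X.residueField P :=
  (X.residue P).hom.comp (cst pX P)

theorem specMap_resk (P : X) :
    Spec.map (CommRingCat.ofHom (resk pX P)) = X.fromSpecResidueField P ≫ pX := by
  letI : X.Over (Spec (CommRingCat.of k)) := ⟨pX⟩
  exact Groth.Agent.Helper4.GeomIrrGen.specMap_resMap (k := k) (X := X) P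

theorem resk_bijective [IsAlgClosed k] [LocallyOfFiniteType pX] (P : X)
    (hP : IsClosed ({P} : Set X)) : Function.Bijective (resk pX P) := by
  have h1 : CommRingCat.ofHom (resk pX P) = (residueFieldIsoBase pX P hP).inv := by
    apply Spec.map_injective
    rw [specMap_resk, SpecMap_residueFieldIsoBase_inv]
  have h2 : Function.Bijective (residueFieldIsoBase pX P hP).inv.hom :=
    ConcreteCategory.bijective_of_isIso (residueFieldIsoBase pX P hP).inv
  rw [← h1] at h2
  exact h2

variable [IsAlgClosed k] [LocallyOfFiniteType pX]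

/-- evaluation of a germ at a closed point -/
noncomputable def ev (P : X) (hP : IsClosed ({P} : Set X)) : X.presheaf.stalk P →+* k :=
  (RingEquiv.ofBijective (resk pX P) (resk_bijective pX P hP)).symm.toRingHom.comp
    (X.residue P).hom

theorem ev_cst (P : X) (hP : IsClosed ({P} : Set X)) (c : k) : ev pX P hP (cst pX P c) = c := by
  unfold ev
  rw [RingHom.comp_apply]
  exact (RingEquiv.ofBijective (resk pX P) (resk_bijective pX P hP)).symm_apply_apply c

theorem ev_eq_zero_iff (P : X) (hP : IsClosed ({P} : Set X)) (x : X.presheaf.stalk P) :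
    ev pX P hP x = 0 ↔ x ∈ IsLocalRing.maximalIdeal (X.presheaf.stalk P) := by
  unfold ev
  rw [RingHom.comp_apply]
  have h1 : ∀ y : X.residueField P,
      (RingEquiv.ofBijective (resk pX P) (resk_bijective pX P hP)).symm.toRingHom y = 0 ↔
        y = 0 := fun y => map_eq_zero_iff _ (RingEquiv.injective _)
  rw [h1]
  exact IsLocalRing.residue_eq_zero_iff x

theorem sub_cst_ev_mem (P : X) (hP : IsClosed ({P} : Set X)) (x : X.presheaf.stalk P) :
    x - cst pX P (ev pX P hP x) ∈ IsLocalRing.maximalIdeal (X.presheaf.stalk P) := by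
  rw [← ev_eq_zero_iff pX P hP, map_sub, ev_cst, sub_self]

theorem ev_eq_of_sub_mem (P : X) (hP : IsClosed ({P} : Set X)) (x : X.presheaf.stalk P) (c : k)
    (h : x - cst pX P c ∈ IsLocalRing.maximalIdeal (X.presheaf.stalk P)) : ev pX P hP x = c := by
  rw [← ev_eq_zero_iff pX P hP, map_sub, ev_cst, sub_eq_zero] at h
  exact h

end Eval

end Groth.Agent.Helper4.SN608
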