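import Mathlib
import Groth.Agent.Helper4.SN608
import Groth.Agent.Helper1.PUP9

/-!
# Linear systems: vanishing of sections at closed points in terms of ratios
-/

set_option autoImplicit false
set_option linter.style.haveILetI false
set_option linter.unusedSectionVars false
universe u
open CategoryTheory CategoryTheory.Limits AlgebraicGeometry TopologicalSpace Opposite

namespace Groth.Agent.Helper4.SN609

open Groth.Agent.Helper4.StalkDict Groth.Agent.Helper4.TwistExt Groth.Agent.Helper4.SN200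
  Groth.Agent.Helper4.SN608 Groth.Agent.Helper1.PUP

variable {X : Scheme.{u}} {k : Type u} [Field k] (pX : X ⟶ Spec (CommRingCat.of k))
  {L : X.Modules} {n : ℕ} (σ : Fin (n + 1) → (Coh.structureModule X ⟶ L))

/-- the section attached to a vector of coefficients -/
noncomputable def lin (c : Fin (n + 1) → k) : Γ(L, ⊤) :=
  ∑ j, ProjUP.toGlobal pX (c j) • sec (σ j) ⊤

/-- the frame of `L` over `XE σ e` -/
theorem isFrame_XE (e : Fin (n + 1)) : IsFrame L (XE σ e) (sec (σ e) (XE σ e)) :=
  Groth.Agent.Helper4.SN604.isFrame_genLocus L (σ e)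

/-- the coefficient function of `lin c` with respect to the frame over `XE σ e` -/
noncomputable def coef (e : Fin (n + 1)) (P : X) (hP : P ∈ XE σ e) (c : Fin (n + 1) → k) :
    X.presheaf.stalk P :=
  ∑ j, cst pX P (c j) * X.presheaf.germ (XE σ e) P hP (ratio σ j e)

theorem germ_sec_top (j : Fin (n + 1)) (P : X) (W : X.Opens) (hP : P ∈ W) :
    L.presheaf.germ ⊤ P trivial (sec (σ j) ⊤) = L.presheaf.germ W P hP (sec (σ j) W) := by
  rw [← sec_res (σ j) (le_top : W ≤ ⊤)]
  exact (TopCat.Presheaf.germ_res_apply L.presheaf (homOfLE (le_top : W ≤ ⊤)) P hP _).symm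

theorem germ_lin (e : Fin (n + 1)) (P : X) (hP : P ∈ XE σ e) (c : Fin (n + 1) → k) :
    L.presheaf.germ ⊤ P trivial (lin pX σ c) =
      coef pX σ e P hP c • L.presheaf.germ (XE σ e) P hP (sec (σ e) (XE σ e)) := by
  unfold lin coef
  rw [map_sum, Finset.sum_smul]
  refine Finset.sum_congr rfl fun j _ => ?_
  rw [germ_smul, germ_sec_top σ j P (XE σ e) hP, ← ratio_spec σ j e, germ_smul, mul_smul]
  rfl

/-- the section `lin c` vanishes at `P` -/
def Van (P : X) (c : Fin (n + 1) → k) : Prop :=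
  L.presheaf.germ ⊤ P trivial (lin pX σ c) ∈
    IsLocalRing.maximalIdeal (X.presheaf.stalk P) •
      (⊤ : Submodule (X.presheaf.stalk P) (L.presheaf.stalk P))

theorem van_iff_coef (e : Fin (n + 1)) (P : X) (hP : P ∈ XE σ e) (c : Fin (n + 1) → k) :
    Van pX σ P c ↔ coef pX σ e P hP c ∈ IsLocalRing.maximalIdeal (X.presheaf.stalk P) := by
  unfold Van
  rw [germ_lin pX σ e P hP c]
  exact smul_germ_mem_smul_top_iff (isFrame_XE σ e) P hP _ _

/-- a section of an invertible module vanishes at the points outside its generating locus -/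
theorem germ_mem_of_notMem_genLocus (hL : PicF.IsInvertible L) (s : Coh.structureModule X ⟶ L)
    (P : X) (hP : P ∉ CohB1.genLocus L s) :
    L.presheaf.germ ⊤ P trivial (sec s ⊤) ∈
      IsLocalRing.maximalIdeal (X.presheaf.stalk P) •
        (⊤ : Submodule (X.presheaf.stalk P) (L.presheaf.stalk P)) := by
  obtain ⟨U, hxU, ⟨ε⟩⟩ := hL P
  have hU' : U.ι ''ᵁ ⊤ = U := Scheme.Opens.ι_image_top U
  have hxU' : P ∈ U.ι ''ᵁ ⊤ := by rw [hU']; exact hxU
  obtain ⟨b, hb, hbo⟩ := Groth.Agent.Helper4.TwistLocal.exists_local_frame L s U ε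
  have h1 : L.presheaf.germ ⊤ P trivial (sec s ⊤) =
      L.presheaf.germ (U.ι ''ᵁ ⊤) P hxU' (sec s (U.ι ''ᵁ ⊤)) := by
    rw [← sec_res s (le_top : U.ι ''ᵁ ⊤ ≤ ⊤)]
    exact (TopCat.Presheaf.germ_res_apply L.presheaf (homOfLE (le_top : U.ι ''ᵁ ⊤ ≤ ⊤)) P
      hxU' _).symm
  have h2 : sec s (U.ι ''ᵁ ⊤) =
      b • (show Γ(L, U.ι ''ᵁ ⊤) from ε.inv.app ⊤ (Groth.Agent.Helper4.GenLoc.one (U : Scheme.{u}) ⊤)) := hb
  rw [h1, h2, germ_smul]
  refine Submodule.smul_mem_smul ?_ Submodule.mem_top
  have h3 : P ∉ X.basicOpen b := by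
    rw [← hbo]
    exact fun h => hP h.1
  rw [X.mem_basicOpen b P hxU'] at h3
  exact h3

section Closed

variable [IsAlgClosed k] [LocallyOfFiniteType pX]

/-- the value of the ratio `σ j / σ e` at a closed point of `XE σ e` -/
noncomputable def val (e : Fin (n + 1)) (P : X) (hP : P ∈ XE σ e) (hPc : IsClosed ({P} : Set X))
    (j : Fin (n + 1)) : k :=
  ev pX P hPc (X.presheaf.germ (XE σ e) P hP (ratio σ j e))

theorem val_self (e : Fin (n + 1)) (P : X) (hP : P ∈ XE σ e) (hPc : IsClosed ({P} : Set X)) :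
    val pX σ e P hP hPc e = 1 := by
  unfold val
  rw [ratio_self, map_one, map_one]

theorem ev_coef (e : Fin (n + 1)) (P : X) (hP : P ∈ XE σ e) (hPc : IsClosed ({P} : Set X))
    (c : Fin (n + 1) → k) :
    ev pX P hPc (coef pX σ e P hP c) = ∑ j, c j * val pX σ e P hP hPc j := by
  unfold coef val
  rw [map_sum]
  refine Finset.sum_congr rfl fun j _ => ?_
  rw [map_mul, ev_cst]

theorem van_iff (e : Fin (n + 1)) (P : X) (hP : P ∈ XE σ e) (hPc : IsClosed ({P} : Set X))
    (c : Fin (n + 1) → k) :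
    Van pX σ P c ↔ ∑ j, c j * val pX σ e P hP hPc j = 0 := by
  rw [van_iff_coef pX σ e P hP c, ← ev_eq_zero_iff pX P hPc, ev_coef]

theorem lin_single (e : Fin (n + 1)) : lin pX σ (Pi.single e 1) = sec (σ e) ⊤ := by
  unfold lin
  rw [Finset.sum_eq_single e]
  · rw [Pi.single_eq_same, map_one, one_smul]
  · intro j _ hj
    rw [Pi.single_eq_of_ne hj, map_zero, zero_smul]
  · intro h
    exact absurd (Finset.mem_univ e) h

theorem not_van_single (e : Fin (n + 1)) (P : X) (hP : P ∈ XE σ e)
    (hPc : IsClosed ({P} : Set X)) : ¬ Van pX σ P (Pi.single e 1) := by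
  rw [van_iff pX σ e P hP hPc, Finset.sum_eq_single e]
  · rw [Pi.single_eq_same, one_mul, val_self]
    exact one_ne_zero
  · intro j _ hj
    rw [Pi.single_eq_of_ne hj, zero_mul]
  · intro h
    exact absurd (Finset.mem_univ e) h

theorem van_single_of_notMem (hL : PicF.IsInvertible L) (e : Fin (n + 1)) (P : X)
    (hP : P ∉ XE σ e) : Van pX σ P (Pi.single e 1) := by
  unfold Van
  rw [lin_single]
  exact germ_mem_of_notMem_genLocus hL (σ e) P hP

/-- the coefficient vector of `σ j - val j • σ e` -/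
noncomputable def cvec (e : Fin (n + 1)) (a : k) (j : Fin (n + 1)) : Fin (n + 1) → k :=
  Pi.single j 1 - a • Pi.single e 1

theorem sum_cvec (e j : Fin (n + 1)) (a : k) (v : Fin (n + 1) → k) :
    ∑ i, cvec e a j i * v i = v j - a * v e := by
  unfold cvec
  simp only [Pi.sub_apply, Pi.smul_apply, smul_eq_mul, sub_mul, Finset.sum_sub_distrib]
  congr 1
  · rw [Finset.sum_eq_single j]
    · rw [Pi.single_eq_same, one_mul]
    · intro i _ hi
      rw [Pi.single_eq_of_ne hi, zero_mul]
    · intro h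
      exact absurd (Finset.mem_univ j) h
  · rw [Finset.sum_eq_single e]
    · rw [Pi.single_eq_same, mul_one]
    · intro i _ hi
      rw [Pi.single_eq_of_ne hi, mul_zero, zero_mul]
    · intro h
      exact absurd (Finset.mem_univ e) h

/-- points with the same values are not separated -/
theorem van_iff_of_val_eq (e : Fin (n + 1)) (P Q : X) (hP : P ∈ XE σ e) (hQ : Q ∈ XE σ e)
    (hPc : IsClosed ({P} : Set X)) (hQc : IsClosed ({Q} : Set X))
    (h : val pX σ e P hP hPc = val pX σ e Q hQ hQc) (c : Fin (n + 1) → k) :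
    Van pX σ P c ↔ Van pX σ Q c := by
  rw [van_iff pX σ e P hP hPc, van_iff pX σ e Q hQ hQc, h]

/-- points which are not separated have the same values -/
theorem val_eq_of_van_iff (hL : PicF.IsInvertible L) (e : Fin (n + 1)) (P Q : X)
    (hP : P ∈ XE σ e) (hPc : IsClosed ({P} : Set X)) (hQc : IsClosed ({Q} : Set X))
    (h : ∀ c, Van pX σ P c ↔ Van pX σ Q c) :
    ∃ hQ : Q ∈ XE σ e, val pX σ e P hP hPc = val pX σ e Q hQ hQc := by
  have hQ : Q ∈ XE σ e := by
    by_contra hQ
    exact not_van_single pX σ e P hP hPc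
      ((h _).mpr (van_single_of_notMem pX σ hL e Q hQ))
  refine ⟨hQ, ?_⟩
  funext j
  have h1 : Van pX σ P (cvec e (val pX σ e P hP hPc j) j) := by
    rw [van_iff pX σ e P hP hPc, sum_cvec, val_self, mul_one, sub_self]
  have h2 := (h _).mp h1
  rw [van_iff pX σ e Q hQ hQc, sum_cvec, val_self, mul_one, sub_eq_zero] at h2
  exact h2.symm

/-- the germ of `σ j / σ e` minus its value -/
noncomputable def gen (e : Fin (n + 1)) (P : X) (hP : P ∈ XE σ e) (hPc : IsClosed ({P} : Set X))
    (j : Fin (n + 1)) : X.presheaf.stalk P :=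
  X.presheaf.germ (XE σ e) P hP (ratio σ j e) - cst pX P (val pX σ e P hP hPc j)

theorem gen_mem (e : Fin (n + 1)) (P : X) (hP : P ∈ XE σ e) (hPc : IsClosed ({P} : Set X))
    (j : Fin (n + 1)) :
    gen pX σ e P hP hPc j ∈ IsLocalRing.maximalIdeal (X.presheaf.stalk P) :=
  sub_cst_ev_mem pX P hPc _

/-- the ideal generated by the germs of the functions `σ j / σ e - value` -/
noncomputable def J (e : Fin (n + 1)) (P : X) (hP : P ∈ XE σ e) (hPc : IsClosed ({P} : Set X)) :
    Ideal (X.presheaf.stalk P) :=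
  Ideal.span (Set.range (gen pX σ e P hP hPc))

theorem J_le (e : Fin (n + 1)) (P : X) (hP : P ∈ XE σ e) (hPc : IsClosed ({P} : Set X)) :
    J pX σ e P hP hPc ≤ IsLocalRing.maximalIdeal (X.presheaf.stalk P) := by
  unfold J
  rw [Ideal.span_le]
  rintro _ ⟨j, rfl⟩
  exact gen_mem pX σ e P hP hPc j

theorem coef_cvec (e : Fin (n + 1)) (P : X) (hP : P ∈ XE σ e) (hPc : IsClosed ({P} : Set X))
    (j : Fin (n + 1)) :
    coef pX σ e P hP (cvec e (val pX σ e P hP hPc j) j) = gen pX σ e P hP hPc j := by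
  unfold coef cvec gen
  simp only [Pi.sub_apply, Pi.smul_apply, smul_eq_mul, map_sub, sub_mul, Finset.sum_sub_distrib]
  congr 1
  · rw [Finset.sum_eq_single j]
    · rw [Pi.single_eq_same, map_one, one_mul]
    · intro i _ hi
      rw [Pi.single_eq_of_ne hi, map_zero, zero_mul]
    · intro h
      exact absurd (Finset.mem_univ j) h
  · rw [Finset.sum_eq_single e]
    · rw [Pi.single_eq_same, mul_one, ratio_self, map_one, mul_one]
    · intro i _ hi
      rw [Pi.single_eq_of_ne hi, mul_zero, map_zero, zero_mul]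
    · intro h
      exact absurd (Finset.mem_univ e) h

/-- the coefficient of a vanishing section lies in `J` -/
theorem coef_mem_J (e : Fin (n + 1)) (P : X) (hP : P ∈ XE σ e) (hPc : IsClosed ({P} : Set X))
    (c : Fin (n + 1) → k) (h : Van pX σ P c) : coef pX σ e P hP c ∈ J pX σ e P hP hPc := by
  rw [van_iff pX σ e P hP hPc] at h
  have h1 : coef pX σ e P hP c = ∑ j, cst pX P (c j) * gen pX σ e P hP hPc j := by
    unfold coef gen
    simp only [mul_sub, Finset.sum_sub_distrib]
    have h2 : ∑ j, cst pX P (c j) * cst pX P (val pX σ e P hP hPc j) = 0 := by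
      simp only [← map_mul, ← map_sum]
      rw [h, map_zero]
    rw [h2, sub_zero]
  rw [h1]
  refine Ideal.sum_mem _ fun j _ => Ideal.mul_mem_left _ _ ?_
  exact Ideal.subset_span ⟨j, rfl⟩

/-- **separation of tangent vectors, first half** -/
theorem le_span_of_le_J (e : Fin (n + 1)) (P : X) (hP : P ∈ XE σ e)
    (hPc : IsClosed ({P} : Set X))
    (h : IsLocalRing.maximalIdeal (X.presheaf.stalk P) ≤ J pX σ e P hP hPc) :
    IsLocalRing.maximalIdeal (X.presheaf.stalk P) •
        (⊤ : Submodule (X.presheaf.stalk P) (L.presheaf.stalk P)) ≤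
      Submodule.span (X.presheaf.stalk P)
        {v | ∃ c : Fin (n + 1) → k, v = L.presheaf.germ ⊤ P trivial (lin pX σ c) ∧
          v ∈ IsLocalRing.maximalIdeal (X.presheaf.stalk P) •
            (⊤ : Submodule (X.presheaf.stalk P) (L.presheaf.stalk P))} := by
  intro m hm
  obtain ⟨x, rfl⟩ := exists_smul_germ (isFrame_XE σ e) P hP m
  rw [smul_germ_mem_smul_top_iff (isFrame_XE σ e) P hP] at hm
  have hx := h hm
  unfold J at hx
  refine Submodule.span_induction (p := fun x _ => x • L.presheaf.germ (XE σ e) P hP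
    (sec (σ e) (XE σ e)) ∈ Submodule.span (X.presheaf.stalk P)
        {v | ∃ c : Fin (n + 1) → k, v = L.presheaf.germ ⊤ P trivial (lin pX σ c) ∧
          v ∈ IsLocalRing.maximalIdeal (X.presheaf.stalk P) •
            (⊤ : Submodule (X.presheaf.stalk P) (L.presheaf.stalk P))}) ?_ ?_ ?_ ?_ hx
  · rintro _ ⟨j, rfl⟩
    apply Submodule.subset_span
    refine ⟨cvec e (val pX σ e P hP hPc j) j, ?_, ?_⟩
    · rw [germ_lin pX σ e P hP, coef_cvec]
    · exact (smul_germ_mem_smul_top_iff (isFrame_XE σ e) P hP _ _).mpr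
        (gen_mem pX σ e P hP hPc j)
  · rw [zero_smul]; exact Submodule.zero_mem _
  · intro x y _ _ hx hy
    rw [add_smul]; exact Submodule.add_mem _ hx hy
  · intro a x _ hx
    rw [smul_eq_mul, mul_smul]; exact Submodule.smul_mem _ a hx

/-- **separation of tangent vectors, second half** -/
theorem le_J_of_le_span (e : Fin (n + 1)) (P : X) [IsNoetherianRing (X.presheaf.stalk P)]
    (hP : P ∈ XE σ e) (hPc : IsClosed ({P} : Set X))
    (h : IsLocalRing.maximalIdeal (X.presheaf.stalk P) •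
        (⊤ : Submodule (X.presheaf.stalk P) (L.presheaf.stalk P)) ≤
      Submodule.span (X.presheaf.stalk P)
        {v | ∃ c : Fin (n + 1) → k, v = L.presheaf.germ ⊤ P trivial (lin pX σ c) ∧
          v ∈ IsLocalRing.maximalIdeal (X.presheaf.stalk P) •
            (⊤ : Submodule (X.presheaf.stalk P) (L.presheaf.stalk P))} ⊔
        IsLocalRing.maximalIdeal (X.presheaf.stalk P) ^ 2 •
          (⊤ : Submodule (X.presheaf.stalk P) (L.presheaf.stalk P))) :
    IsLocalRing.maximalIdeal (X.presheaf.stalk P) ≤ J pX σ e P hP hPc := by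
  have h1 : Submodule.span (X.presheaf.stalk P)
        {v | ∃ c : Fin (n + 1) → k, v = L.presheaf.germ ⊤ P trivial (lin pX σ c) ∧
          v ∈ IsLocalRing.maximalIdeal (X.presheaf.stalk P) •
            (⊤ : Submodule (X.presheaf.stalk P) (L.presheaf.stalk P))} ≤
      J pX σ e P hP hPc • (⊤ : Submodule (X.presheaf.stalk P) (L.presheaf.stalk P)) := by
    rw [Submodule.span_le]
    rintro _ ⟨c, rfl, hc⟩
    rw [germ_lin pX σ e P hP]
    exact (smul_germ_mem_smul_top_iff (isFrame_XE σ e) P hP _ _).mpr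
      (coef_mem_J pX σ e P hP hPc c hc)
  have h2 : IsLocalRing.maximalIdeal (X.presheaf.stalk P) ≤
      J pX σ e P hP hPc ⊔ IsLocalRing.maximalIdeal (X.presheaf.stalk P) •
        IsLocalRing.maximalIdeal (X.presheaf.stalk P) := by
    intro x hx
    have h3 : x • L.presheaf.germ (XE σ e) P hP (sec (σ e) (XE σ e)) ∈
        (J pX σ e P hP hPc ⊔ IsLocalRing.maximalIdeal (X.presheaf.stalk P) ^ 2) •
          (⊤ : Submodule (X.presheaf.stalk P) (L.presheaf.stalk P)) := by
      rw [Submodule.sup_smul]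
      exact (h.trans (sup_le_sup_right h1 _))
        ((smul_germ_mem_smul_top_iff (isFrame_XE σ e) P hP _ _).mpr hx)
    rw [smul_germ_mem_smul_top_iff (isFrame_XE σ e) P hP, pow_two] at h3
    exact h3
  exact Submodule.le_of_le_smul_of_le_jacobson_bot
    (IsNoetherian.noetherian (IsLocalRing.maximalIdeal (X.presheaf.stalk P)))
    (IsLocalRing.maximalIdeal_le_jacobson ⊥) h2

end Closed

end Groth.Agent.Helper4.SN609
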