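import Mathlib
import Groth.Agent.Helper4.SN53

/-!
# Global functions of a reduced connected proper scheme form a field whose degree divides all
cohomological dimensions
-/

set_option autoImplicit false
set_option linter.style.haveILetI false

namespace Groth.Agent.Helper4.SN

open CategoryTheory Limits AlgebraicGeometry Opposite TopologicalSpace
open Groth.Agent.Helper4.NApx82

universe u

section Idem

variable {X : Scheme.{u}}

/-- idempotent global functions on a reduced connected scheme are trivial -/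
theorem idempotent_trivial [IsReduced X] [ConnectedSpace X] (e : Γ(X, ⊤))
    (he : IsIdempotentElem e) : e = 0 ∨ e = 1 := by
  have hinf : X.basicOpen e ⊓ X.basicOpen (1 - e) = ⊥ := by
    rw [← Scheme.basicOpen_mul]
    have : e * (1 - e) = 0 := by
      rw [mul_sub, mul_one, he.eq, sub_self]
    rw [this, Scheme.basicOpen_zero]
  have hsup : ∀ x : X, x ∈ X.basicOpen e ∨ x ∈ X.basicOpen (1 - e) := by
    intro x
    rw [X.mem_basicOpen (U := ⊤) e x trivial, X.mem_basicOpen (U := ⊤) (1 - e) x trivial]
    apply IsLocalRing.isUnit_or_isUnit_of_add_one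
    rw [← map_add, add_sub_cancel, map_one]
  have hcompl : ((X.basicOpen e : X.Opens) : Set X)ᶜ = ((X.basicOpen (1 - e) : X.Opens) : Set X) := by
    ext x
    constructor
    · intro hx
      exact (hsup x).resolve_left hx
    · intro hx hx'
      have : x ∈ X.basicOpen e ⊓ X.basicOpen (1 - e) := ⟨hx', hx⟩
      rw [hinf] at this
      exact this
  have hclopen : IsClopen ((X.basicOpen e : X.Opens) : Set X) := by
    refine ⟨?_, (X.basicOpen e).2⟩
    rw [← isOpen_compl_iff, hcompl]
    exact (X.basicOpen (1 - e)).2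
  rcases isClopen_iff.1 hclopen with h | h
  · left
    apply (basicOpen_eq_bot_iff e).1
    exact Opens.ext h
  · right
    have h2 : X.basicOpen (1 - e) = ⊥ := by
      apply Opens.ext
      rw [← hcompl, h]
      simp
    have := (basicOpen_eq_bot_iff (1 - e)).1 h2
    exact (sub_eq_zero.1 this).symm

/-- a reduced Artinian ring with only trivial idempotents is a field -/
theorem isField_of_artinian_reduced {A : Type*} [CommRing A] [IsArtinianRing A] [IsReduced A]
    [Nontrivial A] (h : ∀ e : A, IsIdempotentElem e → e = 0 ∨ e = 1) : IsField A := by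
  refine ⟨exists_pair_ne A, mul_comm, fun {a} ha => ?_⟩
  obtain ⟨n, b, hb⟩ := IsArtinian.exists_pow_succ_smul_dvd a (1 : A)
  simp only [smul_eq_mul, mul_one] at hb
  -- `a^(n+1) * b = a^n`
  have h2 : a ^ n = a ^ (2 * n) * b ^ n := by
    have key : ∀ m : ℕ, a ^ n = a ^ (n + m) * b ^ m := by
      intro m
      induction m with
      | zero => simp
      | succ m ih =>
        calc a ^ n = a ^ (n + m) * b ^ m := ih
          _ = (a ^ m * a ^ n) * b ^ m := by rw [← pow_add, add_comm]
          _ = (a ^ m * (a ^ n.succ * b)) * b ^ m := by rw [hb]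
          _ = a ^ (n + (m + 1)) * b ^ (m + 1) := by
            rw [pow_succ, pow_succ b]
            have : a ^ (n + (m + 1)) = a ^ m * (a ^ n * a) := by
              rw [← pow_succ, ← pow_add]; congr 1; omega
            rw [this]; ring
    have := key n
    rwa [← two_mul] at this
  have hidem : IsIdempotentElem (a ^ n * b ^ n) := by
    show a ^ n * b ^ n * (a ^ n * b ^ n) = a ^ n * b ^ n
    calc a ^ n * b ^ n * (a ^ n * b ^ n) = (a ^ (2 * n) * b ^ n) * b ^ n := by
          rw [two_mul, pow_add]; ring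
      _ = a ^ n * b ^ n := by rw [← h2]
  rcases h _ hidem with h0 | h1
  · exfalso
    have : a ^ n = 0 := by
      calc a ^ n = a ^ (2 * n) * b ^ n := h2
        _ = a ^ n * (a ^ n * b ^ n) := by rw [two_mul, pow_add]; ring
        _ = 0 := by rw [h0, mul_zero]
    exact ha (IsReduced.eq_zero a ⟨n, this⟩)
  · rcases Nat.eq_zero_or_pos n with rfl | hn
    · simp only [pow_zero] at hb
      exact ⟨b, by rw [← hb]; ring⟩
    · refine ⟨a ^ (n - 1) * b ^ n, ?_⟩
      rw [← mul_assoc, ← pow_succ', Nat.sub_add_cancel hn, h1]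

end Idem

variable (k : Type u) [Field k] (X : Scheme.{u}) [X.Over (Spec (CommRingCat.of k))]

/-- the `k`-linear identification `H⁰(X, O) ≃ Γ(X, O)` -/
noncomputable def h0UnitEquiv :
    letI : Algebra k Γ(X, ⊤) := (Coh.toGlobal (X ↘ Spec (CommRingCat.of k))).toAlgebra
    Coh.HH X (Coh.structureModule X) 0 ≃ₗ[k] Γ(X, ⊤) :=
  letI : Algebra k Γ(X, ⊤) := (Coh.toGlobal (X ↘ Spec (CommRingCat.of k))).toAlgebra
  { (Groth.Agent.Lead.ProperFinA.h0Equiv (Coh.structureModule X)) with
    map_smul' := by
      intro a x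
      change Groth.Agent.Lead.ProperFinA.h0Equiv (Coh.structureModule X)
        (Coh.toGlobal (X ↘ Spec (CommRingCat.of k)) a • x) = _
      rw [Groth.Agent.Lead.ProperFinA.h0Equiv_smul]
      rfl }

theorem finite_globalSections [IsProper (X ↘ (Spec (CommRingCat.of k)))] :
    letI : Algebra k Γ(X, ⊤) := (Coh.toGlobal (X ↘ Spec (CommRingCat.of k))).toAlgebra
    Module.Finite k Γ(X, ⊤) := by
  letI : Algebra k Γ(X, ⊤) := (Coh.toGlobal (X ↘ Spec (CommRingCat.of k))).toAlgebra
  haveI := isNoetherian_of_proper k X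
  have hcO : Coh.IsCoh (Coh.structureModule X) :=
    Groth.Agent.Helper1.SerreFin.isCoh_of_isInvertible _ TensorInv.isInvertible_structureModule
  haveI : Module.Finite k (Coh.HH X (Coh.structureModule X) 0) :=
    Groth.Agent.S0002.result k X _ hcO 0
  exact Module.Finite.equiv (h0UnitEquiv k X)

theorem isField_globalSections [IsProper (X ↘ (Spec (CommRingCat.of k)))] [IsReduced X]
    [ConnectedSpace X] : IsField Γ(X, ⊤) := by
  letI : Algebra k Γ(X, ⊤) := (Coh.toGlobal (X ↘ Spec (CommRingCat.of k))).toAlgebra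
  haveI := finite_globalSections k X
  haveI : IsArtinianRing Γ(X, ⊤) := IsArtinianRing.of_finite k _
  haveI : Nonempty X := ConnectedSpace.toNonempty
  haveI : Nonempty ((⊤ : X.Opens)) := ⟨⟨Nonempty.some inferInstance, trivial⟩⟩
  haveI : Nontrivial Γ(X, ⊤) := inferInstance
  haveI : _root_.IsReduced Γ(X, ⊤) := inferInstance
  exact isField_of_artinian_reduced (fun e he => idempotent_trivial e he)

/-- the degree of the field of global functions divides the dimension of every cohomology group -/
theorem finrank_globalSections_dvd_finrank_HH (hfield : IsField Γ(X, ⊤)) (M : X.Modules) (i : ℕ) :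
    letI : Algebra k Γ(X, ⊤) := (Coh.toGlobal (X ↘ Spec (CommRingCat.of k))).toAlgebra
    Module.finrank k Γ(X, ⊤) ∣ Module.finrank k (Coh.HH X M i) := by
  letI : Algebra k Γ(X, ⊤) := (Coh.toGlobal (X ↘ Spec (CommRingCat.of k))).toAlgebra
  letI : Field Γ(X, ⊤) := hfield.toField
  letI : Module Γ(X, ⊤) (Coh.HH X M i) := Coh.moduleΓtop M i
  haveI : IsScalarTower k Γ(X, ⊤) (Coh.HH X M i) :=
    IsScalarTower.of_algebraMap_smul (fun r x => rfl)
  exact Dvd.intro _ (Module.finrank_mul_finrank k Γ(X, ⊤) (Coh.HH X M i))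

theorem finrank_globalSections_dvd_euler (hfield : IsField Γ(X, ⊤)) (M : X.Modules) :
    letI : Algebra k Γ(X, ⊤) := (Coh.toGlobal (X ↘ Spec (CommRingCat.of k))).toAlgebra
    (Module.finrank k Γ(X, ⊤) : ℤ) ∣ Curv2.euler k X M := by
  letI : Algebra k Γ(X, ⊤) := (Coh.toGlobal (X ↘ Spec (CommRingCat.of k))).toAlgebra
  unfold Curv2.euler
  apply finsum_induction (p := fun z : ℤ => (Module.finrank k Γ(X, ⊤) : ℤ) ∣ z)
  · exact dvd_zero _
  · intro a b ha hb
    exact dvd_add ha hb
  · intro i
    apply Dvd.dvd.mul_left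
    exact_mod_cast finrank_globalSections_dvd_finrank_HH k X hfield M i

attribute [local instance] Curv2.resAlgebra in
theorem finrank_globalSections_dvd_residueField (hfield : IsField Γ(X, ⊤)) (x : X) :
    letI : Algebra k Γ(X, ⊤) := (Coh.toGlobal (X ↘ Spec (CommRingCat.of k))).toAlgebra
    Module.finrank k Γ(X, ⊤) ∣ Module.finrank k (X.residueField x) := by
  letI : Algebra k Γ(X, ⊤) := (Coh.toGlobal (X ↘ Spec (CommRingCat.of k))).toAlgebra
  letI : Field Γ(X, ⊤) := hfield.toField
  letI : Algebra Γ(X, ⊤) (X.residueField x) :=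
    ((X.residue x).hom.comp (X.presheaf.germ ⊤ x trivial).hom).toAlgebra
  haveI : IsScalarTower k Γ(X, ⊤) (X.residueField x) :=
    IsScalarTower.of_algebraMap_eq (fun c => rfl)
  exact Dvd.intro _ (Module.finrank_mul_finrank k Γ(X, ⊤) (X.residueField x))

end Groth.Agent.Helper4.SN
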