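import Mathlib
import Groth.Agent.Helper4.SN609
import Groth.Agent.Helper1.PUP9

/-!
# Morphisms to projective space: functions on the standard opens
-/

set_option autoImplicit false
set_option linter.style.haveILetI false
set_option linter.unusedSectionVars false
universe u
open CategoryTheory CategoryTheory.Limits AlgebraicGeometry TopologicalSpace Opposite
  HomogeneousLocalization

namespace Groth.Agent.Helper4.SN610

open Groth.Agent.Helper4.StalkDict Groth.Agent.Helper4.SN608 Groth.Agent.Helper4.SN609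
  Groth.Agent.Helper1.PUP Groth.Agent.Helper1.Segre Groth.Agent.Helper1.ProjMor

variable {X : Scheme.{u}} {k : Type u} [Field k] (n : ℕ)
  (f : X ⟶ Proj (CohB1.polyGrading n k))

/-- the standard open `D₊(T_e)` -/
noncomputable abbrev D (e : Fin (n + 1)) : (Proj (CohB1.polyGrading n k)).Opens :=
  Proj.basicOpen (CohB1.polyGrading n k) (MvPolynomial.X e : MvPolynomial (Fin (n + 1)) k)

theorem XE_eq (e : Fin (n + 1)) : XE (σr n f) e = f ⁻¹ᵁ D (k := k) n e := genLocus_σr n f e

theorem iSup_preimage_D : ⨆ e, f ⁻¹ᵁ D (k := k) n e = ⊤ := by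
  rw [eq_top_iff]
  intro x _
  have hx : f x ∈ (⨆ e : Fin (n + 1), D (k := k) n e) := by
    rw [iSup_basicOpen_X]; trivial
  obtain ⟨e, he⟩ := Opens.mem_iSup.mp hx
  exact Opens.mem_iSup.mpr ⟨e, he⟩

/-- the pullback of `T_j / T_e` is the ratio of the pulled back coordinates -/
theorem germ_app_cΓ (j e : Fin (n + 1)) (P : X) (hP : P ∈ f ⁻¹ᵁ D (k := k) n e)
    (hP' : P ∈ XE (σr n f) e) :
    X.presheaf.germ (f ⁻¹ᵁ D (k := k) n e) P hP (f.app _ (cΓ n j e)) =
      X.presheaf.germ (XE (σr n f) e) P hP' (ratio (σr n f) j e) := by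
  have hV : f ⁻¹ᵁ D (k := k) n e ≤ XE (σr n f) e := (XE_eq n f e).ge
  have h1 := sec_σr_smul n f j e (le_refl (f ⁻¹ᵁ D (k := k) n e))
  have h2 := ratio_res (σr n f) j e hV
  have h3 : (X.presheaf.map (homOfLE (le_refl (f ⁻¹ᵁ D (k := k) n e))).op (f.app _ (cΓ n j e)) -
      X.presheaf.map (homOfLE hV).op (ratio (σr n f) j e)) •
        sec (σr n f e) (f ⁻¹ᵁ D (k := k) n e) = 0 := by
    rw [sub_smul, ← h1, h2, sub_self]
  have h4 := sub_eq_zero.mp (eq_zero_of_smul_sec (σr n f e) hV _ h3)
  have h5 := congrArg (X.presheaf.germ (f ⁻¹ᵁ D (k := k) n e) P hP) h4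
  rw [TopCat.Presheaf.germ_res_apply, TopCat.Presheaf.germ_res_apply] at h5
  exact h5

/-- the structure morphism of projective space, typed on `Proj` -/
noncomputable def toSpec' : Proj (CohB1.polyGrading n k) ⟶ Spec (CommRingCat.of k) :=
  CohB1.ProjSpace.toSpec n k

/-- constants on the standard open -/
noncomputable def konst (e : Fin (n + 1)) (c : k) :
    Γ(Proj (CohB1.polyGrading n k), D (k := k) n e) :=
  (Proj (CohB1.polyGrading n k)).presheaf.map (homOfLE (le_top : D (k := k) n e ≤ ⊤)).op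
    (ProjUP.toGlobal (toSpec' (k := k) n) c)

theorem toGlobal_comp {Y Z : Scheme.{u}} (g : Y ⟶ Z) (q : Z ⟶ Spec (CommRingCat.of k)) (c : k) :
    ProjUP.toGlobal (g ≫ q) c = g.appTop (ProjUP.toGlobal q c) := by
  unfold ProjUP.toGlobal
  rw [Scheme.Hom.comp_appTop]
  rfl

theorem germ_app_konst (pX : X ⟶ Spec (CommRingCat.of k))
    (hf : f ≫ CohB1.ProjSpace.toSpec n k = pX) (e : Fin (n + 1)) (c : k) (P : X)
    (hP : P ∈ f ⁻¹ᵁ D (k := k) n e) :
    X.presheaf.germ (f ⁻¹ᵁ D (k := k) n e) P hP (f.app _ (konst n e c)) = cst pX P c := by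
  unfold konst cst
  have h1 := congr($(f.naturality (homOfLE (le_top : D (k := k) n e ≤ ⊤)).op)
    (ProjUP.toGlobal (toSpec' (k := k) n) c))
  rw [CommRingCat.comp_apply, CommRingCat.comp_apply] at h1
  have hf' : f ≫ toSpec' (k := k) n = pX := hf
  rw [h1, RingHom.comp_apply, ← hf', toGlobal_comp]
  exact TopCat.Presheaf.germ_res_apply X.presheaf _ P hP _

theorem toGlobal_SpecMap {A : Type u} [CommRing A] (φ : k →+* A) (c : k) :
    ProjUP.toGlobal (Spec.map (CommRingCat.ofHom φ)) c =
      (Scheme.ΓSpecIso (CommRingCat.of A)).inv (φ c) := by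
  unfold ProjUP.toGlobal
  have h1 := Scheme.ΓSpecIso_inv_naturality (CommRingCat.ofHom φ)
  have h2 := congr($h1 c)
  rw [CommRingCat.comp_apply, CommRingCat.comp_apply] at h2
  exact h2.symm

/-- the constants of the homogeneous localization are the constants on the standard open -/
theorem awayToSection_fromZero (e : Fin (n + 1)) (c : k) :
    (Proj.awayToSection (CohB1.polyGrading n k) (MvPolynomial.X e)).hom
      (fromZeroRingHom (CohB1.polyGrading n k)
        (Submonoid.powers (MvPolynomial.X e : MvPolynomial (Fin (n + 1)) k))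
        (algebraMap k (CohB1.polyGrading n k 0) c)) = konst n e c := by
  set 𝒜 := CohB1.polyGrading n k with h𝒜
  set t : MvPolynomial (Fin (n + 1)) k := MvPolynomial.X e with ht
  have hle := (awayι_preimage_self 𝒜 (hX e) one_pos).ge
  set j := (Proj.awayι 𝒜 t (hX e) one_pos).appLE (Proj.basicOpen 𝒜 t) ⊤ hle with hj
  haveI : IsIso (Proj.awayToSection 𝒜 t) := (Proj.basicOpenIsoAway 𝒜 t (hX e) one_pos).isIso_hom
  have h1 : ∀ x, j ((Proj.awayToSection 𝒜 t).hom x) = (Scheme.ΓSpecIso _).inv x := by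
    intro x
    have := congr($(awayToSection_awayι_appLE 𝒜 (hX e) one_pos) x)
    rw [CommRingCat.comp_apply] at this
    exact this
  have hinj : Function.Injective j := by
    intro a b hab
    obtain ⟨a', rfl⟩ := (ConcreteCategory.bijective_of_isIso (Proj.awayToSection 𝒜 t)).2 a
    obtain ⟨b', rfl⟩ := (ConcreteCategory.bijective_of_isIso (Proj.awayToSection 𝒜 t)).2 b
    have h2 : (Scheme.ΓSpecIso _).inv a' = (Scheme.ΓSpecIso _).inv b' := by
      rw [← h1 a', ← h1 b']; exact hab
    have h3 := (ConcreteCategory.bijective_of_isIso (Scheme.ΓSpecIso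
      (CommRingCat.of (Away 𝒜 t))).inv).1 h2
    rw [h3]
  apply hinj
  rw [h1]
  unfold konst
  have h4 : j ((Proj 𝒜).presheaf.map (homOfLE (le_top : Proj.basicOpen 𝒜 t ≤ ⊤)).op
      (ProjUP.toGlobal (toSpec' (k := k) n) c)) =
      (Proj.awayι 𝒜 t (hX e) one_pos).appTop (ProjUP.toGlobal (toSpec' (k := k) n) c) := by
    have := congr($(Scheme.Hom.map_appLE (Proj.awayι 𝒜 t (hX e) one_pos) hle
      (homOfLE (le_top : Proj.basicOpen 𝒜 t ≤ ⊤)).op)
      (ProjUP.toGlobal (toSpec' (k := k) n) c))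
    rw [CommRingCat.comp_apply] at this
    rw [this]
    rfl
  rw [h4, ← toGlobal_comp]
  have h5 : Proj.awayι 𝒜 t (hX e) one_pos ≫ toSpec' (k := k) n =
      Spec.map (CommRingCat.ofHom ((fromZeroRingHom 𝒜 (Submonoid.powers t)).comp
        (algebraMap k (𝒜 0)))) := by
    have h6 : toSpec' (k := k) n =
        Proj.toSpecZero 𝒜 ≫ Spec.map (CommRingCat.ofHom (algebraMap k (𝒜 0))) := rfl
    rw [h6, Proj.awayι_toSpecZero_assoc, ← Spec.map_comp]
    rfl
  rw [h5, toGlobal_SpecMap]
  rfl

/-- **generation** of the ring of functions on a standard open by constants and the ratios -/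
theorem subring_eq_top (e : Fin (n + 1))
    (T : Subring Γ(Proj (CohB1.polyGrading n k), D (k := k) n e))
    (hC : ∀ c, konst (k := k) n e c ∈ T) (hr : ∀ j, cΓ (R := k) n j e ∈ T) : T = ⊤ := by
  have h1 := away_gen k n e (T.comap (Proj.awayToSection (CohB1.polyGrading n k)
    (MvPolynomial.X e)).hom) ?_ ?_
  · rw [eq_top_iff]
    intro a _
    haveI : IsIso (Proj.awayToSection (CohB1.polyGrading n k)
        (MvPolynomial.X e : MvPolynomial (Fin (n + 1)) k)) :=
      (Proj.basicOpenIsoAway (CohB1.polyGrading n k) _ (hX e) one_pos).isIso_hom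
    obtain ⟨a', rfl⟩ := (ConcreteCategory.bijective_of_isIso (Proj.awayToSection
      (CohB1.polyGrading n k) (MvPolynomial.X e : MvPolynomial (Fin (n + 1)) k))).2 a
    have : a' ∈ T.comap (Proj.awayToSection (CohB1.polyGrading n k)
        (MvPolynomial.X e)).hom := by rw [h1]; trivial
    exact this
  · intro c
    rw [Subring.mem_comap, awayToSection_fromZero]
    exact hC c
  · intro l
    rw [Subring.mem_comap, ← cP_eq_ratio]
    exact hr l

end Groth.Agent.Helper4.SN610
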