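import Mathlib
import Groth.Agent.Helper4.SN606
import Groth.Agent.Helper4.SN607
import Groth.Agent.Helper4.SN610
import Groth.Agent.Helper6.HProj

/-!
# A morphism from a proper scheme to projective space is a closed immersion iff it separates
points and tangent vectors
-/

set_option autoImplicit false
set_option linter.style.haveILetI false
set_option linter.unusedSectionVars false
universe u
open CategoryTheory CategoryTheory.Limits AlgebraicGeometry TopologicalSpace Opposite
  HomogeneousLocalization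

namespace Groth.Agent.Helper4.SN611

open Groth.Agent.Helper4.StalkDict Groth.Agent.Helper4.SN608 Groth.Agent.Helper4.SN609
  Groth.Agent.Helper4.SN610
  Groth.Agent.Helper1.PUP Groth.Agent.Helper1.Segre Groth.Agent.Helper1.ProjMor

variable {X : Scheme.{u}} {k : Type u} [Field k] [IsAlgClosed k]
  (pX : X ⟶ Spec (CommRingCat.of k)) [LocallyOfFiniteType pX] (n : ℕ)
  (f : X ⟶ Proj (CohB1.polyGrading n k)) (hf : f ≫ toSpec' (k := k) n = pX)

/-- evaluation of functions on the standard open at a closed point of its preimage -/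
noncomputable def rho (e : Fin (n + 1)) (P : X) (hP : P ∈ f ⁻¹ᵁ D (k := k) n e)
    (hPc : IsClosed ({P} : Set X)) :
    Γ(Proj (CohB1.polyGrading n k), D (k := k) n e) →+* k :=
  (ev pX P hPc).comp ((X.presheaf.germ (f ⁻¹ᵁ D (k := k) n e) P hP).hom.comp
    (f.app (D (k := k) n e)).hom)

theorem rho_apply (e : Fin (n + 1)) (P : X) (hP : P ∈ f ⁻¹ᵁ D (k := k) n e)
    (hPc : IsClosed ({P} : Set X)) (a : Γ(Proj (CohB1.polyGrading n k), D (k := k) n e)) :
    rho pX n f e P hP hPc a =
      ev pX P hPc (X.presheaf.germ (f ⁻¹ᵁ D (k := k) n e) P hP (f.app _ a)) := rfl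

include hf in
theorem rho_konst (e : Fin (n + 1)) (P : X) (hP : P ∈ f ⁻¹ᵁ D (k := k) n e)
    (hPc : IsClosed ({P} : Set X)) (c : k) : rho pX n f e P hP hPc (konst n e c) = c := by
  rw [rho_apply, germ_app_konst n f pX hf, ev_cst]

theorem mem_XE (e : Fin (n + 1)) (P : X) (hP : P ∈ f ⁻¹ᵁ D (k := k) n e) :
    P ∈ XE (σr n f) e := by
  rw [XE_eq]; exact hP

theorem rho_cΓ (e j : Fin (n + 1)) (P : X) (hP : P ∈ f ⁻¹ᵁ D (k := k) n e)
    (hPc : IsClosed ({P} : Set X)) :
    rho pX n f e P hP hPc (cΓ n j e) = val pX (σr n f) e P (mem_XE n f e P hP) hPc j := by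
  rw [rho_apply, germ_app_cΓ n f j e P hP (mem_XE n f e P hP)]
  rfl

include hf in
/-- points with the same values have the same evaluation -/
theorem rho_eq_of_val_eq (e : Fin (n + 1)) (P Q : X) (hP : P ∈ f ⁻¹ᵁ D (k := k) n e)
    (hQ : Q ∈ f ⁻¹ᵁ D (k := k) n e)
    (hPc : IsClosed ({P} : Set X)) (hQc : IsClosed ({Q} : Set X))
    (h : val pX (σr n f) e P (mem_XE n f e P hP) hPc =
      val pX (σr n f) e Q (mem_XE n f e Q hQ) hQc) :
    rho pX n f e P hP hPc = rho pX n f e Q hQ hQc := by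
  have h1 := subring_eq_top n e (RingHom.eqLocus (rho pX n f e P hP hPc) (rho pX n f e Q hQ hQc))
    ?_ ?_
  · ext a
    have : a ∈ RingHom.eqLocus (rho pX n f e P hP hPc) (rho pX n f e Q hQ hQc) := by
      rw [h1]; trivial
    exact this
  · intro c
    show rho pX n f e P hP hPc (konst n e c) = rho pX n f e Q hQ hQc (konst n e c)
    rw [rho_konst pX n f hf, rho_konst pX n f hf]
  · intro j
    show rho pX n f e P hP hPc (cΓ n j e) = rho pX n f e Q hQ hQc (cΓ n j e)
    rw [rho_cΓ, rho_cΓ, h]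

/-- the pulled back coordinates separate points -/
def Sep : Prop :=
  ∀ P Q : X, IsClosed ({P} : Set X) → IsClosed ({Q} : Set X) → P ≠ Q →
    ∃ c : Fin (n + 1) → k, (Van pX (σr n f) P c ∧ ¬ Van pX (σr n f) Q c) ∨
      (Van pX (σr n f) Q c ∧ ¬ Van pX (σr n f) P c)

/-- the pulled back coordinates separate tangent vectors -/
def Tan : Prop :=
  ∀ P : X, IsClosed ({P} : Set X) →
    IsLocalRing.maximalIdeal (X.presheaf.stalk P) •
        (⊤ : Submodule (X.presheaf.stalk P)
          (((Scheme.Modules.pullback f).obj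
            (Twist.twist (CohB1.polyGrading n k) ((1 : ℕ) : ℤ))).presheaf.stalk P)) ≤
      Submodule.span (X.presheaf.stalk P)
        {v | ∃ c : Fin (n + 1) → k,
          v = ((Scheme.Modules.pullback f).obj
            (Twist.twist (CohB1.polyGrading n k) ((1 : ℕ) : ℤ))).presheaf.germ ⊤ P trivial
              (lin pX (σr n f) c) ∧
          v ∈ IsLocalRing.maximalIdeal (X.presheaf.stalk P) •
            (⊤ : Submodule (X.presheaf.stalk P)
              (((Scheme.Modules.pullback f).obj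
                (Twist.twist (CohB1.polyGrading n k) ((1 : ℕ) : ℤ))).presheaf.stalk P))} ⊔
        IsLocalRing.maximalIdeal (X.presheaf.stalk P) ^ 2 •
          (⊤ : Submodule (X.presheaf.stalk P)
            (((Scheme.Modules.pullback f).obj
              (Twist.twist (CohB1.polyGrading n k) ((1 : ℕ) : ℤ))).presheaf.stalk P))

include hf in
theorem germ_app_sub (e j : Fin (n + 1)) (c : k) (P : X) (hP : P ∈ f ⁻¹ᵁ D (k := k) n e) :
    X.presheaf.germ (f ⁻¹ᵁ D (k := k) n e) P hP (f.app _ (cΓ n j e - konst n e c)) =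
      X.presheaf.germ (XE (σr n f) e) P (mem_XE n f e P hP) (ratio (σr n f) j e) -
        cst pX P c := by
  rw [map_sub, map_sub, germ_app_cΓ n f j e P hP (mem_XE n f e P hP),
    germ_app_konst n f pX hf]

include hf in
/-- condition (a) of the surjectivity criterion -/
theorem eq_of_forall_germ_mem_iff (hsep : Sep pX n f) (e : Fin (n + 1)) (P Q : X)
    (hP : P ∈ f ⁻¹ᵁ D (k := k) n e) (hQ : Q ∈ f ⁻¹ᵁ D (k := k) n e)
    (hPc : IsClosed ({P} : Set X)) (hQc : IsClosed ({Q} : Set X))
    (h : ∀ a : Γ(Proj (CohB1.polyGrading n k), D (k := k) n e),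
      X.presheaf.germ _ P hP (f.app _ a) ∈ IsLocalRing.maximalIdeal _ ↔
        X.presheaf.germ _ Q hQ (f.app _ a) ∈ IsLocalRing.maximalIdeal _) : P = Q := by
  by_contra hne
  have hval : val pX (σr n f) e P (mem_XE n f e P hP) hPc =
      val pX (σr n f) e Q (mem_XE n f e Q hQ) hQc := by
    funext j
    have h1 := (h (cΓ n j e - konst n e (val pX (σr n f) e P (mem_XE n f e P hP) hPc j))).mp ?_
    · rw [germ_app_sub pX n f hf] at h1
      exact (ev_eq_of_sub_mem pX Q hQc _ _ h1).symm
    · rw [germ_app_sub pX n f hf]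
      exact sub_cst_ev_mem pX P hPc _
  obtain ⟨c, hc⟩ := hsep P Q hPc hQc hne
  have hiff := van_iff_of_val_eq pX (σr n f) e P Q (mem_XE n f e P hP) (mem_XE n f e Q hQ)
    hPc hQc hval c
  rcases hc with ⟨h1, h2⟩ | ⟨h1, h2⟩
  · exact h2 (hiff.mp h1)
  · exact h2 (hiff.mpr h1)

theorem germ_mem_iff_of_eq {Y : Scheme.{u}} {U : Y.Opens} (a : Γ(Y, U)) {y y' : Y} (h : y = y')
    (hy : y ∈ U) (hy' : y' ∈ U) :
    Y.presheaf.germ U y hy a ∈ IsLocalRing.maximalIdeal (Y.presheaf.stalk y) ↔
      Y.presheaf.germ U y' hy' a ∈ IsLocalRing.maximalIdeal (Y.presheaf.stalk y') := by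
  subst h
  rfl

theorem germ_app_mem_iff {Y : Scheme.{u}} (g : X ⟶ Y) (U : Y.Opens) (P : X) (hP : g P ∈ U)
    (a : Γ(Y, U)) :
    X.presheaf.germ (g ⁻¹ᵁ U) P hP (g.app U a) ∈ IsLocalRing.maximalIdeal _ ↔
      Y.presheaf.germ U (g P) hP a ∈ IsLocalRing.maximalIdeal _ := by
  rw [← Scheme.Hom.germ_stalkMap_apply]
  exact map_mem_nonunits_iff (g.stalkMap P).hom _

include hf in
/-- injectivity on closed points -/
theorem injOn_closedPoints (hsep : Sep pX n f) (P Q : X)
    (hPc : IsClosed ({P} : Set X)) (hQc : IsClosed ({Q} : Set X)) (h : f P = f Q) : P = Q := by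
  have hx : f P ∈ (⨆ e : Fin (n + 1), D (k := k) n e) := by
    rw [iSup_basicOpen_X]; trivial
  obtain ⟨e, he⟩ := Opens.mem_iSup.mp hx
  have hP : P ∈ f ⁻¹ᵁ D (k := k) n e := he
  have hQ : Q ∈ f ⁻¹ᵁ D (k := k) n e := by
    show f Q ∈ D (k := k) n e
    rw [← h]; exact he
  refine eq_of_forall_germ_mem_iff pX n f hf hsep e P Q hP hQ hPc hQc fun a => ?_
  rw [germ_app_mem_iff f _ P hP, germ_app_mem_iff f _ Q hQ]
  exact germ_mem_iff_of_eq a h _ _

include hf in
/-- condition (b) of the surjectivity criterion -/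
theorem maximalIdeal_le_span (htan : Tan pX n f) [IsLocallyNoetherian X] (e : Fin (n + 1))
    (P : X) (hP : P ∈ f ⁻¹ᵁ D (k := k) n e) (hPc : IsClosed ({P} : Set X)) :
    IsLocalRing.maximalIdeal (X.presheaf.stalk P) ≤
      Ideal.span {x | ∃ a : Γ(Proj (CohB1.polyGrading n k), D (k := k) n e),
        x = X.presheaf.germ _ P hP (f.app _ a) ∧ x ∈ IsLocalRing.maximalIdeal _} := by
  have h1 := le_J_of_le_span pX (σr n f) e P (mem_XE n f e P hP) hPc (htan P hPc)
  refine h1.trans ?_
  unfold J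
  rw [Ideal.span_le]
  rintro _ ⟨j, rfl⟩
  apply Ideal.subset_span
  refine ⟨cΓ n j e - konst n e (val pX (σr n f) e P (mem_XE n f e P hP) hPc j), ?_, ?_⟩
  · rw [germ_app_sub pX n f hf]
    rfl
  · exact gen_mem pX (σr n f) e P (mem_XE n f e P hP) hPc j

include hf in
/-- condition (c) of the surjectivity criterion -/
theorem exists_sub_mem (e : Fin (n + 1)) (P : X) (hP : P ∈ f ⁻¹ᵁ D (k := k) n e)
    (hPc : IsClosed ({P} : Set X)) (b : Γ(X, f ⁻¹ᵁ D (k := k) n e)) :
    ∃ a : Γ(Proj (CohB1.polyGrading n k), D (k := k) n e),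
      X.presheaf.germ _ P hP (b - f.app _ a) ∈ IsLocalRing.maximalIdeal _ := by
  refine ⟨konst n e (ev pX P hPc (X.presheaf.germ _ P hP b)), ?_⟩
  rw [map_sub, germ_app_konst n f pX hf]
  exact sub_cst_ev_mem pX P hPc _

theorem surjective_appTop_morphismRestrict {Y : Scheme.{u}} (g : X ⟶ Y) (U : Y.Opens)
    (h : Function.Surjective (g.app U)) : Function.Surjective (g ∣_ U).appTop := by
  have h1 : ∀ (V : Y.Opens), V = U → Function.Surjective (g.app V) := by
    rintro _ rfl; exact h
  rw [Scheme.Hom.appTop, morphismRestrict_app]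
  intro b
  obtain ⟨b', hb'⟩ := (ConcreteCategory.bijective_of_isIso
    (X.presheaf.map (eqToHom (image_morphismRestrict_preimage g U ⊤)).op)).2 b
  obtain ⟨a, ha⟩ := h1 _ (Scheme.Opens.ι_image_top U) b'
  refine ⟨a, ?_⟩
  erw [CommRingCat.comp_apply]
  exact (congrArg _ ha).trans hb'

include hf in
/-- **separating points and tangent vectors implies closed immersion** -/
theorem isClosedImmersion_of_sep_tan [IsProper pX] (hsep : Sep pX n f) (htan : Tan pX n f) :
    IsClosedImmersion f := by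
  haveI : IsProper (toSpec' (k := k) n) := Groth.Agent.Helper6.HProj.isProper_toSpec n k
  haveI : IsProper (f ≫ toSpec' (k := k) n) := by rw [hf]; infer_instance
  haveI : IsProper f := IsProper.of_comp f (toSpec' (k := k) n)
  haveI : JacobsonSpace X := LocallyOfFiniteType.jacobsonSpace pX
  haveI : CompactSpace X := QuasiCompact.compactSpace_of_compactSpace pX
  haveI : IsLocallyNoetherian X := LocallyOfFiniteType.isLocallyNoetherian pX
  haveI : IsFinite f := Groth.Agent.Helper4.SN607.isFinite_of_injOn_closedPoints f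
    (injOn_closedPoints pX n f hf hsep)
  have hAff : ∀ e, IsAffineOpen (D (k := k) n e) := fun e =>
    Proj.isAffineOpen_basicOpen _ _ (hX e) one_pos
  have hsurj : ∀ e, Function.Surjective (f.app (D (k := k) n e)) := by
    intro e
    exact Groth.Agent.Helper4.SN606.surjective_app_of_closedPoints f (D n e)
      ((hAff e).preimage f) (IsFinite.finite_app f _ (hAff e))
      (fun P Q hP hQ hPc hQc h => eq_of_forall_germ_mem_iff pX n f hf hsep e P Q hP hQ hPc hQc h)
      (fun P hP hPc => maximalIdeal_le_span pX n f hf htan e P hP hPc)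
      (fun P hP hPc b => exists_sub_mem pX n f hf e P hP hPc b)
  rw [IsZariskiLocalAtTarget.iff_of_iSup_eq_top (P := @IsClosedImmersion) (D (k := k) n)
    (iSup_basicOpen_X k n)]
  intro e
  haveI : IsAffine (D (k := k) n e) := hAff e
  rw [HasAffineProperty.iff_of_isAffine (P := @IsClosedImmersion)]
  exact ⟨(hAff e).preimage f, surjective_appTop_morphismRestrict f _ (hsurj e)⟩

/-- points of an affine open are determined by the sections vanishing at them -/
theorem eq_of_forall_germ_mem_iff' {V : X.Opens} (hV : IsAffineOpen V) (P Q : X) (hP : P ∈ V)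
    (hQ : Q ∈ V)
    (h : ∀ b : Γ(X, V), X.presheaf.germ V P hP b ∈ IsLocalRing.maximalIdeal _ ↔
      X.presheaf.germ V Q hQ b ∈ IsLocalRing.maximalIdeal _) : P = Q := by
  have key : ∀ (R : X) (hR : R ∈ V) (b : Γ(X, V)),
      b ∈ (hV.primeIdealOf ⟨R, hR⟩).asIdeal ↔
        X.presheaf.germ V R hR b ∈ IsLocalRing.maximalIdeal _ := by
    intro R hR b
    letI := X.presheaf.algebra_section_stalk ⟨R, hR⟩
    haveI := hV.isLocalization_stalk ⟨R, hR⟩
    exact (IsLocalization.AtPrime.to_map_mem_maximal_iff (X.presheaf.stalk R)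
      (hV.primeIdealOf ⟨R, hR⟩).asIdeal b).symm
  have h1 : hV.primeIdealOf ⟨P, hP⟩ = hV.primeIdealOf ⟨Q, hQ⟩ := by
    apply PrimeSpectrum.ext
    ext b
    rw [key P hP, key Q hQ, h]
  have h2 := hV.fromSpec_primeIdealOf ⟨P, hP⟩
  have h3 := hV.fromSpec_primeIdealOf ⟨Q, hQ⟩
  rw [h1] at h2
  exact h2.symm.trans h3

include hf in
/-- every function on the standard open is constant modulo `J` at a closed point -/
theorem germ_sub_cst_mem_J (e : Fin (n + 1)) (P : X) (hP : P ∈ f ⁻¹ᵁ D (k := k) n e)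
    (hPc : IsClosed ({P} : Set X)) (a : Γ(Proj (CohB1.polyGrading n k), D (k := k) n e)) :
    X.presheaf.germ _ P hP (f.app _ a) - cst pX P (rho pX n f e P hP hPc a) ∈
      J pX (σr n f) e P (mem_XE n f e P hP) hPc := by
  set θ : Γ(Proj (CohB1.polyGrading n k), D (k := k) n e) →+* X.presheaf.stalk P :=
    (X.presheaf.germ (f ⁻¹ᵁ D (k := k) n e) P hP).hom.comp (f.app (D (k := k) n e)).hom with hθ
  set π : X.presheaf.stalk P →+* X.presheaf.stalk P := (cst pX P).comp (ev pX P hPc) with hπ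
  set JJ := J pX (σr n f) e P (mem_XE n f e P hP) hPc with hJJ
  let T : Subring Γ(Proj (CohB1.polyGrading n k), D (k := k) n e) :=
    { carrier := {a | θ a - π (θ a) ∈ JJ}
      mul_mem' := by
        intro a b ha hb
        show θ (a * b) - π (θ (a * b)) ∈ JJ
        have h1 : θ (a * b) - π (θ (a * b)) =
            θ a * (θ b - π (θ b)) + π (θ b) * (θ a - π (θ a)) := by
          rw [map_mul, map_mul]; ring
        rw [h1]
        exact JJ.add_mem (JJ.mul_mem_left _ hb) (JJ.mul_mem_left _ ha)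
      one_mem' := by
        show θ 1 - π (θ 1) ∈ JJ
        rw [map_one, map_one, sub_self]; exact JJ.zero_mem
      add_mem' := by
        intro a b ha hb
        show θ (a + b) - π (θ (a + b)) ∈ JJ
        have h1 : θ (a + b) - π (θ (a + b)) = (θ a - π (θ a)) + (θ b - π (θ b)) := by
          rw [map_add, map_add]; ring
        rw [h1]
        exact JJ.add_mem ha hb
      zero_mem' := by
        show θ 0 - π (θ 0) ∈ JJ
        rw [map_zero, map_zero, sub_self]; exact JJ.zero_mem
      neg_mem' := by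
        intro a ha
        show θ (-a) - π (θ (-a)) ∈ JJ
        have h1 : θ (-a) - π (θ (-a)) = -(θ a - π (θ a)) := by
          rw [map_neg, map_neg]; ring
        rw [h1]
        exact JJ.neg_mem ha }
  have hT : T = ⊤ := by
    apply subring_eq_top n e T
    · intro c
      show θ (konst n e c) - π (θ (konst n e c)) ∈ JJ
      have h1 : θ (konst n e c) = cst pX P c := germ_app_konst n f pX hf e c P hP
      rw [h1, hπ, RingHom.comp_apply, ev_cst, sub_self]
      exact JJ.zero_mem
    · intro j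
      show θ (cΓ n j e) - π (θ (cΓ n j e)) ∈ JJ
      have h1 : θ (cΓ n j e) = X.presheaf.germ (XE (σr n f) e) P (mem_XE n f e P hP)
          (ratio (σr n f) j e) := germ_app_cΓ n f j e P hP (mem_XE n f e P hP)
      rw [h1]
      exact Ideal.subset_span ⟨j, rfl⟩
  have : a ∈ T := by rw [hT]; trivial
  exact this

theorem isInvertible_LL : PicF.IsInvertible ((Scheme.Modules.pullback f).obj
    (Twist.twist (CohB1.polyGrading n k) ((1 : ℕ) : ℤ))) :=
  Groth.Agent.Helper4.PullSec.isInvertible_pullback f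
    (Groth.Agent.Helper1.TwistMul.isInvertible_twist _ (hcovP n) _)

theorem exists_mem_preimage_D (P : X) : ∃ e, P ∈ f ⁻¹ᵁ D (k := k) n e := by
  have hx : f P ∈ (⨆ e : Fin (n + 1), D (k := k) n e) := by
    rw [iSup_basicOpen_X]; trivial
  obtain ⟨e, he⟩ := Opens.mem_iSup.mp hx
  exact ⟨e, he⟩

include hf in
/-- **a closed immersion separates points** -/
theorem sep_of_isClosedImmersion [IsClosedImmersion f] : Sep pX n f := by
  intro P Q hPc hQc hne
  by_contra hcon
  have hiff : ∀ c, Van pX (σr n f) P c ↔ Van pX (σr n f) Q c := by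
    intro c
    constructor
    · intro h1
      by_contra h2
      exact hcon ⟨c, Or.inl ⟨h1, h2⟩⟩
    · intro h1
      by_contra h2
      exact hcon ⟨c, Or.inr ⟨h1, h2⟩⟩
  obtain ⟨e, hP⟩ := exists_mem_preimage_D n f P
  obtain ⟨hQ', hval⟩ := val_eq_of_van_iff pX (σr n f) (isInvertible_LL n f) e P Q
    (mem_XE n f e P hP) hPc hQc hiff
  have hQ : Q ∈ f ⁻¹ᵁ D (k := k) n e := by rw [← XE_eq]; exact hQ'
  have hrho := rho_eq_of_val_eq pX n f hf e P Q hP hQ hPc hQc hval
  have hAff : IsAffineOpen (D (k := k) n e) := Proj.isAffineOpen_basicOpen _ _ (hX e) one_pos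
  apply hne
  apply eq_of_forall_germ_mem_iff' (hAff.preimage f) P Q hP hQ
  intro b
  obtain ⟨a, rfl⟩ := f.app_surjective (D (k := k) n e) hAff b
  rw [← ev_eq_zero_iff pX P hPc, ← ev_eq_zero_iff pX Q hQc, ← rho_apply, ← rho_apply, hrho]

include hf in
/-- **a closed immersion separates tangent vectors** -/
theorem tan_of_isClosedImmersion [IsClosedImmersion f] : Tan pX n f := by
  intro P hPc
  obtain ⟨e, hP⟩ := exists_mem_preimage_D n f P
  refine le_trans (le_span_of_le_J pX (σr n f) e P (mem_XE n f e P hP) hPc ?_) le_sup_left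
  intro x hx
  have hAff : IsAffineOpen (D (k := k) n e) := Proj.isAffineOpen_basicOpen _ _ (hX e) one_pos
  have hV := hAff.preimage f
  letI := X.presheaf.algebra_section_stalk ⟨P, hP⟩
  haveI := hV.isLocalization_stalk ⟨P, hP⟩
  obtain ⟨⟨b, s⟩, hbs⟩ := IsLocalization.surj (hV.primeIdealOf ⟨P, hP⟩).asIdeal.primeCompl x
  have hbs' : x * X.presheaf.germ _ P hP (s : Γ(X, f ⁻¹ᵁ D (k := k) n e)) =
      X.presheaf.germ _ P hP b := hbs
  have hunit : IsUnit (X.presheaf.germ _ P hP (s : Γ(X, f ⁻¹ᵁ D (k := k) n e))) :=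
    IsLocalization.map_units (X.presheaf.stalk P) s
  obtain ⟨a, rfl⟩ := f.app_surjective (D (k := k) n e) hAff b
  have h1 := germ_sub_cst_mem_J pX n f hf e P hP hPc a
  have h2 : rho pX n f e P hP hPc a = 0 := by
    rw [rho_apply, ← hbs', map_mul, (ev_eq_zero_iff pX P hPc x).mpr hx, zero_mul]
  rw [h2, map_zero, sub_zero, ← hbs'] at h1
  exact (Ideal.mul_unit_mem_iff_mem _ hunit).mp h1

end Groth.Agent.Helper4.SN611
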