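import Mathlib
import Groth.Agent.Helper4.SN559
import Groth.Agent.Helper4.SN604

/-!
# Order of vanishing of sections at closed points of a curve in terms of valuations
-/

set_option autoImplicit false
set_option linter.style.haveILetI false
set_option linter.unusedSectionVars false
universe u
open CategoryTheory CategoryTheory.Limits AlgebraicGeometry TopologicalSpace Opposite FunFld
open scoped TensorProduct

namespace Groth.Agent.Helper4.SN612

open Groth.Agent.Helper4.StalkDict Groth.Agent.Helper4.TwistExt Groth.Agent.Helper4.SN200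
  Groth.Agent.Helper4.SN549 Groth.Agent.Helper4.SN550 Groth.Agent.Helper4.SN551
  Groth.Agent.Helper4.SN552 Groth.Agent.Helper4.SN553 Groth.Agent.Helper4.SN555
  Groth.Agent.Helper4.SN559

attribute [local instance] Curv2.stalkAlgebra Curv2.resAlgebra

variable {k : Type u} [Field k] {X : Scheme.{u}} [X.Over (Spec (CommRingCat.of k))]
  [IsIntegral X] (pd : PlaceData k X)

/-- every rational section is a multiple of a nonzero one -/
theorem exists_smul_eq (L : X.Modules) (hL : PicF.IsInvertible L)
    (t : L.presheaf.stalk (genericPoint X)) (ht0 : t ≠ 0)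
    (u : L.presheaf.stalk (genericPoint X)) : ∃ f : X.functionField, u = f • t := by
  obtain ⟨e, he0, he⟩ := exists_gen L hL
  obtain ⟨a, ha⟩ := he u
  obtain ⟨b, hb⟩ := he t
  have hb0 : b ≠ 0 := by
    rintro rfl
    rw [zero_smul] at hb
    exact ht0 hb
  exact ⟨a * b⁻¹, by rw [ha, hb, smul_smul, mul_assoc, inv_mul_cancel₀ hb0, mul_one]⟩

variable (L : X.Modules) (hL : PicF.IsInvertible L) (t : L.presheaf.stalk (genericPoint X))
  (D : Divisor k X.functionField) (h : IsDiv pd L t D)

include hL h in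
/-- **order of vanishing**: an element of the stalk lies in `m_x^n L_x` iff its coefficient has
valuation at most `D(x) - n` -/
theorem mem_pow_smul_top_iff (x : {x : X // IsClosed ({x} : Set X)}) (n : ℕ)
    (m : L.presheaf.stalk x.1) (f : X.functionField) (hm : sp L x.1 m = f • t) :
    m ∈ (IsLocalRing.maximalIdeal (X.presheaf.stalk x.1) ^ n) •
        (⊤ : Submodule (X.presheaf.stalk x.1) (L.presheaf.stalk x.1)) ↔
      (pd.pl x).1 f ≤ WithZero.exp (D (pd.pl x) - n) := by
  obtain ⟨ϖ, hϖ, hmax⟩ := pd.exists_uniformizer x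
  have hϖ0 : algebraMap (X.presheaf.stalk x.1) X.functionField ϖ ≠ 0 := by
    intro h0
    rw [h0, map_zero] at hϖ
    exact WithZero.exp_ne_zero hϖ.symm
  have hpow : (pd.pl x).1 ((algebraMap (X.presheaf.stalk x.1) X.functionField ϖ) ^ n) =
      WithZero.exp (-(n : ℤ)) := by
    rw [map_pow, hϖ, ← WithZero.exp_nsmul]
    congr 1
    simp
  have hpow0 : (algebraMap (X.presheaf.stalk x.1) X.functionField ϖ) ^ n ≠ 0 := pow_ne_zero n hϖ0
  rw [hmax, Ideal.span_singleton_pow, mem_span_singleton_smul_top]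
  have key : (pd.pl x).1 (((algebraMap (X.presheaf.stalk x.1) X.functionField ϖ) ^ n)⁻¹ * f) ≤
      WithZero.exp (D (pd.pl x)) ↔ (pd.pl x).1 f ≤ WithZero.exp (D (pd.pl x) - n) := by
    rw [map_mul, map_inv₀, hpow, ← WithZero.exp_neg, neg_neg]
    rcases eq_or_ne ((pd.pl x).1 f) 0 with h0 | h0
    · rw [h0, mul_zero]
      exact ⟨fun _ => zero_le', fun _ => zero_le'⟩
    · rw [← WithZero.exp_log h0, ← WithZero.exp_add, WithZero.exp_le_exp, WithZero.exp_le_exp]
      omega
  constructor
  · rintro ⟨m', rfl⟩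
    rw [sp_smul, map_pow] at hm
    have h1 : sp L x.1 m' =
        (((algebraMap (X.presheaf.stalk x.1) X.functionField ϖ) ^ n)⁻¹ * f) • t := by
      rw [mul_smul, ← hm, smul_smul, inv_mul_cancel₀ hpow0, one_smul]
    exact key.mp ((h x _).1 ⟨m', h1⟩)
  · intro hf
    obtain ⟨m', hm'⟩ := (h x _).2 (key.mpr hf)
    refine ⟨m', ?_⟩
    apply sp_injective L hL x.1
    rw [hm, sp_smul, map_pow, hm', smul_smul, mul_inv_cancel_left₀ hpow0]

include h in
theorem ne_zero_of_isDiv : t ≠ 0 := by
  obtain ⟨P0⟩ := Groth.Agent.Helper5.FF.nonempty_place pd.hK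
  obtain ⟨x0, -⟩ := pd.pl.surjective P0
  exact IsDiv.ne_zero pd h x0

include hL h in
/-- the function attached to a global section -/
theorem exists_fn (s : Γ(L, ⊤)) :
    ∃ f ∈ FunFld.L D, L.presheaf.germ ⊤ (genericPoint X) trivial s = f • t := by
  obtain ⟨f, hf⟩ := exists_smul_eq L hL t (ne_zero_of_isDiv pd L t D h)
    (L.presheaf.germ ⊤ (genericPoint X) trivial s)
  refine ⟨f, ?_, hf⟩
  intro P
  obtain ⟨x, rfl⟩ := pd.pl.surjective P
  rw [← h x f, ← hf]
  exact ⟨L.presheaf.germ ⊤ x.1 trivial s, sp_germ L x.1 ⊤ trivial s⟩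

include hL h in
/-- the global section attached to a function of the Riemann–Roch space -/
theorem exists_section (f : X.functionField) (hf : f ∈ FunFld.L D) :
    ∃ s : Γ(L, ⊤), L.presheaf.germ ⊤ (genericPoint X) trivial s = f • t := by
  have hreg : ∀ x : X, f • t ∈ Set.range (sp L x) := by
    intro x
    by_cases hx : x = genericPoint X
    · subst hx
      exact ⟨f • t, sp_genericPoint L _⟩
    · have hcl := pd.closed x hx
      exact (h ⟨x, hcl⟩ f).2 (hf (pd.pl ⟨x, hcl⟩))
  exact exists_section_of_forall_mem_range L hL (f • t) hreg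

include hL h in
/-- **order of vanishing of a global section** -/
theorem germ_mem_pow_iff (x : {x : X // IsClosed ({x} : Set X)}) (n : ℕ) (s : Γ(L, ⊤))
    (f : X.functionField) (hf : L.presheaf.germ ⊤ (genericPoint X) trivial s = f • t) :
    L.presheaf.germ ⊤ x.1 trivial s ∈
      (IsLocalRing.maximalIdeal (X.presheaf.stalk x.1) ^ n) •
        (⊤ : Submodule (X.presheaf.stalk x.1) (L.presheaf.stalk x.1)) ↔
      (pd.pl x).1 f ≤ WithZero.exp (D (pd.pl x) - n) :=
  mem_pow_smul_top_iff pd L hL t D h x n _ f (by rw [sp_germ]; exact hf)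

omit [X.Over (Spec (CommRingCat.of k))] [IsIntegral X] in
/-- membership in `L(D - nP)` for an element of `L(D)` -/
theorem mem_L_sub_single_iff {K : Type*} [Field K] [Algebra k K] (D : Divisor k K)
    (P : Place k K) (n : ℕ) (f : K) (hf : f ∈ FunFld.L D) :
    f ∈ FunFld.L (D - Finsupp.single P (n : ℤ)) ↔ P.1 f ≤ WithZero.exp (D P - n) := by
  constructor
  · intro h1
    have := h1 P
    rwa [Finsupp.sub_apply, Finsupp.single_eq_same] at this
  · intro h1 Q
    by_cases hQ : Q = P
    · subst hQ
      rwa [Finsupp.sub_apply, Finsupp.single_eq_same]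
    · rw [Finsupp.sub_apply, Finsupp.single_eq_of_ne hQ, sub_zero]
      exact hf Q

end Groth.Agent.Helper4.SN612
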