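import Mathlib
import Groth.Agent.Helper4.SN612
import Groth.Agent.Helper4.SN571

/-!
# Global sections of the twist of an invertible module by the ideals of two points
-/

set_option autoImplicit false
set_option linter.style.haveILetI false
set_option linter.unusedSectionVars false
universe u
open CategoryTheory CategoryTheory.Limits AlgebraicGeometry TopologicalSpace Opposite FunFld
open scoped TensorProduct

namespace Groth.Agent.Helper4.SN613

open Groth.Agent.Helper4.StalkDict Groth.Agent.Helper4.TwistExt Groth.Agent.Helper4.SN200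
  Groth.Agent.Helper4.SN549 Groth.Agent.Helper4.SN550 Groth.Agent.Helper4.SN551
  Groth.Agent.Helper4.SN552 Groth.Agent.Helper4.SN553 Groth.Agent.Helper4.SN555
  Groth.Agent.Helper4.SN559 Groth.Agent.Helper4.SN571 Groth.Agent.Helper4.SN

attribute [local instance] Curv2.stalkAlgebra Curv2.resAlgebra

variable {k : Type u} [Field k] {X : Scheme.{u}} [X.Over (Spec (CommRingCat.of k))]
  [IsIntegral X] (pd : PlaceData k X)

/-- the ideal of a closed point is invertible, with divisor linearly equivalent to `-x` -/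
theorem exists_isDiv_idealMod (x : {x : X // IsClosed ({x} : Set X)}) :
    ∃ (u : (ClSub.idealMod (Scheme.IdealSheafData.vanishingIdeal
        ⟨{x.1}, x.2⟩)).presheaf.stalk (genericPoint X)) (E : Divisor k X.functionField),
      PicF.IsInvertible (ClSub.idealMod (Scheme.IdealSheafData.vanishingIdeal ⟨{x.1}, x.2⟩)) ∧
      IsDiv pd (ClSub.idealMod (Scheme.IdealSheafData.vanishingIdeal ⟨{x.1}, x.2⟩)) u E ∧
      E + Finsupp.single (pd.pl x) 1 ∈ prinDivs k X.functionField := by
  haveI := pd.hp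
  obtain ⟨hI, -⟩ := ideal_point_of_normal k pd.hdim x.1 x.2 (pd.normal x.1 x.2)
  obtain ⟨u, hu0, -⟩ := exists_gen _ hI
  obtain ⟨E, hE⟩ := exists_isDiv pd _ hI u hu0
  obtain ⟨L'', t'', hL'', h'', -, ⟨α⟩⟩ := exists_down pd x (Coh.structureModule X)
    Groth.Agent.Helper4.TensorInv.isInvertible_structureModule _ 0 (isDiv_one pd)
  have hsub := sub_mem_prinDivs_of_iso pd (α ≪≫ SecTwist.unitorR _) hI h'' hE
  refine ⟨u, E, hI, hE, ?_⟩
  have := (prinDivs k X.functionField).neg_mem hsub
  convert this using 1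
  abel

/-- **`h⁰(L ⊗ I_P ⊗ I_Q) = ℓ(D - P - Q)`** -/
theorem finrank_h0_twist (L : X.Modules) (hL : PicF.IsInvertible L)
    (t : L.presheaf.stalk (genericPoint X)) (D : Divisor k X.functionField)
    (h : IsDiv pd L t D) (P Q : {x : X // IsClosed ({x} : Set X)}) :
    Module.finrank k (Coh.HH X (CohB1.tensorMod L (CohB1.tensorMod
      (ClSub.idealMod (Scheme.IdealSheafData.vanishingIdeal ⟨{P.1}, P.2⟩))
      (ClSub.idealMod (Scheme.IdealSheafData.vanishingIdeal ⟨{Q.1}, Q.2⟩)))) 0) =
      FunFld.ell (D - Finsupp.single (pd.pl P) 1 - Finsupp.single (pd.pl Q) 1) := by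
  obtain ⟨uP, EP, hIP, hEP, hprP⟩ := exists_isDiv_idealMod pd P
  obtain ⟨uQ, EQ, hIQ, hEQ, hprQ⟩ := exists_isDiv_idealMod pd Q
  have hPQ := isDiv_tensor pd hIP hIQ hEP hEQ
  have hIPQ := isInvertible_tensor _ _ hIP hIQ
  have hAll := isDiv_tensor pd hL hIPQ h hPQ
  rw [finrank_h0_eq_ell pd _ (isInvertible_tensor _ _ hL hIPQ) _ _ hAll]
  obtain ⟨g, hg0, hg⟩ := (Groth.Agent.Helper6.FFZeta.mem_prinDivs_iff pd.hK _).mp
    ((prinDivs k X.functionField).add_mem hprP hprQ)
  have : D + (EP + EQ) = (D - Finsupp.single (pd.pl P) 1 - Finsupp.single (pd.pl Q) 1) +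
      FunFld.div k g := by
    rw [← hg]; abel
  rw [this, Groth.Agent.Helper5.FF.ell_add_div pd.hK _ hg0]

end Groth.Agent.Helper4.SN613
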