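import Mathlib
import Groth.Agent.Helper4.SN612
import Groth.Agent.Helper4.SN609

/-!
# Linear systems on a curve: separation of points and tangent vectors in terms of
Riemann–Roch spaces
-/

set_option autoImplicit false
set_option linter.style.haveILetI false
set_option linter.unusedSectionVars false
universe u
open CategoryTheory CategoryTheory.Limits AlgebraicGeometry TopologicalSpace Opposite FunFld
open scoped TensorProduct

namespace Groth.Agent.Helper4.SN614

open Groth.Agent.Helper4.StalkDict Groth.Agent.Helper4.TwistExt Groth.Agent.Helper4.SN200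
  Groth.Agent.Helper4.SN549 Groth.Agent.Helper4.SN550 Groth.Agent.Helper4.SN551
  Groth.Agent.Helper4.SN559 Groth.Agent.Helper4.SN608 Groth.Agent.Helper4.SN609
  Groth.Agent.Helper4.SN612 Groth.Agent.Helper1.PUP

attribute [local instance] Curv2.stalkAlgebra Curv2.resAlgebra

variable {k : Type u} [Field k] {X : Scheme.{u}} [X.Over (Spec (CommRingCat.of k))]
  [IsIntegral X] (pd : PlaceData k X)
  (L : X.Modules) (hL : PicF.IsInvertible L) (t : L.presheaf.stalk (genericPoint X))
  (D : Divisor k X.functionField) (h : IsDiv pd L t D)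
  {n : ℕ} (σ : Fin (n + 1) → (Coh.structureModule X ⟶ L))

omit [X.Over (Spec (CommRingCat.of k))] [IsIntegral X] in
/-- membership in `L(D - P)` for an element of `L(D)` -/
theorem mem_L_sub_single_one_iff {K : Type*} [Field K] [Algebra k K] (D : Divisor k K)
    (P : Place k K) (f : K) (hf : f ∈ FunFld.L D) :
    f ∈ FunFld.L (D - Finsupp.single P 1) ↔ P.1 f ≤ WithZero.exp (D P - 1) := by
  have := mem_L_sub_single_iff D P 1 f hf
  rw [Nat.cast_one] at this
  exact this

include pd hL h in
/-- the function attached to the section `lin c` -/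
theorem exists_G : ∃ G : (Fin (n + 1) → k) → X.functionField,
    (∀ c, G c ∈ FunFld.L D) ∧
    ∀ c, L.presheaf.germ ⊤ (genericPoint X) trivial
      (lin (X ↘ Spec (CommRingCat.of k)) σ c) = G c • t := by
  choose G hG1 hG2 using fun c => exists_fn pd L hL t D h (lin (X ↘ Spec (CommRingCat.of k)) σ c)
  exact ⟨G, hG1, hG2⟩

variable (G : (Fin (n + 1) → k) → X.functionField) (hG1 : ∀ c, G c ∈ FunFld.L D)
  (hG2 : ∀ c, L.presheaf.germ ⊤ (genericPoint X) trivial
    (lin (X ↘ Spec (CommRingCat.of k)) σ c) = G c • t)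

include hL h hG1 hG2 in
/-- vanishing at a closed point in terms of the Riemann–Roch space -/
theorem van_iff_mem (x : {x : X // IsClosed ({x} : Set X)}) (c : Fin (n + 1) → k) :
    Van (X ↘ Spec (CommRingCat.of k)) σ x.1 c ↔
      G c ∈ FunFld.L (D - Finsupp.single (pd.pl x) 1) := by
  unfold Van
  have h1 := germ_mem_pow_iff pd L hL t D h x 1 _ (G c) (hG2 c)
  rw [pow_one, Nat.cast_one] at h1
  rw [h1]
  exact (mem_L_sub_single_one_iff D (pd.pl x) (G c) (hG1 c)).symm

include hL h hG1 hG2 in
/-- vanishing to second order at a closed point in terms of the Riemann–Roch space -/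
theorem van2_iff_mem (x : {x : X // IsClosed ({x} : Set X)}) (c : Fin (n + 1) → k) :
    L.presheaf.germ ⊤ x.1 trivial (lin (X ↘ Spec (CommRingCat.of k)) σ c) ∈
      (IsLocalRing.maximalIdeal (X.presheaf.stalk x.1) ^ 2) •
        (⊤ : Submodule (X.presheaf.stalk x.1) (L.presheaf.stalk x.1)) ↔
      G c ∈ FunFld.L (D - Finsupp.single (pd.pl x) 1 - Finsupp.single (pd.pl x) 1) := by
  rw [germ_mem_pow_iff pd L hL t D h x 2 _ (G c) (hG2 c)]
  constructor
  · intro h1
    have h2 : G c ∈ FunFld.L (D - Finsupp.single (pd.pl x) 1) := by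
      rw [mem_L_sub_single_one_iff D (pd.pl x) (G c) (hG1 c)]
      refine h1.trans ?_
      rw [WithZero.exp_le_exp]; push_cast; omega
    rw [mem_L_sub_single_one_iff _ (pd.pl x) (G c) h2, Finsupp.sub_apply, Finsupp.single_eq_same]
    refine h1.trans ?_
    rw [WithZero.exp_le_exp]; push_cast; omega
  · intro h1
    have := h1 (pd.pl x)
    rw [Finsupp.sub_apply, Finsupp.sub_apply, Finsupp.single_eq_same] at this
    refine this.trans ?_
    rw [WithZero.exp_le_exp]; push_cast; omega

end Groth.Agent.Helper4.SN614
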