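import Mathlib
import Groth.Agent.Helper4.SN603

/-!
# Function field numerics for very ampleness
-/

set_option autoImplicit false
set_option linter.unusedSectionVars false
open FunFld

namespace Groth.Agent.Helper4.SN615

open Groth.Agent.Helper5.FF hiding degHom degHom_apply

variable {k K : Type*} [Field k] [Field K] [Algebra k K] (hK : IsFunctionField k K)

theorem sub_single_le (A : Divisor k K) (P : Place k K) : A - Finsupp.single P 1 ≤ A := by
  intro Q
  rw [Finsupp.sub_apply]
  by_cases hQ : Q = P
  · subst hQ
    rw [Finsupp.single_eq_same]; omega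
  · rw [Finsupp.single_eq_of_ne hQ, sub_zero]

include hK in
/-- dropping a point lowers `ℓ` by at most one -/
theorem ell_le_ell_sub_single_add_one [IsAlgClosed k] (A : Divisor k K) (P : Place k K) :
    ell A ≤ ell (A - Finsupp.single P 1) + 1 := by
  have h1 := ell_sub_ell_le hK _ _ (sub_single_le A P)
  rw [deg_sub, deg_single, deg_eq_one_of_isAlgClosed hK P] at h1
  push_cast at h1
  omega

include hK in
theorem ell_sub_single_le (A : Divisor k K) (P : Place k K) :
    ell (A - Finsupp.single P 1) ≤ ell A := by
  have := finiteDimensional_L hK A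
  exact Submodule.finrank_mono (L_mono (sub_single_le A P))

include hK in
/-- a function in `L(A)` not in `L(A - P)` makes `ℓ` drop -/
theorem ell_sub_single_lt_of_mem (A : Divisor k K) (P : Place k K) (g : K) (hg : g ∈ L A)
    (hg' : g ∉ L (A - Finsupp.single P 1)) : ell (A - Finsupp.single P 1) < ell A := by
  have := finiteDimensional_L hK A
  have hlt : L (A - Finsupp.single P 1) < L A :=
    lt_of_le_of_ne (L_mono (sub_single_le A P)) fun heq => hg' (heq ▸ hg)
  exact Submodule.finrank_lt_finrank_of_lt hlt

include hK in
/-- if `ℓ` drops there is a function in `L(A)` not in `L(A - P)` -/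
theorem exists_mem_of_ell_lt (A : Divisor k K) (P : Place k K)
    (h : ell (A - Finsupp.single P 1) < ell A) :
    ∃ g : K, g ∈ L A ∧ g ∉ L (A - Finsupp.single P 1) := by
  have hle : L (A - Finsupp.single P 1) ≤ L A := L_mono (sub_single_le A P)
  have hlt : L (A - Finsupp.single P 1) < L A := by
    refine lt_of_le_of_ne hle fun heq => ?_
    unfold ell at h
    rw [heq] at h
    exact lt_irrefl _ h
  obtain ⟨g, hg, hg'⟩ := SetLike.exists_of_lt hlt
  exact ⟨g, hg, hg'⟩

end Groth.Agent.Helper4.SN615
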