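import Mathlib
import Groth.Agent.Helper4.SN614
import Groth.Agent.Helper4.SN615

/-!
# Very ampleness on a curve: numerics from separation and separation from numerics
-/

set_option autoImplicit false
set_option linter.style.haveILetI false
set_option linter.unusedSectionVars false
universe u
open CategoryTheory CategoryTheory.Limits AlgebraicGeometry TopologicalSpace Opposite FunFld
open scoped TensorProduct

namespace Groth.Agent.Helper4.SN616

open Groth.Agent.Helper4.StalkDict Groth.Agent.Helper4.TwistExt Groth.Agent.Helper4.SN200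
  Groth.Agent.Helper4.SN549 Groth.Agent.Helper4.SN550 Groth.Agent.Helper4.SN551
  Groth.Agent.Helper4.SN559 Groth.Agent.Helper4.SN608 Groth.Agent.Helper4.SN609
  Groth.Agent.Helper4.SN612 Groth.Agent.Helper4.SN614 Groth.Agent.Helper4.SN615
  Groth.Agent.Helper1.PUP

attribute [local instance] Curv2.stalkAlgebra Curv2.resAlgebra

section FF

open Groth.Agent.Helper5.FF hiding degHom degHom_apply

variable {k K : Type*} [Field k] [Field K] [Algebra k K] (hK : IsFunctionField k K)

include hK in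
theorem ell_add_two_eq [IsAlgClosed k] (D : Divisor k K) (P Q : Place k K)
    (h1 : ell (D - Finsupp.single P 1) < ell D)
    (h2 : ell (D - Finsupp.single P 1 - Finsupp.single Q 1) < ell (D - Finsupp.single P 1)) :
    ell (D - Finsupp.single P 1 - Finsupp.single Q 1) + 2 = ell D := by
  have h3 := ell_le_ell_sub_single_add_one hK D P
  have h4 := ell_le_ell_sub_single_add_one hK (D - Finsupp.single P 1) Q
  omega

theorem mem_sub_sub_of_mem (D : Divisor k K) (P Q : Place k K) (hPQ : P ≠ Q) (g : K)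
    (hP : g ∈ L (D - Finsupp.single P 1)) (hQ : g ∈ L (D - Finsupp.single Q 1)) :
    g ∈ L (D - Finsupp.single P 1 - Finsupp.single Q 1) := by
  intro R
  by_cases hR : R = Q
  · subst hR
    have := hQ R
    rw [Finsupp.sub_apply, Finsupp.single_eq_same] at this
    rw [Finsupp.sub_apply, Finsupp.sub_apply, Finsupp.single_eq_same,
      Finsupp.single_eq_of_ne (Ne.symm hPQ), sub_zero]
    exact this
  · have := hP R
    rw [Finsupp.sub_apply, Finsupp.single_eq_of_ne hR, sub_zero]
    exact this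

include hK in
/-- consequences of the numerical criterion -/
theorem numerics [IsAlgClosed k] (D : Divisor k K)
    (H : ∀ P Q : Place k K, ell (D - Finsupp.single P 1 - Finsupp.single Q 1) + 2 = ell D)
    (P Q : Place k K) :
    ell (D - Finsupp.single P 1) < ell D ∧
      ell (D - Finsupp.single P 1 - Finsupp.single Q 1) < ell (D - Finsupp.single P 1) := by
  have h3 := ell_le_ell_sub_single_add_one hK D P
  have h4 := ell_le_ell_sub_single_add_one hK (D - Finsupp.single P 1) Q
  have h5 := H P Q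
  have h6 := ell_sub_single_le hK D P
  have h7 := ell_sub_single_le hK (D - Finsupp.single P 1) Q
  constructor <;> omega

end FF

variable {k : Type u} [Field k] [IsAlgClosed k] {X : Scheme.{u}}
  [X.Over (Spec (CommRingCat.of k))]
  [IsIntegral X] (pd : PlaceData k X)
  (L : X.Modules) (hL : PicF.IsInvertible L) (t : L.presheaf.stalk (genericPoint X))
  (D : Divisor k X.functionField) (h : IsDiv pd L t D)
  {n : ℕ} (σ : Fin (n + 1) → (Coh.structureModule X ⟶ L))
  (G : (Fin (n + 1) → k) → X.functionField) (hG1 : ∀ c, G c ∈ FunFld.L D)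
  (hG2 : ∀ c, L.presheaf.germ ⊤ (genericPoint X) trivial
    (lin (X ↘ Spec (CommRingCat.of k)) σ c) = G c • t)

include hL h hG1 hG2 in
/-- **separation of points and tangent vectors gives the numerical criterion** -/
theorem numerics_of_sep_tan
    (hcov : ∀ x : X, ∃ e, x ∈ XE σ e)
    (hsep : ∀ P Q : X, IsClosed ({P} : Set X) → IsClosed ({Q} : Set X) → P ≠ Q →
      ∃ c : Fin (n + 1) → k,
        (Van (X ↘ Spec (CommRingCat.of k)) σ P c ∧ ¬ Van (X ↘ Spec (CommRingCat.of k)) σ Q c) ∨
        (Van (X ↘ Spec (CommRingCat.of k)) σ Q c ∧ ¬ Van (X ↘ Spec (CommRingCat.of k)) σ P c))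
    (htan : ∀ P : X, IsClosed ({P} : Set X) →
      IsLocalRing.maximalIdeal (X.presheaf.stalk P) •
          (⊤ : Submodule (X.presheaf.stalk P) (L.presheaf.stalk P)) ≤
        Submodule.span (X.presheaf.stalk P)
          {v | ∃ c : Fin (n + 1) → k,
            v = L.presheaf.germ ⊤ P trivial (lin (X ↘ Spec (CommRingCat.of k)) σ c) ∧
            v ∈ IsLocalRing.maximalIdeal (X.presheaf.stalk P) •
              (⊤ : Submodule (X.presheaf.stalk P) (L.presheaf.stalk P))} ⊔
          IsLocalRing.maximalIdeal (X.presheaf.stalk P) ^ 2 •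
            (⊤ : Submodule (X.presheaf.stalk P) (L.presheaf.stalk P)))
    (P Q : {x : X // IsClosed ({x} : Set X)}) :
    ell (D - Finsupp.single (pd.pl P) 1 - Finsupp.single (pd.pl Q) 1) + 2 = ell D := by
  haveI := pd.hp
  have hK := pd.hK
  -- base point freeness
  have hbpf : ∀ R : {x : X // IsClosed ({x} : Set X)},
      ell (D - Finsupp.single (pd.pl R) 1) < ell D := by
    intro R
    obtain ⟨e, he⟩ := hcov R.1
    have h1 := not_van_single (X ↘ Spec (CommRingCat.of k)) σ e R.1 he R.2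
    rw [van_iff_mem pd L hL t D h σ G hG1 hG2 R] at h1
    exact ell_sub_single_lt_of_mem hK D (pd.pl R) _ (hG1 _) h1
  by_cases hPQ : P = Q
  · subst hPQ
    refine ell_add_two_eq hK D _ _ (hbpf P) ?_
    -- an element of `m L` outside `m² L`
    obtain ⟨f, hf⟩ := (pd.pl P).2.2 (WithZero.exp (D (pd.pl P) - 1))
    obtain ⟨m, hm⟩ := (h P f).2 (by rw [hf, WithZero.exp_le_exp]; omega)
    have hm1 : m ∈ (IsLocalRing.maximalIdeal (X.presheaf.stalk P.1)) •
        (⊤ : Submodule (X.presheaf.stalk P.1) (L.presheaf.stalk P.1)) := by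
      have := (mem_pow_smul_top_iff pd L hL t D h P 1 m f hm).mpr
        (by rw [hf, Nat.cast_one])
      rwa [pow_one] at this
    have hm2 : m ∉ (IsLocalRing.maximalIdeal (X.presheaf.stalk P.1) ^ 2) •
        (⊤ : Submodule (X.presheaf.stalk P.1) (L.presheaf.stalk P.1)) := by
      rw [mem_pow_smul_top_iff pd L hL t D h P 2 m f hm, hf, WithZero.exp_le_exp]
      push_cast; omega
    -- some section vanishing at `P` does not vanish to second order
    have hex : ∃ c : Fin (n + 1) → k, Van (X ↘ Spec (CommRingCat.of k)) σ P.1 c ∧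
        L.presheaf.germ ⊤ P.1 trivial (lin (X ↘ Spec (CommRingCat.of k)) σ c) ∉
          (IsLocalRing.maximalIdeal (X.presheaf.stalk P.1) ^ 2) •
            (⊤ : Submodule (X.presheaf.stalk P.1) (L.presheaf.stalk P.1)) := by
      by_contra hcon
      push Not at hcon
      apply hm2
      have hle : Submodule.span (X.presheaf.stalk P.1)
          {v | ∃ c : Fin (n + 1) → k,
            v = L.presheaf.germ ⊤ P.1 trivial (lin (X ↘ Spec (CommRingCat.of k)) σ c) ∧
            v ∈ IsLocalRing.maximalIdeal (X.presheaf.stalk P.1) •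
              (⊤ : Submodule (X.presheaf.stalk P.1) (L.presheaf.stalk P.1))} ≤
          (IsLocalRing.maximalIdeal (X.presheaf.stalk P.1) ^ 2) •
            (⊤ : Submodule (X.presheaf.stalk P.1) (L.presheaf.stalk P.1)) := by
        rw [Submodule.span_le]
        rintro _ ⟨c, rfl, hc⟩
        exact hcon c hc
      exact (htan P.1 P.2).trans (sup_le hle le_rfl) hm1
    obtain ⟨c, hc1, hc2⟩ := hex
    rw [van_iff_mem pd L hL t D h σ G hG1 hG2 P] at hc1
    rw [van2_iff_mem pd L hL t D h σ G hG1 hG2 P] at hc2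
    exact ell_sub_single_lt_of_mem hK _ (pd.pl P) _ hc1 hc2
  · have hne : P.1 ≠ Q.1 := fun h0 => hPQ (Subtype.ext h0)
    have hne' : pd.pl P ≠ pd.pl Q := fun h0 => hPQ (pd.pl.injective h0)
    obtain ⟨c, hc⟩ := hsep P.1 Q.1 P.2 Q.2 hne
    rw [van_iff_mem pd L hL t D h σ G hG1 hG2 P, van_iff_mem pd L hL t D h σ G hG1 hG2 Q] at hc
    rcases hc with ⟨h1, h2⟩ | ⟨h1, h2⟩
    · refine ell_add_two_eq hK D _ _ (hbpf P) ?_
      refine ell_sub_single_lt_of_mem hK _ (pd.pl Q) _ h1 fun h3 => h2 ?_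
      have h4 : D - Finsupp.single (pd.pl P) 1 - Finsupp.single (pd.pl Q) 1 ≤
          D - Finsupp.single (pd.pl Q) 1 := by
        rw [sub_right_comm]
        exact sub_single_le _ _
      exact Groth.Agent.Helper5.FF.L_mono h4 h3
    · have h5 : D - Finsupp.single (pd.pl P) 1 - Finsupp.single (pd.pl Q) 1 =
          D - Finsupp.single (pd.pl Q) 1 - Finsupp.single (pd.pl P) 1 := sub_right_comm _ _ _
      rw [h5]
      refine ell_add_two_eq hK D _ _ (hbpf Q) ?_
      refine ell_sub_single_lt_of_mem hK _ (pd.pl P) _ h1 fun h3 => h2 ?_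
      have h4 : D - Finsupp.single (pd.pl Q) 1 - Finsupp.single (pd.pl P) 1 ≤
          D - Finsupp.single (pd.pl P) 1 := by
        rw [sub_right_comm]
        exact sub_single_le _ _
      exact Groth.Agent.Helper5.FF.L_mono h4 h3

omit [IsIntegral X] in
/-- a combination of sections vanishing at a point vanishes there -/
theorem van_of_forall_single [LocallyOfFiniteType (X ↘ Spec (CommRingCat.of k))] (P : X)
    (hv : ∀ e, Van (X ↘ Spec (CommRingCat.of k)) σ P (Pi.single e 1)) (c : Fin (n + 1) → k) :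
    Van (X ↘ Spec (CommRingCat.of k)) σ P c := by
  unfold Van lin
  rw [map_sum]
  refine Submodule.sum_mem _ fun j _ => ?_
  rw [germ_smul]
  refine Submodule.smul_mem _ _ ?_
  have := hv j
  unfold Van at this
  rw [lin_single] at this
  exact this

include hL h hG1 hG2 in
/-- **the numerical criterion gives global generation** -/
theorem cover_of_numerics (hspan : ∀ g ∈ FunFld.L D, ∃ c, g = G c)
    (H : ∀ P Q : Place k X.functionField,
      ell (D - Finsupp.single P 1 - Finsupp.single Q 1) + 2 = ell D) (x : X) :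
    ∃ e, x ∈ XE σ e := by
  haveI := pd.hp
  have hK := pd.hK
  have hclosed : ∀ R : {x : X // IsClosed ({x} : Set X)}, ∃ e, R.1 ∈ XE σ e := by
    intro R
    obtain ⟨g, hg, hg'⟩ := exists_mem_of_ell_lt hK D (pd.pl R)
      (numerics hK D H (pd.pl R) (pd.pl R)).1
    obtain ⟨c, rfl⟩ := hspan g hg
    rw [← van_iff_mem pd L hL t D h σ G hG1 hG2 R] at hg'
    by_contra hcon
    push Not at hcon
    exact hg' (van_of_forall_single L σ R.1
      (fun e => van_single_of_notMem (X ↘ Spec (CommRingCat.of k)) σ hL e R.1 (hcon e)) c)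
  by_cases hx : x = genericPoint X
  · subst hx
    obtain ⟨P0⟩ := Groth.Agent.Helper5.FF.nonempty_place pd.hK
    obtain ⟨x0, -⟩ := pd.pl.surjective P0
    obtain ⟨e, he⟩ := hclosed x0
    exact ⟨e, gen_mem _ he⟩
  · exact hclosed ⟨x, pd.closed x hx⟩

include hL h hG1 hG2 in
/-- **the numerical criterion gives separation of points** -/
theorem sep_of_numerics (hspan : ∀ g ∈ FunFld.L D, ∃ c, g = G c)
    (H : ∀ P Q : Place k X.functionField,
      ell (D - Finsupp.single P 1 - Finsupp.single Q 1) + 2 = ell D)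
    (P Q : X) (hP : IsClosed ({P} : Set X)) (hQ : IsClosed ({Q} : Set X)) (hne : P ≠ Q) :
    ∃ c : Fin (n + 1) → k,
      (Van (X ↘ Spec (CommRingCat.of k)) σ P c ∧ ¬ Van (X ↘ Spec (CommRingCat.of k)) σ Q c) ∨
      (Van (X ↘ Spec (CommRingCat.of k)) σ Q c ∧ ¬ Van (X ↘ Spec (CommRingCat.of k)) σ P c) := by
  haveI := pd.hp
  have hK := pd.hK
  have hne' : pd.pl ⟨P, hP⟩ ≠ pd.pl ⟨Q, hQ⟩ := fun h0 =>
    hne (congrArg Subtype.val (pd.pl.injective h0))
  obtain ⟨g, hg, hg'⟩ := exists_mem_of_ell_lt hK _ (pd.pl ⟨Q, hQ⟩)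
    (numerics hK D H (pd.pl ⟨P, hP⟩) (pd.pl ⟨Q, hQ⟩)).2
  obtain ⟨c, rfl⟩ := hspan g (Groth.Agent.Helper5.FF.L_mono (sub_single_le D _) hg)
  refine ⟨c, Or.inl ⟨?_, ?_⟩⟩
  · exact (van_iff_mem pd L hL t D h σ G hG1 hG2 ⟨P, hP⟩ c).mpr hg
  · intro hv
    have := (van_iff_mem pd L hL t D h σ G hG1 hG2 ⟨Q, hQ⟩ c).mp hv
    exact hg' (mem_sub_sub_of_mem D _ _ hne' _ hg this)

include hL h hG1 hG2 in
/-- **the numerical criterion gives separation of tangent vectors** -/
theorem tan_of_numerics (hspan : ∀ g ∈ FunFld.L D, ∃ c, g = G c)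
    (H : ∀ P Q : Place k X.functionField,
      ell (D - Finsupp.single P 1 - Finsupp.single Q 1) + 2 = ell D)
    (P : X) (hP : IsClosed ({P} : Set X)) :
    IsLocalRing.maximalIdeal (X.presheaf.stalk P) •
        (⊤ : Submodule (X.presheaf.stalk P) (L.presheaf.stalk P)) ≤
      Submodule.span (X.presheaf.stalk P)
        {v | ∃ c : Fin (n + 1) → k,
          v = L.presheaf.germ ⊤ P trivial (lin (X ↘ Spec (CommRingCat.of k)) σ c) ∧
          v ∈ IsLocalRing.maximalIdeal (X.presheaf.stalk P) •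
            (⊤ : Submodule (X.presheaf.stalk P) (L.presheaf.stalk P))} ⊔
        IsLocalRing.maximalIdeal (X.presheaf.stalk P) ^ 2 •
          (⊤ : Submodule (X.presheaf.stalk P) (L.presheaf.stalk P)) := by
  haveI := pd.hp
  have hK := pd.hK
  set x : {x : X // IsClosed ({x} : Set X)} := ⟨P, hP⟩ with hx
  obtain ⟨g, hg, hg'⟩ := exists_mem_of_ell_lt hK _ (pd.pl x)
    (numerics hK D H (pd.pl x) (pd.pl x)).2
  obtain ⟨c, rfl⟩ := hspan g (Groth.Agent.Helper5.FF.L_mono (sub_single_le D _) hg)
  have hv1 : Van (X ↘ Spec (CommRingCat.of k)) σ P c :=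
    (van_iff_mem pd L hL t D h σ G hG1 hG2 x c).mpr hg
  have hv2 := (van2_iff_mem pd L hL t D h σ G hG1 hG2 x c).not.mpr hg'
  refine le_trans ?_ le_sup_left
  intro m hm
  have ht0 := ne_zero_of_isDiv pd L t D h
  obtain ⟨f, hf⟩ := exists_smul_eq L hL t ht0 (sp L P m)
  have hf1 := (mem_pow_smul_top_iff pd L hL t D h x 1 m f hf).mp (by rwa [pow_one])
  have hg1 := (germ_mem_pow_iff pd L hL t D h x 1 _ (G c) (hG2 c)).mp
    (by rw [pow_one]; exact hv1)
  have hg2 := (germ_mem_pow_iff pd L hL t D h x 2 _ (G c) (hG2 c)).not.mp hv2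
  have hG0 : (pd.pl x).1 (G c) ≠ 0 := by
    intro h0
    apply hg2
    rw [h0]
    exact zero_le'
  have hGc0 : G c ≠ 0 := by
    intro h0
    apply hG0
    rw [h0, map_zero]
  have hval : (pd.pl x).1 (G c) = WithZero.exp (D (pd.pl x) - 1) := by
    rw [← WithZero.exp_log hG0] at hg1 hg2 ⊢
    rw [WithZero.exp_le_exp] at hg1 hg2
    congr 1
    push_cast at hg1 hg2
    omega
  have hle : (pd.pl x).1 (f * (G c)⁻¹) ≤ 1 := by
    rw [map_mul, map_inv₀, hval]
    have hpos : (0 : WithZero (Multiplicative ℤ)) < WithZero.exp (D (pd.pl x) - 1) :=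
      zero_lt_iff.2 WithZero.exp_ne_zero
    rw [mul_inv_le_iff₀ hpos, one_mul]
    simpa using hf1
  obtain ⟨a, ha⟩ := (pd.spec x _).1 hle
  have hma : m = a • L.presheaf.germ ⊤ P trivial (lin (X ↘ Spec (CommRingCat.of k)) σ c) := by
    apply sp_injective L hL P
    rw [hf, sp_smul, sp_germ, hG2 c, ha, smul_smul, mul_assoc, inv_mul_cancel₀ hGc0, mul_one]
  rw [hma]
  exact Submodule.smul_mem _ a (Submodule.subset_span ⟨c, rfl, hv1⟩)

end Groth.Agent.Helper4.SN616
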