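import Mathlib
import Groth.Agent.Helper4.SN616
import Groth.Agent.Helper4.SN613
import Groth.Agent.Helper4.SN611
import Groth.Agent.Helper4.SN568

/-!
# Very ampleness on a curve: the criterion `h⁰(L(-P-Q)) = h⁰(L) - 2`
-/

set_option autoImplicit false
set_option linter.style.haveILetI false
set_option linter.unusedSectionVars false
universe u
open CategoryTheory CategoryTheory.Limits AlgebraicGeometry TopologicalSpace Opposite FunFld
open scoped TensorProduct

namespace Groth.Agent.Helper4.SN617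

open Groth.Agent.Helper4.StalkDict Groth.Agent.Helper4.TwistExt Groth.Agent.Helper4.SN200
  Groth.Agent.Helper4.SN549 Groth.Agent.Helper4.SN550 Groth.Agent.Helper4.SN551
  Groth.Agent.Helper4.SN559 Groth.Agent.Helper4.SN608 Groth.Agent.Helper4.SN609
  Groth.Agent.Helper4.SN612 Groth.Agent.Helper4.SN614 Groth.Agent.Helper4.SN615
  Groth.Agent.Helper4.SN616 Groth.Agent.Helper1.PUP

attribute [local instance] Curv2.stalkAlgebra Curv2.resAlgebra

variable {k : Type u} [Field k] [IsAlgClosed k] {X : Scheme.{u}}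
  [X.Over (Spec (CommRingCat.of k))]
  [IsIntegral X] (pd : PlaceData k X)
  (L : X.Modules) (hL : PicF.IsInvertible L) (t : L.presheaf.stalk (genericPoint X))
  (D : Divisor k X.functionField) (h : IsDiv pd L t D)
  {n : ℕ} (σ : Fin (n + 1) → (Coh.structureModule X ⟶ L))
  (G : (Fin (n + 1) → k) → X.functionField) (hG1 : ∀ c, G c ∈ FunFld.L D)
  (hG2 : ∀ c, L.presheaf.germ ⊤ (genericPoint X) trivial
    (lin (X ↘ Spec (CommRingCat.of k)) σ c) = G c • t)

include hL h hG2 in
/-- if the sections `lin c` exhaust the global sections then the functions `G c` exhaust the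
Riemann–Roch space -/
theorem hspan_of_hsec (hsec : ∀ s : Γ(L, ⊤), ∃ c, s = lin (X ↘ Spec (CommRingCat.of k)) σ c)
    (g : X.functionField) (hg : g ∈ FunFld.L D) : ∃ c, g = G c := by
  obtain ⟨s, hs⟩ := exists_section pd L hL t D h g hg
  obtain ⟨c, rfl⟩ := hsec s
  refine ⟨c, ?_⟩
  apply smul_cancel L hL t (ne_zero_of_isDiv pd L t D h)
  rw [← hs, hG2]

omit [IsAlgClosed k] [X.Over (Spec (CommRingCat.of k))] [IsIntegral X] in
/-- sections whose generating loci cover generate -/
theorem generatedBy_of_cover (hcov : ∀ x : X, ∃ e, x ∈ XE σ e) :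
    ProjUP.GeneratedBy L (fun j => (sec (σ j) ⊤ : ProjUP.Γm L)) := by
  intro x
  obtain ⟨e, he⟩ := hcov x
  rw [eq_top_iff]
  intro m _
  obtain ⟨a, rfl⟩ := exists_smul_germ (isFrame_XE σ e) x he m
  refine Submodule.smul_mem _ a (Submodule.subset_span ⟨e, ?_⟩)
  exact germ_sec_top σ e x (XE σ e) he

section Main

open Groth.Agent.Helper4.SN610 Groth.Agent.Helper4.SN611 Groth.Agent.Helper4.SN613
  Groth.Agent.Helper4.SN555

variable (k) (X) [IsProper (X ↘ (Spec (CommRingCat.of k)))]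
  (hdim : topologicalKrullDim X = 1)
  (hreg : ∀ x : X, IsRegularLocalRing (X.presheaf.stalk x))

include hdim hreg in
/-- **very ample implies the numerical criterion** -/
theorem h0_of_veryAmple (M : X.Modules) (hM : PicF.IsInvertible M) (n : ℕ)
    (i : X ⟶ Proj (CohB1.polyGrading n k)) [IsClosedImmersion i]
    (hi : i ≫ toSpec' (k := k) n = (X ↘ (Spec (CommRingCat.of k))))
    (τ : (Scheme.Modules.pullback i).obj (Twist.twist (CohB1.polyGrading n k) ((1 : ℕ) : ℤ)) ≅ M)
    (P Q : X) (hP : IsClosed ({P} : Set X)) (hQ : IsClosed ({Q} : Set X)) :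
    Module.finrank k (Coh.HH X (CohB1.tensorMod M (CohB1.tensorMod
      (ClSub.idealMod (Scheme.IdealSheafData.vanishingIdeal ⟨{P}, hP⟩))
      (ClSub.idealMod (Scheme.IdealSheafData.vanishingIdeal ⟨{Q}, hQ⟩)))) 0) + 2 =
      Module.finrank k (Coh.HH X M 0) := by
  obtain ⟨pd⟩ := Groth.Agent.Helper4.SN568.nonempty_placeData k X hdim hreg
  obtain ⟨t, ht0, -⟩ := exists_gen M hM
  obtain ⟨D, h⟩ := exists_isDiv pd M hM t ht0
  have hL' := isInvertible_LL (k := k) n i
  have h' := h.of_iso pd τ.symm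
  obtain ⟨G, hG1, hG2⟩ := exists_G pd _ hL' _ D h' (σr n i)
  have hcov : ∀ x : X, ∃ e, x ∈ XE (σr n i) e := by
    intro x
    obtain ⟨e, he⟩ := exists_mem_preimage_D n i x
    exact ⟨e, mem_XE n i e x he⟩
  have key := numerics_of_sep_tan pd _ hL' _ D h' (σr n i) G hG1 hG2 hcov
    (sep_of_isClosedImmersion (X ↘ (Spec (CommRingCat.of k))) n i hi)
    (tan_of_isClosedImmersion (X ↘ (Spec (CommRingCat.of k))) n i hi) ⟨P, hP⟩ ⟨Q, hQ⟩
  rw [finrank_h0_twist pd M hM t D h ⟨P, hP⟩ ⟨Q, hQ⟩, finrank_h0_eq_ell pd M hM t D h]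
  exact key

include hdim hreg in
/-- **the numerical criterion implies very ample** -/
theorem veryAmple_of_h0 (M : X.Modules) (hM : PicF.IsInvertible M)
    (H : ∀ (P Q : X) (hP : IsClosed ({P} : Set X)) (hQ : IsClosed ({Q} : Set X)),
      Module.finrank k (Coh.HH X (CohB1.tensorMod M (CohB1.tensorMod
        (ClSub.idealMod (Scheme.IdealSheafData.vanishingIdeal ⟨{P}, hP⟩))
        (ClSub.idealMod (Scheme.IdealSheafData.vanishingIdeal ⟨{Q}, hQ⟩)))) 0) + 2 =
        Module.finrank k (Coh.HH X M 0)) :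
    ∃ (n : ℕ) (i : X ⟶ CohB1.ProjSpace n k), IsClosedImmersion i ∧
      i ≫ CohB1.ProjSpace.toSpec n k = (X ↘ (Spec (CommRingCat.of k))) ∧
      Nonempty ((Scheme.Modules.pullback i).obj (Twist.twistProjSpace n k 1) ≅ M) := by
  obtain ⟨pd⟩ := Groth.Agent.Helper4.SN568.nonempty_placeData k X hdim hreg
  have hK := pd.hK
  obtain ⟨t, ht0, -⟩ := exists_gen M hM
  obtain ⟨D, h⟩ := exists_isDiv pd M hM t ht0
  -- the numerical criterion for divisors
  have H' : ∀ P Q : Place k X.functionField,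
      ell (D - Finsupp.single P 1 - Finsupp.single Q 1) + 2 = ell D := by
    intro P Q
    obtain ⟨x, rfl⟩ := pd.pl.surjective P
    obtain ⟨y, rfl⟩ := pd.pl.surjective Q
    rw [← finrank_h0_twist pd M hM t D h x y, ← finrank_h0_eq_ell pd M hM t D h]
    exact H x.1 y.1 x.2 y.2
  -- a basis of the global sections
  letI := Groth.Agent.Helper4.SN.sectModule k M
  obtain ⟨e⟩ := exists_linearEquiv pd M hM t D h
  haveI := Groth.Agent.Helper5.FF.finiteDimensional_L hK D
  haveI : Module.Finite k (LinSer.Sect X M) := Module.Finite.equiv e.symm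
  have hfr : Module.finrank k (LinSer.Sect X M) = ell D := e.finrank_eq
  obtain ⟨n, hn⟩ : ∃ n : ℕ, ell D = n + 1 := by
    obtain ⟨P0⟩ := Groth.Agent.Helper5.FF.nonempty_place hK
    have := H' P0 P0
    exact ⟨ell D - 1, by omega⟩
  let b := Module.finBasisOfFinrankEq k (LinSer.Sect X M) (hfr.trans hn)
  let σ : Fin (n + 1) → (Coh.structureModule X ⟶ M) := fun j =>
    Groth.Agent.Lead.LocLift.homOfTop M (b j)
  have hσ : ∀ j, sec (σ j) ⊤ = b j := fun j => sec_homOfTop (b j)
  have hsec : ∀ s : Γ(M, ⊤), ∃ c, s = lin (X ↘ Spec (CommRingCat.of k)) σ c := by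
    intro s
    refine ⟨fun j => b.repr s j, ?_⟩
    have h1 := (b.sum_repr s).symm
    refine h1.trans ?_
    unfold lin
    refine Finset.sum_congr rfl fun j _ => ?_
    rw [hσ j]
    rfl
  obtain ⟨G, hG1, hG2⟩ := exists_G pd M hM t D h σ
  have hspan := hspan_of_hsec pd M hM t D h σ G hG2 hsec
  have hcov := cover_of_numerics pd M hM t D h σ G hG1 hG2 hspan H'
  have hgen : ProjUP.GeneratedBy M (fun j => (b j : ProjUP.Γm M)) := by
    have := generatedBy_of_cover M σ hcov
    simp only [hσ] at this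
    exact this
  obtain ⟨r, hr, τ, hτ⟩ := exists_to_projSpace n (X ↘ Spec (CommRingCat.of k)) M hM
    (fun j => (b j : ProjUP.Γm M)) hgen
  refine ⟨n, r, ?_, hr, ⟨τ⟩⟩
  -- the closed immersion
  let r' : X ⟶ Proj (CohB1.polyGrading n k) := r
  have hr' : r' ≫ toSpec' (k := k) n = (X ↘ Spec (CommRingCat.of k)) := hr
  let τ' : (Scheme.Modules.pullback r').obj
      (Twist.twist (CohB1.polyGrading n k) ((1 : ℕ) : ℤ)) ≅ M := τ
  have hτ' : ∀ j, τ'.hom.app ⊤ (sec (σr n r' j) ⊤) = b j := by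
    intro j
    rw [sec_σr_top]
    exact hτ j
  have hL' := isInvertible_LL (k := k) n r'
  have h' := h.of_iso pd τ'.symm
  have hsec' : ∀ s : Γ((Scheme.Modules.pullback r').obj
      (Twist.twist (CohB1.polyGrading n k) ((1 : ℕ) : ℤ)), ⊤),
      ∃ c, s = lin (X ↘ Spec (CommRingCat.of k)) (σr n r') c := by
    intro s
    obtain ⟨c, hc⟩ := hsec (τ'.hom.app ⊤ s)
    refine ⟨c, ?_⟩
    have hinj : Function.Injective (τ'.hom.app ⊤) := by
      intro a a' haa'
      have := congrArg (τ'.inv.app ⊤) haa'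
      rwa [Groth.Agent.Helper4.TensorGen.iso_inv_hom_app, Groth.Agent.Helper4.TensorGen.iso_inv_hom_app]
        at this
    apply hinj
    rw [hc]
    unfold lin
    rw [map_sum]
    refine Finset.sum_congr rfl fun j _ => ?_
    rw [Scheme.Modules.Hom.app_smul, hτ' j, hσ j]
  obtain ⟨G', hG1', hG2'⟩ := exists_G pd _ hL' _ D h' (σr n r')
  have hspan' := hspan_of_hsec pd _ hL' _ D h' (σr n r') G' hG2' hsec'
  exact isClosedImmersion_of_sep_tan (X ↘ Spec (CommRingCat.of k)) n r' hr'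
    (sep_of_numerics pd _ hL' _ D h' (σr n r') G' hG1' hG2' hspan' H')
    (tan_of_numerics pd _ hL' _ D h' (σr n r') G' hG1' hG2' hspan' H')

end Main

end Groth.Agent.Helper4.SN617
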