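import Mathlib
import Groth.Agent.Helper4.SN615

/-!
# The canonical divisor separates points and tangent vectors iff there is no `g¹₂`
-/

set_option autoImplicit false
set_option linter.unusedSectionVars false
open FunFld

namespace Groth.Agent.Helper4.SN618

open Groth.Agent.Helper5.FF hiding degHom degHom_apply
open Groth.Agent.Helper4.SN615 Groth.Agent.Helper4.SN591

variable {k K : Type*} [Field k] [Field K] [Algebra k K] (hK : IsFunctionField k K)

include hK in
/-- a divisor with `ℓ > 0` is linearly equivalent to an effective one -/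
theorem exists_effective (A : Divisor k K) (h : 0 < ell A) :
    ∃ f : K, f ≠ 0 ∧ 0 ≤ A + FunFld.div k f := by
  haveI := finiteDimensional_L hK A
  unfold ell at h
  rw [Module.finrank_pos_iff_exists_ne_zero] at h
  obtain ⟨⟨f, hf⟩, hne⟩ := h
  have hf0 : f ≠ 0 := fun h0 => hne (Subtype.ext h0)
  refine ⟨f, hf0, ?_⟩
  intro R
  have := (mem_L_iff_ord A hf0).mp hf R
  rw [Finsupp.add_apply, div_apply hK]
  simp only [Finsupp.coe_zero, Pi.zero_apply]
  omega

include hK in
/-- **no `g¹₂` iff the canonical series separates points and tangent vectors** -/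
theorem no_g12_iff [IsAlgClosed k] (C : Divisor k K) (hC : IsCanonical k K C) :
    (∀ P Q : Place k K, ell (C - Finsupp.single P 1 - Finsupp.single Q 1) + 2 = ell C) ↔
      ¬ ∃ Δ : Divisor k K, Δ.deg = 2 ∧ 2 ≤ ell Δ := by
  obtain ⟨hlC, hdC⟩ := ell_canonical hK hC
  constructor
  · rintro H ⟨Δ, hd, hl⟩
    obtain ⟨P0⟩ := nonempty_place hK
    have h1 := ell_le_ell_sub_single_add_one hK Δ P0
    obtain ⟨f, hf0, hE⟩ := exists_effective hK (Δ - Finsupp.single P0 1) (by omega)
    set E := Δ - Finsupp.single P0 1 + FunFld.div k f with hEdef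
    have hdE : E.deg = 1 := by
      rw [hEdef, deg_add, deg_sub, deg_single, deg_div hK, hd, deg_eq_one_of_isAlgClosed hK P0]
      norm_num
    have hE0 : E ≠ 0 := by
      intro h0
      rw [h0, deg_zero] at hdE
      exact zero_ne_one hdE
    obtain ⟨Q, hQ⟩ := Finsupp.ne_iff.mp hE0
    have hQ1 : 1 ≤ E Q := by
      have := hE Q
      simp only [Finsupp.coe_zero, Pi.zero_apply] at this hQ
      omega
    have hle : (Finsupp.single Q 1 : Divisor k K) ≤ E := by
      intro R
      by_cases hR : R = Q
      · subst hR; rw [Finsupp.single_eq_same]; exact hQ1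
      · rw [Finsupp.single_eq_of_ne hR]; exact hE R
    have h2 : C - Finsupp.single P0 1 - E ≤ C - Finsupp.single P0 1 - Finsupp.single Q 1 :=
      sub_le_sub_left hle _
    have h3 := Groth.Agent.Helper5.FF.ell_mono hK h2
    have h4 : C - Finsupp.single P0 1 - E + FunFld.div k f = C - Δ := by
      rw [hEdef]; abel
    have h5 : ell (C - Finsupp.single P0 1 - E) = ell (C - Δ) := by
      rw [← h4, ell_add_div hK _ hf0]
    have h6 := riemann_roch hK C hC Δ
    have h7 := H P0 Q
    rw [hd] at h6
    rw [h5] at h3
    rw [hlC] at h7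
    omega
  · intro hno P Q
    set Δ : Divisor k K := Finsupp.single P 1 + Finsupp.single Q 1 with hΔ
    have hd : Δ.deg = 2 := by
      rw [hΔ, deg_add, deg_single, deg_single, deg_eq_one_of_isAlgClosed hK P,
        deg_eq_one_of_isAlgClosed hK Q]
      norm_num
    have hΔ0 : 0 ≤ Δ := by
      intro R
      rw [hΔ, Finsupp.add_apply]
      have h1 : (0 : ℤ) ≤ (Finsupp.single P 1 : Divisor k K) R := by
        by_cases hR : R = P
        · subst hR; rw [Finsupp.single_eq_same]; norm_num
        · rw [Finsupp.single_eq_of_ne hR]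
      have h2 : (0 : ℤ) ≤ (Finsupp.single Q 1 : Divisor k K) R := by
        by_cases hR : R = Q
        · subst hR; rw [Finsupp.single_eq_same]; norm_num
        · rw [Finsupp.single_eq_of_ne hR]
      simp only [Finsupp.coe_zero, Pi.zero_apply]
      omega
    have hpos := ell_pos_of_nonneg hK hΔ0
    have hlt : ell Δ < 2 := by
      by_contra hcon
      exact hno ⟨Δ, hd, by omega⟩
    have h6 := riemann_roch hK C hC Δ
    rw [hd] at h6
    have h8 : C - Δ = C - Finsupp.single P 1 - Finsupp.single Q 1 := by
      rw [hΔ]; abel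
    rw [h8] at h6
    rw [hlC]
    omega

end Groth.Agent.Helper4.SN618
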