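import Mathlib
import Groth.Agent.Helper4.SN618
import Groth.Agent.Helper4.SN617
import Groth.Agent.Helper4.SN589
import Groth.Agent.Helper4.SN553

/-!
# The canonical sheaf of a curve is very ample iff the curve carries no `g¹₂`
-/

set_option autoImplicit false
set_option linter.style.haveILetI false
set_option linter.unusedSectionVars false
universe u
open CategoryTheory CategoryTheory.Limits AlgebraicGeometry TopologicalSpace Opposite FunFld

namespace Groth.Agent.Helper4.SN619

open Groth.Agent.Helper4.SN550 Groth.Agent.Helper4.SN Groth.Agent.Helper1.Dev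
  Groth.Agent.Helper4.SN555 Groth.Agent.Helper4.SN559 Groth.Agent.Helper4.SN553

attribute [local instance] Curv2.stalkAlgebra Curv2.resAlgebra

variable (k : Type u) [Field k] [IsAlgClosed k] (X : Scheme.{u})
  [X.Over (Spec (CommRingCat.of k))] [IsIntegral X]
  [IsProper (X ↘ (Spec (CommRingCat.of k)))]

/-- a `g¹₂` in terms of divisors -/
theorem exists_g12_iff (pd : PlaceData k X) :
    (∃ (M : X.Modules) (s : Fin 2 → LinSer.Sect X M), LinSer.IsLinSer k X M 2 1 s) ↔
      ∃ Δ : Divisor k X.functionField, Δ.deg = 2 ∧ 2 ≤ ell Δ := by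
  haveI := Groth.Agent.Helper4.NApx82.isNoetherian_of_proper k X
  constructor
  · rintro ⟨M, s, hMi, hd, hli⟩
    have hc := Groth.Agent.Helper1.SerreFin.isCoh_of_isInvertible M hMi
    have h2 := Groth.Agent.Helper4.SN589.le_h0_of_linIndep k M hc s hli
    obtain ⟨t, ht0, -⟩ := exists_gen M hMi
    obtain ⟨A, hA⟩ := exists_isDiv pd M hMi t ht0
    refine ⟨A, ?_, ?_⟩
    · rw [← Groth.Agent.Helper4.SN552.deg_eq_of_isDiv pd M hMi t A hA]
      exact_mod_cast hd
    · rw [← finrank_h0_eq_ell pd M hMi t A hA]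
      exact h2
  · rintro ⟨Δ, hd, hl⟩
    obtain ⟨M, t, hM, hΔ⟩ := exists_isDiv_of_divisor pd Δ
    letI := sectModule k M
    have h1 : Module.finrank k (LinSer.Sect X M) = ell Δ := by
      rw [← finrank_h0_eq_ell pd M hM t Δ hΔ]
      exact (h0LinEquiv k M).finrank_eq.symm
    obtain ⟨f, hf⟩ := exists_linearIndependent_of_le_finrank (R := k) (M := LinSer.Sect X M)
      (n := 2) (by omega)
    refine ⟨M, f, hM, ?_, ?_⟩
    · rw [Groth.Agent.Helper4.SN552.deg_eq_of_isDiv pd M hM t Δ hΔ, hd]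
      rfl
    · intro c hc
      funext i
      exact Fintype.linearIndependent_iff.mp hf c hc i

variable (hdim : topologicalKrullDim X = 1)
  (hreg : ∀ x : X, IsRegularLocalRing (X.presheaf.stalk x))

include hdim hreg in
/-- **the canonical sheaf is very ample iff there is no `g¹₂`** -/
theorem main11335 :
    (∃ (n : ℕ) (i : X ⟶ CohB1.ProjSpace n k), IsClosedImmersion i ∧
        i ≫ CohB1.ProjSpace.toSpec n k = (X ↘ (Spec (CommRingCat.of k))) ∧
        Nonempty ((Scheme.Modules.pullback i).obj (Twist.twistProjSpace n k 1) ≅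
          (Omega.sheaf (X ↘ (Spec (CommRingCat.of k)))))) ↔
      ¬ (∃ (M : X.Modules) (s : Fin 2 → LinSer.Sect X M), LinSer.IsLinSer k X M 2 1 s) := by
  obtain ⟨pd⟩ := Groth.Agent.Helper4.SN568.nonempty_placeData k X hdim hreg
  obtain ⟨t, C, hC1, hC2⟩ := Groth.Agent.Helper4.SN568.exists_canon k X hdim hreg pd
  have hΩ := Groth.Agent.Helper4.SN568.isInvertible_omega k X hdim hreg
  rw [exists_g12_iff k X pd, ← Groth.Agent.Helper4.SN618.no_g12_iff pd.hK C hC2]
  constructor
  · rintro ⟨n, i, hci, hi, ⟨τ⟩⟩ P Q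
    obtain ⟨x, rfl⟩ := pd.pl.surjective P
    obtain ⟨y, rfl⟩ := pd.pl.surjective Q
    let i' : X ⟶ Proj (CohB1.polyGrading n k) := i
    haveI : IsClosedImmersion i' := hci
    have := Groth.Agent.Helper4.SN617.h0_of_veryAmple k X hdim hreg _ hΩ n i' hi τ x.1 y.1 x.2 y.2
    rw [Groth.Agent.Helper4.SN613.finrank_h0_twist pd _ hΩ t C hC1 x y,
      finrank_h0_eq_ell pd _ hΩ t C hC1] at this
    exact this
  · intro H
    apply Groth.Agent.Helper4.SN617.veryAmple_of_h0 k X hdim hreg _ hΩ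
    intro P Q hP hQ
    rw [Groth.Agent.Helper4.SN613.finrank_h0_twist pd _ hΩ t C hC1 ⟨P, hP⟩ ⟨Q, hQ⟩,
      finrank_h0_eq_ell pd _ hΩ t C hC1]
    exact H _ _

end Groth.Agent.Helper4.SN619
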