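import Mathlib
import Groth.Agent.Helper4.SN611

/-!
# Directed separation of points; projective schemes are proper
-/

set_option autoImplicit false
set_option linter.style.haveILetI false
set_option linter.unusedSectionVars false
universe u
open CategoryTheory CategoryTheory.Limits AlgebraicGeometry TopologicalSpace Opposite
  HomogeneousLocalization

namespace Groth.Agent.Helper4.SN620

open Groth.Agent.Helper4.StalkDict Groth.Agent.Helper4.SN608 Groth.Agent.Helper4.SN609
  Groth.Agent.Helper4.SN610 Groth.Agent.Helper4.SN611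
  Groth.Agent.Helper1.PUP Groth.Agent.Helper1.Segre Groth.Agent.Helper1.ProjMor

variable {X : Scheme.{u}} {k : Type u} [Field k] [IsAlgClosed k]
  (pX : X ⟶ Spec (CommRingCat.of k)) [LocallyOfFiniteType pX] (n : ℕ)
  (f : X ⟶ Proj (CohB1.polyGrading n k)) (hf : f ≫ toSpec' (k := k) n = pX)

/-- directed separation of points -/
def SepDir : Prop :=
  ∀ P Q : X, IsClosed ({P} : Set X) → IsClosed ({Q} : Set X) → P ≠ Q →
    ∃ c : Fin (n + 1) → k, Van pX (σr n f) P c ∧ ¬ Van pX (σr n f) Q c

theorem sep_of_sepDir (h : SepDir pX n f) : Sep pX n f := by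
  intro P Q hP hQ hne
  obtain ⟨c, hc⟩ := h P Q hP hQ hne
  exact ⟨c, Or.inl hc⟩

theorem sepDir_of_sep (h : Sep pX n f) : SepDir pX n f := by
  intro P Q hPc hQc hne
  obtain ⟨c, hc | hc⟩ := h P Q hPc hQc hne
  · exact ⟨c, hc⟩
  · obtain ⟨eP, hP⟩ := exists_mem_preimage_D n f P
    obtain ⟨eQ, hQ⟩ := exists_mem_preimage_D n f Q
    have hP' := mem_XE n f eP P hP
    have hQ' := mem_XE n f eQ Q hQ
    set φP : (Fin (n + 1) → k) → k := fun c => ∑ j, c j * val pX (σr n f) eP P hP' hPc j with hφP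
    set φQ : (Fin (n + 1) → k) → k := fun c => ∑ j, c j * val pX (σr n f) eQ Q hQ' hQc j with hφQ
    have hvP : ∀ c, Van pX (σr n f) P c ↔ φP c = 0 := fun c => van_iff pX (σr n f) eP P hP' hPc c
    have hvQ : ∀ c, Van pX (σr n f) Q c ↔ φQ c = 0 := fun c => van_iff pX (σr n f) eQ Q hQ' hQc c
    have haddP : ∀ (a : k) (c d : Fin (n + 1) → k), φP (d - a • c) = φP d - a * φP c := by
      intro a c d
      simp only [hφP, Pi.sub_apply, Pi.smul_apply, smul_eq_mul, sub_mul, Finset.sum_sub_distrib,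
        Finset.mul_sum, mul_assoc]
    have haddQ : ∀ (a : k) (c d : Fin (n + 1) → k), φQ (d - a • c) = φQ d - a * φQ c := by
      intro a c d
      simp only [hφQ, Pi.sub_apply, Pi.smul_apply, smul_eq_mul, sub_mul, Finset.sum_sub_distrib,
        Finset.mul_sum, mul_assoc]
    have h1 : φQ c = 0 := (hvQ c).mp hc.1
    have h2 : φP c ≠ 0 := fun h0 => hc.2 ((hvP c).mpr h0)
    have h3 : φQ (Pi.single eQ 1) ≠ 0 := fun h0 =>
      not_van_single pX (σr n f) eQ Q hQ' hQc ((hvQ _).mpr h0)
    refine ⟨Pi.single eQ 1 - (φP (Pi.single eQ 1) / φP c) • c, ?_, ?_⟩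
    · rw [hvP, haddP, div_mul_cancel₀ _ h2, sub_self]
    · rw [hvQ, haddQ, h1, mul_zero, sub_zero]
      exact h3

omit [IsAlgClosed k] [LocallyOfFiniteType pX] in
/-- a scheme with a closed immersion into projective space over `k` is proper over `k` -/
theorem isProper_of_proj {N : ℕ} (ι : X ⟶ CohB1.ProjSpace N k) [IsClosedImmersion ι]
    (h : ι ≫ CohB1.ProjSpace.toSpec N k = pX) : IsProper pX := by
  haveI : IsProper (CohB1.ProjSpace.toSpec N k) := Groth.Agent.Helper6.HProj.isProper_toSpec N k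
  rw [← h]
  infer_instance

end Groth.Agent.Helper4.SN620
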