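import Mathlib
import Groth.Agent.Helper4.SN194

/-!
# Linear forms cutting down a Noetherian space over `Proj` (infinite base field)
-/

set_option autoImplicit false
set_option linter.style.haveILetI false

namespace Groth.Agent.Helper4.SN621

open TopologicalSpace ProjectiveSpectrum Groth.Agent.Helper4.SN

universe u

variable {K A : Type*} [Field K] [Infinite K] [CommRing A] [Algebra K A] (𝒜 : ℕ → Submodule K A)
  [GradedAlgebra 𝒜]
variable {T : Type*} [TopologicalSpace T] [NoetherianSpace T]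

omit [NoetherianSpace T] in
/-- over an infinite field, a linear form avoiding finitely many points of `Proj` -/
theorem exists_linear_avoiding
    (hgen : ∀ z : ProjectiveSpectrum 𝒜, ∃ g ∈ 𝒜 1, g ∉ z.asHomogeneousIdeal)
    (s : Finset (ProjectiveSpectrum 𝒜)) :
    ∃ g ∈ 𝒜 1, ∀ z ∈ s, g ∉ z.asHomogeneousIdeal := by
  let p : ↥s → Submodule K (𝒜 1) := fun z =>
    (z.1.asHomogeneousIdeal.toIdeal.restrictScalars K).comap (𝒜 1).subtype
  have hp : ∀ z, p z ≠ ⊤ := by
    intro z htop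
    obtain ⟨g, hg, hgz⟩ := hgen z.1
    have : (⟨g, hg⟩ : 𝒜 1) ∈ p z := by rw [htop]; trivial
    exact hgz this
  obtain ⟨x, hx⟩ := Submodule.exists_forall_notMem_of_forall_ne_top p hp
  exact ⟨x.1, x.2, fun z hz h => hx ⟨z, hz⟩ h⟩

theorem exists_linear_aux
    (hgen : ∀ z : ProjectiveSpectrum 𝒜, ∃ g ∈ 𝒜 1, g ∉ z.asHomogeneousIdeal)
    (r : ℕ) (hT : topologicalKrullDim T ≤ r)
    (f : T → ProjectiveSpectrum 𝒜) (hf : Continuous f) :
    ∀ j : ℕ, ∃ (h : Fin j → A), (∀ i, h i ∈ 𝒜 1) ∧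
      ∀ S : IrreducibleCloseds T, (∀ x ∈ (S : Set T), ∀ i, h i ∈ (f x).asHomogeneousIdeal) →
        Order.height S + (j : ℕ∞) ≤ (r : ℕ∞) := by
  classical
  intro j
  induction j with
  | zero =>
    refine ⟨Fin.elim0, fun i => i.elim0, fun S _ => ?_⟩
    have h1 : ((Order.height S : ℕ∞) : WithBot ℕ∞) ≤ Order.krullDim (IrreducibleCloseds T) :=
      Order.height_le_krullDim S
    have h2 : ((Order.height S : ℕ∞) : WithBot ℕ∞) ≤ ((r : ℕ∞) : WithBot ℕ∞) := h1.trans hT
    have h3 : Order.height S ≤ (r : ℕ∞) := WithBot.coe_le_coe.mp h2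
    simpa using h3
  | succ j ih =>
    obtain ⟨h, hdeg, hinv⟩ := ih
    set W : Set T := {x | ∀ i, h i ∈ (f x).asHomogeneousIdeal} with hW
    have hWcl : IsClosed W := by
      have : W = ⋂ i, {x : T | h i ∈ (f x).asHomogeneousIdeal} := by
        ext x; simp [hW]
      rw [this]
      exact isClosed_iInter (fun i => isClosed_setOf_mem_asHomogeneousIdeal 𝒜 f hf (h i))
    obtain ⟨𝒮, h𝒮fin, h𝒮cl, h𝒮irr, h𝒮U⟩ :=
      NoetherianSpace.exists_finite_set_isClosed_irreducible hWcl
    haveI : Fintype ↥𝒮 := h𝒮fin.fintype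
    have hc : ∀ C : ↥𝒮, ∃ c : T, c ∈ C.1 := fun C => (h𝒮irr C.1 C.2).nonempty
    choose c hcC using hc
    set s : Finset (ProjectiveSpectrum 𝒜) := Finset.univ.image (fun C : ↥𝒮 => f (c C)) with hs
    obtain ⟨g, hgd, hgs⟩ := exists_linear_avoiding 𝒜 hgen s
    refine ⟨Fin.snoc h g, ?_, ?_⟩
    · intro i
      refine Fin.lastCases ?_ (fun i => ?_) i
      · rw [Fin.snoc_last]; exact hgd
      · rw [Fin.snoc_castSucc]; exact hdeg i
    · intro S hS
      have hSW : (S : Set T) ⊆ W := by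
        intro x hx i
        have := hS x hx i.castSucc
        rwa [Fin.snoc_castSucc] at this
      have hSg : ∀ x ∈ (S : Set T), g ∈ (f x).asHomogeneousIdeal := by
        intro x hx
        have := hS x hx (Fin.last j)
        rwa [Fin.snoc_last] at this
      obtain ⟨C, hC𝒮, hSC⟩ := isIrreducible_iff_sUnion_isClosed.mp S.isIrreducible h𝒮fin.toFinset
        (fun z hz => h𝒮cl z (h𝒮fin.mem_toFinset.mp hz))
        (by rw [h𝒮fin.coe_toFinset, ← h𝒮U]; exact hSW)
      rw [h𝒮fin.mem_toFinset] at hC𝒮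
      set C' : IrreducibleCloseds T := ⟨C, h𝒮irr C hC𝒮, h𝒮cl C hC𝒮⟩ with hC'
      have hcnot : c ⟨C, hC𝒮⟩ ∉ (S : Set T) := by
        intro hmem
        have h1 := hSg _ hmem
        exact hgs (f (c ⟨C, hC𝒮⟩)) (Finset.mem_image.mpr ⟨⟨C, hC𝒮⟩, Finset.mem_univ _, rfl⟩) h1
      have hlt : S < C' := by
        refine lt_of_le_of_ne hSC ?_
        intro heq
        apply hcnot
        rw [heq]
        exact hcC ⟨C, hC𝒮⟩
      have hCW : (C : Set T) ⊆ W := by
        rw [h𝒮U]
        exact Set.subset_sUnion_of_mem hC𝒮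
      have h1 := hinv C' (fun x hx i => hCW hx i)
      have h2 := Order.height_add_one_le hlt
      calc Order.height S + ((j + 1 : ℕ) : ℕ∞) = (Order.height S + 1) + (j : ℕ∞) := by
            push_cast; ring
        _ ≤ Order.height C' + (j : ℕ∞) := by gcongr
        _ ≤ (r : ℕ∞) := h1

/-- **linear forms cutting down `T`**: if `T` is a Noetherian space of dimension at
most `r` mapping to `Proj` of an algebra over an infinite field whose degree one part has no base
points, then the non-vanishing loci of `r + 1` suitable linear forms cover `T` -/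
theorem exists_linear_cover
    (hgen : ∀ z : ProjectiveSpectrum 𝒜, ∃ g ∈ 𝒜 1, g ∉ z.asHomogeneousIdeal)
    (r : ℕ) (hT : topologicalKrullDim T ≤ r)
    (f : T → ProjectiveSpectrum 𝒜) (hf : Continuous f) :
    ∃ (h : Fin (r + 1) → A), (∀ j, h j ∈ 𝒜 1) ∧
      (∀ x : T, ∃ j, h j ∉ (f x).asHomogeneousIdeal) := by
  obtain ⟨h, hdeg, hinv⟩ := exists_linear_aux 𝒜 hgen r hT f hf (r + 1)
  refine ⟨h, hdeg, ?_⟩
  intro x
  by_contra hcon
  push Not at hcon
  set S : IrreducibleCloseds T := ⟨closure {x}, isIrreducible_singleton.closure, isClosed_closure⟩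
    with hS
  have h1 : ∀ y ∈ (S : Set T), ∀ i, h i ∈ (f y).asHomogeneousIdeal := by
    intro y hy i
    have hcl := isClosed_setOf_mem_asHomogeneousIdeal 𝒜 f hf (h i)
    have hsub : closure ({x} : Set T) ⊆ {x : T | h i ∈ (f x).asHomogeneousIdeal} :=
      closure_minimal (Set.singleton_subset_iff.mpr (hcon i)) hcl
    exact hsub hy
  have h2 := hinv S h1
  have h3 : ((r + 1 : ℕ) : ℕ∞) ≤ (r : ℕ∞) := le_trans le_add_self h2
  have h4 : r + 1 ≤ r := by exact_mod_cast h3
  omega

end Groth.Agent.Helper4.SN621
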