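import Mathlib
import Groth.Agent.Helper4.SN621
import Groth.Agent.Helper4.SN584
import Groth.Agent.Helper4.SN107
import Groth.Agent.Helper4.SN82
import Groth.Agent.Helper4.SN195
import Groth.Agent.Helper4.SN610
import Groth.Agent.Helper4.PullSec
import Groth.Agent.S10829

/-!
# Projective Noether normalization: a closed subscheme of `P^n_k` of dimension `d` (over an
infinite field) admits a finite surjective morphism to `P^d_k` pulling `O(1)` back to `O(1)`
-/

set_option autoImplicit false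
set_option linter.style.haveILetI false
set_option linter.unusedSectionVars false
universe u
open CategoryTheory CategoryTheory.Limits AlgebraicGeometry TopologicalSpace Opposite

namespace Groth.Agent.Helper4.SN622

open Groth.Agent.Helper1.PUP Groth.Agent.Helper1.Segre Groth.Agent.Helper4.PullSec
  Groth.Agent.Helper4.SN610

variable (k : Type u) [Field k]

theorem hgen (n : ℕ) : ∀ z : ProjectiveSpectrum (CohB1.polyGrading n k),
    ∃ g ∈ CohB1.polyGrading n k 1, g ∉ z.asHomogeneousIdeal := by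
  intro z
  have hz : (z : Proj (CohB1.polyGrading n k)) ∈
      (⨆ i : Fin (n + 1), Proj.basicOpen (CohB1.polyGrading n k)
      (MvPolynomial.X i : MvPolynomial (Fin (n + 1)) k)) := by
    rw [iSup_basicOpen_X]; trivial
  obtain ⟨i, hi⟩ := Opens.mem_iSup.mp hz
  exact ⟨MvPolynomial.X i, hX i, (Proj.mem_basicOpen _ _ _).mp hi⟩

variable [Infinite k] {X : Scheme.{u}} (n : ℕ) (ι : X ⟶ CohB1.ProjSpace n k) [IsClosedImmersion ι]
  (d : ℕ) (hd : topologicalKrullDim X = d)

include hd in
/-- linear forms whose non-vanishing loci cover `X` -/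
theorem exists_forms : ∃ (h : Fin (d + 1) → MvPolynomial (Fin (n + 1)) k),
    (∀ j, h j ∈ CohB1.polyGrading n k 1) ∧
    ⨆ j, ι ⁻¹ᵁ (Proj.basicOpen (CohB1.polyGrading n k) (h j)) = ⊤ := by
  haveI := Groth.Agent.Helper4.SN.isNoetherian_projSpace k n
  haveI : NoetherianSpace ↥(CohB1.ProjSpace n k) := inferInstance
  haveI : NoetherianSpace ↥X := ι.isClosedEmbedding.isInducing.noetherianSpace
  obtain ⟨h, hdeg, hcov⟩ := Groth.Agent.Helper4.SN621.exists_linear_cover (CohB1.polyGrading n k)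
    (hgen k n) d hd.le (fun x => (ι x : ProjectiveSpectrum (CohB1.polyGrading n k)))
    ι.continuous
  refine ⟨h, hdeg, ?_⟩
  rw [eq_top_iff]
  intro x _
  obtain ⟨j, hj⟩ := hcov x
  exact Opens.mem_iSup.mpr ⟨j, (Proj.mem_basicOpen _ _ _).mpr hj⟩


omit [Infinite k] in
/-- the morphism to projective space defined by linear forms covering `X` -/
theorem exists_morphism (h : Fin (d + 1) → MvPolynomial (Fin (n + 1)) k)
    (hdeg : ∀ j, h j ∈ CohB1.polyGrading n k 1)
    (hcov : ⨆ j, ι ⁻¹ᵁ (Proj.basicOpen (CohB1.polyGrading n k) (h j)) = ⊤) :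
    ∃ (π : X ⟶ CohB1.ProjSpace d k), π ≫ CohB1.ProjSpace.toSpec d k =
        ι ≫ CohB1.ProjSpace.toSpec n k ∧
      Nonempty ((Scheme.Modules.pullback π).obj (Twist.twistProjSpace d k 1) ≅
        (Scheme.Modules.pullback ι).obj (Twist.twistProjSpace n k 1)) ∧
      ∀ j, π ⁻¹ᵁ (Proj.basicOpen (CohB1.polyGrading d k)
          (MvPolynomial.X j : MvPolynomial (Fin (d + 1)) k)) =
        ι ⁻¹ᵁ (Proj.basicOpen (CohB1.polyGrading n k) (h j)) := by
  let ι' : X ⟶ Proj (CohB1.polyGrading n k) := ι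
  let σ : Fin (d + 1) → (Coh.structureModule X ⟶
      (Scheme.Modules.pullback ι').obj (Twist.twist (CohB1.polyGrading n k) ((1 : ℕ) : ℤ))) :=
    fun j => pullSec ι' (TT (CohB1.polyGrading n k) (h j) (hdeg j))
  have hinv : PicF.IsInvertible (Twist.twist (CohB1.polyGrading n k) ((1 : ℕ) : ℤ)) :=
    Groth.Agent.Helper1.TwistMul.isInvertible_twist _ (hcovP n) _
  have hgl : ∀ j, CohB1.genLocus _ (σ j) =
      ι' ⁻¹ᵁ (Proj.basicOpen (CohB1.polyGrading n k) (h j)) := by
    intro j
    change CohB1.genLocus _ (pullSec ι' (TT (CohB1.polyGrading n k) (h j) (hdeg j))) = _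
    rw [genLocus_pullSec ι' hinv, genLocus_TT _ (hcovP n)]
  have hcov' : ⨆ e, CohB1.genLocus _ (σ e) = ⊤ := by
    rw [← hcov]
    exact iSup_congr hgl
  obtain ⟨π, hπ, τ, hτ⟩ := Groth.Agent.Helper4.SN.exists_to_projSpace_of_cover'' d
    (ι ≫ CohB1.ProjSpace.toSpec n k) σ hcov'
  refine ⟨π, hπ, ⟨τ⟩, fun j => ?_⟩
  let π' : X ⟶ Proj (CohB1.polyGrading d k) := π
  let τ' : (Scheme.Modules.pullback π').obj (Twist.twist (CohB1.polyGrading d k) ((1 : ℕ) : ℤ)) ≅
      (Scheme.Modules.pullback ι').obj (Twist.twist (CohB1.polyGrading n k) ((1 : ℕ) : ℤ)) := τ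
  have h1 : σr d π' j ≫ τ'.hom = σ j := by
    apply hom_ext_of_sec
    rw [sec_comp, sec_σr_top]
    exact hτ j
  have h2 := hgl j
  rw [← h1, Groth.Agent.Helper4.AmpleIso.genLocus_comp_iso τ', genLocus_σr] at h2
  exact h2


omit [Infinite k] in
/-- finiteness of the morphism defined by linear forms -/
theorem isFinite_of_preimage (π : X ⟶ CohB1.ProjSpace d k)
    (hπ : π ≫ CohB1.ProjSpace.toSpec d k = ι ≫ CohB1.ProjSpace.toSpec n k)
    (h : Fin (d + 1) → MvPolynomial (Fin (n + 1)) k)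
    (hdeg : ∀ j, h j ∈ CohB1.polyGrading n k 1)
    (hpre : ∀ j, π ⁻¹ᵁ (Proj.basicOpen (CohB1.polyGrading d k)
          (MvPolynomial.X j : MvPolynomial (Fin (d + 1)) k)) =
        ι ⁻¹ᵁ (Proj.basicOpen (CohB1.polyGrading n k) (h j))) : IsFinite π := by
  haveI : IsProper (CohB1.ProjSpace.toSpec d k) := Groth.Agent.Helper6.HProj.isProper_toSpec d k
  haveI : IsProper (CohB1.ProjSpace.toSpec n k) := Groth.Agent.Helper6.HProj.isProper_toSpec n k
  haveI : IsProper (π ≫ CohB1.ProjSpace.toSpec d k) := by rw [hπ]; infer_instance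
  haveI : IsProper π := IsProper.of_comp π (CohB1.ProjSpace.toSpec d k)
  have haff : IsAffineHom π := by
    change @IsAffineHom X (Proj (CohB1.polyGrading d k)) π
    rw [IsZariskiLocalAtTarget.iff_of_iSup_eq_top (P := @IsAffineHom)
      (fun j : Fin (d + 1) => Proj.basicOpen (CohB1.polyGrading d k)
        (MvPolynomial.X j : MvPolynomial (Fin (d + 1)) k)) (iSup_basicOpen_X (R := k) d)]
    intro j
    have hA : IsAffineOpen (Proj.basicOpen (CohB1.polyGrading d k)
        (MvPolynomial.X j : MvPolynomial (Fin (d + 1)) k)) :=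
      Proj.isAffineOpen_basicOpen _ _ (hX j) one_pos
    haveI : IsAffine (Proj.basicOpen (CohB1.polyGrading d k)
        (MvPolynomial.X j : MvPolynomial (Fin (d + 1)) k)) := hA
    rw [HasAffineProperty.iff_of_isAffine (P := @IsAffineHom)]
    haveI hι : IsAffineHom ι := inferInstance
    have hB : IsAffineOpen (ι ⁻¹ᵁ (Proj.basicOpen (CohB1.polyGrading n k) (h j))) :=
      @IsAffineOpen.preimage _ _ _ (Proj.isAffineOpen_basicOpen _ (h j) (hdeg j) one_pos) ι hι
    rw [← hpre j] at hB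
    exact hB
  exact IsFinite.iff_isProper_and_isAffineHom.mpr ⟨inferInstance, haff⟩


theorem num1 (a : ℕ∞) (d : ℕ) (h : a + 1 ≤ (d : ℕ∞)) : ∃ m : ℕ, a = (m : ℕ∞) ∧ m + 1 ≤ d := by
  have h5 : a ≠ ⊤ := by
    intro htop
    rw [htop] at h
    exact absurd (top_le_iff.mp h) (ENat.coe_ne_top d)
  obtain ⟨m, hm⟩ := ENat.ne_top_iff_exists.mp h5
  refine ⟨m, hm.symm, ?_⟩
  rw [← hm] at h
  have h6 : ((m + 1 : ℕ) : ℕ∞) ≤ (d : ℕ∞) := by push_cast; exact h
  exact Nat.cast_le.mp h6

theorem num2 {α : Type*} [Nonempty α] (f : α → ℕ∞) (d : ℕ)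
    (h : ∀ x, ∃ m : ℕ, f x = (m : ℕ∞) ∧ m + 1 ≤ d)
    (hd : ⨆ x, ((f x : ℕ∞) : WithBot ℕ∞) = (d : WithBot ℕ∞)) : False := by
  obtain ⟨x₀⟩ := ‹Nonempty α›
  obtain ⟨m₀, -, hm₀⟩ := h x₀
  have hle : ⨆ x, ((f x : ℕ∞) : WithBot ℕ∞) ≤ (((d - 1 : ℕ) : ℕ∞) : WithBot ℕ∞) := by
    refine iSup_le fun x => ?_
    obtain ⟨m, hm, hmd⟩ := h x
    rw [hm]
    have : m ≤ d - 1 := by omega
    exact WithBot.coe_le_coe.mpr (Nat.cast_le.mpr this)
  rw [hd] at hle
  have h7 : ((d : ℕ∞) : WithBot ℕ∞) ≤ (((d - 1 : ℕ) : ℕ∞) : WithBot ℕ∞) := hle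
  have : d ≤ d - 1 := Nat.cast_le.mp (WithBot.coe_le_coe.mp h7)
  omega

attribute [local instance] specializationOrder in
omit [Infinite k] [IsClosedImmersion ι] in
include hd in
/-- a finite morphism from a scheme of dimension `d` to `P^d` is surjective -/
theorem surjective_of_isFinite (π : X ⟶ CohB1.ProjSpace d k) [IsFinite π] :
    Function.Surjective π.base := by
  set η : ↥(CohB1.ProjSpace d k) := genericPoint ↥(CohB1.ProjSpace d k) with hη
  have hηd : Order.height η ≤ (d : ℕ∞) := by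
    have h1 : ((Order.height η : ℕ∞) : WithBot ℕ∞) ≤ topologicalKrullDim ↥(CohB1.ProjSpace d k) := by
      rw [Groth.Agent.Helper5.IntDim.topologicalKrullDim_eq_iSup_height]
      exact le_iSup (fun y : ↥(CohB1.ProjSpace d k) => ((Order.height y : ℕ∞) : WithBot ℕ∞)) η
    rw [Groth.Agent.S10829.result k d] at h1
    exact WithBot.coe_le_coe.mp h1
  have hmem : η ∈ Set.range π.base := by
    by_contra hnot
    have hne : Nonempty ↥X := by
      by_contra hemp
      rw [not_nonempty_iff] at hemp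
      have : topologicalKrullDim ↥X = ⊥ := by
        unfold topologicalKrullDim
        haveI : IsEmpty (IrreducibleCloseds ↥X) := ⟨fun Z => hemp.elim Z.isIrreducible.nonempty.some⟩
        exact Order.krullDim_eq_bot
      rw [this] at hd
      exact WithBot.bot_ne_coe hd
    have hlt : ∀ x : ↥X, ∃ m : ℕ, Order.height x = (m : ℕ∞) ∧ m + 1 ≤ d := by
      intro x
      have h1 : Order.height x = Order.height (π.base x) :=
        Groth.Agent.Helper4.SN584.height_eq_of_isIntegralHom π x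
      have h2 : π.base x < η := by
        refine lt_of_le_of_ne ?_ (fun h => hnot ⟨x, h⟩)
        exact (genericPoint_spec ↥(CohB1.ProjSpace d k)).specializes trivial
      have h3 := Order.height_add_one_le h2
      have h4 : Order.height x + 1 ≤ (d : ℕ∞) := by rw [h1]; exact h3.trans hηd
      exact num1 _ d h4
    rw [Groth.Agent.Helper5.IntDim.topologicalKrullDim_eq_iSup_height] at hd
    exact num2 (fun x : ↥X => Order.height x) d hlt hd
  have hcl : IsClosed (Set.range π.base) := π.isClosedMap.isClosed_range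
  have huniv : Set.range π.base = Set.univ := by
    apply Set.eq_univ_of_univ_subset
    have h1 : closure ({η} : Set ↥(CohB1.ProjSpace d k)) = Set.univ :=
      (genericPoint_spec ↥(CohB1.ProjSpace d k)).def
    rw [← h1]
    exact closure_minimal (Set.singleton_subset_iff.mpr hmem) hcl
  exact Set.range_eq_univ.mp huniv


include hd in
/-- **projective Noether normalization** -/
theorem main : ∃ π : X ⟶ CohB1.ProjSpace d k,
    π ≫ CohB1.ProjSpace.toSpec d k = ι ≫ CohB1.ProjSpace.toSpec n k ∧ IsFinite π ∧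
      Function.Surjective π.base ∧
      Nonempty ((Scheme.Modules.pullback π).obj (Twist.twistProjSpace d k 1) ≅
        (Scheme.Modules.pullback ι).obj (Twist.twistProjSpace n k 1)) := by
  obtain ⟨h, hdeg, hcov⟩ := exists_forms k n ι d hd
  obtain ⟨π, hπ, hτ, hpre⟩ := exists_morphism k n ι d h hdeg hcov
  haveI := isFinite_of_preimage k n ι d π hπ h hdeg hpre
  exact ⟨π, hπ, inferInstance, surjective_of_isFinite k d hd π, hτ⟩

end Groth.Agent.Helper4.SN622
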