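import Mathlib
import Groth.Agent.Helper4.SN622
import Groth.Agent.Helper4.UCAffine
import Groth.Agent.S1697
import Groth.Agent.S10962
import Groth.Agent.Helper1.ProjH05
import Groth.Agent.Helper4.SN83

/-!
# Morphisms `P^n_k ⟶ P^m_k` with `m < n` are constant
-/

set_option autoImplicit false
set_option linter.style.haveILetI false
set_option linter.unusedSectionVars false
universe u
open CategoryTheory CategoryTheory.Limits AlgebraicGeometry TopologicalSpace Opposite

namespace Groth.Agent.Helper4.SN623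

open Groth.Agent.Helper1.PUP Groth.Agent.Helper1.Segre Groth.Agent.Helper4.PullSec
  Groth.Agent.Helper4.SN610

section Factor

/-- a morphism from a scheme whose global functions are the constants into an affine open
factors through the base -/
theorem exists_factor {A : CommRingCat.{u}} {X Y : Scheme.{u}} (p : X ⟶ Spec A)
    (hp : Function.Bijective p.appTop.hom) (f : X ⟶ Y) (U : Y.Opens) (hU : IsAffineOpen U)
    (h : f ⁻¹ᵁ U = ⊤) : ∃ q : Spec A ⟶ Y, f = p ≫ q := by
  haveI : IsAffine (U : Scheme.{u}) := hU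
  have hrange : Set.range f ⊆ Set.range U.ι := by
    rintro _ ⟨x, rfl⟩
    rw [Scheme.Opens.range_ι]
    have : x ∈ f ⁻¹ᵁ U := by rw [h]; trivial
    exact this
  let g : X ⟶ (U : Scheme.{u}) := IsOpenImmersion.lift U.ι f hrange
  have hg : g ≫ U.ι = f := IsOpenImmersion.lift_fac U.ι f hrange
  haveI : IsIso p.appTop :=
    (ConcreteCategory.isIso_iff_bijective p.appTop).mpr hp
  have h1 : g ≫ (U : Scheme.{u}).toSpecΓ = X.toSpecΓ ≫ Spec.map g.appTop :=
    Scheme.toSpecΓ_naturality g
  have h2 : p ≫ (Spec A).toSpecΓ = X.toSpecΓ ≫ Spec.map p.appTop :=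
    Scheme.toSpecΓ_naturality p
  have h3 : X.toSpecΓ = p ≫ (Spec A).toSpecΓ ≫ inv (Spec.map p.appTop) := by
    rw [← Category.assoc, h2, Category.assoc, IsIso.hom_inv_id, Category.comp_id]
  have h4 : g = X.toSpecΓ ≫ Spec.map g.appTop ≫ inv ((U : Scheme.{u}).toSpecΓ) := by
    rw [← Category.assoc, ← h1, Category.assoc, IsIso.hom_inv_id, Category.comp_id]
  refine ⟨(Spec A).toSpecΓ ≫ inv (Spec.map p.appTop) ≫ Spec.map g.appTop ≫
    inv ((U : Scheme.{u}).toSpecΓ) ≫ U.ι, ?_⟩
  have h5 : g = p ≫ (Spec A).toSpecΓ ≫ inv (Spec.map p.appTop) ≫ Spec.map g.appTop ≫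
      inv ((U : Scheme.{u}).toSpecΓ) := by
    conv_lhs => rw [h4, h3]
    simp only [Category.assoc]
  rw [← hg]
  conv_lhs => rw [h5]
  simp only [Category.assoc]

end Factor


section Dim

attribute [local instance] specializationOrder in
/-- an integral morphism does not raise the dimension of the source above that of the target -/
theorem dim_le_of_isIntegralHom {W V : Scheme.{u}} (i : W ⟶ V) [IsIntegralHom i] :
    topologicalKrullDim ↥W ≤ topologicalKrullDim ↥V := by
  rw [Groth.Agent.Helper5.IntDim.topologicalKrullDim_eq_iSup_height,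
    Groth.Agent.Helper5.IntDim.topologicalKrullDim_eq_iSup_height]
  refine iSup_le fun w => ?_
  rw [Groth.Agent.Helper4.SN584.height_eq_of_isIntegralHom i w]
  exact le_iSup (fun v : ↥V => ((Order.height v : ℕ∞) : WithBot ℕ∞)) (i w)

end Dim

variable (k : Type u) [Field k] (n m : ℕ) (f : CohB1.ProjSpace n k ⟶ Proj (CohB1.polyGrading m k))
  (hf : f ≫ toSpec' (k := k) m = CohB1.ProjSpace.toSpec n k)

include hf in
/-- positive degree: `f` is finite, hence `n ≤ m` -/
theorem le_of_pos (hn : 1 ≤ n) (e : ℤ) (he : 0 < e)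
    (i : (Scheme.Modules.pullback f).obj (Twist.twist (CohB1.polyGrading m k) ((1 : ℕ) : ℤ)) ≅
      Twist.twistProjSpace n k e) : n ≤ m := by
  have hamp : CohB1.IsAmple ((Scheme.Modules.pullback f).obj
      (Twist.twist (CohB1.polyGrading m k) ((1 : ℕ) : ℤ))) :=
    Groth.Agent.Helper4.AmpleIso.isAmple_of_iso i.symm ((Groth.Agent.S10962.result k n hn e).mpr he)
  haveI : IsProper (CohB1.ProjSpace.toSpec n k) := Groth.Agent.Helper6.HProj.isProper_toSpec n k
  haveI : IsProper (toSpec' (k := k) m) := Groth.Agent.Helper6.HProj.isProper_toSpec m k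
  haveI : IsProper (f ≫ toSpec' (k := k) m) := by rw [hf]; infer_instance
  haveI : IsProper f := IsProper.of_comp f (toSpec' (k := k) m)
  have haffj : ∀ j, IsAffineOpen (f ⁻¹ᵁ D (k := k) m j) := by
    intro j
    rw [← genLocus_σr]
    exact Groth.Agent.Helper4.UCAffine.isAffineOpen_genLocus_of_universallyClosed
      (CohB1.ProjSpace.toSpec n k) _ hamp (σr m f j)
  have haff : IsAffineHom f := by
    rw [IsZariskiLocalAtTarget.iff_of_iSup_eq_top (P := @IsAffineHom)
      (fun j : Fin (m + 1) => D (k := k) m j) (iSup_basicOpen_X (R := k) m)]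
    intro j
    have hA : IsAffineOpen (D (k := k) m j) := Proj.isAffineOpen_basicOpen _ _ (hX j) one_pos
    haveI : IsAffine (D (k := k) m j) := hA
    rw [HasAffineProperty.iff_of_isAffine (P := @IsAffineHom)]
    exact haffj j
  haveI : IsFinite f := IsFinite.iff_isProper_and_isAffineHom.mpr ⟨inferInstance, haff⟩
  have h1 := dim_le_of_isIntegralHom f
  have h2 : topologicalKrullDim ↥(Proj (CohB1.polyGrading m k)) = (m : WithBot ℕ∞) :=
    Groth.Agent.S10829.result k m
  rw [Groth.Agent.S10829.result k n, h2] at h1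
  exact_mod_cast h1


omit k n m f in
/-- the generating locus of the zero section is empty -/
theorem genLocus_zero {X : Scheme.{u}} (L : X.Modules) :
    CohB1.genLocus L (0 : Coh.structureModule X ⟶ L) = ⊥ := by
  have hb := bijective_app_of_le (0 : Coh.structureModule X ⟶ L)
    (le_refl (CohB1.genLocus L (0 : Coh.structureModule X ⟶ L)))
  set V := CohB1.genLocus L (0 : Coh.structureModule X ⟶ L) with hV
  have h1 : (1 : Γ(X, V)) = 0 := by
    apply hb.1
    rfl
  have h2 : X.basicOpen (1 : Γ(X, V)) = ⊥ := by rw [h1, Scheme.basicOpen_zero]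
  rw [Scheme.basicOpen_of_isUnit X isUnit_one] at h2
  exact h2

/-- negative degree is impossible -/
theorem false_of_neg (hn : 1 ≤ n) (e : ℤ) (he : e < 0)
    (i : (Scheme.Modules.pullback f).obj (Twist.twist (CohB1.polyGrading m k) ((1 : ℕ) : ℤ)) ≅
      Twist.twistProjSpace n k e) : False := by
  haveI h1 : Subsingleton (Coh.HH (CohB1.ProjSpace n k) (Twist.twistProjSpace n k e) 0) :=
    Groth.Agent.Helper1.ProjTop.subsingleton_H0 n k e hn he
  haveI h2 : Subsingleton (Coh.HH (CohB1.ProjSpace n k) ((Scheme.Modules.pullback f).obj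
      (Twist.twist (CohB1.polyGrading m k) ((1 : ℕ) : ℤ))) 0) :=
    (Groth.Agent.Lead.BCField.HHlinEquiv k i 0).toEquiv.subsingleton
  haveI h3 : Subsingleton (LinSer.Sect (CohB1.ProjSpace n k) ((Scheme.Modules.pullback f).obj
      (Twist.twist (CohB1.polyGrading m k) ((1 : ℕ) : ℤ)))) :=
    (Groth.Agent.Lead.ProperFinA.h0Equiv _).symm.toEquiv.subsingleton
  have hzero : ∀ j, σr m f j = 0 := by
    intro j
    apply hom_ext_of_sec
    exact Subsingleton.elim (α := LinSer.Sect (CohB1.ProjSpace n k) ((Scheme.Modules.pullback f).obj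
      (Twist.twist (CohB1.polyGrading m k) ((1 : ℕ) : ℤ)))) _ _
  have hcov := iSup_preimage_D (k := k) m f
  have hbot : ∀ j, f ⁻¹ᵁ D (k := k) m j = ⊥ := by
    intro j
    rw [← genLocus_σr, hzero j, genLocus_zero]
  have : (⊤ : (CohB1.ProjSpace n k).Opens) = ⊥ := by
    rw [← hcov]
    exact iSup_eq_bot.mpr hbot
  obtain ⟨x⟩ : Nonempty ↥(CohB1.ProjSpace n k) := inferInstance
  have hx : x ∈ (⊤ : (CohB1.ProjSpace n k).Opens) := trivial
  rw [this] at hx
  exact hx


include hf in
/-- degree zero: `f` is constant -/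
theorem exists_of_zero
    (i : (Scheme.Modules.pullback f).obj (Twist.twist (CohB1.polyGrading m k) ((1 : ℕ) : ℤ)) ≅
      Twist.twistProjSpace n k 0) :
    ∃ q : Spec (CommRingCat.of k) ⟶ Proj (CohB1.polyGrading m k),
      f = CohB1.ProjSpace.toSpec n k ≫ q := by
  obtain ⟨e0⟩ := Groth.Agent.Helper1.TwistMul.nonempty_twist_zero_iso (CohB1.polyGrading n k)
  let i' : (Scheme.Modules.pullback f).obj (Twist.twist (CohB1.polyGrading m k) ((1 : ℕ) : ℤ)) ≅
      Coh.structureModule (CohB1.ProjSpace n k) := i ≪≫ e0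
  let t : Fin (m + 1) → (Coh.structureModule (CohB1.ProjSpace n k) ⟶
      Coh.structureModule (CohB1.ProjSpace n k)) := fun j => σr m f j ≫ i'.hom
  have hgl : ∀ j, f ⁻¹ᵁ D (k := k) m j =
      (CohB1.ProjSpace n k).basicOpen (Groth.Agent.Helper4.GenLoc.fn (t j)) := by
    intro j
    rw [← Groth.Agent.Helper4.AmpleIso.genLocus_unit, ← genLocus_σr,
      ← Groth.Agent.Helper4.AmpleIso.genLocus_comp_iso i']
  have hbij : Function.Bijective (Coh.toGlobal (CohB1.ProjSpace.toSpec n k)) :=
    Groth.Agent.Helper1.ProjTop.toGlobal_bijective n k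
  have hdich : ∀ j, f ⁻¹ᵁ D (k := k) m j = ⊥ ∨ f ⁻¹ᵁ D (k := k) m j = ⊤ := by
    intro j
    obtain ⟨a, ha⟩ := hbij.2 (Groth.Agent.Helper4.GenLoc.fn (t j))
    rw [hgl j, ← ha]
    by_cases h0 : a = 0
    · left
      rw [h0, map_zero]
      exact Scheme.basicOpen_zero _ _
    · right
      exact Scheme.basicOpen_of_isUnit _ ((Ne.isUnit h0).map _)
  have hcov := iSup_preimage_D (k := k) m f
  have hex : ∃ j, f ⁻¹ᵁ D (k := k) m j = ⊤ := by
    by_contra hcon
    push Not at hcon
    have hbot : ∀ j, f ⁻¹ᵁ D (k := k) m j = ⊥ := fun j => (hdich j).resolve_right (hcon j)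
    have : (⊤ : (CohB1.ProjSpace n k).Opens) = ⊥ := by
      rw [← hcov]
      exact iSup_eq_bot.mpr hbot
    obtain ⟨x⟩ : Nonempty ↥(CohB1.ProjSpace n k) := inferInstance
    have hx : x ∈ (⊤ : (CohB1.ProjSpace n k).Opens) := trivial
    rw [this] at hx
    exact hx
  obtain ⟨j, hj⟩ := hex
  have hA : IsAffineOpen (D (k := k) m j) := Proj.isAffineOpen_basicOpen _ _ (hX j) one_pos
  have hp : Function.Bijective (CohB1.ProjSpace.toSpec n k).appTop.hom := by
    have h1 : Function.Bijective ((CohB1.ProjSpace.toSpec n k).appTop.hom ∘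
        (Scheme.ΓSpecIso (CommRingCat.of k)).inv.hom) := hbij
    have h2 : Function.Bijective (Scheme.ΓSpecIso (CommRingCat.of k)).inv.hom :=
      (ConcreteCategory.isIso_iff_bijective (Scheme.ΓSpecIso (CommRingCat.of k)).inv).mp
        inferInstance
    exact (Function.Bijective.of_comp_iff _ h2).mp h1
  exact exists_factor (CohB1.ProjSpace.toSpec n k) hp f (D (k := k) m j) hA hj


include hf in
/-- **morphisms `P^n ⟶ P^m` with `m < n` are constant** -/
theorem main (hmn : m < n) :
    ∃ q : Spec (CommRingCat.of k) ⟶ Proj (CohB1.polyGrading m k),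
      f = CohB1.ProjSpace.toSpec n k ≫ q := by
  have hn : 1 ≤ n := by omega
  have hinv : PicF.IsInvertible ((Scheme.Modules.pullback f).obj
      (Twist.twist (CohB1.polyGrading m k) ((1 : ℕ) : ℤ))) :=
    isInvertible_pullback f (Groth.Agent.Helper1.TwistMul.isInvertible_twist _ (hcovP m) _)
  obtain ⟨e, ⟨i⟩⟩ := Groth.Agent.S1697.result k n _ hinv
  rcases lt_trichotomy e 0 with he | he | he
  · exact (false_of_neg k n m f hn e he i).elim
  · subst he
    exact exists_of_zero k n m f hf i
  · have := le_of_pos k n m f hf hn e he i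
    omega

end Groth.Agent.Helper4.SN623
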