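import Mathlib
import Groth.Prelude.Def_P1
import Groth.Agent.Helper6.HProj

/-!
# The scheme-theoretic image of a quasi-compact morphism: the map to the image is
scheme-theoretically dominant; modification making a function a morphism to `P^1`
-/

set_option autoImplicit false
set_option linter.style.haveILetI false
universe u
open CategoryTheory CategoryTheory.Limits AlgebraicGeometry TopologicalSpace Opposite

namespace Groth.Agent.Helper4.SN624

/-- the morphism to the scheme-theoretic image is scheme-theoretically dominant -/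
theorem isSchemeTheoreticallyDominant_toImage {X Y : Scheme.{u}} (f : X ⟶ Y) :
    IsSchemeTheoreticallyDominant f.toImage := by
  constructor
  set J := f.toImage.ker with hJ
  let j : J.subscheme ⟶ Y := J.subschemeι ≫ f.imageι
  have hfac : f.toImage.toImage ≫ j = f := by
    change f.toImage.toImage ≫ f.toImage.imageι ≫ f.imageι = f
    rw [← Category.assoc, Scheme.Hom.toImage_imageι, Scheme.Hom.toImage_imageι]
  have hle : j.ker ≤ f.imageι.ker := by
    have h1 : j.ker ≤ (f.toImage.toImage ≫ j).ker := Scheme.Hom.le_ker_comp _ _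
    rw [hfac] at h1
    have h2 : f.imageι.ker = f.ker := Scheme.IdealSheafData.ker_subschemeι _
    rw [h2]
    exact h1
  let ℓ : f.image ⟶ J.subscheme := IsClosedImmersion.lift j f.imageι hle
  have hℓ : ℓ ≫ j = f.imageι := IsClosedImmersion.lift_fac j f.imageι hle
  have h1 : ℓ ≫ J.subschemeι = 𝟙 _ := by
    rw [← cancel_mono f.imageι, Category.assoc, Category.id_comp]
    exact hℓ
  have h2 : J.subschemeι ≫ ℓ = 𝟙 _ := by
    rw [← cancel_mono J.subschemeι, Category.assoc, h1, Category.comp_id, Category.id_comp]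
  haveI : IsIso J.subschemeι := ⟨ℓ, h2, h1⟩
  exact (AlgebraicGeometry.Scheme.isIso_subschemeι_iff_eq_bot J).mp inferInstance


/-- **S14897** -/
theorem main {S : Scheme.{u}} [IsIntegral S] [CompactSpace S] [QuasiSeparatedSpace S]
    (Kb : Type u) [Field Kb] (ηb : Spec (CommRingCat.of Kb) ⟶ S) [IsDominant ηb] (f : Kb) :
    ∃ (S' : Scheme.{u}) (s : Spec (CommRingCat.of Kb) ⟶ S') (q : S' ⟶ S)
      (F : S' ⟶ CohB1.ProjSpace 1 P1.R0.{u}),
      IsSchemeTheoreticallyDominant s ∧ IsProper q ∧ s ≫ q = ηb ∧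
      s ≫ F = Spec.map (CommRingCat.ofHom (P1.chartMap 0 Kb f)) ≫
        Proj.awayι P1.grading (P1.T 0) (P1.X_mem 0) one_pos := by
  let a : Spec (CommRingCat.of Kb) ⟶ CohB1.ProjSpace 1 P1.R0.{u} :=
    Spec.map (CommRingCat.ofHom (P1.chartMap 0 Kb f)) ≫
      Proj.awayι P1.grading (P1.T 0) (P1.X_mem 0) one_pos
  let g : Spec (CommRingCat.of Kb) ⟶ CohB1.ProjSpaceOver 1 S :=
    pullback.lift a ηb (specULiftZIsTerminal.hom_ext _ _)
  haveI : IsProper (CohB1.ProjSpace.toSpec 1 (ULift.{u} ℤ)) :=
    Groth.Agent.Helper6.HProj.isProper_toSpec 1 (ULift.{u} ℤ)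
  haveI : IsProper (CohB1.ProjSpaceOver.toBase 1 S) := by
    unfold CohB1.ProjSpaceOver.toBase
    exact MorphismProperty.pullback_snd _ _ ‹_›
  refine ⟨g.image, g.toImage, g.imageι ≫ CohB1.ProjSpaceOver.toBase 1 S,
    g.imageι ≫ pullback.fst _ _, isSchemeTheoreticallyDominant_toImage g, inferInstance, ?_, ?_⟩
  · rw [← Category.assoc, Scheme.Hom.toImage_imageι]
    exact pullback.lift_snd _ _ _
  · rw [← Category.assoc, Scheme.Hom.toImage_imageι]
    exact pullback.lift_fst _ _ _

end Groth.Agent.Helper4.SN624
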