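import Mathlib
import Groth.Agent.Helper1.Segre10

/-!
# Linear projections: a morphism `f : Y ⟶ P^N_R` and linear forms `h_0, …, h_d` whose
non-vanishing loci cover `Y` define a morphism `Y ⟶ P^d_R`
-/

set_option autoImplicit false
set_option linter.style.haveILetI false
set_option linter.unusedSectionVars false

namespace Groth.Agent.Helper4.SN625

open CategoryTheory Limits AlgebraicGeometry HomogeneousLocalization
open Groth.Agent.Helper1.ProjMor Groth.Agent.Helper1.Segre

universe u

variable (R : Type u) [CommRing R] (N d : ℕ) {Y : Scheme.{u}}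
  (f : Y ⟶ Proj (CohB1.polyGrading N R)) (q : Y ⟶ Spec (CommRingCat.of R))
  (h : Fin (d + 1) → MvPolynomial (Fin (N + 1)) R)
  (hh : ∀ j, h j ∈ CohB1.polyGrading N R 1)

/-- the non-vanishing loci of the forms -/
noncomputable def V (j : Fin (d + 1)) : Y.Opens :=
  f ⁻¹ᵁ Proj.basicOpen (CohB1.polyGrading N R) (h j)

/-- the functions `h_i / h_j` on `V j` -/
noncomputable def w (j i : Fin (d + 1)) : Γ((V R N d f h j : Scheme.{u}), ⊤) :=
  pf (CohB1.polyGrading N R) f (V R N d f h j) (hh j) one_pos le_rfl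
    (ratio (CohB1.polyGrading N R) (hh j) (hh i))

/-- the local ring maps -/
noncomputable def ψ (j : Fin (d + 1)) :
    MvPolynomial (Fin (d + 1)) R →+* Γ((V R N d f h j : Scheme.{u}), ⊤) :=
  MvPolynomial.eval₂Hom (ProjUP.toGlobal ((V R N d f h j).ι ≫ q)) (w R N d f h hh j)

theorem ψ_X (j i : Fin (d + 1)) :
    ψ R N d f q h hh j (MvPolynomial.X i) = w R N d f h hh j i := by
  unfold ψ
  rw [MvPolynomial.coe_eval₂Hom, MvPolynomial.eval₂_X]

theorem w_self (j : Fin (d + 1)) : w R N d f h hh j j = 1 := by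
  unfold w
  rw [ratio_self, map_one]

theorem hunit (j : Fin (d + 1)) : IsUnit (ψ R N d f q h hh j (MvPolynomial.X j)) := by
  rw [ψ_X, w_self]
  exact isUnit_one

theorem hpre (j j' : Fin (d + 1)) :
    (V R N d f h j' : Scheme.{u}).basicOpen (ψ R N d f q h hh j' (MvPolynomial.X j)) =
      (V R N d f h j').ι ⁻¹ᵁ (V R N d f h j) := by
  rw [ψ_X]
  unfold w
  rw [pf_basicOpen _ _ _ _ _ _ _ one_pos]
  rfl

theorem res_w (j j' i : Fin (d + 1)) :
    (Y.homOfLE (inf_le_right : V R N d f h j ⊓ V R N d f h j' ≤ V R N d f h j')).appTop.hom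
        (w R N d f h hh j' i) =
      (Y.homOfLE (inf_le_right : V R N d f h j ⊓ V R N d f h j' ≤ V R N d f h j')).appTop.hom
        (w R N d f h hh j' j) *
      (Y.homOfLE (inf_le_left : V R N d f h j ⊓ V R N d f h j' ≤ V R N d f h j)).appTop.hom
        (w R N d f h hh j i) := by
  unfold w
  have h1 := fun x => congrArg (fun φ => φ x) (pf_res (CohB1.polyGrading N R) f
    (inf_le_right : V R N d f h j ⊓ V R N d f h j' ≤ V R N d f h j') (hh j') one_pos le_rfl)
  have h2 := fun x => congrArg (fun φ => φ x) (pf_res (CohB1.polyGrading N R) f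
    (inf_le_left : V R N d f h j ⊓ V R N d f h j' ≤ V R N d f h j) (hh j) one_pos le_rfl)
  simp only [RingHom.comp_apply] at h1 h2
  rw [h1, h1, h2]
  exact pf_ratio_cocycle (CohB1.polyGrading N R) f (V R N d f h j ⊓ V R N d f h j')
    (hh j) (hh j') (hh i) _ _

theorem isUnit_res_w (j j' : Fin (d + 1)) :
    IsUnit ((Y.homOfLE (inf_le_right : V R N d f h j ⊓ V R N d f h j' ≤ V R N d f h j')).appTop.hom
        (w R N d f h hh j' j)) := by
  unfold w
  have h1 := fun x => congrArg (fun φ => φ x) (pf_res (CohB1.polyGrading N R) f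
    (inf_le_right : V R N d f h j ⊓ V R N d f h j' ≤ V R N d f h j') (hh j') one_pos le_rfl)
  simp only [RingHom.comp_apply] at h1
  rw [h1]
  exact IsUnit.of_mul_eq_one _ (pf_ratio_mul_inv (CohB1.polyGrading N R) f
    (V R N d f h j ⊓ V R N d f h j') (hh j) (hh j') (inf_le_left.trans le_rfl)
    (inf_le_right.trans le_rfl))

theorem hcompat (j j' : Fin (d + 1)) :
    ∃ u : Γ((V R N d f h j ⊓ V R N d f h j' : Y.Opens), ⊤), IsUnit u ∧
    ∀ (k : ℕ) (a : MvPolynomial (Fin (d + 1)) R),
      a ∈ CohB1.polyGrading d R k →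
      (Y.homOfLE (inf_le_right : V R N d f h j ⊓ V R N d f h j' ≤ V R N d f h j')).appTop.hom
          (ψ R N d f q h hh j' a) =
        u ^ k * (Y.homOfLE (inf_le_left : V R N d f h j ⊓ V R N d f h j' ≤ V R N d f h j)).appTop.hom
          (ψ R N d f q h hh j a) := by
  refine ⟨(Y.homOfLE (inf_le_right : V R N d f h j ⊓ V R N d f h j' ≤ V R N d f h j')).appTop.hom
        (w R N d f h hh j' j), isUnit_res_w R N d f h hh j j', ?_⟩
  intro k a ha
  unfold ψ
  rw [MvPolynomial.map_eval₂Hom, MvPolynomial.map_eval₂Hom,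
    ← toGlobal_comp, ← toGlobal_comp, Scheme.homOfLE_ι_assoc, Scheme.homOfLE_ι_assoc,
    ← eval₂Hom_smul_of_isHomogeneous _ _ _ a k ha]
  congr 2
  funext i
  exact res_w R N d f h hh j j' i

variable (hcov : TopologicalSpace.IsOpenCover (V R N d f h))

/-- the projection morphism -/
noncomputable def proj : Y ⟶ Proj (CohB1.polyGrading d R) :=
  glue (CohB1.polyGrading d R) (V R N d f h) hcov (ψ R N d f q h hh)
    (fun j => MvPolynomial.X j) (fun _ => 1) (fun j => hX j) (fun _ => one_pos)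
    (hunit R N d f q h hh) (hcompat R N d f q h hh)

theorem proj_preimage (j : Fin (d + 1)) :
    proj R N d f q h hh hcov ⁻¹ᵁ Proj.basicOpen (CohB1.polyGrading d R)
      (MvPolynomial.X j : MvPolynomial (Fin (d + 1)) R) = V R N d f h j :=
  glue_preimage_basicOpen (CohB1.polyGrading d R) (V R N d f h) hcov (ψ R N d f q h hh)
    (fun j => MvPolynomial.X j) (fun _ => 1) (fun j => hX j) (fun _ => one_pos)
    (hunit R N d f q h hh) (hcompat R N d f q h hh) (hpre R N d f q h hh) j

theorem ι_proj (j : Fin (d + 1)) :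
    (V R N d f h j).ι ≫ proj R N d f q h hh hcov =
      toAway (CohB1.polyGrading d R) (ψ R N d f q h hh j) (hX j) one_pos
        (hunit R N d f q h hh j) :=
  ι_glue (CohB1.polyGrading d R) (V R N d f h) hcov (ψ R N d f q h hh)
    (fun j => MvPolynomial.X j) (fun _ => 1) (fun j => hX j) (fun _ => one_pos)
    (hunit R N d f q h hh) (hcompat R N d f q h hh) j

theorem proj_toSpec :
    (proj R N d f q h hh hcov : Y ⟶ CohB1.ProjSpace d R) ≫ CohB1.ProjSpace.toSpec d R = q := by
  apply (Y.openCoverOfIsOpenCover (V R N d f h) hcov).hom_ext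
  intro j
  show (V R N d f h j).ι ≫ proj R N d f q h hh hcov ≫
    Proj.toSpecZero (CohB1.polyGrading d R) ≫
    Spec.map (CommRingCat.ofHom (algebraMap R (CohB1.polyGrading d R 0))) =
    (V R N d f h j).ι ≫ q
  rw [reassoc_of% ι_proj R N d f q h hh hcov j, reassoc_of% toAway_toSpecZero, ← Spec.map_comp,
    ← CommRingCat.ofHom_comp]
  conv_rhs => rw [← toSpecΓ_comp_toGlobal ((V R N d f h j).ι ≫ q)]
  congr 3
  ext c
  simp only [RingHom.comp_apply]
  unfold ψ
  rw [SetLike.GradeZero.algebraMap_apply, SetLike.GradeZero.coe_algebraMap,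
    MvPolynomial.algebraMap_eq, MvPolynomial.coe_eval₂Hom, MvPolynomial.eval₂_C]

end Groth.Agent.Helper4.SN625
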