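import Mathlib

/-!
# Algebra of multiplying a polynomial by a linear factor: convolution of coefficient families,
and the injectivity of the map given by elementary symmetric polynomials
-/

set_option autoImplicit false
set_option linter.style.haveILetI false
set_option linter.unusedSectionVars false

namespace Groth.Agent.Helper4.SN626

open Polynomial

universe u v

section Conv

variable {S : Type u} [CommRing S] {n m : ℕ}

/-- the polynomial with given coefficients -/
noncomputable def pol (α : Fin (n + 1) → S) : S[X] :=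
  ∑ i : Fin (n + 1), C (α i) * X ^ (i : ℕ)

theorem coeff_pol (α : Fin (n + 1) → S) (a : ℕ) :
    (pol α).coeff a = if h : a < n + 1 then α ⟨a, h⟩ else 0 := by
  unfold pol
  rw [finset_sum_coeff]
  simp_rw [coeff_C_mul_X_pow]
  split_ifs with h
  · rw [Finset.sum_eq_single (⟨a, h⟩ : Fin (n + 1))]
    · simp
    · intro b _ hb
      rw [if_neg]
      intro hab
      exact hb (Fin.ext hab.symm)
    · intro hh
      exact absurd (Finset.mem_univ _) hh
  · apply Finset.sum_eq_zero
    intro b _
    rw [if_neg]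
    intro hab
    exact h (hab ▸ b.isLt)

theorem coeff_pol_fin (α : Fin (n + 1) → S) (i : Fin (n + 1)) : (pol α).coeff (i : ℕ) = α i := by
  rw [coeff_pol, dif_pos i.isLt]

theorem natDegree_pol_le (α : Fin (n + 1) → S) : (pol α).natDegree ≤ n := by
  unfold pol
  apply natDegree_sum_le_of_forall_le
  intro i _
  exact (natDegree_C_mul_X_pow_le _ _).trans (Nat.lt_succ_iff.mp i.isLt)

/-- the coefficients of the product -/
noncomputable def conv (α : Fin (n + 1) → S) (β : Fin (m + 1) → S) (j : ℕ) : S :=
  (pol α * pol β).coeff j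

theorem conv_eq_sum (α : Fin (n + 1) → S) (β : Fin (m + 1) → S) (j : ℕ) :
    conv α β j = ∑ p ∈ Finset.HasAntidiagonal.antidiagonal j,
      if h : p.1 < n + 1 ∧ p.2 < m + 1 then α ⟨p.1, h.1⟩ * β ⟨p.2, h.2⟩ else 0 := by
  unfold conv
  rw [coeff_mul]
  refine Finset.sum_congr rfl fun p _ => ?_
  rw [coeff_pol, coeff_pol]
  by_cases h1 : p.1 < n + 1
  · by_cases h2 : p.2 < m + 1
    · rw [dif_pos h1, dif_pos h2, dif_pos ⟨h1, h2⟩]
    · rw [dif_neg h2, dif_neg (show ¬(p.1 < n + 1 ∧ p.2 < m + 1) from fun h => h2 h.2), mul_zero]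
  · rw [dif_neg h1, dif_neg (show ¬(p.1 < n + 1 ∧ p.2 < m + 1) from fun h => h1 h.1), zero_mul]

theorem pol_map {T : Type v} [CommRing T] (φ : S →+* T) (α : Fin (n + 1) → S) :
    pol (fun i => φ (α i)) = (pol α).map φ := by
  unfold pol
  rw [Polynomial.map_sum]
  refine Finset.sum_congr rfl fun i _ => ?_
  rw [Polynomial.map_mul, Polynomial.map_pow, map_C, map_X]

theorem conv_map {T : Type v} [CommRing T] (φ : S →+* T) (α : Fin (n + 1) → S)
    (β : Fin (m + 1) → S) (j : ℕ) :
    conv (fun i => φ (α i)) (fun l => φ (β l)) j = φ (conv α β j) := by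
  unfold conv
  rw [pol_map, pol_map, ← Polynomial.map_mul, coeff_map]

theorem pol_smul (u : S) (α : Fin (n + 1) → S) : pol (fun i => u * α i) = C u * pol α := by
  unfold pol
  rw [Finset.mul_sum]
  refine Finset.sum_congr rfl fun i _ => ?_
  rw [C_mul, mul_assoc]

theorem conv_smul (u v : S) (α : Fin (n + 1) → S) (β : Fin (m + 1) → S) (j : ℕ) :
    conv (fun i => u * α i) (fun l => v * β l) j = (u * v) * conv α β j := by
  unfold conv
  rw [pol_smul, pol_smul]
  have : C u * pol α * (C v * pol β) = C (u * v) * (pol α * pol β) := by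
    rw [C_mul]; ring
  rw [this, coeff_C_mul]

theorem conv_eq_zero_of_lt (α : Fin (n + 1) → S) (β : Fin (m + 1) → S) (j : ℕ)
    (hj : n + m < j) : conv α β j = 0 := by
  unfold conv
  apply coeff_eq_zero_of_natDegree_lt
  exact lt_of_le_of_lt (natDegree_mul_le.trans
    (add_le_add (natDegree_pol_le α) (natDegree_pol_le β))) hj

/-- over a field, the product of two nonzero coefficient families has a nonzero entry -/
theorem exists_conv_ne_zero {K : Type u} [Field K] (α : Fin (n + 1) → K) (β : Fin (m + 1) → K)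
    (i₀ : Fin (n + 1)) (l₀ : Fin (m + 1)) (hα : α i₀ ≠ 0) (hβ : β l₀ ≠ 0) :
    ∃ j : Fin (n + m + 1), conv α β (j : ℕ) ≠ 0 := by
  have h1 : pol α ≠ 0 := by
    intro h0
    have := coeff_pol_fin α i₀
    rw [h0, coeff_zero] at this
    exact hα this.symm
  have h2 : pol β ≠ 0 := by
    intro h0
    have := coeff_pol_fin β l₀
    rw [h0, coeff_zero] at this
    exact hβ this.symm
  have h3 : pol α * pol β ≠ 0 := mul_ne_zero h1 h2
  obtain ⟨j, hj⟩ : ∃ j, (pol α * pol β).coeff j ≠ 0 := by
    by_contra hcon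
    push Not at hcon
    exact h3 (Polynomial.ext (fun j => by rw [hcon j, coeff_zero]))
  have hjlt : j < n + m + 1 := by
    by_contra hge
    exact hj (conv_eq_zero_of_lt α β j (by omega))
  exact ⟨⟨j, hjlt⟩, hj⟩

end Conv

section Esymm

variable (R : Type u) [CommRing R] (n : ℕ)

/-- the product of the `n` linear factors `X + y_k`, `k < n`, over `R[y_0, …, y_n]` -/
noncomputable def PA : (MvPolynomial (Fin (n + 1)) R)[X] :=
  ∏ k : Fin n, (X + C (MvPolynomial.X k.castSucc))

theorem natDegree_PA_le : (PA R n).natDegree ≤ n := by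
  unfold PA
  refine (natDegree_prod_le _ _).trans ?_
  calc ∑ i : Fin n, (X + C (MvPolynomial.X i.castSucc) :
        (MvPolynomial (Fin (n + 1)) R)[X]).natDegree
      ≤ ∑ _i : Fin n, 1 := Finset.sum_le_sum (fun i _ => (natDegree_add_le _ _).trans
        (max_le natDegree_X_le (by rw [natDegree_C]; exact Nat.zero_le _)))
    _ = n := by simp

theorem pol_PA : pol (fun i : Fin (n + 1) => (PA R n).coeff (i : ℕ)) = PA R n := by
  unfold pol
  rw [Fin.sum_univ_eq_sum_range (fun i => C ((PA R n).coeff i) * X ^ i) (n + 1)]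
  exact (as_sum_range_C_mul_X_pow' (PA R n) (Nat.lt_succ_of_le (natDegree_PA_le R n))).symm

theorem pol_lin (a b : MvPolynomial (Fin (n + 1)) R) :
    pol (n := 1) ![a, b] = C a + C b * X := by
  unfold pol
  rw [Fin.sum_univ_two]
  simp

theorem PA_mul :
    PA R n * (X + C (MvPolynomial.X (Fin.last n))) =
      ∏ k : Fin (n + 1), (X + C (MvPolynomial.X k : MvPolynomial (Fin (n + 1)) R)) := by
  rw [Fin.prod_univ_castSucc]
  rfl

/-- the key computation: multiplying out gives the elementary symmetric polynomials -/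
theorem conv_PA (j : ℕ) (hj : j ≤ n + 1) :
    conv (fun i : Fin (n + 1) => (PA R n).coeff (i : ℕ))
      (![MvPolynomial.X (Fin.last n), 1] : Fin (1 + 1) → MvPolynomial (Fin (n + 1)) R) j =
      MvPolynomial.esymm (Fin (n + 1)) R (n + 1 - j) := by
  unfold conv
  rw [pol_PA, pol_lin, map_one, one_mul, add_comm (C _) X, PA_mul]
  have h := MvPolynomial.prod_X_add_C_coeff R (Fin (n + 1)) j (by simpa using hj)
  simpa using h

/-- the ring map sending `X_j` to the `j`-th coefficient of `∏ (X + y_k)` -/
noncomputable def Θ : MvPolynomial (Fin (n + 1)) R →+* MvPolynomial (Fin (n + 1)) R :=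
  MvPolynomial.eval₂Hom MvPolynomial.C
    (fun j : Fin (n + 1) => MvPolynomial.esymm (Fin (n + 1)) R (n + 1 - (j : ℕ)))

theorem Θ_injective : Function.Injective (Θ R n) := by
  have h1 := MvPolynomial.esymmAlgHom_fin_injective R (le_refl (n + 1))
  have h2 : ∀ p, Θ R n p =
      ((MvPolynomial.esymmAlgHom (Fin (n + 1)) R (n + 1))
        (MvPolynomial.rename (Fin.rev : Fin (n + 1) → Fin (n + 1)) p)).val := by
    intro p
    rw [MvPolynomial.esymmAlgHom_apply]
    have h3 : (Θ R n : MvPolynomial (Fin (n + 1)) R →+* MvPolynomial (Fin (n + 1)) R) =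
        (RingHomClass.toRingHom (MvPolynomial.aeval (fun i : Fin (n + 1) =>
          MvPolynomial.esymm (Fin (n + 1)) R ((i : ℕ) + 1)) :
            MvPolynomial (Fin (n + 1)) R →ₐ[R] MvPolynomial (Fin (n + 1)) R)).comp
        (RingHomClass.toRingHom (MvPolynomial.rename (Fin.rev : Fin (n + 1) → Fin (n + 1)) :
          MvPolynomial (Fin (n + 1)) R →ₐ[R] MvPolynomial (Fin (n + 1)) R)) := by
      apply MvPolynomial.ringHom_ext
      · intro c
        simp [Θ]
      · intro j
        simp only [Θ, MvPolynomial.coe_eval₂Hom, MvPolynomial.eval₂_X, RingHom.comp_apply,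
          RingHom.coe_coe, MvPolynomial.rename_X, MvPolynomial.aeval_X, Fin.val_rev]
        congr 1
        omega
    exact congrArg (fun φ => φ p) h3
  intro p p' hpp
  have h4 : MvPolynomial.rename (Fin.rev : Fin (n + 1) → Fin (n + 1)) p =
      MvPolynomial.rename (Fin.rev : Fin (n + 1) → Fin (n + 1)) p' := by
    apply h1
    apply Subtype.ext
    rw [← h2, ← h2, hpp]
  exact MvPolynomial.rename_injective _ Fin.rev_injective h4

end Esymm

end Groth.Agent.Helper4.SN626
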