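import Mathlib
import Groth.Agent.Helper4.SN625
import Groth.Agent.Helper4.SN626
import Groth.Agent.Helper6.HProj

/-!
# The multiplication morphism `P^n × P^1 ⟶ P^(n+1)` (multiplying a polynomial of degree `n` by a
linear factor): construction and finiteness
-/

set_option autoImplicit false
set_option linter.style.haveILetI false
set_option linter.unusedSectionVars false

namespace Groth.Agent.Helper4.SN627

open CategoryTheory Limits AlgebraicGeometry HomogeneousLocalization
open Groth.Agent.Helper1.ProjMor Groth.Agent.Helper1.Segre Groth.Agent.Helper4.SN625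
  Groth.Agent.Helper4.SN626

universe u

variable (R : Type u) [CommRing R] (n : ℕ)

/-- the bilinear forms `c_j = Σ_{i+l=j} z_{(i,l)}` on the Segre space -/
noncomputable def c (j : Fin (n + 1 + 1)) : MvPolynomial (Fin (n * 1 + n + 1 + 1)) R :=
  ∑ p ∈ Finset.HasAntidiagonal.antidiagonal (j : ℕ),
    if h : p.1 < n + 1 ∧ p.2 < 1 + 1 then
      MvPolynomial.X (idx n 1 (⟨p.1, h.1⟩, ⟨p.2, h.2⟩)) else 0

theorem hc (j : Fin (n + 1 + 1)) : c R n j ∈ CohB1.polyGrading (n * 1 + n + 1) R 1 := by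
  unfold c
  apply Submodule.sum_mem
  intro p _
  split_ifs with h
  · exact hX _
  · exact Submodule.zero_mem _

theorem ψψ_c (e : Fin (n + 1) × Fin (1 + 1)) (j : Fin (n + 1 + 1)) :
    ψψ R n 1 e (c R n j) = conv (aa R n 1 e) (bb R n 1 e) (j : ℕ) := by
  unfold c
  rw [map_sum, conv_eq_sum]
  refine Finset.sum_congr rfl fun p _ => ?_
  by_cases h : p.1 < n + 1 ∧ p.2 < 1 + 1
  · rw [dif_pos h, dif_pos h, ψψ_X_idx]
  · rw [dif_neg h, dif_neg h, map_zero]

theorem ι_preimage (e : Fin (n + 1) × Fin (1 + 1)) (j : Fin (n + 1 + 1)) :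
    (W R n 1 e).ι ⁻¹ᵁ (V R (n * 1 + n + 1) (n + 1) (segre R n 1) (c R n) j) =
      (W R n 1 e : Scheme.{u}).basicOpen (conv (aa R n 1 e) (bb R n 1 e) (j : ℕ)) := by
  unfold V
  rw [← Scheme.Hom.comp_preimage, ι_segre,
    toAway_preimage_basicOpen _ _ _ _ (hc R n j) one_pos, ψψ_c]

theorem hcovV : TopologicalSpace.IsOpenCover
    (V R (n * 1 + n + 1) (n + 1) (segre R n 1) (c R n)) := by
  rw [TopologicalSpace.IsOpenCover, eq_top_iff]
  intro x _
  have hx : x ∈ (⨆ e, W R n 1 e) := by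
    rw [(isOpenCover_W R n 1).iSup_eq_top]; trivial
  rw [TopologicalSpace.Opens.mem_iSup] at hx ⊢
  obtain ⟨e, he⟩ := hx
  let Z : Scheme.{u} := (W R n 1 e : Scheme.{u})
  let x' : Z := ⟨x, he⟩
  let ev : Γ(Z, ⊤) →+* Z.residueField x' := (Z.Γevaluation x').hom
  have h1 : ev (aa R n 1 e e.1) ≠ 0 := by
    rw [aa_self, map_one]; exact one_ne_zero
  have h2 : ev (bb R n 1 e e.2) ≠ 0 := by
    rw [bb_self, map_one]; exact one_ne_zero
  obtain ⟨j, hj⟩ := exists_conv_ne_zero (fun i => ev (aa R n 1 e i)) (fun l => ev (bb R n 1 e l))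
    e.1 e.2 h1 h2
  rw [conv_map] at hj
  have h3 : x' ∈ Z.basicOpen (conv (aa R n 1 e) (bb R n 1 e) (j : ℕ)) :=
    (Z.evaluation_ne_zero_iff_mem_basicOpen (U := ⊤) x' (TopologicalSpace.Opens.mem_top x') _).mp hj
  rw [← ι_preimage] at h3
  exact ⟨j, h3⟩

/-- the multiplication morphism -/
noncomputable def mult : PP R n 1 ⟶ Proj (CohB1.polyGrading (n + 1) R) :=
  proj R (n * 1 + n + 1) (n + 1) (segre R n 1) (qq R n 1) (c R n) (hc R n) (hcovV R n)

theorem mult_preimage (j : Fin (n + 1 + 1)) :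
    mult R n ⁻¹ᵁ Proj.basicOpen (CohB1.polyGrading (n + 1) R)
      (MvPolynomial.X j : MvPolynomial (Fin (n + 1 + 1)) R) =
      V R (n * 1 + n + 1) (n + 1) (segre R n 1) (c R n) j :=
  proj_preimage R (n * 1 + n + 1) (n + 1) (segre R n 1) (qq R n 1) (c R n) (hc R n) (hcovV R n) j

theorem ι_mult (j : Fin (n + 1 + 1)) :
    (V R (n * 1 + n + 1) (n + 1) (segre R n 1) (c R n) j).ι ≫ mult R n =
      toAway (CohB1.polyGrading (n + 1) R)
        (ψ R (n * 1 + n + 1) (n + 1) (segre R n 1) (qq R n 1) (c R n) (hc R n) j) (hX j) one_pos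
        (hunit R (n * 1 + n + 1) (n + 1) (segre R n 1) (qq R n 1) (c R n) (hc R n) j) :=
  ι_proj R (n * 1 + n + 1) (n + 1) (segre R n 1) (qq R n 1) (c R n) (hc R n) (hcovV R n) j

theorem mult_toSpec :
    (mult R n : PP R n 1 ⟶ CohB1.ProjSpace (n + 1) R) ≫ CohB1.ProjSpace.toSpec (n + 1) R =
      qq R n 1 :=
  proj_toSpec R (n * 1 + n + 1) (n + 1) (segre R n 1) (qq R n 1) (c R n) (hc R n) (hcovV R n)

instance isProper_qq : IsProper (qq R n 1) := by
  haveI : IsProper (CohB1.ProjSpace.toSpec n R) := Groth.Agent.Helper6.HProj.isProper_toSpec n R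
  haveI : IsProper (CohB1.ProjSpace.toSpec 1 R) := Groth.Agent.Helper6.HProj.isProper_toSpec 1 R
  unfold qq
  infer_instance

theorem isFinite_mult : IsFinite (mult R n) := by
  haveI : IsProper (CohB1.ProjSpace.toSpec (n + 1) R) :=
    Groth.Agent.Helper6.HProj.isProper_toSpec (n + 1) R
  haveI : IsProper ((mult R n : PP R n 1 ⟶ CohB1.ProjSpace (n + 1) R) ≫
      CohB1.ProjSpace.toSpec (n + 1) R) := by
    rw [mult_toSpec]; infer_instance
  haveI : IsProper (mult R n) :=
    IsProper.of_comp (mult R n : PP R n 1 ⟶ CohB1.ProjSpace (n + 1) R)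
      (CohB1.ProjSpace.toSpec (n + 1) R)
  have haff : IsAffineHom (mult R n) := by
    rw [IsZariskiLocalAtTarget.iff_of_iSup_eq_top (P := @IsAffineHom)
      (fun j : Fin (n + 1 + 1) => Proj.basicOpen (CohB1.polyGrading (n + 1) R)
        (MvPolynomial.X j : MvPolynomial (Fin (n + 1 + 1)) R)) (iSup_basicOpen_X R (n + 1))]
    intro j
    have hA : IsAffineOpen (Proj.basicOpen (CohB1.polyGrading (n + 1) R)
        (MvPolynomial.X j : MvPolynomial (Fin (n + 1 + 1)) R)) :=
      Proj.isAffineOpen_basicOpen _ _ (hX j) one_pos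
    haveI : IsAffine (Proj.basicOpen (CohB1.polyGrading (n + 1) R)
        (MvPolynomial.X j : MvPolynomial (Fin (n + 1 + 1)) R)) := hA
    rw [HasAffineProperty.iff_of_isAffine (P := @IsAffineHom)]
    haveI : IsClosedImmersion (segre R n 1) := isClosedImmersion_segre R n 1
    haveI hι : IsAffineHom (segre R n 1) := inferInstance
    have hB : IsAffineOpen (segre R n 1 ⁻¹ᵁ
        (Proj.basicOpen (CohB1.polyGrading (n * 1 + n + 1) R) (c R n j))) :=
      @IsAffineOpen.preimage _ _ _ (Proj.isAffineOpen_basicOpen _ (c R n j) (hc R n j) one_pos)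
        (segre R n 1) hι
    rw [mult_preimage]
    exact hB
  exact IsFinite.iff_isProper_and_isAffineHom.mpr ⟨inferInstance, haff⟩

end Groth.Agent.Helper4.SN627
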