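import Mathlib
import Groth.Agent.Helper4.SN627
import Groth.Agent.Lead.ZPnA

/-!
# General lemmas on `pullFun` of `toAway`, and the standard chart
-/

set_option autoImplicit false
set_option linter.style.haveILetI false
set_option linter.unusedSectionVars false

namespace Groth.Agent.Helper4.SN628

open CategoryTheory Limits AlgebraicGeometry HomogeneousLocalization
open Groth.Agent.Helper1.ProjMor Groth.Agent.Helper1.Segre

universe u

section General

variable {σ : Type*} {A : Type u} [CommRing A] [SetLike σ A] [AddSubgroupClass σ A]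
variable (𝒜 : ℕ → σ) [GradedRing 𝒜]
variable {V : Scheme.{u}}

theorem toGlobal_toSpecΓ_comp {B : Type u} [CommRing B] (φ : B →+* Γ(V, ⊤)) :
    ProjUP.toGlobal (V.toSpecΓ ≫ Spec.map (CommRingCat.ofHom φ)) = φ := by
  rw [toGlobal_comp_SpecMap]
  have h1 : ProjUP.toGlobal (V.toSpecΓ) = RingHom.id _ := by
    unfold ProjUP.toGlobal
    rw [Scheme.toSpecΓ_appTop]
    ext x
    exact congrArg (fun φ => φ.hom x) (Scheme.ΓSpecIso Γ(V, ⊤)).inv_hom_id
  rw [h1, RingHom.id_comp]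

theorem pullFun_toAway (Ψ : A →+* Γ(V, ⊤)) {t : A} {d : ℕ} (ht : t ∈ 𝒜 d) (hd : 0 < d)
    (h : IsUnit (Ψ t))
    (hr : Set.range (toAway 𝒜 Ψ ht hd h) ⊆ (Proj.basicOpen 𝒜 t : Set (Proj 𝒜))) :
    Groth.Agent.Helper1.ProjMor.pullFun 𝒜 (toAway 𝒜 Ψ ht hd h) ht hd hr = awayLift 𝒜 Ψ h := by
  have h1 : liftAway 𝒜 (toAway 𝒜 Ψ ht hd h) ht hd hr =
      V.toSpecΓ ≫ Spec.map (CommRingCat.ofHom (awayLift 𝒜 Ψ h)) := by
    rw [← cancel_mono (Proj.awayι 𝒜 t ht hd), liftAway_fac]
    unfold toAway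
    simp only [Category.assoc]
  unfold Groth.Agent.Helper1.ProjMor.pullFun
  rw [h1, toGlobal_toSpecΓ_comp]

theorem pullFun_toAway_ratio (Ψ : A →+* Γ(V, ⊤)) {t t' s : A} (ht : t ∈ 𝒜 1) (ht' : t' ∈ 𝒜 1)
    (hs : s ∈ 𝒜 1) (he : t' = t) (h : IsUnit (Ψ t))
    (hr : Set.range (toAway 𝒜 Ψ ht one_pos h) ⊆ (Proj.basicOpen 𝒜 t' : Set (Proj 𝒜))) :
    Groth.Agent.Helper1.ProjMor.pullFun 𝒜 (toAway 𝒜 Ψ ht one_pos h) ht' one_pos hr
      (ratio 𝒜 ht' hs) * Ψ t = Ψ s := by
  subst he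
  rw [pullFun_toAway]
  have h1 := awayLift_mk 𝒜 Ψ h ht' 1 (s ^ 1) (by simpa using hs)
  have h2 : awayLift 𝒜 Ψ h (ratio 𝒜 ht' hs) * Ψ t' ^ 1 = Ψ (s ^ 1) := h1
  rwa [pow_one, pow_one] at h2

theorem awayLift_ratio {B : Type u} [CommRing B] (Ψ : A →+* B) {t s : A} (ht : t ∈ 𝒜 1)
    (hs : s ∈ 𝒜 1) (h : IsUnit (Ψ t)) :
    awayLift 𝒜 Ψ h (ratio 𝒜 ht hs) * Ψ t = Ψ s := by
  have h1 := awayLift_mk 𝒜 Ψ h ht 1 (s ^ 1) (by simpa using hs)
  have h2 : awayLift 𝒜 Ψ h (ratio 𝒜 ht hs) * Ψ t ^ 1 = Ψ (s ^ 1) := h1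
  rwa [pow_one, pow_one] at h2

theorem range_toAway (Ψ : A →+* Γ(V, ⊤)) {t : A} {d : ℕ} (ht : t ∈ 𝒜 d) (hd : 0 < d)
    (h : IsUnit (Ψ t)) :
    Set.range (toAway 𝒜 Ψ ht hd h) ⊆ (Proj.basicOpen 𝒜 t : Set (Proj 𝒜)) := by
  rintro _ ⟨y, rfl⟩
  have h1 := congrArg (fun U : (Proj 𝒜).Opens => (U : Set (Proj 𝒜)))
    (Proj.opensRange_awayι 𝒜 t ht hd)
  simp only [Scheme.Hom.coe_opensRange] at h1
  rw [← h1]
  unfold toAway
  exact ⟨_, rfl⟩

theorem pullFun_SpecMap_awayι {B : Type u} [CommRing B] {t : A} {d : ℕ} (ht : t ∈ 𝒜 d)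
    (hd : 0 < d) (α : Away 𝒜 t →+* B)
    (hr : Set.range (Spec.map (CommRingCat.ofHom α) ≫ Proj.awayι 𝒜 t ht hd) ⊆
      (Proj.basicOpen 𝒜 t : Set (Proj 𝒜))) :
    Groth.Agent.Helper1.ProjMor.pullFun 𝒜
        (Spec.map (CommRingCat.ofHom α) ≫ Proj.awayι 𝒜 t ht hd) ht hd hr =
      (Scheme.ΓSpecIso (CommRingCat.of B)).inv.hom.comp α := by
  have h1 : liftAway 𝒜 (Spec.map (CommRingCat.ofHom α) ≫ Proj.awayι 𝒜 t ht hd) ht hd hr =
      Spec.map (CommRingCat.ofHom α) := by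
    rw [← cancel_mono (Proj.awayι 𝒜 t ht hd), liftAway_fac]
  unfold Groth.Agent.Helper1.ProjMor.pullFun
  rw [h1]
  have h2 := toGlobal_comp_SpecMap (𝟙 (Spec (CommRingCat.of B))) α
  rw [Category.id_comp] at h2
  rw [h2]
  congr 1

end General

section Test

open Groth.Agent.Lead.ZPn Groth.Agent.Helper1.GMH Groth.Agent.Helper4.SN625
  Groth.Agent.Helper4.SN626 Groth.Agent.Helper4.SN627

variable (R : Type u) [CommRing R]

/-- lead's chart map sends the variables to ratios -/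
theorem ψ_X' (k : ℕ) (j : Fin k) :
    Groth.Agent.Lead.ZPn.ψ k R (MvPolynomial.X j) =
      ratio (CohB1.polyGrading k R) (hX (Fin.last k)) (hX j.castSucc) := by
  apply HomogeneousLocalization.val_injective
  rw [ψ_apply, MvPolynomial.rename_X,
    val_dh₀_of_mem (xl_mem k R) (hX j.castSucc : MvPolynomial.X j.castSucc ∈ _), val_ratio]
  congr 1
  exact Subtype.ext (pow_one _)

variable (n : ℕ)

/-- a ring map out of the standard chart `D₊(X_last)` given by the images of the variables -/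
noncomputable def chartHom {B : Type u} [CommRing B] [Algebra R B] (k : ℕ) (v : Fin k → B) :
    Away (CohB1.polyGrading k R) (MvPolynomial.X (Fin.last k)) →+* B :=
  (MvPolynomial.eval₂Hom (algebraMap R B) v).comp (chartEquiv k R).symm.toRingHom

theorem chartHom_ratio_castSucc {B : Type u} [CommRing B] [Algebra R B] (k : ℕ) (v : Fin k → B)
    (j : Fin k) :
    chartHom R k v (ratio (CohB1.polyGrading k R) (hX (Fin.last k)) (hX j.castSucc)) = v j := by
  unfold chartHom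
  rw [← ψ_X', ← chartEquiv_apply]
  simp

theorem chartHom_ratio_last {B : Type u} [CommRing B] [Algebra R B] (k : ℕ) (v : Fin k → B) :
    chartHom R k v (ratio (CohB1.polyGrading k R) (hX (Fin.last k)) (hX (Fin.last k))) = 1 := by
  rw [ratio_self, map_one]

theorem chartHom_fromZero {B : Type u} [CommRing B] [Algebra R B] (k : ℕ) (v : Fin k → B)
    (r : R) :
    chartHom R k v (fromZeroRingHom (CohB1.polyGrading k R) _
      (algebraMap R (CohB1.polyGrading k R 0) r)) = algebraMap R B r := by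
  unfold chartHom
  rw [RingHom.comp_apply]
  have h1 : (chartEquiv k R).symm.toRingHom (fromZeroRingHom (CohB1.polyGrading k R) _
      (algebraMap R (CohB1.polyGrading k R 0) r)) = MvPolynomial.C r :=
    chartEquiv_symm_fromZero k R r
  rw [h1]
  simp

/-- the morphism from `Spec B` to projective space through the standard chart -/
noncomputable def chartMor {B : Type u} [CommRing B] [Algebra R B] (k : ℕ) (v : Fin k → B) :
    Spec (CommRingCat.of B) ⟶ Proj (CohB1.polyGrading k R) :=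
  Spec.map (CommRingCat.ofHom (chartHom R k v)) ≫
    Proj.awayι (CohB1.polyGrading k R) (MvPolynomial.X (Fin.last k)) (hX _) one_pos

theorem chartMor_toSpec {B : Type u} [CommRing B] [Algebra R B] (k : ℕ) (v : Fin k → B) :
    (chartMor R k v : Spec (CommRingCat.of B) ⟶ CohB1.ProjSpace k R) ≫
      CohB1.ProjSpace.toSpec k R = Spec.map (CommRingCat.ofHom (algebraMap R B)) := by
  show (Spec.map (CommRingCat.ofHom (chartHom R k v)) ≫
    Proj.awayι (CohB1.polyGrading k R) (MvPolynomial.X (Fin.last k)) (hX _) one_pos) ≫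
    Proj.toSpecZero (CohB1.polyGrading k R) ≫
    Spec.map (CommRingCat.ofHom (algebraMap R (CohB1.polyGrading k R 0))) = _
  rw [Category.assoc, Proj.awayι_toSpecZero_assoc, ← Spec.map_comp, ← Spec.map_comp]
  congr 1
  ext r
  exact chartHom_fromZero R k v r

theorem range_chartMor {B : Type u} [CommRing B] [Algebra R B] (k : ℕ) (v : Fin k → B) :
    Set.range (chartMor R k v) ⊆ (Proj.basicOpen (CohB1.polyGrading k R)
      (MvPolynomial.X (Fin.last k) : MvPolynomial (Fin (k + 1)) R) :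
        Set (Proj (CohB1.polyGrading k R))) := by
  rintro _ ⟨y, rfl⟩
  have h1 := congrArg (fun U : (Proj (CohB1.polyGrading k R)).Opens =>
      (U : Set (Proj (CohB1.polyGrading k R))))
    (Proj.opensRange_awayι (CohB1.polyGrading k R) (MvPolynomial.X (Fin.last k)) (hX _) one_pos)
  simp only [Scheme.Hom.coe_opensRange] at h1
  rw [← h1]
  unfold chartMor
  exact ⟨_, rfl⟩

theorem pullFun_chartMor {B : Type u} [CommRing B] [Algebra R B] (k : ℕ) (v : Fin k → B)
    (hr : Set.range (chartMor R k v) ⊆ (Proj.basicOpen (CohB1.polyGrading k R)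
      (MvPolynomial.X (Fin.last k) : MvPolynomial (Fin (k + 1)) R) :
        Set (Proj (CohB1.polyGrading k R)))) :
    Groth.Agent.Helper1.ProjMor.pullFun (CohB1.polyGrading k R) (chartMor R k v)
        (hX (Fin.last k)) one_pos hr =
      (Scheme.ΓSpecIso (CommRingCat.of B)).inv.hom.comp (chartHom R k v) :=
  pullFun_SpecMap_awayι (CohB1.polyGrading k R) (hX (Fin.last k)) one_pos (chartHom R k v) hr

end Test

end Groth.Agent.Helper4.SN628
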