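import Mathlib
import Groth.Agent.Helper4.SN628
import Groth.Agent.Helper4.SN197

/-!
# Surjectivity of the multiplication morphism `P^n × P^1 ⟶ P^(n+1)` over a domain
-/

set_option autoImplicit false
set_option linter.style.haveILetI false
set_option linter.unusedSectionVars false

namespace Groth.Agent.Helper4.SN629

open CategoryTheory Limits AlgebraicGeometry HomogeneousLocalization
open Groth.Agent.Helper1.ProjMor Groth.Agent.Helper1.Segre
open Groth.Agent.Lead.ZPn Groth.Agent.Helper4.SN625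
  Groth.Agent.Helper4.SN626 Groth.Agent.Helper4.SN627 Groth.Agent.Helper4.SN628

universe u

variable (R : Type u) [CommRing R] (n : ℕ)

/-- the coordinates of the first factor -/
noncomputable def v₁ : Fin n → MvPolynomial (Fin (n + 1)) R := fun i => (PA R n).coeff (i : ℕ)

/-- the coordinates of the second factor -/
noncomputable def v₂ : Fin 1 → MvPolynomial (Fin (n + 1)) R :=
  fun _ => MvPolynomial.X (Fin.last n)

theorem coeff_PA_top : (PA R n).coeff n = 1 := by
  unfold PA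
  have h := Polynomial.coeff_prod_of_natDegree_le (s := (Finset.univ : Finset (Fin n)))
    (fun k : Fin n => (Polynomial.X + Polynomial.C (MvPolynomial.X k.castSucc) :
      Polynomial (MvPolynomial (Fin (n + 1)) R))) 1 (fun p _ => by
      exact (Polynomial.natDegree_add_le _ _).trans
        (max_le Polynomial.natDegree_X_le (by rw [Polynomial.natDegree_C]; exact Nat.zero_le _)))
  simp only [Finset.card_univ, Fintype.card_fin, mul_one] at h
  rw [h]
  apply Finset.prod_eq_one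
  intro k _
  simp

theorem chartHom_v₁ (i : Fin (n + 1)) :
    chartHom R n (v₁ R n) (ratio (CohB1.polyGrading n R) (hX (Fin.last n)) (hX i)) =
      (PA R n).coeff (i : ℕ) := by
  induction i using Fin.lastCases with
  | last => rw [chartHom_ratio_last, Fin.val_last, coeff_PA_top]
  | cast j => rw [chartHom_ratio_castSucc]; rfl

theorem chartHom_v₂ (l : Fin (1 + 1)) :
    chartHom R 1 (v₂ R n) (ratio (CohB1.polyGrading 1 R) (hX (Fin.last 1)) (hX l)) =
      (![MvPolynomial.X (Fin.last n), 1] : Fin (1 + 1) → MvPolynomial (Fin (n + 1)) R) l := by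
  induction l using Fin.lastCases with
  | last => rw [chartHom_ratio_last]; rfl
  | cast j =>
    rw [chartHom_ratio_castSucc]
    fin_cases j
    rfl

/-- the test morphism -/
noncomputable def g : Spec (CommRingCat.of (MvPolynomial (Fin (n + 1)) R)) ⟶ PP R n 1 :=
  pullback.lift (chartMor R n (v₁ R n) : _ ⟶ CohB1.ProjSpace n R)
    (chartMor R 1 (v₂ R n) : _ ⟶ CohB1.ProjSpace 1 R)
    ((chartMor_toSpec R n (v₁ R n)).trans (chartMor_toSpec R 1 (v₂ R n)).symm)

theorem g_p₁ : g R n ≫ p₁ R n 1 = chartMor R n (v₁ R n) := pullback.lift_fst _ _ _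

theorem g_p₂ : g R n ≫ p₂ R n 1 = chartMor R 1 (v₂ R n) := pullback.lift_snd _ _ _

theorem g_qq : g R n ≫ qq R n 1 =
    Spec.map (CommRingCat.ofHom (algebraMap R (MvPolynomial (Fin (n + 1)) R))) := by
  have h1 : g R n ≫ qq R n 1 = (g R n ≫ p₁ R n 1) ≫ CohB1.ProjSpace.toSpec n R := by
    rw [Category.assoc]; rfl
  rw [h1, g_p₁]
  exact chartMor_toSpec R n (v₁ R n)

theorem range_g :
    Set.range (g R n) ⊆ (W R n 1 (Fin.last n, Fin.last 1) : Set (PP R n 1)) := by
  rintro _ ⟨y, rfl⟩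
  constructor
  · have h1 : (g R n ≫ p₁ R n 1) y ∈ (Proj.basicOpen (CohB1.polyGrading n R)
        (MvPolynomial.X (Fin.last n) : MvPolynomial (Fin (n + 1)) R) :
          Set (Proj (CohB1.polyGrading n R))) := by
      rw [g_p₁]
      exact range_chartMor R n (v₁ R n) ⟨y, rfl⟩
    exact h1
  · have h1 : (g R n ≫ p₂ R n 1) y ∈ (Proj.basicOpen (CohB1.polyGrading 1 R)
        (MvPolynomial.X (Fin.last 1) : MvPolynomial (Fin (1 + 1)) R) :
          Set (Proj (CohB1.polyGrading 1 R))) := by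
      rw [g_p₂]
      exact range_chartMor R 1 (v₂ R n) ⟨y, rfl⟩
    exact h1

/-- the lift of the test morphism to the chart -/
noncomputable def g'' : Spec (CommRingCat.of (MvPolynomial (Fin (n + 1)) R)) ⟶
    (W R n 1 (Fin.last n, Fin.last 1) : Scheme.{u}) :=
  IsOpenImmersion.lift (W R n 1 (Fin.last n, Fin.last 1)).ι (g R n) (by
    rw [Scheme.Opens.range_ι]; exact range_g R n)

@[reassoc]
theorem g''_ι : g'' R n ≫ (W R n 1 (Fin.last n, Fin.last 1)).ι = g R n :=
  IsOpenImmersion.lift_fac _ _ _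

/-- the identification of the polynomial ring with the functions on its spectrum -/
noncomputable abbrev ι₀ : MvPolynomial (Fin (n + 1)) R →+*
    Γ(Spec (CommRingCat.of (MvPolynomial (Fin (n + 1)) R)), ⊤) :=
  (Scheme.ΓSpecIso (CommRingCat.of (MvPolynomial (Fin (n + 1)) R))).inv.hom

theorem g''_aa (k : Fin (n + 1)) :
    (g'' R n).appTop.hom (aa R n 1 (Fin.last n, Fin.last 1) k) =
      ι₀ R n ((PA R n).coeff (k : ℕ)) := by
  have he : g'' R n ≫ (W R n 1 (Fin.last n, Fin.last 1)).ι ≫ p₁ R n 1 =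
      chartMor R n (v₁ R n) := by rw [g''_ι_assoc, g_p₁]
  have hr : Set.range (g'' R n ≫ (W R n 1 (Fin.last n, Fin.last 1)).ι ≫ p₁ R n 1) ⊆
      (Proj.basicOpen (CohB1.polyGrading n R)
        (MvPolynomial.X (Fin.last n) : MvPolynomial (Fin (n + 1)) R) :
          Set (Proj (CohB1.polyGrading n R))) := by
    rw [he]; exact range_chartMor R n (v₁ R n)
  have h1 := pullFun_comp (CohB1.polyGrading n R)
    ((W R n 1 (Fin.last n, Fin.last 1)).ι ≫ p₁ R n 1) (hX (Fin.last n)) one_pos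
    (range_ι_comp_subset (p₁ R n 1) _ (W R n 1 (Fin.last n, Fin.last 1))
      (W_le₁ R n 1 (Fin.last n, Fin.last 1))) (g'' R n) hr
  have h2 := pullFun_congr_hom (CohB1.polyGrading n R) he (hX (Fin.last n)) one_pos hr
    (range_chartMor R n (v₁ R n))
  have h3 := pullFun_chartMor R n (v₁ R n) (range_chartMor R n (v₁ R n))
  have h4 : (g'' R n).appTop.hom (aa R n 1 (Fin.last n, Fin.last 1) k) =
      ((g'' R n).appTop.hom.comp (Groth.Agent.Helper1.ProjMor.pullFun (CohB1.polyGrading n R)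
        ((W R n 1 (Fin.last n, Fin.last 1)).ι ≫ p₁ R n 1) (hX (Fin.last n)) one_pos
        (range_ι_comp_subset (p₁ R n 1) _ (W R n 1 (Fin.last n, Fin.last 1))
          (W_le₁ R n 1 (Fin.last n, Fin.last 1)))))
        (ratio (CohB1.polyGrading n R) (hX (Fin.last n)) (hX k)) := rfl
  rw [h4, ← h1, h2, h3, RingHom.comp_apply, chartHom_v₁]

theorem g''_bb (l : Fin (1 + 1)) :
    (g'' R n).appTop.hom (bb R n 1 (Fin.last n, Fin.last 1) l) =
      ι₀ R n ((![MvPolynomial.X (Fin.last n), 1] :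
        Fin (1 + 1) → MvPolynomial (Fin (n + 1)) R) l) := by
  have he : g'' R n ≫ (W R n 1 (Fin.last n, Fin.last 1)).ι ≫ p₂ R n 1 =
      chartMor R 1 (v₂ R n) := by rw [g''_ι_assoc, g_p₂]
  have hr : Set.range (g'' R n ≫ (W R n 1 (Fin.last n, Fin.last 1)).ι ≫ p₂ R n 1) ⊆
      (Proj.basicOpen (CohB1.polyGrading 1 R)
        (MvPolynomial.X (Fin.last 1) : MvPolynomial (Fin (1 + 1)) R) :
          Set (Proj (CohB1.polyGrading 1 R))) := by
    rw [he]; exact range_chartMor R 1 (v₂ R n)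
  have h1 := pullFun_comp (CohB1.polyGrading 1 R)
    ((W R n 1 (Fin.last n, Fin.last 1)).ι ≫ p₂ R n 1) (hX (Fin.last 1)) one_pos
    (range_ι_comp_subset (p₂ R n 1) _ (W R n 1 (Fin.last n, Fin.last 1))
      (W_le₂ R n 1 (Fin.last n, Fin.last 1))) (g'' R n) hr
  have h2 := pullFun_congr_hom (CohB1.polyGrading 1 R) he (hX (Fin.last 1)) one_pos hr
    (range_chartMor R 1 (v₂ R n))
  have h3 := pullFun_chartMor R 1 (v₂ R n) (range_chartMor R 1 (v₂ R n))
  have h4 : (g'' R n).appTop.hom (bb R n 1 (Fin.last n, Fin.last 1) l) =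
      ((g'' R n).appTop.hom.comp (Groth.Agent.Helper1.ProjMor.pullFun (CohB1.polyGrading 1 R)
        ((W R n 1 (Fin.last n, Fin.last 1)).ι ≫ p₂ R n 1) (hX (Fin.last 1)) one_pos
        (range_ι_comp_subset (p₂ R n 1) _ (W R n 1 (Fin.last n, Fin.last 1))
          (W_le₂ R n 1 (Fin.last n, Fin.last 1)))))
        (ratio (CohB1.polyGrading 1 R) (hX (Fin.last 1)) (hX l)) := rfl
  rw [h4, ← h1, h2, h3, RingHom.comp_apply, chartHom_v₂]

theorem c_last : c R n (Fin.last (n + 1)) =
    MvPolynomial.X (idx n 1 (Fin.last n, Fin.last 1)) := by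
  unfold c
  rw [Finset.sum_eq_single ((n, 1) : ℕ × ℕ)]
  · rw [dif_pos (⟨Nat.lt_succ_self n, Nat.lt_succ_self 1⟩ : n < n + 1 ∧ 1 < 1 + 1)]
    rfl
  · intro p hp hne
    rw [dif_neg]
    rintro ⟨h1, h2⟩
    apply hne
    have h3 : p.1 + p.2 = n + 1 := by
      have := Finset.HasAntidiagonal.mem_antidiagonal.mp hp
      simpa using this
    ext
    · show p.1 = n; omega
    · show p.2 = 1; omega
  · intro hnot
    exfalso
    apply hnot
    rw [Finset.HasAntidiagonal.mem_antidiagonal]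
    simp

/-- the ring map describing `g ≫ segre` -/
noncomputable def Ψ₂ : MvPolynomial (Fin (n * 1 + n + 1 + 1)) R →+*
    Γ(Spec (CommRingCat.of (MvPolynomial (Fin (n + 1)) R)), ⊤) :=
  (g'' R n).appTop.hom.comp (ψψ R n 1 (Fin.last n, Fin.last 1))

theorem Ψ₂_idx : Ψ₂ R n (MvPolynomial.X (idx n 1 (Fin.last n, Fin.last 1))) = 1 := by
  unfold Ψ₂
  rw [RingHom.comp_apply, ψψ_X_idx, aa_self, bb_self, mul_one, map_one]

theorem Ψ₂_c (j : Fin (n + 1 + 1)) :
    Ψ₂ R n (c R n j) =
      ι₀ R n (MvPolynomial.esymm (Fin (n + 1)) R (n + 1 - (j : ℕ))) := by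
  unfold Ψ₂
  rw [RingHom.comp_apply, ψψ_c, ← conv_map]
  have h1 : (fun i => (g'' R n).appTop.hom (aa R n 1 (Fin.last n, Fin.last 1) i)) =
      fun i : Fin (n + 1) => ι₀ R n ((PA R n).coeff (i : ℕ)) := funext (g''_aa R n)
  have h2 : (fun l => (g'' R n).appTop.hom (bb R n 1 (Fin.last n, Fin.last 1) l)) =
      fun l : Fin (1 + 1) => ι₀ R n ((![MvPolynomial.X (Fin.last n), 1] :
        Fin (1 + 1) → MvPolynomial (Fin (n + 1)) R) l) := funext (g''_bb R n)
  rw [h1, h2, conv_map, conv_PA R n (j : ℕ) (Nat.lt_succ_iff.mp j.isLt)]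

theorem isUnit_Ψ₂ : IsUnit (Ψ₂ R n (MvPolynomial.X (idx n 1 (Fin.last n, Fin.last 1)))) := by
  rw [Ψ₂_idx]; exact isUnit_one

theorem g_segre : g R n ≫ segre R n 1 =
    toAway (CohB1.polyGrading (n * 1 + n + 1) R) (Ψ₂ R n)
      (hXN R n 1 (Fin.last n, Fin.last 1)) one_pos (isUnit_Ψ₂ R n) := by
  rw [← g''_ι, Category.assoc, ι_segre, comp_toAway]
  rfl

theorem range_g_segre : Set.range (g R n ≫ segre R n 1) ⊆
    (Proj.basicOpen (CohB1.polyGrading (n * 1 + n + 1) R) (c R n (Fin.last (n + 1))) :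
      Set (Proj (CohB1.polyGrading (n * 1 + n + 1) R))) := by
  rw [c_last, g_segre]
  exact range_toAway _ _ _ _ _

theorem range_g_V : Set.range (g R n) ⊆
    (V R (n * 1 + n + 1) (n + 1) (segre R n 1) (c R n) (Fin.last (n + 1)) : Set (PP R n 1)) := by
  rintro _ ⟨y, rfl⟩
  exact range_g_segre R n ⟨y, rfl⟩

/-- the lift of the test morphism to the open `V_last` -/
noncomputable def g' : Spec (CommRingCat.of (MvPolynomial (Fin (n + 1)) R)) ⟶
    (V R (n * 1 + n + 1) (n + 1) (segre R n 1) (c R n) (Fin.last (n + 1)) : Scheme.{u}) :=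
  IsOpenImmersion.lift (V R (n * 1 + n + 1) (n + 1) (segre R n 1) (c R n) (Fin.last (n + 1))).ι
    (g R n) (by rw [Scheme.Opens.range_ι]; exact range_g_V R n)

@[reassoc]
theorem g'_ι : g' R n ≫
    (V R (n * 1 + n + 1) (n + 1) (segre R n 1) (c R n) (Fin.last (n + 1))).ι = g R n :=
  IsOpenImmersion.lift_fac _ _ _

/-- the ring map describing `g ≫ mult` -/
noncomputable def Ψ : MvPolynomial (Fin (n + 1 + 1)) R →+*
    Γ(Spec (CommRingCat.of (MvPolynomial (Fin (n + 1)) R)), ⊤) :=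
  (g' R n).appTop.hom.comp
    (ψ R (n * 1 + n + 1) (n + 1) (segre R n 1) (qq R n 1) (c R n) (hc R n) (Fin.last (n + 1)))

theorem Ψ_X (i : Fin (n + 1 + 1)) :
    Ψ R n (MvPolynomial.X i) =
      ι₀ R n (MvPolynomial.esymm (Fin (n + 1)) R (n + 1 - (i : ℕ))) := by
  have he : g' R n ≫
      (V R (n * 1 + n + 1) (n + 1) (segre R n 1) (c R n) (Fin.last (n + 1))).ι ≫ segre R n 1 =
      toAway (CohB1.polyGrading (n * 1 + n + 1) R) (Ψ₂ R n)
        (hXN R n 1 (Fin.last n, Fin.last 1)) one_pos (isUnit_Ψ₂ R n) := by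
    rw [g'_ι_assoc, g_segre]
  have hr : Set.range (g' R n ≫
      (V R (n * 1 + n + 1) (n + 1) (segre R n 1) (c R n) (Fin.last (n + 1))).ι ≫ segre R n 1) ⊆
      (Proj.basicOpen (CohB1.polyGrading (n * 1 + n + 1) R) (c R n (Fin.last (n + 1))) :
        Set (Proj (CohB1.polyGrading (n * 1 + n + 1) R))) := by
    rw [g'_ι_assoc]; exact range_g_segre R n
  have hr' : Set.range (toAway (CohB1.polyGrading (n * 1 + n + 1) R) (Ψ₂ R n)
        (hXN R n 1 (Fin.last n, Fin.last 1)) one_pos (isUnit_Ψ₂ R n)) ⊆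
      (Proj.basicOpen (CohB1.polyGrading (n * 1 + n + 1) R) (c R n (Fin.last (n + 1))) :
        Set (Proj (CohB1.polyGrading (n * 1 + n + 1) R))) := by
    rw [← he]; exact hr
  have h1 := pullFun_comp (CohB1.polyGrading (n * 1 + n + 1) R)
    ((V R (n * 1 + n + 1) (n + 1) (segre R n 1) (c R n) (Fin.last (n + 1))).ι ≫ segre R n 1)
    (hc R n (Fin.last (n + 1))) one_pos
    (range_ι_comp_subset (segre R n 1) _
      (V R (n * 1 + n + 1) (n + 1) (segre R n 1) (c R n) (Fin.last (n + 1))) le_rfl)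
    (g' R n) hr
  have h2 := pullFun_congr_hom (CohB1.polyGrading (n * 1 + n + 1) R) he
    (hc R n (Fin.last (n + 1))) one_pos hr hr'
  have h3 := pullFun_toAway_ratio (CohB1.polyGrading (n * 1 + n + 1) R) (Ψ₂ R n)
    (hXN R n 1 (Fin.last n, Fin.last 1)) (hc R n (Fin.last (n + 1))) (hc R n i) (c_last R n)
    (isUnit_Ψ₂ R n) hr'
  rw [Ψ₂_idx, mul_one, Ψ₂_c] at h3
  rw [← h3, ← h2, h1]
  unfold Ψ
  rw [RingHom.comp_apply, SN625.ψ_X]
  rfl

theorem Ψ_C (r : R) : Ψ R n (MvPolynomial.C r) = ι₀ R n (MvPolynomial.C r) := by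
  unfold Ψ SN625.ψ
  rw [RingHom.comp_apply, MvPolynomial.coe_eval₂Hom, MvPolynomial.eval₂_C]
  have h1 := toGlobal_comp (g' R n)
    ((V R (n * 1 + n + 1) (n + 1) (segre R n 1) (c R n) (Fin.last (n + 1))).ι ≫ qq R n 1)
  have h2 := congrArg (fun φ => φ r) h1
  simp only [RingHom.comp_apply] at h2
  rw [← h2, g'_ι_assoc, g_qq]
  have h3 := toGlobal_comp_SpecMap
    (𝟙 (Spec (CommRingCat.of (MvPolynomial (Fin (n + 1)) R))))
    (algebraMap R (MvPolynomial (Fin (n + 1)) R))
  rw [Category.id_comp] at h3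
  rw [h3]
  rfl

theorem isUnit_Ψ : IsUnit (Ψ R n (MvPolynomial.X (Fin.last (n + 1)))) := by
  rw [Ψ_X, Fin.val_last, Nat.sub_self, MvPolynomial.esymm_zero, map_one]
  exact isUnit_one

theorem g_mult : g R n ≫ mult R n =
    toAway (CohB1.polyGrading (n + 1) R) (Ψ R n) (hX (Fin.last (n + 1))) one_pos
      (isUnit_Ψ R n) := by
  rw [← g'_ι, Category.assoc, ι_mult, comp_toAway]
  rfl

/-- the key identity: on the standard chart, `g ≫ mult` is given by the elementary symmetric
polynomials -/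
theorem awayLift_Ψ_comp :
    (awayLift (CohB1.polyGrading (n + 1) R) (Ψ R n) (isUnit_Ψ R n)).comp
      (Groth.Agent.Lead.ZPn.ψ (n + 1) R) = (ι₀ R n).comp (Θ R n) := by
  apply MvPolynomial.ringHom_ext
  · intro r
    rw [RingHom.comp_apply, RingHom.comp_apply, ψ_C, awayLift_fromZero]
    have h1 : ((algebraMap R (CohB1.polyGrading (n + 1) R 0) r :
        CohB1.polyGrading (n + 1) R 0) : MvPolynomial (Fin (n + 1 + 1)) R) =
        MvPolynomial.C r := by
      rw [SetLike.GradeZero.coe_algebraMap, MvPolynomial.algebraMap_eq]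
    rw [h1, Ψ_C]
    congr 1
    simp [Θ]
  · intro j
    rw [RingHom.comp_apply, RingHom.comp_apply, ψ_X']
    have h1 := awayLift_ratio (CohB1.polyGrading (n + 1) R) (Ψ R n) (hX (Fin.last (n + 1)))
      (hX j.castSucc) (isUnit_Ψ R n)
    have h2 : Ψ R n (MvPolynomial.X (Fin.last (n + 1))) = 1 := by
      rw [Ψ_X, Fin.val_last, Nat.sub_self, MvPolynomial.esymm_zero, map_one]
    rw [h2, mul_one, Ψ_X] at h1
    rw [h1]
    congr 1
    simp [Θ]

theorem awayLift_Ψ_injective :
    Function.Injective (awayLift (CohB1.polyGrading (n + 1) R) (Ψ R n) (isUnit_Ψ R n)) := by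
  intro x y hxy
  obtain ⟨p, rfl⟩ := ψ_surjective (n + 1) R x
  obtain ⟨p', rfl⟩ := ψ_surjective (n + 1) R y
  have h1 := congrArg (fun φ => φ p) (awayLift_Ψ_comp R n)
  have h2 := congrArg (fun φ => φ p') (awayLift_Ψ_comp R n)
  simp only [RingHom.comp_apply] at h1 h2
  rw [h1, h2] at hxy
  have h3 : Function.Injective (ι₀ R n) := by
    intro a b hab
    have := congrArg (Scheme.ΓSpecIso (CommRingCat.of (MvPolynomial (Fin (n + 1)) R))).hom.hom hab
    simpa using this
  rw [Θ_injective R n (h3 hxy)]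

theorem denseRange_g_mult [IsDomain R] : DenseRange (g R n ≫ mult R n) := by
  rw [g_mult]
  unfold toAway
  set a := (Spec (CommRingCat.of (MvPolynomial (Fin (n + 1)) R))).toSpecΓ with ha
  set b := Spec.map (CommRingCat.ofHom
    (awayLift (CohB1.polyGrading (n + 1) R) (Ψ R n) (isUnit_Ψ R n))) with hb
  set c' := Proj.awayι (CohB1.polyGrading (n + 1) R)
    (MvPolynomial.X (Fin.last (n + 1)) : MvPolynomial (Fin (n + 1 + 1)) R)
    (hX (Fin.last (n + 1))) one_pos with hc'
  have h_a : Function.Surjective a := by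
    intro y
    refine ⟨(inv a) y, ?_⟩
    rw [← Scheme.Hom.comp_apply, IsIso.inv_hom_id]
    rfl
  have h_b : DenseRange b := by
    have h1 : DenseRange (PrimeSpectrum.comap
        (awayLift (CohB1.polyGrading (n + 1) R) (Ψ R n) (isUnit_Ψ R n))) := by
      rw [PrimeSpectrum.denseRange_comap_iff_ker_le_nilRadical,
        (RingHom.injective_iff_ker_eq_bot _).mp (awayLift_Ψ_injective R n)]
      exact bot_le
    exact h1
  have h_c : DenseRange c' := by
    haveI : IsIntegral (Proj (CohB1.polyGrading (n + 1) R)) :=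
      Groth.Agent.Helper4.SN197.isIntegral_proj (n + 1) R
    haveI : Nontrivial (Away (CohB1.polyGrading (n + 1) R)
        (MvPolynomial.X (Fin.last (n + 1)) : MvPolynomial (Fin (n + 1 + 1)) R)) :=
      (awayLift (CohB1.polyGrading (n + 1) R) (Ψ R n) (isUnit_Ψ R n)).domain_nontrivial
    have h1 : IsOpen (Set.range c') := c'.isOpenEmbedding.isOpen_range
    have h2 : (Set.range c').Nonempty := Set.range_nonempty _
    exact h1.dense h2
  have h3 : (⇑(a ≫ b ≫ c') : _ → _) = ⇑c' ∘ (⇑b ∘ ⇑a) := by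
    ext x
    rfl
  rw [h3]
  exact h_c.comp (h_b.comp h_a.denseRange b.continuous) c'.continuous

/-- the multiplication morphism is surjective over a domain -/
theorem surjective_mult [IsDomain R] : Function.Surjective (mult R n) := by
  have hd : DenseRange (mult R n) := by
    have h1 := denseRange_g_mult R n
    exact Dense.mono (by
      rintro _ ⟨y, rfl⟩
      exact ⟨g R n y, rfl⟩) h1
  haveI := isFinite_mult R n
  have hc : IsClosed (Set.range (mult R n)) := (mult R n).isClosedMap.isClosed_range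
  have h2 : Set.range (mult R n) = Set.univ := by
    rw [← hc.closure_eq]
    exact hd.closure_range
  exact Set.range_eq_univ.mp h2

end Groth.Agent.Helper4.SN629
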