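import Mathlib
import Groth.Agent.Helper4.SN629
import Groth.Agent.Helper1.Segre11

/-!
# The finite surjective morphism `(P^1_S)^n ⟶ P^n_S`
-/

set_option autoImplicit false
set_option linter.style.haveILetI false
set_option linter.unusedSectionVars false

namespace Groth.Agent.Helper4.SN630

open CategoryTheory Limits AlgebraicGeometry
open Groth.Agent.Helper1.Segre Groth.Agent.Helper4.SN627 Groth.Agent.Helper4.SN628
  Groth.Agent.Helper4.SN629

universe u

instance : IsDomain (ULift.{u} ℤ) := MulEquiv.isDomain ℤ (ULift.ringEquiv.toMulEquiv)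

section Cat

variable {C : Type*} [Category C]

theorem isPullback_of_lift {P X Y Z : C} (fst : P ⟶ X) (snd : P ⟶ Y) (f : X ⟶ Z) (g : Y ⟶ Z)
    (w : fst ≫ f = snd ≫ g)
    (lift : ∀ (T : C) (a : T ⟶ X) (b : T ⟶ Y), a ≫ f = b ≫ g →
      ∃ t : T ⟶ P, t ≫ fst = a ∧ t ≫ snd = b)
    (huniq : ∀ (T : C) (t₁ t₂ : T ⟶ P), t₁ ≫ fst = t₂ ≫ fst → t₁ ≫ snd = t₂ ≫ snd → t₁ = t₂) :
    IsPullback fst snd f g := by
  refine IsPullback.of_isLimit (c := PullbackCone.mk fst snd w)
    (PullbackCone.IsLimit.mk w (fun s => (lift s.pt s.fst s.snd s.condition).choose) ?_ ?_ ?_)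
  · intro s
    exact (lift s.pt s.fst s.snd s.condition).choose_spec.1
  · intro s
    exact (lift s.pt s.fst s.snd s.condition).choose_spec.2
  · intro s m h1 h2
    apply huniq
    · rw [h1, (lift s.pt s.fst s.snd s.condition).choose_spec.1]
    · rw [h2, (lift s.pt s.fst s.snd s.condition).choose_spec.2]

end Cat

/-- `P^0` is a point: a finite surjective morphism from the base -/
theorem exists_zero (R : Type u) [CommRing R] :
    ∃ Φ : Spec (CommRingCat.of R) ⟶ CohB1.ProjSpace 0 R, IsFinite Φ ∧ Surjective Φ := by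
  let Φ : Spec (CommRingCat.of R) ⟶ CohB1.ProjSpace 0 R := chartMor R 0 (Fin.elim0 : Fin 0 → R)
  have h1 : Φ ≫ CohB1.ProjSpace.toSpec 0 R = 𝟙 _ := by
    refine (chartMor_toSpec R 0 (Fin.elim0 : Fin 0 → R)).trans ?_
    have : algebraMap R R = RingHom.id R := rfl
    rw [this]
    exact Spec.map_id _
  refine ⟨Φ, ?_, ?_⟩
  · haveI : IsProper (CohB1.ProjSpace.toSpec 0 R) :=
      Groth.Agent.Helper6.HProj.isProper_toSpec 0 R
    haveI : IsFinite (Φ ≫ CohB1.ProjSpace.toSpec 0 R) := by rw [h1]; infer_instance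
    exact IsFinite.of_comp Φ (CohB1.ProjSpace.toSpec 0 R)
  · constructor
    intro y
    have hy : y ∈ (⨆ i : Fin (0 + 1), Proj.basicOpen (CohB1.polyGrading 0 R)
        (MvPolynomial.X i : MvPolynomial (Fin (0 + 1)) R)) := by
      rw [iSup_basicOpen_X]; trivial
    obtain ⟨i, hi⟩ := TopologicalSpace.Opens.mem_iSup.mp hy
    have hi0 : i = Fin.last 0 := by
      apply Fin.ext
      have := i.isLt
      simp only [Fin.val_last]
      omega
    subst hi0
    rw [← Proj.opensRange_awayι (CohB1.polyGrading 0 R) _ (hX (Fin.last 0)) one_pos] at hi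
    obtain ⟨z, rfl⟩ := hi
    -- the chart ring map is bijective
    have hbij : Function.Bijective (chartHom R 0 (Fin.elim0 : Fin 0 → R)) := by
      unfold chartHom
      have h2 : Function.Bijective (MvPolynomial.eval₂Hom (algebraMap R R)
          (Fin.elim0 : Fin 0 → R)) := by
        constructor
        · intro p p' hpp
          obtain ⟨r, rfl⟩ := MvPolynomial.C_surjective (Fin 0) p
          obtain ⟨r', rfl⟩ := MvPolynomial.C_surjective (Fin 0) p'
          simp only [MvPolynomial.coe_eval₂Hom, MvPolynomial.eval₂_C] at hpp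
          rw [show r = r' from hpp]
        · intro r
          exact ⟨MvPolynomial.C r, by simp⟩
      exact h2.comp (Groth.Agent.Lead.ZPn.chartEquiv 0 R).symm.bijective
    let e := RingEquiv.ofBijective (chartHom R 0 (Fin.elim0 : Fin 0 → R)) hbij
    have h3 : Spec.map (CommRingCat.ofHom e.symm.toRingHom) ≫
        Spec.map (CommRingCat.ofHom (chartHom R 0 (Fin.elim0 : Fin 0 → R))) = 𝟙 _ := by
      rw [← Spec.map_comp, ← CommRingCat.ofHom_comp]
      have : (e.symm.toRingHom).comp (chartHom R 0 (Fin.elim0 : Fin 0 → R)) = RingHom.id _ := by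
        apply RingHom.ext
        intro x
        exact e.symm_apply_apply x
      rw [this]
      exact Spec.map_id _
    refine ⟨Spec.map (CommRingCat.ofHom e.symm.toRingHom) z, ?_⟩
    show (chartMor R 0 (Fin.elim0 : Fin 0 → R)) _ = _
    unfold chartMor
    rw [Scheme.Hom.comp_apply, ← Scheme.Hom.comp_apply (Spec.map _) (Spec.map _), h3]
    rfl

section Main

variable (S : Scheme.{u})

/-- the `n`-fold fibre power of `P^1_S` -/
noncomputable abbrev WS (n : ℕ) : Scheme.{u} :=
  widePullback S (fun _ : Fin n => CohB1.ProjSpaceOver 1 S)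
    (fun _ => CohB1.ProjSpaceOver.toBase 1 S)

/-- the structure morphism of the fibre power -/
noncomputable abbrev bs (n : ℕ) : WS S n ⟶ S :=
  WidePullback.base (fun _ : Fin n => CohB1.ProjSpaceOver.toBase 1 S)

/-- the projections of the fibre power -/
noncomputable abbrev pr (n : ℕ) (i : Fin n) : WS S n ⟶ CohB1.ProjSpaceOver 1 S :=
  WidePullback.π (fun _ : Fin n => CohB1.ProjSpaceOver.toBase 1 S) i

/-- forgetting the last factor -/
noncomputable def restr (n : ℕ) : WS S (n + 1) ⟶ WS S n :=
  WidePullback.lift (bs S (n + 1)) (fun i => pr S (n + 1) i.castSucc)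
    (fun i => WidePullback.π_arrow _ _)

theorem restr_pr (n : ℕ) (i : Fin n) : restr S n ≫ pr S n i = pr S (n + 1) i.castSucc :=
  WidePullback.lift_π _ _ _ _ _

theorem restr_bs (n : ℕ) : restr S n ≫ bs S n = bs S (n + 1) :=
  WidePullback.lift_base _ _ _ _

theorem main_aux (n : ℕ) :
    ∃ (Q : Scheme.{u}) (Φ : Q ⟶ CohB1.ProjSpace n (ULift.{u} ℤ)) (ρ : WS S n ⟶ Q),
      IsFinite Φ ∧ Surjective Φ ∧
        IsPullback ρ (bs S n) (specULiftZIsTerminal.from Q) (specULiftZIsTerminal.from S) := by
  induction n with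
  | zero =>
    obtain ⟨Φ, h1, h2⟩ := exists_zero (ULift.{u} ℤ)
    refine ⟨Spec (CommRingCat.of (ULift.{u} ℤ)), Φ, specULiftZIsTerminal.from _, h1, h2, ?_⟩
    apply isPullback_of_lift
    · exact specULiftZIsTerminal.hom_ext _ _
    · intro T a b _
      refine ⟨WidePullback.lift b (fun i => Fin.elim0 i) (fun i => Fin.elim0 i),
        specULiftZIsTerminal.hom_ext _ _, WidePullback.lift_base _ _ _ _⟩
    · intro T t₁ t₂ _ h
      exact WidePullback.hom_ext _ _ _ (fun i => Fin.elim0 i) h
  | succ n ih =>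
    obtain ⟨Q, Φ, ρ, hfin, hsurj, hpb⟩ := ih
    let t1 := CohB1.ProjSpace.toSpec 1 (ULift.{u} ℤ)
    let Q' : Scheme.{u} := pullback (specULiftZIsTerminal.from Q) t1
    let m : Q' ⟶ PP (ULift.{u} ℤ) n 1 :=
      pullback.map (specULiftZIsTerminal.from Q) t1 (CohB1.ProjSpace.toSpec n (ULift.{u} ℤ)) t1
        Φ (𝟙 _) (𝟙 _) (specULiftZIsTerminal.hom_ext _ _) (by simp)
    have hm1 : IsFinite m :=
      MorphismProperty.pullbackMap (P := @IsFinite) hfin
        (inferInstanceAs (IsFinite (𝟙 (CohB1.ProjSpace 1 (ULift.{u} ℤ)))))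
        (specULiftZIsTerminal.hom_ext _ _) (by simp)
    have hm2 : Surjective m :=
      MorphismProperty.pullbackMap (P := @Surjective) hsurj
        (inferInstanceAs (Surjective (𝟙 (CohB1.ProjSpace 1 (ULift.{u} ℤ)))))
        (specULiftZIsTerminal.hom_ext _ _) (by simp)
    let μ : PP (ULift.{u} ℤ) n 1 ⟶ CohB1.ProjSpace (n + 1) (ULift.{u} ℤ) := mult (ULift.{u} ℤ) n
    have hμ1 : IsFinite μ := isFinite_mult (ULift.{u} ℤ) n
    have hμ2 : Surjective μ := ⟨surjective_mult (ULift.{u} ℤ) n⟩
    let ρ' : WS S (n + 1) ⟶ Q' :=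
      pullback.lift (restr S n ≫ ρ) (pr S (n + 1) (Fin.last n) ≫ prZ 1 S)
        (specULiftZIsTerminal.hom_ext _ _)
    refine ⟨Q', m ≫ μ, ρ', inferInstance, inferInstance, ?_⟩
    apply isPullback_of_lift
    · exact specULiftZIsTerminal.hom_ext _ _
    · intro T a b _
      let a₁ : T ⟶ Q := a ≫ pullback.fst _ _
      let a₂ : T ⟶ CohB1.ProjSpace 1 (ULift.{u} ℤ) := a ≫ pullback.snd _ _
      let t₀ : T ⟶ WS S n := hpb.lift a₁ b (specULiftZIsTerminal.hom_ext _ _)
      have ht₀1 : t₀ ≫ ρ = a₁ := hpb.lift_fst _ _ _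
      have ht₀2 : t₀ ≫ bs S n = b := hpb.lift_snd _ _ _
      let u : T ⟶ CohB1.ProjSpaceOver 1 S := liftPSO a₂ b
      let t : T ⟶ WS S (n + 1) :=
        WidePullback.lift b (Fin.lastCases u (fun i => t₀ ≫ pr S n i)) (by
          intro i
          induction i using Fin.lastCases with
          | last => rw [Fin.lastCases_last]; exact liftPSO_toBase _ _
          | cast j =>
            rw [Fin.lastCases_castSucc, Category.assoc]
            have : pr S n j ≫ CohB1.ProjSpaceOver.toBase 1 S = bs S n :=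
              WidePullback.π_arrow _ _
            rw [this, ht₀2])
      have ht_last : t ≫ pr S (n + 1) (Fin.last n) = u := by
        refine (WidePullback.lift_π _ _ _ _ (Fin.last n)).trans ?_
        rw [Fin.lastCases_last]
      have ht_cast : ∀ j : Fin n, t ≫ pr S (n + 1) j.castSucc = t₀ ≫ pr S n j := by
        intro j
        refine (WidePullback.lift_π _ _ _ _ j.castSucc).trans ?_
        rw [Fin.lastCases_castSucc]
      have ht_bs : t ≫ bs S (n + 1) = b := WidePullback.lift_base _ _ _ _
      have ht_restr : t ≫ restr S n = t₀ := by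
        apply WidePullback.hom_ext
        · intro j
          rw [Category.assoc]
          erw [restr_pr]
          exact ht_cast j
        · rw [Category.assoc]
          erw [restr_bs]
          rw [ht_bs, ht₀2]
      refine ⟨t, ?_, ht_bs⟩
      apply pullback.hom_ext
      · rw [Category.assoc, pullback.lift_fst, ← Category.assoc, ht_restr, ht₀1]
      · rw [Category.assoc, pullback.lift_snd, ← Category.assoc, ht_last]
        exact liftPSO_prZ _ _
    · intro T t₁ t₂ h1 h2
      have h3 : t₁ ≫ restr S n = t₂ ≫ restr S n := by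
        apply hpb.hom_ext
        · have := congrArg (fun k => k ≫ pullback.fst _ _) h1
          simpa only [Category.assoc, ρ', pullback.lift_fst] using this
        · rw [Category.assoc, Category.assoc]
          erw [restr_bs]
          exact h2
      apply WidePullback.hom_ext
      · intro i
        induction i using Fin.lastCases with
        | last =>
          apply hom_ext_PSO
          · have := congrArg (fun k => k ≫ pullback.snd _ _) h1
            simpa only [Category.assoc, ρ', pullback.lift_snd] using this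
          · rw [Category.assoc, Category.assoc]
            have : pr S (n + 1) (Fin.last n) ≫ CohB1.ProjSpaceOver.toBase 1 S = bs S (n + 1) :=
              WidePullback.π_arrow _ _
            erw [this]
            exact h2
        | cast j =>
          have := congrArg (fun k => k ≫ pr S n j) h3
          simp only [Category.assoc] at this
          erw [restr_pr] at this
          exact this
      · exact h2

/-- **S13502**: a finite surjective `S`-morphism `(P^1_S)^n ⟶ P^n_S` -/
theorem main (n : ℕ) :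
    ∃ φ : WS S n ⟶ CohB1.ProjSpaceOver n S,
      IsFinite φ ∧ Surjective φ ∧ φ ≫ CohB1.ProjSpaceOver.toBase n S = bs S n := by
  obtain ⟨Q, Φ, ρ, hfin, hsurj, hpb⟩ := main_aux S n
  let φ : WS S n ⟶ CohB1.ProjSpaceOver n S := liftPSO (ρ ≫ Φ) (bs S n)
  have h1 : φ ≫ CohB1.ProjSpaceOver.toBase n S = bs S n := liftPSO_toBase _ _
  have h2 : φ ≫ prZ n S = ρ ≫ Φ := liftPSO_prZ _ _
  have hs : IsPullback (φ ≫ CohB1.ProjSpaceOver.toBase n S) ρ (specULiftZIsTerminal.from S)
      (Φ ≫ CohB1.ProjSpace.toSpec n (ULift.{u} ℤ)) := by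
    rw [h1, specULiftZIsTerminal.hom_ext (Φ ≫ CohB1.ProjSpace.toSpec n (ULift.{u} ℤ))
      (specULiftZIsTerminal.from Q)]
    exact hpb.flip
  have ht : IsPullback (CohB1.ProjSpaceOver.toBase n S) (prZ n S) (specULiftZIsTerminal.from S)
      (CohB1.ProjSpace.toSpec n (ULift.{u} ℤ)) :=
    (IsPullback.of_hasPullback (CohB1.ProjSpace.toSpec n (ULift.{u} ℤ))
      (specULiftZIsTerminal.from S)).flip
  have hsq : IsPullback φ ρ (prZ n S) Φ := IsPullback.of_right hs h2 ht
  exact ⟨φ, MorphismProperty.of_isPullback (P := @IsFinite) hsq.flip hfin,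
    MorphismProperty.of_isPullback (P := @Surjective) hsq.flip hsurj, h1⟩

end Main

end Groth.Agent.Helper4.SN630
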