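import Mathlib
import Groth.Agent.Helper4.SN590
import Groth.Agent.Helper4.SN620
import Groth.Agent.Helper4.SN141
import Groth.Agent.Helper9.ProjSp
import Groth.Agent.Lead.H0GeomA
import Groth.Agent.Lead.BCFieldC
import Groth.Agent.S14512
import Groth.Agent.S2155

/-!
# S11575: geometrically integral projective curves of arithmetic genus `≤ 0`
-/

set_option autoImplicit false
set_option linter.unusedSectionVars false
set_option linter.style.haveILetI false
universe u

open CategoryTheory CategoryTheory.Limits AlgebraicGeometry TopologicalSpace Opposite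

namespace Groth.Agent.Helper4.SN631

open Groth.Agent.Helper4.SN

attribute [local instance] Curv2.resAlgebra

variable (k : Type u) [Field k] {X : Scheme.{u}} [X.Over (Spec (CommRingCat.of k))]

theorem geometricallyConnected_of_irreducible {X Y : Scheme.{u}} (f : X ⟶ Y)
    [GeometricallyIrreducible f] : GeometricallyConnected f := by
  refine ⟨fun K _ y Z fst snd h => ?_⟩
  haveI : IrreducibleSpace Z :=
    GeometricallyIrreducible.geometrically_irreducibleSpace (f := f) y fst snd h
  infer_instance

/-- a regular rational point on an integral proper curve with `H¹(O) = 0` gives `X ≅ P¹` -/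
theorem iso_of_regular_section [IsProper (X ↘ Spec (CommRingCat.of k))] [IsIntegral X]
    (hdim : topologicalKrullDim X = 1)
    (h1 : Subsingleton (Coh.HH X (Coh.structureModule X) 1))
    (σ : Spec (CommRingCat.of k) ⟶ X) (hσ : σ ≫ (X ↘ Spec (CommRingCat.of k)) = 𝟙 _)
    (hreg : IsRegularLocalRing (X.presheaf.stalk (σ (IsLocalRing.closedPoint k)))) :
    ∃ e : X ≅ CohB1.ProjSpace 1 k,
      e.hom ≫ CohB1.ProjSpace.toSpec 1 k = X ↘ (Spec (CommRingCat.of k)) := by
  haveI := Groth.Agent.Helper4.NApx82.isNoetherian_of_proper k X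
  obtain ⟨x, hxdef⟩ : ∃ x : X, x = σ (IsLocalRing.closedPoint k) := ⟨_, rfl⟩
  have hx : IsClosed ({x} : Set X) := by rw [hxdef]; exact isClosed_of_section k σ hσ
  have hκ : Module.finrank k (X.residueField x) = 1 := by
    rw [hxdef]; exact finrank_residueField_of_section k σ hσ
  haveI : IsRegularLocalRing (X.presheaf.stalk x) := by rw [hxdef]; exact hreg
  obtain ⟨hI, hdI⟩ := ideal_point_of_normal k hdim x hx
    (Groth.Agent.Helper4.RegNormal.isIntegrallyClosed_of_isRegularLocalRing _)
  obtain ⟨J, hJ, ⟨ε₁⟩, -⟩ := Groth.Agent.Lead.InvDual.exists_inverse _ hI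
  have hdJ : Curv2.deg k X J 1 = 1 := by
    rw [deg_inverse k hdim.le _ J hI hJ ε₁, hdI, hκ]
    norm_num
  exact main6541 k hdim h1 J hJ hdJ

/-- **S11575** -/
theorem main11575
    (hprojX : ∃ (N : ℕ) (i : X ⟶ CohB1.ProjSpace N k), IsClosedImmersion i ∧
      i ≫ CohB1.ProjSpace.toSpec N k = X ↘ (Spec (CommRingCat.of k)))
    [GeometricallyIntegral (X ↘ (Spec (CommRingCat.of k)))] (hdim : topologicalKrullDim X = 1)
    (hpa : 1 - Curv2.euler k X (Coh.structureModule X) ≤ 0) :
    Smooth (X ↘ (Spec (CommRingCat.of k))) ∧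
      ((∃ e : X ≅ CohB1.ProjSpace 1 k,
          e.hom ≫ CohB1.ProjSpace.toSpec 1 k = X ↘ (Spec (CommRingCat.of k))) ↔
        ∃ s : Spec (CommRingCat.of k) ⟶ X, s ≫ (X ↘ (Spec (CommRingCat.of k))) = 𝟙 _) := by
  obtain ⟨N, i, hi, hi2⟩ := hprojX
  haveI : IsProper (X ↘ Spec (CommRingCat.of k)) := Groth.Agent.Helper4.SN620.isProper_of_proj _ i hi2
  haveI : IsIntegral X :=
    GeometricallyIntegral.isIntegral_of_subsingleton (X ↘ Spec (CommRingCat.of k))
  haveI := Groth.Agent.Helper4.NApx82.isNoetherian_of_proper k X
  haveI : GeometricallyConnected (X ↘ Spec (CommRingCat.of k)) :=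
    geometricallyConnected_of_irreducible _
  have h0 : Module.finrank k (Coh.HH X (Coh.structureModule X) 0) = 1 :=
    Groth.Agent.Lead.H0Geom.main k X
  have hχ := chi_eq_h0_sub_h1 k hdim.le (Coh.structureModule X)
  unfold chi at hχ
  have hg : Curv2.genus k X = 0 := by
    unfold Curv2.genus
    rw [hχ, h0] at hpa
    push_cast at hpa
    omega
  have hOX : Coh.IsCoh (Coh.structureModule X) := Groth.Agent.Helper1.Dev.isCoh_structureModule X
  haveI : Module.Finite k (Coh.HH X (Coh.structureModule X) 1) :=
    Groth.Agent.S0002.result k X _ hOX 1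
  have h1 : Subsingleton (Coh.HH X (Coh.structureModule X) 1) := by
    unfold Curv2.genus at hg
    exact Module.finrank_zero_iff.1 hg
  -- smoothness by base change to the algebraic closure
  have hsm : Smooth (X ↘ (Spec (CommRingCat.of k))) := by
    let K : Type u := AlgebraicClosure k
    let f : X ⟶ Spec (CommRingCat.of k) := X ↘ Spec (CommRingCat.of k)
    let g : Spec (CommRingCat.of K) ⟶ Spec (CommRingCat.of k) :=
      Spec.map (CommRingCat.ofHom (algebraMap k K))
    let Y : Scheme.{u} := pullback f g
    letI : Y.Over (Spec (CommRingCat.of K)) := ⟨pullback.snd f g⟩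
    have hpb : IsPullback (pullback.fst f g) (Y ↘ Spec (CommRingCat.of K))
        (X ↘ Spec (CommRingCat.of k)) (Spec.map (CommRingCat.ofHom (algebraMap k K))) :=
      .of_hasPullback f g
    haveI : IsIntegral Y :=
      pullback_of_geometrically (GeometricallyIntegral.geometrically_isIntegral (f := f)) K g
    haveI : IsProper (Y ↘ Spec (CommRingCat.of K)) := isProper_bc k K _ hpb
    have hdimY : topologicalKrullDim Y = 1 := by
      rw [dim_bc k K _ hpb, hdim]
    have hgY : Curv2.genus K Y = 0 := by
      unfold Curv2.genus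
      rw [Groth.Agent.Lead.BCField.finrank_HH_structure_baseChange k K X Y _ hpb 1]
      exact hg
    haveI hsmY : Smooth (Y ↘ Spec (CommRingCat.of K)) :=
      Groth.Agent.S14512.result K Y hdimY hgY
    haveI : LocallyOfFinitePresentation f := by
      haveI : IsLocallyNoetherian (Spec (CommRingCat.of k)) := inferInstance
      exact LocallyOfFinitePresentation.iff_locallyOfFiniteType.2 inferInstance
    haveI : LocallyOfFinitePresentation (pullback.snd f g) :=
      MorphismProperty.pullback_snd _ _ inferInstance
    have hflat : Flat g := by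
      rw [HasRingHomProperty.Spec_iff (P := @Flat)]
      show RingHom.Flat (algebraMap k K)
      rw [RingHom.flat_algebraMap_iff]
      infer_instance
    have hloc := Groth.Agent.S2155.result f g (pullback.snd f g) (pullback.fst f g)
      (.of_hasPullback f g) (Or.inr hflat)
    haveI : Smooth (pullback.snd f g) := hsmY
    have htop : (pullback.snd f g).smoothLocus = ⊤ :=
      Scheme.Hom.smoothLocus_eq_top (pullback.snd f g)
    rw [htop] at hloc
    haveI : Surjective g := by
      refine ⟨fun x => ⟨(inferInstance : Nonempty (Spec (CommRingCat.of K))).some, ?_⟩⟩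
      exact Subsingleton.elim (α := PrimeSpectrum k) _ _
    haveI : Surjective (pullback.fst f g) := MorphismProperty.pullback_fst _ _ inferInstance
    rw [← Scheme.Hom.smoothLocus_eq_top_iff]
    rw [eq_top_iff]
    intro x _
    obtain ⟨y, rfl⟩ := (pullback.fst f g).surjective x
    have : y ∈ (pullback.fst f g) ⁻¹ᵁ f.smoothLocus := by
      rw [← hloc]; trivial
    exact this
  refine ⟨hsm, ⟨fun ⟨e, he⟩ => ?_, fun ⟨s, hs⟩ => ?_⟩⟩
  · obtain ⟨s, hs⟩ := Groth.Agent.Helper9.ProjSp.exists_section 1 k
    refine ⟨s ≫ e.inv, ?_⟩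
    rw [Category.assoc, ← he, Iso.inv_hom_id_assoc, hs]
  · haveI : LocallyOfFinitePresentation (X ↘ Spec (CommRingCat.of k)) := by
      haveI : IsLocallyNoetherian (Spec (CommRingCat.of k)) := inferInstance
      exact LocallyOfFinitePresentation.iff_locallyOfFiniteType.2 inferInstance
    have hmem : s (IsLocalRing.closedPoint k) ∈ (X ↘ Spec (CommRingCat.of k)).smoothLocus := by
      rw [Scheme.Hom.smoothLocus_eq_top (X ↘ Spec (CommRingCat.of k))]; trivial
    have hsurj := resMap_surjective_of_section k s hs
    haveI : Algebra.IsSeparable k (X.residueField (s (IsLocalRing.closedPoint k))) := by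
      refine ⟨fun a => ?_⟩
      obtain ⟨b, rfl⟩ := hsurj a
      exact isSeparable_algebraMap b
    have hreg := (Groth.Agent.Helper3.CurveSmoothPt.mem_smoothLocus_iff_regular k X _).1 hmem
    exact iso_of_regular_section k hdim h1 s hs hreg

end Groth.Agent.Helper4.SN631
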