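import Mathlib
import Groth.Prelude.Def_CurvBase
import Groth.Agent.Lead.ZPnA
import Groth.Agent.Helper5.P1Sch
import Groth.Agent.Helper4.SN74
import Groth.Agent.Helper3.BirFF
import Groth.Agent.Helper6.HProj

/-!
# Lüroth's theorem in abstract form, the function field of `P¹_k`, and rational curves
-/

set_option autoImplicit false
set_option linter.unusedSectionVars false
set_option linter.style.haveILetI false
universe u

open CategoryTheory CategoryTheory.Limits AlgebraicGeometry TopologicalSpace Opposite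

namespace Groth.Agent.Helper4.SN632



/-- **Lüroth**, abstract form: a `k`-subfield `E ≠ k` of a field `F ≅ k(t)` is `k`-isomorphic
to `F`. -/
theorem luroth_abstract (k F E : Type*) [Field k] [Field F] [Field E] [Algebra k F] [Algebra k E]
    (eF : F ≃ₐ[k] RatFunc k) (j : E →ₐ[k] F)
    (hE : ∃ x : E, x ∉ (algebraMap k E).range) :
    Nonempty (E ≃ₐ[k] F) := by
  let j' : E →ₐ[k] RatFunc k := eF.toAlgHom.comp j
  let E' : IntermediateField k (RatFunc k) := j'.fieldRange
  have e1 : E ≃ₐ[k] E' := AlgEquiv.ofInjectiveField j'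
  have hne : E' ≠ ⊥ := by
    intro h
    obtain ⟨x, hx⟩ := hE
    have hx' : j' x ∈ E' := ⟨x, rfl⟩
    rw [h, IntermediateField.mem_bot] at hx'
    obtain ⟨c, hc⟩ := hx'
    apply hx
    refine ⟨c, ?_⟩
    apply j'.injective
    show j' (algebraMap k E c) = j' x
    rw [← hc, AlgHom.commutes]
  have e2 : RatFunc k ≃ₐ[k] E' := RatFunc.Luroth.algEquiv hne
  exact ⟨e1.trans (e2.symm.trans eF.symm)⟩



/-- the function field of an integral `k`-scheme with an affine chart `Spec A` is the fraction
field of `A`, compatibly with `k`. -/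
theorem functionField_ringEquiv (k : Type u) [Field k] {Y : Scheme.{u}}
    [Y.Over (Spec (CommRingCat.of k))] [IsIntegral Y]
    (A : CommRingCat.{u}) [IsDomain A] [Algebra k A]
    (j : Spec A ⟶ Y) [IsOpenImmersion j]
    (hj : j ≫ (Y ↘ Spec (CommRingCat.of k)) = Spec.map (CommRingCat.ofHom (algebraMap k A))) :
    ∃ Φ : Y.functionField ≃+* FractionRing A,
      ∀ c : k, Φ (Curv2.stalkMap k Y (genericPoint Y) c) =
        algebraMap A (FractionRing A) (algebraMap k A c) := by
  have hη : j (genericPoint (Spec A)) = genericPoint Y := genericPoint_eq_of_isOpenImmersion j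
  let e1 : Y.presheaf.stalk (genericPoint Y) ≅ Y.presheaf.stalk (j (genericPoint (Spec A))) :=
    Y.presheaf.stalkCongr (.of_eq hη.symm)
  let e2 : Y.presheaf.stalk (j (genericPoint (Spec A))) ≅
      (Spec A).presheaf.stalk (genericPoint (Spec A)) :=
    asIso (j.stalkMap (genericPoint (Spec A)))
  let Ψ : Y.functionField ≃+* (Spec A).functionField := (e1 ≪≫ e2).commRingCatIsoToRingEquiv
  let Θ : (Spec A).functionField ≃ₐ[A] FractionRing A :=
    IsLocalization.algEquiv (nonZeroDivisors A) _ _
  refine ⟨Ψ.trans Θ.toRingEquiv, fun c => ?_⟩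
  have h1 : Ψ (Curv2.stalkMap k Y (genericPoint Y) c) =
      algebraMap A (Spec A).functionField (algebraMap k A c) := by
    show (j.stalkMap (genericPoint (Spec A))) ((Y.presheaf.stalkSpecializes
      (Inseparable.of_eq hη.symm).specializes')
      (Curv2.stalkMap k Y (genericPoint Y) c)) = _
    unfold Curv2.stalkMap
    rw [RingHom.comp_apply]
    erw [TopCat.Presheaf.germ_stalkSpecializes_apply]
    erw [Scheme.Hom.germ_stalkMap_apply]
    unfold Coh.toGlobal
    rw [RingHom.comp_apply]
    have h2 : j.app ⊤ ((Y ↘ Spec (CommRingCat.of k)).appTop.hom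
        ((Scheme.ΓSpecIso (CommRingCat.of k)).inv.hom c)) =
        (Scheme.ΓSpecIso A).inv.hom (algebraMap k A c) := by
      have h3 : (Scheme.ΓSpecIso (CommRingCat.of k)).inv ≫
          (Y ↘ Spec (CommRingCat.of k)).appTop ≫ j.appTop =
          CommRingCat.ofHom (algebraMap k A) ≫ (Scheme.ΓSpecIso A).inv := by
        rw [← Scheme.Hom.comp_appTop, hj]
        exact (Scheme.ΓSpecIso_inv_naturality (CommRingCat.ofHom (algebraMap k A))).symm
      exact congrArg (fun φ => φ.hom c) h3
    erw [h2]
    rfl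
  show Θ (Ψ _) = _
  rw [h1, AlgEquiv.commutes]


variable (k : Type u) [Field k]



/-- the function field of `P¹_k` is `k(t)`, compatibly with `k` -/
theorem functionField_P1 :
    ∃ Φ : (Proj (CohB1.polyGrading 1 k)).functionField ≃+* RatFunc k,
      ∀ c : k, Φ (Curv2.stalkMap k (Proj (CohB1.polyGrading 1 k))
        (genericPoint (Proj (CohB1.polyGrading 1 k))) c) = algebraMap k (RatFunc k) c := by
  have ht : Transcendental k (RatFunc.X : RatFunc k) := RatFunc.transcendental_X
  letI : Algebra k (Proj (CohB1.polyGrading 1 k)).functionField :=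
    (Curv2.stalkMap k (Proj (CohB1.polyGrading 1 k))
      (genericPoint (Proj (CohB1.polyGrading 1 k)))).toAlgebra
  let φ : (Proj (CohB1.polyGrading 1 k)).functionField →ₐ[k] RatFunc k :=
    { Groth.Agent.Helper5.P1Sch.phi k (RatFunc k) RatFunc.X ht with
      commutes' := fun c => Groth.Agent.Helper5.P1Sch.phi_stalkMap k (RatFunc k) RatFunc.X ht c }
  have hinj : Function.Injective φ := φ.toRingHom.injective
  have hsurj : Function.Surjective φ := by
    rw [← AlgHom.fieldRange_eq_top]
    rw [eq_top_iff, ← RatFunc.adjoin_X, IntermediateField.adjoin_simple_le_iff]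
    exact ⟨Groth.Agent.Helper5.P1Sch.tauF k,
      Groth.Agent.Helper5.P1Sch.phi_tauF k (RatFunc k) RatFunc.X ht⟩
  refine ⟨RingEquiv.ofBijective φ ⟨hinj, hsurj⟩, fun c => ?_⟩
  exact Groth.Agent.Helper5.P1Sch.phi_stalkMap k (RatFunc k) RatFunc.X ht c




/-- the map of function fields induced by a dominant `k`-morphism of integral schemes -/
theorem exists_functionField_hom {P C : Scheme.{u}} [P.Over (Spec (CommRingCat.of k))]
    [C.Over (Spec (CommRingCat.of k))] [IsIntegral P] [IsIntegral C]
    (g : P ⟶ C) (hg : g ≫ (C ↘ Spec (CommRingCat.of k)) = P ↘ Spec (CommRingCat.of k))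
    (hdom : g (genericPoint P) = genericPoint C) :
    ∃ ψ : C.functionField →+* P.functionField,
      ∀ c : k, ψ (Curv2.stalkMap k C (genericPoint C) c) =
        Curv2.stalkMap k P (genericPoint P) c := by
  refine ⟨(C.presheaf.stalkSpecializes (specializes_of_eq hdom) ≫
    g.stalkMap (genericPoint P)).hom, fun c => ?_⟩
  show (g.stalkMap (genericPoint P)) ((C.presheaf.stalkSpecializes (specializes_of_eq hdom))
      (Curv2.stalkMap k C (genericPoint C) c)) = _
  unfold Curv2.stalkMap
  rw [RingHom.comp_apply, RingHom.comp_apply]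
  erw [TopCat.Presheaf.germ_stalkSpecializes_apply]
  erw [Scheme.Hom.germ_stalkMap_apply]
  unfold Coh.toGlobal
  rw [RingHom.comp_apply, RingHom.comp_apply]
  have h2 : g.app ⊤ ((C ↘ Spec (CommRingCat.of k)).appTop.hom
      ((Scheme.ΓSpecIso (CommRingCat.of k)).inv.hom c)) =
      (P ↘ Spec (CommRingCat.of k)).appTop.hom
        ((Scheme.ΓSpecIso (CommRingCat.of k)).inv.hom c) := by
    have h3 : (C ↘ Spec (CommRingCat.of k)).appTop ≫ g.appTop =
        (P ↘ Spec (CommRingCat.of k)).appTop := by
      rw [← Scheme.Hom.comp_appTop, hg]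
    exact congrArg (fun φ => φ.hom ((Scheme.ΓSpecIso (CommRingCat.of k)).inv.hom c)) h3
  erw [h2]
  rfl




/-- an integral `k`-scheme of dimension one has a non-constant rational function -/
theorem exists_not_mem_range {C : Scheme.{u}} [C.Over (Spec (CommRingCat.of k))] [IsIntegral C]
    (hdim : topologicalKrullDim C = 1) :
    ∃ x : C.functionField, x ∉ (Curv2.stalkMap k C (genericPoint C)).range := by
  by_contra hcon
  push Not at hcon
  have hall : ∀ y : C, y = genericPoint C := by
    intro y
    obtain ⟨_, ⟨V, hV : IsAffineOpen V, rfl⟩, hyV, -⟩ :=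
      C.isBasis_affineOpens.exists_subset_of_mem_open (Set.mem_univ y) isOpen_univ
    haveI : Nonempty V := ⟨⟨y, hyV⟩⟩
    have hinj := C.germToFunctionField_injective V
    -- restriction of constants
    let ρ : k →+* Γ(C, V) :=
      (C.presheaf.map (homOfLE (le_top : V ≤ ⊤)).op).hom.comp
        (Coh.toGlobal (C ↘ Spec (CommRingCat.of k)))
    have hρ : ∀ c : k, C.germToFunctionField V (ρ c) =
        Curv2.stalkMap k C (genericPoint C) c := by
      intro c
      unfold Curv2.stalkMap
      rw [RingHom.comp_apply]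
      exact TopCat.Presheaf.germ_res_apply _ (homOfLE (le_top : V ≤ ⊤)) _ _ _
    have hsurjρ : Function.Surjective ρ := by
      intro b
      obtain ⟨c, hc⟩ := hcon (C.germToFunctionField V b)
      refine ⟨c, hinj ?_⟩
      rw [hρ]; exact hc
    haveI : Nontrivial Γ(C, V) := by
      haveI : IsDomain Γ(C, V) := inferInstance
      infer_instance
    have hfield : IsField Γ(C, V) := by
      refine ⟨⟨0, 1, zero_ne_one⟩, mul_comm, fun {b} hb => ?_⟩
      obtain ⟨c, rfl⟩ := hsurjρ b
      have hc : c ≠ 0 := by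
        rintro rfl
        exact hb (map_zero ρ)
      exact ⟨ρ c⁻¹, by rw [← map_mul, mul_inv_cancel₀ hc, map_one]⟩
    letI := hfield.toField
    haveI : Subsingleton (Spec Γ(C, V)) :=
      inferInstanceAs (Subsingleton (PrimeSpectrum Γ(C, V)))
    have hsV : Subsingleton (V : Scheme.{u}) := hV.isoSpec.hom.homeomorph.injective.subsingleton
    have hη : genericPoint C ∈ V :=
      ((genericPoint_spec C).mem_open_set_iff V.isOpen).mpr ⟨y, trivial, hyV⟩
    exact congrArg Subtype.val (hsV.elim (⟨y, hyV⟩ : V) ⟨genericPoint C, hη⟩)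
  haveI : Subsingleton C := ⟨fun a b => (hall a).trans (hall b).symm⟩
  have := Groth.Agent.Helper4.SN.topologicalKrullDim_le_zero_of_subsingleton C
  rw [hdim] at this
  exact absurd this (by decide)


instance isIntegral_P1' : IsIntegral (CohB1.ProjSpace 1 k) :=
  inferInstanceAs (IsIntegral (Proj (CohB1.polyGrading 1 k)))

/-- **Lüroth, geometric form**: an integral curve over `k` dominated by `P¹_k` is birational
to `P¹_k`. -/
theorem exists_open_iso_P1 {C : Scheme.{u}} [C.Over (Spec (CommRingCat.of k))] [IsIntegral C]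
    [LocallyOfFiniteType (C ↘ Spec (CommRingCat.of k))]
    (hdim : topologicalKrullDim C = 1)
    (g : CohB1.ProjSpace 1 k ⟶ C)
    (hg : g ≫ (C ↘ Spec (CommRingCat.of k)) = CohB1.ProjSpace.toSpec 1 k)
    (hdom : g (genericPoint (CohB1.ProjSpace 1 k)) = genericPoint C) :
    ∃ (U : C.Opens) (V : (CohB1.ProjSpace 1 k).Opens), (U : Set C).Nonempty ∧
      ∃ φ : (U : Scheme.{u}) ≅ (V : Scheme.{u}),
        φ.hom ≫ V.ι ≫ CohB1.ProjSpace.toSpec 1 k = U.ι ≫ (C ↘ Spec (CommRingCat.of k)) := by
  obtain ⟨Φ, hΦ⟩ := functionField_P1 k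
  obtain ⟨ψ, hψ⟩ := exists_functionField_hom k g hg hdom
  obtain ⟨x, hx⟩ := exists_not_mem_range k hdim
  letI aC : Algebra k C.functionField := (Curv2.stalkMap k C (genericPoint C)).toAlgebra
  letI aP : Algebra k (CohB1.ProjSpace 1 k).functionField :=
    (Curv2.stalkMap k (CohB1.ProjSpace 1 k) (genericPoint (CohB1.ProjSpace 1 k))).toAlgebra
  let eF : (CohB1.ProjSpace 1 k).functionField ≃ₐ[k] RatFunc k :=
    { Φ with commutes' := fun c => hΦ c }
  let j : C.functionField →ₐ[k] (CohB1.ProjSpace 1 k).functionField :=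
    { ψ with commutes' := fun c => hψ c }
  obtain ⟨E⟩ := luroth_abstract k _ _ eF j ⟨x, hx⟩
  let e : C.functionField ≅ (CohB1.ProjSpace 1 k).functionField :=
    E.toRingEquiv.toCommRingCatIso
  have he : e.hom.hom.comp (Curv2.stalkMap k C (genericPoint C)) =
      Curv2.stalkMap k (CohB1.ProjSpace 1 k) (genericPoint (CohB1.ProjSpace 1 k)) := by
    ext c
    exact E.commutes c
  haveI : LocallyOfFiniteType ((CohB1.ProjSpace 1 k) ↘ Spec (CommRingCat.of k)) := by
    show LocallyOfFiniteType (CohB1.ProjSpace.toSpec 1 k)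
    haveI := Groth.Agent.Helper6.HProj.isProper_toSpec 1 k
    infer_instance
  exact Groth.Agent.Helper3.BirFF.main k C (CohB1.ProjSpace 1 k) e he

end Groth.Agent.Helper4.SN632
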