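import Mathlib
import Groth.Agent.Helper4.SN632
import Groth.Agent.Helper4.SN84
import Groth.Agent.Helper3.DimOneExt
import Groth.Agent.Helper1.PnReg
import Groth.Agent.Helper5.DimIneq2

/-!
# S17085: rational projective curves are the images of `P¹`
-/

set_option autoImplicit false
set_option linter.unusedSectionVars false
set_option linter.style.haveILetI false
universe u

open CategoryTheory CategoryTheory.Limits AlgebraicGeometry TopologicalSpace Opposite

namespace Groth.Agent.Helper4.SN633

open Groth.Agent.Helper4.SN632 Groth.Agent.Helper4.SN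

variable (k : Type u) [Field k]

/-- a dominant morphism of irreducible schemes maps the generic point to the generic point -/
theorem map_genericPoint_of_denseRange {P C : Scheme.{u}} [IrreducibleSpace P] [IrreducibleSpace C]
    (g : P ⟶ C) (hg : DenseRange g) : g (genericPoint P) = genericPoint C := by
  apply ((genericPoint_spec C).eq _).symm
  have h1 := (genericPoint_spec P).image g.continuous
  rw [Set.image_univ, hg.closure_range] at h1
  exact h1

/-- a rational map from `P¹_k` to a proper `k`-scheme, defined on a nonempty open, extends -/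
theorem extend_P1 {X : Scheme.{u}} (p : X ⟶ Spec (CommRingCat.of k)) [IsProper p]
    (V : (CohB1.ProjSpace 1 k).Opens) (hV : (V : Set (CohB1.ProjSpace 1 k)).Nonempty)
    (g : (V : Scheme.{u}) ⟶ X) (hg : g ≫ p = V.ι ≫ CohB1.ProjSpace.toSpec 1 k) :
    ∃ g' : CohB1.ProjSpace 1 k ⟶ X, g' ≫ p = CohB1.ProjSpace.toSpec 1 k ∧ V.ι ≫ g' = g := by
  haveI := Groth.Agent.Helper4.NApx82.isNoetherian_of_proper k (CohB1.ProjSpace 1 k)
  have hVd : Dense (V : Set (CohB1.ProjSpace 1 k)) := V.isOpen.dense hV
  obtain ⟨U, hVU, g', hg', hres, hU⟩ := Groth.Agent.Helper3.DimOneExt.s4440 p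
    (CohB1.ProjSpace.toSpec 1 k)
    (fun y _ => Groth.Agent.Helper1.PnReg.isRegularLocalRing_stalk 1 k y) V hVd g hg
  have hUtop : U = ⊤ := by
    rw [eq_top_iff]
    intro y _
    apply hU y
    have := Groth.Agent.Helper5.DimIneq.ringKrullDim_stalk_le_dim (CohB1.ProjSpace 1 k) y
    rw [dim_P1 k] at this
    exact this
  subst hUtop
  refine ⟨(Scheme.topIso _).inv ≫ g', ?_, ?_⟩
  · rw [Category.assoc, hg']
    simp
  · rw [← hres]
    rw [← Category.assoc]
    congr 1
    rw [← cancel_mono (Scheme.topIso (CohB1.ProjSpace 1 k)).hom]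
    simp

/-- **S17085** -/
theorem main17085 {n : ℕ} (C : Scheme.{u})
    (i : C ⟶ CohB1.ProjSpace n k) [IsClosedImmersion i] [IsIntegral C]
    (hdim : topologicalKrullDim C = 1) :
    (∃ (U : C.Opens) (V : (CohB1.ProjSpace 1 k).Opens) (e : (↑U : Scheme.{u}) ≅ ↑V),
        Nonempty U ∧
          e.hom ≫ V.ι ≫ CohB1.ProjSpace.toSpec 1 k = U.ι ≫ i ≫ CohB1.ProjSpace.toSpec n k) ↔
      ∃ f : CohB1.ProjSpace 1 k ⟶ CohB1.ProjSpace n k,
        f ≫ CohB1.ProjSpace.toSpec n k = CohB1.ProjSpace.toSpec 1 k ∧ f.ker = i.ker := by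
  haveI : IsProper (CohB1.ProjSpace.toSpec n k) := Groth.Agent.Helper6.HProj.isProper_toSpec n k
  haveI : IsProper (CohB1.ProjSpace.toSpec 1 k) := Groth.Agent.Helper6.HProj.isProper_toSpec 1 k
  constructor
  · rintro ⟨U, V, e, hU, he⟩
    have hVne : (V : Set (CohB1.ProjSpace 1 k)).Nonempty := by
      obtain ⟨u⟩ := hU
      exact ⟨(e.hom u).1, (e.hom u).2⟩
    have hg0 : (e.inv ≫ U.ι) ≫ (i ≫ CohB1.ProjSpace.toSpec n k) =
        V.ι ≫ CohB1.ProjSpace.toSpec 1 k := by
      rw [Category.assoc, ← he, Iso.inv_hom_id_assoc]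
    obtain ⟨g', hg', hres⟩ := extend_P1 k (i ≫ CohB1.ProjSpace.toSpec n k) V hVne
      (e.inv ≫ U.ι) hg0
    refine ⟨g' ≫ i, by rw [Category.assoc, hg'], ?_⟩
    -- g' is dominant
    have hdense : DenseRange g' := by
      have hUd : Dense (U : Set C) := U.isOpen.dense (by
        obtain ⟨u⟩ := hU
        exact ⟨u.1, u.2⟩)
      refine hUd.mono ?_
      intro c hc
      let u : (U : Scheme.{u}) := ⟨c, hc⟩
      refine ⟨V.ι (e.hom u), ?_⟩
      have h1 : (V.ι ≫ g') (e.hom u) = (e.inv ≫ U.ι) (e.hom u) := by rw [hres]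
      rw [Scheme.Hom.comp_apply, Scheme.Hom.comp_apply] at h1
      have h2 : e.inv (e.hom u) = u := by
        rw [← Scheme.Hom.comp_apply, e.hom_inv_id]
        rfl
      rw [h1, h2]
      rfl
    haveI : IsDominant g' := ⟨hdense⟩
    haveI := IsSchemeTheoreticallyDominant.of_isDominant g'
    rw [Scheme.Hom.ker_comp, g'.ker_eq_bot, Scheme.IdealSheafData.map_bot]
  · rintro ⟨f, hf, hker⟩
    let g : CohB1.ProjSpace 1 k ⟶ C := IsClosedImmersion.lift i f hker.ge
    have hgi : g ≫ i = f := IsClosedImmersion.lift_fac i f hker.ge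
    letI : C.Over (Spec (CommRingCat.of k)) := ⟨i ≫ CohB1.ProjSpace.toSpec n k⟩
    haveI : LocallyOfFiniteType (C ↘ Spec (CommRingCat.of k)) := by
      show LocallyOfFiniteType (i ≫ CohB1.ProjSpace.toSpec n k)
      infer_instance
    have hg : g ≫ (C ↘ Spec (CommRingCat.of k)) = CohB1.ProjSpace.toSpec 1 k := by
      show g ≫ i ≫ CohB1.ProjSpace.toSpec n k = _
      rw [← Category.assoc, hgi, hf]
    have hdense : DenseRange g := by
      haveI : QuasiCompact f := by
        haveI : QuasiCompact (f ≫ CohB1.ProjSpace.toSpec n k) := by rw [hf]; infer_instance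
        exact QuasiCompact.of_comp f (CohB1.ProjSpace.toSpec n k)
      have h1 : f.ker.support = closure (Set.range f) := Scheme.Hom.support_ker f
      have h2 : i.ker.support = closure (Set.range i) := Scheme.Hom.support_ker i
      rw [hker] at h1
      have h3 : closure (Set.range f) = closure (Set.range i) := by rw [← h1, h2]
      rw [i.isClosedEmbedding.isClosed_range.closure_eq, ← hgi] at h3
      have h4 : Set.range (g ≫ i) = i '' Set.range g := by
        rw [Scheme.Hom.comp_base]
        ext x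
        simp [Set.range_comp]
      rw [h4, i.isClosedEmbedding.closure_image_eq, ← Set.image_univ (f := ⇑i)] at h3
      rw [DenseRange, dense_iff_closure_eq]
      exact (Set.image_injective.mpr i.isClosedEmbedding.injective) h3
    have hdom := map_genericPoint_of_denseRange g hdense
    obtain ⟨U, V, hU, φ, hφ⟩ := exists_open_iso_P1 k hdim g hg hdom
    refine ⟨U, V, φ, ?_, hφ⟩
    obtain ⟨c, hc⟩ := hU
    exact ⟨⟨c, hc⟩⟩

end Groth.Agent.Helper4.SN633
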