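import Mathlib
import Groth.Agent.Helper4.SN633
import Groth.Agent.Lead.H0GeomC

/-!
# S7826: a normal curve dominated by `P¹` is `P¹`
-/

set_option autoImplicit false
set_option linter.unusedSectionVars false
set_option linter.style.haveILetI false
universe u

open CategoryTheory CategoryTheory.Limits AlgebraicGeometry TopologicalSpace Opposite

namespace Groth.Agent.Helper4.SN634

open Groth.Agent.Helper4.SN632 Groth.Agent.Helper4.SN633 Groth.Agent.Helper4.SN

theorem isRegularLocalRing_of_normal_dim_le_one (R : Type*) [CommRing R] [IsDomain R]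
    [IsLocalRing R] [IsNoetherianRing R] [IsIntegrallyClosed R] (h : ringKrullDim R ≤ 1) :
    IsRegularLocalRing R := by
  by_cases hf : IsField R
  · let _ := hf.toField
    infer_instance
  · haveI : Ring.KrullDimLE 1 R := (Ring.krullDimLE_iff).mpr h
    haveI : Ring.DimensionLEOne R :=
      ⟨fun {p} hp hpp => (Ring.krullDimLE_one_iff_of_noZeroDivisors.mp ‹_›) p hp hpp⟩
    haveI : IsDedekindDomain R := {}
    haveI : IsDiscreteValuationRing R := ((IsDiscreteValuationRing.TFAE R hf).out 0 2).mpr ‹_›
    infer_instance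

variable (k : Type u) [Field k]

/-- **S7826** -/
theorem main7826 {X : Scheme.{u}}
    (p : X ⟶ Spec (CommRingCat.of k)) [IsSeparated p] [LocallyOfFiniteType p] [QuasiCompact p]
    [ConnectedSpace X] (hN : Pi1.IsNormalScheme X) (hdim : topologicalKrullDim X = 1)
    (f : CohB1.ProjSpace 1 k ⟶ X) (hf : f ≫ p = CohB1.ProjSpace.toSpec 1 k)
    (hnc : ∃ a b : ↥(CohB1.ProjSpace 1 k), f.base a ≠ f.base b) :
    ∃ e : X ≅ CohB1.ProjSpace 1 k, e.hom ≫ CohB1.ProjSpace.toSpec 1 k = p := by
  haveI : IsProper (CohB1.ProjSpace.toSpec 1 k) := Groth.Agent.Helper6.HProj.isProper_toSpec 1 k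
  haveI : IsLocallyNoetherian X := LocallyOfFiniteType.isLocallyNoetherian p
  haveI : CompactSpace X := QuasiCompact.compactSpace_of_compactSpace p
  haveI : IsNoetherian X := {}
  haveI : IsIntegral X :=
    Groth.Agent.Lead.H0Geom.isIntegral_of_connected_of_isDomain_stalk X (fun x => (hN x).1)
  letI : X.Over (Spec (CommRingCat.of k)) := ⟨p⟩
  -- `f` maps the generic point to the generic point
  have hdom : f (genericPoint (CohB1.ProjSpace 1 k)) = genericPoint X := by
    by_contra hne
    have hcl := isClosed_singleton_of_ne_genericPoint hdim.le _ hne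
    obtain ⟨a, b, hab⟩ := hnc
    have hall : ∀ a : CohB1.ProjSpace 1 k, f a = f (genericPoint (CohB1.ProjSpace 1 k)) := by
      intro a
      have h1 : genericPoint (CohB1.ProjSpace 1 k) ⤳ a := genericPoint_specializes a
      have h2 := h1.map f.continuous
      have h3 : f a ∈ closure ({f (genericPoint (CohB1.ProjSpace 1 k))} : Set X) :=
        specializes_iff_mem_closure.mp h2
      rw [hcl.closure_eq] at h3
      exact h3
    exact hab ((hall a).trans (hall b).symm)
  -- `f` is surjective, hence `X` is proper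
  haveI : IsProper (f ≫ p) := by rw [hf]; infer_instance
  haveI : UniversallyClosed f := UniversallyClosed.of_comp_of_isSeparated f p
  haveI : Surjective f := by
    constructor
    have hcl : IsClosed (Set.range f) := f.isClosedMap.isClosed_range
    have hd : Dense (Set.range f) := by
      rw [dense_iff_closure_eq, ← Set.univ_subset_iff, ← closure_genericPoint (X := X)]
      refine closure_mono ?_
      rintro _ rfl
      exact ⟨_, hdom⟩
    intro x
    have : x ∈ closure (Set.range f) := by rw [hd.closure_eq]; trivial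
    rwa [hcl.closure_eq] at this
  haveI : UniversallyClosed p := UniversallyClosed.of_comp_surjective f p
  haveI : IsProper p := {}
  -- birational to `P¹`
  haveI : LocallyOfFiniteType (X ↘ Spec (CommRingCat.of k)) := ‹LocallyOfFiniteType p›
  obtain ⟨U, V, hU, φ, hφ⟩ := exists_open_iso_P1 k hdim f hf hdom
  have hVne : (V : Set (CohB1.ProjSpace 1 k)).Nonempty := by
    obtain ⟨c, hc⟩ := hU
    exact ⟨(φ.hom ⟨c, hc⟩).1, (φ.hom ⟨c, hc⟩).2⟩
  -- extend `V → X`
  have hb0 : (φ.inv ≫ U.ι) ≫ p = V.ι ≫ CohB1.ProjSpace.toSpec 1 k := by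
    rw [Category.assoc]
    rw [← cancel_epi φ.hom, Iso.hom_inv_id_assoc]
    exact hφ.symm
  obtain ⟨b, hb, hbres⟩ := extend_P1 k p V hVne (φ.inv ≫ U.ι) hb0
  -- extend `U → P¹`
  have hUd : Dense (U : Set X) := U.isOpen.dense hU
  obtain ⟨U', hUU', a', ha', hares, hU'⟩ := Groth.Agent.Helper3.DimOneExt.s4440
    (CohB1.ProjSpace.toSpec 1 k) p
    (fun y hy => by
      haveI := (hN y).1
      haveI := (hN y).2
      exact isRegularLocalRing_of_normal_dim_le_one _ hy) U hUd (φ.hom ≫ V.ι)
    (by rw [Category.assoc]; exact hφ)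
  have hU'top : U' = ⊤ := by
    rw [eq_top_iff]
    intro y _
    apply hU' y
    have := Groth.Agent.Helper5.DimIneq.ringKrullDim_stalk_le_dim X y
    rw [hdim] at this
    exact this
  subst hU'top
  let a : X ⟶ CohB1.ProjSpace 1 k := (Scheme.topIso _).inv ≫ a'
  have ha : a ≫ CohB1.ProjSpace.toSpec 1 k = p := by
    show ((Scheme.topIso _).inv ≫ a') ≫ _ = _
    rw [Category.assoc, ha']
    simp
  have haU : U.ι ≫ a = φ.hom ≫ V.ι := by
    rw [← hares]
    show U.ι ≫ (Scheme.topIso _).inv ≫ a' = _
    rw [← Category.assoc]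
    congr 1
    rw [← cancel_mono (Scheme.topIso X).hom]
    simp
  haveI : IsDominant U.ι := by
    constructor
    rw [DenseRange, Scheme.Opens.range_ι]
    exact hUd
  haveI : IsDominant V.ι := by
    constructor
    rw [DenseRange, Scheme.Opens.range_ι]
    exact V.isOpen.dense hVne
  have hab : a ≫ b = 𝟙 X := by
    refine ext_of_isDominant_of_isSeparated p ?_ U.ι ?_
    · rw [Category.assoc, hb, ha, Category.id_comp]
    · rw [← Category.assoc, haU, Category.assoc, hbres, Iso.hom_inv_id_assoc, Category.comp_id]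
  have hba : b ≫ a = 𝟙 (CohB1.ProjSpace 1 k) := by
    refine ext_of_isDominant_of_isSeparated (CohB1.ProjSpace.toSpec 1 k) ?_ V.ι ?_
    · rw [Category.assoc, ha, hb, Category.id_comp]
    · rw [← Category.assoc, hbres, Category.assoc, haU, Iso.inv_hom_id_assoc, Category.comp_id]
  exact ⟨⟨a, b, hab, hba⟩, ha⟩

end Groth.Agent.Helper4.SN634
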