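import Mathlib

/-!
# Quadratic extensions: the involution, and primes in integral extensions
-/

set_option autoImplicit false

namespace Groth.Agent.Helper4.SN635

/-- primes over the same prime are conjugate under an involution whose invariants come from the
base -/
theorem eq_or_eq_comap_of_involution {A B : Type*} [CommRing A] [CommRing B] (φ : A →+* B)
    (σ : B →+* B) (hσ : ∀ b, σ (σ b) = b)
    (hfix : ∀ b, σ b = b → b ∈ φ.range)
    (𝔭 𝔮 : Ideal B) [h𝔭 : 𝔭.IsPrime] [h𝔮 : 𝔮.IsMaximal] (h : 𝔭.comap φ = 𝔮.comap φ) :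
    𝔮 = 𝔭 ∨ 𝔮 = 𝔭.comap σ := by
  by_contra hcon
  push Not at hcon
  obtain ⟨h1, h2⟩ := hcon
  have hle1 : ¬ 𝔮 ≤ 𝔭 := fun hle => h1 (h𝔮.eq_of_le h𝔭.ne_top hle)
  have hle2 : ¬ 𝔮 ≤ 𝔭.comap σ := fun hle =>
    h2 (h𝔮.eq_of_le (Ideal.IsPrime.ne_top (Ideal.comap_isPrime σ 𝔭)) hle)
  have hnot : ¬ ((𝔮 : Set B) ⊆ (𝔭 : Set B) ∪ (𝔭.comap σ : Set B)) := by
    rw [Ideal.subset_union]
    push Not
    exact ⟨hle1, hle2⟩
  rw [Set.not_subset] at hnot
  obtain ⟨b, hbq, hb⟩ := hnot
  rw [Set.mem_union, not_or] at hb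
  obtain ⟨hb1, hb2⟩ := hb
  have hb2' : σ b ∉ 𝔭 := hb2
  have hN : σ (b * σ b) = b * σ b := by rw [map_mul, hσ, mul_comm]
  obtain ⟨a, ha⟩ := hfix _ hN
  have haq : a ∈ 𝔮.comap φ := by
    rw [Ideal.mem_comap, ha]
    exact 𝔮.mul_mem_right _ hbq
  rw [← h, Ideal.mem_comap, ha] at haq
  rcases h𝔭.mem_or_mem haq with h3 | h3
  · exact hb1 h3
  · exact hb2' h3

/-- the nontrivial automorphism of a separable quadratic extension -/
theorem exists_involution {K L : Type*} [Field K] [Field L] [Algebra K L]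
    (h2 : Module.finrank K L = 2) [Algebra.IsSeparable K L] :
    ∃ σ : L ≃ₐ[K] L, σ ≠ AlgEquiv.refl ∧ (∀ x, σ (σ x) = x) ∧
      ∀ x, σ x = x → x ∈ (algebraMap K L).range := by
  haveI : Algebra.IsQuadraticExtension K L := ⟨h2⟩
  haveI : FiniteDimensional K L := Module.finite_of_finrank_pos (by omega)
  haveI : IsGalois K L := inferInstance
  have hcard : Nat.card (L ≃ₐ[K] L) = 2 := by
    rw [IsGalois.card_aut_eq_finrank, h2]
  obtain ⟨σ, hσ1, hσu⟩ := (Nat.card_eq_two_iff' (1 : L ≃ₐ[K] L)).mp hcard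
  have hall : ∀ τ : L ≃ₐ[K] L, τ = 1 ∨ τ = σ := by
    intro τ
    by_cases hτ : τ = 1
    · exact Or.inl hτ
    · exact Or.inr (hσu τ hτ)
  have hσσ : σ * σ = 1 := by
    rcases hall (σ * σ) with h | h
    · exact h
    · exfalso
      apply hσ1
      have : σ * σ = σ * 1 := by rw [h, mul_one]
      exact mul_left_cancel this
  refine ⟨σ, hσ1, fun x => ?_, fun x hx => ?_⟩
  · have := congrArg (fun τ : L ≃ₐ[K] L => τ x) hσσ
    exact this
  · have hx' : x ∈ (⊥ : IntermediateField K L) := by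
      rw [IsGalois.mem_bot_iff_fixed]
      intro τ
      rcases hall τ with h | h
      · rw [h]; rfl
      · rw [h]; exact hx
    rw [IntermediateField.mem_bot] at hx'
    exact hx'

/-- in an inseparable quadratic extension a power of every element lies in the base -/
theorem exists_pow_mem_range_of_not_isSeparable {K L : Type*} [Field K] [Field L] [Algebra K L]
    (h2 : Module.finrank K L = 2) (hns : ¬ Algebra.IsSeparable K L) :
    ∀ x : L, ∃ n : ℕ, 0 < n ∧ x ^ n ∈ (algebraMap K L).range := by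
  haveI : FiniteDimensional K L := Module.finite_of_finrank_pos (by omega)
  have hdvd := Field.finSepDegree_dvd_finrank K L
  rw [h2] at hdvd
  have hne : Field.finSepDegree K L ≠ 2 := by
    intro h
    apply hns
    rw [← Field.finSepDegree_eq_finrank_iff, h, h2]
  have h1 : Field.finSepDegree K L = 1 := by
    have := (Nat.dvd_prime Nat.prime_two).mp hdvd
    tauto
  haveI : IsPurelyInseparable K L :=
    (isPurelyInseparable_iff_finSepDegree_eq_one K L).mpr h1
  intro x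
  obtain ⟨n, hn⟩ := IsPurelyInseparable.pow_mem K (ringExpChar K) x
  haveI := ringExpChar.expChar K
  exact ⟨ringExpChar K ^ n, pow_pos (expChar_pos K (ringExpChar K)) n, hn⟩

/-- if a power of every element of the big field lies in the small field, primes over the same
prime coincide -/
theorem eq_of_pow_mem {A B K L : Type*} [CommRing A] [CommRing B] [Field K] [Field L]
    [Algebra K L] (φ : A →+* B) (ιB : B →+* L)
    (hIC : ∀ b : B, ιB b ∈ (algebraMap K L).range → b ∈ φ.range)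
    (hpow : ∀ x : L, ∃ n : ℕ, 0 < n ∧ x ^ n ∈ (algebraMap K L).range)
    (𝔭 𝔮 : Ideal B) [h𝔭 : 𝔭.IsPrime] [h𝔮 : 𝔮.IsPrime] (h : 𝔭.comap φ = 𝔮.comap φ) :
    𝔭 = 𝔮 := by
  have key : ∀ (𝔞 𝔟 : Ideal B) [𝔞.IsPrime] [h𝔟 : 𝔟.IsPrime], 𝔞.comap φ = 𝔟.comap φ → 𝔞 ≤ 𝔟 := by
    intro 𝔞 𝔟 _ h𝔟 hab b hb
    obtain ⟨n, hn, hx⟩ := hpow (ιB b)
    rw [← map_pow] at hx
    obtain ⟨a, ha⟩ := hIC _ hx
    have h1 : a ∈ 𝔞.comap φ := by
      rw [Ideal.mem_comap, ha]
      exact 𝔞.pow_mem_of_mem hb n hn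
    rw [hab, Ideal.mem_comap, ha] at h1
    exact h𝔟.mem_of_pow_mem n h1
  exact le_antisymm (key 𝔭 𝔮 h) (key 𝔮 𝔭 h.symm)

/-- an element of an integral extension whose image in the big field comes from the fraction
field of the integrally closed base comes from the base -/
theorem mem_range_of_isIntegrallyClosed {A B K L : Type*} [CommRing A] [IsDomain A]
    [CommRing B] [Field K] [Field L] [Algebra A K] [IsFractionRing A K] [IsIntegrallyClosed A]
    [Algebra K L] (φ : A →+* B) (ιB : B →+* L) (hιB : Function.Injective ιB)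
    (hcomp : ∀ a, ιB (φ a) = algebraMap K L (algebraMap A K a))
    (hint : φ.IsIntegral) (b : B) (hb : ιB b ∈ (algebraMap K L).range) : b ∈ φ.range := by
  obtain ⟨x, hx⟩ := hb
  obtain ⟨p, hp, hpb⟩ := hint b
  have h1 : Polynomial.eval₂ (algebraMap A K) x p = 0 := by
    apply (algebraMap K L).injective
    rw [map_zero, Polynomial.hom_eval₂, hx]
    have h2 : (algebraMap K L).comp (algebraMap A K) = ιB.comp φ := by
      ext a
      exact (hcomp a).symm
    rw [h2, ← Polynomial.hom_eval₂, hpb, map_zero]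
  have hxi : IsIntegral A x := ⟨p, hp, h1⟩
  obtain ⟨a, ha⟩ := IsIntegrallyClosed.algebraMap_eq_of_integral hxi
  refine ⟨a, hιB ?_⟩
  rw [hcomp, ha, hx]

end Groth.Agent.Helper4.SN635
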