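import Mathlib
import Groth.Prelude.Def_CohB1
import Groth.Agent.Helper1.Segre2

/-!
# The complement of a standard chart of `P¹_k` is a single point
-/

set_option autoImplicit false
universe u

open CategoryTheory AlgebraicGeometry MvPolynomial

namespace Groth.Agent.Helper4.SN636

variable (k : Type u) [Field k]

/-- a homogeneous element of a prime containing `X i` but not `X j` is a multiple of `X i` -/
theorem mem_span_X_of_homogeneous (i j : Fin 2) (hij : i ≠ j)
    (𝔭 : Ideal (MvPolynomial (Fin 2) k)) [h𝔭 : 𝔭.IsPrime]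
    (hi : (X i : MvPolynomial (Fin 2) k) ∈ 𝔭) (hj : (X j : MvPolynomial (Fin 2) k) ∉ 𝔭)
    (g : MvPolynomial (Fin 2) k) (d : ℕ) (hg : g.IsHomogeneous d) (hg𝔭 : g ∈ 𝔭) :
    g ∈ Ideal.span {(X i : MvPolynomial (Fin 2) k)} := by
  classical
  set m₀ : Fin 2 →₀ ℕ := Finsupp.single j d with hm₀
  set c : k := coeff m₀ g with hc
  set g' : MvPolynomial (Fin 2) k := g - monomial m₀ c with hg'
  have hall : ∀ l : Fin 2, l = i ∨ l = j := by
    intro l
    fin_cases l <;> fin_cases i <;> fin_cases j <;> simp_all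
  have hg'mem : g' ∈ Ideal.span ((X : Fin 2 → MvPolynomial (Fin 2) k) '' {i}) := by
    rw [mem_ideal_span_X_image]
    intro m hm
    refine ⟨i, rfl, ?_⟩
    intro hmi
    rw [mem_support_iff, hg', coeff_sub, coeff_monomial] at hm
    by_cases hmm : m₀ = m
    · rw [if_pos hmm, ← hmm, sub_self] at hm
      exact hm rfl
    · rw [if_neg hmm, sub_zero] at hm
      apply hmm
      have hdeg : m.degree = d := by
        have h0 := hg hm
        rw [Finsupp.degree_eq_weight_one (R := ℕ)]
        exact h0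
      ext l
      rcases hall l with rfl | rfl
      · rw [hmi, hm₀, Finsupp.single_apply, if_neg (Ne.symm hij)]
      · rw [hm₀, Finsupp.single_apply, if_pos rfl]
        have h2 : m.degree = m i + m l := by
          rw [Finsupp.degree_eq_sum, Fin.sum_univ_two]
          fin_cases i <;> fin_cases l <;> simp_all <;> omega
        omega
  rw [Set.image_singleton] at hg'mem
  have hg'𝔭 : g' ∈ 𝔭 := (Ideal.span_le.mpr (Set.singleton_subset_iff.mpr hi)) hg'mem
  have hmon : monomial m₀ c ∈ 𝔭 := by
    have : monomial m₀ c = g - g' := by rw [hg']; ring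
    rw [this]
    exact 𝔭.sub_mem hg𝔭 hg'𝔭
  have hc0 : c = 0 := by
    by_contra hne
    have h1 : monomial m₀ c = C c * X j ^ d := by
      rw [hm₀, C_mul_X_pow_eq_monomial]
    rw [h1] at hmon
    rcases h𝔭.mem_or_mem hmon with h2 | h2
    · apply h𝔭.ne_top
      rw [Ideal.eq_top_iff_one]
      have : (1 : MvPolynomial (Fin 2) k) = C c⁻¹ * C c := by
        rw [← C_mul, inv_mul_cancel₀ hne, C_1]
      rw [this]
      exact 𝔭.mul_mem_left _ h2
    · exact hj (h𝔭.mem_of_pow_mem d h2)
  have : g = g' := by rw [hg', hc0, monomial_zero, sub_zero]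
  rw [this]
  exact hg'mem

/-- two points of `P¹_k` outside the same standard chart coincide -/
theorem eq_of_notMem_basicOpen (i : Fin 2) (y₁ y₂ : Proj (CohB1.polyGrading 1 k))
    (h₁ : y₁ ∉ Proj.basicOpen (CohB1.polyGrading 1 k) (X i : MvPolynomial (Fin 2) k))
    (h₂ : y₂ ∉ Proj.basicOpen (CohB1.polyGrading 1 k) (X i : MvPolynomial (Fin 2) k)) :
    y₁ = y₂ := by
  rw [Proj.mem_basicOpen, not_not] at h₁ h₂
  obtain ⟨j, hij⟩ : ∃ j : Fin 2, i ≠ j := by
    fin_cases i
    · exact ⟨1, by decide⟩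
    · exact ⟨0, by decide⟩
  have hall : ∀ l : Fin 2, l = i ∨ l = j := by
    intro l
    fin_cases l <;> fin_cases i <;> fin_cases j <;> simp_all
  have hj : ∀ y : Proj (CohB1.polyGrading 1 k),
      (X i : MvPolynomial (Fin 2) k) ∈ y.asHomogeneousIdeal →
      (X j : MvPolynomial (Fin 2) k) ∉ y.asHomogeneousIdeal := by
    intro y hyi hyj
    have h := Groth.Agent.Helper1.Segre.iSup_basicOpen_X (R := k) 1
    have hy : y ∈ (⊤ : (Proj (CohB1.polyGrading 1 k)).Opens) := trivial
    rw [← h, TopologicalSpace.Opens.mem_iSup] at hy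
    obtain ⟨l, hl⟩ := hy
    rw [Proj.mem_basicOpen] at hl
    rcases hall l with rfl | rfl
    · exact hl hyi
    · exact hl hyj
  have key : ∀ y y' : Proj (CohB1.polyGrading 1 k),
      (X i : MvPolynomial (Fin 2) k) ∈ y.asHomogeneousIdeal →
      (X i : MvPolynomial (Fin 2) k) ∈ y'.asHomogeneousIdeal →
      y.asHomogeneousIdeal.toIdeal ≤ y'.asHomogeneousIdeal.toIdeal := by
    intro y y' hy hy' g hg
    rw [mem_iff_homogeneousComponent_mem y'.asHomogeneousIdeal.isHomogeneous]
    intro n
    have h1 : homogeneousComponent n g ∈ y.asHomogeneousIdeal.toIdeal :=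
      homogeneousComponent_mem_of_mem y.asHomogeneousIdeal.isHomogeneous hg n
    haveI : y.asHomogeneousIdeal.toIdeal.IsPrime := y.isPrime
    have h2 := mem_span_X_of_homogeneous k i j hij y.asHomogeneousIdeal.toIdeal hy (hj y hy)
      (homogeneousComponent n g) n (homogeneousComponent_isHomogeneous n g) h1
    exact (Ideal.span_le.mpr (Set.singleton_subset_iff.mpr hy')) h2
  apply ProjectiveSpectrum.ext
  apply HomogeneousIdeal.toIdeal_injective
  exact le_antisymm (key y₁ y₂ h₁ h₂) (key y₂ y₁ h₂ h₁)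

end Groth.Agent.Helper4.SN636
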