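import Mathlib
import Groth.Agent.Helper3.DimOneExt

/-!
# Maps of function fields and morphisms of regular curves
-/

set_option autoImplicit false
set_option linter.unusedSectionVars false
set_option linter.style.haveILetI false
universe u

open CategoryTheory CategoryTheory.Limits AlgebraicGeometry TopologicalSpace Opposite

namespace Groth.Agent.Helper4.SN637

section FF

variable {P C : Scheme.{u}} [IsIntegral P] [IsIntegral C]

/-- the map of function fields induced by a dominant morphism of integral schemes -/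
noncomputable def ffMap (g : P ⟶ C) (hdom : g (genericPoint P) = genericPoint C) :
    C.functionField ⟶ P.functionField :=
  C.presheaf.stalkSpecializes (specializes_of_eq hdom) ≫ g.stalkMap (genericPoint P)

theorem ffMap_germ (g : P ⟶ C) (hdom : g (genericPoint P) = genericPoint C)
    (U : C.Opens) (hU : genericPoint C ∈ U) (b : Γ(C, U)) :
    (ffMap g hdom).hom ((C.presheaf.germ U (genericPoint C) hU).hom b) =
      (P.presheaf.germ (g ⁻¹ᵁ U) (genericPoint P) (by show g (genericPoint P) ∈ U; rw [hdom]; exact hU)).hom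
        ((g.app U).hom b) := by
  unfold ffMap
  have hU' : g (genericPoint P) ∈ U := by rw [hdom]; exact hU
  change (g.stalkMap (genericPoint P)).hom ((C.presheaf.stalkSpecializes (specializes_of_eq hdom)).hom
    ((C.presheaf.germ U (genericPoint C) hU).hom b)) = _
  erw [TopCat.Presheaf.germ_stalkSpecializes_apply]
  exact Scheme.Hom.germ_stalkMap_apply g U (genericPoint P) hU' b

theorem SpecMap_ffMap (g : P ⟶ C) (hdom : g (genericPoint P) = genericPoint C) :
    Spec.map (ffMap g hdom) ≫ C.fromSpecStalk (genericPoint C) =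
      P.fromSpecStalk (genericPoint P) ≫ g := by
  unfold ffMap
  rw [Spec.map_comp, Category.assoc, Scheme.SpecMap_stalkSpecializes_fromSpecStalk,
    Scheme.SpecMap_stalkMap_fromSpecStalk]

/-- uniqueness of the map of function fields -/
theorem ffMap_unique (g : P ⟶ C) (τ : C.functionField ⟶ P.functionField)
    (h : Spec.map τ ≫ C.fromSpecStalk (genericPoint C) = P.fromSpecStalk (genericPoint P) ≫ g) :
    ∃ hdom : g (genericPoint P) = genericPoint C, τ = ffMap g hdom := by
  have hdom : g (genericPoint P) = genericPoint C := by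
    have h1 := congrArg (fun φ : Spec (P.presheaf.stalk (genericPoint P)) ⟶ C =>
      φ (IsLocalRing.closedPoint (P.presheaf.stalk (genericPoint P)))) h
    simp only [Scheme.Hom.comp_apply] at h1
    rw [Scheme.fromSpecStalk_closedPoint] at h1
    rw [← h1]
    have h2 : Spec.map τ (IsLocalRing.closedPoint (P.presheaf.stalk (genericPoint P))) =
        IsLocalRing.closedPoint (C.presheaf.stalk (genericPoint C)) := by
      haveI : Subsingleton (Spec (C.presheaf.stalk (genericPoint C))) :=
        inferInstanceAs (Subsingleton (PrimeSpectrum C.functionField))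
      exact Subsingleton.elim _ _
    rw [h2, Scheme.fromSpecStalk_closedPoint]
  refine ⟨hdom, ?_⟩
  have h2 := SpecMap_ffMap g hdom
  rw [← h] at h2
  haveI : IsLocalHom τ.hom := by
    show IsLocalHom (τ.hom : C.functionField →+* P.functionField)
    infer_instance
  haveI : IsLocalHom (ffMap g hdom).hom := by
    show IsLocalHom ((ffMap g hdom).hom : C.functionField →+* P.functionField)
    infer_instance
  have h3 : (⟨genericPoint C, ⟨τ, inferInstance⟩⟩ :
      Σ x, { f : C.presheaf.stalk x ⟶ P.presheaf.stalk (genericPoint P) // IsLocalHom f.hom }) =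
      ⟨genericPoint C, ⟨ffMap g hdom, inferInstance⟩⟩ :=
    (SpecToEquivOfLocalRing C (P.presheaf.stalk (genericPoint P))).symm.injective h2.symm
  obtain ⟨h40, h4⟩ := SpecToEquivOfLocalRing_eq_iff.1 h3
  have h5 : τ = (C.presheaf.stalkCongr (Inseparable.of_eq rfl)).hom ≫ ffMap g hdom := h4
  rw [h5]
  simp

end FF

section Ext

/-- a ring endomorphism of the function field of a regular proper curve over `S`, compatible
with the structure morphism, is induced by an endomorphism of the curve -/
theorem exists_hom_of_functionField_hom {S C : Scheme.{u}} [IsIntegral C] [IsLocallyNoetherian C]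
    (p : C ⟶ S) [IsProper p]
    (hreg : ∀ y : C, IsRegularLocalRing (C.presheaf.stalk y))
    (hdim1 : ∀ y : C, ringKrullDim (C.presheaf.stalk y) ≤ 1)
    (τ : C.functionField ⟶ C.functionField)
    (hτ : Spec.map τ ≫ C.fromSpecStalk (genericPoint C) ≫ p =
      C.fromSpecStalk (genericPoint C) ≫ p) :
    ∃ σ : C ⟶ C, σ ≫ p = p ∧
      C.fromSpecStalk (genericPoint C) ≫ σ = Spec.map τ ≫ C.fromSpecStalk (genericPoint C) := by
  set η := genericPoint C with hη
  let φ₀ : Spec (C.presheaf.stalk η) ⟶ C := Spec.map τ ≫ C.fromSpecStalk η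
  have hφ₀ : φ₀ ≫ p = C.fromSpecStalk η ≫ p := by
    show (Spec.map τ ≫ C.fromSpecStalk η) ≫ p = _
    rw [Category.assoc]
    exact hτ
  obtain ⟨U₀, hηU₀, a, ha1, ha2⟩ := spread_out_of_isGermInjective' p p φ₀ hφ₀
  have hd : Dense (U₀ : Set C) := U₀.isOpen.dense ⟨η, hηU₀⟩
  obtain ⟨U, hVU, g', hg', hres, hU⟩ := Groth.Agent.Helper3.DimOneExt.s4440 p p
    (fun y _ => hreg y) U₀ hd a ha2
  have hUtop : U = ⊤ := by
    rw [eq_top_iff]
    intro y _
    exact hU y (hdim1 y)
  subst hUtop
  refine ⟨(Scheme.topIso _).inv ≫ g', ?_, ?_⟩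
  · rw [Category.assoc, hg']
    simp
  · have h1 : U₀.ι ≫ (Scheme.topIso C).inv ≫ g' = a := by
      rw [← hres, ← Category.assoc]
      congr 1
      rw [← cancel_mono (Scheme.topIso C).hom]
      simp
    calc C.fromSpecStalk η ≫ (Scheme.topIso C).inv ≫ g'
        = (U₀.fromSpecStalkOfMem η hηU₀ ≫ U₀.ι) ≫ (Scheme.topIso C).inv ≫ g' := by
          rw [Scheme.Opens.fromSpecStalkOfMem_ι]
      _ = U₀.fromSpecStalkOfMem η hηU₀ ≫ a := by rw [Category.assoc, h1]
      _ = φ₀ := ha1.symm

end Ext

end Groth.Agent.Helper4.SN637
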