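import Mathlib
import Groth.Agent.Helper4.SN635
import Groth.Agent.Helper4.SN637
import Groth.Agent.Helper4.SN469

/-!
# Fibres of an integral morphism onto a normal scheme and involutions
-/

set_option autoImplicit false
set_option linter.unusedSectionVars false
set_option linter.style.haveILetI false
universe u

open CategoryTheory CategoryTheory.Limits AlgebraicGeometry TopologicalSpace Opposite

namespace Groth.Agent.Helper4.SN638

open Groth.Agent.Helper4.SN637

variable {C Y : Scheme.{u}} [IsIntegral C] [IsIntegral Y]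

/-- sections over the preimage of an affine open whose germ comes from the function field of the
normal base come from the base -/
theorem mem_range_app (f : C ⟶ Y) [IsIntegralHom f]
    (hdom : f (genericPoint C) = genericPoint Y)
    (hN : ∀ y : Y, IsIntegrallyClosed (Y.presheaf.stalk y))
    (V : Y.Opens) (hV : IsAffineOpen V) [Nonempty V] [Nonempty (f ⁻¹ᵁ V : C.Opens)]
    (b : Γ(C, f ⁻¹ᵁ V))
    (hb : (C.germToFunctionField (f ⁻¹ᵁ V)).hom b ∈ (ffMap f hdom).hom.range) :
    b ∈ (f.app V).hom.range := by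
  haveI := Groth.Agent.Helper4.SN469.isIntegrallyClosed_sections hN V hV
  haveI := functionField_isFractionRing_of_isAffineOpen Y V hV
  letI : Algebra Y.functionField C.functionField := (ffMap f hdom).hom.toAlgebra
  refine Groth.Agent.Helper4.SN635.mem_range_of_isIntegrallyClosed (A := Γ(Y, V))
    (B := Γ(C, f ⁻¹ᵁ V)) (K := Y.functionField) (L := C.functionField) (f.app V).hom
    (C.germToFunctionField (f ⁻¹ᵁ V)).hom (C.germToFunctionField_injective _) ?_
    (f.isIntegral_app V hV) b hb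
  intro a
  exact (ffMap_germ f hdom V _ a).symm

section Pts

variable (f : C ⟶ Y) [IsIntegralHom f] (hdom : f (genericPoint C) = genericPoint Y)
  (hN : ∀ y : Y, IsIntegrallyClosed (Y.presheaf.stalk y))

include hN in
/-- two points of a fibre are conjugate under an involution of the cover whose invariant
rational functions come from the base -/
theorem eq_or_eq_of_fiber (σ : C ⟶ C) (hσf : σ ≫ f = f) (hσσ : σ ≫ σ = 𝟙 C)
    (hση : σ (genericPoint C) = genericPoint C)
    (hfix : ∀ x : C.functionField, (ffMap σ hση).hom x = x → x ∈ (ffMap f hdom).hom.range)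
    (R R' : C) (hR' : IsClosed ({R'} : Set C)) (hRR' : f R = f R') :
    R' = R ∨ R' = σ R := by
  obtain ⟨_, ⟨V, hV : IsAffineOpen V, rfl⟩, hRV, -⟩ :=
    Y.isBasis_affineOpens.exists_subset_of_mem_open (Set.mem_univ (f R)) isOpen_univ
  set U : C.Opens := f ⁻¹ᵁ V with hUdef
  have hU : IsAffineOpen U := hV.preimage f
  have hRU : R ∈ U := hRV
  have hR'U : R' ∈ U := by show f R' ∈ V; rw [← hRR']; exact hRV
  haveI : Nonempty V := ⟨⟨f R, hRV⟩⟩
  haveI : Nonempty U := ⟨⟨R, hRU⟩⟩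
  have hσx : ∀ x : C, f (σ x) = f x := by
    intro x
    rw [← Scheme.Hom.comp_apply, hσf]
  have hUσ : U ≤ σ ⁻¹ᵁ U := by
    intro x hx
    show f (σ x) ∈ V
    rw [hσx]
    exact hx
  -- the ring maps
  let φ : Γ(Y, V) →+* Γ(C, U) := (f.appLE V U le_rfl).hom
  let σB : Γ(C, U) →+* Γ(C, U) := (σ.appLE U U hUσ).hom
  have hφ : φ = (f.app V).hom := by
    show (f.appLE V U le_rfl).hom = _
    rw [Scheme.Hom.appLE_eq_app]
  have hσB : ∀ b, σB (σB b) = b := by
    intro b
    have h1 : σ.appLE U U hUσ ≫ σ.appLE U U hUσ = 𝟙 _ := by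
      rw [Scheme.Hom.appLE_comp_appLE]
      have : ∀ (g : C ⟶ C) (hg : g = 𝟙 C) (e : U ≤ g ⁻¹ᵁ U), g.appLE U U e = 𝟙 _ := by
        rintro g rfl e
        simp only [Scheme.Hom.appLE, Scheme.Hom.id_app]
        exact C.presheaf.map_id _
      exact this _ hσσ _
    exact congrArg (fun ψ => ψ.hom b) h1
  have hgermσ : ∀ b : Γ(C, U), (C.germToFunctionField U).hom (σB b) =
      (ffMap σ hση).hom ((C.germToFunctionField U).hom b) := by
    intro b
    rw [ffMap_germ σ hση U _ b]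
    show (C.presheaf.germ U (genericPoint C) _).hom ((σ.appLE U U hUσ).hom b) = _
    unfold Scheme.Hom.appLE
    erw [TopCat.Presheaf.germ_res_apply]
    rfl
  have hfixB : ∀ b, σB b = b → b ∈ φ.range := by
    intro b hb
    rw [hφ]
    apply mem_range_app f hdom hN V hV b
    apply hfix
    rw [← hgermσ, hb]
  -- the primes
  let 𝔭 : Ideal Γ(C, U) := (hU.primeIdealOf ⟨R, hRU⟩).asIdeal
  let 𝔮 : Ideal Γ(C, U) := (hU.primeIdealOf ⟨R', hR'U⟩).asIdeal
  haveI h𝔭 : 𝔭.IsPrime := (hU.primeIdealOf ⟨R, hRU⟩).isPrime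
  haveI h𝔮 : 𝔮.IsMaximal := hU.primeIdealOf_isMaximal_of_isClosed ⟨R', hR'U⟩ hR'
  have hcomap : ∀ (x : C) (hx : x ∈ U), (hU.primeIdealOf ⟨x, hx⟩).asIdeal.comap φ =
      (hV.primeIdealOf ⟨f x, hx⟩).asIdeal := by
    intro x hx
    have := IsAffineOpen.comap_primeIdealOf_appLE (f := f) V hV U hU le_rfl hx
    exact congrArg PrimeSpectrum.asIdeal this
  have hcomapσ : ∀ (x : C) (hx : x ∈ U), (hU.primeIdealOf ⟨x, hx⟩).asIdeal.comap σB =
      (hU.primeIdealOf ⟨σ x, hUσ hx⟩).asIdeal := by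
    intro x hx
    have := IsAffineOpen.comap_primeIdealOf_appLE (f := σ) U hU U hU hUσ hx
    exact congrArg PrimeSpectrum.asIdeal this
  have hinj : ∀ (x x' : C) (hx : x ∈ U) (hx' : x' ∈ U),
      (hU.primeIdealOf ⟨x', hx'⟩).asIdeal = (hU.primeIdealOf ⟨x, hx⟩).asIdeal → x' = x := by
    intro x x' hx hx' h
    have h1 : hU.primeIdealOf ⟨x', hx'⟩ = hU.primeIdealOf ⟨x, hx⟩ := PrimeSpectrum.ext h
    have h2 := congrArg (fun z => hU.fromSpec z) h1
    simp only [IsAffineOpen.fromSpec_primeIdealOf] at h2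
    exact h2
  have hpq : 𝔭.comap φ = 𝔮.comap φ := by
    rw [hcomap R hRU, hcomap R' hR'U]
    congr 2
    exact Subtype.ext hRR'
  rcases Groth.Agent.Helper4.SN635.eq_or_eq_comap_of_involution φ σB hσB hfixB 𝔭 𝔮 hpq with h | h
  · exact Or.inl (hinj R R' hRU hR'U h)
  · right
    rw [hcomapσ R hRU] at h
    exact hinj (σ R) R' (hUσ hRU) hR'U h

include hN in
/-- if a power of every rational function of the cover comes from the base, the fibres are
singletons -/
theorem eq_of_fiber_of_pow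
    (hpow : ∀ x : C.functionField, ∃ n : ℕ, 0 < n ∧ x ^ n ∈ (ffMap f hdom).hom.range)
    (R R' : C) (hRR' : f R = f R') : R = R' := by
  obtain ⟨_, ⟨V, hV : IsAffineOpen V, rfl⟩, hRV, -⟩ :=
    Y.isBasis_affineOpens.exists_subset_of_mem_open (Set.mem_univ (f R)) isOpen_univ
  set U : C.Opens := f ⁻¹ᵁ V with hUdef
  have hU : IsAffineOpen U := hV.preimage f
  have hRU : R ∈ U := hRV
  have hR'U : R' ∈ U := by show f R' ∈ V; rw [← hRR']; exact hRV
  haveI : Nonempty V := ⟨⟨f R, hRV⟩⟩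
  haveI : Nonempty U := ⟨⟨R, hRU⟩⟩
  let φ : Γ(Y, V) →+* Γ(C, U) := (f.appLE V U le_rfl).hom
  have hφ : φ = (f.app V).hom := by
    show (f.appLE V U le_rfl).hom = _
    rw [Scheme.Hom.appLE_eq_app]
  let 𝔭 : Ideal Γ(C, U) := (hU.primeIdealOf ⟨R, hRU⟩).asIdeal
  let 𝔮 : Ideal Γ(C, U) := (hU.primeIdealOf ⟨R', hR'U⟩).asIdeal
  haveI h𝔭 : 𝔭.IsPrime := (hU.primeIdealOf ⟨R, hRU⟩).isPrime
  haveI h𝔮 : 𝔮.IsPrime := (hU.primeIdealOf ⟨R', hR'U⟩).isPrime
  have hcomap : ∀ (x : C) (hx : x ∈ U), (hU.primeIdealOf ⟨x, hx⟩).asIdeal.comap φ =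
      (hV.primeIdealOf ⟨f x, hx⟩).asIdeal := by
    intro x hx
    have := IsAffineOpen.comap_primeIdealOf_appLE (f := f) V hV U hU le_rfl hx
    exact congrArg PrimeSpectrum.asIdeal this
  have hpq : 𝔭.comap φ = 𝔮.comap φ := by
    rw [hcomap R hRU, hcomap R' hR'U]
    congr 2
    exact Subtype.ext hRR'
  letI : Algebra Y.functionField C.functionField := (ffMap f hdom).hom.toAlgebra
  have h := Groth.Agent.Helper4.SN635.eq_of_pow_mem (K := Y.functionField) (L := C.functionField)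
    φ (C.germToFunctionField U).hom
    (fun b hb => by rw [hφ]; exact mem_range_app f hdom hN V hV b hb) hpow 𝔭 𝔮 hpq
  have h1 : hU.primeIdealOf ⟨R, hRU⟩ = hU.primeIdealOf ⟨R', hR'U⟩ := PrimeSpectrum.ext h
  have h2 := congrArg (fun z => hU.fromSpec z) h1
  simp only [IsAffineOpen.fromSpec_primeIdealOf] at h2
  exact h2

end Pts

end Groth.Agent.Helper4.SN638
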