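import Mathlib
import Groth.Agent.Helper4.SN638

/-!
# The involution of a separable double cover of a normal scheme by a regular proper curve
-/

set_option autoImplicit false
set_option linter.unusedSectionVars false
set_option linter.style.haveILetI false
universe u

open CategoryTheory CategoryTheory.Limits AlgebraicGeometry TopologicalSpace Opposite

namespace Groth.Agent.Helper4.SN639

open Groth.Agent.Helper4.SN637 Groth.Agent.Helper4.SN638

theorem isDominant_fromSpecStalk_genericPoint (C : Scheme.{u}) [IsIntegral C] :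
    IsDominant (C.fromSpecStalk (genericPoint C)) := by
  refine ⟨?_⟩
  have h1 : Dense ({genericPoint C} : Set C) := by
    rw [dense_iff_closure_eq]
    exact (genericPoint_spec C)
  refine h1.mono ?_
  rintro _ rfl
  exact ⟨IsLocalRing.closedPoint _, Scheme.fromSpecStalk_closedPoint⟩

variable {S C Y : Scheme.{u}} [IsIntegral C] [IsIntegral Y] [IsLocallyNoetherian C]

/-- **the involution of a separable double cover** -/
theorem exists_involution_of_double_cover
    (p : C ⟶ S) [IsProper p] (q : Y ⟶ S) [IsSeparated q]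
    (hreg : ∀ y : C, IsRegularLocalRing (C.presheaf.stalk y))
    (hdim1 : ∀ y : C, ringKrullDim (C.presheaf.stalk y) ≤ 1)
    (hN : ∀ y : Y, IsIntegrallyClosed (Y.presheaf.stalk y))
    (f : C ⟶ Y) [IsIntegralHom f] (hf : f ≫ q = p)
    (hdom : f (genericPoint C) = genericPoint Y)
    (h2 : @Module.finrank Y.functionField C.functionField _ _
      (ffMap f hdom).hom.toAlgebra.toModule = 2)
    (hsep : @Algebra.IsSeparable Y.functionField C.functionField _ _
      (ffMap f hdom).hom.toAlgebra) :
    ∃ σ : C ≅ C, σ.hom ≫ p = p ∧ σ.hom ≫ σ.hom = 𝟙 C ∧ σ.hom ≫ f = f ∧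
      ∀ (R R' : C), IsClosed ({R'} : Set C) → f R = f R' → R' = R ∨ R' = σ.hom R := by
  letI alg : Algebra Y.functionField C.functionField := (ffMap f hdom).hom.toAlgebra
  haveI := hsep
  obtain ⟨σK, -, hσσ, hfix⟩ := Groth.Agent.Helper4.SN635.exists_involution
    (K := Y.functionField) (L := C.functionField) h2
  let τ : C.functionField ⟶ C.functionField := CommRingCat.ofHom (σK : C.functionField →+* C.functionField)
  have hfτ : ffMap f hdom ≫ τ = ffMap f hdom := by
    ext x
    show σK ((ffMap f hdom).hom x) = (ffMap f hdom).hom x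
    exact σK.commutes x
  have hττ : τ ≫ τ = 𝟙 _ := by
    ext x
    show σK (σK x) = x
    exact hσσ x
  set η := genericPoint C with hη
  have hbase : C.fromSpecStalk η ≫ f = Spec.map (ffMap f hdom) ≫ Y.fromSpecStalk (genericPoint Y) :=
    (SpecMap_ffMap f hdom).symm
  have hτf : Spec.map τ ≫ C.fromSpecStalk η ≫ f = C.fromSpecStalk η ≫ f := by
    rw [hbase, ← Category.assoc, ← Spec.map_comp, hfτ]
  have hτ : Spec.map τ ≫ C.fromSpecStalk η ≫ p = C.fromSpecStalk η ≫ p := by
    rw [← hf, ← Category.assoc (C.fromSpecStalk η), ← Category.assoc (Spec.map τ), hτf]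
  obtain ⟨σ₀, hσp, hσg⟩ := exists_hom_of_functionField_hom p hreg hdim1 τ hτ
  obtain ⟨hση, hτσ⟩ := ffMap_unique σ₀ τ hσg.symm
  haveI := isDominant_fromSpecStalk_genericPoint C
  haveI : IsSeparated p := inferInstance
  have hσf : σ₀ ≫ f = f := by
    apply ext_of_isDominant_of_isSeparated q (by rw [Category.assoc, hf, hσp]) (C.fromSpecStalk η)
    rw [← Category.assoc, hσg, Category.assoc, hτf]
  have hσσ' : σ₀ ≫ σ₀ = 𝟙 C := by
    apply ext_of_isDominant_of_isSeparated p (by rw [Category.assoc, hσp, hσp, Category.id_comp])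
      (C.fromSpecStalk η)
    rw [← Category.assoc, hσg, Category.assoc, hσg, ← Category.assoc, ← Spec.map_comp, hττ,
      Spec.map_id, Category.id_comp, Category.comp_id]
  refine ⟨⟨σ₀, σ₀, hσσ', hσσ'⟩, hσp, hσσ', hσf, ?_⟩
  intro R R' hR' hRR'
  refine eq_or_eq_of_fiber f hdom hN σ₀ hσf hσσ' hση ?_ R R' hR' hRR'
  intro x hx
  rw [← hτσ] at hx
  exact hfix x hx

/-- an inseparable double cover is injective -/
theorem eq_of_fiber_of_not_isSeparable
    (hN : ∀ y : Y, IsIntegrallyClosed (Y.presheaf.stalk y))
    (f : C ⟶ Y) [IsIntegralHom f]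
    (hdom : f (genericPoint C) = genericPoint Y)
    (h2 : @Module.finrank Y.functionField C.functionField _ _
      (ffMap f hdom).hom.toAlgebra.toModule = 2)
    (hsep : ¬ @Algebra.IsSeparable Y.functionField C.functionField _ _
      (ffMap f hdom).hom.toAlgebra)
    (R R' : C) (hRR' : f R = f R') : R = R' := by
  letI alg : Algebra Y.functionField C.functionField := (ffMap f hdom).hom.toAlgebra
  have hpow := Groth.Agent.Helper4.SN635.exists_pow_mem_range_of_not_isSeparable
    (K := Y.functionField) (L := C.functionField) h2 hsep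
  exact eq_of_fiber_of_pow f hdom hN hpow R R' hRR'

end Groth.Agent.Helper4.SN639
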