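import Mathlib
import Groth.Agent.Helper4.SN139
import Groth.Agent.Helper4.SN187
import Groth.Agent.Helper4.SN103
import Groth.Agent.Helper4.SN104
import Groth.Agent.Lead.InvDualA

/-!
# The invertible module `O(x)` of a closed point of a curve, with its canonical section
-/

set_option autoImplicit false
set_option linter.unusedSectionVars false
set_option linter.style.haveILetI false
universe u

open CategoryTheory CategoryTheory.Limits AlgebraicGeometry TopologicalSpace Opposite

namespace Groth.Agent.Helper4.SN640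

open Groth.Agent.Helper4.SN Groth.Agent.Helper4.StalkDict

attribute [local instance] Curv2.resAlgebra

variable (k : Type u) [Field k] {X : Scheme.{u}} [X.Over (Spec (CommRingCat.of k))]
  [IsIntegral X] [IsProper (X ↘ (Spec (CommRingCat.of k)))]

/-- `O(x)` and its section vanishing exactly at `x` -/
theorem exists_point_section (hdim : topologicalKrullDim X = 1) (x : X)
    (hx : IsClosed ({x} : Set X)) (hn : IsIntegrallyClosed (X.presheaf.stalk x)) :
    ∃ (N : X.Modules) (t : Coh.structureModule X ⟶ N), PicF.IsInvertible N ∧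
      Curv2.deg k X N 1 = (Module.finrank k (X.residueField x) : ℤ) ∧
      Nonempty (CohB1.tensorMod N (ClSub.idealMod
        (Scheme.IdealSheafData.vanishingIdeal ⟨{x}, hx⟩)) ≅ Coh.structureModule X) ∧
      ∀ y : X, y ∈ CohB1.genLocus N t ↔ y ≠ x := by
  haveI := Groth.Agent.Helper4.NApx82.isNoetherian_of_proper k X
  obtain ⟨hI, hdegI⟩ := ideal_point_of_normal k hdim x hx hn
  obtain ⟨N, hN, ⟨e⟩, -⟩ := Groth.Agent.Lead.InvDual.exists_inverse _ hI
  have hdegN : Curv2.deg k X N 1 = (Module.finrank k (X.residueField x) : ℤ) := by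
    rw [deg_inverse k hdim.le _ N hI hN e, hdegI, neg_neg]
  let j := ClSub.idealModι (Scheme.IdealSheafData.vanishingIdeal ⟨{x}, hx⟩)
  let t : Coh.structureModule X ⟶ N :=
    e.inv ≫ KoszTw.tensorMap (𝟙 N) j ≫ (SecTwist.unitorR N).hom
  have hsurj : ∀ y : X, y ≠ x → Function.Surjective (stalkLin t y) := by
    intro y hy
    have h1 := stalkLin_tensorMap_surjective (𝟙 N) j y (stalkLin_id_surjective N y)
      (stalkLin_idealModι_surjective x hx y hy)
    have h2 := (Groth.Agent.Helper1.Dev.stalkLin_bijective_of_isIso e.inv y).2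
    have h3 := (Groth.Agent.Helper1.Dev.stalkLin_bijective_of_isIso (SecTwist.unitorR N).hom y).2
    intro z
    obtain ⟨a, ha⟩ := h3 z
    obtain ⟨b, hb⟩ := h1 a
    obtain ⟨c, hc⟩ := h2 b
    refine ⟨c, ?_⟩
    show stalkLin (e.inv ≫ KoszTw.tensorMap (𝟙 N) j ≫ (SecTwist.unitorR N).hom) y c = z
    rw [Groth.Agent.Lead.StalkNhd.stalkLin_comp, Groth.Agent.Lead.StalkNhd.stalkLin_comp, hc, hb, ha]
  have hmem : ∀ y : X, y ≠ x → y ∈ CohB1.genLocus N t := fun y hy =>
    mem_genLocus_of_stalkLin_surjective hN t y (hsurj y hy)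
  refine ⟨N, t, hN, hdegN, ⟨e⟩, fun y => ⟨?_, hmem y⟩⟩
  rintro hy rfl
  have htop : CohB1.genLocus N t = ⊤ := by
    rw [eq_top_iff]
    intro z _
    by_cases hz : z = y
    · rw [hz]; exact hy
    · exact hmem z hz
  haveI := Groth.Agent.Helper4.GenLocIso.isIso_of_genLocus_eq_top N t htop
  have h0 : Curv2.deg k X N 1 = 0 := by
    rw [← deg_iso k (asIso t) 1, Groth.Agent.Helper4.NApx82.deg_structureModule k X]
  have hpos := finrank_residueField_pos k y hx
  rw [hdegN] at h0
  omega

end Groth.Agent.Helper4.SN640
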