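import Mathlib
import Groth.Agent.Helper4.SN640
import Groth.Agent.Helper4.SN637
import Groth.Agent.Helper4.SN633
import Groth.Agent.Helper4.SN85
import Groth.Agent.Helper4.SN81
import Groth.Agent.Helper4.SN52
import Groth.Agent.Helper4.SN53
import Groth.Agent.Helper4.GGSec
import Groth.Agent.Helper4.AmpleFinite
import Groth.Agent.Helper4.TensorGen

/-!
# Double covers of the projective line by a curve of genus one with a prescribed fibre
-/

set_option autoImplicit false
set_option linter.unusedSectionVars false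
set_option linter.style.haveILetI false
universe u

open CategoryTheory CategoryTheory.Limits AlgebraicGeometry TopologicalSpace Opposite

namespace Groth.Agent.Helper4.SN641

open Groth.Agent.Helper4.SN Groth.Agent.Helper4.SN637 Groth.Agent.Helper4.SN632
  Groth.Agent.Helper4.SN633

section ResDeg

theorem residue_bijective_of_isField (R : Type*) [CommRing R] [IsLocalRing R] (h : IsField R) :
    Function.Bijective (IsLocalRing.residue R) := by
  refine ⟨?_, Ideal.Quotient.mk_surjective⟩
  rw [injective_iff_map_eq_zero]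
  intro a ha
  have h1 : a ∈ IsLocalRing.maximalIdeal R := by
    rwa [← Ideal.Quotient.eq_zero_iff_mem]
  rw [IsLocalRing.isField_iff_maximalIdeal_eq.1 h] at h1
  exact h1

variable {C Y : Scheme.{u}} [IsIntegral C] [IsIntegral Y]

/-- the degree of the function field extension is the residue degree at the generic point -/
theorem finrank_ffMap (f : C ⟶ Y) (hdom : f (genericPoint C) = genericPoint Y) :
    @Module.finrank Y.functionField C.functionField _ _
      (ffMap f hdom).hom.toAlgebra.toModule = EGA4loc.residueDegree f (genericPoint C) := by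
  unfold EGA4loc.residueDegree
  letI a1 : Algebra Y.functionField C.functionField := (ffMap f hdom).hom.toAlgebra
  letI a2 : Algebra (Y.residueField (f (genericPoint C))) (C.residueField (genericPoint C)) :=
    (f.residueFieldMap (genericPoint C)).hom.toAlgebra
  have hfC : IsField (C.presheaf.stalk (genericPoint C)) := Field.toIsField C.functionField
  have hiso : IsIso (Y.presheaf.stalkSpecializes (specializes_of_eq hdom)) := by
    have : Y.presheaf.stalkSpecializes (specializes_of_eq hdom) =
        (Y.presheaf.stalkCongr (Inseparable.of_eq hdom.symm)).hom := by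
      simp [TopCat.Presheaf.stalkCongr]
    rw [this]
    infer_instance
  let e0 : Y.functionField ≃+* Y.presheaf.stalk (f (genericPoint C)) :=
    (asIso (Y.presheaf.stalkSpecializes (specializes_of_eq hdom))).commRingCatIsoToRingEquiv
  have hfY : IsField (Y.presheaf.stalk (f (genericPoint C))) :=
    MulEquiv.isField (Field.toIsField Y.functionField) e0.symm.toMulEquiv
  let i : Y.functionField ≃+* Y.residueField (f (genericPoint C)) :=
    e0.trans (RingEquiv.ofBijective (IsLocalRing.residue (Y.presheaf.stalk (f (genericPoint C))))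
      (residue_bijective_of_isField _ hfY))
  let j : C.functionField ≃+* C.residueField (genericPoint C) :=
    RingEquiv.ofBijective (IsLocalRing.residue (C.presheaf.stalk (genericPoint C)))
      (residue_bijective_of_isField _ hfC)
  refine Algebra.finrank_eq_of_equiv_equiv i j ?_
  ext x
  show (f.residueFieldMap (genericPoint C)).hom
      (IsLocalRing.residue _ ((Y.presheaf.stalkSpecializes (specializes_of_eq hdom)).hom x)) =
    IsLocalRing.residue _ ((ffMap f hdom).hom x)
  have h := congrArg (fun φ : Y.presheaf.stalk (f (genericPoint C)) ⟶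
      C.residueField (genericPoint C) =>
      φ.hom ((Y.presheaf.stalkSpecializes (specializes_of_eq hdom)).hom x))
    (Scheme.residue_residueFieldMap f (genericPoint C))
  exact h

end ResDeg

section Pencil

attribute [local instance] Curv2.resAlgebra

variable (k : Type u) [Field k] [IsAlgClosed k] {C : Scheme.{u}} [C.Over (Spec (CommRingCat.of k))]
  [IsIntegral C] [IsProper (C ↘ (Spec (CommRingCat.of k)))]

/-- on a curve of genus one, for closed points `P`, `Q` there is a double cover of the projective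
line one of whose fibres is `{P, Q}` -/
theorem exists_double_cover (hdim : topologicalKrullDim C = 1)
    (hreg : ∀ x : C, IsRegularLocalRing (C.presheaf.stalk x)) (hg : Curv2.genus k C = 1)
    (P Q : C) (hP : IsClosed ({P} : Set C)) (hQ : IsClosed ({Q} : Set C)) :
    ∃ (NP NQ : C.Modules) (f : C ⟶ CohB1.ProjSpace 1 k),
      PicF.IsInvertible NP ∧ PicF.IsInvertible NQ ∧
      Nonempty (CohB1.tensorMod NP (ClSub.idealMod
        (Scheme.IdealSheafData.vanishingIdeal ⟨{P}, hP⟩)) ≅ Coh.structureModule C) ∧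
      Nonempty (CohB1.tensorMod NQ (ClSub.idealMod
        (Scheme.IdealSheafData.vanishingIdeal ⟨{Q}, hQ⟩)) ≅ Coh.structureModule C) ∧
      f ≫ CohB1.ProjSpace.toSpec 1 k = C ↘ Spec (CommRingCat.of k) ∧
      Nonempty ((Scheme.Modules.pullback f).obj (Twist.twistProjSpace 1 k 1) ≅
        CohB1.tensorMod NP NQ) ∧
      f (genericPoint C) = genericPoint (CohB1.ProjSpace 1 k) ∧
      EGA4loc.residueDegree f (genericPoint C) = 2 ∧
      ∀ x : C, f x ∉ Proj.basicOpen (CohB1.polyGrading 1 k)
        (MvPolynomial.X 0 : MvPolynomial (Fin 2) k) ↔ (x = P ∨ x = Q) := by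
  haveI := Groth.Agent.Helper4.NApx82.isNoetherian_of_proper k C
  have hnorm : ∀ x : C, IsIntegrallyClosed (C.presheaf.stalk x) := fun x =>
    haveI := hreg x
    Groth.Agent.Helper4.RegNormal.isIntegrallyClosed_of_isRegularLocalRing _
  obtain ⟨NP, tP, hNP, hdP, heP, hlocP⟩ :=
    Groth.Agent.Helper4.SN640.exists_point_section k hdim P hP (hnorm P)
  obtain ⟨NQ, tQ, hNQ, hdQ, heQ, hlocQ⟩ :=
    Groth.Agent.Helper4.SN640.exists_point_section k hdim Q hQ (hnorm Q)
  rw [finrank_residueField_eq_one k P hP] at hdP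
  rw [finrank_residueField_eq_one k Q hQ] at hdQ
  set L := CohB1.tensorMod NP NQ with hLdef
  have hL : PicF.IsInvertible L := Groth.Agent.Helper4.TensorInv.isInvertible_tensorMod hNP hNQ
  have hdL : Curv2.deg k C L 1 = 2 := by
    have h := main7637 k hdim.le 1 1 NP NQ
      (Groth.Agent.Helper4.QAffSec.isFinLocFreeOfRank_one_of_isInvertible NP hNP)
      (Groth.Agent.Helper4.QAffSec.isFinLocFreeOfRank_one_of_isInvertible NQ hNQ)
    rw [Nat.mul_one, hdP, hdQ] at h
    rw [hLdef, h]
    norm_num
  have h0 := finrank_h0_unit_of_isAlgClosed k (X := C)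
  have hgg : Curv2.IsGloballyGenerated L := main1533 k hdim h0 L hL (by rw [hg, hdL]; norm_num)
  let s₀ : Coh.structureModule C ⟶ L := SecTwist.tmulHom tP tQ
  have hloc0 : ∀ x : C, x ∈ CohB1.genLocus L s₀ ↔ (x ≠ P ∧ x ≠ Q) := by
    intro x
    have := Groth.Agent.Helper4.TensorGen.genLocus_tmulHom NP NQ hNP hNQ tP tQ
    show x ∈ CohB1.genLocus (CohB1.tensorMod NP NQ) (SecTwist.tmulHom tP tQ) ↔ _
    rw [this]
    exact and_congr (hlocP x) (hlocQ x)
  -- a second section generating at `P` and `Q`
  obtain ⟨s₁, hs₁P, hs₁Q⟩ : ∃ s₁ : Coh.structureModule C ⟶ L,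
      P ∈ CohB1.genLocus L s₁ ∧ Q ∈ CohB1.genLocus L s₁ := by
    obtain ⟨uP, huP⟩ := Groth.Agent.Helper4.GGSec.exists_mem_genLocus_of_isGloballyGenerated L hL hgg P
    obtain ⟨uQ, huQ⟩ := Groth.Agent.Helper4.GGSec.exists_mem_genLocus_of_isGloballyGenerated L hL hgg Q
    by_cases h1 : Q ∈ CohB1.genLocus L uP
    · exact ⟨uP, huP, h1⟩
    by_cases h2 : P ∈ CohB1.genLocus L uQ
    · exact ⟨uQ, h2, huQ⟩
    refine ⟨uP + uQ, ?_, ?_⟩
    · exact Groth.Agent.Helper4.AmpleFinite.mem_genLocus_add hL uP uQ P huP h2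
    · rw [add_comm]
      exact Groth.Agent.Helper4.AmpleFinite.mem_genLocus_add hL uQ uP Q huQ h1
  let σ : Fin (1 + 1) → (Coh.structureModule C ⟶ L) := ![s₀, s₁]
  have hcov : ⨆ e, CohB1.genLocus L (σ e) = ⊤ := by
    rw [eq_top_iff]
    intro x _
    rw [Opens.mem_iSup]
    by_cases hxP : x = P
    · exact ⟨1, by rw [hxP]; exact hs₁P⟩
    by_cases hxQ : x = Q
    · exact ⟨1, by rw [hxQ]; exact hs₁Q⟩
    exact ⟨0, (hloc0 x).mpr ⟨hxP, hxQ⟩⟩
  obtain ⟨f, hf, ⟨τ⟩, hloc⟩ := exists_to_projSpace_of_cover' 1 (C ↘ Spec (CommRingCat.of k)) σ hcov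
  have hfib : ∀ x : C, f x ∉ Proj.basicOpen (CohB1.polyGrading 1 k)
      (MvPolynomial.X 0 : MvPolynomial (Fin 2) k) ↔ (x = P ∨ x = Q) := by
    intro x
    have h1 : x ∈ CohB1.genLocus L (σ 0) ↔ f x ∈ Proj.basicOpen (CohB1.polyGrading 1 k)
        (MvPolynomial.X 0 : MvPolynomial (Fin 2) k) := by
      rw [hloc 0]
      rfl
    rw [← h1]
    have h2 : σ 0 = s₀ := rfl
    rw [h2, hloc0 x]
    tauto
  -- the generic point
  have hηP : genericPoint C ≠ P := ne_genericPoint_of_isClosed hdim P hP |>.symm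
  have hηQ : genericPoint C ≠ Q := ne_genericPoint_of_isClosed hdim Q hQ |>.symm
  have hnc : ¬ ∃ p : CohB1.ProjSpace 1 k, IsClosed ({p} : Set (CohB1.ProjSpace 1 k)) ∧
      Set.range f ⊆ {p} := by
    rintro ⟨p, -, hp⟩
    have h1 : f P = p := hp ⟨P, rfl⟩
    have h2 : f (genericPoint C) = p := hp ⟨genericPoint C, rfl⟩
    have h3 := (hfib P).mpr (Or.inl rfl)
    have h4 := (hfib (genericPoint C)).not.mpr (by push Not; exact ⟨hηP, hηQ⟩)
    rw [h1] at h3
    rw [h2] at h4
    exact h4 h3
  have hξ := map_genericPoint_P1 k f hnc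
  have hO1 : PicF.IsInvertible (Twist.twistProjSpace 1 k 1) :=
    Groth.Agent.Helper1.SerreVan.isInvertible_twist 1 k 1
  have hd := main7640 k hdim (dim_P1 k) f hf hξ 1 (Twist.twistProjSpace 1 k 1)
    (Groth.Agent.Helper4.QAffSec.isFinLocFreeOfRank_one_of_isInvertible _ hO1)
  have τ' : (Scheme.Modules.pullback f).obj (Twist.twistProjSpace 1 k 1) ≅ L := τ
  rw [deg_twist_one_P1, mul_one, deg_iso k τ' 1, hdL] at hd
  have hd' : EGA4loc.residueDegree f (genericPoint C) = 2 := by exact_mod_cast hd.symm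
  exact ⟨NP, NQ, f, hNP, hNQ, heP, heQ, hf, ⟨τ'⟩, hξ, hd', hfib⟩

end Pencil

end Groth.Agent.Helper4.SN641
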