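import Mathlib
import Groth.Agent.Helper4.SN641
import Groth.Agent.Helper4.SN639
import Groth.Agent.Helper4.SN636
import Groth.Agent.Helper4.SN96
import Groth.Agent.Helper4.SN40
import Groth.Agent.Helper5.DimIneq2
import Groth.Prelude.Def_Curve

/-!
# Automorphisms of curves of genus one
-/

set_option autoImplicit false
set_option linter.unusedSectionVars false
set_option linter.style.haveILetI false
universe u

open CategoryTheory CategoryTheory.Limits AlgebraicGeometry TopologicalSpace Opposite

namespace Groth.Agent.Helper4.SN642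

open Groth.Agent.Helper4.SN Groth.Agent.Helper4.SN637 Groth.Agent.Helper4.SN632
  Groth.Agent.Helper4.SN633 Groth.Agent.Helper4.SN641

variable (k : Type u) [Field k] [IsAlgClosed k] {C : Scheme.{u}} [C.Over (Spec (CommRingCat.of k))]
  [IsIntegral C] [IsProper (C ↘ (Spec (CommRingCat.of k)))]

/-- on a curve of genus one over an algebraically closed field, two distinct closed points are
exchanged by an involution -/
theorem exists_involution_swap (hdim : topologicalKrullDim C = 1)
    (hreg : ∀ x : C, IsRegularLocalRing (C.presheaf.stalk x)) (hg : Curv2.genus k C = 1)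
    (P Q : C) (hP : IsClosed ({P} : Set C)) (hQ : IsClosed ({Q} : Set C)) (hPQ : P ≠ Q) :
    ∃ σ : C ≅ C, σ.hom ≫ (C ↘ Spec (CommRingCat.of k)) = (C ↘ Spec (CommRingCat.of k)) ∧
      σ.hom ≫ σ.hom = 𝟙 C ∧ σ.hom P = Q := by
  haveI := Groth.Agent.Helper4.NApx82.isNoetherian_of_proper k C
  obtain ⟨NP, NQ, f, -, -, -, -, hf, -, hξ, hd, hfib⟩ :=
    exists_double_cover k hdim hreg hg P Q hP hQ
  haveI : IsProper (CohB1.ProjSpace.toSpec 1 k) := Groth.Agent.Helper6.HProj.isProper_toSpec 1 k
  haveI : IsFinite f := isFinite_of_nonconstant k hdim (dim_P1 k) f hf hξ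
  have hdim1 : ∀ y : C, ringKrullDim (C.presheaf.stalk y) ≤ 1 := by
    intro y
    have := Groth.Agent.Helper5.DimIneq.ringKrullDim_stalk_le_dim C y
    rw [hdim] at this
    exact this
  have hN : ∀ y : CohB1.ProjSpace 1 k,
      IsIntegrallyClosed ((CohB1.ProjSpace 1 k).presheaf.stalk y) :=
    fun y => isIntegrallyClosed_stalk_P1 k y
  have h2 : @Module.finrank (CohB1.ProjSpace 1 k).functionField C.functionField _ _
      (ffMap f hξ).hom.toAlgebra.toModule = 2 := by
    rw [finrank_ffMap f hξ, hd]
  have hfPQ : f P = f Q := by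
    have h1 := (hfib P).mpr (Or.inl rfl)
    have h2 := (hfib Q).mpr (Or.inr rfl)
    exact Groth.Agent.Helper4.SN636.eq_of_notMem_basicOpen k 0 (f P) (f Q) h1 h2
  by_cases hsep : @Algebra.IsSeparable (CohB1.ProjSpace 1 k).functionField C.functionField _ _
      (ffMap f hξ).hom.toAlgebra
  · obtain ⟨σ, hσp, hσσ, -, hσfib⟩ :=
      Groth.Agent.Helper4.SN639.exists_involution_of_double_cover
        (C ↘ Spec (CommRingCat.of k)) (CohB1.ProjSpace.toSpec 1 k) hreg hdim1 hN f hf hξ h2 hsep
    refine ⟨σ, hσp, hσσ, ?_⟩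
    rcases hσfib P Q hQ hfPQ with h | h
    · exact absurd h.symm hPQ
    · exact h.symm
  · exact absurd (Groth.Agent.Helper4.SN639.eq_of_fiber_of_not_isSeparable hN f hξ h2 hsep P Q hfPQ)
      hPQ

include k in
/-- a curve has infinitely many closed points -/
theorem infinite_closedPoints (hdim : topologicalKrullDim C = 1) :
    {Q : C | IsClosed ({Q} : Set C)}.Infinite := by
  intro hfin
  haveI : JacobsonSpace C := LocallyOfFiniteType.jacobsonSpace (C ↘ Spec (CommRingCat.of k))
  have hcl : IsClosed {Q : C | IsClosed ({Q} : Set C)} := by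
    have : {Q : C | IsClosed ({Q} : Set C)} = ⋃ Q ∈ {Q : C | IsClosed ({Q} : Set C)}, {Q} := by
      ext z
      simp
    rw [this]
    exact hfin.isClosed_biUnion (fun Q hQ => hQ)
  have h1 : closure (closedPoints C) = Set.univ := closure_closedPoints
  have h2 : closedPoints C = {Q : C | IsClosed ({Q} : Set C)} := rfl
  rw [h2, hcl.closure_eq] at h1
  have h3 : genericPoint C ∈ {Q : C | IsClosed ({Q} : Set C)} := by rw [h1]; trivial
  exact ne_genericPoint_of_isClosed hdim (genericPoint C) h3 rfl

/-- **a curve of genus one over an algebraically closed field has infinitely many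
automorphisms** -/
theorem infinite_aut (hdim : topologicalKrullDim C = 1)
    (hreg : ∀ x : C, IsRegularLocalRing (C.presheaf.stalk x)) (hg : Curv2.genus k C = 1) :
    Infinite {e : C ≅ C // e.hom ≫ (C ↘ Spec (CommRingCat.of k)) =
      (C ↘ Spec (CommRingCat.of k))} := by
  have hinf := infinite_closedPoints k hdim
  obtain ⟨P, hP⟩ := hinf.nonempty
  have hinf' : ({Q : C | IsClosed ({Q} : Set C)} \ {P}).Infinite := hinf.diff (Set.finite_singleton P)
  haveI : Infinite ↥({Q : C | IsClosed ({Q} : Set C)} \ {P}) := hinf'.to_subtype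
  have key : ∀ Q : ↥({Q : C | IsClosed ({Q} : Set C)} \ {P}),
      ∃ σ : {e : C ≅ C // e.hom ≫ (C ↘ Spec (CommRingCat.of k)) =
        (C ↘ Spec (CommRingCat.of k))}, σ.1.hom P = Q.1 := by
    rintro ⟨Q, hQ, hQP⟩
    obtain ⟨σ, hσp, -, hσ⟩ := exists_involution_swap k hdim hreg hg P Q hP hQ
      (fun h => hQP (by rw [Set.mem_singleton_iff]; exact h.symm))
    exact ⟨⟨σ, hσp⟩, hσ⟩
  choose g hg' using key
  refine Infinite.of_injective g ?_
  intro Q Q' h
  apply Subtype.ext
  rw [← hg' Q, ← hg' Q', h]

end Groth.Agent.Helper4.SN642
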