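import Mathlib
import Groth.Agent.Helper4.SN640
import Groth.Agent.Helper4.SN98
import Groth.Agent.Helper4.SN180
import Groth.Agent.Helper4.TensorGen
import Groth.Agent.Helper4.AmpleFinite
import Groth.Agent.Helper4.AmpleEventual

/-!
# Sections of invertible modules vanishing at a closed point of a curve
-/

set_option autoImplicit false
set_option linter.unusedSectionVars false
set_option linter.style.haveILetI false
universe u

open CategoryTheory CategoryTheory.Limits AlgebraicGeometry TopologicalSpace Opposite

namespace Groth.Agent.Helper4.SN643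

open Groth.Agent.Helper4.SN Groth.Agent.Helper4.StalkDict

section Sep

/-- a quadratic extension in characteristic different from two is separable -/
theorem isSeparable_of_finrank_two {K L : Type*} [Field K] [Field L] [Algebra K L]
    (h2 : Module.finrank K L = 2) (hchar : ringChar K ≠ 2) : Algebra.IsSeparable K L := by
  by_contra hns
  haveI : FiniteDimensional K L := Module.finite_of_finrank_pos (by omega)
  have hdvd := Field.finSepDegree_dvd_finrank K L
  rw [h2] at hdvd
  have hne : Field.finSepDegree K L ≠ 2 := by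
    intro h
    apply hns
    rw [← Field.finSepDegree_eq_finrank_iff, h, h2]
  have h1 : Field.finSepDegree K L = 1 := by
    have := (Nat.dvd_prime Nat.prime_two).mp hdvd
    tauto
  haveI : IsPurelyInseparable K L :=
    (isPurelyInseparable_iff_finSepDegree_eq_one K L).mpr h1
  haveI := ringExpChar.expChar K
  obtain ⟨n, hn⟩ := IsPurelyInseparable.finrank_eq_pow (F := K) L (ringExpChar K)
  rw [h2] at hn
  rcases expChar_is_prime_or_one K (ringExpChar K) with hp | h1'
  · have hq : ringExpChar K ∣ 2 := by
      rcases Nat.eq_zero_or_pos n with h | h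
      · rw [h, pow_zero] at hn; omega
      · rw [hn]; exact dvd_pow_self _ (by omega)
    have hq2 : ringExpChar K = 2 := ((Nat.prime_dvd_prime_iff_eq hp Nat.prime_two).mp hq)
    apply hchar
    haveI := ringChar.charP K
    have hp0 : ringChar K ≠ 0 := by
      intro h0
      have := (expChar_one_iff_char_zero (R := K) (ringChar K) (ringExpChar K)).mpr h0
      omega
    have hpp : (ringChar K).Prime :=
      (CharP.char_is_prime_or_zero K (ringChar K)).resolve_right hp0
    rw [(char_eq_expChar_iff (R := K) (ringChar K) (ringExpChar K)).mpr hpp, hq2]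
  · rw [h1', one_pow] at hn
    omega

end Sep

section Gen

variable {X : Scheme.{u}}

/-- membership in the generating locus of a section of an invertible module is surjectivity on
the stalk -/
theorem mem_genLocus_iff {M : X.Modules} (hM : PicF.IsInvertible M)
    (t : Coh.structureModule X ⟶ M) (y : X) :
    y ∈ CohB1.genLocus M t ↔ Function.Surjective (stalkLin t y) :=
  ⟨fun h => (Groth.Agent.Helper1.Dev.stalkLin_bijective_of_isIso_restrict t _
      (Groth.Agent.Helper4.GenLocIso.isIso_restrict_genLocus M t) y h).2,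
    mem_genLocus_of_stalkLin_surjective hM t y⟩

/-- outside the generating locus the germ of a section of an invertible module lies in `𝔪 M_y` -/
theorem germ_mem_of_notMem_genLocus {M : X.Modules} (hM : PicF.IsInvertible M)
    (t : Coh.structureModule X ⟶ M) (y : X) (hy : y ∉ CohB1.genLocus M t) :
    M.presheaf.germ ⊤ y trivial (sec1 M t) ∈
      (IsLocalRing.maximalIdeal (X.presheaf.stalk y)) •
        (⊤ : Submodule (X.presheaf.stalk y) (M.presheaf.stalk y)) := by
  obtain ⟨T, e, hyT, hT, hfr, hall⟩ := Groth.Agent.Helper4.AmpleFinite.exists_chart_forall M hM y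
  obtain ⟨b, hb, hbo⟩ := hall t
  have h1 : M.presheaf.germ ⊤ y trivial (sec1 M t) =
      X.presheaf.germ T y hyT b • M.presheaf.germ T y hyT e := by
    have h2 : M.presheaf.germ ⊤ y trivial (sec1 M t) =
        M.presheaf.germ T y hyT (SecTwist.val t T) := by
      rw [← SecTwist.map_val t (homOfLE (le_top : T ≤ ⊤))]
      exact (Groth.Agent.Helper4.QcqsMod.germ_res M (le_top : T ≤ ⊤) y hyT _).symm
    rw [h2, hb, germ_smul]
  rw [h1]
  have hb' : y ∉ X.basicOpen b := by
    rw [hbo]
    exact fun h => hy h.1
  rw [Scheme.mem_basicOpen X _ y hyT] at hb'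
  exact Submodule.smul_mem_smul ((IsLocalRing.mem_maximalIdeal _).mpr hb') Submodule.mem_top

end Gen

section Factor

attribute [local instance] Curv2.resAlgebra

variable (k : Type u) [Field k] {X : Scheme.{u}} [X.Over (Spec (CommRingCat.of k))]
  [IsIntegral X] [IsProper (X ↘ (Spec (CommRingCat.of k)))]

open Groth.Agent.Helper4.NApx82 Groth.Agent.Lead.WeakAss Groth.Agent.Lead.Ref1B

include k in
/-- a section of an invertible module vanishing at a closed point `x` of a curve comes from a
section of the twist by the ideal of `x`, with the same zeros away from `x` -/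
theorem exists_factor_point (hdim : topologicalKrullDim X = 1) (x : X)
    (hx : IsClosed ({x} : Set X)) (hn : IsIntegrallyClosed (X.presheaf.stalk x))
    (F : X.Modules) (hF : PicF.IsInvertible F) (w : Coh.structureModule X ⟶ F) (hw : w ≠ 0)
    (hxw : x ∉ CohB1.genLocus F w) :
    ∃ u : Coh.structureModule X ⟶
        CohB1.tensorMod (ClSub.idealMod (Scheme.IdealSheafData.vanishingIdeal ⟨{x}, hx⟩)) F,
      u ≠ 0 ∧ ∀ y : X, y ≠ x → (y ∈ CohB1.genLocus _ u ↔ y ∈ CohB1.genLocus F w) := by
  haveI := Groth.Agent.Helper4.NApx82.isNoetherian_of_proper k X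
  obtain ⟨hI, -⟩ := ideal_point_of_normal k hdim x hx hn
  have hFLF : FlatMod.IsFinLocFree F := FinLocFree7.isFinLocFree_of_rank F
    (Groth.Agent.Helper4.QAffSec.isFinLocFreeOfRank_one_of_isInvertible F hF)
  have hs := germ_mem_of_notMem_genLocus hF w x hxw
  obtain ⟨D, hD⟩ : ∃ D, D = Scheme.IdealSheafData.vanishingIdeal ⟨{x}, hx⟩ := ⟨_, rfl⟩
  rw [← hD] at hI ⊢
  haveI : F.IsQuasicoherent := FinLocFree4.isQuasicoherent_of_isFinLocFree F hFLF
  have hflat : ∀ y : X, Module.Flat (X.presheaf.stalk y) (F.presheaf.stalk y) := fun y => by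
    haveI := FinLocFree2.free_stalk_of_isFinLocFree F hFLF y
    infer_instance
  have hS' := shortExact_map_tensorRightMod_of_flat (idealSC D) (idealSC_shortExact D) F hflat
  haveI := hS'.mono_f
  set t : Coh.structureModule X ⟶ CohB1.tensorMod (Coh.structureModule X) F :=
    SecTwist.tmulHom (𝟙 (Coh.structureModule X)) w with ht
  have hg : ((idealSC D).map (DCoh.tensorRightMod F)).g =
      KoszTw.tensorMap (ClSub.toSubscheme D) (𝟙 F) := KoszTw.tensorRightMod_map _ _
  have hf : ((idealSC D).map (DCoh.tensorRightMod F)).f =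
      KoszTw.tensorMap (ClSub.idealModι D) (𝟙 F) := KoszTw.tensorRightMod_map _ _
  have hkey : t ≫ KoszTw.tensorMap (ClSub.toSubscheme D) (𝟙 F) = 0 := by
    rw [ht, tmulHom_comp_tensorMap, Category.id_comp, Category.comp_id]
    have h1 : SecTwist.tmulHom (ClSub.toSubscheme D) w =
        SecTwist.tmulHom (ClSub.toSubscheme D ≫ 𝟙 _) (𝟙 (Coh.structureModule X) ≫ w) := by
      rw [Category.id_comp, Category.comp_id]
    rw [h1, ← tmulHom_comp_tensorMap, tensorMap_id_eq_zero_of_vanishing x hx D hD F w hs,
      comp_zero]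
  have htg : t ≫ ((idealSC D).map (DCoh.tensorRightMod F)).g = 0 := by
    rw [hg]
    exact hkey
  let u : Coh.structureModule X ⟶ CohB1.tensorMod (ClSub.idealMod D) F := hS'.exact.lift t htg
  have hut : u ≫ KoszTw.tensorMap (ClSub.idealModι D) (𝟙 F) = t :=
    (congrArg (fun m => u ≫ m) hf.symm).trans (hS'.exact.lift_f t htg)
  have hO : PicF.IsInvertible (Coh.structureModule X) :=
    Groth.Agent.Helper4.TensorInv.isInvertible_structureModule
  have hOF : PicF.IsInvertible (CohB1.tensorMod (Coh.structureModule X) F) :=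
    Groth.Agent.Helper4.TensorInv.isInvertible_tensorMod hO hF
  have hIF : PicF.IsInvertible (CohB1.tensorMod (ClSub.idealMod D) F) :=
    Groth.Agent.Helper4.TensorInv.isInvertible_tensorMod hI hF
  have htw : CohB1.genLocus _ t = CohB1.genLocus F w := by
    rw [ht, Groth.Agent.Helper4.TensorGen.genLocus_tmulHom _ _ hO hF,
      Groth.Agent.Helper4.AmpleEventual.genLocus_eq_top_of_isIso, top_inf_eq]
  refine ⟨u, fun h0 => ?_, fun y hy => ?_⟩
  · have h2 : t = 0 := by
      rw [← hut]
      show u ≫ _ = 0
      rw [h0]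
      exact zero_comp
    have hOFLF : FlatMod.IsFinLocFree (Coh.structureModule X) :=
      FinLocFree7.isFinLocFree_of_rank _
        (Groth.Agent.Helper4.QAffSec.isFinLocFreeOfRank_one_of_isInvertible _ hO)
    haveI : (Coh.structureModule X).IsQuasicoherent :=
      FinLocFree4.isQuasicoherent_of_isFinLocFree _ hOFLF
    rcases tmulHom_eq_zero hOFLF hFLF (𝟙 (Coh.structureModule X)) w h2 with h3 | h3
    · apply hw
      rw [← Category.id_comp w, h3, zero_comp]
    · exact hw h3
  · rw [← htw, mem_genLocus_iff hIF, mem_genLocus_iff hOF]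
    have hj : Function.Bijective (stalkLin (ClSub.idealModι D) y) := by
      refine ⟨Groth.Agent.Helper4.StalkExact.stalkLin_injective _ y, ?_⟩
      rw [hD]
      exact stalkLin_idealModι_surjective x hx y hy
    have hid : Function.Bijective (stalkLin (𝟙 F) y) :=
      ⟨fun a b hab => by rwa [Groth.Agent.Helper1.Dev.stalkLin_id,
        Groth.Agent.Helper1.Dev.stalkLin_id] at hab, stalkLin_id_surjective F y⟩
    have hb : Function.Bijective (stalkLin (KoszTw.tensorMap (ClSub.idealModι D) (𝟙 F)) y) :=
      Groth.Agent.Lead.Ref1B.bijective_stalkMapₗ_tensorMap _ _ y hj hid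
    have hcomp : ∀ z, stalkLin t y z =
        stalkLin (KoszTw.tensorMap (ClSub.idealModι D) (𝟙 F)) y (stalkLin u y z) := by
      intro z
      rw [← hut]
      exact Groth.Agent.Lead.StalkNhd.stalkLin_comp _ _ _ z
    constructor
    · intro hsu z
      obtain ⟨a, ha⟩ := hb.2 z
      obtain ⟨c, hc⟩ := hsu a
      exact ⟨c, by rw [hcomp, hc, ha]⟩
    · intro hst z
      obtain ⟨c, hc⟩ := hst (stalkLin (KoszTw.tensorMap (ClSub.idealModι D) (𝟙 F)) y z)
      refine ⟨c, hb.1 ?_⟩
      rw [← hcomp, hc]

end Factor

end Groth.Agent.Helper4.SN643
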