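import Mathlib
import Groth.Agent.Helper4.SN643
import Groth.Agent.Helper4.SN642
import Groth.Agent.Helper4.SN135
import Groth.Agent.Helper4.SN39
import Groth.Agent.Helper4.SN187
import Groth.Agent.Helper4.PullSec

/-!
# Fibres of a double cover of the projective line
-/

set_option autoImplicit false
set_option linter.unusedSectionVars false
set_option linter.style.haveILetI false
universe u

open CategoryTheory CategoryTheory.Limits AlgebraicGeometry TopologicalSpace Opposite

namespace Groth.Agent.Helper4.SN644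

open Groth.Agent.Helper4.SN Groth.Agent.Helper4.SN641 Groth.Agent.Helper4.SN643

variable (k : Type u) [Field k] [IsAlgClosed k] {C : Scheme.{u}} [C.Over (Spec (CommRingCat.of k))]
  [IsIntegral C] [IsProper (C ↘ (Spec (CommRingCat.of k)))]

/-- a nonzero section of an invertible module of degree one on a normal curve over an
algebraically closed field vanishes at exactly one point, and the module is the inverse of the
ideal of that point -/
theorem exists_zero_of_deg_one (hdim : topologicalKrullDim C = 1)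
    (hnorm : ∀ x : C, IsIntegrallyClosed (C.presheaf.stalk x))
    (M : C.Modules) (hM : PicF.IsInvertible M) (hd : Curv2.deg k C M 1 = 1)
    (u : Coh.structureModule C ⟶ M) (hu : u ≠ 0) :
    ∃ (R : C) (hR : IsClosed ({R} : Set C)),
      Nonempty (Coh.structureModule C ≅
        CohB1.tensorMod (ClSub.idealMod (Scheme.IdealSheafData.vanishingIdeal ⟨{R}, hR⟩)) M) ∧
      ∀ y : C, y ∈ CohB1.genLocus M u ↔ y ≠ R := by
  haveI := Groth.Agent.Helper4.NApx82.isNoetherian_of_proper k C
  have hO : PicF.IsInvertible (Coh.structureModule C) :=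
    Groth.Agent.Helper4.TensorInv.isInvertible_structureModule
  haveI : Mono u := Groth.Agent.Helper4.NApx81.mono_of_ne_zero u hO hM hu
  obtain ⟨R, hRu⟩ : ∃ R : C, R ∉ CohB1.genLocus M u := by
    by_contra hall
    push Not at hall
    have htop : CohB1.genLocus M u = ⊤ := by
      apply le_antisymm le_top
      intro y _
      exact hall y
    haveI := Groth.Agent.Helper4.GenLocIso.isIso_of_genLocus_eq_top M u htop
    have h1 := deg_iso k (asIso u) 1
    rw [Groth.Agent.Helper4.NApx82.deg_structureModule, hd] at h1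
    omega
  have hR : IsClosed ({R} : Set C) :=
    (closed_finite_compl_genLocus k hdim hM u).1 R hRu
  obtain ⟨u', hu', hloc⟩ := exists_factor_point k hdim R hR (hnorm R) M hM u hu hRu
  obtain ⟨hI, hdI⟩ := ideal_point_of_normal_algClosed k hdim R hR (hnorm R)
  have hIM : PicF.IsInvertible
      (CohB1.tensorMod (ClSub.idealMod (Scheme.IdealSheafData.vanishingIdeal ⟨{R}, hR⟩)) M) :=
    Groth.Agent.Helper4.TensorInv.isInvertible_tensorMod hI hM
  have hdIM : Curv2.deg k C
      (CohB1.tensorMod (ClSub.idealMod (Scheme.IdealSheafData.vanishingIdeal ⟨{R}, hR⟩)) M) 1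
      = 0 := by
    have h := main7637 k hdim.le 1 1 _ M
      (Groth.Agent.Helper4.QAffSec.isFinLocFreeOfRank_one_of_isInvertible _ hI)
      (Groth.Agent.Helper4.QAffSec.isFinLocFreeOfRank_one_of_isInvertible M hM)
    rw [hd, hdI] at h
    simpa using h
  haveI : Mono u' := Groth.Agent.Helper4.NApx81.mono_of_ne_zero u' hO hIM hu'
  haveI : IsIso u' := isIso_of_mono_of_rank_deg_eq k hdim u'
    (Groth.Agent.Helper4.QAffSec.isFinLocFreeOfRank_one_of_isInvertible _ hO)
    (Groth.Agent.Helper4.QAffSec.isFinLocFreeOfRank_one_of_isInvertible _ hIM)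
    (by rw [Groth.Agent.Helper4.NApx82.deg_structureModule, hdIM])
  refine ⟨R, hR, ⟨asIso u'⟩, fun y => ⟨fun hy hyR => hRu (hyR ▸ hy), fun hy => ?_⟩⟩
  rw [← hloc y hy, Groth.Agent.Helper4.AmpleEventual.genLocus_eq_top_of_isIso]
  trivial

/-- **the fibres of a double cover of the projective line** by a normal curve over an
algebraically closed field: the fibre through a closed point `R` is `{R, R''}`, and
`I_R'' ⊗ I_R ⊗ f^* O(1)` is trivial -/
theorem exists_fibre_pair (hdim : topologicalKrullDim C = 1)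
    (hnorm : ∀ x : C, IsIntegrallyClosed (C.presheaf.stalk x))
    (f : C ⟶ CohB1.ProjSpace 1 k)
    (hf : f ≫ CohB1.ProjSpace.toSpec 1 k = C ↘ Spec (CommRingCat.of k))
    (hξ : f (genericPoint C) = genericPoint (CohB1.ProjSpace 1 k))
    (hd : EGA4loc.residueDegree f (genericPoint C) = 2)
    (R : C) (hR : IsClosed ({R} : Set C)) :
    ∃ (R'' : C) (hR'' : IsClosed ({R''} : Set C)),
      Nonempty (Coh.structureModule C ≅
        CohB1.tensorMod (ClSub.idealMod (Scheme.IdealSheafData.vanishingIdeal ⟨{R''}, hR''⟩))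
          (CohB1.tensorMod (ClSub.idealMod (Scheme.IdealSheafData.vanishingIdeal ⟨{R}, hR⟩))
            ((Scheme.Modules.pullback f).obj (Twist.twistProjSpace 1 k 1)))) ∧
      f R'' = f R ∧ ∀ z : C, f z = f R → z = R ∨ z = R'' := by
  haveI := Groth.Agent.Helper4.NApx82.isNoetherian_of_proper k C
  haveI : IsProper (CohB1.ProjSpace.toSpec 1 k) := Groth.Agent.Helper6.HProj.isProper_toSpec 1 k
  haveI : IsFinite f := isFinite_of_nonconstant k hdim (dim_P1 k) f hf hξ
  set y := f R with hy
  have hycl : IsClosed ({y} : Set (CohB1.ProjSpace 1 k)) := by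
    have := f.isClosedMap _ hR
    rwa [Set.image_singleton] at this
  obtain ⟨N, t, hN, hdN, -, hlocN⟩ :=
    Groth.Agent.Helper4.SN640.exists_point_section k (dim_P1 k) y hycl
      (isIntegrallyClosed_stalk_P1 k y)
  rw [finrank_residueField_eq_one k y hycl] at hdN
  obtain ⟨ι⟩ := nonempty_iso_tw_of_isInvertible k N hN 1 (by exact_mod_cast hdN)
  set L := (Scheme.Modules.pullback f).obj N with hL
  have hLinv : PicF.IsInvertible L := Groth.Agent.Helper4.PullSec.isInvertible_pullback f hN
  set w := Groth.Agent.Helper4.PullSec.pullSec f t with hw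
  have hgw : ∀ z : C, z ∈ CohB1.genLocus L w ↔ f z ≠ y := by
    intro z
    rw [hw, Groth.Agent.Helper4.PullSec.genLocus_pullSec f hN t]
    exact hlocN (f z)
  have hdL : Curv2.deg k C L 1 = 2 := by
    have h := main7640 k hdim (dim_P1 k) f hf hξ 1 N
      (Groth.Agent.Helper4.QAffSec.isFinLocFreeOfRank_one_of_isInvertible _ hN)
    have hd' : (f.residueDegree (genericPoint C) : ℤ) = 2 := by exact_mod_cast hd
    rw [hdN, hd'] at h
    simpa using h
  have hw0 : w ≠ 0 := by
    intro h0
    have h1 : genericPoint C ∈ CohB1.genLocus L w := by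
      rw [hgw, hξ]
      exact (ne_genericPoint_of_isClosed (dim_P1 k) y hycl).symm
    rw [h0] at h1
    exact Groth.Agent.Helper4.AmpleFinite.notMem_genLocus_zero hLinv _ h1
  have hRw : R ∉ CohB1.genLocus L w := by
    rw [hgw]
    exact fun h => h rfl
  obtain ⟨hI, hdI⟩ := ideal_point_of_normal_algClosed k hdim R hR (hnorm R)
  set M := CohB1.tensorMod (ClSub.idealMod (Scheme.IdealSheafData.vanishingIdeal ⟨{R}, hR⟩)) L
    with hMdef
  obtain ⟨u, hu, hlocu⟩ : ∃ u : Coh.structureModule C ⟶ M,
      u ≠ 0 ∧ ∀ y : C, y ≠ R → (y ∈ CohB1.genLocus _ u ↔ y ∈ CohB1.genLocus L w) :=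
    exists_factor_point k hdim R hR (hnorm R) L hLinv w hw0 hRw
  have hM : PicF.IsInvertible M := Groth.Agent.Helper4.TensorInv.isInvertible_tensorMod hI hLinv
  have hdM : Curv2.deg k C M 1 = 1 := by
    have h := main7637 k hdim.le 1 1 _ L
      (Groth.Agent.Helper4.QAffSec.isFinLocFreeOfRank_one_of_isInvertible _ hI)
      (Groth.Agent.Helper4.QAffSec.isFinLocFreeOfRank_one_of_isInvertible L hLinv)
    rw [hdL, hdI] at h
    simpa using h
  obtain ⟨R'', hR'', ⟨e⟩, hlocR⟩ := exists_zero_of_deg_one k hdim hnorm M hM hdM u hu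
  have hfR'' : f R'' = y := by
    by_cases hRR : R'' = R
    · rw [hRR]
    · by_contra hne
      have h1 : R'' ∈ CohB1.genLocus L w := (hgw R'').mpr hne
      have h2 : R'' ∈ CohB1.genLocus M u := (hlocu R'' hRR).mpr h1
      exact (hlocR R'').mp h2 rfl
  refine ⟨R'', hR'', ⟨e ≪≫ PicGrp.tensorModIso (Iso.refl _)
    (PicGrp.tensorModIso (Iso.refl _) ((Scheme.Modules.pullback f).mapIso ι))⟩, hfR'', ?_⟩
  intro z hz
  by_contra hcon
  push Not at hcon
  have h1 : z ∈ CohB1.genLocus M u := (hlocR z).mpr hcon.2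
  have h2 : z ∈ CohB1.genLocus L w := (hlocu z hcon.1).mp h1
  exact (hgw z).mp h2 hz

end Groth.Agent.Helper4.SN644
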