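import Mathlib

/-!
# Fibres with two points of an algebra generated by two elements as a module
-/

set_option autoImplicit false
set_option linter.unusedSectionVars false
set_option linter.style.haveILetI false
universe u

namespace Groth.Agent.Helper4.SN645

/-- three vectors in a plane over a field are linearly dependent (explicit form) -/
theorem exists_relation_three {k : Type*} [Field k] (v : Fin 3 → (Fin 2 → k)) :
    ∃ g : Fin 3 → k, (∀ j, g 0 * v 0 j + g 1 * v 1 j + g 2 * v 2 j = 0) ∧ ∃ i, g i ≠ 0 := by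
  have h : ¬ LinearIndependent k v := by
    intro hli
    have := hli.fintype_card_le_finrank
    simp at this
  rw [Fintype.not_linearIndependent_iff] at h
  obtain ⟨g, hg, i, hi⟩ := h
  refine ⟨g, fun j => ?_, i, hi⟩
  have := congrFun hg j
  simpa [Fin.sum_univ_three] using this

/-- Let `B` be an `A`-algebra generated by two elements as a module, `m` a maximal ideal of `A`
and `n₁ ≠ n₂` maximal ideals of `B` containing `m B`. Then `n₁ B_{n₁} = m B_{n₁}`: every element
of `n₁` is multiplied into `m B` by an element outside `n₁`. -/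
theorem exists_mul_mem_map_of_two_maximal {A B : Type*} [CommRing A] [CommRing B] [Algebra A B]
    (m : Ideal A) [hm : m.IsMaximal] (b₁ b₂ : B)
    (hspan : ∀ b : B, ∃ a₁ a₂ : A, b = a₁ • b₁ + a₂ • b₂)
    (n₁ n₂ : Ideal B) [hn₁ : n₁.IsMaximal] [hn₂ : n₂.IsMaximal]
    (h₁ : m.map (algebraMap A B) ≤ n₁) (h₂ : m.map (algebraMap A B) ≤ n₂) (hne : n₁ ≠ n₂) :
    ∃ s : B, s ∉ n₁ ∧ ∀ b ∈ n₁, s * b ∈ m.map (algebraMap A B) := by
  classical
  set I := m.map (algebraMap A B) with hI
  -- contraction of the `nᵢ`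
  have hc : ∀ (n : Ideal B), n.IsMaximal → I ≤ n → ∀ a : A, algebraMap A B a ∈ n → a ∈ m := by
    intro n hn hIn a ha
    have h1 : m ≤ n.comap (algebraMap A B) := Ideal.map_le_iff_le_comap.mp hIn
    have h2 : n.comap (algebraMap A B) ≠ ⊤ := (Ideal.comap_ne_top _ hn.ne_top)
    have h3 : m = n.comap (algebraMap A B) := hm.eq_of_le h2 h1
    rw [h3]
    exact ha
  -- an element of `n₂` outside `n₁`
  obtain ⟨s, hs2, hs1⟩ : ∃ s, s ∈ n₂ ∧ s ∉ n₁ := by
    by_contra hcon
    push Not at hcon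
    exact hne (hn₂.eq_of_le hn₁.ne_top hcon).symm
  refine ⟨s, hs1, fun b hb => ?_⟩
  set c := s * b with hcdef
  have hc1 : c ∈ n₁ := n₁.mul_mem_left s hb
  have hc2 : c ∈ n₂ := n₂.mul_mem_right b hs2
  obtain ⟨a11, a12, e1⟩ := hspan 1
  obtain ⟨a21, a22, e2⟩ := hspan s
  obtain ⟨a31, a32, e3⟩ := hspan c
  letI : Field (A ⧸ m) := Ideal.Quotient.field m
  let q : A →+* A ⧸ m := Ideal.Quotient.mk m
  let v : Fin 3 → (Fin 2 → A ⧸ m) := ![![q a11, q a12], ![q a21, q a22], ![q a31, q a32]]
  obtain ⟨g, hg, hnz⟩ := exists_relation_three v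
  obtain ⟨α, hα⟩ := Ideal.Quotient.mk_surjective (g 0)
  obtain ⟨β, hβ⟩ := Ideal.Quotient.mk_surjective (g 1)
  obtain ⟨γ, hγ⟩ := Ideal.Quotient.mk_surjective (g 2)
  have hj0 : α * a11 + β * a21 + γ * a31 ∈ m := by
    rw [← Ideal.Quotient.eq_zero_iff_mem]
    have := hg 0
    simp only [v, Matrix.cons_val_zero, Matrix.cons_val_one, Matrix.cons_val_two,
      Matrix.head_cons, Matrix.tail_cons] at this
    rw [map_add, map_add, map_mul, map_mul, map_mul, hα, hβ, hγ]
    exact this
  have hj1 : α * a12 + β * a22 + γ * a32 ∈ m := by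
    rw [← Ideal.Quotient.eq_zero_iff_mem]
    have := hg 1
    simp only [v, Matrix.cons_val_zero, Matrix.cons_val_one, Matrix.cons_val_two,
      Matrix.head_cons, Matrix.tail_cons] at this
    rw [map_add, map_add, map_mul, map_mul, map_mul, hα, hβ, hγ]
    exact this
  -- the relation in `B`
  have hmemI : ∀ a : A, a ∈ m → ∀ z : B, a • z ∈ I := by
    intro a ha z
    rw [Algebra.smul_def]
    exact I.mul_mem_right z (Ideal.mem_map_of_mem _ ha)
  have hrel : algebraMap A B α * 1 + algebraMap A B β * s + algebraMap A B γ * c ∈ I := by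
    have h : algebraMap A B α * 1 + algebraMap A B β * s + algebraMap A B γ * c =
        (α * a11 + β * a21 + γ * a31) • b₁ + (α * a12 + β * a22 + γ * a32) • b₂ := by
      conv_lhs => rw [e1, e2, e3]
      simp only [Algebra.smul_def, map_add, map_mul]
      ring
    rw [h]
    exact I.add_mem (hmemI _ hj0 _) (hmemI _ hj1 _)
  -- `α ∈ m`
  have hαm : α ∈ m := by
    apply hc n₂ hn₂ h₂
    have h3 : algebraMap A B α * 1 + algebraMap A B β * s + algebraMap A B γ * c ∈ n₂ := h₂ hrel
    have h4 : algebraMap A B β * s + algebraMap A B γ * c ∈ n₂ :=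
      n₂.add_mem (n₂.mul_mem_left _ hs2) (n₂.mul_mem_left _ hc2)
    have h5 : algebraMap A B α * 1 ∈ n₂ := by
      have := n₂.sub_mem h3 h4
      convert this using 1
      ring
    simpa using h5
  have hrel2 : algebraMap A B β * s + algebraMap A B γ * c ∈ I := by
    have h5 : algebraMap A B α * 1 ∈ I := I.mul_mem_right _ (Ideal.mem_map_of_mem _ hαm)
    have := I.sub_mem hrel h5
    convert this using 1
    ring
  -- `β ∈ m`
  have hβm : β ∈ m := by
    apply hc n₁ hn₁ h₁
    have h3 : algebraMap A B β * s + algebraMap A B γ * c ∈ n₁ := h₁ hrel2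
    have h4 : algebraMap A B β * s ∈ n₁ := by
      have := n₁.sub_mem h3 (n₁.mul_mem_left (algebraMap A B γ) hc1)
      convert this using 1
      ring
    rcases hn₁.isPrime.mem_or_mem h4 with h | h
    · exact h
    · exact absurd h hs1
  have hrel3 : algebraMap A B γ * c ∈ I := by
    have h5 : algebraMap A B β * s ∈ I := I.mul_mem_right _ (Ideal.mem_map_of_mem _ hβm)
    have := I.sub_mem hrel2 h5
    convert this using 1
    ring
  -- `γ ∉ m`
  have hγm : γ ∉ m := by
    intro hγm
    obtain ⟨i, hi⟩ := hnz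
    apply hi
    fin_cases i
    · show g 0 = 0
      rw [← hα]; exact Ideal.Quotient.eq_zero_iff_mem.mpr hαm
    · show g 1 = 0
      rw [← hβ]; exact Ideal.Quotient.eq_zero_iff_mem.mpr hβm
    · show g 2 = 0
      rw [← hγ]; exact Ideal.Quotient.eq_zero_iff_mem.mpr hγm
  -- `γ` is invertible modulo `m`
  obtain ⟨δ, hδ⟩ : ∃ δ : A, δ * γ - 1 ∈ m := by
    have hq : q γ ≠ 0 := fun h => hγm (Ideal.Quotient.eq_zero_iff_mem.mp h)
    obtain ⟨δ, hδ⟩ := Ideal.Quotient.mk_surjective (q γ)⁻¹
    refine ⟨δ, ?_⟩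
    rw [← Ideal.Quotient.eq_zero_iff_mem, map_sub, map_mul, map_one, hδ, inv_mul_cancel₀ hq,
      sub_self]
  have h6 : algebraMap A B (δ * γ - 1) * c ∈ I := I.mul_mem_right _ (Ideal.mem_map_of_mem _ hδ)
  have h7 : algebraMap A B δ * (algebraMap A B γ * c) ∈ I := I.mul_mem_left _ hrel3
  have := I.sub_mem h7 h6
  convert this using 1
  simp only [map_sub, map_mul, map_one]
  ring

end Groth.Agent.Helper4.SN645
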