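import Mathlib
import Groth.Agent.Helper4.SN645
import Groth.Agent.Helper4.FinLocFree2
import Groth.Agent.Helper4.SN596
import Groth.Agent.Helper4.SN74

/-!
# A finite morphism of degree two is unramified at the points of a fibre with two points
-/

set_option autoImplicit false
set_option linter.unusedSectionVars false
set_option linter.style.haveILetI false
universe u

open CategoryTheory CategoryTheory.Limits AlgebraicGeometry TopologicalSpace Opposite

namespace Groth.Agent.Helper4.SN646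

open Scheme.Modules Groth.Agent.Helper4.StalkDict Groth.Agent.Helper4.FinLocFree
  Groth.Agent.Helper4.FinLocFree2

variable {X Y : Scheme.{u}}

set_option backward.isDefEq.respectTransparency false in
/-- sections of the direct image of the structure module -/
noncomputable def ePush (f : X ⟶ Y) (T : Y.Opens) :
    letI := (f.app T).hom.toAlgebra
    Γ((Scheme.Modules.pushforward f).obj (Coh.structureModule X), T) ≃ₗ[Γ(Y, T)] Γ(X, f ⁻¹ᵁ T) :=
  letI := (f.app T).hom.toAlgebra
  { toFun := fun m => m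
    invFun := fun m => m
    map_add' := fun _ _ => rfl
    map_smul' := fun _ _ => rfl
    left_inv := fun _ => rfl
    right_inv := fun _ => rfl }

/-- **a double cover is unramified at the points of a fibre with two points** -/
theorem map_maximalIdeal_eq_of_two_points (f : X ⟶ Y) [IsAffineHom f]
    (hd : FlatMod.IsFinLocFreeOfRank 2
      ((Scheme.Modules.pushforward f).obj (Coh.structureModule X)))
    (x x' : X) (hx : IsClosed ({x} : Set X)) (hx' : IsClosed ({x'} : Set X)) (hne : x ≠ x')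
    (hfx : f x' = f x) (hy : IsClosed ({f x} : Set Y)) :
    (IsLocalRing.maximalIdeal (Y.presheaf.stalk (f x))).map (f.stalkMap x).hom =
      IsLocalRing.maximalIdeal (X.presheaf.stalk x) := by
  set G := (Scheme.Modules.pushforward f).obj (Coh.structureModule X) with hG
  haveI : (Coh.structureModule X).IsQuasicoherent :=
    (Groth.Agent.Helper1.Dev.isCoh_structureModule X).1
  haveI : G.IsQuasicoherent := Groth.Agent.Helper4.QcohGlue.isQuasicoherent_pushforward f _
  obtain ⟨V, hyV, hV⟩ := hd (f x)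
  obtain ⟨T, hT, hyT, -, ⟨bas⟩⟩ := exists_affine_basis_of_isFreeAlong G hV (f x) hyV
  set U : X.Opens := f ⁻¹ᵁ T with hUdef
  have hU : IsAffineOpen U := hT.preimage f
  have hxU : x ∈ U := hyT
  have hx'U : x' ∈ U := by show f x' ∈ T; rw [hfx]; exact hyT
  let φ : Γ(Y, T) →+* Γ(X, U) := (f.app T).hom
  letI alg : Algebra Γ(Y, T) Γ(X, U) := φ.toAlgebra
  -- generators
  let e := ePush f T
  have hspan : ∀ b : Γ(X, U), ∃ a₁ a₂ : Γ(Y, T), b = a₁ • e (bas 0) + a₂ • e (bas 1) := by
    intro b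
    refine ⟨bas.repr (e.symm b) 0, bas.repr (e.symm b) 1, ?_⟩
    have h1 := bas.sum_repr (e.symm b)
    rw [Fin.sum_univ_two] at h1
    have h2 := congrArg e h1
    rw [map_add, _root_.map_smul, _root_.map_smul, LinearEquiv.apply_symm_apply] at h2
    exact h2.symm
  -- the ideals
  let 𝔪 : Ideal Γ(Y, T) := (hT.primeIdealOf ⟨f x, hyT⟩).asIdeal
  let 𝔫₁ : Ideal Γ(X, U) := (hU.primeIdealOf ⟨x, hxU⟩).asIdeal
  let 𝔫₂ : Ideal Γ(X, U) := (hU.primeIdealOf ⟨x', hx'U⟩).asIdeal
  haveI h𝔪 : 𝔪.IsMaximal := hT.primeIdealOf_isMaximal_of_isClosed ⟨f x, hyT⟩ hy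
  haveI h𝔫₁ : 𝔫₁.IsMaximal := hU.primeIdealOf_isMaximal_of_isClosed ⟨x, hxU⟩ hx
  haveI h𝔫₂ : 𝔫₂.IsMaximal := hU.primeIdealOf_isMaximal_of_isClosed ⟨x', hx'U⟩ hx'
  have hφ : (f.appLE T U le_rfl).hom = φ := by
    show (f.appLE T U le_rfl).hom = (f.app T).hom
    rw [Scheme.Hom.appLE_eq_app]
  have hcomap : ∀ (z : X) (hz : z ∈ U), (hU.primeIdealOf ⟨z, hz⟩).asIdeal.comap φ =
      (hT.primeIdealOf ⟨f z, hz⟩).asIdeal := by
    intro z hz
    have := IsAffineOpen.comap_primeIdealOf_appLE (f := f) T hT U hU le_rfl hz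
    rw [← hφ]
    exact congrArg PrimeSpectrum.asIdeal this
  have h₁ : 𝔪.map (algebraMap Γ(Y, T) Γ(X, U)) ≤ 𝔫₁ := by
    rw [Ideal.map_le_iff_le_comap]
    exact (hcomap x hxU).ge
  have h₂ : 𝔪.map (algebraMap Γ(Y, T) Γ(X, U)) ≤ 𝔫₂ := by
    rw [Ideal.map_le_iff_le_comap]
    have h := hcomap x' hx'U
    have h' : (hT.primeIdealOf ⟨f x', hx'U⟩).asIdeal = 𝔪 := by
      show _ = (hT.primeIdealOf ⟨f x, hyT⟩).asIdeal
      congr 2
      exact Subtype.ext hfx
    rw [h'] at h
    exact h.ge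
  have hne' : 𝔫₁ ≠ 𝔫₂ := by
    intro h
    have h1 : hU.primeIdealOf ⟨x, hxU⟩ = hU.primeIdealOf ⟨x', hx'U⟩ := PrimeSpectrum.ext h
    have h2 := congrArg (fun z => hU.fromSpec z) h1
    simp only [IsAffineOpen.fromSpec_primeIdealOf] at h2
    exact hne h2
  obtain ⟨s, hs, hsb⟩ := Groth.Agent.Helper4.SN645.exists_mul_mem_map_of_two_maximal 𝔪
    (e (bas 0)) (e (bas 1)) hspan 𝔫₁ 𝔫₂ h₁ h₂ hne'
  -- passage to the stalks
  letI algX := X.presheaf.algebra_section_stalk ⟨x, hxU⟩
  haveI := hU.isLocalization_stalk ⟨x, hxU⟩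
  have hmaxX : IsLocalRing.maximalIdeal (X.presheaf.stalk x) =
      𝔫₁.map (algebraMap Γ(X, U) (X.presheaf.stalk x)) :=
    (IsLocalization.AtPrime.map_eq_maximalIdeal 𝔫₁ (X.presheaf.stalk x)).symm
  apply le_antisymm
  · haveI : IsLocalHom (f.stalkMap x).hom := inferInstance
    exact IsLocalRing.map_maximalIdeal_le (f.stalkMap x).hom
  · rw [hmaxX, Ideal.map_le_iff_le_comap]
    intro b hb
    rw [Ideal.mem_comap]
    have hsu : IsUnit (algebraMap Γ(X, U) (X.presheaf.stalk x) s) :=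
      IsLocalization.map_units (M := 𝔫₁.primeCompl) (X.presheaf.stalk x) ⟨s, hs⟩
    have h3 : algebraMap Γ(X, U) (X.presheaf.stalk x) (s * b) ∈
        (IsLocalRing.maximalIdeal (Y.presheaf.stalk (f x))).map (f.stalkMap x).hom := by
      have h4 : (𝔪.map (algebraMap Γ(Y, T) Γ(X, U))).map
          (algebraMap Γ(X, U) (X.presheaf.stalk x)) ≤
          (IsLocalRing.maximalIdeal (Y.presheaf.stalk (f x))).map (f.stalkMap x).hom := by
        rw [Ideal.map_map, Ideal.map_le_iff_le_comap]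
        intro a ha
        rw [Ideal.mem_comap]
        have h5 : ((algebraMap Γ(X, U) (X.presheaf.stalk x)).comp
            (algebraMap Γ(Y, T) Γ(X, U))) a =
            (f.stalkMap x).hom ((Y.presheaf.germ T (f x) hyT).hom a) :=
          (Scheme.Hom.germ_stalkMap_apply f T x hyT a).symm
        rw [h5]
        apply Ideal.mem_map_of_mem
        have h6 : hT.primeIdealOf ⟨f x, hyT⟩ =
            Spec.map (Y.presheaf.germ _ (f x) hyT) (IsLocalRing.closedPoint _) :=
          hT.primeIdealOf_eq_map_closedPoint ⟨f x, hyT⟩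
        have h7 : a ∈ (hT.primeIdealOf ⟨f x, hyT⟩).asIdeal := ha
        rw [h6] at h7
        exact h7
      exact h4 (Ideal.mem_map_of_mem _ (hsb b hb))
    rw [map_mul] at h3
    exact (Ideal.unit_mul_mem_iff_mem _ hsu).mp h3

end Groth.Agent.Helper4.SN646
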