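import Groth.Agent.Helper4.GeomIrrGen
import Mathlib

set_option autoImplicit false
universe u
open CategoryTheory CategoryTheory.Limits AlgebraicGeometry Opposite TensorProduct

namespace Groth.Agent.Helper4.SepSection

variable {k : Type u} [Field k] (X : Scheme.{u}) [X.Over (Spec (CommRingCat.of k))]

/-- The structure map `k → Γ(X, U)`. -/
noncomputable def ψ (U : X.Opens) : k →+* Γ(X, U) :=
  (X.presheaf.map (homOfLE (le_top : U ≤ ⊤)).op).hom.comp
    (Coh.toGlobal (X ↘ Spec (CommRingCat.of k)))

theorem evaluation_ψ (U : X.Opens) (x : X) (hx : x ∈ U) :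
    (X.evaluation U x hx).hom.comp (ψ X U) = Curv2.resMap k X x := by
  ext c
  simp only [ψ, Curv2.resMap, Curv2.stalkMap, RingHom.comp_apply]
  rw [← Scheme.germ_residue]
  simp only [CommRingCat.hom_comp, RingHom.comp_apply]
  congr 1
  exact TopCat.Presheaf.germ_res_apply X.presheaf (homOfLE (le_top : U ≤ ⊤)) x hx _

theorem eq_resMap (x : X) (φ : k →+* X.residueField x)
    (hφ : Spec.map (CommRingCat.ofHom φ) =
      X.fromSpecResidueField x ≫ (X ↘ Spec (CommRingCat.of k))) :
    φ = Curv2.resMap k X x := by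
  have h1 := GeomIrrGen.specMap_resMap (k := k) x
  have h := Spec.map_injective (hφ.trans h1.symm)
  exact congrArg CommRingCat.Hom.hom h

/-- If an irreducible `k`-scheme is not geometrically irreducible, then on a nonempty open no
point has a purely inseparable residue field. -/
theorem exists_open_not_purelyInseparable [IrreducibleSpace X]
    (h : ¬ GeometricallyIrreducible (X ↘ Spec (CommRingCat.of k))) :
    ∃ U : X.Opens, (U : Set X).Nonempty ∧ ∀ x ∈ U,
      ¬ (letI := (Curv2.resMap k X x).toAlgebra; IsPurelyInseparable k (X.residueField x)) := by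
  letI algξ := Curv2.resAlgebra k X (genericPoint X)
  rw [GeomIrrGen.geometricallyIrreducible_iff_generic X] at h
  have h2 : ¬ ∀ α : X.residueField (genericPoint X), IsSeparable k α →
      α ∈ Set.range (algebraMap k (X.residueField (genericPoint X))) := by
    intro hall
    exact h (Groth.Agent.S2150.result.mpr hall)
  push Not at h2
  obtain ⟨α, hαsep, hαnot⟩ := h2
  obtain ⟨a, ha⟩ := X.residue_surjective (genericPoint X) α
  obtain ⟨U, hξU, s, hs⟩ := X.presheaf.germ_exist (x := genericPoint X) a
  have hev : (X.evaluation U (genericPoint X) hξU).hom s = α := by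
    rw [← Scheme.germ_residue]
    simp only [CommRingCat.hom_comp, RingHom.comp_apply]
    rw [← ha]
    congr 1
  obtain ⟨P, hP⟩ : ∃ P, P = minpoly k α := ⟨_, rfl⟩
  have hPsep : P.Separable := hP ▸ hαsep
  have hPirr : Irreducible P := hP ▸ minpoly.irreducible hαsep.isIntegral
  have hPmonic : P.Monic := hP ▸ minpoly.monic hαsep.isIntegral
  obtain ⟨t, ht⟩ : ∃ t, t = Polynomial.eval₂ (ψ X U) s P := ⟨_, rfl⟩
  have hevt : ∀ x (hx : x ∈ U), (X.evaluation U x hx).hom t =
      Polynomial.eval₂ (Curv2.resMap k X x) ((X.evaluation U x hx).hom s) P := by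
    intro x hx
    rw [ht, Polynomial.hom_eval₂, evaluation_ψ]
  have htξ : (X.evaluation U (genericPoint X) hξU).hom t = 0 := by
    rw [hevt, hev, hP]
    exact minpoly.aeval k α
  have hbo : X.basicOpen t = ⊥ := by
    by_contra hne
    have hne' : (X.basicOpen t : Set X).Nonempty := by
      rw [Set.nonempty_iff_ne_empty]
      intro he
      exact hne (TopologicalSpace.Opens.ext he)
    have hmem : genericPoint X ∈ (X.basicOpen t : Set X) :=
      ((genericPoint_spec X).mem_open_set_iff (X.basicOpen t).isOpen).mpr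
        (by simpa using hne')
    exact (X.evaluation_eq_zero_iff_notMem_basicOpen _ hξU t).mp htξ hmem
  have hzero := (X.basicOpen_eq_bot_iff_forall_evaluation_eq_zero t).mp hbo
  refine ⟨U, ⟨genericPoint X, hξU⟩, ?_⟩
  intro x hx hpi
  letI := (Curv2.resMap k X x).toAlgebra
  obtain ⟨β, hβ⟩ : ∃ β, β = (X.evaluation U x hx).hom s := ⟨_, rfl⟩
  have hβroot : Polynomial.aeval β P = 0 := by
    rw [Polynomial.aeval_def, hβ]
    exact (hevt x hx).symm.trans (hzero ⟨x, hx⟩)
  have hβint : IsIntegral k β := ⟨P, hPmonic, hβroot⟩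
  have hβsep : IsSeparable k β := hPsep.of_dvd (minpoly.dvd k β hβroot)
  obtain ⟨c, hc⟩ := hpi.inseparable' β hβsep
  have hroot : P.IsRoot c := by
    rw [← hc, Polynomial.aeval_algebraMap_apply] at hβroot
    exact (FaithfulSMul.algebraMap_injective k (X.residueField x))
      (hβroot.trans (map_zero _).symm)
  have hdeg : P.degree = 1 := Polynomial.degree_eq_one_of_irreducible_of_root hPirr hroot
  rw [hP] at hdeg
  exact hαnot (minpoly.mem_range_of_degree_eq_one k α hdeg)

end Groth.Agent.Helper4.SepSection
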