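import Mathlib
import Groth.Agent.Helper4.SepSection
import Groth.Agent.Helper4.SN146
import Groth.Agent.Helper4.SN112

/-!
# Morphisms of varieties over an algebraically closed field are determined by their values on
closed points
-/

set_option autoImplicit false
set_option linter.unusedSectionVars false
set_option linter.style.haveILetI false
universe u

open CategoryTheory CategoryTheory.Limits AlgebraicGeometry TopologicalSpace Opposite

namespace Groth.Agent.Helper4.SN647

variable (k : Type u) [Field k] {X Y : Scheme.{u}} [X.Over (Spec (CommRingCat.of k))]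
  [Y.Over (Spec (CommRingCat.of k))]

/-- two field-valued points of a `k`-scheme at the same point, inducing the same surjective map
from `k`, are equal -/
theorem specMap_comp_fromSpecResidueField_eq {K : CommRingCat.{u}} (y₁ y₂ : Y) (e : y₁ = y₂)
    (φ₁ : Y.residueField y₁ ⟶ K) (φ₂ : Y.residueField y₂ ⟶ K)
    (h : φ₁.hom.comp (Curv2.resMap k Y y₁) = φ₂.hom.comp (Curv2.resMap k Y y₂))
    (hs : Function.Surjective (φ₁.hom.comp (Curv2.resMap k Y y₁)))
    (hinj : Function.Injective φ₁.hom) :
    Spec.map φ₁ ≫ Y.fromSpecResidueField y₁ = Spec.map φ₂ ≫ Y.fromSpecResidueField y₂ := by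
  subst e
  have : φ₁ = φ₂ := by
    ext z
    obtain ⟨c, hc⟩ := hs (φ₁.hom z)
    have hz : z = Curv2.resMap k Y y₁ c := (hinj hc).symm
    rw [hz]
    exact congrArg (fun ψ => ψ c) h
  rw [this]

/-- the residue field map of a `k`-morphism is `k`-linear -/
theorem residueFieldMap_comp_resMap (a : X ⟶ Y)
    (ha : a ≫ (Y ↘ Spec (CommRingCat.of k)) = X ↘ Spec (CommRingCat.of k)) (x : X) :
    (a.residueFieldMap x).hom.comp (Curv2.resMap k Y (a x)) = Curv2.resMap k X x := by
  apply Groth.Agent.Helper4.SepSection.eq_resMap X x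
  have h1 : CommRingCat.ofHom ((a.residueFieldMap x).hom.comp (Curv2.resMap k Y (a x))) =
      CommRingCat.ofHom (Curv2.resMap k Y (a x)) ≫ a.residueFieldMap x := rfl
  rw [h1, Spec.map_comp, Groth.Agent.Helper4.GeomIrrGen.specMap_resMap, ← Category.assoc,
    Scheme.Hom.SpecMap_residueFieldMap_fromSpecResidueField, Category.assoc, ha]

/-- two `k`-morphisms with the same value at a point whose residue field is `k` agree on the
residue field point -/
theorem fromSpecResidueField_comp_eq (a b : X ⟶ Y)
    (ha : a ≫ (Y ↘ Spec (CommRingCat.of k)) = X ↘ Spec (CommRingCat.of k))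
    (hb : b ≫ (Y ↘ Spec (CommRingCat.of k)) = X ↘ Spec (CommRingCat.of k))
    (x : X) (hx : Function.Surjective (Curv2.resMap k X x)) (hab : a x = b x) :
    X.fromSpecResidueField x ≫ a = X.fromSpecResidueField x ≫ b := by
  rw [← Scheme.Hom.SpecMap_residueFieldMap_fromSpecResidueField,
    ← Scheme.Hom.SpecMap_residueFieldMap_fromSpecResidueField]
  apply specMap_comp_fromSpecResidueField_eq k (a x) (b x) hab
  · rw [residueFieldMap_comp_resMap k a ha x, residueFieldMap_comp_resMap k b hb x]
  · rw [residueFieldMap_comp_resMap k a ha x]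
    exact hx
  · exact (a.residueFieldMap x).hom.injective

variable [IsAlgClosed k] [IsProper (X ↘ Spec (CommRingCat.of k))]

/-- **two morphisms over an algebraically closed field `k` from a reduced proper `k`-scheme to a
separated `k`-scheme which agree on the closed points are equal** -/
theorem hom_ext_of_closedPoints [IsReduced X] [IsSeparated (Y ↘ Spec (CommRingCat.of k))]
    (a b : X ⟶ Y)
    (ha : a ≫ (Y ↘ Spec (CommRingCat.of k)) = X ↘ Spec (CommRingCat.of k))
    (hb : b ≫ (Y ↘ Spec (CommRingCat.of k)) = X ↘ Spec (CommRingCat.of k))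
    (h : ∀ x : X, IsClosed ({x} : Set X) → a x = b x) : a = b := by
  let I := {x : X // IsClosed ({x} : Set X)}
  let F : I → Scheme.{u} := fun x => Spec (X.residueField x.1)
  let ι : (∐ F) ⟶ X := Sigma.desc (fun x : I => X.fromSpecResidueField x.1)
  haveI : JacobsonSpace X := LocallyOfFiniteType.jacobsonSpace (X ↘ Spec (CommRingCat.of k))
  haveI : IsDominant ι := by
    refine ⟨?_⟩
    have h1 : Dense (closedPoints X) := by
      rw [dense_iff_closure_eq]
      exact closure_closedPoints
    refine h1.mono ?_
    intro x hx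
    let xi : I := ⟨x, hx⟩
    refine ⟨(Sigma.ι F xi) (IsLocalRing.closedPoint (X.residueField x)), ?_⟩
    rw [← Scheme.Hom.comp_apply]
    show (Sigma.ι F xi ≫ Sigma.desc (fun x : I => X.fromSpecResidueField x.1))
      (IsLocalRing.closedPoint (X.residueField x)) = x
    rw [Sigma.ι_desc]
    exact Scheme.fromSpecResidueField_apply x _
  apply ext_of_isDominant_of_isSeparated (Y ↘ Spec (CommRingCat.of k)) (ha.trans hb.symm) ι
  apply Sigma.hom_ext
  intro xi
  rw [← Category.assoc, ← Category.assoc, Sigma.ι_desc]
  apply fromSpecResidueField_comp_eq k a b ha hb xi.1 _ (h xi.1 xi.2)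
  letI := Curv2.resAlgebra k X xi.1
  have h1 := Groth.Agent.Helper4.SN.finrank_residueField_eq_one' k xi.1 xi.2
  exact ((Groth.Agent.Helper4.SN.finrank_residueField_eq_one_iff k xi.1).mp h1).2

end Groth.Agent.Helper4.SN647
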