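import Mathlib
import Groth.Agent.Helper4.SN644
import Groth.Agent.Helper4.SN597
import Groth.Agent.Helper4.SN594
import Groth.Agent.Helper4.QcohLocal

/-!
# On a curve of genus one the ideal of a closed point determines the point
-/

set_option autoImplicit false
set_option linter.unusedSectionVars false
set_option linter.style.haveILetI false
universe u

open CategoryTheory CategoryTheory.Limits AlgebraicGeometry TopologicalSpace Opposite

namespace Groth.Agent.Helper4.SN648

open Groth.Agent.Helper4.SN Groth.Agent.Helper4.StalkDict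

variable (k : Type u) [Field k] [IsAlgClosed k] {X : Scheme.{u}} [X.Over (Spec (CommRingCat.of k))]
  [IsIntegral X] [IsProper (X ↘ (Spec (CommRingCat.of k)))]

/-- **on a curve of genus one, closed points with isomorphic ideals are equal** -/
theorem eq_of_idealMod_iso (hdim : topologicalKrullDim X = 1)
    (hreg : ∀ x : X, IsRegularLocalRing (X.presheaf.stalk x)) (hg : Curv2.genus k X = 1)
    (A B : X) (hA : IsClosed ({A} : Set X)) (hB : IsClosed ({B} : Set X))
    (ε : ClSub.idealMod (Scheme.IdealSheafData.vanishingIdeal ⟨{A}, hA⟩) ≅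
      ClSub.idealMod (Scheme.IdealSheafData.vanishingIdeal ⟨{B}, hB⟩)) : A = B := by
  by_contra hAB
  haveI := Groth.Agent.Helper4.NApx82.isNoetherian_of_proper k X
  have hnorm : ∀ x : X, IsIntegrallyClosed (X.presheaf.stalk x) := fun x =>
    haveI := hreg x
    Groth.Agent.Helper4.RegNormal.isIntegrallyClosed_of_isRegularLocalRing _
  obtain ⟨hI, hdI⟩ := ideal_point_of_normal_algClosed k hdim A hA (hnorm A)
  obtain ⟨N, t, hN, hdN, ⟨e⟩, -⟩ :=
    Groth.Agent.Helper4.SN640.exists_point_section k hdim A hA (hnorm A)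
  rw [finrank_residueField_eq_one k A hA] at hdN
  have hh0 : Module.finrank k (Coh.HH X N 0) ≤ 1 := by
    have h := Groth.Agent.Helper4.SN597.h0_eq_deg_of_genus_one k X hdim hreg hg N hN
      (by rw [hdN]; norm_num)
    rw [hdN] at h
    have : (Module.finrank k (Coh.HH X N 0) : ℤ) ≤ 1 := by rw [h]; norm_num
    exact_mod_cast this
  set IA := ClSub.idealMod (Scheme.IdealSheafData.vanishingIdeal ⟨{A}, hA⟩) with hIA
  set a : IA ⟶ Coh.structureModule X :=
    ClSub.idealModι (Scheme.IdealSheafData.vanishingIdeal ⟨{A}, hA⟩) with ha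
  set b : IA ⟶ Coh.structureModule X :=
    ε.hom ≫ ClSub.idealModι (Scheme.IdealSheafData.vanishingIdeal ⟨{B}, hB⟩) with hb
  haveI hmono : Mono a := (inferInstance : Mono (ClSub.idealModι _))
  have hO : PicF.IsInvertible (Coh.structureModule X) :=
    Groth.Agent.Helper4.TensorInv.isInvertible_structureModule
  have hinj : ∀ y : X, Function.Injective (stalkLin a y) :=
    fun y => Groth.Agent.Helper4.StalkExact.stalkLin_injective a y
  -- `a` is not an isomorphism
  have hniso : ¬ IsIso a := by
    intro hiso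
    have h1 := deg_iso k (asIso a) 1
    rw [hdI, Groth.Agent.Helper4.NApx82.deg_structureModule] at h1
    omega
  have ha0 : a ≠ 0 := by
    intro h0
    have hz : IsZero IA := IsZero.of_mono_eq_zero a h0
    apply hniso
    apply Groth.Agent.Helper4.QcohLocal.isIso_of_stalkLin_bijective
    intro y
    refine ⟨hinj y, ?_⟩
    by_cases hy : y = A
    · exfalso
      have hz2 : IsZero ((DCoh.tensorRightMod N).obj IA) := Functor.map_isZero _ hz
      have e' : (DCoh.tensorRightMod N).obj IA ≅ Coh.structureModule X :=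
        Groth.Agent.Lead.Ref1B.braid IA N ≪≫ e
      exact Groth.Agent.Helper4.SN593.not_isZero_unit k X hdim hreg (hz2.of_iso e'.symm)
    · exact stalkLin_idealModι_surjective A hA y hy
  obtain ⟨c, hc⟩ := Groth.Agent.Helper4.SN594.exists_smul_eq_of_h0_le_one k X hdim hreg IA N hI
    (Groth.Agent.Lead.Ref1B.braid IA N ≪≫ e) e hh0 a b ha0
  apply hniso
  apply Groth.Agent.Helper4.QcohLocal.isIso_of_stalkLin_bijective
  intro y
  refine ⟨hinj y, ?_⟩
  by_cases hy : y = A
  · subst hy
    have hbs : Function.Surjective (stalkLin b y) := by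
      intro z
      obtain ⟨w, hw⟩ := stalkLin_idealModι_surjective B hB y hAB z
      obtain ⟨v, hv⟩ := (Groth.Agent.Helper1.Dev.stalkLin_bijective_of_isIso ε.hom y).2 w
      refine ⟨v, ?_⟩
      rw [hb, Groth.Agent.Lead.StalkNhd.stalkLin_comp, hv, hw]
    have hba : b = (c • 𝟙 IA) ≫ a := by
      rw [hc, Linear.smul_comp, Category.id_comp]
    intro z
    obtain ⟨v, hv⟩ := hbs z
    refine ⟨stalkLin (c • 𝟙 IA) y v, ?_⟩
    rw [← Groth.Agent.Lead.StalkNhd.stalkLin_comp, ← hba, hv]
  · exact stalkLin_idealModι_surjective A hA y hy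

end Groth.Agent.Helper4.SN648
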