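import Mathlib
import Groth.Agent.Helper4.SN646
import Groth.Agent.Helper4.SN647
import Groth.Agent.Helper4.SN643
import Groth.Agent.Helper4.SN642
import Groth.Agent.Helper4.SN584
import Groth.Agent.Helper4.SuppLib
import Groth.Agent.Lead.UnrStalkB
import Groth.Agent.Helper3.ProjSmooth
import Groth.Agent.S11332

/-!
# Ramification points of a double cover of the projective line by a curve of genus one
-/

set_option autoImplicit false
set_option linter.unusedSectionVars false
set_option linter.style.haveILetI false
universe u

open CategoryTheory CategoryTheory.Limits AlgebraicGeometry TopologicalSpace Opposite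

namespace Groth.Agent.Helper4.SN649

open Groth.Agent.Helper4.SN Groth.Agent.Helper4.SN637 Groth.Agent.Helper4.SN641

variable (k : Type u) [Field k] [IsAlgClosed k] {X : Scheme.{u}} [X.Over (Spec (CommRingCat.of k))]
  [IsIntegral X] [IsProper (X ↘ (Spec (CommRingCat.of k)))]

include k in
/-- a finite morphism from a curve to the projective line is dominant -/
theorem map_genericPoint_of_isFinite (hdim : topologicalKrullDim X = 1)
    (f : X ⟶ CohB1.ProjSpace 1 k) [IsFinite f] :
    f (genericPoint X) = genericPoint (CohB1.ProjSpace 1 k) := by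
  apply map_genericPoint_P1 k f
  rintro ⟨p, -, hp⟩
  have h1 : (f ⁻¹' {p}).Finite := IsFinite.finite_preimage_singleton f p
  have h2 : (Set.univ : Set X) ⊆ f ⁻¹' {p} := fun z _ => hp ⟨z, rfl⟩
  have h3 : (Set.univ : Set X).Finite := h1.subset h2
  exact Groth.Agent.Helper4.SN642.infinite_closedPoints k hdim (h3.subset (Set.subset_univ _))

include k in
/-- the degree of a finite morphism of curves whose direct image of the structure module is
locally free of rank `n` -/
theorem residueDegree_eq_of_rank (hdim : topologicalKrullDim X = 1)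
    (f : X ⟶ CohB1.ProjSpace 1 k) [IsFinite f]
    (hξ : f (genericPoint X) = genericPoint (CohB1.ProjSpace 1 k)) (n : ℕ)
    (hd : FlatMod.IsFinLocFreeOfRank n
      ((Scheme.Modules.pushforward f).obj (Coh.structureModule X))) :
    EGA4loc.residueDegree f (genericPoint X) = n := by
  haveI := Groth.Agent.Helper4.NApx82.isNoetherian_of_proper k X
  have hcl : IsClosedMap f.base := f.isClosedMap
  have hS : IsLocalRing.maximalIdeal (X.presheaf.stalk (genericPoint X)) = ⊥ := by
    rw [← IsLocalRing.isField_iff_maximalIdeal_eq]
    exact isField_stalk_of_closure_mem_irreducibleComponents X _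
      (by simp [irreducibleComponents_eq_singleton])
  have h2 := len_push_toNat f hcl (genericPoint X)
    (fun x' hx' => eq_genericPoint_of_map_eq hdim.le (dim_P1 k) f hcl x' (hx'.trans hξ)) hS
  rw [hξ] at h2
  have hlen : (len ((Scheme.Modules.pushforward f).obj (Coh.structureModule X))
      (genericPoint (CohB1.ProjSpace 1 k))).toNat =
      Module.finrank ((CohB1.ProjSpace 1 k).presheaf.stalk (genericPoint (CohB1.ProjSpace 1 k)))
        (((Scheme.Modules.pushforward f).obj (Coh.structureModule X)).presheaf.stalk
          (genericPoint (CohB1.ProjSpace 1 k))) := by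
    unfold len
    rw [Module.length_eq_rank ((CohB1.ProjSpace 1 k).presheaf.stalk
      (genericPoint (CohB1.ProjSpace 1 k)))]
    rfl
  obtain ⟨bas⟩ := nonempty_basis_stalk_of_rank _ hd (genericPoint (CohB1.ProjSpace 1 k))
  rw [Module.finrank_eq_card_basis bas, Fintype.card_fin] at hlen
  have h3 : f.residueDegree (genericPoint X) = n := by rw [← h2, hlen]
  exact h3

include k in
/-- the residue field map of a `k`-morphism at a point with residue field `k` is surjective -/
theorem residueFieldMap_surjective {Y : Scheme.{u}} [Y.Over (Spec (CommRingCat.of k))]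
    (a : X ⟶ Y) (ha : a ≫ (Y ↘ Spec (CommRingCat.of k)) = X ↘ Spec (CommRingCat.of k))
    (x : X) (hx : Function.Surjective (Curv2.resMap k X x)) :
    Function.Surjective (a.residueFieldMap x).hom := by
  intro z
  obtain ⟨c, hc⟩ := hx z
  refine ⟨Curv2.resMap k Y (a x) c, ?_⟩
  have := Groth.Agent.Helper4.SN647.residueFieldMap_comp_resMap k a ha x
  rw [← hc, ← this]
  rfl

include k in
/-- **a double cover of the projective line by a curve of genus one, in characteristic
different from two, has a ramification point** -/
theorem exists_ramification_point (hchar : ringChar k ≠ 2) (hdim : topologicalKrullDim X = 1)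
    (hreg : ∀ x : X, IsRegularLocalRing (X.presheaf.stalk x)) (hg : Curv2.genus k X = 1)
    (f : X ⟶ CohB1.ProjSpace 1 k) [IsFinite f]
    (hf : f ≫ CohB1.ProjSpace.toSpec 1 k = X ↘ Spec (CommRingCat.of k))
    (hd : FlatMod.IsFinLocFreeOfRank 2
      ((Scheme.Modules.pushforward f).obj (Coh.structureModule X))) :
    ∃ P : X, IsClosed ({P} : Set X) ∧ ∀ z : X, f z = f P → z = P := by
  haveI := Groth.Agent.Helper4.NApx82.isNoetherian_of_proper k X
  haveI : IsProper (CohB1.ProjSpace.toSpec 1 k) := Groth.Agent.Helper6.HProj.isProper_toSpec 1 k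
  haveI hsm : Smooth (CohB1.ProjSpace.toSpec 1 k) :=
    Groth.Agent.Helper3.ProjSmooth.smooth_toSpec 1 k
  haveI : Smooth ((CohB1.ProjSpace 1 k) ↘ Spec (CommRingCat.of k)) := hsm
  have hξ := map_genericPoint_of_isFinite k hdim f
  have h2 := residueDegree_eq_of_rank k hdim f hξ 2 hd
  have hregY : ∀ y : CohB1.ProjSpace 1 k,
      IsRegularLocalRing ((CohB1.ProjSpace 1 k).presheaf.stalk y) := fun y => regular_of_smooth k y
  have h2' : @Module.finrank (CohB1.ProjSpace 1 k).functionField X.functionField _ _
      (ffMap f hξ).hom.toAlgebra.toModule = 2 := by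
    rw [finrank_ffMap f hξ, h2]
  have hcharK : ∀ (K : Type u) [Field K] (ψ : k →+* K), ringChar K ≠ 2 := by
    intro K _ ψ
    haveI := ringChar.charP k
    haveI : CharP K (ringChar k) := charP_of_injective_ringHom ψ.injective (ringChar k)
    rw [ringChar.eq K (ringChar k)]
    exact hchar
  have hsep : @Algebra.IsSeparable (CohB1.ProjSpace 1 k).functionField X.functionField _ _
      (ffMap f hξ).hom.toAlgebra :=
    @Groth.Agent.Helper4.SN643.isSeparable_of_finrank_two _ _ _ _
      (ffMap f hξ).hom.toAlgebra h2'
      (hcharK _ (Curv2.stalkMap k (CohB1.ProjSpace 1 k) (genericPoint (CohB1.ProjSpace 1 k))))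
  have hH := Groth.Agent.S11332.result k X hdim hreg (CohB1.ProjSpace 1 k) (dim_P1 k) hregY f hf
    hξ hsep
  rw [hg, Groth.Agent.Helper4.SN584.genus_P1] at hH
  have h2'' : (f.residueDegree (genericPoint X) : ℤ) = 2 := by exact_mod_cast h2
  rw [h2''] at hH
  by_contra hcon
  push Not at hcon
  have hstalk : ∀ x : X, Subsingleton ((Omega.sheaf f).presheaf.stalk x) := by
    intro x
    rw [Groth.Agent.Lead.UnrStalkB.main f x]
    by_cases hx : x = genericPoint X
    · subst hx
      have hfY : ∀ y : CohB1.ProjSpace 1 k, y = genericPoint (CohB1.ProjSpace 1 k) →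
          IsLocalRing.maximalIdeal ((CohB1.ProjSpace 1 k).presheaf.stalk y) = ⊥ := by
        rintro _ rfl
        rw [← IsLocalRing.isField_iff_maximalIdeal_eq]
        exact isField_stalk_of_closure_mem_irreducibleComponents (CohB1.ProjSpace 1 k) _
          (by simp [irreducibleComponents_eq_singleton])
      have hfX : IsLocalRing.maximalIdeal (X.presheaf.stalk (genericPoint X)) = ⊥ := by
        rw [← IsLocalRing.isField_iff_maximalIdeal_eq]
        exact isField_stalk_of_closure_mem_irreducibleComponents X _
          (by simp [irreducibleComponents_eq_singleton])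
      letI alg := (f.residueFieldMap (genericPoint X)).hom.toAlgebra
      have hfr : Module.finrank ((CohB1.ProjSpace 1 k).residueField (f (genericPoint X)))
          (X.residueField (genericPoint X)) = 2 := h2
      haveI : Module.Finite ((CohB1.ProjSpace 1 k).residueField (f (genericPoint X)))
          (X.residueField (genericPoint X)) := Module.finite_of_finrank_pos (by omega)
      refine ⟨?_, ?_, ?_⟩
      · rw [hfY _ hξ, hfX, Ideal.map_bot]
      · exact RingHom.finite_algebraMap.mpr inferInstance
      · exact Groth.Agent.Helper4.SN643.isSeparable_of_finrank_two hfr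
          (hcharK _ (Curv2.resMap k (CohB1.ProjSpace 1 k) (f (genericPoint X))))
    · have hxcl : IsClosed ({x} : Set X) := isClosed_singleton_of_ne_genericPoint hdim.le x hx
      obtain ⟨z, hz, hzx⟩ := hcon x hxcl
      have hycl : IsClosed ({f x} : Set (CohB1.ProjSpace 1 k)) := by
        have := f.isClosedMap _ hxcl
        rwa [Set.image_singleton] at this
      have hzcl : IsClosed ({z} : Set X) := by
        apply isClosed_singleton_of_ne_genericPoint hdim.le z
        intro hzη
        rw [hzη, hξ] at hz
        exact ne_genericPoint_of_isClosed (dim_P1 k) (f x) hycl hz.symm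
      have hsurj : Function.Surjective (f.residueFieldMap x).hom := by
        apply residueFieldMap_surjective k f hf x
        letI := Curv2.resAlgebra k X x
        have h1 := finrank_residueField_eq_one' k x hxcl
        exact ((finrank_residueField_eq_one_iff k x).mp h1).2
      refine ⟨Groth.Agent.Helper4.SN646.map_maximalIdeal_eq_of_two_points f hd x z hxcl hzcl
        (Ne.symm hzx) hz hycl, RingHom.Finite.of_surjective _ hsurj, ?_⟩
      letI alg := (f.residueFieldMap x).hom.toAlgebra
      refine ⟨fun w => ?_⟩
      obtain ⟨v, rfl⟩ := hsurj w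
      exact isSeparable_algebraMap v
  have hzero : IsZero (Omega.sheaf f) := Groth.Agent.Helper4.SuppLib.isZero_of_stalks _ hstalk
  have h0 : Module.finrank k (Coh.HH X (Omega.sheaf f) 0) = 0 := by
    rw [← finrank_hom_unit k (Omega.sheaf f)]
    haveI : Subsingleton (Coh.structureModule X ⟶ Omega.sheaf f) :=
      ⟨fun a b => hzero.eq_of_tgt a b⟩
    exact Module.finrank_zero_of_subsingleton
  rw [h0] at hH
  norm_num at hH

end Groth.Agent.Helper4.SN649
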