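import Mathlib
import Groth.Agent.Helper4.SN639
import Groth.Agent.Helper4.SN641

/-!
# The involution of a double cover and its action on the function field
-/

set_option autoImplicit false
set_option linter.unusedSectionVars false
set_option linter.style.haveILetI false
universe u

open CategoryTheory CategoryTheory.Limits AlgebraicGeometry TopologicalSpace Opposite

namespace Groth.Agent.Helper4.SN650

open Groth.Agent.Helper4.SN637 Groth.Agent.Helper4.SN638 Groth.Agent.Helper4.SN639

section FF

variable {P C D : Scheme.{u}} [IsIntegral P] [IsIntegral C] [IsIntegral D]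

theorem ffMap_congr {g g' : P ⟶ C} (h : g = g') (hdom : g (genericPoint P) = genericPoint C)
    (hdom' : g' (genericPoint P) = genericPoint C) : ffMap g hdom = ffMap g' hdom' := by
  subst h
  rfl

/-- functoriality of the map of function fields -/
theorem ffMap_comp (g : P ⟶ C) (h : C ⟶ D) (hg : g (genericPoint P) = genericPoint C)
    (hh : h (genericPoint C) = genericPoint D)
    (hgh : (g ≫ h) (genericPoint P) = genericPoint D) :
    ffMap (g ≫ h) hgh = ffMap h hh ≫ ffMap g hg := by
  have h1 : Spec.map (ffMap h hh ≫ ffMap g hg) ≫ D.fromSpecStalk (genericPoint D) =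
      P.fromSpecStalk (genericPoint P) ≫ g ≫ h := by
    rw [Spec.map_comp, Category.assoc, SpecMap_ffMap h hh, ← Category.assoc, SpecMap_ffMap g hg,
      Category.assoc]
  obtain ⟨hd', h2⟩ := ffMap_unique (g ≫ h) _ h1
  rw [h2]

end FF

variable {S C Y : Scheme.{u}} [IsIntegral C] [IsIntegral Y] [IsLocallyNoetherian C]

/-- **the involution of a separable double cover**, with its action on the function field -/
theorem exists_involution_of_double_cover'
    (p : C ⟶ S) [IsProper p] (q : Y ⟶ S) [IsSeparated q]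
    (hreg : ∀ y : C, IsRegularLocalRing (C.presheaf.stalk y))
    (hdim1 : ∀ y : C, ringKrullDim (C.presheaf.stalk y) ≤ 1)
    (hN : ∀ y : Y, IsIntegrallyClosed (Y.presheaf.stalk y))
    (f : C ⟶ Y) [IsIntegralHom f] (hf : f ≫ q = p)
    (hdom : f (genericPoint C) = genericPoint Y)
    (h2 : @Module.finrank Y.functionField C.functionField _ _
      (ffMap f hdom).hom.toAlgebra.toModule = 2)
    (hsep : @Algebra.IsSeparable Y.functionField C.functionField _ _
      (ffMap f hdom).hom.toAlgebra) :
    ∃ σ : C ≅ C, σ.hom ≫ p = p ∧ σ.hom ≫ σ.hom = 𝟙 C ∧ σ.hom ≫ f = f ∧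
      (∀ (R R' : C), IsClosed ({R'} : Set C) → f R = f R' → R' = R ∨ R' = σ.hom R) ∧
      ∃ hση : σ.hom (genericPoint C) = genericPoint C,
        ∀ x : C.functionField, (ffMap σ.hom hση).hom x = x →
          x ∈ Set.range (ffMap f hdom).hom := by
  letI alg : Algebra Y.functionField C.functionField := (ffMap f hdom).hom.toAlgebra
  haveI := hsep
  obtain ⟨σK, -, hσσ, hfix⟩ := Groth.Agent.Helper4.SN635.exists_involution
    (K := Y.functionField) (L := C.functionField) h2
  let τ : C.functionField ⟶ C.functionField :=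
    CommRingCat.ofHom (σK : C.functionField →+* C.functionField)
  have hfτ : ffMap f hdom ≫ τ = ffMap f hdom := by
    ext x
    show σK ((ffMap f hdom).hom x) = (ffMap f hdom).hom x
    exact σK.commutes x
  have hττ : τ ≫ τ = 𝟙 _ := by
    ext x
    show σK (σK x) = x
    exact hσσ x
  set η := genericPoint C with hη
  have hbase : C.fromSpecStalk η ≫ f =
      Spec.map (ffMap f hdom) ≫ Y.fromSpecStalk (genericPoint Y) :=
    (SpecMap_ffMap f hdom).symm
  have hτf : Spec.map τ ≫ C.fromSpecStalk η ≫ f = C.fromSpecStalk η ≫ f := by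
    rw [hbase, ← Category.assoc, ← Spec.map_comp, hfτ]
  have hτ : Spec.map τ ≫ C.fromSpecStalk η ≫ p = C.fromSpecStalk η ≫ p := by
    rw [← hf, ← Category.assoc (C.fromSpecStalk η), ← Category.assoc (Spec.map τ), hτf]
  obtain ⟨σ₀, hσp, hσg⟩ := exists_hom_of_functionField_hom p hreg hdim1 τ hτ
  obtain ⟨hση, hτσ⟩ := ffMap_unique σ₀ τ hσg.symm
  haveI := isDominant_fromSpecStalk_genericPoint C
  haveI : IsSeparated p := inferInstance
  have hσf : σ₀ ≫ f = f := by
    apply ext_of_isDominant_of_isSeparated q (by rw [Category.assoc, hf, hσp]) (C.fromSpecStalk η)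
    rw [← Category.assoc, hσg, Category.assoc, hτf]
  have hσσ' : σ₀ ≫ σ₀ = 𝟙 C := by
    apply ext_of_isDominant_of_isSeparated p (by rw [Category.assoc, hσp, hσp, Category.id_comp])
      (C.fromSpecStalk η)
    rw [← Category.assoc, hσg, Category.assoc, hσg, ← Category.assoc, ← Spec.map_comp, hττ,
      Spec.map_id, Category.id_comp, Category.comp_id]
  have hfix' : ∀ x : C.functionField, (ffMap σ₀ hση).hom x = x →
      x ∈ Set.range (ffMap f hdom).hom := by
    intro x hx
    rw [← hτσ] at hx
    exact hfix x hx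
  refine ⟨⟨σ₀, σ₀, hσσ', hσσ'⟩, hσp, hσσ', hσf, ?_, hση, hfix'⟩
  intro R R' hR' hRR'
  exact eq_or_eq_of_fiber f hdom hN σ₀ hσf hσσ' hση hfix' R R' hR' hRR'

end Groth.Agent.Helper4.SN650
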