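import Mathlib
import Groth.Prelude.Def_ResDeg

/-!
# Subfields of index two; residue degree of a composite with an isomorphism
-/

set_option autoImplicit false
set_option linter.unusedSectionVars false
set_option linter.style.haveILetI false
universe u

open CategoryTheory CategoryTheory.Limits AlgebraicGeometry TopologicalSpace Opposite

namespace Groth.Agent.Helper4.SN651

section Alg

/-- a field homomorphism `θ : F → M` such that `K` has the same finite positive degree over `M`
and over `F` is surjective -/
theorem surjective_of_finrank_eq {F M K : Type*} [Field F] [Field M] [Field K]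
    (θ : F →+* M) (φ : M →+* K) (d : ℕ) (hd : 0 < d)
    (h₁ : @Module.finrank M K _ _ φ.toAlgebra.toModule = d)
    (h₂ : @Module.finrank F K _ _ (φ.comp θ).toAlgebra.toModule = d) :
    Function.Surjective θ := by
  letI a1 : Algebra F M := θ.toAlgebra
  letI a2 : Algebra M K := φ.toAlgebra
  letI a3 : Algebra F K := (φ.comp θ).toAlgebra
  haveI : IsScalarTower F M K := IsScalarTower.of_algebraMap_eq (fun _ => rfl)
  have h := Module.finrank_mul_finrank F M K
  have h₁' : Module.finrank M K = d := h₁
  have h₂' : Module.finrank F K = d := h₂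
  rw [h₁', h₂'] at h
  have h1 : Module.finrank F M = 1 := by
    have : Module.finrank F M * d = 1 * d := by rw [h, one_mul]
    exact Nat.eq_of_mul_eq_mul_right hd this
  have h2 := Subalgebra.bot_eq_top_of_finrank_eq_one h1
  intro x
  have hx : x ∈ (⊤ : Subalgebra F M) := Algebra.mem_top
  rw [← h2, Algebra.mem_bot] at hx
  obtain ⟨y, hy⟩ := hx
  exact ⟨y, hy⟩

/-- two subfields of the same finite index, one contained in the other, are related by an
automorphism of the base -/
theorem exists_ringEquiv_of_range_le {K₀ K : Type*} [Field K₀] [Field K] (φ₁ φ₂ : K₀ →+* K)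
    (d : ℕ) (hd : 0 < d)
    (h₁ : @Module.finrank K₀ K _ _ φ₁.toAlgebra.toModule = d)
    (h₂ : @Module.finrank K₀ K _ _ φ₂.toAlgebra.toModule = d)
    (hle : ∀ z, φ₂ z ∈ Set.range φ₁) :
    ∃ θ : K₀ ≃+* K₀, ∀ z, φ₁ (θ z) = φ₂ z := by
  choose w hw using hle
  let θ₀ : K₀ →+* K₀ :=
    { toFun := w
      map_one' := φ₁.injective (by rw [hw, map_one, map_one])
      map_mul' := fun a b => φ₁.injective (by rw [hw, map_mul, map_mul, hw, hw])
      map_zero' := φ₁.injective (by rw [hw, map_zero, map_zero])
      map_add' := fun a b => φ₁.injective (by rw [hw, map_add, map_add, hw, hw]) }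
  have hθ₀ : φ₁.comp θ₀ = φ₂ := RingHom.ext (fun z => hw z)
  have hsurj : Function.Surjective θ₀ := by
    apply surjective_of_finrank_eq θ₀ φ₁ d hd h₁
    rw [hθ₀]
    exact h₂
  exact ⟨RingEquiv.ofBijective θ₀ ⟨θ₀.injective, hsurj⟩, fun z => hw z⟩

end Alg

section ResDeg

variable {X X' Y : Scheme.{u}}

/-- the residue degree of a composite with an isomorphism -/
theorem residueDegree_iso_comp (σ : X ⟶ X') [IsIso σ] (f : X' ⟶ Y) (x : X) :
    EGA4loc.residueDegree (σ ≫ f) x = EGA4loc.residueDegree f (σ x) := by
  unfold EGA4loc.residueDegree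
  letI a1 : Algebra (Y.residueField (f (σ x))) (X'.residueField (σ x)) :=
    (f.residueFieldMap (σ x)).hom.toAlgebra
  letI a2 : Algebra (Y.residueField (f (σ x))) (X.residueField x) :=
    ((σ ≫ f).residueFieldMap x).hom.toAlgebra
  let e := (asIso (σ.residueFieldMap x)).commRingCatIsoToRingEquiv
  have hcomp : ∀ c : Y.residueField (f (σ x)),
      ((σ ≫ f).residueFieldMap x).hom c = e ((f.residueFieldMap (σ x)).hom c) := by
    intro c
    rw [Scheme.residueFieldMap_comp]
    rfl
  let E : X'.residueField (σ x) ≃ₗ[Y.residueField (f (σ x))] X.residueField x :=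
    { e.toAddEquiv with
      map_smul' := fun c z => by
        show e (c • z) = c • e z
        rw [Algebra.smul_def, Algebra.smul_def, map_mul]
        congr 1
        exact (hcomp c).symm }
  exact E.finrank_eq.symm

end ResDeg

end Groth.Agent.Helper4.SN651
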