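import Mathlib
import Groth.Agent.Helper4.SN644
import Groth.Agent.Helper4.SN647
import Groth.Agent.Helper4.SN648
import Groth.Agent.Helper4.SN649
import Groth.Agent.Helper4.SN650
import Groth.Agent.Helper4.SN651
import Groth.Agent.Helper4.SN112

/-!
# Two double covers of the projective line by a curve of genus one differ by automorphisms
-/

set_option autoImplicit false
set_option linter.unusedSectionVars false
set_option linter.style.haveILetI false
universe u

open CategoryTheory CategoryTheory.Limits AlgebraicGeometry TopologicalSpace Opposite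

namespace Groth.Agent.Helper4.SN652

open Groth.Agent.Helper4.SN Groth.Agent.Helper4.SN637 Groth.Agent.Helper4.SN641
  Groth.Agent.Helper4.SN649 Groth.Agent.Helper4.SN650

variable (k : Type u) [Field k] [IsAlgClosed k] {X : Scheme.{u}} [X.Over (Spec (CommRingCat.of k))]
  [IsIntegral X] [IsProper (X ↘ (Spec (CommRingCat.of k)))]

/-- two double covers of the projective line with a common totally ramified point have
isomorphic pullbacks of `O(1)`, and the same fibres -/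
theorem fibres_eq (hdim : topologicalKrullDim X = 1)
    (hreg : ∀ x : X, IsRegularLocalRing (X.presheaf.stalk x)) (hg : Curv2.genus k X = 1)
    (f g : X ⟶ CohB1.ProjSpace 1 k)
    (hf : f ≫ CohB1.ProjSpace.toSpec 1 k = X ↘ Spec (CommRingCat.of k))
    (hgp : g ≫ CohB1.ProjSpace.toSpec 1 k = X ↘ Spec (CommRingCat.of k))
    (hξf : f (genericPoint X) = genericPoint (CohB1.ProjSpace 1 k))
    (hξg : g (genericPoint X) = genericPoint (CohB1.ProjSpace 1 k))
    (hdf : EGA4loc.residueDegree f (genericPoint X) = 2)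
    (hdg : EGA4loc.residueDegree g (genericPoint X) = 2)
    (P : X) (hP : IsClosed ({P} : Set X))
    (hfibf : ∀ z : X, f z = f P → z = P) (hfibg : ∀ z : X, g z = g P → z = P)
    (R : X) (hR : IsClosed ({R} : Set X)) (z : X) (hz : f z = f R) : g z = g R := by
  haveI := Groth.Agent.Helper4.NApx82.isNoetherian_of_proper k X
  have hnorm : ∀ x : X, IsIntegrallyClosed (X.presheaf.stalk x) := fun x =>
    haveI := hreg x
    Groth.Agent.Helper4.RegNormal.isIntegrallyClosed_of_isRegularLocalRing _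
  set Lf := (Scheme.Modules.pullback f).obj (Twist.twistProjSpace 1 k 1) with hLf
  set Lg := (Scheme.Modules.pullback g).obj (Twist.twistProjSpace 1 k 1) with hLg
  -- the pullbacks of `O(1)` are isomorphic
  obtain ⟨ι⟩ : Nonempty (Lf ≅ Lg) := by
    obtain ⟨R₁, hR₁, ⟨e₁⟩, hfR₁, -⟩ :=
      Groth.Agent.Helper4.SN644.exists_fibre_pair k hdim hnorm f hf hξf hdf P hP
    obtain ⟨R₂, hR₂, ⟨e₂⟩, hgR₂, -⟩ :=
      Groth.Agent.Helper4.SN644.exists_fibre_pair k hdim hnorm g hgp hξg hdg P hP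
    have h1 : R₁ = P := hfibf R₁ hfR₁
    have h2 : R₂ = P := hfibg R₂ hgR₂
    subst h1
    subst h2
    set I := ClSub.idealMod (Scheme.IdealSheafData.vanishingIdeal ⟨{R₂}, hP⟩) with hI
    have E1 : CohB1.tensorMod Lf (CohB1.tensorMod I I) ≅ Coh.structureModule X :=
      Groth.Agent.Lead.Ref1B.braid _ _ ≪≫ Groth.Agent.Lead.Ref1B.assoc I I Lf ≪≫ e₁.symm
    have E2 : CohB1.tensorMod Lg (CohB1.tensorMod I I) ≅ Coh.structureModule X :=
      Groth.Agent.Lead.Ref1B.braid _ _ ≪≫ Groth.Agent.Lead.Ref1B.assoc I I Lg ≪≫ e₂.symm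
    exact nonempty_iso_of_inverse Lf Lg (CohB1.tensorMod I I) Lf E1 E2
      (Groth.Agent.Lead.Ref1B.braid _ _ ≪≫ E1)
  obtain ⟨R₁, hR₁, ⟨e₁⟩, hfR₁, hall₁⟩ :=
    Groth.Agent.Helper4.SN644.exists_fibre_pair k hdim hnorm f hf hξf hdf R hR
  obtain ⟨R₂, hR₂, ⟨e₂⟩, hgR₂, -⟩ :=
    Groth.Agent.Helper4.SN644.exists_fibre_pair k hdim hnorm g hgp hξg hdg R hR
  set IR := ClSub.idealMod (Scheme.IdealSheafData.vanishingIdeal ⟨{R}, hR⟩) with hIR
  set I₁ := ClSub.idealMod (Scheme.IdealSheafData.vanishingIdeal ⟨{R₁}, hR₁⟩) with hI₁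
  set I₂ := ClSub.idealMod (Scheme.IdealSheafData.vanishingIdeal ⟨{R₂}, hR₂⟩) with hI₂
  have E1 : CohB1.tensorMod I₁ (CohB1.tensorMod IR Lf) ≅ Coh.structureModule X := e₁.symm
  have E2 : CohB1.tensorMod I₂ (CohB1.tensorMod IR Lf) ≅ Coh.structureModule X :=
    PicGrp.tensorModIso (Iso.refl I₂) (PicGrp.tensorModIso (Iso.refl IR) ι) ≪≫ e₂.symm
  obtain ⟨ε⟩ := nonempty_iso_of_inverse I₁ I₂ (CohB1.tensorMod IR Lf) I₁ E1 E2
    (Groth.Agent.Lead.Ref1B.braid _ _ ≪≫ E1)
  have h12 : R₁ = R₂ :=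
    Groth.Agent.Helper4.SN648.eq_of_idealMod_iso k hdim hreg hg R₁ R₂ hR₁ hR₂ ε
  rcases hall₁ z hz with h | h
  · rw [h]
  · rw [h, h12, hgR₂]

/-- **S11351** -/
theorem main11351 (hdim : topologicalKrullDim X = 1)
    (hreg : ∀ x : X, IsRegularLocalRing (X.presheaf.stalk x)) (hchar : ringChar k ≠ 2)
    (hg : Curv2.genus k X = 1)
    (f₁ f₂ : X ⟶ (CohB1.ProjSpace 1 k)) [IsFinite f₁] [IsFinite f₂]
    (hf₁ : f₁ ≫ CohB1.ProjSpace.toSpec 1 k = (X ↘ (Spec (CommRingCat.of k))))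
    (hf₂ : f₂ ≫ CohB1.ProjSpace.toSpec 1 k = (X ↘ (Spec (CommRingCat.of k))))
    (hd₁ : FlatMod.IsFinLocFreeOfRank 2
      ((Scheme.Modules.pushforward f₁).obj (Coh.structureModule X)))
    (hd₂ : FlatMod.IsFinLocFreeOfRank 2
      ((Scheme.Modules.pushforward f₂).obj (Coh.structureModule X))) :
    ∃ (σ : X ≅ X) (τ : (CohB1.ProjSpace 1 k) ≅ (CohB1.ProjSpace 1 k)),
      σ.hom ≫ (X ↘ (Spec (CommRingCat.of k))) = (X ↘ (Spec (CommRingCat.of k))) ∧
      τ.hom ≫ CohB1.ProjSpace.toSpec 1 k = CohB1.ProjSpace.toSpec 1 k ∧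
      σ.hom ≫ f₂ = f₁ ≫ τ.hom := by
  haveI := Groth.Agent.Helper4.NApx82.isNoetherian_of_proper k X
  haveI : IsProper (CohB1.ProjSpace.toSpec 1 k) := Groth.Agent.Helper6.HProj.isProper_toSpec 1 k
  haveI hsm : Smooth (CohB1.ProjSpace.toSpec 1 k) :=
    Groth.Agent.Helper3.ProjSmooth.smooth_toSpec 1 k
  haveI : Smooth ((CohB1.ProjSpace 1 k) ↘ Spec (CommRingCat.of k)) := hsm
  haveI := Groth.Agent.Helper4.NApx82.isNoetherian_of_proper k (CohB1.ProjSpace 1 k)
  have hξ₁ := map_genericPoint_of_isFinite k hdim f₁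
  have hξ₂ := map_genericPoint_of_isFinite k hdim f₂
  have hdeg₁ := residueDegree_eq_of_rank k hdim f₁ hξ₁ 2 hd₁
  have hdeg₂ := residueDegree_eq_of_rank k hdim f₂ hξ₂ 2 hd₂
  obtain ⟨P₁, hP₁, hfib₁⟩ := exists_ramification_point k hchar hdim hreg hg f₁ hf₁ hd₁
  obtain ⟨P₂, hP₂, hfib₂⟩ := exists_ramification_point k hchar hdim hreg hg f₂ hf₂ hd₂
  obtain ⟨σ₀, hσ₀p, hσ₀P⟩ : ∃ σ₀ : X ≅ X,
      σ₀.hom ≫ (X ↘ Spec (CommRingCat.of k)) = (X ↘ Spec (CommRingCat.of k)) ∧
        σ₀.hom P₁ = P₂ := by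
    by_cases h : P₁ = P₂
    · exact ⟨Iso.refl X, Category.id_comp _, h⟩
    · obtain ⟨σ, h1, -, h3⟩ :=
        Groth.Agent.Helper4.SN642.exists_involution_swap k hdim hreg hg P₁ P₂ hP₁ hP₂ h
      exact ⟨σ, h1, h3⟩
  obtain ⟨g, hgdef⟩ : ∃ g : X ⟶ CohB1.ProjSpace 1 k, g = σ₀.hom ≫ f₂ := ⟨_, rfl⟩
  have hgp : g ≫ CohB1.ProjSpace.toSpec 1 k = X ↘ Spec (CommRingCat.of k) := by
    rw [hgdef, Category.assoc, hf₂, hσ₀p]
  haveI : IsFinite g := by rw [hgdef]; infer_instance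
  have hξg := map_genericPoint_of_isFinite k hdim g
  have hgz : ∀ z : X, g z = f₂ (σ₀.hom z) := fun z => by rw [hgdef]; rfl
  have hσ₀η : σ₀.hom (genericPoint X) = genericPoint X :=
    genericPoint_eq_of_isOpenImmersion σ₀.hom
  have hdegg : EGA4loc.residueDegree g (genericPoint X) = 2 := by
    rw [hgdef, Groth.Agent.Helper4.SN651.residueDegree_iso_comp, hσ₀η, hdeg₂]
  have hfibg : ∀ z : X, g z = g P₁ → z = P₁ := by
    intro z hz
    rw [hgz, hgz, hσ₀P] at hz
    have h1 : σ₀.hom z = σ₀.hom P₁ := (hfib₂ _ hz).trans hσ₀P.symm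
    have h2 := congrArg (fun w => σ₀.inv w) h1
    simpa [← Scheme.Hom.comp_apply] using h2
  -- the involution of `f₁`
  have hdim1 : ∀ y : X, ringKrullDim (X.presheaf.stalk y) ≤ 1 := by
    intro y
    have := Groth.Agent.Helper5.DimIneq.ringKrullDim_stalk_le_dim X y
    rw [hdim] at this
    exact this
  have hN : ∀ y : CohB1.ProjSpace 1 k,
      IsIntegrallyClosed ((CohB1.ProjSpace 1 k).presheaf.stalk y) :=
    fun y => isIntegrallyClosed_stalk_P1 k y
  have hcharK : ringChar (CohB1.ProjSpace 1 k).functionField ≠ 2 := by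
    haveI := ringChar.charP k
    haveI : CharP (CohB1.ProjSpace 1 k).functionField (ringChar k) :=
      charP_of_injective_ringHom
        (f := (Curv2.stalkMap k (CohB1.ProjSpace 1 k) (genericPoint (CohB1.ProjSpace 1 k))))
        (RingHom.injective _) (ringChar k)
    rw [ringChar.eq (CohB1.ProjSpace 1 k).functionField (ringChar k)]
    exact hchar
  have h2f : @Module.finrank (CohB1.ProjSpace 1 k).functionField X.functionField _ _
      (ffMap f₁ hξ₁).hom.toAlgebra.toModule = 2 := by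
    rw [finrank_ffMap f₁ hξ₁, hdeg₁]
  have h2g : @Module.finrank (CohB1.ProjSpace 1 k).functionField X.functionField _ _
      (ffMap g hξg).hom.toAlgebra.toModule = 2 := by
    rw [finrank_ffMap g hξg, hdegg]
  have hsep : @Algebra.IsSeparable (CohB1.ProjSpace 1 k).functionField X.functionField _ _
      (ffMap f₁ hξ₁).hom.toAlgebra :=
    @Groth.Agent.Helper4.SN643.isSeparable_of_finrank_two _ _ _ _
      (ffMap f₁ hξ₁).hom.toAlgebra h2f hcharK
  obtain ⟨σ₁, hσ₁p, -, hσ₁f, -, hσ₁η, hσ₁fix⟩ :=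
    exists_involution_of_double_cover' (X ↘ Spec (CommRingCat.of k))
      (CohB1.ProjSpace.toSpec 1 k) hreg hdim1 hN f₁ hf₁ hξ₁ h2f hsep
  -- `g` is invariant under the involution of `f₁`
  have hσ₁g : σ₁.hom ≫ g = g := by
    apply Groth.Agent.Helper4.SN647.hom_ext_of_closedPoints k (σ₁.hom ≫ g) g
      (by rw [Category.assoc]; exact (congrArg (fun m => σ₁.hom ≫ m) hgp).trans hσ₁p) hgp
    intro R hR
    show g (σ₁.hom R) = g R
    apply fibres_eq k hdim hreg hg f₁ g hf₁ hgp hξ₁ hξg hdeg₁ hdegg P₁ hP₁ hfib₁ hfibg R hR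
    show (σ₁.hom ≫ f₁) R = f₁ R
    rw [hσ₁f]
  have hK : ∀ z : (CohB1.ProjSpace 1 k).functionField,
      (ffMap g hξg).hom z ∈ Set.range (ffMap f₁ hξ₁).hom := by
    intro z
    apply hσ₁fix
    have hdom : (σ₁.hom ≫ g) (genericPoint X) = genericPoint (CohB1.ProjSpace 1 k) := by
      rw [hσ₁g]; exact hξg
    have h1 := ffMap_comp σ₁.hom g hσ₁η hξg hdom
    have h2 := ffMap_congr hσ₁g hdom hξg
    exact congrArg (fun ψ => ψ.hom z) (h1.symm.trans h2)
  obtain ⟨θ, hθ⟩ := Groth.Agent.Helper4.SN651.exists_ringEquiv_of_range_le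
    (ffMap f₁ hξ₁).hom (ffMap g hξg).hom 2 (by norm_num) h2f h2g hK
  let θc : (CohB1.ProjSpace 1 k).functionField ⟶ (CohB1.ProjSpace 1 k).functionField :=
    CommRingCat.ofHom θ.toRingHom
  let θc' : (CohB1.ProjSpace 1 k).functionField ⟶ (CohB1.ProjSpace 1 k).functionField :=
    CommRingCat.ofHom θ.symm.toRingHom
  have hθc : θc ≫ ffMap f₁ hξ₁ = ffMap g hξg := by
    ext z
    exact hθ z
  have hθθ' : θc' ≫ θc = 𝟙 _ := by
    ext z
    exact θ.apply_symm_apply z
  have hθ'θ : θc ≫ θc' = 𝟙 _ := by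
    ext z
    exact θ.symm_apply_apply z
  set ηP := genericPoint (CohB1.ProjSpace 1 k) with hηP
  set q := CohB1.ProjSpace.toSpec 1 k with hq
  -- compatibility with the structure morphism
  have hτθ : Spec.map θc ≫ (CohB1.ProjSpace 1 k).fromSpecStalk ηP ≫ q =
      (CohB1.ProjSpace 1 k).fromSpecStalk ηP ≫ q := by
    haveI : Epi (Spec.map (ffMap f₁ hξ₁)) := by
      haveI hss : Subsingleton (Spec ((CohB1.ProjSpace 1 k).functionField)) :=
        inferInstanceAs (Subsingleton (PrimeSpectrum (CohB1.ProjSpace 1 k).functionField))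
      haveI : Surjective (Spec.map (ffMap f₁ hξ₁)) :=
        ⟨fun y => ⟨IsLocalRing.closedPoint X.functionField, Subsingleton.elim _ _⟩⟩
      haveI : Flat (Spec.map (ffMap f₁ hξ₁)) := by
        rw [Flat.SpecMap_iff]
        letI := (ffMap f₁ hξ₁).hom.toAlgebra
        exact (inferInstance : Module.Flat (CohB1.ProjSpace 1 k).functionField X.functionField)
      exact Flat.epi_of_flat_of_surjective _
    rw [← cancel_epi (Spec.map (ffMap f₁ hξ₁))]
    rw [← Category.assoc, ← Spec.map_comp, hθc, ← Category.assoc, ← Category.assoc,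
      SpecMap_ffMap g hξg, SpecMap_ffMap f₁ hξ₁, Category.assoc, Category.assoc, hgp, hf₁]
  have hτθ' : Spec.map θc' ≫ (CohB1.ProjSpace 1 k).fromSpecStalk ηP ≫ q =
      (CohB1.ProjSpace 1 k).fromSpecStalk ηP ≫ q := by
    conv_lhs => rw [← hτθ]
    rw [← Category.assoc, ← Spec.map_comp, hθ'θ, Spec.map_id, Category.id_comp]
  have hregY : ∀ y : CohB1.ProjSpace 1 k,
      IsRegularLocalRing ((CohB1.ProjSpace 1 k).presheaf.stalk y) := fun y => regular_of_smooth k y
  have hdim1Y : ∀ y : CohB1.ProjSpace 1 k,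
      ringKrullDim ((CohB1.ProjSpace 1 k).presheaf.stalk y) ≤ 1 := by
    intro y
    have := Groth.Agent.Helper5.DimIneq.ringKrullDim_stalk_le_dim (CohB1.ProjSpace 1 k) y
    rw [dim_P1 k] at this
    exact this
  obtain ⟨τ, hτq, hτη⟩ := exists_hom_of_functionField_hom q hregY hdim1Y θc hτθ
  obtain ⟨τ', hτ'q, hτ'η⟩ := exists_hom_of_functionField_hom q hregY hdim1Y θc' hτθ'
  haveI := Groth.Agent.Helper4.SN639.isDominant_fromSpecStalk_genericPoint (CohB1.ProjSpace 1 k)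
  haveI := Groth.Agent.Helper4.SN639.isDominant_fromSpecStalk_genericPoint X
  haveI : IsSeparated q := inferInstance
  have hττ' : τ ≫ τ' = 𝟙 _ := by
    apply ext_of_isDominant_of_isSeparated q
      (by rw [Category.assoc, hτ'q, hτq, Category.id_comp])
      ((CohB1.ProjSpace 1 k).fromSpecStalk ηP)
    rw [← Category.assoc, hτη, Category.assoc, hτ'η, ← Category.assoc, ← Spec.map_comp, hθθ',
      Spec.map_id, Category.id_comp, Category.comp_id]
  have hτ'τ : τ' ≫ τ = 𝟙 _ := by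
    apply ext_of_isDominant_of_isSeparated q
      (by rw [Category.assoc, hτq, hτ'q, Category.id_comp])
      ((CohB1.ProjSpace 1 k).fromSpecStalk ηP)
    rw [← Category.assoc, hτ'η, Category.assoc, hτη, ← Category.assoc, ← Spec.map_comp, hθ'θ,
      Spec.map_id, Category.id_comp, Category.comp_id]
  have hfτ : f₁ ≫ τ = g := by
    apply ext_of_isDominant_of_isSeparated q
      (by rw [Category.assoc, hτq, hf₁, hgp])
      (X.fromSpecStalk (genericPoint X))
    rw [← Category.assoc, ← SpecMap_ffMap f₁ hξ₁, Category.assoc, hτη, ← Category.assoc,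
      ← Spec.map_comp, hθc, SpecMap_ffMap g hξg]
  refine ⟨σ₀, ⟨τ, τ', hττ', hτ'τ⟩, hσ₀p, hτq, ?_⟩
  rw [← hgdef]
  exact hfτ.symm

end Groth.Agent.Helper4.SN652
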